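import Mathlib

/-!
# `m`-connected morphisms in a derived category (Seat0)

For an abelian category `C` with a derived category: `Conn m α` says that `α` is an isomorphism on
`H^i` for `i > m` and an epimorphism on `H^m`.  We prove the characterization through the cone
and the stability under triangulated functors induced by exact functors.
-/

set_option autoImplicit false
universe w v v' u u'
open CategoryTheory CategoryTheory.Limits

namespace Groth.Agent.Lib.Seat0.Cn

open DerivedCategory Pretriangulated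

section

variable {C : Type u} [Category.{v} C] [Abelian C] [HasDerivedCategory.{w} C]

/-- `α` is `m`-connected: iso on `H^i` for `i > m`, epi on `H^m` -/
def Conn (m : ℤ) {X Y : DerivedCategory C} (α : X ⟶ Y) : Prop :=
  (∀ i : ℤ, m < i → IsIso ((homologyFunctor C i).map α)) ∧
    Epi ((homologyFunctor C m).map α)

lemma Conn.comp {m : ℤ} {X Y Z : DerivedCategory C} {α : X ⟶ Y} {β : Y ⟶ Z}
    (hα : Conn m α) (hβ : Conn m β) : Conn m (α ≫ β) := by
  refine ⟨fun i hi => ?_, ?_⟩
  · have := hα.1 i hi
    have := hβ.1 i hi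
    rw [Functor.map_comp]
    infer_instance
  · have := hα.2
    have := hβ.2
    rw [Functor.map_comp]
    infer_instance

lemma Conn.of_isIso (m : ℤ) {X Y : DerivedCategory C} (α : X ⟶ Y) [IsIso α] :
    Conn m α :=
  ⟨fun _ _ => inferInstance, inferInstance⟩

lemma Conn.mono {m m' : ℤ} (h : m ≤ m') {X Y : DerivedCategory C} {α : X ⟶ Y}
    (hα : Conn m α) : Conn m' α := by
  refine ⟨fun i hi => hα.1 i (by lia), ?_⟩
  rcases h.eq_or_lt with rfl | h
  · exact hα.2
  · have := hα.1 m' h
    infer_instance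

/-- connectivity of the first map of a distinguished triangle in terms of the cone -/
lemma conn_iff_of_distTriang (T : Triangle (DerivedCategory C))
    (hT : T ∈ distTriang _) (m : ℤ) : Conn m T.mor₁ ↔ T.obj₃.IsLE (m - 1) := by
  rw [DerivedCategory.isLE_iff]
  constructor
  · rintro ⟨h1, h2⟩ i hi
    have hepi : Epi ((homologyFunctor C i).map T.mor₁) := by
      rcases (show m ≤ i by lia).eq_or_lt with rfl | h
      · exact h2
      · have := h1 i h
        infer_instance
    have hmono : Mono ((homologyFunctor C (i + 1)).map T.mor₁) := by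
      have := h1 (i + 1) (by lia)
      infer_instance
    have e1 := (HomologySequence.epi_homologyMap_mor₁_iff T hT i).1 hepi
    have e2 := (HomologySequence.mono_homologyMap_mor₁_iff T hT i (i + 1) rfl).1 hmono
    have ex := HomologySequence.exact₃ T hT i (i + 1) rfl
    exact ex.isZero_of_both_zeros e1 e2
  · intro h
    have hepi : ∀ i : ℤ, m ≤ i → Epi ((homologyFunctor C i).map T.mor₁) := by
      intro i hi
      rw [HomologySequence.epi_homologyMap_mor₁_iff T hT i]
      exact (h i (by lia)).eq_of_tgt _ _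
    have hmono : ∀ i : ℤ, m < i → Mono ((homologyFunctor C i).map T.mor₁) := by
      intro i hi
      rw [HomologySequence.mono_homologyMap_mor₁_iff T hT (i - 1) i (by lia)]
      exact (h (i - 1) (by lia)).eq_of_src _ _
    refine ⟨fun i hi => ?_, hepi m le_rfl⟩
    have := hepi i hi.le
    have := hmono i hi
    exact isIso_of_mono_of_epi _

/-- a morphism is `m`-connected iff any of its cones is `≤ m - 1` -/
lemma conn_iff_isLE_cone {X Y Z : DerivedCategory C} (α : X ⟶ Y) (v : Y ⟶ Z) (w : Z ⟶ X⟦(1 : ℤ)⟧)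
    (hT : Triangle.mk α v w ∈ distTriang _) (m : ℤ) : Conn m α ↔ Z.IsLE (m - 1) :=
  conn_iff_of_distTriang _ hT m

/-- connectivity of shifted morphisms -/
lemma conn_shift {X Y : DerivedCategory C} (α : X ⟶ Y) (m n m' : ℤ) (h : n + m' = m)
    (hα : Conn m α) : Conn m' (α⟦n⟧') := by
  have key : ∀ a a' : ℤ, n + a = a' →
      (IsIso ((homologyFunctor C a).map (α⟦n⟧')) ↔ IsIso ((homologyFunctor C a').map α)) ∧
      (Epi ((homologyFunctor C a).map (α⟦n⟧')) ↔ Epi ((homologyFunctor C a').map α)) := by
    intro a a' ha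
    let e : shiftFunctor (DerivedCategory C) n ⋙ homologyFunctor C a ≅ homologyFunctor C a' :=
      (homologyFunctor C 0).shiftIso n a a' ha
    have hnat : (homologyFunctor C a).map (α⟦n⟧') =
        e.hom.app X ≫ (homologyFunctor C a').map α ≫ e.inv.app Y := by
      have := e.hom.naturality α
      rw [← Category.assoc, ← this, Category.assoc, Iso.hom_inv_id_app, Category.comp_id]
      rfl
    have hnat' : (homologyFunctor C a').map α =
        e.inv.app X ≫ (homologyFunctor C a).map (α⟦n⟧') ≫ e.hom.app Y := by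
      have h1 : (homologyFunctor C a').map α ≫ e.inv.app Y =
          e.inv.app X ≫ (homologyFunctor C a).map (α⟦n⟧') := e.inv.naturality α
      rw [← Category.assoc, ← h1, Category.assoc, Iso.inv_hom_id_app, Category.comp_id]
    constructor
    · constructor
      · intro _
        rw [hnat']
        infer_instance
      · intro _
        rw [hnat]
        infer_instance
    · constructor
      · intro _
        rw [hnat']
        infer_instance
      · intro _
        rw [hnat]
        infer_instance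
  refine ⟨fun i hi => ?_, ?_⟩
  · exact ((key i (n + i) rfl).1).2 (hα.1 (n + i) (by omega))
  · exact ((key m' m h).2).2 hα.2

/-- **Octahedron argument**: given a distinguished triangle `T`, an `(m+1)`-connected map
`a : A ⟶ T.obj₁`, an `m`-connected map `b : B ⟶ T.obj₂`, and `φ : A ⟶ B` over `T.mor₁`, any cone of
`φ` admits an `m`-connected map to `T.obj₃`. -/
theorem exists_conn_of_square (T : Triangle (DerivedCategory C)) (hT : T ∈ distTriang _) (m : ℤ)
    {A B Z : DerivedCategory C} (a : A ⟶ T.obj₁) (b : B ⟶ T.obj₂) (φ : A ⟶ B)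
    (comm : φ ≫ b = a ≫ T.mor₁) (ha : Conn (m + 1) a) (hb : Conn m b)
    (u : B ⟶ Z) (v : Z ⟶ A⟦(1 : ℤ)⟧) (hZ : Triangle.mk φ u v ∈ distTriang _) :
    ∃ c : Z ⟶ T.obj₃, Conn m c := by
  obtain ⟨Za, a₂, a₃, hTa⟩ := distinguished_cocone_triangle a
  obtain ⟨Zb, b₂, b₃, hTb⟩ := distinguished_cocone_triangle b
  obtain ⟨M', w₂, w₃, hTw⟩ := distinguished_cocone_triangle (a ≫ T.mor₁)
  have hT' : Triangle.mk T.mor₁ T.mor₂ T.mor₃ ∈ distTriang (DerivedCategory C) := hT
  have hZa : Za.IsLE m := by
    have := (conn_iff_of_distTriang _ hTa (m + 1)).1 ha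
    simpa using this
  have hZb : Zb.IsLE (m - 1) := (conn_iff_of_distTriang _ hTb m).1 hb
  let O1 := Triangulated.someOctahedron (rfl : a ≫ T.mor₁ = a ≫ T.mor₁) hTa hT' hTw
  let O2 := Triangulated.someOctahedron comm hZ hTb hTw
  have h1 : Conn m O1.m₃ := by
    have hrot := rot_of_distTriang _ O1.mem
    refine (conn_iff_of_distTriang _ hrot m).2 ?_
    exact (TStructure.t (C := C)).isLE_shift Za m 1 (m - 1) (by omega)
  have h2 : Conn m O2.m₁ := (conn_iff_of_distTriang _ O2.mem m).2 hZb
  exact ⟨O2.m₁ ≫ O1.m₃, h2.comp h1⟩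

end

section ExactFunctor

variable {C : Type u} [Category.{v} C] [Abelian C] [HasDerivedCategory.{w} C]
  {D : Type u'} [Category.{v'} D] [Abelian D] [HasDerivedCategory.{w} D]
  (F : C ⥤ D) [F.Additive] [PreservesFiniteLimits F] [PreservesFiniteColimits F]

lemma exactAt_map (K : CochainComplex C ℤ) (i : ℤ) (h : K.ExactAt i) :
    ((F.mapHomologicalComplex (ComplexShape.up ℤ)).obj K).ExactAt i := by
  rw [HomologicalComplex.exactAt_iff] at h ⊢
  exact h.map F

lemma isLE_map (X : DerivedCategory C) (n : ℤ) (h : X.IsLE n) :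
    (F.mapDerivedCategory.obj X).IsLE n := by
  obtain ⟨K, ⟨e⟩⟩ : ∃ K : CochainComplex C ℤ, Nonempty (Q.obj K ≅ X) :=
    ⟨_, ⟨(Q.objObjPreimageIso X)⟩⟩
  have e' : F.mapDerivedCategory.obj X ≅
      Q.obj ((F.mapHomologicalComplex (ComplexShape.up ℤ)).obj K) :=
    F.mapDerivedCategory.mapIso e.symm ≪≫ F.mapDerivedCategoryFactors.app K
  have h1 : (Q.obj K).IsLE n := (TStructure.t (C := C)).isLE_of_iso e.symm n
  rw [DerivedCategory.isLE_Q_obj_iff, CochainComplex.isLE_iff] at h1
  have h2 : CochainComplex.IsLE ((F.mapHomologicalComplex (ComplexShape.up ℤ)).obj K) n := by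
    rw [CochainComplex.isLE_iff]
    exact fun i hi => exactAt_map F K i (h1 i hi)
  have : (Q.obj ((F.mapHomologicalComplex (ComplexShape.up ℤ)).obj K)).IsLE n :=
    (DerivedCategory.isLE_Q_obj_iff _ _).2 h2
  exact (TStructure.t (C := D)).isLE_of_iso e'.symm n

lemma isGE_map (X : DerivedCategory C) (n : ℤ) (h : X.IsGE n) :
    (F.mapDerivedCategory.obj X).IsGE n := by
  obtain ⟨K, ⟨e⟩⟩ : ∃ K : CochainComplex C ℤ, Nonempty (Q.obj K ≅ X) :=
    ⟨_, ⟨(Q.objObjPreimageIso X)⟩⟩
  have e' : F.mapDerivedCategory.obj X ≅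
      Q.obj ((F.mapHomologicalComplex (ComplexShape.up ℤ)).obj K) :=
    F.mapDerivedCategory.mapIso e.symm ≪≫ F.mapDerivedCategoryFactors.app K
  have h1 : (Q.obj K).IsGE n := (TStructure.t (C := C)).isGE_of_iso e.symm n
  rw [DerivedCategory.isGE_Q_obj_iff, CochainComplex.isGE_iff] at h1
  have h2 : CochainComplex.IsGE ((F.mapHomologicalComplex (ComplexShape.up ℤ)).obj K) n := by
    rw [CochainComplex.isGE_iff]
    exact fun i hi => exactAt_map F K i (h1 i hi)
  have : (Q.obj ((F.mapHomologicalComplex (ComplexShape.up ℤ)).obj K)).IsGE n :=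
    (DerivedCategory.isGE_Q_obj_iff _ _).2 h2
  exact (TStructure.t (C := D)).isGE_of_iso e'.symm n

lemma conn_map {X Y : DerivedCategory C} (α : X ⟶ Y) (m : ℤ) (h : Conn m α) :
    Conn m (F.mapDerivedCategory.map α) := by
  obtain ⟨Z, v, w, hT⟩ := distinguished_cocone_triangle α
  have hT' := F.mapDerivedCategory.map_distinguished _ hT
  have h1 := conn_iff_of_distTriang _ hT m
  have h2 := conn_iff_of_distTriang _ hT' m
  exact h2.2 (isLE_map F Z (m - 1) (h1.1 h))

end ExactFunctor

end Groth.Agent.Lib.Seat0.Cn
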