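import Mathlib
import Groth.Prelude.Def_MoreMor
import Groth.Agent.Lib.Helper1TorDim
import Groth.Agent.Lib.Helper1Extend
import Groth.Agent.Lib.Helper1RelPC2

/-!
# Finite tor dimension as a property of ring maps (Seat0 = lead)

Module-level lemmas on `DRing.HasTorDimLE` for algebras: composition, flat maps, flat base change,
locality on the target.
-/

set_option autoImplicit false
set_option maxHeartbeats 400000
universe u
open CategoryTheory CategoryTheory.Limits
attribute [local instance] HasDerivedCategory.standard

namespace Groth.Agent.Lib.Seat0.FTD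

open DerivedCategory TensorProduct
open Groth.Agent.Lib.Helper1.Restrict Groth.Agent.Lib.Helper1.RelPC Groth.Agent.Lib.Helper1.Extend
open Groth.Agent.Lib.Helper1.Tor Groth.Agent.Lib.Helper1.TorDim

section ModuleLevel

variable {R S T : Type u} [CommRing R] [CommRing S] [CommRing T]

/-- restriction of `N[0]` along `algebraMap` -/
noncomputable def inDRestrictIso [Algebra R S] (N : Type u) [AddCommGroup N] [Module S N]
    [Module R N] [IsScalarTower R S N] :
    (DRing.restrictD (algebraMap R S)).obj (Dual.inD S N) ≅ Dual.inD R N :=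
  restrictDSingleIso (algebraMap R S) (ModuleCat.of S N) 0 ≪≫
    (DerivedCategory.singleFunctor (ModuleCat.{u} R) 0).mapIso
      (restrictScalarsAlgebraIso (A := R) (B := S) N)

theorem torDimLE_mono (M : Type u) [AddCommGroup M] [Module R M] {d e : ℕ} (hde : d ≤ e)
    (h : DRing.HasTorDimLE R d M) : DRing.HasTorDimLE R e M :=
  fun N _ _ p hp => h N p (lt_of_le_of_lt hde hp)

theorem torDimLE_comp [Algebra R S] [Algebra S T] [Algebra R T] [IsScalarTower R S T] (d e : ℕ)
    (h1 : DRing.HasTorDimLE R d S) (h2 : DRing.HasTorDimLE S e T) :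
    DRing.HasTorDimLE R (e + d) T := by
  have h1' := (hasTorDimLE_iff_hasTorAmp S d).1 h1
  have h2' := (hasTorDimLE_iff_hasTorAmp T e).1 h2
  refine (hasTorDimLE_iff_hasTorAmp T (e + d)).2 ?_
  have := hasTorAmp_restrictD d h1' (Dual.inD S T) (-(e : ℤ)) 0 h2'
  refine hasTorAmp_of_iso (inDRestrictIso (R := R) (S := S) T) ?_
  convert this using 1
  push_cast
  ring

theorem torDimLE_of_flat [Algebra R S] [Module.Flat R S] : DRing.HasTorDimLE R 0 S :=
  (hasTorDimLE_zero_iff_flat S).2 inferInstance

theorem torDimLE_flat_baseChange {R R' A A' : Type u} [CommRing R] [CommRing R'] [CommRing A]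
    [CommRing A'] [Algebra R R'] [Algebra R A] [Algebra R' A'] [Algebra A A'] [Algebra R A']
    [IsScalarTower R R' A'] [IsScalarTower R A A'] [Algebra.IsPushout R R' A A']
    [Module.Flat R R'] (d : ℕ) (h : DRing.HasTorDimLE R d A) : DRing.HasTorDimLE R' d A' := by
  have h' := (hasTorDimLE_iff_hasTorAmp A d).1 h
  refine (hasTorDimLE_iff_hasTorAmp A' d).2 ?_
  have h2 := hasTorAmp_extD (A := R) (B := R') (Dual.inD R A) _ _ h'
  have h3 := hasTorAmp_of_iso (extDInDIso (A := R) (B := R') A) h2
  let e : TensorProduct R R' A ≃ₐ[R'] A' := Algebra.IsPushout.equiv R R' A A'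
  exact hasTorAmp_of_iso ((DerivedCategory.singleFunctor (ModuleCat.{u} R') 0).mapIso
    e.toLinearEquiv.toModuleIso) h3

/-- exactness of `S ⊗ -` can be checked on a standard open cover of `S` -/
lemma exact_lTensor_of_span [Algebra R S] {P2 P1 P0 : Type u} [AddCommGroup P2] [Module R P2]
    [AddCommGroup P1] [Module R P1] [AddCommGroup P0] [Module R P0]
    (u : P2 →ₗ[R] P1) (v : P1 →ₗ[R] P0) (s : Set S) (hs : Ideal.span s = ⊤)
    (H : ∀ r : s, Function.Exact (u.lTensor (Localization.Away (r : S)))
      (v.lTensor (Localization.Away (r : S)))) :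
    Function.Exact (u.lTensor S) (v.lTensor S) := by
  let F : S ⊗[R] P2 →ₗ[S] S ⊗[R] P1 := u.baseChange S
  let G : S ⊗[R] P1 →ₗ[S] S ⊗[R] P0 := v.baseChange S
  let φ : ∀ (r : s) (P : Type u) [AddCommGroup P] [Module R P],
      S ⊗[R] P →ₗ[S] Localization.Away (r : S) ⊗[R] P := fun r P _ _ =>
    AlgebraTensorModule.map (Algebra.linearMap S (Localization.Away (r : S)))
      (LinearMap.id (R := R) (M := P))
  have hφ : ∀ (r : s) (P : Type u) [AddCommGroup P] [Module R P],
      IsLocalizedModule.Away (r : S) (φ r P) := fun r P _ _ =>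
    (isLocalizedModule_iff_isBaseChange (S := Submonoid.powers (r : S))
      (A := Localization.Away (r : S)) _).2
      (isBaseChange_tensorProduct_map _ (IsBaseChange.linearMap S (Localization.Away (r : S))))
  have key : Function.Exact F G := by
    haveI := fun r : s => hφ r P2
    haveI := fun r : s => hφ r P1
    haveI := fun r : s => hφ r P0
    refine exact_of_isLocalized_span s hs (fun r => Localization.Away (r : S) ⊗[R] P2)
      (fun r => φ r P2) (fun r => Localization.Away (r : S) ⊗[R] P1) (fun r => φ r P1)
      (fun r => Localization.Away (r : S) ⊗[R] P0) (fun r => φ r P0) F G (fun r => ?_)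
    have e1 : IsLocalizedModule.map (Submonoid.powers (r : S)) (φ r P2) (φ r P1) F =
        (u.baseChange (Localization.Away (r : S))).restrictScalars S := by
      refine IsLocalizedModule.linearMap_ext (Submonoid.powers (r : S)) (φ r P2) (φ r P1) ?_
      rw [IsLocalizedModule.map_comp]
      ext p
      simp [φ, F]
    have e2 : IsLocalizedModule.map (Submonoid.powers (r : S)) (φ r P1) (φ r P0) G =
        (v.baseChange (Localization.Away (r : S))).restrictScalars S := by
      refine IsLocalizedModule.linearMap_ext (Submonoid.powers (r : S)) (φ r P1) (φ r P0) ?_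
      rw [IsLocalizedModule.map_comp]
      ext p
      simp [φ, G]
    rw [e1, e2]
    exact H r
  exact key

theorem torDimLE_of_localization_span [Algebra R S] (s : Set S) (hs : Ideal.span s = ⊤) (d : ℕ)
    (h : ∀ r : s, DRing.HasTorDimLE R d (Localization.Away (r : S))) :
    DRing.HasTorDimLE R d S := by
  intro N _ _ p hp
  obtain ⟨q, rfl⟩ : ∃ q, p = q + 1 := ⟨p - 1, by omega⟩
  let P := ProjectiveResolution.of (ModuleCat.of R N)
  rw [subsingleton_tor_iff S N P q]
  refine exact_lTensor_of_span _ _ s hs (fun r => ?_)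
  exact (subsingleton_tor_iff (Localization.Away (r : S)) N P q).1 (h r N (q + 1) hp)

end ModuleLevel

end Groth.Agent.Lib.Seat0.FTD
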