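import Mathlib
import Groth.Prelude.Def_CohB1
import Groth.Prelude.Def_FlatMod2
import Groth.Agent.Lib.Helper2LocFree
import Groth.Agent.Lib.Helper23FinPres
import Groth.Agent.Lib.Helper23FinType

/-!
# Finite type / finite presentation of `O_X`-modules from local data (Seat0)

No quasi-coherence hypothesis.

* `isFT_of_local`, `isFP_of_local`: finite type (presentation) from finite generating sections
  (presentations) of the restrictions along open immersions jointly covering `X`;
* `generatingSectionsOfEpi`: generating sections from an epimorphism `O^n ⟶ N`;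
* `presentationOfCokernel`: a presentation from a cokernel sequence `O^a ⟶ O^b ⟶ N ⟶ 0`;
* `isFT_of_local_epi`, `isFP_of_local_cokernel`.
-/

set_option autoImplicit false
universe u
open CategoryTheory CategoryTheory.Limits AlgebraicGeometry TopologicalSpace

namespace Groth.Agent.Lib.Seat0.FTLocal

open Groth.Agent.Lib.Helper23.FinType Groth.Agent.Lib.Helper23.QCohLocal
  Groth.Agent.Lib.Helper2.LocFree Groth.Agent.Lib.Helper20.LocFree

variable {X : Scheme.{u}}

/-- finite type from finite generating sections along open immersions covering `X` -/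
theorem isFT_of_local (M : X.Modules)
    (h : ∀ x : X, ∃ (W : Scheme.{u}) (j : W ⟶ X) (_ : IsOpenImmersion j), x ∈ Set.range j ∧
      ∃ G : (M.restrict j).GeneratingSections, G.IsFiniteType) : CohB1.IsFT M := by
  choose W j hj hx G hG using h
  let V : X → X.Opens := fun x => (j x).opensRange
  have hV : IsOpenCover V := by
    rw [IsOpenCover, eq_top_iff]
    intro x _
    exact Opens.mem_iSup.2 ⟨x, hx x⟩
  refine isFiniteType_of_generatingSections M V hV (fun x => ?_)
  let e : W x ≅ (V x : Scheme.{u}) := IsOpenImmersion.isoOfRangeEq (j x) (V x).ι (by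
    simp only [V, Scheme.Opens.range_ι, Scheme.Hom.coe_opensRange])
  have hfac : e.inv ≫ j x = (V x).ι := IsOpenImmersion.isoOfRangeEq_inv_fac _ _ _
  haveI := hG x
  exact ⟨generatingSectionsOfComp M e.inv (j x) (V x).ι hfac (G x), inferInstance⟩

/-- finite presentation from finite presentations along open immersions covering `X` -/
theorem isFP_of_local (M : X.Modules)
    (h : ∀ x : X, ∃ (W : Scheme.{u}) (j : W ⟶ X) (_ : IsOpenImmersion j), x ∈ Set.range j ∧
      ∃ P : (M.restrict j).Presentation, P.IsFinite) : CohB1.IsFP M := by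
  choose W j hj hx P hP using h
  let V : X → X.Opens := fun x => (j x).opensRange
  have hV : IsOpenCover V := by
    rw [IsOpenCover, eq_top_iff]
    intro x _
    exact Opens.mem_iSup.2 ⟨x, hx x⟩
  refine isFinitePresentation_of_presentation M V hV (fun x => ?_)
  let e : W x ≅ (V x : Scheme.{u}) := IsOpenImmersion.isoOfRangeEq (j x) (V x).ι (by
    simp only [V, Scheme.Opens.range_ι, Scheme.Hom.coe_opensRange])
  have hfac : e.inv ≫ j x = (V x).ι := IsOpenImmersion.isoOfRangeEq_inv_fac _ _ _
  haveI := hP x
  exact ⟨presentationOfComp M e.inv (j x) (V x).ι hfac (P x),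
    presentationOfComp_isFinite M _ _ _ _ (P x)⟩

section

variable {Y : Scheme.{u}}

/-- generating sections from an epimorphism `O^n ⟶ N` -/
noncomputable def generatingSectionsOfEpi (N : Y.Modules) (n : ℕ)
    (π : FlatMod.freeMod Y n ⟶ N) [Epi π] : N.GeneratingSections := by
  have h1 : Epi (freeModIsoFree Y n).inv := inferInstance
  have h2 : Epi ((freeModIsoFree Y n).inv ≫ π) := epi_comp _ _
  have h3 : @Epi (SheafOfModules.{u} Y.ringCatSheaf) _ _ _ ((freeModIsoFree Y n).inv ≫ π) := h2
  exact (presentationFree Y (ULift.{u} (Fin n))).generators.ofEpi ((freeModIsoFree Y n).inv ≫ π)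

lemma generatingSectionsOfEpi_finite (N : Y.Modules) (n : ℕ) (π : FlatMod.freeMod Y n ⟶ N)
    [Epi π] : (generatingSectionsOfEpi N n π).IsFiniteType := by
  have h : Finite (ULift.{u} (Fin n)) := inferInstance
  exact ⟨(h :)⟩

/-- a presentation from a cokernel sequence `O^a ⟶ O^b ⟶ N ⟶ 0` -/
noncomputable def presentationOfCokernelIso (N : Y.Modules) (a b : ℕ)
    (f : FlatMod.freeMod Y a ⟶ FlatMod.freeMod Y b) (e : cokernel f ≅ N) : N.Presentation := by
  let ia := freeModIsoFree Y a
  let ib := freeModIsoFree Y b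
  let f' : SheafOfModules.free (R := Y.ringCatSheaf) (ULift.{u} (Fin a)) ⟶
      SheafOfModules.free (R := Y.ringCatSheaf) (ULift.{u} (Fin b)) := ia.inv ≫ f ≫ ib.hom
  let P₀ : (cokernel f').Presentation :=
    SheafOfModules.presentationOfIsCokernelFree f' (cokernel.π f') (cokernel.condition f')
      (cokernelIsCokernel f')
  let θ : cokernel f' ≅ cokernel f := cokernel.mapIso f' f ia.symm ib.symm (by
    show (ia.inv ≫ f ≫ ib.hom) ≫ ib.inv = ia.inv ≫ f
    rw [Category.assoc, Category.assoc, Iso.hom_inv_id, Category.comp_id])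
  exact SheafOfModules.Presentation.ofIsIso.{u, u, u} (θ ≪≫ e).hom P₀

lemma presentationOfCokernelIso_finite (N : Y.Modules) (a b : ℕ)
    (f : FlatMod.freeMod Y a ⟶ FlatMod.freeMod Y b) (e : cokernel f ≅ N) :
    (presentationOfCokernelIso N a b f e).IsFinite := by
  have hb : Finite (ULift.{u} (Fin b)) := inferInstance
  have ha : Finite (ULift.{u} (Fin a)) := inferInstance
  exact ⟨⟨hb⟩, ⟨ha⟩⟩

end

/-- finite type from local epimorphisms from finite free modules -/
theorem isFT_of_local_epi (M : X.Modules)
    (h : ∀ x : X, ∃ (W : Scheme.{u}) (j : W ⟶ X) (_ : IsOpenImmersion j), x ∈ Set.range j ∧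
      ∃ (n : ℕ) (π : FlatMod.freeMod W n ⟶ M.restrict j), Epi π) : CohB1.IsFT M := by
  refine isFT_of_local M (fun x => ?_)
  obtain ⟨W, j, hj, hx, n, π, hπ⟩ := h x
  exact ⟨W, j, hj, hx, generatingSectionsOfEpi _ n π, generatingSectionsOfEpi_finite _ n π⟩

/-- finite presentation from local cokernel presentations by finite free modules -/
theorem isFP_of_local_cokernel (M : X.Modules)
    (h : ∀ x : X, ∃ (W : Scheme.{u}) (j : W ⟶ X) (_ : IsOpenImmersion j), x ∈ Set.range j ∧
      ∃ (a b : ℕ) (f : FlatMod.freeMod W a ⟶ FlatMod.freeMod W b),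
        Nonempty (cokernel f ≅ M.restrict j)) : CohB1.IsFP M := by
  refine isFP_of_local M (fun x => ?_)
  obtain ⟨W, j, hj, hx, a, b, f, ⟨e⟩⟩ := h x
  exact ⟨W, j, hj, hx, presentationOfCokernelIso _ a b f e, presentationOfCokernelIso_finite _ a b f e⟩

end Groth.Agent.Lib.Seat0.FTLocal
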