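import Mathlib
import Groth.Prelude.Def_DCoh2
import Groth.Prelude.Def_CxOX
import Groth.Agent.S0934

/-!
# Local lifting / local null-homotopy for maps out of strictly perfect complexes (Seat0)

* `isFinLocFree_restrict`: restriction along an open immersion preserves finite locally free modules;
* `PartialHtpy`: a partial null-homotopy (in degrees `≥ k`) of the restriction of a chain map along
  an open immersion, with `transport`, `ofEq`, and the inductive `step`;
* `exists_nullHomotopy`: the main local null-homotopy statement (S0932).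
-/

set_option autoImplicit false
universe u
open CategoryTheory CategoryTheory.Limits AlgebraicGeometry

namespace Groth.Agent.Lib.Seat0.LocLift

variable {X : Scheme.{u}}

/-- restriction along an open immersion sends `O_X^n` to `O_Z^n`. -/
noncomputable def restrictFreeMod {Z : Scheme.{u}} (g : Z ⟶ X) [IsOpenImmersion g] (n : ℕ) :
    (FlatMod.freeMod X n).restrict g ≅ FlatMod.freeMod Z n :=
  PreservesCoproduct.iso (Scheme.Modules.restrictFunctor g) (fun _ : Fin n => Coh.structureModule X) ≪≫
    Sigma.mapIso (fun _ => Scheme.Modules.restrictUnitIso g)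

/-- restriction along an open immersion preserves finite locally free modules -/
lemma isFinLocFree_restrict {W : Scheme.{u}} (j : W ⟶ X) [IsOpenImmersion j] (M : X.Modules)
    (hM : FlatMod.IsFinLocFree M) :
    FlatMod.IsFinLocFree ((Scheme.Modules.restrictFunctor j).obj M) := by
  intro w
  obtain ⟨U, n, hxU, ⟨e⟩⟩ := hM (j w)
  refine ⟨j ⁻¹ᵁ U, n, hxU, ⟨?_⟩⟩
  exact (Scheme.Modules.restrictFunctorComp (j ⁻¹ᵁ U).ι j).symm.app M ≪≫
    (Scheme.Modules.restrictFunctorCongr (morphismRestrict_ι j U).symm).app M ≪≫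
    (Scheme.Modules.restrictFunctorComp (j ∣_ U) U.ι).app M ≪≫
    (Scheme.Modules.restrictFunctor (j ∣_ U)).mapIso e ≪≫ restrictFreeMod (j ∣_ U) n

section Partial

variable {E F : CochainComplex X.Modules ℤ} (α : E ⟶ F)

/-- a partial null-homotopy, in degrees `≥ k`, of the restriction of `α` along the open immersion
`j` -/
structure PartialHtpy (k : ℤ) {W : Scheme.{u}} (j : W ⟶ X) [IsOpenImmersion j] where
  /-- the homotopy maps -/
  h : ∀ i i' : ℤ, (Scheme.Modules.restrictFunctor j).obj (E.X i) ⟶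
    (Scheme.Modules.restrictFunctor j).obj (F.X i')
  zero : ∀ i i' : ℤ, ¬ (i' + 1 = i) → h i i' = 0
  comm : ∀ i ip im : ℤ, i + 1 = ip → im + 1 = i → k ≤ i →
    (Scheme.Modules.restrictFunctor j).map (α.f i) =
      (Scheme.Modules.restrictFunctor j).map (E.d i ip) ≫ h ip i +
        h i im ≫ (Scheme.Modules.restrictFunctor j).map (F.d im i)

variable {α}

section Conj

variable {W W' : Scheme.{u}} (j : W ⟶ X) [IsOpenImmersion j] (j₁ : W' ⟶ W) [IsOpenImmersion j₁]

/-- conjugation by the composition isomorphism of restriction functors -/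
noncomputable def conj {M N : X.Modules}
    (f : (Scheme.Modules.restrictFunctor j₁).obj ((Scheme.Modules.restrictFunctor j).obj M) ⟶
      (Scheme.Modules.restrictFunctor j₁).obj ((Scheme.Modules.restrictFunctor j).obj N)) :
    (Scheme.Modules.restrictFunctor (j₁ ≫ j)).obj M ⟶
      (Scheme.Modules.restrictFunctor (j₁ ≫ j)).obj N :=
  (Scheme.Modules.restrictFunctorComp j₁ j).hom.app M ≫ f ≫
    (Scheme.Modules.restrictFunctorComp j₁ j).inv.app N

lemma conj_comp {M N L : X.Modules}
    (f : (Scheme.Modules.restrictFunctor j₁).obj ((Scheme.Modules.restrictFunctor j).obj M) ⟶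
      (Scheme.Modules.restrictFunctor j₁).obj ((Scheme.Modules.restrictFunctor j).obj N))
    (g : (Scheme.Modules.restrictFunctor j₁).obj ((Scheme.Modules.restrictFunctor j).obj N) ⟶
      (Scheme.Modules.restrictFunctor j₁).obj ((Scheme.Modules.restrictFunctor j).obj L)) :
    conj j j₁ f ≫ conj j j₁ g = conj j j₁ (f ≫ g) := by
  have h := (Scheme.Modules.restrictFunctorComp j₁ j).inv_hom_id_app N
  simp only [Functor.comp_obj] at h
  simp only [conj, Category.assoc]
  rw [reassoc_of% h]

lemma conj_add {M N : X.Modules}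
    (f g : (Scheme.Modules.restrictFunctor j₁).obj ((Scheme.Modules.restrictFunctor j).obj M) ⟶
      (Scheme.Modules.restrictFunctor j₁).obj ((Scheme.Modules.restrictFunctor j).obj N)) :
    conj j j₁ (f + g) = conj j j₁ f + conj j j₁ g := by
  simp only [conj, Preadditive.add_comp, Preadditive.comp_add]

lemma conj_zero {M N : X.Modules} :
    conj j j₁ (0 : (Scheme.Modules.restrictFunctor j₁).obj
      ((Scheme.Modules.restrictFunctor j).obj M) ⟶
      (Scheme.Modules.restrictFunctor j₁).obj ((Scheme.Modules.restrictFunctor j).obj N)) = 0 := by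
  simp only [conj, zero_comp, comp_zero]

/-- a restricted map along a composite is the conjugate of the twice restricted map -/
lemma restrict_comp_map {M N : X.Modules} (g : M ⟶ N) :
    (Scheme.Modules.restrictFunctor (j₁ ≫ j)).map g =
      conj j j₁ ((Scheme.Modules.restrictFunctor j₁).map
        ((Scheme.Modules.restrictFunctor j).map g)) := by
  have := (Scheme.Modules.restrictFunctorComp j₁ j).hom.naturality g
  simp only [Functor.comp_map] at this
  rw [conj, ← Category.assoc, ← this, Category.assoc, Iso.hom_inv_id_app, Category.comp_id]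

end Conj

/-- transport of a partial homotopy along a further open immersion -/
noncomputable def PartialHtpy.transport {k : ℤ} {W W' : Scheme.{u}} {j : W ⟶ X} [IsOpenImmersion j]
    (P : PartialHtpy α k j) (j₁ : W' ⟶ W) [IsOpenImmersion j₁] : PartialHtpy α k (j₁ ≫ j) where
  h i i' := conj j j₁ ((Scheme.Modules.restrictFunctor j₁).map (P.h i i'))
  zero i i' hi := by
    rw [P.zero i i' hi, Functor.map_zero, conj_zero]
  comm i ip im hip him hk := by
    rw [restrict_comp_map j j₁ (α.f i), restrict_comp_map j j₁ (E.d i ip),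
      restrict_comp_map j j₁ (F.d im i), P.comm i ip im hip him hk, conj_comp, conj_comp,
      ← conj_add, Functor.map_add, Functor.map_comp, Functor.map_comp]

/-- change of the open immersion along an equality -/
noncomputable def PartialHtpy.ofEq {k : ℤ} {W : Scheme.{u}} {j j' : W ⟶ X} [IsOpenImmersion j]
    [IsOpenImmersion j'] (P : PartialHtpy α k j) (e : j = j') : PartialHtpy α k j' := by
  subst e
  exact P

/-- the zero partial homotopy beyond the range of `E` -/
noncomputable def PartialHtpy.ofIsZero (k : ℤ) (hE : ∀ i : ℤ, k ≤ i → IsZero (E.X i)) :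
    PartialHtpy α k (𝟙 X) where
  h _ _ := 0
  zero _ _ _ := rfl
  comm i _ _ _ _ hk :=
    ((Scheme.Modules.restrictFunctor (𝟙 X)).map_isZero (hE i hk)).eq_of_src _ _

/-- the inductive step: extend a partial null-homotopy one degree down, after shrinking -/
theorem PartialHtpy.step {k : ℤ} {W : Scheme.{u}} {j : W ⟶ X} [IsOpenImmersion j]
    (P : PartialHtpy α (k + 1) j) (hEk : FlatMod.IsFinLocFree (E.X k))
    (hFk : IsZero (F.homology k)) (w : W) :
    ∃ V : W.Opens, w ∈ V ∧ Nonempty (PartialHtpy α k (V.ι ≫ j)) := by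
  classical
  set R := Scheme.Modules.restrictFunctor j with hR
  set km : ℤ := k - 1 with hkm
  set kp : ℤ := k + 1 with hkp
  let β : R.obj (E.X k) ⟶ R.obj (F.X k) := R.map (α.f k) - R.map (E.d k kp) ≫ P.h kp k
  have hcomm := P.comm kp (kp + 1) k rfl rfl le_rfl
  have hβ : β ≫ R.map (F.d k kp) = 0 := by
    have h1 : P.h kp k ≫ R.map (F.d k kp) =
        R.map (α.f kp) - R.map (E.d kp (kp + 1)) ≫ P.h (kp + 1) kp := by
      rw [hcomm]; abel
    simp only [β, Preadditive.sub_comp, Category.assoc]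
    rw [h1, Preadditive.comp_sub, ← R.map_comp, ← R.map_comp, ← Category.assoc, ← R.map_comp,
      HomologicalComplex.d_comp_d, R.map_zero, zero_comp, sub_zero, α.comm k kp, sub_self]
  -- exactness of the restricted complex at `k`
  have hex : (F.sc' km k kp).Exact := by
    have h0 : F.ExactAt k := (HomologicalComplex.exactAt_iff_isZero_homology F k).2 hFk
    exact (F.exactAt_iff' km k kp (by simp [hkm]) (by simp [hkp])).1 h0
  let S : ShortComplex W.Modules := (F.sc' km k kp).map R
  have hS : S.Exact := hex.map R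
  have hβ' : β ≫ S.g = 0 := hβ
  let φ : R.obj (E.X k) ⟶ S.cycles := S.liftCycles β hβ'
  have hφ : φ ≫ S.iCycles = β := S.liftCycles_i β hβ'
  haveI : Epi S.toCycles := hS.epi_toCycles
  obtain ⟨V, ψ₀, hwV, hψ₀⟩ := Groth.Agent.S0934.result S.toCycles φ
    (isFinLocFree_restrict j (E.X k) hEk) w
  refine ⟨V, hwV, ⟨?_⟩⟩
  set R₁ := Scheme.Modules.restrictFunctor V.ι with hR₁
  let ψ : R₁.obj (R.obj (E.X k)) ⟶ R₁.obj (R.obj (F.X km)) := ψ₀
  have hψ : ψ ≫ R₁.map S.toCycles = R₁.map φ := hψ₀
  have hψ' : ψ ≫ R₁.map (R.map (F.d km k)) = R₁.map β := by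
    have h2 : ψ ≫ R₁.map (S.toCycles ≫ S.iCycles) = R₁.map β :=
      calc ψ ≫ R₁.map (S.toCycles ≫ S.iCycles)
          = (ψ ≫ R₁.map S.toCycles) ≫ R₁.map S.iCycles := by rw [R₁.map_comp, Category.assoc]
        _ = R₁.map φ ≫ R₁.map S.iCycles := by rw [hψ]
        _ = R₁.map (φ ≫ S.iCycles) := (R₁.map_comp _ _).symm
        _ = R₁.map β := by rw [hφ]; rfl
    exact (congrArg (fun t => ψ ≫ R₁.map t) (S.toCycles_i.symm : S.f = _)).trans h2
  let Pt := P.transport V.ι
  let ψ' : (Scheme.Modules.restrictFunctor (V.ι ≫ j)).obj (E.X k) ⟶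
      (Scheme.Modules.restrictFunctor (V.ι ≫ j)).obj (F.X km) := conj j V.ι ψ
  refine
    { h := fun i i' => if hh : i = k ∧ i' = km then
        eqToHom (by rw [hh.1]) ≫ ψ' ≫ eqToHom (by rw [hh.2]) else Pt.h i i'
      zero := fun i i' hi => ?_
      comm := fun i ip im hip him hk => ?_ }
  · rw [dif_neg (fun hh => hi (by rw [hh.1, hh.2, hkm]; ring))]
    exact Pt.zero i i' hi
  · by_cases hik : i = k
    · subst hik
      have hip' : ip = kp := by omega
      have him' : im = km := by omega
      subst hip' him'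
      rw [dif_neg (fun hh => by have := hh.1; omega), dif_pos ⟨rfl, rfl⟩]
      simp only [eqToHom_refl, Category.id_comp, Category.comp_id]
      show _ = _ ≫ conj j V.ι (R₁.map (P.h kp i)) + conj j V.ι ψ ≫ _
      have hβ2 : R₁.map (R.map (α.f i)) = R₁.map (R.map (E.d i kp)) ≫ R₁.map (P.h kp i) +
          ψ ≫ R₁.map (R.map (F.d km i)) := by
        rw [hψ', ← R₁.map_comp, ← R₁.map_add]
        congr 1
        simp only [β]
        abel
      rw [restrict_comp_map j V.ι (α.f i), restrict_comp_map j V.ι (E.d i kp),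
        restrict_comp_map j V.ι (F.d km i), conj_comp, conj_comp, ← conj_add]
      exact congrArg (conj j V.ι) hβ2
    · rw [dif_neg (fun hh => by have := hh.1; omega), dif_neg (fun hh => hik hh.1)]
      exact Pt.comm i ip im hip him (by omega)

end Partial

section Main

variable {E F : CochainComplex X.Modules ℤ}

/-- descending induction: partial null-homotopies in all degrees `≥ k`, for `a ≤ k` -/
lemma exists_partialHtpy (α : E ⟶ F) (hfl : ∀ i : ℤ, FlatMod.IsFinLocFree (E.X i)) (a k₀ : ℤ)
    (hk₀ : ∀ i : ℤ, k₀ ≤ i → IsZero (E.X i))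
    (hF : ∀ i : ℤ, a ≤ i → IsZero (F.homology i)) (x : X) :
    ∀ (n : ℕ) (k : ℤ), a ≤ k → k + n = k₀ →
      ∃ (W : Scheme.{u}) (j : W ⟶ X) (_ : IsOpenImmersion j), x ∈ Set.range j ∧
        Nonempty (PartialHtpy α k j)
  | 0, k, _, hk => by
    have hk' : k = k₀ := by simpa using hk
    subst hk'
    exact ⟨X, 𝟙 X, inferInstance, ⟨x, rfl⟩, ⟨PartialHtpy.ofIsZero k hk₀⟩⟩
  | n + 1, k, hak, hk => by
    obtain ⟨W, j, hj, ⟨w, rfl⟩, ⟨P⟩⟩ :=
      exists_partialHtpy α hfl a k₀ hk₀ hF x n (k + 1) (by omega) (by push_cast at hk ⊢; omega)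
    obtain ⟨V, hwV, ⟨P'⟩⟩ := P.step (hfl k) (hF k hak) w
    exact ⟨V, V.ι ≫ j, inferInstance, ⟨⟨w, hwV⟩, rfl⟩, ⟨P'⟩⟩

/-- **Local null-homotopy**: a chain map from a strictly perfect complex `E`, zero below `a`, to a
complex `F` with vanishing cohomology sheaves in degrees `≥ a`, is locally null-homotopic. -/
theorem exists_nullHomotopy (α : E ⟶ F) (hE : DCoh.IsStrictlyPerfect E) (a : ℤ)
    (hEa : ∀ i : ℤ, i < a → IsZero (E.X i))
    (hF : ∀ i : ℤ, a ≤ i → IsZero (F.homology i)) (x : X) :
    ∃ V : X.Opens, x ∈ V ∧ Nonempty (Homotopy ((DCoh.restrictCx V).map α) 0) := by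
  obtain ⟨⟨a₀, b, hv⟩, hfl⟩ := hE
  set k₀ : ℤ := max a (b + 1) with hk₀
  have hk₀' : ∀ i : ℤ, k₀ ≤ i → IsZero (E.X i) := fun i hi =>
    hv i (Or.inr (by have := le_max_right a (b + 1); omega))
  obtain ⟨W, j, hj, ⟨w, rfl⟩, ⟨P⟩⟩ := exists_partialHtpy α hfl a k₀ hk₀' hF x (k₀ - a).toNat a le_rfl
    (by have := le_max_left a (b + 1); rw [Int.toNat_of_nonneg (by omega)]; ring)
  let V : X.Opens := j.opensRange
  let e : W ≅ (V : Scheme.{u}) := IsOpenImmersion.isoOfRangeEq j V.ι (by
    simp only [V, Scheme.Opens.range_ι, Scheme.Hom.coe_opensRange])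
  have hfac : e.inv ≫ j = V.ι := IsOpenImmersion.isoOfRangeEq_inv_fac _ _ _
  let P' : PartialHtpy α a V.ι := (P.transport e.inv).ofEq hfac
  let hom : ∀ i i' : ℤ, ((DCoh.restrictCx V).obj E).X i ⟶ ((DCoh.restrictCx V).obj F).X i' := P'.h
  refine ⟨V, ⟨w, rfl⟩, ⟨{ hom := hom, zero := fun i i' h => P'.zero i i' h, comm := fun i => ?_ }⟩⟩
  rw [dNext_eq hom (show (ComplexShape.up ℤ).Rel i (i + 1) from rfl),
    prevD_eq hom (show (ComplexShape.up ℤ).Rel (i - 1) i by simp), HomologicalComplex.zero_f,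
    add_zero]
  show (Scheme.Modules.restrictFunctor V.ι).map (α.f i) =
    (Scheme.Modules.restrictFunctor V.ι).map (E.d i (i + 1)) ≫ P'.h (i + 1) i +
      P'.h i (i - 1) ≫ (Scheme.Modules.restrictFunctor V.ι).map (F.d (i - 1) i)
  by_cases hi : a ≤ i
  · exact P'.comm i (i + 1) (i - 1) rfl (by ring) hi
  · exact ((Scheme.Modules.restrictFunctor V.ι).map_isZero (hEa i (by omega))).eq_of_src _ _

end Main

end Groth.Agent.Lib.Seat0.LocLift
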