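import Mathlib
import Groth.Agent.Lib.Seat0LocLift
import Groth.Agent.Lib.Helper17PCoh10

/-!
# Local lifting of maps out of strictly perfect complexes through `a`-quasi-isomorphisms (Seat0)

* `exists_lift`: S0933.
-/

set_option autoImplicit false
universe u
open CategoryTheory CategoryTheory.Limits AlgebraicGeometry

namespace Groth.Agent.Lib.Seat0.LocLift

open CochainComplex

variable {X : Scheme.{u}} {E F G : CochainComplex X.Modules ℤ}

/-- **Local lifting**: a chain map `α : E → F` from a strictly perfect complex `E`, zero below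
`a`, lifts locally, up to homotopy, through any `f : G → F` which is an isomorphism on `H^j`,
`j > a`, and an epimorphism on `H^a`. -/
theorem exists_lift (α : E ⟶ F) (f : G ⟶ F) (hE : DCoh.IsStrictlyPerfect E) (a : ℤ)
    (hEa : ∀ j : ℤ, j < a → IsZero (E.X j))
    (hf : ∀ j : ℤ, a < j → IsIso (HomologicalComplex.homologyMap f j))
    (hfa : Epi (HomologicalComplex.homologyMap f a)) (x : X) :
    ∃ (V : X.Opens) (β : (DCoh.restrictCx V).obj E ⟶ (DCoh.restrictCx V).obj G), x ∈ V ∧
      Nonempty (Homotopy (β ≫ (DCoh.restrictCx V).map f) ((DCoh.restrictCx V).map α)) := by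
  have hC : ∀ i : ℤ, a ≤ i → IsZero ((mappingCone f).homology i) := fun i hi =>
    Groth.Agent.Lib.Helper17.PCoh10.isZero_homology_mappingCone f a ⟨hf, hfa⟩ i hi
  obtain ⟨V, hxV, ⟨H⟩⟩ := exists_nullHomotopy (α ≫ mappingCone.inr f) hE a hEa hC x
  let R := Scheme.Modules.restrictFunctor V.ι
  let Rc := DCoh.restrictCx V
  let q := HomotopyCategory.quotient (V : Scheme.{u}).Modules (ComplexShape.up ℤ)
  have hT : mappingCone.triangleh (Rc.map f) ∈ distTriang (HomotopyCategory _ _) :=
    HomotopyCategory.mappingCone_triangleh_distinguished _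
  have h0 : q.map (Rc.map α) ≫ (mappingCone.triangleh (Rc.map f)).mor₂ = 0 := by
    have h1 : q.map (Rc.map (α ≫ mappingCone.inr f)) = 0 := by
      rw [HomotopyCategory.eq_of_homotopy _ _ H, Functor.map_zero]
    have h2 : (mappingCone.triangleh (Rc.map f)).mor₂ =
        q.map (Rc.map (mappingCone.inr f)) ≫ q.map (mappingCone.mapHomologicalComplexIso f R).hom := by
      rw [← q.map_comp, mappingCone.map_inr]
      rfl
    have h3 : q.map (Rc.map α) ≫ (q.map (Rc.map (mappingCone.inr f)) ≫
        q.map (mappingCone.mapHomologicalComplexIso f R).hom) = 0 := by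
      rw [← Category.assoc, ← q.map_comp, ← Rc.map_comp, h1, zero_comp]
    exact (congrArg (fun t => q.map (Rc.map α) ≫ t) h2).trans h3
  obtain ⟨β', hβ'⟩ := Pretriangulated.Triangle.coyoneda_exact₂ _ hT (q.map (Rc.map α)) h0
  obtain ⟨β, rfl⟩ := q.map_surjective β'
  refine ⟨V, β, hxV, ⟨HomotopyCategory.homotopyOfEq _ _ ?_⟩⟩
  rw [q.map_comp]
  exact hβ'.symm

end Groth.Agent.Lib.Seat0.LocLift
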