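import Mathlib
import Groth.Prelude.Def_DCoh3
import Groth.Agent.Lib.Seat0LocLift2

/-!
# Morphisms in `D(O_X)` out of strictly perfect complexes are locally chain maps (Seat0)

* `restrictD_map_Q`: naturality of `mapDerivedCategoryFactors` in conjugation form;
* `exists_chainMap_rep`: S0944.
-/

set_option autoImplicit false
universe u
open CategoryTheory CategoryTheory.Limits AlgebraicGeometry
attribute [local instance] HasDerivedCategory.standard

namespace Groth.Agent.Lib.Seat0.LocRep

open DerivedCategory Groth.Agent.Lib.Seat0.LocLift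

variable {X : Scheme.{u}}

/-- naturality of `mapDerivedCategoryFactors`, conjugation form -/
lemma restrictD_map_Q {W : Scheme.{u}} (j : W ⟶ X) [IsOpenImmersion j]
    [PreservesFiniteLimits (Scheme.Modules.restrictFunctor j)]
    {K L : CochainComplex X.Modules ℤ} (u : K ⟶ L) :
    (DCoh.restrictD j).map (Q.map u) =
      (Scheme.Modules.restrictFunctor j).mapDerivedCategoryFactors.hom.app K ≫
        Q.map (((Scheme.Modules.restrictFunctor j).mapHomologicalComplex (ComplexShape.up ℤ)).map u) ≫
          (Scheme.Modules.restrictFunctor j).mapDerivedCategoryFactors.inv.app L := by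
  have h := (Scheme.Modules.restrictFunctor j).mapDerivedCategoryFactors_hom_naturality u
  have e := (Scheme.Modules.restrictFunctor j).mapDerivedCategoryFactors.hom_inv_id_app L
  calc (DCoh.restrictD j).map (Q.map u)
      = (DCoh.restrictD j).map (Q.map u) ≫
          ((Scheme.Modules.restrictFunctor j).mapDerivedCategoryFactors.hom.app L ≫
            (Scheme.Modules.restrictFunctor j).mapDerivedCategoryFactors.inv.app L) := by
        rw [e]; exact (Category.comp_id _).symm
    _ = ((DCoh.restrictD j).map (Q.map u) ≫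
          (Scheme.Modules.restrictFunctor j).mapDerivedCategoryFactors.hom.app L) ≫
            (Scheme.Modules.restrictFunctor j).mapDerivedCategoryFactors.inv.app L :=
        (Category.assoc _ _ _).symm
    _ = _ := by rw [h, Category.assoc]

/-- **S0944**: a morphism in `D(O_X)` out of a strictly perfect complex is locally represented by
a chain map. -/
theorem exists_chainMap_rep {E F : CochainComplex X.Modules ℤ}
    (hE : DCoh.IsStrictlyPerfect E) (α : DCoh.toD X E ⟶ DCoh.toD X F) (x : X) :
    ∃ V : X.Opens, x ∈ V ∧ ∀ [PreservesFiniteLimits (Scheme.Modules.restrictFunctor V.ι)],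
      ∃ β : (DCoh.restrictCx V).obj E ⟶ (DCoh.restrictCx V).obj F,
        (DCoh.restrictD V.ι).map α =
          (Scheme.Modules.restrictFunctor V.ι).mapDerivedCategoryFactors.hom.app E ≫ Q.map β ≫
            (Scheme.Modules.restrictFunctor V.ι).mapDerivedCategoryFactors.inv.app F := by
  obtain ⟨E'', s, hs, g, rfl⟩ := right_fac α
  have hqi : QuasiIso s := (isIso_Q_map_iff_quasiIso _ s).1 hs
  obtain ⟨⟨a, b, hv⟩, hfl⟩ := hE
  obtain ⟨V, β, hxV, ⟨H⟩⟩ := exists_lift (𝟙 E) s ⟨⟨a, b, hv⟩, hfl⟩ a
    (fun j hj => hv j (Or.inl hj)) (fun j _ => inferInstance) inferInstance x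
  refine ⟨V, hxV, ?_⟩
  intro _
  refine ⟨β ≫ (DCoh.restrictCx V).map g, ?_⟩
  set fac := (Scheme.Modules.restrictFunctor V.ι).mapDerivedCategoryFactors with hfac
  -- `Q β` is inverse to `Q (s|_V)`
  have h1 : Q.map β ≫ Q.map ((DCoh.restrictCx V).map s) = 𝟙 _ := by
    rw [← Q.map_comp, Q_map_eq_of_homotopy _ H, CategoryTheory.Functor.map_id,
      CategoryTheory.Functor.map_id]
  have hiso : IsIso (Q.map ((DCoh.restrictCx V).map s)) := by
    have : QuasiIso ((DCoh.restrictCx V).map s) := by
      dsimp only [DCoh.restrictCx]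
      infer_instance
    exact (isIso_Q_map_iff_quasiIso _ _).2 this
  have h4 : Q.map β = inv (Q.map ((DCoh.restrictCx V).map s)) := by
    rw [← cancel_mono (Q.map ((DCoh.restrictCx V).map s)), h1, IsIso.inv_hom_id]
  rw [Functor.map_comp, Functor.map_inv, restrictD_map_Q V.ι g, Q.map_comp, h4]
  rw [IsIso.inv_comp_eq]
  rw [restrictD_map_Q V.ι s]
  simp only [Category.assoc, Iso.inv_hom_id_app_assoc, IsIso.hom_inv_id_assoc, fac]

end Groth.Agent.Lib.Seat0.LocRep
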