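import Mathlib
import Groth.Prelude.Def_DCoh3
import Groth.Prelude.Def_CxOX
import Groth.Agent.Lib.Seat0LocLift

/-!
# Local structure of perfect objects of `D(O_X)` (Seat0)

* `rcCompIso`: double restriction of complexes;
* `rdQIso`, `rdCompObjIso`: objectwise behaviour of `DCoh.restrictD`;
* `SPRep j K`: `K` restricted along the open immersion `j` is represented by a strictly perfect
  complex; `SPRep.comp`, `SPRep.ofEq`;
* `isPerfect_iff_sprep`, `isPerfect_of_sprep`: reformulations of `DCoh.IsPerfect`.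
-/

set_option autoImplicit false
universe u
open CategoryTheory CategoryTheory.Limits AlgebraicGeometry
attribute [local instance] HasDerivedCategory.standard

namespace Groth.Agent.Lib.Seat0.PerfLocal

open DerivedCategory Groth.Agent.Lib.Seat0.LocLift

variable {X : Scheme.{u}}

/-- termwise restriction of complexes along an open immersion -/
noncomputable abbrev Rc {W : Scheme.{u}} (j : W ⟶ X) [IsOpenImmersion j] :
    CochainComplex X.Modules ℤ ⥤ CochainComplex W.Modules ℤ :=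
  (Scheme.Modules.restrictFunctor j).mapHomologicalComplex (ComplexShape.up ℤ)

section Iso

variable {W W' : Scheme.{u}} (j₁ : W' ⟶ W) [IsOpenImmersion j₁] (j : W ⟶ X) [IsOpenImmersion j]

/-- double restriction of complexes -/
noncomputable def rcCompIso (F : CochainComplex X.Modules ℤ) :
    (Rc (j₁ ≫ j)).obj F ≅ (Rc j₁).obj ((Rc j).obj F) :=
  HomologicalComplex.Hom.isoOfComponents
    (fun i => (Scheme.Modules.restrictFunctorComp j₁ j).app (F.X i))
    (fun i k _ => ((Scheme.Modules.restrictFunctorComp j₁ j).hom.naturality (F.d i k)).symm)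

/-- restriction of complexes along equal open immersions -/
noncomputable def rcCongrIso {j j' : W ⟶ X} [IsOpenImmersion j] [IsOpenImmersion j'] (e : j = j')
    (F : CochainComplex X.Modules ℤ) : (Rc j).obj F ≅ (Rc j').obj F := by
  subst e
  exact Iso.refl _

/-- `restrictD` on the image of a complex -/
noncomputable def rdQIso (F : CochainComplex X.Modules ℤ) :
    (DCoh.restrictD j).obj (Q.obj F) ≅ Q.obj ((Rc j).obj F) :=
  (Scheme.Modules.restrictFunctor j).mapDerivedCategoryFactors.app F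

/-- objectwise composition isomorphism for `restrictD` -/
noncomputable def rdCompObjIso (M : DCoh.D X) :
    (DCoh.restrictD (j₁ ≫ j)).obj M ≅ (DCoh.restrictD j₁).obj ((DCoh.restrictD j).obj M) :=
  let F := Q.objPreimage M
  let e : Q.obj F ≅ M := Q.objObjPreimageIso M
  (DCoh.restrictD (j₁ ≫ j)).mapIso e.symm ≪≫ rdQIso (j₁ ≫ j) F ≪≫
    Q.mapIso (rcCompIso j₁ j F) ≪≫ (rdQIso j₁ ((Rc j).obj F)).symm ≪≫
    (DCoh.restrictD j₁).mapIso ((rdQIso j F).symm ≪≫ (DCoh.restrictD j).mapIso e)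

end Iso

/-- restriction of a strictly perfect complex is strictly perfect -/
lemma isStrictlyPerfect_rc {W : Scheme.{u}} (j : W ⟶ X) [IsOpenImmersion j]
    (E : CochainComplex X.Modules ℤ) (hE : DCoh.IsStrictlyPerfect E) :
    DCoh.IsStrictlyPerfect ((Rc j).obj E) := by
  obtain ⟨⟨a, b, hv⟩, hfl⟩ := hE
  exact ⟨⟨a, b, fun i hi => (Scheme.Modules.restrictFunctor j).map_isZero (hv i hi)⟩,
    fun i => isFinLocFree_restrict j (E.X i) (hfl i)⟩

/-- `K`, restricted along `j`, is represented by a strictly perfect complex -/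
def SPRep {W : Scheme.{u}} (j : W ⟶ X) [IsOpenImmersion j] (K : DCoh.D X) : Prop :=
  ∃ E : CochainComplex W.Modules ℤ, DCoh.IsStrictlyPerfect E ∧
    Nonempty ((DCoh.restrictD j).obj K ≅ Q.obj E)

lemma SPRep.comp {W W' : Scheme.{u}} {j : W ⟶ X} [IsOpenImmersion j] {K : DCoh.D X}
    (h : SPRep j K) (j₁ : W' ⟶ W) [IsOpenImmersion j₁] : SPRep (j₁ ≫ j) K := by
  obtain ⟨E, hE, ⟨e⟩⟩ := h
  exact ⟨(Rc j₁).obj E, isStrictlyPerfect_rc j₁ E hE,
    ⟨rdCompObjIso j₁ j K ≪≫ (DCoh.restrictD j₁).mapIso e ≪≫ rdQIso j₁ E⟩⟩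

lemma SPRep.ofEq {W : Scheme.{u}} {j j' : W ⟶ X} [IsOpenImmersion j] [IsOpenImmersion j']
    {K : DCoh.D X} (h : SPRep j K) (e : j = j') : SPRep j' K := by
  subst e
  exact h

lemma SPRep.of_iso {W : Scheme.{u}} {j : W ⟶ X} [IsOpenImmersion j] {K K' : DCoh.D X}
    (h : SPRep j K) (e : K ≅ K') : SPRep j K' := by
  obtain ⟨E, hE, ⟨i⟩⟩ := h
  exact ⟨E, hE, ⟨(DCoh.restrictD j).mapIso e.symm ≪≫ i⟩⟩

/-- reformulation of perfectness -/
theorem isPerfect_iff_sprep (K : DCoh.D X) :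
    DCoh.IsPerfect K ↔ ∀ x : X, ∃ V : X.Opens, x ∈ V ∧ SPRep V.ι K := by
  constructor
  · intro h x
    obtain ⟨V, hxV, hV⟩ := h x
    obtain ⟨E, hE, ⟨e⟩⟩ := hV (Q.objPreimage K) ⟨Q.objObjPreimageIso K⟩
    exact ⟨V, hxV, E, hE,
      ⟨(DCoh.restrictD V.ι).mapIso (Q.objObjPreimageIso K).symm ≪≫ rdQIso V.ι _ ≪≫ e⟩⟩
  · intro h x
    obtain ⟨V, hxV, E, hE, ⟨e⟩⟩ := h x
    refine ⟨V, hxV, fun F ⟨eF⟩ => ⟨E, hE, ⟨?_⟩⟩⟩
    exact (rdQIso V.ι F).symm ≪≫ (DCoh.restrictD V.ι).mapIso eF ≪≫ e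

/-- perfectness from representability along arbitrary open immersions -/
theorem isPerfect_of_sprep (K : DCoh.D X)
    (h : ∀ x : X, ∃ (W : Scheme.{u}) (j : W ⟶ X) (_ : IsOpenImmersion j),
      x ∈ Set.range j ∧ SPRep j K) : DCoh.IsPerfect K := by
  rw [isPerfect_iff_sprep]
  intro x
  obtain ⟨W, j, hj, ⟨w, rfl⟩, hK⟩ := h x
  let V : X.Opens := j.opensRange
  let e : W ≅ (V : Scheme.{u}) := IsOpenImmersion.isoOfRangeEq j V.ι (by
    simp only [V, Scheme.Opens.range_ι, Scheme.Hom.coe_opensRange])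
  have hfac : e.inv ≫ j = V.ι := IsOpenImmersion.isoOfRangeEq_inv_fac _ _ _
  exact ⟨V, ⟨w, rfl⟩, (hK.comp e.inv).ofEq hfac⟩

end Groth.Agent.Lib.Seat0.PerfLocal
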