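import Mathlib
import Groth.Prelude.Def_DCoh3
import Groth.Prelude.Def_CxOX
import Groth.Agent.Lib.Seat0Conn
import Groth.Agent.Lib.Seat0PerfLocal

/-!
# Local structure of pseudo-coherent objects of `D(O_X)` (Seat0)

* `PCRep m j K`: `K` restricted along the open immersion `j` receives an `m`-connected map from a
  strictly perfect complex; `PCRep.comp`, `PCRep.ofEq`, `PCRep.of_iso`, `PCRep.mono`;
* `isPC_iff_pcrep`, `isPC_of_pcrep`: reformulations of `DCoh.IsPseudoCoherentD`.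
-/

set_option autoImplicit false
universe u
open CategoryTheory CategoryTheory.Limits AlgebraicGeometry
attribute [local instance] HasDerivedCategory.standard

namespace Groth.Agent.Lib.Seat0.PCLocal

open DerivedCategory Groth.Agent.Lib.Seat0.LocLift Groth.Agent.Lib.Seat0.PerfLocal
open Groth.Agent.Lib.Seat0.Cn

variable {X : Scheme.{u}}

/-- `K`, restricted along `j`, receives an `m`-connected map from a strictly perfect complex -/
def PCRep (m : ℤ) {W : Scheme.{u}} (j : W ⟶ X) [IsOpenImmersion j] (K : DCoh.D X) : Prop :=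
  ∃ (E : CochainComplex W.Modules ℤ) (α : Q.obj E ⟶ (DCoh.restrictD j).obj K),
    DCoh.IsStrictlyPerfect E ∧ Conn m α

lemma PCRep.comp {m : ℤ} {W W' : Scheme.{u}} {j : W ⟶ X} [IsOpenImmersion j] {K : DCoh.D X}
    (h : PCRep m j K) (j₁ : W' ⟶ W) [IsOpenImmersion j₁] : PCRep m (j₁ ≫ j) K := by
  obtain ⟨E, α, hE, hα⟩ := h
  refine ⟨(Rc j₁).obj E, (rdQIso j₁ E).inv ≫ (DCoh.restrictD j₁).map α ≫
    (rdCompObjIso j₁ j K).inv, isStrictlyPerfect_rc j₁ E hE, ?_⟩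
  refine (Conn.of_isIso m _).comp (Conn.comp ?_ (Conn.of_isIso m _))
  exact conn_map (Scheme.Modules.restrictFunctor j₁) α m hα

lemma PCRep.ofEq {m : ℤ} {W : Scheme.{u}} {j j' : W ⟶ X} [IsOpenImmersion j] [IsOpenImmersion j']
    {K : DCoh.D X} (h : PCRep m j K) (e : j = j') : PCRep m j' K := by
  subst e
  exact h

lemma PCRep.of_iso {m : ℤ} {W : Scheme.{u}} {j : W ⟶ X} [IsOpenImmersion j] {K K' : DCoh.D X}
    (h : PCRep m j K) (e : K ≅ K') : PCRep m j K' := by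
  obtain ⟨E, α, hE, hα⟩ := h
  exact ⟨E, α ≫ (DCoh.restrictD j).map e.hom, hE, hα.comp (Conn.of_isIso m _)⟩

lemma PCRep.mono {m m' : ℤ} (hm : m ≤ m') {W : Scheme.{u}} {j : W ⟶ X} [IsOpenImmersion j]
    {K : DCoh.D X} (h : PCRep m j K) : PCRep m' j K := by
  obtain ⟨E, α, hE, hα⟩ := h
  exact ⟨E, α, hE, hα.mono hm⟩

/-- reformulation of pseudo-coherence -/
theorem isPC_iff_pcrep (m : ℤ) (K : DCoh.D X) :
    DCoh.IsPseudoCoherentD m K ↔ ∀ x : X, ∃ V : X.Opens, x ∈ V ∧ PCRep m V.ι K := by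
  constructor
  · intro h x
    obtain ⟨V, hxV, hV⟩ := h x
    obtain ⟨E, α, hE, h1, h2⟩ := hV (Q.objPreimage K) ⟨Q.objObjPreimageIso K⟩
    refine ⟨V, hxV, E, α ≫ (rdQIso V.ι _).inv ≫
      (DCoh.restrictD V.ι).map (Q.objObjPreimageIso K).hom, hE, ?_⟩
    exact Conn.comp ⟨h1, h2⟩ ((Conn.of_isIso m _).comp (Conn.of_isIso m _))
  · intro h x
    obtain ⟨V, hxV, E, α, hE, hα⟩ := h x
    refine ⟨V, hxV, fun F ⟨eF⟩ => ⟨E, α ≫ (DCoh.restrictD V.ι).map eF.inv ≫ (rdQIso V.ι F).hom,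
      hE, ?_⟩⟩
    exact hα.comp ((Conn.of_isIso m _).comp (Conn.of_isIso m _))

/-- pseudo-coherence from representability along arbitrary open immersions -/
theorem isPC_of_pcrep (m : ℤ) (K : DCoh.D X)
    (h : ∀ x : X, ∃ (W : Scheme.{u}) (j : W ⟶ X) (_ : IsOpenImmersion j),
      x ∈ Set.range j ∧ PCRep m j K) : DCoh.IsPseudoCoherentD m K := by
  rw [isPC_iff_pcrep]
  intro x
  obtain ⟨W, j, hj, ⟨w, rfl⟩, hK⟩ := h x
  let V : X.Opens := j.opensRange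
  let e : W ≅ (V : Scheme.{u}) := IsOpenImmersion.isoOfRangeEq j V.ι (by
    simp only [V, Scheme.Opens.range_ι, Scheme.Hom.coe_opensRange])
  have hfac : e.inv ≫ j = V.ι := IsOpenImmersion.isoOfRangeEq_inv_fac _ _ _
  exact ⟨V, ⟨w, rfl⟩, (hK.comp e.inv).ofEq hfac⟩

/-- common refinement: two pseudo-coherent objects have approximations on a common open -/
theorem exists_common_pcrep {m₁ m₂ : ℤ} {K₁ K₂ : DCoh.D X}
    (h₁ : DCoh.IsPseudoCoherentD m₁ K₁) (h₂ : DCoh.IsPseudoCoherentD m₂ K₂) (x : X) :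
    ∃ V : X.Opens, x ∈ V ∧ PCRep m₁ V.ι K₁ ∧ PCRep m₂ V.ι K₂ := by
  obtain ⟨V₁, hx₁, hV₁⟩ := (isPC_iff_pcrep m₁ K₁).1 h₁ x
  obtain ⟨V₂, hx₂, hV₂⟩ := (isPC_iff_pcrep m₂ K₂).1 h₂ x
  refine ⟨V₁ ⊓ V₂, ⟨hx₁, hx₂⟩, ?_, ?_⟩
  · exact (hV₁.comp (X.homOfLE inf_le_left)).ofEq (X.homOfLE_ι _)
  · exact (hV₂.comp (X.homOfLE inf_le_right)).ofEq (X.homOfLE_ι _)

end Groth.Agent.Lib.Seat0.PCLocal
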