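import Mathlib
import Groth.Prelude.Def_DCoh2
set_option backward.isDefEq.respectTransparency.types false

/-!
# Seat28: finite locally free modules are closed under binary biproducts (self-contained)
-/

set_option autoImplicit false
universe u
open CategoryTheory CategoryTheory.Limits AlgebraicGeometry TopologicalSpace

namespace Groth.Agent.Lib.Seat28.FLF

attribute [local instance] Abelian.hasFiniteBiproducts

variable {X : Scheme.{u}}

/-- restriction along an open immersion sends `O_X^n` to `O_Z^n`. -/
noncomputable def restrictFreeMod {Z : Scheme.{u}} (g : Z ⟶ X) [IsOpenImmersion g] (n : ℕ) :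
    (FlatMod.freeMod X n).restrict g ≅ FlatMod.freeMod Z n :=
  PreservesCoproduct.iso (Scheme.Modules.restrictFunctor g) (fun _ : Fin n => Coh.structureModule X) ≪≫
    Sigma.mapIso (fun _ => Scheme.Modules.restrictUnitIso g)

/-- a module free over `U` is free over every smaller open -/
lemma nonempty_restrict_iso_freeMod_of_le (M : X.Modules) {U U' : X.Opens} (h : U' ≤ U) {n : ℕ}
    (e : M.restrict U.ι ≅ FlatMod.freeMod (↑U) n) :
    Nonempty (M.restrict U'.ι ≅ FlatMod.freeMod (↑U') n) := by
  let j : (U' : Scheme.{u}) ⟶ U := X.homOfLE h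
  have hj : j ≫ U.ι = U'.ι := X.homOfLE_ι h
  exact ⟨(Scheme.Modules.restrictFunctorCongr hj.symm).app M ≪≫
    (Scheme.Modules.restrictFunctorComp j U.ι).app M ≪≫
    (Scheme.Modules.restrictFunctor j).mapIso e ≪≫ restrictFreeMod j n⟩

lemma isFinLocFree_of_iso {M N : X.Modules} (e : M ≅ N) (h : FlatMod.IsFinLocFree M) :
    FlatMod.IsFinLocFree N := fun x => by
  obtain ⟨U, n, hx, ⟨i⟩⟩ := h x
  exact ⟨U, n, hx, ⟨(Scheme.Modules.restrictFunctor U.ι).mapIso e.symm ≪≫ i⟩⟩

/-- a finite coproduct of free modules is free -/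
lemma nonempty_sigma_freeMod_iso {J : Type} [Finite J] (n : J → ℕ) :
    ∃ N : ℕ, Nonempty ((∐ fun j : J => FlatMod.freeMod X (n j)) ≅ FlatMod.freeMod X N) := by
  have := Fintype.ofFinite J
  let e : (Σ j : J, Fin (n j)) ≃ Fin (Fintype.card (Σ j : J, Fin (n j))) := Fintype.equivFin _
  refine ⟨Fintype.card (Σ j : J, Fin (n j)), ⟨?_⟩⟩
  exact sigmaSigmaIso (fun j : J => Fin (n j)) (fun _ _ => Coh.structureModule X) ≪≫
    Sigma.whiskerEquiv (f := fun _ : (Σ j : J, Fin (n j)) => Coh.structureModule X)
      (g := fun _ : Fin (Fintype.card (Σ j : J, Fin (n j))) => Coh.structureModule X) e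
      (fun _ => Iso.refl _)

/-- finitely many finite locally free modules are simultaneously free near a point -/
lemma exists_common_open {J : Type} [Finite J] (f : J → X.Modules)
    (hf : ∀ j, FlatMod.IsFinLocFree (f j)) (x : X) :
    ∃ (U : X.Opens) (n : J → ℕ), x ∈ U ∧
      ∀ j, Nonempty ((f j).restrict U.ι ≅ FlatMod.freeMod (↑U) (n j)) := by
  choose U n hx e using fun j => hf j x
  refine ⟨⨅ j, U j, n, ?_,
    fun j => nonempty_restrict_iso_freeMod_of_le (f j) (iInf_le U j) (e j).some⟩
  have h : ((⨅ j, U j : X.Opens) : Set X) = ⋂ j, (U j : Set X) := Opens.coe_iInf U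
  change x ∈ ((⨅ j, U j : X.Opens) : Set X)
  rw [h]
  exact Set.mem_iInter.2 hx

/-- a finite biproduct of finite locally free modules is finite locally free -/
theorem isFinLocFree_biproduct {J : Type} [Finite J] (f : J → X.Modules)
    (hf : ∀ j, FlatMod.IsFinLocFree (f j)) : FlatMod.IsFinLocFree (⨁ f) := fun x => by
  obtain ⟨U, n, hx, e⟩ := exists_common_open f hf x
  obtain ⟨N, ⟨eN⟩⟩ := nonempty_sigma_freeMod_iso (X := U) n
  refine ⟨U, N, hx, ⟨?_⟩⟩
  exact (Scheme.Modules.restrictFunctor U.ι).mapBiproduct f ≪≫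
    biproduct.mapIso (fun j => (e j).some) ≪≫ biproduct.isoCoproduct _ ≪≫ eN

/-- a binary biproduct of finite locally free modules is finite locally free -/
theorem isFinLocFree_biprod (M N : X.Modules) (hM : FlatMod.IsFinLocFree M)
    (hN : FlatMod.IsFinLocFree N) : FlatMod.IsFinLocFree (M ⊞ N) := by
  have h := isFinLocFree_biproduct (X := X) (J := WalkingPair) (pairFunction M N)
    (fun j => by cases j <;> assumption)
  have hb : ((biproduct.bicone (pairFunction M N)).toBinaryBicone).IsBilimit :=
    (Bicone.toBinaryBiconeIsBilimit _).symm (biproduct.isBilimit _)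
  exact isFinLocFree_of_iso (biprod.uniqueUpToIso M N hb) h

/-- the zero module is finite locally free -/
theorem isFinLocFree_of_isZero (M : X.Modules) (hM : IsZero M) : FlatMod.IsFinLocFree M := by
  have h := isFinLocFree_biproduct (X := X) (J := PEmpty) (fun j => j.elim) (fun j => j.elim)
  refine isFinLocFree_of_iso ?_ h
  exact (IsZero.iso (by
    rw [IsZero.iff_id_eq_zero]
    ext j
    exact j.elim) hM)

end Groth.Agent.Lib.Seat28.FLF
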