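import Mathlib
import Groth.Agent.Lib.Seat0PerfLocal
import Groth.Agent.Lib.Seat0LocRep
import Groth.Agent.S6516

/-!
# Perfect objects of `D(O_X)`: two out of three, shifts, isomorphisms (Seat0)
-/

set_option autoImplicit false
universe u
open CategoryTheory CategoryTheory.Limits AlgebraicGeometry Pretriangulated
attribute [local instance] HasDerivedCategory.standard

namespace Groth.Agent.Lib.Seat0.PerfTri

open DerivedCategory Groth.Agent.Lib.Seat0.LocLift Groth.Agent.Lib.Seat0.PerfLocal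
  Groth.Agent.Lib.Seat0.LocRep

/-- local form on one scheme: if the first two vertices of a distinguished triangle are
represented by strictly perfect complexes, the third is locally so -/
theorem sprep_obj₃ {Y : Scheme.{u}} (T : Triangle (DCoh.D Y)) (hT : T ∈ distTriang (DCoh.D Y))
    {E₁ E₂ : CochainComplex Y.Modules ℤ} (hE₁ : DCoh.IsStrictlyPerfect E₁)
    (hE₂ : DCoh.IsStrictlyPerfect E₂) (e₁ : T.obj₁ ≅ Q.obj E₁) (e₂ : T.obj₂ ≅ Q.obj E₂) (y : Y) :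
    ∃ V : Y.Opens, y ∈ V ∧ SPRep V.ι T.obj₃ := by
  obtain ⟨V, hyV, hV⟩ := exists_chainMap_rep hE₁ (e₁.inv ≫ T.mor₁ ≫ e₂.hom) y
  obtain ⟨β, hβ⟩ := hV
  refine ⟨V, hyV, CochainComplex.mappingCone β,
    Groth.Agent.S6516.result β (isStrictlyPerfect_rc V.ι E₁ hE₁) (isStrictlyPerfect_rc V.ι E₂ hE₂),
    ⟨?_⟩⟩
  let rD := DCoh.restrictD V.ι
  have hT' : rD.mapTriangle.obj T ∈ distTriang _ := rD.map_distinguished T hT
  have hT'' := DerivedCategory.mappingCone_triangle_distinguished β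
  let i₁ : (rD.mapTriangle.obj T).obj₁ ≅
      (Q.mapTriangle.obj (CochainComplex.mappingCone.triangle β)).obj₁ :=
    rD.mapIso e₁ ≪≫ rdQIso V.ι E₁
  let i₂ : (rD.mapTriangle.obj T).obj₂ ≅
      (Q.mapTriangle.obj (CochainComplex.mappingCone.triangle β)).obj₂ :=
    rD.mapIso e₂ ≪≫ rdQIso V.ι E₂
  have comm : (rD.mapTriangle.obj T).mor₁ ≫ i₂.hom =
      i₁.hom ≫ (Q.mapTriangle.obj (CochainComplex.mappingCone.triangle β)).mor₁ := by
    show rD.map T.mor₁ ≫ rD.map e₂.hom ≫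
        (Scheme.Modules.restrictFunctor V.ι).mapDerivedCategoryFactors.hom.app E₂ =
      (rD.map e₁.hom ≫ (Scheme.Modules.restrictFunctor V.ι).mapDerivedCategoryFactors.hom.app E₁) ≫
        Q.map β
    have h1 : rD.map (e₁.inv ≫ T.mor₁ ≫ e₂.hom) =
        (Scheme.Modules.restrictFunctor V.ι).mapDerivedCategoryFactors.hom.app E₁ ≫ Q.map β ≫
          (Scheme.Modules.restrictFunctor V.ι).mapDerivedCategoryFactors.inv.app E₂ := hβ
    rw [Functor.map_comp, Functor.map_comp] at h1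
    have h2 : rD.map T.mor₁ ≫ rD.map e₂.hom =
        rD.map e₁.hom ≫ (rD.map e₁.inv ≫ rD.map T.mor₁ ≫ rD.map e₂.hom) := by
      rw [← Category.assoc (rD.map e₁.hom), ← rD.map_comp e₁.hom e₁.inv, e₁.hom_inv_id,
        rD.map_id, Category.id_comp]
    rw [← Category.assoc, h2, h1]
    have h3 := (Scheme.Modules.restrictFunctor V.ι).mapDerivedCategoryFactors.inv_hom_id_app E₂
    simp only [Category.assoc]
    rw [h3]
    erw [Category.comp_id]
  exact Triangle.π₃.mapIso (isoTriangleOfIso₁₂ _ _ hT' hT'' i₁ i₂ comm)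

variable {X : Scheme.{u}}

/-- perfectness is invariant under isomorphism -/
lemma isPerfect_of_iso {K K' : DCoh.D X} (e : K ≅ K') (h : DCoh.IsPerfect K) :
    DCoh.IsPerfect K' := by
  rw [isPerfect_iff_sprep] at h ⊢
  intro x
  obtain ⟨V, hxV, hV⟩ := h x
  exact ⟨V, hxV, hV.of_iso e⟩

/-- the third vertex of a distinguished triangle with perfect first two vertices is perfect -/
theorem isPerfect_obj₃ (T : Triangle (DCoh.D X)) (hT : T ∈ distTriang (DCoh.D X))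
    (h₁ : DCoh.IsPerfect T.obj₁) (h₂ : DCoh.IsPerfect T.obj₂) : DCoh.IsPerfect T.obj₃ := by
  rw [isPerfect_iff_sprep] at h₁ h₂
  refine isPerfect_of_sprep _ (fun x => ?_)
  obtain ⟨V₁, hx₁, hV₁⟩ := h₁ x
  obtain ⟨V₂, hx₂, hV₂⟩ := h₂ x
  let V : X.Opens := V₁ ⊓ V₂
  have hK : SPRep V.ι T.obj₁ :=
    (hV₁.comp (X.homOfLE (inf_le_left : V ≤ V₁))).ofEq (X.homOfLE_ι _)
  have hL : SPRep V.ι T.obj₂ :=
    (hV₂.comp (X.homOfLE (inf_le_right : V ≤ V₂))).ofEq (X.homOfLE_ι _)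
  obtain ⟨E₁, hE₁, ⟨e₁⟩⟩ := hK
  obtain ⟨E₂, hE₂, ⟨e₂⟩⟩ := hL
  have hTV : (DCoh.restrictD V.ι).mapTriangle.obj T ∈ distTriang _ :=
    (DCoh.restrictD V.ι).map_distinguished T hT
  obtain ⟨V', hxV', E, hE, ⟨e⟩⟩ :=
    sprep_obj₃ ((DCoh.restrictD V.ι).mapTriangle.obj T) hTV hE₁ hE₂ e₁ e₂ ⟨x, ⟨hx₁, hx₂⟩⟩
  exact ⟨V', V'.ι ≫ V.ι, inferInstance, ⟨⟨⟨x, ⟨hx₁, hx₂⟩⟩, hxV'⟩, rfl⟩, E, hE,
    ⟨rdCompObjIso V'.ι V.ι T.obj₃ ≪≫ e⟩⟩

/-- the shift of a strictly perfect complex is strictly perfect -/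
lemma isStrictlyPerfect_shift {Y : Scheme.{u}} (E : CochainComplex Y.Modules ℤ)
    (hE : DCoh.IsStrictlyPerfect E) (n : ℤ) : DCoh.IsStrictlyPerfect (E⟦n⟧) := by
  obtain ⟨⟨a, b, hv⟩, hfl⟩ := hE
  refine ⟨⟨a - n, b - n, fun i hi => ?_⟩, fun i => ?_⟩
  · exact hv (i + n) (by omega)
  · exact hfl (i + n)

/-- perfectness is stable under shifts -/
theorem isPerfect_shift (K : DCoh.D X) (h : DCoh.IsPerfect K) (n : ℤ) :
    DCoh.IsPerfect (K⟦n⟧) := by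
  rw [isPerfect_iff_sprep] at h ⊢
  intro x
  obtain ⟨V, hxV, E, hE, ⟨e⟩⟩ := h x
  refine ⟨V, hxV, E⟦n⟧, isStrictlyPerfect_shift E hE n, ⟨?_⟩⟩
  exact ((DCoh.restrictD V.ι).commShiftIso n).app K ≪≫ (shiftFunctor _ n).mapIso e ≪≫
    ((Q.commShiftIso n).app E).symm

/-- **Two out of three** for perfect objects in distinguished triangles of `D(O_X)` -/
theorem two_out_of_three (T : Triangle (DCoh.D X)) (hT : T ∈ distTriang (DCoh.D X)) :
    (DCoh.IsPerfect T.obj₁ → DCoh.IsPerfect T.obj₂ → DCoh.IsPerfect T.obj₃) ∧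
    (DCoh.IsPerfect T.obj₁ → DCoh.IsPerfect T.obj₃ → DCoh.IsPerfect T.obj₂) ∧
    (DCoh.IsPerfect T.obj₂ → DCoh.IsPerfect T.obj₃ → DCoh.IsPerfect T.obj₁) := by
  refine ⟨isPerfect_obj₃ T hT, fun h₁ h₃ => ?_, fun h₂ h₃ => ?_⟩
  · exact isPerfect_obj₃ T.invRotate (inv_rot_of_distTriang T hT)
      (isPerfect_shift T.obj₃ h₃ (-1)) h₁
  · have h := isPerfect_obj₃ T.rotate (rot_of_distTriang T hT) h₂ h₃
    have h' := isPerfect_shift _ h (-1)
    exact isPerfect_of_iso ((shiftEquiv (DCoh.D X) (1 : ℤ)).unitIso.app T.obj₁).symm h'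

end Groth.Agent.Lib.Seat0.PerfTri
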