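import Mathlib
import Groth.Agent.Lib.Seat0Conn

/-!
# Brutal truncation `σ_{≥ n}` of a cochain complex and its connectivity (Seat0)

The construction (kernel of an idempotent) follows `Helper1.BKF.sigmaGE`; we add the homology
computation: the inclusion `σ_{≥ n} K ⟶ K` is an isomorphism on `H^i` for `i > n` and an epimorphism
on `H^n`.
-/

set_option autoImplicit false
universe w v u
open CategoryTheory CategoryTheory.Limits HomologicalComplex

namespace Groth.Agent.Lib.Seat0.Trunc

variable {A : Type u} [Category.{v} A] [Abelian A] (K : CochainComplex A ℤ) (m : ℤ)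

/-- the endomorphism of `K^q` whose kernel is the `q`-th term of the brutal truncation -/
noncomputable def te (q : ℤ) : K.X q ⟶ K.X q := if m ≤ q then 0 else 𝟙 _

lemma te_of_le {q : ℤ} (h : m ≤ q) : te K m q = 0 := if_pos h

lemma te_of_lt {q : ℤ} (h : q < m) : te K m q = 𝟙 _ := if_neg (by omega)

lemma kernel_ι_te_of_lt {q : ℤ} (h : q < m) : kernel.ι (te K m q) = 0 := by
  exact (Category.comp_id _).symm.trans
    ((congrArg (fun t => kernel.ι (te K m q) ≫ t) (te_of_lt K m h)).symm.trans
      (kernel.condition _))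

lemma ι_d_te (q q' : ℤ) : kernel.ι (te K m q) ≫ K.d q q' ≫ te K m q' = 0 := by
  by_cases hq' : m ≤ q'
  · rw [te_of_le K m hq', comp_zero, comp_zero]
  · by_cases hr : q + 1 = q'
    · rw [kernel_ι_te_of_lt K m (by omega), zero_comp]
    · rw [K.shape _ _ hr, zero_comp, comp_zero]

/-- the brutal truncation `σ_{≥ m} K` -/
noncomputable def sigmaGE : CochainComplex A ℤ where
  X q := kernel (te K m q)
  d q q' := kernel.lift _ (kernel.ι (te K m q) ≫ K.d q q')
    (by rw [Category.assoc]; exact ι_d_te K m q q')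
  shape q q' h := by
    rw [← cancel_mono (kernel.ι _), kernel.lift_ι, K.shape _ _ h, comp_zero, zero_comp]
  d_comp_d' q q' q'' _ _ := by
    rw [← cancel_mono (kernel.ι _), Category.assoc, kernel.lift_ι, kernel.lift_ι_assoc,
      Category.assoc, K.d_comp_d, comp_zero, zero_comp]

/-- the inclusion `σ_{≥ m} K ⟶ K` -/
noncomputable def sigmaGEι : sigmaGE K m ⟶ K where
  f q := kernel.ι _
  comm' _ _ _ := by
    dsimp [sigmaGE]
    rw [kernel.lift_ι]

lemma isIso_sigmaGEι_f {q : ℤ} (h : m ≤ q) : IsIso ((sigmaGEι K m).f q) :=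
  kernel.ι_of_zero (te_of_le K m h)

lemma isZero_sigmaGE_X {q : ℤ} (h : q < m) : IsZero ((sigmaGE K m).X q) := by
  have : Mono (te K m q) := by rw [te_of_lt K m h]; infer_instance
  exact isZero_kernel_of_mono _

instance mono_sigmaGEι_f (q : ℤ) : Mono ((sigmaGEι K m).f q) :=
  inferInstanceAs (Mono (kernel.ι _))

/-- for `q ≥ m`, the term of the truncation is the term of `K` -/
noncomputable def sigmaGEXIso {q : ℤ} (h : m ≤ q) : (sigmaGE K m).X q ≅ K.X q :=
  haveI := isIso_sigmaGEι_f K m h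
  asIso ((sigmaGEι K m).f q)

/-- the inclusion is a quasi-isomorphism in degrees `> m` -/
lemma isIso_homologyMap_sigmaGEι (i : ℤ) (hi : m < i) :
    IsIso (homologyMap (sigmaGEι K m) i) := by
  have h : QuasiIsoAt (sigmaGEι K m) i := by
    rw [quasiIsoAt_iff]
    have h1 : IsIso ((sigmaGEι K m).f ((ComplexShape.up ℤ).prev i)) :=
      isIso_sigmaGEι_f K m (by rw [CochainComplex.prev]; omega)
    have h2 : IsIso ((sigmaGEι K m).f i) := isIso_sigmaGEι_f K m (by omega)
    have h3 : IsIso ((sigmaGEι K m).f ((ComplexShape.up ℤ).next i)) :=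
      isIso_sigmaGEι_f K m (by rw [CochainComplex.next]; omega)
    have : Epi ((shortComplexFunctor A (ComplexShape.up ℤ) i).map (sigmaGEι K m)).τ₁ := by
      show Epi ((sigmaGEι K m).f ((ComplexShape.up ℤ).prev i))
      infer_instance
    have : IsIso ((shortComplexFunctor A (ComplexShape.up ℤ) i).map (sigmaGEι K m)).τ₂ := h2
    have : Mono ((shortComplexFunctor A (ComplexShape.up ℤ) i).map (sigmaGEι K m)).τ₃ := by
      show Mono ((sigmaGEι K m).f ((ComplexShape.up ℤ).next i))
      infer_instance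
    exact ShortComplex.quasiIso_of_epi_of_isIso_of_mono _
  rw [quasiIsoAt_iff_isIso_homologyMap] at h
  exact h

/-- the inclusion is an epimorphism on `H^m` -/
lemma epi_homologyMap_sigmaGEι : Epi (homologyMap (sigmaGEι K m) m) := by
  have h2 : IsIso ((sigmaGEι K m).f m) := isIso_sigmaGEι_f K m le_rfl
  have h3 : IsIso ((sigmaGEι K m).f ((ComplexShape.up ℤ).next m)) :=
    isIso_sigmaGEι_f K m (by rw [CochainComplex.next]; omega)
  have : IsIso ((shortComplexFunctor A (ComplexShape.up ℤ) m).map (sigmaGEι K m)).τ₂ := h2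
  have : Mono ((shortComplexFunctor A (ComplexShape.up ℤ) m).map (sigmaGEι K m)).τ₃ := by
    show Mono ((sigmaGEι K m).f ((ComplexShape.up ℤ).next m))
    infer_instance
  have hc : IsIso (cyclesMap (sigmaGEι K m) m) :=
    ShortComplex.isIso_cyclesMap_of_isIso_of_mono
      ((shortComplexFunctor A (ComplexShape.up ℤ) m).map (sigmaGEι K m))
  have hcomm : cyclesMap (sigmaGEι K m) m ≫ K.homologyπ m =
      (sigmaGE K m).homologyπ m ≫ homologyMap (sigmaGEι K m) m :=
    (homologyπ_naturality (sigmaGEι K m) m).symm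
  have : Epi ((sigmaGE K m).homologyπ m ≫ homologyMap (sigmaGEι K m) m) := by
    rw [← hcomm]
    infer_instance
  exact epi_of_epi ((sigmaGE K m).homologyπ m) _

section Derived

variable [HasDerivedCategory.{w} A]

open DerivedCategory Groth.Agent.Lib.Seat0.Cn

omit [Abelian A] [HasDerivedCategory A] in
lemma isIso_iff_of_sq {X Y X' Y' : A} {a : X ⟶ Y} {b : X' ⟶ Y'} (eX : X ≅ X') (eY : Y ≅ Y')
    (h : a ≫ eY.hom = eX.hom ≫ b) : IsIso a ↔ IsIso b := by
  have ha : a = eX.hom ≫ b ≫ eY.inv := by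
    rw [← Category.assoc, ← h, Category.assoc, Iso.hom_inv_id, Category.comp_id]
  have hb : b = eX.inv ≫ a ≫ eY.hom := by
    rw [h, Iso.inv_hom_id_assoc]
  constructor
  · intro _
    rw [hb]
    infer_instance
  · intro _
    rw [ha]
    infer_instance

omit [Abelian A] [HasDerivedCategory A] in
lemma epi_iff_of_sq {X Y X' Y' : A} {a : X ⟶ Y} {b : X' ⟶ Y'} (eX : X ≅ X') (eY : Y ≅ Y')
    (h : a ≫ eY.hom = eX.hom ≫ b) : Epi a ↔ Epi b := by
  have ha : a = eX.hom ≫ b ≫ eY.inv := by
    rw [← Category.assoc, ← h, Category.assoc, Iso.hom_inv_id, Category.comp_id]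
  have hb : b = eX.inv ≫ a ≫ eY.hom := by
    rw [h, Iso.inv_hom_id_assoc]
  constructor
  · intro _
    rw [hb]
    infer_instance
  · intro _
    rw [ha]
    infer_instance

/-- connectivity of `Q.map f` in terms of the homology maps of the chain map `f` -/
lemma conn_Q_map_iff {K L : CochainComplex A ℤ} (f : K ⟶ L) (n : ℤ) :
    Conn n (Q.map f) ↔
      (∀ i : ℤ, n < i → IsIso (homologyMap f i)) ∧ Epi (homologyMap f n) := by
  have sq : ∀ i : ℤ, (DerivedCategory.homologyFunctor A i).map (Q.map f) ≫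
        ((homologyFunctorFactors A i).app L).hom =
      ((homologyFunctorFactors A i).app K).hom ≫ homologyMap f i :=
    fun i => (homologyFunctorFactors A i).hom.naturality f
  constructor
  · rintro ⟨h1, h2⟩
    exact ⟨fun i hi => (isIso_iff_of_sq _ _ (sq i)).1 (h1 i hi), (epi_iff_of_sq _ _ (sq n)).1 h2⟩
  · rintro ⟨h1, h2⟩
    exact ⟨fun i hi => (isIso_iff_of_sq _ _ (sq i)).2 (h1 i hi), (epi_iff_of_sq _ _ (sq n)).2 h2⟩

/-- the inclusion of the brutal truncation `σ_{≥ n}` is `n`-connected -/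
lemma conn_sigmaGEι (n : ℤ) : Conn n (Q.map (sigmaGEι K n)) :=
  (conn_Q_map_iff _ n).2 ⟨isIso_homologyMap_sigmaGEι K n, epi_homologyMap_sigmaGEι K n⟩

end Derived

end Groth.Agent.Lib.Seat0.Trunc
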