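import Mathlib
import Groth.Agent.Lib.Seat0PCLocal
import Groth.Agent.Lib.Seat0Trunc
import Groth.Agent.Lib.Seat0LocRep
import Groth.Agent.Lib.Seat0PerfTri
import Groth.Agent.Lib.Seat28FLF
import Groth.Agent.S6516

/-!
# Pseudo-coherent objects of `D(O_X)` in distinguished triangles (Seat0)

* `isStrictlyPerfect_sigmaGE`: brutal truncations of strictly perfect complexes;
* `PCRep.of_restrictD`;
* `pcrep_obj₃_of_chain`, `pcrep_obj₃_local`: local forms;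
* `isPC_obj₃`: if `K` is `(m+1)`-pseudo-coherent and `L` is `m`-pseudo-coherent in a distinguished
  triangle `K → L → M →`, then `M` is `m`-pseudo-coherent;
* `isPC_shift`, `isPC_of_iso`, `isPC_triangle` (S0889).
-/

set_option autoImplicit false
universe u
open CategoryTheory CategoryTheory.Limits AlgebraicGeometry Pretriangulated
attribute [local instance] HasDerivedCategory.standard

namespace Groth.Agent.Lib.Seat0.PCTri

open DerivedCategory Groth.Agent.Lib.Seat0.LocLift Groth.Agent.Lib.Seat0.PerfLocal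
  Groth.Agent.Lib.Seat0.LocRep Groth.Agent.Lib.Seat0.Cn Groth.Agent.Lib.Seat0.Trunc
  Groth.Agent.Lib.Seat0.PCLocal

/-- brutal truncations of strictly perfect complexes are strictly perfect -/
lemma isStrictlyPerfect_sigmaGE {Y : Scheme.{u}} (E : CochainComplex Y.Modules ℤ)
    (hE : DCoh.IsStrictlyPerfect E) (n : ℤ) : DCoh.IsStrictlyPerfect (sigmaGE E n) := by
  obtain ⟨⟨a, b, hv⟩, hfl⟩ := hE
  refine ⟨⟨a, b, fun i hi => ?_⟩, fun i => ?_⟩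
  · exact IsZero.of_mono ((sigmaGEι E n).f i) (hv i hi)
  · by_cases h : n ≤ i
    · exact Groth.Agent.Lib.Seat28.FLF.isFinLocFree_of_iso (sigmaGEXIso E n h).symm (hfl i)
    · exact Groth.Agent.Lib.Seat28.FLF.isFinLocFree_of_isZero _
        (isZero_sigmaGE_X E n (by omega))

variable {X : Scheme.{u}}

lemma PCRep.of_restrictD {m : ℤ} {W W' : Scheme.{u}} {j : W ⟶ X} [IsOpenImmersion j]
    {j' : W' ⟶ W} [IsOpenImmersion j'] {M : DCoh.D X}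
    (h : PCRep m j' ((DCoh.restrictD j).obj M)) : PCRep m (j' ≫ j) M := by
  obtain ⟨E, α, hE, hα⟩ := h
  exact ⟨E, α ≫ (rdCompObjIso j' j M).inv, hE, hα.comp (Conn.of_isIso m _)⟩

/-- Local form with chain level data: one shrinking. -/
theorem pcrep_obj₃_of_chain {Y : Scheme.{u}} (T : Triangle (DCoh.D Y))
    (hT : T ∈ distTriang (DCoh.D Y)) (m : ℤ)
    {E₁ E₂ F : CochainComplex Y.Modules ℤ} (hE₁ : DCoh.IsStrictlyPerfect E₁)
    (hE₁z : ∀ j : ℤ, j < m + 1 → IsZero (E₁.X j)) (hE₂ : DCoh.IsStrictlyPerfect E₂)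
    (α₁ : Q.obj E₁ ⟶ T.obj₁) (hα₁ : Conn (m + 1) α₁)
    (α₂ : Q.obj E₂ ⟶ T.obj₂) (hα₂ : Conn m α₂)
    (e : T.obj₂ ≅ Q.obj F) (g : E₂ ⟶ F) (hg : α₂ ≫ e.hom = Q.map g)
    (γ : E₁ ⟶ F) (hγ : α₁ ≫ T.mor₁ ≫ e.hom = Q.map γ) (y : Y) :
    ∃ V : Y.Opens, y ∈ V ∧ PCRep m V.ι T.obj₃ := by
  have hQg : Conn (m + 1) (Q.map g) := by
    rw [← hg]
    exact (hα₂.mono (by omega)).comp (Conn.of_isIso _ _)
  obtain ⟨hf, hfa⟩ := (conn_Q_map_iff g (m + 1)).1 hQg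
  obtain ⟨V, φ, hyV, ⟨H⟩⟩ := exists_lift γ g hE₁ (m + 1) hE₁z hf hfa y
  refine ⟨V, hyV, ?_⟩
  let rD := DCoh.restrictD V.ι
  have hT' : rD.mapTriangle.obj T ∈ distTriang _ := rD.map_distinguished T hT
  let a : Q.obj ((Rc V.ι).obj E₁) ⟶ rD.obj T.obj₁ :=
    (rdQIso V.ι E₁).inv ≫ rD.map α₁
  let b : Q.obj ((Rc V.ι).obj E₂) ⟶ rD.obj T.obj₂ :=
    (rdQIso V.ι E₂).inv ≫ rD.map α₂
  have ha : Conn (m + 1) a :=
    (Conn.of_isIso _ _).comp (conn_map (Scheme.Modules.restrictFunctor V.ι) α₁ _ hα₁)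
  have hb : Conn m b :=
    (Conn.of_isIso _ _).comp (conn_map (Scheme.Modules.restrictFunctor V.ι) α₂ _ hα₂)
  have comm : Q.map φ ≫ b = a ≫ rD.map T.mor₁ := by
    have hmono : Mono (rD.map e.hom) := inferInstance
    rw [← cancel_mono (rD.map e.hom)]
    have h1 : (Q.map φ ≫ b) ≫ rD.map e.hom =
        Q.map (φ ≫ (DCoh.restrictCx V).map g) ≫
          (Scheme.Modules.restrictFunctor V.ι).mapDerivedCategoryFactors.inv.app F := by
      have : b ≫ rD.map e.hom = (rdQIso V.ι E₂).inv ≫ rD.map (Q.map g) := by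
        rw [← hg, Functor.map_comp, Category.assoc]
      rw [Category.assoc, this, restrictD_map_Q V.ι g, Functor.map_comp]
      simp only [rdQIso, Iso.app_inv, Iso.inv_hom_id_app_assoc, Category.assoc]
    have h2 : (a ≫ rD.map T.mor₁) ≫ rD.map e.hom =
        Q.map ((DCoh.restrictCx V).map γ) ≫
          (Scheme.Modules.restrictFunctor V.ι).mapDerivedCategoryFactors.inv.app F := by
      have : (a ≫ rD.map T.mor₁) ≫ rD.map e.hom =
          (rdQIso V.ι E₁).inv ≫ rD.map (Q.map γ) := by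
        rw [← hγ, Functor.map_comp, Functor.map_comp]
        simp only [Category.assoc, a]
      rw [this, restrictD_map_Q V.ι γ]
      simp only [rdQIso, Iso.app_inv, Iso.inv_hom_id_app_assoc]
    rw [h1, h2, Q_map_eq_of_homotopy _ H]
  have hZ := DerivedCategory.mappingCone_triangle_distinguished φ
  obtain ⟨c, hc⟩ := exists_conn_of_square (rD.mapTriangle.obj T) hT' m a b (Q.map φ) comm ha hb
    _ _ hZ
  exact ⟨CochainComplex.mappingCone φ, c,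
    Groth.Agent.S6516.result φ (isStrictlyPerfect_rc V.ι E₁ hE₁) (isStrictlyPerfect_rc V.ι E₂ hE₂),
    hc⟩

/-- Local form: two shrinkings. -/
theorem pcrep_obj₃_local {Y : Scheme.{u}} (T : Triangle (DCoh.D Y))
    (hT : T ∈ distTriang (DCoh.D Y)) (m : ℤ)
    {E₁ E₂ : CochainComplex Y.Modules ℤ} (hE₁ : DCoh.IsStrictlyPerfect E₁)
    (hE₁z : ∀ j : ℤ, j < m + 1 → IsZero (E₁.X j)) (hE₂ : DCoh.IsStrictlyPerfect E₂)
    (α₁ : Q.obj E₁ ⟶ T.obj₁) (hα₁ : Conn (m + 1) α₁)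
    (α₂ : Q.obj E₂ ⟶ T.obj₂) (hα₂ : Conn m α₂) (y : Y) :
    ∃ (W : Scheme.{u}) (j : W ⟶ Y) (_ : IsOpenImmersion j),
      y ∈ Set.range j ∧ PCRep m j T.obj₃ := by
  -- represent `α₂` by a chain map
  let F₀ := Q.objPreimage T.obj₂
  let e₀ : Q.obj F₀ ≅ T.obj₂ := Q.objObjPreimageIso T.obj₂
  obtain ⟨F, g, s, hs, hfac⟩ := left_fac (α₂ ≫ e₀.inv)
  let e : T.obj₂ ≅ Q.obj F := e₀.symm ≪≫ asIso (Q.map s)
  have hg : α₂ ≫ e.hom = Q.map g := by
    show α₂ ≫ e₀.inv ≫ Q.map s = Q.map g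
    rw [← Category.assoc, hfac, Category.assoc, IsIso.inv_hom_id, Category.comp_id]
  -- represent the composite `E₁ ⟶ F` locally by a chain map
  obtain ⟨V, hyV, hV⟩ := exists_chainMap_rep hE₁ (α₁ ≫ T.mor₁ ≫ e.hom) y
  obtain ⟨γ, hγ⟩ := hV
  let rD := DCoh.restrictD V.ι
  have hT' : rD.mapTriangle.obj T ∈ distTriang _ := rD.map_distinguished T hT
  let a : Q.obj ((Rc V.ι).obj E₁) ⟶ rD.obj T.obj₁ := (rdQIso V.ι E₁).inv ≫ rD.map α₁
  let b : Q.obj ((Rc V.ι).obj E₂) ⟶ rD.obj T.obj₂ := (rdQIso V.ι E₂).inv ≫ rD.map α₂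
  have ha : Conn (m + 1) a :=
    (Conn.of_isIso _ _).comp (conn_map (Scheme.Modules.restrictFunctor V.ι) α₁ _ hα₁)
  have hb : Conn m b :=
    (Conn.of_isIso _ _).comp (conn_map (Scheme.Modules.restrictFunctor V.ι) α₂ _ hα₂)
  let e' : rD.obj T.obj₂ ≅ Q.obj ((Rc V.ι).obj F) := rD.mapIso e ≪≫ rdQIso V.ι F
  have hg' : b ≫ e'.hom = Q.map ((Rc V.ι).map g) := by
    show ((rdQIso V.ι E₂).inv ≫ rD.map α₂) ≫ rD.map e.hom ≫ (rdQIso V.ι F).hom = _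
    have : rD.map α₂ ≫ rD.map e.hom = rD.map (Q.map g) := by
      rw [← Functor.map_comp, hg]
    rw [Category.assoc, ← Category.assoc (rD.map α₂), this, restrictD_map_Q V.ι g]
    simp only [rdQIso, Iso.app_inv, Iso.app_hom, Iso.inv_hom_id_app_assoc, Category.assoc,
      Iso.inv_hom_id_app]
    erw [Category.comp_id]
  have hγ' : a ≫ rD.map T.mor₁ ≫ e'.hom = Q.map γ := by
    show ((rdQIso V.ι E₁).inv ≫ rD.map α₁) ≫ rD.map T.mor₁ ≫ rD.map e.hom ≫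
      (rdQIso V.ι F).hom = _
    have : rD.map α₁ ≫ rD.map T.mor₁ ≫ rD.map e.hom = rD.map (α₁ ≫ T.mor₁ ≫ e.hom) := by
      rw [Functor.map_comp, Functor.map_comp]
    have h3 : ((rdQIso V.ι E₁).inv ≫ rD.map α₁) ≫ rD.map T.mor₁ ≫ rD.map e.hom ≫
        (rdQIso V.ι F).hom = (rdQIso V.ι E₁).inv ≫
          (rD.map α₁ ≫ rD.map T.mor₁ ≫ rD.map e.hom) ≫ (rdQIso V.ι F).hom := by
      simp only [Category.assoc]
    rw [h3, this, hγ]
    simp only [rdQIso, Iso.app_inv, Iso.app_hom, Iso.inv_hom_id_app_assoc, Category.assoc,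
      Iso.inv_hom_id_app]
    erw [Category.comp_id]
  obtain ⟨V', hyV', hV'⟩ := pcrep_obj₃_of_chain (rD.mapTriangle.obj T) hT' m
    (isStrictlyPerfect_rc V.ι E₁ hE₁)
    (fun j hj => (Scheme.Modules.restrictFunctor V.ι).map_isZero (hE₁z j hj))
    (isStrictlyPerfect_rc V.ι E₂ hE₂) a ha b hb e' ((Rc V.ι).map g) hg' γ hγ' ⟨y, hyV⟩
  exact ⟨V', V'.ι ≫ V.ι, inferInstance, ⟨⟨⟨y, hyV⟩, hyV'⟩, rfl⟩, PCRep.of_restrictD hV'⟩

/-- Stacks 20.47.4 (1): in a distinguished triangle `K → L → M →`, if `K` is `(m+1)`-pseudo-coherent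
and `L` is `m`-pseudo-coherent, then `M` is `m`-pseudo-coherent. -/
theorem isPC_obj₃ (T : Triangle (DCoh.D X)) (hT : T ∈ distTriang (DCoh.D X)) (m : ℤ)
    (h₁ : DCoh.IsPseudoCoherentD (m + 1) T.obj₁) (h₂ : DCoh.IsPseudoCoherentD m T.obj₂) :
    DCoh.IsPseudoCoherentD m T.obj₃ := by
  refine isPC_of_pcrep m _ (fun x => ?_)
  obtain ⟨V, hxV, ⟨E₁, α₁, hE₁, hα₁⟩, ⟨E₂, α₂, hE₂, hα₂⟩⟩ := exists_common_pcrep h₁ h₂ x
  let rD := DCoh.restrictD V.ι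
  have hT' : rD.mapTriangle.obj T ∈ distTriang _ := rD.map_distinguished T hT
  have hα₁' : Conn (m + 1) (Q.map (sigmaGEι E₁ (m + 1)) ≫ α₁) :=
    (conn_sigmaGEι E₁ (m + 1)).comp hα₁
  obtain ⟨W, j, hj, ⟨w, hw⟩, hW⟩ := pcrep_obj₃_local (rD.mapTriangle.obj T) hT' m
    (isStrictlyPerfect_sigmaGE E₁ hE₁ (m + 1)) (fun j hj => isZero_sigmaGE_X E₁ (m + 1) hj) hE₂
    (Q.map (sigmaGEι E₁ (m + 1)) ≫ α₁) hα₁' α₂ hα₂ ⟨x, hxV⟩
  refine ⟨W, j ≫ V.ι, inferInstance, ⟨w, ?_⟩, PCRep.of_restrictD hW⟩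
  show V.ι (j w) = x
  rw [hw]
  rfl

/-- pseudo-coherence is invariant under isomorphism -/
lemma isPC_of_iso {m : ℤ} {K K' : DCoh.D X} (e : K ≅ K') (h : DCoh.IsPseudoCoherentD m K) :
    DCoh.IsPseudoCoherentD m K' := by
  rw [isPC_iff_pcrep] at h ⊢
  intro x
  obtain ⟨V, hxV, hV⟩ := h x
  exact ⟨V, hxV, hV.of_iso e⟩

/-- pseudo-coherence is monotone in the index -/
lemma isPC_mono {m m' : ℤ} (hm : m ≤ m') {K : DCoh.D X} (h : DCoh.IsPseudoCoherentD m K) :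
    DCoh.IsPseudoCoherentD m' K := by
  rw [isPC_iff_pcrep] at h ⊢
  intro x
  obtain ⟨V, hxV, hV⟩ := h x
  exact ⟨V, hxV, hV.mono hm⟩

/-- pseudo-coherence and shifts -/
theorem isPC_shift (K : DCoh.D X) (m n m' : ℤ) (h : n + m' = m)
    (hK : DCoh.IsPseudoCoherentD m K) : DCoh.IsPseudoCoherentD m' (K⟦n⟧) := by
  rw [isPC_iff_pcrep] at hK ⊢
  intro x
  obtain ⟨V, hxV, E, α, hE, hα⟩ := hK x
  refine ⟨V, hxV, E⟦n⟧, (Q.commShiftIso n).hom.app E ≫ α⟦n⟧' ≫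
    (((DCoh.restrictD V.ι).commShiftIso n).app K).inv,
    Groth.Agent.Lib.Seat0.PerfTri.isStrictlyPerfect_shift E hE n, ?_⟩
  exact (Conn.of_isIso _ _).comp ((conn_shift α m n m' h hα).comp (Conn.of_isIso _ _))

/-- **S0889**: pseudo-coherence in distinguished triangles -/
theorem isPC_triangle (m : ℤ) (T : Triangle (DCoh.D X)) (hT : T ∈ distTriang (DCoh.D X)) :
    (DCoh.IsPseudoCoherentD (m + 1) T.obj₁ → DCoh.IsPseudoCoherentD m T.obj₂ →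
      DCoh.IsPseudoCoherentD m T.obj₃) ∧
    (DCoh.IsPseudoCoherentD m T.obj₁ → DCoh.IsPseudoCoherentD m T.obj₃ →
      DCoh.IsPseudoCoherentD m T.obj₂) ∧
    (DCoh.IsPseudoCoherentD (m + 1) T.obj₂ → DCoh.IsPseudoCoherentD m T.obj₃ →
      DCoh.IsPseudoCoherentD (m + 1) T.obj₁) := by
  have hT₁ := inv_rot_of_distTriang T hT
  have hT₂ := inv_rot_of_distTriang _ hT₁
  refine ⟨isPC_obj₃ T hT m, fun h₁ h₃ => ?_, fun h₂ h₃ => ?_⟩
  · exact isPC_obj₃ T.invRotate hT₁ m (isPC_shift T.obj₃ m (-1) (m + 1) (by omega) h₃) h₁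
  · exact isPC_obj₃ T.invRotate.invRotate hT₂ (m + 1)
      (isPC_shift T.obj₂ (m + 1) (-1) (m + 1 + 1) (by omega) h₂)
      (isPC_shift T.obj₃ m (-1) (m + 1) (by omega) h₃)

end Groth.Agent.Lib.Seat0.PCTri
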