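import Mathlib
import Groth.Agent.Lib.Seat0PCTri

/-!
# Pseudo-coherent objects of `D(O_X)`: locality, restriction, direct summands (Seat0)

* `PCRep.to_restrictD`, `isPC_restrict`, `isPC_of_local`: pseudo-coherence is local;
* `exists_isLE_of_isPC`: a pseudo-coherent object is locally bounded above;
* `isPC_of_isLE`: objects of `D^{≤ m-1}` are `m`-pseudo-coherent;
* `isPC_of_biprod` (S0888): direct summands of `m`-pseudo-coherent objects are `m`-pseudo-coherent.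
-/

set_option autoImplicit false
universe u
open CategoryTheory CategoryTheory.Limits AlgebraicGeometry Pretriangulated ZeroObject
attribute [local instance] HasDerivedCategory.standard

namespace Groth.Agent.Lib.Seat0.PCSummand

open DerivedCategory Groth.Agent.Lib.Seat0.LocLift Groth.Agent.Lib.Seat0.PerfLocal
  Groth.Agent.Lib.Seat0.LocRep Groth.Agent.Lib.Seat0.Cn Groth.Agent.Lib.Seat0.Trunc
  Groth.Agent.Lib.Seat0.PCLocal Groth.Agent.Lib.Seat0.PCTri

variable {X : Scheme.{u}}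

lemma PCRep.to_restrictD {m : ℤ} {W W' : Scheme.{u}} {j : W ⟶ X} [IsOpenImmersion j]
    {j' : W' ⟶ W} [IsOpenImmersion j'] {M : DCoh.D X}
    (h : PCRep m (j' ≫ j) M) : PCRep m j' ((DCoh.restrictD j).obj M) := by
  obtain ⟨E, α, hE, hα⟩ := h
  exact ⟨E, α ≫ (rdCompObjIso j' j M).hom, hE, hα.comp (Conn.of_isIso m _)⟩

/-- pseudo-coherence restricts along open immersions -/
theorem isPC_restrict {m : ℤ} {K : DCoh.D X} (h : DCoh.IsPseudoCoherentD m K)
    {W : Scheme.{u}} (j : W ⟶ X) [IsOpenImmersion j] :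
    DCoh.IsPseudoCoherentD m ((DCoh.restrictD j).obj K) := by
  refine isPC_of_pcrep m _ (fun w => ?_)
  obtain ⟨V₁, hx₁, hV₁⟩ := (isPC_iff_pcrep m K).1 h (j w)
  refine ⟨(j ⁻¹ᵁ V₁ : W.Opens), (j ⁻¹ᵁ V₁).ι, inferInstance, ⟨⟨w, hx₁⟩, rfl⟩, ?_⟩
  exact PCRep.to_restrictD ((hV₁.comp (j ∣_ V₁)).ofEq (morphismRestrict_ι j V₁))

/-- pseudo-coherence is local -/
theorem isPC_of_local {m : ℤ} {K : DCoh.D X}
    (h : ∀ x : X, ∃ V : X.Opens, x ∈ V ∧
      DCoh.IsPseudoCoherentD m ((DCoh.restrictD V.ι).obj K)) :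
    DCoh.IsPseudoCoherentD m K := by
  refine isPC_of_pcrep m _ (fun x => ?_)
  obtain ⟨V, hxV, hV⟩ := h x
  obtain ⟨V', hxV', hV'⟩ := (isPC_iff_pcrep m _).1 hV ⟨x, hxV⟩
  exact ⟨V', V'.ι ≫ V.ι, inferInstance, ⟨⟨⟨x, hxV⟩, hxV'⟩, rfl⟩, PCRep.of_restrictD hV'⟩

/-- the image in the derived category of a complex vanishing above `b` is `≤ b` -/
lemma isLE_Q_of_vanishes {Y : Scheme.{u}} (E : CochainComplex Y.Modules ℤ) (b : ℤ)
    (hv : ∀ i : ℤ, b < i → IsZero (E.X i)) : (Q.obj E).IsLE b := by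
  rw [DerivedCategory.isLE_Q_obj_iff, CochainComplex.isLE_iff]
  intro i hi
  exact HomologicalComplex.ExactAt.of_isZero (hv i hi)

/-- a pseudo-coherent object is locally bounded above -/
theorem exists_isLE_of_isPC {m : ℤ} {K : DCoh.D X} (h : DCoh.IsPseudoCoherentD m K) (x : X) :
    ∃ V : X.Opens, x ∈ V ∧ ∃ N : ℤ, ((DCoh.restrictD V.ι).obj K).IsLE N := by
  obtain ⟨V, hxV, E, α, ⟨⟨a, b, hv⟩, hfl⟩, hα⟩ := (isPC_iff_pcrep m K).1 h x
  refine ⟨V, hxV, max b (m - 1), ?_⟩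
  obtain ⟨Z, v, w, hT⟩ := distinguished_cocone_triangle α
  have hZ : Z.IsLE (m - 1) := (conn_iff_of_distTriang _ hT m).1 hα
  have hE : (Q.obj E).IsLE b := isLE_Q_of_vanishes E b (fun i hi => hv i (Or.inr hi))
  have h1 : (Q.obj E).IsLE (max b (m - 1)) :=
    (TStructure.t (C := (V : Scheme.{u}).Modules)).isLE_of_le _ b _ (le_max_left _ _)
  have h3 : Z.IsLE (max b (m - 1)) :=
    (TStructure.t (C := (V : Scheme.{u}).Modules)).isLE_of_le _ (m - 1) _ (le_max_right _ _)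
  exact (TStructure.t (C := (V : Scheme.{u}).Modules)).isLE₂ _ hT _ h1 h3

/-- objects of `D^{≤ m - 1}` are `m`-pseudo-coherent -/
theorem isPC_of_isLE {M : DCoh.D X} (m : ℤ) (h : M.IsLE (m - 1)) :
    DCoh.IsPseudoCoherentD m M := by
  rw [isPC_iff_pcrep]
  intro x
  have hz0 : ∀ i : ℤ, IsZero ((0 : CochainComplex ((⊤ : X.Opens) : Scheme.{u}).Modules ℤ).X i) :=
    fun i => (HomologicalComplex.eval _ _ i).map_isZero (Limits.isZero_zero _)
  refine ⟨⊤, trivial, 0, 0, ⟨⟨0, 0, fun i _ => hz0 i⟩,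
    fun i => Groth.Agent.Lib.Seat28.FLF.isFinLocFree_of_isZero _ (hz0 i)⟩, ?_⟩
  have hM : ((DCoh.restrictD (⊤ : X.Opens).ι).obj M).IsLE (m - 1) :=
    isLE_map (Scheme.Modules.restrictFunctor (⊤ : X.Opens).ι) M (m - 1) h
  obtain ⟨Z, v, w, hT⟩ := distinguished_cocone_triangle
    (0 : Q.obj (0 : CochainComplex ((⊤ : X.Opens) : Scheme.{u}).Modules ℤ) ⟶
      (DCoh.restrictD (⊤ : X.Opens).ι).obj M)
  refine (conn_iff_of_distTriang _ hT m).2 ?_
  have hz : IsZero (Q.obj (0 : CochainComplex ((⊤ : X.Opens) : Scheme.{u}).Modules ℤ)) :=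
    Q.map_isZero (Limits.isZero_zero _)
  have hiso : IsIso v := (Triangle.isZero₁_iff_isIso₂ _ hT).1 hz
  exact (TStructure.t (C := ((⊤ : X.Opens) : Scheme.{u}).Modules)).isLE_of_iso (asIso v) (m - 1)

/-- Two objects which are mutually "complementary" in a third, `m`-pseudo-coherent object, and
which are bounded above, are `m`-pseudo-coherent. -/
theorem isPC_of_triangles {A B S : DCoh.D X} (m N : ℤ)
    (i₁ : A ⟶ S) (p₁ : S ⟶ B) (δ₁ : B ⟶ A⟦(1 : ℤ)⟧) (h₁ : Triangle.mk i₁ p₁ δ₁ ∈ distTriang _)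
    (i₂ : B ⟶ S) (p₂ : S ⟶ A) (δ₂ : A ⟶ B⟦(1 : ℤ)⟧) (h₂ : Triangle.mk i₂ p₂ δ₂ ∈ distTriang _)
    (hS : DCoh.IsPseudoCoherentD m S) (hA : A.IsLE N) (hB : B.IsLE N) :
    DCoh.IsPseudoCoherentD m A ∧ DCoh.IsPseudoCoherentD m B := by
  have key : ∀ k : ℕ, m ≤ N + 1 - k →
      DCoh.IsPseudoCoherentD (N + 1 - k) A ∧ DCoh.IsPseudoCoherentD (N + 1 - k) B := by
    intro k
    induction k with
    | zero =>
      intro _
      have e : N + 1 - ((0 : ℕ) : ℤ) - 1 = N := by simp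
      exact ⟨isPC_of_isLE _ (by rw [e]; exact hA), isPC_of_isLE _ (by rw [e]; exact hB)⟩
    | succ k ih =>
      intro hk
      have hk' : m ≤ N + 1 - (k : ℤ) := by push_cast at hk; omega
      obtain ⟨ihA, ihB⟩ := ih hk'
      have e : N + 1 - (k : ℤ) = (N + 1 - ((k + 1 : ℕ) : ℤ)) + 1 := by push_cast; ring
      rw [e] at ihA ihB
      have hS' : DCoh.IsPseudoCoherentD (N + 1 - ((k + 1 : ℕ) : ℤ)) S := isPC_mono hk hS
      exact ⟨isPC_obj₃ _ h₂ _ ihB hS', isPC_obj₃ _ h₁ _ ihA hS'⟩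
  by_cases hmN : m ≤ N + 1
  · obtain ⟨k, hk⟩ : ∃ k : ℕ, N + 1 - (k : ℤ) = m := ⟨(N + 1 - m).toNat, by omega⟩
    have := key k (by omega)
    rw [hk] at this
    exact this
  · have hA' : A.IsLE (m - 1) :=
      (TStructure.t (C := X.Modules)).isLE_of_le _ N _ (by omega)
    have hB' : B.IsLE (m - 1) :=
      (TStructure.t (C := X.Modules)).isLE_of_le _ N _ (by omega)
    exact ⟨isPC_of_isLE m hA', isPC_of_isLE m hB'⟩

/-- a retract of an object of `D^{≤ N}` is in `D^{≤ N}` -/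
lemma isLE_of_retract {Y : Scheme.{u}} {A S : DCoh.D Y} (i : A ⟶ S) (p : S ⟶ A) (hip : i ≫ p = 𝟙 A)
    (N : ℤ) (hS : S.IsLE N) : A.IsLE N := by
  rw [DerivedCategory.isLE_iff] at hS ⊢
  intro k hk
  rw [IsZero.iff_id_eq_zero]
  have h1 : (homologyFunctor Y.Modules k).map i ≫ (homologyFunctor Y.Modules k).map p = 𝟙 _ := by
    rw [← Functor.map_comp, hip, CategoryTheory.Functor.map_id]
  rw [← h1, (hS k hk).eq_of_tgt ((homologyFunctor Y.Modules k).map i) 0, zero_comp]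

/-- the triangle `L → K ⊞ L → K → L[1]` is distinguished -/
lemma biprod_triangle₂_distinguished {C : Type*} [Category C] [Preadditive C] [HasZeroObject C]
    [HasShift C ℤ] [∀ n : ℤ, (shiftFunctor C n).Additive] [Pretriangulated C]
    (K L : C) [HasBinaryBiproduct K L] :
    Triangle.mk (biprod.inr : L ⟶ K ⊞ L) (biprod.fst : K ⊞ L ⟶ K) (0 : K ⟶ L⟦(1 : ℤ)⟧) ∈
      distTriang C := by
  haveI : HasBinaryBiproduct L K := inferInstance
  refine isomorphic_distinguished _ (binaryBiproductTriangle_distinguished L K) _ ?_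
  refine Triangle.isoMk _ _ (Iso.refl _) (biprod.braiding K L) (Iso.refl _) ?_ ?_ ?_
  · show biprod.inr ≫ biprod.lift biprod.snd biprod.fst = 𝟙 L ≫ biprod.inl
    rw [Category.id_comp]
    apply biprod.hom_ext <;> simp
  · show biprod.fst ≫ 𝟙 K = biprod.lift biprod.snd biprod.fst ≫ biprod.snd
    simp
  · show (0 : K ⟶ L⟦(1 : ℤ)⟧) ≫ (shiftFunctor C (1 : ℤ)).map (𝟙 L) = 𝟙 K ≫ 0
    simp

/-- **S0888**: direct summands of `m`-pseudo-coherent objects are `m`-pseudo-coherent -/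
theorem isPC_of_biprod (m : ℤ) (K L : DCoh.D X) [HasBinaryBiproduct K L]
    (h : DCoh.IsPseudoCoherentD m (K ⊞ L)) :
    DCoh.IsPseudoCoherentD m K ∧ DCoh.IsPseudoCoherentD m L := by
  have key : ∀ x : X, ∃ V : X.Opens, x ∈ V ∧
      DCoh.IsPseudoCoherentD m ((DCoh.restrictD V.ι).obj K) ∧
      DCoh.IsPseudoCoherentD m ((DCoh.restrictD V.ι).obj L) := by
    intro x
    obtain ⟨V, hxV, N, hN⟩ := exists_isLE_of_isPC h x
    refine ⟨V, hxV, ?_⟩
    let rD := DCoh.restrictD V.ι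
    have hS : DCoh.IsPseudoCoherentD m (rD.obj (K ⊞ L)) := isPC_restrict h V.ι
    have hA : (rD.obj K).IsLE N :=
      isLE_of_retract (rD.map biprod.inl) (rD.map biprod.fst)
        (by rw [← Functor.map_comp, biprod.inl_fst, CategoryTheory.Functor.map_id]) N hN
    have hB : (rD.obj L).IsLE N :=
      isLE_of_retract (rD.map biprod.inr) (rD.map biprod.snd)
        (by rw [← Functor.map_comp, biprod.inr_snd, CategoryTheory.Functor.map_id]) N hN
    have h₁ := rD.map_distinguished _ (binaryBiproductTriangle_distinguished K L)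
    have h₂ := rD.map_distinguished _ (biprod_triangle₂_distinguished K L)
    exact isPC_of_triangles m N _ _ _ h₁ _ _ _ h₂ hS hA hB
  constructor
  · refine isPC_of_local (fun x => ?_)
    obtain ⟨V, hxV, hV, -⟩ := key x
    exact ⟨V, hxV, hV⟩
  · refine isPC_of_local (fun x => ?_)
    obtain ⟨V, hxV, -, hV⟩ := key x
    exact ⟨V, hxV, hV⟩

end Groth.Agent.Lib.Seat0.PCSummand
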