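import Mathlib
import Groth.Prelude.Def_DCoh4
import Groth.Agent.Lib.Helper20LocFree
import Groth.Agent.Lib.Helper2LocFree
import Groth.Agent.Lib.Helper18Strict6
import Groth.Agent.Lib.Helper26ModSec
import Groth.Agent.Lib.Helper26ModRank
import Groth.Agent.Lib.Helper23QCohAbelian
set_option backward.isDefEq.respectTransparency.types false

/-!
# Kernels and cokernels of maps of finite locally free modules (seat 5)

* `nonempty_ΓUF_cokernel_iso`: sections over an affine open commute with cokernels of maps of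
  quasi-coherent modules.
* `isFinLocFree_of_isZero`: a zero module is finite locally free.
* `isFinLocFree_kernel_of_epi`: the kernel of an epimorphism of finite locally free modules is finite
  locally free.
-/

set_option autoImplicit false
set_option linter.style.haveILetI false

universe u

open CategoryTheory CategoryTheory.Limits AlgebraicGeometry Opposite TensorProduct

namespace Groth.Agent.Lib.Seat5.LocFreeKer

open Groth.Agent.Lib.Helper20.Thickening Groth.Agent.Lib.Helper20.LocFree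
  Groth.Agent.Lib.Helper23.QCohLocal
  Groth.Agent.Lib.Helper26.ModSec Groth.Agent.Lib.Helper26.ModRank
  Groth.Agent.Lib.Helper2.LocFree Groth.Agent.Helper18Strict

section spec

variable (R : CommRingCat.{u}) {A B : (Spec R).Modules} [A.IsQuasicoherent] [B.IsQuasicoherent]

/-- global sections on an affine scheme commute with cokernels of maps of quasi-coherent modules -/
theorem nonempty_ΓF_cokernel_iso (ψ : A ⟶ B) :
    Nonempty ((ΓF R).obj (cokernel ψ) ≅ cokernel ((ΓF R).map ψ)) := by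
  haveI : (tilde.functor R).IsLeftAdjoint := ⟨_, ⟨tildeΓAdj R⟩⟩
  haveI := isIso_εΓ R A
  haveI := isIso_εΓ R B
  let e1 : cokernel ((tilde.functor R).map ((ΓF R).map ψ)) ≅ cokernel ψ :=
    cokernel.mapIso _ _ (asIso ((εΓ R).app A)) (asIso ((εΓ R).app B)) ((εΓ R).naturality ψ)
  let e2 : (tilde.functor R).obj (cokernel ((ΓF R).map ψ)) ≅
      cokernel ((tilde.functor R).map ((ΓF R).map ψ)) :=
    PreservesCokernel.iso (tilde.functor R) ((ΓF R).map ψ)
  let e3 : cokernel ((ΓF R).map ψ) ≅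
      (ΓF R).obj ((tilde.functor R).obj (cokernel ((ΓF R).map ψ))) :=
    (tilde.toTildeΓNatIso (R := R)).app _
  exact ⟨((ΓF R).mapIso (e2 ≪≫ e1)).symm ≪≫ e3.symm⟩

end spec

section glob

variable {X : Scheme.{u}}

/-- sections over an affine open commute with cokernels of maps of quasi-coherent modules -/
theorem nonempty_ΓUF_cokernel_iso {A B : X.Modules} [A.IsQuasicoherent] [B.IsQuasicoherent]
    (ψ : A ⟶ B) {U : X.Opens} (hU : IsAffineOpen U) :
    Nonempty ((ΓUF hU).obj (cokernel ψ) ≅ cokernel ((ΓUF hU).map ψ)) := by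
  haveI : (A.restrict hU.fromSpec).IsQuasicoherent :=
    Scheme.Modules.isQuasicoherent_restrictFunctor hU.fromSpec A
  haveI : (B.restrict hU.fromSpec).IsQuasicoherent :=
    Scheme.Modules.isQuasicoherent_restrictFunctor hU.fromSpec B
  obtain ⟨e⟩ := nonempty_ΓF_cokernel_iso Γ(X, U)
    ((Scheme.Modules.restrictFunctor hU.fromSpec).map ψ)
  let e0 : (Scheme.Modules.restrictFunctor hU.fromSpec).obj (cokernel ψ) ≅
      cokernel ((Scheme.Modules.restrictFunctor hU.fromSpec).map ψ) :=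
    PreservesCokernel.iso (Scheme.Modules.restrictFunctor hU.fromSpec) ψ
  exact ⟨(ΓF Γ(X, U)).mapIso e0 ≪≫ e⟩

/-- a zero module is finite locally free -/
theorem isFinLocFree_of_isZero {M : X.Modules} (h : IsZero M) : FlatMod.IsFinLocFree M := by
  intro x
  refine ⟨⊤, 0, trivial, ⟨?_⟩⟩
  have h1 : IsZero (M.restrict (⊤ : X.Opens).ι) :=
    (Scheme.Modules.restrictFunctor (⊤ : X.Opens).ι).map_isZero h
  have h2 : IsZero (FlatMod.freeMod ((⊤ : X.Opens) : Scheme.{u}) 0) := by
    rw [IsZero.iff_id_eq_zero]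
    apply Sigma.hom_ext
    intro j
    exact Fin.elim0 j
  exact h1.iso h2

/-- the kernel of an epimorphism of finite locally free modules is finite locally free -/
theorem isFinLocFree_kernel_of_epi {F G : X.Modules} (ψ : F ⟶ G) [Epi ψ]
    (hF : FlatMod.IsFinLocFree F) (hG : FlatMod.IsFinLocFree G) :
    FlatMod.IsFinLocFree (kernel ψ) := by
  haveI : F.IsQuasicoherent := isQCoh_of_isFP F (isFP_of_isFinLocFree F hF)
  haveI : G.IsQuasicoherent := isQCoh_of_isFP G (isFP_of_isFinLocFree G hG)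
  haveI : (kernel ψ).IsQuasicoherent := isQuasicoherent_kernel ψ
  intro x
  obtain ⟨U₁, n₁, hx₁, ⟨e₁⟩⟩ := hF x
  obtain ⟨U₂, n₂, hx₂, ⟨e₂⟩⟩ := hG x
  obtain ⟨D, hD, hxD, hDU⟩ := exists_isAffineOpen_mem_and_subset (x := x) (U := U₁ ⊓ U₂) ⟨hx₁, hx₂⟩
  obtain ⟨b₁⟩ := nonempty_basis_of_restrict_iso F e₁ hD (hDU.trans inf_le_left)
  obtain ⟨b₂⟩ := nonempty_basis_of_restrict_iso G e₂ hD (hDU.trans inf_le_right)
  haveI : Module.Free Γ(X, D) ((ΓUF hD).obj F) := Module.Free.of_basis b₁
  haveI : Module.Finite Γ(X, D) ((ΓUF hD).obj F) := Module.Finite.of_basis b₁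
  haveI : Module.Free Γ(X, D) ((ΓUF hD).obj G) := Module.Free.of_basis b₂
  -- the kernel on sections
  haveI : (moduleSpecΓFunctor (R := Γ(X, D))).IsRightAdjoint := ⟨_, ⟨tilde.adjunction⟩⟩
  haveI : (Scheme.Modules.restrictFunctor hD.fromSpec).IsRightAdjoint :=
    Groth.Agent.Lib.Helper23.QCohLocal.restrictFunctor_isRightAdjoint hD.fromSpec
  let Ψ := (ΓUF hD).map ψ
  have hepi : Epi Ψ := epi_ΓUF_map ψ hD
  have hsurj : Function.Surjective Ψ.hom := (ModuleCat.epi_iff_surjective Ψ).1 hepi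
  let eK : (ΓUF hD).obj (kernel ψ) ≅ kernel Ψ := PreservesKernel.iso (ΓUF hD) ψ
  let eK' : (ΓUF hD).obj (kernel ψ) ≃ₗ[Γ(X, D)] LinearMap.ker Ψ.hom :=
    (eK ≪≫ ModuleCat.kernelIsoKer Ψ).toLinearEquiv
  -- the kernel is a direct summand
  obtain ⟨σ, hσ⟩ := Module.projective_lifting_property Ψ.hom LinearMap.id hsurj
  have hσ' : ∀ y, Ψ.hom (σ y) = y := fun y => LinearMap.congr_fun hσ y
  let p : (ΓUF hD).obj F →ₗ[Γ(X, D)] LinearMap.ker Ψ.hom :=
    LinearMap.codRestrict _ (LinearMap.id - σ ∘ₗ Ψ.hom) (fun y => by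
      simp [LinearMap.mem_ker, hσ'])
  have hp : p ∘ₗ (LinearMap.ker Ψ.hom).subtype = LinearMap.id := by
    ext ⟨y, hy⟩
    have hy' : Ψ.hom y = 0 := hy
    simp [p, hy']
  haveI : Module.Projective Γ(X, D) (LinearMap.ker Ψ.hom) :=
    Module.Projective.of_split _ _ hp
  haveI : Module.Finite Γ(X, D) (LinearMap.ker Ψ.hom) :=
    Module.Finite.of_surjective p (fun y => ⟨y.1, LinearMap.congr_fun hp y⟩)
  haveI : Module.Projective Γ(X, D) ((ΓUF hD).obj (kernel ψ)) :=
    Module.Projective.of_equiv eK'.symm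
  haveI : Module.Finite Γ(X, D) ((ΓUF hD).obj (kernel ψ)) := Module.Finite.equiv eK'.symm
  haveI : Module.FinitePresentation Γ(X, D) ((ΓUF hD).obj (kernel ψ)) :=
    Module.finitePresentation_of_projective _ _
  obtain ⟨D', m, hxD', -, hiso⟩ := exists_restrict_iso_freeMod (kernel ψ) hD x hxD
  exact ⟨D', m, hxD', hiso⟩

end glob

end Groth.Agent.Lib.Seat5.LocFreeKer
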