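import Mathlib
import Groth.Agent.Lib.Seat0PCSummand
import Groth.Agent.Lib.Seat5LocFreeKer
import Groth.Agent.Lib.Seat0FTLocal

/-!
# Top cohomology of pseudo-coherent objects (Seat0)

* `homologyMapDIso`: exact functors commute with the homology of the derived category;
* `isFinLocFree_kernel_d`: for a strictly perfect complex exact in degrees `> n`, the kernels of
  the differentials in degrees `≥ n` are finite locally free;
* `homologyIsoCokernel`: `H^n(E) ≅ coker (E^{n-1} ⟶ ker d^n)`.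
-/

set_option autoImplicit false
universe w v v' u u'
open CategoryTheory CategoryTheory.Limits

namespace Groth.Agent.Lib.Seat0.TopCoh

open DerivedCategory

section ExactFunctor

variable {C : Type u} [Category.{v} C] [Abelian C] [HasDerivedCategory.{w} C]
  {D : Type u'} [Category.{v'} D] [Abelian D] [HasDerivedCategory.{w} D]
  (F : C ⥤ D) [F.Additive] [PreservesFiniteLimits F] [PreservesFiniteColimits F]

/-- homology commutes with exact functors (chain level) -/
noncomputable def homologyMapCxIso (E : CochainComplex C ℤ) (n : ℤ) :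
    ((F.mapHomologicalComplex (ComplexShape.up ℤ)).obj E).homology n ≅ F.obj (E.homology n) :=
  ShortComplex.mapHomologyIso (E.sc n) F

/-- homology commutes with exact functors (derived level, objectwise) -/
noncomputable def homologyMapDIso (X : DerivedCategory C) (n : ℤ) :
    (homologyFunctor D n).obj (F.mapDerivedCategory.obj X) ≅
      F.obj ((homologyFunctor C n).obj X) :=
  (homologyFunctor D n).mapIso
      (F.mapDerivedCategory.mapIso (Q.objObjPreimageIso X).symm ≪≫
        F.mapDerivedCategoryFactors.app _) ≪≫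
    (homologyFunctorFactors D n).app _ ≪≫ homologyMapCxIso F _ n ≪≫
    F.mapIso (((homologyFunctorFactors C n).app _).symm ≪≫
      (homologyFunctor C n).mapIso (Q.objObjPreimageIso X))

end ExactFunctor

section Chain

variable {A : Type u} [Category.{v} A] [Abelian A] (E : CochainComplex A ℤ)

/-- the kernel of the differential `E^i ⟶ E^{i+1}` -/
noncomputable abbrev Z (i : ℤ) : A := kernel (E.d i (i + 1))

/-- the canonical map `E^{i-1} ⟶ Z^i` -/
noncomputable def toZ (i j : ℤ) : E.X i ⟶ Z E j :=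
  kernel.lift (E.d j (j + 1)) (E.d i j) (E.d_comp_d i j (j + 1))

@[reassoc (attr := simp)]
lemma toZ_ι (i j : ℤ) : toZ E i j ≫ kernel.ι (E.d j (j + 1)) = E.d i j :=
  kernel.lift_ι _ _ _

/-- `H^j(E)` is the cokernel of `E^{j-1} ⟶ Z^j` -/
noncomputable def homologyIsoCokernel (i j : ℤ) (hij : i + 1 = j) :
    E.homology j ≅ cokernel (toZ E i j) :=
  E.homologyIsoSc' i j (j + 1) (by simp [← hij]) (by simp) ≪≫
    (E.sc' i j (j + 1)).homologyIsoCokernelLift

/-- exactness at `j` means that `E^{j-1} ⟶ Z^j` is an epimorphism -/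
lemma exactAt_iff_epi_toZ (i j : ℤ) (hij : i + 1 = j) : E.ExactAt j ↔ Epi (toZ E i j) := by
  rw [E.exactAt_iff' i j (j + 1) (by simp [← hij]) (by simp),
    ShortComplex.exact_iff_epi_kernel_lift]
  rfl

/-- the kernel of `E^i ⟶ Z^{i+1}` is `Z^i` -/
noncomputable def kernelToZIso (i : ℤ) : kernel (toZ E i (i + 1)) ≅ Z E i :=
  (kernelCompMono (toZ E i (i + 1)) (kernel.ι (E.d (i + 1) (i + 1 + 1)))).symm ≪≫
    kernelIsoOfEq (toZ_ι E i (i + 1))

end Chain

section Scheme

open AlgebraicGeometry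

variable {Y : Scheme.{u}} (E : CochainComplex Y.Modules ℤ)

/-- For a strictly perfect complex exact in degrees `> n`, the kernels of the differentials in
degrees `≥ n` are finite locally free. -/
theorem isFinLocFree_Z (hE : DCoh.IsStrictlyPerfect E) (n : ℤ)
    (hex : ∀ i : ℤ, n < i → E.ExactAt i) (i : ℤ) (hi : n ≤ i) :
    FlatMod.IsFinLocFree (Z E i) := by
  obtain ⟨⟨a, b, hv⟩, hfl⟩ := hE
  -- descending induction, starting above `b`
  have key : ∀ k : ℕ, ∀ i : ℤ, n ≤ i → b + 1 - k ≤ i → FlatMod.IsFinLocFree (Z E i) := by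
    intro k
    induction k with
    | zero =>
      intro i _ hbi
      have hz : IsZero (E.X i) := hv i (Or.inr (by push_cast at hbi; omega))
      exact Groth.Agent.Lib.Seat28.FLF.isFinLocFree_of_isZero _
        (IsZero.of_mono (kernel.ι (E.d i (i + 1))) hz)
    | succ k ih =>
      intro i hni hbi
      have h1 : FlatMod.IsFinLocFree (Z E (i + 1)) :=
        ih (i + 1) (by omega) (by push_cast at hbi ⊢; omega)
      have hepi : Epi (toZ E i (i + 1)) :=
        (exactAt_iff_epi_toZ E i (i + 1) rfl).1 (hex (i + 1) (by omega))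
      have h2 : FlatMod.IsFinLocFree (kernel (toZ E i (i + 1))) :=
        Groth.Agent.Lib.Seat5.LocFreeKer.isFinLocFree_kernel_of_epi (toZ E i (i + 1)) (hfl i) h1
      exact Groth.Agent.Lib.Seat28.FLF.isFinLocFree_of_iso (kernelToZIso E i) h2
  obtain ⟨k, hk⟩ : ∃ k : ℕ, b + 1 - (k : ℤ) ≤ i := ⟨(b + 1 - i).toNat, by omega⟩
  exact key k i hi hk

end Scheme

section Assembly

open AlgebraicGeometry Groth.Agent.Lib.Seat0.Cn Groth.Agent.Lib.Seat0.PCLocal
  Groth.Agent.Lib.Seat0.FTLocal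

attribute [local instance] HasDerivedCategory.standard

variable {X : Scheme.{u}}

/-- restriction to an open commutes with the cohomology sheaves -/
noncomputable def restrictHDIso {W : Scheme.{u}} (j : W ⟶ X) [IsOpenImmersion j] (K : DCoh.D X)
    (n : ℤ) : DCoh.HD ((DCoh.restrictD j).obj K) n ≅ (DCoh.HD K n).restrict j :=
  homologyMapDIso (Scheme.Modules.restrictFunctor j) K n

/-- vanishing of the cohomology of `K` above `n` transfers to a local approximation -/
lemma exactAt_of_conn {W : Scheme.{u}} (j : W ⟶ X) [IsOpenImmersion j] {K : DCoh.D X}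
    {E : CochainComplex W.Modules ℤ} {m n : ℤ} (hmn : m ≤ n)
    (α : Q.obj E ⟶ (DCoh.restrictD j).obj K) (hα : Conn m α)
    (hK : ∀ i : ℤ, n < i → IsZero (DCoh.HD K i)) (i : ℤ) (hi : n < i) : E.ExactAt i := by
  rw [HomologicalComplex.exactAt_iff_isZero_homology]
  have h1 : IsZero (DCoh.HD ((DCoh.restrictD j).obj K) i) :=
    IsZero.of_iso ((Scheme.Modules.restrictFunctor j).map_isZero (hK i hi)) (restrictHDIso j K i)
  have h2 : IsIso ((homologyFunctor W.Modules i).map α) := hα.1 i (by omega)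
  have h3 : IsZero ((homologyFunctor W.Modules i).obj (Q.obj E)) :=
    IsZero.of_iso h1 (asIso ((homologyFunctor W.Modules i).map α))
  exact IsZero.of_iso h3 ((homologyFunctorFactors W.Modules i).app E).symm

/-- **S0890 (1)** -/
theorem isFT_top_cohomology (m : ℤ) (K : DCoh.D X) (hK : DCoh.IsPseudoCoherentD m K)
    (hv : ∀ i : ℤ, m < i → IsZero (DCoh.HD K i)) : CohB1.IsFT (DCoh.HD K m) := by
  refine isFT_of_local_epi _ (fun x => ?_)
  obtain ⟨V, hxV, E, α, hE, hα⟩ := (isPC_iff_pcrep m K).1 hK x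
  have hex := exactAt_of_conn V.ι le_rfl α hα hv
  have hZ : FlatMod.IsFinLocFree (Z E m) := isFinLocFree_Z E hE m hex m le_rfl
  obtain ⟨U, n, hxU, ⟨e⟩⟩ := hZ ⟨x, hxV⟩
  have hepi : Epi ((homologyFunctor (V : Scheme.{u}).Modules m).map α) := hα.2
  let p : Z E m ⟶ (DCoh.HD K m).restrict V.ι :=
    cokernel.π (toZ E (m - 1) m) ≫ (homologyIsoCokernel E (m - 1) m (by omega)).inv ≫
      ((homologyFunctorFactors (V : Scheme.{u}).Modules m).app E).inv ≫
      (homologyFunctor (V : Scheme.{u}).Modules m).map α ≫ (restrictHDIso V.ι K m).hom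
  have hp : Epi p := by
    dsimp only [p]
    infer_instance
  let π : FlatMod.freeMod (U : Scheme.{u}) n ⟶ (DCoh.HD K m).restrict (U.ι ≫ V.ι) :=
    e.inv ≫ (Scheme.Modules.restrictFunctor U.ι).map p ≫
      ((Scheme.Modules.restrictFunctorComp U.ι V.ι).app (DCoh.HD K m)).inv
  have hπ : Epi π := by
    have : Epi ((Scheme.Modules.restrictFunctor U.ι).map p) := inferInstance
    dsimp only [π]
    infer_instance
  exact ⟨U, U.ι ≫ V.ι, inferInstance, ⟨⟨⟨x, hxV⟩, hxU⟩, rfl⟩, n, π, hπ⟩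

/-- **S0890 (2)** -/
theorem isFP_top_cohomology (m : ℤ) (K : DCoh.D X) (hK : DCoh.IsPseudoCoherentD m K)
    (hv : ∀ i : ℤ, m + 1 < i → IsZero (DCoh.HD K i)) : CohB1.IsFP (DCoh.HD K (m + 1)) := by
  refine isFP_of_local_cokernel _ (fun x => ?_)
  obtain ⟨V, hxV, E, α, hE, hα⟩ := (isPC_iff_pcrep m K).1 hK x
  have hex := exactAt_of_conn V.ι (by omega : m ≤ m + 1) α hα hv
  have hZ : FlatMod.IsFinLocFree (Z E (m + 1)) := isFinLocFree_Z E hE (m + 1) hex (m + 1) le_rfl
  have hX : FlatMod.IsFinLocFree (E.X m) := hE.2 m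
  obtain ⟨U₁, a, hx₁, ⟨e₁⟩⟩ := hX ⟨x, hxV⟩
  obtain ⟨U₂, b, hx₂, ⟨e₂⟩⟩ := hZ ⟨x, hxV⟩
  let U : (V : Scheme.{u}).Opens := U₁ ⊓ U₂
  obtain ⟨ea⟩ := Groth.Agent.Lib.Seat28.FLF.nonempty_restrict_iso_freeMod_of_le (E.X m)
    (inf_le_left : U ≤ U₁) e₁
  obtain ⟨eb⟩ := Groth.Agent.Lib.Seat28.FLF.nonempty_restrict_iso_freeMod_of_le (Z E (m + 1))
    (inf_le_right : U ≤ U₂) e₂
  have hiso : IsIso ((homologyFunctor (V : Scheme.{u}).Modules (m + 1)).map α) :=
    hα.1 (m + 1) (by omega)
  let θ : cokernel (toZ E m (m + 1)) ≅ (DCoh.HD K (m + 1)).restrict V.ι :=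
    (homologyIsoCokernel E m (m + 1) rfl).symm ≪≫
      ((homologyFunctorFactors (V : Scheme.{u}).Modules (m + 1)).app E).symm ≪≫
      asIso ((homologyFunctor (V : Scheme.{u}).Modules (m + 1)).map α) ≪≫
      restrictHDIso V.ι K (m + 1)
  let R' := Scheme.Modules.restrictFunctor U.ι
  let f : FlatMod.freeMod (U : Scheme.{u}) a ⟶ FlatMod.freeMod (U : Scheme.{u}) b :=
    ea.inv ≫ R'.map (toZ E m (m + 1)) ≫ eb.hom
  have comm : f ≫ eb.symm.hom = ea.symm.hom ≫ R'.map (toZ E m (m + 1)) := by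
    show (ea.inv ≫ R'.map (toZ E m (m + 1)) ≫ eb.hom) ≫ eb.inv = ea.inv ≫ R'.map (toZ E m (m + 1))
    rw [Category.assoc, Category.assoc, Iso.hom_inv_id, Category.comp_id]
  let iso : cokernel f ≅ (DCoh.HD K (m + 1)).restrict (U.ι ≫ V.ι) :=
    cokernel.mapIso f (R'.map (toZ E m (m + 1))) ea.symm eb.symm comm ≪≫
      (PreservesCokernel.iso R' (toZ E m (m + 1))).symm ≪≫ R'.mapIso θ ≪≫
      ((Scheme.Modules.restrictFunctorComp U.ι V.ι).app (DCoh.HD K (m + 1))).symm
  exact ⟨U, U.ι ≫ V.ι, inferInstance, ⟨⟨⟨x, hxV⟩, ⟨hx₁, hx₂⟩⟩, rfl⟩, a, b, f, ⟨iso⟩⟩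

end Assembly

end Groth.Agent.Lib.Seat0.TopCoh
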