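import Mathlib
import Groth.Agent.Lib.Seat0TopCoh
import Groth.Agent.Lib.Helper1CI7
import Groth.Agent.Lib.Helper1Sky9
import Groth.Agent.Lib.Helper17PCoh10

/-!
# Flat amplitude + pseudo-coherence ⟹ perfect (Seat0)

* `cokernelIsoZ`: for a complex exact at `j` and `k = j + 1`, `coker (C^i ⟶ C^j) ≅ ker (C^k ⟶ C^{k+1})`;
* `coneCokernelIso`: in low degrees the mapping cone of `f : P ⟶ F` is `P[1]`;
* `isFlat_Z`: cycles of a bounded above complex with flat terms, exact above a degree, are flat;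
* `isPerfect_of_flatAmplitude` (S0913).
-/

set_option autoImplicit false
universe w v u
open CategoryTheory CategoryTheory.Limits

namespace Groth.Agent.Lib.Seat0.FlatPerf

open Groth.Agent.Lib.Seat0.TopCoh

section Abelian

variable {A : Type u} [Category.{v} A] [Abelian A] (C : CochainComplex A ℤ)

/-- the map `coker (C^i ⟶ C^j) ⟶ Z^k` induced by the differential -/
noncomputable def cokernelToZ (i j k : ℤ) : cokernel (C.d i j) ⟶ Z C k :=
  cokernel.desc (C.d i j) (toZ C j k) (by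
    rw [← cancel_mono (kernel.ι (C.d k (k + 1))), Category.assoc, toZ_ι, C.d_comp_d, zero_comp])

@[reassoc (attr := simp)]
lemma π_cokernelToZ (i j k : ℤ) : cokernel.π (C.d i j) ≫ cokernelToZ C i j k = toZ C j k :=
  cokernel.π_desc _ _ _

lemma isIso_cokernelToZ (i j k : ℤ) (hij : i + 1 = j) (hjk : j + 1 = k)
    (hj : C.ExactAt j) (hk : C.ExactAt k) : IsIso (cokernelToZ C i j k) := by
  have hepi : Epi (cokernelToZ C i j k) := by
    have h1 : Epi (toZ C j k) := (exactAt_iff_epi_toZ C j k hjk).1 hk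
    have h2 : Epi (cokernel.π (C.d i j) ≫ cokernelToZ C i j k) := by
      rw [π_cokernelToZ]
      exact h1
    exact epi_of_epi (cokernel.π (C.d i j)) _
  have hmono : Mono (cokernelToZ C i j k) := by
    have hS : (ShortComplex.mk (C.d i j) (C.d j k) (C.d_comp_d _ _ _)).Exact := by
      rw [C.exactAt_iff' i j k (by simp [← hij]) (by simp [← hjk])] at hj
      exact hj
    have h1 : Mono (cokernel.desc (C.d i j) (C.d j k) (C.d_comp_d _ _ _)) :=
      hS.mono_cokernelDesc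
    have h2 : cokernelToZ C i j k ≫ kernel.ι (C.d k (k + 1)) =
        cokernel.desc (C.d i j) (C.d j k) (C.d_comp_d _ _ _) := by
      rw [← cancel_epi (cokernel.π (C.d i j)), π_cokernelToZ_assoc, toZ_ι, cokernel.π_desc]
    have h3 : Mono (cokernelToZ C i j k ≫ kernel.ι (C.d k (k + 1))) := by
      rw [h2]
      exact h1
    exact mono_of_mono _ (kernel.ι (C.d k (k + 1)))
  exact isIso_of_mono_of_epi _

/-- for a complex exact at `j` and `k = j + 1`: `coker (C^i ⟶ C^j) ≅ ker (C^k ⟶ C^{k+1})` -/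
noncomputable def cokernelIsoZ (i j k : ℤ) (hij : i + 1 = j) (hjk : j + 1 = k)
    (hj : C.ExactAt j) (hk : C.ExactAt k) : cokernel (C.d i j) ≅ Z C k :=
  haveI := isIso_cokernelToZ C i j k hij hjk hj hk
  asIso (cokernelToZ C i j k)

end Abelian

section Cone

open CochainComplex

variable {A : Type u} [Category.{v} A] [Abelian A] {P F : CochainComplex A ℤ} (f : P ⟶ F)

/-- where `F` vanishes, the mapping cone of `f : P ⟶ F` is `P[1]` -/
noncomputable def coneXIso (p q : ℤ) (hpq : p + 1 = q) (hF : IsZero (F.X p)) :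
    (mappingCone f).X p ≅ P.X q where
  hom := (mappingCone.fst f).1.v p q hpq
  inv := (mappingCone.inl f).v q p (by omega)
  hom_inv_id := by
    have h := mappingCone.id_X f p q hpq
    have h0 : (mappingCone.snd f).v p p (add_zero p) = 0 := hF.eq_of_tgt _ _
    rw [h0, zero_comp, add_zero] at h
    exact h
  inv_hom_id := mappingCone.inl_v_fst_v f q p hpq

/-- in degrees where `F` vanishes, the cokernel of the differential of the cone of `f : P ⟶ F`
is the cokernel of the differential of `P` -/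
noncomputable def coneCokernelIso (i j k : ℤ) (hij : i + 1 = j) (hjk : j + 1 = k)
    (hFi : IsZero (F.X i)) (hFj : IsZero (F.X j)) :
    cokernel ((mappingCone f).d i j) ≅ cokernel (P.d j k) :=
  cokernel.mapIso _ _ (coneXIso f i j hij hFi)
    { hom := -(coneXIso f j k hjk hFj).hom
      inv := -(coneXIso f j k hjk hFj).inv
      hom_inv_id := by simp
      inv_hom_id := by simp } (by
    show (mappingCone f).d i j ≫ (-(mappingCone.fst f).1.v j k hjk) =
      (mappingCone.fst f).1.v i j hij ≫ P.d j k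
    rw [Preadditive.comp_neg, mappingCone.d_fst_v f i j k hij hjk, neg_neg])

end Cone

section Scheme

open AlgebraicGeometry Groth.Agent.Lib.Seat0.FTLocal Groth.Agent.Lib.Helper1.BKF
  Groth.Agent.Lib.Helper1.CI Groth.Agent.Lib.Helper21.ModTensor5

variable {Y : Scheme.{u}}

/-- cycles of a bounded above complex with flat terms, exact above degree `n`, are flat in
degrees `≥ n` -/
theorem isFlat_Z (C : CochainComplex Y.Modules ℤ) (n N : ℤ)
    (hfl : ∀ i : ℤ, n ≤ i → ModSite.IsFlat (O := Y.sheaf) (C.X i))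
    (hb : ∀ i : ℤ, N < i → IsZero (C.X i))
    (hex : ∀ i : ℤ, n < i → C.ExactAt i) (i : ℤ) (hi : n ≤ i) :
    ModSite.IsFlat (O := Y.sheaf) (show Y.Modules from Z C i) := by
  have key : ∀ k : ℕ, ∀ i : ℤ, n ≤ i → N + 1 - k ≤ i → ModSite.IsFlat (O := Y.sheaf) (show Y.Modules from Z C i) := by
    intro k
    induction k with
    | zero =>
      intro i _ hbi
      have hz : IsZero (C.X i) := hb i (by push_cast at hbi; omega)
      have hz' : IsZero (Z C i) := IsZero.of_mono (kernel.ι (C.d i (i + 1))) hz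
      exact Groth.Agent.Lib.Helper1.CI.isFlat_of_isZero Y.sheaf _ hz'
    | succ k ih =>
      intro i hni hbi
      have h1 : ModSite.IsFlat (O := Y.sheaf) (show Y.Modules from Z C (i + 1)) :=
        ih (i + 1) (by omega) (by push_cast at hbi ⊢; omega)
      exact isFlat_kernel_step Y.sheaf (C.d i (i + 1)) (C.d (i + 1) (i + 1 + 1))
        (C.d_comp_d _ _ _)
        (exact_sc_of_exactAt C i (i + 1) (i + 1 + 1) rfl rfl (hex (i + 1) (by omega)))
        (hfl i hni) h1
  obtain ⟨k, hk⟩ : ∃ k : ℕ, N + 1 - (k : ℤ) ≤ i := ⟨(N + 1 - i).toNat, by omega⟩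
  exact key k i hi hk

/-- the cokernel of a map of finite locally free modules is of finite presentation -/
theorem isFP_cokernel {M₁ M₂ : Y.Modules} (φ : M₁ ⟶ M₂) (h₁ : FlatMod.IsFinLocFree M₁)
    (h₂ : FlatMod.IsFinLocFree M₂) : CohB1.IsFP (cokernel φ) := by
  refine isFP_of_local_cokernel _ (fun x => ?_)
  obtain ⟨U₁, a, hx₁, ⟨e₁⟩⟩ := h₁ x
  obtain ⟨U₂, b, hx₂, ⟨e₂⟩⟩ := h₂ x
  let U : Y.Opens := U₁ ⊓ U₂
  obtain ⟨ea⟩ := Groth.Agent.Lib.Seat28.FLF.nonempty_restrict_iso_freeMod_of_le M₁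
    (inf_le_left : U ≤ U₁) e₁
  obtain ⟨eb⟩ := Groth.Agent.Lib.Seat28.FLF.nonempty_restrict_iso_freeMod_of_le M₂
    (inf_le_right : U ≤ U₂) e₂
  let R' := Scheme.Modules.restrictFunctor U.ι
  let f : FlatMod.freeMod (U : Scheme.{u}) a ⟶ FlatMod.freeMod (U : Scheme.{u}) b :=
    ea.inv ≫ R'.map φ ≫ eb.hom
  have comm : f ≫ eb.symm.hom = ea.symm.hom ≫ R'.map φ := by
    show (ea.inv ≫ R'.map φ ≫ eb.hom) ≫ eb.inv = ea.inv ≫ R'.map φ
    rw [Category.assoc, Category.assoc, Iso.hom_inv_id, Category.comp_id]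
  let iso : cokernel f ≅ (cokernel φ).restrict U.ι :=
    cokernel.mapIso f (R'.map φ) ea.symm eb.symm comm ≪≫ (PreservesCokernel.iso R' φ).symm
  exact ⟨U, U.ι, inferInstance, ⟨⟨x, ⟨hx₁, hx₂⟩⟩, rfl⟩, a, b, f, ⟨iso⟩⟩

/-- a flat module of finite presentation is finite locally free -/
theorem isFinLocFree_of_isFP_of_isFlat (M : Y.Modules) (hfp : CohB1.IsFP M)
    (hfl : FlatMod.IsFlat M) : FlatMod.IsFinLocFree M := by
  haveI : M.IsQuasicoherent := Groth.Agent.Helper18Strict.isQCoh_of_isFP M hfp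
  haveI : SheafOfModules.IsFinitePresentation (R := Y.ringCatSheaf) M := hfp
  intro x
  obtain ⟨D, m, hxD, h⟩ :=
    Groth.Agent.Lib.Helper2.LocFree.exists_restrict_iso_freeMod_of_isFlatAt M x (hfl x)
  exact ⟨D, m, hxD, h⟩

open DerivedCategory in
/-- **Key local statement**: if a strictly perfect complex `P` maps to a complex `F` of flat
modules vanishing outside `[a, b]` by a chain map which is an isomorphism on `H^i` for `i ≥ a` and
an epimorphism on `H^{a-1}`, then the canonical truncation `τ_{≥ a} P` is strictly perfect and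
quasi-isomorphic to `F`. -/
theorem strictlyPerfect_truncGE_of_flat [HasDerivedCategory.{w} Y.Modules]
    {P F : CochainComplex Y.Modules ℤ}
    (hP : DCoh.IsStrictlyPerfect P) (a b : ℤ) (hFv : DCoh.VanishesOutside F a b)
    (hFfl : ∀ i : ℤ, FlatMod.IsFlat (F.X i)) (f : P ⟶ F)
    (hf : ∀ i : ℤ, a - 1 < i → IsIso (HomologicalComplex.homologyMap f i))
    (hfa : Epi (HomologicalComplex.homologyMap f (a - 1))) :
    DCoh.IsStrictlyPerfect (P.truncGE a) ∧ Nonempty (Q.obj (P.truncGE a) ≅ Q.obj F) := by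
  obtain ⟨⟨aP, bP, hPv⟩, hPfl⟩ := hP
  let C := CochainComplex.mappingCone f
  have hCex : ∀ i : ℤ, a - 1 ≤ i → C.ExactAt i := fun i hi => by
    rw [HomologicalComplex.exactAt_iff_isZero_homology]
    exact Groth.Agent.Lib.Helper17.PCoh10.isZero_homology_mappingCone f (a - 1) ⟨hf, hfa⟩ i hi
  have hPflat : ∀ i : ℤ, ModSite.IsFlat (O := Y.sheaf) (P.X i) := fun i =>
    Groth.Agent.Lib.Helper1.StalkTensor.modSite_isFlat_of_isFlat _
      (Groth.Agent.Lib.Helper1.Sky.isFlat_of_isFinLocFree' _ (hPfl i))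
  have hFflat : ∀ i : ℤ, ModSite.IsFlat (O := Y.sheaf) (F.X i) := fun i =>
    Groth.Agent.Lib.Helper1.StalkTensor.modSite_isFlat_of_isFlat _ (hFfl i)
  have hCfl : ∀ i : ℤ, ModSite.IsFlat (O := Y.sheaf) (C.X i) := fun i =>
    isFlat_X_of_ses (O := Y.sheaf) _ _ _ (coneSES_shortExact f) i (hFflat i) (hPflat (i + 1))
  have hCb : ∀ i : ℤ, max b bP < i → IsZero (C.X i) := fun i hi =>
    IsZero.of_iso (hPv (i + 1) (Or.inr (by omega)))
      (coneXIso f i (i + 1) rfl (hFv i (Or.inr (by omega))))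
  have hZ : ModSite.IsFlat (O := Y.sheaf) (show Y.Modules from Z C a) :=
    isFlat_Z C a (max b bP) (fun i _ => hCfl i) hCb (fun i hi => hCex i (by omega)) a le_rfl
  let M : Y.Modules := cokernel (P.d (a - 1) a)
  let eM : M ≅ Z C a :=
    (coneCokernelIso f (a - 2) (a - 1) a (by omega) (by omega) (hFv _ (Or.inl (by omega)))
      (hFv _ (Or.inl (by omega)))).symm ≪≫
    cokernelIsoZ C (a - 2) (a - 1) a (by omega) (by omega) (hCex (a - 1) le_rfl)
      (hCex a (by omega))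
  have hMflat : FlatMod.IsFlat M :=
    Groth.Agent.Lib.Helper1.StalkTensor.isFlat_of_modSite_isFlat _
      (isFlat_of_iso Y.sheaf eM.symm hZ)
  have hMfp : CohB1.IsFP M := isFP_cokernel _ (hPfl (a - 1)) (hPfl a)
  have hMflf : FlatMod.IsFinLocFree M := isFinLocFree_of_isFP_of_isFlat M hMfp hMflat
  refine ⟨⟨⟨a, max a bP, fun i hi => ?_⟩, fun i => ?_⟩, ?_⟩
  · rcases hi with hi | hi
    · exact (P.truncGE a).isZero_of_isStrictlyGE a i hi
    · exact IsZero.of_iso (hPv i (Or.inr (by omega))) (P.truncGEXIso a i (by omega))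
  · obtain hi | rfl | hi := lt_trichotomy i a
    · exact Groth.Agent.Lib.Seat28.FLF.isFinLocFree_of_isZero _
        ((P.truncGE a).isZero_of_isStrictlyGE a i hi)
    · have e1 : cokernel (P.d (i - 1) i) ≅ P.opcycles i :=
        (colimit.isColimit _).coconePointUniqueUpToIso
          (P.opcyclesIsCokernel (i - 1) i (by simp))
      exact Groth.Agent.Lib.Seat28.FLF.isFinLocFree_of_iso
        ((P.truncGEXIsoOpcycles i).trans e1.symm).symm hMflf
    · exact Groth.Agent.Lib.Seat28.FLF.isFinLocFree_of_iso (P.truncGEXIso a i hi).symm (hPfl i)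
  · have hqi : QuasiIso (CochainComplex.truncGEMap f a) :=
      (CochainComplex.quasiIso_truncGEMap_iff f a).2 (fun i hi =>
        (quasiIsoAt_iff_isIso_homologyMap f i).2 (hf i (by omega)))
    haveI : F.IsStrictlyGE a :=
      (CochainComplex.isStrictlyGE_iff F a).2 (fun i hi => hFv i (Or.inl hi))
    have h1 : IsIso (Q.map (CochainComplex.truncGEMap f a)) :=
      (isIso_Q_map_iff_quasiIso _ _).2 hqi
    have h2 : IsIso (Q.map (F.πTruncGE a)) := inferInstance
    exact ⟨asIso (Q.map (CochainComplex.truncGEMap f a)) ≪≫ (asIso (Q.map (F.πTruncGE a))).symm⟩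

end Scheme

section Global

open AlgebraicGeometry DerivedCategory Groth.Agent.Lib.Seat0.Cn Groth.Agent.Lib.Seat0.PCLocal
  Groth.Agent.Lib.Seat0.PerfLocal Groth.Agent.Lib.Seat0.LocRep Groth.Agent.Lib.Seat0.Trunc
  Groth.Agent.Lib.Helper1.CI

attribute [local instance] HasDerivedCategory.standard

variable {X : Scheme.{u}}

/-- restriction along an open immersion preserves (stalkwise) flatness -/
lemma isFlat_restrict {W : Scheme.{u}} (j : W ⟶ X) [IsOpenImmersion j] (M : X.Modules)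
    (hM : FlatMod.IsFlat M) : FlatMod.IsFlat (M.restrict j) :=
  flatMod_isFlat_of_iso ((Scheme.Modules.restrictFunctorIsoPullback j).app M).symm
    (Groth.Agent.Lib.Helper1.Sky.isFlat_pullback j M hM)

/-- **S0913**: an object of `D(O_X)` represented by a complex of flat modules vanishing outside
`[a, b]` which is `(a-1)`-pseudo-coherent is perfect. -/
theorem isPerfect_of_flatAmplitude (E : DCoh.D X) (a b : ℤ)
    (h1 : DCoh.HasFlatAmplitudeIn a b E) (h2 : DCoh.IsPseudoCoherentD (a - 1) E) :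
    DCoh.IsPerfect E := by
  obtain ⟨F, hFv, hFfl, ⟨eF⟩⟩ := h1
  refine isPerfect_of_sprep _ (fun x => ?_)
  obtain ⟨V, hxV, P, α, hP, hα⟩ := (isPC_iff_pcrep (a - 1) E).1 h2 x
  let rD := DCoh.restrictD V.ι
  let FV := (Rc V.ι).obj F
  let eV : rD.obj E ≅ Q.obj FV := rD.mapIso eF.symm ≪≫ rdQIso V.ι F
  obtain ⟨V', hxV', hV'⟩ := exists_chainMap_rep hP (α ≫ eV.hom) ⟨x, hxV⟩
  obtain ⟨f, hf⟩ := hV'
  let rD' := DCoh.restrictD V'.ι
  have hconn : Conn (a - 1) (Q.map f) := by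
    have h : Q.map f =
        (Scheme.Modules.restrictFunctor V'.ι).mapDerivedCategoryFactors.inv.app P ≫
          rD'.map (α ≫ eV.hom) ≫
          (Scheme.Modules.restrictFunctor V'.ι).mapDerivedCategoryFactors.hom.app FV := by
      rw [hf]
      simp only [Category.assoc, Iso.inv_hom_id_app, Iso.inv_hom_id_app_assoc]
      erw [Category.comp_id]
    rw [h]
    exact (Conn.of_isIso _ _).comp
      ((conn_map (Scheme.Modules.restrictFunctor V'.ι) _ _
        (hα.comp (Conn.of_isIso _ _))).comp (Conn.of_isIso _ _))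
  obtain ⟨hfi, hfe⟩ := (conn_Q_map_iff f (a - 1)).1 hconn
  obtain ⟨hW, ⟨eW⟩⟩ := strictlyPerfect_truncGE_of_flat (isStrictlyPerfect_rc V'.ι P hP) a b
    (fun i hi => (Scheme.Modules.restrictFunctor V'.ι).map_isZero
      ((Scheme.Modules.restrictFunctor V.ι).map_isZero (hFv i hi)))
    (fun i => isFlat_restrict V'.ι _ (isFlat_restrict V.ι _ (hFfl i))) f hfi hfe
  exact ⟨V', V'.ι ≫ V.ι, inferInstance, ⟨⟨⟨x, hxV⟩, hxV'⟩, rfl⟩, _, hW,
    ⟨rdCompObjIso V'.ι V.ι E ≪≫ rD'.mapIso eV ≪≫ rdQIso V'.ι FV ≪≫ eW.symm⟩⟩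

/-- perfectness is local -/
theorem isPerfect_of_local (E : DCoh.D X)
    (h : ∀ x : X, ∃ V : X.Opens, x ∈ V ∧ DCoh.IsPerfect ((DCoh.restrictD V.ι).obj E)) :
    DCoh.IsPerfect E := by
  refine isPerfect_of_sprep _ (fun x => ?_)
  obtain ⟨V, hxV, hV⟩ := h x
  obtain ⟨V', hxV', P, hP, ⟨e⟩⟩ := (isPerfect_iff_sprep _).1 hV ⟨x, hxV⟩
  exact ⟨V', V'.ι ≫ V.ι, inferInstance, ⟨⟨⟨x, hxV⟩, hxV'⟩, rfl⟩, P, hP,
    ⟨rdCompObjIso V'.ι V.ι E ≪≫ e⟩⟩

/-- a perfect object is `m`-pseudo-coherent for every `m` -/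
theorem isPC_of_isPerfect (E : DCoh.D X) (hE : DCoh.IsPerfect E) (m : ℤ) :
    DCoh.IsPseudoCoherentD m E := by
  rw [isPC_iff_pcrep]
  intro x
  obtain ⟨V, hxV, P, hP, ⟨e⟩⟩ := (isPerfect_iff_sprep E).1 hE x
  exact ⟨V, hxV, P, e.inv, hP, Conn.of_isIso _ _⟩

/-- **S0914** -/
theorem isPerfect_iff_pc_locFiniteTorDim (E : DCoh.D X) :
    DCoh.IsPerfect E ↔ (∀ m : ℤ, DCoh.IsPseudoCoherentD m E) ∧ DCoh.LocHasFiniteTorDim E := by
  constructor
  · intro hE
    refine ⟨isPC_of_isPerfect E hE, fun x => ?_⟩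
    obtain ⟨V, hxV, P, ⟨⟨a, b, hPv⟩, hPfl⟩, ⟨e⟩⟩ := (isPerfect_iff_sprep E).1 hE x
    refine ⟨V, a, b, hxV, fun F' ⟨eF'⟩ => ⟨P, hPv,
      fun i => Groth.Agent.Lib.Helper1.Sky.isFlat_of_isFinLocFree' _ (hPfl i), ⟨?_⟩⟩⟩
    exact e.symm ≪≫ (DCoh.restrictD V.ι).mapIso eF'.symm ≪≫ rdQIso V.ι F'
  · rintro ⟨hpc, htor⟩
    refine isPerfect_of_local E (fun x => ?_)
    obtain ⟨V, a, b, hxV, hV⟩ := htor x
    refine ⟨V, hxV, ?_⟩
    obtain ⟨F, hFv, hFfl, ⟨eF⟩⟩ := hV (Q.objPreimage E) ⟨Q.objObjPreimageIso E⟩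
    have h1 : DCoh.HasFlatAmplitudeIn a b ((DCoh.restrictD V.ι).obj E) :=
      ⟨F, hFv, hFfl, ⟨eF ≪≫ (rdQIso V.ι _).symm ≪≫
        (DCoh.restrictD V.ι).mapIso (Q.objObjPreimageIso E)⟩⟩
    exact isPerfect_of_flatAmplitude _ a b h1
      (Groth.Agent.Lib.Seat0.PCSummand.isPC_restrict (hpc (a - 1)) V.ι)

end Global

end Groth.Agent.Lib.Seat0.FlatPerf
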