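import Mathlib
import Groth.Agent.Lib.Seat0FlatPerf
import Groth.Agent.Lib.Helper18Epi1

/-!
# Flatness and vanishing of `O_X`-modules are local (Seat0)

* `flat_of_flat_tensor_of_bijective`: flatness descends along a bijective ring map;
* `isFlatAt_of_restrict`, `isFlat_of_local`: (stalkwise) flatness can be checked after restriction
  along open immersions;
* `isZero_of_local`: vanishing of a module can be checked locally.
-/

set_option autoImplicit false
universe u
open CategoryTheory CategoryTheory.Limits AlgebraicGeometry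

namespace Groth.Agent.Lib.Seat0.FlatLocal

open Groth.Agent.Lib.Helper1.Sky

/-- flatness descends along a bijective ring map -/
lemma flat_of_flat_tensor_of_bijective {A B : Type u} [CommRing A] [CommRing B] [Algebra A B]
    (hb : Function.Bijective (algebraMap A B)) (N : Type u) [AddCommGroup N] [Module A N]
    (h : Module.Flat B (TensorProduct A B N)) : Module.Flat A N := by
  let e : A ≃ₗ[A] B := LinearEquiv.ofBijective (Algebra.linearMap A B) hb
  haveI : Module.Flat A B := Module.Flat.of_linearEquiv e.symm
  haveI : Module.Flat A (TensorProduct A B N) := Module.Flat.trans A B _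
  let e2 : N ≃ₗ[A] TensorProduct A B N :=
    (TensorProduct.lid A N).symm ≪≫ₗ TensorProduct.congr e (LinearEquiv.refl A N)
  exact Module.Flat.of_linearEquiv e2

variable {X : Scheme.{u}}

/-- flatness at a point can be checked after restriction along an open immersion -/
lemma isFlatAt_of_restrict {W : Scheme.{u}} (j : W ⟶ X) [IsOpenImmersion j] (M : X.Modules)
    (w : W) (h : FlatMod.IsFlatAt (M.restrict j) w) : FlatMod.IsFlatAt M (j w) := by
  have h0 : Module.Flat (Ox w) ((stalkFun w).obj ((Scheme.Modules.restrictFunctor j).obj M)) := h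
  have e0 := ((stalkFun w).mapIso ((Scheme.Modules.restrictFunctorIsoPullback j).app M)).toLinearEquiv
  have h1 : Module.Flat (Ox w) ((stalkFun w).obj ((Scheme.Modules.pullback j).obj M)) :=
    @Module.Flat.of_linearEquiv _ _ _ _ _ _ _ _ h0 e0.symm
  have e1 := ((stalkPullbackIso j w).app M).toLinearEquiv
  have h2 : Module.Flat (Ox w) ((ModuleCat.extendScalars.{u, u, u} (j.stalkMap w).hom).obj
      ((stalkFun (j w)).obj M)) :=
    @Module.Flat.of_linearEquiv _ _ _ _ _ _ _ _ h1 e1.symm
  letI : Algebra (Ox (j w)) (Ox w) := (j.stalkMap w).hom.toAlgebra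
  have hb : Function.Bijective (algebraMap (Ox (j w)) (Ox w)) :=
    ConcreteCategory.bijective_of_isIso (j.stalkMap w)
  have h3 : Module.Flat (Ox w) (TensorProduct (Ox (j w)) (Ox w) ((stalkFun (j w)).obj M)) := h2
  exact flat_of_flat_tensor_of_bijective hb _ h3

/-- flatness is local -/
theorem isFlat_of_local (M : X.Modules)
    (h : ∀ x : X, ∃ (W : Scheme.{u}) (j : W ⟶ X) (_ : IsOpenImmersion j),
      x ∈ Set.range j ∧ FlatMod.IsFlat (M.restrict j)) : FlatMod.IsFlat M := by
  intro x
  obtain ⟨W, j, hj, ⟨w, rfl⟩, hM⟩ := h x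
  exact isFlatAt_of_restrict j M w (hM w)

/-- vanishing of a module is local -/
theorem isZero_of_local (M : X.Modules)
    (h : ∀ x : X, ∃ (W : Scheme.{u}) (j : W ⟶ X) (_ : IsOpenImmersion j),
      x ∈ Set.range j ∧ IsZero (M.restrict j)) : IsZero M := by
  rw [Groth.Agent.Helper18Epi.isZero_iff_subsingleton_stalk]
  intro x
  obtain ⟨W, j, hj, ⟨w, rfl⟩, hM⟩ := h x
  have h1 := (Groth.Agent.Helper18Epi.isZero_iff_subsingleton_stalk _).1 hM w
  have e := (Scheme.Modules.restrictStalkNatIso j w).app M
  exact @Equiv.subsingleton _ _ e.symm.addCommGroupIsoToAddEquiv.toEquiv h1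
end Groth.Agent.Lib.Seat0.FlatLocal
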