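import Mathlib
import Groth.Agent.Lib.Seat0FlatPerf
import Groth.Agent.Lib.Seat0PCSummand
import Groth.Agent.Lib.Seat0PerfTri

/-!
# Perfectness passes to direct summands in `D(O_X)` (Seat0)

* `conn_biprod_map`: a biproduct of `m`-connected morphisms is `m`-connected;
* `nonempty_truncGE_iso`: if `α : Q(P) ⟶ K` is `(a-1)`-connected and `K ∈ D^{≥ a}` then
  `Q(τ_{≥ a} P) ≅ K`;
* `isStrictlyPerfect_truncGE`: `τ_{≥ a} P` is strictly perfect as soon as `P` is and
  `coker (P^{a-1} ⟶ P^a)` is finite locally free;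
* `isFlat_of_retract`, `isFinLocFree_of_retract`;
* `isPerfect_of_biprod` (S0924).
-/

set_option autoImplicit false
universe w v u
open CategoryTheory CategoryTheory.Limits

namespace Groth.Agent.Lib.Seat0.PerfSummand

open Groth.Agent.Lib.Seat0.Cn Groth.Agent.Lib.Seat0.Trunc Groth.Agent.Lib.Seat0.TopCoh

section Additive

variable {C D : Type*} [Category C] [Category D] [Preadditive C] [Preadditive D]

/-- additive functors preserve binary biproducts -/
lemma preservesBinaryBiproduct_of_additive (F : C ⥤ D) [F.Additive] (X Y : C) :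
    PreservesBinaryBiproduct X Y F :=
  haveI : PreservesBinaryBiproducts F := preservesBinaryBiproducts_of_preservesBiproducts F
  inferInstance

end Additive

section Abelian

open DerivedCategory

variable {C : Type u} [Category.{v} C] [Abelian C] [HasDerivedCategory.{w} C]

/-- a biproduct of `m`-connected morphisms is `m`-connected -/
lemma conn_biprod_map {X₁ X₂ Y₁ Y₂ : DerivedCategory C} (f : X₁ ⟶ Y₁) (g : X₂ ⟶ Y₂) (m : ℤ)
    (hf : Conn m f) (hg : Conn m g) : Conn m (biprod.map f g) := by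
  haveI : ∀ (i : ℤ) (A B : DerivedCategory C), PreservesBinaryBiproduct A B (homologyFunctor C i) :=
    fun i A B => preservesBinaryBiproduct_of_additive _ A B
  have key : ∀ i : ℤ, (homologyFunctor C i).map (biprod.map f g) =
      ((homologyFunctor C i).mapBiprod X₁ X₂).hom ≫
        biprod.map ((homologyFunctor C i).map f) ((homologyFunctor C i).map g) ≫
        ((homologyFunctor C i).mapBiprod Y₁ Y₂).inv := by
    intro i
    rw [← Category.assoc, Iso.eq_comp_inv]
    apply biprod.hom_ext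
    · simp only [Functor.mapBiprod_hom, Category.assoc, biprod.lift_fst, biprod.map_fst,
        biprod.lift_fst_assoc]
      rw [← Functor.map_comp, biprod.map_fst, Functor.map_comp]
    · simp only [Functor.mapBiprod_hom, Category.assoc, biprod.lift_snd, biprod.map_snd,
        biprod.lift_snd_assoc]
      rw [← Functor.map_comp, biprod.map_snd, Functor.map_comp]
  refine ⟨fun i hi => ?_, ?_⟩
  · rw [key]
    haveI := hf.1 i hi
    haveI := hg.1 i hi
    haveI : IsIso (biprod.map ((homologyFunctor C i).map f) ((homologyFunctor C i).map g)) :=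
      (biprod.mapIso (asIso ((homologyFunctor C i).map f))
        (asIso ((homologyFunctor C i).map g))).isIso_hom
    infer_instance
  · rw [key]
    haveI := hf.2
    haveI := hg.2
    infer_instance

/-- a retract of an object of `D^{≥ N}` is in `D^{≥ N}` -/
lemma isGE_of_retract {A S : DerivedCategory C} (i : A ⟶ S) (p : S ⟶ A) (hip : i ≫ p = 𝟙 A)
    (N : ℤ) (hS : S.IsGE N) : A.IsGE N := by
  rw [DerivedCategory.isGE_iff] at hS ⊢
  intro k hk
  rw [IsZero.iff_id_eq_zero]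
  have h1 : (homologyFunctor C k).map i ≫ (homologyFunctor C k).map p = 𝟙 _ := by
    rw [← Functor.map_comp, hip, CategoryTheory.Functor.map_id]
  rw [← h1, (hS k hk).eq_of_tgt ((homologyFunctor C k).map i) 0, zero_comp]

/-- a complex vanishing below `a` lies in `D^{≥ a}` -/
lemma isGE_Q_of_vanishes (E : CochainComplex C ℤ) (a : ℤ)
    (hv : ∀ i : ℤ, i < a → IsZero (E.X i)) : (Q.obj E).IsGE a := by
  rw [DerivedCategory.isGE_Q_obj_iff, CochainComplex.isGE_iff]
  intro i hi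
  exact HomologicalComplex.ExactAt.of_isZero (hv i hi)

/-- if `α : Q(P) ⟶ K` is `(a-1)`-connected and `K ∈ D^{≥ a}`, then `Q(τ_{≥ a} P) ≅ K` -/
theorem nonempty_truncGE_iso (P : CochainComplex C ℤ) (K : DerivedCategory C) (a : ℤ)
    (α : Q.obj P ⟶ K) (hα : Conn (a - 1) α) (hK : K.IsGE a) :
    Nonempty (Q.obj (P.truncGE a) ≅ K) := by
  let F := Q.objPreimage K
  let e : Q.obj F ≅ K := Q.objObjPreimageIso K
  obtain ⟨F', g, s, hs, hfac⟩ := left_fac (α ≫ e.inv)
  haveI : IsIso (Q.map s) := hs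
  let e' : Q.obj F' ≅ K := (asIso (Q.map s)).symm ≪≫ e
  have hF' : (Q.obj F').IsGE a := DerivedCategory.TStructure.t.isGE_of_iso e'.symm a
  haveI : F'.IsGE a := (isGE_Q_obj_iff F' a).1 hF'
  have hg : Q.map g = α ≫ e'.inv := by
    have h2 : α ≫ e.inv ≫ Q.map s = Q.map g := by
      rw [← Category.assoc, hfac, Category.assoc, IsIso.inv_hom_id, Category.comp_id]
    rw [← h2]
    simp [e']
  have hconn : Conn (a - 1) (Q.map g) := by
    rw [hg]
    exact hα.comp (Conn.of_isIso _ _)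
  obtain ⟨hgi, -⟩ := (conn_Q_map_iff g (a - 1)).1 hconn
  have hqi : QuasiIso (CochainComplex.truncGEMap g a) :=
    (CochainComplex.quasiIso_truncGEMap_iff g a).2 (fun i hi =>
      (quasiIsoAt_iff_isIso_homologyMap g i).2 (hgi i (by omega)))
  have h1 : IsIso (Q.map (CochainComplex.truncGEMap g a)) := (isIso_Q_map_iff_quasiIso _ _).2 hqi
  have h2 : IsIso (Q.map (F'.πTruncGE a)) := inferInstance
  exact ⟨asIso (Q.map (CochainComplex.truncGEMap g a)) ≪≫
    (asIso (Q.map (F'.πTruncGE a))).symm ≪≫ e'⟩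

end Abelian

section Scheme

open AlgebraicGeometry

variable {Y : Scheme.{u}}

/-- `τ_{≥ a} P` is strictly perfect as soon as `P` is and `coker (P^{a-1} ⟶ P^a)` is finite
locally free -/
theorem isStrictlyPerfect_truncGE {P : CochainComplex Y.Modules ℤ}
    (hP : DCoh.IsStrictlyPerfect P) (a : ℤ) (h : FlatMod.IsFinLocFree (P.opcycles a)) :
    DCoh.IsStrictlyPerfect (P.truncGE a) := by
  obtain ⟨⟨aP, bP, hPv⟩, hPfl⟩ := hP
  refine ⟨⟨a, max a bP, fun i hi => ?_⟩, fun i => ?_⟩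
  · rcases hi with hi | hi
    · exact (P.truncGE a).isZero_of_isStrictlyGE a i hi
    · exact IsZero.of_iso (hPv i (Or.inr (by omega))) (P.truncGEXIso a i (by omega))
  · obtain hi | rfl | hi := lt_trichotomy i a
    · exact Groth.Agent.Lib.Seat28.FLF.isFinLocFree_of_isZero _
        ((P.truncGE a).isZero_of_isStrictlyGE a i hi)
    · exact Groth.Agent.Lib.Seat28.FLF.isFinLocFree_of_iso (P.truncGEXIsoOpcycles i).symm h
    · exact Groth.Agent.Lib.Seat28.FLF.isFinLocFree_of_iso (P.truncGEXIso a i hi).symm (hPfl i)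

/-- a retract of a (stalkwise) flat module is flat -/
lemma isFlat_of_retract {M N : Y.Modules} (i : M ⟶ N) (p : N ⟶ M) (hip : i ≫ p = 𝟙 M)
    (hN : FlatMod.IsFlat N) : FlatMod.IsFlat M := by
  intro x
  have h1 : Module.Flat (Groth.Agent.Lib.Helper1.Sky.Ox x)
      ((Groth.Agent.Lib.Helper1.Sky.stalkFun x).obj N) := hN x
  have h2 : (Groth.Agent.Lib.Helper1.Sky.stalkFun x).map i ≫
      (Groth.Agent.Lib.Helper1.Sky.stalkFun x).map p = 𝟙 _ := by
    rw [← Functor.map_comp, hip, CategoryTheory.Functor.map_id]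
  have h3 : Module.Flat (Groth.Agent.Lib.Helper1.Sky.Ox x)
      ((Groth.Agent.Lib.Helper1.Sky.stalkFun x).obj M) :=
    Module.Flat.of_retract ((Groth.Agent.Lib.Helper1.Sky.stalkFun x).map i).hom
      ((Groth.Agent.Lib.Helper1.Sky.stalkFun x).map p).hom (by
        rw [← ModuleCat.hom_comp, h2]
        rfl)
  exact h3

/-- a finitely presented retract of a finite locally free module is finite locally free -/
theorem isFinLocFree_of_retract {M N : Y.Modules} (i : M ⟶ N) (p : N ⟶ M) (hip : i ≫ p = 𝟙 M)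
    (hN : FlatMod.IsFinLocFree N) (hM : CohB1.IsFP M) : FlatMod.IsFinLocFree M :=
  Groth.Agent.Lib.Seat0.FlatPerf.isFinLocFree_of_isFP_of_isFlat M hM
    (isFlat_of_retract i p hip (Groth.Agent.Lib.Helper1.Sky.isFlat_of_isFinLocFree' _ hN))

/-- the biproduct of two strictly perfect complexes is strictly perfect -/
lemma isStrictlyPerfect_biprod {P₁ P₂ : CochainComplex Y.Modules ℤ}
    (h₁ : DCoh.IsStrictlyPerfect P₁) (h₂ : DCoh.IsStrictlyPerfect P₂) :
    DCoh.IsStrictlyPerfect (P₁ ⊞ P₂) := by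
  obtain ⟨⟨a₁, b₁, hv₁⟩, hf₁⟩ := h₁
  obtain ⟨⟨a₂, b₂, hv₂⟩, hf₂⟩ := h₂
  refine ⟨⟨min a₁ a₂, max b₁ b₂, fun i hi => ?_⟩, fun i => ?_⟩
  · have z1 : IsZero (P₁.X i) := hv₁ i (by omega)
    have z2 : IsZero (P₂.X i) := hv₂ i (by omega)
    refine IsZero.of_iso ?_ (HomologicalComplex.biprodXIso P₁ P₂ i)
    rw [IsZero.iff_id_eq_zero]
    apply biprod.hom_ext
    · exact z1.eq_of_tgt _ _
    · exact z2.eq_of_tgt _ _
  · exact Groth.Agent.Lib.Seat28.FLF.isFinLocFree_of_iso (HomologicalComplex.biprodXIso P₁ P₂ i).symm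
      (Groth.Agent.Lib.Seat28.FLF.isFinLocFree_biprod _ _ (hf₁ i) (hf₂ i))

/-- the opcycles of a strictly perfect complex are finite locally free as soon as they are a
retract of a finite locally free module -/
lemma isFinLocFree_opcycles_of_retract {P : CochainComplex Y.Modules ℤ}
    (hP : DCoh.IsStrictlyPerfect P) (a : ℤ) {N : Y.Modules} (i : P.opcycles a ⟶ N)
    (p : N ⟶ P.opcycles a) (hip : i ≫ p = 𝟙 _) (hN : FlatMod.IsFinLocFree N) :
    FlatMod.IsFinLocFree (P.opcycles a) := by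
  have e1 : cokernel (P.d (a - 1) a) ≅ P.opcycles a :=
    (colimit.isColimit _).coconePointUniqueUpToIso (P.opcyclesIsCokernel (a - 1) a (by simp))
  have h := Groth.Agent.Lib.Seat0.FlatPerf.isFP_cokernel (P.d (a - 1) a) (hP.2 (a - 1)) (hP.2 a)
  have h2 := isFinLocFree_of_retract (e1.hom ≫ i) (p ≫ e1.inv) (by
    rw [Category.assoc, reassoc_of% hip, Iso.hom_inv_id]) hN h
  exact Groth.Agent.Lib.Seat28.FLF.isFinLocFree_of_iso e1 h2

end Scheme

section Global

open AlgebraicGeometry DerivedCategory Groth.Agent.Lib.Seat0.PCLocal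
  Groth.Agent.Lib.Seat0.PerfLocal Groth.Agent.Lib.Seat0.LocRep Groth.Agent.Lib.Seat0.FlatPerf
  Groth.Agent.Lib.Seat0.PCSummand

attribute [local instance] HasDerivedCategory.standard

variable {X : Scheme.{u}}

/-- restriction along an open immersion commutes with binary biproducts in `D(O_X)` -/
noncomputable def rdBiprodIso {W : Scheme.{u}} (j : W ⟶ X) [IsOpenImmersion j] (K L : DCoh.D X)
    [HasBinaryBiproduct K L] :
    (DCoh.restrictD j).obj K ⊞ (DCoh.restrictD j).obj L ≅ (DCoh.restrictD j).obj (K ⊞ L) :=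
  haveI := preservesBinaryBiproduct_of_additive (DCoh.restrictD j) K L
  ((DCoh.restrictD j).mapBiprod K L).symm

/-- **Basic local statement**: if `K' ⊞ L' ≅ Q(G)` with `G` finite locally free in `[a, b]` and
`K'`, `L'` receive `(a-1)`-connected maps from strictly perfect complexes, then `K'` is locally
represented by a strictly perfect complex. -/
theorem sprep_of_summand_aux {K' L' : DCoh.D X} {G P₁ P₂ : CochainComplex X.Modules ℤ} (a b : ℤ)
    (hGv : DCoh.VanishesOutside G a b) (hGfl : ∀ i : ℤ, FlatMod.IsFinLocFree (G.X i))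
    (e : K' ⊞ L' ≅ Q.obj G)
    (hP₁ : DCoh.IsStrictlyPerfect P₁) (hP₂ : DCoh.IsStrictlyPerfect P₂)
    (α₁ : Q.obj P₁ ⟶ K') (α₂ : Q.obj P₂ ⟶ L') (h₁ : Conn (a - 1) α₁) (h₂ : Conn (a - 1) α₂)
    (x : X) : ∃ V : X.Opens, x ∈ V ∧ SPRep V.ι K' := by
  let P := P₁ ⊞ P₂
  have hP : DCoh.IsStrictlyPerfect P := isStrictlyPerfect_biprod hP₁ hP₂
  haveI : PreservesBinaryBiproduct P₁ P₂ (Q : _ ⥤ DerivedCategory X.Modules) :=
    preservesBinaryBiproduct_of_additive _ _ _
  let γ : Q.obj P ⟶ Q.obj G := (Q.mapBiprod P₁ P₂).hom ≫ biprod.map α₁ α₂ ≫ e.hom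
  have hγ : Conn (a - 1) γ :=
    (Conn.of_isIso _ _).comp ((conn_biprod_map α₁ α₂ _ h₁ h₂).comp (Conn.of_isIso _ _))
  obtain ⟨V, hxV, hV⟩ := exists_chainMap_rep hP γ x
  obtain ⟨β, hβ⟩ := hV
  let rD := DCoh.restrictD V.ι
  have hconn : Conn (a - 1) (Q.map β) := by
    have h : Q.map β =
        (Scheme.Modules.restrictFunctor V.ι).mapDerivedCategoryFactors.inv.app P ≫
          rD.map γ ≫
          (Scheme.Modules.restrictFunctor V.ι).mapDerivedCategoryFactors.hom.app G := by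
      rw [hβ]
      simp only [Category.assoc, Iso.inv_hom_id_app, Iso.inv_hom_id_app_assoc]
      erw [Category.comp_id]
    rw [h]
    exact (Conn.of_isIso _ _).comp
      ((conn_map (Scheme.Modules.restrictFunctor V.ι) _ _ hγ).comp (Conn.of_isIso _ _))
  obtain ⟨hfi, hfe⟩ := (conn_Q_map_iff β (a - 1)).1 hconn
  obtain ⟨hW, -⟩ := strictlyPerfect_truncGE_of_flat (isStrictlyPerfect_rc V.ι P hP) a b
    (fun i hi => (Scheme.Modules.restrictFunctor V.ι).map_isZero (hGv i hi))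
    (fun i => isFlat_restrict V.ι _
      (Groth.Agent.Lib.Helper1.Sky.isFlat_of_isFinLocFree' _ (hGfl i))) β hfi hfe
  have hN : FlatMod.IsFinLocFree (((Rc V.ι).obj P).opcycles a) :=
    Groth.Agent.Lib.Seat28.FLF.isFinLocFree_of_iso (((Rc V.ι).obj P).truncGEXIsoOpcycles a)
      (hW.2 a)
  let i₁ : (Rc V.ι).obj P₁ ⟶ (Rc V.ι).obj P := (Rc V.ι).map biprod.inl
  let p₁ : (Rc V.ι).obj P ⟶ (Rc V.ι).obj P₁ := (Rc V.ι).map biprod.fst
  have hip : i₁ ≫ p₁ = 𝟙 _ := by
    rw [← Functor.map_comp, biprod.inl_fst, CategoryTheory.Functor.map_id]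
  have hP₁' := isStrictlyPerfect_rc V.ι P₁ hP₁
  have hM : FlatMod.IsFinLocFree (((Rc V.ι).obj P₁).opcycles a) :=
    isFinLocFree_opcycles_of_retract hP₁' a (HomologicalComplex.opcyclesMap i₁ a)
      (HomologicalComplex.opcyclesMap p₁ a)
      (by rw [← HomologicalComplex.opcyclesMap_comp, hip, HomologicalComplex.opcyclesMap_id]) hN
  have hT := isStrictlyPerfect_truncGE hP₁' a hM
  have hK' : K'.IsGE a :=
    isGE_of_retract (biprod.inl ≫ e.hom) (e.inv ≫ biprod.fst) (by simp) a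
      (isGE_Q_of_vanishes G a (fun i hi => hGv i (Or.inl hi)))
  have hK'' : (rD.obj K').IsGE a := isGE_map (Scheme.Modules.restrictFunctor V.ι) K' a hK'
  obtain ⟨eT⟩ := nonempty_truncGE_iso ((Rc V.ι).obj P₁) (rD.obj K') a
    ((rdQIso V.ι P₁).inv ≫ rD.map α₁)
    ((Conn.of_isIso _ _).comp (conn_map (Scheme.Modules.restrictFunctor V.ι) _ _ h₁)) hK''
  exact ⟨V, hxV, _, hT, ⟨eT.symm⟩⟩

/-- **Local statement**: a summand `K'` of a strictly perfect complex, with both summands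
pseudo-coherent, is locally represented by a strictly perfect complex. -/
theorem sprep_of_summand {K' L' : DCoh.D X} (hK' : ∀ m : ℤ, DCoh.IsPseudoCoherentD m K')
    (hL' : ∀ m : ℤ, DCoh.IsPseudoCoherentD m L') {G : CochainComplex X.Modules ℤ}
    (hG : DCoh.IsStrictlyPerfect G) (e : K' ⊞ L' ≅ Q.obj G) (x : X) :
    ∃ (W : Scheme.{u}) (j : W ⟶ X) (_ : IsOpenImmersion j), x ∈ Set.range j ∧ SPRep j K' := by
  obtain ⟨⟨a, b, hGv⟩, hGfl⟩ := hG
  obtain ⟨V, hxV, ⟨P₁, α₁, hP₁, h₁⟩, ⟨P₂, α₂, hP₂, h₂⟩⟩ :=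
    exists_common_pcrep (hK' (a - 1)) (hL' (a - 1)) x
  let rD := DCoh.restrictD V.ι
  let e' : rD.obj K' ⊞ rD.obj L' ≅ Q.obj ((Rc V.ι).obj G) :=
    rdBiprodIso V.ι K' L' ≪≫ rD.mapIso e ≪≫ rdQIso V.ι G
  obtain ⟨V', hxV', E, hE, ⟨eE⟩⟩ := sprep_of_summand_aux a b
    (fun i hi => (Scheme.Modules.restrictFunctor V.ι).map_isZero (hGv i hi))
    (fun i => Groth.Agent.Lib.Seat0.LocLift.isFinLocFree_restrict V.ι _ (hGfl i))
    e' hP₁ hP₂ α₁ α₂ h₁ h₂ ⟨x, hxV⟩
  exact ⟨V', V'.ι ≫ V.ι, inferInstance, ⟨⟨⟨x, hxV⟩, hxV'⟩, rfl⟩, E, hE,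
    ⟨rdCompObjIso V'.ι V.ι K' ≪≫ eE⟩⟩

/-- a direct summand of a perfect object of `D(O_X)` is perfect (left summand) -/
theorem isPerfect_of_biprod_left (K L : DCoh.D X) [HasBinaryBiproduct K L]
    (h : DCoh.IsPerfect (K ⊞ L)) : DCoh.IsPerfect K := by
  have hpc : ∀ m : ℤ, DCoh.IsPseudoCoherentD m (K ⊞ L) := isPC_of_isPerfect _ h
  refine isPerfect_of_sprep _ (fun x => ?_)
  obtain ⟨V, hxV, G, hG, ⟨eG⟩⟩ := (isPerfect_iff_sprep _).1 h x
  let rD := DCoh.restrictD V.ι
  obtain ⟨W, j, hj, ⟨w, hw⟩, E, hE, ⟨eE⟩⟩ := sprep_of_summand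
    (K' := rD.obj K) (L' := rD.obj L)
    (fun m => isPC_restrict (isPC_of_biprod m K L (hpc m)).1 V.ι)
    (fun m => isPC_restrict (isPC_of_biprod m K L (hpc m)).2 V.ι) hG
    (rdBiprodIso V.ι K L ≪≫ eG) ⟨x, hxV⟩
  refine ⟨W, j ≫ V.ι, inferInstance, ⟨w, ?_⟩, E, hE, ⟨rdCompObjIso j V.ι K ≪≫ eE⟩⟩
  have : (j ≫ V.ι) w = V.ι (j w) := rfl
  rw [this, hw]
  rfl

/-- **S0924**: perfectness passes to direct summands -/
theorem isPerfect_of_biprod (K L : DCoh.D X) [HasBinaryBiproduct K L]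
    (h : DCoh.IsPerfect (K ⊞ L)) : DCoh.IsPerfect K ∧ DCoh.IsPerfect L := by
  refine ⟨isPerfect_of_biprod_left K L h, ?_⟩
  haveI : HasBinaryBiproduct L K := inferInstance
  refine isPerfect_of_biprod_left L K ?_
  exact Groth.Agent.Lib.Seat0.PerfTri.isPerfect_of_iso (biprod.braiding K L) h

end Global

end Groth.Agent.Lib.Seat0.PerfSummand
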