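import Mathlib
import Groth.Prelude.Def_KSix
import Groth.Agent.Lib.Seat0FlatLocal
import Groth.Agent.Lib.Seat0PerfSummand
import Groth.Agent.Lib.Helper1Sky10

/-!
# Perfect amplitude = pseudo-coherent + flat amplitude (Seat0)

* `SPRepIn m n j K`: `K`, restricted along `j`, is represented by a complex of finite locally free
  modules vanishing outside `[m, n]`; `hasPerfectAmplitudeIn_iff_sprepIn`,
  `hasPerfectAmplitudeIn_of_sprepIn`;
* `exists_bounded_rep`: a strictly perfect complex in degrees `≥ m` with cohomology in degrees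
  `≤ n` is quasi-isomorphic to one in degrees `[m, n]`;
* `hasPerfectAmplitudeIn_of_flatAmplitude`;
* `isFlat_opcycles_of_quasiIso`: if a bounded above complex `K` of flat modules is quasi-isomorphic
  to a complex of flat modules in degrees `[m, n]`, then `coker (K^{m-1} ⟶ K^m)` is flat;
* `hasFlatAmplitudeIn_of_perfectAmplitude`;
* `hasPerfectAmplitudeIn_iff` (S4275).
-/

set_option autoImplicit false
universe w v u
open CategoryTheory CategoryTheory.Limits AlgebraicGeometry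

namespace Groth.Agent.Lib.Seat0.PerfAmp

open DerivedCategory Groth.Agent.Lib.Seat0.Cn Groth.Agent.Lib.Seat0.Trunc
  Groth.Agent.Lib.Seat0.TopCoh Groth.Agent.Lib.Seat0.PCLocal
  Groth.Agent.Lib.Seat0.PerfLocal Groth.Agent.Lib.Seat0.LocRep Groth.Agent.Lib.Seat0.FlatPerf
  Groth.Agent.Lib.Seat0.PCSummand Groth.Agent.Lib.Seat0.PerfSummand
  Groth.Agent.Lib.Seat0.FlatLocal Groth.Agent.Lib.Seat0.LocLift

attribute [local instance] HasDerivedCategory.standard

section Rep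

variable {X : Scheme.{u}}

/-- `K`, restricted along `j`, is represented by a complex of finite locally free modules vanishing
outside `[m, n]` -/
def SPRepIn (m n : ℤ) {W : Scheme.{u}} (j : W ⟶ X) [IsOpenImmersion j] (K : DCoh.D X) : Prop :=
  ∃ E : CochainComplex W.Modules ℤ, DCoh.VanishesOutside E m n ∧
    (∀ i : ℤ, FlatMod.IsFinLocFree (E.X i)) ∧ Nonempty ((DCoh.restrictD j).obj K ≅ Q.obj E)

lemma SPRepIn.comp {m n : ℤ} {W W' : Scheme.{u}} {j : W ⟶ X} [IsOpenImmersion j] {K : DCoh.D X}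
    (h : SPRepIn m n j K) (j₁ : W' ⟶ W) [IsOpenImmersion j₁] : SPRepIn m n (j₁ ≫ j) K := by
  obtain ⟨E, hv, hfl, ⟨e⟩⟩ := h
  exact ⟨(Rc j₁).obj E, fun i hi => (Scheme.Modules.restrictFunctor j₁).map_isZero (hv i hi),
    fun i => isFinLocFree_restrict j₁ (E.X i) (hfl i),
    ⟨rdCompObjIso j₁ j K ≪≫ (DCoh.restrictD j₁).mapIso e ≪≫ rdQIso j₁ E⟩⟩

lemma SPRepIn.ofEq {m n : ℤ} {W : Scheme.{u}} {j j' : W ⟶ X} [IsOpenImmersion j]
    [IsOpenImmersion j'] {K : DCoh.D X} (h : SPRepIn m n j K) (e : j = j') : SPRepIn m n j' K := by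
  subst e
  exact h

lemma SPRepIn.sprep {m n : ℤ} {W : Scheme.{u}} {j : W ⟶ X} [IsOpenImmersion j] {K : DCoh.D X}
    (h : SPRepIn m n j K) : SPRep j K := by
  obtain ⟨E, hv, hfl, e⟩ := h
  exact ⟨E, ⟨⟨m, n, hv⟩, hfl⟩, e⟩

/-- reformulation of perfect amplitude -/
theorem hasPerfectAmplitudeIn_iff_sprepIn (m n : ℤ) (K : DCoh.D X) :
    KSix.HasPerfectAmplitudeIn m n K ↔ ∀ x : X, ∃ V : X.Opens, x ∈ V ∧ SPRepIn m n V.ι K := by
  constructor
  · intro h x
    obtain ⟨V, hxV, hV⟩ := h x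
    obtain ⟨E, hv, hfl, ⟨e⟩⟩ := hV (Q.objPreimage K) ⟨Q.objObjPreimageIso K⟩
    exact ⟨V, hxV, E, hv, hfl,
      ⟨(DCoh.restrictD V.ι).mapIso (Q.objObjPreimageIso K).symm ≪≫ rdQIso V.ι _ ≪≫ e⟩⟩
  · intro h x
    obtain ⟨V, hxV, E, hv, hfl, ⟨e⟩⟩ := h x
    refine ⟨V, hxV, fun F ⟨eF⟩ => ⟨E, hv, hfl, ⟨?_⟩⟩⟩
    exact (rdQIso V.ι F).symm ≪≫ (DCoh.restrictD V.ι).mapIso eF ≪≫ e

/-- perfect amplitude from representability along arbitrary open immersions -/
theorem hasPerfectAmplitudeIn_of_sprepIn (m n : ℤ) (K : DCoh.D X)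
    (h : ∀ x : X, ∃ (W : Scheme.{u}) (j : W ⟶ X) (_ : IsOpenImmersion j),
      x ∈ Set.range j ∧ SPRepIn m n j K) : KSix.HasPerfectAmplitudeIn m n K := by
  rw [hasPerfectAmplitudeIn_iff_sprepIn]
  intro x
  obtain ⟨W, j, hj, ⟨w, rfl⟩, hK⟩ := h x
  let V : X.Opens := j.opensRange
  let e : W ≅ (V : Scheme.{u}) := IsOpenImmersion.isoOfRangeEq j V.ι (by
    simp only [V, Scheme.Opens.range_ι, Scheme.Hom.coe_opensRange])
  have hfac : e.inv ≫ j = V.ι := IsOpenImmersion.isoOfRangeEq_inv_fac _ _ _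
  exact ⟨V, ⟨w, rfl⟩, (hK.comp e.inv).ofEq hfac⟩

end Rep

section Local

variable {Y : Scheme.{u}}

/-- a strictly perfect complex in degrees `≥ m` with cohomology in degrees `≤ n` is
quasi-isomorphic to a complex of finite locally free modules in degrees `[m, n]` -/
theorem exists_bounded_rep {T : CochainComplex Y.Modules ℤ} (hT : DCoh.IsStrictlyPerfect T)
    (m n : ℤ) (hmn : m ≤ n) (hTm : ∀ i : ℤ, i < m → IsZero (T.X i)) (hTn : (Q.obj T).IsLE n) :
    ∃ T₂ : CochainComplex Y.Modules ℤ, DCoh.VanishesOutside T₂ m n ∧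
      (∀ i : ℤ, FlatMod.IsFinLocFree (T₂.X i)) ∧ Nonempty (Q.obj T₂ ≅ Q.obj T) := by
  haveI : T.IsLE n := (isLE_Q_obj_iff T n).1 hTn
  have hex : ∀ i : ℤ, n < i → T.ExactAt i := fun i hi => T.exactAt_of_isLE n i hi
  have hZ : FlatMod.IsFinLocFree (Z T n) := isFinLocFree_Z T hT n hex n le_rfl
  have hqi : IsIso (Q.map (T.ιTruncLE n)) := inferInstance
  refine ⟨T.truncLE n, fun i hi => ?_, fun i => ?_, ⟨asIso (Q.map (T.ιTruncLE n))⟩⟩
  · rcases hi with hi | hi
    · exact IsZero.of_iso (hTm i hi) (T.truncLEXIso n i (by omega))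
    · exact (T.truncLE n).isZero_of_isStrictlyLE n i hi
  · obtain hi | rfl | hi := lt_trichotomy i n
    · exact Groth.Agent.Lib.Seat28.FLF.isFinLocFree_of_iso (T.truncLEXIso n i hi).symm (hT.2 i)
    · have e1 : T.cycles i ≅ kernel (T.d i (i + 1)) :=
        (T.cyclesIsKernel i (i + 1) (by simp)).conePointUniqueUpToIso (limit.isLimit _)
      exact Groth.Agent.Lib.Seat28.FLF.isFinLocFree_of_iso
        ((T.truncLEXIsoCycles i).trans e1).symm hZ
    · exact Groth.Agent.Lib.Seat28.FLF.isFinLocFree_of_isZero _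
        ((T.truncLE n).isZero_of_isStrictlyLE n i hi)

open Groth.Agent.Lib.Helper1.BKF Groth.Agent.Lib.Helper1.CI Groth.Agent.Lib.Helper21.ModTensor5 in
/-- if a bounded above complex `K` of flat modules receives a quasi-isomorphism from a complex `P`
of flat modules in degrees `[m, n]`, then `coker (K^{m-1} ⟶ K^m)` is flat -/
theorem isFlat_opcycles_of_quasiIso {P K : CochainComplex Y.Modules ℤ} (m n N : ℤ) (hmn : m ≤ n)
    (hPv : DCoh.VanishesOutside P m n) (hPfl : ∀ i : ℤ, FlatMod.IsFlat (P.X i))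
    (hKfl : ∀ i : ℤ, FlatMod.IsFlat (K.X i)) (hKb : ∀ i : ℤ, N < i → IsZero (K.X i))
    (β : P ⟶ K) (hβ : QuasiIso β) : FlatMod.IsFlat (K.opcycles m) := by
  -- `K` is cohomologically in degrees `≥ m`
  haveI : K.IsGE m := by
    rw [CochainComplex.isGE_iff]
    intro i hi
    rw [HomologicalComplex.exactAt_iff_isZero_homology]
    have h1 : IsZero (P.homology i) :=
      Groth.Agent.Lib.Helper17.PCoh10.isZero_homology_of_isZero_X P i (hPv i (Or.inl hi))
    exact IsZero.of_iso h1 (asIso (HomologicalComplex.homologyMap β i)).symm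
  let K₃ := K.truncGE m
  let β' : P ⟶ K₃ := β ≫ K.πTruncGE m
  haveI : QuasiIso β' := inferInstance
  let C := CochainComplex.mappingCone β'
  have hCex : ∀ i : ℤ, C.ExactAt i := fun i => by
    rw [HomologicalComplex.exactAt_iff_isZero_homology]
    exact Groth.Agent.Lib.Helper17.PCoh10.isZero_homology_mappingCone β' i
      (Groth.Agent.Lib.Helper17.PCoh10.isNQuasiIso_of_quasiIso i β') i le_rfl
  have hPflat : ∀ i : ℤ, ModSite.IsFlat (O := Y.sheaf) (P.X i) := fun i =>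
    Groth.Agent.Lib.Helper1.StalkTensor.modSite_isFlat_of_isFlat _ (hPfl i)
  have hK₃flat : ∀ i : ℤ, m < i → ModSite.IsFlat (O := Y.sheaf) (K₃.X i) := fun i hi =>
    isFlat_of_iso Y.sheaf (K.truncGEXIso m i hi).symm
      (Groth.Agent.Lib.Helper1.StalkTensor.modSite_isFlat_of_isFlat _ (hKfl i))
  have hK₃z : ∀ i : ℤ, i < m → IsZero (K₃.X i) := fun i hi =>
    K₃.isZero_of_isStrictlyGE m i hi
  have hCfl : ∀ i : ℤ, m + 1 ≤ i → ModSite.IsFlat (O := Y.sheaf) (C.X i) := fun i hi =>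
    isFlat_X_of_ses (O := Y.sheaf) _ _ _ (coneSES_shortExact β') i (hK₃flat i (by omega))
      (hPflat (i + 1))
  have hCb : ∀ i : ℤ, max n N < i → IsZero (C.X i) := fun i hi =>
    IsZero.of_iso (hPv (i + 1) (Or.inr (by omega)))
      (coneXIso β' i (i + 1) rfl
        (IsZero.of_iso (hKb i (by omega)) (K.truncGEXIso m i (by omega))))
  have hZ1 : ModSite.IsFlat (O := Y.sheaf) (show Y.Modules from Z C (m + 1)) :=
    isFlat_Z C (m + 1) (max n N) hCfl hCb (fun i _ => hCex i) (m + 1) le_rfl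
  -- `Z^m(C) ≅ C^{m-1} ≅ P^m`
  have hz2 : IsZero (C.X (m - 2)) :=
    IsZero.of_iso (hPv (m - 1) (Or.inl (by omega)))
      (coneXIso β' (m - 2) (m - 1) (by omega) (hK₃z _ (by omega)))
  have hmono : Mono (C.d (m - 1) m) := by
    have hex := (C.exactAt_iff' (m - 2) (m - 1) m (by simp; omega) (by simp)).1 (hCex (m - 1))
    exact hex.mono_g (hz2.eq_of_src _ _)
  have hmono' : Mono (toZ C (m - 1) m) := by
    have : toZ C (m - 1) m ≫ kernel.ι (C.d m (m + 1)) = C.d (m - 1) m := toZ_ι C (m - 1) m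
    exact mono_of_mono_fac this
  have hepi' : Epi (toZ C (m - 1) m) := (exactAt_iff_epi_toZ C (m - 1) m (by omega)).1 (hCex m)
  haveI : IsIso (toZ C (m - 1) m) := isIso_of_mono_of_epi _
  let eZ : P.X m ≅ Z C m :=
    (coneXIso β' (m - 1) m (by omega) (hK₃z _ (by omega))).symm ≪≫ asIso (toZ C (m - 1) m)
  have hZ0 : ModSite.IsFlat (O := Y.sheaf) (show Y.Modules from Z C m) :=
    isFlat_of_iso Y.sheaf eZ (hPflat m)
  -- `C^m` is flat
  have hex1 := exact_sc_of_exactAt C m (m + 1) (m + 1 + 1) rfl rfl (hCex (m + 1))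
  have hS := shortExact_kernel (C.d m (m + 1)) (C.d (m + 1) (m + 1 + 1)) (C.d_comp_d _ _ _) hex1
  have hCm : ModSite.IsFlat (O := Y.sheaf) (C.X m) :=
    isFlat_middle Y.sheaf _ hS hZ0 hZ1
  -- `K₃^m` is a retract of `C^m`
  have hK₃m : FlatMod.IsFlat (K₃.X m) :=
    isFlat_of_retract ((CochainComplex.mappingCone.inr β').f m)
      ((CochainComplex.mappingCone.snd β').v m m (add_zero m))
      (CochainComplex.mappingCone.inr_f_snd_v β' m)
      (Groth.Agent.Lib.Helper1.StalkTensor.isFlat_of_modSite_isFlat _ hCm)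
  exact flatMod_isFlat_of_iso (K.truncGEXIsoOpcycles m) hK₃m

end Local

section Global

variable {X : Scheme.{u}}

/-- opcycles commute with restriction along open immersions -/
noncomputable def opcyclesRcIso {W : Scheme.{u}} (j : W ⟶ X) [IsOpenImmersion j]
    (K : CochainComplex X.Modules ℤ) (i : ℤ) :
    ((Rc j).obj K).opcycles i ≅ (Scheme.Modules.restrictFunctor j).obj (K.opcycles i) :=
  ShortComplex.mapOpcyclesIso (K.sc i) (Scheme.Modules.restrictFunctor j)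

/-- **flat amplitude `[m, n]` + `(m-1)`-pseudo-coherent ⟹ perfect amplitude `[m, n]`** -/
theorem hasPerfectAmplitudeIn_of_flatAmplitude (E : DCoh.D X) (m n : ℤ) (hmn : m ≤ n)
    (h1 : DCoh.HasFlatAmplitudeIn m n E) (h2 : DCoh.IsPseudoCoherentD (m - 1) E) :
    KSix.HasPerfectAmplitudeIn m n E := by
  obtain ⟨F, hFv, hFfl, ⟨eF⟩⟩ := h1
  refine hasPerfectAmplitudeIn_of_sprepIn _ _ _ (fun x => ?_)
  obtain ⟨V, hxV, P, α, hP, hα⟩ := (isPC_iff_pcrep (m - 1) E).1 h2 x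
  let rD := DCoh.restrictD V.ι
  let FV := (Rc V.ι).obj F
  let eV : rD.obj E ≅ Q.obj FV := rD.mapIso eF.symm ≪≫ rdQIso V.ι F
  obtain ⟨V', hxV', hV'⟩ := exists_chainMap_rep hP (α ≫ eV.hom) ⟨x, hxV⟩
  obtain ⟨f, hf⟩ := hV'
  let rD' := DCoh.restrictD V'.ι
  have hconn : Conn (m - 1) (Q.map f) := by
    have h : Q.map f =
        (Scheme.Modules.restrictFunctor V'.ι).mapDerivedCategoryFactors.inv.app P ≫
          rD'.map (α ≫ eV.hom) ≫
          (Scheme.Modules.restrictFunctor V'.ι).mapDerivedCategoryFactors.hom.app FV := by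
      rw [hf]
      simp only [Category.assoc, Iso.inv_hom_id_app, Iso.inv_hom_id_app_assoc]
      erw [Category.comp_id]
    rw [h]
    exact (Conn.of_isIso _ _).comp
      ((conn_map (Scheme.Modules.restrictFunctor V'.ι) _ _
        (hα.comp (Conn.of_isIso _ _))).comp (Conn.of_isIso _ _))
  obtain ⟨hfi, hfe⟩ := (conn_Q_map_iff f (m - 1)).1 hconn
  have hFV'v : DCoh.VanishesOutside ((Rc V'.ι).obj FV) m n := fun i hi =>
    (Scheme.Modules.restrictFunctor V'.ι).map_isZero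
      ((Scheme.Modules.restrictFunctor V.ι).map_isZero (hFv i hi))
  obtain ⟨hW, ⟨eW⟩⟩ := strictlyPerfect_truncGE_of_flat (isStrictlyPerfect_rc V'.ι P hP) m n
    hFV'v (fun i => isFlat_restrict V'.ι _ (isFlat_restrict V.ι _ (hFfl i))) f hfi hfe
  haveI : (Q.obj ((Rc V'.ι).obj FV)).IsLE n :=
    isLE_Q_of_vanishes _ n (fun i hi => hFV'v i (Or.inr hi))
  have hTn : (Q.obj (((Rc V'.ι).obj P).truncGE m)).IsLE n :=
    DerivedCategory.TStructure.t.isLE_of_iso eW.symm n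
  obtain ⟨T₂, hv, hfl, ⟨e₂⟩⟩ := exists_bounded_rep hW m n hmn
    (fun i hi => (((Rc V'.ι).obj P).truncGE m).isZero_of_isStrictlyGE m i hi) hTn
  exact ⟨V', V'.ι ≫ V.ι, inferInstance, ⟨⟨⟨x, hxV⟩, hxV'⟩, rfl⟩, T₂, hv, hfl,
    ⟨rdCompObjIso V'.ι V.ι E ≪≫ rD'.mapIso eV ≪≫ rdQIso V'.ι FV ≪≫ eW.symm ≪≫ e₂.symm⟩⟩

open Groth.Agent.Lib.Helper1.CI in
/-- **perfect amplitude `[m, n]` ⟹ flat amplitude `[m, n]`** -/
theorem hasFlatAmplitudeIn_of_perfectAmplitude (E : DCoh.D X) (m n : ℤ) (hmn : m ≤ n)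
    (h : KSix.HasPerfectAmplitudeIn m n E) : DCoh.HasFlatAmplitudeIn m n E := by
  rw [hasPerfectAmplitudeIn_iff_sprepIn] at h
  obtain ⟨K, q, hK, hKfl, hq, -⟩ : ∃ (K : CochainComplex X.Modules ℤ)
      (q : K ⟶ Q.objPreimage E), DCoh.IsKFlat K ∧
      (∀ n : ℤ, ModSite.IsFlat (O := X.sheaf) (K.X n)) ∧ QuasiIso q ∧ ∀ n : ℤ, Epi (q.f n) :=
    Groth.Agent.Lib.Helper1.BKF.exists_kflat_flat_resolution X.sheaf (Q.objPreimage E)
  have hqi : IsIso (Q.map q) := by
    rw [isIso_Q_map_iff_quasiIso]; exact hq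
  let eK : Q.obj K ≅ E := asIso (Q.map q) ≪≫ Q.objObjPreimageIso E
  -- the cohomology of `K` vanishes outside `[m, n]`
  have hH : ∀ i : ℤ, (i < m ∨ n < i) → IsZero (K.homology i) := by
    intro i hi
    have e1 : K.homology i ≅ DCoh.HD E i :=
      ((homologyFunctorFactors X.Modules i).app K).symm ≪≫
        (DerivedCategory.homologyFunctor X.Modules i).mapIso eK
    refine IsZero.of_iso ?_ e1
    refine isZero_of_local _ (fun x => ?_)
    obtain ⟨V, hxV, P, hPv, hPfl, ⟨e⟩⟩ := h x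
    refine ⟨V, V.ι, inferInstance, ⟨⟨x, hxV⟩, rfl⟩, ?_⟩
    refine IsZero.of_iso ?_ ((restrictHDIso V.ι E i).symm ≪≫
      (DerivedCategory.homologyFunctor _ i).mapIso e ≪≫ (homologyFunctorFactors _ i).app P)
    exact Groth.Agent.Lib.Helper17.PCoh10.isZero_homology_of_isZero_X P i (hPv i hi)
  -- truncation above
  have hK₂fl : ∀ i : ℤ, ModSite.IsFlat (O := X.sheaf) ((K.truncLE n).X i) :=
    Groth.Agent.Lib.Helper1.Sky.isFlat_truncLE_X (O := X.sheaf) K hK hKfl n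
      (fun i hi => hH i (Or.inr hi))
  haveI : K.IsLE n := by
    rw [CochainComplex.isLE_iff]
    intro i hi
    rw [HomologicalComplex.exactAt_iff_isZero_homology]
    exact hH i (Or.inr hi)
  let K₂ := K.truncLE n
  have hι : IsIso (Q.map (K.ιTruncLE n)) := inferInstance
  let eK₂ : Q.obj K₂ ≅ E := asIso (Q.map (K.ιTruncLE n)) ≪≫ eK
  haveI : K₂.IsGE m := by
    rw [CochainComplex.isGE_iff]
    intro i hi
    rw [HomologicalComplex.exactAt_iff_isZero_homology]
    exact IsZero.of_iso (hH i (Or.inl hi))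
      (asIso (HomologicalComplex.homologyMap (K.ιTruncLE n) i))
  have hK₂fl' : ∀ i : ℤ, FlatMod.IsFlat (K₂.X i) := fun i =>
    Groth.Agent.Lib.Helper1.StalkTensor.isFlat_of_modSite_isFlat _ (hK₂fl i)
  -- the cokernel in degree `m` is flat
  have hop : FlatMod.IsFlat (K₂.opcycles m) := by
    refine isFlat_of_local _ (fun x => ?_)
    obtain ⟨V, hxV, P, hPv, hPfl, ⟨e⟩⟩ := h x
    have hP : DCoh.IsStrictlyPerfect P := ⟨⟨m, n, hPv⟩, hPfl⟩
    let rD := DCoh.restrictD V.ι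
    let γ : Q.obj P ⟶ Q.obj ((Rc V.ι).obj K₂) := e.inv ≫ rD.map eK₂.inv ≫ (rdQIso V.ι K₂).hom
    obtain ⟨V', hxV', hV'⟩ := exists_chainMap_rep hP γ ⟨x, hxV⟩
    obtain ⟨β, hβ⟩ := hV'
    let rD' := DCoh.restrictD V'.ι
    have hβq : QuasiIso β := by
      rw [← isIso_Q_map_iff_quasiIso]
      have h : Q.map β =
          (Scheme.Modules.restrictFunctor V'.ι).mapDerivedCategoryFactors.inv.app P ≫
            rD'.map γ ≫
            (Scheme.Modules.restrictFunctor V'.ι).mapDerivedCategoryFactors.hom.app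
              ((Rc V.ι).obj K₂) := by
        rw [hβ]
        simp only [Category.assoc, Iso.inv_hom_id_app, Iso.inv_hom_id_app_assoc]
        erw [Category.comp_id]
      rw [h]
      infer_instance
    have hfl := isFlat_opcycles_of_quasiIso (P := (Rc V'.ι).obj P)
      (K := (Rc V'.ι).obj ((Rc V.ι).obj K₂)) m n n hmn
      (fun i hi => (Scheme.Modules.restrictFunctor V'.ι).map_isZero (hPv i hi))
      (fun i => isFlat_restrict V'.ι _
        (Groth.Agent.Lib.Helper1.Sky.isFlat_of_isFinLocFree' _ (hPfl i)))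
      (fun i => isFlat_restrict V'.ι _ (isFlat_restrict V.ι _ (hK₂fl' i)))
      (fun i hi => (Scheme.Modules.restrictFunctor V'.ι).map_isZero
        ((Scheme.Modules.restrictFunctor V.ι).map_isZero (K₂.isZero_of_isStrictlyLE n i hi)))
      β hβq
    refine ⟨V', V'.ι ≫ V.ι, inferInstance, ⟨⟨⟨x, hxV⟩, hxV'⟩, rfl⟩, ?_⟩
    refine flatMod_isFlat_of_iso ?_ hfl
    exact opcyclesRcIso V'.ι _ m ≪≫
      (Scheme.Modules.restrictFunctor V'.ι).mapIso (opcyclesRcIso V.ι K₂ m) ≪≫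
      ((Scheme.Modules.restrictFunctorComp V'.ι V.ι).app _).symm
  -- truncation below
  refine ⟨K₂.truncGE m, fun i hi => ?_, fun i => ?_, ⟨?_⟩⟩
  · rcases hi with hi | hi
    · exact (K₂.truncGE m).isZero_of_isStrictlyGE m i hi
    · exact IsZero.of_iso (K₂.isZero_of_isStrictlyLE n i hi) (K₂.truncGEXIso m i (by omega))
  · obtain hi | rfl | hi := lt_trichotomy i m
    · exact flatMod_isFlat_of_isZero _ ((K₂.truncGE m).isZero_of_isStrictlyGE m i hi)
    · exact flatMod_isFlat_of_iso (K₂.truncGEXIsoOpcycles i).symm hop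
    · exact flatMod_isFlat_of_iso (K₂.truncGEXIso m i hi).symm (hK₂fl' i)
  · have hπ : IsIso (Q.map (K₂.πTruncGE m)) := inferInstance
    exact (asIso (Q.map (K₂.πTruncGE m))).symm ≪≫ eK₂

/-- **S4275** -/
theorem hasPerfectAmplitudeIn_iff (E : DCoh.D X) (m n : ℤ) (hmn : m ≤ n) :
    KSix.HasPerfectAmplitudeIn m n E ↔
      DCoh.IsPseudoCoherentD (m - 1) E ∧ DCoh.HasFlatAmplitudeIn m n E := by
  constructor
  · intro h
    refine ⟨?_, hasFlatAmplitudeIn_of_perfectAmplitude E m n hmn h⟩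
    refine isPC_of_isPerfect E ?_ (m - 1)
    rw [isPerfect_iff_sprep]
    intro x
    obtain ⟨V, hxV, hV⟩ := (hasPerfectAmplitudeIn_iff_sprepIn m n E).1 h x
    exact ⟨V, hxV, hV.sprep⟩
  · rintro ⟨h2, h1⟩
    exact hasPerfectAmplitudeIn_of_flatAmplitude E m n hmn h1 h2

end Global

end Groth.Agent.Lib.Seat0.PerfAmp
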