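import Groth.Prelude.Def_DerSch
import Groth.Agent.Lib.Helper1TorDim
import Groth.Agent.Lib.Helper23UnitStalk

/-!
# Stalkwise tor amplitude along a composite of morphisms of schemes (seat 27)

* `compIso f g x F`: the complex of stalks of `F` at `x` over `O_{Z, g f x}` is the restriction of scalars along
  `O_{Z, g f x} → O_{Y, f x}` of the complex of stalks over `O_{Y, f x}`.
* `unitIso g y`: the complex of stalks of `O_Y[0]` at `y` over `O_{Z, g y}` is `O_{Y,y}[0]`.
* `hasTorAmplitude_comp`: tor amplitude `[a,b]` relative to `f` and tor dimension `≤ n` of `g` give tor amplitude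
  `[a-n, b]` relative to `f ≫ g`.
-/

set_option autoImplicit false
universe u
open CategoryTheory CategoryTheory.Limits AlgebraicGeometry
attribute [local instance] HasDerivedCategory.standard

namespace Groth.Agent.Lib.Seat27.StalkTor

variable {X Y Z : Scheme.{u}}

/-- the stalk functor over the base of a composite is the stalk functor over the intermediate scheme followed by
restriction of scalars. -/
noncomputable def stalkOverCompIso (f : X ⟶ Y) (g : Y ⟶ Z) (x : X) :
    DerSch.stalkOver (f ≫ g) x ≅
      DerSch.stalkOver f x ⋙ ModuleCat.restrictScalars.{u} (g.stalkMap (f.base x)).hom :=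
  Functor.isoWhiskerLeft (DerSch.stalkFunctor X x)
    (ModuleCat.restrictScalarsComp'.{u} (g.stalkMap (f.base x)).hom (f.stalkMap x).hom
      ((f ≫ g).stalkMap x).hom (by rw [Scheme.Hom.stalkMap_comp]; rfl))

/-- the complex of stalks over the base of a composite. -/
noncomputable def stalkCxCompIso (f : X ⟶ Y) (g : Y ⟶ Z) (x : X) (F : CochainComplex X.Modules ℤ) :
    (DerSch.stalkCxOver (f ≫ g) x).obj F ≅
      ((ModuleCat.restrictScalars.{u} (g.stalkMap (f.base x)).hom).mapHomologicalComplex
        (ComplexShape.up ℤ)).obj ((DerSch.stalkCxOver f x).obj F) :=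
  (NatIso.mapHomologicalComplex (stalkOverCompIso f g x) (ComplexShape.up ℤ)).app F

noncomputable def compIso (f : X ⟶ Y) (g : Y ⟶ Z) (x : X) (F : CochainComplex X.Modules ℤ) :
    DRing.toD ((DerSch.stalkCxOver (f ≫ g) x).obj F) ≅
      (DRing.restrictD (g.stalkMap (f.base x)).hom).obj (DRing.toD ((DerSch.stalkCxOver f x).obj F)) :=
  DerivedCategory.Q.mapIso (stalkCxCompIso f g x F) ≪≫
    ((ModuleCat.restrictScalars.{u} (g.stalkMap (f.base x)).hom).mapDerivedCategoryFactors.app
      ((DerSch.stalkCxOver f x).obj F)).symm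

/-- the stalk of the structure module at `y`, over `O_{Z, g y}`, is the local ring `O_{Y,y}`. -/
noncomputable def unitStalkIso (g : Y ⟶ Z) (y : Y) :
    letI : Algebra (Z.presheaf.stalk (g.base y)) (Y.presheaf.stalk y) := (g.stalkMap y).hom.toAlgebra
    (DerSch.stalkOver g y).obj (Coh.structureModule Y) ≅
      ModuleCat.of (Z.presheaf.stalk (g.base y)) (Y.presheaf.stalk y) := by
  letI : Algebra (Z.presheaf.stalk (g.base y)) (Y.presheaf.stalk y) := (g.stalkMap y).hom.toAlgebra
  refine (ModuleCat.restrictScalars.{u} (g.stalkMap y).hom).mapIso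
    (LinearEquiv.toModuleIso (Groth.Agent.Lib.Helper23.UnitStalk.unitStalkEquiv y).symm) ≪≫ ?_
  exact LinearEquiv.toModuleIso
    { toFun := fun b => b
      invFun := fun b => b
      map_add' := fun _ _ => rfl
      map_smul' := fun _ _ => rfl
      left_inv := fun _ => rfl
      right_inv := fun _ => rfl }

/-- the complex of stalks of `O_Y[0]` at `y` over `O_{Z, g y}` is `O_{Y,y}[0]` in the derived category. -/
noncomputable def unitIso (g : Y ⟶ Z) (y : Y) :
    letI : Algebra (Z.presheaf.stalk (g.base y)) (Y.presheaf.stalk y) := (g.stalkMap y).hom.toAlgebra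
    DRing.toD ((DerSch.stalkCxOver g y).obj (DerSch.unitCx Y)) ≅
      Dual.inD (Z.presheaf.stalk (g.base y)) (Y.presheaf.stalk y) := by
  letI : Algebra (Z.presheaf.stalk (g.base y)) (Y.presheaf.stalk y) := (g.stalkMap y).hom.toAlgebra
  refine DerivedCategory.Q.mapIso
    ((HomologicalComplex.singleMapHomologicalComplex (DerSch.stalkOver g y) (ComplexShape.up ℤ) 0).app
      (Coh.structureModule Y) ≪≫
      (HomologicalComplex.single _ (ComplexShape.up ℤ) 0).mapIso (unitStalkIso g y)) ≪≫ ?_
  exact ((DerivedCategory.singleFunctorIsoCompQ (ModuleCat.{u} (Z.presheaf.stalk (g.base y))) 0).app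
    (ModuleCat.of (Z.presheaf.stalk (g.base y)) (Y.presheaf.stalk y))).symm

open Groth.Agent.Lib.Helper1.Tor Groth.Agent.Lib.Helper1.TorDim in
theorem hasTorAmplitude_comp (f : X ⟶ Y) (g : Y ⟶ Z) (n : ℕ) (hg : DerSch.HasTorDimLE g n)
    (F : CochainComplex X.Modules ℤ) (a b : ℤ) (hF : DerSch.HasTorAmplitude f a b F) :
    DerSch.HasTorAmplitude (f ≫ g) (a - n) b F := by
  intro x
  let _ : Algebra (Z.presheaf.stalk (g.base (f.base x))) (Y.presheaf.stalk (f.base x)) :=
    (g.stalkMap (f.base x)).hom.toAlgebra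
  have hB : DRing.HasTorAmplitudeIn (Z.presheaf.stalk (g.base (f.base x))) (-(n : ℤ)) 0
      (Dual.inD (Z.presheaf.stalk (g.base (f.base x))) (Y.presheaf.stalk (f.base x))) :=
    hasTorAmp_of_iso (unitIso g (f.base x)) (hg (f.base x))
  have h1 := hasTorAmp_restrictD n hB (DRing.toD ((DerSch.stalkCxOver f x).obj F)) a b (hF x)
  exact hasTorAmp_of_iso (compIso f g x F).symm h1

end Groth.Agent.Lib.Seat27.StalkTor
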