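import Mathlib
import Groth.Prelude.Def_KSix
import Groth.Agent.Lib.Helper1KBC4
import Groth.Agent.Lib.Seat27StalkTor
import Groth.Agent.Lib.Helper1TorD
import Groth.Agent.Lib.Seat0PerfAmp

/-!
# Absolute flat amplitude versus stalkwise tor amplitude (seat 0)

For a scheme `X` and a cochain complex `F` of `O_X`-modules:
`DCoh.HasFlatAmplitudeIn a b (toD F) ↔ DerSch.HasTorAmplitude (𝟙 X) a b F`
(`hasFlatAmplitudeIn_iff_hasTorAmplitude_id`, no boundedness needed).

* exactness instances for `DerSch.stalkFunctor X x` (hence for `DerSch.stalkOver f x`);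
* `flat_stalkOver_id` / `isFlatAt_of_flat_stalkOver_id`: flatness of the stalk over the identity;
* `hasTorAmplitude_of_hasFlatAmplitudeIn`, `hasFlatAmplitudeIn_of_hasTorAmplitude`.
-/

set_option autoImplicit false
universe u
open CategoryTheory CategoryTheory.Limits AlgebraicGeometry
attribute [local instance] HasDerivedCategory.standard

namespace Groth.Agent.Lib.Seat0.StalkTor

variable {X Y : Scheme.{u}}

open Groth.Agent.Lib.Helper1.KBC Groth.Agent.Lib.Helper1.Sky in
instance preservesFiniteLimits_stalkFunctor (x : X) :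
    PreservesFiniteLimits (DerSch.stalkFunctor X x) :=
  preservesFiniteLimits_of_natIso (stalkFunctorIso (x := x)).symm

open Groth.Agent.Lib.Helper1.KBC Groth.Agent.Lib.Helper1.Sky in
instance preservesFiniteColimits_stalkFunctor (x : X) :
    PreservesFiniteColimits (DerSch.stalkFunctor X x) :=
  preservesFiniteColimits_of_natIso (stalkFunctorIso (x := x)).symm

/-- restriction of scalars along the identity does not change flatness -/
lemma flat_restrictScalars_of_eq_id {R : CommRingCat.{u}} (φ : R ⟶ R) (hφ : φ = 𝟙 R)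
    (N : ModuleCat.{u} R) :
    Module.Flat R ((ModuleCat.restrictScalars.{u} φ.hom).obj N) ↔ Module.Flat R N := by
  subst hφ
  let e : ((ModuleCat.restrictScalars.{u} (𝟙 R : R ⟶ R).hom).obj N) ≃ₗ[R] N :=
    { toFun := fun n => n
      invFun := fun n => n
      map_add' := fun _ _ => rfl
      map_smul' := fun _ _ => rfl
      left_inv := fun _ => rfl
      right_inv := fun _ => rfl }
  exact ⟨fun h => Module.Flat.of_linearEquiv e.symm, fun h => Module.Flat.of_linearEquiv e⟩

/-- flatness of the stalk over the identity -/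
lemma flat_stalkOver_id_iff (M : X.Modules) (x : X) :
    Module.Flat (X.presheaf.stalk ((𝟙 X : X ⟶ X).base x)) ((DerSch.stalkOver (𝟙 X) x).obj M) ↔
      FlatMod.IsFlatAt M x :=
  flat_restrictScalars_of_eq_id (R := X.presheaf.stalk x) ((𝟙 X : X ⟶ X).stalkMap x)
    (Scheme.Hom.stalkMap_id X x) (ModuleCat.of (X.presheaf.stalk x) (M.presheaf.stalk x))

/-- **flat amplitude ⟹ stalkwise tor amplitude** -/
theorem hasTorAmplitude_of_hasFlatAmplitudeIn (F : CochainComplex X.Modules ℤ) (a b : ℤ)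
    (h : DCoh.HasFlatAmplitudeIn a b (DCoh.toD X F)) : DerSch.HasTorAmplitude (𝟙 X) a b F := by
  obtain ⟨E, hE, hfl, ⟨e⟩⟩ := h
  intro x
  let G := DerSch.stalkOver (𝟙 X) x
  refine ⟨(DerSch.stalkCxOver (𝟙 X) x).obj E, fun i hi => G.map_isZero (hE i hi),
    fun i => (flat_stalkOver_id_iff (E.X i) x).2 (hfl i x), ⟨?_⟩⟩
  exact (G.mapDerivedCategoryFactors.app E).symm ≪≫ G.mapDerivedCategory.mapIso e ≪≫
    G.mapDerivedCategoryFactors.app F

/-- the cohomology of a complex with stalkwise tor amplitude in `[a, b]` vanishes outside `[a, b]` -/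
theorem isZero_homology_of_hasTorAmplitude (F : CochainComplex X.Modules ℤ) (a b : ℤ)
    (h : DerSch.HasTorAmplitude (𝟙 X) a b F) (i : ℤ) (hi : i < a ∨ b < i) :
    IsZero (F.homology i) := by
  rw [Groth.Agent.Helper18Epi.isZero_iff_subsingleton_stalk]
  intro x
  obtain ⟨L, hLv, -, ⟨e⟩⟩ := h x
  let G := DerSch.stalkOver (𝟙 X) x
  have e1 : ((G.mapHomologicalComplex (ComplexShape.up ℤ)).obj F).homology i ≅ L.homology i :=
    ((DerivedCategory.homologyFunctorFactors _ i).app _).symm ≪≫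
      (DerivedCategory.homologyFunctor _ i).mapIso e.symm ≪≫
      (DerivedCategory.homologyFunctorFactors _ i).app L
  have hz : IsZero (L.homology i) :=
    Groth.Agent.Lib.Helper17.PCoh10.isZero_homology_of_isZero_X L i (hLv i hi)
  have h2 : IsZero (G.obj (F.homology i)) :=
    IsZero.of_iso (IsZero.of_iso hz e1)
      (Groth.Agent.Lib.Seat0.TopCoh.homologyMapCxIso G F i).symm
  exact ModuleCat.subsingleton_of_isZero h2

open Groth.Agent.Lib.Helper1.Tor in
/-- if a bounded above complex `K₂` of flat modules is quasi-isomorphic to a complex with stalkwise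
tor amplitude in `[a, b]`, then `coker (K₂^{a-1} ⟶ K₂^a)` is flat -/
theorem isFlat_opcycles_of_hasTorAmplitude (K₂ F : CochainComplex X.Modules ℤ) (φ : K₂ ⟶ F)
    [QuasiIso φ] (a b N : ℤ) (hfl : ∀ i : ℤ, FlatMod.IsFlat (K₂.X i))
    (hb : ∀ i : ℤ, N < i → IsZero (K₂.X i))
    (h : DerSch.HasTorAmplitude (𝟙 X) a b F) : FlatMod.IsFlat (K₂.opcycles a) := by
  intro x
  obtain ⟨L, hLv, hLfl, ⟨e⟩⟩ := h x
  let G := DerSch.stalkOver (𝟙 X) x
  let GC := G.mapHomologicalComplex (ComplexShape.up ℤ)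
  let K' := GC.obj K₂
  have hK'b : DRing.VanishesAbove K' N := fun i hi => G.map_isZero (hb i hi)
  have hK'fl : DRing.TermwiseFlat K' := fun i => (flat_stalkOver_id_iff (K₂.X i) x).2 (hfl i x)
  haveI : QuasiIso (GC.map φ) := inferInstance
  have e' : DerivedCategory.Q.obj L ≅ DerivedCategory.Q.obj K' :=
    e ≪≫ (asIso (DerivedCategory.Q.map (GC.map φ))).symm
  have hTV := torVan_of_iso K' L N hK'b hK'fl a b hLv hLfl e'
  -- the exact sequence
  let S : ShortComplex X.Modules := ShortComplex.mk (K₂.d (a - 1) a) (K₂.pOpcycles a) (by simp)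
  have hS : S.Exact := S.exact_of_g_is_cokernel (K₂.opcyclesIsCokernel (a - 1) a (by simp))
  have hS' : (S.map G).Exact := hS.map G
  have hepi : Epi (G.map (K₂.pOpcycles a)) := inferInstance
  have h1 := flat_of_torVan K' hK'fl a b hTV (G.map (K₂.pOpcycles a)).hom
    ((ModuleCat.epi_iff_surjective _).1 hepi)
    ((ShortComplex.ShortExact.moduleCat_exact_iff_function_exact _).1 hS')
  exact (flat_stalkOver_id_iff (K₂.opcycles a) x).1 h1

open Groth.Agent.Lib.Helper1.CI in
/-- **stalkwise tor amplitude ⟹ flat amplitude** -/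
theorem hasFlatAmplitudeIn_of_hasTorAmplitude (F : CochainComplex X.Modules ℤ) (a b : ℤ)
    (h : DerSch.HasTorAmplitude (𝟙 X) a b F) : DCoh.HasFlatAmplitudeIn a b (DCoh.toD X F) := by
  obtain ⟨K, q, hK, hKfl, hq, -⟩ : ∃ (K : CochainComplex X.Modules ℤ)
      (q : K ⟶ F), DCoh.IsKFlat K ∧
      (∀ n : ℤ, ModSite.IsFlat (O := X.sheaf) (K.X n)) ∧ QuasiIso q ∧ ∀ n : ℤ, Epi (q.f n) :=
    Groth.Agent.Lib.Helper1.BKF.exists_kflat_flat_resolution X.sheaf F
  have hqi : IsIso (DerivedCategory.Q.map q) := by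
    rw [DerivedCategory.isIso_Q_map_iff_quasiIso]; exact hq
  let eK : DerivedCategory.Q.obj K ≅ DCoh.toD X F := asIso (DerivedCategory.Q.map q)
  -- the cohomology of `K` vanishes outside `[a, b]`
  have hH : ∀ i : ℤ, (i < a ∨ b < i) → IsZero (K.homology i) := fun i hi =>
    IsZero.of_iso (isZero_homology_of_hasTorAmplitude F a b h i hi)
      (asIso (HomologicalComplex.homologyMap q i))
  -- truncation above
  have hK₂fl : ∀ i : ℤ, ModSite.IsFlat (O := X.sheaf) ((K.truncLE b).X i) :=
    Groth.Agent.Lib.Helper1.Sky.isFlat_truncLE_X (O := X.sheaf) K hK hKfl b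
      (fun i hi => hH i (Or.inr hi))
  haveI : K.IsLE b := by
    rw [CochainComplex.isLE_iff]
    intro i hi
    rw [HomologicalComplex.exactAt_iff_isZero_homology]
    exact hH i (Or.inr hi)
  let K₂ := K.truncLE b
  have hι : IsIso (DerivedCategory.Q.map (K.ιTruncLE b)) := inferInstance
  let eK₂ : DerivedCategory.Q.obj K₂ ≅ DCoh.toD X F :=
    asIso (DerivedCategory.Q.map (K.ιTruncLE b)) ≪≫ eK
  haveI : K₂.IsGE a := by
    rw [CochainComplex.isGE_iff]
    intro i hi
    rw [HomologicalComplex.exactAt_iff_isZero_homology]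
    exact IsZero.of_iso (hH i (Or.inl hi))
      (asIso (HomologicalComplex.homologyMap (K.ιTruncLE b) i))
  have hK₂fl' : ∀ i : ℤ, FlatMod.IsFlat (K₂.X i) := fun i =>
    Groth.Agent.Lib.Helper1.StalkTensor.isFlat_of_modSite_isFlat _ (hK₂fl i)
  -- the cokernel in degree `a` is flat
  haveI : QuasiIso (K.ιTruncLE b ≫ q) := inferInstance
  have hop : FlatMod.IsFlat (K₂.opcycles a) :=
    isFlat_opcycles_of_hasTorAmplitude K₂ F (K.ιTruncLE b ≫ q) a b b hK₂fl'
      (fun i hi => K₂.isZero_of_isStrictlyLE b i hi) h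
  -- truncation below
  refine ⟨K₂.truncGE a, fun i hi => ?_, fun i => ?_, ⟨?_⟩⟩
  · obtain hi' | rfl | hi' := lt_trichotomy i a
    · exact (K₂.truncGE a).isZero_of_isStrictlyGE a i hi'
    · have hb : b < i := by omega
      have h0 : IsZero (K₂.opcycles i) :=
        IsZero.of_epi_eq_zero (K₂.pOpcycles i)
          ((K₂.isZero_of_isStrictlyLE b i hb).eq_of_src _ _)
      exact IsZero.of_iso h0 (K₂.truncGEXIsoOpcycles i)
    · have hb : b < i := by omega
      exact IsZero.of_iso (K₂.isZero_of_isStrictlyLE b i hb) (K₂.truncGEXIso a i hi')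
  · obtain hi | rfl | hi := lt_trichotomy i a
    · exact flatMod_isFlat_of_isZero _ ((K₂.truncGE a).isZero_of_isStrictlyGE a i hi)
    · exact flatMod_isFlat_of_iso (K₂.truncGEXIsoOpcycles i).symm hop
    · exact flatMod_isFlat_of_iso (K₂.truncGEXIso a i hi).symm (hK₂fl' i)
  · have hπ : IsIso (DerivedCategory.Q.map (K₂.πTruncGE a)) := inferInstance
    exact (asIso (DerivedCategory.Q.map (K₂.πTruncGE a))).symm ≪≫ eK₂

/-- **S6200**: absolute flat amplitude is stalkwise tor amplitude over the identity -/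
theorem hasFlatAmplitudeIn_iff_hasTorAmplitude_id (F : CochainComplex X.Modules ℤ) (a b : ℤ) :
    DCoh.HasFlatAmplitudeIn a b (DCoh.toD X F) ↔ DerSch.HasTorAmplitude (𝟙 X) a b F :=
  ⟨hasTorAmplitude_of_hasFlatAmplitudeIn F a b, hasFlatAmplitudeIn_of_hasTorAmplitude F a b⟩

end Groth.Agent.Lib.Seat0.StalkTor
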