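import Mathlib
import Groth.Agent.S0484
import Groth.Agent.Lib.Helper20ZClos

/-!
# Seat16: pushforward of modules along a closed immersion preserves colimits and is a left adjoint

* `preservesColimitsOfShape_of_jointly_reflecting`: a functor `G : C ⥤ D` preserves colimits of shape `K` as soon as
  there is a jointly isomorphism-reflecting family of functors `S i` out of `D`, each preserving colimits of shape
  `K`, such that every `G ⋙ S i` preserves them.
* stalks of `i_* M` for a closed immersion `i`: zero outside the image, the stalk of `M` on the image.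
* `isLeftAdjoint_pushforward`: `i_*` on modules is a left adjoint (special adjoint functor theorem on the
  Grothendieck abelian category `Z.Modules`, S0484).
-/

set_option autoImplicit false
set_option linter.style.haveILetI false
universe u
open CategoryTheory CategoryTheory.Limits AlgebraicGeometry TopologicalSpace Opposite

namespace Groth.Agent.Lib.Seat16.ClosedPush

open Groth.Agent.Lib.Helper20.ZClosLib

section General

universe v₁ v₂ v₃ u₁ u₂ u₃ w w'

variable {C : Type u₁} [Category.{v₁} C] {D : Type u₂} [Category.{v₂} D] {ι : Type w}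
  {E : ι → Type u₃} [∀ i, Category.{v₃} (E i)]

/-- Preservation of colimits is detected by a jointly isomorphism-reflecting family of colimit-preserving
functors. -/
theorem preservesColimitsOfShape_of_jointly_reflecting (K : Type w') [Category K]
    [HasColimitsOfShape K D] (G : C ⥤ D) (S : ∀ i, D ⥤ E i)
    (hS : ∀ {A B : D} (f : A ⟶ B), (∀ i, IsIso ((S i).map f)) → IsIso f)
    [∀ i, PreservesColimitsOfShape K (S i)] [∀ i, PreservesColimitsOfShape K (G ⋙ S i)] :
    PreservesColimitsOfShape K G := by
  constructor
  intro F
  constructor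
  intro c hc
  have hδ : IsIso ((colimit.isColimit (F ⋙ G)).desc (G.mapCocone c)) := by
    apply hS
    intro i
    have h1 : IsColimit ((S i).mapCocone (colimit.cocone (F ⋙ G))) :=
      isColimitOfPreserves (S i) (colimit.isColimit _)
    have h2 : IsColimit ((G ⋙ S i).mapCocone c) := isColimitOfPreserves (G ⋙ S i) hc
    have e : (S i).map ((colimit.isColimit (F ⋙ G)).desc (G.mapCocone c)) =
        (h1.coconePointUniqueUpToIso h2).hom := by
      apply h1.hom_ext
      intro k
      rw [IsColimit.comp_coconePointUniqueUpToIso_hom]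
      dsimp
      rw [← Functor.map_comp, colimit.ι_desc]
      rfl
    rw [e]
    infer_instance
  exact ⟨IsColimit.ofPointIso (colimit.isColimit (F ⋙ G))⟩

end General

variable {Z X : Scheme.{u}} (i : Z ⟶ X)

/-- the presheaf underlying `i_* M` is the pushforward presheaf. -/
theorem pushforward_presheaf (M : Z.Modules) :
    ((Scheme.Modules.pushforward i).obj M).presheaf = (TopCat.Presheaf.pushforward Ab.{u} i.base).obj M.presheaf :=
  rfl

/-- sections of a module over the empty open form a subsingleton. -/
theorem subsingleton_of_eq_bot (M : Z.Modules) (U : Z.Opens) (hU : U = ⊥) : Subsingleton Γ(M, U) := by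
  let M' : TopCat.Sheaf Ab.{u} Z.toTopCat := ⟨M.presheaf, M.isSheaf⟩
  have h : IsTerminal (M'.1.obj (op U)) := TopCat.Sheaf.isTerminalOfEqEmpty M' hU
  have hz : IsZero (M'.1.obj (op U)) := by
    exact (isZero_zero Ab.{u}).of_iso (h.uniqueUpToIso (isZero_zero Ab.{u}).isTerminal)
  exact AddCommGrpCat.subsingleton_of_isZero hz

/-- The stalk of `i_* M` at a point outside the (closed) image of `i` vanishes. -/
theorem isZero_stalk_pushforward_of_notMem [IsClosedImmersion i] (M : Z.Modules) (x : X)
    (hx : x ∉ Set.range i.base) : IsZero ((Scheme.Modules.pushforward i ⋙ stalkF x).obj M) := by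
  have hcl : IsClosed (Set.range i.base) := i.isClosedEmbedding.isClosed_range
  let U₀ : X.Opens := ⟨(Set.range i.base)ᶜ, hcl.isOpen_compl⟩
  have hxU₀ : x ∈ U₀ := hx
  have hsub : Subsingleton (((Scheme.Modules.pushforward i).obj M).presheaf.stalk x) := by
    constructor
    intro a b
    obtain ⟨V₁, hx₁, s, rfl⟩ := ((Scheme.Modules.pushforward i).obj M).presheaf.exists_germ_eq a
    obtain ⟨V₂, hx₂, t, rfl⟩ := ((Scheme.Modules.pushforward i).obj M).presheaf.exists_germ_eq b
    have hxW : x ∈ V₁ ⊓ V₂ ⊓ U₀ := ⟨⟨hx₁, hx₂⟩, hxU₀⟩
    rw [← TopCat.Presheaf.germ_res_apply _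
        (homOfLE (inf_le_left.trans inf_le_left : V₁ ⊓ V₂ ⊓ U₀ ≤ V₁)) x hxW s,
      ← TopCat.Presheaf.germ_res_apply _
        (homOfLE (inf_le_left.trans inf_le_right : V₁ ⊓ V₂ ⊓ U₀ ≤ V₂)) x hxW t]
    have hbot : i ⁻¹ᵁ (V₁ ⊓ V₂ ⊓ U₀) = ⊥ := by
      ext z
      simp only [Opens.map_coe, Set.mem_preimage, SetLike.mem_coe, Opens.coe_bot, Set.mem_empty_iff_false,
        iff_false]
      intro hz
      exact hz.2 ⟨z, rfl⟩
    have : Subsingleton Γ(M, i ⁻¹ᵁ (V₁ ⊓ V₂ ⊓ U₀)) := subsingleton_of_eq_bot M _ hbot
    congr 1
    exact Subsingleton.elim (α := Γ(M, i ⁻¹ᵁ (V₁ ⊓ V₂ ⊓ U₀))) _ _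
  exact @AddCommGrpCat.isZero_of_subsingleton
    ((Scheme.Modules.pushforward i ⋙ stalkF x).obj M) hsub

theorem isIso_stalkPushforward [IsClosedImmersion i] (M : Z.Modules) (z : Z) :
    IsIso (TopCat.Presheaf.stalkPushforward Ab.{u} i.base M.presheaf z) :=
  TopCat.Presheaf.stalkPushforward.stalkPushforward_iso_of_isInducing Ab.{u}
    i.isClosedEmbedding.isInducing M.presheaf z

/-- On the image of `i`, the stalk of `i_* M` is the stalk of `M`. -/
noncomputable def stalkPushforwardNatIso [IsClosedImmersion i] (z : Z) :
    Scheme.Modules.pushforward i ⋙ stalkF (i.base z) ≅ stalkF z :=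
  NatIso.ofComponents
    (fun M => @asIso _ _ _ _ (TopCat.Presheaf.stalkPushforward Ab.{u} i.base M.presheaf z)
      (isIso_stalkPushforward i M z))
    (by
      intro M N φ
      dsimp only [asIso_hom]
      refine TopCat.Presheaf.stalk_hom_ext _ fun U hU => ?_
      ext s
      have e1 := TopCat.Presheaf.stalkFunctor_map_germ_apply U (i.base z) hU
        ((Scheme.Modules.toPresheaf X).map ((Scheme.Modules.pushforward i).map φ)) s
      have e2 := TopCat.Presheaf.stalkPushforward_germ_apply Ab.{u} i.base N.presheaf U z hU
        (((Scheme.Modules.toPresheaf X).map ((Scheme.Modules.pushforward i).map φ)).app (op U) s)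
      have e3 := TopCat.Presheaf.stalkPushforward_germ_apply Ab.{u} i.base M.presheaf U z hU s
      have e4 := TopCat.Presheaf.stalkFunctor_map_germ_apply (i ⁻¹ᵁ U) z hU
        ((Scheme.Modules.toPresheaf Z).map φ) s
      exact ((congrArg (TopCat.Presheaf.stalkPushforward Ab.{u} i.base N.presheaf z) e1).trans e2).trans
        ((congrArg ((TopCat.Presheaf.stalkFunctor Ab.{u} z).map ((Scheme.Modules.toPresheaf Z).map φ)) e3).trans
          e4).symm)

/-- For a closed immersion `i`, every `i_* ⋙ (stalk at x)` preserves colimits. -/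
theorem preservesColimitsOfShape_pushforward_comp_stalkF [IsClosedImmersion i] (K : Type u) [SmallCategory K]
    (x : X) : PreservesColimitsOfShape K (Scheme.Modules.pushforward i ⋙ stalkF x) := by
  by_cases hx : x ∈ Set.range i.base
  · obtain ⟨z, rfl⟩ := hx
    exact preservesColimitsOfShape_of_natIso (stalkPushforwardNatIso i z).symm
  · apply Functor.preservesColimitsOfShape_of_isZero
    rw [Functor.isZero_iff]
    intro M
    exact isZero_stalk_pushforward_of_notMem i M x hx

/-- The direct image of modules along a closed immersion preserves all small colimits. -/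
theorem preservesColimitsOfShape_pushforward [IsClosedImmersion i] (K : Type u) [SmallCategory K] :
    PreservesColimitsOfShape K (Scheme.Modules.pushforward i) := by
  haveI : ∀ x : X, PreservesColimitsOfShape K (Scheme.Modules.pushforward i ⋙ stalkF x) :=
    fun x => preservesColimitsOfShape_pushforward_comp_stalkF i K x
  refine preservesColimitsOfShape_of_jointly_reflecting (ι := X) (E := fun _ => Ab.{u}) K
    (Scheme.Modules.pushforward i) (fun x => stalkF x) ?_
  intro A B f hf
  rw [isIso_iff_stalk_bijective]
  intro x
  haveI := hf x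
  exact ConcreteCategory.bijective_of_isIso ((stalkF x).map f)

theorem preservesColimits_pushforward [IsClosedImmersion i] :
    PreservesColimitsOfSize.{u, u} (Scheme.Modules.pushforward i) :=
  ⟨fun {K} _ => preservesColimitsOfShape_pushforward i K⟩

/-- The direct image of modules along a closed immersion is a left adjoint. -/
theorem isLeftAdjoint_pushforward [IsClosedImmersion i] :
    (Scheme.Modules.pushforward i).IsLeftAdjoint := by
  haveI : IsGrothendieckAbelian.{u} Z.Modules :=
    Groth.Agent.S0484.result (Opens.grothendieckTopology Z) Z.ringCatSheaf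
  haveI : WellPowered.{u} Z.Modules := IsGrothendieckAbelian.wellPowered _
  haveI : WellPowered.{u} Z.Modulesᵒᵖ := Abelian.wellPowered_opposite
  haveI := preservesColimits_pushforward i
  exact isLeftAdjoint_of_preservesColimits_of_isSeparating (isSeparator_separator Z.Modules)
    (Scheme.Modules.pushforward i)

end Groth.Agent.Lib.Seat16.ClosedPush
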