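import Mathlib
import Groth.Prelude.Def_KSix
import Groth.Agent.Lib.Seat16ClosedPush
import Groth.Agent.Lib.Helper2Push
import Groth.Agent.Lib.Seat27StalkTor
import Groth.Agent.Lib.Seat0StalkTor

/-!
# Stalks of the direct image along a closed immersion, as modules (seat 0)

For a closed immersion `i : Z ⟶ X` and `z : Z`:
* `spf i M z : (i_* M)_{i z} →+ M_z`, semilinear along `i.stalkMap z` (`spf_smul`, any morphism `i`),
  bijective for a closed immersion;
* `stalkPushIso i z : i_* ⋙ stalkFunctor X (i z) ≅ stalkOver i z` (modules over `O_{X, i z}`);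
* `stalkOverIdIso y : stalkOver (𝟙 X) y ≅ stalkFunctor X y`;
* `stalkCxPushIso`, `hasTorAmplitude_of_pushCx`: tor amplitude of `i_* F` over `𝟙 X` gives tor
  amplitude of `F` relative to `i`;
* `hasTorDimLE_zero_of_flat`: a flat morphism has tor dimension `≤ 0`;
* `hasTorAmplitude_comp_of_flatAmplitude_push` (S6191).
-/

set_option autoImplicit false
universe u
open CategoryTheory CategoryTheory.Limits AlgebraicGeometry Opposite
attribute [local instance] HasDerivedCategory.standard

namespace Groth.Agent.Lib.Seat0.StalkPush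

variable {Z X : Scheme.{u}} (i : Z ⟶ X)

/-- the comparison map `(i_* M)_{i z} ⟶ M_z` -/
noncomputable def spf (M : Z.Modules) (z : Z) :
    ((Scheme.Modules.pushforward i).obj M).presheaf.stalk (i.base z) →+ M.presheaf.stalk z :=
  (TopCat.Presheaf.stalkPushforward Ab.{u} i.base M.presheaf z).hom

lemma spf_germ (M : Z.Modules) (z : Z) (U : X.Opens) (hz : i.base z ∈ U)
    (t : Γ((Scheme.Modules.pushforward i).obj M, U)) :
    spf i M z (((Scheme.Modules.pushforward i).obj M).presheaf.germ U (i.base z) hz t) =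
      M.presheaf.germ (i ⁻¹ᵁ U) z hz t :=
  TopCat.Presheaf.stalkPushforward_germ_apply Ab.{u} i.base M.presheaf U z hz t

lemma germ_smul' (M : X.Modules) (y : X) (W : X.Opens) (hy : y ∈ W) (a : Γ(X, W))
    (b : Γ(M, W)) :
    M.presheaf.germ W y hy (a • b) = X.presheaf.germ W y hy a • M.presheaf.germ W y hy b :=
  PresheafOfModules.germ_smul (R := X.presheaf)
    (show PresheafOfModules (X.presheaf ⋙ forget₂ CommRingCat RingCat) from M.val) y W hy a b

/-- the comparison map is semilinear along the stalk map of `i` -/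
theorem spf_smul (M : Z.Modules) (z : Z) (r : X.presheaf.stalk (i.base z))
    (m : ((Scheme.Modules.pushforward i).obj M).presheaf.stalk (i.base z)) :
    spf i M z (r • m) = (i.stalkMap z r) • spf i M z m := by
  obtain ⟨U, hyU, s, rfl⟩ := X.presheaf.exists_germ_eq (x := i.base z) r
  obtain ⟨V, hyV, t, rfl⟩ := ((Scheme.Modules.pushforward i).obj M).presheaf.exists_germ_eq
    (x := i.base z) m
  have hyW : i.base z ∈ U ⊓ V := ⟨hyU, hyV⟩
  have hs := X.presheaf.germ_res_apply (homOfLE inf_le_left : U ⊓ V ⟶ U) (i.base z) hyW s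
  have ht := ((Scheme.Modules.pushforward i).obj M).presheaf.germ_res_apply
    (homOfLE inf_le_right : U ⊓ V ⟶ V) (i.base z) hyW t
  rw [← hs, ← ht]
  generalize X.presheaf.map (homOfLE inf_le_left : U ⊓ V ⟶ U).op s = s'
  generalize ((Scheme.Modules.pushforward i).obj M).presheaf.map
    (homOfLE inf_le_right : U ⊓ V ⟶ V).op t = t'
  rw [← germ_smul', spf_germ, spf_germ, Scheme.Hom.germ_stalkMap_apply]
  rw [Groth.Agent.Lib.Helper2.Push.pushforward_smul]
  exact germ_smul' M z (i ⁻¹ᵁ (U ⊓ V)) hyW (i.app (U ⊓ V) s') t'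

variable [IsClosedImmersion i]

lemma spf_bijective (M : Z.Modules) (z : Z) : Function.Bijective (spf i M z) := by
  have h := Groth.Agent.Lib.Seat16.ClosedPush.isIso_stalkPushforward i M z
  exact (ConcreteCategory.isIso_iff_bijective _).1 h

/-- the comparison as a linear map over `O_{X, i z}` -/
noncomputable def spfLin (M : Z.Modules) (z : Z) :
    ((Scheme.Modules.pushforward i ⋙ DerSch.stalkFunctor X (i.base z)).obj M)
      →ₗ[X.presheaf.stalk (i.base z)] ((DerSch.stalkOver i z).obj M) where
  toFun := spf i M z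
  map_add' := fun a b => map_add _ a b
  map_smul' := fun r m => spf_smul i M z r m

/-- the comparison as a linear equivalence over `O_{X, i z}` -/
noncomputable def spfEquiv (M : Z.Modules) (z : Z) :
    ((Scheme.Modules.pushforward i ⋙ DerSch.stalkFunctor X (i.base z)).obj M)
      ≃ₗ[X.presheaf.stalk (i.base z)] ((DerSch.stalkOver i z).obj M) :=
  LinearEquiv.ofBijective (spfLin i M z) (spf_bijective i M z)

/-- for a closed immersion `i`, the stalk of `i_* M` at `i z` is the stalk of `M` at `z`, as
modules over `O_{X, i z}` -/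
noncomputable def stalkPushIso (z : Z) :
    Scheme.Modules.pushforward i ⋙ DerSch.stalkFunctor X (i.base z) ≅ DerSch.stalkOver i z :=
  NatIso.ofComponents (fun M => (spfEquiv i M z).toModuleIso) (by
    intro M N φ
    ext m
    change spf i N z ((DerSch.stalkFunctor X (i.base z)).map
      ((Scheme.Modules.pushforward i).map φ) m) = (DerSch.stalkFunctor Z z).map φ (spf i M z m)
    obtain ⟨U, hU, t, rfl⟩ := ((Scheme.Modules.pushforward i).obj M).presheaf.exists_germ_eq
      (x := i.base z) m
    rw [DerSch.stalkFunctor_map_germ, spf_germ, spf_germ, DerSch.stalkFunctor_map_germ]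
    rfl)

/-- the stalk functor over the identity is the stalk functor -/
noncomputable def stalkOverIdIso (y : X) : DerSch.stalkOver (𝟙 X) y ≅ DerSch.stalkFunctor X y :=
  Functor.isoWhiskerLeft _ (ModuleCat.restrictScalarsId'.{u} _ (by
    rw [Scheme.Hom.stalkMap_id]; rfl)) ≪≫ Functor.rightUnitor _

/-- `i_* ⋙ (stalk at i z over the identity)` is the stalk at `z` over `i` -/
noncomputable def pushStalkIdIso (z : Z) :
    Scheme.Modules.pushforward i ⋙ DerSch.stalkOver (𝟙 X) (i.base z) ≅ DerSch.stalkOver i z :=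
  Functor.isoWhiskerLeft (Scheme.Modules.pushforward i) (stalkOverIdIso (i.base z)) ≪≫
      stalkPushIso i z

/-- the complex of stalks of `i_* F` at `i z` (over the identity of `X`) is the complex of stalks
of `F` at `z` over `O_{X, i z}` -/
noncomputable def stalkCxPushIso (z : Z) (F : CochainComplex Z.Modules ℤ) :
    (DerSch.stalkCxOver (𝟙 X) (i.base z)).obj
        (((Scheme.Modules.pushforward i).mapHomologicalComplex (ComplexShape.up ℤ)).obj F) ≅
      (DerSch.stalkCxOver i z).obj F :=
  HomologicalComplex.Hom.isoOfComponents (fun n => (pushStalkIdIso i z).app (F.X n))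
    (fun n m _ => ((pushStalkIdIso i z).hom.naturality (F.d n m)).symm)

open Groth.Agent.Lib.Helper1.Tor in
/-- tor amplitude of `i_* F` over the identity of `X` gives tor amplitude of `F` relative to the
closed immersion `i` -/
theorem hasTorAmplitude_of_pushCx (F : CochainComplex Z.Modules ℤ) (a b : ℤ)
    (h : DerSch.HasTorAmplitude (𝟙 X) a b (((Scheme.Modules.pushforward i).mapHomologicalComplex (ComplexShape.up ℤ)).obj F)) :
    DerSch.HasTorAmplitude i a b F := by
  intro z
  exact hasTorAmp_of_iso (DerivedCategory.Q.mapIso (stalkCxPushIso i z F)) (h (i.base z))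

omit [IsClosedImmersion i] in
open Groth.Agent.Lib.Helper1.Tor Groth.Agent.Lib.Helper1.TorDim in
/-- a flat morphism has tor dimension `≤ 0` -/
theorem hasTorDimLE_zero_of_flat {Y W : Scheme.{u}} (g : Y ⟶ W) [Flat g] :
    DerSch.HasTorDimLE g 0 := by
  intro y
  letI : Algebra (W.presheaf.stalk (g.base y)) (Y.presheaf.stalk y) :=
    (g.stalkMap y).hom.toAlgebra
  haveI : Module.Flat (W.presheaf.stalk (g.base y)) (Y.presheaf.stalk y) :=
    (Flat.stalkMap g y)
  have h1 : DRing.HasTorAmplitudeIn (W.presheaf.stalk (g.base y)) (-((0 : ℕ) : ℤ)) 0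
      (Dual.inD (W.presheaf.stalk (g.base y)) (Y.presheaf.stalk y)) :=
    (hasTorDimLE_iff_hasTorAmp (Y.presheaf.stalk y) 0).1
      ((hasTorDimLE_zero_iff_flat (Y.presheaf.stalk y)).2 inferInstance)
  exact hasTorAmp_of_iso (Groth.Agent.Lib.Seat27.StalkTor.unitIso g y).symm h1

/-- **S6191** -/
theorem hasTorAmplitude_comp_of_flatAmplitude_push {Y : Scheme.{u}} (f' : X ⟶ Y) [Flat f']
    (F : CochainComplex Z.Modules ℤ) (a b : ℤ)
    (hF : DCoh.HasFlatAmplitudeIn a b (DCoh.toD X
      (((Scheme.Modules.pushforward i).mapHomologicalComplex (ComplexShape.up ℤ)).obj F))) :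
    DerSch.HasTorAmplitude (i ≫ f') a b F := by
  have h1 := Groth.Agent.Lib.Seat0.StalkTor.hasTorAmplitude_of_hasFlatAmplitudeIn _ a b hF
  have h2 := hasTorAmplitude_of_pushCx i F a b h1
  have h3 := Groth.Agent.Lib.Seat27.StalkTor.hasTorAmplitude_comp i f' 0
    (hasTorDimLE_zero_of_flat f') F a b h2
  simpa using h3

end Groth.Agent.Lib.Seat0.StalkPush
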