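import Mathlib
import Groth.Prelude.Def_KSix
import Groth.Agent.Lib.Seat0StalkPush
import Groth.Agent.Lib.Helper1KBC6
import Groth.Agent.S6950

/-!
# Flat amplitude descends along flat surjective morphisms (seat 0)

* `stalkCxIdIso`, `hasTorAmplitudeAt_id_iff`: tor amplitude at `x` over the identity is tor amplitude of
  the complex of stalks;
* `stalkPullIso`, `stalkCxPullIso`: stalks of a (termwise) pullback are the base change of the stalks;
* `hasFlatAmplitudeIn_descends`: for `f : X ⟶ Y` flat and surjective, if `Lf^* E` has flat amplitude in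
  `[a, b]` then so does `E` (through a K-flat flat resolution, `Lf^* = f^*` on it, stalkwise tor
  amplitude and the faithfully flat descent of tor amplitude for rings, S6950).
-/

set_option autoImplicit false
universe u
open CategoryTheory CategoryTheory.Limits AlgebraicGeometry Opposite
attribute [local instance] HasDerivedCategory.standard

namespace Groth.Agent.Lib.Seat0.FlatDescent

open Groth.Agent.Lib.Helper1.Sky Groth.Agent.Lib.Helper1.KBC Groth.Agent.Lib.Seat0.StalkPush
  Groth.Agent.Lib.Seat0.StalkTor Groth.Agent.Lib.Helper1.Tor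

variable {X Y : Scheme.{u}}

/-- the complex of stalks over the identity is the complex of stalks -/
noncomputable def stalkCxIdIso (x : X) (F : CochainComplex X.Modules ℤ) :
    (DerSch.stalkCxOver (𝟙 X) x).obj F ≅
      ((DerSch.stalkFunctor X x).mapHomologicalComplex (ComplexShape.up ℤ)).obj F :=
  HomologicalComplex.Hom.isoOfComponents (fun n => (stalkOverIdIso x).app (F.X n))
    (fun n m _ => ((stalkOverIdIso x).hom.naturality (F.d n m)).symm)

/-- tor amplitude at `x` over the identity, in terms of the stalk functor -/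
lemma hasTorAmplitudeAt_id_iff (F : CochainComplex X.Modules ℤ) (a b : ℤ) (x : X) :
    DerSch.HasTorAmplitudeAt (𝟙 X) a b F x ↔
      DRing.HasTorAmplitudeIn (X.presheaf.stalk x) a b
        (DRing.toD (((DerSch.stalkFunctor X x).mapHomologicalComplex (ComplexShape.up ℤ)).obj F)) :=
  ⟨fun h => hasTorAmp_of_iso (DerivedCategory.Q.mapIso (stalkCxIdIso x F)) h,
    fun h => hasTorAmp_of_iso (DerivedCategory.Q.mapIso (stalkCxIdIso x F)).symm h⟩

variable (f : X ⟶ Y)

/-- the stalk of a pullback, for the frozen stalk functors -/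
noncomputable def stalkPullIso (x : X) :
    Scheme.Modules.pullback f ⋙ DerSch.stalkFunctor X x ≅
      DerSch.stalkFunctor Y (f.base x) ⋙ ModuleCat.extendScalars.{u, u, u} (f.stalkMap x).hom :=
  Functor.isoWhiskerLeft (Scheme.Modules.pullback f) (stalkFunctorIso (x := x)) ≪≫
    stalkPullbackIso f x ≪≫
    Functor.isoWhiskerRight (stalkFunctorIso (x := f.base x)).symm
      (ModuleCat.extendScalars.{u, u, u} (f.stalkMap x).hom)

/-- the complex of stalks of a pullback -/
noncomputable def stalkCxPullIso (x : X) (K : CochainComplex Y.Modules ℤ) :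
    ((DerSch.stalkFunctor X x).mapHomologicalComplex (ComplexShape.up ℤ)).obj ((pullC f).obj K) ≅
      ((ModuleCat.extendScalars.{u, u, u} (f.stalkMap x).hom).mapHomologicalComplex
        (ComplexShape.up ℤ)).obj
        (((DerSch.stalkFunctor Y (f.base x)).mapHomologicalComplex (ComplexShape.up ℤ)).obj K) :=
  HomologicalComplex.Hom.isoOfComponents (fun n => (stalkPullIso f x).app (K.X n))
    (fun n m _ => ((stalkPullIso f x).hom.naturality (K.d n m)).symm)

/-- **flat amplitude descends along a flat surjective morphism** -/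
theorem hasFlatAmplitudeIn_descends [Flat f] [Surjective f] [DCoh.HasLpull f] (E : DCoh.D Y)
    (a b : ℤ) (h : DCoh.HasFlatAmplitudeIn a b ((DCoh.Lpull f).obj E)) :
    DCoh.HasFlatAmplitudeIn a b E := by
  let F : CochainComplex Y.Modules ℤ := DerivedCategory.Q.objPreimage E
  obtain ⟨K, q, hK, hKfl, hq, -⟩ : ∃ (K : CochainComplex Y.Modules ℤ)
      (q : K ⟶ F), DCoh.IsKFlat K ∧
      (∀ n : ℤ, ModSite.IsFlat (O := Y.sheaf) (K.X n)) ∧ QuasiIso q ∧ ∀ n : ℤ, Epi (q.f n) :=
    Groth.Agent.Lib.Helper1.BKF.exists_kflat_flat_resolution Y.sheaf F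
  have hqi : IsIso (DerivedCategory.Q.map q) := by
    rw [DerivedCategory.isIso_Q_map_iff_quasiIso]; exact hq
  let eK : DCoh.toD Y K ≅ E :=
    asIso (DerivedCategory.Q.map q) ≪≫ DerivedCategory.Q.objObjPreimageIso E
  let e1 : (DCoh.Lpull f).obj E ≅ DCoh.toD X ((pullC f).obj K) :=
    (DCoh.Lpull f).mapIso eK.symm ≪≫ lpullIsoK f K hK
  have h1 : DCoh.HasFlatAmplitudeIn a b (DCoh.toD X ((pullC f).obj K)) := by
    obtain ⟨E', hE', hfl, ⟨e⟩⟩ := h
    exact ⟨E', hE', hfl, ⟨e ≪≫ e1⟩⟩
  have h2 := hasTorAmplitude_of_hasFlatAmplitudeIn _ a b h1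
  have h3 : DerSch.HasTorAmplitude (𝟙 Y) a b K := by
    intro y
    obtain ⟨x, rfl⟩ := f.surjective y
    rw [hasTorAmplitudeAt_id_iff]
    have h4 := (hasTorAmplitudeAt_id_iff _ a b x).1 (h2 x)
    have h5 := hasTorAmp_of_iso (DerivedCategory.Q.mapIso (stalkCxPullIso f x K)) h4
    letI : Algebra (Y.presheaf.stalk (f.base x)) (X.presheaf.stalk x) :=
      (f.stalkMap x).hom.toAlgebra
    haveI : Module.Flat (Y.presheaf.stalk (f.base x)) (X.presheaf.stalk x) := Flat.stalkMap f x
    haveI : IsLocalHom (algebraMap (Y.presheaf.stalk (f.base x)) (X.presheaf.stalk x)) := by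
      rw [RingHom.algebraMap_toAlgebra]; infer_instance
    haveI : Module.FaithfullyFlat (Y.presheaf.stalk (f.base x)) (X.presheaf.stalk x) :=
      Module.FaithfullyFlat.of_flat_of_isLocalHom
    exact Groth.Agent.S6950.result _ a b h5
  obtain ⟨E', hE', hfl, ⟨e⟩⟩ := hasFlatAmplitudeIn_of_hasTorAmplitude K a b h3
  exact ⟨E', hE', hfl, ⟨e ≪≫ eK⟩⟩

end Groth.Agent.Lib.Seat0.FlatDescent
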