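import Mathlib
import Groth.Prelude.Def_MoreMor
import Groth.Agent.Lib.Helper1RelPC2
import Groth.Agent.Lib.Helper1LocBC
import Groth.Agent.S6987

/-!
# Pseudo-coherent ring maps as a property of ring homomorphisms (Seat0 = lead)

`PCH f` : the ring hom `f : R →+* S` is pseudo-coherent, i.e. there is a surjection
`φ : R[x_1..x_n] →+* S` extending `f` with `S` pseudo-coherent over the polynomial ring (`BPC φ`).
We show it agrees with the frozen `MoreMor.IsPseudoCoherentHom`, is independent of the presentation,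
stable under composition, holds for isomorphisms and localizations away, satisfies cancellation,
and is local (`RingHom.PropertyIsLocal`).
-/

set_option autoImplicit false
set_option maxHeartbeats 400000
universe u
open CategoryTheory CategoryTheory.Limits
attribute [local instance] HasDerivedCategory.standard

namespace Groth.Agent.Lib.Seat0.PCHom

open DerivedCategory
open Groth.Agent.Lib.Helper1.Restrict Groth.Agent.Lib.Helper1.RelPC Groth.Agent.Lib.Helper1.PC
open Groth.Agent.Lib.Helper1.LocBC Groth.Agent.Lib.Helper1.Extend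

/-- `f : R →+* S` is a pseudo-coherent ring map (unbundled form). -/
def PCH {R S : Type u} [CommRing R] [CommRing S] (f : R →+* S) : Prop :=
  ∃ (n : ℕ) (φ : MvPolynomial (Fin n) R →+* S),
    φ.comp MvPolynomial.C = f ∧ Function.Surjective φ ∧ BPC φ

section Basic

variable {R S T : Type u} [CommRing R] [CommRing S] [CommRing T]

/-- a ring hom out of a polynomial ring extending `algebraMap`, as an algebra hom -/
def mkAlg [Algebra R S] {n : ℕ} (φ : MvPolynomial (Fin n) R →+* S)
    (h : φ.comp MvPolynomial.C = algebraMap R S) : MvPolynomial (Fin n) R →ₐ[R] S :=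
  { φ with commutes' := fun r => DFunLike.congr_fun h r }

lemma mkAlg_coe [Algebra R S] {n : ℕ} (φ : MvPolynomial (Fin n) R →+* S)
    (h : φ.comp MvPolynomial.C = algebraMap R S) :
    ((mkAlg φ h : MvPolynomial (Fin n) R →ₐ[R] S) : MvPolynomial (Fin n) R →+* S) = φ := rfl

/-- cancellation for `BPC` -/
lemma bpc_cancel {A B C : Type u} [CommRing A] [CommRing B] [CommRing C]
    (φ : A →+* B) (ψ : B →+* C) (hφ : BPC φ) (h : BPC (ψ.comp φ)) : BPC ψ := by
  intro j
  refine (isPC_restrictD_iff φ hφ _ j).2 ?_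
  refine isPC_of_iso ?_ (h j)
  exact (restrictDSingleIso φ _ 0 ≪≫ (DerivedCategory.singleFunctor (ModuleCat.{u} A) 0).mapIso
    (ModuleCat.restrictScalarsComp'App φ ψ (ψ.comp φ) rfl (ModuleCat.of C C)).symm).symm

/-- `BPC φ` in terms of `IsRelPseudoCoherentVia`. -/
lemma bpc_iff_via [Algebra R S] {n : ℕ} (α : MvPolynomial (Fin n) R →ₐ[R] S) :
    BPC (α : MvPolynomial (Fin n) R →+* S) ↔
      ∀ m : ℤ, DerCA.IsRelPseudoCoherentVia α m (Dual.inD S S) := by
  unfold DerCA.IsRelPseudoCoherentVia BPC
  refine forall_congr' (fun m => ?_)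
  exact ⟨fun h => isPC_of_iso (restrictDSingleIso _ _ 0).symm h,
    fun h => isPC_of_iso (restrictDSingleIso _ _ 0) h⟩

/-- the frozen predicate agrees with `PCH` -/
theorem isPseudoCoherentHom_iff [Algebra R S] :
    MoreMor.IsPseudoCoherentHom R S ↔ PCH (algebraMap R S) := by
  constructor
  · rintro ⟨n, φ, hφ, hpc⟩
    refine ⟨n, (φ : MvPolynomial (Fin n) R →+* S), ?_, hφ, ?_⟩
    · ext r
      exact φ.commutes r
    · let _ : Algebra (MvPolynomial (Fin n) R) S := φ.toRingHom.toAlgebra
      exact bpc_of_algebra hpc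
  · rintro ⟨n, φ, hφC, hφ, hpc⟩
    let α : MvPolynomial (Fin n) R →ₐ[R] S := mkAlg φ hφC
    refine ⟨n, α, hφ, ?_⟩
    let _ : Algebra (MvPolynomial (Fin n) R) S := α.toRingHom.toAlgebra
    exact pcModule'_of_bpc (A := MvPolynomial (Fin n) R) (B := S) hpc

/-- independence of the presentation -/
theorem bpc_of_pch {f : R →+* S} (h : PCH f) {k : ℕ} (ψ : MvPolynomial (Fin k) R →+* S)
    (hψC : ψ.comp MvPolynomial.C = f) (hψ : Function.Surjective ψ) : BPC ψ := by
  obtain ⟨n, φ, hφC, hφ, hpc⟩ := h
  let _ : Algebra R S := f.toAlgebra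
  let α : MvPolynomial (Fin n) R →ₐ[R] S := mkAlg φ hφC
  let β : MvPolynomial (Fin k) R →ₐ[R] S := mkAlg ψ hψC
  have h1 : BPC (α : MvPolynomial (Fin n) R →+* S) := hpc
  have h2 : BPC (β : MvPolynomial (Fin k) R →+* S) := by
    rw [bpc_iff_via] at h1 ⊢
    intro m
    exact (via_iff α hφ β hψ _ m).1 (h1 m)
  exact h2

theorem pch_of_bijective {f : R →+* S} (hf : Function.Bijective f) : PCH f := by
  refine ⟨0, f.comp (MvPolynomial.isEmptyAlgEquiv R (Fin 0)).toRingEquiv.toRingHom, ?_, ?_, ?_⟩
  · ext r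
    have h1 : (MvPolynomial.isEmptyAlgEquiv R (Fin 0)) (MvPolynomial.C r) = r :=
      (MvPolynomial.isEmptyAlgEquiv R (Fin 0)).commutes r
    show f ((MvPolynomial.isEmptyAlgEquiv R (Fin 0)) (MvPolynomial.C r)) = f r
    rw [h1]
  · exact hf.surjective.comp (MvPolynomial.isEmptyAlgEquiv R (Fin 0)).surjective
  · exact bpc_comp _ _ (bpc_of_bijective _ (MvPolynomial.isEmptyAlgEquiv R (Fin 0)).bijective)
      (bpc_of_bijective _ hf)

/-- composition -/
theorem pch_comp {f : R →+* S} {g : S →+* T} (hf : PCH f) (hg : PCH g) : PCH (g.comp f) := by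
  obtain ⟨n, φ, hφC, hφ, hφpc⟩ := hf
  obtain ⟨k, ψ, hψC, hψ, hψpc⟩ := hg
  let μ : MvPolynomial (Fin k) (MvPolynomial (Fin n) R) →+* MvPolynomial (Fin k) S :=
    MvPolynomial.map φ
  let σ : MvPolynomial (Fin (k + n)) R →+* MvPolynomial (Fin k) (MvPolynomial (Fin n) R) :=
    (sumEquiv R n k).toRingEquiv.toRingHom
  refine ⟨k + n, (ψ.comp μ).comp σ, ?_, ?_, ?_⟩
  · ext r
    have h1 : σ (MvPolynomial.C r) = MvPolynomial.C (MvPolynomial.C r) :=
      (sumEquiv R n k).commutes r
    show ψ (μ (σ (MvPolynomial.C r))) = g (f r)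
    rw [h1]
    show ψ (MvPolynomial.map φ (MvPolynomial.C (MvPolynomial.C r))) = g (f r)
    rw [MvPolynomial.map_C, ← hφC, ← hψC]
    rfl
  · exact (hψ.comp (MvPolynomial.map_surjective φ hφ)).comp (sumEquiv R n k).surjective
  · exact bpc_comp _ _ (bpc_of_bijective _ (sumEquiv R n k).toRingEquiv.bijective)
      (bpc_comp _ _ (bpc_map φ hφpc k) hψpc)

/-- cancellation: if `f` and `g ∘ f` are pseudo-coherent then so is `g`. -/
theorem pch_cancel {f : R →+* S} {g : S →+* T} (hf : PCH f) (hgf : PCH (g.comp f)) : PCH g := by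
  obtain ⟨n, φ, hφC, hφ, hφpc⟩ := hf
  obtain ⟨k, ψ, hψC, hψ, hψpc⟩ := id hgf
  -- presentation of `T` over `S`
  let γ : MvPolynomial (Fin k) S →+* T := MvPolynomial.eval₂Hom g (fun j => ψ (MvPolynomial.X j))
  let μ : MvPolynomial (Fin k) (MvPolynomial (Fin n) R) →+* MvPolynomial (Fin k) S :=
    MvPolynomial.map φ
  let σ : MvPolynomial (Fin (k + n)) R →+* MvPolynomial (Fin k) (MvPolynomial (Fin n) R) :=
    (sumEquiv R n k).toRingEquiv.toRingHom
  have hγC : γ.comp MvPolynomial.C = g := by
    ext s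
    simp [γ]
  have hγψ : γ.comp (MvPolynomial.map f) = ψ := by
    refine MvPolynomial.ringHom_ext (fun r => ?_) (fun j => ?_)
    · have := DFunLike.congr_fun hψC r
      simp only [RingHom.comp_apply] at this
      simp [γ, this]
    · simp [γ]
  have hγ : Function.Surjective γ := by
    intro t
    obtain ⟨p, rfl⟩ := hψ t
    exact ⟨MvPolynomial.map f p, by rw [← hγψ]; rfl⟩
  refine ⟨k, γ, hγC, hγ, ?_⟩
  refine bpc_cancel μ γ (bpc_map φ hφpc k) ?_
  refine bpc_cancel σ (γ.comp μ) (bpc_of_bijective _ (sumEquiv R n k).toRingEquiv.bijective) ?_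
  refine bpc_of_pch hgf _ ?_ ?_
  · ext r
    have h1 : σ (MvPolynomial.C r) = MvPolynomial.C (MvPolynomial.C r) :=
      (sumEquiv R n k).commutes r
    show γ (μ (σ (MvPolynomial.C r))) = g (f r)
    rw [h1]
    show γ (MvPolynomial.map φ (MvPolynomial.C (MvPolynomial.C r))) = g (f r)
    rw [MvPolynomial.map_C, ← hφC]
    simp [γ]
  · exact (hγ.comp (MvPolynomial.map_surjective φ hφ)).comp (sumEquiv R n k).surjective

end Basic

section Local

variable {R S T : Type u} [CommRing R] [CommRing S] [CommRing T]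

theorem pch_finiteType {f : R →+* S} (h : PCH f) : f.FiniteType := by
  obtain ⟨n, φ, hφC, hφ, -⟩ := h
  let _ : Algebra R S := f.toAlgebra
  exact Algebra.FiniteType.iff_quotient_mvPolynomial''.2 ⟨n, mkAlg φ hφC, hφ⟩

theorem pch_away (r : R) : PCH (algebraMap R (Localization.Away r)) :=
  ⟨1, awayPres r, by ext p; exact awayPres_C r p, awayPres_surjective r, bpc_awayPres r⟩

theorem pch_stableUnderComposition : RingHom.StableUnderComposition @PCH := by
  introv R hf hg
  exact pch_comp hf hg

theorem pch_holdsForLocalizationAway : RingHom.HoldsForLocalizationAway @PCH := by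
  introv R _
  let e : Localization.Away r ≃ₐ[R] S := IsLocalization.algEquiv (Submonoid.powers r) _ _
  have h : algebraMap R S =
      (e : Localization.Away r →+* S).comp (algebraMap R (Localization.Away r)) := by
    ext x
    exact (e.commutes x).symm
  rw [h]
  exact pch_comp (pch_away r) (pch_of_bijective e.bijective)

theorem pch_respectsIso : RingHom.RespectsIso @PCH :=
  pch_stableUnderComposition.respectsIso (fun e => pch_of_bijective e.bijective)

theorem pch_localizationAwayPreserves : RingHom.LocalizationAwayPreserves @PCH := by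
  intro R S _ _ f r R' S' _ _ _ _ _ _ hf
  have h1 : PCH ((algebraMap S S').comp f) := pch_comp hf (pch_holdsForLocalizationAway S' (f r))
  have h2 : (IsLocalization.Away.map R' S' f r).comp (algebraMap R R') = (algebraMap S S').comp f :=
    IsLocalization.map_comp _
  rw [← h2] at h1
  exact pch_cancel (pch_holdsForLocalizationAway R' r) h1

lemma rel_of_iso [Algebra R S] {K K' : Dual.D S} (e : K ≅ K') (m : ℤ)
    (h : DerCA.IsRelPseudoCoherent R S m K) : DerCA.IsRelPseudoCoherent R S m K' := by
  obtain ⟨n, α, hα, h⟩ := h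
  exact ⟨n, α, hα, isPC_of_iso ((DRing.restrictD _).mapIso e) h⟩

/-- the structure-module complex `S[0]` -/
noncomputable abbrev cx0 (S : Type u) [CommRing S] : DRing.Cx S :=
  (CochainComplex.singleFunctor (ModuleCat.{u} S) 0).obj (ModuleCat.of S S)

noncomputable def cx0Iso (S : Type u) [CommRing S] : DRing.toD (cx0 S) ≅ Dual.inD S S :=
  ((DerivedCategory.singleFunctorIsoCompQ (ModuleCat.{u} S) 0).app (ModuleCat.of S S)).symm

/-- localising `S[0]` gives `S_g[0]` -/
noncomputable def extCx0Iso (S : Type u) [CommRing S] (B : Type u) [CommRing B] [Algebra S B]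
    [Module.Flat S B] :
    DRing.toD ((extCx S B).obj (cx0 S)) ≅ Dual.inD B B :=
  (mapQIso (ext S B) (cx0 S)).symm ≪≫ (extD S B).mapIso (cx0Iso S) ≪≫ extDInDIso (A := S) (B := B) S ≪≫
    (DerivedCategory.singleFunctor (ModuleCat.{u} B) 0).mapIso
      (TensorProduct.AlgebraTensorModule.rid S B B).toModuleIso

lemma rel_of_pch [Algebra R S] (h : PCH (algebraMap R S)) (m : ℤ) :
    DerCA.IsRelPseudoCoherent R S m (Dual.inD S S) := by
  obtain ⟨n, φ, hφC, hφ, hpc⟩ := h
  have h1 : BPC ((mkAlg φ hφC : MvPolynomial (Fin n) R →ₐ[R] S) : MvPolynomial (Fin n) R →+* S) := hpc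
  rw [bpc_iff_via] at h1
  exact ⟨n, mkAlg φ hφC, hφ, h1 m⟩

theorem pch_ofLocalizationFiniteSpanTarget : RingHom.OfLocalizationFiniteSpanTarget @PCH := by
  intro R S _ _ f s hs H
  have hft : f.FiniteType :=
    RingHom.finiteType_ofLocalizationSpanTarget f (s : Set S) hs (fun r => pch_finiteType (H r))
  let _ : Algebra R S := f.toAlgebra
  have : Algebra.FiniteType R S := hft
  obtain ⟨n, α, hα⟩ := exists_presentation R S
  refine ⟨n, (α : MvPolynomial (Fin n) R →+* S), ?_, hα, ?_⟩
  · ext r
    exact α.commutes r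
  rw [bpc_iff_via]
  intro m
  rw [← rel_iff_via α hα]
  refine rel_of_iso (cx0Iso S) m ?_
  let g : Fin s.card → S := fun i => (s.equivFin.symm i : S)
  have hg : Ideal.span (Set.range g) = ⊤ := by
    have : Set.range g = (s : Set S) := by
      ext x
      constructor
      · rintro ⟨i, rfl⟩
        exact (s.equivFin.symm i).2
      · intro hx
        exact ⟨s.equivFin ⟨x, hx⟩, by simp [g]⟩
    rw [this, hs]
  refine (Groth.Agent.S6987.result (cx0 S) m g hg).2 (fun i => ?_)
  refine rel_of_iso (extCx0Iso S (Localization.Away (g i))).symm m ?_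
  refine rel_of_pch ?_ m
  have := H ⟨g i, (s.equivFin.symm i).2⟩
  convert this using 1
  exact IsScalarTower.algebraMap_eq R S (Localization.Away (g i))

theorem pch_ofLocalizationSpanTarget : RingHom.OfLocalizationSpanTarget @PCH :=
  (RingHom.ofLocalizationSpanTarget_iff_finite _).2 pch_ofLocalizationFiniteSpanTarget

theorem pch_isLocal : RingHom.PropertyIsLocal @PCH :=
  ⟨pch_localizationAwayPreserves, pch_ofLocalizationSpanTarget,
    pch_ofLocalizationSpanTarget.ofLocalizationSpan
      (pch_stableUnderComposition.stableUnderCompositionWithLocalizationAway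
        pch_holdsForLocalizationAway).left,
    (pch_stableUnderComposition.stableUnderCompositionWithLocalizationAway
      pch_holdsForLocalizationAway).right⟩

end Local

end Groth.Agent.Lib.Seat0.PCHom
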