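import Mathlib
import Groth.Prelude.Def_MoreMor
import Groth.Agent.Lib.Seat0PCHom

/-!
# Finite pseudo-coherent ring maps (Seat0 = lead)

For a finite ring map `f : R →+* A`: `PCH f ↔ BPC f` (i.e. `A` is a pseudo-coherent `R`-module).
-/

set_option autoImplicit false
set_option maxHeartbeats 400000
universe u
open CategoryTheory CategoryTheory.Limits
attribute [local instance] HasDerivedCategory.standard

namespace Groth.Agent.Lib.Seat0.PCFinite

open DerivedCategory Polynomial
open Groth.Agent.S7017
open Groth.Agent.Lib.Helper1.Restrict Groth.Agent.Lib.Helper1.RelPC Groth.Agent.Lib.Helper1.PC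
open Groth.Agent.Lib.Seat0.PCHom

/-- quotient by a regular element is pseudo-coherent -/
lemma bpc_quotient_regular {Q B : Type u} [CommRing Q] [CommRing B] (π : Q →+* B)
    (hπ : Function.Surjective π) (g : Q) (hg : ∀ q : Q, g * q = 0 → q = 0)
    (hker : ∀ q : Q, π q = 0 → g ∣ q) (hg0 : π g = 0) : BPC π := by
  intro j
  let M : ModuleCat.{u} Q := (ModuleCat.restrictScalars.{u} π).obj (ModuleCat.of B B)
  let g₀ : Q →ₗ[Q] M :=
    { toFun := fun q => (π q : B)
      map_add' := fun p q => map_add π p q
      map_smul' := fun q p => by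
        show π (q * p) = π q * π p
        exact map_mul π q p }
  let f₀ : Q →ₗ[Q] Q := LinearMap.mulLeft Q g
  have w : ModuleCat.ofHom f₀ ≫ ModuleCat.ofHom g₀ = 0 := by
    ext
    show π (g * 1) = 0
    rw [mul_one, hg0]
  let S : ShortComplex (ModuleCat.{u} Q) :=
    ShortComplex.mk (ModuleCat.ofHom f₀) (ModuleCat.ofHom g₀) w
  have hS : S.ShortExact := by
    refine ShortComplex.ShortExact.mk' ?_ ?_ ?_
    · rw [ShortComplex.moduleCat_exact_iff]
      intro (p : Q) hp
      have hp' : π p = 0 := hp
      obtain ⟨q, hq⟩ := hker p hp'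
      exact ⟨q, hq.symm⟩
    · rw [ModuleCat.mono_iff_injective]
      intro (p : Q) (q : Q) hpq
      have hpq' : g * p = g * q := hpq
      have h0 : g * (p - q) = 0 := by rw [mul_sub, hpq', sub_self]
      exact sub_eq_zero.1 (hg _ h0)
    · rw [ModuleCat.epi_iff_surjective]
      intro (y : B)
      obtain ⟨q, hq⟩ := hπ y
      exact ⟨q, hq⟩
  have hT := hS.singleTriangle_distinguished
  have h1 : DRing.IsPseudoCoherent Q (j + 1)
      ((singleFunctor (ModuleCat.{u} Q) 0).obj (ModuleCat.of Q Q)) :=
    isPC_of_rep _ (rep_single _ (FF_self Q) 0)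
  have h2 : DRing.IsPseudoCoherent Q j
      ((singleFunctor (ModuleCat.{u} Q) 0).obj (ModuleCat.of Q Q)) :=
    isPC_of_rep _ (rep_single _ (FF_self Q) 0)
  exact isPC_obj₃ _ hT j h1 h2

/-- a finite free algebra is pseudo-coherent as a module -/
lemma bpc_of_finite_free {R B : Type u} [CommRing R] [CommRing B] [Algebra R B]
    [Module.Finite R B] [Module.Free R B] : BPC (algebraMap R B) := by
  intro j
  have hF : FF ((ModuleCat.restrictScalars.{u} (algebraMap R B)).obj (ModuleCat.of B B)) :=
    FF_iso _ _ (restrictScalarsAlgebraIso (A := R) (B := B) B).symm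
      ⟨inferInstanceAs (Module.Finite R B), inferInstanceAs (Module.Free R B)⟩
  exact isPC_of_rep j (rep_single _ hF 0)

/-- eliminating one integral variable -/
lemma bpc_elim_one {R' A : Type u} [CommRing R'] [CommRing A] (φ' : R'[X] →+* A)
    (p : R'[X]) (hp : p.Monic) (hφp : φ' p = 0) (h : BPC φ') : BPC (φ'.comp Polynomial.C) := by
  let π : R'[X] →+* AdjoinRoot p := AdjoinRoot.mk p
  have hπ : Function.Surjective π := AdjoinRoot.mk_surjective
  have h1 : BPC π := by
    refine bpc_quotient_regular π hπ p (fun q hq => ?_) (fun q hq => ?_) ?_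
    · exact (hp.mul_right_eq_zero_iff).1 hq
    · exact AdjoinRoot.mk_eq_zero.1 hq
    · exact AdjoinRoot.mk_self
  let ψ : AdjoinRoot p →+* A := AdjoinRoot.lift (φ'.comp Polynomial.C) (φ' Polynomial.X) (by
    rw [← hφp]
    conv_rhs => rw [← Polynomial.eval₂_C_X (p := p)]
    rw [Polynomial.hom_eval₂])
  have hψπ : ψ.comp π = φ' := by
    refine Polynomial.ringHom_ext (fun a => ?_) ?_
    · simp [ψ, π]
    · simp [ψ, π]
  have h2 : BPC ψ := bpc_cancel π ψ h1 (hψπ ▸ h)
  have : Module.Finite R' (AdjoinRoot p) := hp.finite_adjoinRoot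
  have : Module.Free R' (AdjoinRoot p) := hp.free_adjoinRoot
  have h3 : BPC (algebraMap R' (AdjoinRoot p)) := bpc_of_finite_free
  have h4 : ψ.comp (algebraMap R' (AdjoinRoot p)) = φ'.comp Polynomial.C := by
    ext a
    simp [ψ, AdjoinRoot.algebraMap_eq]
  rw [← h4]
  exact bpc_comp _ _ h3 h2

/-- eliminating integral variables -/
theorem bpc_of_integral {R A : Type u} [CommRing R] [CommRing A] :
    ∀ (n : ℕ) (φ : MvPolynomial (Fin n) R →+* A),
      (∀ i, (φ.comp MvPolynomial.C).IsIntegralElem (φ (MvPolynomial.X i))) → BPC φ →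
        BPC (φ.comp MvPolynomial.C) := by
  intro n
  induction n with
  | zero =>
    intro φ _ h
    exact bpc_comp _ _ (bpc_of_bijective _
      ⟨MvPolynomial.C_injective (Fin 0) R, MvPolynomial.C_surjective (Fin 0)⟩) h
  | succ n ih =>
    intro φ hint h
    let e := MvPolynomial.finSuccEquiv R n
    let φ' : (MvPolynomial (Fin n) R)[X] →+* A := φ.comp (e.symm : _ →+* _)
    have hφ' : BPC φ' := bpc_comp _ _ (bpc_of_bijective _ e.symm.bijective) h
    obtain ⟨p, hp, hpa⟩ := hint 0
    let p' : (MvPolynomial (Fin n) R)[X] := p.map MvPolynomial.C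
    have hp' : p'.Monic := hp.map _
    have hφX : φ' Polynomial.X = φ (MvPolynomial.X 0) := by
      show φ (e.symm Polynomial.X) = _
      congr 1
      apply e.injective
      rw [AlgEquiv.apply_symm_apply, MvPolynomial.finSuccEquiv_X_zero]
    have hφC : ∀ r : R, φ' (Polynomial.C (MvPolynomial.C r)) = φ (MvPolynomial.C r) := by
      intro r
      show φ (e.symm (Polynomial.C (MvPolynomial.C r))) = _
      congr 1
      apply e.injective
      rw [AlgEquiv.apply_symm_apply]
      simp [e, MvPolynomial.finSuccEquiv_apply]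
    have hφp : φ' p' = 0 := by
      have : φ' p' = Polynomial.eval₂ (φ.comp MvPolynomial.C) (φ (MvPolynomial.X 0)) p := by
        conv_lhs => rw [← Polynomial.eval₂_C_X (p := p')]
        rw [Polynomial.hom_eval₂, Polynomial.eval₂_map, hφX]
        congr 1
        ext r
        exact hφC r
      rw [this, hpa]
    have h1 := bpc_elim_one φ' p' hp' hφp hφ'
    -- `φ'.comp C` is the restriction of `φ` to the last `n` variables
    let φ₁ : MvPolynomial (Fin n) R →+* A := φ'.comp Polynomial.C
    have hφ₁C : φ₁.comp MvPolynomial.C = φ.comp MvPolynomial.C := by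
      ext r
      exact hφC r
    have hφ₁X : ∀ i, φ₁ (MvPolynomial.X i) = φ (MvPolynomial.X i.succ) := by
      intro i
      show φ (e.symm (Polynomial.C (MvPolynomial.X i))) = _
      congr 1
      apply e.injective
      rw [AlgEquiv.apply_symm_apply, MvPolynomial.finSuccEquiv_X_succ]
    have h2 := ih φ₁ (fun i => by rw [hφ₁C, hφ₁X]; exact hint i.succ) h1
    rw [hφ₁C] at h2
    exact h2

/-- if `A` is a pseudo-coherent `R`-module then `A` is pseudo-coherent over any polynomial ring
mapping to it. -/
theorem bpc_of_bpc_base {R A : Type u} [CommRing R] [CommRing A] {n : ℕ}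
    (φ : MvPolynomial (Fin n) R →+* A) (h : BPC (φ.comp MvPolynomial.C)) : BPC φ := by
  have h1 : BPC (MvPolynomial.map (φ.comp MvPolynomial.C) :
      MvPolynomial (Fin n) R →+* MvPolynomial (Fin n) A) := bpc_map _ h n
  have h2 := bpc_mvEval n A (fun i => φ (MvPolynomial.X i))
  have h3 : (MvPolynomial.eval (fun i => φ (MvPolynomial.X i))).comp
      (MvPolynomial.map (φ.comp MvPolynomial.C)) = φ := by
    refine MvPolynomial.ringHom_ext (fun r => ?_) (fun i => ?_)
    · simp
    · simp
  rw [← h3]
  exact bpc_comp _ _ h1 h2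

/-- for a finite ring map, pseudo-coherence of the map is pseudo-coherence of the module -/
theorem pch_iff_bpc_of_finite {R A : Type u} [CommRing R] [CommRing A] (f : R →+* A)
    (hf : f.Finite) : PCH f ↔ BPC f := by
  constructor
  · rintro ⟨n, φ, hφC, hφ, hpc⟩
    rw [← hφC]
    refine bpc_of_integral n φ (fun i => ?_) hpc
    rw [hφC]
    exact hf.to_isIntegral _
  · intro h
    have hft : f.FiniteType := hf.finiteType
    let _ : Algebra R A := f.toAlgebra
    have : Algebra.FiniteType R A := hft
    obtain ⟨n, α, hα⟩ := exists_presentation R A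
    have hC : (α : MvPolynomial (Fin n) R →+* A).comp MvPolynomial.C = f := by
      ext r
      exact α.commutes r
    refine ⟨n, (α : MvPolynomial (Fin n) R →+* A), hC, hα, ?_⟩
    exact bpc_of_bpc_base _ (hC ▸ h)

end Groth.Agent.Lib.Seat0.PCFinite
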