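import Mathlib
import Groth.Prelude.Def_MoreMor
import Groth.Agent.Lib.Seat0PCHom

/-!
# Flat base change of pseudo-coherent ring maps (Seat0 = lead)
-/

set_option autoImplicit false
set_option maxHeartbeats 400000
universe u
open CategoryTheory CategoryTheory.Limits
attribute [local instance] HasDerivedCategory.standard

namespace Groth.Agent.Lib.Seat0.PCFlatBC

open DerivedCategory
open Groth.Agent.Lib.Helper1.Restrict Groth.Agent.Lib.Helper1.RelPC Groth.Agent.Lib.Helper1.PC
open Groth.Agent.Lib.Helper1.Extend
open Groth.Agent.Lib.Seat0.PCHom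

attribute [local instance] MvPolynomial.algebraMvPolynomial in
/-- flat base change of a pseudo-coherent ring map (pushout form) -/
theorem pch_flat_baseChange {R R' A A' : Type u} [CommRing R] [CommRing R'] [CommRing A]
    [CommRing A'] [Algebra R R'] [Algebra R A] [Algebra R' A'] [Algebra A A'] [Algebra R A']
    [IsScalarTower R R' A'] [IsScalarTower R A A'] [Algebra.IsPushout R R' A A']
    [Module.Flat R R'] (h : PCH (algebraMap R A)) : PCH (algebraMap R' A') := by
  obtain ⟨n, φ, hφC, hφ, hpc⟩ := h
  let P := MvPolynomial (Fin n) R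
  let P' := MvPolynomial (Fin n) R'
  let φ' : P' →+* A' :=
    MvPolynomial.eval₂Hom (algebraMap R' A') (fun i => algebraMap A A' (φ (MvPolynomial.X i)))
  let _ : Algebra P A := φ.toAlgebra
  let _ : Algebra P' A' := φ'.toAlgebra
  let _ : Algebra P A' := ((algebraMap A A').comp φ).toAlgebra
  have hφ'C : ∀ r' : R', φ' (MvPolynomial.C r') = algebraMap R' A' r' := fun r' =>
    MvPolynomial.eval₂Hom_C _ _ r'
  have hφ'X : ∀ i, φ' (MvPolynomial.X i) = algebraMap A A' (φ (MvPolynomial.X i)) := fun i =>
    MvPolynomial.eval₂Hom_X' _ _ i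
  have hφ'map : ∀ p : P, φ' (MvPolynomial.map (algebraMap R R') p) = algebraMap A A' (φ p) := by
    intro p
    have : φ'.comp (MvPolynomial.map (algebraMap R R')) = (algebraMap A A').comp φ := by
      refine MvPolynomial.ringHom_ext (fun r => ?_) (fun i => ?_)
      · have h1 : φ (MvPolynomial.C r) = algebraMap R A r := DFunLike.congr_fun hφC r
        rw [RingHom.comp_apply, RingHom.comp_apply, MvPolynomial.map_C, hφ'C, h1,
          ← IsScalarTower.algebraMap_apply, ← IsScalarTower.algebraMap_apply]
      · rw [RingHom.comp_apply, RingHom.comp_apply, MvPolynomial.map_X, hφ'X]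
    exact DFunLike.congr_fun this p
  have : IsScalarTower R P A := IsScalarTower.of_algebraMap_eq (fun r =>
    (DFunLike.congr_fun hφC r).symm)
  have : IsScalarTower P A A' := IsScalarTower.of_algebraMap_eq (fun _ => rfl)
  have : IsScalarTower P P' A' := IsScalarTower.of_algebraMap_eq (fun p => (hφ'map p).symm)
  have : IsScalarTower R' P' A' := IsScalarTower.of_algebraMap_eq (fun r' => (hφ'C r').symm)
  have : IsScalarTower R P A' := IsScalarTower.of_algebraMap_eq (fun r => by
    rw [IsScalarTower.algebraMap_apply R A A', IsScalarTower.algebraMap_apply R P A]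
    rfl)
  have : IsScalarTower R P' A' := IsScalarTower.of_algebraMap_eq (fun r => by
    rw [IsScalarTower.algebraMap_apply R R' A', IsScalarTower.algebraMap_apply R R' P',
      ← IsScalarTower.algebraMap_apply R' P' A'])
  have hpo1 : Algebra.IsPushout R A R' A' := Algebra.IsPushout.symm inferInstance
  have hpo2 : Algebra.IsPushout P A P' A' := (Algebra.IsPushout.comp_iff R P R' P').1 hpo1
  have hpo3 : Algebra.IsPushout P P' A A' := hpo2.symm
  have : Module.Flat P P' :=
    Module.Flat.isBaseChange (R := R) (S := P) (M := R') P'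
      (Algebra.IsPushout.out (R := R) (S := P) (R' := R') (S' := P'))
  let e : TensorProduct P P' A ≃ₐ[P'] A' := Algebra.IsPushout.equiv P P' A A'
  refine ⟨n, φ', ?_, ?_, ?_⟩
  · ext r'
    exact hφ'C r'
  · intro a'
    obtain ⟨t, rfl⟩ := e.surjective a'
    obtain ⟨p', rfl⟩ := TensorProduct.flip_mk_surjective (R := P) (T := A) P'
      (fun a => hφ a) t
    refine ⟨p', ?_⟩
    have h5 : e (TensorProduct.tmul P p' (1 : A)) = algebraMap P' A' p' * algebraMap A A' 1 :=
      Algebra.IsPushout.equiv_tmul P P' A A' p' (1 : A)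
    show φ' p' = e (TensorProduct.tmul P p' (1 : A))
    rw [h5, map_one, mul_one]
    rfl
  · have h1 : DRing.IsPseudoCoherentModule' P A := pcModule'_of_bpc (A := P) (B := A) hpc
    have h2 := isPC'_extD (A := P) (B := P') (Dual.inD P A) h1
    have h3 := pc'_of_iso (extDInDIso (A := P) (B := P') A) h2
    have h4 : DRing.IsPseudoCoherentModule' P' A' :=
      pc'_of_iso ((DerivedCategory.singleFunctor (ModuleCat.{u} P') 0).mapIso
        e.toLinearEquiv.toModuleIso) h3
    exact bpc_of_algebra (A := P') (B := A') h4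

end Groth.Agent.Lib.Seat0.PCFlatBC
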