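import Mathlib
import Groth.Prelude.Def_MoreMor
import Groth.Agent.Lib.Seat0PCHom

/-!
# Pseudo-coherent morphisms of schemes via `HasRingHomProperty` (Seat0 = lead)
-/

set_option autoImplicit false
universe u
open CategoryTheory CategoryTheory.Limits AlgebraicGeometry
attribute [local instance] HasDerivedCategory.standard

namespace Groth.Agent.Lib.Seat0.PCMor

open Groth.Agent.Lib.Seat0.PCHom

/-- pseudo-coherent morphisms as a morphism property -/
def PCM : MorphismProperty Scheme.{u} := affineLocally @PCH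

instance : HasRingHomProperty PCM @PCH where
  isLocal_ringHomProperty := pch_isLocal
  eq_affineLocally' := rfl

theorem isPseudoCoherentMor_iff {X Y : Scheme.{u}} (f : X ⟶ Y) :
    MoreMor.IsPseudoCoherentMor f ↔ PCM f := by
  rw [HasRingHomProperty.iff_appLE (P := PCM)]
  constructor
  · intro h U V e
    have := h V.1 U.1 V.2 U.2 e
    exact (@isPseudoCoherentHom_iff _ _ _ _ (f.appLE U.1 V.1 e).hom.toAlgebra).1 this
  · intro h U V hU hV e
    exact (@isPseudoCoherentHom_iff _ _ _ _ (f.appLE V U e).hom.toAlgebra).2 (h ⟨V, hV⟩ ⟨U, hU⟩ e)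

theorem pcm_iff_exists {X Y : Scheme.{u}} (f : X ⟶ Y) :
    PCM f ↔ ∀ (x : X), ∃ (U : Y.affineOpens) (V : X.affineOpens) (_ : x ∈ V.1)
      (e : V.1 ≤ f ⁻¹ᵁ U.1), PCH (f.appLE U V e).hom :=
  HasRingHomProperty.iff_exists_appLE (P := PCM)
    (pch_stableUnderComposition.stableUnderCompositionWithLocalizationAway
      pch_holdsForLocalizationAway).left

end Groth.Agent.Lib.Seat0.PCMor
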