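import Mathlib
import Groth.Prelude.Def_MoreMor
import Groth.Agent.Lib.Seat0PCMor
import Groth.Agent.Lib.Seat0PCFlatBC

/-!
# Pseudo-coherent morphisms are stable under flat base change (Seat0 = lead)
-/

set_option autoImplicit false
universe u
open CategoryTheory CategoryTheory.Limits AlgebraicGeometry
attribute [local instance] HasDerivedCategory.standard

namespace Groth.Agent.Lib.Seat0.PCMorBC

open Groth.Agent.Lib.Seat0.PCHom Groth.Agent.Lib.Seat0.PCMor Groth.Agent.Lib.Seat0.PCFlatBC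

/-- `PCM` is stable under base change along a flat morphism `g`. -/
theorem pcm_of_isPullback_of_flat {X S X' S' : Scheme.{u}} {f : X ⟶ S} {f' : X' ⟶ S'} {g' : X' ⟶ X}
    {g : S' ⟶ S} [Flat g] (hc : IsPullback g' f' f g) (hf : PCM f) : PCM f' := by
  rw [pcm_iff_exists]
  intro x'
  obtain ⟨W, hW, hxW, -⟩ := TopologicalSpace.Opens.isBasis_iff_nbhd.mp S.isBasis_affineOpens
    (TopologicalSpace.Opens.mem_top (g (f' x')))
  obtain ⟨V', hV', hxV', hUST⟩ := TopologicalSpace.Opens.isBasis_iff_nbhd.mp S'.isBasis_affineOpens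
    (show f' x' ∈ g ⁻¹ᵁ W from hxW)
  have hxW' : f (g' x') ∈ W := by
    have : f (g' x') = g (f' x') := by
      rw [← Scheme.Hom.comp_apply, ← Scheme.Hom.comp_apply, hc.w]
    rw [this]; exact hxW
  obtain ⟨U, hU, hxU, hUSX⟩ := TopologicalSpace.Opens.isBasis_iff_nbhd.mp X.isBasis_affineOpens
    (show g' x' ∈ f ⁻¹ᵁ W from hxW')
  let U' : X'.Opens := g' ⁻¹ᵁ U ⊓ f' ⁻¹ᵁ V'
  have hxU' : x' ∈ U' := ⟨hxU, hxV'⟩
  have hiso := isIso_pushoutSection_of_isAffineOpen hc hUST hUSX (UY := U') rfl hW hV' hU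
  have hpo := (isIso_pushoutSection_iff hc hUST hUSX (UY := U') rfl).1 hiso
  have hU' : IsAffineOpen U' := by
    have : IsAffine (W : Scheme.{u}) := hW
    have : IsAffine (V' : Scheme.{u}) := hV'
    have : IsAffine (U : Scheme.{u}) := hU
    exact IsAffine.of_isIso (Scheme.Hom.isPullback_resLE hc hUST hUSX (UY := U') rfl).isoPullback.hom
  have e1 : U' ≤ g' ⁻¹ᵁ U := inf_le_left
  have e2 : U' ≤ f' ⁻¹ᵁ V' := inf_le_right
  refine ⟨⟨V', hV'⟩, ⟨U', hU'⟩, hxU', e2, ?_⟩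
  -- ring level
  letI : Algebra Γ(S, W) Γ(S', V') := (g.appLE W V' hUST).hom.toAlgebra
  letI : Algebra Γ(S, W) Γ(X, U) := (f.appLE W U hUSX).hom.toAlgebra
  letI : Algebra Γ(S', V') Γ(X', U') := (f'.appLE V' U' e2).hom.toAlgebra
  letI : Algebra Γ(X, U) Γ(X', U') := (g'.appLE U U' e1).hom.toAlgebra
  letI : Algebra Γ(S, W) Γ(X', U') :=
    ((f'.appLE V' U' e2).hom.comp (g.appLE W V' hUST).hom).toAlgebra
  haveI : IsScalarTower Γ(S, W) Γ(S', V') Γ(X', U') := IsScalarTower.of_algebraMap_eq (fun _ => rfl)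
  haveI : IsScalarTower Γ(S, W) Γ(X, U) Γ(X', U') := IsScalarTower.of_algebraMap_eq (fun r => by
    have := congrArg (fun k => k.hom r) hpo.w
    exact this.symm)
  haveI : Algebra.IsPushout Γ(S, W) Γ(S', V') Γ(X, U) Γ(X', U') :=
    CommRingCat.isPushout_iff_isPushout.1 hpo.flip
  haveI : Module.Flat Γ(S, W) Γ(S', V') :=
    HasRingHomProperty.appLE (P := @Flat) g inferInstance ⟨W, hW⟩ ⟨V', hV'⟩ hUST
  have h1 : PCH (algebraMap Γ(S, W) Γ(X, U)) :=
    (HasRingHomProperty.iff_appLE (P := PCM)).1 hf ⟨W, hW⟩ ⟨U, hU⟩ hUSX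
  exact pch_flat_baseChange (R := Γ(S, W)) (R' := Γ(S', V')) (A := Γ(X, U)) (A' := Γ(X', U')) h1


end Groth.Agent.Lib.Seat0.PCMorBC
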