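import Mathlib
import Groth.Prelude.Def_PerfD
import Groth.Prelude.Def_RefHull
import Groth.Agent.Lib.Seat0TopCoh
import Groth.Agent.Lib.Seat0LocLift
import Groth.Agent.Lib.Seat0PerfLocal
import Groth.Agent.Lib.Helper2RankLoc
import Groth.Agent.Lib.Helper18Strict8
import Groth.Agent.Lib.Helper23QCohAbelian
import Groth.Agent.Lib.Seat28FLF

/-!
# The open locus where all cohomology sheaves of a perfect object are finite free (seat 5)

Namespace `Groth.Agent.Lib.Seat5.HFreeLocus`.

* `FreeNear M x`: `M` is free of finite rank over an open neighbourhood of `x`; `freeNear_restrict`,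
  `freeNear_of_restrict`, `isFinLocFree_restrict_iff`, `isFinLocFree_restrict_of_range`.
* `isFinLocFree_kernel_of_cokernel`, `isFinLocFree_Z'` (kernels of the differentials of a strictly perfect
  complex with finite locally free cohomology sheaves above a degree), `isFP_cokernel`,
  `isQuasicoherent_homology`.
* `stalkEquivOfIso`, `isFlatAt_of_iso`, `isFlatAt_restrict`, `free_finite_stalk_of_restrict_iso_freeMod`.
* `isQuasicoherent_of_local`, `exists_local_homology_iso`, `isQuasicoherent_HD` (the cohomology sheaves of a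
  perfect object are quasi-coherent).
* `exists_open_freeNear_homology` (the local statement) and `exists_open_free_locus` (= S0892).
-/

set_option backward.isDefEq.respectTransparency.types false
set_option autoImplicit false
set_option linter.style.haveILetI false
universe u
open CategoryTheory CategoryTheory.Limits AlgebraicGeometry TopologicalSpace Opposite

attribute [local instance] HasDerivedCategory.standard

namespace Groth.Agent.Lib.Seat5.HFreeLocus

open Groth.Agent.Lib.Seat28.FLF Groth.Agent.Lib.Seat0.TopCoh Groth.Agent.Lib.Seat5.LocFreeKer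
  Groth.Agent.Lib.Seat0.FTLocal Groth.Agent.Lib.Helper23.QCohLocal
open Groth.Agent.Lib.Helper2.FlatOver Groth.Agent.Lib.Helper2.QCoh Groth.Agent.Lib.Helper23.FinType
open Groth.Agent.Lib.Helper20.LocFree Groth.Agent.Lib.Helper20.PullbackAff Groth.Agent.Lib.Helper20.Thickening
  Groth.Agent.Lib.Helper2.RankLoc Groth.Agent.Lib.Helper2.LocFree
open Groth.Agent.Lib.Seat0.PerfLocal Groth.Agent.Lib.Seat0.Cn Groth.Agent.Lib.Seat0.PCLocal

variable {X : Scheme.{u}}

/-! ### Freeness near a point -/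

/-- `M` is free of finite rank on an open neighbourhood of `x` -/
def FreeNear (M : X.Modules) (x : X) : Prop :=
  ∃ (D : X.Opens) (m : ℕ), x ∈ D ∧ Nonempty (M.restrict D.ι ≅ FlatMod.freeMod (D : Scheme.{u}) m)

/-- freeness of a restriction along an open immersion passes to open immersions with smaller range -/
theorem nonempty_restrict_iso_freeMod_of_range (M : X.Modules) {W W' : Scheme.{u}} (g : W ⟶ X)
    [IsOpenImmersion g] (h : W' ⟶ X) [IsOpenImmersion h] (hr : Set.range h ⊆ Set.range g) {n : ℕ}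
    (e : M.restrict g ≅ FlatMod.freeMod W n) : Nonempty (M.restrict h ≅ FlatMod.freeMod W' n) := by
  let l : W' ⟶ W := IsOpenImmersion.lift g h hr
  have hl : l ≫ g = h := IsOpenImmersion.lift_fac g h hr
  haveI : IsOpenImmersion l := by
    have : IsOpenImmersion (l ≫ g) := by rw [hl]; infer_instance
    exact IsOpenImmersion.of_comp l g
  exact ⟨(Scheme.Modules.restrictFunctorCongr hl.symm).app M ≪≫
    (Scheme.Modules.restrictFunctorComp l g).app M ≪≫
    (Scheme.Modules.restrictFunctor l).mapIso e ≪≫ Groth.Agent.Lib.Seat28.FLF.restrictFreeMod l n⟩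

theorem freeNear_of_restrict (M : X.Modules) {W : Scheme.{u}} (j : W ⟶ X) [IsOpenImmersion j] (w : W)
    (h : FreeNear (M.restrict j) w) : FreeNear M (j w) := by
  obtain ⟨U', n, hw, ⟨e⟩⟩ := h
  let D : X.Opens := (U'.ι ≫ j).opensRange
  have e' : M.restrict (U'.ι ≫ j) ≅ FlatMod.freeMod (U' : Scheme.{u}) n :=
    (Scheme.Modules.restrictFunctorComp U'.ι j).app M ≪≫ e
  obtain ⟨e''⟩ := nonempty_restrict_iso_freeMod_of_range M (U'.ι ≫ j) D.ι (by
    rw [Scheme.Opens.range_ι]; rfl) e'
  exact ⟨D, n, ⟨⟨w, hw⟩, rfl⟩, ⟨e''⟩⟩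

theorem freeNear_restrict (M : X.Modules) {W : Scheme.{u}} (j : W ⟶ X) [IsOpenImmersion j] (w : W)
    (h : FreeNear M (j w)) : FreeNear (M.restrict j) w := by
  obtain ⟨D, n, hwD, ⟨e⟩⟩ := h
  refine ⟨j ⁻¹ᵁ D, n, hwD, ?_⟩
  obtain ⟨e'⟩ := nonempty_restrict_iso_freeMod_of_range M D.ι ((j ⁻¹ᵁ D).ι ≫ j) (by
    rw [Scheme.Opens.range_ι]
    rintro _ ⟨z, rfl⟩
    exact z.2) e
  exact ⟨(Scheme.Modules.restrictFunctorComp (j ⁻¹ᵁ D).ι j).symm.app M ≪≫ e'⟩

/-- the local criterion for finite local freeness of a restriction -/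
theorem isFinLocFree_restrict_iff (M : X.Modules) {W : Scheme.{u}} (j : W ⟶ X) [IsOpenImmersion j] :
    FlatMod.IsFinLocFree (M.restrict j) ↔ ∀ w : W, FreeNear M (j w) :=
  ⟨fun hM w => freeNear_of_restrict M j w (hM w), fun h w => freeNear_restrict M j w (h w)⟩

/-- finite local freeness of a restriction passes to open immersions with smaller range -/
theorem isFinLocFree_restrict_of_range (M : X.Modules) {W W' : Scheme.{u}} (g : W ⟶ X)
    [IsOpenImmersion g] (h : W' ⟶ X) [IsOpenImmersion h] (hr : Set.range h ⊆ Set.range g)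
    (hM : FlatMod.IsFinLocFree (M.restrict g)) : FlatMod.IsFinLocFree (M.restrict h) := by
  rw [isFinLocFree_restrict_iff] at hM ⊢
  intro w'
  obtain ⟨w, hw⟩ := hr ⟨w', rfl⟩
  rw [← hw]
  exact hM w

theorem freeNear_of_iso {M N : X.Modules} (e : M ≅ N) {x : X} (h : FreeNear M x) : FreeNear N x := by
  obtain ⟨D, m, hx, ⟨i⟩⟩ := h
  exact ⟨D, m, hx, ⟨(Scheme.Modules.restrictFunctor D.ι).mapIso e.symm ≪≫ i⟩⟩

theorem freeNear_of_isZero {M : X.Modules} (h : IsZero M) (x : X) : FreeNear M x :=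
  isFinLocFree_of_isZero h x

/-! ### Kernels, cokernels and cohomology of complexes of finite locally free modules -/

section complexes

variable {Y : Scheme.{u}}

/-- if `t : A ⟶ B` is a map of finite locally free modules with finite locally free cokernel, its kernel is
finite locally free -/
theorem isFinLocFree_kernel_of_cokernel {A B : Y.Modules} (t : A ⟶ B) (hA : FlatMod.IsFinLocFree A)
    (hB : FlatMod.IsFinLocFree B) (hC : FlatMod.IsFinLocFree (cokernel t)) :
    FlatMod.IsFinLocFree (kernel t) := by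
  have hIm : FlatMod.IsFinLocFree (Abelian.image t) :=
    isFinLocFree_kernel_of_epi (cokernel.π t) hB hC
  have hK : FlatMod.IsFinLocFree (kernel (Abelian.factorThruImage t)) :=
    isFinLocFree_kernel_of_epi (Abelian.factorThruImage t) hA hIm
  have e : kernel (Abelian.factorThruImage t) ≅ kernel t :=
    (kernelCompMono (Abelian.factorThruImage t) (Abelian.image.ι t)).symm ≪≫
      kernelIsoOfEq (Abelian.image.fac t)
  exact isFinLocFree_of_iso e hK

variable (E : CochainComplex Y.Modules ℤ)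

/-- For a strictly perfect complex whose cohomology sheaves in degrees `> n` are finite locally free,
the kernels of the differentials in degrees `≥ n` are finite locally free. -/
theorem isFinLocFree_Z' (hE : DCoh.IsStrictlyPerfect E) (n : ℤ)
    (hH : ∀ i : ℤ, n < i → FlatMod.IsFinLocFree (E.homology i)) (i : ℤ) (hi : n ≤ i) :
    FlatMod.IsFinLocFree (Z E i) := by
  obtain ⟨⟨a, b, hv⟩, hfl⟩ := hE
  have key : ∀ k : ℕ, ∀ i : ℤ, n ≤ i → b + 1 - k ≤ i → FlatMod.IsFinLocFree (Z E i) := by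
    intro k
    induction k with
    | zero =>
      intro i _ hbi
      have hz : IsZero (E.X i) := hv i (Or.inr (by push_cast at hbi; omega))
      exact isFinLocFree_of_isZero (IsZero.of_mono (kernel.ι (E.d i (i + 1))) hz)
    | succ k ih =>
      intro i hni hbi
      have h1 : FlatMod.IsFinLocFree (Z E (i + 1)) :=
        ih (i + 1) (by omega) (by push_cast at hbi ⊢; omega)
      have h3 : FlatMod.IsFinLocFree (cokernel (toZ E i (i + 1))) :=
        isFinLocFree_of_iso (homologyIsoCokernel E i (i + 1) rfl) (hH (i + 1) (by omega))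
      have h2 : FlatMod.IsFinLocFree (kernel (toZ E i (i + 1))) :=
        isFinLocFree_kernel_of_cokernel (toZ E i (i + 1)) (hfl i) h1 h3
      exact isFinLocFree_of_iso (kernelToZIso E i) h2
  obtain ⟨k, hk⟩ : ∃ k : ℕ, b + 1 - (k : ℤ) ≤ i := ⟨(b + 1 - i).toNat, by omega⟩
  exact key k i hi hk

/-- the cokernel of a map of finite locally free modules is of finite presentation -/
theorem isFP_cokernel {A B : Y.Modules} (t : A ⟶ B) (hA : FlatMod.IsFinLocFree A)
    (hB : FlatMod.IsFinLocFree B) : CohB1.IsFP (cokernel t) := by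
  refine isFP_of_local_cokernel _ (fun x => ?_)
  obtain ⟨U₁, a, hx₁, ⟨e₁⟩⟩ := hA x
  obtain ⟨U₂, b, hx₂, ⟨e₂⟩⟩ := hB x
  let U : Y.Opens := U₁ ⊓ U₂
  obtain ⟨ea⟩ := nonempty_restrict_iso_freeMod_of_le A (inf_le_left : U ≤ U₁) e₁
  obtain ⟨eb⟩ := nonempty_restrict_iso_freeMod_of_le B (inf_le_right : U ≤ U₂) e₂
  let R' := Scheme.Modules.restrictFunctor U.ι
  let f : FlatMod.freeMod (U : Scheme.{u}) a ⟶ FlatMod.freeMod (U : Scheme.{u}) b :=
    ea.inv ≫ R'.map t ≫ eb.hom
  have comm : f ≫ eb.symm.hom = ea.symm.hom ≫ R'.map t := by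
    show (ea.inv ≫ R'.map t ≫ eb.hom) ≫ eb.inv = ea.inv ≫ R'.map t
    rw [Category.assoc, Category.assoc, Iso.hom_inv_id, Category.comp_id]
  let iso : cokernel f ≅ (cokernel t).restrict U.ι :=
    cokernel.mapIso f (R'.map t) ea.symm eb.symm comm ≪≫ (PreservesCokernel.iso R' t).symm
  exact ⟨U, U.ι, inferInstance, ⟨⟨x, ⟨hx₁, hx₂⟩⟩, rfl⟩, a, b, f, ⟨iso⟩⟩

theorem isQuasicoherent_of_isFinLocFree {M : Y.Modules} (h : FlatMod.IsFinLocFree M) :
    M.IsQuasicoherent :=
  { nonempty_quasicoherentData :=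
      haveI := isFP_of_isFinLocFree M h
      ⟨(SheafOfModules.IsFinitePresentation.exists_quasicoherentData (R := Y.ringCatSheaf) M).choose⟩ }

/-- the cohomology sheaves of a complex of quasi-coherent modules are quasi-coherent -/
theorem isQuasicoherent_homology (hq : ∀ i, (E.X i).IsQuasicoherent) (n : ℤ) :
    (E.homology n).IsQuasicoherent := by
  haveI := hq
  haveI : (Z E n).IsQuasicoherent := isQuasicoherent_kernel _
  haveI : (cokernel (toZ E (n - 1) n)).IsQuasicoherent := isQuasicoherent_cokernel _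
  exact (SheafOfModules.isQuasicoherent Y.ringCatSheaf).prop_of_iso
    (homologyIsoCokernel E (n - 1) n (by omega)).symm inferInstance

end complexes

/-! ### Stalks -/

section stalks

open RefHull

lemma stalkMapₗ_id' (F : X.Modules) (x : X) : stalkMapₗ (𝟙 F) x = LinearMap.id := by
  apply LinearMap.ext
  intro v
  obtain ⟨U, hU, m, rfl⟩ := F.presheaf.exists_germ_eq v
  rw [stalkMapₗ_germ]
  rfl

lemma stalkMapₗ_comp' {F G H : X.Modules} (φ : F ⟶ G) (ψ : G ⟶ H) (x : X) :
    stalkMapₗ (φ ≫ ψ) x = (stalkMapₗ ψ x).comp (stalkMapₗ φ x) := by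
  apply LinearMap.ext
  intro v
  obtain ⟨U, hU, m, rfl⟩ := F.presheaf.exists_germ_eq v
  rw [LinearMap.comp_apply, stalkMapₗ_germ, stalkMapₗ_germ, stalkMapₗ_germ]
  rfl

/-- isomorphic modules have linearly equivalent stalks -/
noncomputable def stalkEquivOfIso {F G : X.Modules} (e : F ≅ G) (x : X) :
    F.presheaf.stalk x ≃ₗ[X.presheaf.stalk x] G.presheaf.stalk x :=
  LinearEquiv.ofLinearMap (stalkMapₗ e.hom x) (stalkMapₗ e.inv x)
    (by rw [← stalkMapₗ_comp', e.inv_hom_id, stalkMapₗ_id'])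
    (by rw [← stalkMapₗ_comp', e.hom_inv_id, stalkMapₗ_id'])

end stalks

theorem isFlatAt_of_iso {M N : X.Modules} (e : M ≅ N) (x : X) (h : FlatMod.IsFlatAt M x) :
    FlatMod.IsFlatAt N x := by
  unfold FlatMod.IsFlatAt at h ⊢
  haveI := h
  exact Module.Flat.of_linearEquiv (stalkEquivOfIso e x).symm

/-- flatness at a point passes to the restriction to an open containing it -/
theorem isFlatAt_restrict (M : X.Modules) [M.IsQuasicoherent] (V : X.Opens) (x' : (V : Scheme.{u}))
    (h : FlatMod.IsFlatAt M (V.ι x')) : FlatMod.IsFlatAt (M.restrict V.ι) x' :=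
  isFlatAt_of_iso ((Scheme.Modules.restrictFunctorIsoPullback V.ι).app M).symm x'
    (Groth.Agent.Helper18Strict.isFlatAt_pullback V.ι M x' h)

attribute [local instance] RingHomInvPair.of_ringEquiv RingHomInvPair.of_ringEquiv_symm in
/-- the stalks of a quasi-coherent module whose restriction along an open immersion `f` is `O^n` are finite
free at the points of the image -/
theorem free_finite_stalk_of_restrict_iso_freeMod {Y : Scheme.{u}} (f : Y ⟶ X) [IsOpenImmersion f]
    (M : X.Modules) [M.IsQuasicoherent] {n : ℕ} (e : M.restrict f ≅ FlatMod.freeMod Y n) (y : Y) :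
    Module.Free (X.presheaf.stalk (f y)) (M.presheaf.stalk (f y)) ∧
      Module.Finite (X.presheaf.stalk (f y)) (M.presheaf.stalk (f y)) := by
  refine ⟨(fibreRank_eq_of_restrict_iso_freeMod f M e y).1, ?_⟩
  obtain ⟨V, hV, hyV, -⟩ := exists_isAffineOpen_mem_and_subset (x := y) (U := ⊤) trivial
  obtain ⟨E⟩ := nonempty_sections_equiv_of_iso_freeMod (M.restrict f) e hV
  have hV' : IsAffineOpen (f ''ᵁ V) := hV.image_of_isOpenImmersion f
  have hxD : f y ∈ f ''ᵁ V := ⟨y, hyV, rfl⟩
  haveI hfinY : Module.Finite Γ(Y, V) Γ(M.restrict f, V) := Module.Finite.equiv E.symm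
  let σ : Γ(Y, V) ≃+* Γ(X, f ''ᵁ V) := (f.appIso V).symm.commRingCatIsoToRingEquiv
  let j : Γ(M.restrict f, V) ≃+ Γ(M, f ''ᵁ V) := (M.restrictAppIso f V).addCommGroupIsoToAddEquiv
  have hc : ∀ (r : Γ(Y, V)) (m : Γ(M.restrict f, V)), j (r • m) = σ r • j m :=
    fun r m => Scheme.Modules.smul_restrictAppIso_hom_apply f M V r m
  let js : Γ(M.restrict f, V) ≃ₛₗ[(σ : Γ(Y, V) →+* Γ(X, f ''ᵁ V))] Γ(M, f ''ᵁ V) :=
    { j with map_smul' := hc }
  haveI hfinX : Module.Finite Γ(X, f ''ᵁ V) Γ(M, f ''ᵁ V) :=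
    Module.Finite.of_surjective js.toLinearMap js.surjective
  set x := f y with hx
  letI := X.presheaf.algebra_section_stalk ⟨x, hxD⟩
  haveI := hV'.isLocalization_stalk ⟨x, hxD⟩
  letI := moduleStalkSections M (f ''ᵁ V) x hxD
  haveI : IsScalarTower Γ(X, f ''ᵁ V) (X.presheaf.stalk x) (M.presheaf.stalk x) := by
    refine ⟨fun a b y => ?_⟩
    change (X.presheaf.germ (f ''ᵁ V) x hxD a * b) • y = X.presheaf.germ (f ''ᵁ V) x hxD a • (b • y)
    rw [mul_smul]
  haveI := isLocalizedModule_germ hV' M x hxD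
  exact Module.Finite.of_isLocalizedModule (hV'.primeIdealOf ⟨x, hxD⟩).asIdeal.primeCompl
    (germₗ M (f ''ᵁ V) x hxD)

/-! ### Quasi-coherence of the cohomology sheaves of a perfect object -/

/-- quasi-coherence is local -/
theorem isQuasicoherent_of_local (M : X.Modules)
    (h : ∀ x : X, ∃ V : X.Opens, x ∈ V ∧ (M.restrict V.ι).IsQuasicoherent) : M.IsQuasicoherent := by
  choose V hxV hV using h
  let ι : Type u := {W : X.affineOpens // ∃ x : X, (W : X.Opens) ≤ V x}
  refine isQuasicoherent_of_affine_cover M (fun W : ι => (W.1 : X.Opens)) ?_ (fun W => W.1.2)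
    (fun W => ?_)
  · rw [IsOpenCover, eq_top_iff]
    intro x _
    obtain ⟨_, ⟨W, hW, rfl⟩, hxW, hWV⟩ :=
      X.isBasis_affineOpens.exists_subset_of_mem_open (hxV x) (V x).isOpen
    exact Opens.mem_iSup.2 ⟨⟨⟨W, hW⟩, x, hWV⟩, hxW⟩
  · obtain ⟨x, hWx⟩ := W.2
    have hr : Set.range W.1.2.fromSpec ⊆ Set.range (V x).ι := by
      rw [IsAffineOpen.range_fromSpec, Scheme.Opens.range_ι]
      exact hWx
    let l : Spec Γ(X, W.1.1) ⟶ (V x : Scheme.{u}) := IsOpenImmersion.lift (V x).ι W.1.2.fromSpec hr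
    have hl : l ≫ (V x).ι = W.1.2.fromSpec := IsOpenImmersion.lift_fac _ _ hr
    haveI : IsOpenImmersion l := by
      have : IsOpenImmersion (l ≫ (V x).ι) := by rw [hl]; infer_instance
      exact IsOpenImmersion.of_comp l (V x).ι
    haveI := hV x
    have hq : ((M.restrict (V x).ι).restrict l).IsQuasicoherent :=
      Scheme.Modules.isQuasicoherent_restrictFunctor l _
    exact (SheafOfModules.isQuasicoherent (Spec Γ(X, W.1.1)).ringCatSheaf).prop_of_iso
      ((Scheme.Modules.restrictFunctorCongr hl.symm).app M ≪≫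
        (Scheme.Modules.restrictFunctorComp l (V x).ι).app M).symm hq

/-- the local form of the cohomology sheaves of a perfect object -/
theorem exists_local_homology_iso (E : DCoh.D X) (hE : DCoh.IsPerfect E) (x : X) :
    ∃ (V : X.Opens) (P : CochainComplex (V : Scheme.{u}).Modules ℤ), x ∈ V ∧
      DCoh.IsStrictlyPerfect P ∧ ∀ i : ℤ, Nonempty ((DCoh.HD E i).restrict V.ι ≅ P.homology i) := by
  obtain ⟨V, hxV, hV⟩ := hE x
  let F₀ : CochainComplex X.Modules ℤ := DerivedCategory.Q.objPreimage E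
  let e₀ : DCoh.toD X F₀ ≅ E := DerivedCategory.Q.objObjPreimageIso E
  obtain ⟨P, hP, ⟨eP⟩⟩ := hV F₀ ⟨e₀⟩
  refine ⟨V, P, hxV, hP, fun i => ⟨?_⟩⟩
  let R := Scheme.Modules.restrictFunctor V.ι
  exact R.mapIso ((DerivedCategory.homologyFunctor _ i).mapIso e₀.symm ≪≫
      (DerivedCategory.homologyFunctorFactors _ i).app F₀) ≪≫
    (homologyMapCxIso R F₀ i).symm ≪≫
    ((DerivedCategory.homologyFunctorFactors _ i).app _).symm ≪≫
    (DerivedCategory.homologyFunctor _ i).mapIso eP ≪≫
    (DerivedCategory.homologyFunctorFactors _ i).app P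

/-- the cohomology sheaves of a perfect object are quasi-coherent -/
theorem isQuasicoherent_HD (E : DCoh.D X) (hE : DCoh.IsPerfect E) (i : ℤ) :
    (DCoh.HD E i).IsQuasicoherent := by
  refine isQuasicoherent_of_local _ (fun x => ?_)
  obtain ⟨V, P, hxV, hP, hφ⟩ := exists_local_homology_iso E hE x
  obtain ⟨φ⟩ := hφ i
  refine ⟨V, hxV, ?_⟩
  have := isQuasicoherent_homology P (fun j => isQuasicoherent_of_isFinLocFree (hP.2 j)) i
  exact (SheafOfModules.isQuasicoherent (V : Scheme.{u}).ringCatSheaf).prop_of_iso φ.symm this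

/-! ### The local statement -/

/-- a zero term gives zero cohomology -/
theorem isZero_homology_of_isZero {Y : Scheme.{u}} (P : CochainComplex Y.Modules ℤ) (i : ℤ)
    (h : IsZero (P.X i)) : IsZero (P.homology i) :=
  ShortComplex.isZero_homology_of_isZero_X₂ (P.sc i) h

/-- **the local statement**: if all cohomology sheaves of a strictly perfect complex are flat at `y`, they
are all free of finite rank near every point of an open neighbourhood of `y` -/
theorem exists_open_freeNear_homology {Y : Scheme.{u}} (P : CochainComplex Y.Modules ℤ)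
    (hP : DCoh.IsStrictlyPerfect P) (y : Y) (hflat : ∀ i : ℤ, FlatMod.IsFlatAt (P.homology i) y) :
    ∃ V : Y.Opens, y ∈ V ∧ ∀ (i : ℤ) (z : Y), z ∈ V → FreeNear (P.homology i) z := by
  have hP0 := hP
  obtain ⟨⟨a, b, hv⟩, hfl⟩ := hP
  have hqP : ∀ i, (P.X i).IsQuasicoherent := fun i => isQuasicoherent_of_isFinLocFree (hfl i)
  have key : ∀ k : ℕ, ∃ V : Y.Opens, y ∈ V ∧
      ∀ i : ℤ, b - k < i → ∀ z : Y, z ∈ V → FreeNear (P.homology i) z := by
    intro k
    induction k with
    | zero =>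
      refine ⟨⊤, trivial, fun i hi z _ => ?_⟩
      exact freeNear_of_isZero (isZero_homology_of_isZero P i (hv i (Or.inr (by push_cast at hi; omega)))) z
    | succ k ih =>
      obtain ⟨V, hyV, hV⟩ := ih
      set n : ℤ := b - k with hn
      let y' : (V : Scheme.{u}) := ⟨y, hyV⟩
      let R := Scheme.Modules.restrictFunctor V.ι
      let P' : CochainComplex (V : Scheme.{u}).Modules ℤ := (Rc V.ι).obj P
      have hP' : DCoh.IsStrictlyPerfect P' := isStrictlyPerfect_rc V.ι P hP0
      let θ : ∀ i : ℤ, P'.homology i ≅ (P.homology i).restrict V.ι := fun i => homologyMapCxIso R P i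
      have hH : ∀ i : ℤ, n < i → FlatMod.IsFinLocFree (P'.homology i) := fun i hi =>
        isFinLocFree_of_iso (θ i).symm
          ((isFinLocFree_restrict_iff (P.homology i) V.ι).2 (fun w => hV i hi (V.ι w) w.2))
      have hZ : FlatMod.IsFinLocFree (Z P' n) := isFinLocFree_Z' P' hP' n hH n le_rfl
      let C : (V : Scheme.{u}).Modules := cokernel (toZ P' (n - 1) n)
      let κ : P'.homology n ≅ C := homologyIsoCokernel P' (n - 1) n (by omega)
      haveI : (P'.X (n - 1)).IsQuasicoherent := isQuasicoherent_of_isFinLocFree (hP'.2 (n - 1))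
      haveI : (Z P' n).IsQuasicoherent := isQuasicoherent_of_isFinLocFree hZ
      haveI : C.IsQuasicoherent := isQuasicoherent_cokernel _
      haveI : SheafOfModules.IsFinitePresentation (R := (V : Scheme.{u}).ringCatSheaf) C :=
        isFP_cokernel _ (hP'.2 (n - 1)) hZ
      haveI : (P.homology n).IsQuasicoherent := isQuasicoherent_homology P hqP n
      have hflatC : FlatMod.IsFlatAt C y' :=
        isFlatAt_of_iso ((θ n).symm ≪≫ κ) y' (isFlatAt_restrict (P.homology n) V y' (hflat n))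
      obtain ⟨D', m, hy'D', ⟨eC⟩⟩ := exists_restrict_iso_freeMod_of_isFlatAt C y' hflatC
      have hfn : FreeNear ((P.homology n).restrict V.ι) y' :=
        freeNear_of_iso (κ.symm ≪≫ θ n) ⟨D', m, hy'D', ⟨eC⟩⟩
      obtain ⟨D, m', hyD, ⟨eD⟩⟩ := freeNear_of_restrict (P.homology n) V.ι y' hfn
      refine ⟨D ⊓ V, ⟨hyD, hyV⟩, fun i hi z hz => ?_⟩
      by_cases hin : i = n
      · subst hin
        exact ⟨D, m', hz.1, ⟨eD⟩⟩
      · exact hV i (by push_cast at hi; omega) z hz.2
  obtain ⟨V, hyV, hV⟩ := key (b - a + 1).toNat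
  refine ⟨V, hyV, fun i z hz => ?_⟩
  by_cases hi : b - ((b - a + 1).toNat : ℤ) < i
  · exact hV i hi z hz
  · exact freeNear_of_isZero (isZero_homology_of_isZero P i (hv i (Or.inl (by omega)))) z

/-! ### The main statement -/

/-- **S0892**: the open locus where all cohomology sheaves of a perfect object have finite free stalks -/
theorem exists_open_free_locus (E : DCoh.D X) (hE : DCoh.IsPerfect E) :
    ∃ U : X.Opens,
      (U : Set X) = {x : X | ∀ i : ℤ, Module.Free (X.presheaf.stalk x) ((DCoh.HD E i).presheaf.stalk x) ∧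
        Module.Finite (X.presheaf.stalk x) ((DCoh.HD E i).presheaf.stalk x)} ∧
      (∀ i : ℤ, FlatMod.IsFinLocFree ((DCoh.HD E i).restrict U.ι)) ∧
      ∀ W : X.Opens, (∀ i : ℤ, FlatMod.IsFinLocFree ((DCoh.HD E i).restrict W.ι)) → W ≤ U := by
  haveI hq : ∀ i, (DCoh.HD E i).IsQuasicoherent := isQuasicoherent_HD E hE
  set S : Set X := {x : X | ∀ i : ℤ, Module.Free (X.presheaf.stalk x) ((DCoh.HD E i).presheaf.stalk x) ∧
        Module.Finite (X.presheaf.stalk x) ((DCoh.HD E i).presheaf.stalk x)} with hS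
  -- free near a point gives finite free stalks
  have h2 : ∀ z : X, (∀ i : ℤ, FreeNear (DCoh.HD E i) z) → z ∈ S := by
    intro z hz i
    obtain ⟨D, m, hzD, ⟨e⟩⟩ := hz i
    exact free_finite_stalk_of_restrict_iso_freeMod D.ι (DCoh.HD E i) e ⟨z, hzD⟩
  -- finite free stalks give freeness nearby
  have h1 : ∀ x : X, x ∈ S → ∃ N : X.Opens, x ∈ N ∧ ∀ z : X, z ∈ N → ∀ i : ℤ, FreeNear (DCoh.HD E i) z := by
    intro x hx
    obtain ⟨V₀, P, hxV₀, hP, hφ⟩ := exists_local_homology_iso E hE x
    let x' : (V₀ : Scheme.{u}) := ⟨x, hxV₀⟩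
    have hflat : ∀ i : ℤ, FlatMod.IsFlatAt (P.homology i) x' := by
      intro i
      obtain ⟨φ⟩ := hφ i
      have h0 : FlatMod.IsFlatAt (DCoh.HD E i) x := by
        unfold FlatMod.IsFlatAt
        haveI := (hx i).1
        exact Module.Flat.of_free
      exact isFlatAt_of_iso φ x' (isFlatAt_restrict (DCoh.HD E i) V₀ x' h0)
    obtain ⟨V, hx'V, hV⟩ := exists_open_freeNear_homology P hP x' hflat
    refine ⟨V₀.ι ''ᵁ V, ⟨x', hx'V, rfl⟩, ?_⟩
    rintro _ ⟨w, hw, rfl⟩ i
    obtain ⟨φ⟩ := hφ i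
    exact freeNear_of_restrict (DCoh.HD E i) V₀.ι w (freeNear_of_iso φ.symm (hV i w hw))
  have hopen : IsOpen S := by
    rw [isOpen_iff_forall_mem_open]
    intro x hx
    obtain ⟨N, hxN, hN⟩ := h1 x hx
    exact ⟨N, fun z hz => h2 z (hN z hz), N.isOpen, hxN⟩
  refine ⟨⟨S, hopen⟩, rfl, fun i => ?_, fun W hW z hz => ?_⟩
  · rw [isFinLocFree_restrict_iff]
    intro w
    obtain ⟨N, hxN, hN⟩ := h1 w.1 w.2
    exact hN _ hxN i
  · exact h2 z (fun i => freeNear_of_restrict (DCoh.HD E i) W.ι ⟨z, hz⟩ (hW i ⟨z, hz⟩))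

end Groth.Agent.Lib.Seat5.HFreeLocus
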