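import Mathlib
import Groth.Agent.Lib.Seat5HFreeLocus
import Groth.Agent.Lib.Seat0TopCoh

/-!
# The cohomology sheaves of a pseudo-coherent object (Seat0)

* `exists_local_homology_map`: for an `m`-pseudo-coherent `E`, locally `H^i(E) ≅ H^i(P)` for `i > m`
  and `H^m(P) ⟶ H^m(E)` is an epimorphism, `P` strictly perfect;
* `isQCoh_cohomology_of_isPC` (S7240).
-/

set_option autoImplicit false
universe u
open CategoryTheory CategoryTheory.Limits AlgebraicGeometry

namespace Groth.Agent.Lib.Seat0.PCQCoh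

open DerivedCategory Groth.Agent.Lib.Seat0.Cn Groth.Agent.Lib.Seat0.TopCoh
  Groth.Agent.Lib.Seat0.PCLocal Groth.Agent.Lib.Seat5.HFreeLocus

attribute [local instance] HasDerivedCategory.standard

variable {X : Scheme.{u}}

/-- local form of the cohomology sheaves of an `m`-pseudo-coherent object -/
theorem exists_local_homology_map (m : ℤ) (E : DCoh.D X) (hE : DCoh.IsPseudoCoherentD m E)
    (x : X) :
    ∃ (V : X.Opens) (P : CochainComplex (V : Scheme.{u}).Modules ℤ), x ∈ V ∧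
      DCoh.IsStrictlyPerfect P ∧
      (∀ i : ℤ, m < i → Nonempty ((DCoh.HD E i).restrict V.ι ≅ P.homology i)) ∧
      ∃ π : P.homology m ⟶ (Scheme.Modules.restrictFunctor V.ι).obj (DCoh.HD E m), Epi π := by
  obtain ⟨V, hxV, P, α, hP, hα⟩ := (isPC_iff_pcrep m E).1 hE x
  let φ : ∀ i : ℤ, P.homology i ⟶ (Scheme.Modules.restrictFunctor V.ι).obj (DCoh.HD E i) :=
    fun i => ((homologyFunctorFactors _ i).app P).inv ≫
      (DerivedCategory.homologyFunctor _ i).map α ≫ (restrictHDIso V.ι E i).hom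
  refine ⟨V, P, hxV, hP, fun i hi => ?_, φ m, ?_⟩
  · haveI := hα.1 i hi
    haveI : IsIso (φ i) := by
      dsimp only [φ]
      infer_instance
    exact ⟨(asIso (φ i)).symm⟩
  · haveI := hα.2
    dsimp only [φ]
    infer_instance

/-- **S7240** -/
theorem isQCoh_cohomology_of_isPC (m : ℤ) (E : DCoh.D X) (hE : DCoh.IsPseudoCoherentD m E) :
    (∀ i : ℤ, m < i → Coh.IsQCoh (DCoh.HD E i)) ∧
      ∀ x : X, ∃ (V : X.Opens) (Q : (V : Scheme.{u}).Modules)
        (π : Q ⟶ (Scheme.Modules.restrictFunctor V.ι).obj (DCoh.HD E m)),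
        x ∈ V ∧ Coh.IsQCoh Q ∧ Epi π := by
  have hq : ∀ (V : X.Opens) (P : CochainComplex (V : Scheme.{u}).Modules ℤ),
      DCoh.IsStrictlyPerfect P → ∀ i : ℤ, (P.homology i).IsQuasicoherent := fun V P hP i =>
    isQuasicoherent_homology P (fun j => isQuasicoherent_of_isFinLocFree (hP.2 j)) i
  refine ⟨fun i hi => ?_, fun x => ?_⟩
  · refine isQuasicoherent_of_local _ (fun x => ?_)
    obtain ⟨V, P, hxV, hP, hiso, -⟩ := exists_local_homology_map m E hE x
    obtain ⟨e⟩ := hiso i hi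
    exact ⟨V, hxV, (SheafOfModules.isQuasicoherent (V : Scheme.{u}).ringCatSheaf).prop_of_iso
      e.symm (hq V P hP i)⟩
  · obtain ⟨V, P, hxV, hP, -, π, hπ⟩ := exists_local_homology_map m E hE x
    exact ⟨V, P.homology m, π, hxV, hq V P hP m, hπ⟩

end Groth.Agent.Lib.Seat0.PCQCoh
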