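import Mathlib
import Groth.Prelude.Def_MoreMor
import Groth.Agent.Lib.Seat0FTD
import Groth.Agent.Lib.Seat0PCHom
import Groth.Agent.Lib.Seat0PCFlatBC

/-!
# Finite tor dimension and perfect ring maps as local properties of ring homs (Seat0 = lead)
-/

set_option autoImplicit false
set_option maxHeartbeats 400000
universe u
open CategoryTheory CategoryTheory.Limits
attribute [local instance] HasDerivedCategory.standard

namespace Groth.Agent.Lib.Seat0.PerfHom

open Groth.Agent.Lib.Seat0.FTD Groth.Agent.Lib.Seat0.PCHom Groth.Agent.Lib.Seat0.PCFlatBC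

/-- `S` has finite tor dimension over `R` via `f`. -/
def FTD {R S : Type u} [CommRing R] [CommRing S] (f : R →+* S) : Prop :=
  letI := f.toAlgebra
  DRing.HasFiniteTorDim R S

section Basic

variable {R S T : Type u} [CommRing R] [CommRing S] [CommRing T]

theorem ftd_algebraMap_iff [inst : Algebra R S] :
    FTD (algebraMap R S) ↔ DRing.HasFiniteTorDim R S := by
  have h : (algebraMap R S).toAlgebra = inst := Algebra.algebra_ext _ _ (fun _ => rfl)
  unfold FTD
  rw [h]

theorem ftd_comp {f : R →+* S} {g : S →+* T} (hf : FTD f) (hg : FTD g) : FTD (g.comp f) := by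
  letI : Algebra R S := f.toAlgebra
  letI : Algebra S T := g.toAlgebra
  letI : Algebra R T := (g.comp f).toAlgebra
  haveI : IsScalarTower R S T := IsScalarTower.of_algebraMap_eq (fun _ => rfl)
  obtain ⟨d, hd⟩ := hf
  obtain ⟨e, he⟩ := hg
  exact ⟨e + d, torDimLE_comp d e hd he⟩

theorem ftd_of_flat {f : R →+* S} (hf : f.Flat) : FTD f := by
  letI : Algebra R S := f.toAlgebra
  haveI : Module.Flat R S := hf
  exact ⟨0, torDimLE_of_flat⟩

theorem ftd_of_bijective {f : R →+* S} (hf : Function.Bijective f) : FTD f :=
  ftd_of_flat (RingHom.Flat.of_bijective hf)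

theorem ftd_flat_baseChange {R R' A A' : Type u} [CommRing R] [CommRing R'] [CommRing A]
    [CommRing A'] [Algebra R R'] [Algebra R A] [Algebra R' A'] [Algebra A A'] [Algebra R A']
    [IsScalarTower R R' A'] [IsScalarTower R A A'] [Algebra.IsPushout R R' A A']
    [Module.Flat R R'] (h : FTD (algebraMap R A)) : FTD (algebraMap R' A') := by
  rw [ftd_algebraMap_iff] at h ⊢
  obtain ⟨d, hd⟩ := h
  exact ⟨d, torDimLE_flat_baseChange d hd⟩

theorem ftd_stableUnderComposition : RingHom.StableUnderComposition @FTD := by
  introv R hf hg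
  exact ftd_comp hf hg

theorem ftd_holdsForLocalizationAway : RingHom.HoldsForLocalizationAway @FTD := by
  introv R _
  refine ftd_of_flat ?_
  exact RingHom.flat_algebraMap_iff.2 (IsLocalization.flat S (Submonoid.powers r))

theorem ftd_respectsIso : RingHom.RespectsIso @FTD :=
  ftd_stableUnderComposition.respectsIso (fun e => ftd_of_bijective e.bijective)

theorem ftd_localizationAwayPreserves : RingHom.LocalizationAwayPreserves @FTD := by
  intro R S _ _ f r R' S' _ _ _ _ _ _ hf
  letI : Algebra R S := f.toAlgebra
  letI : Algebra R' S' := (IsLocalization.Away.map R' S' f r).toAlgebra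
  letI : Algebra R S' := ((algebraMap S S').comp f).toAlgebra
  haveI : IsScalarTower R S S' := IsScalarTower.of_algebraMap_eq (fun _ => rfl)
  haveI : IsScalarTower R R' S' := IsScalarTower.of_algebraMap_eq (fun x => by
    have h2 : (IsLocalization.Away.map R' S' f r).comp (algebraMap R R') =
        (algebraMap S S').comp f := IsLocalization.map_comp _
    exact (DFunLike.congr_fun h2 x).symm)
  haveI : IsLocalization (Algebra.algebraMapSubmonoid S (Submonoid.powers r)) S' := by
    have : Algebra.algebraMapSubmonoid S (Submonoid.powers r) = Submonoid.powers (f r) :=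
      Submonoid.map_powers _ _
    rw [this]
    infer_instance
  haveI : Algebra.IsPushout R S R' S' :=
    Algebra.isPushout_of_isLocalization (Submonoid.powers r) R' S S'
  haveI : Algebra.IsPushout R R' S S' := Algebra.IsPushout.symm inferInstance
  haveI : Module.Flat R R' := IsLocalization.flat R' (Submonoid.powers r)
  have h1 : FTD (algebraMap R S) := hf
  exact ftd_flat_baseChange (R := R) (R' := R') (A := S) (A' := S') h1

theorem ftd_ofLocalizationFiniteSpanTarget : RingHom.OfLocalizationFiniteSpanTarget @FTD := by
  intro R S _ _ f s hs H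
  letI : Algebra R S := f.toAlgebra
  have H' : ∀ r : s, DRing.HasFiniteTorDim R (Localization.Away (r : S)) := fun r => by
    have := H r
    rw [← ftd_algebraMap_iff]
    convert this using 1
    exact IsScalarTower.algebraMap_eq R S (Localization.Away (r : S))
  choose d hd using H'
  let D : ℕ := s.attach.sup d
  refine ⟨D, torDimLE_of_localization_span (s : Set S) hs D (fun r => ?_)⟩
  exact torDimLE_mono _ (Finset.le_sup (f := d) (Finset.mem_attach s r)) (hd r)

theorem ftd_ofLocalizationSpanTarget : RingHom.OfLocalizationSpanTarget @FTD :=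
  (RingHom.ofLocalizationSpanTarget_iff_finite _).2 ftd_ofLocalizationFiniteSpanTarget

theorem ftd_isLocal : RingHom.PropertyIsLocal @FTD :=
  ⟨ftd_localizationAwayPreserves, ftd_ofLocalizationSpanTarget,
    ftd_ofLocalizationSpanTarget.ofLocalizationSpan
      (ftd_stableUnderComposition.stableUnderCompositionWithLocalizationAway
        ftd_holdsForLocalizationAway).left,
    (ftd_stableUnderComposition.stableUnderCompositionWithLocalizationAway
      ftd_holdsForLocalizationAway).right⟩

end Basic

/-- perfect ring maps -/
def PerfH {R S : Type u} [CommRing R] [CommRing S] (f : R →+* S) : Prop := PCH f ∧ FTD f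

section Perf

variable {R S T : Type u} [CommRing R] [CommRing S] [CommRing T]

theorem isPerfectHom_iff [Algebra R S] : MoreMor.IsPerfectHom R S ↔ PerfH (algebraMap R S) := by
  unfold MoreMor.IsPerfectHom PerfH
  rw [isPseudoCoherentHom_iff, ftd_algebraMap_iff]

theorem perfH_comp {f : R →+* S} {g : S →+* T} (hf : PerfH f) (hg : PerfH g) :
    PerfH (g.comp f) :=
  ⟨pch_comp hf.1 hg.1, ftd_comp hf.2 hg.2⟩

theorem perfH_stableUnderComposition : RingHom.StableUnderComposition @PerfH := by
  introv R hf hg
  exact perfH_comp hf hg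

theorem perfH_holdsForLocalizationAway : RingHom.HoldsForLocalizationAway @PerfH := by
  introv R _
  exact ⟨pch_holdsForLocalizationAway S r, ftd_holdsForLocalizationAway S r⟩

theorem perfH_isLocal : RingHom.PropertyIsLocal @PerfH :=
  RingHom.PropertyIsLocal.and pch_isLocal ftd_isLocal

theorem perfH_flat_baseChange {R R' A A' : Type u} [CommRing R] [CommRing R'] [CommRing A]
    [CommRing A'] [Algebra R R'] [Algebra R A] [Algebra R' A'] [Algebra A A'] [Algebra R A']
    [IsScalarTower R R' A'] [IsScalarTower R A A'] [Algebra.IsPushout R R' A A']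
    [Module.Flat R R'] (h : PerfH (algebraMap R A)) : PerfH (algebraMap R' A') :=
  ⟨pch_flat_baseChange h.1, ftd_flat_baseChange h.2⟩

end Perf

end Groth.Agent.Lib.Seat0.PerfHom
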