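import Mathlib
import Groth.Prelude.Def_MoreMor
import Groth.Agent.Lib.Seat0PerfHom
import Groth.Agent.Lib.Seat0PCMor

/-!
# Perfect morphisms of schemes via `HasRingHomProperty` (Seat0 = lead)

Also a general flat-base-change lemma for properties with `HasRingHomProperty`.
-/

set_option autoImplicit false
universe u
open CategoryTheory CategoryTheory.Limits AlgebraicGeometry
attribute [local instance] HasDerivedCategory.standard

namespace Groth.Agent.Lib.Seat0.PerfMor

open Groth.Agent.Lib.Seat0.PCHom Groth.Agent.Lib.Seat0.PCMor Groth.Agent.Lib.Seat0.PerfHom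

/-- A ring hom property is stable under flat base change (pushout form). -/
def FlatBaseChange (Q : ∀ {R S : Type u} [CommRing R] [CommRing S], (R →+* S) → Prop) : Prop :=
  ∀ {R R' A A' : Type u} [CommRing R] [CommRing R'] [CommRing A] [CommRing A']
    [Algebra R R'] [Algebra R A] [Algebra R' A'] [Algebra A A'] [Algebra R A']
    [IsScalarTower R R' A'] [IsScalarTower R A A'] [Algebra.IsPushout R R' A A']
    [Module.Flat R R'], Q (algebraMap R A) → Q (algebraMap R' A')

/-- General flat base change for a morphism property induced by a local ring hom property. -/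
theorem of_isPullback_of_flat {Q : ∀ {R S : Type u} [CommRing R] [CommRing S], (R →+* S) → Prop}
    {P : MorphismProperty Scheme.{u}} [HasRingHomProperty P Q]
    (hQs : RingHom.StableUnderCompositionWithLocalizationAwaySource Q)
    (hQ : FlatBaseChange Q)
    {X S X' S' : Scheme.{u}} {f : X ⟶ S} {f' : X' ⟶ S'} {g' : X' ⟶ X}
    {g : S' ⟶ S} [Flat g] (hc : IsPullback g' f' f g) (hf : P f) : P f' := by
  rw [HasRingHomProperty.iff_exists_appLE (P := P) hQs]
  intro x'
  obtain ⟨W, hW, hxW, -⟩ := TopologicalSpace.Opens.isBasis_iff_nbhd.mp S.isBasis_affineOpens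
    (TopologicalSpace.Opens.mem_top (g (f' x')))
  obtain ⟨V', hV', hxV', hUST⟩ := TopologicalSpace.Opens.isBasis_iff_nbhd.mp S'.isBasis_affineOpens
    (show f' x' ∈ g ⁻¹ᵁ W from hxW)
  have hxW' : f (g' x') ∈ W := by
    have : f (g' x') = g (f' x') := by
      rw [← Scheme.Hom.comp_apply, ← Scheme.Hom.comp_apply, hc.w]
    rw [this]; exact hxW
  obtain ⟨U, hU, hxU, hUSX⟩ := TopologicalSpace.Opens.isBasis_iff_nbhd.mp X.isBasis_affineOpens
    (show g' x' ∈ f ⁻¹ᵁ W from hxW')
  let U' : X'.Opens := g' ⁻¹ᵁ U ⊓ f' ⁻¹ᵁ V'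
  have hxU' : x' ∈ U' := ⟨hxU, hxV'⟩
  have hiso := isIso_pushoutSection_of_isAffineOpen hc hUST hUSX (UY := U') rfl hW hV' hU
  have hpo := (isIso_pushoutSection_iff hc hUST hUSX (UY := U') rfl).1 hiso
  have hU' : IsAffineOpen U' := by
    have : IsAffine (W : Scheme.{u}) := hW
    have : IsAffine (V' : Scheme.{u}) := hV'
    have : IsAffine (U : Scheme.{u}) := hU
    exact IsAffine.of_isIso (Scheme.Hom.isPullback_resLE hc hUST hUSX (UY := U') rfl).isoPullback.hom
  have e1 : U' ≤ g' ⁻¹ᵁ U := inf_le_left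
  have e2 : U' ≤ f' ⁻¹ᵁ V' := inf_le_right
  refine ⟨⟨V', hV'⟩, ⟨U', hU'⟩, hxU', e2, ?_⟩
  -- ring level
  letI : Algebra Γ(S, W) Γ(S', V') := (g.appLE W V' hUST).hom.toAlgebra
  letI : Algebra Γ(S, W) Γ(X, U) := (f.appLE W U hUSX).hom.toAlgebra
  letI : Algebra Γ(S', V') Γ(X', U') := (f'.appLE V' U' e2).hom.toAlgebra
  letI : Algebra Γ(X, U) Γ(X', U') := (g'.appLE U U' e1).hom.toAlgebra
  letI : Algebra Γ(S, W) Γ(X', U') :=
    ((f'.appLE V' U' e2).hom.comp (g.appLE W V' hUST).hom).toAlgebra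
  haveI : IsScalarTower Γ(S, W) Γ(S', V') Γ(X', U') := IsScalarTower.of_algebraMap_eq (fun _ => rfl)
  haveI : IsScalarTower Γ(S, W) Γ(X, U) Γ(X', U') := IsScalarTower.of_algebraMap_eq (fun r => by
    have := congrArg (fun k => k.hom r) hpo.w
    exact this.symm)
  haveI : Algebra.IsPushout Γ(S, W) Γ(S', V') Γ(X, U) Γ(X', U') :=
    CommRingCat.isPushout_iff_isPushout.1 hpo.flip
  haveI : Module.Flat Γ(S, W) Γ(S', V') :=
    HasRingHomProperty.appLE (P := @Flat) g inferInstance ⟨W, hW⟩ ⟨V', hV'⟩ hUST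
  have h1 : Q (algebraMap Γ(S, W) Γ(X, U)) :=
    (HasRingHomProperty.iff_appLE (P := P)).1 hf ⟨W, hW⟩ ⟨U, hU⟩ hUSX
  exact hQ (R := Γ(S, W)) (R' := Γ(S', V')) (A := Γ(X, U)) (A' := Γ(X', U')) h1

/-- perfect morphisms as a morphism property -/
def PerfM : MorphismProperty Scheme.{u} := affineLocally @PerfH

instance : HasRingHomProperty PerfM @PerfH where
  isLocal_ringHomProperty := perfH_isLocal
  eq_affineLocally' := rfl

theorem isPerfectMor_iff {X Y : Scheme.{u}} (f : X ⟶ Y) :
    MoreMor.IsPerfectMor f ↔ PerfM f := by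
  rw [HasRingHomProperty.iff_appLE (P := PerfM)]
  constructor
  · intro h U V e
    have := h V.1 U.1 V.2 U.2 e
    exact (@isPerfectHom_iff _ _ _ _ (f.appLE U.1 V.1 e).hom.toAlgebra).1 this
  · intro h U V hU hV e
    exact (@isPerfectHom_iff _ _ _ _ (f.appLE V U e).hom.toAlgebra).2 (h ⟨V, hV⟩ ⟨U, hU⟩ e)

theorem perfH_source : RingHom.StableUnderCompositionWithLocalizationAwaySource @PerfH :=
  (perfH_stableUnderComposition.stableUnderCompositionWithLocalizationAway
    perfH_holdsForLocalizationAway).left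

theorem perfM_iff_exists {X Y : Scheme.{u}} (f : X ⟶ Y) :
    PerfM f ↔ ∀ (x : X), ∃ (U : Y.affineOpens) (V : X.affineOpens) (_ : x ∈ V.1)
      (e : V.1 ≤ f ⁻¹ᵁ U.1), PerfH (f.appLE U V e).hom :=
  HasRingHomProperty.iff_exists_appLE (P := PerfM) perfH_source

instance : PerfM.IsStableUnderComposition :=
  HasRingHomProperty.stableUnderComposition (P := PerfM) perfH_stableUnderComposition

instance : PCM.IsStableUnderComposition :=
  HasRingHomProperty.stableUnderComposition (P := PCM) pch_stableUnderComposition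

theorem perfM_comp {X Y Z : Scheme.{u}} {f : X ⟶ Y} {g : Y ⟶ Z} (hf : PerfM f) (hg : PerfM g) :
    PerfM (f ≫ g) :=
  MorphismProperty.comp_mem _ f g hf hg

theorem perfM_of_isPullback_of_flat {X S X' S' : Scheme.{u}} {f : X ⟶ S} {f' : X' ⟶ S'}
    {g' : X' ⟶ X} {g : S' ⟶ S} [Flat g] (hc : IsPullback g' f' f g) (hf : PerfM f) : PerfM f' :=
  of_isPullback_of_flat (Q := @PerfH) (P := PerfM) perfH_source
    (fun h => perfH_flat_baseChange h) hc hf

theorem perfM_le_pcm {X Y : Scheme.{u}} {f : X ⟶ Y} (hf : PerfM f) : PCM f := by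
  rw [HasRingHomProperty.iff_appLE (P := PerfM)] at hf
  rw [HasRingHomProperty.iff_appLE (P := PCM)]
  exact fun U V e => (hf U V e).1

end Groth.Agent.Lib.Seat0.PerfMor
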