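import Mathlib
import Groth.Prelude.Def_MoreMor
import Groth.Agent.Lib.Seat0PerfHom
import Groth.Agent.Lib.Helper14TorSyz

/-!
# Finite tor dimension over a polynomial presentation (Seat0 = lead)

`FTD (φ.comp C) ↔ FTD φ` for `φ : R[x_1..x_n] →+* A`.
-/

set_option autoImplicit false
set_option maxHeartbeats 400000
universe u
open CategoryTheory CategoryTheory.Limits
attribute [local instance] HasDerivedCategory.standard

namespace Groth.Agent.Lib.Seat0.PerfPres

open Polynomial
open Groth.Agent.Lib.Seat0.FTD Groth.Agent.Lib.Seat0.PerfHom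
open Groth.Agent.Lib.Helper14.TorSyz Groth.Agent.Lib.Helper1.TorDim

/-- quotient by a regular element has tor dimension `≤ 1` -/
lemma ftd_quotient_regular {Q B : Type u} [CommRing Q] [CommRing B] (π : Q →+* B)
    (hπ : Function.Surjective π) (g : Q) (hg : ∀ q : Q, g * q = 0 → q = 0)
    (hker : ∀ q : Q, π q = 0 → g ∣ q) (hg0 : π g = 0) : FTD π := by
  letI : Algebra Q B := π.toAlgebra
  let g₀ : Q →ₗ[Q] B :=
    { toFun := fun q => π q
      map_add' := fun p q => map_add π p q
      map_smul' := fun q p => by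
        show π (q * p) = π q * π p
        exact map_mul π q p }
  let f₀ : Q →ₗ[Q] Q := LinearMap.mulLeft Q g
  have hf : Function.Injective f₀ := by
    intro p q hpq
    have hpq' : g * p = g * q := hpq
    have h0 : g * (p - q) = 0 := by rw [mul_sub, hpq', sub_self]
    exact sub_eq_zero.1 (hg _ h0)
  have hgs : Function.Surjective g₀ := hπ
  have hfg : Function.Exact f₀ g₀ := by
    intro q
    constructor
    · intro hq
      obtain ⟨q', hq'⟩ := hker q hq
      exact ⟨q', hq'.symm⟩
    · rintro ⟨q', rfl⟩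
      show π (g * q') = 0
      rw [map_mul, hg0, zero_mul]
  have h0 : DRing.HasTorDimLE Q 0 Q := (hasTorDimLE_zero_iff_flat Q).2 inferInstance
  exact ⟨0 + 1, hasTorDimLE_coker f₀ g₀ hf hgs hfg 0 h0⟩

lemma ftd_eval {P : Type u} [CommRing P] (f : P) : FTD (Polynomial.evalRingHom f) := by
  refine ftd_quotient_regular _ (fun y => ⟨Polynomial.C y, Polynomial.eval_C⟩) (X - C f)
    (fun q hq => ?_) (fun q hq => ?_) ?_
  · exact (Polynomial.monic_X_sub_C f).mul_right_eq_zero_iff.1 hq
  · exact Polynomial.dvd_iff_isRoot.2 hq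
  · simp

lemma ftd_mvEval : ∀ (k : ℕ) (P : Type u) [CommRing P] (f : Fin k → P),
    FTD (MvPolynomial.eval f : MvPolynomial (Fin k) P →+* P) := by
  intro k
  induction k with
  | zero =>
    intro P _ f
    refine ftd_of_bijective ⟨?_, ?_⟩
    · intro p q hpq
      obtain ⟨a, rfl⟩ := MvPolynomial.C_surjective (R := P) (Fin 0) p
      obtain ⟨b, rfl⟩ := MvPolynomial.C_surjective (R := P) (Fin 0) q
      simp only [MvPolynomial.eval_C] at hpq
      rw [hpq]
    · intro y
      exact ⟨MvPolynomial.C y, MvPolynomial.eval_C _⟩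
  | succ k ih =>
    intro P _ f
    let e : MvPolynomial (Fin (k + 1)) P →+* Polynomial (MvPolynomial (Fin k) P) :=
      (MvPolynomial.finSuccEquiv P k).toRingEquiv.toRingHom
    let ev1 : Polynomial (MvPolynomial (Fin k) P) →+* MvPolynomial (Fin k) P :=
      Polynomial.evalRingHom (MvPolynomial.C (f 0))
    let ev2 : MvPolynomial (Fin k) P →+* P := MvPolynomial.eval (Fin.tail f)
    have hfac : (MvPolynomial.eval f : MvPolynomial (Fin (k + 1)) P →+* P) =
        ev2.comp (ev1.comp e) := by
      refine MvPolynomial.ringHom_ext (fun r => ?_) (fun i => ?_)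
      · simp [e, ev1, ev2, MvPolynomial.finSuccEquiv_apply]
      · refine Fin.cases ?_ (fun i => ?_) i
        · simp [e, ev1, ev2, MvPolynomial.finSuccEquiv_X_zero]
        · simp [e, ev1, ev2, MvPolynomial.finSuccEquiv_X_succ, Fin.tail]
    rw [hfac]
    refine ftd_comp (ftd_comp (ftd_of_bijective ?_) (ftd_eval _)) (ih P (Fin.tail f))
    exact (MvPolynomial.finSuccEquiv P k).toRingEquiv.bijective

attribute [local instance] MvPolynomial.algebraMvPolynomial in
lemma ftd_map {R A : Type u} [CommRing R] [CommRing A] (f : R →+* A) (hf : FTD f) (n : ℕ) :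
    FTD (MvPolynomial.map f : MvPolynomial (Fin n) R →+* MvPolynomial (Fin n) A) := by
  letI : Algebra R A := f.toAlgebra
  have h1 : FTD (algebraMap R A) := hf
  exact ftd_flat_baseChange (R := R) (R' := MvPolynomial (Fin n) R) (A := A)
    (A' := MvPolynomial (Fin n) A) h1

/-- finite tor dimension over the base gives finite tor dimension over a polynomial ring -/
theorem ftd_of_ftd_base {R A : Type u} [CommRing R] [CommRing A] {n : ℕ}
    (φ : MvPolynomial (Fin n) R →+* A) (h : FTD (φ.comp MvPolynomial.C)) : FTD φ := by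
  have h1 := ftd_map _ h n
  have h2 := ftd_mvEval n A (fun i => φ (MvPolynomial.X i))
  have h3 : (MvPolynomial.eval (fun i => φ (MvPolynomial.X i))).comp
      (MvPolynomial.map (φ.comp MvPolynomial.C)) = φ := by
    refine MvPolynomial.ringHom_ext (fun r => ?_) (fun i => ?_)
    · simp
    · simp
  rw [← h3]
  exact ftd_comp h1 h2

theorem ftd_base_of_ftd {R A : Type u} [CommRing R] [CommRing A] {n : ℕ}
    (φ : MvPolynomial (Fin n) R →+* A) (h : FTD φ) : FTD (φ.comp MvPolynomial.C) := by
  refine ftd_comp (ftd_of_flat ?_) h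
  have : (MvPolynomial.C : R →+* MvPolynomial (Fin n) R) = algebraMap R (MvPolynomial (Fin n) R) :=
    rfl
  rw [this]
  exact RingHom.flat_algebraMap_iff.2 inferInstance

end Groth.Agent.Lib.Seat0.PerfPres
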