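import Mathlib
import Groth.Agent.Lib.Seat0TopCoh
import Groth.Agent.Lib.Helper2FinPres
import Groth.Agent.Lib.Helper23FinTypeLocal

/-!
# Pseudo-coherence of a module placed in degree zero (Seat0)

* `conn_single_of_epi`: an epimorphism induces a `0`-connected map of singles;
* `exists_conn_cone_of_presentation`: for `P₁ ⟶ P₀ ⟶ F ⟶ 0` exact, any cone of `P₁[0] ⟶ P₀[0]`
  admits a `(-1)`-connected map to `F[0]`;
* `isPC_single_iff` (S6518).
-/

set_option autoImplicit false
universe w v u
open CategoryTheory CategoryTheory.Limits Pretriangulated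

namespace Groth.Agent.Lib.Seat0.Single

open DerivedCategory Groth.Agent.Lib.Seat0.Cn

section General

variable {C : Type u} [Category.{v} C] [Abelian C] [HasDerivedCategory.{w} C]

/-- the short exact sequence `0 ⟶ ker π ⟶ P ⟶ F ⟶ 0` of an epimorphism -/
lemma shortExact_kernel {P F : C} (π : P ⟶ F) [Epi π] :
    (ShortComplex.mk (kernel.ι π) π (kernel.condition π)).ShortExact where
  exact := ShortComplex.exact_kernel π
  mono_f := inferInstanceAs (Mono (kernel.ι π))
  epi_g := inferInstanceAs (Epi π)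

/-- an epimorphism induces a `0`-connected map of singles -/
lemma conn_single_of_epi {P F : C} (π : P ⟶ F) [Epi π] :
    Conn 0 ((singleFunctor C 0).map π) := by
  have hT := (shortExact_kernel π).singleTriangle_distinguished
  have hrot := rot_of_distTriang _ hT
  refine (conn_iff_of_distTriang _ hrot 0).2 ?_
  show (((singleFunctor C 0).obj (kernel π))⟦(1 : ℤ)⟧).IsLE (0 - 1)
  exact (TStructure.t (C := C)).isLE_shift _ 0 1 (0 - 1) (by omega)

/-- for `P₁ ⟶ P₀ ⟶ F ⟶ 0` exact, any cone of `P₁[0] ⟶ P₀[0]` admits a `(-1)`-connected map to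
`F[0]` -/
lemma exists_conn_cone_of_presentation {P₁ P₀ F : C} (π : P₀ ⟶ F) [Epi π]
    (r : P₁ ⟶ kernel π) [Epi r] {Z : DerivedCategory C}
    (u : (singleFunctor C 0).obj P₀ ⟶ Z) (v : Z ⟶ ((singleFunctor C 0).obj P₁)⟦(1 : ℤ)⟧)
    (hZ : Triangle.mk ((singleFunctor C 0).map (r ≫ kernel.ι π)) u v ∈ distTriang _) :
    ∃ c : Z ⟶ (singleFunctor C 0).obj F, Conn (-1) c := by
  have hT := (shortExact_kernel π).singleTriangle_distinguished
  refine exists_conn_of_square _ hT (-1) ((singleFunctor C 0).map r) (𝟙 _)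
    ((singleFunctor C 0).map (r ≫ kernel.ι π)) ?_ ?_ (Conn.of_isIso _ _) u v hZ
  · rw [Category.comp_id, Functor.map_comp]
    rfl
  · exact conn_single_of_epi r

end General

section Scheme

open AlgebraicGeometry Groth.Agent.Lib.Seat0.PCLocal Groth.Agent.Lib.Seat0.TopCoh
  Groth.Agent.Lib.Seat0.PerfLocal

attribute [local instance] HasDerivedCategory.standard

variable {X : Scheme.{u}}

/-- the free module on a finite type is finite locally free -/
lemma isFinLocFree_free (Y : Scheme.{u}) (I : Type u) [Finite I] :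
    FlatMod.IsFinLocFree (SheafOfModules.free (R := Y.ringCatSheaf) I : Y.Modules) := by
  obtain ⟨n, ⟨e⟩⟩ := Finite.exists_equiv_fin I
  refine Groth.Agent.Lib.Helper2.LocFree.isFinLocFree_of_iso_freeMod (m := n) _ ?_
  exact Sigma.whiskerEquiv (f := fun _ : I => SheafOfModules.unit Y.ringCatSheaf)
    (g := fun _ : Fin n => Coh.structureModule Y) e (fun _ => Iso.refl _)

/-- a finite locally free module in degree `0` is a strictly perfect complex -/
lemma isStrictlyPerfect_single {Y : Scheme.{u}} (P : Y.Modules) (hP : FlatMod.IsFinLocFree P) :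
    DCoh.IsStrictlyPerfect ((HomologicalComplex.single Y.Modules (ComplexShape.up ℤ) 0).obj P) := by
  refine ⟨⟨0, 0, fun i hi => ?_⟩, fun i => ?_⟩
  · exact HomologicalComplex.isZero_single_obj_X _ _ _ _ (by omega)
  · by_cases h : i = 0
    · subst h
      exact Groth.Agent.Lib.Seat28.FLF.isFinLocFree_of_iso
        (HomologicalComplex.singleObjXSelf (ComplexShape.up ℤ) 0 P).symm hP
    · exact Groth.Agent.Lib.Seat28.FLF.isFinLocFree_of_isZero _
        (HomologicalComplex.isZero_single_obj_X _ _ _ _ h)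

/-- restriction of a module in degree zero -/
noncomputable def restrictInDIso {W : Scheme.{u}} (j : W ⟶ X) [IsOpenImmersion j] (F : X.Modules) :
    (DCoh.restrictD j).obj (DCoh.inD X F) ≅ DCoh.inD W (F.restrict j) :=
  ((Scheme.Modules.restrictFunctor j).mapDerivedCategorySingleFunctor 0).app F

/-- the cohomology sheaves of a module in degree zero -/
lemma isZero_HD_inD (F : X.Modules) (i : ℤ) (hi : i ≠ 0) : IsZero (DCoh.HD (DCoh.inD X F) i) := by
  rcases lt_or_gt_of_ne hi with h | h
  · exact (DerivedCategory.isGE_iff (DCoh.inD X F) 0).1 inferInstance i h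
  · exact (DerivedCategory.isLE_iff (DCoh.inD X F) 0).1 inferInstance i h

/-- `H^0` of a module in degree zero -/
noncomputable def HDinDIso (F : X.Modules) : DCoh.HD (DCoh.inD X F) 0 ≅ F :=
  (homologyFunctorFactors X.Modules 0).app _ ≪≫
    HomologicalComplex.singleObjHomologySelfIso (ComplexShape.up ℤ) 0 F

/-- finite type ⟹ `0`-pseudo-coherent -/
theorem isPC_zero_of_isFT (F : X.Modules) (hF : CohB1.IsFT F) :
    DCoh.IsPseudoCoherentD 0 (DCoh.inD X F) := by
  haveI : SheafOfModules.IsFiniteType (R := X.ringCatSheaf) F := hF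
  obtain ⟨ι, U, G, hG, hU, -⟩ :=
    Groth.Agent.Lib.Helper23.FinType.exists_isOpenCover_generatingSections F
  rw [isPC_iff_pcrep]
  intro x
  obtain ⟨i, hi⟩ := hU.exists_mem x
  haveI := (hG i).finite
  refine ⟨U i, hi, (HomologicalComplex.single _ (ComplexShape.up ℤ) 0).obj
    (SheafOfModules.free (R := (U i : Scheme.{u}).ringCatSheaf) (G i).I : (U i : Scheme.{u}).Modules),
    (singleFunctor _ 0).map (G i).π ≫ (restrictInDIso (U i).ι F).inv,
    isStrictlyPerfect_single _ (isFinLocFree_free _ _), ?_⟩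
  have : Epi (G i).π := (G i).epi
  exact (conn_single_of_epi (G i).π).comp (Conn.of_isIso _ _)

/-- finite presentation ⟹ `(-1)`-pseudo-coherent -/
theorem isPC_negOne_of_isFP (F : X.Modules) (hF : CohB1.IsFP F) :
    DCoh.IsPseudoCoherentD (-1) (DCoh.inD X F) := by
  haveI : SheafOfModules.IsFinitePresentation (R := X.ringCatSheaf) F := hF
  obtain ⟨ι, U, P, hP, hU, -⟩ :=
    Groth.Agent.Lib.Helper2.FinPres.exists_isOpenCover_presentation_isFinite F
  rw [isPC_iff_pcrep]
  intro x
  obtain ⟨i, hi⟩ := hU.exists_mem x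
  haveI := (hP i).isFiniteType_generators.finite
  haveI := (hP i).isFiniteType_relations.finite
  let Y : Scheme.{u} := (U i : Scheme.{u})
  let P₀ : Y.Modules := SheafOfModules.free (R := Y.ringCatSheaf) (P i).generators.I
  let P₁ : Y.Modules := SheafOfModules.free (R := Y.ringCatSheaf) (P i).relations.I
  let π : P₀ ⟶ F.restrict (U i).ι := (P i).generators.π
  haveI : Epi π := (P i).generators.epi
  let r : P₁ ⟶ kernel π := (P i).relations.π
  haveI : Epi r := (P i).relations.epi
  let φ : (HomologicalComplex.single Y.Modules (ComplexShape.up ℤ) 0).obj P₁ ⟶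
      (HomologicalComplex.single Y.Modules (ComplexShape.up ℤ) 0).obj P₀ :=
    (HomologicalComplex.single Y.Modules (ComplexShape.up ℤ) 0).map (r ≫ kernel.ι π)
  have hZ := DerivedCategory.mappingCone_triangle_distinguished φ
  obtain ⟨c, hc⟩ := exists_conn_cone_of_presentation π r _ _ hZ
  refine ⟨U i, hi, CochainComplex.mappingCone φ, c ≫ (restrictInDIso (U i).ι F).inv,
    Groth.Agent.S6516.result φ (isStrictlyPerfect_single _ (isFinLocFree_free _ _))
      (isStrictlyPerfect_single _ (isFinLocFree_free _ _)), ?_⟩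
  exact hc.comp (Conn.of_isIso _ _)

/-- **S6518** -/
theorem isPC_single_iff (F : X.Modules) :
    (DCoh.IsPseudoCoherentD 0 (DCoh.inD X F) ↔ CohB1.IsFT F) ∧
    (DCoh.IsPseudoCoherentD (-1) (DCoh.inD X F) ↔ CohB1.IsFP F) := by
  refine ⟨⟨fun h => ?_, isPC_zero_of_isFT F⟩, ⟨fun h => ?_, isPC_negOne_of_isFP F⟩⟩
  · have h1 : CohB1.IsFT (DCoh.HD (DCoh.inD X F) 0) :=
      isFT_top_cohomology 0 _ h (fun i hi => isZero_HD_inD F i (by omega))
    haveI : SheafOfModules.IsFiniteType (R := X.ringCatSheaf) (DCoh.HD (DCoh.inD X F) 0) := h1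
    exact Groth.Agent.Lib.Helper23.FinType.isFiniteType_of_iso (HDinDIso F)
  · have h1 : CohB1.IsFP (DCoh.HD (DCoh.inD X F) (-1 + 1)) :=
      isFP_top_cohomology (-1) _ h (fun i hi => isZero_HD_inD F i (by omega))
    have h2 : CohB1.IsFP (DCoh.HD (DCoh.inD X F) 0) := h1
    exact (SheafOfModules.isFinitePresentation X.ringCatSheaf).prop_of_iso (HDinDIso F) h2

end Scheme

end Groth.Agent.Lib.Seat0.Single
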