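import Mathlib
import Groth.Prelude.Def_KSix
import Groth.Agent.Lib.Seat0StalkTor
import Groth.Agent.Lib.Helper22FlatExact
import Groth.Agent.Lib.Helper2LocFree
import Groth.Agent.Lib.Seat5HFreeLocus
import Groth.Agent.S5612

/-!
# Pointwise flatness arguments; pseudo-coherent + stalkwise finite tor dimension ⟹ perfect (seat 0)

* `isFlatAt_left`, `isFlatAt_middle`: flatness at a point in short exact sequences;
* `isFlatAt_Z`: cycles of a bounded above complex with terms flat at `y`, exact above `n`;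
* `isFlatAt_cokernel`: pointwise version of the key step of `strictlyPerfect_truncGE_of_flat`;
* `strictlyPerfect_truncGE_of_flf`; `isFlatAt_restrict`;
* `exists_nhd_strictlyPerfect_of_flatAt` (Lemma A), `sprep_of_flatAt` (pointwise S0913);
* `isFlatAt_opcycles_of_torAmp`;
* `isPerfect_of_pc_of_stalks_finiteTorDim` (S6194 ⟹).
-/

set_option autoImplicit false
universe u
open CategoryTheory CategoryTheory.Limits AlgebraicGeometry Opposite
attribute [local instance] HasDerivedCategory.standard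

namespace Groth.Agent.Lib.Seat0.StalkPerf

variable {Y : Scheme.{u}}

/-- in a short exact sequence with middle and right terms flat at `y`, the left term is flat at `y` -/
lemma isFlatAt_left (S : ShortComplex Y.Modules) (hS : S.ShortExact) (y : Y)
    (h2 : FlatMod.IsFlatAt S.X₂ y) (h3 : FlatMod.IsFlatAt S.X₃ y) : FlatMod.IsFlatAt S.X₁ y := by
  let G := DerSch.stalkFunctor Y y
  have hS' : (S.map G).ShortExact := hS.map_of_exact G
  haveI : Module.Flat (Y.presheaf.stalk y) ↑(G.obj S.X₂) := h2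
  haveI : Module.Flat (Y.presheaf.stalk y) ↑(G.obj S.X₃) := h3
  exact Groth.Agent.Lib.Helper22.flat_of_exact_of_flat_flat (G.map S.f).hom (G.map S.g).hom
    hS'.moduleCat_injective_f hS'.moduleCat_surjective_g
    ((ShortComplex.ShortExact.moduleCat_exact_iff_function_exact _).1 hS'.exact)

/-- in a short exact sequence with outer terms flat at `y`, the middle term is flat at `y` -/
lemma isFlatAt_middle (S : ShortComplex Y.Modules) (hS : S.ShortExact) (y : Y)
    (h1 : FlatMod.IsFlatAt S.X₁ y) (h3 : FlatMod.IsFlatAt S.X₃ y) : FlatMod.IsFlatAt S.X₂ y := by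
  let G := DerSch.stalkFunctor Y y
  have hS' : (S.map G).ShortExact := hS.map_of_exact G
  haveI : Module.Flat (Y.presheaf.stalk y) ↑(G.obj S.X₁) := h1
  haveI : Module.Flat (Y.presheaf.stalk y) ↑(G.obj S.X₃) := h3
  exact Groth.Agent.Lib.Helper22.flat_of_exact_of_flat_flat' (G.map S.f).hom (G.map S.g).hom
    hS'.moduleCat_injective_f hS'.moduleCat_surjective_g
    ((ShortComplex.ShortExact.moduleCat_exact_iff_function_exact _).1 hS'.exact)

lemma isFlatAt_of_isZero (M : Y.Modules) (hM : IsZero M) (y : Y) : FlatMod.IsFlatAt M y :=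
  Groth.Agent.Lib.Helper1.CI.flatMod_isFlat_of_isZero M hM y

open Groth.Agent.Lib.Seat0.TopCoh Groth.Agent.Lib.Helper1.CI in
/-- cycles of a bounded above complex with terms flat at `y`, exact above degree `n`, are flat at
`y` in degrees `≥ n` -/
theorem isFlatAt_Z (C : CochainComplex Y.Modules ℤ) (y : Y) (n N : ℤ)
    (hfl : ∀ i : ℤ, n ≤ i → FlatMod.IsFlatAt (C.X i) y)
    (hb : ∀ i : ℤ, N < i → IsZero (C.X i))
    (hex : ∀ i : ℤ, n < i → C.ExactAt i) (i : ℤ) (hi : n ≤ i) :
    FlatMod.IsFlatAt (Z C i) y := by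
  have key : ∀ k : ℕ, ∀ i : ℤ, n ≤ i → N + 1 - k ≤ i → FlatMod.IsFlatAt (Z C i) y := by
    intro k
    induction k with
    | zero =>
      intro i _ hbi
      have hz : IsZero (C.X i) := hb i (by push_cast at hbi; omega)
      have hz' : IsZero (Z C i) := IsZero.of_mono (kernel.ι (C.d i (i + 1))) hz
      exact isFlatAt_of_isZero _ hz' y
    | succ k ih =>
      intro i hni hbi
      have h1 : FlatMod.IsFlatAt (Z C (i + 1)) y :=
        ih (i + 1) (by omega) (by push_cast at hbi ⊢; omega)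
      have hS := shortExact_kernel (C.d i (i + 1)) (C.d (i + 1) (i + 1 + 1)) (C.d_comp_d _ _ _)
        (exact_sc_of_exactAt C i (i + 1) (i + 1 + 1) rfl rfl (hex (i + 1) (by omega)))
      exact isFlatAt_left _ hS y (hfl i hni) h1
  obtain ⟨k, hk⟩ : ∃ k : ℕ, N + 1 - (k : ℤ) ≤ i := ⟨(N + 1 - i).toNat, by omega⟩
  exact key k i hi hk

open DerivedCategory Groth.Agent.Lib.Seat0.FlatPerf Groth.Agent.Lib.Seat0.TopCoh
  Groth.Agent.Lib.Helper1.BKF in
/-- **pointwise key statement**: if a strictly perfect complex `P` maps to a complex `F` vanishing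
outside `[a, b]` whose terms are flat at `y`, by a chain map which is an isomorphism on `H^i` for
`i ≥ a` and an epimorphism on `H^{a-1}`, then `coker (P^{a-1} ⟶ P^a)` is flat at `y`. -/
theorem isFlatAt_cokernel {P F : CochainComplex Y.Modules ℤ} (y : Y)
    (hP : DCoh.IsStrictlyPerfect P) (a b : ℤ) (hFv : DCoh.VanishesOutside F a b)
    (hFfl : ∀ i : ℤ, FlatMod.IsFlatAt (F.X i) y) (f : P ⟶ F)
    (hf : ∀ i : ℤ, a - 1 < i → IsIso (HomologicalComplex.homologyMap f i))
    (hfa : Epi (HomologicalComplex.homologyMap f (a - 1))) :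
    FlatMod.IsFlatAt (cokernel (P.d (a - 1) a)) y := by
  obtain ⟨⟨aP, bP, hPv⟩, hPfl⟩ := hP
  let C := CochainComplex.mappingCone f
  have hCex : ∀ i : ℤ, a - 1 ≤ i → C.ExactAt i := fun i hi => by
    rw [HomologicalComplex.exactAt_iff_isZero_homology]
    exact Groth.Agent.Lib.Helper17.PCoh10.isZero_homology_mappingCone f (a - 1) ⟨hf, hfa⟩ i hi
  have hPflat : ∀ i : ℤ, FlatMod.IsFlatAt (P.X i) y := fun i =>
    Groth.Agent.Lib.Helper1.Sky.isFlat_of_isFinLocFree' _ (hPfl i) y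
  have hCfl : ∀ i : ℤ, FlatMod.IsFlatAt (C.X i) y := fun i =>
    isFlatAt_middle _ ((coneSES_shortExact f).map_of_exact
      (HomologicalComplex.eval Y.Modules (ComplexShape.up ℤ) i)) y (hFfl i) (hPflat (i + 1))
  have hCb : ∀ i : ℤ, max b bP < i → IsZero (C.X i) := fun i hi =>
    IsZero.of_iso (hPv (i + 1) (Or.inr (by omega)))
      (coneXIso f i (i + 1) rfl (hFv i (Or.inr (by omega))))
  have hZ : FlatMod.IsFlatAt (Z C a) y :=
    isFlatAt_Z C y a (max b bP) (fun i _ => hCfl i) hCb (fun i hi => hCex i (by omega)) a le_rfl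
  let eM : cokernel (P.d (a - 1) a) ≅ Z C a :=
    (coneCokernelIso f (a - 2) (a - 1) a (by omega) (by omega) (hFv _ (Or.inl (by omega)))
      (hFv _ (Or.inl (by omega)))).symm ≪≫
    cokernelIsoZ C (a - 2) (a - 1) a (by omega) (by omega) (hCex (a - 1) le_rfl)
      (hCex a (by omega))
  exact Groth.Agent.Lib.Seat5.HFreeLocus.isFlatAt_of_iso eM.symm y hZ

open DerivedCategory in
/-- variant of `strictlyPerfect_truncGE_of_flat`: if `coker (P^{a-1} ⟶ P^a)` is finite locally
free, then `τ_{≥ a} P` is strictly perfect and quasi-isomorphic to `F` -/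
theorem strictlyPerfect_truncGE_of_flf {P F : CochainComplex Y.Modules ℤ}
    (hP : DCoh.IsStrictlyPerfect P) (a b : ℤ) (hFv : DCoh.VanishesOutside F a b) (f : P ⟶ F)
    (hf : ∀ i : ℤ, a - 1 < i → IsIso (HomologicalComplex.homologyMap f i))
    (hMflf : FlatMod.IsFinLocFree (cokernel (P.d (a - 1) a))) :
    DCoh.IsStrictlyPerfect (P.truncGE a) ∧ Nonempty (Q.obj (P.truncGE a) ≅ Q.obj F) := by
  obtain ⟨⟨aP, bP, hPv⟩, hPfl⟩ := hP
  refine ⟨⟨⟨a, max a bP, fun i hi => ?_⟩, fun i => ?_⟩, ?_⟩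
  · rcases hi with hi | hi
    · exact (P.truncGE a).isZero_of_isStrictlyGE a i hi
    · exact IsZero.of_iso (hPv i (Or.inr (by omega))) (P.truncGEXIso a i (by omega))
  · obtain hi | rfl | hi := lt_trichotomy i a
    · exact Groth.Agent.Lib.Seat28.FLF.isFinLocFree_of_isZero _
        ((P.truncGE a).isZero_of_isStrictlyGE a i hi)
    · have e1 : cokernel (P.d (i - 1) i) ≅ P.opcycles i :=
        (colimit.isColimit _).coconePointUniqueUpToIso
          (P.opcyclesIsCokernel (i - 1) i (by simp))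
      exact Groth.Agent.Lib.Seat28.FLF.isFinLocFree_of_iso
        ((P.truncGEXIsoOpcycles i).trans e1.symm).symm hMflf
    · exact Groth.Agent.Lib.Seat28.FLF.isFinLocFree_of_iso (P.truncGEXIso a i hi).symm (hPfl i)
  · have hqi : QuasiIso (CochainComplex.truncGEMap f a) :=
      (CochainComplex.quasiIso_truncGEMap_iff f a).2 (fun i hi =>
        (quasiIsoAt_iff_isIso_homologyMap f i).2 (hf i (by omega)))
    haveI : F.IsStrictlyGE a :=
      (CochainComplex.isStrictlyGE_iff F a).2 (fun i hi => hFv i (Or.inl hi))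
    have h1 : IsIso (Q.map (CochainComplex.truncGEMap f a)) :=
      (isIso_Q_map_iff_quasiIso _ _).2 hqi
    have h2 : IsIso (Q.map (F.πTruncGE a)) := inferInstance
    exact ⟨asIso (Q.map (CochainComplex.truncGEMap f a)) ≪≫ (asIso (Q.map (F.πTruncGE a))).symm⟩

open Groth.Agent.Lib.Helper1.Sky in
/-- restriction along an open immersion preserves flatness at a point -/
lemma isFlatAt_restrict {X W : Scheme.{u}} (j : W ⟶ X) [IsOpenImmersion j] (M : X.Modules)
    (w : W) (h : FlatMod.IsFlatAt M (j.base w)) : FlatMod.IsFlatAt (M.restrict j) w := by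
  have h1 : Module.Flat (Ox w) ((ModuleCat.extendScalars.{u, u, u} (j.stalkMap w).hom).obj
      ((stalkFun (j.base w)).obj M)) := extendScalars_flat j w _ h
  have e := ((stalkPullbackIso j w).app M).toLinearEquiv
  have h2 : FlatMod.IsFlatAt ((Scheme.Modules.pullback j).obj M) w :=
    @Module.Flat.of_linearEquiv _ _ _ _ _ _ _ _ h1 e
  exact Groth.Agent.Lib.Seat5.HFreeLocus.isFlatAt_of_iso
    ((Scheme.Modules.restrictFunctorIsoPullback j).app M).symm w h2

open DerivedCategory Groth.Agent.Lib.Seat0.PerfLocal Groth.Agent.Lib.Seat0.Cn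
  Groth.Agent.Lib.Seat0.Trunc Groth.Agent.Lib.Seat0.FlatPerf in
/-- **Lemma A**: a strictly perfect complex `P` mapping `(a-1)`-connectedly to a complex `F`
vanishing outside `[a, b]` whose terms are flat at `y`: near `y`, `F` is quasi-isomorphic to a
strictly perfect complex. -/
theorem exists_nhd_strictlyPerfect_of_flatAt {P F : CochainComplex Y.Modules ℤ} (y : Y)
    (hP : DCoh.IsStrictlyPerfect P) (a b : ℤ) (hFv : DCoh.VanishesOutside F a b)
    (hFfl : ∀ i : ℤ, FlatMod.IsFlatAt (F.X i) y) (f : P ⟶ F) (hconn : Conn (a - 1) (Q.map f)) :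
    ∃ D : Y.Opens, y ∈ D ∧ ∃ T : CochainComplex (D : Scheme.{u}).Modules ℤ,
      DCoh.IsStrictlyPerfect T ∧ Nonempty (Q.obj T ≅ Q.obj ((Rc D.ι).obj F)) := by
  obtain ⟨hfi, hfe⟩ := (conn_Q_map_iff f (a - 1)).1 hconn
  let M : Y.Modules := cokernel (P.d (a - 1) a)
  have hM : FlatMod.IsFlatAt M y := isFlatAt_cokernel y hP a b hFv hFfl f hfi hfe
  have hMfp : CohB1.IsFP M := isFP_cokernel _ (hP.2 (a - 1)) (hP.2 a)
  haveI : M.IsQuasicoherent := Groth.Agent.Helper18Strict.isQCoh_of_isFP M hMfp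
  haveI : SheafOfModules.IsFinitePresentation (R := Y.ringCatSheaf) M := hMfp
  obtain ⟨D, m, hyD, ⟨eD⟩⟩ :=
    Groth.Agent.Lib.Helper2.LocFree.exists_restrict_iso_freeMod_of_isFlatAt M y hM
  refine ⟨D, hyD, ?_⟩
  let R' := Scheme.Modules.restrictFunctor D.ι
  let P' := (Rc D.ι).obj P
  let F' := (Rc D.ι).obj F
  let f' : P' ⟶ F' := (Rc D.ι).map f
  have hconn' : Conn (a - 1) (Q.map f') := by
    have h : Q.map f' = R'.mapDerivedCategoryFactors.inv.app P ≫
        (DCoh.restrictD D.ι).map (Q.map f) ≫ R'.mapDerivedCategoryFactors.hom.app F := by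
      have := R'.mapDerivedCategoryFactors.hom.naturality f
      simp only [Functor.comp_map] at this
      change Q.map f' = R'.mapDerivedCategoryFactors.inv.app P ≫
        R'.mapDerivedCategory.map (Q.map f) ≫ R'.mapDerivedCategoryFactors.hom.app F
      rw [this, Iso.inv_hom_id_app_assoc]
    rw [h]
    exact (Conn.of_isIso _ _).comp ((conn_map R' _ _ hconn).comp (Conn.of_isIso _ _))
  obtain ⟨hfi', -⟩ := (conn_Q_map_iff f' (a - 1)).1 hconn'
  have hM' : FlatMod.IsFinLocFree (cokernel (P'.d (a - 1) a)) := by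
    have e1 : cokernel (P'.d (a - 1) a) ≅ R'.obj M := (PreservesCokernel.iso R' (P.d (a - 1) a)).symm
    exact Groth.Agent.Lib.Helper2.LocFree.isFinLocFree_of_iso_freeMod _ (e1 ≪≫ eD)
  obtain ⟨hT, ⟨eT⟩⟩ := strictlyPerfect_truncGE_of_flf (isStrictlyPerfect_rc D.ι P hP) a b
    (fun i hi => R'.map_isZero (hFv i hi)) f' hfi' hM'
  exact ⟨P'.truncGE a, hT, ⟨eT⟩⟩

section Global

open DerivedCategory Groth.Agent.Lib.Seat0.PerfLocal Groth.Agent.Lib.Seat0.Cn
  Groth.Agent.Lib.Seat0.Trunc Groth.Agent.Lib.Seat0.FlatPerf Groth.Agent.Lib.Seat0.PCLocal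
  Groth.Agent.Lib.Seat0.LocRep

variable {X : Scheme.{u}}

/-- **pointwise S0913**: an `(a-1)`-pseudo-coherent object represented by a complex vanishing
outside `[a, b]` whose terms are flat at `x` is represented by a strictly perfect complex near
`x`. -/
theorem sprep_of_flatAt (E : DCoh.D X) (a b : ℤ) (x : X) (F : CochainComplex X.Modules ℤ)
    (hFv : DCoh.VanishesOutside F a b) (hFfl : ∀ i : ℤ, FlatMod.IsFlatAt (F.X i) x)
    (eF : Q.obj F ≅ E) (h2 : DCoh.IsPseudoCoherentD (a - 1) E) :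
    ∃ (W : Scheme.{u}) (j : W ⟶ X) (_ : IsOpenImmersion j), x ∈ Set.range j ∧ SPRep j E := by
  obtain ⟨V, hxV, P, α, hP, hα⟩ := (isPC_iff_pcrep (a - 1) E).1 h2 x
  let rD := DCoh.restrictD V.ι
  let FV := (Rc V.ι).obj F
  let eV : rD.obj E ≅ Q.obj FV := rD.mapIso eF.symm ≪≫ rdQIso V.ι F
  obtain ⟨V', hxV', hV'⟩ := exists_chainMap_rep hP (α ≫ eV.hom) ⟨x, hxV⟩
  obtain ⟨f, hf⟩ := hV'
  let rD' := DCoh.restrictD V'.ι
  have hconn : Conn (a - 1) (Q.map f) := by
    have h : Q.map f =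
        (Scheme.Modules.restrictFunctor V'.ι).mapDerivedCategoryFactors.inv.app P ≫
          rD'.map (α ≫ eV.hom) ≫
          (Scheme.Modules.restrictFunctor V'.ι).mapDerivedCategoryFactors.hom.app FV := by
      rw [hf]
      simp only [Category.assoc, Iso.inv_hom_id_app, Iso.inv_hom_id_app_assoc]
      erw [Category.comp_id]
    rw [h]
    exact (Conn.of_isIso _ _).comp
      ((conn_map (Scheme.Modules.restrictFunctor V'.ι) _ _
        (hα.comp (Conn.of_isIso _ _))).comp (Conn.of_isIso _ _))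
  let x'' : (V' : Scheme.{u}) := ⟨⟨x, hxV⟩, hxV'⟩
  have hv2 : DCoh.VanishesOutside ((Rc V'.ι).obj FV) a b := fun i hi =>
    (Scheme.Modules.restrictFunctor V'.ι).map_isZero
      ((Scheme.Modules.restrictFunctor V.ι).map_isZero (hFv i hi))
  have hfl1 : ∀ i : ℤ, FlatMod.IsFlatAt (FV.X i) (⟨x, hxV⟩ : (V : Scheme.{u})) := fun i =>
    isFlatAt_restrict V.ι (F.X i) ⟨x, hxV⟩ (hFfl i)
  have hfl2 : ∀ i : ℤ, FlatMod.IsFlatAt (((Rc V'.ι).obj FV).X i) x'' := fun i =>
    isFlatAt_restrict V'.ι (FV.X i) x'' (hfl1 i)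
  obtain ⟨D, hxD, T, hT, ⟨eT⟩⟩ := exists_nhd_strictlyPerfect_of_flatAt
    (P := (Rc V'.ι).obj P) (F := (Rc V'.ι).obj FV) x''
    (isStrictlyPerfect_rc V'.ι P hP) a b hv2 hfl2 f hconn
  let rD'' := DCoh.restrictD D.ι
  refine ⟨(D : Scheme.{u}), D.ι ≫ V'.ι ≫ V.ι, inferInstance, ⟨⟨x'', hxD⟩, rfl⟩, T, hT, ⟨?_⟩⟩
  exact rdCompObjIso D.ι (V'.ι ≫ V.ι) E ≪≫
    rD''.mapIso (rdCompObjIso V'.ι V.ι E ≪≫ rD'.mapIso eV ≪≫ rdQIso V'.ι FV) ≪≫
    rdQIso D.ι _ ≪≫ eT.symm

open Groth.Agent.Lib.Helper1.Tor in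
/-- pointwise version of `isFlat_opcycles_of_hasTorAmplitude`, for the stalk functor at `x` -/
theorem isFlatAt_opcycles_of_torAmp (K₂ F : CochainComplex X.Modules ℤ) (φ : K₂ ⟶ F)
    [QuasiIso φ] (x : X) (a b N : ℤ) (hfl : ∀ i : ℤ, FlatMod.IsFlatAt (K₂.X i) x)
    (hb : ∀ i : ℤ, N < i → IsZero (K₂.X i))
    (h : DRing.HasTorAmplitudeIn (X.presheaf.stalk x) a b
      (DRing.toD (((DerSch.stalkFunctor X x).mapHomologicalComplex (ComplexShape.up ℤ)).obj F))) :
    FlatMod.IsFlatAt (K₂.opcycles a) x := by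
  obtain ⟨L, hLv, hLfl, ⟨e⟩⟩ := h
  let G := DerSch.stalkFunctor X x
  let GC := G.mapHomologicalComplex (ComplexShape.up ℤ)
  let K' := GC.obj K₂
  have hK'b : DRing.VanishesAbove K' N := fun i hi => G.map_isZero (hb i hi)
  have hK'fl : DRing.TermwiseFlat K' := fun i => hfl i
  haveI : QuasiIso (GC.map φ) := inferInstance
  have e' : DerivedCategory.Q.obj L ≅ DerivedCategory.Q.obj K' :=
    e ≪≫ (asIso (DerivedCategory.Q.map (GC.map φ))).symm
  have hTV := torVan_of_iso K' L N hK'b hK'fl a b hLv hLfl e'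
  let S : ShortComplex X.Modules := ShortComplex.mk (K₂.d (a - 1) a) (K₂.pOpcycles a) (by simp)
  have hS : S.Exact := S.exact_of_g_is_cokernel (K₂.opcyclesIsCokernel (a - 1) a (by simp))
  have hS' : (S.map G).Exact := hS.map G
  have hepi : Epi (G.map (K₂.pOpcycles a)) := inferInstance
  exact flat_of_torVan K' hK'fl a b hTV (G.map (K₂.pOpcycles a)).hom
    ((ModuleCat.epi_iff_surjective _).1 hepi)
    ((ShortComplex.ShortExact.moduleCat_exact_iff_function_exact _).1 hS')

open Groth.Agent.Lib.Helper1.CI in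
/-- **S6194 (⟹)**: a pseudo-coherent object with bounded cohomology on a scheme whose local rings
have only modules of finite tor dimension is perfect -/
theorem isPerfect_of_pc_of_stalks_finiteTorDim
    (hX : ∀ (x : X) (M : Type u) [AddCommGroup M] [Module (X.presheaf.stalk x) M],
      DRing.HasFiniteTorDim (X.presheaf.stalk x) M)
    (F : CochainComplex X.Modules ℤ) (c d : ℤ) [(DCoh.toD X F).IsGE c] [(DCoh.toD X F).IsLE d]
    (hpc : ∀ m : ℤ, DCoh.IsPseudoCoherentD m (DCoh.toD X F)) : DCoh.IsPerfect (DCoh.toD X F) := by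
  have hFge : F.IsGE c := (DerivedCategory.isGE_Q_obj_iff F c).1 inferInstance
  have hFle : F.IsLE d := (DerivedCategory.isLE_Q_obj_iff F d).1 inferInstance
  have hH : ∀ i : ℤ, (i < c ∨ d < i) → IsZero (F.homology i) := by
    rintro i (hi | hi)
    · exact (F.exactAt_of_isGE c i hi).isZero_homology
    · exact (F.exactAt_of_isLE d i hi).isZero_homology
  obtain ⟨K, q, hK, hKfl, hq, -⟩ : ∃ (K : CochainComplex X.Modules ℤ)
      (q : K ⟶ F), DCoh.IsKFlat K ∧
      (∀ n : ℤ, ModSite.IsFlat (O := X.sheaf) (K.X n)) ∧ QuasiIso q ∧ ∀ n : ℤ, Epi (q.f n) :=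
    Groth.Agent.Lib.Helper1.BKF.exists_kflat_flat_resolution X.sheaf F
  have hqi : IsIso (Q.map q) := by
    rw [isIso_Q_map_iff_quasiIso]; exact hq
  let eK : Q.obj K ≅ DCoh.toD X F := asIso (Q.map q)
  have hHK : ∀ i : ℤ, (i < c ∨ d < i) → IsZero (K.homology i) := fun i hi =>
    IsZero.of_iso (hH i hi) (asIso (HomologicalComplex.homologyMap q i))
  have hK₂fl : ∀ i : ℤ, ModSite.IsFlat (O := X.sheaf) ((K.truncLE d).X i) :=
    Groth.Agent.Lib.Helper1.Sky.isFlat_truncLE_X (O := X.sheaf) K hK hKfl d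
      (fun i hi => hHK i (Or.inr hi))
  haveI : K.IsLE d := by
    rw [CochainComplex.isLE_iff]
    intro i hi
    rw [HomologicalComplex.exactAt_iff_isZero_homology]
    exact hHK i (Or.inr hi)
  let K₂ := K.truncLE d
  have hι : IsIso (Q.map (K.ιTruncLE d)) := inferInstance
  let eK₂ : Q.obj K₂ ≅ DCoh.toD X F := asIso (Q.map (K.ιTruncLE d)) ≪≫ eK
  have hK₂fl' : ∀ i : ℤ, FlatMod.IsFlat (K₂.X i) := fun i =>
    Groth.Agent.Lib.Helper1.StalkTensor.isFlat_of_modSite_isFlat _ (hK₂fl i)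
  haveI : QuasiIso (K.ιTruncLE d ≫ q) := inferInstance
  refine isPerfect_of_sprep _ (fun x => ?_)
  -- the stalk complex has finite tor dimension
  let G := DerSch.stalkFunctor X x
  let Fx := (G.mapHomologicalComplex (ComplexShape.up ℤ)).obj F
  have hbd : ∃ a b : ℤ, ∀ i : ℤ, i < a ∨ b < i →
      Subsingleton (Dual.HD (X.presheaf.stalk x) (DRing.toD Fx) i) := by
    refine ⟨c, d, fun i hi => ?_⟩
    have h1 : IsZero (G.obj (F.homology i)) := G.map_isZero (hH i hi)
    have h2 : IsZero (Fx.homology i) :=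
      IsZero.of_iso h1 (Groth.Agent.Lib.Seat0.TopCoh.homologyMapCxIso G F i)
    have h3 : IsZero ((DerivedCategory.homologyFunctor _ i).obj (Q.obj Fx)) :=
      IsZero.of_iso h2 ((DerivedCategory.homologyFunctorFactors _ i).app Fx)
    exact ModuleCat.subsingleton_of_isZero h3
  obtain ⟨a₀, b₀, hamp⟩ := ((Groth.Agent.S5612.result (hX x) (DRing.toD Fx)).1).2 hbd
  let a := min a₀ c
  have ha₀ : a ≤ a₀ := min_le_left _ _
  have hac : a ≤ c := min_le_right _ _
  have hamp' : DRing.HasTorAmplitudeIn (X.presheaf.stalk x) a b₀ (DRing.toD Fx) := by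
    obtain ⟨L, hv, hfl, e⟩ := hamp
    exact ⟨L, fun i hi => hv i (by omega), hfl, e⟩
  have hop : FlatMod.IsFlatAt (K₂.opcycles a) x :=
    isFlatAt_opcycles_of_torAmp K₂ F (K.ιTruncLE d ≫ q) x a b₀ d (fun i => hK₂fl' i x)
      (fun i hi => K₂.isZero_of_isStrictlyLE d i hi) hamp'
  haveI : K₂.IsGE a := by
    rw [CochainComplex.isGE_iff]
    intro i hi
    rw [HomologicalComplex.exactAt_iff_isZero_homology]
    exact IsZero.of_iso (hHK i (Or.inl (by omega)))
      (asIso (HomologicalComplex.homologyMap (K.ιTruncLE d) i))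
  have hπ : IsIso (Q.map (K₂.πTruncGE a)) := inferInstance
  refine sprep_of_flatAt (DCoh.toD X F) a d x (K₂.truncGE a) (fun i hi => ?_) (fun i => ?_)
    ((asIso (Q.map (K₂.πTruncGE a))).symm ≪≫ eK₂) (hpc (a - 1))
  · obtain hi' | rfl | hi' := lt_trichotomy i a
    · exact (K₂.truncGE a).isZero_of_isStrictlyGE a i hi'
    · have hb : d < a := by omega
      have h0 : IsZero (K₂.opcycles a) :=
        IsZero.of_epi_eq_zero (K₂.pOpcycles a)
          ((K₂.isZero_of_isStrictlyLE d a hb).eq_of_src _ _)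
      exact IsZero.of_iso h0 (K₂.truncGEXIsoOpcycles a)
    · have hb : d < i := by omega
      exact IsZero.of_iso (K₂.isZero_of_isStrictlyLE d i hb) (K₂.truncGEXIso a i hi')
  · obtain hi | rfl | hi := lt_trichotomy i a
    · exact isFlatAt_of_isZero _ ((K₂.truncGE a).isZero_of_isStrictlyGE a i hi) x
    · exact Groth.Agent.Lib.Seat5.HFreeLocus.isFlatAt_of_iso (K₂.truncGEXIsoOpcycles a).symm x hop
    · exact Groth.Agent.Lib.Seat5.HFreeLocus.isFlatAt_of_iso (K₂.truncGEXIso a i hi).symm x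
        (hK₂fl' i x)

end Global

end Groth.Agent.Lib.Seat0.StalkPerf
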