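import Mathlib
import Groth.Prelude.Def_KSix
import Groth.Agent.Lib.Seat0StalkTor
import Groth.Agent.Lib.Helper2FlatOver
import Groth.Agent.Lib.Helper1ProjRes
import Groth.Agent.Lib.Helper1TorH

/-!
# Tor amplitude of `M` versus flat amplitude of `M~` on `Spec R` (seat 0)

* `isFlatOverAt_id_iff`, `isFlat_tilde_iff`: `M~` is a flat sheaf iff `M` is a flat module;
* `isZero_of_isZero_tilde`;
* `hasFlatAmplitudeIn_tildeD_of_hasTorAmplitudeIn`, `hasTorAmplitudeIn_of_hasFlatAmplitudeIn_tildeD`
  (S7243), stated for `R : CommRingCat` (instances for `tilde.functor (CommRingCat.of A)` are not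
  found by instance search; instantiate `R := CommRingCat.of A` at the end).
-/

set_option autoImplicit false
universe u
open CategoryTheory CategoryTheory.Limits AlgebraicGeometry Opposite
attribute [local instance] HasDerivedCategory.standard

namespace Groth.Agent.Lib.Seat0.TildeTor

/-- scalars pulled back along the identity -/
lemma flat_compHom_of_eq_id {R M : Type*} [CommRing R] [AddCommGroup M] [inst : Module R M]
    (φ : R →+* R) (hφ : φ = RingHom.id R) :
    @Module.Flat R M _ _ (Module.compHom M φ) ↔ Module.Flat R M := by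
  subst hφ
  exact Iff.rfl

variable {X : Scheme.{u}}

/-- flatness over the identity is flatness -/
lemma isFlatOverAt_id_iff (M : X.Modules) (x : X) :
    FlatMod.IsFlatOverAt (𝟙 X) M x ↔ FlatMod.IsFlatAt M x := by
  have key : ∀ (φ : X.presheaf.stalk x ⟶ X.presheaf.stalk x) (_ : φ = 𝟙 _),
      @Module.Flat (X.presheaf.stalk x) (M.presheaf.stalk x) _ _
        (Module.compHom (M.presheaf.stalk x) φ.hom) ↔
      Module.Flat (X.presheaf.stalk x) (M.presheaf.stalk x) := by
    intro φ hφ
    exact flat_compHom_of_eq_id φ.hom (by rw [hφ]; rfl)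
  exact key ((𝟙 X : X ⟶ X).stalkMap x) (Scheme.Hom.stalkMap_id X x)

/-- the tilde of a module is a flat sheaf iff the module is flat -/
theorem isFlat_tilde_iff (R : CommRingCat.{u}) (N : ModuleCat.{u} R) :
    FlatMod.IsFlat (tilde N) ↔ Module.Flat R N := by
  have h := Groth.Agent.Lib.Helper2.FlatOver.tilde_isFlatOver_iff (𝟙 R) N (AddEquiv.refl N)
    (fun r n => rfl)
  rw [← h, Spec.map_id]
  exact ⟨fun h x => (isFlatOverAt_id_iff _ x).2 (h x), fun h x => (isFlatOverAt_id_iff _ x).1 (h x)⟩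

section Tilde

variable (R : CommRingCat.{u}) [PreservesFiniteLimits (tilde.functor R)]

/-- **tor amplitude of `M` ⟹ flat amplitude of `M~`** -/
theorem hasFlatAmplitudeIn_tildeD_of_hasTorAmplitudeIn (M : DerivedCategory (ModuleCat.{u} R))
    (a b : ℤ) (h : DRing.HasTorAmplitudeIn R a b M) :
    DCoh.HasFlatAmplitudeIn a b ((DCoh.tildeD R).obj M) := by
  obtain ⟨L, hLv, hLfl, ⟨e⟩⟩ := h
  let T := tilde.functor R
  refine ⟨(T.mapHomologicalComplex (ComplexShape.up ℤ)).obj L, fun i hi => T.map_isZero (hLv i hi),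
    fun i => (isFlat_tilde_iff R (L.X i)).2 (hLfl i), ⟨?_⟩⟩
  exact (T.mapDerivedCategoryFactors.app L).symm ≪≫ (DCoh.tildeD R).mapIso e

omit [PreservesFiniteLimits (tilde.functor R)] in
/-- the tilde functor reflects zero objects -/
lemma isZero_of_isZero_tilde (N : ModuleCat.{u} R) (h : IsZero ((tilde.functor R).obj N)) :
    IsZero N := by
  rw [IsZero.iff_id_eq_zero]
  apply (tilde.functor R).map_injective
  rw [(tilde.functor R).map_id, (tilde.functor R).map_zero]
  exact h.eq_of_src _ _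

open DerivedCategory Groth.Agent.Lib.Helper1.Tor Groth.Agent.Lib.Helper1.TorDim
  Groth.Agent.Lib.Seat0.StalkTor in
/-- **flat amplitude of `M~` ⟹ tor amplitude of `M`** -/
theorem hasTorAmplitudeIn_of_hasFlatAmplitudeIn_tildeD (M : DerivedCategory (ModuleCat.{u} R))
    (a b : ℤ) (h : DCoh.HasFlatAmplitudeIn a b ((DCoh.tildeD R).obj M)) :
    DRing.HasTorAmplitudeIn R a b M := by
  obtain ⟨G, hGv, hGfl, ⟨eG⟩⟩ := h
  let T := tilde.functor R
  -- the cohomology of `M` vanishes outside `[a, b]`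
  have hH : ∀ i : ℤ, (i < a ∨ b < i) →
      IsZero ((DerivedCategory.homologyFunctor (ModuleCat.{u} R) i).obj M) := by
    intro i hi
    have h0 : IsZero (G.homology i) :=
      Groth.Agent.Lib.Helper17.PCoh10.isZero_homology_of_isZero_X G i (hGv i hi)
    have h1 : IsZero ((DerivedCategory.homologyFunctor _ i).obj ((DCoh.tildeD R).obj M)) :=
      IsZero.of_iso h0 ((DerivedCategory.homologyFunctor _ i).mapIso eG.symm ≪≫
        (DerivedCategory.homologyFunctorFactors _ i).app G)
    exact isZero_of_isZero_tilde R _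
      (IsZero.of_iso h1 (Groth.Agent.Lib.Seat0.TopCoh.homologyMapDIso T M i).symm)
  -- a representative, truncated above
  let M' := Q.objPreimage M
  let eM' : Q.obj M' ≅ M := Q.objObjPreimageIso M
  have hHM' : ∀ i : ℤ, (i < a ∨ b < i) → IsZero (M'.homology i) := fun i hi =>
    IsZero.of_iso (hH i hi) (((DerivedCategory.homologyFunctorFactors _ i).app M').symm ≪≫
      (DerivedCategory.homologyFunctor _ i).mapIso eM')
  haveI : M'.IsLE b := by
    rw [CochainComplex.isLE_iff]
    intro i hi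
    rw [HomologicalComplex.exactAt_iff_isZero_homology]
    exact hHM' i (Or.inr hi)
  let M'' := M'.truncLE b
  have hι : IsIso (Q.map (M'.ιTruncLE b)) := inferInstance
  obtain ⟨P, f, hf, hPproj, hPle⟩ := Groth.Agent.Lib.Helper1.ProjRes.exists_proj_res M'' b
  have hfi : IsIso (Q.map f) := (DerivedCategory.isIso_Q_map_iff_quasiIso (φ := f)).2 hf
  let eP : Q.obj P ≅ M := asIso (Q.map f) ≪≫ asIso (Q.map (M'.ιTruncLE b)) ≪≫ eM'
  have hPb : DRing.VanishesAbove P b := fun i hi => P.isZero_of_isStrictlyLE b i hi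
  have hPfl : DRing.TermwiseFlat P := termwiseFlat_of_projective P hPproj
  have hHP : ∀ i : ℤ, (i < a ∨ b < i) → P.ExactAt i := by
    intro i hi
    rw [HomologicalComplex.exactAt_iff_isZero_homology]
    exact IsZero.of_iso (hH i hi) (((DerivedCategory.homologyFunctorFactors _ i).app P).symm ≪≫
      (DerivedCategory.homologyFunctor _ i).mapIso eP)
  -- the sheaf side
  let P' := (T.mapHomologicalComplex (ComplexShape.up ℤ)).obj P
  have hP'fl : ∀ i : ℤ, FlatMod.IsFlat (P'.X i) := fun i =>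
    (isFlat_tilde_iff R (P.X i)).2 (hPfl i)
  have hP'b : ∀ i : ℤ, b < i → IsZero (P'.X i) := fun i hi => T.map_isZero (hPb i hi)
  have eP' : Q.obj P' ≅ (DCoh.tildeD R).obj M :=
    (T.mapDerivedCategoryFactors.app P).symm ≪≫ (DCoh.tildeD R).mapIso eP
  have hfa : DCoh.HasFlatAmplitudeIn a b (DCoh.toD _ P') := ⟨G, hGv, hGfl, ⟨eG ≪≫ eP'.symm⟩⟩
  have hTA := hasTorAmplitude_of_hasFlatAmplitudeIn P' a b hfa
  haveI : QuasiIso (𝟙 P') := inferInstance
  have hop : FlatMod.IsFlat (P'.opcycles a) :=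
    isFlat_opcycles_of_hasTorAmplitude P' P' (𝟙 P') a b b hP'fl hP'b hTA
  have eop : P'.opcycles a ≅ T.obj (P.opcycles a) := ShortComplex.mapOpcyclesIso (P.sc a) T
  have hflat : Module.Flat R (P.opcycles a) :=
    (isFlat_tilde_iff R (P.opcycles a)).1
      (Groth.Agent.Lib.Helper1.CI.flatMod_isFlat_of_iso eop hop)
  exact hasTorAmp_of_iso eP
    (hasTorAmp_of_flat_opcycles P b hPb hPfl a b (fun i hi => hHP i (Or.inl hi))
      (fun i hi => hHP i (Or.inr hi)) hflat)

end Tilde

end Groth.Agent.Lib.Seat0.TildeTor
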