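import Mathlib

/-!
# Artin–Schreier extensions: Galois, degree `1` or `p` (Seat 10)
-/

set_option autoImplicit false

universe u

namespace Groth.Agent.Lib.Seat10.AS

open Polynomial IntermediateField

theorem charP_top (p : ℕ) (K : Type u) {L : Type u} [Field K] [Field L] [Algebra K L]
    [CharP K p] : CharP L p := charP_of_injective_algebraMap (algebraMap K L).injective p

variable (p : ℕ) [hp : Fact p.Prime] (K : Type u) {L : Type u} [Field K] [Field L] [Algebra K L]
  [CharP K p]

theorem algebra_adjoin_eq_top {z : L} (hint : IsIntegral K z)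
    (hgen : IntermediateField.adjoin K {z} = ⊤) : Algebra.adjoin K {z} = ⊤ := by
  rw [← IntermediateField.adjoin_simple_toSubalgebra_of_isAlgebraic hint.isAlgebraic, hgen,
    IntermediateField.top_toSubalgebra]

theorem finiteDimensional_of_adjoin_simple_eq_top {z : L} (hint : IsIntegral K z)
    (hgen : IntermediateField.adjoin K {z} = ⊤) : FiniteDimensional K L := by
  have h1 := IntermediateField.adjoin.finiteDimensional hint
  rw [hgen] at h1
  exact (IntermediateField.topEquiv : (⊤ : IntermediateField K L) ≃ₐ[K] L).toLinearEquiv.finiteDimensional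

/-- the Artin–Schreier polynomial -/
noncomputable def poly (ξ : K) : K[X] := X ^ p - X - C ξ

theorem poly_monic (ξ : K) : (poly p K ξ).Monic := by
  unfold poly
  rw [sub_sub]
  apply (monic_X_pow p).sub_of_left
  rw [degree_X_pow]
  have h1 : (X + C ξ : K[X]).degree ≤ 1 := by
    apply (degree_add_le _ _).trans
    rw [max_le_iff]
    exact ⟨degree_X_le, degree_C_le.trans zero_le_one⟩
  apply h1.trans_lt
  exact_mod_cast hp.out.one_lt

theorem poly_natDegree (ξ : K) : (poly p K ξ).natDegree = p := by
  unfold poly
  rw [sub_sub]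
  have h1 : (X + C ξ : K[X]).natDegree ≤ 1 := by
    apply (natDegree_add_le _ _).trans
    rw [max_le_iff]
    exact ⟨natDegree_X_le, (natDegree_C ξ).le.trans zero_le_one⟩
  rw [natDegree_sub_eq_left_of_natDegree_lt, natDegree_X_pow]
  rw [natDegree_X_pow]
  exact h1.trans_lt hp.out.one_lt

theorem poly_separable (ξ : K) : (poly p K ξ).Separable := by
  unfold poly
  rw [separable_def]
  have h1 : derivative (X ^ p - X - C ξ : K[X]) = -1 := by
    rw [derivative_sub, derivative_sub, derivative_X_pow, derivative_X, derivative_C,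
      CharP.cast_eq_zero, map_zero, zero_mul, zero_sub, sub_zero]
  rw [h1]
  exact isCoprime_one_right.neg_right

variable {K}

theorem aeval_poly (ξ : K) (z : L) : aeval z (poly p K ξ) = z ^ p - z - algebraMap K L ξ := by
  unfold poly
  rw [map_sub, map_sub, map_pow, aeval_X, aeval_C]

variable {p}


theorem poly_map_eq (ξ : K) (z : L) (hz : z ^ p - z = algebraMap K L ξ) :
    (poly p K ξ).map (algebraMap K L) = (X ^ p - X : L[X]).comp (X - C z) := by
  haveI : CharP L p := charP_top p K
  unfold poly
  rw [Polynomial.map_sub, Polynomial.map_sub, Polynomial.map_pow, map_X, map_C, sub_comp,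
    pow_comp, X_comp, sub_pow_char, ← hz, ← C_pow]
  simp only [map_sub]
  ring

theorem poly_splits (ξ : K) (z : L) (hz : z ^ p - z = algebraMap K L ξ) :
    ((poly p K ξ).map (algebraMap K L)).Splits := by
  haveI : CharP L p := charP_top p K
  rw [poly_map_eq ξ z hz]
  apply Splits.comp_X_sub_C
  have h1 := (Subfield.splits_bot L p).map (Subfield.subtype _)
  simpa using h1

theorem isSplittingField (ξ : K) (z : L) (hz : z ^ p - z = algebraMap K L ξ)
    (hgen : IntermediateField.adjoin K {z} = ⊤) : (poly p K ξ).IsSplittingField K L := by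
  have hroot : aeval z (poly p K ξ) = 0 := by rw [aeval_poly, hz, sub_self]
  have hint : IsIntegral K z := ⟨poly p K ξ, poly_monic p K ξ, by rw [← aeval_def]; exact hroot⟩
  refine ⟨poly_splits ξ z hz, ?_⟩
  rw [eq_top_iff, ← algebra_adjoin_eq_top K hint hgen]
  apply Algebra.adjoin_mono
  rw [Set.singleton_subset_iff, mem_rootSet]
  exact ⟨(poly_monic p K ξ).ne_zero, hroot⟩

theorem isGalois (ξ : K) (z : L) (hz : z ^ p - z = algebraMap K L ξ)
    (hgen : IntermediateField.adjoin K {z} = ⊤) : IsGalois K L := by
  haveI := isSplittingField ξ z hz hgen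
  exact IsGalois.of_separable_splitting_field (poly_separable p K ξ)

end Groth.Agent.Lib.Seat10.AS
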