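import Groth.Agent.Lib.Seat10ASA

/-!
# Artin–Schreier extensions: degree `1` or `p` (Seat 10)
-/

set_option autoImplicit false

universe u

namespace Groth.Agent.Lib.Seat10.AS

open Polynomial IntermediateField

variable {p : ℕ} [hp : Fact p.Prime] {K : Type u} {L : Type u} [Field K] [Field L] [Algebra K L]
  [CharP K p]

theorem isIntegral_of_eq (ξ : K) (z : L) (hz : z ^ p - z = algebraMap K L ξ) : IsIntegral K z := by
  have hroot : aeval z (poly p K ξ) = 0 := by rw [aeval_poly, hz, sub_self]
  exact ⟨poly p K ξ, poly_monic p K ξ, by rw [← aeval_def]; exact hroot⟩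

theorem finrank_eq_one_or (ξ : K) (z : L) (hz : z ^ p - z = algebraMap K L ξ)
    (hgen : IntermediateField.adjoin K {z} = ⊤) :
    Module.finrank K L = 1 ∨ Module.finrank K L = p := by
  haveI : CharP L p := charP_top p K
  haveI := isGalois ξ z hz hgen
  have hint := isIntegral_of_eq ξ z hz
  haveI := finiteDimensional_of_adjoin_simple_eq_top K hint hgen
  have halg := algebra_adjoin_eq_top K hint hgen
  have hzp : z ^ p = z + algebraMap K L ξ := by rw [← hz]; ring
  have hmem : ∀ σ : L ≃ₐ[K] L, σ z - z ∈ (⊥ : Subfield L) := by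
    intro σ
    rw [Subfield.mem_bot_iff_pow_eq_self L p, sub_pow_char, ← map_pow, hzp, map_add, σ.commutes]
    ring
  have hfix : ∀ (σ : L ≃ₐ[K] L) (t : L), t ∈ (⊥ : Subfield L) → σ t = t := by
    intro σ t ht
    have hle : (⊥ : Subfield L) ≤ (algebraMap K L).fieldRange := bot_le
    obtain ⟨c, rfl⟩ := hle ht
    exact σ.commutes c
  let φ : (L ≃ₐ[K] L) →* Multiplicative (⊥ : Subfield L) :=
    { toFun := fun σ => Multiplicative.ofAdd ⟨σ z - z, hmem σ⟩
      map_one' := by
        apply Multiplicative.toAdd.injective
        apply Subtype.ext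
        simp
      map_mul' := by
        intro σ τ
        apply Multiplicative.toAdd.injective
        apply Subtype.ext
        show (σ * τ) z - z = (σ z - z) + (τ z - z)
        have h1 : τ z = z + (τ z - z) := by ring
        rw [AlgEquiv.mul_apply, h1, map_add, hfix σ _ (hmem τ)]
        ring }
  have hinj : Function.Injective φ := by
    intro σ τ h
    have h1 : σ z - z = τ z - z :=
      congrArg (fun t => ((Multiplicative.toAdd t : (⊥ : Subfield L)) : L)) h
    have h2 : σ z = τ z := by linear_combination h1
    apply AlgEquiv.coe_algHom_injective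
    apply AlgHom.ext_of_adjoin_eq_top halg
    intro x hx
    rw [Set.mem_singleton_iff] at hx
    subst hx
    exact h2
  have hdvd := Subgroup.card_dvd_of_injective φ hinj
  rw [Nat.card_congr Multiplicative.toAdd, Subfield.card_bot L p,
    IsGalois.card_aut_eq_finrank] at hdvd
  exact (Nat.dvd_prime hp.out).mp hdvd

end Groth.Agent.Lib.Seat10.AS
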