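import Mathlib

/-!
# The incidence matrix of the "edge graph" of an integer matrix (Seat 10)

For an `n × n` integer matrix `A`, the edges are the pairs `i < j` with `0 < A i j`.  Over a field `F`
we consider the incidence matrix `inc : E × Fin n`; if `A` is "connected" then the kernel of
`inc` consists of the constant vectors, hence `rank inc = n - 1` and the kernel of the transpose
has dimension `e + 1 - n`.
-/

set_option autoImplicit false

namespace Groth.Agent.Lib.Seat10.CokerTorsion

open Finset Matrix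

variable {n : ℕ} (A : Matrix (Fin n) (Fin n) ℤ)

/-- the edge set -/
def edges : Finset (Fin n × Fin n) :=
  univ.filter fun p : Fin n × Fin n => p.1 < p.2 ∧ 0 < A p.1 p.2

/-- the type of edges -/
abbrev Edge : Type := {p : Fin n × Fin n // p ∈ edges A}

theorem card_edge : Fintype.card (Edge A) = (edges A).card := Fintype.card_coe _

theorem mem_edges {p : Fin n × Fin n} : p ∈ edges A ↔ p.1 < p.2 ∧ 0 < A p.1 p.2 := by
  simp [edges]

variable (F : Type*) [Field F]

/-- the incidence matrix -/
def inc : Matrix (Edge A) (Fin n) F :=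
  fun p i => (if i = p.1.2 then 1 else 0) - (if i = p.1.1 then 1 else 0)

theorem inc_mulVec (u : Fin n → F) (p : Edge A) :
    (inc A F).mulVec u p = u p.1.2 - u p.1.1 := by
  simp [inc, Matrix.mulVec, dotProduct, sub_mul, Finset.sum_sub_distrib]

variable {A F}

theorem const_of_inc_mulVec_eq_zero (hsymm : A.IsSymm) (hA : ∀ i j, i ≠ j → 0 ≤ A i j)
    (hconn : ∀ I : Finset (Fin n), I.Nonempty → I ≠ univ → ∃ i ∈ I, ∃ j ∉ I, A i j ≠ 0)
    (u : Fin n → F) (hu : (inc A F).mulVec u = 0) (i j : Fin n) : u i = u j := by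
  classical
  by_contra hne
  let I : Finset (Fin n) := univ.filter fun k => u k = u i
  have hiI : i ∈ I := by simp [I]
  have hjI : j ∉ I := by
    simp only [I, mem_filter, mem_univ, true_and]
    exact fun h => hne h.symm
  have hI : I ≠ univ := fun h => hjI (h ▸ mem_univ j)
  obtain ⟨i', hi', j', hj', hij⟩ := hconn I ⟨i, hiI⟩ hI
  have hne' : i' ≠ j' := fun h => hj' (h ▸ hi')
  have hpos : 0 < A i' j' := lt_of_le_of_ne (hA i' j' hne') (Ne.symm hij)
  have hui : u i' = u i := by simpa [I] using hi'
  apply hj'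
  simp only [I, mem_filter, mem_univ, true_and]
  rcases lt_or_gt_of_ne hne' with hlt | hlt
  · have hp : (i', j') ∈ edges A := (mem_edges A).mpr ⟨hlt, hpos⟩
    have := congrFun hu ⟨(i', j'), hp⟩
    rw [inc_mulVec] at this
    simp only [Pi.zero_apply] at this
    rw [← hui]
    exact sub_eq_zero.mp this
  · have hpos' : 0 < A j' i' := by rw [← hsymm.apply i' j'] at hpos; exact hpos
    have hp : (j', i') ∈ edges A := (mem_edges A).mpr ⟨hlt, hpos'⟩
    have := congrFun hu ⟨(j', i'), hp⟩
    rw [inc_mulVec] at this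
    simp only [Pi.zero_apply] at this
    rw [← hui]
    exact (sub_eq_zero.mp this).symm

theorem finrank_ker_inc (hn : 0 < n) (hsymm : A.IsSymm) (hA : ∀ i j, i ≠ j → 0 ≤ A i j)
    (hconn : ∀ I : Finset (Fin n), I.Nonempty → I ≠ univ → ∃ i ∈ I, ∃ j ∉ I, A i j ≠ 0) :
    Module.finrank F (LinearMap.ker (inc A F).mulVecLin) = 1 := by
  have hker : LinearMap.ker (inc A F).mulVecLin = Submodule.span F {fun _ : Fin n => (1 : F)} := by
    apply le_antisymm
    · intro u hu
      rw [LinearMap.mem_ker, Matrix.mulVecLin_apply] at hu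
      rw [Submodule.mem_span_singleton]
      refine ⟨u ⟨0, hn⟩, ?_⟩
      funext k
      simp only [Pi.smul_apply, smul_eq_mul, mul_one]
      exact const_of_inc_mulVec_eq_zero hsymm hA hconn u hu _ _
    · rw [Submodule.span_le, Set.singleton_subset_iff, SetLike.mem_coe, LinearMap.mem_ker,
        Matrix.mulVecLin_apply]
      funext p
      rw [inc_mulVec]
      simp
  rw [hker]
  apply finrank_span_singleton
  intro h
  have := congrFun h ⟨0, hn⟩
  simp at this

theorem rank_inc (hn : 0 < n) (hsymm : A.IsSymm) (hA : ∀ i j, i ≠ j → 0 ≤ A i j)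
    (hconn : ∀ I : Finset (Fin n), I.Nonempty → I ≠ univ → ∃ i ∈ I, ∃ j ∉ I, A i j ≠ 0) :
    (inc A F).rank = n - 1 := by
  have h := LinearMap.finrank_range_add_finrank_ker (inc A F).mulVecLin
  rw [finrank_ker_inc hn hsymm hA hconn] at h
  simp only [Module.finrank_fintype_fun_eq_card, Fintype.card_fin] at h
  unfold Matrix.rank
  omega

theorem finrank_ker_inc_transpose (hn : 0 < n) (hsymm : A.IsSymm) (hA : ∀ i j, i ≠ j → 0 ≤ A i j)
    (hconn : ∀ I : Finset (Fin n), I.Nonempty → I ≠ univ → ∃ i ∈ I, ∃ j ∉ I, A i j ≠ 0) :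
    Module.finrank F (LinearMap.ker (inc A F)ᵀ.mulVecLin) = (edges A).card + 1 - n := by
  have h := LinearMap.finrank_range_add_finrank_ker (inc A F)ᵀ.mulVecLin
  have h2 : Module.finrank F (LinearMap.range (inc A F)ᵀ.mulVecLin) = n - 1 := by
    have := Matrix.rank_transpose (inc A F)
    rw [rank_inc hn hsymm hA hconn] at this
    exact this
  rw [h2] at h
  simp only [Module.finrank_fintype_fun_eq_card, card_edge] at h
  omega

end Groth.Agent.Lib.Seat10.CokerTorsion
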