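import Groth.Agent.Lib.Seat10CokerTorsionA

/-!
# The `ℓ`-torsion of the cokernel of a connected symmetric integer matrix (Seat 10)
-/

set_option autoImplicit false

namespace Groth.Agent.Lib.Seat10.CokerTorsion

open Finset Matrix

variable {n : ℕ} (A : Matrix (Fin n) (Fin n) ℤ)

section sums

variable {F : Type*} [Field F]

theorem sum_edge (hA : ∀ i j, i ≠ j → 0 ≤ A i j) (g : Fin n × Fin n → F)
    (hg : ∀ j k, j < k → A j k = 0 → g (j, k) = 0) :
    ∑ p : Edge A, g p.1 = ∑ j, ∑ k, if j < k then g (j, k) else 0 := by
  classical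
  rw [Finset.sum_coe_sort (edges A) g]
  unfold edges
  rw [Finset.sum_filter, ← Finset.univ_product_univ, Finset.sum_product]
  refine Finset.sum_congr rfl fun j _ => Finset.sum_congr rfl fun k _ => ?_
  by_cases hjk : j < k
  · by_cases hpos : 0 < A j k
    · simp [hjk, hpos]
    · have h0 : A j k = 0 := le_antisymm (not_lt.mp hpos) (hA j k hjk.ne)
      simp [hjk, hpos, hg j k hjk h0]
  · simp [hjk]

/-- the key double sum manipulation -/
theorem sum_inc_transpose (hA : ∀ i j, i ≠ j → 0 ≤ A i j) (w : Fin n → Fin n → F)
    (hw0 : ∀ j k, A j k = 0 → w j k = 0) (hwanti : ∀ j k, w k j = - w j k)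
    (hwdiag : ∀ j, w j j = 0) (i : Fin n) :
    ((inc A F)ᵀ.mulVec fun p : Edge A => w p.1.1 p.1.2) i = ∑ j, w j i := by
  classical
  have h1 : ((inc A F)ᵀ.mulVec fun p : Edge A => w p.1.1 p.1.2) i =
      ∑ p : Edge A, (fun q : Fin n × Fin n =>
        ((if i = q.2 then (1 : F) else 0) - (if i = q.1 then 1 else 0)) * w q.1 q.2) p.1 := by
    simp [Matrix.mulVec, dotProduct, inc]
  rw [h1]
  refine (sum_edge (F := F) A hA (fun q : Fin n × Fin n =>
        ((if i = q.2 then (1 : F) else 0) - (if i = q.1 then 1 else 0)) * w q.1 q.2) ?_).trans ?_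
  · intro j k hjk h0
    simp [hw0 j k h0]
  · simp only [sub_mul, ite_mul, one_mul, zero_mul]
    have h2 : ∀ j k : Fin n,
        (if j < k then ((if i = k then w j k else 0) - if i = j then w j k else 0) else 0)
        = (if i = k then (if j < i then w j i else 0) else 0) -
          (if i = j then (if i < k then w i k else 0) else 0) := by
      intro j k
      by_cases h1 : i = k
      · subst h1
        by_cases h2 : i = j
        · subst h2
          simp
        · by_cases h3 : j < i
          · simp [h2, h3]
          · simp [h2, h3]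
      · by_cases h2 : i = j
        · subst h2
          by_cases h3 : i < k
          · simp [h1, h3]
          · simp [h1, h3]
        · simp [h1, h2]
    simp_rw [h2, Finset.sum_sub_distrib]
    simp only [Finset.sum_ite_eq, Finset.mem_univ, if_true]
    rw [Finset.sum_comm]
    simp only [Finset.sum_ite_eq, Finset.mem_univ, if_true]
    rw [← Finset.sum_sub_distrib]
    refine Finset.sum_congr rfl fun j _ => ?_
    rcases lt_trichotomy j i with h | h | h
    · simp [h, not_lt.mpr h.le]
    · subst h
      simp [hwdiag j]
    · simp [h, not_lt.mpr h.le, hwanti i j]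

end sums

end Groth.Agent.Lib.Seat10.CokerTorsion
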