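import Groth.Agent.Lib.Seat10CokerTorsionB

/-!
# The `ℓ`-torsion of the cokernel of a connected symmetric integer matrix (Seat 10), main part
-/

set_option autoImplicit false

namespace Groth.Agent.Lib.Seat10.CokerTorsion

open Finset Matrix

variable {n : ℕ} (A : Matrix (Fin n) (Fin n) ℤ) (ℓ : ℕ) [Fact ℓ.Prime] (m : Fin n → ℤ)

/-- the antisymmetric weight attached to a vector `y` -/
noncomputable def wOf (y : Fin n → ℤ) (j k : Fin n) : ZMod ℓ :=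
  (A j k : ZMod ℓ) * (m j : ZMod ℓ) * (m k : ZMod ℓ) *
    ((y k : ZMod ℓ) / (m k : ZMod ℓ) - (y j : ZMod ℓ) / (m j : ZMod ℓ))

/-- the edge vector attached to `y` -/
noncomputable def vOf (y : Fin n → ℤ) : Edge A → ZMod ℓ := fun p => wOf A ℓ m y p.1.1 p.1.2

variable {A ℓ m}

theorem cast_m_ne_zero (hℓm : ∀ i, ¬ ((ℓ : ℤ) ∣ m i)) (i : Fin n) : (m i : ZMod ℓ) ≠ 0 := by
  intro h
  exact hℓm i ((ZMod.intCast_zmod_eq_zero_iff_dvd _ _).mp h)

theorem sum_wOf (hsymm : A.IsSymm) (hAm : A.mulVec m = 0) (hℓm : ∀ i, ¬ ((ℓ : ℤ) ∣ m i))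
    (y : Fin n → ℤ) (hy : ∀ i, (ℓ : ℤ) ∣ A.mulVec y i) (i : Fin n) :
    ∑ j, wOf A ℓ m y j i = 0 := by
  have hμ := cast_m_ne_zero hℓm
  have h1 : ∀ j, wOf A ℓ m y j i =
      (y i : ZMod ℓ) * ((A i j : ZMod ℓ) * (m j : ZMod ℓ)) -
        (m i : ZMod ℓ) * ((A i j : ZMod ℓ) * (y j : ZMod ℓ)) := by
    intro j
    unfold wOf
    rw [hsymm.apply i j]
    have h1 := hμ i
    have h2 := hμ j
    field_simp
  simp_rw [h1, Finset.sum_sub_distrib, ← Finset.mul_sum]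
  have h2 : ∑ j, (A i j : ZMod ℓ) * (m j : ZMod ℓ) = 0 := by
    have := congrFun hAm i
    simp only [Matrix.mulVec, dotProduct, Pi.zero_apply] at this
    have h := congrArg (Int.cast : ℤ → ZMod ℓ) this
    push_cast at h
    exact h
  have h3 : ∑ j, (A i j : ZMod ℓ) * (y j : ZMod ℓ) = 0 := by
    have := (ZMod.intCast_zmod_eq_zero_iff_dvd _ _).mpr (hy i)
    simp only [Matrix.mulVec, dotProduct] at this
    push_cast at this
    exact this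
  rw [h2, h3]
  simp

theorem vOf_mem_ker (hsymm : A.IsSymm) (hA : ∀ i j, i ≠ j → 0 ≤ A i j) (hAm : A.mulVec m = 0)
    (hℓm : ∀ i, ¬ ((ℓ : ℤ) ∣ m i))
    (y : Fin n → ℤ) (hy : ∀ i, (ℓ : ℤ) ∣ A.mulVec y i) :
    vOf A ℓ m y ∈ LinearMap.ker (inc A (ZMod ℓ))ᵀ.mulVecLin := by
  rw [LinearMap.mem_ker, Matrix.mulVecLin_apply]
  funext i
  have := sum_inc_transpose A hA (wOf A ℓ m y) ?_ ?_ ?_ i
  · unfold vOf
    rw [this, sum_wOf hsymm hAm hℓm y hy i]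
    rfl
  · intro j k h0
    simp [wOf, h0]
  · intro j k
    unfold wOf
    rw [hsymm.apply j k]
    ring
  · intro j
    simp [wOf]

theorem exists_of_vOf_eq (hn : 0 < n) (hsymm : A.IsSymm) (hA : ∀ i j, i ≠ j → 0 ≤ A i j)
    (hconn : ∀ I : Finset (Fin n), I.Nonempty → I ≠ univ → ∃ i ∈ I, ∃ j ∉ I, A i j ≠ 0)
    (hℓA : ∀ i j, A i j ≠ 0 → ¬ ((ℓ : ℤ) ∣ A i j)) (hℓm : ∀ i, ¬ ((ℓ : ℤ) ∣ m i))
    (y y' : Fin n → ℤ) (h : vOf A ℓ m y = vOf A ℓ m y') :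
    ∃ (c : ℤ) (z : Fin n → ℤ), ∀ i, y i - y' i = c * m i + (ℓ : ℤ) * z i := by
  have hμ := cast_m_ne_zero hℓm
  let u : Fin n → ZMod ℓ := fun i => ((y i : ZMod ℓ) - (y' i : ZMod ℓ)) / (m i : ZMod ℓ)
  have hu : (inc A (ZMod ℓ)).mulVec u = 0 := by
    funext p
    rw [inc_mulVec]
    have hp := (mem_edges A).mp p.2
    have hne : (A p.1.1 p.1.2 : ZMod ℓ) ≠ 0 := by
      intro h0
      exact hℓA _ _ hp.2.ne' ((ZMod.intCast_zmod_eq_zero_iff_dvd _ _).mp h0)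
    have := congrFun h p
    unfold vOf wOf at this
    have h1 := hμ p.1.1
    have h2 := hμ p.1.2
    have h3 : (A p.1.1 p.1.2 : ZMod ℓ) * (m p.1.1 : ZMod ℓ) * (m p.1.2 : ZMod ℓ) ≠ 0 :=
      mul_ne_zero (mul_ne_zero hne h1) h2
    have h4 := mul_left_cancel₀ h3 this
    simp only [u, Pi.zero_apply]
    rw [sub_div, sub_div]
    linear_combination h4
  obtain ⟨c, hc⟩ := ZMod.intCast_surjective (u ⟨0, hn⟩)
  have hdvd : ∀ i, (ℓ : ℤ) ∣ y i - y' i - c * m i := by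
    intro i
    rw [← ZMod.intCast_zmod_eq_zero_iff_dvd]
    push_cast
    have := const_of_inc_mulVec_eq_zero hsymm hA hconn u hu i ⟨0, hn⟩
    rw [← hc] at this
    simp only [u] at this
    rw [div_eq_iff (hμ i)] at this
    rw [this]
    ring
  choose z hz using hdvd
  exact ⟨c, z, fun i => by rw [← hz i]; ring⟩

variable (A ℓ)

theorem card_torsion_le_of_pos (hn : 0 < n) (hsymm : A.IsSymm) (hA : ∀ i j, i ≠ j → 0 ≤ A i j)
    (hAm : A.mulVec m = 0)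
    (hconn : ∀ I : Finset (Fin n), I.Nonempty → I ≠ univ → ∃ i ∈ I, ∃ j ∉ I, A i j ≠ 0)
    (hℓA : ∀ i j, A i j ≠ 0 → ¬ ((ℓ : ℤ) ∣ A i j)) (hℓm : ∀ i, ¬ ((ℓ : ℤ) ∣ m i)) :
    Nat.card (Submodule.torsionBy ℤ ((Fin n → ℤ) ⧸ LinearMap.range (Matrix.mulVecLin A)) (ℓ : ℤ))
      ≤ ℓ ^ ((edges A).card + 1 - n) := by
  classical
  have hℓ0 : (ℓ : ℤ) ≠ 0 := by exact_mod_cast (Fact.out : ℓ.Prime).ne_zero
  have hex : ∀ t : Submodule.torsionBy ℤ ((Fin n → ℤ) ⧸ LinearMap.range (Matrix.mulVecLin A)) (ℓ : ℤ),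
      ∃ xy : (Fin n → ℤ) × (Fin n → ℤ),
        Submodule.Quotient.mk xy.1 = t.1 ∧ (ℓ : ℤ) • xy.1 = A.mulVec xy.2 := by
    intro t
    obtain ⟨x, hx⟩ := Submodule.Quotient.mk_surjective _ t.1
    have ht : (ℓ : ℤ) • t.1 = 0 := (Submodule.mem_torsionBy_iff _ _).mp t.2
    rw [← hx, ← Submodule.Quotient.mk_smul, Submodule.Quotient.mk_eq_zero] at ht
    obtain ⟨y, hy⟩ := ht
    exact ⟨(x, y), hx, by rw [← hy]; rfl⟩
  choose xy hxy using hex
  have hdvd : ∀ t i, (ℓ : ℤ) ∣ A.mulVec (xy t).2 i := by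
    intro t i
    rw [← (hxy t).2]
    exact ⟨(xy t).1 i, by simp⟩
  let f : Submodule.torsionBy ℤ ((Fin n → ℤ) ⧸ LinearMap.range (Matrix.mulVecLin A)) (ℓ : ℤ) →
      LinearMap.ker (inc A (ZMod ℓ))ᵀ.mulVecLin :=
    fun t => ⟨vOf A ℓ m (xy t).2, vOf_mem_ker hsymm hA hAm hℓm _ (hdvd t)⟩
  have hf : Function.Injective f := by
    intro t t' htt
    have hv : vOf A ℓ m (xy t).2 = vOf A ℓ m (xy t').2 := congrArg Subtype.val htt
    obtain ⟨c, z, hcz⟩ := exists_of_vOf_eq hn hsymm hA hconn hℓA hℓm _ _ hv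
    have hyy : (xy t).2 - (xy t').2 = c • m + (ℓ : ℤ) • z := by
      funext i
      simp only [Pi.sub_apply, Pi.add_apply, Pi.smul_apply, smul_eq_mul]
      exact hcz i
    have h1 : (ℓ : ℤ) • ((xy t).1 - (xy t').1) = (ℓ : ℤ) • A.mulVec z := by
      rw [smul_sub, (hxy t).2, (hxy t').2, ← Matrix.mulVec_sub, hyy, Matrix.mulVec_add,
        Matrix.mulVec_smul, Matrix.mulVec_smul, hAm]
      simp
    have h2 : (xy t).1 - (xy t').1 = A.mulVec z := by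
      funext i
      have := congrFun h1 i
      simp only [Pi.smul_apply, smul_eq_mul] at this
      exact mul_left_cancel₀ hℓ0 this
    apply Subtype.ext
    rw [← (hxy t).1, ← (hxy t').1, Submodule.Quotient.eq]
    rw [h2]
    exact ⟨z, rfl⟩
  have hcard := Nat.card_le_card_of_injective f hf
  have hfin : Nat.card (LinearMap.ker (inc A (ZMod ℓ))ᵀ.mulVecLin) =
      ℓ ^ ((edges A).card + 1 - n) := by
    rw [Module.natCard_eq_pow_finrank (K := ZMod ℓ), Nat.card_zmod,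
      finrank_ker_inc_transpose hn hsymm hA hconn]
  rw [hfin] at hcard
  exact hcard

end Groth.Agent.Lib.Seat10.CokerTorsion
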