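import Groth.Agent.Lib.Helper11Genus

/-!
# Contraction of a `(-1)`-index of a numerical type (Seat 10), part A: arithmetic

`T` is a numerical type on `n + 1` indices whose last index `l` is a `(-1)`-index.  We introduce
`b_i = a_il / w_l`, `c_i = a_il / w_i` and the contracted data `cW`, `cA`, `cG`, and prove the
arithmetic identities needed to see that they form a numerical type of the same genus.
-/

set_option autoImplicit false

namespace Groth.Agent.Lib.Seat10.Contraction

open Finset Models Groth.Agent.Lib.Helper11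

variable {n : ℕ} (T : Models.NumericalType (n + 1))

/-- `b_i = a_il / w_l` -/
def cB (i : Fin n) : ℤ := T.a i.castSucc (Fin.last n) / T.w (Fin.last n)

/-- `c_i = a_il / w_i` -/
def cC (i : Fin n) : ℤ := T.a i.castSucc (Fin.last n) / T.w i.castSucc

/-- the contracted `w` -/
def cW (i : Fin n) : ℤ :=
  if 2 ∣ T.a i.castSucc (Fin.last n) / T.w (Fin.last n) ∧
      ¬ 2 ∣ T.a i.castSucc (Fin.last n) / T.w i.castSucc
  then T.w i.castSucc / 2 else T.w i.castSucc

/-- the contracted matrix -/
def cA (i j : Fin n) : ℤ :=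
  T.a i.castSucc j.castSucc -
    T.a i.castSucc (Fin.last n) * T.a j.castSucc (Fin.last n) / T.a (Fin.last n) (Fin.last n)

/-- the contracted genera, for a given choice `w'` of the contracted `w` -/
def cG' (w' : ℤ) (i : Fin n) : ℤ :=
  T.w i.castSucc / w' * (T.g i.castSucc - 1) + 1 +
    (T.a i.castSucc (Fin.last n) ^ 2 - T.w (Fin.last n) * T.a i.castSucc (Fin.last n)) /
      (2 * w' * T.w (Fin.last n))

/-- the contracted genera -/
def cG (i : Fin n) : ℤ := cG' T (cW T i) i

theorem a_last_eq_cB (i : Fin n) :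
    T.a i.castSucc (Fin.last n) = T.w (Fin.last n) * cB T i := by
  unfold cB
  rw [Int.mul_ediv_cancel']
  rw [a_symm]
  exact T.w_dvd _ _

theorem a_last_eq_cC (i : Fin n) :
    T.a i.castSucc (Fin.last n) = T.w i.castSucc * cC T i :=
  (Int.mul_ediv_cancel' (T.w_dvd _ _)).symm

theorem a_last_nonneg (i : Fin n) : 0 ≤ T.a i.castSucc (Fin.last n) :=
  T.offDiag_nonneg _ _ (Fin.castSucc_lt_last i).ne

theorem cB_nonneg (i : Fin n) : 0 ≤ cB T i :=
  Int.ediv_nonneg (a_last_nonneg T i) (T.w_pos _).le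

theorem cC_nonneg (i : Fin n) : 0 ≤ cC T i :=
  Int.ediv_nonneg (a_last_nonneg T i) (T.w_pos _).le

theorem cW_cases (i : Fin n) :
    (cW T i = T.w i.castSucc ∧ (2 : ℤ) ∣ cC T i * (cB T i - 1)) ∨
      (2 * cW T i = T.w i.castSucc ∧ (2 : ℤ) ∣ cB T i ∧ ¬ (2 : ℤ) ∣ cC T i) := by
  unfold cW
  split_ifs with hc
  · right
    refine ⟨?_, hc.1, hc.2⟩
    have h1 : T.w i.castSucc * cC T i = T.w (Fin.last n) * cB T i := by
      rw [← a_last_eq_cB, ← a_last_eq_cC]
    have h2 : (2 : ℤ) ∣ T.w i.castSucc * cC T i := by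
      rw [h1]; exact Dvd.dvd.mul_left hc.1 _
    have h3 : (2 : ℤ) ∣ T.w i.castSucc := by
      rcases Int.prime_two.dvd_or_dvd h2 with h | h
      · exact h
      · exact absurd h hc.2
    exact Int.mul_ediv_cancel' h3
  · left
    refine ⟨rfl, ?_⟩
    have hc' : ¬ ((2 : ℤ) ∣ cB T i ∧ ¬ (2 : ℤ) ∣ cC T i) := hc
    by_cases h2 : (2 : ℤ) ∣ cC T i
    · exact Dvd.dvd.mul_right h2 _
    · have h3 : ¬ (2 : ℤ) ∣ cB T i := fun h => hc' ⟨h, h2⟩
      have : (2 : ℤ) ∣ cB T i - 1 := by omega
      exact Dvd.dvd.mul_left this _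

theorem cW_pos (i : Fin n) : 0 < cW T i := by
  have hw := T.w_pos i.castSucc
  rcases cW_cases T i with ⟨h, _⟩ | ⟨h, _, _⟩
  · rw [h]; exact hw
  · omega

theorem cW_dvd_w (i : Fin n) : cW T i ∣ T.w i.castSucc := by
  rcases cW_cases T i with ⟨h, _⟩ | ⟨h, _, _⟩
  · rw [h]
  · exact ⟨2, by rw [← h]; ring⟩

variable {T}

theorem cA_eq (hl : T.IsMinusOne (Fin.last n)) (i j : Fin n) :
    cA T i j = T.a i.castSucc j.castSucc + cB T i * T.a j.castSucc (Fin.last n) := by
  unfold cA
  rw [hl.2, Int.ediv_neg, a_last_eq_cB T i, mul_assoc,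
    Int.mul_ediv_cancel_left _ (T.w_pos _).ne']
  ring

theorem cA_eq' (hl : T.IsMinusOne (Fin.last n)) (i j : Fin n) :
    cA T i j = T.a i.castSucc j.castSucc + T.w (Fin.last n) * cB T i * cB T j := by
  rw [cA_eq hl, a_last_eq_cB T j]; ring

/-- the main identity for the contracted genera -/
theorem two_cW_mul_cG (i : Fin n) :
    2 * cW T i * (cG T i - 1) =
      2 * T.w i.castSucc * (T.g i.castSucc - 1) + T.a i.castSucc (Fin.last n) * (cB T i - 1) := by
  have ha := a_last_eq_cB T i
  have hc := a_last_eq_cC T i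
  have hw := T.w_pos (Fin.last n)
  have hwi := T.w_pos i.castSucc
  have hnum : T.a i.castSucc (Fin.last n) ^ 2 - T.w (Fin.last n) * T.a i.castSucc (Fin.last n) =
      (T.w i.castSucc * T.w (Fin.last n)) * (cC T i * (cB T i - 1)) := by
    have h1 : T.a i.castSucc (Fin.last n) ^ 2 - T.w (Fin.last n) * T.a i.castSucc (Fin.last n) =
        T.a i.castSucc (Fin.last n) * (T.a i.castSucc (Fin.last n) - T.w (Fin.last n)) := by ring
    rw [h1]
    nth_rewrite 1 [hc]
    rw [ha]
    ring
  unfold cG cG'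
  rw [hnum]
  rcases cW_cases T i with ⟨h, ⟨k, hk⟩⟩ | ⟨h, _, _⟩
  · rw [h, hk, Int.ediv_self hwi.ne']
    have : T.w i.castSucc * T.w (Fin.last n) * (2 * k) =
        (2 * T.w i.castSucc * T.w (Fin.last n)) * k := by ring
    rw [this, Int.mul_ediv_cancel_left _ (by positivity)]
    rw [hc]
    linear_combination (-(T.w i.castSucc)) * hk
  · have hv : 0 < cW T i := cW_pos T i
    have h1 : T.w i.castSucc / cW T i = 2 := by
      rw [← h, Int.mul_ediv_cancel _ hv.ne']
    have h2 : 2 * cW T i * T.w (Fin.last n) = T.w i.castSucc * T.w (Fin.last n) := by rw [h]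
    rw [h1, h2, Int.mul_ediv_cancel_left _ (by positivity)]
    rw [hc, ← h]
    ring

/-- the contribution of the index `i` to the genus after contraction -/
theorem contribution_contract (hl : T.IsMinusOne (Fin.last n)) (i : Fin n) :
    2 * cW T i * (cG T i - 1) - cA T i i =
      2 * T.w i.castSucc * (T.g i.castSucc - 1) - T.a i.castSucc i.castSucc -
        T.a i.castSucc (Fin.last n) := by
  rw [two_cW_mul_cG, cA_eq hl]
  ring

theorem sum_m_a_last (hl : T.IsMinusOne (Fin.last n)) :
    ∑ i : Fin n, T.m i.castSucc * T.a i.castSucc (Fin.last n) =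
      T.w (Fin.last n) * T.m (Fin.last n) := by
  have h := row_sum T (Fin.last n)
  rw [Fin.sum_univ_castSucc, hl.2] at h
  have : ∑ i : Fin n, T.m i.castSucc * T.a i.castSucc (Fin.last n) =
      ∑ i : Fin n, T.a (Fin.last n) i.castSucc * T.m i.castSucc :=
    Finset.sum_congr rfl fun i _ => by rw [a_symm T (Fin.last n)]; ring
  rw [this]
  linarith

theorem cG_nonneg (i : Fin n) : 0 ≤ cG T i := by
  have ha := a_last_eq_cB T i
  have hc := a_last_eq_cC T i
  have hw := T.w_pos (Fin.last n)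
  have hwi := T.w_pos i.castSucc
  have hb := cB_nonneg T i
  have hcn := cC_nonneg T i
  have hg := T.g_nonneg i.castSucc
  have hv : 0 < cW T i := cW_pos T i
  have key := two_cW_mul_cG (T := T) i
  rcases cW_cases T i with ⟨h, _⟩ | ⟨h, ⟨k, hk⟩, hodd⟩
  · -- `w' = w_i`: `2 w_i (cG - g_i) = a (b - 1) ≥ - something`; handle `b = 0` separately
    rw [h] at key
    by_contra hcon
    push Not at hcon
    have h1 : cG T i - 1 ≤ -2 := by omega
    have h2 : 2 * T.w i.castSucc * (cG T i - 1) ≤ 2 * T.w i.castSucc * (-2) :=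
      mul_le_mul_of_nonneg_left h1 (by positivity)
    have h3 : 2 * T.w i.castSucc * (-1) ≤ 2 * T.w i.castSucc * (T.g i.castSucc - 1) :=
      mul_le_mul_of_nonneg_left (by omega) (by positivity)
    have h4 : - T.w i.castSucc ≤ T.a i.castSucc (Fin.last n) * (cB T i - 1) := by
      rcases (cB_nonneg T i).lt_or_eq with hpos | hzero
      · have : 0 ≤ T.a i.castSucc (Fin.last n) * (cB T i - 1) :=
          mul_nonneg (a_last_nonneg T i) (by omega)
        linarith
      · rw [ha, ← hzero]; simp; exact hwi.le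
    linarith
  · -- `2 w' = w_i`, `b` even, `c` odd
    have hc0 : cC T i ≠ 0 := fun h0 => hodd (by rw [h0]; exact dvd_zero _)
    have hc1 : 1 ≤ cC T i := by omega
    have hb0 : cB T i ≠ 0 := by
      intro h0
      rw [h0, mul_zero] at ha
      rw [ha] at hc
      rcases mul_eq_zero.mp hc.symm with h' | h'
      · exact hwi.ne' h'
      · exact hc0 h'
    have hb2 : 2 ≤ cB T i := by omega
    have h5 : T.w i.castSucc ≤ T.a i.castSucc (Fin.last n) * (cB T i - 1) := by
      rw [hc]
      have : 1 ≤ cC T i * (cB T i - 1) := by nlinarith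
      nlinarith
    by_contra hcon
    push Not at hcon
    have h1 : cG T i - 1 ≤ -2 := by omega
    have h2 : 2 * cW T i * (cG T i - 1) ≤ 2 * cW T i * (-2) :=
      mul_le_mul_of_nonneg_left h1 (by positivity)
    have h3 : 2 * T.w i.castSucc * (-1) ≤ 2 * T.w i.castSucc * (T.g i.castSucc - 1) :=
      mul_le_mul_of_nonneg_left (by omega) (by positivity)
    rw [h] at h2 key
    linarith

end Groth.Agent.Lib.Seat10.Contraction
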