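import Groth.Agent.Lib.Seat10ContractionA

/-!
# Contraction of a `(-1)`-index of a numerical type (Seat 10), part B: the contracted type
-/

set_option autoImplicit false

namespace Groth.Agent.Lib.Seat10.Contraction

open Finset Models Groth.Agent.Lib.Helper11

variable {n : ℕ} {T : Models.NumericalType (n + 1)}

theorem n_pos (hl : T.IsMinusOne (Fin.last n)) : 0 < n := by
  by_contra hn
  have hn0 : n = 0 := by omega
  subst hn0
  have h := sum_m_a_last hl
  simp only [Finset.univ_eq_empty, Finset.sum_empty] at h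
  have := mul_pos (T.w_pos (Fin.last 0)) (T.m_pos (Fin.last 0))
  omega

theorem cA_nonneg_parts (hl : T.IsMinusOne (Fin.last n)) {i j : Fin n} (hij : i ≠ j)
    (h0 : cA T i j = 0) : T.a i.castSucc j.castSucc = 0 ∧ cB T i * cB T j = 0 := by
  rw [cA_eq' hl] at h0
  have h1 : 0 ≤ T.a i.castSucc j.castSucc :=
    T.offDiag_nonneg _ _ (fun h => hij (Fin.castSucc_injective _ h))
  have h2 : 0 ≤ cB T i * cB T j := mul_nonneg (cB_nonneg T i) (cB_nonneg T j)
  have hw := T.w_pos (Fin.last n)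
  have h3 : 0 ≤ T.w (Fin.last n) * (cB T i * cB T j) := mul_nonneg hw.le h2
  have h4 : T.w (Fin.last n) * cB T i * cB T j = T.w (Fin.last n) * (cB T i * cB T j) := by ring
  rw [h4] at h0
  have h5 : T.w (Fin.last n) * (cB T i * cB T j) = 0 := by omega
  refine ⟨by omega, ?_⟩
  rcases mul_eq_zero.mp h5 with h | h
  · exact absurd h hw.ne'
  · exact h

theorem cB_ne_zero_of_a_ne_zero {i : Fin n} (h : T.a i.castSucc (Fin.last n) ≠ 0) :
    cB T i ≠ 0 := by
  intro h0
  apply h
  rw [a_last_eq_cB, h0, mul_zero]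

theorem connected_contract (hl : T.IsMinusOne (Fin.last n)) (I : Finset (Fin n))
    (hI : I.Nonempty) (hI' : I ≠ univ) : ∃ i ∈ I, ∃ j ∉ I, cA T i j ≠ 0 := by
  classical
  by_contra hcon
  push Not at hcon
  have hparts : ∀ i ∈ I, ∀ j ∉ I, T.a i.castSucc j.castSucc = 0 ∧ cB T i * cB T j = 0 := by
    intro i hi j hj
    exact cA_nonneg_parts hl (fun h => hj (h ▸ hi)) (hcon i hi j hj)
  let I₁ : Finset (Fin (n + 1)) := I.map Fin.castSuccEmb
  have hlast : Fin.last n ∉ I₁ := by
    simp only [I₁, Finset.mem_map, not_exists, not_and]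
    intro x _ hx
    exact (Fin.castSucc_lt_last x).ne hx
  have hmem₁ : ∀ x : Fin n, x.castSucc ∈ I₁ ↔ x ∈ I := by
    intro x
    simp only [I₁, Finset.mem_map]
    constructor
    · rintro ⟨y, hy, hyx⟩
      have : y = x := Fin.castSucc_injective _ hyx
      exact this ▸ hy
    · intro hx
      exact ⟨x, hx, rfl⟩
  -- first use: some `i ∈ I` with `b_i ≠ 0`
  have h1 : ∃ i ∈ I, cB T i ≠ 0 := by
    obtain ⟨i₁, hi₁, j₁, hj₁, ha⟩ := T.connected I₁ (hI.map) (fun h => hlast (h ▸ mem_univ _))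
    obtain ⟨i, hi, rfl⟩ := Finset.mem_map.mp hi₁
    rcases Fin.eq_castSucc_or_eq_last j₁ with ⟨j, rfl⟩ | rfl
    · have hj : j ∉ I := fun h => hj₁ ((hmem₁ j).mpr h)
      exact absurd (hparts i hi j hj).1 ha
    · exact ⟨i, hi, cB_ne_zero_of_a_ne_zero ha⟩
  -- second use: some `j ∉ I` with `b_j ≠ 0`
  have h2 : ∃ j ∉ I, cB T j ≠ 0 := by
    let I₂ : Finset (Fin (n + 1)) := insert (Fin.last n) I₁
    obtain ⟨j0, hj0⟩ : ∃ j0, j0 ∉ I := by
      by_contra hall
      push Not at hall
      exact hI' (Finset.eq_univ_iff_forall.mpr hall)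
    have hI₂ : I₂ ≠ univ := by
      intro h
      have : j0.castSucc ∈ I₂ := h ▸ mem_univ _
      rcases Finset.mem_insert.mp this with h' | h'
      · exact (Fin.castSucc_lt_last j0).ne h'
      · exact hj0 ((hmem₁ j0).mp h')
    obtain ⟨i₂, hi₂, j₂, hj₂, ha⟩ := T.connected I₂ ⟨Fin.last n, Finset.mem_insert_self _ _⟩ hI₂
    have hj₂' : j₂ ≠ Fin.last n ∧ j₂ ∉ I₁ := by
      constructor
      · intro h; exact hj₂ (h ▸ Finset.mem_insert_self _ _)
      · intro h; exact hj₂ (Finset.mem_insert_of_mem h)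
    rcases Fin.eq_castSucc_or_eq_last j₂ with ⟨j, rfl⟩ | rfl
    · have hj : j ∉ I := fun h => hj₂'.2 ((hmem₁ j).mpr h)
      rcases Finset.mem_insert.mp hi₂ with rfl | hi₂'
      · refine ⟨j, hj, cB_ne_zero_of_a_ne_zero ?_⟩
        rwa [a_symm]
      · obtain ⟨i, hi, rfl⟩ := Finset.mem_map.mp hi₂'
        exact absurd (hparts i hi j hj).1 ha
    · exact absurd rfl hj₂'.1
  obtain ⟨i, hi, hbi⟩ := h1
  obtain ⟨j, hj, hbj⟩ := h2
  exact mul_ne_zero hbi hbj (hparts i hi j hj).2

theorem mulVec_contract (hl : T.IsMinusOne (Fin.last n)) (i : Fin n) :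
    ∑ j : Fin n, cA T i j * T.m j.castSucc = 0 := by
  have h1 := row_sum T i.castSucc
  rw [Fin.sum_univ_castSucc] at h1
  have h2 := sum_m_a_last hl
  have h3 : ∑ j : Fin n, cA T i j * T.m j.castSucc =
      ∑ j : Fin n, T.a i.castSucc j.castSucc * T.m j.castSucc +
        cB T i * ∑ j : Fin n, T.m j.castSucc * T.a j.castSucc (Fin.last n) := by
    rw [Finset.mul_sum, ← Finset.sum_add_distrib]
    refine Finset.sum_congr rfl fun j _ => ?_
    rw [cA_eq hl]; ring
  rw [h3, h2]
  have := a_last_eq_cB T i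
  rw [this] at h1
  linarith

theorem cW_dvd_cA (hl : T.IsMinusOne (Fin.last n)) (i j : Fin n) : cW T i ∣ cA T i j := by
  have h1 : cA T i j = T.a i.castSucc j.castSucc + T.a i.castSucc (Fin.last n) * cB T j := by
    rw [cA_eq' hl, a_last_eq_cB T i]
  rw [h1]
  exact dvd_add ((cW_dvd_w T i).trans (T.w_dvd _ _))
    (Dvd.dvd.mul_right ((cW_dvd_w T i).trans (T.w_dvd _ _)) _)

/-- the contracted numerical type -/
def contract (hl : T.IsMinusOne (Fin.last n)) : Models.NumericalType n where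
  m i := T.m i.castSucc
  a := Matrix.of (cA T)
  w := cW T
  g := cG T
  pos := n_pos hl
  m_pos i := T.m_pos _
  w_pos := cW_pos T
  g_nonneg := cG_nonneg
  symm := by
    ext i j
    simp only [Matrix.transpose_apply, Matrix.of_apply]
    rw [cA_eq' hl, cA_eq' hl, a_symm T j.castSucc i.castSucc]
    ring
  offDiag_nonneg i j hij := by
    simp only [Matrix.of_apply]
    rw [cA_eq' hl]
    have h1 : 0 ≤ T.a i.castSucc j.castSucc :=
      T.offDiag_nonneg _ _ (fun h => hij (Fin.castSucc_injective _ h))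
    have h2 : 0 ≤ T.w (Fin.last n) * cB T i * cB T j :=
      mul_nonneg (mul_nonneg (T.w_pos _).le (cB_nonneg T i)) (cB_nonneg T j)
    omega
  connected I hI hI' := by
    simpa only [Matrix.of_apply] using connected_contract hl I hI hI'
  mulVec_m := by
    funext i
    simp only [Matrix.mulVec, dotProduct, Matrix.of_apply, Pi.zero_apply]
    exact mulVec_contract hl i
  w_dvd i j := by
    simp only [Matrix.of_apply]
    exact cW_dvd_cA hl i j

theorem isContraction_contract (hl : T.IsMinusOne (Fin.last n)) :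
    T.IsContraction (contract hl) :=
  ⟨fun _ => rfl, fun _ _ => rfl, fun _ => rfl, fun _ => rfl⟩

theorem genus_eq_of_isContraction (hl : T.IsMinusOne (Fin.last n)) (T' : Models.NumericalType n)
    (hT' : T.IsContraction T') : T'.genus = T.genus := by
  obtain ⟨hm, ha, hw, hg⟩ := hT'
  have hw' : ∀ i, T'.w i = cW T i := hw
  have hg' : ∀ i, T'.g i = cG T i := by
    intro i
    rw [hg i, hw' i]
    rfl
  have ha' : ∀ i j, T'.a i j = cA T i j := ha
  have h1 := two_genus T'
  have h2 := two_genus T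
  rw [Fin.sum_univ_castSucc, hl.1, hl.2] at h2
  have h3 : ∑ i, T'.m i * (2 * T'.w i * (T'.g i - 1) - T'.a i i) =
      ∑ i : Fin n, T.m i.castSucc *
        (2 * T.w i.castSucc * (T.g i.castSucc - 1) - T.a i.castSucc i.castSucc) -
      ∑ i : Fin n, T.m i.castSucc * T.a i.castSucc (Fin.last n) := by
    rw [← Finset.sum_sub_distrib]
    refine Finset.sum_congr rfl fun i _ => ?_
    rw [hm i, hw' i, hg' i, ha' i i, contribution_contract hl i]
    ring
  rw [h3, sum_m_a_last hl] at h1
  linarith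

end Groth.Agent.Lib.Seat10.Contraction
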