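import Groth.Agent.Lib.Seat10ContractionB

/-!
# Contraction of a `(-1)`-index of a numerical type (Seat 10), part C: Picard groups

The map `Pic(T) → Pic(T')`, `x ↦ (ρ_i (x_i + c_i x_l))_i` with `ρ_i = w_i / w'_i ∈ {1, 2}`, is
injective with cokernel killed by `2`.
-/

set_option autoImplicit false

namespace Groth.Agent.Lib.Seat10.Contraction

open Finset Models Groth.Agent.Lib.Helper11

variable {n : ℕ} (T : Models.NumericalType (n + 1))

/-- `ρ_i = w_i / w'_i` -/
def rho (i : Fin n) : ℤ := T.w i.castSucc / cW T i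

theorem rho_mul_cW (i : Fin n) : rho T i * cW T i = T.w i.castSucc :=
  Int.ediv_mul_cancel (cW_dvd_w T i)

theorem rho_cases (i : Fin n) : rho T i = 1 ∨ rho T i = 2 := by
  have h := rho_mul_cW T i
  have hv := cW_pos T i
  rcases cW_cases T i with ⟨h1, _⟩ | ⟨h1, _, _⟩
  · left
    rw [h1] at h
    have hw := T.w_pos i.castSucc
    have : (rho T i - 1) * T.w i.castSucc = 0 := by linarith
    rcases mul_eq_zero.mp this with h' | h'
    · omega
    · omega
  · right
    rw [← h1] at h
    have : (rho T i - 2) * cW T i = 0 := by linarith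
    rcases mul_eq_zero.mp this with h' | h'
    · omega
    · omega

theorem rho_ne_zero (i : Fin n) : rho T i ≠ 0 := by
  rcases rho_cases T i with h | h <;> omega

/-- the linear map inducing `Pic(T) → Pic(T')` -/
def phi : (Fin (n + 1) → ℤ) →ₗ[ℤ] (Fin n → ℤ) where
  toFun x i := rho T i * (x i.castSucc + cC T i * x (Fin.last n))
  map_add' x y := by
    funext i
    simp only [Pi.add_apply]
    ring
  map_smul' c x := by
    funext i
    simp only [Pi.smul_apply, smul_eq_mul, RingHom.id_apply]
    ring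

theorem phi_apply (x : Fin (n + 1) → ℤ) (i : Fin n) :
    phi T x i = rho T i * (x i.castSucc + cC T i * x (Fin.last n)) := rfl

variable {T}

theorem kk_last_last (hl : T.IsMinusOne (Fin.last n)) : kk T (Fin.last n) (Fin.last n) = -1 := by
  unfold kk
  rw [hl.2, Int.neg_ediv_of_dvd (dvd_refl _), Int.ediv_self (T.w_pos _).ne']

theorem kk_last_castSucc (k : Fin n) : kk T (Fin.last n) k.castSucc = cB T k := by
  unfold kk cB
  rw [a_symm]

theorem kk_castSucc_last (i : Fin n) : kk T i.castSucc (Fin.last n) = cC T i := rfl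

theorem cA_div_cW (hl : T.IsMinusOne (Fin.last n)) (i k : Fin n) :
    cA T i k / cW T i = rho T i * (kk T i.castSucc k.castSucc + cC T i * cB T k) := by
  have h1 : cA T i k = cW T i * (rho T i * (kk T i.castSucc k.castSucc + cC T i * cB T k)) := by
    rw [cA_eq' hl, a_eq_kk T i.castSucc k.castSucc]
    have h2 : T.w (Fin.last n) * cB T i = T.w i.castSucc * cC T i := by
      rw [← a_last_eq_cB, ← a_last_eq_cC]
    have h3 := rho_mul_cW T i
    calc kk T i.castSucc k.castSucc * T.w i.castSucc + T.w (Fin.last n) * cB T i * cB T k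
        = kk T i.castSucc k.castSucc * T.w i.castSucc + (T.w i.castSucc * cC T i) * cB T k := by
          rw [h2]
      _ = (rho T i * cW T i) * (kk T i.castSucc k.castSucc + cC T i * cB T k) := by
          rw [h3]; ring
      _ = _ := by ring
  rw [h1, Int.mul_ediv_cancel_left _ (cW_pos T i).ne']

/-- `φ` maps relations to relations -/
theorem phi_mulVec (hl : T.IsMinusOne (Fin.last n)) (T' : Models.NumericalType n)
    (hT' : T.IsContraction T') (z : Fin (n + 1) → ℤ) :
    phi T (T.picMatrix.mulVec z) = T'.picMatrix.mulVec (fun k => z k.castSucc) := by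
  obtain ⟨_, ha, hw, _⟩ := hT'
  have hw' : ∀ i, T'.w i = cW T i := hw
  have ha' : ∀ i j, T'.a i j = cA T i j := ha
  funext i
  rw [phi_apply]
  simp only [Matrix.mulVec, dotProduct]
  have hpm : ∀ a b, T.picMatrix a b = kk T a b := fun _ _ => rfl
  have hpm' : ∀ k, T'.picMatrix i k = rho T i * (kk T i.castSucc k.castSucc + cC T i * cB T k) := by
    intro k
    show T'.a i k / T'.w i = _
    rw [ha', hw', cA_div_cW hl]
  simp only [hpm, hpm']
  rw [Fin.sum_univ_castSucc, Fin.sum_univ_castSucc, kk_last_last hl, kk_castSucc_last]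
  simp only [kk_last_castSucc]
  have h1 : ∀ x : Fin n,
      rho T i * (kk T i.castSucc x.castSucc + cC T i * cB T x) * z x.castSucc =
        rho T i * (kk T i.castSucc x.castSucc * z x.castSucc) +
          rho T i * cC T i * (cB T x * z x.castSucc) := fun x => by ring
  simp_rw [h1, Finset.sum_add_distrib, ← Finset.mul_sum]
  ring

/-- the kernel of `φ` modulo relations: injectivity -/
theorem mem_range_of_phi_mem_range (hl : T.IsMinusOne (Fin.last n)) (T' : Models.NumericalType n)
    (hT' : T.IsContraction T') (x : Fin (n + 1) → ℤ)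
    (hx : phi T x ∈ LinearMap.range (Matrix.mulVecLin T'.picMatrix)) :
    x ∈ LinearMap.range (Matrix.mulVecLin T.picMatrix) := by
  obtain ⟨y, hy⟩ := hx
  rw [Matrix.mulVecLin_apply] at hy
  -- `v = x - M (y, 0)`
  let z0 : Fin (n + 1) → ℤ := Fin.snoc (α := fun _ => ℤ) y 0
  have hz0 : (fun k : Fin n => z0 k.castSucc) = y := by
    funext k
    simp [z0]
  let v : Fin (n + 1) → ℤ := x - T.picMatrix.mulVec z0
  have hv : phi T v = 0 := by
    simp only [v, map_sub]
    rw [phi_mulVec hl T' hT', hz0, hy, sub_self]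
  have hvi : ∀ i : Fin n, v i.castSucc = - (cC T i * v (Fin.last n)) := by
    intro i
    have := congrFun hv i
    rw [phi_apply] at this
    simp only [Pi.zero_apply] at this
    rcases mul_eq_zero.mp this with h | h
    · exact absurd h (rho_ne_zero T i)
    · linarith
  -- `v = M (- v_l e_l)`
  refine ⟨z0 + Pi.single (Fin.last n) (- v (Fin.last n)), ?_⟩
  rw [Matrix.mulVecLin_apply, Matrix.mulVec_add]
  have hcol : T.picMatrix.mulVec (Pi.single (Fin.last n) (- v (Fin.last n))) = v := by
    funext j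
    rw [Matrix.mulVec_single]
    simp only [MulOpposite.op_neg, Pi.smul_apply, Matrix.col_apply, MulOpposite.smul_eq_mul_unop,
      MulOpposite.unop_neg, MulOpposite.unop_op]
    rcases Fin.eq_castSucc_or_eq_last j with ⟨i, rfl⟩ | rfl
    · rw [hvi i]
      show kk T i.castSucc (Fin.last n) * _ = _
      rw [kk_castSucc_last]
      ring
    · show kk T (Fin.last n) (Fin.last n) * _ = _
      rw [kk_last_last hl]
      ring
  rw [hcol]
  simp [v]

/-- the cokernel of `φ` is killed by `2` -/
theorem exists_phi_eq_two_smul (y : Fin n → ℤ) : ∃ x : Fin (n + 1) → ℤ, phi T x = 2 • y := by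
  have hσ : ∀ i : Fin n, ∃ s : ℤ, rho T i * s = 2 := by
    intro i
    rcases rho_cases T i with h | h
    · exact ⟨2, by rw [h]; norm_num⟩
    · exact ⟨1, by rw [h]; norm_num⟩
  choose s hs using hσ
  refine ⟨Fin.snoc (α := fun _ => ℤ) (fun i => s i * y i) 0, ?_⟩
  funext i
  rw [phi_apply]
  simp only [Fin.snoc_castSucc, Fin.snoc_last, mul_zero, add_zero, Pi.smul_apply]
  rw [← mul_assoc, hs i]
  simp

/-- S2180 -/
theorem exists_pic_hom (hl : T.IsMinusOne (Fin.last n)) (T' : Models.NumericalType n)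
    (hT' : T.IsContraction T') :
    ∃ f : T.Pic →+ T'.Pic, Function.Injective f ∧ ∀ y : T'.Pic, ∃ x : T.Pic, 2 • y = f x := by
  have hle : LinearMap.range (Matrix.mulVecLin T.picMatrix) ≤
      (LinearMap.range (Matrix.mulVecLin T'.picMatrix)).comap (phi T) := by
    rintro _ ⟨z, rfl⟩
    rw [Submodule.mem_comap, Matrix.mulVecLin_apply, phi_mulVec hl T' hT']
    exact ⟨_, rfl⟩
  let F : T.Pic →ₗ[ℤ] T'.Pic := Submodule.mapQ _ _ (phi T) hle
  refine ⟨F.toAddMonoidHom, ?_, ?_⟩
  · rw [LinearMap.toAddMonoidHom_coe, ← LinearMap.ker_eq_bot, LinearMap.ker_eq_bot']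
    intro t ht
    obtain ⟨x, rfl⟩ := Submodule.Quotient.mk_surjective _ t
    rw [Submodule.mapQ_apply, Submodule.Quotient.mk_eq_zero] at ht
    rw [Submodule.Quotient.mk_eq_zero]
    exact mem_range_of_phi_mem_range hl T' hT' x ht
  · intro t
    obtain ⟨y, rfl⟩ := Submodule.Quotient.mk_surjective _ t
    obtain ⟨x, hx⟩ := exists_phi_eq_two_smul (T := T) y
    refine ⟨Submodule.Quotient.mk x, ?_⟩
    rw [LinearMap.toAddMonoidHom_coe, Submodule.mapQ_apply, hx]
    rfl

end Groth.Agent.Lib.Seat10.Contraction
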