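import Groth.Agent.Lib.Seat10ValDomB

/-!
# Valuation subrings dominating a DVR versus primes of the integral closure (Seat 10)

`V` a valuation subring of `L = Frac B` containing the Dedekind domain `B` with nonzero centre
`P`: then `V` is the localization of `B` at `P`.
-/

set_option autoImplicit false

universe u

namespace Groth.Agent.Lib.Seat10.Dom

open EtRam IsLocalRing

section

variable {B V L : Type*} [CommRing B] [IsDedekindDomain B] [CommRing V] [IsDomain V]
  [IsLocalRing V] [Field L] [Algebra B L] [IsFractionRing B L] [Algebra V L]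
  [FaithfulSMul V L]

/-- A local domain `V ⊆ L = Frac B` containing the Dedekind domain `B`, with nonzero centre `P` on
`B`: every element of `V` is a fraction with denominator outside `P`. -/
theorem exists_mul_eq (φ : B →+* V)
    (hφ : ∀ b, algebraMap V L (φ b) = algebraMap B L b)
    (hq0 : (maximalIdeal V).comap φ ≠ ⊥) (x : V) :
    ∃ b s : B, s ∉ (maximalIdeal V).comap φ ∧ x * φ s = φ b := by
  have hinjV : Function.Injective (algebraMap V L) := FaithfulSMul.algebraMap_injective V L
  have hinjB : Function.Injective (algebraMap B L) := IsFractionRing.injective B L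
  have hφinj : Function.Injective φ := by
    intro b b' h
    apply hinjB
    rw [← hφ, ← hφ, h]
  set q := (maximalIdeal V).comap φ with hq
  have hqp : q.IsPrime := Ideal.comap_isPrime φ _
  let Bq := Localization.AtPrime q
  have hdvr : IsDiscreteValuationRing Bq :=
    IsLocalization.AtPrime.isDiscreteValuationRing_of_dedekind_domain B hq0 Bq
  have hunit : ∀ s : q.primeCompl, IsUnit (φ s) := by
    intro s
    by_contra hs
    exact s.2 ((IsLocalRing.mem_maximalIdeal _).2 hs)
  let ψ : Bq →+* V := IsLocalization.lift (M := q.primeCompl) (g := φ) hunit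
  have hψ : ∀ b, ψ (algebraMap B Bq b) = φ b := fun b => IsLocalization.lift_eq _ _
  have hψmax : ∀ x ∈ maximalIdeal Bq, ψ x ∈ maximalIdeal V := by
    intro x hx
    obtain ⟨b, s, rfl⟩ := IsLocalization.exists_mk'_eq q.primeCompl x
    rw [IsLocalization.AtPrime.mk'_mem_maximal_iff Bq q] at hx
    have h1 : ψ (IsLocalization.mk' Bq b s) * φ s = φ b := by
      rw [← hψ (s : B), ← map_mul, IsLocalization.mk'_spec, hψ]
    have h2 : φ b ∈ maximalIdeal V := hx
    rw [← h1] at h2
    rcases (Ideal.IsPrime.mem_or_mem (maximalIdeal.isMaximal V).isPrime h2) with h | h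
    · exact h
    · exact absurd h (fun h' => (IsLocalRing.mem_maximalIdeal _).1 h' (hunit s))
  have hψsurj : ∃ δ : Bq, ψ δ = x := by
    obtain ⟨b, c, hc, hx⟩ := IsFractionRing.div_surjective B (algebraMap V L x)
    have hc0 : c ≠ 0 := nonZeroDivisors.ne_zero hc
    have hcL : algebraMap B L c ≠ 0 := fun h => hc0 (hinjB (by rw [h, map_zero]))
    have key : ∀ δ : Bq, algebraMap B Bq b = algebraMap B Bq c * δ → ψ δ = x := by
      intro δ hδ
      apply hinjV
      have h1 := congrArg (fun t => algebraMap V L (ψ t)) hδ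
      simp only [map_mul, hψ, hφ] at h1
      rw [← hx, h1, mul_div_cancel_left₀ _ hcL]
    rcases ValuationRing.dvd_total (algebraMap B Bq b) (algebraMap B Bq c) with ⟨δ, hδ⟩ | ⟨δ, hδ⟩
    · -- `c = b δ`
      by_cases hu : IsUnit δ
      · obtain ⟨u, rfl⟩ := hu
        refine ⟨(u⁻¹ : Bqˣ), key _ ?_⟩
        rw [hδ, mul_assoc, Units.mul_inv, mul_one]
      · exfalso
        have h1 : ψ δ ∈ maximalIdeal V := hψmax δ ((IsLocalRing.mem_maximalIdeal _).2 hu)
        have h2 := congrArg (fun t => algebraMap V L (ψ t)) hδ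
        simp only [map_mul, hψ, hφ] at h2
        have h3 : algebraMap V L (x * ψ δ) = 1 := by
          rw [map_mul, ← hx, h2]
          have hbL : algebraMap B L b ≠ 0 := by
            intro h
            rw [h, zero_mul] at h2
            exact hcL h2
          have hδL : algebraMap V L (ψ δ) ≠ 0 := by
            intro h
            rw [h, mul_zero] at h2
            exact hcL h2
          field_simp
        have h4 : x * ψ δ = 1 := hinjV (by rw [h3, map_one])
        have h5 : (1 : V) ∈ maximalIdeal V := h4 ▸ Ideal.mul_mem_left _ x h1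
        exact (Ideal.ne_top_iff_one _).mp (maximalIdeal.isMaximal V).ne_top h5
    · exact ⟨δ, key δ hδ⟩
  obtain ⟨δ, hδ⟩ := hψsurj
  obtain ⟨b, s, rfl⟩ := IsLocalization.exists_mk'_eq q.primeCompl δ
  refine ⟨b, s, s.2, ?_⟩
  rw [← hδ, ← hψ (s : B), ← map_mul, IsLocalization.mk'_spec, hψ]

/-- In the situation of `exists_mul_eq`, `V` is the localization of `B` at its centre. -/
theorem isLocalization_atPrime (φ : B →+* V)
    (hφ : ∀ b, algebraMap V L (φ b) = algebraMap B L b)
    (hq0 : (maximalIdeal V).comap φ ≠ ⊥) :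
    letI : Algebra B V := φ.toAlgebra
    haveI : ((maximalIdeal V).comap φ).IsPrime := Ideal.comap_isPrime φ _
    IsLocalization.AtPrime V ((maximalIdeal V).comap φ) := by
  letI : Algebra B V := φ.toAlgebra
  haveI : ((maximalIdeal V).comap φ).IsPrime := Ideal.comap_isPrime φ _
  have hinjB : Function.Injective (algebraMap B L) := IsFractionRing.injective B L
  have hφinj : Function.Injective φ := by
    intro b b' h
    apply hinjB
    rw [← hφ, ← hφ, h]
  refine ⟨?_, ?_, ?_⟩
  · intro s
    show IsUnit (φ s)
    by_contra hs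
    exact s.2 ((IsLocalRing.mem_maximalIdeal _).2 hs)
  · intro x
    obtain ⟨b, s, hs, h⟩ := exists_mul_eq (L := L) φ hφ hq0 x
    exact ⟨⟨b, ⟨s, hs⟩⟩, h⟩
  · intro x y hxy
    exact ⟨1, by rw [hφinj hxy]⟩

end

end Groth.Agent.Lib.Seat10.Dom
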