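import Groth.Agent.Lib.Seat10ValDomC

/-!
# Saturation of `V = W ∩ L` in `W`, injectivity of the structure maps (Seat 10)
-/

set_option autoImplicit false

universe u

namespace Groth.Agent.Lib.Seat10.ValDom

open EtRam IsLocalRing

variable {L M : Type u} [Field L] [Field M]

theorem mapOfLE_dvd (V : ValuationSubring L) (W : ValuationSubring M) (f : L →+* M)
    (h : W.comap f = V) (v v' : V)
    (hd : mapOfLE V W f h.ge v' ∣ mapOfLE V W f h.ge v) : v' ∣ v := by
  obtain ⟨w, hw⟩ := hd
  have hw' : f (v : L) = f (v' : L) * (w : M) := congrArg Subtype.val hw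
  by_cases hv' : (v' : L) = 0
  · rw [hv', map_zero, zero_mul] at hw'
    have hv0 : (v : L) = 0 := f.injective (by rw [hw', map_zero])
    have h1 : v = 0 := Subtype.ext hv0
    have h2 : v' = 0 := Subtype.ext hv'
    rw [h1, h2]
  · have hfv' : f (v' : L) ≠ 0 := fun h0 => hv' (f.injective (by rw [h0, map_zero]))
    have hwf : (w : M) = f ((v : L) / (v' : L)) := by
      rw [map_div₀, hw', mul_div_cancel_left₀ _ hfv']
    have hmem : (v : L) / (v' : L) ∈ V := by
      apply h.le
      rw [ValuationSubring.mem_comap, ← hwf]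
      exact w.2
    refine ⟨⟨_, hmem⟩, Subtype.ext ?_⟩
    show (v : L) = (v' : L) * ((v : L) / (v' : L))
    rw [mul_div_cancel₀ _ hv']

variable {A : Type u} [CommRing A] [IsLocalRing A]

theorem toVal_injective {g : A →+* L} {V : ValuationSubring L} (h : Dominates A g V)
    (hg : Function.Injective g) : Function.Injective (toVal h) := by
  intro a b hab
  exact hg (congrArg Subtype.val hab)

end Groth.Agent.Lib.Seat10.ValDom
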