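import Groth.Agent.Lib.Seat10DomA
import Groth.Agent.Lib.Seat10ValDomD

/-!
# Valuation subrings dominating a DVR versus primes of the integral closure, II (Seat 10)

For a DVR `A` with fraction field `K`, a finite separable extension `L/K` and a valuation subring
`V` of `L` dominating `A`: the centre of `V` on the integral closure `B` of `A` in `L`, and the
comparison of ramification index and residue degree.
-/

set_option autoImplicit false

universe u

namespace Groth.Agent.Lib.Seat10.Dom

open EtRam IsLocalRing Groth.Agent.Lib.Seat10.ValDom

section generic

variable {A : Type u} [CommRing A] [IsLocalRing A] {L : Type u} [Field L] [Algebra A L]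

theorem mem_of_isIntegral {V : ValuationSubring L} (h : Dominates A (algebraMap A L) V) {x : L}
    (hx : IsIntegral A x) : x ∈ V := by
  have hb' : IsIntegral V x :=
    IsIntegral.map_of_comp_eq (toVal h) (RingHom.id L) (by ext; rfl) hx
  obtain ⟨y, hy⟩ := IsIntegrallyClosed.algebraMap_eq_of_integral hb'
  rw [← hy]
  exact y.2

/-- the map from the integral closure to a dominating valuation subring -/
def toV {V : ValuationSubring L} (h : Dominates A (algebraMap A L) V) :
    integralClosure A L →+* V where
  toFun b := ⟨b, mem_of_isIntegral h b.2⟩
  map_one' := rfl
  map_mul' _ _ := rfl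
  map_zero' := rfl
  map_add' _ _ := rfl

@[simp] theorem toV_coe {V : ValuationSubring L} (h : Dominates A (algebraMap A L) V)
    (b : integralClosure A L) : ((toV h b : V) : L) = (b : L) := rfl

theorem toV_injective {V : ValuationSubring L} (h : Dominates A (algebraMap A L) V) :
    Function.Injective (toV h) := by
  intro b b' hbb
  apply Subtype.ext
  exact congrArg (fun t : V => (t : L)) hbb

theorem toV_algebraMap {V : ValuationSubring L} (h : Dominates A (algebraMap A L) V) (a : A) :
    toV h (algebraMap A (integralClosure A L) a) = toVal h a := rfl

/-- the centre of `V` on the integral closure -/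
def centre {V : ValuationSubring L} (h : Dominates A (algebraMap A L) V) :
    Ideal (integralClosure A L) := (maximalIdeal V).comap (toV h)

instance centre_isPrime {V : ValuationSubring L} (h : Dominates A (algebraMap A L) V) :
    (centre h).IsPrime := Ideal.comap_isPrime (toV h) _

theorem centre_under {V : ValuationSubring L} (h : Dominates A (algebraMap A L) V) :
    (centre h).under A = maximalIdeal A := by
  ext a
  rw [Ideal.under_def, Ideal.mem_comap, centre, Ideal.mem_comap, toV_algebraMap]
  have := isLocalHom_toVal h
  constructor
  · intro ha
    rw [IsLocalRing.mem_maximalIdeal, mem_nonunits_iff] at ha ⊢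
    exact fun hu => ha (hu.map (toVal h))
  · intro ha
    rw [IsLocalRing.mem_maximalIdeal, mem_nonunits_iff] at ha ⊢
    exact fun hu => ha (isUnit_of_map_unit (toVal h) a hu)

instance centre_liesOver {V : ValuationSubring L} (h : Dominates A (algebraMap A L) V) :
    (centre h).LiesOver (maximalIdeal A) := ⟨(centre_under h).symm⟩

instance centre_isMaximal {V : ValuationSubring L} (h : Dominates A (algebraMap A L) V) :
    (centre h).IsMaximal := by
  have : ((centre h).under A).IsMaximal := by
    rw [centre_under]; infer_instance
  exact Ideal.isMaximal_of_isIntegral_of_isMaximal_comap (R := A) (centre h) this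

end generic

section dvr

variable (A K : Type u) {L : Type u} [CommRing A] [IsDomain A] [IsDiscreteValuationRing A]
  [Field K] [Algebra A K] [IsFractionRing A K] [Field L] [Algebra K L] [Algebra A L]
  [IsScalarTower A K L]

include K in
theorem algebraMap_injective' : Function.Injective (algebraMap A L) := by
  rw [IsScalarTower.algebraMap_eq A K L]
  exact (algebraMap K L).injective.comp (IsFractionRing.injective A K)

include K in
theorem centre_ne_bot {V : ValuationSubring L} (h : Dominates A (algebraMap A L) V) :
    centre h ≠ ⊥ := by
  obtain ⟨π, hπ⟩ := IsDiscreteValuationRing.exists_irreducible A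
  have hπm : π ∈ maximalIdeal A := by
    rw [IsLocalRing.mem_maximalIdeal]
    exact hπ.not_isUnit
  intro hbot
  have h1 : algebraMap A (integralClosure A L) π ∈ centre h := by
    have h2 : π ∈ (centre h).under A := by
      rw [centre_under]; exact hπm
    exact h2
  rw [hbot, Ideal.mem_bot] at h1
  have h2 : algebraMap A L π = 0 := by
    rw [IsScalarTower.algebraMap_apply A (integralClosure A L) L, h1, map_zero]
  exact hπ.ne_zero (algebraMap_injective' A K (by rw [h2, map_zero]))

variable [FiniteDimensional K L] [Algebra.IsSeparable K L]

include K in
/-- `V` is the localization of the integral closure at its centre -/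
theorem isLocalization_centre {V : ValuationSubring L} (h : Dominates A (algebraMap A L) V) :
    letI : Algebra (integralClosure A L) V := (toV h).toAlgebra
    IsLocalization.AtPrime V (centre h) := by
  have : IsDedekindDomain (integralClosure A L) :=
    IsIntegralClosure.isDedekindDomain A K L (integralClosure A L)
  have : IsFractionRing (integralClosure A L) L :=
    IsIntegralClosure.isFractionRing_of_finite_extension A K L (integralClosure A L)
  exact isLocalization_atPrime (L := L) (toV h) (fun b => rfl) (centre_ne_bot A K h)

include K in
/-- a dominating valuation subring is determined by its centre -/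
theorem eq_of_centre_eq {V V' : ValuationSubring L} (h : Dominates A (algebraMap A L) V)
    (h' : Dominates A (algebraMap A L) V') (hc : centre h = centre h') : V = V' := by
  have : IsDedekindDomain (integralClosure A L) :=
    IsIntegralClosure.isDedekindDomain A K L (integralClosure A L)
  have : IsFractionRing (integralClosure A L) L :=
    IsIntegralClosure.isFractionRing_of_finite_extension A K L (integralClosure A L)
  have key : ∀ {W W' : ValuationSubring L} (k : Dominates A (algebraMap A L) W)
      (k' : Dominates A (algebraMap A L) W'), centre k = centre k' → ∀ x ∈ W, x ∈ W' := by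
    intro W W' k k' hkk x hx
    obtain ⟨b, s, hs, hxs⟩ := exists_mul_eq (L := L) (toV k) (fun b => rfl)
      (centre_ne_bot A K k) ⟨x, hx⟩
    have hs' : s ∉ centre k' := hkk ▸ hs
    have hu : IsUnit (toV k' s) := by
      by_contra hnu
      exact hs' ((IsLocalRing.mem_maximalIdeal _).2 hnu)
    obtain ⟨u, hu⟩ := hu
    have h1 : x * (s : L) = (b : L) := congrArg Subtype.val hxs
    have hs0 : (s : L) ≠ 0 := by
      intro h0
      have : toV k' s = 0 := Subtype.ext h0
      rw [← hu] at this
      exact u.ne_zero this
    have h2 : x = ((toV k' b * ((u⁻¹ : W'ˣ) : W') : W') : L) := by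
      have h3 : (((u⁻¹ : W'ˣ) : W') : L) * (s : L) = 1 := by
        have := congrArg Subtype.val u.inv_mul
        rw [hu] at this
        exact this
      rw [MulMemClass.coe_mul, toV_coe, ← h1, mul_assoc, mul_comm (s : L), h3, mul_one]
    rw [h2]
    exact Subtype.mem _
  ext x
  exact ⟨key h h' hc x, key h' h hc.symm x⟩

end dvr

end Groth.Agent.Lib.Seat10.Dom
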