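import Groth.Agent.Lib.Seat10DomB

/-!
# Ramification index and residue degree of a dominating valuation subring (Seat 10)
-/

set_option autoImplicit false

universe u

namespace Groth.Agent.Lib.Seat10.Dom

open EtRam IsLocalRing Groth.Agent.Lib.Seat10.ValDom

variable (A K : Type u) {L : Type u} [CommRing A] [IsDomain A] [IsDiscreteValuationRing A]
  [Field K] [Algebra A K] [IsFractionRing A K] [Field L] [Algebra K L] [Algebra A L]
  [IsScalarTower A K L] [FiniteDimensional K L] [Algebra.IsSeparable K L]

include K in
theorem ramificationIdx'_eq {V : ValuationSubring L} (h : Dominates A (algebraMap A L) V) :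
    letI : Algebra A V := (RingHom.codRestrict (algebraMap A L) V h.1).toAlgebra
    Ideal.ramificationIdx' (maximalIdeal A) (maximalIdeal V) = (centre h).ramificationIdx A := by
  letI : Algebra A V := (RingHom.codRestrict (algebraMap A L) V h.1).toAlgebra
  letI : Algebra (integralClosure A L) V := (toV h).toAlgebra
  have : IsScalarTower A (integralClosure A L) V := IsScalarTower.of_algebraMap_eq (fun _ => rfl)
  have hloc : IsLocalization.AtPrime V (centre h) := isLocalization_centre A K h
  have : IsDedekindDomain (integralClosure A L) :=
    IsIntegralClosure.isDedekindDomain A K L (integralClosure A L)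
  have hinjAB : Function.Injective (algebraMap A (integralClosure A L)) := by
    have h1 := algebraMap_injective' A K (L := L)
    rw [IsScalarTower.algebraMap_eq A (integralClosure A L) L, RingHom.coe_comp] at h1
    exact Function.Injective.of_comp h1
  have hfaith : FaithfulSMul A (integralClosure A L) :=
    (faithfulSMul_iff_algebraMap_injective A _).mpr hinjAB
  have htf : Module.IsTorsionFree A (integralClosure A L) := inferInstance
  have hp0 : maximalIdeal A ≠ ⊥ := IsDiscreteValuationRing.not_a_field A
  rw [← Ideal.ramificationIdx'_eq_ramificationIdx (maximalIdeal A) (centre h) hp0]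
  unfold Ideal.ramificationIdx'
  congr 1
  ext n
  simp only [Set.mem_setOf_eq]
  have hmax : maximalIdeal V ^ n = (centre h ^ n).map (algebraMap (integralClosure A L) V) := by
    rw [Ideal.map_pow, IsLocalization.AtPrime.map_eq_maximalIdeal (centre h) V]
  have hmap : (maximalIdeal A).map (algebraMap A V) =
      ((maximalIdeal A).map (algebraMap A (integralClosure A L))).map
        (algebraMap (integralClosure A L) V) := by
    rw [Ideal.map_map, ← IsScalarTower.algebraMap_eq]
  constructor
  · intro hle
    rcases Nat.eq_zero_or_pos n with rfl | hn
    · rw [pow_zero, Ideal.one_eq_top]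
      exact le_top
    have hprim : (centre h ^ n).IsPrimary := by
      apply Ideal.isPrimary_of_isMaximal_radical
      rw [Ideal.radical_pow _ hn.ne', Ideal.IsPrime.radical inferInstance]
      infer_instance
    have hdisj : Disjoint ((centre h).primeCompl : Set (integralClosure A L))
        ((centre h ^ n : Ideal (integralClosure A L)) : Set (integralClosure A L)) := by
      rw [Set.disjoint_left]
      intro s hs hsn
      exact hs (Ideal.pow_le_self hn.ne' hsn)
    have hunder := IsLocalization.under_map_of_isPrimary_disjoint (centre h).primeCompl V hprim hdisj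
    rw [← hunder, Ideal.under_def, ← Ideal.map_le_iff_le_comap, ← hmap, ← hmax]
    exact hle
  · intro hle
    rw [hmap, hmax]
    exact Ideal.map_mono hle

end Groth.Agent.Lib.Seat10.Dom

namespace Groth.Agent.Lib.Seat10.Dom

open EtRam IsLocalRing Groth.Agent.Lib.Seat10.ValDom

variable (A K : Type u) {L : Type u} [CommRing A] [IsDomain A] [IsDiscreteValuationRing A]
  [Field K] [Algebra A K] [IsFractionRing A K] [Field L] [Algebra K L] [Algebra A L]
  [IsScalarTower A K L] [FiniteDimensional K L] [Algebra.IsSeparable K L]

include K in
theorem finrank_residueField_eq {V : ValuationSubring L} (h : Dominates A (algebraMap A L) V) :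
    letI : Algebra A V := (RingHom.codRestrict (algebraMap A L) V h.1).toAlgebra
    ∀ [IsLocalHom (algebraMap A V)],
      Module.finrank (ResidueField A) (ResidueField V) = (centre h).inertiaDeg A := by
  letI : Algebra A V := (RingHom.codRestrict (algebraMap A L) V h.1).toAlgebra
  intro hloc'
  letI : Algebra (integralClosure A L) V := (toV h).toAlgebra
  have : IsScalarTower A (integralClosure A L) V := IsScalarTower.of_algebraMap_eq (fun _ => rfl)
  have hloc : IsLocalization.AtPrime V (centre h) := isLocalization_centre A K h
  rw [Ideal.inertiaDeg_eq_of_isMaximal (maximalIdeal A) (centre h)]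
  symm
  refine Algebra.finrank_eq_of_equiv_equiv (RingEquiv.refl (A ⧸ maximalIdeal A))
    (IsLocalization.AtPrime.equivQuotMaximalIdeal (centre h) V) ?_
  ext a
  simp only [RingHom.coe_comp, Function.comp_apply]
  change algebraMap (ResidueField A) (ResidueField V) (IsLocalRing.residue A a) =
    (IsLocalization.AtPrime.equivQuotMaximalIdeal (centre h) ↥V)
      (algebraMap (A ⧸ maximalIdeal A) (↥(integralClosure A L) ⧸ centre h)
        (Ideal.Quotient.mk (maximalIdeal A) a))
  rw [IsLocalRing.ResidueField.algebraMap_residue,
    Ideal.Quotient.algebraMap_mk_of_liesOver,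
    IsLocalization.AtPrime.equivQuotMaximalIdeal_apply_mk]
  rfl

end Groth.Agent.Lib.Seat10.Dom
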