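import Groth.Agent.Lib.Seat10DomC

/-!
# The fundamental identity for a Galois extension, in terms of dominating valuation subrings
(Seat 10)
-/

set_option autoImplicit false

universe u

namespace Groth.Agent.Lib.Seat10.Dom

open EtRam IsLocalRing Groth.Agent.Lib.Seat10.ValDom

section

variable {A : Type u} [CommRing A] [IsLocalRing A] {L : Type u} [Field L]

/-- a valuation subring dominating a local ring exists -/
theorem exists_dominates (g : A →+* L) : ∃ V : ValuationSubring L, Dominates A g V := by
  obtain ⟨V, hV, hloc⟩ := IsLocalRing.exists_factor_valuationRing g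
  refine ⟨V, hV, ?_⟩
  intro a ha
  have h1 : (⟨g a, hV a⟩ : V) ∈ maximalIdeal V := by
    rw [IsLocalRing.mem_maximalIdeal, mem_nonunits_iff] at ha ⊢
    intro hu
    exact ha (hloc.map_nonunit a hu)
  rw [ValuationSubring.valuation_lt_one_iff] at h1
  exact h1

end

variable (A K : Type u) {L : Type u} [CommRing A] [IsDomain A] [IsDiscreteValuationRing A]
  [Field K] [Algebra A K] [IsFractionRing A K] [Field L] [Algebra K L] [Algebra A L]
  [IsScalarTower A K L] [FiniteDimensional K L] [IsGalois K L]

include K in
/-- The fundamental identity `g e f = [L : K]` for a finite Galois extension of the fraction field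
of a DVR, in terms of valuation subrings dominating `A`. -/
theorem galois_core :
    ∃ g e f : ℕ, g * (e * f) = Module.finrank K L ∧
      (∃ V : ValuationSubring L, Dominates A (algebraMap A L) V) ∧
      (g = 1 → ∀ V V' : ValuationSubring L, Dominates A (algebraMap A L) V →
        Dominates A (algebraMap A L) V' → V = V') ∧
      ∀ (V : ValuationSubring L) (h : Dominates A (algebraMap A L) V),
        letI : Algebra A V := (RingHom.codRestrict (algebraMap A L) V h.1).toAlgebra
        ∀ [IsLocalHom (algebraMap A V)],
          Ideal.ramificationIdx' (maximalIdeal A) (maximalIdeal V) = e ∧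
            Module.finrank (ResidueField A) (ResidueField V) = f := by
  have hdd : IsDedekindDomain (integralClosure A L) :=
    IsIntegralClosure.isDedekindDomain A K L (integralClosure A L)
  have hfr : IsFractionRing (integralClosure A L) L :=
    IsIntegralClosure.isFractionRing_of_finite_extension A K L (integralClosure A L)
  have hfin : Module.Finite A (integralClosure A L) :=
    IsIntegralClosure.finite A K L (integralClosure A L)
  letI act := IsIntegralClosure.MulSemiringAction A K L (integralClosure A L)
  have hgal : IsGaloisGroup (L ≃ₐ[K] L) A (integralClosure A L) :=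
    IsGaloisGroup.of_isFractionRing _ _ _ K L
  have hinjAB : Function.Injective (algebraMap A (integralClosure A L)) := by
    have h1 := algebraMap_injective' A K (L := L)
    rw [IsScalarTower.algebraMap_eq A (integralClosure A L) L, RingHom.coe_comp] at h1
    exact Function.Injective.of_comp h1
  have hfaith : FaithfulSMul A (integralClosure A L) :=
    (faithfulSMul_iff_algebraMap_injective A _).mpr hinjAB
  have htf : Module.IsTorsionFree A (integralClosure A L) := inferInstance
  have hflat : Module.Flat A (integralClosure A L) := inferInstance
  have key := Ideal.ncard_primesOver_mul_ramificationIdxIn_mul_inertiaDegIn (maximalIdeal A)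
    (integralClosure A L) (L ≃ₐ[K] L)
  refine ⟨_, _, _, key.trans (IsGalois.card_aut_eq_finrank K L), exists_dominates _, ?_, ?_⟩
  · intro hg V V' h h'
    apply eq_of_centre_eq A K h h'
    obtain ⟨q, hq⟩ := Set.ncard_eq_one.mp hg
    have h1 : centre h ∈ (maximalIdeal A).primesOver (integralClosure A L) :=
      ⟨inferInstance, inferInstance⟩
    have h2 : centre h' ∈ (maximalIdeal A).primesOver (integralClosure A L) :=
      ⟨inferInstance, inferInstance⟩
    rw [hq, Set.mem_singleton_iff] at h1 h2
    rw [h1, h2]
  · intro V h
    letI : Algebra A V := (RingHom.codRestrict (algebraMap A L) V h.1).toAlgebra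
    intro hloc
    refine ⟨?_, ?_⟩
    · rw [ramificationIdx'_eq A K h,
        Ideal.ramificationIdxIn_eq_ramificationIdx (maximalIdeal A) (centre h) (L ≃ₐ[K] L)]
    · rw [finrank_residueField_eq A K h,
        Ideal.inertiaDegIn_eq_inertiaDeg (maximalIdeal A) (centre h) (L ≃ₐ[K] L)]

end Groth.Agent.Lib.Seat10.Dom
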