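import Groth.Agent.Lib.Helper14GeomRed

/-!
# Auxiliary lemmas for Abhyankar's lemma (Seat 10)

* `ramificationIdx'_eq_of_eq_unit_mul_pow`: the ramification index read off from a factorization.
* `exists_unit_of_mul_pow_eq`: extracting a root which is a unit in a valuation subring.
* `isGeometricallyReduced_of_charZero`: field extensions in characteristic zero are geometrically
  reduced.
-/

set_option autoImplicit false

universe u

namespace Groth.Agent.Lib.Seat10.Tower

open TensorProduct

section Ram

variable {R S : Type*} [CommRing R] [CommRing S] [IsDomain S] [Algebra R S]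

theorem ramificationIdx'_eq_of_eq_unit_mul_pow {π : R} {ϖ : S} {p : Ideal R} {P : Ideal S}
    (hp : p = Ideal.span {π}) (hP : P = Ideal.span {ϖ}) (hϖ0 : ϖ ≠ 0) (hϖu : ¬ IsUnit ϖ)
    (c : Sˣ) (n : ℕ) (h : algebraMap R S π = c * ϖ ^ n) :
    Ideal.ramificationIdx' p P = n := by
  have hmap : p.map (algebraMap R S) = P ^ n := by
    rw [hp, hP, Ideal.map_span, Set.image_singleton, h, Ideal.span_singleton_pow,
      Ideal.span_singleton_eq_span_singleton]
    exact ⟨c⁻¹, by rw [mul_comm, ← mul_assoc, Units.inv_mul, one_mul]⟩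
  apply Ideal.ramificationIdx'_spec hmap.le
  rw [hmap, hP, Ideal.span_singleton_pow, Ideal.span_singleton_pow,
    Ideal.span_singleton_le_span_singleton]
  rintro ⟨t, ht⟩
  apply hϖu
  have h1 : ϖ ^ n * 1 = ϖ ^ n * (ϖ * t) := by
    rw [mul_one, ← mul_assoc, ← pow_succ]
    exact ht
  have h2 := mul_left_cancel₀ (pow_ne_zero n hϖ0) h1
  exact IsUnit.of_mul_eq_one t h2.symm

end Ram

section Val

variable {M : Type*} [Field M] (W : ValuationSubring M)

/-- if `c' α ^ n = c b ^ n` in a valuation ring with `c`, `c'` units, `b ≠ 0` and `n ≠ 0`, then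
`α = b w` for a unit `w` with `c' w ^ n = c`. -/
theorem exists_unit_of_mul_pow_eq (α b : W) (hb : b ≠ 0) (c c' : Wˣ) {n : ℕ} (hn : n ≠ 0)
    (h : (c' : W) * α ^ n = (c : W) * b ^ n) :
    ∃ w : Wˣ, b * (w : W) = α ∧ (c' : W) * (w : W) ^ n = (c : W) := by
  have hbM : (b : M) ≠ 0 := fun h0 => hb (Subtype.ext h0)
  have hM : ((c' : W) : M) * (α : M) ^ n = ((c : W) : M) * (b : M) ^ n := by
    have := congrArg Subtype.val h
    simpa using this
  have hc'M : ((c' : W) : M) ≠ 0 := by
    intro h0
    exact c'.ne_zero (Subtype.ext h0)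
  have hpow : ((c' : W) : M) * ((α : M) / (b : M)) ^ n = ((c : W) : M) := by
    rw [div_pow, mul_div_assoc', hM, mul_div_assoc, div_self (pow_ne_zero n hbM), mul_one]
  have hv : W.valuation ((α : M) / (b : M)) = 1 := by
    have h1 := congrArg W.valuation hpow
    rw [map_mul, map_pow, ValuationSubring.valuation_unit, ValuationSubring.valuation_unit,
      one_mul] at h1
    exact (pow_eq_one_iff.mp h1).resolve_right hn
  have hmem : (α : M) / (b : M) ∈ W := (ValuationSubring.valuation_le_one_iff W _).mp hv.le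
  have hunit : IsUnit (⟨(α : M) / (b : M), hmem⟩ : W) :=
    (ValuationSubring.valuation_eq_one_iff W _).mpr hv
  refine ⟨hunit.unit, Subtype.ext ?_, Subtype.ext ?_⟩
  · show (b : M) * ((α : M) / (b : M)) = (α : M)
    rw [mul_div_cancel₀ _ hbM]
  · show ((c' : W) : M) * ((α : M) / (b : M)) ^ n = ((c : W) : M)
    exact hpow

end Val

section CharZero

theorem isGeometricallyReduced_of_charZero (k S : Type u) [Field k] [CharZero k] [CommRing S]
    [IsReduced S] [Algebra k S] : Algebra.IsGeometricallyReduced k S := by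
  rw [Algebra.isGeometricallyReduced_field_iff]
  have : Algebra.IsSeparable k (AlgebraicClosure k) :=
    Algebra.IsAlgebraic.isSeparable_of_perfectField
  exact Groth.Agent.Lib.Helper14.GeomRed.isReduced_tensor_of_isSeparable

end CharZero

end Groth.Agent.Lib.Seat10.Tower
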