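import Groth.Agent.Lib.Seat10DomD
import Groth.Agent.Lib.Seat10TowerU

/-!
# Consequences of `e = 1`, `f = 1` for a dominating valuation subring; prime degree dichotomy
(Seat 10)
-/

set_option autoImplicit false

universe u

namespace Groth.Agent.Lib.Seat10.Dom

open EtRam IsLocalRing Groth.Agent.Lib.Seat10.ValDom

section field

/-- a field extension of prime degree is separable or purely inseparable -/
theorem isSeparable_or_isPurelyInseparable_of_finrank_prime (E F : Type*) [Field E] [Field F]
    [Algebra E F] {p : ℕ} (hp : p.Prime) (h : Module.finrank E F = p) :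
    Algebra.IsSeparable E F ∨ IsPurelyInseparable E F := by
  have hfin : FiniteDimensional E F := Module.finite_of_finrank_pos (by rw [h]; exact hp.pos)
  have hmul := Module.finrank_mul_finrank E (separableClosure E F) F
  rw [h] at hmul
  have hdvd : Module.finrank E (separableClosure E F) ∣ p := ⟨_, hmul.symm⟩
  rcases (Nat.dvd_prime hp).mp hdvd with h1 | h1
  · right
    rw [← separableClosure.eq_bot_iff]
    exact IntermediateField.finrank_eq_one_iff.mp h1
  · left
    rw [← separableClosure.eq_top_iff]
    apply IntermediateField.eq_of_le_of_finrank_eq' le_top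
    have h2 : Module.finrank (separableClosure E F) F = 1 := by
      rw [h1] at hmul
      have := hp.pos
      nlinarith [hmul]
    rw [h2, IntermediateField.finrank_top]

/-- degree one extensions: the structure map is surjective -/
theorem algebraMap_surjective_of_finrank_eq_one (E F : Type*) [Field E] [Field F]
    [Algebra E F] (h : Module.finrank E F = 1) : Function.Surjective (algebraMap E F) := by
  rw [Algebra.surjective_algebraMap_iff]
  exact (Subalgebra.bot_eq_top_of_finrank_eq_one h).symm

theorem isSeparable_of_finrank_eq_one (E F : Type*) [Field E] [Field F]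
    [Algebra E F] (h : Module.finrank E F = 1) : Algebra.IsSeparable E F := by
  have hs := algebraMap_surjective_of_finrank_eq_one E F h
  constructor
  intro x
  obtain ⟨y, rfl⟩ := hs x
  exact isSeparable_algebraMap y

end field

variable (A K : Type u) {L : Type u} [CommRing A] [IsDomain A] [IsDiscreteValuationRing A]
  [Field K] [Algebra A K] [IsFractionRing A K] [Field L] [Algebra K L] [Algebra A L]
  [IsScalarTower A K L] [FiniteDimensional K L] [Algebra.IsSeparable K L]

include K in
theorem isDiscreteValuationRing_of_dominates' {V : ValuationSubring L}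
    (h : Dominates A (algebraMap A L) V) : IsDiscreteValuationRing V := by
  apply isDiscreteValuationRing_of_dominates A K V
  rw [← IsScalarTower.algebraMap_eq A K L]
  exact h

include K in
/-- the image of a uniformizer of `A` in a dominating valuation subring `V` is a unit times the
`e`-th power of a uniformizer, `e` the ramification index -/
theorem exists_uniformizer_pow {V : ValuationSubring L} (h : Dominates A (algebraMap A L) V)
    (π : A) (hπ : maximalIdeal A = Ideal.span {π}) :
    letI : Algebra A V := (RingHom.codRestrict (algebraMap A L) V h.1).toAlgebra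
    ∃ (ϖ : V) (u : Vˣ), Irreducible ϖ ∧
      algebraMap A V π = u * ϖ ^ Ideal.ramificationIdx' (maximalIdeal A) (maximalIdeal V) := by
  letI : Algebra A V := (RingHom.codRestrict (algebraMap A L) V h.1).toAlgebra
  have hV : IsDiscreteValuationRing V := isDiscreteValuationRing_of_dominates' A K h
  obtain ⟨ϖ, hϖ⟩ := IsDiscreteValuationRing.exists_irreducible V
  have hπirr : Irreducible π := (IsDiscreteValuationRing.irreducible_iff_uniformizer π).mpr hπ
  have hne : algebraMap A V π ≠ 0 := by
    intro h0
    apply hπirr.ne_zero
    apply toVal_injective h (algebraMap_injective' A K)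
    rw [map_zero]
    exact h0
  obtain ⟨n, u, hu⟩ := IsDiscreteValuationRing.eq_unit_mul_pow_irreducible hne hϖ
  have he : Ideal.ramificationIdx' (maximalIdeal A) (maximalIdeal V) = n :=
    Groth.Agent.Lib.Seat10.Tower.ramificationIdx'_eq_of_eq_unit_mul_pow hπ
      (Irreducible.maximalIdeal_eq hϖ) hϖ.ne_zero hϖ.not_isUnit u n hu
  exact ⟨ϖ, u, hϖ, by rw [he]; exact hu⟩

include K in
theorem isWeaklyUnramified_of_ramificationIdx'_eq_one {V : ValuationSubring L}
    (h : Dominates A (algebraMap A L) V) :
    letI : Algebra A V := (RingHom.codRestrict (algebraMap A L) V h.1).toAlgebra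
    Ideal.ramificationIdx' (maximalIdeal A) (maximalIdeal V) = 1 → IsWeaklyUnramified A V := by
  letI : Algebra A V := (RingHom.codRestrict (algebraMap A L) V h.1).toAlgebra
  intro he
  obtain ⟨π, hπ⟩ := IsDiscreteValuationRing.exists_irreducible A
  have hπ' : maximalIdeal A = Ideal.span {π} := Irreducible.maximalIdeal_eq hπ
  obtain ⟨ϖ, u, hϖ, hu⟩ := exists_uniformizer_pow A K h π hπ'
  rw [he, pow_one] at hu
  have hV : IsDiscreteValuationRing V := isDiscreteValuationRing_of_dominates' A K h
  unfold IsWeaklyUnramified
  have hmap := congrArg (Ideal.map (algebraMap A V)) hπ'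
  rw [hmap, Ideal.map_span, Set.image_singleton, hu, Irreducible.maximalIdeal_eq hϖ,
    Ideal.span_singleton_eq_span_singleton]
  exact ⟨u⁻¹, by rw [mul_comm, ← mul_assoc, Units.inv_mul, one_mul]⟩

end Groth.Agent.Lib.Seat10.Dom
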