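import Groth.Agent.Lib.Seat10DomE

/-!
# Galois extensions of prime degree of the fraction field of a DVR: the four cases (Seat 10)
-/

set_option autoImplicit false

universe u

namespace Groth.Agent.Lib.Seat10.Dom

open EtRam IsLocalRing Groth.Agent.Lib.Seat10.ValDom

variable (A K : Type u) {L : Type u} [CommRing A] [IsDomain A] [IsDiscreteValuationRing A]
  [Field K] [Algebra A K] [IsFractionRing A K] [Field L] [Algebra K L] [Algebra A L]
  [IsScalarTower A K L]

/-- all valuation subrings dominating `A` have ramification index `e` and residue degree `f` -/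
def HasEF (e f : ℕ) : Prop :=
  ∀ (V : ValuationSubring L) (h : Dominates A (algebraMap A L) V),
    letI : Algebra A V := (RingHom.codRestrict (algebraMap A L) V h.1).toAlgebra
    ∀ [IsLocalHom (algebraMap A V)],
      Ideal.ramificationIdx' (maximalIdeal A) (maximalIdeal V) = e ∧
        Module.finrank (ResidueField A) (ResidueField V) = f

variable {A}

theorem HasEF.ram {e f : ℕ} (H : HasEF A (L := L) e f) {V : ValuationSubring L}
    (h : Dominates A (algebraMap A L) V) :
    letI : Algebra A V := (RingHom.codRestrict (algebraMap A L) V h.1).toAlgebra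
    Ideal.ramificationIdx' (maximalIdeal A) (maximalIdeal V) = e := by
  letI : Algebra A V := (RingHom.codRestrict (algebraMap A L) V h.1).toAlgebra
  haveI : IsLocalHom (algebraMap A V) := isLocalHom_toVal h
  exact (H V h).1

variable (A)
variable [FiniteDimensional K L] [Algebra.IsSeparable K L]

include K in
theorem isUnramifiedExt_of_hasEF {f : ℕ} (H : HasEF A (L := L) 1 f)
    (hsep : ∀ (V : ValuationSubring L) (h : Dominates A (algebraMap A L) V),
      letI : Algebra A V := (RingHom.codRestrict (algebraMap A L) V h.1).toAlgebra
      ∀ [IsLocalHom (algebraMap A V)],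
        Algebra.IsSeparable (ResidueField A) (ResidueField V)) :
    IsUnramifiedExt A (algebraMap A L) := by
  intro V h
  letI : Algebra A V := (RingHom.codRestrict (algebraMap A L) V h.1).toAlgebra
  intro hloc
  exact ⟨isWeaklyUnramified_of_ramificationIdx'_eq_one A K h (H V h).1, hsep V h⟩

include K in
theorem isUnramifiedExt_of_hasEF_one (H : HasEF A (L := L) 1 1) :
    IsUnramifiedExt A (algebraMap A L) := by
  apply isUnramifiedExt_of_hasEF A K H
  intro V h
  letI : Algebra A V := (RingHom.codRestrict (algebraMap A L) V h.1).toAlgebra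
  intro hloc
  exact isSeparable_of_finrank_eq_one _ _ (H V h).2

omit [FiniteDimensional K L] [Algebra.IsSeparable K L] in
theorem isTotallyRamified_of_hasEF {e : ℕ} (H : HasEF A (L := L) e 1)
    (hex : ∃ V : ValuationSubring L, Dominates A (algebraMap A L) V)
    (huniq : ∀ V V' : ValuationSubring L, Dominates A (algebraMap A L) V →
        Dominates A (algebraMap A L) V' → V = V') :
    IsTotallyRamified A (algebraMap A L) := by
  refine ⟨hex, huniq, ?_⟩
  intro V h
  letI : Algebra A V := (RingHom.codRestrict (algebraMap A L) V h.1).toAlgebra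
  haveI : IsLocalHom (algebraMap A V) := isLocalHom_toVal h
  have hs := algebraMap_surjective_of_finrank_eq_one _ _ (H V h).2
  intro y
  obtain ⟨x, rfl⟩ := hs y
  obtain ⟨a, rfl⟩ := IsLocalRing.residue_surjective x
  exact ⟨a, (IsLocalRing.ResidueField.algebraMap_residue a).symm⟩

end Groth.Agent.Lib.Seat10.Dom
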