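import Groth.Agent.Lib.Seat10DomF

/-!
# Galois extensions of prime degree of the fraction field of a DVR: the four cases, II (Seat 10)
-/

set_option autoImplicit false

universe u

namespace Groth.Agent.Lib.Seat10.Dom

open EtRam IsLocalRing Groth.Agent.Lib.Seat10.ValDom

theorem nat_cases_of_mul_eq_prime {g e f p : ℕ} (hp : p.Prime) (h : g * (e * f) = p) :
    (g = p ∧ e = 1 ∧ f = 1) ∨ (g = 1 ∧ e = p ∧ f = 1) ∨ (g = 1 ∧ e = 1 ∧ f = p) := by
  have hg : g ∣ p := ⟨_, h.symm⟩
  rcases (Nat.dvd_prime hp).mp hg with rfl | rfl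
  · rw [one_mul] at h
    have he : e ∣ p := ⟨_, h.symm⟩
    rcases (Nat.dvd_prime hp).mp he with rfl | rfl
    · right; right
      exact ⟨rfl, rfl, by simpa using h⟩
    · right; left
      refine ⟨rfl, rfl, ?_⟩
      have := hp.pos
      exact Nat.eq_of_mul_eq_mul_left this (by rw [h, mul_one])
  · left
    have h1 : e * f = 1 := Nat.eq_of_mul_eq_mul_left hp.pos (by rw [h, mul_one])
    exact ⟨rfl, (mul_eq_one.mp h1).1, (mul_eq_one.mp h1).2⟩

variable (A K : Type u) {L : Type u} [CommRing A] [IsDomain A] [IsDiscreteValuationRing A]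
  [Field K] [Algebra A K] [IsFractionRing A K] [Field L] [Algebra K L] [Algebra A L]
  [IsScalarTower A K L] [FiniteDimensional K L] [IsGalois K L]

include K in
/-- a reformulation of `galois_core` -/
theorem galois_core' :
    ∃ g e f : ℕ, g * (e * f) = Module.finrank K L ∧
      (∃ V : ValuationSubring L, Dominates A (algebraMap A L) V) ∧
      (g = 1 → ∀ V V' : ValuationSubring L, Dominates A (algebraMap A L) V →
        Dominates A (algebraMap A L) V' → V = V') ∧ HasEF A (L := L) e f :=
  galois_core A K

include K in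
/-- The four cases for a Galois extension of prime degree. -/
theorem prime_degree_cases (p : ℕ) (hp : p.Prime) (hdeg : Module.finrank K L = p) :
    let g : A →+* L := algebraMap A L
    let case2 : Prop := EtRam.IsUnramifiedExt A g ∧ Module.finrank K L = p
    let case3 : Prop := EtRam.IsTotallyRamified A g ∧ Module.finrank K L = p
    let case4 : Prop := (∃ V : ValuationSubring L, EtRam.Dominates A g V) ∧
      (∀ V V' : ValuationSubring L, EtRam.Dominates A g V → EtRam.Dominates A g V' → V = V') ∧
      ∀ (V : ValuationSubring L) (h : EtRam.Dominates A g V),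
        letI : Algebra A V := (RingHom.codRestrict g V h.1).toAlgebra
        ∀ [IsLocalHom (algebraMap A V)],
          EtRam.IsWeaklyUnramified A V ∧
            IsPurelyInseparable (IsLocalRing.ResidueField A) (IsLocalRing.ResidueField V) ∧
            Module.finrank (IsLocalRing.ResidueField A) (IsLocalRing.ResidueField V) = p
    case2 ∨ case3 ∨ case4 := by
  intro g case2 case3 case4
  obtain ⟨gg, e, f, hgef, hex, huniq, H⟩ := galois_core' A K (L := L)
  rw [hdeg] at hgef
  rcases nat_cases_of_mul_eq_prime hp hgef with ⟨-, rfl, rfl⟩ | ⟨rfl, rfl, rfl⟩ | ⟨rfl, rfl, rfl⟩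
  · left
    exact ⟨isUnramifiedExt_of_hasEF_one A K H, hdeg⟩
  · right; left
    exact ⟨isTotallyRamified_of_hasEF A H hex (huniq rfl), hdeg⟩
  · obtain ⟨V0, h0⟩ := hex
    letI alg0 : Algebra A V0 := (RingHom.codRestrict (algebraMap A L) V0 h0.1).toAlgebra
    haveI loc0 : IsLocalHom (algebraMap A V0) := isLocalHom_toVal h0
    rcases isSeparable_or_isPurelyInseparable_of_finrank_prime (ResidueField A) (ResidueField V0)
      hp (H V0 h0).2 with hsep | hpi
    · left
      refine ⟨isUnramifiedExt_of_hasEF A K H ?_, hdeg⟩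
      intro V h
      obtain rfl := huniq rfl V V0 h h0
      intro hloc
      exact hsep
    · right; right
      refine ⟨⟨V0, h0⟩, huniq rfl, ?_⟩
      intro V h
      obtain rfl := huniq rfl V V0 h h0
      intro hloc
      exact ⟨isWeaklyUnramified_of_ramificationIdx'_eq_one A K h (H V h).1, hpi, (H V h).2⟩

end Groth.Agent.Lib.Seat10.Dom
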