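import Groth.Agent.Lib.Seat10DomG

/-!
# Criteria for the totally ramified and the purely inseparable case (Seat 10)
-/

set_option autoImplicit false

universe u

namespace Groth.Agent.Lib.Seat10.Dom

open EtRam IsLocalRing Groth.Agent.Lib.Seat10.ValDom Polynomial IntermediateField

/-- a purely inseparable generator of degree `p` -/
theorem isPurelyInseparable_of_pow_eq (E F : Type*) [Field E] [Field F] [Algebra E F]
    {p : ℕ} (hp : p.Prime) [CharP E p] (y : F) (a : E) (hy : y ^ p = algebraMap E F a)
    (ha : ∀ b : E, b ^ p ≠ a) (hle : Module.finrank E F ≤ p) (h0 : Module.finrank E F ≠ 0) :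
    IsPurelyInseparable E F ∧ Module.finrank E F = p := by
  have hfin : FiniteDimensional E F := Module.finite_of_finrank_pos (Nat.pos_of_ne_zero h0)
  have hirr : Irreducible (X ^ p - C a) := X_pow_sub_C_irreducible_of_prime hp ha
  have hmonic : (X ^ p - C a : E[X]).Monic := monic_X_pow_sub_C a hp.ne_zero
  have hroot : aeval y (X ^ p - C a : E[X]) = 0 := by
    rw [map_sub, map_pow, aeval_X, aeval_C, hy, sub_self]
  have hmin : (X ^ p - C a : E[X]) = minpoly E y :=
    minpoly.eq_of_irreducible_of_monic hirr hroot hmonic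
  have hdeg : (minpoly E y).natDegree = p := by
    rw [← hmin, natDegree_X_pow_sub_C]
  have hge : p ≤ Module.finrank E F := by
    rw [← hdeg]
    exact minpoly.natDegree_le y
  have hfr : Module.finrank E F = p := le_antisymm hle hge
  refine ⟨?_, hfr⟩
  have hint : IsIntegral E y := .of_finite E y
  have htop : E⟮y⟯ = ⊤ := by
    apply IntermediateField.eq_of_le_of_finrank_eq le_top
    rw [IntermediateField.adjoin.finrank hint, hdeg, IntermediateField.finrank_top', hfr]
  haveI : ExpChar E p := ExpChar.prime hp
  have hpi : IsPurelyInseparable E E⟮y⟯ := by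
    rw [IntermediateField.isPurelyInseparable_adjoin_simple_iff_pow_mem E F p]
    exact ⟨1, a, by rw [pow_one, hy]⟩
  rw [htop] at hpi
  exact (IntermediateField.topEquiv : (⊤ : IntermediateField E F) ≃ₐ[E] F).isPurelyInseparable

variable (A K : Type u) {L : Type u} [CommRing A] [IsDomain A] [IsDiscreteValuationRing A]
  [Field K] [Algebra A K] [IsFractionRing A K] [Field L] [Algebra K L] [Algebra A L]
  [IsScalarTower A K L] [FiniteDimensional K L] [IsGalois K L]

include K in
/-- if some dominating valuation subring has ramification index divisible by `p ≥ [L : K]`, the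
extension is totally ramified of degree `p` -/
theorem isTotallyRamified_of_dvd (p : ℕ) (hp : p.Prime) (hle : Module.finrank K L ≤ p)
    (hex : ∃ (V : ValuationSubring L) (h : Dominates A (algebraMap A L) V),
      letI : Algebra A V := (RingHom.codRestrict (algebraMap A L) V h.1).toAlgebra
      p ∣ Ideal.ramificationIdx' (maximalIdeal A) (maximalIdeal V)) :
    EtRam.IsTotallyRamified A (algebraMap A L) ∧ Module.finrank K L = p := by
  obtain ⟨gg, e, f, hgef, hex', huniq, H⟩ := galois_core' A K (L := L)
  obtain ⟨V, h, hdvd⟩ := hex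
  rw [H.ram h] at hdvd
  have hn0 : Module.finrank K L ≠ 0 := Module.finrank_pos.ne'
  have hg0 : gg ≠ 0 := by rintro rfl; exact hn0 (by rw [← hgef, zero_mul])
  have he0 : e ≠ 0 := by rintro rfl; exact hn0 (by rw [← hgef, zero_mul, mul_zero])
  have hf0 : f ≠ 0 := by rintro rfl; exact hn0 (by rw [← hgef, mul_zero, mul_zero])
  have hpe : p ≤ e := Nat.le_of_dvd (Nat.pos_of_ne_zero he0) hdvd
  have h1 : e ≤ e * f := Nat.le_mul_of_pos_right e (Nat.pos_of_ne_zero hf0)
  have h2 : e * f ≤ gg * (e * f) := Nat.le_mul_of_pos_left (e * f) (Nat.pos_of_ne_zero hg0)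
  have hep : e = p := le_antisymm (by omega) hpe
  have hef : e * f = e := le_antisymm (by omega) h1
  have hf1 : f = 1 := by
    have : e * f = e * 1 := by rw [hef, mul_one]
    exact Nat.eq_of_mul_eq_mul_left (Nat.pos_of_ne_zero he0) this
  have hgg : gg = 1 := by
    have h3 : gg * (e * f) = 1 * (e * f) := by rw [one_mul]; omega
    exact Nat.eq_of_mul_eq_mul_right (by rw [hef]; exact Nat.pos_of_ne_zero he0) h3
  subst hf1
  refine ⟨isTotallyRamified_of_hasEF A H hex' (huniq hgg), ?_⟩
  rw [← hgef, hgg, hep, one_mul, mul_one]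

include K in
/-- if some dominating valuation subring contains an element whose `p`-th power is congruent to
an element of `A` whose residue class is not a `p`-th power, we are in the purely inseparable
case -/
theorem case4_of_residue (p : ℕ) (hp : p.Prime) [CharP (ResidueField A) p]
    (hle : Module.finrank K L ≤ p)
    (hex : ∃ (V : ValuationSubring L) (_ : Dominates A (algebraMap A L) V) (y : L) (a : A),
      y ∈ V ∧ V.valuation (y ^ p - algebraMap A L a) < 1 ∧
        ∀ r : A, residue A a ≠ residue A r ^ p) :
    ((∃ V : ValuationSubring L, EtRam.Dominates A (algebraMap A L) V) ∧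
      (∀ V V' : ValuationSubring L, EtRam.Dominates A (algebraMap A L) V →
        EtRam.Dominates A (algebraMap A L) V' → V = V') ∧
      ∀ (V : ValuationSubring L) (h : EtRam.Dominates A (algebraMap A L) V),
        letI : Algebra A V := (RingHom.codRestrict (algebraMap A L) V h.1).toAlgebra
        ∀ [IsLocalHom (algebraMap A V)],
          EtRam.IsWeaklyUnramified A V ∧
            IsPurelyInseparable (IsLocalRing.ResidueField A) (IsLocalRing.ResidueField V) ∧
            Module.finrank (IsLocalRing.ResidueField A) (IsLocalRing.ResidueField V) = p) ∧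
      Module.finrank K L = p := by
  obtain ⟨gg, e, f, hgef, hex', huniq, H⟩ := galois_core' A K (L := L)
  obtain ⟨V1, h1, y, a, hyV, hval, hnp⟩ := hex
  have hn0 : Module.finrank K L ≠ 0 := Module.finrank_pos.ne'
  have hg0 : gg ≠ 0 := by rintro rfl; exact hn0 (by rw [← hgef, zero_mul])
  have he0 : e ≠ 0 := by rintro rfl; exact hn0 (by rw [← hgef, zero_mul, mul_zero])
  have hf0 : f ≠ 0 := by rintro rfl; exact hn0 (by rw [← hgef, mul_zero, mul_zero])
  have hfe : f ≤ e * f := Nat.le_mul_of_pos_left f (Nat.pos_of_ne_zero he0)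
  have h2 : e * f ≤ gg * (e * f) := Nat.le_mul_of_pos_left (e * f) (Nat.pos_of_ne_zero hg0)
  -- the residue field computation at `V1`
  letI alg1 : Algebra A V1 := (RingHom.codRestrict (algebraMap A L) V1 h1.1).toAlgebra
  haveI loc1 : IsLocalHom (algebraMap A V1) := isLocalHom_toVal h1
  have hf1 := (H V1 h1).2
  have hy1 : (residue V1 ⟨y, hyV⟩) ^ p =
      algebraMap (ResidueField A) (ResidueField V1) (residue A a) := by
    rw [IsLocalRing.ResidueField.algebraMap_residue, ← map_pow, ← sub_eq_zero, ← map_sub,
      IsLocalRing.residue_eq_zero_iff, ValuationSubring.valuation_lt_one_iff]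
    exact hval
  have hnp' : ∀ b : ResidueField A, b ^ p ≠ residue A a := by
    intro b hb
    obtain ⟨r, rfl⟩ := IsLocalRing.residue_surjective b
    exact hnp r hb.symm
  obtain ⟨hpi, hfp⟩ := isPurelyInseparable_of_pow_eq (ResidueField A) (ResidueField V1) hp
    (residue V1 ⟨y, hyV⟩) (residue A a) hy1 hnp' (by rw [hf1]; omega) (by rw [hf1]; exact hf0)
  rw [hf1] at hfp
  have he1 : e = 1 := by
    have : e * f = 1 * f := by rw [one_mul]; omega
    exact Nat.eq_of_mul_eq_mul_right (Nat.pos_of_ne_zero hf0) this
  have hgg : gg = 1 := by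
    have h3 : gg * (e * f) = 1 * (e * f) := by rw [one_mul]; omega
    exact Nat.eq_of_mul_eq_mul_right (Nat.pos_of_ne_zero (by rw [he1, one_mul]; exact hf0)) h3
  subst hfp
  subst he1
  refine ⟨⟨hex', huniq hgg, ?_⟩, ?_⟩
  · intro V h
    obtain rfl := huniq hgg V V1 h h1
    intro hloc
    exact ⟨isWeaklyUnramified_of_ramificationIdx'_eq_one A K h (H V h).1, hpi, (H V h).2⟩
  · rw [← hgef, hgg, one_mul, one_mul]

end Groth.Agent.Lib.Seat10.Dom
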