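import Groth.Agent.Lib.Seat10DomE

/-!
# Valuation computations for `P(z) = ξ`, `P` monic over a DVR (Seat 10)
-/

set_option autoImplicit false

universe u

namespace Groth.Agent.Lib.Seat10.Dom

open EtRam IsLocalRing Groth.Agent.Lib.Seat10.ValDom Polynomial

section generic

variable {A : Type u} [CommRing A] [IsLocalRing A] {L : Type u} [Field L] [Algebra A L]

theorem eval₂_mem {V : ValuationSubring L} (h : Dominates A (algebraMap A L) V) (Q : A[X])
    {y : L} (hy : y ∈ V) : eval₂ (algebraMap A L) y Q ∈ V := by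
  rw [eval₂_eq_sum_range]
  exact sum_mem (fun i _ => mul_mem (h.1 _) (pow_mem hy i))

theorem valuation_unit_eq_one {V : ValuationSubring L} (h : Dominates A (algebraMap A L) V)
    (a : Aˣ) : V.valuation (algebraMap A L a) = 1 := by
  have h1 : V.valuation (algebraMap A L a) ≤ 1 := (V.valuation_le_one_iff _).mpr (h.1 _)
  have h2 : V.valuation (algebraMap A L ((a⁻¹ : Aˣ) : A)) ≤ 1 :=
    (V.valuation_le_one_iff _).mpr (h.1 _)
  have h3 : V.valuation (algebraMap A L a) * V.valuation (algebraMap A L ((a⁻¹ : Aˣ) : A)) = 1 := by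
    rw [← map_mul, ← map_mul, Units.mul_inv, map_one, map_one]
  rcases h1.lt_or_eq with hlt | heq
  · exfalso
    have : V.valuation (algebraMap A L a) * V.valuation (algebraMap A L ((a⁻¹ : Aˣ) : A)) < 1 :=
      mul_lt_one_of_lt_of_le hlt h2
    rw [h3] at this
    exact lt_irrefl _ this
  · exact heq

end generic

variable (A K : Type u) {L : Type u} [CommRing A] [IsDomain A] [IsDiscreteValuationRing A]
  [Field K] [Algebra A K] [IsFractionRing A K] [Field L] [Algebra K L] [Algebra A L]
  [IsScalarTower A K L] [FiniteDimensional K L] [Algebra.IsSeparable K L]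

include K in
/-- pole of order prime to the degree: the degree divides `n e` -/
theorem natDegree_dvd_mul_ramificationIdx' {V : ValuationSubring L}
    (h : Dominates A (algebraMap A L) V) (π : A) (hπ : maximalIdeal A = Ideal.span {π})
    (P : A[X]) (hP : P.Monic) (ξ : K) (z : L) (hz : aeval z P = algebraMap K L ξ)
    (n : ℕ) (hn : 0 < n) (a : Aˣ) (hξ : ξ * algebraMap A K π ^ n = algebraMap A K a) :
    letI : Algebra A V := (RingHom.codRestrict (algebraMap A L) V h.1).toAlgebra
    P.natDegree ∣ n * Ideal.ramificationIdx' (maximalIdeal A) (maximalIdeal V) := by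
  letI : Algebra A V := (RingHom.codRestrict (algebraMap A L) V h.1).toAlgebra
  set e := Ideal.ramificationIdx' (maximalIdeal A) (maximalIdeal V) with he
  obtain ⟨ϖ, u, hϖ, hu⟩ := exists_uniformizer_pow A K h π hπ
  have hV : IsDiscreteValuationRing V := isDiscreteValuationRing_of_dominates' A K h
  set v := V.valuation with hv
  -- the equation in `L`
  have hξL : algebraMap K L ξ * algebraMap A L π ^ n = algebraMap A L a := by
    rw [IsScalarTower.algebraMap_apply A K L, IsScalarTower.algebraMap_apply A K L, ← map_pow,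
      ← map_mul, hξ]
  have hva : v (algebraMap A L a) = 1 := valuation_unit_eq_one h a
  have hπm : π ∈ maximalIdeal A := by rw [hπ]; exact Ideal.mem_span_singleton_self π
  have hvπ : v (algebraMap A L π) < 1 := h.2 π hπm
  have hvπn : v (algebraMap A L π) ^ n < 1 := pow_lt_one₀ zero_le hvπ hn.ne'
  -- `z ∉ V`
  have hzV : z ∉ V := by
    intro hzV
    have h1 : algebraMap K L ξ ∈ V := by
      rw [← hz, aeval_def]
      exact eval₂_mem h P hzV
    have h2 : v (algebraMap K L ξ) ≤ 1 := (V.valuation_le_one_iff _).mpr h1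
    have h3 := congrArg v hξL
    rw [map_mul, map_pow, hva] at h3
    have : v (algebraMap A L π) ^ n * v (algebraMap K L ξ) < 1 := mul_lt_one_of_lt_of_le hvπn h2
    rw [mul_comm, h3] at this
    exact lt_irrefl _ this
  have hz0 : z ≠ 0 := fun h0 => hzV (h0 ▸ V.zero_mem)
  have hyV : z⁻¹ ∈ V := (V.mem_or_inv_mem z).resolve_left hzV
  have hvy : v z⁻¹ < 1 := by
    have h1 : 1 < v z := by
      rw [← not_le, V.valuation_le_one_iff]
      exact hzV
    rw [map_inv₀]
    exact inv_lt_one_of_one_lt₀ h1
  -- the reversed polynomial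
  letI : Invertible z := invertibleOfNonzero hz0
  have hrev : eval₂ (algebraMap A L) z⁻¹ (reverse P) * z ^ P.natDegree =
      algebraMap K L ξ := by
    rw [← invOf_eq_inv, eval₂_reverse_mul_pow, ← aeval_def, hz]
  have hsplit : eval₂ (algebraMap A L) z⁻¹ (reverse P) =
      1 + z⁻¹ * eval₂ (algebraMap A L) z⁻¹ (divX (reverse P)) := by
    conv_lhs => rw [← divX_mul_X_add (reverse P)]
    rw [eval₂_add, eval₂_mul, eval₂_X, eval₂_C, coeff_zero_reverse, hP.leadingCoeff, map_one]
    ring
  have hvu : v (eval₂ (algebraMap A L) z⁻¹ (reverse P)) = 1 := by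
    rw [hsplit]
    apply Valuation.map_one_add_of_lt
    rw [map_mul]
    exact mul_lt_one_of_lt_of_le hvy ((V.valuation_le_one_iff _).mpr (eval₂_mem h _ hyV))
  -- valuations
  have hval : v (algebraMap A L π) ^ n = v z⁻¹ ^ P.natDegree := by
    have h1 : eval₂ (algebraMap A L) z⁻¹ (reverse P) * algebraMap A L π ^ n =
        algebraMap A L a * z⁻¹ ^ P.natDegree := by
      calc eval₂ (algebraMap A L) z⁻¹ (reverse P) * algebraMap A L π ^ n
          = eval₂ (algebraMap A L) z⁻¹ (reverse P) * algebraMap A L π ^ n *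
              (z ^ P.natDegree * z⁻¹ ^ P.natDegree) := by
            rw [← mul_pow, mul_inv_cancel₀ hz0, one_pow, mul_one]
        _ = (eval₂ (algebraMap A L) z⁻¹ (reverse P) * z ^ P.natDegree) * algebraMap A L π ^ n *
              z⁻¹ ^ P.natDegree := by ring
        _ = algebraMap A L a * z⁻¹ ^ P.natDegree := by rw [hrev, hξL]
    have h2 := congrArg v h1
    rw [map_mul, map_mul, map_pow, map_pow, hvu, hva, one_mul, one_mul] at h2
    exact h2
  -- in terms of the uniformizer
  have hvϖ1 : v (ϖ : L) < 1 := by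
    rw [hv, ← ValuationSubring.valuation_lt_one_iff]
    rw [IsLocalRing.mem_maximalIdeal]
    exact hϖ.not_isUnit
  have hvϖ0 : 0 < v (ϖ : L) := by
    rw [Valuation.pos_iff]
    intro h0
    exact hϖ.ne_zero (Subtype.ext h0)
  have hπe : v (algebraMap A L π) = v (ϖ : L) ^ e := by
    have h1 : algebraMap A L π = ((u : V) : L) * (ϖ : L) ^ e := by
      have h2 : ((algebraMap A V π : V) : L) = ((u : V) : L) * (ϖ : L) ^ e := by
        rw [hu]; rfl
      exact h2
    rw [h1, map_mul, map_pow, hv, ValuationSubring.valuation_unit, one_mul]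
  have hy0 : (⟨z⁻¹, hyV⟩ : V) ≠ 0 := by
    intro h0
    exact inv_ne_zero hz0 (congrArg Subtype.val h0)
  obtain ⟨s, w, hw⟩ := IsDiscreteValuationRing.eq_unit_mul_pow_irreducible hy0 hϖ
  have hys : v z⁻¹ = v (ϖ : L) ^ s := by
    have h1 : z⁻¹ = ((w : V) : L) * (ϖ : L) ^ s := by
      have h2 : ((⟨z⁻¹, hyV⟩ : V) : L) = ((w : V) : L) * (ϖ : L) ^ s := by
        rw [hw]; rfl
      exact h2
    rw [h1, map_mul, map_pow, hv, ValuationSubring.valuation_unit, one_mul]
  rw [hπe, hys, ← pow_mul, ← pow_mul] at hval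
  have hinj := (pow_right_strictAnti₀ hvϖ0 hvϖ1).injective hval
  exact ⟨s, by rw [mul_comm n e, hinj, mul_comm]⟩

end Groth.Agent.Lib.Seat10.Dom
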