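import Groth.Agent.Lib.Seat10DomJ

/-!
# Valuation computations for `P(z) = ξ`, II: pole of order divisible by the degree (Seat 10)
-/

set_option autoImplicit false

universe u

namespace Groth.Agent.Lib.Seat10.Dom

open EtRam IsLocalRing Groth.Agent.Lib.Seat10.ValDom Polynomial

variable (A K : Type u) {L : Type u} [CommRing A] [IsDomain A] [IsDiscreteValuationRing A]
  [Field K] [Algebra A K] [IsFractionRing A K] [Field L] [Algebra K L] [Algebra A L]
  [IsScalarTower A K L]

include K in
/-- pole of order `deg P * m`: the element `y = π^m z` lies in `V` and `y ^ deg P ≡ a`. -/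
theorem exists_pow_sub_valuation_lt_one {V : ValuationSubring L}
    (h : Dominates A (algebraMap A L) V) (π : A) (hπm : π ∈ maximalIdeal A)
    (P : A[X]) (hP : P.Monic) (ξ : K) (z : L) (hz : aeval z P = algebraMap K L ξ)
    (hd0 : 0 < P.natDegree) (m : ℕ) (hm : 0 < m) (a : A)
    (hξ : ξ * algebraMap A K π ^ (P.natDegree * m) = algebraMap A K a) :
    ∃ y : L, y ∈ V ∧ V.valuation (y ^ P.natDegree - algebraMap A L a) < 1 := by
  set v := V.valuation with hv
  set d := P.natDegree with hd
  have hξL : algebraMap K L ξ * algebraMap A L π ^ (d * m) = algebraMap A L a := by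
    rw [IsScalarTower.algebraMap_apply A K L, IsScalarTower.algebraMap_apply A K L, ← map_pow,
      ← map_mul, hξ]
  set Q := scaleRoots P (π ^ m) with hQ
  have hQm : Q.Monic := (monic_scaleRoots_iff _).mpr hP
  have hQd : Q.natDegree = d := natDegree_scaleRoots _ _
  set y := algebraMap A L (π ^ m) * z with hy
  have hevalQ : eval₂ (algebraMap A L) y Q = algebraMap A L a := by
    rw [hy, hQ, scaleRoots_eval₂_mul, ← aeval_def, hz, ← hξL, map_pow, ← pow_mul, mul_comm m d,
      mul_comm]
  -- `y` is integral over `A`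
  have hyint : IsIntegral A y := by
    refine ⟨Q - C a, ?_, ?_⟩
    · apply hQm.sub_of_left
      apply degree_C_le.trans_lt
      rw [degree_eq_natDegree hQm.ne_zero, hQd]
      exact_mod_cast hd0
    · rw [eval₂_sub, hevalQ, eval₂_C, sub_self]
  have hyV : y ∈ V := mem_of_isIntegral h hyint
  refine ⟨y, hyV, ?_⟩
  have hvπ : v (algebraMap A L (π ^ m)) < 1 := by
    rw [map_pow, map_pow]
    exact pow_lt_one₀ zero_le (h.2 π hπm) hm.ne'
  rw [← hevalQ, eval₂_eq_sum_range, hQd, Finset.sum_range_succ, ← hQd, hQm.coeff_natDegree,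
    map_one, one_mul, hQd, sub_add_cancel_right, Valuation.map_neg]
  apply Valuation.map_sum_lt v one_ne_zero
  intro i hi
  rw [Finset.mem_range] at hi
  rw [hQ, coeff_scaleRoots, map_mul, map_pow, map_mul, map_mul, map_pow, map_pow]
  have h1 : v (algebraMap A L (P.coeff i)) ≤ 1 := (V.valuation_le_one_iff _).mpr (h.1 _)
  have h2 : v (algebraMap A L (π ^ m)) ^ (d - i) < 1 :=
    pow_lt_one₀ zero_le hvπ (by omega)
  have h3 : v y ^ i ≤ 1 := pow_le_one₀ zero_le ((V.valuation_le_one_iff _).mpr hyV)
  have h4 : v (algebraMap A L (P.coeff i)) * v (algebraMap A L (π ^ m)) ^ (d - i) < 1 := by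
    rw [mul_comm]
    exact mul_lt_one_of_lt_of_le h2 h1
  exact mul_lt_one_of_lt_of_le h4 h3

end Groth.Agent.Lib.Seat10.Dom
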