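import Groth.Agent.Lib.Seat10DomH
import Groth.Agent.Lib.Seat10DomK

/-!
# `L = K(z)`, `P(z) = ξ` with `P` monic of prime degree `p` over a DVR, `L/K` Galois of degree
`≤ p`: the totally ramified and the purely inseparable case (Seat 10)
-/

set_option autoImplicit false

universe u

namespace Groth.Agent.Lib.Seat10.Dom

open EtRam IsLocalRing Groth.Agent.Lib.Seat10.ValDom Polynomial

variable (A K : Type u) {L : Type u} [CommRing A] [IsDomain A] [IsDiscreteValuationRing A]
  [Field K] [Algebra A K] [IsFractionRing A K] [Field L] [Algebra K L] [Algebra A L]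
  [IsScalarTower A K L] [FiniteDimensional K L] [IsGalois K L]

include K in
theorem case3_of_pole (p : ℕ) (hp : p.Prime) (hle : Module.finrank K L ≤ p)
    (π : A) (hπ : maximalIdeal A = Ideal.span {π})
    (P : A[X]) (hP : P.Monic) (hPd : P.natDegree = p) (ξ : K) (z : L)
    (hz : aeval z P = algebraMap K L ξ)
    (n : ℕ) (a : Aˣ) (hn : 0 < n) (hpn : ¬ p ∣ n)
    (hξ : ξ * algebraMap A K π ^ n = algebraMap A K a) :
    EtRam.IsTotallyRamified A (algebraMap A L) ∧ Module.finrank K L = p := by
  apply isTotallyRamified_of_dvd A K p hp hle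
  obtain ⟨V, h⟩ := exists_dominates (algebraMap A L)
  refine ⟨V, h, ?_⟩
  have h1 := natDegree_dvd_mul_ramificationIdx' A K h π hπ P hP ξ z hz n hn a hξ
  rw [hPd] at h1
  exact (hp.dvd_mul.mp h1).resolve_left hpn

include K in
theorem case4_of_pole (p : ℕ) (hp : p.Prime) [CharP (ResidueField A) p]
    (hle : Module.finrank K L ≤ p)
    (π : A) (hπ : maximalIdeal A = Ideal.span {π})
    (P : A[X]) (hP : P.Monic) (hPd : P.natDegree = p) (ξ : K) (z : L)
    (hz : aeval z P = algebraMap K L ξ)
    (n : ℕ) (a : A) (hn : 0 < n) (hpn : p ∣ n)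
    (hnp : ∀ r : A, residue A a ≠ residue A r ^ p)
    (hξ : ξ * algebraMap A K π ^ n = algebraMap A K a) :
    (∃ V : ValuationSubring L, EtRam.Dominates A (algebraMap A L) V) ∧
      (∀ V V' : ValuationSubring L, EtRam.Dominates A (algebraMap A L) V →
        EtRam.Dominates A (algebraMap A L) V' → V = V') ∧
      ∀ (V : ValuationSubring L) (h : EtRam.Dominates A (algebraMap A L) V),
        letI : Algebra A V := (RingHom.codRestrict (algebraMap A L) V h.1).toAlgebra
        ∀ [IsLocalHom (algebraMap A V)],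
          EtRam.IsWeaklyUnramified A V ∧
            IsPurelyInseparable (IsLocalRing.ResidueField A) (IsLocalRing.ResidueField V) ∧
            Module.finrank (IsLocalRing.ResidueField A) (IsLocalRing.ResidueField V) = p := by
  refine (case4_of_residue A K p hp hle ?_).1
  obtain ⟨V, h⟩ := exists_dominates (algebraMap A L)
  obtain ⟨m, rfl⟩ := hpn
  have hm : 0 < m := Nat.pos_of_mul_pos_left (by rwa [mul_comm] at hn)
  have hπm : π ∈ maximalIdeal A := by rw [hπ]; exact Ideal.mem_span_singleton_self π
  obtain ⟨y, hyV, hy⟩ := exists_pow_sub_valuation_lt_one A K h π hπm P hP ξ z hz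
    (by rw [hPd]; exact hp.pos) m hm a (by rw [hPd]; exact hξ)
  rw [hPd] at hy
  exact ⟨V, h, y, a, hyV, hy, hnp⟩

end Groth.Agent.Lib.Seat10.Dom
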