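import Mathlib
import Groth.Prelude.Def_EtRam

set_option autoImplicit false
universe u

namespace Groth.Agent.Lib.Seat95.EtRamLib

open IsLocalRing IsDedekindDomain

theorem exists_unit_mul_pow {R' : Type*} [CommRing R'] [IsNoetherianRing R'] [IsLocalRing R']
    (π : R') (hπ : maximalIdeal R' = Ideal.span {π}) (c : R') (hc : c ≠ 0) :
    ∃ (k : ℕ) (u : R'ˣ), c = u * π ^ k := by
  classical
  have hI : ⨅ i, (maximalIdeal R') ^ i = ⊥ := Ideal.iInf_pow_eq_bot_of_isLocalRing _
    (IsLocalRing.maximalIdeal.isMaximal R').ne_top
  have hex : ∃ i, c ∉ (maximalIdeal R') ^ i := by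
    by_contra hcon
    push Not at hcon
    have : c ∈ ⨅ i, (maximalIdeal R') ^ i := by
      rw [Ideal.mem_iInf]; exact hcon
    rw [hI] at this
    exact hc this
  have hi0 : Nat.find hex ≠ 0 := by
    intro h0
    have := Nat.find_spec hex
    rw [h0, pow_zero, Ideal.one_eq_top] at this
    exact this Submodule.mem_top
  obtain ⟨k, hk⟩ := Nat.exists_eq_succ_of_ne_zero hi0
  have hmem : c ∈ (maximalIdeal R') ^ k := by
    by_contra hcon
    exact Nat.find_min hex (by omega) hcon
  rw [hπ, Ideal.span_singleton_pow, Ideal.mem_span_singleton'] at hmem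
  obtain ⟨a, ha⟩ := hmem
  have hau : IsUnit a := by
    by_contra hna
    have h1 : a ∈ maximalIdeal R' := (IsLocalRing.mem_maximalIdeal a).mpr hna
    have h2 : c ∈ (maximalIdeal R') ^ (k + 1) := by
      rw [← ha, pow_succ', hπ]
      rw [hπ] at h1
      exact Ideal.mul_mem_mul h1 (Ideal.pow_mem_pow (Ideal.mem_span_singleton_self _) k)
    exact Nat.find_spec hex (hk ▸ h2)
  exact ⟨k, hau.unit, ha.symm⟩

theorem surjective_of_isLocalHom_valuationSubring {C' F : Type*} [CommRing C']
    [IsNoetherianRing C'] [IsLocalRing C'] [Field F] (W : ValuationSubring F)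
    (φ : C' →+* W) [IsLocalHom φ] (π : C') (hπ : maximalIdeal C' = Ideal.span {π})
    (hπ0 : φ π ≠ 0)
    (hgen : ∀ x : W, ∃ (c : C') (n : ℕ), x * (φ π) ^ n = φ c) : Function.Surjective φ := by
  intro x
  obtain ⟨c, n, hc⟩ := hgen x
  by_cases hc0 : c = 0
  · rw [hc0, map_zero] at hc
    rcases mul_eq_zero.mp hc with h | h
    · exact ⟨0, by rw [map_zero, h]⟩
    · exact absurd h (pow_ne_zero n hπ0)
  obtain ⟨k, u, hu⟩ := exists_unit_mul_pow π hπ c hc0
  rw [hu, map_mul, map_pow] at hc
  rcases le_or_gt n k with hnk | hnk
  · refine ⟨u * π ^ (k - n), ?_⟩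
    rw [map_mul, map_pow]
    have hpow : (φ π) ^ n ≠ 0 := pow_ne_zero _ hπ0
    apply mul_right_cancel₀ hpow
    rw [hc, mul_assoc, ← pow_add, Nat.sub_add_cancel hnk]
  · exfalso
    have h1 : x * (φ π) ^ (n - k) = φ u := by
      have hpow : (φ π) ^ k ≠ 0 := pow_ne_zero _ hπ0
      apply mul_right_cancel₀ hpow
      rw [mul_assoc, ← pow_add, Nat.sub_add_cancel hnk.le, hc]
    have hπm : φ π ∈ maximalIdeal W := by
      rw [IsLocalRing.mem_maximalIdeal]
      intro hunit
      have h2 : π ∈ maximalIdeal C' := hπ ▸ Ideal.mem_span_singleton_self π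
      exact ((IsLocalRing.mem_maximalIdeal π).mp h2) (isUnit_of_map_unit φ π hunit)
    have h3 : x * (φ π) ^ (n - k) ∈ maximalIdeal W := by
      apply Ideal.mul_mem_left
      have : n - k ≠ 0 := by omega
      exact Ideal.pow_mem_of_mem _ hπm _ (Nat.pos_of_ne_zero this)
    rw [h1] at h3
    exact ((IsLocalRing.mem_maximalIdeal _).mp h3) (u.isUnit.map φ)

section etale

variable (A K K' : Type u) [CommRing A] [IsDomain A] [IsDiscreteValuationRing A] [Field K]
  [Field K'] [Algebra A K] [IsFractionRing A K] [Algebra K K'] [FiniteDimensional K K']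
  [Algebra.IsSeparable K K'] [Algebra A K'] [IsScalarTower A K K']

include K in
theorem isUnramifiedAt_integralClosure (h : EtRam.IsUnramifiedExt A (algebraMap A K'))
    (P : Ideal (integralClosure A K')) [hP : P.IsMaximal] :
    Algebra.IsUnramifiedAt A P := by
  have : IsIntegralClosure (integralClosure A K') A K' := inferInstance
  have : Module.Finite A (integralClosure A K') :=
    IsIntegralClosure.finite A K K' (integralClosure A K')
  have : IsDedekindDomain (integralClosure A K') :=
    IsIntegralClosure.isDedekindDomain A K K' (integralClosure A K')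
  have : IsFractionRing (integralClosure A K') K' :=
    IsIntegralClosure.isFractionRing_of_finite_extension A K K' (integralClosure A K')
  have hlo : P.LiesOver (maximalIdeal A) :=
    ⟨(IsLocalRing.eq_maximalIdeal (Ideal.isMaximal_comap_of_isIntegral_of_isMaximal (R := A)
      P)).symm⟩
  have hinj : Function.Injective (algebraMap A (integralClosure A K')) := by
    have h1 : Function.Injective (algebraMap A K') := by
      rw [IsScalarTower.algebraMap_eq A K K']
      exact (algebraMap K K').injective.comp (IsFractionRing.injective A K)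
    exact fun x y hxy => h1 (congrArg Subtype.val hxy)
  have : FaithfulSMul A (integralClosure A K') :=
    (faithfulSMul_iff_algebraMap_injective _ _).mpr hinj
  have hmA : maximalIdeal A ≠ ⊥ := IsDiscreteValuationRing.not_a_field A
  have hPbot : P ≠ ⊥ := Ideal.ne_bot_of_liesOver_of_ne_bot hmA P
  let v : HeightOneSpectrum (integralClosure A K') := ⟨P, hP.isPrime, hPbot⟩
  let V := v.valuationSubringAtPrime K'
  have hmap : ∀ a : A, algebraMap A K' a =
      ((algebraMap (integralClosure A K') V (algebraMap A (integralClosure A K') a) : V) : K') :=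
    fun a => rfl
  have hdom : EtRam.Dominates A (algebraMap A K') V := by
    refine ⟨fun a => ?_, fun a ha => ?_⟩
    · rw [hmap]; exact Subtype.property _
    · rw [hmap, ← ValuationSubring.valuation_lt_one_iff]
      have hloc : IsLocalization.AtPrime V P :=
        HeightOneSpectrum.instIsLocalizationPrimeComplAsIdealSubtypeMemValuationSubringValuationSubringAtPrime v
      rw [IsLocalization.AtPrime.to_map_mem_maximal_iff V P]
      rw [P.over_def (maximalIdeal A)] at ha
      exact ha
  letI algAV : Algebra A V := (RingHom.codRestrict (algebraMap A K') V hdom.1).toAlgebra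
  have htower : IsScalarTower A (integralClosure A K') V :=
    .of_algebraMap_eq fun a => Subtype.ext (hmap a)
  have hloc : IsLocalization.AtPrime V P :=
    HeightOneSpectrum.instIsLocalizationPrimeComplAsIdealSubtypeMemValuationSubringValuationSubringAtPrime v
  have hlocal : IsLocalHom (algebraMap A V) := by
    refine ⟨fun a ha => ?_⟩
    by_contra hna
    have h1 : a ∈ maximalIdeal A := (IsLocalRing.mem_maximalIdeal a).mpr hna
    rw [P.over_def (maximalIdeal A)] at h1
    have h2 : algebraMap (integralClosure A K') V (algebraMap A (integralClosure A K') a) ∈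
        maximalIdeal V := (IsLocalization.AtPrime.to_map_mem_maximal_iff V P _).mpr h1
    rw [← IsScalarTower.algebraMap_apply] at h2
    exact h2 ha
  obtain ⟨hw, hs⟩ := h V hdom
  have : Algebra.EssFiniteType (integralClosure A K') V :=
    Algebra.EssFiniteType.of_isLocalization V P.primeCompl
  have : Algebra.EssFiniteType A V := .comp A (integralClosure A K') V
  have hfu : Algebra.FormallyUnramified A V :=
    Algebra.FormallyUnramified.iff_map_maximalIdeal_eq.mpr ⟨hs, hw⟩
  let e : V ≃ₐ[integralClosure A K'] Localization.AtPrime P :=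
    IsLocalization.algEquiv P.primeCompl V (Localization.AtPrime P)
  exact Algebra.FormallyUnramified.of_equiv (e.restrictScalars A)

include K in
theorem etale_integralClosure (h : EtRam.IsUnramifiedExt A (algebraMap A K')) :
    Algebra.Etale A (integralClosure A K') := by
  have : IsIntegralClosure (integralClosure A K') A K' := inferInstance
  have : Module.Finite A (integralClosure A K') :=
    IsIntegralClosure.finite A K K' (integralClosure A K')
  have hinj : Function.Injective (algebraMap A (integralClosure A K')) := by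
    have h1 : Function.Injective (algebraMap A K') := by
      rw [IsScalarTower.algebraMap_eq A K K']
      exact (algebraMap K K').injective.comp (IsFractionRing.injective A K)
    exact fun x y hxy => h1 (congrArg Subtype.val hxy)
  have : FaithfulSMul A (integralClosure A K') :=
    (faithfulSMul_iff_algebraMap_injective _ _).mpr hinj
  have : Module.IsTorsionFree A (integralClosure A K') := inferInstance
  have : Module.Flat A (integralClosure A K') := inferInstance
  have : Algebra.FinitePresentation A (integralClosure A K') :=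
    Algebra.FinitePresentation.of_finiteType.mp inferInstance
  have hfu : Algebra.FormallyUnramified A (integralClosure A K') := by
    rw [Algebra.formallyUnramified_iff_forall]
    intro q
    by_contra hq
    have hq' : q ∈ Module.support (integralClosure A K') (Ω[integralClosure A K'⁄A]) := by
      have : q ∉ Algebra.unramifiedLocus A (integralClosure A K') := hq
      rwa [Algebra.unramifiedLocus_eq_compl_support, Set.notMem_compl_iff] at this
    obtain ⟨M, hM, hqM⟩ := Ideal.exists_le_maximal q.asIdeal q.2.ne_top
    have hM' : (⟨M, hM.isPrime⟩ : PrimeSpectrum (integralClosure A K')) ∈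
        Module.support (integralClosure A K') (Ω[integralClosure A K'⁄A]) :=
      Module.mem_support_mono (q := ⟨M, hM.isPrime⟩) hqM hq'
    have hun : (⟨M, hM.isPrime⟩ : PrimeSpectrum (integralClosure A K')) ∈
        Algebra.unramifiedLocus A (integralClosure A K') :=
      isUnramifiedAt_integralClosure A K K' h M
    rw [Algebra.unramifiedLocus_eq_compl_support] at hun
    exact hun hM'
  exact Algebra.Etale.of_formallyUnramified_of_flat

end etale

theorem core {B C F : Type u} [CommRing B] [IsDomain B] [IsDiscreteValuationRing B]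
    [CommRing C] [Algebra B C] [Algebra.FormallyUnramified B C] [Algebra.FiniteType B C]
    [Field F] (g : B →+* F) (ψ : C →+* F) (hψ : ∀ b, ψ (algebraMap B C b) = g b)
    (hg : Function.Injective g)
    (W : ValuationSubring F) (hdom : EtRam.Dominates B g W) (hCW : ∀ c, ψ c ∈ W)
    (hgen : ∀ x : F, ∃ (c : C) (b : B), b ≠ 0 ∧ x * g b = ψ c) :
    letI : Algebra B W := (RingHom.codRestrict g W hdom.1).toAlgebra
    ∀ (_ : IsLocalHom (algebraMap B W)),
      EtRam.IsWeaklyUnramified B W ∧
        Algebra.IsSeparable (IsLocalRing.ResidueField B) (IsLocalRing.ResidueField W) := by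
  letI algBW : Algebra B W := (RingHom.codRestrict g W hdom.1).toAlgebra
  intro hloc
  have halgBW : ∀ b : B, ((algebraMap B W b : W) : F) = g b := fun b => rfl
  let ψW : C →+* W := RingHom.codRestrict ψ W hCW
  have hψW : ∀ c : C, ((ψW c : W) : F) = ψ c := fun c => rfl
  let Q : Ideal C := (maximalIdeal W).comap ψW
  haveI hQ : Q.IsPrime := Ideal.comap_isPrime ψW (maximalIdeal W)
  have hunit : ∀ y : Q.primeCompl, IsUnit (ψW y) := fun y => by
    by_contra hny
    exact y.2 ((mem_maximalIdeal _).mpr hny)
  let φ : Localization.AtPrime Q →+* W := IsLocalization.lift hunit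
  have hφ : ∀ c, φ (algebraMap C (Localization.AtPrime Q) c) = ψW c := IsLocalization.lift_eq hunit
  haveI hφloc : IsLocalHom φ := by
    refine ⟨fun x hx => ?_⟩
    obtain ⟨c, s, rfl⟩ := IsLocalization.exists_mk'_eq Q.primeCompl x
    have h1 : φ (IsLocalization.mk' (Localization.AtPrime Q) c s) * ψW s = ψW c := by
      rw [← hφ, ← hφ, ← map_mul, IsLocalization.mk'_spec]
    have h2 : IsUnit (ψW c) := h1 ▸ hx.mul (hunit s)
    have h3 : c ∈ Q.primeCompl := fun hc => ((mem_maximalIdeal _).mp hc) h2
    have h4 : IsUnit (algebraMap C (Localization.AtPrime Q) c) :=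
      IsLocalization.map_units _ (⟨c, h3⟩ : Q.primeCompl)
    rw [← IsLocalization.mk'_spec (Localization.AtPrime Q) c s] at h4
    exact isUnit_of_mul_isUnit_left h4
  letI algCQW : Algebra (Localization.AtPrime Q) W := φ.toAlgebra
  have htower : IsScalarTower B (Localization.AtPrime Q) W := by
    refine .of_algebraMap_eq fun b => ?_
    change algebraMap B W b = φ (algebraMap B (Localization.AtPrime Q) b)
    rw [IsScalarTower.algebraMap_apply B C (Localization.AtPrime Q), hφ]
    exact Subtype.ext ((halgBW b).trans (hψ b).symm)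
  have hlocBCQ : IsLocalHom (algebraMap B (Localization.AtPrime Q)) := by
    haveI : IsLocalHom (φ.comp (algebraMap B (Localization.AtPrime Q))) := by
      have : φ.comp (algebraMap B (Localization.AtPrime Q)) = algebraMap B W :=
        (IsScalarTower.algebraMap_eq B (Localization.AtPrime Q) W).symm
      rw [this]; exact hloc
    exact isLocalHom_of_comp _ φ
  haveI : Algebra.FormallyUnramified C (Localization.AtPrime Q) :=
    Algebra.FormallyUnramified.of_isLocalization Q.primeCompl
  haveI : Algebra.FormallyUnramified B (Localization.AtPrime Q) :=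
    Algebra.FormallyUnramified.comp B C _
  haveI : Algebra.EssFiniteType C (Localization.AtPrime Q) :=
    Algebra.EssFiniteType.of_isLocalization _ Q.primeCompl
  haveI : Algebra.EssFiniteType B (Localization.AtPrime Q) := Algebra.EssFiniteType.comp B C _
  obtain ⟨hsep, hmap⟩ := Algebra.FormallyUnramified.iff_map_maximalIdeal_eq.mp
    (inferInstance : Algebra.FormallyUnramified B (Localization.AtPrime Q))
  haveI : IsNoetherianRing C := Algebra.FiniteType.isNoetherianRing B C
  haveI : IsNoetherianRing (Localization.AtPrime Q) :=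
    IsLocalization.isNoetherianRing Q.primeCompl _ inferInstance
  obtain ⟨π, hπ⟩ := IsDiscreteValuationRing.exists_irreducible B
  have hmB : maximalIdeal B = Ideal.span {π} := hπ.maximalIdeal_eq
  have hmCQ : maximalIdeal (Localization.AtPrime Q) =
      Ideal.span {algebraMap B (Localization.AtPrime Q) π} := by
    rw [← hmap, hmB, Ideal.map_span, Set.image_singleton]
  have hφπ : φ (algebraMap B (Localization.AtPrime Q) π) = algebraMap B W π :=
    (IsScalarTower.algebraMap_apply B (Localization.AtPrime Q) W π).symm
  have hπ0 : φ (algebraMap B (Localization.AtPrime Q) π) ≠ 0 := by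
    rw [hφπ]
    intro h0
    have : g π = 0 := by rw [← halgBW, h0]; rfl
    exact hπ.ne_zero (hg (this.trans (map_zero g).symm))
  have hgen' : ∀ x : W, ∃ (c : Localization.AtPrime Q) (n : ℕ),
      x * (φ (algebraMap B (Localization.AtPrime Q) π)) ^ n = φ c := by
    intro x
    obtain ⟨c₀, b, hb, hxb⟩ := hgen (x : F)
    obtain ⟨k, u, hu⟩ := exists_unit_mul_pow π hmB b hb
    refine ⟨algebraMap C _ (c₀ * algebraMap B C ((u⁻¹ : Bˣ) : B)), k, ?_⟩
    rw [hφ, hφπ]
    apply Subtype.ext
    push_cast
    rw [hψW, map_mul, hψ, ← hxb, halgBW, hu, map_mul, map_pow]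
    have : g (u : B) * g ((u⁻¹ : Bˣ) : B) = 1 := by
      rw [← map_mul, Units.mul_inv, map_one]
    calc (x : F) * g π ^ k = (x : F) * g π ^ k * (g (u : B) * g ((u⁻¹ : Bˣ) : B)) := by
          rw [this, mul_one]
      _ = _ := by ring
  have hsurj : Function.Surjective φ :=
    surjective_of_isLocalHom_valuationSubring W φ _ hmCQ hπ0 hgen'
  refine ⟨?_, ?_⟩
  · change (maximalIdeal B).map (algebraMap B W) = maximalIdeal W
    rw [IsScalarTower.algebraMap_eq B (Localization.AtPrime Q) W, ← Ideal.map_map, hmap]
    change (maximalIdeal (Localization.AtPrime Q)).map φ = _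
    rw [← IsLocalRing.maximalIdeal_comap φ, Ideal.map_comap_of_surjective φ hsurj]
  · let e : Localization.AtPrime Q →ₐ[B] W :=
      { φ with commutes' := fun b => (IsScalarTower.algebraMap_apply B _ W b).symm }
    haveI : IsLocalHom e := ⟨fun a ha => IsLocalHom.map_nonunit (f := φ) a ha⟩
    let ē := IsLocalRing.ResidueField.mapAlgHom' e
    have hinj : Function.Injective ē := ē.toRingHom.injective
    rw [Algebra.isSeparable_def]
    intro y
    obtain ⟨w, rfl⟩ := IsLocalRing.residue_surjective y
    obtain ⟨c, rfl⟩ := hsurj w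
    have : IsLocalRing.residue W (φ c) = ē (IsLocalRing.residue _ c) := rfl
    rw [this]
    exact IsSeparable.map ē hinj (Algebra.IsSeparable.isSeparable _ _)

theorem mem_valuationSubring_of_isIntegralElem {A F : Type*} [CommRing A] [Field F]
    (W : ValuationSubring F) (j : A →+* F) (hj : ∀ a, j a ∈ W) (x : F)
    (hx : j.IsIntegralElem x) : x ∈ W := by
  obtain ⟨p, hp, hpx⟩ := hx
  have hint : IsIntegral W x := by
    refine ⟨p.map (j.codRestrict W hj), hp.map _, ?_⟩
    rw [Polynomial.eval₂_map]
    exact hpx
  obtain ⟨y, rfl⟩ := IsIntegrallyClosed.isIntegral_iff.mp hint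
  exact y.2

end Groth.Agent.Lib.Seat95.EtRamLib
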