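import Groth.Agent.Lib.Seat10DomJ
import Groth.Agent.Lib.Seat95EtRam

/-!
# `L = K(z)`, `f(z) = 0` with `f` monic over the DVR `A` and `f'` a unit modulo `f`: unramified
(Seat 10)
-/

set_option autoImplicit false

universe u

namespace Groth.Agent.Lib.Seat10.Dom

open EtRam IsLocalRing Groth.Agent.Lib.Seat10.ValDom Polynomial

theorem formallyUnramified_adjoinRoot {R : Type u} [CommRing R] (f : R[X])
    (h : IsUnit (AdjoinRoot.mk f (derivative f))) :
    Algebra.FormallyUnramified R (AdjoinRoot f) := by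
  rw [Algebra.FormallyUnramified.iff_comp_injective]
  intro B _ _ I hI g₁ g₂ hg
  apply AdjoinRoot.algHom_ext
  set x := g₂ (AdjoinRoot.root f) with hx
  set ε := g₁ (AdjoinRoot.root f) - x with hε
  have hεI : ε ∈ I := by
    have := congrArg (fun φ : AdjoinRoot f →ₐ[R] B ⧸ I => φ (AdjoinRoot.root f)) hg
    simp only [AlgHom.comp_apply, Ideal.Quotient.mkₐ_eq_mk] at this
    exact Ideal.Quotient.eq.mp this
  have hε2 : ε ^ 2 = 0 := by
    have : ε ^ 2 ∈ I ^ 2 := Ideal.pow_mem_pow hεI 2
    rw [hI] at this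
    exact this
  have h1 : aeval (x + ε) f = 0 := by
    have : x + ε = g₁ (AdjoinRoot.root f) := by rw [hε]; ring
    rw [this, aeval_algHom_apply, AdjoinRoot.aeval_eq, AdjoinRoot.mk_self, map_zero]
  rw [aeval_add_of_sq_eq_zero f x ε hε2] at h1
  have h2 : aeval x f = 0 := by
    rw [hx, aeval_algHom_apply, AdjoinRoot.aeval_eq, AdjoinRoot.mk_self, map_zero]
  have h3 : IsUnit (aeval x (derivative f)) := by
    rw [hx, aeval_algHom_apply, AdjoinRoot.aeval_eq]
    exact h.map g₂
  rw [h2, zero_add] at h1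
  have h4 : ε = 0 := (h3.mul_right_eq_zero).mp h1
  rw [hε, sub_eq_zero] at h4
  exact h4

variable (A K : Type u) {L : Type u} [CommRing A] [IsDomain A] [IsDiscreteValuationRing A]
  [Field K] [Algebra A K] [IsFractionRing A K] [Field L] [Algebra K L] [Algebra A L]
  [IsScalarTower A K L]

include K in
theorem isUnramifiedExt_of_isUnit_derivative (f : A[X]) (hf : f.Monic)
    (hu : IsUnit (AdjoinRoot.mk f (derivative f))) (z : L) (hz : aeval z f = 0)
    (hgen : Algebra.adjoin K {z} = ⊤) : IsUnramifiedExt A (algebraMap A L) := by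
  intro V h
  letI : Algebra A V := (RingHom.codRestrict (algebraMap A L) V h.1).toAlgebra
  intro hloc
  have hfu := formallyUnramified_adjoinRoot f hu
  have hz' : eval₂ (Algebra.ofId A L : A →+* L) z f = 0 := by
    rw [← hz, aeval_def]; rfl
  let ψ : AdjoinRoot f →ₐ[A] L := AdjoinRoot.liftAlgHom f (Algebra.ofId A L) z hz'
  have hzV : z ∈ V := mem_of_isIntegral h ⟨f, hf, by rw [← aeval_def]; exact hz⟩
  have hψmk : ∀ q : A[X], ψ (AdjoinRoot.mk f q) = eval₂ (algebraMap A L) z q := fun q => rfl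
  refine Groth.Agent.Lib.Seat95.EtRamLib.core (B := A) (C := AdjoinRoot f) (F := L)
    (algebraMap A L) ψ.toRingHom (fun b => ψ.commutes b) (algebraMap_injective' A K) V h ?_ ?_ hloc
  · intro c
    obtain ⟨q, rfl⟩ := AdjoinRoot.mk_surjective c
    show ψ (AdjoinRoot.mk f q) ∈ V
    rw [hψmk]
    exact eval₂_mem h q hzV
  · intro x
    have hx : x ∈ Algebra.adjoin K {z} := by rw [hgen]; exact Algebra.mem_top
    rw [Algebra.adjoin_singleton_eq_range_aeval] at hx
    obtain ⟨q, rfl⟩ := hx
    obtain ⟨b, hb⟩ := IsLocalization.integerNormalization_map_to_map (nonZeroDivisors A) q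
    refine ⟨AdjoinRoot.mk f (IsLocalization.integerNormalization (nonZeroDivisors A) q), b,
      nonZeroDivisors.ne_zero b.2, ?_⟩
    show _ = ψ (AdjoinRoot.mk f _)
    rw [hψmk, IsScalarTower.algebraMap_eq A K L, ← eval₂_map, hb]
    rw [← algebraMap_smul K (b : A) q, eval₂_smul, mul_comm]
    rfl

end Groth.Agent.Lib.Seat10.Dom
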