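import Mathlib

/-!
# Artin–Schreier bookkeeping in characteristic `p` (Seat 10)

* `wp x = x ^ p - x` and its additivity (`wp_add`, `wp_sum`, `wp_sub`);
* `pow_pow_sub_self`: `x ^ p ^ m - x = wp (∑ r < m, x ^ p ^ r)`.
-/

set_option autoImplicit false

universe u

namespace Groth.Agent.Lib.Seat10.Epp

section WP

variable {F : Type*} [CommRing F] (p : ℕ) [hp : Fact p.Prime] [CharP F p]

/-- the Artin–Schreier operator -/
def wp (x : F) : F := x ^ p - x

theorem wp_def (x : F) : wp p x = x ^ p - x := rfl

theorem wp_zero : wp p (0 : F) = 0 := by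
  rw [wp_def, zero_pow hp.out.ne_zero, sub_zero]

theorem wp_add (x y : F) : wp p (x + y) = wp p x + wp p y := by
  rw [wp_def, wp_def, wp_def, add_pow_char]
  ring

theorem wp_neg (x : F) : wp p (-x) = - wp p x := by
  have h := wp_add p x (-x)
  rw [add_neg_cancel, wp_zero] at h
  exact (neg_eq_of_add_eq_zero_right h.symm).symm

theorem wp_sub (x y : F) : wp p (x - y) = wp p x - wp p y := by
  rw [sub_eq_add_neg, wp_add, wp_neg, sub_eq_add_neg]

theorem wp_sum {ι : Type*} (s : Finset ι) (f : ι → F) :
    wp p (∑ i ∈ s, f i) = ∑ i ∈ s, wp p (f i) := by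
  classical
  induction s using Finset.induction_on with
  | empty => simp [wp_zero]
  | insert a s ha ih => rw [Finset.sum_insert ha, Finset.sum_insert ha, wp_add, ih]

theorem pow_pow_sub_self (x : F) (m : ℕ) :
    x ^ p ^ m - x = wp p (∑ r ∈ Finset.range m, x ^ p ^ r) := by
  induction m with
  | zero => simp [wp_zero]
  | succ m ih =>
    rw [Finset.sum_range_succ, wp_add, ← ih, wp_def, ← pow_mul, ← pow_succ]
    ring

end WP

end Groth.Agent.Lib.Seat10.Epp
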