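import Groth.Agent.Lib.Seat10EppA

/-!
# The Artin–Schreier computation in a DVR with a "nice" uniformizer (Seat 10)

`term_reduce`: if `p₁ ^ q = π₀ (1 + π₀ ^ (n+1) b₀)` with `q = p ^ N`, then for `i ≤ n + 1`, `m ≤ N`
`c ^ p ^ m / π₀ ^ i ≡ c / p₁ ^ (i p ^ (N - m))` modulo `wp F + R`.
-/

set_option autoImplicit false

universe u

namespace Groth.Agent.Lib.Seat10.Epp

open IsLocalRing

section Core

variable (p : ℕ) [hp : Fact p.Prime] (R F : Type u) [CommRing R] [IsDomain R]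
  [IsDiscreteValuationRing R] [Field F] [Algebra R F] [IsFractionRing R F] [CharP F p]

include hp in
theorem term_reduce (N n : ℕ) (π₀ p₁ b₀ : R) (hπ₀ : π₀ ∈ maximalIdeal R) (hp₁0 : p₁ ≠ 0)
    (hrel : p₁ ^ (p ^ N) = π₀ * (1 + π₀ ^ (n + 1) * b₀)) (i m : ℕ) (hi : i ≤ n + 1) (hm : m ≤ N)
    (c : R) :
    ∃ (g : F) (δ : R), algebraMap R F (c ^ p ^ m) / algebraMap R F π₀ ^ i =
      wp p g + algebraMap R F c / algebraMap R F p₁ ^ (i * p ^ (N - m)) + algebraMap R F δ := by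
  have hinj : Function.Injective (algebraMap R F) := IsFractionRing.injective R F
  have hx : π₀ ^ (n + 1) * b₀ ∈ maximalIdeal R :=
    Ideal.mul_mem_right _ _ (Ideal.pow_mem_of_mem _ hπ₀ _ (Nat.succ_pos n))
  have hE : IsUnit (1 + π₀ ^ (n + 1) * b₀) := by
    have := IsLocalRing.isUnit_one_sub_self_of_mem_nonunits (-(π₀ ^ (n + 1) * b₀)) (by
      rw [← IsLocalRing.mem_maximalIdeal]; exact neg_mem hx)
    rwa [sub_neg_eq_add] at this
  obtain ⟨E, hEu⟩ := hE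
  obtain ⟨s, hs⟩ : (π₀ ^ (n + 1) * b₀) ∣ ((E : R) ^ i - 1) := by
    have h := sub_dvd_pow_sub_pow (E : R) 1 i
    rw [one_pow] at h
    have h' : (E : R) - 1 = π₀ ^ (n + 1) * b₀ := by rw [hEu, add_sub_cancel_left]
    rwa [h'] at h
  have hπ₀0 : π₀ ≠ 0 := by
    rintro rfl
    rw [zero_mul] at hrel
    exact hp₁0 (pow_eq_zero_iff (pow_ne_zero _ hp.out.ne_zero) |>.mp hrel)
  set P : F := algebraMap R F π₀ with hP
  set P₁ : F := algebraMap R F p₁ with hP₁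
  have hP0 : P ≠ 0 := fun h => hπ₀0 (hinj (h.trans (map_zero _).symm))
  have hP₁0 : P₁ ≠ 0 := fun h => hp₁0 (hinj (h.trans (map_zero _).symm))
  have hE0 : algebraMap R F (E : R) ≠ 0 := fun h => E.ne_zero (hinj (h.trans (map_zero _).symm))
  have hrelF : P₁ ^ (p ^ N) = P * algebraMap R F (E : R) := by
    rw [hP₁, hP, ← map_pow, ← map_mul, hrel, hEu]
  -- the correction term
  let δ : R := c ^ p ^ m * π₀ ^ (n + 1 - i) * b₀ * s * ((E⁻¹ : Rˣ) : R) ^ i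
  have hkey : c ^ p ^ m * (E : R) ^ i = c ^ p ^ m + δ * (π₀ ^ i * (E : R) ^ i) := by
    have h1 : ((E⁻¹ : Rˣ) : R) ^ i * (E : R) ^ i = 1 := by
      rw [← mul_pow, Units.inv_mul, one_pow]
    have h2 : π₀ ^ (n + 1 - i) * π₀ ^ i = π₀ ^ (n + 1) := by
      rw [← pow_add, Nat.sub_add_cancel hi]
    have h3 : (E : R) ^ i = 1 + π₀ ^ (n + 1) * b₀ * s := by
      rw [← hs]; ring
    calc c ^ p ^ m * (E : R) ^ i = c ^ p ^ m * (1 + π₀ ^ (n + 1) * b₀ * s) := by rw [h3]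
      _ = c ^ p ^ m + c ^ p ^ m * (π₀ ^ (n + 1 - i) * π₀ ^ i) * b₀ * s *
            (((E⁻¹ : Rˣ) : R) ^ i * (E : R) ^ i) := by rw [h1, h2]; ring
      _ = c ^ p ^ m + δ * (π₀ ^ i * (E : R) ^ i) := by ring
  set x : F := algebraMap R F c / P₁ ^ (i * p ^ (N - m)) with hxdef
  have hpow : i * p ^ (N - m) * p ^ m = i * p ^ N := by
    rw [mul_assoc, ← pow_add, Nat.sub_add_cancel hm]
  have hxpow : x ^ p ^ m = algebraMap R F (c ^ p ^ m) / (P ^ i * algebraMap R F (E : R) ^ i) := by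
    rw [hxdef, div_pow, ← pow_mul, hpow, mul_comm i, pow_mul, hrelF, mul_pow, map_pow]
  refine ⟨∑ r ∈ Finset.range m, x ^ p ^ r, δ, ?_⟩
  rw [← pow_pow_sub_self, hxpow]
  have hkeyF := congrArg (algebraMap R F) hkey
  simp only [map_mul, map_add, map_pow] at hkeyF
  rw [map_pow]
  field_simp
  linear_combination hkeyF

end Core

theorem idx_inj_aux (p N : ℕ) (hp : p.Prime) (i i' m m' : ℕ) (hle : m ≤ m') (hm' : m' < N)
    (h' : ¬ p ∣ i' ∨ m' = 0) (heq : i * p ^ (N - m) = i' * p ^ (N - m')) : i = i' := by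
  have h1 : N - m = (m' - m) + (N - m') := by omega
  rw [h1, pow_add, ← mul_assoc] at heq
  have hpos : 0 < p ^ (N - m') := pow_pos hp.pos _
  have h2 : i * p ^ (m' - m) = i' := Nat.eq_of_mul_eq_mul_right hpos heq
  rcases Nat.eq_zero_or_pos (m' - m) with h0 | hpos'
  · rw [h0, pow_zero, mul_one] at h2
    exact h2
  · exfalso
    have hdvd : p ∣ i' := by
      rw [← h2]
      exact Dvd.dvd.mul_left (dvd_pow_self p (by omega)) i
    rcases h' with h' | h'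
    · exact h' hdvd
    · omega

theorem idx_inj (p N : ℕ) (hp : p.Prime) (i i' m m' : ℕ) (hm : m < N) (hm' : m' < N)
    (h : ¬ p ∣ i ∨ m = 0) (h' : ¬ p ∣ i' ∨ m' = 0)
    (heq : i * p ^ (N - m) = i' * p ^ (N - m')) : i = i' := by
  rcases le_total m m' with hle | hle
  · exact idx_inj_aux p N hp i i' m m' hle hm' h' heq
  · exact (idx_inj_aux p N hp i' i m' m hle hm h heq.symm).symm

section Core2

variable (p : ℕ) [hp : Fact p.Prime] (R F : Type u) [CommRing R] [IsDomain R]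
  [IsDiscreteValuationRing R] [Field F] [Algebra R F] [IsFractionRing R F] [CharP F p]

include hp in
theorem core (N n : ℕ) (π₀ p₁ b₀ : R) (hπ₀ : π₀ ∈ maximalIdeal R) (hp₁0 : p₁ ≠ 0)
    (hrel : p₁ ^ (p ^ N) = π₀ * (1 + π₀ ^ (n + 1) * b₀))
    (I : Finset ℕ) (m : ℕ → ℕ) (c : ℕ → R)
    (hI : ∀ i ∈ I, 1 ≤ i ∧ i ≤ n + 1 ∧ (¬ p ∣ i ∨ m i = 0) ∧ m i < N ∧
      ∀ r : R, residue R (c i) ≠ residue R r ^ p)
    (ξ y₀ : F) (β : R)
    (hξ : ξ = wp p y₀ + ∑ i ∈ I, algebraMap R F (c i ^ p ^ m i) / algebraMap R F π₀ ^ i +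
      algebraMap R F β) :
    ∃ z₀ ξ'' : F, ξ = wp p z₀ + ξ'' ∧ ((∃ a : R, algebraMap R F a = ξ'') ∨
      ∃ (J : ℕ) (a : R), 0 < J ∧ p ∣ J ∧ ξ'' * algebraMap R F p₁ ^ J = algebraMap R F a ∧
        ∀ r : R, residue R a ≠ residue R r ^ p) := by
  classical
  have hinj : Function.Injective (algebraMap R F) := IsFractionRing.injective R F
  have hp₁m : p₁ ∈ maximalIdeal R := by
    have h1 : p₁ ^ (p ^ N) ∈ maximalIdeal R := by
      rw [hrel]; exact Ideal.mul_mem_right _ _ hπ₀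
    exact (IsLocalRing.maximalIdeal.isMaximal R).isPrime.mem_of_pow_mem _ h1
  set P₁ : F := algebraMap R F p₁ with hP₁
  have hP₁0 : P₁ ≠ 0 := fun h => hp₁0 (hinj (h.trans (map_zero _).symm))
  have hterm : ∀ i, ∃ (g : F) (δ : R), i ∈ I →
      algebraMap R F (c i ^ p ^ m i) / algebraMap R F π₀ ^ i =
        wp p g + algebraMap R F (c i) / P₁ ^ (i * p ^ (N - m i)) + algebraMap R F δ := by
    intro i
    by_cases hi : i ∈ I
    · obtain ⟨g, δ, h⟩ := term_reduce p R F N n π₀ p₁ b₀ hπ₀ hp₁0 hrel i (m i) (hI i hi).2.1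
        (hI i hi).2.2.2.1.le (c i)
      exact ⟨g, δ, fun _ => h⟩
    · exact ⟨0, 0, fun h => absurd h hi⟩
  choose g δ hgδ using hterm
  set j : ℕ → ℕ := fun i => i * p ^ (N - m i) with hj
  have hsum : ∑ i ∈ I, algebraMap R F (c i ^ p ^ m i) / algebraMap R F π₀ ^ i =
      wp p (∑ i ∈ I, g i) + ∑ i ∈ I, algebraMap R F (c i) / P₁ ^ (j i) +
        algebraMap R F (∑ i ∈ I, δ i) := by
    rw [wp_sum, map_sum, ← Finset.sum_add_distrib, ← Finset.sum_add_distrib]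
    exact Finset.sum_congr rfl (fun i hi => hgδ i hi)
  refine ⟨y₀ + ∑ i ∈ I, g i, ∑ i ∈ I, algebraMap R F (c i) / P₁ ^ (j i) +
    algebraMap R F (β + ∑ i ∈ I, δ i), ?_, ?_⟩
  · rw [hξ, hsum, wp_add, map_add]
    ring
  rcases I.eq_empty_or_nonempty with hIe | hIne
  · left
    refine ⟨β + ∑ i ∈ I, δ i, ?_⟩
    rw [hIe]
    simp
  right
  obtain ⟨i₀, hi₀, hmax⟩ := I.exists_max_image j hIne
  have hjinj : ∀ i ∈ I, i ≠ i₀ → j i < j i₀ := by
    intro i hi hne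
    refine lt_of_le_of_ne (hmax i hi) (fun heq => hne ?_)
    exact idx_inj p N hp.out i i₀ (m i) (m i₀) (hI i hi).2.2.2.1 (hI i₀ hi₀).2.2.2.1
      (hI i hi).2.2.1 (hI i₀ hi₀).2.2.1 heq
  have hJpos : 0 < j i₀ := Nat.mul_pos (hI i₀ hi₀).1 (pow_pos hp.out.pos _)
  have hJdvd : p ∣ j i₀ := by
    have : N - m i₀ ≠ 0 := by have := (hI i₀ hi₀).2.2.2.1; omega
    exact Dvd.dvd.mul_left (dvd_pow_self p this) _
  refine ⟨j i₀, c i₀ + ∑ i ∈ I.erase i₀, c i * p₁ ^ (j i₀ - j i) +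
    (β + ∑ i ∈ I, δ i) * p₁ ^ (j i₀), hJpos, hJdvd, ?_, ?_⟩
  · rw [add_mul, Finset.sum_mul, ← Finset.add_sum_erase I _ hi₀]
    simp only [map_add, map_mul, map_sum, map_pow]
    rw [div_mul_cancel₀ _ (pow_ne_zero _ hP₁0)]
    congr 2
    refine Finset.sum_congr rfl (fun i hi => ?_)
    have hlt := hjinj i (Finset.mem_of_mem_erase hi) (Finset.ne_of_mem_erase hi)
    have hsplit : P₁ ^ (j i₀) = P₁ ^ (j i₀ - j i) * P₁ ^ (j i) := by
      rw [← pow_add, Nat.sub_add_cancel hlt.le]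
    rw [hsplit]
    have h3 : algebraMap R F (c i) / P₁ ^ (j i) * (P₁ ^ (j i₀ - j i) * P₁ ^ (j i)) =
        algebraMap R F (c i) * P₁ ^ (j i₀ - j i) := by
      field_simp
    exact h3
  · intro r
    have hres : residue R (c i₀ + ∑ i ∈ I.erase i₀, c i * p₁ ^ (j i₀ - j i) +
        (β + ∑ i ∈ I, δ i) * p₁ ^ (j i₀)) = residue R (c i₀) := by
      rw [map_add, map_add, add_assoc]
      have h1 : residue R (∑ i ∈ I.erase i₀, c i * p₁ ^ (j i₀ - j i)) = 0 := by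
        rw [residue_eq_zero_iff]
        refine Ideal.sum_mem _ (fun i hi => ?_)
        have hlt := hjinj i (Finset.mem_of_mem_erase hi) (Finset.ne_of_mem_erase hi)
        exact Ideal.mul_mem_left _ _ (Ideal.pow_mem_of_mem _ hp₁m _ (by omega))
      have h2 : residue R ((β + ∑ i ∈ I, δ i) * p₁ ^ (j i₀)) = 0 := by
        rw [residue_eq_zero_iff]
        exact Ideal.mul_mem_left _ _ (Ideal.pow_mem_of_mem _ hp₁m _ hJpos)
      rw [h1, h2, add_zero, add_zero]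
    rw [hres]
    exact (hI i₀ hi₀).2.2.2.2 r

end Core2

end Groth.Agent.Lib.Seat10.Epp
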