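import Groth.Agent.Lib.Seat10EppA

/-!
# Artin–Schreier normal form over a weakly unramified extension of DVRs (Seat 10)

`normal_form`: let `A ⊆ B` be a weakly unramified extension of DVRs in characteristic `p` such that
`κ_A` is the set of elements of `κ_B` having `p ^ n`-th roots for all `n`.  Every `ξ ∈ L = Frac B`
with a pole of order at most `n` can be written as
`ξ = wp y + α + ∑ i ∈ I, c i ^ p ^ m i / π ^ i + β` with `α ∈ K`, `β ∈ B`, and for `i ∈ I`:
`1 ≤ i ≤ n`, `p ∤ i` or `m i = 0`, and the residue class of `c i` is not a `p`-th power.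
-/

set_option autoImplicit false

universe u

namespace Groth.Agent.Lib.Seat10.Epp

open IsLocalRing

section NF

variable (p : ℕ) [hp : Fact p.Prime] (A B K L : Type u) [CommRing A] [IsDomain A]
  [IsDiscreteValuationRing A] [CommRing B] [IsDomain B] [IsDiscreteValuationRing B] [Algebra A B]
  [IsLocalHom (algebraMap A B)]
  [Field K] [Field L] [Algebra A K] [IsFractionRing A K] [Algebra B L] [IsFractionRing B L]
  [Algebra K L] [Algebra A L] [IsScalarTower A K L] [IsScalarTower A B L] [CharP L p]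

/-- the depth decomposition of an element whose residue class is not in `κ_A` -/
theorem exists_depth (π : A) (hϖ : maximalIdeal B = Ideal.span {algebraMap A B π})
    (hk : ∀ x : ResidueField B, (∀ n : ℕ, ∃ y : ResidueField B, y ^ (p ^ n) = x) ↔
      x ∈ Set.range (algebraMap (ResidueField A) (ResidueField B)))
    (b : B) (hb : residue B b ∉ Set.range (algebraMap (ResidueField A) (ResidueField B))) :
    ∃ (m₀ : ℕ) (c₀ e : B), b = c₀ ^ p ^ m₀ + algebraMap A B π * e ∧
      ∀ r : B, residue B c₀ ≠ residue B r ^ p := by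
  classical
  have h1 : ∃ n : ℕ, ¬ ∃ y : ResidueField B, y ^ (p ^ n) = residue B b := by
    by_contra hcon
    push Not at hcon
    exact hb ((hk _).mp hcon)
  have hn₀ := Nat.find_spec h1
  have hmin := fun k (hk' : k < Nat.find h1) => Nat.find_min h1 hk'
  set n₀ := Nat.find h1
  have hn₀0 : n₀ ≠ 0 := by
    intro h0
    apply hn₀
    exact ⟨residue B b, by rw [h0, pow_zero, pow_one]⟩
  obtain ⟨m₀, hm₀⟩ := Nat.exists_eq_succ_of_ne_zero hn₀0
  have h2 : ∃ y : ResidueField B, y ^ (p ^ m₀) = residue B b := by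
    by_contra hcon
    exact hmin m₀ (by omega) hcon
  obtain ⟨ybar, hy⟩ := h2
  obtain ⟨c₀, rfl⟩ := residue_surjective ybar
  have h3 : b - c₀ ^ p ^ m₀ ∈ maximalIdeal B := by
    rw [← residue_eq_zero_iff, map_sub, map_pow, hy, sub_self]
  rw [hϖ, Ideal.mem_span_singleton] at h3
  obtain ⟨e, he⟩ := h3
  refine ⟨m₀, c₀, e, by rw [← he]; ring, ?_⟩
  intro r hr
  apply hn₀
  refine ⟨residue B r, ?_⟩
  rw [hm₀, pow_succ, mul_comm, pow_mul, ← hr, hy]

include hp in
theorem normal_form (π : A) (hϖ : maximalIdeal B = Ideal.span {algebraMap A B π})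
    (hϖ0 : algebraMap A B π ≠ 0)
    (hk : ∀ x : ResidueField B, (∀ n : ℕ, ∃ y : ResidueField B, y ^ (p ^ n) = x) ↔
      x ∈ Set.range (algebraMap (ResidueField A) (ResidueField B))) (n : ℕ) :
    ∀ ξ : L, (∃ b : B, ξ * algebraMap B L (algebraMap A B π) ^ n = algebraMap B L b) →
    ∃ (y : L) (α : K) (β : B) (I : Finset ℕ) (m : ℕ → ℕ) (c : ℕ → B),
      (∀ i ∈ I, 1 ≤ i ∧ i ≤ n ∧ (¬ p ∣ i ∨ m i = 0) ∧
        ∀ r : B, residue B (c i) ≠ residue B r ^ p) ∧
      (∃ a : A, α * algebraMap A K π ^ n = algebraMap A K a) ∧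
      ξ = wp p y + algebraMap K L α +
        ∑ i ∈ I, algebraMap B L (c i ^ p ^ m i) / algebraMap B L (algebraMap A B π) ^ i +
        algebraMap B L β := by
  classical
  have hinjBL : Function.Injective (algebraMap B L) := IsFractionRing.injective B L
  set ϖL : L := algebraMap B L (algebraMap A B π) with hϖL
  have hϖL0 : ϖL ≠ 0 := fun h => hϖ0 (hinjBL (h.trans (map_zero _).symm))
  have hAL : ∀ a : A, algebraMap K L (algebraMap A K a) = algebraMap B L (algebraMap A B a) := by
    intro a
    rw [← IsScalarTower.algebraMap_apply A K L, ← IsScalarTower.algebraMap_apply A B L]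
  have hϖLK : algebraMap K L (algebraMap A K π) = ϖL := hAL π
  have hπK0 : algebraMap A K π ≠ 0 := by
    intro h0
    apply hϖL0
    rw [← hϖLK, h0, map_zero]
  induction n with
  | zero =>
    rintro ξ ⟨b, hb⟩
    rw [pow_zero, mul_one] at hb
    refine ⟨0, 0, b, ∅, fun _ => 0, fun _ => 0, by simp, ⟨0, by simp⟩, ?_⟩
    simp [wp_zero, hb]
  | succ n ih =>
    rintro ξ ⟨b, hb⟩
    have hbξ : ξ = algebraMap B L b / ϖL ^ (n + 1) := by
      rw [eq_div_iff (pow_ne_zero _ hϖL0)]; exact hb
    by_cases hbm : b ∈ maximalIdeal B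
    · -- the leading coefficient vanishes
      rw [hϖ, Ideal.mem_span_singleton] at hbm
      obtain ⟨b', rfl⟩ := hbm
      have h1 : ξ * ϖL ^ n = algebraMap B L b' := by
        rw [hbξ, map_mul, ← hϖL, pow_succ]
        field_simp
      obtain ⟨y, α, β, I, m, c, hI, ⟨a, ha⟩, hξ⟩ := ih ξ ⟨b', h1⟩
      refine ⟨y, α, β, I, m, c, fun i hi => ⟨(hI i hi).1, (hI i hi).2.1.trans (Nat.le_succ n),
        (hI i hi).2.2⟩, ⟨π * a, ?_⟩, hξ⟩
      rw [pow_succ, ← mul_assoc, ha, map_mul]
      ring
    by_cases hbr : residue B b ∈ Set.range (algebraMap (ResidueField A) (ResidueField B))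
    · -- the leading coefficient comes from `A`
      obtain ⟨abar, habar⟩ := hbr
      obtain ⟨a, rfl⟩ := residue_surjective abar
      have h1 : b - algebraMap A B a ∈ maximalIdeal B := by
        rw [← residue_eq_zero_iff, map_sub, ← habar, ResidueField.algebraMap_residue, sub_self]
      rw [hϖ, Ideal.mem_span_singleton] at h1
      obtain ⟨e, he⟩ := h1
      have hbe : b = algebraMap A B a + algebraMap A B π * e := by rw [← he]; ring
      have h2 : algebraMap B L e / ϖL ^ n * ϖL ^ n = algebraMap B L e :=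
        div_mul_cancel₀ _ (pow_ne_zero n hϖL0)
      obtain ⟨y, α₁, β, I, m, c, hI, ⟨a₁, ha₁⟩, hξ₁⟩ := ih _ ⟨e, h2⟩
      refine ⟨y, α₁ + algebraMap A K a / algebraMap A K π ^ (n + 1), β, I, m, c,
        fun i hi => ⟨(hI i hi).1, (hI i hi).2.1.trans (Nat.le_succ n), (hI i hi).2.2⟩,
        ⟨π * a₁ + a, ?_⟩, ?_⟩
      · rw [add_mul, div_mul_cancel₀ _ (pow_ne_zero _ hπK0), pow_succ, ← mul_assoc, ha₁, map_add,
          map_mul]
        ring
      · have h3 : ξ = algebraMap K L (algebraMap A K a / algebraMap A K π ^ (n + 1)) +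
            algebraMap B L e / ϖL ^ n := by
          rw [hbξ, hbe, map_div₀, map_pow, hϖLK, hAL, map_add, map_mul, ← hϖL, pow_succ]
          field_simp
        rw [h3, hξ₁, map_add]
        ring
    by_cases hpn : p ∣ n + 1 ∧ ∃ d : B, residue B b = residue B d ^ p
    · -- a `p`-th power over a pole order divisible by `p`: reduce
      obtain ⟨⟨k, hk'⟩, d, hd⟩ := hpn
      have hk1 : 1 ≤ k := by
        rcases Nat.eq_zero_or_pos k with h0 | h0
        · rw [h0, mul_zero] at hk'; omega
        · exact h0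
      have hkn : k ≤ n := by
        have h2 : 2 * k ≤ p * k := Nat.mul_le_mul_right k hp.out.two_le
        omega
      have h1 : b - d ^ p ∈ maximalIdeal B := by
        rw [← residue_eq_zero_iff, map_sub, map_pow, hd, sub_self]
      rw [hϖ, Ideal.mem_span_singleton] at h1
      obtain ⟨e, he⟩ := h1
      have hbe : b = d ^ p + algebraMap A B π * e := by rw [← he]; ring
      set x : L := algebraMap B L d / ϖL ^ k with hx
      have hxp : x ^ p = algebraMap B L (d ^ p) / ϖL ^ (n + 1) := by
        rw [hx, div_pow, ← pow_mul, mul_comm k p, ← hk', map_pow]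
      have h2 : (x + algebraMap B L e / ϖL ^ n) * ϖL ^ n =
          algebraMap B L (d * algebraMap A B π ^ (n - k) + e) := by
        have h3 : ϖL ^ n = ϖL ^ (n - k) * ϖL ^ k := by rw [← pow_add, Nat.sub_add_cancel hkn]
        rw [add_mul, div_mul_cancel₀ _ (pow_ne_zero n hϖL0), map_add, map_mul, map_pow, ← hϖL, hx, h3]
        field_simp
      obtain ⟨y₁, α, β, I, m, c, hI, ⟨a, ha⟩, hξ₁⟩ := ih _ ⟨_, h2⟩
      refine ⟨y₁ + x, α, β, I, m, c, fun i hi => ⟨(hI i hi).1,
        (hI i hi).2.1.trans (Nat.le_succ n), (hI i hi).2.2⟩, ⟨π * a, ?_⟩, ?_⟩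
      · rw [pow_succ, ← mul_assoc, ha, map_mul]
        ring
      · have h3 : ξ = wp p x + (x + algebraMap B L e / ϖL ^ n) := by
          rw [wp_def, hxp, hbξ, hbe, map_add, map_mul, ← hϖL, pow_succ]
          field_simp
          ring
        rw [h3, hξ₁, wp_add]
        ring
    · -- record a term
      obtain ⟨m₀, c₀, e, hbe, hc₀⟩ := exists_depth p A B π hϖ hk b hbr
      have hcond : ¬ p ∣ n + 1 ∨ m₀ = 0 := by
        by_contra hcon
        push Not at hcon
        apply hpn
        refine ⟨hcon.1, c₀ ^ p ^ (m₀ - 1), ?_⟩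
        have h1 : residue B b = residue B c₀ ^ p ^ m₀ := by
          rw [hbe, map_add, map_pow, map_mul]
          have : residue B (algebraMap A B π) = 0 := by
            rw [residue_eq_zero_iff, hϖ]; exact Ideal.mem_span_singleton_self _
          rw [this, zero_mul, add_zero]
        rw [h1, map_pow, ← pow_mul, ← pow_succ, Nat.sub_add_cancel (Nat.one_le_iff_ne_zero.mpr hcon.2)]
      have h2 : algebraMap B L e / ϖL ^ n * ϖL ^ n = algebraMap B L e :=
        div_mul_cancel₀ _ (pow_ne_zero n hϖL0)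
      obtain ⟨y, α, β, I, m, c, hI, ⟨a, ha⟩, hξ₁⟩ := ih _ ⟨e, h2⟩
      have hnI : n + 1 ∉ I := fun h => by have := (hI _ h).2.1; omega
      refine ⟨y, α, β, insert (n + 1) I, Function.update m (n + 1) m₀,
        Function.update c (n + 1) c₀, ?_, ⟨π * a, ?_⟩, ?_⟩
      · intro i hi
        rcases Finset.mem_insert.mp hi with rfl | hi
        · refine ⟨by omega, le_rfl, ?_, ?_⟩
          · rw [Function.update_self]; exact hcond
          · rw [Function.update_self]; exact hc₀
        · have hne : i ≠ n + 1 := fun h => hnI (h ▸ hi)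
          rw [Function.update_of_ne hne, Function.update_of_ne hne]
          exact ⟨(hI i hi).1, (hI i hi).2.1.trans (Nat.le_succ n), (hI i hi).2.2⟩
      · rw [pow_succ, ← mul_assoc, ha, map_mul]
        ring
      · have h3 : ξ = algebraMap B L (c₀ ^ p ^ m₀) / ϖL ^ (n + 1) + algebraMap B L e / ϖL ^ n := by
          rw [hbξ, hbe, map_add, map_mul, ← hϖL, pow_succ]
          field_simp
        rw [Finset.sum_insert hnI, Function.update_self, Function.update_self]
        have hsum : ∑ i ∈ I, algebraMap B L (Function.update c (n + 1) c₀ i ^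
            p ^ Function.update m (n + 1) m₀ i) / ϖL ^ i =
            ∑ i ∈ I, algebraMap B L (c i ^ p ^ m i) / ϖL ^ i := by
          refine Finset.sum_congr rfl (fun i hi => ?_)
          have hne : i ≠ n + 1 := fun h => hnI (h ▸ hi)
          rw [Function.update_of_ne hne, Function.update_of_ne hne]
        rw [hsum, h3, hξ₁]
        ring

end NF

end Groth.Agent.Lib.Seat10.Epp
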