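import Mathlib
import Groth.Prelude.Def_EtRam

/-!
# Valuation subrings dominating a local ring (Seat 10)

Basic bookkeeping for `EtRam.Dominates`: extension of valuation subrings along field maps,
transfer of domination, the comparison map `V → W`.
-/

set_option autoImplicit false

universe u

namespace Groth.Agent.Lib.Seat10.ValDom

open EtRam IsLocalRing

variable {L M : Type u} [Field L] [Field M]

theorem valuation_comap_lt_one_iff (W : ValuationSubring M) (f : L →+* M) (x : L) :
    (W.comap f).valuation x < 1 ↔ W.valuation (f x) < 1 := by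
  rw [← ValuationSubring.mem_nonunits_iff, ← ValuationSubring.mem_nonunits_iff,
    ValuationSubring.mem_nonunits_iff_or, ValuationSubring.mem_nonunits_iff_or,
    ValuationSubring.mem_comap, map_inv₀, map_eq_zero]

/-- a valuation subring extends along a field map -/
theorem exists_comap_eq (V : ValuationSubring L) (f : L →+* M) :
    ∃ W : ValuationSubring M, W.comap f = V := by
  obtain ⟨W, hle, hloc⟩ := (V.toLocalSubring.map f).exists_le_valuationSubring
  refine ⟨W, ?_⟩
  have hVW : ∀ x ∈ V, f x ∈ W := fun x hx => hle ⟨x, hx, rfl⟩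
  ext x
  rw [ValuationSubring.mem_comap]
  constructor
  · intro hx
    by_contra hxV
    have hx0 : x ≠ 0 := fun h => hxV (h ▸ V.zero_mem)
    have hinv : x⁻¹ ∈ V := (V.mem_or_inv_mem x).resolve_left hxV
    -- the element `f x⁻¹` of the image of `V`
    let y : (V.toLocalSubring.map f).toSubring := ⟨f x⁻¹, ⟨x⁻¹, hinv, rfl⟩⟩
    have hy : IsUnit (Subring.inclusion hle y) := by
      refine isUnit_iff_exists_inv.mpr ⟨⟨f x, hx⟩, Subtype.ext ?_⟩
      show f x⁻¹ * f x = 1
      rw [← map_mul, inv_mul_cancel₀ hx0, map_one]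
    have hy' : IsUnit y := hloc.map_nonunit y hy
    obtain ⟨⟨z, ⟨z0, hz0, hz⟩⟩, hyz⟩ := isUnit_iff_exists_inv.mp hy'
    have h1 : f x⁻¹ * z = 1 := congrArg Subtype.val hyz
    rw [← hz, ← map_mul] at h1
    have h2 : x⁻¹ * z0 = 1 := f.injective (by rw [h1, map_one])
    have h3 : x = z0 := (inv_mul_eq_one₀ hx0).mp h2
    exact hxV (h3 ▸ hz0)
  · exact hVW x

variable {A : Type u} [CommRing A] [IsLocalRing A]

theorem dominates_comp_iff (g : A →+* L) (f : L →+* M) (W : ValuationSubring M) :
    Dominates A (f.comp g) W ↔ Dominates A g (W.comap f) := by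
  unfold Dominates
  simp only [RingHom.comp_apply, ValuationSubring.mem_comap, valuation_comap_lt_one_iff]

theorem dominates_of_comap_eq {g : A →+* L} {f : L →+* M} {W : ValuationSubring M}
    {V : ValuationSubring L} (hWV : W.comap f = V) (h : Dominates A g V) :
    Dominates A (f.comp g) W := by
  rw [dominates_comp_iff, hWV]
  exact h

/-- the comparison map `V → W` when `V ≤ W.comap f` -/
def mapOfLE (V : ValuationSubring L) (W : ValuationSubring M) (f : L →+* M)
    (h : V ≤ W.comap f) : V →+* W where
  toFun x := ⟨f (x : L), h x.2⟩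
  map_one' := Subtype.ext (map_one f)
  map_mul' x y := Subtype.ext (map_mul f (x : L) (y : L))
  map_zero' := Subtype.ext (map_zero f)
  map_add' x y := Subtype.ext (map_add f (x : L) (y : L))

@[simp] theorem mapOfLE_apply_coe (V : ValuationSubring L) (W : ValuationSubring M) (f : L →+* M)
    (h : V ≤ W.comap f) (x : V) : ((mapOfLE V W f h x : W) : M) = f (x : L) := rfl

theorem mapOfLE_injective (V : ValuationSubring L) (W : ValuationSubring M) (f : L →+* M)
    (h : V ≤ W.comap f) : Function.Injective (mapOfLE V W f h) := by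
  intro x y hxy
  apply Subtype.ext
  apply f.injective
  exact congrArg Subtype.val hxy

/-- if `W ∩ L = V` the comparison map is local -/
theorem isLocalHom_mapOfLE (V : ValuationSubring L) (W : ValuationSubring M) (f : L →+* M)
    (h : W.comap f = V) : IsLocalHom (mapOfLE V W f h.ge) := by
  constructor
  intro x hx
  obtain ⟨u, hu⟩ := hx
  have hux : ((u : W) : M) = f (x : L) := by rw [hu]; rfl
  have hmul : f (x : L) * (((u⁻¹ : Wˣ) : W) : M) = 1 := by
    have h1 := congrArg Subtype.val u.mul_inv
    simp only [MulMemClass.coe_mul, OneMemClass.coe_one] at h1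
    rw [hux] at h1
    exact h1
  have hx0 : f (x : L) ≠ 0 := left_ne_zero_of_mul_eq_one hmul
  have hx0' : (x : L) ≠ 0 := fun h => hx0 (by rw [h, map_zero])
  have hinvW : (f (x : L))⁻¹ ∈ W := by
    have : (((u⁻¹ : Wˣ) : W) : M) = (f (x : L))⁻¹ := eq_inv_of_mul_eq_one_right hmul
    rw [← this]; exact (((u⁻¹ : Wˣ) : W)).2
  have hmem : (x : L)⁻¹ ∈ V := by
    apply h.le
    rw [ValuationSubring.mem_comap, map_inv₀]
    exact hinvW
  exact ⟨⟨x, ⟨_, hmem⟩, Subtype.ext (mul_inv_cancel₀ hx0'), Subtype.ext (inv_mul_cancel₀ hx0')⟩, rfl⟩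

/-- the structure map `A → V` of a dominating valuation subring -/
def toVal {g : A →+* L} {V : ValuationSubring L} (h : Dominates A g V) : A →+* V :=
  RingHom.codRestrict g V h.1

theorem isLocalHom_toVal {g : A →+* L} {V : ValuationSubring L} (h : Dominates A g V) :
    IsLocalHom (toVal h) := by
  constructor
  intro a ha
  by_contra hna
  have h1 : a ∈ maximalIdeal A := (IsLocalRing.mem_maximalIdeal a).2 hna
  have h2 := h.2 a h1
  have h3 : toVal h a ∈ maximalIdeal V := by
    rw [ValuationSubring.valuation_lt_one_iff]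
    exact h2
  exact (IsLocalRing.mem_maximalIdeal _).1 h3 ha

end Groth.Agent.Lib.Seat10.ValDom
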