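import Groth.Agent.Lib.Seat10EppA
import Groth.Agent.Lib.Seat10ValDomA
import Groth.Agent.S7158

/-!
# Artin–Schreier extensions which are weakly unramified (Seat 10)

`as_fierce`: let `R` be a DVR with fraction field `F` of characteristic `p` and `E = F(z)` with
`z ^ p - z = ξ`.  If `ξ = wp z₀ + ξ''` where `ξ''` is integral, or `ξ'' p₁ ^ J` is a unit whose
residue class is not a `p`-th power with `p ∣ J`, then every valuation ring of `E` dominating `R`
is weakly unramified over `R`.
-/

set_option autoImplicit false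
set_option linter.style.haveILetI false

universe u

namespace Groth.Agent.Lib.Seat10.Epp

open IsLocalRing EtRam Groth.Agent.Lib.Seat10.ValDom

section Fierce

variable (p : ℕ) [hp : Fact p.Prime] (R F E : Type u) [CommRing R] [IsDomain R]
  [IsDiscreteValuationRing R] [Field F] [Algebra R F] [IsFractionRing R F] [CharP F p]
  [Field E] [Algebra F E] [Algebra R E] [IsScalarTower R F E]

/-- the trivial case: `E = F` -/
theorem wu_of_finrank_eq_one (h1 : Module.finrank F E = 1) (V : ValuationSubring E)
    (hV : Dominates R (algebraMap R E) V) :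
    (maximalIdeal R).map (toVal hV) = maximalIdeal V := by
  haveI : IsLocalHom (toVal hV) := isLocalHom_toVal hV
  apply le_antisymm
  · rw [Ideal.map_le_iff_le_comap]
    intro r hr
    rw [Ideal.mem_comap, IsLocalRing.mem_maximalIdeal, mem_nonunits_iff] at *
    exact fun hu => hr (isUnit_of_map_unit (toVal hV) r hu)
  · intro w hw
    by_cases hw0 : w = 0
    · rw [hw0]; exact zero_mem _
    have hsurj : ∀ e : E, ∃ f : F, algebraMap F E f = e := by
      intro e
      have hbt : (⊥ : Subalgebra F E) = ⊤ := Subalgebra.bot_eq_top_of_finrank_eq_one h1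
      have : e ∈ (⊥ : Subalgebra F E) := by rw [hbt]; trivial
      exact Algebra.mem_bot.mp this
    obtain ⟨f, hf⟩ := hsurj (w : E)
    have hf0 : f ≠ 0 := by
      rintro rfl
      apply hw0
      apply Subtype.ext
      rw [← hf, map_zero]
      rfl
    have hwnu : ¬ IsUnit w := (IsLocalRing.mem_maximalIdeal _).mp hw
    rcases ValuationRing.isInteger_or_isInteger R f with ⟨r, hr⟩ | ⟨r, hr⟩
    · have hwr : w = toVal hV r := by
        apply Subtype.ext
        show (w : E) = algebraMap R E r
        rw [← hf, ← hr, ← IsScalarTower.algebraMap_apply]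
      have hrm : r ∈ maximalIdeal R := by
        rw [IsLocalRing.mem_maximalIdeal, mem_nonunits_iff]
        intro hu
        exact hwnu (hwr ▸ hu.map (toVal hV))
      rw [hwr]
      exact Ideal.mem_map_of_mem _ hrm
    · exfalso
      apply hwnu
      refine .of_mul_eq_one (toVal hV r) (Subtype.ext ?_)
      show (w : E) * algebraMap R E r = 1
      rw [← hf, IsScalarTower.algebraMap_apply R F E, hr, map_inv₀, mul_inv_cancel₀]
      exact fun h0 => hf0 ((map_eq_zero _).mp h0)

include hp in
theorem as_fierce (ϖ : R) (hϖ : maximalIdeal R = Ideal.span {ϖ}) (p₁ : R) (hp₁0 : p₁ ≠ 0)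
    (hp₁m : p₁ ∈ maximalIdeal R) (ξ z₀ ξ'' : F) (z : E) (hz : z ^ p - z = algebraMap F E ξ)
    (hgen : IntermediateField.adjoin F {z} = ⊤) (hξ : ξ = wp p z₀ + ξ'')
    (h : (∃ a : R, algebraMap R F a = ξ'') ∨ ∃ (J : ℕ) (a : R), 0 < J ∧ p ∣ J ∧
      ξ'' * algebraMap R F p₁ ^ J = algebraMap R F a ∧ ∀ r : R, residue R a ≠ residue R r ^ p)
    (V : ValuationSubring E) (hV : Dominates R (algebraMap R E) V) :
    (maximalIdeal R).map (toVal hV) = maximalIdeal V := by
  haveI : CharP E p := charP_of_injective_algebraMap (algebraMap F E).injective p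
  set z' : E := z - algebraMap F E z₀ with hz'
  have hz'eq : z' ^ p - z' = algebraMap F E ξ'' := by
    have h1 : wp p z' = wp p z - wp p (algebraMap F E z₀) := wp_sub p z _
    have h2 : wp p (algebraMap F E z₀) = algebraMap F E (wp p z₀) := by
      rw [wp_def, wp_def, map_sub, map_pow]
    rw [← wp_def, h1, h2, wp_def, hz, hξ, map_add]
    ring
  have hgen' : IntermediateField.adjoin F {z'} = ⊤ := by
    rw [eq_top_iff, ← hgen, IntermediateField.adjoin_simple_le_iff]
    have : z = z' + algebraMap F E z₀ := by rw [hz']; ring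
    rw [this]
    exact add_mem (IntermediateField.mem_adjoin_simple_self F z')
      (IntermediateField.algebraMap_mem _ _)
  obtain ⟨-, -, hA, -, hC⟩ := Groth.Agent.S7158.result p hp.out R F E ϖ hϖ ξ'' z' hz'eq hgen'
  haveI hloc : IsLocalHom (toVal hV) := isLocalHom_toVal hV
  have hcase12 : (Module.finrank F E = 1 ∨
      (EtRam.IsUnramifiedExt R (algebraMap R E) ∧ Module.finrank F E = p)) →
      (maximalIdeal R).map (toVal hV) = maximalIdeal V := by
    rintro (h1 | ⟨h2, -⟩)
    · exact wu_of_finrank_eq_one R F E h1 V hV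
    · exact (@h2 V hV hloc).1
  rcases h with ⟨a, ha⟩ | ⟨J, a, hJ0, hJp, hJa, hres⟩
  · exact hcase12 (hA ⟨a, ha⟩)
  · have hirr : Irreducible ϖ :=
      (IsDiscreteValuationRing.irreducible_iff_uniformizer ϖ).mpr hϖ
    obtain ⟨r, u, hu⟩ := IsDiscreteValuationRing.eq_unit_mul_pow_irreducible hp₁0 hirr
    have hr0 : r ≠ 0 := by
      rintro rfl
      rw [pow_zero, mul_one] at hu
      exact ((IsLocalRing.mem_maximalIdeal _).mp hp₁m) (hu ▸ u.isUnit)
    obtain ⟨J', rfl⟩ := hJp
    have heq : ξ'' * algebraMap R F ϖ ^ (r * (p * J')) =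
        algebraMap R F (a * ((u⁻¹ : Rˣ) : R) ^ (p * J')) := by
      have h1 : algebraMap R F p₁ ^ (p * J') =
          algebraMap R F (u : R) ^ (p * J') * algebraMap R F ϖ ^ (r * (p * J')) := by
        rw [hu, map_mul, mul_pow, map_pow, ← pow_mul]
      have h2 : algebraMap R F (u : R) ^ (p * J') * algebraMap R F ((u⁻¹ : Rˣ) : R) ^ (p * J') = 1 := by
        rw [← mul_pow, ← map_mul, Units.mul_inv, map_one, one_pow]
      rw [map_mul, map_pow, ← hJa, h1]
      calc ξ'' * algebraMap R F ϖ ^ (r * (p * J'))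
          = ξ'' * algebraMap R F ϖ ^ (r * (p * J')) *
              (algebraMap R F (u : R) ^ (p * J') * algebraMap R F ((u⁻¹ : Rˣ) : R) ^ (p * J')) := by
            rw [h2, mul_one]
        _ = _ := by ring
    have hres' : ∀ r' : R, residue R (a * ((u⁻¹ : Rˣ) : R) ^ (p * J')) ≠ residue R r' ^ p := by
      intro r' hr'
      apply hres (r' * (u : R) ^ J')
      have h3 : a = a * ((u⁻¹ : Rˣ) : R) ^ (p * J') * (u : R) ^ (p * J') := by
        rw [mul_assoc, ← mul_pow, Units.inv_mul, one_pow, mul_one]
      rw [h3, map_mul, hr', map_mul, mul_pow, map_pow, map_pow, ← pow_mul, mul_comm J' p]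
    have h4 := hC (r * (p * J')) _ (Nat.mul_pos (Nat.pos_of_ne_zero hr0) hJ0)
      (Dvd.dvd.mul_left (dvd_mul_right p J') r) hres' heq
    exact (@h4.2.2 V hV hloc).1

end Fierce

end Groth.Agent.Lib.Seat10.Epp
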