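import Groth.Agent.Lib.Seat10EppA
import Groth.Agent.Lib.Seat10ValDomA

/-!
# Artin–Schreier reduction over a DVR with perfect residue field; transitivity of total ramification
(Seat 10)

* `exists_reduce`: over a DVR `R` of characteristic `p` with perfect residue field every element of
  the fraction field is, modulo `wp F + R`, zero or of pole order prime to `p`;
* `isTotallyRamified_trans`: transitivity of `EtRam.IsTotallyRamified`.
-/

set_option autoImplicit false
set_option linter.style.haveILetI false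

universe u

namespace Groth.Agent.Lib.Seat10.Epp

open IsLocalRing EtRam Groth.Agent.Lib.Seat10.ValDom

section Reduce

variable (p : ℕ) [hp : Fact p.Prime] (R F : Type u) [CommRing R] [IsDomain R]
  [IsDiscreteValuationRing R] [Field F] [Algebra R F] [IsFractionRing R F] [CharP F p]

include hp in
theorem exists_reduce (ϖ : R) (hϖ : maximalIdeal R = Ideal.span {ϖ})
    (hperf : ∀ x : ResidueField R, ∃ y : ResidueField R, y ^ p = x) (n : ℕ) :
    ∀ α : F, (∃ a : R, α * algebraMap R F ϖ ^ n = algebraMap R F a) →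
    ∃ (y α' : F) (a₀ : R), α = wp p y + α' + algebraMap R F a₀ ∧
      (α' = 0 ∨ ∃ (n' : ℕ) (u : Rˣ), 0 < n' ∧ ¬ p ∣ n' ∧
        α' * algebraMap R F ϖ ^ n' = algebraMap R F (u : R)) := by
  have hinj : Function.Injective (algebraMap R F) := IsFractionRing.injective R F
  have hirr : Irreducible ϖ := (IsDiscreteValuationRing.irreducible_iff_uniformizer ϖ).mpr hϖ
  set ϖF : F := algebraMap R F ϖ with hϖF
  have hϖF0 : ϖF ≠ 0 := fun h => hirr.ne_zero (hinj (h.trans (map_zero _).symm))
  induction n using Nat.strong_induction_on with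
  | _ n ih =>
    rintro α ⟨a, ha⟩
    rcases Nat.eq_zero_or_pos n with hn0 | hnpos
    · subst hn0
      rw [pow_zero, mul_one] at ha
      exact ⟨0, 0, a, by rw [wp_zero, ha]; ring, Or.inl rfl⟩
    have hαa : α = algebraMap R F a / ϖF ^ n := by
      rw [eq_div_iff (pow_ne_zero _ hϖF0)]; exact ha
    by_cases ham : a ∈ maximalIdeal R
    · -- smaller pole order
      rw [hϖ, Ideal.mem_span_singleton] at ham
      obtain ⟨a', rfl⟩ := ham
      obtain ⟨k, rfl⟩ : ∃ k, n = k + 1 := ⟨n - 1, by omega⟩
      refine ih k (by omega) α ⟨a', ?_⟩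
      rw [hαa, map_mul, ← hϖF, pow_succ]
      field_simp
    have hau : IsUnit a := by
      by_contra h
      exact ham ((IsLocalRing.mem_maximalIdeal _).mpr h)
    by_cases hpn : p ∣ n
    · -- take a `p`-th root of the leading coefficient
      obtain ⟨k, rfl⟩ := hpn
      obtain ⟨dbar, hd⟩ := hperf (residue R a)
      obtain ⟨d, rfl⟩ := residue_surjective dbar
      have h1 : a - d ^ p ∈ maximalIdeal R := by
        rw [← residue_eq_zero_iff, map_sub, map_pow, hd, sub_self]
      rw [hϖ, Ideal.mem_span_singleton] at h1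
      obtain ⟨e, he⟩ := h1
      have hae : a = d ^ p + ϖ * e := by rw [← he]; ring
      have hk1 : 1 ≤ k := by
        rcases Nat.eq_zero_or_pos k with h0 | h0
        · rw [h0, mul_zero] at hnpos; omega
        · exact h0
      have hklt : k ≤ p * k - 1 := by
        have h2 : 2 * k ≤ p * k := Nat.mul_le_mul_right k hp.out.two_le
        omega
      set x : F := algebraMap R F d / ϖF ^ k with hx
      have hxp : x ^ p = algebraMap R F (d ^ p) / ϖF ^ (p * k) := by
        rw [hx, div_pow, ← pow_mul, mul_comm k p, map_pow]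
      have h2 : (x + algebraMap R F e / ϖF ^ (p * k - 1)) * ϖF ^ (p * k - 1) =
          algebraMap R F (d * ϖ ^ (p * k - 1 - k) + e) := by
        have h3 : ϖF ^ (p * k - 1) = ϖF ^ (p * k - 1 - k) * ϖF ^ k := by
          rw [← pow_add, Nat.sub_add_cancel hklt]
        rw [add_mul, div_mul_cancel₀ _ (pow_ne_zero _ hϖF0), map_add, map_mul, map_pow, ← hϖF, hx,
          h3]
        field_simp
      obtain ⟨y₁, α', a₀, hα', hcase⟩ := ih (p * k - 1) (by omega) _ ⟨_, h2⟩
      refine ⟨y₁ + x, α', a₀, ?_, hcase⟩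
      have h3 : α = wp p x + (x + algebraMap R F e / ϖF ^ (p * k - 1)) := by
        have h4 : ϖF ^ (p * k) = ϖF ^ (p * k - 1) * ϖF := by
          rw [← pow_succ, Nat.sub_add_cancel (by omega)]
        rw [wp_def, hxp, hαa, hae, map_add, map_mul, ← hϖF, h4]
        field_simp
        ring
      rw [h3, hα', wp_add]
      ring
    · -- pole order prime to `p`: done
      obtain ⟨u, rfl⟩ := hau
      exact ⟨0, α, 0, by rw [wp_zero, map_zero]; ring, Or.inr ⟨n, u, hnpos, hpn, ha⟩⟩

end Reduce

section Trans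

variable {A K₁ K₂ : Type u} [CommRing A] [IsLocalRing A] [Field K₁] [Field K₂]

theorem isTotallyRamified_trans (g₁ : A →+* K₁) (f : K₁ →+* K₂) (h₁ : IsTotallyRamified A g₁)
    (V₁ : ValuationSubring K₁) (hV₁ : Dominates A g₁ V₁)
    (h₂ : IsTotallyRamified V₁ (f.comp V₁.subtype)) : IsTotallyRamified A (f.comp g₁) := by
  -- domination of `A` from domination of `V₁`
  have hdomA : ∀ V : ValuationSubring K₂, Dominates V₁ (f.comp V₁.subtype) V →
      Dominates A (f.comp g₁) V := by
    intro V hV
    refine ⟨fun a => hV.1 ⟨g₁ a, hV₁.1 a⟩, fun a ha => hV.2 ⟨g₁ a, hV₁.1 a⟩ ?_⟩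
    exact (ValuationSubring.valuation_lt_one_iff V₁ _).mpr (hV₁.2 a ha)
  -- and conversely
  have hdomV : ∀ V : ValuationSubring K₂, Dominates A (f.comp g₁) V →
      Dominates V₁ (f.comp V₁.subtype) V := by
    intro V hV
    have hc : V.comap f = V₁ :=
      h₁.2.1 _ _ ((dominates_comp_iff g₁ f V).mp hV) hV₁
    refine ⟨fun x => ?_, fun x hx => ?_⟩
    · have : (x : K₁) ∈ V.comap f := hc ▸ x.2
      exact this
    · have h1 : V₁.valuation (x : K₁) < 1 := (ValuationSubring.valuation_lt_one_iff V₁ _).mp hx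
      have h2 : (V.comap f).valuation (x : K₁) < 1 := by rw [hc]; exact h1
      exact (valuation_comap_lt_one_iff V f _).mp h2
  refine ⟨?_, ?_, ?_⟩
  · obtain ⟨V, hV⟩ := h₂.1
    exact ⟨V, hdomA V hV⟩
  · intro V V' hV hV'
    exact h₂.2.1 V V' (hdomV V hV) (hdomV V' hV')
  · intro V hV y
    obtain ⟨x, hx⟩ := h₂.2.2 V (hdomV V hV) y
    obtain ⟨a, ha⟩ := h₁.2.2 V₁ hV₁ (residue V₁ x)
    refine ⟨a, ?_⟩
    simp only at hx ha ⊢
    rw [← hx]
    have h3 : x - RingHom.codRestrict g₁ V₁ hV₁.1 a ∈ maximalIdeal V₁ := by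
      rw [← residue_eq_zero_iff, map_sub, ha, sub_self]
    have h4 := (hdomV V hV).2 _ h3
    have h5 : (RingHom.codRestrict (f.comp V₁.subtype) V (hdomV V hV).1 x -
        RingHom.codRestrict (f.comp g₁) V hV.1 a) ∈ maximalIdeal V := by
      rw [ValuationSubring.valuation_lt_one_iff]
      have : ((RingHom.codRestrict (f.comp V₁.subtype) V (hdomV V hV).1 x -
        RingHom.codRestrict (f.comp g₁) V hV.1 a : V) : K₂) =
          (f.comp V₁.subtype) (x - RingHom.codRestrict g₁ V₁ hV₁.1 a) := by
        simp [RingHom.codRestrict]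
      rw [this]
      exact h4
    rw [← residue_eq_zero_iff, map_sub, sub_eq_zero] at h5
    exact h5.symm

end Trans

end Groth.Agent.Lib.Seat10.Epp
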