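import Groth.Agent.Lib.Seat10EppE
import Groth.Agent.Lib.Seat10ASA
import Groth.Agent.S7158

/-!
# Totally ramified Artin–Schreier extensions (Seat 10)

`exists_AS_totRam`: over a DVR `R` in characteristic `p`, an element `α''` of pole order prime to `p`
defines a totally ramified Artin–Schreier extension.
-/

set_option autoImplicit false
set_option linter.style.haveILetI false

universe u

namespace Groth.Agent.Lib.Seat10.Epp

open IsLocalRing EtRam Polynomial Groth.Agent.Lib.Seat10.ValDom

section AS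

variable (p : ℕ) [hp : Fact p.Prime] (R F : Type u) [CommRing R] [IsDomain R]
  [IsDiscreteValuationRing R] [Field F] [Algebra R F] [IsFractionRing R F] [CharP F p]

include hp in
omit [IsFractionRing R F] [Algebra R F] in
theorem exists_AS_ext (α'' : F) :
    ∃ (E : Type u) (_ : Field E) (_ : Algebra F E) (z : E),
      z ^ p - z = algebraMap F E α'' ∧ IntermediateField.adjoin F {z} = ⊤ := by
  set f : F[X] := Groth.Agent.Lib.Seat10.AS.poly p F α'' with hf
  have hfmonic : f.Monic := Groth.Agent.Lib.Seat10.AS.poly_monic p F α''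
  have hfdeg : f.natDegree = p := Groth.Agent.Lib.Seat10.AS.poly_natDegree p F α''
  have hfdeg' : f.degree ≠ 0 := by
    rw [degree_eq_natDegree hfmonic.ne_zero, hfdeg]
    exact_mod_cast hp.out.ne_zero
  obtain ⟨z₀, hz₀⟩ := IsAlgClosed.exists_aeval_eq_zero (AlgebraicClosure F) f hfdeg'
  have hint : IsIntegral F z₀ := ⟨f, hfmonic, by rw [← aeval_def]; exact hz₀⟩
  haveI hirr : Fact (Irreducible (minpoly F z₀)) := ⟨minpoly.irreducible hint⟩
  have hdvd : minpoly F z₀ ∣ f := minpoly.dvd F z₀ hz₀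
  let z : AdjoinRoot (minpoly F z₀) := AdjoinRoot.root (minpoly F z₀)
  have hzroot : aeval z f = 0 := by
    obtain ⟨g, hg⟩ := hdvd
    rw [hg, map_mul, AdjoinRoot.aeval_eq, AdjoinRoot.mk_self, zero_mul]
  have hz : z ^ p - z = algebraMap F (AdjoinRoot (minpoly F z₀)) α'' := by
    have h1 := Groth.Agent.Lib.Seat10.AS.aeval_poly p α'' z
    rw [← hf, hzroot] at h1
    exact sub_eq_zero.mp h1.symm
  have hgen : IntermediateField.adjoin F {z} = ⊤ :=
    IntermediateField.adjoin_eq_top_of_algebra F {z} (AdjoinRoot.adjoinRoot_eq_top)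
  exact ⟨AdjoinRoot (minpoly F z₀), inferInstance, inferInstance, z, hz, hgen⟩

include hp in
theorem exists_AS_totRam (ϖ : R) (hϖ : maximalIdeal R = Ideal.span {ϖ}) (α'' : F) (n' : ℕ)
    (u : Rˣ) (hn' : 0 < n') (hpn' : ¬ p ∣ n')
    (hα'' : α'' * algebraMap R F ϖ ^ n' = algebraMap R F (u : R)) :
    ∃ (E : Type u) (_ : Field E) (_ : Algebra F E), FiniteDimensional F E ∧
      Algebra.IsSeparable F E ∧
      IsTotallyRamified R ((algebraMap F E).comp (algebraMap R F)) ∧
      ∃ z : E, z ^ p - z = algebraMap F E α'' := by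
  obtain ⟨E, fE, aFE, z, hz, hgen⟩ := exists_AS_ext p F α''
  letI algRE : Algebra R E := ((algebraMap F E).comp (algebraMap R F)).toAlgebra
  haveI : IsScalarTower R F E := IsScalarTower.of_algebraMap_eq (fun _ => rfl)
  obtain ⟨hgal, -, -, hB, -⟩ := Groth.Agent.S7158.result p hp.out R F E ϖ hϖ α'' z hz hgen
  obtain ⟨htot, hfin⟩ := hB n' u hn' hpn' hα''
  haveI : FiniteDimensional F E :=
    Module.finite_of_finrank_pos (by rw [hfin]; exact hp.out.pos)
  exact ⟨E, fE, aFE, inferInstance, inferInstance, htot, z, hz⟩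

end AS

end Groth.Agent.Lib.Seat10.Epp
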