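import Groth.Agent.Lib.Seat10TowerH

/-!
# Totally ramified extensions: the powers of a uniformizer span (Seat 10)

`isIntegral_of_mem_of_unique`: if `V₁` is the only valuation subring of `K₁` dominating the DVR
`A` then `V₁` is the integral closure of `A`.  `exists_expansion`, `span_pow_uniformizer`: if
moreover `K₁/K` is finite separable, the residue field of `V₁` is generated by `A` and
`π₁^e ∈ π V₁`, then `1, π₁, …, π₁^(e-1)` span `K₁` over `K` (Nakayama).
-/

set_option autoImplicit false

universe u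

namespace Groth.Agent.Lib.Seat10.Tower

open EtRam IsLocalRing Groth.Agent.Lib.Seat10.ValDom

section TotRam

variable (A K : Type u) {K₁ : Type u} [CommRing A] [IsDomain A] [IsDiscreteValuationRing A]
  [Field K] [Algebra A K] [IsFractionRing A K] [Field K₁] [Algebra K K₁] [FiniteDimensional K K₁]

/-- if `V₁` is the only valuation subring of `K₁` dominating `A`, its elements are integral over
`A` -/
theorem isIntegral_of_mem_of_unique [Algebra A K₁] [IsScalarTower A K K₁]
    (V₁ : ValuationSubring K₁)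
    (huniq : ∀ V' : ValuationSubring K₁, Dominates A (algebraMap A K₁) V' → V' = V₁)
    {v : K₁} (hv : v ∈ V₁) : IsIntegral A v := by
  by_contra hnot
  have hvR : v ∉ (integralClosure A K₁).toSubring := hnot
  obtain ⟨V', hle, hvV'⟩ := Subring.exists_le_valuationSubring_of_isIntegrallyClosedIn hvR
  have hinjAK₁ : Function.Injective (algebraMap A K₁) := by
    rw [IsScalarTower.algebraMap_eq A K K₁]
    exact (algebraMap K K₁).injective.comp (IsFractionRing.injective A K)
  obtain ⟨π, hπ⟩ := IsDiscreteValuationRing.exists_irreducible A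
  have hAV' : ∀ a : A, algebraMap A K₁ a ∈ V' := fun a =>
    hle ((integralClosure A K₁).algebraMap_mem a)
  have hπ0 : algebraMap A K₁ π ≠ 0 := fun h0 => hπ.ne_zero (hinjAK₁ (by rw [h0, map_zero]))
  have hπlt : V'.valuation (algebraMap A K₁ π) < 1 := by
    by_contra hge
    have h1 : V'.valuation (algebraMap A K₁ π) = 1 :=
      le_antisymm ((V'.valuation_le_one_iff _).mpr (hAV' π)) (not_lt.mp hge)
    have hinv : (algebraMap A K₁ π)⁻¹ ∈ V' := by
      rw [← V'.valuation_le_one_iff, map_inv₀, h1, inv_one]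
    -- then every element of `K₁` lies in `V'`
    apply hvV'
    have halg : IsAlgebraic A v :=
      (IsFractionRing.isAlgebraic_iff A K K₁).mpr (Algebra.IsAlgebraic.isAlgebraic v)
    obtain ⟨a, ha0, haint⟩ := halg.exists_integral_multiple
    have hav : a • v ∈ V' := hle haint
    obtain ⟨n, w, hw⟩ := IsDiscreteValuationRing.eq_unit_mul_pow_irreducible ha0 hπ
    have hainv : (algebraMap A K₁ a)⁻¹ ∈ V' := by
      rw [hw, map_mul, map_pow, mul_inv, ← inv_pow]
      refine mul_mem ?_ (pow_mem hinv n)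
      have : (algebraMap A K₁ (w : A))⁻¹ = algebraMap A K₁ ((w⁻¹ : Aˣ) : A) := by
        symm
        apply eq_inv_of_mul_eq_one_left
        rw [← map_mul, Units.inv_mul, map_one]
      rw [this]
      exact hAV' _
    have ha0' : algebraMap A K₁ a ≠ 0 := fun h0 => ha0 (hinjAK₁ (by rw [h0, map_zero]))
    have : v = (algebraMap A K₁ a)⁻¹ * (a • v) := by
      rw [Algebra.smul_def, ← mul_assoc, inv_mul_cancel₀ ha0', one_mul]
    rw [this]
    exact mul_mem hainv hav
  have hdom' : Dominates A (algebraMap A K₁) V' := by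
    refine ⟨hAV', fun a ha => ?_⟩
    rw [hπ.maximalIdeal_eq, Ideal.mem_span_singleton'] at ha
    obtain ⟨c, rfl⟩ := ha
    rw [map_mul, map_mul]
    calc V'.valuation (algebraMap A K₁ c) * V'.valuation (algebraMap A K₁ π)
        ≤ 1 * V'.valuation (algebraMap A K₁ π) :=
          mul_le_mul_left ((V'.valuation_le_one_iff _).mpr (hAV' c)) _
      _ < 1 := by rw [one_mul]; exact hπlt
  exact hvV' (huniq V' hdom' ▸ hv)

omit [IsDomain A] [IsDiscreteValuationRing A] in
/-- expansion of elements of `V₁` in powers of a uniformizer with coefficients in `A`, when the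
residue field of `V₁` is generated by `A` -/
theorem exists_expansion [Algebra A K₁] (V₁ : ValuationSubring K₁)
    (hres : ∀ v : K₁, v ∈ V₁ → ∃ a : A, V₁.valuation (v - algebraMap A K₁ a) < 1)
    (p₁ : K₁)
    (hmax : ∀ v : K₁, v ∈ V₁ → V₁.valuation v < 1 → ∃ c ∈ V₁, v = p₁ * c) (k : ℕ) :
    ∀ v : K₁, v ∈ V₁ → ∃ (a : Fin k → A) (v' : K₁), v' ∈ V₁ ∧
      v = ∑ i, algebraMap A K₁ (a i) * p₁ ^ (i : ℕ) + p₁ ^ k * v' := by
  induction k with
  | zero =>
    intro v hv
    exact ⟨Fin.elim0, v, hv, by simp⟩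
  | succ k ih =>
    intro v hv
    obtain ⟨a, v', hv', hv_eq⟩ := ih v hv
    obtain ⟨ak, hak⟩ := hres v' hv'
    have hmem : v' - algebraMap A K₁ ak ∈ V₁ := (V₁.valuation_le_one_iff _).mp hak.le
    obtain ⟨c, hc, hceq⟩ := hmax _ hmem hak
    refine ⟨Fin.snoc a ak, c, hc, ?_⟩
    rw [Fin.sum_univ_castSucc]
    simp only [Fin.snoc_castSucc, Fin.snoc_last, Fin.val_castSucc, Fin.val_last]
    rw [hv_eq]
    have : v' = algebraMap A K₁ ak + p₁ * c := by rw [← hceq]; ring
    rw [this]
    ring

variable [Algebra.IsSeparable K K₁]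

theorem span_pow_uniformizer [Algebra A K₁] [IsScalarTower A K K₁]
    (V₁ : ValuationSubring K₁) (hdom : Dominates A (algebraMap A K₁) V₁)
    (huniq : ∀ V' : ValuationSubring K₁, Dominates A (algebraMap A K₁) V' → V' = V₁)
    (hres : ∀ v : K₁, v ∈ V₁ → ∃ a : A, V₁.valuation (v - algebraMap A K₁ a) < 1)
    (π : A) (hπ : Irreducible π) (p₁ : K₁)
    (hmax : ∀ v : K₁, v ∈ V₁ → V₁.valuation v < 1 → ∃ c ∈ V₁, v = p₁ * c)
    (e : ℕ) (u : K₁) (hu : u ∈ V₁) (hπe : p₁ ^ e = algebraMap A K₁ π * u) :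
    ∀ x : K₁, ∃ c : Fin e → K, x = ∑ i, algebraMap K K₁ (c i) * p₁ ^ (i : ℕ) := by
  -- integral elements lie in `V₁`
  have hintV : ∀ x : K₁, IsIntegral A x → x ∈ V₁ := by
    intro x hx
    have hxV : IsIntegral V₁ x :=
      IsIntegral.map_of_comp_eq (toVal hdom) (RingHom.id K₁) (by ext; rfl) hx
    obtain ⟨z, hz⟩ := IsIntegrallyClosed.algebraMap_eq_of_integral hxV
    rw [← hz]
    exact z.2
  have hVint : ∀ x : K₁, x ∈ V₁ → IsIntegral A x := fun x hx =>
    isIntegral_of_mem_of_unique A K V₁ huniq hx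
  let S : Submodule A K₁ := (integralClosure A K₁).toSubmodule
  let N : Submodule A K₁ := Submodule.span A (Set.range fun i : Fin e => p₁ ^ (i : ℕ))
  have hfin : Module.Finite A (integralClosure A K₁) :=
    IsIntegralClosure.finite A K K₁ (integralClosure A K₁)
  have hSfg : S.FG := Module.Finite.iff_fg.mp hfin
  have hle : S ≤ N ⊔ (maximalIdeal A) • S := by
    intro x hx
    have hxV : x ∈ V₁ := hintV x hx
    obtain ⟨a, v', hv', hxeq⟩ := exists_expansion A V₁ hres p₁ hmax e x hxV
    rw [hxeq]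
    refine Submodule.add_mem_sup ?_ ?_
    · refine Submodule.sum_mem _ fun i _ => ?_
      rw [← Algebra.smul_def]
      exact Submodule.smul_mem _ _ (Submodule.subset_span ⟨i, rfl⟩)
    · rw [hπe, mul_assoc, ← Algebra.smul_def]
      refine Submodule.smul_mem_smul ?_ (hVint _ (mul_mem hu hv'))
      rw [IsLocalRing.mem_maximalIdeal]
      exact hπ.not_isUnit
  have hSN : S ≤ N := Submodule.le_of_le_smul_of_le_jacobson_bot hSfg
    (IsLocalRing.maximalIdeal_le_jacobson _) hle
  intro x
  have halg : IsAlgebraic A x :=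
    (IsFractionRing.isAlgebraic_iff A K K₁).mpr (Algebra.IsAlgebraic.isAlgebraic x)
  obtain ⟨a, ha0, haint⟩ := halg.exists_integral_multiple
  have hmemN : a • x ∈ N := hSN haint
  obtain ⟨c, hc⟩ := (Submodule.mem_span_range_iff_exists_fun A).mp hmemN
  have haK : algebraMap A K a ≠ 0 := fun h0 =>
    ha0 (IsFractionRing.injective A K (by rw [h0, map_zero]))
  have haK₁ : algebraMap A K₁ a ≠ 0 := by
    rw [IsScalarTower.algebraMap_apply A K K₁]
    exact fun h0 => haK ((map_eq_zero _).mp h0)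
  refine ⟨fun i => algebraMap A K (c i) / algebraMap A K a, ?_⟩
  have h1 : x = (algebraMap A K₁ a)⁻¹ * (a • x) := by
    rw [Algebra.smul_def, ← mul_assoc, inv_mul_cancel₀ haK₁, one_mul]
  rw [h1, ← hc, Finset.mul_sum]
  refine Finset.sum_congr rfl fun i _ => ?_
  rw [map_div₀, ← IsScalarTower.algebraMap_apply A K K₁, ← IsScalarTower.algebraMap_apply A K K₁,
    Algebra.smul_def]
  field_simp

end TotRam

end Groth.Agent.Lib.Seat10.Tower
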