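import Mathlib

/-!
# The Eisenstein polynomial `X^q - π^n X - π` over a discrete valuation ring

Polynomial facts: monic of degree `q`, irreducible (Eisenstein), separable over the fraction field.
-/

set_option linter.style.haveILetI false
set_option linter.unusedSectionVars false

universe u

namespace Groth.Agent.Lib.Seat86.EisRam

open Polynomial IsLocalRing

variable {A : Type u} [CommRing A]

/-- The polynomial `X^q - (π^n X + π)`. -/
noncomputable def pol (π : A) (n q : ℕ) : A[X] := X ^ q - (C (π ^ n) * X + C π)

section

variable [Nontrivial A] (π : A) (n q : ℕ) (hq : 2 ≤ q)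

include hq in
theorem degree_tail_lt : degree (C (π ^ n) * X + C π : A[X]) < (q : WithBot ℕ) := by
  have h1 : degree (C (π ^ n) * X + C π : A[X]) ≤ 1 := by
    refine (degree_add_le _ _).trans (max_le ?_ ?_)
    · exact (degree_C_mul_X_le _)
    · exact degree_C_le.trans (by norm_num)
  refine lt_of_le_of_lt h1 ?_
  exact_mod_cast hq

include hq in
theorem pol_monic : (pol π n q).Monic := monic_X_pow_sub (degree_tail_lt π n q hq)

include hq in
theorem pol_natDegree : (pol π n q).natDegree = q := by
  unfold pol
  rw [natDegree_sub_eq_left_of_natDegree_lt, natDegree_X_pow]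
  rw [natDegree_X_pow]
  have := degree_tail_lt π n q hq
  by_cases h0 : (C (π ^ n) * X + C π : A[X]) = 0
  · rw [h0, natDegree_zero]; omega
  · exact (natDegree_lt_iff_degree_lt h0).mpr this

include hq in
theorem pol_coeff_zero : (pol π n q).coeff 0 = -π := by
  unfold pol
  simp [coeff_X_pow]
  omega

theorem pol_coeff_of_lt (hn : 1 ≤ n) (i : ℕ) (hi : i < q) :
    (pol π n q).coeff i ∈ Ideal.span {π} := by
  unfold pol
  rw [coeff_sub, coeff_X_pow, if_neg hi.ne, zero_sub, Ideal.neg_mem_iff, coeff_add, coeff_C_mul,
    coeff_X, coeff_C]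
  refine Ideal.add_mem _ ?_ ?_
  · split_ifs
    · rw [mul_one]
      exact Ideal.pow_mem_of_mem _ (Ideal.mem_span_singleton_self π) n (by omega)
    · simp
  · split_ifs
    · exact Ideal.mem_span_singleton_self π
    · simp

end

section DVR

variable [IsDomain A] [IsDiscreteValuationRing A] (π : A) (hπ : Irreducible π) (n q : ℕ)
  (hn : 1 < n) (hq : 2 ≤ q)

include hπ hq hn in
theorem pol_irreducible : Irreducible (pol π n q) := by
  have hmonic := pol_monic π n q hq
  have hdeg := pol_natDegree π n q hq
  have hmax : maximalIdeal A = Ideal.span {π} := hπ.maximalIdeal_eq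
  refine irreducible_of_eisenstein_criterion (P := maximalIdeal A)
    (Ideal.IsMaximal.isPrime' _) ?_ ?_ ?_ ?_ hmonic.isPrimitive
  · rw [hmonic.leadingCoeff]
    exact fun h => (Ideal.ne_top_iff_one _).mp (IsLocalRing.maximalIdeal.isMaximal A).ne_top h
  · intro i hi
    rw [degree_eq_natDegree hmonic.ne_zero, hdeg] at hi
    have hi' : i < q := by exact_mod_cast hi
    rw [hmax]
    exact pol_coeff_of_lt π n q hn.le i hi'
  · rw [degree_eq_natDegree hmonic.ne_zero, hdeg]
    exact_mod_cast (by omega : 0 < q)
  · rw [pol_coeff_zero π n q hq, hmax, Ideal.span_singleton_pow, Ideal.neg_mem_iff,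
      Ideal.mem_span_singleton]
    intro hdvd
    obtain ⟨c, hc⟩ := hdvd
    have h1 : π * 1 = π * (π * c) := by rw [mul_one]; rw [← mul_assoc, ← sq]; exact hc
    have h2 : 1 = π * c := mul_left_cancel₀ hπ.ne_zero h1
    exact hπ.not_isUnit (IsUnit.of_mul_eq_one c h2.symm)

variable (K : Type u) [Field K] [Algebra A K] [IsFractionRing A K]

include hπ hq hn in
theorem pol_map_irreducible : Irreducible ((pol π n q).map (algebraMap A K)) :=
  ((pol_monic π n q hq).irreducible_iff_irreducible_map_fraction_map (K := K)).mp
    (pol_irreducible π hπ n q hn hq)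

include hπ hq hn in
theorem pol_map_separable : ((pol π n q).map (algebraMap A K)).Separable := by
  rw [separable_iff_derivative_ne_zero (pol_map_irreducible π hπ n q hn hq K)]
  intro h0
  have hder : derivative ((pol π n q).map (algebraMap A K)) =
      C (q : K) * X ^ (q - 1) - C (algebraMap A K (π ^ n)) := by
    simp only [pol, Polynomial.map_sub, Polynomial.map_pow, map_X, Polynomial.map_add,
      Polynomial.map_mul, map_C, derivative_sub, derivative_X_pow, derivative_add, derivative_mul,
      derivative_C, derivative_X, zero_mul, mul_one, zero_add, add_zero]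
  rw [hder] at h0
  have h1 := congrArg (fun f => coeff f 0) h0
  simp only [coeff_sub, coeff_C_mul, coeff_X_pow, coeff_C_zero, coeff_zero] at h1
  rw [if_neg (by omega), mul_zero, zero_sub, neg_eq_zero] at h1
  have h2 : π ^ n = 0 := (IsFractionRing.injective A K) (by rw [h1, map_zero])
  exact hπ.ne_zero (pow_eq_zero_iff (by omega) |>.mp h2)

end DVR

end Groth.Agent.Lib.Seat86.EisRam
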