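import Mathlib
import Groth.Agent.Lib.Seat86EisRamA

/-!
# The ring `A[x]/(x^q - π^n x - π)` over a discrete valuation ring `A`

It is a local domain whose maximal ideal is generated by the class of `x`; hence a valuation ring,
with residue field that of `A`.
-/

set_option linter.style.haveILetI false
set_option linter.unusedSectionVars false

universe u

namespace Groth.Agent.Lib.Seat86.EisRam

open Polynomial IsLocalRing

variable {A : Type u} [CommRing A] [IsDomain A] [IsDiscreteValuationRing A] (π : A)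
  (hπ : Irreducible π) (n q : ℕ) (hn : 1 < n) (hq : 2 ≤ q)

theorem root_pow_eq :
    (AdjoinRoot.root (pol π n q)) ^ q =
      AdjoinRoot.of (pol π n q) (π ^ n) * AdjoinRoot.root (pol π n q) + AdjoinRoot.of (pol π n q) π := by
  have h : AdjoinRoot.mk (pol π n q) (X ^ q - (C (π ^ n) * X + C π)) = 0 := AdjoinRoot.mk_self
  rw [map_sub, map_pow, map_add, map_mul, AdjoinRoot.mk_X, AdjoinRoot.mk_C, AdjoinRoot.mk_C,
    sub_eq_zero] at h
  exact h

include hπ hn hq in
theorem isDomain_adjoinRoot : IsDomain (AdjoinRoot (pol π n q)) :=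
  AdjoinRoot.isDomain_of_prime (pol_irreducible π hπ n q hn hq).prime

include hq in
theorem root_ne_zero : AdjoinRoot.root (pol π n q) ≠ 0 := by
  rw [← AdjoinRoot.mk_X]
  refine AdjoinRoot.mk_ne_zero_of_natDegree_lt (pol_monic π n q hq) X_ne_zero ?_
  rw [natDegree_X, pol_natDegree π n q hq]
  omega

include hq in
/-- `π` is a multiple of the root. -/
theorem of_pi_eq : AdjoinRoot.of (pol π n q) π =
    AdjoinRoot.root (pol π n q) *
      ((AdjoinRoot.root (pol π n q)) ^ (q - 1) - AdjoinRoot.of (pol π n q) (π ^ n)) := by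
  have h := root_pow_eq π n q
  have h2 : (AdjoinRoot.root (pol π n q)) ^ q =
      (AdjoinRoot.root (pol π n q)) ^ (q - 1) * AdjoinRoot.root (pol π n q) := by
    rw [← pow_succ, Nat.sub_add_cancel (by omega)]
  rw [h2] at h
  rw [mul_sub, mul_comm _ (_ ^ (q - 1)), h]
  ring

include hπ hq in
/-- The residue character `A[x]/(P) → A/π`, `x ↦ 0`. -/
noncomputable def chi : AdjoinRoot (pol π n q) →+* ResidueField A :=
  AdjoinRoot.lift (residue A) 0 (by
    unfold pol
    rw [eval₂_sub, eval₂_X_pow, eval₂_add, eval₂_mul, eval₂_C, eval₂_X, eval₂_C,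
      zero_pow (by omega), mul_zero, zero_add, zero_sub, neg_eq_zero, residue_eq_zero_iff,
      hπ.maximalIdeal_eq]
    exact Ideal.mem_span_singleton_self π)

theorem chi_root : chi π hπ n q hq (AdjoinRoot.root (pol π n q)) = 0 := AdjoinRoot.lift_root _

theorem chi_of (a : A) : chi π hπ n q hq (AdjoinRoot.of (pol π n q) a) = residue A a :=
  AdjoinRoot.lift_of _

theorem chi_surjective : Function.Surjective (chi π hπ n q hq) := fun y => by
  obtain ⟨a, rfl⟩ := residue_surjective y
  exact ⟨AdjoinRoot.of (pol π n q) a, chi_of π hπ n q hq a⟩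

theorem ker_chi : RingHom.ker (chi π hπ n q hq) = Ideal.span {AdjoinRoot.root (pol π n q)} := by
  apply le_antisymm
  · intro x hx
    obtain ⟨f, rfl⟩ := AdjoinRoot.mk_surjective x
    rw [RingHom.mem_ker, chi, AdjoinRoot.lift_mk, eval₂_at_zero, residue_eq_zero_iff,
      hπ.maximalIdeal_eq, Ideal.mem_span_singleton] at hx
    obtain ⟨c, hc⟩ := hx
    have hf : f = f.divX * X + C (f.coeff 0) := (divX_mul_X_add f).symm
    rw [hf, map_add, map_mul, AdjoinRoot.mk_X, AdjoinRoot.mk_C, hc, map_mul, of_pi_eq π n q hq]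
    refine Ideal.add_mem _ (Ideal.mul_mem_left _ _ (Ideal.mem_span_singleton_self _)) ?_
    exact Ideal.mul_mem_right _ _ (Ideal.mul_mem_right _ _ (Ideal.mem_span_singleton_self _))
  · rw [Ideal.span_singleton_le_iff_mem, RingHom.mem_ker]
    exact chi_root π hπ n q hq

include hπ hq in
theorem span_root_isMaximal : (Ideal.span {AdjoinRoot.root (pol π n q)}).IsMaximal := by
  rw [← ker_chi π hπ n q hq]
  exact RingHom.ker_isMaximal_of_surjective _ (chi_surjective π hπ n q hq)

include hπ hq hn in
theorem isLocalRing_adjoinRoot : IsLocalRing (AdjoinRoot (pol π n q)) := by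
  haveI : Module.Finite A (AdjoinRoot (pol π n q)) := (pol_monic π n q hq).finite_adjoinRoot
  refine IsLocalRing.of_unique_max_ideal ⟨_, span_root_isMaximal π hπ n q hq, ?_⟩
  intro M hM
  have hcomap : (M.comap (algebraMap A (AdjoinRoot (pol π n q)))).IsMaximal :=
    Ideal.isMaximal_comap_of_isIntegral_of_isMaximal M
  have hπM : algebraMap A (AdjoinRoot (pol π n q)) π ∈ M := by
    have h1 : π ∈ M.comap (algebraMap A (AdjoinRoot (pol π n q))) := by
      rw [IsLocalRing.eq_maximalIdeal hcomap, hπ.maximalIdeal_eq]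
      exact Ideal.mem_span_singleton_self π
    exact h1
  have hroot : AdjoinRoot.root (pol π n q) ∈ M := by
    have h2 : (AdjoinRoot.root (pol π n q)) ^ q ∈ M := by
      rw [root_pow_eq, ← AdjoinRoot.algebraMap_eq]
      refine Ideal.add_mem _ (Ideal.mul_mem_right _ _ ?_) hπM
      rw [map_pow]
      exact Ideal.pow_mem_of_mem _ hπM n (by omega)
    exact hM.isPrime.mem_of_pow_mem q h2
  have hle : Ideal.span {AdjoinRoot.root (pol π n q)} ≤ M :=
    (Ideal.span_singleton_le_iff_mem _).mpr hroot
  exact ((span_root_isMaximal π hπ n q hq).eq_of_le hM.ne_top hle).symm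

include hπ hq hn in
/-- `A[x]/(P)` is a local domain and a valuation ring with maximal ideal `(x)`. -/
theorem structure_adjoinRoot :
    ∃ (_ : IsDomain (AdjoinRoot (pol π n q))) (_ : IsLocalRing (AdjoinRoot (pol π n q))),
      ValuationRing (AdjoinRoot (pol π n q)) ∧
      maximalIdeal (AdjoinRoot (pol π n q)) = Ideal.span {AdjoinRoot.root (pol π n q)} := by
  haveI := isDomain_adjoinRoot π hπ n q hn hq
  haveI := isLocalRing_adjoinRoot π hπ n q hn hq
  have hmax : maximalIdeal (AdjoinRoot (pol π n q)) = Ideal.span {AdjoinRoot.root (pol π n q)} :=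
    (IsLocalRing.eq_maximalIdeal (span_root_isMaximal π hπ n q hq)).symm
  refine ⟨inferInstance, inferInstance, ?_, hmax⟩
  have hnf : ¬ IsField (AdjoinRoot (pol π n q)) := by
    rw [Ring.not_isField_iff_exists_ideal_bot_lt_and_lt_top]
    refine ⟨Ideal.span {AdjoinRoot.root (pol π n q)}, bot_lt_iff_ne_bot.mpr ?_,
      lt_top_iff_ne_top.mpr (span_root_isMaximal π hπ n q hq).ne_top⟩
    rw [Ne, Ideal.span_singleton_eq_bot]
    exact root_ne_zero π n q hq
  have hprinc : (maximalIdeal (AdjoinRoot (pol π n q))).IsPrincipal := by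
    rw [hmax]
    exact ⟨⟨AdjoinRoot.root (pol π n q), rfl⟩⟩
  exact ((IsDiscreteValuationRing.TFAE (AdjoinRoot (pol π n q)) hnf).out 4 1).mp hprinc

include hπ hq in
/-- Every element is congruent to a constant modulo `(x)`. -/
theorem exists_sub_mem_span_root (b : AdjoinRoot (pol π n q)) :
    ∃ a : A, b - algebraMap A (AdjoinRoot (pol π n q)) a ∈
      Ideal.span {AdjoinRoot.root (pol π n q)} := by
  obtain ⟨a, ha⟩ := residue_surjective (chi π hπ n q hq b)
  refine ⟨a, ?_⟩
  rw [← ker_chi π hπ n q hq, RingHom.mem_ker, map_sub, AdjoinRoot.algebraMap_eq, chi_of, ha,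
    sub_self]

include hπ hq in
theorem isLocalHom_algebraMap [IsLocalRing (AdjoinRoot (pol π n q))] :
    IsLocalHom (algebraMap A (AdjoinRoot (pol π n q))) := by
  refine ⟨fun a ha => ?_⟩
  have h1 : IsUnit (chi π hπ n q hq (algebraMap A (AdjoinRoot (pol π n q)) a)) :=
    ha.map (chi π hπ n q hq)
  rw [AdjoinRoot.algebraMap_eq, chi_of] at h1
  by_contra hna
  have : residue A a = 0 := (residue_eq_zero_iff a).mpr ((mem_maximalIdeal a).mpr hna)
  rw [this] at h1
  exact not_isUnit_zero h1

end Groth.Agent.Lib.Seat86.EisRam
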