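import Mathlib
import Groth.Prelude.Def_EtRam

/-!
# A criterion for total ramification in the sense of `EtRam.IsTotallyRamified`

`isTotallyRamified_of_valuationRing`: let `A` be a local ring, `B₀` a valuation ring with fraction
field `L`, integral over `A` via a local homomorphism, such that every element of `B₀` is congruent
to an element of `A` modulo the maximal ideal. Then `A → L` is totally ramified: `B₀` is the unique
valuation subring of `L` dominating `A`, and its residue field is that of `A`.
-/

set_option linter.style.haveILetI false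

universe u

namespace Groth.Agent.Lib.Seat86.TotRam

open IsLocalRing

section

variable (A : Type u) [CommRing A] [IsLocalRing A] (B₀ : Type u) [CommRing B₀] [IsDomain B₀]
  [ValuationRing B₀] (L : Type u) [Field L] [Algebra A B₀] [Algebra B₀ L] [IsFractionRing B₀ L]
  [Algebra A L] [IsScalarTower A B₀ L]

/-- The valuation subring of `L` given by the valuation ring `B₀` with fraction field `L`. -/
noncomputable def valSub : ValuationSubring L :=
  ⟨(algebraMap B₀ L).range, ValuationRing.isInteger_or_isInteger B₀⟩

theorem mem_valSub_iff (x : L) : x ∈ valSub B₀ L ↔ ∃ b : B₀, algebraMap B₀ L b = x := Iff.rfl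

omit [IsFractionRing B₀ L] in
/-- Non-units of `B₀` have valuation `< 1` in any valuation subring `V` containing the image of `A`
and dominating `A`, when `B₀` is integral over `A`. -/
theorem valuation_lt_one_of_mem_maximalIdeal [Algebra.IsIntegral A B₀] [IsLocalHom (algebraMap A B₀)]
    (V : ValuationSubring L) (hV : EtRam.Dominates A (algebraMap A L) V)
    (hBV : ∀ b : B₀, algebraMap B₀ L b ∈ V) (b : B₀) (hb : b ∈ maximalIdeal B₀) :
    V.valuation (algebraMap B₀ L b) < 1 := by
  -- the ring map `B₀ → V`
  let φ : B₀ →+* V := (algebraMap B₀ L).codRestrict V.toSubring hBV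
  let 𝔮 : Ideal B₀ := (maximalIdeal V).comap φ
  haveI : 𝔮.IsPrime := Ideal.IsPrime.comap φ
  have hcomap : 𝔮.comap (algebraMap A B₀) = maximalIdeal A := by
    apply le_antisymm
    · intro a ha
      by_contra hna
      have hu : IsUnit a := by
        by_contra h
        exact hna ((mem_maximalIdeal a).mpr h)
      have : IsUnit (φ (algebraMap A B₀ a)) := (hu.map (algebraMap A B₀)).map φ
      exact ((mem_maximalIdeal _).mp ha) this
    · intro a ha
      show φ (algebraMap A B₀ a) ∈ maximalIdeal V
      rw [ValuationSubring.valuation_lt_one_iff]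
      have := hV.2 a ha
      convert this using 2
      show algebraMap B₀ L (algebraMap A B₀ a) = algebraMap A L a
      rw [← IsScalarTower.algebraMap_apply]
  have hmax : 𝔮.IsMaximal :=
    Ideal.isMaximal_of_isIntegral_of_isMaximal_comap 𝔮 (by rw [hcomap]; infer_instance)
  have h𝔮 : 𝔮 = maximalIdeal B₀ := IsLocalRing.eq_maximalIdeal hmax
  have hb' : b ∈ 𝔮 := h𝔮 ▸ hb
  have : φ b ∈ maximalIdeal V := hb'
  rw [ValuationSubring.valuation_lt_one_iff] at this
  exact this

/-- The criterion for total ramification. -/
theorem isTotallyRamified_of_valuationRing [Algebra.IsIntegral A B₀] [IsLocalHom (algebraMap A B₀)]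
    (hres : ∀ b : B₀, ∃ a : A, b - algebraMap A B₀ a ∈ maximalIdeal B₀) :
    EtRam.IsTotallyRamified A (algebraMap A L) := by
  -- any dominating valuation subring contains `B₀`
  have hcontains : ∀ V : ValuationSubring L, EtRam.Dominates A (algebraMap A L) V →
      ∀ b : B₀, algebraMap B₀ L b ∈ V := by
    intro V hV b
    have hint : IsIntegral A b := Algebra.IsIntegral.isIntegral b
    obtain ⟨f, hmonic, hroot⟩ := hint
    have hmax : IsMax V.toLocalSubring := V.isMax_toLocalSubring
    refine LocalSubring.mem_of_isMax_of_isIntegral hmax ?_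
    refine ⟨f.map ((algebraMap A L).codRestrict V.toSubring hV.1), hmonic.map _, ?_⟩
    rw [Polynomial.eval₂_map]
    have h1 : (algebraMap (↥V.toLocalSubring.toSubring) L).comp
        ((algebraMap A L).codRestrict V.toSubring hV.1) = (algebraMap B₀ L).comp (algebraMap A B₀) := by
      ext a
      simp [← IsScalarTower.algebraMap_apply]
      rfl
    rw [h1, ← Polynomial.hom_eval₂, hroot, map_zero]
  -- `V₀` dominates
  have hV₀ : EtRam.Dominates A (algebraMap A L) (valSub B₀ L) := by
    refine ⟨fun a => ⟨algebraMap A B₀ a, (IsScalarTower.algebraMap_apply A B₀ L a).symm⟩, ?_⟩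
    intro a ha
    rw [← ValuationSubring.mem_nonunits_iff, ValuationSubring.mem_nonunits_iff_or]
    by_cases h0 : algebraMap A L a = 0
    · exact Or.inl h0
    · right
      rintro ⟨b, hb⟩
      have h1 : algebraMap B₀ L (algebraMap A B₀ a * b) = 1 := by
        rw [map_mul, hb, ← IsScalarTower.algebraMap_apply, mul_inv_cancel₀ h0]
      have h2 : algebraMap A B₀ a * b = 1 :=
        (IsFractionRing.injective B₀ L) (by rw [h1, map_one])
      have h3 : IsUnit (algebraMap A B₀ a) := IsUnit.of_mul_eq_one b h2
      exact ((mem_maximalIdeal a).mp ha) (IsUnit.of_map (algebraMap A B₀) a h3)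
  -- any dominating valuation subring equals `V₀`
  have huniq : ∀ V : ValuationSubring L, EtRam.Dominates A (algebraMap A L) V → V = valSub B₀ L := by
    intro V hV
    apply le_antisymm
    · intro x hx
      by_contra hx0
      have hinv : x⁻¹ ∈ valSub B₀ L := ((valSub B₀ L).mem_or_inv_mem x).resolve_left hx0
      obtain ⟨b, hb⟩ := hinv
      have hbm : b ∈ maximalIdeal B₀ := by
        rw [mem_maximalIdeal]
        intro hu
        apply hx0
        obtain ⟨u, rfl⟩ := hu
        refine ⟨((u⁻¹ : B₀ˣ) : B₀), ?_⟩
        have h1 : algebraMap B₀ L (u : B₀) * algebraMap B₀ L ((u⁻¹ : B₀ˣ) : B₀) = 1 := by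
          rw [← map_mul, Units.mul_inv, map_one]
        rw [hb] at h1
        have hx1 : x ≠ 0 := by
          intro h
          rw [h, inv_zero, zero_mul] at h1
          exact zero_ne_one h1
        field_simp at h1
        exact h1
      have hlt := valuation_lt_one_of_mem_maximalIdeal A B₀ L V hV (hcontains V hV) b hbm
      rw [hb] at hlt
      have hle : V.valuation x ≤ 1 := (V.valuation_le_one_iff x).mpr hx
      have hx1 : x ≠ 0 := by
        intro h
        apply hx0
        rw [h]
        exact (valSub B₀ L).zero_mem
      have : V.valuation (x⁻¹ * x) < 1 := by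
        rw [map_mul]
        calc V.valuation x⁻¹ * V.valuation x ≤ V.valuation x⁻¹ * 1 := by gcongr
          _ = V.valuation x⁻¹ := mul_one _
          _ < 1 := hlt
      rw [inv_mul_cancel₀ hx1, map_one] at this
      exact lt_irrefl _ this
    · rintro x ⟨b, rfl⟩
      exact hcontains V hV b
  refine ⟨⟨valSub B₀ L, hV₀⟩, ?_, ?_⟩
  · intro V V' hV hV'
    rw [huniq V hV, huniq V' hV']
  · intro V hV y
    obtain ⟨x, rfl⟩ := IsLocalRing.residue_surjective y
    have hxV₀ : (x : L) ∈ valSub B₀ L := huniq V hV ▸ x.2
    obtain ⟨b, hb⟩ := hxV₀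
    obtain ⟨a, ha⟩ := hres b
    refine ⟨a, ?_⟩
    show IsLocalRing.residue V _ = IsLocalRing.residue V x
    rw [eq_comm, ← sub_eq_zero, ← map_sub, IsLocalRing.residue_eq_zero_iff,
      ValuationSubring.valuation_lt_one_iff]
    have hlt := valuation_lt_one_of_mem_maximalIdeal A B₀ L V hV (hcontains V hV) _ ha
    convert hlt using 2
    simp [hb, ← IsScalarTower.algebraMap_apply]

end

end Groth.Agent.Lib.Seat86.TotRam
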