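import Mathlib
import Groth.Agent.Lib.Seat86EisRamA
import Groth.Agent.Lib.Seat86EisRamB
import Groth.Agent.Lib.Seat86TotRam

/-!
# The fraction field of `A[x]/(x^q - π^n x - π)`

`K[x]/(P)` is a fraction field of `A[x]/(P)`, of degree `q` and separable over `K`.
-/

set_option linter.style.haveILetI false
set_option linter.unusedSectionVars false

universe u

namespace Groth.Agent.Lib.Seat86.EisRam

open Polynomial IsLocalRing

variable {A : Type u} [CommRing A] [IsDomain A] [IsDiscreteValuationRing A] (π : A)
  (hπ : Irreducible π) (n q : ℕ) (hn : 1 < n) (hq : 2 ≤ q)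
  (K : Type u) [Field K] [Algebra A K] [IsFractionRing A K]

/-- The comparison map `A[x]/(P) → K[x]/(P)`. -/
noncomputable def psi :
    AdjoinRoot (pol π n q) →+* AdjoinRoot ((pol π n q).map (algebraMap A K)) :=
  AdjoinRoot.lift ((AdjoinRoot.of _).comp (algebraMap A K)) (AdjoinRoot.root _) (by
    rw [← eval₂_map]; exact AdjoinRoot.eval₂_root _)

theorem psi_of (a : A) : psi π n q K (AdjoinRoot.of _ a) = AdjoinRoot.of _ (algebraMap A K a) :=
  AdjoinRoot.lift_of _

theorem psi_root : psi π n q K (AdjoinRoot.root _) = AdjoinRoot.root _ := AdjoinRoot.lift_root _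

theorem psi_mk (f : A[X]) : psi π n q K (AdjoinRoot.mk _ f) =
    AdjoinRoot.mk _ (f.map (algebraMap A K)) := by
  induction f using Polynomial.induction_on' with
  | add f g hf hg => rw [map_add, map_add, hf, hg, Polynomial.map_add, map_add]
  | monomial i a =>
    rw [← C_mul_X_pow_eq_monomial, map_mul, map_pow, AdjoinRoot.mk_C, AdjoinRoot.mk_X, map_mul,
      map_pow, psi_of, psi_root, Polynomial.map_mul, Polynomial.map_pow, map_C, map_X, map_mul,
      map_pow, AdjoinRoot.mk_C, AdjoinRoot.mk_X]

include hπ hn hq in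
theorem psi_injective : Function.Injective (psi π n q K) := by
  haveI := isDomain_adjoinRoot π hπ n q hn hq
  haveI : Module.Finite A (AdjoinRoot (pol π n q)) := (pol_monic π n q hq).finite_adjoinRoot
  haveI : Fact (Irreducible ((pol π n q).map (algebraMap A K))) :=
    ⟨pol_map_irreducible π hπ n q hn hq K⟩
  rw [RingHom.injective_iff_ker_eq_bot]
  apply Ideal.eq_bot_of_comap_eq_bot (R := A)
  rw [eq_bot_iff]
  intro a ha
  rw [Ideal.mem_comap, RingHom.mem_ker, AdjoinRoot.algebraMap_eq, psi_of] at ha
  have h1 : algebraMap A K a = 0 := by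
    apply (AdjoinRoot.of ((pol π n q).map (algebraMap A K))).injective
    rw [ha, map_zero]
  exact (IsFractionRing.injective A K) (by rw [h1, map_zero])

include hπ hn hq in
/-- The totally ramified separable extension of degree `q` defined by `x^q - π^n x - π`. -/
theorem exists_totally_ramified :
    ∃ (L : Type u) (_ : Field L) (_ : Algebra K L) (_ : Algebra A L) (_ : IsScalarTower A K L),
      Module.finrank K L = q ∧ Algebra.IsSeparable K L ∧
      EtRam.IsTotallyRamified A (algebraMap A L) ∧
      ∃ πB b b' : L, πB ∈ integralClosure A L ∧ b ∈ integralClosure A L ∧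
        b' ∈ integralClosure A L ∧
        πB ^ q = algebraMap A L π + algebraMap A L π ^ n * b ∧
        πB ^ q = algebraMap A L π + πB ^ (n * q) * b' := by
  have hirrK := pol_map_irreducible π hπ n q hn hq K
  haveI : Fact (Irreducible ((pol π n q).map (algebraMap A K))) := ⟨hirrK⟩
  have hmonic := pol_monic π n q hq
  have hne : (pol π n q).map (algebraMap A K) ≠ 0 := hirrK.ne_zero
  obtain ⟨hdom, hloc, hval, hmax⟩ := structure_adjoinRoot π hπ n q hn hq
  haveI := hdom
  haveI := hloc
  haveI := hval
  haveI : Module.Finite A (AdjoinRoot (pol π n q)) := hmonic.finite_adjoinRoot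
  letI : Algebra (AdjoinRoot (pol π n q)) (AdjoinRoot ((pol π n q).map (algebraMap A K))) :=
    (psi π n q K).toAlgebra
  have halg : ∀ x, algebraMap (AdjoinRoot (pol π n q))
      (AdjoinRoot ((pol π n q).map (algebraMap A K))) x = psi π n q K x := fun _ => rfl
  haveI : IsScalarTower A (AdjoinRoot (pol π n q))
      (AdjoinRoot ((pol π n q).map (algebraMap A K))) :=
    IsScalarTower.of_algebraMap_eq (fun a => by
      rw [halg, AdjoinRoot.algebraMap_eq, psi_of, AdjoinRoot.algebraMap_eq']
      rfl)
  haveI : FaithfulSMul (AdjoinRoot (pol π n q))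
      (AdjoinRoot ((pol π n q).map (algebraMap A K))) :=
    (faithfulSMul_iff_algebraMap_injective _ _).mpr (psi_injective π hπ n q hn hq K)
  haveI : IsFractionRing (AdjoinRoot (pol π n q))
      (AdjoinRoot ((pol π n q).map (algebraMap A K))) := by
    refine IsFractionRing.of_field _ _ (fun z => ?_)
    obtain ⟨g, rfl⟩ := AdjoinRoot.mk_surjective z
    obtain ⟨b, hb, hspec⟩ := IsLocalization.integerNormalization_spec (nonZeroDivisors A) g
    refine ⟨AdjoinRoot.mk _ (IsLocalization.integerNormalization (nonZeroDivisors A) g),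
      AdjoinRoot.of _ b, ?_⟩
    rw [halg, halg, psi_mk, hspec, psi_of]
    have hb0 : AdjoinRoot.of ((pol π n q).map (algebraMap A K)) (algebraMap A K b) ≠ 0 := by
      intro h0
      have h1 : algebraMap A K b = 0 :=
        (AdjoinRoot.of ((pol π n q).map (algebraMap A K))).injective (by rw [h0, map_zero])
      have h2 : b = 0 := (IsFractionRing.injective A K) (by rw [h1, map_zero])
      exact (nonZeroDivisors.ne_zero hb) h2
    rw [eq_div_iff hb0, Algebra.smul_def, map_mul, mul_comm]
    congr 1
  haveI : IsLocalHom (algebraMap A (AdjoinRoot (pol π n q))) := isLocalHom_algebraMap π hπ n q hq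
  have hres : ∀ b : AdjoinRoot (pol π n q), ∃ a : A,
      b - algebraMap A (AdjoinRoot (pol π n q)) a ∈ maximalIdeal (AdjoinRoot (pol π n q)) := by
    intro b
    rw [hmax]
    exact exists_sub_mem_span_root π hπ n q hq b
  have hTR := Groth.Agent.Lib.Seat86.TotRam.isTotallyRamified_of_valuationRing A
    (AdjoinRoot (pol π n q)) (AdjoinRoot ((pol π n q).map (algebraMap A K))) hres
  refine ⟨AdjoinRoot ((pol π n q).map (algebraMap A K)), inferInstance, inferInstance,
    inferInstance, inferInstance, ?_, ?_, hTR, ?_⟩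
  · rw [(AdjoinRoot.powerBasis hne).finrank, AdjoinRoot.powerBasis_dim, hmonic.natDegree_map,
      pol_natDegree π n q hq]
  · have hsep : IsSeparable K (AdjoinRoot.root ((pol π n q).map (algebraMap A K))) := by
      rw [IsSeparable, AdjoinRoot.minpoly_root hne, (hmonic.map _).leadingCoeff, inv_one, C_1,
        mul_one]
      exact pol_map_separable π hπ n q hn hq K
    rw [← separableClosure.eq_top_iff, eq_top_iff,
      ← IntermediateField.adjoin_eq_top_of_algebra K _
        (AdjoinRoot.adjoinRoot_eq_top (f := (pol π n q).map (algebraMap A K))),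
      IntermediateField.adjoin_simple_le_iff]
    exact mem_separableClosure_iff.mpr hsep
  · set α := AdjoinRoot.root (pol π n q) with hα
    set u : AdjoinRoot (pol π n q) := 1 + AdjoinRoot.of _ (π ^ (n - 1)) * α with hu_def
    have hu : IsUnit u := by
      by_contra hnu
      have h1 : u ∈ maximalIdeal (AdjoinRoot (pol π n q)) := (mem_maximalIdeal u).mpr hnu
      have h2 : AdjoinRoot.of _ (π ^ (n - 1)) * α ∈ maximalIdeal (AdjoinRoot (pol π n q)) := by
        rw [hmax]
        exact Ideal.mul_mem_left _ _ (Ideal.mem_span_singleton_self _)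
      have h3 : (1 : AdjoinRoot (pol π n q)) ∈ maximalIdeal (AdjoinRoot (pol π n q)) := by
        have := Ideal.sub_mem _ h1 h2
        simp [hu_def] at this
      exact (Ideal.ne_top_iff_one _).mp (IsLocalRing.maximalIdeal.isMaximal _).ne_top h3
    obtain ⟨v, hv⟩ := hu
    have hroot : α ^ q = AdjoinRoot.of _ (π ^ n) * α + AdjoinRoot.of _ π := root_pow_eq π n q
    have hπn : π ^ n = π * π ^ (n - 1) := by rw [← pow_succ', Nat.sub_add_cancel (by omega)]
    have h4 : α ^ q = AdjoinRoot.of _ π * u := by
      rw [hroot, hu_def, hπn, map_mul]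
      ring
    have h5 : AdjoinRoot.of (pol π n q) π = α ^ q * ((v⁻¹ : (AdjoinRoot (pol π n q))ˣ) :
        AdjoinRoot (pol π n q)) := by
      rw [h4, ← hv, mul_assoc, Units.mul_inv, mul_one]
    have h6 : α ^ q = AdjoinRoot.of _ π + α ^ (n * q) *
        (((v⁻¹ : (AdjoinRoot (pol π n q))ˣ) : AdjoinRoot (pol π n q)) ^ n * α) := by
      have h7 : AdjoinRoot.of (pol π n q) (π ^ n) * α = α ^ (n * q) *
          (((v⁻¹ : (AdjoinRoot (pol π n q))ˣ) : AdjoinRoot (pol π n q)) ^ n * α) := by
        rw [map_pow, h5, mul_pow, ← pow_mul, mul_comm q n]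
        ring
      rw [← h7, add_comm]
      exact hroot
    have hof : ∀ x : A, algebraMap (AdjoinRoot (pol π n q))
        (AdjoinRoot ((pol π n q).map (algebraMap A K))) (AdjoinRoot.of _ x) =
        algebraMap A (AdjoinRoot ((pol π n q).map (algebraMap A K))) x := fun x => by
      rw [← AdjoinRoot.algebraMap_eq, ← IsScalarTower.algebraMap_apply]
    have hint : ∀ x : AdjoinRoot (pol π n q), algebraMap (AdjoinRoot (pol π n q))
        (AdjoinRoot ((pol π n q).map (algebraMap A K))) x ∈
        integralClosure A (AdjoinRoot ((pol π n q).map (algebraMap A K))) := fun x =>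
      (mem_integralClosure_iff A _).mpr (Algebra.IsIntegral.isIntegral x).algebraMap
    refine ⟨algebraMap _ _ α, algebraMap _ _ α, algebraMap _ _
      (((v⁻¹ : (AdjoinRoot (pol π n q))ˣ) : AdjoinRoot (pol π n q)) ^ n * α),
      hint _, hint _, hint _, ?_, ?_⟩
    · have := congrArg (algebraMap (AdjoinRoot (pol π n q))
        (AdjoinRoot ((pol π n q).map (algebraMap A K)))) hroot
      rw [map_pow, map_add, map_mul, hof, hof, map_pow] at this
      rw [this, add_comm]
    · have := congrArg (algebraMap (AdjoinRoot (pol π n q))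
        (AdjoinRoot ((pol π n q).map (algebraMap A K)))) h6
      rw [map_pow, map_add, map_mul, hof, map_pow] at this
      exact this

end Groth.Agent.Lib.Seat86.EisRam
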