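import Groth.Agent.Lib.Seat10EppF
import Groth.Agent.Lib.Seat10TowerN
import Groth.Agent.S7157

/-!
# The extension of the base field killing the `K`-part (Seat 10)

`exists_kside`: for a DVR `A` of characteristic `p` with perfect residue field, `α ∈ K` and
`n, N`, there is a finite separable totally ramified extension `K₂/K` containing an element `π₁`
with `π₁ ^ p ^ N = π (1 + π ^ (n+1) b)` (`b` integral) and such that `α ∈ wp K₂ +` integral
elements.
-/

set_option autoImplicit false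
set_option linter.style.haveILetI false
set_option maxHeartbeats 800000

universe u

namespace Groth.Agent.Lib.Seat10.Epp

open IsLocalRing EtRam Polynomial Groth.Agent.Lib.Seat10.ValDom Groth.Agent.Lib.Seat10.Tower

theorem isIntegralElem_comp {A K₁ K₂ : Type*} [CommRing A] [CommRing K₁] [CommRing K₂]
    (f : A →+* K₁) (ι : K₁ →+* K₂) {x : K₁} (hx : f.IsIntegralElem x) :
    (ι.comp f).IsIntegralElem (ι x) := by
  obtain ⟨q, hq, hq0⟩ := hx
  refine ⟨q, hq, ?_⟩
  rw [← Polynomial.hom_eval₂, hq0, map_zero]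

theorem exists_pole_bound (R F : Type u) [CommRing R] [IsDomain R] [IsDiscreteValuationRing R]
    [Field F] [Algebra R F] [IsFractionRing R F] (ϖ : R) (hϖ : Irreducible ϖ) (α : F) :
    ∃ (n : ℕ) (a : R), α * algebraMap R F ϖ ^ n = algebraMap R F a := by
  obtain ⟨x, s, hs, rfl⟩ := IsFractionRing.div_surjective (A := R) α
  have hs0 : s ≠ 0 := nonZeroDivisors.ne_zero hs
  obtain ⟨n, u, hu⟩ := IsDiscreteValuationRing.eq_unit_mul_pow_irreducible hs0 hϖ
  refine ⟨n, x * ((u⁻¹ : Rˣ) : R), ?_⟩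
  have hinj : Function.Injective (algebraMap R F) := IsFractionRing.injective R F
  have hsF : algebraMap R F s ≠ 0 := fun h => hs0 (hinj (h.trans (map_zero _).symm))
  rw [div_mul_eq_mul_div, div_eq_iff hsF, ← map_pow, ← map_mul, ← map_mul, hu]
  congr 1
  calc x * ϖ ^ n = x * ϖ ^ n * ((u⁻¹ : Rˣ) * (u : R)) := by rw [Units.inv_mul, mul_one]
    _ = _ := by ring

section KSide

variable (p : ℕ) [hp : Fact p.Prime] (A K : Type u) [CommRing A] [IsDomain A]
  [IsDiscreteValuationRing A] [Field K] [Algebra A K] [IsFractionRing A K] [CharP K p]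

include hp in
theorem exists_kside (π : A) (hπ : maximalIdeal A = Ideal.span {π})
    (hperf : ∀ x : ResidueField A, ∃ y : ResidueField A, y ^ p = x) (n N : ℕ) (α : K) :
    ∃ (K₂ : Type u) (_ : Field K₂) (_ : Algebra K K₂), FiniteDimensional K K₂ ∧
      Algebra.IsSeparable K K₂ ∧
      IsTotallyRamified A ((algebraMap K K₂).comp (algebraMap A K)) ∧
      ∃ (π₁ b y₂ a₀ : K₂),
        ((algebraMap K K₂).comp (algebraMap A K)).IsIntegralElem π₁ ∧
        ((algebraMap K K₂).comp (algebraMap A K)).IsIntegralElem b ∧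
        ((algebraMap K K₂).comp (algebraMap A K)).IsIntegralElem a₀ ∧
        π₁ ^ (p ^ N) = algebraMap K K₂ (algebraMap A K π) *
          (1 + algebraMap K K₂ (algebraMap A K π) ^ (n + 1) * b) ∧
        algebraMap K K₂ α = wp p y₂ + a₀ := by
  classical
  have hinjAK : Function.Injective (algebraMap A K) := IsFractionRing.injective A K
  haveI : CharP A p := RingHom.charP (algebraMap A K) hinjAK p
  haveI : CharP (ResidueField A) p := (CharP.charP_iff_prime_eq_zero hp.out).mpr (by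
    rw [← map_natCast (residue A), CharP.cast_eq_zero A p, map_zero])
  obtain ⟨K₁, fK₁, aKK₁, aAK₁, tAKK₁, hfin₁, hsep₁, htot₁, πB, b, b', hπB, hb, -, hrel, -⟩ :=
    Groth.Agent.S7157.result p hp.out A K π hπ (n + 2) (by omega) N
  haveI : FiniteDimensional K K₁ :=
    Module.finite_of_finrank_pos (by rw [hfin₁]; exact pow_pos hp.out.pos N)
  obtain ⟨⟨V₁, hdomV₁⟩, huniq₁, hres₁⟩ := htot₁
  have hdomV₁' : Dominates A ((algebraMap K K₁).comp (algebraMap A K)) V₁ := by
    rwa [← IsScalarTower.algebraMap_eq A K K₁]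
  haveI : IsDiscreteValuationRing V₁ :=
    isDiscreteValuationRing_of_dominates_finite A K V₁ hdomV₁'
  haveI : CharP K₁ p := charP_of_injective_algebraMap (algebraMap K K₁).injective p
  -- perfect residue field of `V₁`
  have hperf₁ : ∀ x : ResidueField V₁, ∃ y : ResidueField V₁, y ^ p = x := by
    intro x
    obtain ⟨a, rfl⟩ := hres₁ V₁ hdomV₁ x
    obtain ⟨ybar, hy⟩ := hperf (residue A a)
    obtain ⟨d, rfl⟩ := residue_surjective ybar
    refine ⟨residue V₁ (RingHom.codRestrict (algebraMap A K₁) V₁ hdomV₁.1 d), ?_⟩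
    have h1 : d ^ p - a ∈ maximalIdeal A := by
      rw [← residue_eq_zero_iff, map_sub, map_pow, hy, sub_self]
    have h2 := hdomV₁.2 _ h1
    have h3 : RingHom.codRestrict (algebraMap A K₁) V₁ hdomV₁.1 (d ^ p - a) ∈ maximalIdeal V₁ := by
      rw [ValuationSubring.valuation_lt_one_iff]
      exact h2
    rw [← residue_eq_zero_iff, map_sub, map_sub, sub_eq_zero, map_pow, map_pow] at h3
    exact h3
  obtain ⟨ϖ₁, hϖ₁irr⟩ := IsDiscreteValuationRing.exists_irreducible V₁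
  have hϖ₁ : maximalIdeal V₁ = Ideal.span {ϖ₁} := hϖ₁irr.maximalIdeal_eq
  have hϖ₁0 : algebraMap V₁ K₁ ϖ₁ ≠ 0 := by
    intro h0
    exact hϖ₁irr.ne_zero (IsFractionRing.injective V₁ K₁ (h0.trans (map_zero _).symm))
  obtain ⟨n₁, a₁, ha₁⟩ := exists_pole_bound V₁ K₁ ϖ₁ hϖ₁irr (algebraMap K K₁ α)
  obtain ⟨y₁, α', a₀', hα, hcase⟩ := exists_reduce p V₁ K₁ ϖ₁ hϖ₁ hperf₁ n₁ _ ⟨a₁, ha₁⟩
  -- the Artin–Schreier datum
  obtain ⟨α'', n', u, hn', hpn', hα'', hαα⟩ : ∃ (α'' : K₁) (n' : ℕ) (u : (V₁)ˣ), 0 < n' ∧ ¬ p ∣ n' ∧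
      α'' * algebraMap V₁ K₁ ϖ₁ ^ n' = algebraMap V₁ K₁ (u : V₁) ∧ (α' = 0 ∨ α' = α'') := by
    rcases hcase with h0 | ⟨n', u, hn', hpn', hα''⟩
    · refine ⟨(algebraMap V₁ K₁ ϖ₁)⁻¹, 1, 1, one_pos, ?_, ?_, Or.inl h0⟩
      · exact fun h => hp.out.one_lt.ne' (Nat.dvd_one.mp h)
      · rw [pow_one, inv_mul_cancel₀ hϖ₁0, Units.val_one, map_one]
    · exact ⟨α', n', u, hn', hpn', hα'', Or.inr rfl⟩
  obtain ⟨K₂, fK₂, aK₁K₂, hfin₂, hsep₂, htot₂, z, hz⟩ :=
    exists_AS_totRam p V₁ K₁ ϖ₁ hϖ₁ α'' n' u hn' hpn' hα''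
  letI aKK₂ : Algebra K K₂ := ((algebraMap K₁ K₂).comp (algebraMap K K₁)).toAlgebra
  haveI tKK₁K₂ : IsScalarTower K K₁ K₂ := IsScalarTower.of_algebraMap_eq (fun _ => rfl)
  haveI : FiniteDimensional K K₂ := FiniteDimensional.trans K K₁ K₂
  haveI : Algebra.IsSeparable K K₂ := Algebra.IsSeparable.trans K K₁ K₂
  have hg : (algebraMap K K₂).comp (algebraMap A K) = (algebraMap K₁ K₂).comp (algebraMap A K₁) := by
    apply RingHom.ext
    intro a
    show algebraMap K₁ K₂ (algebraMap K K₁ (algebraMap A K a)) = algebraMap K₁ K₂ (algebraMap A K₁ a)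
    rw [← IsScalarTower.algebraMap_apply A K K₁]
  refine ⟨K₂, fK₂, aKK₂, inferInstance, inferInstance, ?_, algebraMap K₁ K₂ πB,
    algebraMap K₁ K₂ b, algebraMap K₁ K₂ y₁ + (if α' = 0 then 0 else z),
    algebraMap K₁ K₂ (algebraMap V₁ K₁ a₀'), ?_, ?_, ?_, ?_, ?_⟩
  · rw [hg]
    exact isTotallyRamified_trans (algebraMap A K₁) (algebraMap K₁ K₂) ⟨⟨V₁, hdomV₁⟩, huniq₁, hres₁⟩
      V₁ hdomV₁ htot₂
  · rw [hg]
    exact isIntegralElem_comp _ _ hπB
  · rw [hg]
    exact isIntegralElem_comp _ _ hb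
  · rw [hg]
    refine isIntegralElem_comp _ _ ?_
    exact isIntegral_of_mem_of_unique A K V₁ (fun V' h => huniq₁ V' V₁ h hdomV₁) a₀'.2
  · have h1 : algebraMap K K₂ (algebraMap A K π) = algebraMap K₁ K₂ (algebraMap A K₁ π) :=
      RingHom.congr_fun hg π
    rw [h1, ← map_pow, hrel, map_add, map_mul, map_pow]
    ring
  · have h1 : algebraMap K K₂ α = algebraMap K₁ K₂ (algebraMap K K₁ α) := rfl
    haveI : CharP K₂ p := charP_of_injective_algebraMap (algebraMap K₁ K₂).injective p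
    have h2 : wp p (algebraMap K₁ K₂ y₁) = algebraMap K₁ K₂ (wp p y₁) := by
      rw [wp_def, wp_def, map_sub, map_pow]
    rw [h1, hα, map_add, map_add, wp_add, h2]
    rcases hαα with h0 | h0
    · rw [if_pos h0, wp_zero, h0, map_zero]
      try ring
    · by_cases h00 : α' = 0
      · rw [if_pos h00, wp_zero, h00, map_zero]
        try ring
      · rw [if_neg h00, wp_def p z, hz, h0]
        try ring

end KSide

end Groth.Agent.Lib.Seat10.Epp
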