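import Groth.Agent.Lib.Seat10TowerQ

/-!
# The residue field does not grow under a totally ramified base change (Seat 10)

`exists_coeff_of_pow_mul`: expansions `∑ φ(b_i) p₁^i` in powers of a uniformizer with coefficients
from a weakly unramified sub-DVR can be divided by the uniformizer of the sub-DVR.
-/

set_option autoImplicit false

universe u

namespace Groth.Agent.Lib.Seat10.Epp

open IsLocalRing

section Indep

variable {B W : Type*} [CommRing B] [IsDomain B] [IsDiscreteValuationRing B]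
  [CommRing W] [IsDomain W] [IsLocalRing W] (φ : B →+* W)
  (π : B) (hπ : Irreducible π) (p₁ : W) (hp₁ : maximalIdeal W = Ideal.span {p₁})
  (e : ℕ) (u : W) (hπe : φ π = u * p₁ ^ e) (hφπ : φ π ≠ 0)

include hπ hp₁ hπe hφπ

theorem dvd_coeff_of_pow_dvd_sum (b : Fin e → B) (hsum : p₁ ^ e ∣ ∑ i, φ (b i) * p₁ ^ (i : ℕ)) :
    ∀ i, π ∣ b i := by
  by_contra hnot
  push Not at hnot
  have hp₁0 : p₁ ≠ 0 := by
    intro h0
    cases e with
    | zero => exact (Fin.elim0 hnot.choose)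
    | succ e => rw [h0, pow_succ, mul_zero, mul_zero] at hπe; exact hφπ hπe
  classical
  let P : ℕ → Prop := fun j => ∃ h : j < e, ¬ π ∣ b ⟨j, h⟩
  have hP : ∃ j, P j := by
    obtain ⟨i, hi⟩ := hnot
    exact ⟨i.val, i.isLt, hi⟩
  obtain ⟨hj₀, hbj₀⟩ := Nat.find_spec hP
  set j₀ := Nat.find hP with hj₀def
  have hlt : ∀ i : Fin e, (i : ℕ) < j₀ → π ∣ b i := by
    intro i hi
    by_contra hni
    exact Nat.find_min hP hi ⟨i.isLt, hni⟩
  have hother : ∀ i : Fin e, (i : ℕ) ≠ j₀ → p₁ ^ (j₀ + 1) ∣ φ (b i) * p₁ ^ (i : ℕ) := by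
    intro i hi
    rcases lt_or_gt_of_ne hi with h | h
    · obtain ⟨c, hc⟩ := hlt i h
      rw [hc, map_mul, hπe]
      have : j₀ + 1 ≤ e := hj₀
      exact (((pow_dvd_pow p₁ this).mul_left u).mul_right (φ c)).mul_right _
    · exact Dvd.dvd.mul_left (pow_dvd_pow p₁ h) _
  have hmain : p₁ ^ (j₀ + 1) ∣ φ (b ⟨j₀, hj₀⟩) * p₁ ^ j₀ := by
    have hsplit := Finset.add_sum_erase Finset.univ (fun i : Fin e => φ (b i) * p₁ ^ (i : ℕ))
      (Finset.mem_univ (⟨j₀, hj₀⟩ : Fin e))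
    have h1 : φ (b ⟨j₀, hj₀⟩) * p₁ ^ j₀ = ∑ i, φ (b i) * p₁ ^ (i : ℕ) -
        ∑ i ∈ Finset.univ.erase (⟨j₀, hj₀⟩ : Fin e), φ (b i) * p₁ ^ (i : ℕ) := by
      rw [← hsplit]; ring
    rw [h1]
    refine dvd_sub ((pow_dvd_pow p₁ hj₀).trans hsum) ?_
    refine Finset.dvd_sum fun i hi => hother i ?_
    intro h
    exact (Finset.ne_of_mem_erase hi) (Fin.ext h)
  rw [pow_succ, mul_comm (φ _)] at hmain
  have h2 : p₁ ∣ φ (b ⟨j₀, hj₀⟩) := (mul_dvd_mul_iff_left (pow_ne_zero j₀ hp₁0)).mp hmain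
  have h3 : φ (b ⟨j₀, hj₀⟩) ∈ maximalIdeal W := by
    rw [hp₁, Ideal.mem_span_singleton]; exact h2
  have h4 : b ⟨j₀, hj₀⟩ ∈ maximalIdeal B := by
    rw [IsLocalRing.mem_maximalIdeal, mem_nonunits_iff] at h3 ⊢
    exact fun h => h3 (h.map φ)
  rw [hπ.maximalIdeal_eq, Ideal.mem_span_singleton] at h4
  exact hbj₀ h4

theorem exists_coeff_of_pow_mul (k : ℕ) : ∀ (w : W) (b : Fin e → B),
    φ π ^ k * w = ∑ i, φ (b i) * p₁ ^ (i : ℕ) →
    ∃ b' : Fin e → B, w = ∑ i, φ (b' i) * p₁ ^ (i : ℕ) := by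
  induction k with
  | zero =>
    intro w b h
    exact ⟨b, by rw [pow_zero, one_mul] at h; exact h⟩
  | succ k ih =>
    intro w b h
    have hdvd : p₁ ^ e ∣ ∑ i, φ (b i) * p₁ ^ (i : ℕ) := by
      rw [← h]
      refine ⟨φ π ^ k * u * w, ?_⟩
      rw [pow_succ]
      linear_combination (φ π ^ k * w) * hπe
    have h1 := dvd_coeff_of_pow_dvd_sum φ π hπ p₁ hp₁ e u hπe hφπ b hdvd
    choose c hc using h1
    apply ih w c
    have h2 : φ π * (φ π ^ k * w) = φ π * ∑ i, φ (c i) * p₁ ^ (i : ℕ) := by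
      rw [Finset.mul_sum, ← mul_assoc, ← pow_succ', h]
      refine Finset.sum_congr rfl fun i _ => ?_
      rw [hc i, map_mul]
      ring
    exact mul_left_cancel₀ hφπ h2

end Indep

end Groth.Agent.Lib.Seat10.Epp
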