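import Groth.Agent.Lib.Seat10EppH

/-!
# The residue field does not grow under a totally ramified base change, II (Seat 10)

`exists_residue_lift`: `A ⊆ B` weakly unramified, `K₂/K` finite separable totally ramified, `(M, W)`
a local extension for `K₂`: every element of `W` is congruent to an element of `B` modulo the
maximal ideal of `W`.
-/

set_option autoImplicit false
set_option linter.style.haveILetI false
set_option maxHeartbeats 1600000

universe u

namespace Groth.Agent.Lib.Seat10.Epp

open EtRam IsLocalRing Groth.Agent.Lib.Seat10.ValDom Groth.Agent.Lib.Seat10.Tower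

theorem exists_residue_lift (A B K L : Type u) [CommRing A] [IsDomain A]
    [IsDiscreteValuationRing A]
    [CommRing B] [IsDomain B] [IsDiscreteValuationRing B] [Algebra A B]
    [IsLocalHom (algebraMap A B)]
    [Field K] [Field L] [Algebra A K] [IsFractionRing A K] [Algebra B L] [IsFractionRing B L]
    [Algebra K L] [Algebra A L] [IsScalarTower A K L] [IsScalarTower A B L]
    (hw : EtRam.IsWeaklyUnramified A B)
    (K₁ : Type u) [Field K₁] [Algebra K K₁] [FiniteDimensional K K₁] [Algebra.IsSeparable K K₁]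
    (ht : EtRam.IsTotallyRamified A ((algebraMap K K₁).comp (algebraMap A K)))
    (M : Type u) [Field M] [Algebra K M] [Algebra L M] [Algebra K₁ M] [IsScalarTower K L M]
    [IsScalarTower K K₁ M]
    (hadj : Algebra.adjoin L (Set.range (algebraMap K₁ M)) = ⊤)
    (W : ValuationSubring M) (hW : Dominates B ((algebraMap L M).comp (algebraMap B L)) W) :
    ∀ w : M, w ∈ W → ∃ b : B, W.valuation (w - algebraMap L M (algebraMap B L b)) < 1 := by
  classical
  obtain ⟨⟨V₁, hdomV₁⟩, huniq, hres⟩ := ht
  have hws := isWeakSolution_of_residue_surjective A B K L hw K₁ hres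
  let _ : Algebra A K₁ := ((algebraMap K K₁).comp (algebraMap A K)).toAlgebra
  have : IsScalarTower A K K₁ := IsScalarTower.of_algebraMap_eq (fun _ => rfl)
  obtain ⟨π, hπ⟩ := IsDiscreteValuationRing.exists_irreducible A
  have hwu := hws M hadj W hW
  have hcompat : ∀ a : A, algebraMap K₁ M (algebraMap K K₁ (algebraMap A K a)) =
      algebraMap L M (algebraMap B L (algebraMap A B a)) := by
    intro a
    rw [← IsScalarTower.algebraMap_apply K K₁ M, IsScalarTower.algebraMap_apply K L M,
      ← IsScalarTower.algebraMap_apply A K L, ← IsScalarTower.algebraMap_apply A B L]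
  have hdomc : Dominates A ((algebraMap K K₁).comp (algebraMap A K))
      (W.comap (algebraMap K₁ M)) := by
    rw [← dominates_comp_iff]
    refine ⟨fun a => ?_, fun a ha => ?_⟩
    · simp only [RingHom.comp_apply]
      rw [hcompat]
      exact hW.1 _
    · simp only [RingHom.comp_apply]
      rw [hcompat]
      apply hW.2
      rw [IsLocalRing.mem_maximalIdeal, mem_nonunits_iff] at ha ⊢
      exact fun h => ha (isUnit_of_map_unit (algebraMap A B) a h)
  obtain rfl : W.comap (algebraMap K₁ M) = V₁ := huniq _ _ hdomc hdomV₁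
  have hV₁dvr : IsDiscreteValuationRing (W.comap (algebraMap K₁ M)) :=
    isDiscreteValuationRing_of_dominates_finite A K _ hdomV₁
  obtain ⟨π₁, hπ₁⟩ := IsDiscreteValuationRing.exists_irreducible (W.comap (algebraMap K₁ M))
  have hπV0 : toVal hdomV₁ π ≠ 0 := by
    intro h0
    have h1 : algebraMap K K₁ (algebraMap A K π) = 0 := congrArg Subtype.val h0
    rw [map_eq_zero, map_eq_zero_iff _ (IsFractionRing.injective A K)] at h1
    exact hπ.ne_zero h1
  obtain ⟨e, u, hu⟩ := IsDiscreteValuationRing.eq_unit_mul_pow_irreducible hπV0 hπ₁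
  have he0 : e ≠ 0 := by
    rintro rfl
    rw [pow_zero, mul_one] at hu
    have h1 : toVal hdomV₁ π ∈ maximalIdeal (W.comap (algebraMap K₁ M)) := by
      rw [ValuationSubring.valuation_lt_one_iff]
      exact hdomV₁.2 π (by rw [IsLocalRing.mem_maximalIdeal]; exact hπ.not_isUnit)
    rw [hu] at h1
    exact ((IsLocalRing.mem_maximalIdeal _).mp h1) u.isUnit
  have hres' : ∀ v : K₁, v ∈ W.comap (algebraMap K₁ M) →
      ∃ a : A, (W.comap (algebraMap K₁ M)).valuation (v - algebraMap A K₁ a) < 1 := by
    intro v hv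
    obtain ⟨a, ha⟩ := hres _ hdomV₁ (residue _ ⟨v, hv⟩)
    refine ⟨a, ?_⟩
    have h1 : residue _ ((⟨v, hv⟩ : W.comap (algebraMap K₁ M)) - toVal hdomV₁ a) = 0 := by
      rw [map_sub, sub_eq_zero]
      exact ha.symm
    rw [residue_eq_zero_iff, ValuationSubring.valuation_lt_one_iff] at h1
    exact h1
  have hmax' : ∀ v : K₁, v ∈ W.comap (algebraMap K₁ M) →
      (W.comap (algebraMap K₁ M)).valuation v < 1 →
      ∃ c ∈ W.comap (algebraMap K₁ M), v = (π₁ : K₁) * c := by
    intro v hv hlt
    have h1 : (⟨v, hv⟩ : W.comap (algebraMap K₁ M)) ∈ maximalIdeal _ :=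
      (ValuationSubring.valuation_lt_one_iff _ _).mpr hlt
    rw [hπ₁.maximalIdeal_eq, Ideal.mem_span_singleton'] at h1
    obtain ⟨c, hc⟩ := h1
    refine ⟨c, c.2, ?_⟩
    have := congrArg Subtype.val hc
    simp only [MulMemClass.coe_mul] at this
    rw [← this, mul_comm]
  have hπe : (π₁ : K₁) ^ e = algebraMap A K₁ π *
      (((u⁻¹ : (W.comap (algebraMap K₁ M))ˣ) : W.comap (algebraMap K₁ M)) : K₁) := by
    have h1 : π₁ ^ e = toVal hdomV₁ π * ((u⁻¹ : (W.comap (algebraMap K₁ M))ˣ) :
        W.comap (algebraMap K₁ M)) := by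
      rw [hu, mul_comm (u : W.comap (algebraMap K₁ M)), mul_assoc, Units.mul_inv, mul_one]
    have h2 := congrArg Subtype.val h1
    simp only [SubmonoidClass.coe_pow, MulMemClass.coe_mul] at h2
    rw [h2]
    rfl
  have hspanK := span_pow_uniformizer A K _ hdomV₁ (fun V' h => huniq V' _ h hdomV₁) hres' π hπ
    (π₁ : K₁) hmax' e _ (SetLike.coe_mem _) hπe
  -- the uniformizers in `W`
  have hπB : Irreducible (algebraMap A B π) := by
    rw [IsDiscreteValuationRing.irreducible_iff_uniformizer]
    unfold IsWeaklyUnramified at hw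
    rw [← hw, hπ.maximalIdeal_eq, Ideal.map_span, Set.image_singleton]
  have hp₁ : maximalIdeal W = Ideal.span {inclOfComap W (algebraMap K₁ M) π₁} := by
    unfold IsWeaklyUnramified at hwu
    rw [← hwu, hπ₁.maximalIdeal_eq, Ideal.map_span, Set.image_singleton]
    rfl
  set p₂ : W := inclOfComap W (algebraMap K₁ M) π₁ with hp₂
  set φ : B →+* W := toVal hW with hφ
  have hφπ : φ (algebraMap A B π) = inclOfComap W (algebraMap K₁ M) u * p₂ ^ e := by
    apply Subtype.ext
    show algebraMap L M (algebraMap B L (algebraMap A B π)) = _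
    rw [← hcompat]
    have h2 := congrArg (fun z : W.comap (algebraMap K₁ M) =>
      algebraMap K₁ M (z : K₁)) hu
    simp only [MulMemClass.coe_mul, SubmonoidClass.coe_pow, map_mul, map_pow] at h2
    exact h2
  have hφπ0 : φ (algebraMap A B π) ≠ 0 := by
    intro h0
    have h1 : algebraMap L M (algebraMap B L (algebraMap A B π)) = 0 := congrArg Subtype.val h0
    rw [map_eq_zero, map_eq_zero_iff _ (IsFractionRing.injective B L)] at h1
    exact hπB.ne_zero h1
  -- every element of `M` is a combination of powers of `p₂` with coefficients in `L`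
  have hspanM : ∀ m : M, ∃ l : Fin e → L, m = ∑ i, algebraMap L M (l i) * (p₂ : M) ^ (i : ℕ) := by
    intro m
    have hm : m ∈ Algebra.adjoin L (Set.range (algebraMap K₁ M)) := by rw [hadj]; trivial
    have hsub : Submonoid.closure (Set.range (algebraMap K₁ M)) =
        (algebraMap K₁ M).rangeS.toSubmonoid := by
      apply le_antisymm
      · rw [Submonoid.closure_le]; rintro _ ⟨k, rfl⟩; exact ⟨k, rfl⟩
      · rintro _ ⟨k, rfl⟩; exact Submonoid.subset_closure ⟨k, rfl⟩
    rw [← Subalgebra.mem_toSubmodule, Algebra.adjoin_eq_span, hsub] at hm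
    induction hm using Submodule.span_induction with
    | mem x hx =>
      obtain ⟨k, rfl⟩ := hx
      obtain ⟨c, hc⟩ := hspanK k
      refine ⟨fun i => algebraMap K L (c i), ?_⟩
      have h1 : algebraMap K₁ M k = ∑ i, algebraMap K₁ M (algebraMap K K₁ (c i)) *
          algebraMap K₁ M (π₁ : K₁) ^ (i : ℕ) := by
        conv_lhs => rw [hc]
        simp only [map_sum, map_mul, map_pow]
      rw [h1]
      refine Finset.sum_congr rfl fun i _ => ?_
      rw [← IsScalarTower.algebraMap_apply K K₁ M, ← IsScalarTower.algebraMap_apply K L M]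
      rfl
    | zero => exact ⟨fun _ => 0, by simp⟩
    | add x y _ _ hx hy =>
      obtain ⟨lx, hlx⟩ := hx
      obtain ⟨ly, hly⟩ := hy
      refine ⟨fun i => lx i + ly i, ?_⟩
      rw [hlx, hly, ← Finset.sum_add_distrib]
      refine Finset.sum_congr rfl fun i _ => ?_
      rw [map_add, add_mul]
    | smul l x _ hx =>
      obtain ⟨lx, hlx⟩ := hx
      refine ⟨fun i => l * lx i, ?_⟩
      rw [hlx, Finset.smul_sum]
      refine Finset.sum_congr rfl fun i _ => ?_
      rw [Algebra.smul_def, map_mul, mul_assoc]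
  intro w hw'
  obtain ⟨l, hl⟩ := hspanM w
  -- clear denominators
  obtain ⟨d, hd⟩ := IsLocalization.exist_integer_multiples (nonZeroDivisors B) Finset.univ l
  choose b hb using fun i => hd i (Finset.mem_univ i)
  have hd0 : (d : B) ≠ 0 := nonZeroDivisors.ne_zero d.2
  obtain ⟨k, v, hv⟩ := IsDiscreteValuationRing.eq_unit_mul_pow_irreducible hd0 hπB
  -- `φ(π)^k * w = ∑ φ(b' i) p₂^i`
  have h1 : φ (algebraMap A B π) ^ k * (⟨w, hw'⟩ : W) =
      ∑ i, φ (((v⁻¹ : Bˣ) : B) * b i) * p₂ ^ (i : ℕ) := by
    apply Subtype.ext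
    have hcoe : (((∑ i, φ (((v⁻¹ : Bˣ) : B) * b i) * p₂ ^ (i : ℕ) : W)) : M) =
        ∑ i, algebraMap L M (algebraMap B L (((v⁻¹ : Bˣ) : B) * b i)) * (p₂ : M) ^ (i : ℕ) := by
      simp [φ, toVal]
    rw [hcoe]
    show algebraMap L M (algebraMap B L (algebraMap A B π)) ^ k * w = _
    have h2 : ∀ i, algebraMap B L (((v⁻¹ : Bˣ) : B) * b i) =
        algebraMap B L (algebraMap A B π) ^ k * l i := by
      intro i
      have h3 := hb i
      rw [Algebra.smul_def, hv, map_mul, map_pow] at h3
      rw [map_mul, h3]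
      have h4 : algebraMap B L ((v⁻¹ : Bˣ) : B) * algebraMap B L (v : B) = 1 := by
        rw [← map_mul, Units.inv_mul, map_one]
      linear_combination (algebraMap B L (algebraMap A B π) ^ k * l i) * h4
    rw [hl, Finset.mul_sum]
    refine Finset.sum_congr rfl fun i _ => ?_
    rw [h2 i, map_mul, map_pow]
    ring
  obtain ⟨b', hb'⟩ := exists_coeff_of_pow_mul φ (algebraMap A B π) hπB p₂ hp₁ e _ hφπ hφπ0 k _ _ h1
  obtain ⟨e', rfl⟩ : ∃ e', e = e' + 1 := ⟨e - 1, by omega⟩
  refine ⟨b' 0, ?_⟩
  have h5 : (⟨w, hw'⟩ : W) - φ (b' 0) ∈ maximalIdeal W := by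
    rw [hb', Fin.sum_univ_succ, hp₁, Ideal.mem_span_singleton]
    simp only [Fin.val_zero, pow_zero, mul_one, add_sub_cancel_left]
    refine Finset.dvd_sum fun i _ => ?_
    rw [Fin.val_succ, pow_succ]
    exact ⟨φ (b' i.succ) * p₂ ^ (i : ℕ), by ring⟩
  rw [ValuationSubring.valuation_lt_one_iff] at h5
  exact h5

end Groth.Agent.Lib.Seat10.Epp
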