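import Mathlib
import Groth.Prelude.Def_EtRam
import Groth.Agent.Lib.Seat10ValDomA

/-!
# Field-theoretic helpers for the third case (Seat 10)

* `exists_dominates`: every local ring mapping to a field is dominated by a valuation subring.
* `mem_of_isIntegralElem`: a valuation subring containing the image of `A` contains all elements
  integral over `A`.
* `finrank_le_of_adjoin_eq_top`: a compositum `M'` of `M` and `K₁` over `K` has
  `[M' : M] ≤ [K₁ : K]`.
* `isField_tensor_of_forall_le_finrank`: if every compositum has `[M' : M] ≥ [K₁ : K]` then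
  `M ⊗[K] K₁` is a field.
-/

set_option autoImplicit false

universe u

namespace Groth.Agent.Lib.Seat10.Insep

open IsLocalRing TensorProduct EtRam

theorem exists_dominates {C F : Type u} [CommRing C] [IsLocalRing C] [Field F] (g : C →+* F) :
    ∃ W : ValuationSubring F, Dominates C g W := by
  obtain ⟨W, hWmem, hWloc⟩ := IsLocalRing.exists_factor_valuationRing g
  refine ⟨W, hWmem, fun b hb => ?_⟩
  have hnu : ¬ IsUnit (RingHom.codRestrict g W.toSubring hWmem b) := by
    intro h
    exact (IsLocalRing.mem_maximalIdeal _).mp hb (hWloc.map_nonunit b h)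
  by_contra hlt
  apply hnu
  have hmem := hWmem b
  have h1 : W.valuation (g b) = 1 :=
    le_antisymm ((W.valuation_le_one_iff _).mpr hmem) (not_lt.mp hlt)
  have hne : g b ≠ 0 := by
    intro h0
    rw [h0, map_zero] at h1
    exact zero_ne_one h1
  have hinv : (g b)⁻¹ ∈ W := by
    rw [← W.valuation_le_one_iff, map_inv₀, h1, inv_one]
  refine isUnit_iff_exists_inv.mpr ⟨⟨_, hinv⟩, Subtype.ext ?_⟩
  exact mul_inv_cancel₀ hne

theorem mem_of_isIntegralElem {A F : Type*} [CommRing A] [Field F] (g : A →+* F)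
    (W : ValuationSubring F) (hg : ∀ a, g a ∈ W) (x : F) (hx : g.IsIntegralElem x) : x ∈ W := by
  obtain ⟨P, hP, hPx⟩ := hx
  let φ : A →+* W := g.codRestrict W.toSubring hg
  have hint : IsIntegral W x := by
    refine ⟨P.map φ, hP.map φ, ?_⟩
    rw [Polynomial.eval₂_map]
    exact hPx
  obtain ⟨y, hy⟩ := IsIntegrallyClosed.isIntegral_iff.mp hint
  rw [← hy]
  exact y.2

theorem finrank_le_of_adjoin_eq_top (K : Type u) {M K₁ M' : Type u} [Field K] [Field M]
    [Field K₁] [Field M'] [Algebra K M] [Algebra K K₁] [Algebra K M'] [Algebra M M']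
    [Algebra K₁ M'] [IsScalarTower K M M'] [IsScalarTower K K₁ M'] [FiniteDimensional K K₁]
    (hadj : Algebra.adjoin M (Set.range (algebraMap K₁ M')) = ⊤) :
    Module.finrank M M' ≤ Module.finrank K K₁ := by
  let φ : M ⊗[K] K₁ →ₐ[M] M' :=
    Algebra.TensorProduct.productLeftAlgHom (Algebra.ofId M M') (IsScalarTower.toAlgHom K K₁ M')
  have hφ : Function.Surjective φ := by
    rw [← AlgHom.range_eq_top, eq_top_iff, ← hadj]
    apply Algebra.adjoin_le
    rintro _ ⟨k, rfl⟩
    exact ⟨1 ⊗ₜ k, by simp [φ]⟩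
  calc Module.finrank M M' ≤ Module.finrank M (M ⊗[K] K₁) :=
        LinearMap.finrank_le_finrank_of_surjective (f := φ.toLinearMap) hφ
    _ = Module.finrank K K₁ := Module.finrank_baseChange

theorem isField_tensor_of_forall_le_finrank (K M K₁ : Type u) [Field K] [Field M] [Field K₁]
    [Algebra K M] [Algebra K K₁] [FiniteDimensional K K₁]
    (H : ∀ (M' : Type u) [Field M'] [Algebra K M'] [Algebra M M'] [Algebra K₁ M']
      [IsScalarTower K M M'] [IsScalarTower K K₁ M'],
      Algebra.adjoin M (Set.range (algebraMap K₁ M')) = ⊤ →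
      Module.finrank K K₁ ≤ Module.finrank M M') :
    IsField (M ⊗[K] K₁) := by
  have : Nontrivial (M ⊗[K] K₁) := inferInstance
  obtain ⟨q, hq⟩ := Ideal.exists_maximal (M ⊗[K] K₁)
  rw [Ring.isField_iff_maximal_bot]
  suffices hq0 : q = ⊥ from hq0 ▸ hq
  let _ : Field ((M ⊗[K] K₁) ⧸ q) := Ideal.Quotient.field q
  let _ : Algebra K₁ ((M ⊗[K] K₁) ⧸ q) :=
    ((Ideal.Quotient.mk q).comp
      (Algebra.TensorProduct.includeRight : K₁ →ₐ[K] M ⊗[K] K₁).toRingHom).toAlgebra
  have : IsScalarTower K K₁ ((M ⊗[K] K₁) ⧸ q) := IsScalarTower.of_algebraMap_eq (fun k => by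
    show Ideal.Quotient.mk q (algebraMap K (M ⊗[K] K₁) k) =
      Ideal.Quotient.mk q ((Algebra.TensorProduct.includeRight : K₁ →ₐ[K] M ⊗[K] K₁)
        (algebraMap K K₁ k))
    rw [AlgHom.commutes])
  have hmk_tmul : ∀ (l : M) (k : K₁), Ideal.Quotient.mk q (l ⊗ₜ[K] k) =
      algebraMap M ((M ⊗[K] K₁) ⧸ q) l * algebraMap K₁ ((M ⊗[K] K₁) ⧸ q) k := by
    intro l k
    have h1 : l ⊗ₜ[K] k = (l ⊗ₜ[K] (1 : K₁)) * ((1 : M) ⊗ₜ[K] k) := by
      rw [Algebra.TensorProduct.tmul_mul_tmul, mul_one, one_mul]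
    rw [h1, map_mul]
    rfl
  have hadj : Algebra.adjoin M (Set.range (algebraMap K₁ ((M ⊗[K] K₁) ⧸ q))) = ⊤ := by
    rw [eq_top_iff]
    intro m _
    obtain ⟨t, rfl⟩ := Ideal.Quotient.mk_surjective m
    induction t using TensorProduct.induction_on with
    | zero => rw [map_zero]; exact zero_mem _
    | tmul l k =>
      rw [hmk_tmul]
      exact mul_mem (Subalgebra.algebraMap_mem _ _) (Algebra.subset_adjoin ⟨k, rfl⟩)
    | add x y hx hy => rw [map_add]; exact add_mem (hx trivial) (hy trivial)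
  have hge := H ((M ⊗[K] K₁) ⧸ q) hadj
  have hle := finrank_le_of_adjoin_eq_top K hadj
  have hfinq : FiniteDimensional M ((M ⊗[K] K₁) ⧸ q) := inferInstance
  have heq : Module.finrank M (M ⊗[K] K₁) = Module.finrank M ((M ⊗[K] K₁) ⧸ q) := by
    rw [Module.finrank_baseChange]
    exact le_antisymm hge hle
  have hinj : Function.Injective (Ideal.Quotient.mkₐ M q).toLinearMap :=
    (LinearMap.injective_iff_surjective_of_finrank_eq_finrank heq).mpr
      (Ideal.Quotient.mkₐ_surjective M q)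
  rw [eq_bot_iff]
  intro x hx
  have h0 : (Ideal.Quotient.mkₐ M q).toLinearMap x = (Ideal.Quotient.mkₐ M q).toLinearMap 0 := by
    rw [map_zero]
    exact Ideal.Quotient.eq_zero_iff_mem.mpr hx
  exact hinj h0

end Groth.Agent.Lib.Seat10.Insep
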