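import Groth.Agent.Lib.Seat10EppB
import Groth.Agent.Lib.Seat10EppG
import Groth.Agent.Lib.Seat10EppI
import Groth.Agent.Lib.Seat10InsepH

/-!
# Transport of the Artin–Schreier normal form to a local extension (Seat 10)

`transport`: the normal form of `ξ₀ ∈ L` over `A ⊆ B` together with the data of the totally ramified
extension `K₂/K` yields, in every local extension `(L₂, W)` of `K₂` for `A ⊆ B`, the hypotheses of
`core`, hence a reduced Artin–Schreier representative over `W`.
-/

set_option autoImplicit false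
set_option linter.style.haveILetI false
set_option maxHeartbeats 1600000

universe u

namespace Groth.Agent.Lib.Seat10.Epp

open EtRam IsLocalRing Groth.Agent.Lib.Seat10.ValDom Groth.Agent.Lib.Seat10.Tower

theorem map_wp {F F' : Type*} [CommRing F] [CommRing F'] (p : ℕ) [Fact p.Prime] [CharP F p]
    [CharP F' p] (f : F →+* F') (x : F) :
    f (wp p x) = wp p (f x) := by
  rw [wp_def, wp_def, map_sub, map_pow]

theorem transport (p : ℕ) [hp : Fact p.Prime] (A B K L : Type u) [CommRing A] [IsDomain A]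
    [IsDiscreteValuationRing A]
    [CommRing B] [IsDomain B] [IsDiscreteValuationRing B] [Algebra A B]
    [IsLocalHom (algebraMap A B)]
    [Field K] [Field L] [Algebra A K] [IsFractionRing A K] [Algebra B L] [IsFractionRing B L]
    [Algebra K L] [Algebra A L] [IsScalarTower A K L] [IsScalarTower A B L] [CharP K p]
    (hw : EtRam.IsWeaklyUnramified A B)
    (π : A) (hπm : π ∈ maximalIdeal A) (hϖ0 : algebraMap A B π ≠ 0)
    (n N : ℕ) (ξ₀ y : L) (α : K) (β : B) (I : Finset ℕ) (m : ℕ → ℕ) (c : ℕ → B)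
    (hI : ∀ i ∈ I, 1 ≤ i ∧ i ≤ n ∧ (¬ p ∣ i ∨ m i = 0) ∧ m i < N ∧
      ∀ r : B, residue B (c i) ≠ residue B r ^ p)
    (hξ₀ : ξ₀ = wp p y + algebraMap K L α +
        ∑ i ∈ I, algebraMap B L (c i ^ p ^ m i) / algebraMap B L (algebraMap A B π) ^ i +
        algebraMap B L β)
    (K₂ : Type u) [Field K₂] [Algebra K K₂] [FiniteDimensional K K₂] [Algebra.IsSeparable K K₂]
    (ht : EtRam.IsTotallyRamified A ((algebraMap K K₂).comp (algebraMap A K)))
    (π₁ b y₂ a₀ : K₂)
    (hπ₁ : ((algebraMap K K₂).comp (algebraMap A K)).IsIntegralElem π₁)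
    (hb : ((algebraMap K K₂).comp (algebraMap A K)).IsIntegralElem b)
    (ha₀ : ((algebraMap K K₂).comp (algebraMap A K)).IsIntegralElem a₀)
    (hrel : π₁ ^ (p ^ N) = algebraMap K K₂ (algebraMap A K π) *
          (1 + algebraMap K K₂ (algebraMap A K π) ^ (n + 1) * b))
    (hα : algebraMap K K₂ α = wp p y₂ + a₀)
    (L₂ : Type u) [Field L₂] [Algebra K L₂] [Algebra L L₂] [Algebra K₂ L₂] [IsScalarTower K L L₂]
    [IsScalarTower K K₂ L₂]
    (hadj : Algebra.adjoin L (Set.range (algebraMap K₂ L₂)) = ⊤)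
    (W : ValuationSubring L₂) (hW : Dominates B ((algebraMap L L₂).comp (algebraMap B L)) W) :
    ∃ (p₁ : W) (z₀ ξ'' : L₂), p₁ ≠ 0 ∧ p₁ ∈ maximalIdeal W ∧
      algebraMap L L₂ ξ₀ = wp p z₀ + ξ'' ∧
      ((∃ a : W, algebraMap W L₂ a = ξ'') ∨ ∃ (J : ℕ) (a : W), 0 < J ∧ p ∣ J ∧
        ξ'' * algebraMap W L₂ p₁ ^ J = algebraMap W L₂ a ∧
          ∀ r : W, residue W a ≠ residue W r ^ p) := by
  classical
  have hpP : p.Prime := hp.out
  haveI : CharP L p := charP_of_injective_algebraMap (algebraMap K L).injective p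
  haveI : CharP L₂ p := charP_of_injective_algebraMap (algebraMap L L₂).injective p
  haveI : CharP K₂ p := charP_of_injective_algebraMap (algebraMap K K₂).injective p
  haveI : FiniteDimensional L L₂ := finiteDimensional_of_adjoin_eq_top K hadj
  haveI hdvr : IsDiscreteValuationRing W := isDiscreteValuationRing_of_dominates_finite B L W hW
  have hcompat : ∀ a : A, algebraMap K₂ L₂ (algebraMap K K₂ (algebraMap A K a)) =
      algebraMap L L₂ (algebraMap B L (algebraMap A B a)) := by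
    intro a
    rw [← IsScalarTower.algebraMap_apply K K₂ L₂, IsScalarTower.algebraMap_apply K L L₂,
      ← IsScalarTower.algebraMap_apply A K L, ← IsScalarTower.algebraMap_apply A B L]
  have hgA : ∀ a : A,
      ((algebraMap K₂ L₂).comp ((algebraMap K K₂).comp (algebraMap A K))) a ∈ W := by
    intro a
    simp only [RingHom.comp_apply]
    rw [hcompat]
    exact hW.1 _
  have hint : ∀ x : K₂, ((algebraMap K K₂).comp (algebraMap A K)).IsIntegralElem x →
      algebraMap K₂ L₂ x ∈ W := by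
    intro x hx
    exact Groth.Agent.Lib.Seat10.Insep.mem_of_isIntegralElem _ W hgA _
      (isIntegralElem_comp _ (algebraMap K₂ L₂) hx)
  haveI hloc : IsLocalHom (toVal hW) := isLocalHom_toVal hW
  have hφalg : ∀ x : B, algebraMap W L₂ (toVal hW x) = algebraMap L L₂ (algebraMap B L x) :=
    fun _ => rfl
  have hinjφ : Function.Injective (toVal hW) := by
    intro x x' hxx'
    have h1 := congrArg (algebraMap W L₂) hxx'
    rw [hφalg, hφalg] at h1
    exact IsFractionRing.injective B L ((algebraMap L L₂).injective h1)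
  have hϖm : algebraMap A B π ∈ maximalIdeal B := by
    rw [mem_maximalIdeal, mem_nonunits_iff] at hπm ⊢
    exact fun h => hπm (isUnit_of_map_unit (algebraMap A B) π h)
  have hπ₀m : toVal hW (algebraMap A B π) ∈ maximalIdeal W := by
    rw [ValuationSubring.valuation_lt_one_iff]
    exact hW.2 _ hϖm
  have hπ₀0 : toVal hW (algebraMap A B π) ≠ 0 := by
    intro h0
    exact hϖ0 (hinjφ (h0.trans (map_zero _).symm))
  have hrelW : (⟨algebraMap K₂ L₂ π₁, hint π₁ hπ₁⟩ : W) ^ (p ^ N) =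
      toVal hW (algebraMap A B π) * (1 + toVal hW (algebraMap A B π) ^ (n + 1) *
        (⟨algebraMap K₂ L₂ b, hint b hb⟩ : W)) := by
    apply Subtype.ext
    have h1 := congrArg (algebraMap K₂ L₂) hrel
    simp only [map_mul, map_add, map_one, map_pow, hcompat] at h1
    exact h1
  have hp₁m : (⟨algebraMap K₂ L₂ π₁, hint π₁ hπ₁⟩ : W) ∈ maximalIdeal W := by
    have h1 : (⟨algebraMap K₂ L₂ π₁, hint π₁ hπ₁⟩ : W) ^ (p ^ N) ∈ maximalIdeal W := by
      rw [hrelW]; exact Ideal.mul_mem_right _ _ hπ₀m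
    exact (IsLocalRing.maximalIdeal.isMaximal W).isPrime.mem_of_pow_mem _ h1
  have hp₁0 : (⟨algebraMap K₂ L₂ π₁, hint π₁ hπ₁⟩ : W) ≠ 0 := by
    intro h0
    rw [h0, zero_pow (pow_pos hpP.pos N).ne', eq_comm, mul_eq_zero] at hrelW
    rcases hrelW with h | h
    · exact hπ₀0 h
    · have h1 : toVal hW (algebraMap A B π) ^ (n + 1) *
          (⟨algebraMap K₂ L₂ b, hint b hb⟩ : W) ∈ maximalIdeal W :=
        Ideal.mul_mem_right _ _ (Ideal.pow_mem_of_mem _ hπ₀m _ (Nat.succ_pos n))
      have h2 : (1 : W) ∈ maximalIdeal W := by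
        have h3 : (1 : W) = -(toVal hW (algebraMap A B π) ^ (n + 1) *
            (⟨algebraMap K₂ L₂ b, hint b hb⟩ : W)) := by linear_combination h
        rw [h3]; exact neg_mem h1
      exact (Ideal.ne_top_iff_one _).mp (IsLocalRing.maximalIdeal.isMaximal W).ne_top h2
  have hlift := exists_residue_lift A B K L hw K₂ ht L₂ hadj W hW
  have hres : ∀ i ∈ I, ∀ r : W, residue W (toVal hW (c i)) ≠ residue W r ^ p := by
    intro i hi r hr
    obtain ⟨br, hbr⟩ := hlift (r : L₂) r.2
    have h1 : residue W r = residue W (toVal hW br) := by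
      rw [← sub_eq_zero, ← map_sub, residue_eq_zero_iff, ValuationSubring.valuation_lt_one_iff]
      exact hbr
    rw [h1, ← map_pow, ← map_pow, ← sub_eq_zero, ← map_sub, ← map_sub, residue_eq_zero_iff] at hr
    have h2 : c i - br ^ p ∈ maximalIdeal B := by
      rw [mem_maximalIdeal, mem_nonunits_iff] at hr ⊢
      exact fun hu => hr (hu.map (toVal hW))
    apply (hI i hi).2.2.2.2 br
    rw [← sub_eq_zero, ← map_pow, ← map_sub, residue_eq_zero_iff]
    exact h2
  have hξ : algebraMap L L₂ ξ₀ = wp p (algebraMap L L₂ y + algebraMap K₂ L₂ y₂) +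
      ∑ i ∈ I, algebraMap W L₂ (toVal hW (c i) ^ p ^ m i) /
        algebraMap W L₂ (toVal hW (algebraMap A B π)) ^ i +
      algebraMap W L₂ (toVal hW β + (⟨algebraMap K₂ L₂ a₀, hint a₀ ha₀⟩ : W)) := by
    have h1 : algebraMap L L₂ (algebraMap K L α) =
        wp p (algebraMap K₂ L₂ y₂) + algebraMap K₂ L₂ a₀ := by
      rw [← IsScalarTower.algebraMap_apply K L L₂, IsScalarTower.algebraMap_apply K K₂ L₂, hα,
        map_add, map_wp]
    have h2 : algebraMap W L₂ (⟨algebraMap K₂ L₂ a₀, hint a₀ ha₀⟩ : W) = algebraMap K₂ L₂ a₀ := rfl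
    rw [hξ₀, map_add, map_add, map_add, h1, map_wp, wp_add, map_add, h2, map_sum]
    have h3 : ∀ i ∈ I, algebraMap L L₂ (algebraMap B L (c i ^ p ^ m i) /
        algebraMap B L (algebraMap A B π) ^ i) =
        algebraMap W L₂ (toVal hW (c i) ^ p ^ m i) /
          algebraMap W L₂ (toVal hW (algebraMap A B π)) ^ i := by
      intro i _
      rw [← map_pow (toVal hW), hφalg, hφalg, map_div₀, map_pow (algebraMap L L₂)]
    rw [Finset.sum_congr rfl h3]
    simp only [hφalg]
    ring
  obtain ⟨z₀, ξ'', h1, h2⟩ := core p W L₂ N n (toVal hW (algebraMap A B π))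
    ⟨algebraMap K₂ L₂ π₁, hint π₁ hπ₁⟩ ⟨algebraMap K₂ L₂ b, hint b hb⟩ hπ₀m hp₁0 hrelW I m
    (fun i => toVal hW (c i))
    (fun i hi => ⟨(hI i hi).1, (hI i hi).2.1.trans (Nat.le_succ n), (hI i hi).2.2.1,
      (hI i hi).2.2.2.1, hres i hi⟩) (algebraMap L L₂ ξ₀) _ _ hξ
  exact ⟨_, z₀, ξ'', hp₁0, hp₁m, h1, h2⟩

end Groth.Agent.Lib.Seat10.Epp
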