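import Groth.Agent.Lib.Seat10TowerB

/-!
# Transfer of weak unramifiedness and separable residue extension down `W' ∩ M = W` (Seat 10)

`WU W f`: elementwise form of "`W ∩ K₁ → W` is weakly unramified"; `isWeaklyUnramified_iff`;
`isWeaklyUnramified_comap`, `isGeometricallyReduced_comap`: if `W'` is a valuation subring of
`M'`, `j : M → M'`, `f : K₁ → M`, the properties for `(W', j ∘ f)` imply those for
`(W' ∩ M, f)`.
-/
set_option autoImplicit false

universe u

namespace Groth.Agent.Lib.Seat10.Tower

open EtRam IsLocalRing TensorProduct Groth.Agent.Lib.Seat10.ValDom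

variable {K₁ M M' : Type u} [Field K₁] [Field M] [Field M']

/-- elementwise form of weak unramifiedness of `W ∩ K₁ → W` -/
def WU (W : ValuationSubring M) (f : K₁ →+* M) : Prop :=
  ∀ w : M, w ∈ W → W.valuation w < 1 →
    ∃ v : K₁, f v ∈ W ∧ W.valuation (f v) < 1 ∧ ∃ c ∈ W, w = c * f v

theorem isWeaklyUnramified_iff (W : ValuationSubring M) (f : K₁ →+* M) :
    (letI : Algebra (W.comap f) W := (inclOfComap W f).toAlgebra
     IsWeaklyUnramified (W.comap f) W) ↔ WU W f := by
  let _ : Algebra (W.comap f) W := (inclOfComap W f).toAlgebra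
  show IsWeaklyUnramified (W.comap f) W ↔ WU W f
  have hmax : ∀ v : W.comap f, v ∈ maximalIdeal (W.comap f) ↔ W.valuation (f (v : K₁)) < 1 := by
    intro v
    rw [ValuationSubring.valuation_lt_one_iff, valuation_comap_lt_one_iff]
  constructor
  · intro h w hw hlt
    have hmem : (⟨w, hw⟩ : W) ∈ maximalIdeal W := by
      rw [ValuationSubring.valuation_lt_one_iff]
      exact hlt
    unfold IsWeaklyUnramified at h
    rw [← h, Ideal.map] at hmem
    have key : ∀ y : W, y ∈ Ideal.span (⇑(algebraMap (W.comap f) W) '' ↑(maximalIdeal (W.comap f))) →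
        ∃ v : W.comap f, v ∈ maximalIdeal (W.comap f) ∧ inclOfComap W f v ∣ y := by
      intro y hy
      induction hy using Submodule.span_induction with
      | mem y hy =>
        obtain ⟨v, hv, rfl⟩ := hy
        exact ⟨v, hv, dvd_refl _⟩
      | zero => exact ⟨0, zero_mem _, dvd_zero _⟩
      | add y₁ y₂ _ _ h₁ h₂ =>
        obtain ⟨v₁, hv₁, d₁⟩ := h₁
        obtain ⟨v₂, hv₂, d₂⟩ := h₂
        rcases ValuationRing.dvd_total v₁ v₂ with hd | hd
        · exact ⟨v₁, hv₁, dvd_add d₁ ((map_dvd (inclOfComap W f) hd).trans d₂)⟩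
        · exact ⟨v₂, hv₂, dvd_add ((map_dvd (inclOfComap W f) hd).trans d₁) d₂⟩
      | smul c y _ hy =>
        obtain ⟨v, hv, d⟩ := hy
        exact ⟨v, hv, Dvd.dvd.mul_left d c⟩
    obtain ⟨v, hv, c, hc⟩ := key _ hmem
    refine ⟨(v : K₁), v.2, (hmax v).mp hv, (c : M), c.2, ?_⟩
    have := congrArg Subtype.val hc
    simp only [MulMemClass.coe_mul, inclOfComap_apply_coe] at this
    rw [this, mul_comm]
  · intro h
    unfold IsWeaklyUnramified
    apply le_antisymm
    · rw [Ideal.map_le_iff_le_comap]
      intro v hv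
      rw [Ideal.mem_comap, ValuationSubring.valuation_lt_one_iff]
      exact (hmax v).mp hv
    · intro y hy
      rw [ValuationSubring.valuation_lt_one_iff] at hy
      obtain ⟨v, hvW, hvlt, c, hcW, hc⟩ := h (y : M) y.2 hy
      have hv' : (⟨v, hvW⟩ : W.comap f) ∈ maximalIdeal (W.comap f) := (hmax _).mpr hvlt
      have hy' : y = (⟨c, hcW⟩ : W) * algebraMap (W.comap f) W ⟨v, hvW⟩ := Subtype.ext hc
      rw [hy']
      exact Ideal.mul_mem_left _ _ (Ideal.mem_map_of_mem _ hv')

theorem WU_comap (W' : ValuationSubring M') (j : M →+* M') (f : K₁ →+* M)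
    (h : WU W' (j.comp f)) : WU (W'.comap j) f := by
  intro w hw hlt
  rw [valuation_comap_lt_one_iff] at hlt
  obtain ⟨v, hvW, hvlt, c, hcW, hc⟩ := h (j w) hw hlt
  rw [RingHom.comp_apply] at hvW hvlt hc
  refine ⟨v, hvW, (valuation_comap_lt_one_iff _ _ _).mpr hvlt, ?_⟩
  by_cases hfv : f v = 0
  · refine ⟨0, zero_mem _, ?_⟩
    rw [hfv, map_zero, mul_zero] at hc
    rw [zero_mul]
    exact j.injective (by rw [hc, map_zero])
  · refine ⟨w / f v, ?_, ?_⟩
    · rw [ValuationSubring.mem_comap, map_div₀, hc,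
        mul_div_assoc, div_self (fun h0 => hfv (j.injective (by rw [h0, map_zero]))), mul_one]
      exact hcW
    · rw [div_mul_cancel₀ _ hfv]

theorem isWeaklyUnramified_comap (W' : ValuationSubring M') (j : M →+* M') (f : K₁ →+* M)
    (h : letI : Algebra (W'.comap (j.comp f)) W' := (inclOfComap W' (j.comp f)).toAlgebra
      IsWeaklyUnramified (W'.comap (j.comp f)) W') :
    letI : Algebra ((W'.comap j).comap f) (W'.comap j) := (inclOfComap (W'.comap j) f).toAlgebra
    IsWeaklyUnramified ((W'.comap j).comap f) (W'.comap j) :=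
  (isWeaklyUnramified_iff _ _).mpr (WU_comap W' j f ((isWeaklyUnramified_iff _ _).mp h))

theorem isGeometricallyReduced_of_comp {k k' k'' : Type u} [Field k] [Field k'] [Field k'']
    (p : k →+* k') (q : k' →+* k'')
    (h : @Algebra.IsGeometricallyReduced k k'' _ _ (q.comp p).toAlgebra) :
    @Algebra.IsGeometricallyReduced k k' _ _ p.toAlgebra := by
  let _ : Algebra k k' := p.toAlgebra
  let _ : Algebra k k'' := (q.comp p).toAlgebra
  let g : k' →ₐ[k] k'' := { q with commutes' := fun _ => rfl }
  exact Algebra.IsGeometricallyReduced.of_injective g q.injective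

theorem isGeometricallyReduced_comap (W' : ValuationSubring M') (j : M →+* M') (f : K₁ →+* M)
    (h : @Algebra.IsGeometricallyReduced (ResidueField (W'.comap (j.comp f))) (ResidueField W') _ _
        (ResidueField.map (inclOfComap W' (j.comp f))).toAlgebra) :
    @Algebra.IsGeometricallyReduced (ResidueField ((W'.comap j).comap f))
      (ResidueField (W'.comap j)) _ _
        (ResidueField.map (inclOfComap (W'.comap j) f)).toAlgebra := by
  apply isGeometricallyReduced_of_comp _ (ResidueField.map (inclOfComap W' j))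
  rw [← ResidueField.map_comp]
  exact h

end Groth.Agent.Lib.Seat10.Tower
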