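import Groth.Agent.Lib.Seat10EppD
import Groth.Agent.Lib.Seat10TowerC

/-!
# The Artin–Schreier step is weakly unramified (Seat 10)

`wu_step`: `W'` a valuation ring of `E = L₂(z)`, `z ^ p - z = ξ`, whose trace `R` on `L₂` is a DVR
over which `ξ` has a reduced representative as produced by `core`.  Then `R → W'` is weakly unramified.
-/

set_option autoImplicit false
set_option linter.style.haveILetI false
set_option maxHeartbeats 1600000

universe u

namespace Groth.Agent.Lib.Seat10.Epp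

open EtRam IsLocalRing Groth.Agent.Lib.Seat10.ValDom Groth.Agent.Lib.Seat10.Tower

theorem wu_step (p : ℕ) [hp : Fact p.Prime] (L₂ E : Type u) [Field L₂] [CharP L₂ p] [Field E]
    [Algebra L₂ E] (W' : ValuationSubring E)
    [IsDiscreteValuationRing (W'.comap (algebraMap L₂ E))]
    (ξ z₀ ξ'' : L₂) (z : E) (hz : z ^ p - z = algebraMap L₂ E ξ)
    (hgen : IntermediateField.adjoin L₂ {z} = ⊤)
    (p₁ : W'.comap (algebraMap L₂ E)) (hp₁0 : p₁ ≠ 0)
    (hp₁m : p₁ ∈ maximalIdeal (W'.comap (algebraMap L₂ E)))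
    (hξ : ξ = wp p z₀ + ξ'')
    (h : (∃ a : W'.comap (algebraMap L₂ E), algebraMap (W'.comap (algebraMap L₂ E)) L₂ a = ξ'') ∨
      ∃ (J : ℕ) (a : W'.comap (algebraMap L₂ E)), 0 < J ∧ p ∣ J ∧
        ξ'' * algebraMap (W'.comap (algebraMap L₂ E)) L₂ p₁ ^ J =
          algebraMap (W'.comap (algebraMap L₂ E)) L₂ a ∧
        ∀ r : W'.comap (algebraMap L₂ E), residue (W'.comap (algebraMap L₂ E)) a ≠
          residue (W'.comap (algebraMap L₂ E)) r ^ p) :
    WU W' (algebraMap L₂ E) := by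
  letI : Algebra (W'.comap (algebraMap L₂ E)) E :=
    ((algebraMap L₂ E).comp (algebraMap (W'.comap (algebraMap L₂ E)) L₂)).toAlgebra
  haveI : IsScalarTower (W'.comap (algebraMap L₂ E)) L₂ E :=
    IsScalarTower.of_algebraMap_eq (fun _ => rfl)
  have hV : Dominates (W'.comap (algebraMap L₂ E))
      (algebraMap (W'.comap (algebraMap L₂ E)) E) W' := by
    refine ⟨fun r => r.2, fun r hr => ?_⟩
    rw [ValuationSubring.valuation_lt_one_iff, valuation_comap_lt_one_iff] at hr
    exact hr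
  obtain ⟨ϖ, hϖirr⟩ := IsDiscreteValuationRing.exists_irreducible (W'.comap (algebraMap L₂ E))
  have key := as_fierce p (W'.comap (algebraMap L₂ E)) L₂ E ϖ hϖirr.maximalIdeal_eq p₁ hp₁0 hp₁m
    ξ z₀ ξ'' z hz hgen hξ h W' hV
  intro w hw hlt
  have hmem : (⟨w, hw⟩ : W') ∈ maximalIdeal W' :=
    (ValuationSubring.valuation_lt_one_iff _ _).mpr hlt
  rw [← key, hϖirr.maximalIdeal_eq, Ideal.map_span, Set.image_singleton,
    Ideal.mem_span_singleton'] at hmem
  obtain ⟨c, hc⟩ := hmem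
  refine ⟨(ϖ : L₂), ϖ.2, ?_, c, c.2, ?_⟩
  · exact hV.2 ϖ (by rw [hϖirr.maximalIdeal_eq]; exact Ideal.mem_span_singleton_self _)
  · exact (congrArg Subtype.val hc).symm

end Groth.Agent.Lib.Seat10.Epp
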