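import Mathlib

/-!
# Field-theoretic set-up for the separable-solution step (Seat 10)

* `exists_field_compositum`: a field compositum of `M'` and a finite extension `K₂` of `K₁`.
* `pow_mem_range_of_adjoin`: if `E = M'[K₂]` and `p`-th powers of `K₂` lie in `K₁` then `p`-th
  powers of `E` lie in `M'`.
* `compF`: the compositum `L K₂` inside `E` as an intermediate field, with its `K₂`-algebra
  structure; `compF_adjoin_eq_top`.
* `exists_separable_root`: a finite separable extension generated by a root of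
  `X^p - c X - a`.
* `pow_ne_of_isSeparable`: separable extensions acquire no new `p`-th roots.
* `mem_of_pow_eq`, `mem_of_pow_mem`: integrality inside a valuation subring.
-/

set_option autoImplicit false

universe u

namespace Groth.Agent.Lib.Seat10.SepStep

open TensorProduct Polynomial

section compositum

variable (K₁ M' K₂ : Type u) [Field K₁] [Field M'] [Field K₂] [Algebra K₁ M'] [Algebra K₁ K₂]
  [FiniteDimensional K₁ K₂]

theorem exists_field_compositum :
    ∃ (E : Type u) (_ : Field E) (_ : Algebra M' E) (_ : Algebra K₂ E) (_ : Algebra K₁ E)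
      (_ : IsScalarTower K₁ M' E) (_ : IsScalarTower K₁ K₂ E),
      FiniteDimensional M' E ∧ Algebra.adjoin M' (Set.range (algebraMap K₂ E)) = ⊤ := by
  have : Nontrivial (M' ⊗[K₁] K₂) := inferInstance
  obtain ⟨q, hq⟩ := Ideal.exists_maximal (M' ⊗[K₁] K₂)
  letI : Field ((M' ⊗[K₁] K₂) ⧸ q) := Ideal.Quotient.field q
  letI : Algebra K₂ ((M' ⊗[K₁] K₂) ⧸ q) :=
    ((Ideal.Quotient.mk q).comp
      (Algebra.TensorProduct.includeRight : K₂ →ₐ[K₁] M' ⊗[K₁] K₂).toRingHom).toAlgebra
  have htow : IsScalarTower K₁ K₂ ((M' ⊗[K₁] K₂) ⧸ q) := IsScalarTower.of_algebraMap_eq (fun k => by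
    show Ideal.Quotient.mk q (algebraMap K₁ (M' ⊗[K₁] K₂) k) =
      Ideal.Quotient.mk q ((Algebra.TensorProduct.includeRight : K₂ →ₐ[K₁] M' ⊗[K₁] K₂)
        (algebraMap K₁ K₂ k))
    rw [AlgHom.commutes])
  have hmk_tmul : ∀ (l : M') (k : K₂), Ideal.Quotient.mk q (l ⊗ₜ[K₁] k) =
      algebraMap M' ((M' ⊗[K₁] K₂) ⧸ q) l * algebraMap K₂ ((M' ⊗[K₁] K₂) ⧸ q) k := by
    intro l k
    have h1 : l ⊗ₜ[K₁] k = (l ⊗ₜ[K₁] (1 : K₂)) * ((1 : M') ⊗ₜ[K₁] k) := by
      rw [Algebra.TensorProduct.tmul_mul_tmul, mul_one, one_mul]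
    rw [h1, map_mul]
    rfl
  have hadj : Algebra.adjoin M' (Set.range (algebraMap K₂ ((M' ⊗[K₁] K₂) ⧸ q))) = ⊤ := by
    rw [eq_top_iff]
    intro m _
    obtain ⟨t, rfl⟩ := Ideal.Quotient.mk_surjective m
    induction t using TensorProduct.induction_on with
    | zero => rw [map_zero]; exact zero_mem _
    | tmul l k =>
      rw [hmk_tmul]
      exact mul_mem (Subalgebra.algebraMap_mem _ _) (Algebra.subset_adjoin ⟨k, rfl⟩)
    | add x y hx hy => rw [map_add]; exact add_mem (hx trivial) (hy trivial)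
  have hfin : FiniteDimensional M' ((M' ⊗[K₁] K₂) ⧸ q) := inferInstance
  exact ⟨(M' ⊗[K₁] K₂) ⧸ q, inferInstance, inferInstance, inferInstance, inferInstance,
    inferInstance, htow, hfin, hadj⟩

end compositum

section powmem

variable {K₁ M' K₂ E : Type*} [Field K₁] [Field M'] [Field K₂] [Field E] [Algebra K₁ M']
  [Algebra K₁ K₂] [Algebra M' E] [Algebra K₂ E] [Algebra K₁ E] [IsScalarTower K₁ M' E]
  [IsScalarTower K₁ K₂ E]

theorem pow_mem_range_of_adjoin (p : ℕ) [Fact p.Prime] [CharP E p]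
    (hadj : Algebra.adjoin M' (Set.range (algebraMap K₂ E)) = ⊤)
    (hpow : ∀ k : K₂, ∃ k₁ : K₁, algebraMap K₁ K₂ k₁ = k ^ p) (z : E) :
    ∃ m : M', algebraMap M' E m = z ^ p := by
  have hz : z ∈ Algebra.adjoin M' (Set.range (algebraMap K₂ E)) := by rw [hadj]; trivial
  induction hz using Algebra.adjoin_induction with
  | mem x hx =>
    obtain ⟨k, rfl⟩ := hx
    obtain ⟨k₁, hk₁⟩ := hpow k
    refine ⟨algebraMap K₁ M' k₁, ?_⟩
    rw [← IsScalarTower.algebraMap_apply, IsScalarTower.algebraMap_apply K₁ K₂ E, hk₁, map_pow]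
  | algebraMap m => exact ⟨m ^ p, by rw [map_pow]⟩
  | add x y _ _ hx hy =>
    obtain ⟨m₁, h₁⟩ := hx
    obtain ⟨m₂, h₂⟩ := hy
    exact ⟨m₁ + m₂, by rw [map_add, h₁, h₂, add_pow_char]⟩
  | mul x y _ _ hx hy =>
    obtain ⟨m₁, h₁⟩ := hx
    obtain ⟨m₂, h₂⟩ := hy
    exact ⟨m₁ * m₂, by rw [map_mul, h₁, h₂, mul_pow]⟩

end powmem

section compF

variable (L K₂ E : Type u) [Field L] [Field K₂] [Field E] [Algebra L E] [Algebra K₂ E]

/-- the compositum of `L` and `K₂` inside `E` -/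
abbrev compF : IntermediateField L E := IntermediateField.adjoin L (Set.range (algebraMap K₂ E))

noncomputable instance compF.algebra : Algebra K₂ (compF L K₂ E) :=
  (RingHom.codRestrict (algebraMap K₂ E) (compF L K₂ E)
    (fun x => IntermediateField.subset_adjoin _ _ ⟨x, rfl⟩)).toAlgebra

instance compF.isScalarTower : IsScalarTower K₂ (compF L K₂ E) E :=
  IsScalarTower.of_algebraMap_eq fun _ => rfl

theorem compF.coe_algebraMap (k : K₂) :
    ((algebraMap K₂ (compF L K₂ E) k : compF L K₂ E) : E) = algebraMap K₂ E k := rfl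

instance compF.isScalarTower' (K : Type u) [Field K] [Algebra K L] [Algebra K K₂] [Algebra K E]
    [IsScalarTower K L E] [IsScalarTower K K₂ E] : IsScalarTower K K₂ (compF L K₂ E) :=
  IsScalarTower.of_algebraMap_eq fun k => by
    apply Subtype.ext
    show algebraMap K E k = algebraMap K₂ E (algebraMap K K₂ k)
    rw [← IsScalarTower.algebraMap_apply]

theorem compF_adjoin_eq_top [Algebra.IsAlgebraic L E] :
    Algebra.adjoin L (Set.range (algebraMap K₂ (compF L K₂ E))) = ⊤ := by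
  have h1 : (compF L K₂ E).toSubalgebra = Algebra.adjoin L (Set.range (algebraMap K₂ E)) :=
    IntermediateField.adjoin_toSubalgebra _
  apply Subalgebra.map_injective (f := (compF L K₂ E).val) Subtype.val_injective
  rw [Algebra.map_top, AlgHom.map_adjoin, ← Set.range_comp]
  have h2 : (compF L K₂ E).val.range = (compF L K₂ E).toSubalgebra := by
    ext x
    constructor
    · rintro ⟨y, rfl⟩
      exact y.2
    · intro hx
      exact ⟨⟨x, hx⟩, rfl⟩
  rw [h2, h1]
  rfl

end compF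

section sep

variable {K₁ : Type u} [Field K₁]

theorem exists_separable_root (p : ℕ) (hp : p.Prime) [CharP K₁ p] (a c : K₁) (hc : c ≠ 0) :
    ∃ (K₃ : Type u) (_ : Field K₃) (_ : Algebra K₁ K₃), FiniteDimensional K₁ K₃ ∧
      Algebra.IsSeparable K₁ K₃ ∧ Module.finrank K₁ K₃ ≤ p ∧
      ∃ β : K₃, β ^ p = algebraMap K₁ K₃ c * β + algebraMap K₁ K₃ a := by
  set f : K₁[X] := X ^ p - C c * X - C a with hf
  have hfdeg : f.natDegree = p := by
    rw [hf, sub_sub]
    have h1 : (C c * X + C a : K₁[X]).natDegree < (X ^ p : K₁[X]).natDegree := by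
      rw [natDegree_X_pow]
      calc (C c * X + C a).natDegree ≤ 1 := by
            refine (natDegree_add_le _ _).trans (max_le ?_ ?_)
            · exact (natDegree_C_mul_le _ _).trans natDegree_X_le
            · rw [natDegree_C]; omega
        _ < p := hp.one_lt
    rw [natDegree_sub_eq_left_of_natDegree_lt h1, natDegree_X_pow]
  have hf0 : f ≠ 0 := by
    intro h
    rw [h, natDegree_zero] at hfdeg
    exact hp.ne_zero hfdeg.symm
  have hfder : derivative f = C (-c) := by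
    rw [hf, derivative_sub, derivative_sub, derivative_X_pow, derivative_C, derivative_mul,
      derivative_C, derivative_X, CharP.cast_eq_zero, map_zero]
    simp
  have hfsep : f.Separable := by
    rw [separable_def, hfder]
    have hu : IsUnit (C (-c) : K₁[X]) := isUnit_C.mpr (neg_ne_zero.mpr hc).isUnit
    obtain ⟨v, hv⟩ := hu
    exact ⟨0, ((v⁻¹ : K₁[X]ˣ) : K₁[X]), by rw [zero_mul, zero_add, ← hv, Units.inv_mul]⟩
  have hfnu : ¬IsUnit f := by
    intro h
    have := natDegree_eq_zero_of_isUnit h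
    rw [hfdeg] at this
    exact hp.ne_zero this
  obtain ⟨g, hg, hgf⟩ := WfDvdMonoid.exists_irreducible_factor hfnu hf0
  have : Fact (Irreducible g) := ⟨hg⟩
  have hg0 : g ≠ 0 := hg.ne_zero
  have hgsep : g.Separable := hfsep.of_dvd hgf
  refine ⟨AdjoinRoot g, inferInstance, inferInstance, ?_, ?_, ?_, AdjoinRoot.root g, ?_⟩
  · exact (AdjoinRoot.powerBasis hg0).finite
  · rw [← separableClosure.eq_top_iff, eq_top_iff,
      ← IntermediateField.adjoin_eq_top_of_algebra K₁ _ (AdjoinRoot.adjoinRoot_eq_top (f := g)),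
      IntermediateField.adjoin_le_iff]
    intro x hx
    rw [Set.mem_singleton_iff] at hx
    rw [hx]
    show IsSeparable K₁ (AdjoinRoot.root g)
    rw [IsSeparable, AdjoinRoot.minpoly_root hg0]
    exact hgsep.mul_unit (isUnit_C.mpr (inv_ne_zero (leadingCoeff_ne_zero.mpr hg0)).isUnit)
  · rw [(AdjoinRoot.powerBasis hg0).finrank, AdjoinRoot.powerBasis_dim, ← hfdeg]
    exact natDegree_le_of_dvd hgf hf0
  · have h1 : aeval (AdjoinRoot.root g) f = 0 := by
      rw [AdjoinRoot.aeval_eq, AdjoinRoot.mk_eq_zero]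
      exact hgf
    rw [hf, map_sub, map_sub, map_pow, aeval_X, map_mul, aeval_C, aeval_X, aeval_C, sub_sub,
      sub_eq_zero] at h1
    exact h1

theorem pow_ne_of_isSeparable {K₃ : Type u} [Field K₃] [Algebra K₁ K₃] [Algebra.IsSeparable K₁ K₃]
    (p : ℕ) (hp : p.Prime) [CharP K₁ p] (a : K₁) (ha : ∀ b : K₁, b ^ p ≠ a) (b : K₃) :
    b ^ p ≠ algebraMap K₁ K₃ a := by
  intro hb
  have : ExpChar K₁ p := ExpChar.prime hp
  have hpi : IsPurelyInseparable K₁ (IntermediateField.adjoin K₁ {b}) := by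
    rw [IntermediateField.isPurelyInseparable_adjoin_simple_iff_pow_mem K₁ K₃ p]
    exact ⟨1, a, by rw [pow_one, hb]⟩
  have hsep : Algebra.IsSeparable K₁ (IntermediateField.adjoin K₁ {b}) :=
    Algebra.isSeparable_tower_bot_of_isSeparable K₁ (IntermediateField.adjoin K₁ {b}) K₃
  obtain ⟨y, hy⟩ := IsPurelyInseparable.surjective_algebraMap_of_isSeparable K₁
    (IntermediateField.adjoin K₁ {b}) ⟨b, IntermediateField.mem_adjoin_simple_self K₁ b⟩
  have hy' : algebraMap K₁ K₃ y = b := congrArg Subtype.val hy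
  apply ha y
  apply (algebraMap K₁ K₃).injective
  rw [map_pow, hy', hb]

end sep

section valuation

variable {E : Type*} [Field E] (𝒲 : ValuationSubring E)

theorem mem_of_pow_mem {x : E} {n : ℕ} (hn : n ≠ 0) (hx : x ^ n ∈ 𝒲) : x ∈ 𝒲 := by
  rw [← ValuationSubring.valuation_le_one_iff] at hx ⊢
  rw [map_pow] at hx
  exact (pow_le_one_iff_of_nonneg zero_le hn).mp hx

theorem mem_of_pow_eq {x c a : E} {p : ℕ} (hp : 2 ≤ p) (hc : c ∈ 𝒲) (ha : a ∈ 𝒲)
    (hx : x ^ p = c * x + a) : x ∈ 𝒲 := by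
  by_contra hxW
  have hinv : x⁻¹ ∈ 𝒲 := (𝒲.mem_or_inv_mem x).resolve_left hxW
  have hx0 : x ≠ 0 := fun h => hxW (h ▸ 𝒲.zero_mem)
  apply hxW
  have hxw : x * x⁻¹ = 1 := mul_inv_cancel₀ hx0
  have e1 : x ^ p * x⁻¹ ^ (p - 1) = x := by
    have h2 : x ^ p = x * x ^ (p - 1) := by rw [← pow_succ', Nat.sub_add_cancel (by omega)]
    rw [h2, mul_assoc, ← mul_pow, hxw, one_pow, mul_one]
  have e2 : c * x * x⁻¹ ^ (p - 1) = c * x⁻¹ ^ (p - 2) := by
    have h3 : x⁻¹ ^ (p - 1) = x⁻¹ * x⁻¹ ^ (p - 2) := by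
      rw [← pow_succ']; congr 1; omega
    rw [h3, mul_assoc, ← mul_assoc x, hxw, one_mul]
  have h1 : x = c * x⁻¹ ^ (p - 2) + a * x⁻¹ ^ (p - 1) := by
    rw [← e2, ← add_mul, ← hx, e1]
  rw [h1]
  exact add_mem (mul_mem hc (pow_mem hinv _)) (mul_mem ha (pow_mem hinv _))

end valuation

end Groth.Agent.Lib.Seat10.SepStep
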