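import Groth.Agent.Lib.Seat10TowerC
import Groth.Agent.Lib.Seat36GeomRedTrans

/-!
# The local predicate of `EtRam.IsSolution`: descent and composition (Seat 10)

* `Good W f`: `W ∩ K₁ → W` is weakly unramified with geometrically reduced residue extension;
* `good_comap`: `Good W' (j ∘ f) → Good (W' ∩ M) f`;
* `good_comp`: `Good W' f' → Good (W' ∩ N') ι → Good W' (f' ∘ ι)`;
* `comap_eq_of_dominates`: a valuation subring dominated by the trace of another one equals it.
-/

set_option autoImplicit false

universe u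

namespace Groth.Agent.Lib.Seat10.ShDvr

open EtRam IsLocalRing Groth.Agent.Lib.Seat10.Tower Groth.Agent.Lib.Seat10.ValDom

variable {K₁ N' M M' : Type u} [Field K₁] [Field N'] [Field M] [Field M']

/-- the local predicate of `IsSolution` -/
def Good (W : ValuationSubring M) (f : K₁ →+* M) : Prop :=
  (letI : Algebra (W.comap f) W := (inclOfComap W f).toAlgebra
   IsWeaklyUnramified (W.comap f) W) ∧
    @Algebra.IsGeometricallyReduced (ResidueField (W.comap f)) (ResidueField W) _ _
      (ResidueField.map (inclOfComap W f)).toAlgebra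

theorem isSolution_iff_good (B K L K₁ : Type u) [CommRing B] [IsLocalRing B] [Field K] [Field L]
    [Field K₁] [Algebra K L] [Algebra K K₁] [Algebra B L] :
    IsSolution B K L K₁ ↔ ForallLocalExt B K L K₁ (fun _ _ W f => Good W f) := Iff.rfl

theorem good_comap (W' : ValuationSubring M') (j : M →+* M') (f : K₁ →+* M)
    (h : Good W' (j.comp f)) : Good (W'.comap j) f :=
  ⟨isWeaklyUnramified_comap W' j f h.1, isGeometricallyReduced_comap W' j f h.2⟩

/-- transitivity of geometric reducedness for ring homomorphisms of fields -/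
theorem isGeometricallyReduced_comp {k k' k'' : Type u} [Field k] [Field k'] [Field k'']
    (p : k →+* k') (q : k' →+* k'')
    (hp : @Algebra.IsGeometricallyReduced k k' _ _ p.toAlgebra)
    (hq : @Algebra.IsGeometricallyReduced k' k'' _ _ q.toAlgebra) :
    @Algebra.IsGeometricallyReduced k k'' _ _ (q.comp p).toAlgebra := by
  letI : Algebra k k' := p.toAlgebra
  letI : Algebra k' k'' := q.toAlgebra
  letI : Algebra k k'' := (q.comp p).toAlgebra
  haveI : IsScalarTower k k' k'' := IsScalarTower.of_algebraMap_eq fun _ => rfl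
  haveI : Algebra.IsGeometricallyReduced k k' := hp
  haveI : Algebra.IsGeometricallyReduced k' k'' := hq
  exact Groth.Agent.Lib.Seat36.GeomRedTrans.isGeometricallyReduced_trans k k' k''

theorem WU_comp (W' : ValuationSubring M') (f' : N' →+* M') (ι : K₁ →+* N')
    (h₁ : WU W' f') (h₂ : WU (W'.comap f') ι) : WU W' (f'.comp ι) := by
  intro w hw hlt
  obtain ⟨v', hv'W, hv'lt, c, hcW, hc⟩ := h₁ w hw hlt
  have hv'V : v' ∈ W'.comap f' := hv'W
  have hv'lt' : (W'.comap f').valuation v' < 1 := (valuation_comap_lt_one_iff _ _ _).mpr hv'lt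
  obtain ⟨v, hvV, hvlt, c', hc'V, hc'⟩ := h₂ v' hv'V hv'lt'
  refine ⟨v, hvV, (valuation_comap_lt_one_iff W' f' (ι v)).mp hvlt, c * f' c', ?_, ?_⟩
  · exact W'.mul_mem _ _ hcW hc'V
  · rw [hc, hc', map_mul, RingHom.comp_apply, mul_assoc]

theorem good_comp (W' : ValuationSubring M') (f' : N' →+* M') (ι : K₁ →+* N')
    (h₁ : Good W' f') (h₂ : Good (W'.comap f') ι) : Good W' (f'.comp ι) := by
  refine ⟨(isWeaklyUnramified_iff _ _).mpr
    (WU_comp W' f' ι ((isWeaklyUnramified_iff _ _).mp h₁.1) ((isWeaklyUnramified_iff _ _).mp h₂.1)),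
    ?_⟩
  have h := isGeometricallyReduced_comp _ _ h₂.2 h₁.2
  rw [← ResidueField.map_comp] at h
  exact h

/-- If `X ∩ E` contains the valuation subring `Y` of `E` and the inclusion is local, then
`X ∩ E = Y`. -/
theorem comap_eq_of_dominates {E F : Type u} [Field E] [Field F] (X : ValuationSubring F)
    (θ : E →+* F) (Y : ValuationSubring E) (h1 : ∀ y ∈ Y, θ y ∈ X)
    (h2 : ∀ y ∈ Y, Y.valuation y < 1 → X.valuation (θ y) < 1) : X.comap θ = Y := by
  ext x
  rw [ValuationSubring.mem_comap]
  constructor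
  · intro hx
    by_contra hxY
    have hx0 : x ≠ 0 := fun h => hxY (h ▸ Y.zero_mem)
    have hinv : x⁻¹ ∈ Y := (Y.mem_or_inv_mem x).resolve_left hxY
    have hlt : Y.valuation x⁻¹ < 1 := by
      rw [← ValuationSubring.mem_nonunits_iff, ValuationSubring.mem_nonunits_iff_or]
      right
      rwa [inv_inv]
    have h3 := h2 _ hinv hlt
    rw [map_inv₀, map_inv₀] at h3
    have h4 : X.valuation (θ x) ≤ 1 := (ValuationSubring.valuation_le_one_iff X _).mpr hx
    have hne : X.valuation (θ x) ≠ 0 := by
      rw [Ne, map_eq_zero, map_eq_zero]; exact hx0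
    have h5 : 1 < X.valuation (θ x) := by
      by_contra hle
      push Not at hle
      have : (1 : _) ≤ (X.valuation (θ x))⁻¹ := (one_le_inv₀ (zero_lt_iff.mpr hne)).mpr hle
      exact absurd h3 (not_lt.mpr this)
    exact absurd h4 (not_le.mpr h5)
  · exact h1 x

end Groth.Agent.Lib.Seat10.ShDvr
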