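import Groth.Agent.Lib.Seat10TowerJ

/-!
# Variants of the abstract local statement (Seat 10)

`map_maximalIdeal_eq'`: hypotheses on `κ(B) ⊗[A] κ(V)` stated directly;
`isReduced_and_krullDimLE_zero_of_surjective`: they hold when `A → κ(V)` is surjective.
-/

set_option autoImplicit false

universe u

namespace Groth.Agent.Lib.Seat10.Tower

open IsLocalRing TensorProduct

section Main'

variable {A B V W : Type u} [CommRing A] [IsLocalRing A] [CommRing B] [IsLocalRing B]
  [CommRing V] [IsLocalRing V] [CommRing W] [IsDomain W] [IsDiscreteValuationRing W]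
  [Algebra A B] [Algebra A V] [Algebra A W] [Algebra B W] [Algebra V W]
  [IsScalarTower A B W] [IsScalarTower A V W]
  [IsLocalHom (algebraMap A V)] [IsLocalHom (algebraMap V W)]

/-- variant of `map_maximalIdeal_eq` with the hypotheses on `κ(B) ⊗[A] κ(V)` stated directly -/
theorem map_maximalIdeal_eq' (hwu : (maximalIdeal A).map (algebraMap A B) = maximalIdeal B)
    (π₁ : V) (hπ₁ : maximalIdeal V = Ideal.span {π₁}) (hπ₁0 : algebraMap V W π₁ ≠ 0)
    [IsReduced (ResidueField B ⊗[A] ResidueField V)]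
    [Ring.KrullDimLE 0 (ResidueField B ⊗[A] ResidueField V)]
    (hgen : ∀ w : W, ∃ x y : B ⊗[A] V, rho A B V W y ≠ 0 ∧ w * rho A B V W y = rho A B V W x) :
    (maximalIdeal V).map (algebraMap V W) = maximalIdeal W := by
  have hρp : (rho A B V W).toRingHom ((1 : B) ⊗ₜ[A] π₁) = algebraMap V W π₁ := by
    show rho A B V W ((1 : B) ⊗ₜ[A] π₁) = _
    simp [rho]
  have hπm : π₁ ∈ maximalIdeal V := hπ₁ ▸ Ideal.mem_span_singleton_self π₁
  have hp : (rho A B V W).toRingHom ((1 : B) ⊗ₜ[A] π₁) ∈ maximalIdeal W := by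
    rw [hρp, IsLocalRing.mem_maximalIdeal, mem_nonunits_iff]
    rw [IsLocalRing.mem_maximalIdeal, mem_nonunits_iff] at hπm
    exact fun h => hπm (isUnit_of_map_unit (algebraMap V W) π₁ h)
  have hp0 : (rho A B V W).toRingHom ((1 : B) ⊗ₜ[A] π₁) ≠ 0 := by rw [hρp]; exact hπ₁0
  have := maximalIdeal_eq_span (rho A B V W).toRingHom ((1 : B) ⊗ₜ[A] π₁) hp hp0
    (rho_star hwu π₁ hπ₁) hgen
  rw [this, hρp, hπ₁, Ideal.map_span, Set.image_singleton]

omit [IsLocalRing A] [IsLocalHom (algebraMap A V)] in
/-- if `A → κ(V)` is surjective then `κ(B) ⊗[A] κ(V)` is a quotient of the field `κ(B)` -/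
theorem isReduced_and_krullDimLE_zero_of_surjective
    (hsurj : Function.Surjective (algebraMap A (ResidueField V))) :
    IsReduced (ResidueField B ⊗[A] ResidueField V) ∧
      Ring.KrullDimLE 0 (ResidueField B ⊗[A] ResidueField V) := by
  let φ : ResidueField B →+* ResidueField B ⊗[A] ResidueField V :=
    Algebra.TensorProduct.includeLeftRingHom
  have hφ : Function.Surjective φ := by
    intro x
    induction x using TensorProduct.induction_on with
    | zero => exact ⟨0, map_zero _⟩
    | tmul b v =>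
      obtain ⟨a, rfl⟩ := hsurj v
      refine ⟨a • b, ?_⟩
      show (a • b) ⊗ₜ[A] (1 : ResidueField V) = b ⊗ₜ[A] (algebraMap A (ResidueField V) a)
      rw [Algebra.algebraMap_eq_smul_one, TensorProduct.smul_tmul]
    | add x y hx hy =>
      obtain ⟨x', rfl⟩ := hx
      obtain ⟨y', rfl⟩ := hy
      exact ⟨x' + y', map_add _ _ _⟩
  constructor
  · refine ⟨fun x hx => ?_⟩
    obtain ⟨b, rfl⟩ := hφ x
    by_cases hb : b = 0
    · rw [hb, map_zero]
    · have hu : IsUnit (φ b) := (IsUnit.mk0 b hb).map φ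
      obtain ⟨n, hn⟩ := hx
      have h1 : IsUnit ((φ b) ^ n) := hu.pow n
      rw [hn] at h1
      have : Subsingleton (ResidueField B ⊗[A] ResidueField V) :=
        subsingleton_of_zero_eq_one (isUnit_zero_iff.mp h1)
      exact Subsingleton.elim _ _
  · refine Ring.KrullDimLE.mk₀ fun I hI => ?_
    have hprime : (I.comap φ).IsPrime := Ideal.comap_isPrime _ _
    have hbot : I.comap φ = ⊥ := Ideal.eq_bot_of_prime _
    have hmax : (I.comap φ).IsMaximal := hbot ▸ Ideal.bot_isMaximal
    have hmap : (I.comap φ).map φ = I := Ideal.map_comap_of_surjective φ hφ I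
    rcases Ideal.map_eq_top_or_isMaximal_of_surjective φ hφ hmax with h | h
    · rw [hmap] at h
      exact absurd h hI.ne_top
    · rw [hmap] at h
      exact h

end Main'

end Groth.Agent.Lib.Seat10.Tower
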