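import Groth.Agent.Lib.Seat10TowerH
import Groth.Agent.Lib.Seat10TowerL

/-!
# Weak solutions when the residue field of `W ∩ K₁` is that of `A` (Seat 10)

`isWeakSolution_of_residue_surjective`: `A → B` weakly unramified, `K₁/K` finite such that every
valuation subring of `K₁` dominating `A` has residue field generated by `A`; then `K₁` is a weak
solution for `A → B`.
-/

set_option autoImplicit false

universe u

namespace Groth.Agent.Lib.Seat10.Tower

open EtRam IsLocalRing TensorProduct Groth.Agent.Lib.Seat10.ValDom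

theorem isWeakSolution_of_residue_surjective (A B K L : Type u) [CommRing A] [IsDomain A]
    [IsDiscreteValuationRing A]
    [CommRing B] [IsDomain B] [IsDiscreteValuationRing B] [Algebra A B]
    [IsLocalHom (algebraMap A B)]
    [Field K] [Field L] [Algebra A K] [IsFractionRing A K] [Algebra B L] [IsFractionRing B L]
    [Algebra K L] [Algebra A L] [IsScalarTower A K L] [IsScalarTower A B L]
    (hw : EtRam.IsWeaklyUnramified A B)
    (K₁ : Type u) [Field K₁] [Algebra K K₁] [FiniteDimensional K K₁]
    (hres : ∀ (V : ValuationSubring K₁)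
      (h : Dominates A ((algebraMap K K₁).comp (algebraMap A K)) V),
      Function.Surjective (fun a : A => IsLocalRing.residue V
        (RingHom.codRestrict ((algebraMap K K₁).comp (algebraMap A K)) V h.1 a))) :
    EtRam.IsWeakSolution B K L K₁ := by
  intro M _ _ _ _ _ _ hadj W hW
  -- compatibility of the two maps `A → M`
  have hcompat : ∀ a : A, algebraMap K₁ M (algebraMap K K₁ (algebraMap A K a)) =
      algebraMap L M (algebraMap B L (algebraMap A B a)) := by
    intro a
    rw [← IsScalarTower.algebraMap_apply K K₁ M, IsScalarTower.algebraMap_apply K L M,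
      ← IsScalarTower.algebraMap_apply A K L, ← IsScalarTower.algebraMap_apply A B L]
  have hdomV : Dominates A ((algebraMap K K₁).comp (algebraMap A K))
      (W.comap (algebraMap K₁ M)) := by
    rw [← dominates_comp_iff]
    refine ⟨fun a => ?_, fun a ha => ?_⟩
    · simp only [RingHom.comp_apply]
      rw [hcompat]
      exact hW.1 _
    · simp only [RingHom.comp_apply]
      rw [hcompat]
      apply hW.2
      rw [IsLocalRing.mem_maximalIdeal, mem_nonunits_iff] at ha ⊢
      exact fun h => ha (isUnit_of_map_unit (algebraMap A B) a h)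
  have hV_dvr : IsDiscreteValuationRing (W.comap (algebraMap K₁ M)) :=
    isDiscreteValuationRing_of_dominates_finite A K _ hdomV
  have hfinLM : FiniteDimensional L M := finiteDimensional_of_adjoin_eq_top K hadj
  have hW_dvr : IsDiscreteValuationRing W := isDiscreteValuationRing_of_dominates_finite B L W hW
  -- algebra structures
  let _ : Algebra A (W.comap (algebraMap K₁ M)) := (toVal hdomV).toAlgebra
  let _ : Algebra B W := (toVal hW).toAlgebra
  let _ : Algebra (W.comap (algebraMap K₁ M)) W := (inclOfComap W (algebraMap K₁ M)).toAlgebra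
  let _ : Algebra A W := ((algebraMap B W).comp (algebraMap A B)).toAlgebra
  have : IsScalarTower A B W := IsScalarTower.of_algebraMap_eq (fun _ => rfl)
  have : IsScalarTower A (W.comap (algebraMap K₁ M)) W :=
    IsScalarTower.of_algebraMap_eq (fun a => Subtype.ext (hcompat a).symm)
  have : IsLocalHom (algebraMap A (W.comap (algebraMap K₁ M))) := isLocalHom_toVal hdomV
  have : IsLocalHom (algebraMap B W) := isLocalHom_toVal hW
  have : IsLocalHom (algebraMap (W.comap (algebraMap K₁ M)) W) :=
    isLocalHom_inclOfComap W (algebraMap K₁ M)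
  have : IsLocalHom (algebraMap A W) :=
    RingHom.isLocalHom_comp (algebraMap B W) (algebraMap A B)
  -- `κ(B) ⊗ κ(W ∩ K₁)` is a quotient of a field
  have hsurj : Function.Surjective
      (algebraMap A (ResidueField (W.comap (algebraMap K₁ M)))) := by
    intro x
    obtain ⟨a, ha⟩ := hres _ hdomV x
    exact ⟨a, ha⟩
  obtain ⟨hred, hdim⟩ := isReduced_and_krullDimLE_zero_of_surjective (A := A) (B := B)
    (V := W.comap (algebraMap K₁ M)) hsurj
  -- a uniformizer of `W ∩ K₁`
  obtain ⟨π₁, hπ₁irr⟩ := IsDiscreteValuationRing.exists_irreducible (W.comap (algebraMap K₁ M))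
  have hπ₁ := hπ₁irr.maximalIdeal_eq
  have hπ₁0 : algebraMap (W.comap (algebraMap K₁ M)) W π₁ ≠ 0 := by
    intro h0
    have h1 : algebraMap K₁ M (π₁ : K₁) = 0 := congrArg Subtype.val h0
    rw [map_eq_zero] at h1
    exact hπ₁irr.ne_zero (Subtype.ext h1)
  -- every element of `M` is a quotient of elements coming from `B ⊗ (W ∩ K₁)`
  have hρL : ∀ b : B, ((rho A B (W.comap (algebraMap K₁ M)) W (b ⊗ₜ[A] 1) : W) : M) =
      algebraMap L M (algebraMap B L b) := by
    intro b
    have : rho A B (W.comap (algebraMap K₁ M)) W (b ⊗ₜ[A] 1) = algebraMap B W b := by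
      simp [rho]
    rw [this]
    rfl
  have hρK : ∀ v : W.comap (algebraMap K₁ M),
      ((rho A B (W.comap (algebraMap K₁ M)) W (1 ⊗ₜ[A] v) : W) : M) =
      algebraMap K₁ M (v : K₁) := by
    intro v
    have : rho A B (W.comap (algebraMap K₁ M)) W (1 ⊗ₜ[A] v) =
        algebraMap (W.comap (algebraMap K₁ M)) W v := by
      simp [rho]
    rw [this]
    rfl
  have hgenM : ∀ m : M, ∃ x y : B ⊗[A] (W.comap (algebraMap K₁ M)),
      rho A B (W.comap (algebraMap K₁ M)) W y ≠ 0 ∧
      m * ((rho A B (W.comap (algebraMap K₁ M)) W y : W) : M) =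
        ((rho A B (W.comap (algebraMap K₁ M)) W x : W) : M) := by
    intro m
    have hm : m ∈ Algebra.adjoin L (Set.range (algebraMap K₁ M)) := hadj ▸ Algebra.mem_top
    induction hm using Algebra.adjoin_induction with
    | mem m hm =>
      obtain ⟨k, rfl⟩ := hm
      obtain ⟨v, v', hv', rfl⟩ := IsFractionRing.div_surjective (A := W.comap (algebraMap K₁ M)) k
      have hv'0 : (v' : K₁) ≠ 0 := fun h => nonZeroDivisors.ne_zero hv' (Subtype.ext h)
      refine ⟨1 ⊗ₜ[A] v, 1 ⊗ₜ[A] v', ?_, ?_⟩
      · intro h0
        have h1 := congrArg Subtype.val h0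
        rw [hρK] at h1
        exact hv'0 ((map_eq_zero _).mp h1)
      · rw [hρK, hρK, ← map_mul]
        congr 1
        exact div_mul_cancel₀ _ hv'0
    | algebraMap l =>
      obtain ⟨b, b', hb', rfl⟩ := IsFractionRing.div_surjective (A := B) l
      have hb'0 : algebraMap B L b' ≠ 0 := fun h =>
        nonZeroDivisors.ne_zero hb' (IsFractionRing.injective B L (by rw [h, map_zero]))
      refine ⟨b ⊗ₜ[A] 1, b' ⊗ₜ[A] 1, ?_, ?_⟩
      · intro h0
        have h1 := congrArg Subtype.val h0
        rw [hρL] at h1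
        exact hb'0 ((map_eq_zero _).mp h1)
      · rw [hρL, hρL, ← map_mul]
        congr 1
        exact div_mul_cancel₀ _ hb'0
    | add m m' _ _ hm hm' =>
      obtain ⟨x, y, hy, hxy⟩ := hm
      obtain ⟨x', y', hy', hxy'⟩ := hm'
      refine ⟨x * y' + x' * y, y * y', ?_, ?_⟩
      · rw [map_mul]; exact mul_ne_zero hy hy'
      · simp only [map_mul, map_add, MulMemClass.coe_mul, AddMemClass.coe_add]
        rw [← hxy, ← hxy']
        ring
    | mul m m' _ _ hm hm' =>
      obtain ⟨x, y, hy, hxy⟩ := hm
      obtain ⟨x', y', hy', hxy'⟩ := hm'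
      refine ⟨x * x', y * y', ?_, ?_⟩
      · rw [map_mul]; exact mul_ne_zero hy hy'
      · simp only [map_mul, MulMemClass.coe_mul]
        rw [← hxy, ← hxy']
        ring
  have hgen : ∀ w : W, ∃ x y : B ⊗[A] (W.comap (algebraMap K₁ M)),
      rho A B (W.comap (algebraMap K₁ M)) W y ≠ 0 ∧
      w * rho A B (W.comap (algebraMap K₁ M)) W y = rho A B (W.comap (algebraMap K₁ M)) W x := by
    intro w
    obtain ⟨x, y, hy, hxy⟩ := hgenM (w : M)
    exact ⟨x, y, hy, Subtype.ext hxy⟩
  exact map_maximalIdeal_eq' hw π₁ hπ₁ hπ₁0 hgen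

end Groth.Agent.Lib.Seat10.Tower
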