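import Groth.Agent.Lib.Seat10EppC
import Groth.Agent.Lib.Seat10EppJ
import Groth.Agent.Lib.Seat10EppK
import Groth.Agent.Lib.Seat10SepStepJ
import Groth.Agent.Lib.Seat10ShDvrB
import Groth.Agent.Lib.Seat10TowerM
import Groth.Agent.Lib.Helper29Fields3

/-!
# Epp's Artin–Schreier step in characteristic `p` (Seat 10)

`exists_separable_totallyRamified_weakSolution`: the assembly of the normal form (`normal_form`),
the `K`-side extension (`exists_kside`), the transport to local extensions (`transport`), the
reduction (`core`) and the fierce/unramified analysis of the Artin–Schreier extension (`wu_step`).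
-/

set_option autoImplicit false
set_option linter.style.haveILetI false
set_option maxHeartbeats 1600000

universe u

namespace Groth.Agent.Lib.Seat10.Epp

open EtRam IsLocalRing Groth.Agent.Lib.Seat10.ValDom Groth.Agent.Lib.Seat10.Tower
  Groth.Agent.Lib.Seat10.SepStep

theorem perfect_of_hk (p : ℕ) [hp : Fact p.Prime] (A B : Type u) [CommRing A] [IsLocalRing A]
    [CommRing B] [IsLocalRing B] [Algebra A B] [IsLocalHom (algebraMap A B)]
    [CharP (ResidueField B) p]
    (hk : ∀ x : ResidueField B, (∀ n : ℕ, ∃ y : ResidueField B, y ^ (p ^ n) = x) ↔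
      x ∈ Set.range (algebraMap (ResidueField A) (ResidueField B))) :
    ∀ x : ResidueField A, ∃ y : ResidueField A, y ^ p = x := by
  intro x
  have h1 := (hk (algebraMap _ _ x)).mpr ⟨x, rfl⟩
  obtain ⟨y₁, hy₁⟩ := h1 1
  rw [pow_one] at hy₁
  have h2 : y₁ ∈ Set.range (algebraMap (ResidueField A) (ResidueField B)) := by
    rw [← hk]
    intro n
    obtain ⟨w, hw⟩ := h1 (n + 1)
    refine ⟨w, ?_⟩
    apply frobenius_inj (ResidueField B) p
    show (w ^ p ^ n) ^ p = y₁ ^ p
    rw [← pow_mul, ← pow_succ, hw, hy₁]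
  obtain ⟨y', hy'⟩ := h2
  refine ⟨y', ?_⟩
  apply (algebraMap (ResidueField A) (ResidueField B)).injective
  rw [map_pow, hy', hy₁]

theorem adjoin_simple_eq_top (L M K₂ M' : Type u) [Field L] [Field M] [Field K₂] [Field M']
    [Algebra L M] [Algebra M M'] [Algebra L M'] [IsScalarTower L M M'] [Algebra K₂ M']
    (hadj : Algebra.adjoin M (Set.range (algebraMap K₂ M')) = ⊤)
    (z : M) (hz : IntermediateField.adjoin L {z} = ⊤) :
    IntermediateField.adjoin (compF L K₂ M') {algebraMap M M' z} = ⊤ := by
  rw [eq_top_iff]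
  rintro x -
  have hM : ∀ m : M, algebraMap M M' m ∈
      IntermediateField.adjoin (compF L K₂ M') {algebraMap M M' z} := by
    intro m
    have hm : m ∈ IntermediateField.adjoin L {z} := by rw [hz]; trivial
    induction hm using IntermediateField.adjoin_induction with
    | mem x hx =>
      rw [Set.mem_singleton_iff] at hx
      rw [hx]
      exact IntermediateField.mem_adjoin_simple_self _ _
    | algebraMap l =>
      rw [← IsScalarTower.algebraMap_apply L M M']
      have h1 : algebraMap L M' l =
          algebraMap (compF L K₂ M') M' (algebraMap L (compF L K₂ M') l) := rfl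
      rw [h1]
      exact IntermediateField.algebraMap_mem _ _
    | add x y _ _ hx hy => rw [map_add]; exact add_mem hx hy
    | inv x _ hx => rw [map_inv₀]; exact inv_mem hx
    | mul x y _ _ hx hy => rw [map_mul]; exact mul_mem hx hy
  have hx : x ∈ Algebra.adjoin M (Set.range (algebraMap K₂ M')) := by rw [hadj]; trivial
  induction hx using Algebra.adjoin_induction with
  | mem x hx =>
    obtain ⟨k, rfl⟩ := hx
    have h1 : algebraMap K₂ M' k =
        algebraMap (compF L K₂ M') M' (algebraMap K₂ (compF L K₂ M') k) := rfl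
    rw [h1]
    exact IntermediateField.algebraMap_mem _ _
  | algebraMap m => exact hM m
  | add x y _ _ hx hy => exact add_mem hx hy
  | mul x y _ _ hx hy => exact mul_mem hx hy

theorem exists_separable_totallyRamified_weakSolution (p : ℕ) (hp : p.Prime)
    (A B C K L M : Type u)
    [CommRing A] [IsDomain A] [IsDiscreteValuationRing A] [CommRing B] [IsDomain B]
    [IsDiscreteValuationRing B]
    [CommRing C] [IsDomain C] [IsDiscreteValuationRing C]
    [Algebra A B] [Algebra B C] [Algebra A C] [IsScalarTower A B C]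
    [IsLocalHom (algebraMap A B)] [IsLocalHom (algebraMap B C)]
    [Field K] [Field L] [Field M] [Algebra A K] [IsFractionRing A K] [Algebra B L]
    [IsFractionRing B L]
    [Algebra C M] [IsFractionRing C M] [Algebra K L] [Algebra L M] [Algebra K M]
    [IsScalarTower K L M]
    [Algebra A L] [IsScalarTower A K L] [IsScalarTower A B L] [Algebra B M] [IsScalarTower B L M]
    [IsScalarTower B C M]
    [Algebra A M] [IsScalarTower A K M] [IsScalarTower A C M]
    (hw : EtRam.IsWeaklyUnramified A B) [CharP K p] [IsGalois L M]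
    (hdeg : Module.finrank L M = p)
    (hk : ∀ x : IsLocalRing.ResidueField B,
      (∀ n : ℕ, ∃ y : IsLocalRing.ResidueField B, y ^ (p ^ n) = x) ↔
      x ∈ Set.range (algebraMap (IsLocalRing.ResidueField A) (IsLocalRing.ResidueField B))) :
    ∃ (K₁ : Type u) (_ : Field K₁) (_ : Algebra K K₁), FiniteDimensional K K₁ ∧
      Algebra.IsSeparable K K₁ ∧
      EtRam.IsTotallyRamified A ((algebraMap K K₁).comp (algebraMap A K)) ∧
      EtRam.IsWeakSolution C K M K₁ := by
  classical
  haveI : Fact p.Prime := ⟨hp⟩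
  haveI : CharP L p := charP_of_injective_algebraMap (algebraMap K L).injective p
  haveI : CharP B p := RingHom.charP (algebraMap B L) (IsFractionRing.injective B L) p
  haveI : CharP (ResidueField B) p := (CharP.charP_iff_prime_eq_zero hp).mpr (by
    rw [← map_natCast (residue B), CharP.cast_eq_zero B p, map_zero])
  haveI : FiniteDimensional L M := Module.finite_of_finrank_pos (by rw [hdeg]; exact hp.pos)
  obtain ⟨z, ⟨ξ₀, hξ₀z⟩, hzgen⟩ :=
    Groth.Agent.Lib.Helper29.Fields.artin_schreier_generator (K := L) (L := M) p hdeg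
  obtain ⟨π, hπirr⟩ := IsDiscreteValuationRing.exists_irreducible A
  have hπ := hπirr.maximalIdeal_eq
  have hπm : π ∈ maximalIdeal A := by rw [hπ]; exact Ideal.mem_span_singleton_self _
  have hπB : Irreducible (algebraMap A B π) := by
    rw [IsDiscreteValuationRing.irreducible_iff_uniformizer]
    unfold IsWeaklyUnramified at hw
    rw [← hw, hπ, Ideal.map_span, Set.image_singleton]
  have hϖ : maximalIdeal B = Ideal.span {algebraMap A B π} := hπB.maximalIdeal_eq
  obtain ⟨n, b₀, hn⟩ := exists_pole_bound B L (algebraMap A B π) hπB ξ₀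
  obtain ⟨y, α, β, I, m, c, hI, -, hnf⟩ :=
    normal_form p A B K L π hϖ hπB.ne_zero hk n ξ₀ ⟨b₀, hn⟩
  have hperf : ∀ x : ResidueField A, ∃ y : ResidueField A, y ^ p = x := perfect_of_hk p A B hk
  obtain ⟨K₂, _, _, hfin, hsep, ht, π₁, b, y₂, a₀, hπ₁, hb, ha₀, hrel, hα⟩ :=
    exists_kside p A K π hπ hperf n (I.sup m + 1) α
  haveI := hfin
  haveI := hsep
  have hI' : ∀ i ∈ I, 1 ≤ i ∧ i ≤ n ∧ (¬ p ∣ i ∨ m i = 0) ∧ m i < I.sup m + 1 ∧
      ∀ r : B, residue B (c i) ≠ residue B r ^ p := fun i hi =>
    ⟨(hI i hi).1, (hI i hi).2.1, (hI i hi).2.2.1, Nat.lt_succ_of_le (Finset.le_sup hi),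
      (hI i hi).2.2.2⟩
  refine ⟨K₂, inferInstance, inferInstance, hfin, hsep, ht, ?_⟩
  intro M' _ _ _ _ _ _ hadj W' hW'
  rw [isWeaklyUnramified_iff]
  letI : Algebra L M' := ((algebraMap M M').comp (algebraMap L M)).toAlgebra
  haveI : IsScalarTower L M M' := IsScalarTower.of_algebraMap_eq (fun _ => rfl)
  haveI : IsScalarTower K L M' := IsScalarTower.of_algebraMap_eq (fun k => by
    show algebraMap K M' k = algebraMap M M' (algebraMap L M (algebraMap K L k))
    rw [← IsScalarTower.algebraMap_apply K L M, ← IsScalarTower.algebraMap_apply K M M'])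
  haveI : FiniteDimensional M M' := finiteDimensional_of_adjoin_eq_top K hadj
  haveI : FiniteDimensional L M' := FiniteDimensional.trans L M M'
  have hadj₂ : Algebra.adjoin L (Set.range (algebraMap K₂ (compF L K₂ M'))) = ⊤ :=
    compF_adjoin_eq_top L K₂ M'
  have hBM' : ∀ x : B, (algebraMap (compF L K₂ M') M')
      (algebraMap L (compF L K₂ M') (algebraMap B L x)) =
      algebraMap M M' (algebraMap C M (algebraMap B C x)) := by
    intro x
    show algebraMap M M' (algebraMap L M (algebraMap B L x)) = _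
    rw [← IsScalarTower.algebraMap_apply B L M, IsScalarTower.algebraMap_apply B C M]
  have hW₂ : Dominates B ((algebraMap L (compF L K₂ M')).comp (algebraMap B L))
      (W'.comap (algebraMap (compF L K₂ M') M')) := by
    rw [← dominates_comp_iff]
    refine ⟨fun x => ?_, fun x hx => ?_⟩
    · simp only [RingHom.comp_apply]
      rw [hBM']
      exact hW'.1 _
    · simp only [RingHom.comp_apply]
      rw [hBM']
      apply hW'.2
      rw [mem_maximalIdeal, mem_nonunits_iff] at hx ⊢
      exact fun h => hx (isUnit_of_map_unit (algebraMap B C) x h)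
  obtain ⟨p₁, z₀, ξ'', hp₁0, hp₁m, h1, h2⟩ := transport p A B K L hw π hπm hπB.ne_zero n
    (I.sup m + 1) ξ₀ y α β I m c hI' hnf K₂ ht π₁ b y₂ a₀ hπ₁ hb ha₀ hrel hα
    (compF L K₂ M') hadj₂ _ hW₂
  haveI : FiniteDimensional L (compF L K₂ M') := finiteDimensional_of_adjoin_eq_top K hadj₂
  haveI : IsDiscreteValuationRing (W'.comap (algebraMap (compF L K₂ M') M')) :=
    isDiscreteValuationRing_of_dominates_finite B L _ hW₂
  haveI : CharP (compF L K₂ M') p :=
    charP_of_injective_algebraMap (algebraMap L (compF L K₂ M')).injective p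
  have hzM' : (algebraMap M M' z) ^ p - algebraMap M M' z =
      algebraMap (compF L K₂ M') M' (algebraMap L (compF L K₂ M') ξ₀) := by
    rw [← map_pow, ← map_sub, ← hξ₀z]
    rfl
  have hstep := wu_step p (compF L K₂ M') M' W' (algebraMap L (compF L K₂ M') ξ₀) z₀ ξ''
    (algebraMap M M' z) hzM' (adjoin_simple_eq_top L M K₂ M' hadj z hzgen) p₁ hp₁0 hp₁m h1 h2
  have hws : WU (W'.comap (algebraMap (compF L K₂ M') M')) (algebraMap K₂ (compF L K₂ M')) :=
    (isWeaklyUnramified_iff _ _).mp
      (isWeakSolution_of_residue_surjective A B K L hw K₂ ht.2.2 (compF L K₂ M') hadj₂ _ hW₂)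
  have hcomp : algebraMap K₂ M' =
      (algebraMap (compF L K₂ M') M').comp (algebraMap K₂ (compF L K₂ M')) :=
    IsScalarTower.algebraMap_eq K₂ (compF L K₂ M') M'
  rw [hcomp]
  exact Groth.Agent.Lib.Seat10.ShDvr.WU_comp W' (algebraMap (compF L K₂ M') M') (algebraMap K₂ (compF L K₂ M')) hstep hws

end Groth.Agent.Lib.Seat10.Epp
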