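import Groth.Agent.Lib.Seat10ValDomA

/-!
# A valuation subring of a finite separable extension dominating a DVR is a DVR (Seat 10)
-/

set_option autoImplicit false

universe u

namespace Groth.Agent.Lib.Seat10.ValDom

open EtRam IsLocalRing

section

variable {B V L : Type*} [CommRing B] [IsDedekindDomain B] [CommRing V] [IsDomain V]
  [IsLocalRing V] [Field L] [Algebra B L] [IsFractionRing B L] [Algebra V L]
  [FaithfulSMul V L]

/-- A local domain `V ⊆ L = Frac B` containing the Dedekind domain `B`, with nonzero centre on
`B`, is a DVR. -/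
theorem isDiscreteValuationRing_of_dedekind (φ : B →+* V)
    (hφ : ∀ b, algebraMap V L (φ b) = algebraMap B L b)
    (hq0 : (maximalIdeal V).comap φ ≠ ⊥) : IsDiscreteValuationRing V := by
  have hinjV : Function.Injective (algebraMap V L) := FaithfulSMul.algebraMap_injective V L
  have hinjB : Function.Injective (algebraMap B L) := IsFractionRing.injective B L
  have hφinj : Function.Injective φ := by
    intro b b' h
    apply hinjB
    rw [← hφ, ← hφ, h]
  set q := (maximalIdeal V).comap φ with hq
  have hqp : q.IsPrime := Ideal.comap_isPrime φ _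
  let Bq := Localization.AtPrime q
  have hdvr : IsDiscreteValuationRing Bq :=
    IsLocalization.AtPrime.isDiscreteValuationRing_of_dedekind_domain B hq0 Bq
  have hunit : ∀ s : q.primeCompl, IsUnit (φ s) := by
    intro s
    by_contra hs
    exact s.2 ((IsLocalRing.mem_maximalIdeal _).2 hs)
  let ψ : Bq →+* V := IsLocalization.lift (M := q.primeCompl) (g := φ) hunit
  have hψ : ∀ b, ψ (algebraMap B Bq b) = φ b := fun b => IsLocalization.lift_eq _ _
  have hψinj : Function.Injective ψ := by
    rw [injective_iff_map_eq_zero]
    intro x hx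
    obtain ⟨b, s, rfl⟩ := IsLocalization.exists_mk'_eq q.primeCompl x
    rw [IsLocalization.lift_mk'_spec, mul_zero] at hx
    have hb : b = 0 := hφinj (by rw [hx, map_zero])
    rw [hb, IsLocalization.mk'_zero]
  have hψmax : ∀ x ∈ maximalIdeal Bq, ψ x ∈ maximalIdeal V := by
    intro x hx
    obtain ⟨b, s, rfl⟩ := IsLocalization.exists_mk'_eq q.primeCompl x
    rw [IsLocalization.AtPrime.mk'_mem_maximal_iff Bq q] at hx
    have h1 : ψ (IsLocalization.mk' Bq b s) * φ s = φ b := by
      rw [← hψ (s : B), ← map_mul, IsLocalization.mk'_spec, hψ]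
    have h2 : φ b ∈ maximalIdeal V := hx
    rw [← h1] at h2
    rcases (Ideal.IsPrime.mem_or_mem (maximalIdeal.isMaximal V).isPrime h2) with h | h
    · exact h
    · exact absurd h (fun h' => (IsLocalRing.mem_maximalIdeal _).1 h' (hunit s))
  have hψsurj : Function.Surjective ψ := by
    intro x
    obtain ⟨b, c, hc, hx⟩ := IsFractionRing.div_surjective B (algebraMap V L x)
    have hc0 : c ≠ 0 := nonZeroDivisors.ne_zero hc
    have hcL : algebraMap B L c ≠ 0 := fun h => hc0 (hinjB (by rw [h, map_zero]))
    have key : ∀ δ : Bq, algebraMap B Bq b = algebraMap B Bq c * δ → ψ δ = x := by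
      intro δ hδ
      apply hinjV
      have h1 := congrArg (fun t => algebraMap V L (ψ t)) hδ
      simp only [map_mul, hψ, hφ] at h1
      rw [← hx, h1, mul_div_cancel_left₀ _ hcL]
    rcases ValuationRing.dvd_total (algebraMap B Bq b) (algebraMap B Bq c) with ⟨δ, hδ⟩ | ⟨δ, hδ⟩
    · -- `c = b δ`
      by_cases hu : IsUnit δ
      · obtain ⟨u, rfl⟩ := hu
        refine ⟨(u⁻¹ : Bqˣ), key _ ?_⟩
        rw [hδ, mul_assoc, Units.mul_inv, mul_one]
      · exfalso
        have h1 : ψ δ ∈ maximalIdeal V := hψmax δ ((IsLocalRing.mem_maximalIdeal _).2 hu)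
        have h2 := congrArg (fun t => algebraMap V L (ψ t)) hδ
        simp only [map_mul, hψ, hφ] at h2
        have h3 : algebraMap V L (x * ψ δ) = 1 := by
          rw [map_mul, ← hx, h2]
          have hbL : algebraMap B L b ≠ 0 := by
            intro h
            rw [h, zero_mul] at h2
            exact hcL h2
          have hδL : algebraMap V L (ψ δ) ≠ 0 := by
            intro h
            rw [h, mul_zero] at h2
            exact hcL h2
          field_simp
        have h4 : x * ψ δ = 1 := hinjV (by rw [h3, map_one])
        have h5 : (1 : V) ∈ maximalIdeal V := h4 ▸ Ideal.mul_mem_left _ x h1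
        exact (Ideal.ne_top_iff_one _).mp (maximalIdeal.isMaximal V).ne_top h5
    · exact ⟨δ, key δ hδ⟩
  exact IsDiscreteValuationRing.RingEquivClass.isDiscreteValuationRing (RingEquiv.ofBijective ψ ⟨hψinj, hψsurj⟩)

end

end Groth.Agent.Lib.Seat10.ValDom

namespace Groth.Agent.Lib.Seat10.ValDom

open EtRam IsLocalRing

variable (A K : Type u) {L : Type u} [CommRing A] [IsDomain A] [IsDiscreteValuationRing A]
  [Field K] [Algebra A K] [IsFractionRing A K] [Field L] [Algebra K L]

/-- A valuation subring of a finite separable extension `L` of `K = Frac A` dominating the DVR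
`A` is a DVR. -/
theorem isDiscreteValuationRing_of_dominates [FiniteDimensional K L] [Algebra.IsSeparable K L]
    (V : ValuationSubring L) (h : Dominates A ((algebraMap K L).comp (algebraMap A K)) V) :
    IsDiscreteValuationRing V := by
  let _ : Algebra A L := ((algebraMap K L).comp (algebraMap A K)).toAlgebra
  have : IsScalarTower A K L := IsScalarTower.of_algebraMap_eq (fun _ => rfl)
  let B := integralClosure A L
  have : IsDedekindDomain B := IsIntegralClosure.isDedekindDomain A K L B
  have : IsFractionRing B L := IsIntegralClosure.isFractionRing_of_finite_extension A K L B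
  have hBV : ∀ b : B, (b : L) ∈ V := by
    intro b
    have hb : IsIntegral A (b : L) := b.2
    have hb' : IsIntegral V (b : L) :=
      IsIntegral.map_of_comp_eq (toVal h) (RingHom.id L) (by ext; rfl) hb
    obtain ⟨y, hy⟩ := IsIntegrallyClosed.algebraMap_eq_of_integral hb'
    rw [← hy]
    exact y.2
  let φ : B →+* V :=
    { toFun := fun b => ⟨b, hBV b⟩
      map_one' := rfl
      map_mul' := fun _ _ => rfl
      map_zero' := rfl
      map_add' := fun _ _ => rfl }
  apply isDiscreteValuationRing_of_dedekind (L := L) φ (fun b => rfl)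
  -- the centre is nonzero
  obtain ⟨π, hπ⟩ := IsDiscreteValuationRing.exists_irreducible A
  have hπm : π ∈ maximalIdeal A := by
    rw [IsLocalRing.mem_maximalIdeal]
    exact hπ.not_isUnit
  have hinjAL : Function.Injective (algebraMap A L) := by
    rw [IsScalarTower.algebraMap_eq A K L]
    exact (algebraMap K L).injective.comp (IsFractionRing.injective A K)
  intro hbot
  have h1 : algebraMap A B π ∈ (maximalIdeal V).comap φ := by
    rw [Ideal.mem_comap, ValuationSubring.valuation_lt_one_iff]
    exact h.2 π hπm
  rw [hbot, Ideal.mem_bot] at h1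
  have h2 : algebraMap A L π = 0 := by
    rw [IsScalarTower.algebraMap_apply A B L, h1, map_zero]
  exact hπ.ne_zero (hinjAL (by rw [h2, map_zero]))

end Groth.Agent.Lib.Seat10.ValDom
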