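import Groth.Agent.Lib.Seat10TowerJ
import Groth.Agent.Lib.Seat10TowerU

/-!
# Auxiliary lemmas for tame base change (Seat 10)

* `exists_bezout_nat`: `a n' = b' m' + 1` for coprime positive `m'`, `n'`.
* `pow_relations_of_mul_eq`: the monomial relations for `t = x ^ a / y ^ b'`.
* `exists_uniformizer_candidate`: `t` lies in the valuation ring.
* `isSeparable_of_adjoin_kummer`: a field generated by separable elements and a tame radical.
* `isReduced_and_krullDimLE_zero_of_isSeparable`.
-/

set_option autoImplicit false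

universe u

namespace Groth.Agent.Lib.Seat10.Tower

open IsLocalRing TensorProduct Polynomial

theorem exists_bezout_nat {m' n' : ℕ} (hm' : m' ≠ 0) (hn' : n' ≠ 0) (h : Nat.Coprime n' m') :
    ∃ a b' : ℕ, a * n' = b' * m' + 1 := by
  by_cases h1 : m' = 1
  · subst h1
    exact ⟨1, n' - 1, by omega⟩
  · have hlt : 1 < m' := by omega
    obtain ⟨a, -, ha⟩ := Nat.exists_mul_mod_eq_one_of_coprime h hlt
    refine ⟨a, n' * a / m', ?_⟩
    have := Nat.div_add_mod (n' * a) m'
    rw [ha] at this
    rw [mul_comm a n', mul_comm _ m']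
    exact this.symm

section Domain

variable {D : Type*} [CommRing D] [IsDomain D]

theorem pow_relations_of_mul_eq {t x y w₁ w₂ : D} (hy : y ≠ 0) {m' n' a b' : ℕ}
    (h : x ^ m' * w₁ = y ^ n' * w₂) (hab : a * n' = b' * m' + 1) (ht : t * y ^ b' = x ^ a) :
    t ^ n' * w₁ ^ b' = x * w₂ ^ b' ∧ t ^ m' * w₁ ^ a = y * w₂ ^ a := by
  constructor
  · apply mul_right_cancel₀ (pow_ne_zero (b' * n') hy)
    calc t ^ n' * w₁ ^ b' * y ^ (b' * n') = (t * y ^ b') ^ n' * w₁ ^ b' := by
          rw [mul_pow, ← pow_mul]; ring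
      _ = x ^ (a * n') * w₁ ^ b' := by rw [ht, ← pow_mul]
      _ = x * (x ^ m' * w₁) ^ b' := by rw [hab, pow_succ, mul_pow, ← pow_mul, mul_comm b' m']; ring
      _ = x * w₂ ^ b' * y ^ (b' * n') := by rw [h, mul_pow, ← pow_mul, mul_comm n' b']; ring
  · apply mul_right_cancel₀ (pow_ne_zero (b' * m') hy)
    calc t ^ m' * w₁ ^ a * y ^ (b' * m') = (t * y ^ b') ^ m' * w₁ ^ a := by
          rw [mul_pow, ← pow_mul]; ring
      _ = (x ^ m' * w₁) ^ a := by rw [ht, mul_pow, ← pow_mul, ← pow_mul, mul_comm a m']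
      _ = y ^ (a * n') * w₂ ^ a := by rw [h, mul_pow, ← pow_mul, mul_comm n' a]
      _ = y * w₂ ^ a * y ^ (b' * m') := by rw [hab, pow_succ]; ring

end Domain

section Val

variable {M : Type*} [Field M] (W : ValuationSubring M)

/-- the candidate uniformizer `t = x ^ a / y ^ b'` -/
theorem exists_uniformizer_candidate (x y : W) (hx : x ≠ 0) (hy : y ≠ 0)
    (hxm : x ∈ maximalIdeal W) (w : Wˣ) {m' n' a b' : ℕ} (hn' : n' ≠ 0)
    (h : x ^ m' * (w : W) = y ^ n') (hab : a * n' = b' * m' + 1) :
    ∃ t : W, t ≠ 0 ∧ t ∈ maximalIdeal W ∧ x = t ^ n' * (w : W) ^ b' ∧ y = t ^ m' * (w : W) ^ a := by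
  have hxM : (x : M) ≠ 0 := fun h0 => hx (Subtype.ext h0)
  have hyM : (y : M) ≠ 0 := fun h0 => hy (Subtype.ext h0)
  have hM : (x : M) ^ m' * ((w : W) : M) = (y : M) ^ n' * 1 := by
    have := congrArg Subtype.val h
    simpa using this
  have htM : (x : M) ^ a / (y : M) ^ b' * (y : M) ^ b' = (x : M) ^ a :=
    div_mul_cancel₀ _ (pow_ne_zero _ hyM)
  obtain ⟨h1, h2⟩ := pow_relations_of_mul_eq hyM hM hab htM
  rw [one_pow, mul_one] at h1 h2
  have hv : W.valuation ((x : M) ^ a / (y : M) ^ b') < 1 := by
    have h3 := congrArg W.valuation h1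
    rw [map_mul, map_pow, map_pow, ValuationSubring.valuation_unit, one_pow, mul_one] at h3
    have h4 : W.valuation (x : M) < 1 :=
      (ValuationSubring.valuation_lt_one_iff W x).mp hxm
    rw [← h3] at h4
    exact (pow_lt_one_iff hn').mp h4
  have hmem : (x : M) ^ a / (y : M) ^ b' ∈ W := (ValuationSubring.valuation_le_one_iff W _).mp hv.le
  refine ⟨⟨_, hmem⟩, ?_, ?_, Subtype.ext ?_, Subtype.ext ?_⟩
  · intro h0
    have h0' : (x : M) ^ a / (y : M) ^ b' = 0 := congrArg Subtype.val h0
    rw [h0', zero_pow hn', zero_mul] at h1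
    exact hxM h1.symm
  · exact (ValuationSubring.valuation_lt_one_iff W _).mpr hv
  · simpa using h1.symm
  · simpa using h2.symm

end Val

section Sep

variable {kB kW : Type*} [Field kB] [Field kW] [Algebra kB kW]

/-- a field generated by separable elements and a tame radical of a separable element is
separable -/
theorem isSeparable_of_adjoin_kummer (S : Set kW) (hS : ∀ x ∈ S, IsSeparable kB x) (z : kW)
    {g : ℕ} (hg : ((g : ℕ) : kB) ≠ 0) (hz0 : z ≠ 0) (hzg : IsSeparable kB (z ^ g))
    (hgen : Algebra.adjoin kB (S ∪ {z}) = ⊤) : Algebra.IsSeparable kB kW := by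
  rw [← separableClosure.eq_top_iff]
  have hzsep : IsSeparable (separableClosure kB kW) z := by
    let c : separableClosure kB kW := ⟨z ^ g, hzg⟩
    have hc0 : c ≠ 0 := by
      intro h0
      have : z ^ g = 0 := congrArg Subtype.val h0
      exact hz0 (pow_eq_zero_iff (by rintro rfl; exact hg Nat.cast_zero) |>.mp this)
    have hgS : ((g : ℕ) : separableClosure kB kW) ≠ 0 := by
      have : ((g : ℕ) : separableClosure kB kW) =
          algebraMap kB (separableClosure kB kW) ((g : ℕ) : kB) := (map_natCast _ g).symm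
      rw [this]
      exact fun h0 => hg ((map_eq_zero _).mp h0)
    have hsep : (X ^ g - C c : (separableClosure kB kW)[X]).Separable :=
      Polynomial.separable_X_pow_sub_C c hgS hc0
    have hroot : aeval z (X ^ g - C c : (separableClosure kB kW)[X]) = 0 := by
      rw [map_sub, map_pow, aeval_X, aeval_C]
      exact sub_self _
    exact hsep.of_dvd (minpoly.dvd _ z hroot)
  have hzmem : z ∈ separableClosure kB kW :=
    IsSeparable.of_algebra_isSeparable_of_isSeparable kB hzsep
  rw [eq_top_iff]
  intro x _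
  have hx : x ∈ Algebra.adjoin kB (S ∪ {z}) := hgen ▸ Algebra.mem_top
  have hle : Algebra.adjoin kB (S ∪ {z}) ≤ (separableClosure kB kW).toSubalgebra := by
    apply Algebra.adjoin_le
    rintro y (hy | hy)
    · exact hS y hy
    · rw [Set.mem_singleton_iff.mp hy]; exact hzmem
  exact hle hx

end Sep

section Red

variable {A B V : Type u} [CommRing A] [IsLocalRing A] [CommRing B] [IsLocalRing B]
  [CommRing V] [IsLocalRing V] [Algebra A B] [Algebra A V]
  [IsLocalHom (algebraMap A B)] [IsLocalHom (algebraMap A V)]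

theorem isReduced_and_krullDimLE_zero_of_isSeparable
    [Algebra.IsSeparable (ResidueField A) (ResidueField V)] :
    IsReduced (ResidueField B ⊗[A] ResidueField V) ∧
      Ring.KrullDimLE 0 (ResidueField B ⊗[A] ResidueField V) := by
  have hc : TensorProduct.CompatibleSMul A (ResidueField A) (ResidueField B) (ResidueField V) := by
    refine ⟨fun c m n => ?_⟩
    obtain ⟨a, rfl⟩ := IsLocalRing.residue_surjective c
    rw [← ResidueField.algebraMap_eq, algebraMap_smul, algebraMap_smul, TensorProduct.smul_tmul]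
  let e : ResidueField B ⊗[A] ResidueField V ≃ₐ[A] ResidueField B ⊗[ResidueField A] ResidueField V :=
    Algebra.TensorProduct.equivOfCompatibleSMul (ResidueField A) A A (ResidueField B)
      (ResidueField V)
  let c : ResidueField B ⊗[ResidueField A] ResidueField V ≃ₐ[ResidueField A]
      ResidueField V ⊗[ResidueField A] ResidueField B :=
    Algebra.TensorProduct.comm _ _ _
  have hred : IsReduced (ResidueField V ⊗[ResidueField A] ResidueField B) :=
    Groth.Agent.Lib.Helper14.GeomRed.isReduced_tensor_of_isSeparable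
  have hdim : Ring.KrullDimLE 0 (ResidueField B ⊗[ResidueField A] ResidueField V) :=
    krullDimLE_zero_of_isIntegral (ResidueField B) _
  refine ⟨isReduced_of_injective (c.toRingEquiv.toRingHom.comp e.toRingEquiv.toRingHom)
    (c.injective.comp e.injective), krullDimLE_zero_of_ringEquiv e.symm.toRingEquiv⟩

end Red

end Groth.Agent.Lib.Seat10.Tower
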