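import Groth.Agent.Lib.Seat10TowerW
import Groth.Agent.Lib.Seat10TowerX

/-!
# The tame abstract local statement (Seat 10)

`kummer_abstract_isSeparable`: in the situation of `kummer_abstract` with `κ(V)/κ(A)` separable
algebraic, `t` is a uniformizer of `W` and `κ(W)/κ(B)` is separable algebraic.
-/

set_option autoImplicit false

universe u

namespace Groth.Agent.Lib.Seat10.Tower

open IsLocalRing TensorProduct Polynomial

section Main

variable {A B V W : Type u} [CommRing A] [IsLocalRing A] [CommRing B] [IsLocalRing B]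
  [CommRing V] [IsLocalRing V] [CommRing W] [IsDomain W] [IsDiscreteValuationRing W]
  [Algebra A B] [Algebra A V] [Algebra A W] [Algebra B W] [Algebra V W]
  [IsScalarTower A B W] [IsScalarTower A V W]
  [IsLocalHom (algebraMap A B)] [IsLocalHom (algebraMap A V)] [IsLocalHom (algebraMap B W)]
  [IsLocalHom (algebraMap V W)] [IsLocalHom (algebraMap A W)]
  (u : Bˣ) (u₁ : Vˣ) (e : ℕ) (w : Wˣ) (hu : algebraMap V W u₁ * (w : W) ^ e = algebraMap B W u)
  (t : W) (πB : B) (hπB : maximalIdeal B = Ideal.span {πB})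
  (π₁ : V) (hπ₁ : maximalIdeal V = Ideal.span {π₁})
  [Algebra.IsSeparable (ResidueField A) (ResidueField V)]
  (he : ((e : ℕ) : ResidueField A) ≠ 0)
  (n' m' a₁ a₂ b₁ b₂ : ℕ) (hn' : n' ≠ 0) (hm' : m' ≠ 0)
  (hB : algebraMap B W πB * (w : W) ^ a₁ = t ^ n' * (w : W) ^ a₂)
  (hV : algebraMap V W π₁ * (w : W) ^ b₁ = t ^ m' * (w : W) ^ b₂)
  (htm : t ∈ maximalIdeal W) (ht0 : t ≠ 0)
  (hgen : ∀ w : W, ∃ x y : B ⊗[A] V, rho A B V W y ≠ 0 ∧ w * rho A B V W y = rho A B V W x)

include hu hπB hπ₁ he hn' hm' hB hV htm ht0 hgen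

theorem kummer_abstract_isSeparable :
    maximalIdeal W = Ideal.span {t} ∧
      Algebra.IsSeparable (ResidueField B) (ResidueField W) := by
  have hredE := isReduced_and_krullDimLE_zero_of_isSeparable (A := A) (B := B) (V := V)
  have hred := hredE.1
  have hdim := hredE.2
  obtain ⟨h1, h2⟩ := kummer_abstract (A := A) u u₁ e w hu t πB hπB π₁ hπ₁ he n' m' a₁ a₂ b₁ b₂
    hn' hm' hB hV htm ht0 hgen
  refine ⟨h1, ?_⟩
  have hw0 : residue W (w : W) ≠ 0 := (w.isUnit.map (residue W)).ne_zero
  have hgB : ((e : ℕ) : ResidueField B) ≠ 0 := by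
    have : ((e : ℕ) : ResidueField B) =
        algebraMap (ResidueField A) (ResidueField B) ((e : ℕ) : ResidueField A) :=
      (map_natCast _ e).symm
    rw [this]
    exact fun h0 => he ((map_eq_zero _).mp h0)
  have hSsep : ∀ x ∈ Set.range (algebraMap (ResidueField V) (ResidueField W)),
      IsSeparable (ResidueField B) x := by
    rintro _ ⟨v, rfl⟩
    have h3 : IsSeparable (ResidueField A) v := Algebra.IsSeparable.isSeparable _ v
    have h4 : IsSeparable (ResidueField A) (algebraMap (ResidueField V) (ResidueField W) v) :=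
      IsSeparable.map (IsScalarTower.toAlgHom (ResidueField A) (ResidueField V) (ResidueField W))
        (RingHom.injective _) h3
    exact IsSeparable.tower_top (ResidueField B) h4
  have hzg : IsSeparable (ResidueField B) (residue W (w : W) ^ e) := by
    have h3 : residue W (w : W) ^ e =
        algebraMap (ResidueField B) (ResidueField W) (residue B u) *
          algebraMap (ResidueField V) (ResidueField W) (residue V ((u₁⁻¹ : Vˣ) : V)) := by
      have := congrArg (residue W) (pow_eq_of_hu u u₁ e w hu)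
      rw [map_pow, map_mul] at this
      exact this
    rw [h3]
    exact Field.isSeparable_mul (isSeparable_algebraMap _) (hSsep _ ⟨_, rfl⟩)
  exact isSeparable_of_adjoin_kummer _ hSsep (residue W (w : W)) hgB hw0 hzg h2

end Main

end Groth.Agent.Lib.Seat10.Tower
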