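import Groth.Agent.S1990
import Groth.Agent.S9306
import Groth.Agent.S9307
import Groth.Agent.Lib.Seat10ValDomB
import Groth.Agent.Lib.Seat10ValDomD

/-!
# Composita of unramified / tamely ramified extensions (Seat 10)

`compositum`: a field generated over `K` by finite separable extensions `L₁`, `L₂` which are
unramified (tamely ramified) with respect to the DVR `A` is finite separable and unramified
(tamely ramified) with respect to `A`: base change (S9306, S9307) and transitivity (S1990).
-/

set_option autoImplicit false

universe u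

namespace Groth.Agent.Lib.Seat10.Gal

open EtRam IsLocalRing TensorProduct Groth.Agent.Lib.Seat10.ValDom

theorem compositum (A K : Type u) [CommRing A] [IsDomain A] [IsDiscreteValuationRing A] [Field K]
    [Algebra A K] [IsFractionRing A K]
    (L₁ L₂ M : Type u) [Field L₁] [Field L₂] [Field M] [Algebra K L₁] [Algebra K L₂] [Algebra K M]
    [FiniteDimensional K L₁] [FiniteDimensional K L₂] [Algebra.IsSeparable K L₁]
    [Algebra.IsSeparable K L₂] (f₁ : L₁ →ₐ[K] M) (f₂ : L₂ →ₐ[K] M)
    (hsurj : Function.Surjective (Algebra.TensorProduct.productMap f₁ f₂)) :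
    FiniteDimensional K M ∧ Algebra.IsSeparable K M ∧
    (EtRam.IsUnramifiedExt A ((algebraMap K L₁).comp (algebraMap A K)) →
      EtRam.IsUnramifiedExt A ((algebraMap K L₂).comp (algebraMap A K)) →
      EtRam.IsUnramifiedExt A ((algebraMap K M).comp (algebraMap A K))) ∧
    (EtRam.IsTamelyRamified A ((algebraMap K L₁).comp (algebraMap A K)) →
      EtRam.IsTamelyRamified A ((algebraMap K L₂).comp (algebraMap A K)) →
      EtRam.IsTamelyRamified A ((algebraMap K M).comp (algebraMap A K))) := by
  letI algTM : Algebra (L₁ ⊗[K] L₂) M :=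
    (Algebra.TensorProduct.productMap f₁ f₂).toRingHom.toAlgebra
  have hF : Function.Surjective (algebraMap (L₁ ⊗[K] L₂) M) := hsurj
  letI algL₂M : Algebra L₂ M := ((algebraMap (L₁ ⊗[K] L₂) M).comp
    (Algebra.TensorProduct.includeRight : L₂ →ₐ[K] L₁ ⊗[K] L₂).toRingHom).toAlgebra
  have halg₂ : ∀ x, algebraMap L₂ M x = f₂ x := by
    intro x
    show Algebra.TensorProduct.productMap f₁ f₂ ((1 : L₁) ⊗ₜ[K] x) = _
    simp
  haveI : IsScalarTower K L₂ M :=
    IsScalarTower.of_algebraMap_eq (fun k => by rw [halg₂, AlgHom.commutes])
  have hfin : FiniteDimensional K M :=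
    Module.Finite.of_surjective (Algebra.TensorProduct.productMap f₁ f₂).toLinearMap hsurj
  have hsepM : Algebra.IsSeparable K M := by
    rw [← separableClosure.eq_top_iff, eq_top_iff]
    rintro x -
    obtain ⟨t, rfl⟩ := hsurj x
    induction t using TensorProduct.induction_on with
    | zero => rw [map_zero]; exact zero_mem _
    | tmul a b =>
      rw [Algebra.TensorProduct.productMap_apply_tmul]
      exact mul_mem
        (IsSeparable.map f₁ f₁.injective (Algebra.IsSeparable.isSeparable K a))
        (IsSeparable.map f₂ f₂.injective (Algebra.IsSeparable.isSeparable K b))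
    | add x y hx hy => rw [map_add]; exact add_mem hx hy
  -- the base change situation over a valuation ring of `L₂`
  letI algAL₂ : Algebra A L₂ := ((algebraMap K L₂).comp (algebraMap A K)).toAlgebra
  haveI : IsScalarTower A K L₂ := IsScalarTower.of_algebraMap_eq (fun _ => rfl)
  have hgL : Function.Injective ((algebraMap K L₂).comp (algebraMap A K)) :=
    (algebraMap K L₂).injective.comp (IsFractionRing.injective A K)
  refine ⟨hfin, hsepM, ?_, ?_⟩
  · intro h1 h2
    refine (Groth.Agent.S1990.result A K L₂ M).2 h2 ?_
    intro V hV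
    letI algAV : Algebra A V := (RingHom.codRestrict _ V hV.1).toAlgebra
    haveI hlocAV : IsLocalHom (algebraMap A V) := isLocalHom_toVal hV
    haveI hdvrV : IsDiscreteValuationRing V := isDiscreteValuationRing_of_dominates A K V hV
    have hinjAV : Function.Injective (algebraMap A V) := toVal_injective hV hgL
    haveI : IsScalarTower A V L₂ := IsScalarTower.of_algebraMap_eq (fun _ => rfl)
    exact Groth.Agent.S9306.result A V K L₂ L₁ hinjAV h1 M hF
  · intro h1 h2
    refine (Groth.Agent.S1990.result A K L₂ M).1 h2 ?_
    intro V hV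
    letI algAV : Algebra A V := (RingHom.codRestrict _ V hV.1).toAlgebra
    haveI hlocAV : IsLocalHom (algebraMap A V) := isLocalHom_toVal hV
    haveI hdvrV : IsDiscreteValuationRing V := isDiscreteValuationRing_of_dominates A K V hV
    have hinjAV : Function.Injective (algebraMap A V) := toVal_injective hV hgL
    haveI : IsScalarTower A V L₂ := IsScalarTower.of_algebraMap_eq (fun _ => rfl)
    exact Groth.Agent.S9307.result A V K L₂ L₁ hinjAV h1 M hF

end Groth.Agent.Lib.Seat10.Gal
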