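import Groth.Agent.Lib.Seat10GalA
import Groth.Agent.S1989

/-!
# Composita and Galois closures of unramified / tamely ramified extensions (Seat 10)

* `exists_compositum`: two finite separable extensions embed into a common finite separable
  extension, unramified (tamely ramified) if both are.
* `exists_galois`: a finite separable extension embeds into a finite Galois extension, unramified
  (tamely ramified) if it is.
-/

set_option autoImplicit false

universe u

namespace Groth.Agent.Lib.Seat10.Gal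

open EtRam IsLocalRing TensorProduct IntermediateField

section

variable (A K : Type u) [CommRing A] [IsDomain A] [IsDiscreteValuationRing A] [Field K]
  [Algebra A K] [IsFractionRing A K]

theorem exists_compositum (L₁ L₂ : Type u) [Field L₁] [Field L₂] [Algebra K L₁] [Algebra K L₂]
    [FiniteDimensional K L₁] [FiniteDimensional K L₂] [Algebra.IsSeparable K L₁]
    [Algebra.IsSeparable K L₂] :
    ∃ (M : Type u) (_ : Field M) (_ : Algebra K M) (_ : FiniteDimensional K M)
      (_ : Algebra.IsSeparable K M) (_ : L₁ →ₐ[K] M) (_ : L₂ →ₐ[K] M),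
      (EtRam.IsUnramifiedExt A ((algebraMap K L₁).comp (algebraMap A K)) →
        EtRam.IsUnramifiedExt A ((algebraMap K L₂).comp (algebraMap A K)) →
        EtRam.IsUnramifiedExt A ((algebraMap K M).comp (algebraMap A K))) ∧
      (EtRam.IsTamelyRamified A ((algebraMap K L₁).comp (algebraMap A K)) →
        EtRam.IsTamelyRamified A ((algebraMap K L₂).comp (algebraMap A K)) →
        EtRam.IsTamelyRamified A ((algebraMap K M).comp (algebraMap A K))) := by
  have hnt : Nontrivial (L₁ ⊗[K] L₂) := inferInstance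
  obtain ⟨m, hm⟩ := Ideal.exists_maximal (L₁ ⊗[K] L₂)
  letI : Field ((L₁ ⊗[K] L₂) ⧸ m) := Ideal.Quotient.field m
  let f₁ : L₁ →ₐ[K] (L₁ ⊗[K] L₂) ⧸ m :=
    (Ideal.Quotient.mkₐ K m).comp Algebra.TensorProduct.includeLeft
  let f₂ : L₂ →ₐ[K] (L₁ ⊗[K] L₂) ⧸ m :=
    (Ideal.Quotient.mkₐ K m).comp Algebra.TensorProduct.includeRight
  have hprod : ∀ t, Algebra.TensorProduct.productMap f₁ f₂ t = Ideal.Quotient.mk m t := by
    intro t
    induction t using TensorProduct.induction_on with
    | zero => rw [map_zero, map_zero]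
    | tmul a b =>
      rw [Algebra.TensorProduct.productMap_apply_tmul]
      show Ideal.Quotient.mk m (a ⊗ₜ[K] 1) * Ideal.Quotient.mk m (1 ⊗ₜ[K] b) = _
      rw [← map_mul, Algebra.TensorProduct.tmul_mul_tmul, mul_one, one_mul]
    | add x y hx hy => rw [map_add, map_add, hx, hy]
  have hsurj : Function.Surjective (Algebra.TensorProduct.productMap f₁ f₂) := by
    intro y
    obtain ⟨t, rfl⟩ := Ideal.Quotient.mk_surjective y
    exact ⟨t, hprod t⟩
  obtain ⟨hfin, hsep, h1, h2⟩ := compositum A K L₁ L₂ ((L₁ ⊗[K] L₂) ⧸ m) f₁ f₂ hsurj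
  exact ⟨(L₁ ⊗[K] L₂) ⧸ m, inferInstance, inferInstance, hfin, hsep, f₁, f₂, h1, h2⟩

theorem exists_galois (L : Type u) [Field L] [Algebra K L] [FiniteDimensional K L]
    [Algebra.IsSeparable K L] :
    ∃ (M : Type u) (_ : Field M) (_ : Algebra K M) (_ : FiniteDimensional K M) (_ : IsGalois K M)
      (_ : L →ₐ[K] M),
      (EtRam.IsUnramifiedExt A ((algebraMap K L).comp (algebraMap A K)) →
        EtRam.IsUnramifiedExt A ((algebraMap K M).comp (algebraMap A K))) ∧
      (EtRam.IsTamelyRamified A ((algebraMap K L).comp (algebraMap A K)) →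
        EtRam.IsTamelyRamified A ((algebraMap K M).comp (algebraMap A K))) := by
  let Ω := AlgebraicClosure L
  haveI : IsAlgClosure K Ω := IsAlgClosure.ofAlgebraic K L Ω
  haveI : Normal K Ω := inferInstance
  let P : IntermediateField K Ω → Prop := fun E =>
    FiniteDimensional K E ∧ Algebra.IsSeparable K E ∧
    (EtRam.IsUnramifiedExt A ((algebraMap K L).comp (algebraMap A K)) →
      EtRam.IsUnramifiedExt A ((algebraMap K E).comp (algebraMap A K))) ∧
    (EtRam.IsTamelyRamified A ((algebraMap K L).comp (algebraMap A K)) →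
      EtRam.IsTamelyRamified A ((algebraMap K E).comp (algebraMap A K)))
  have hP1 : ∀ f : L →ₐ[K] Ω, P f.fieldRange := by
    intro f
    let e : L ≃ₐ[K] f.fieldRange := AlgEquiv.ofInjectiveField f
    letI : Algebra f.fieldRange L := e.symm.toRingHom.toAlgebra
    haveI : IsScalarTower K f.fieldRange L :=
      IsScalarTower.of_algebraMap_eq (fun k => (e.symm.commutes k).symm)
    have h := Groth.Agent.S1989.result A K f.fieldRange L
    exact ⟨e.toLinearEquiv.finiteDimensional, AlgEquiv.Algebra.isSeparable e, h.2, h.1⟩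
  have hP2 : ∀ E₁ : IntermediateField K Ω, P E₁ → ∀ E₂ : IntermediateField K Ω, P E₂ →
      P (E₁ ⊔ E₂) := by
    intro E₁ hE₁ E₂ hE₂
    obtain ⟨hfin₁, hsep₁, hu₁, ht₁⟩ := hE₁
    obtain ⟨hfin₂, hsep₂, hu₂, ht₂⟩ := hE₂
    let f₁ : E₁ →ₐ[K] ↥(E₁ ⊔ E₂) := IntermediateField.inclusion le_sup_left
    let f₂ : E₂ →ₐ[K] ↥(E₁ ⊔ E₂) := IntermediateField.inclusion le_sup_right
    have hval : ∀ t, ((Algebra.TensorProduct.productMap f₁ f₂ t : ↥(E₁ ⊔ E₂)) : Ω) =
        Algebra.TensorProduct.productMap E₁.val E₂.val t := by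
      intro t
      induction t using TensorProduct.induction_on with
      | zero => rw [map_zero, map_zero]; rfl
      | tmul a b =>
        rw [Algebra.TensorProduct.productMap_apply_tmul,
          Algebra.TensorProduct.productMap_apply_tmul]
        rfl
      | add x y hx hy =>
        rw [map_add, map_add, ← hx, ← hy]
        rfl
    have hsurj : Function.Surjective (Algebra.TensorProduct.productMap f₁ f₂) := by
      intro x
      have hx : (x : Ω) ∈ (E₁ ⊔ E₂).toSubalgebra := x.2
      rw [IntermediateField.sup_toSubalgebra_of_left, ← E₁.range_val, ← E₂.range_val,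
        ← Algebra.TensorProduct.productMap_range] at hx
      obtain ⟨t, ht⟩ := hx
      exact ⟨t, Subtype.ext ((hval t).trans ht)⟩
    obtain ⟨hfin, hsep, h1, h2⟩ := compositum A K E₁ E₂ ↥(E₁ ⊔ E₂) f₁ f₂ hsurj
    exact ⟨hfin, hsep, fun hL => h1 (hu₁ hL) (hu₂ hL), fun hL => h2 (ht₁ hL) (ht₂ hL)⟩
  haveI : Nonempty (L →ₐ[K] Ω) := ⟨IsScalarTower.toAlgHom K L Ω⟩
  have hPN : P (normalClosure K L Ω) := by
    rw [normalClosure_def, ← Finset.sup_univ_eq_iSup, ← Finset.sup'_eq_sup Finset.univ_nonempty]
    exact Finset.sup'_induction _ _ hP2 (fun f _ => hP1 f)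
  obtain ⟨hfin, hsep, hu, ht⟩ := hPN
  haveI := hsep
  have hgal : IsGalois K (normalClosure K L Ω) := ⟨⟩
  exact ⟨normalClosure K L Ω, inferInstance, inferInstance, hfin, hgal,
    IsScalarTower.toAlgHom K L (normalClosure K L Ω), hu, ht⟩

end

end Groth.Agent.Lib.Seat10.Gal
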