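import Mathlib
import Groth.Agent.S2009

/-!
# Glueing pairs `(R → S, I)`: torsion modules (Seat 10)

`R → S` flat, `R/I ≅ S/IS`.  For `I`-power torsion `X` the map `X → S ⊗ X` is bijective
(prior `S2009`); consequences for torsion elements of arbitrary modules.
-/

set_option autoImplicit false

universe u

open TensorProduct

namespace Groth.Agent.Lib.Seat10.GluePair

variable (R S : Type u) [CommRing R] [CommRing S] [Algebra R S] (I : Ideal R)

/-- `x` is `I`-power torsion -/
def IsTors {X : Type*} [AddCommGroup X] [Module R X] (x : X) : Prop :=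
  ∃ n : ℕ, ∀ a ∈ I ^ n, a • x = 0

variable {R I} in
theorem IsTors.mono {X : Type*} [AddCommGroup X] [Module R X] {x : X} {n k : ℕ} (hnk : n ≤ k)
    (h : ∀ a ∈ I ^ n, a • x = 0) : ∀ a ∈ I ^ k, a • x = 0 :=
  fun a ha => h a (Ideal.pow_le_pow_right hnk ha)

/-- the `I`-power torsion submodule -/
def torsionSub (X : Type*) [AddCommGroup X] [Module R X] : Submodule R X where
  carrier := {x | IsTors R I x}
  zero_mem' := ⟨0, fun a _ => smul_zero a⟩
  add_mem' := by
    rintro x y ⟨n, hn⟩ ⟨k, hk⟩
    refine ⟨max n k, fun a ha => ?_⟩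
    rw [smul_add, IsTors.mono (le_max_left n k) hn a ha, IsTors.mono (le_max_right n k) hk a ha,
      add_zero]
  smul_mem' := by
    rintro c x ⟨n, hn⟩
    exact ⟨n, fun a ha => by rw [smul_comm, hn a ha, smul_zero]⟩

theorem mem_torsionSub {X : Type*} [AddCommGroup X] [Module R X] (x : X) :
    x ∈ torsionSub R I X ↔ IsTors R I x := Iff.rfl

theorem torsionSub_isTors (X : Type*) [AddCommGroup X] [Module R X] (x : torsionSub R I X) :
    ∃ n : ℕ, ∀ a ∈ I ^ n, a • x = 0 := by
  obtain ⟨n, hn⟩ := x.2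
  exact ⟨n, fun a ha => Subtype.ext (hn a ha)⟩

section

variable [Module.Flat R S]
  (hq : Function.Bijective
    (Ideal.quotientMap (I.map (algebraMap R S)) (algebraMap R S) Ideal.le_comap_map))

include hq

omit [Module.Flat R S] in
theorem faithfullyFlat_quotient :
    Module.FaithfullyFlat (R ⧸ I) (S ⧸ I.map (algebraMap R S)) :=
  Module.FaithfullyFlat.of_linearEquiv (R ⧸ I) (R ⧸ I)
    (LinearEquiv.ofBijective (Algebra.linearMap (R ⧸ I) (S ⧸ I.map (algebraMap R S))) hq).symm

theorem mk_bijective (X : Type u) [AddCommGroup X] [Module R X]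
    (hX : ∀ x : X, ∃ n : ℕ, ∀ a ∈ I ^ n, a • x = 0) :
    Function.Bijective (TensorProduct.mk R S X 1) := by
  have := faithfullyFlat_quotient R S I hq
  exact ⟨Groth.Agent.S2009.inj_mk R S I X hX, Groth.Agent.S2009.surj_mk R S I hq.2 X hX⟩

/-- Lemma T: a torsion element `x` of `N` with `1 ⊗ x = 0` vanishes. -/
theorem eq_zero_of_tmul_eq_zero (N : Type u) [AddCommGroup N] [Module R N] (x : N)
    (hx : IsTors R I x) (h0 : (1 : S) ⊗ₜ[R] x = 0) : x = 0 := by
  let X := torsionSub R I N
  have hinj : Function.Injective (X.subtype.lTensor S) :=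
    Module.Flat.lTensor_preserves_injective_linearMap _ X.injective_subtype
  have h1 : (1 : S) ⊗ₜ[R] (⟨x, hx⟩ : X) = 0 := by
    apply hinj
    rw [LinearMap.lTensor_tmul, map_zero]
    exact h0
  have h2 := (mk_bijective R S I hq X (torsionSub_isTors R I N)).1
  have h3 : (⟨x, hx⟩ : X) = 0 := h2 (by rw [TensorProduct.mk_apply, h1, map_zero])
  exact congrArg Subtype.val h3

/-- Claim C: a torsion element of `S ⊗ N` is `1 ⊗ x` for a torsion `x ∈ N`. -/
theorem exists_tmul_eq_of_isTors (hI : I.FG) (N : Type u) [AddCommGroup N] [Module R N]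
    (y : S ⊗[R] N) (hy : IsTors R I y) : ∃ x : N, IsTors R I x ∧ (1 : S) ⊗ₜ[R] x = y := by
  classical
  obtain ⟨n, hn⟩ := hy
  obtain ⟨s, hs⟩ := hI.pow (n := n)
  let ψ : N →ₗ[R] (s → N) := LinearMap.pi (fun a => LinearMap.lsmul R N (a : R))
  have hψ : ∀ x a, ψ x a = (a : R) • x := fun x a => rfl
  let K := LinearMap.ker ψ
  have hex : Function.Exact K.subtype ψ := LinearMap.exact_subtype_ker_map ψ
  have hexS := Module.Flat.lTensor_exact S hex
  have hpi : ∀ (w : S ⊗[R] N) (a : s),
      TensorProduct.piRight R R S (fun _ : s => N) (ψ.lTensor S w) a = (a : R) • w := by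
    intro w a
    induction w using TensorProduct.induction_on with
    | zero => simp
    | tmul t x =>
      rw [LinearMap.lTensor_tmul, TensorProduct.piRight_apply, TensorProduct.piRightHom_tmul]
      show t ⊗ₜ[R] ψ x a = _
      rw [hψ, TensorProduct.tmul_smul]
    | add x y hx hy => rw [map_add, map_add, Pi.add_apply, hx, hy, smul_add]
  have hy0 : ψ.lTensor S y = 0 := by
    apply (TensorProduct.piRight R R S (fun _ : s => N)).injective
    rw [map_zero]
    funext a
    rw [hpi, Pi.zero_apply]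
    apply hn
    rw [← hs]
    exact Ideal.subset_span a.2
  obtain ⟨z, hz⟩ := (hexS y).mp hy0
  have hK : ∀ x : K, ∃ k : ℕ, ∀ a ∈ I ^ k, a • x = 0 := by
    intro x
    refine ⟨n, fun a ha => Subtype.ext ?_⟩
    have hx : ψ x = 0 := x.2
    rw [← hs] at ha
    show a • (x : N) = 0
    induction ha using Submodule.span_induction with
    | mem b hb =>
      have := congrFun hx ⟨b, hb⟩
      rwa [hψ] at this
    | zero => rw [zero_smul]
    | add b c _ _ hb hc => rw [add_smul, hb, hc, add_zero]
    | smul r b _ hb => rw [smul_assoc, hb, smul_zero]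
  obtain ⟨k, hk⟩ := Groth.Agent.S2009.surj_mk R S I hq.2 K hK z
  refine ⟨(k : N), ?_, ?_⟩
  · obtain ⟨j, hj⟩ := hK k
    exact ⟨j, fun a ha => congrArg Subtype.val (hj a ha)⟩
  · rw [← hz, ← hk, TensorProduct.mk_apply, LinearMap.lTensor_tmul]
    rfl

end

end Groth.Agent.Lib.Seat10.GluePair
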