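import Groth.Agent.Lib.Seat10GluePairA

/-!
# Glueing pairs: descent of first cohomology of a short complex with torsion `H¹` (Seat 10)

`N --d--> P --δ--> Q` with `δ ∘ d = 0` and `ker δ / im d` torsion.  After the flat base change
`S ⊗ -` cocycles are cocycles from `N`-level up to coboundaries, and coboundaries descend.
-/

set_option autoImplicit false

universe u

open TensorProduct

namespace Groth.Agent.Lib.Seat10.GluePair

variable (R S : Type u) [CommRing R] [CommRing S] [Algebra R S] (I : Ideal R)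
  [Module.Flat R S]
  (hq : Function.Bijective
    (Ideal.quotientMap (I.map (algebraMap R S)) (algebraMap R S) Ideal.le_comap_map))
  {N P Q : Type u} [AddCommGroup N] [Module R N] [AddCommGroup P] [Module R P]
  [AddCommGroup Q] [Module R Q] (d : N →ₗ[R] P) (δ : P →ₗ[R] Q) (hdδ : ∀ x, δ (d x) = 0)
  (htors : ∀ z : P, δ z = 0 → ∃ n : ℕ, ∀ a ∈ I ^ n, ∃ x : N, a • z = d x)

include hq hdδ htors

/-- the corestriction of `d` to the cocycles -/
def dZ : N →ₗ[R] LinearMap.ker δ := d.codRestrict _ (fun x => hdδ x)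

omit [Module.Flat R S] hq htors in
theorem dZ_coe (x : N) : ((dZ R d δ hdδ x : LinearMap.ker δ) : P) = d x := rfl

omit [Module.Flat R S] hq in
theorem H_tors (c : LinearMap.ker δ ⧸ LinearMap.range (dZ R d δ hdδ)) :
    ∃ n : ℕ, ∀ a ∈ I ^ n, a • c = 0 := by
  obtain ⟨z, rfl⟩ := Submodule.Quotient.mk_surjective _ c
  obtain ⟨n, hn⟩ := htors z.1 z.2
  refine ⟨n, fun a ha => ?_⟩
  obtain ⟨x, hx⟩ := hn a ha
  rw [← Submodule.Quotient.mk_smul, Submodule.Quotient.mk_eq_zero]
  exact ⟨x, Subtype.ext hx.symm⟩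

/-- K1': a cocycle whose base change is a coboundary is a coboundary. -/
theorem exists_eq_d_of_tmul (z : P) (hz : δ z = 0) (y : S ⊗[R] N)
    (hy : (1 : S) ⊗ₜ[R] z = d.lTensor S y) : ∃ x : N, z = d x := by
  let Z := LinearMap.ker δ
  let B := LinearMap.range (dZ R d δ hdδ)
  have hinj : Function.Injective (Z.subtype.lTensor S) :=
    Module.Flat.lTensor_preserves_injective_linearMap _ Z.injective_subtype
  have h1 : (1 : S) ⊗ₜ[R] (⟨z, hz⟩ : Z) = (dZ R d δ hdδ).lTensor S y := by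
    apply hinj
    rw [LinearMap.lTensor_tmul, ← LinearMap.comp_apply, ← LinearMap.lTensor_comp]
    exact hy
  have h2 : (1 : S) ⊗ₜ[R] (B.mkQ ⟨z, hz⟩) = 0 := by
    have := congrArg (B.mkQ.lTensor S) h1
    rw [LinearMap.lTensor_tmul, ← LinearMap.comp_apply, ← LinearMap.lTensor_comp] at this
    rw [this]
    have h0 : B.mkQ ∘ₗ dZ R d δ hdδ = 0 := by
      ext x
      simp only [LinearMap.comp_apply, Submodule.mkQ_apply, LinearMap.zero_apply,
        Submodule.Quotient.mk_eq_zero]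
      exact ⟨x, rfl⟩
    rw [h0, LinearMap.lTensor_zero, LinearMap.zero_apply]
  have h3 := (mk_bijective R S I hq (Z ⧸ B) (H_tors R I d δ hdδ htors)).1
  have h4 : B.mkQ ⟨z, hz⟩ = 0 := h3 (by rw [TensorProduct.mk_apply, h2, map_zero])
  rw [Submodule.mkQ_apply, Submodule.Quotient.mk_eq_zero] at h4
  obtain ⟨x, hx⟩ := h4
  exact ⟨x, (congrArg Subtype.val hx).symm⟩

/-- K2': a base-changed cocycle is a cocycle from below plus a coboundary. -/
theorem exists_tmul_add_d (w : S ⊗[R] P) (hw : δ.lTensor S w = 0) :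
    ∃ (z : P) (y : S ⊗[R] N), δ z = 0 ∧ w = (1 : S) ⊗ₜ[R] z + d.lTensor S y := by
  let Z := LinearMap.ker δ
  let B := LinearMap.range (dZ R d δ hdδ)
  have hex1 : Function.Exact Z.subtype δ := LinearMap.exact_subtype_ker_map δ
  have hex1S := Module.Flat.lTensor_exact S hex1
  obtain ⟨w', hw'⟩ := (hex1S w).mp hw
  have hsurj := (mk_bijective R S I hq (Z ⧸ B) (H_tors R I d δ hdδ htors)).2
  obtain ⟨c, hc⟩ := hsurj (B.mkQ.lTensor S w')
  obtain ⟨z, rfl⟩ := B.mkQ_surjective c
  have hex2 : Function.Exact (dZ R d δ hdδ) B.mkQ := by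
    intro t
    rw [Submodule.mkQ_apply, Submodule.Quotient.mk_eq_zero]
    exact Iff.rfl
  have hex2S := Module.Flat.lTensor_exact S hex2
  have h5 : B.mkQ.lTensor S (w' - (1 : S) ⊗ₜ[R] z) = 0 := by
    rw [map_sub, LinearMap.lTensor_tmul, ← hc, TensorProduct.mk_apply, sub_self]
  obtain ⟨y, hy⟩ := (hex2S _).mp h5
  refine ⟨z.1, y, z.2, ?_⟩
  have h6 : w' = (1 : S) ⊗ₜ[R] z + (dZ R d δ hdδ).lTensor S y := by
    rw [hy]; abel
  rw [← hw', h6, map_add, LinearMap.lTensor_tmul, ← LinearMap.comp_apply,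
    ← LinearMap.lTensor_comp]
  rfl

end Groth.Agent.Lib.Seat10.GluePair
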