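import Groth.Agent.Lib.Seat10GluePairB

/-!
# Glueing pairs: Koszul-type cocycles for a finite family `g : ι → R` (Seat 10)
-/

set_option autoImplicit false

universe u

open TensorProduct

namespace Groth.Agent.Lib.Seat10.GluePair

variable (R S : Type u) [CommRing R] [CommRing S] [Algebra R S] (I : Ideal R)

section defs

variable {ι : Type u} (g : ι → R)
  (N : Type u) [AddCommGroup N] [Module R N]

/-- `x ↦ (g_i x)_i` -/
def dK : N →ₗ[R] (ι → N) := LinearMap.pi (fun i => LinearMap.lsmul R N (g i))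

/-- `(x_i) ↦ (g_i x_j - g_j x_i)_{ij}` -/
def δK : (ι → N) →ₗ[R] (ι × ι → N) :=
  LinearMap.pi (fun p => g p.1 • LinearMap.proj p.2 - g p.2 • LinearMap.proj p.1)

@[simp] theorem dK_apply (x : N) (i : ι) : dK R g N x i = g i • x := rfl

@[simp] theorem δK_apply (x : ι → N) (p : ι × ι) :
    δK R g N x p = g p.1 • x p.2 - g p.2 • x p.1 := rfl

theorem δK_dK (x : N) : δK R g N (dK R g N x) = 0 := by
  funext p
  rw [δK_apply, dK_apply, dK_apply, smul_smul, smul_smul, mul_comm, sub_self, Pi.zero_apply]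

theorem δK_eq_zero_iff (x : ι → N) : δK R g N x = 0 ↔ ∀ i j, g i • x j = g j • x i := by
  constructor
  · intro h i j
    have := congrFun h (i, j)
    rwa [δK_apply, Pi.zero_apply, sub_eq_zero] at this
  · intro h
    funext p
    rw [δK_apply, Pi.zero_apply, sub_eq_zero]
    exact h p.1 p.2

theorem htors_K {n₀ : ℕ} (hg : I ^ n₀ ≤ Ideal.span (Set.range g)) (z : ι → N)
    (hz : δK R g N z = 0) :
    ∃ n : ℕ, ∀ a ∈ I ^ n, ∃ x : N, a • z = dK R g N x := by
  rw [δK_eq_zero_iff] at hz
  refine ⟨n₀, fun a ha => ?_⟩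
  have ha' := hg ha
  clear ha
  induction ha' using Submodule.span_induction with
  | mem b hb =>
    obtain ⟨i, rfl⟩ := hb
    refine ⟨z i, ?_⟩
    funext j
    rw [Pi.smul_apply, dK_apply]
    exact hz i j
  | zero => exact ⟨0, by rw [zero_smul, map_zero]⟩
  | add b c _ _ hb hc =>
    obtain ⟨x, hx⟩ := hb
    obtain ⟨x', hx'⟩ := hc
    exact ⟨x + x', by rw [add_smul, hx, hx', map_add]⟩
  | smul r b _ hb =>
    obtain ⟨x, hx⟩ := hb
    exact ⟨r • x, by rw [smul_assoc, hx, map_smul]⟩

variable [Fintype ι] [DecidableEq ι]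

theorem piRight_dK (y : S ⊗[R] N) (i : ι) :
    TensorProduct.piRight R R S (fun _ : ι => N) ((dK R g N).lTensor S y) i = g i • y := by
  induction y using TensorProduct.induction_on with
  | zero => simp
  | tmul t x =>
    rw [LinearMap.lTensor_tmul, TensorProduct.piRight_apply, TensorProduct.piRightHom_tmul]
    show t ⊗ₜ[R] (dK R g N x i) = _
    rw [dK_apply, TensorProduct.tmul_smul]
  | add x y hx hy => rw [map_add, map_add, Pi.add_apply, hx, hy, smul_add]

theorem piRight_δK (w : S ⊗[R] (ι → N)) (p : ι × ι) :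
    TensorProduct.piRight R R S (fun _ : ι × ι => N) ((δK R g N).lTensor S w) p =
      g p.1 • TensorProduct.piRight R R S (fun _ : ι => N) w p.2 -
        g p.2 • TensorProduct.piRight R R S (fun _ : ι => N) w p.1 := by
  induction w using TensorProduct.induction_on with
  | zero => simp
  | tmul t x =>
    rw [LinearMap.lTensor_tmul, TensorProduct.piRight_apply, TensorProduct.piRightHom_tmul,
      TensorProduct.piRight_apply, TensorProduct.piRightHom_tmul]
    show t ⊗ₜ[R] (δK R g N x p) = g p.1 • t ⊗ₜ[R] x p.2 - g p.2 • t ⊗ₜ[R] x p.1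
    rw [δK_apply, TensorProduct.tmul_sub, TensorProduct.tmul_smul, TensorProduct.tmul_smul]
  | add x y hx hy =>
    rw [map_add, map_add, Pi.add_apply, hx, hy, map_add, Pi.add_apply, Pi.add_apply, smul_add,
      smul_add]
    abel

end defs

section main

variable [Module.Flat R S]
  (hq : Function.Bijective
    (Ideal.quotientMap (I.map (algebraMap R S)) (algebraMap R S) Ideal.le_comap_map))
  {ι : Type u} [Fintype ι] [DecidableEq ι] (g : ι → R) {n₀ : ℕ}
  (hg : I ^ n₀ ≤ Ideal.span (Set.range g))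
  (N : Type u) [AddCommGroup N] [Module R N]

include hq hg

/-- K1: a cocycle over `N` whose base change is a coboundary is a coboundary. -/
theorem exists_eq_smul_of_tmul (x : ι → N) (hx : ∀ i j, g i • x j = g j • x i)
    (y : S ⊗[R] N) (hy : ∀ i, (1 : S) ⊗ₜ[R] x i = g i • y) : ∃ ν : N, ∀ i, x i = g i • ν := by
  have h1 : (1 : S) ⊗ₜ[R] x = (dK R g N).lTensor S y := by
    apply (TensorProduct.piRight R R S (fun _ : ι => N)).injective
    funext i
    rw [piRight_dK, TensorProduct.piRight_apply, TensorProduct.piRightHom_tmul]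
    exact hy i
  obtain ⟨ν, hν⟩ := exists_eq_d_of_tmul R S I hq (dK R g N) (δK R g N) (δK_dK R g N)
    (htors_K R I g N hg) x ((δK_eq_zero_iff R g N x).mpr hx) y h1
  exact ⟨ν, fun i => congrFun hν i⟩

/-- K2: a cocycle over `S ⊗ N` is a cocycle from `N` plus a coboundary. -/
theorem exists_tmul_add_smul (y : ι → S ⊗[R] N) (hy : ∀ i j, g i • y j = g j • y i) :
    ∃ (x : ι → N) (y₀ : S ⊗[R] N), (∀ i j, g i • x j = g j • x i) ∧
      ∀ i, y i = (1 : S) ⊗ₜ[R] x i + g i • y₀ := by
  let w := (TensorProduct.piRight R R S (fun _ : ι => N)).symm y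
  have hw : (δK R g N).lTensor S w = 0 := by
    apply (TensorProduct.piRight R R S (fun _ : ι × ι => N)).injective
    funext p
    rw [piRight_δK, map_zero, Pi.zero_apply, LinearEquiv.apply_symm_apply, sub_eq_zero]
    exact hy p.1 p.2
  obtain ⟨x, y₀, hx, hxy⟩ := exists_tmul_add_d R S I hq (dK R g N) (δK R g N) (δK_dK R g N)
    (htors_K R I g N hg) w hw
  refine ⟨x, y₀, (δK_eq_zero_iff R g N x).mp hx, fun i => ?_⟩
  have := congrFun (congrArg (TensorProduct.piRight R R S (fun _ : ι => N)) hxy) i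
  rw [LinearEquiv.apply_symm_apply, map_add, Pi.add_apply, piRight_dK,
    TensorProduct.piRight_apply, TensorProduct.piRightHom_tmul] at this
  exact this

end main

end Groth.Agent.Lib.Seat10.GluePair
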