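import Groth.Agent.Lib.Seat10GluePairC

/-!
# Glueing pairs: lifting extensions of torsion modules (Seat 10)

Given `0 → S ⊗ N → E' → S ⊗ M → 0` with `M` torsion, the module
`E = {(e, (ξ_i)) ∈ E' × ∏ N_{f_i} : ∃ n, (x_i) cocycle, f_i^n e = ι(x_i), f_i^n ξ_i = x_i/1}`
is an extension of `M` by `N` mapping to `E'`.
-/

set_option autoImplicit false

universe u

open TensorProduct

namespace Groth.Agent.Lib.Seat10.GluePair

variable (R S : Type u) [CommRing R] [CommRing S] [Algebra R S] (I : Ideal R)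

section torsion

variable {ι : Type u} [Finite ι] (f : ι → R) (hf : Ideal.span (Set.range f) = I)

include hf

theorem pow_mem_pow (i : ι) (n : ℕ) : f i ^ n ∈ I ^ n :=
  Ideal.pow_mem_pow (hf ▸ Ideal.subset_span ⟨i, rfl⟩) n

theorem exists_pow_le_span_pow (n : ℕ) :
    ∃ n₀ : ℕ, I ^ n₀ ≤ Ideal.span (Set.range fun i => f i ^ n) := by
  apply Ideal.exists_pow_le_of_le_radical_of_fg
  · rw [← hf, Ideal.span_le]
    rintro _ ⟨i, rfl⟩
    exact ⟨n, Ideal.subset_span ⟨i, rfl⟩⟩
  · rw [← hf]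
    exact ⟨(Set.finite_range f).toFinset, by rw [Set.Finite.coe_toFinset]⟩

theorem isTors_of_forall_pow_smul {X : Type*} [AddCommGroup X] [Module R X] (t : X) (n : ℕ)
    (ht : ∀ i, f i ^ n • t = 0) : IsTors R I t := by
  obtain ⟨n₀, hn₀⟩ := exists_pow_le_span_pow R I f hf n
  refine ⟨n₀, fun a ha => ?_⟩
  have ha' := hn₀ ha
  clear ha
  induction ha' using Submodule.span_induction with
  | mem b hb =>
    obtain ⟨i, rfl⟩ := hb
    exact ht i
  | zero => rw [zero_smul]
  | add b c _ _ hb hc => rw [add_smul, hb, hc, add_zero]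
  | smul r b _ hb => rw [smul_assoc, hb, smul_zero]

theorem isTors_of_forall_exists_pow_smul {X : Type*} [AddCommGroup X] [Module R X] (t : X)
    (ht : ∀ i, ∃ n : ℕ, f i ^ n • t = 0) : IsTors R I t := by
  choose k hk using ht
  obtain ⟨n, hn⟩ := (Set.finite_range k).bddAbove
  apply isTors_of_forall_pow_smul R I f hf t n
  intro i
  have hle : k i ≤ n := hn ⟨i, rfl⟩
  rw [← Nat.sub_add_cancel hle, pow_add, mul_smul, hk i, smul_zero]

end torsion

end Groth.Agent.Lib.Seat10.GluePair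

namespace Groth.Agent.Lib.Seat10.GluePair

variable (R S : Type u) [CommRing R] [CommRing S] [Algebra R S] (I : Ideal R)

section ext

variable {ι : Type u} (f : ι → R)
  (N : Type u) [AddCommGroup N] [Module R N]
  (E' : Type u) [AddCommGroup E'] [Module S E'] [Module R E'] [IsScalarTower R S E']
  (i' : S ⊗[R] N →ₗ[S] E')

/-- `N → E'`, `ν ↦ i'(1 ⊗ ν)` -/
def iotaN : N →ₗ[R] E' := (i'.restrictScalars R) ∘ₗ (TensorProduct.mk R S N 1)

@[simp] theorem iotaN_apply (ν : N) : iotaN R S N E' i' ν = i' ((1 : S) ⊗ₜ[R] ν) := rfl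

/-- `(n, x)` witnesses that `p` lies in the glued module -/
def IsWit (p : E' × (∀ i, LocalizedModule (Submonoid.powers (f i)) N)) (n : ℕ) (x : ι → N) :
    Prop :=
  (∀ i j, f i ^ n • x j = f j ^ n • x i) ∧ (∀ i, f i ^ n • p.1 = iotaN R S N E' i' (x i)) ∧
  ∀ i, f i ^ n • p.2 i = LocalizedModule.mkLinearMap (Submonoid.powers (f i)) N (x i)

variable {R S f N E' i'} in
theorem IsWit.rescale {p : E' × (∀ i, LocalizedModule (Submonoid.powers (f i)) N)} {n : ℕ}
    {x : ι → N} (h : IsWit R S f N E' i' p n x) (l : ℕ) :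
    IsWit R S f N E' i' p (n + l) (fun i => f i ^ l • x i) := by
  obtain ⟨h1, h2, h3⟩ := h
  refine ⟨fun i j => ?_, fun i => ?_, fun i => ?_⟩
  · show f i ^ (n + l) • f j ^ l • x j = f j ^ (n + l) • f i ^ l • x i
    have e1 : f i ^ (n + l) * f j ^ l = (f i ^ l * f j ^ l) * f i ^ n := by ring
    have e2 : f j ^ (n + l) * f i ^ l = (f i ^ l * f j ^ l) * f j ^ n := by ring
    rw [smul_smul, smul_smul, e1, e2, mul_smul (f i ^ l * f j ^ l), mul_smul (f i ^ l * f j ^ l),
      h1 i j]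
  · rw [pow_add, mul_comm, mul_smul, h2 i, map_smul]
  · rw [pow_add, mul_comm, mul_smul, h3 i, map_smul]

/-- the glued module -/
def extMod : Submodule R (E' × (∀ i, LocalizedModule (Submonoid.powers (f i)) N)) where
  carrier := {p | ∃ n x, IsWit R S f N E' i' p n x}
  zero_mem' := ⟨0, fun _ => 0, fun i j => by simp, fun i => by simp, fun i => by simp⟩
  add_mem' := by
    rintro p q ⟨n, x, hx⟩ ⟨k, y, hy⟩
    have hx' := hx.rescale k
    have hy' := hy.rescale n
    rw [add_comm k n] at hy'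
    obtain ⟨a1, a2, a3⟩ := hx'
    obtain ⟨b1, b2, b3⟩ := hy'
    refine ⟨n + k, fun i => f i ^ k • x i + f i ^ n • y i, fun i j => ?_, fun i => ?_, fun i => ?_⟩
    · rw [smul_add, smul_add, a1 i j, b1 i j]
    · rw [Prod.fst_add, smul_add, a2 i, b2 i, map_add]
    · rw [Prod.snd_add, Pi.add_apply, smul_add, a3 i, b3 i, map_add]
  smul_mem' := by
    rintro c p ⟨n, x, h1, h2, h3⟩
    refine ⟨n, fun i => c • x i, fun i j => ?_, fun i => ?_, fun i => ?_⟩
    · rw [smul_comm, h1 i j, smul_comm]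
    · rw [Prod.smul_fst, smul_comm, h2 i, map_smul]
    · rw [Prod.smul_snd, Pi.smul_apply, smul_comm, h3 i, map_smul]

theorem mem_extMod (p : E' × (∀ i, LocalizedModule (Submonoid.powers (f i)) N)) :
    p ∈ extMod R S f N E' i' ↔ ∃ n x, IsWit R S f N E' i' p n x := Iff.rfl

/-- `N → E` -/
noncomputable def iE : N →ₗ[R] extMod R S f N E' i' :=
  LinearMap.codRestrict _
    ((iotaN R S N E' i').prod
      (LinearMap.pi fun i => LocalizedModule.mkLinearMap (Submonoid.powers (f i)) N))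
    (fun ν => ⟨0, fun _ => ν, fun i j => by simp, fun i => by simp, fun i => by simp⟩)

/-- `E → E'` -/
def gE : extMod R S f N E' i' →ₗ[R] E' :=
  (LinearMap.fst R E' _) ∘ₗ (extMod R S f N E' i').subtype

theorem gE_iE (ν : N) : gE R S f N E' i' (iE R S f N E' i' ν) = i' ((1 : S) ⊗ₜ[R] ν) := rfl

end ext

end Groth.Agent.Lib.Seat10.GluePair
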