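import Groth.Agent.Lib.Seat10GluePairD

/-!
# Glueing pairs: lifting extensions of torsion modules — main theorem (Seat 10)
-/

set_option autoImplicit false

universe u

open TensorProduct

namespace Groth.Agent.Lib.Seat10.GluePair

theorem exists_extension_lift (R S : Type u) [CommRing R] [CommRing S] [Algebra R S]
    [Module.Flat R S] (I : Ideal R) (hI : I.FG)
    (hq : Function.Bijective
      (Ideal.quotientMap (I.map (algebraMap R S)) (algebraMap R S) Ideal.le_comap_map))
    (N M : Type u) [AddCommGroup N] [Module R N] [AddCommGroup M] [Module R M]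
    (hM : ∀ m : M, ∃ n : ℕ, ∀ a ∈ I ^ n, a • m = 0)
    (E' : Type u) [AddCommGroup E'] [Module S E'] [Module R E'] [IsScalarTower R S E']
    (i' : S ⊗[R] N →ₗ[S] E') (p' : E' →ₗ[S] S ⊗[R] M)
    (hi' : Function.Injective i') (hp' : Function.Surjective p')
    (hex' : LinearMap.range i' = LinearMap.ker p') :
    ∃ (E : Type u) (_ : AddCommGroup E) (_ : Module R E) (i : N →ₗ[R] E) (p : E →ₗ[R] M)
      (g : E →ₗ[R] E'),
      Function.Injective i ∧ Function.Surjective p ∧ LinearMap.range i = LinearMap.ker p ∧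
      (∀ n : N, g (i n) = i' ((1 : S) ⊗ₜ[R] n)) ∧ (∀ e : E, p' (g e) = (1 : S) ⊗ₜ[R] p e) := by
  classical
  obtain ⟨s, hs⟩ := hI
  let ι : Type u := ↥s
  let f : ι → R := Subtype.val
  have hf : Ideal.span (Set.range f) = I := by
    rw [← hs]
    congr 1
    exact Subtype.range_coe
  let θ : M ≃ₗ[R] S ⊗[R] M :=
    LinearEquiv.ofBijective (TensorProduct.mk R S M 1) (mk_bijective R S I hq M hM)
  have hθ : ∀ m : M, θ m = (1 : S) ⊗ₜ[R] m := fun m => rfl
  let pE : extMod R S f N E' i' →ₗ[R] M :=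
    θ.symm.toLinearMap ∘ₗ (p'.restrictScalars R) ∘ₗ gE R S f N E' i'
  have hpE : ∀ e, (1 : S) ⊗ₜ[R] pE e = p' (gE R S f N E' i' e) := by
    intro e
    rw [← hθ]
    simp only [pE, LinearMap.comp_apply, LinearEquiv.coe_coe, LinearEquiv.apply_symm_apply,
      LinearMap.restrictScalars_apply]
  have hp'i' : ∀ y, p' (i' y) = 0 := by
    intro y
    have : i' y ∈ LinearMap.ker p' := hex' ▸ LinearMap.mem_range_self i' y
    exact this
  have hsmul_i' : ∀ (a : R) (y : S ⊗[R] N), a • i' y = i' (a • y) := by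
    intro a y
    rw [← algebraMap_smul S a (i' y), ← map_smul, algebraMap_smul]
  have hsmul_p' : ∀ (a : R) (e : E'), p' (a • e) = a • p' e := by
    intro a e
    rw [← algebraMap_smul S a e, map_smul, algebraMap_smul]
  refine ⟨extMod R S f N E' i', inferInstance, inferInstance, iE R S f N E' i', pE,
    gE R S f N E' i', ?_, ?_, ?_, fun n => rfl, fun e => (hpE e).symm⟩
  · -- injectivity of `i`
    rw [injective_iff_map_eq_zero]
    intro ν hν
    have h1 : i' ((1 : S) ⊗ₜ[R] ν) = 0 :=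
      congrArg (fun e : extMod R S f N E' i' => e.1.1) hν
    have h2 : (1 : S) ⊗ₜ[R] ν = 0 := hi' (by rw [h1, map_zero])
    have h3 : ∀ i : ι, LocalizedModule.mkLinearMap (Submonoid.powers (f i)) N ν = 0 :=
      fun i => congrFun (congrArg (fun e : extMod R S f N E' i' => e.1.2) hν) i
    have h4 : IsTors R I ν := by
      apply isTors_of_forall_exists_pow_smul R I f hf
      intro i
      obtain ⟨⟨c, l, rfl⟩, hc⟩ := (IsLocalizedModule.eq_zero_iff (Submonoid.powers (f i))
        (LocalizedModule.mkLinearMap (Submonoid.powers (f i)) N)).mp (h3 i)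
      exact ⟨l, hc⟩
    exact eq_zero_of_tmul_eq_zero R S I hq N ν h4 h2
  · -- surjectivity of `p`
    intro m
    obtain ⟨e₀, he₀⟩ := hp' ((1 : S) ⊗ₜ[R] m)
    obtain ⟨k, hk⟩ := hM m
    have hfk : ∀ i : ι, f i ^ k • m = 0 := fun i => hk _ (pow_mem_pow R I f hf i k)
    have hy : ∀ i : ι, ∃ y : S ⊗[R] N, i' y = f i ^ k • e₀ := by
      intro i
      have : f i ^ k • e₀ ∈ LinearMap.ker p' := by
        rw [LinearMap.mem_ker, hsmul_p', he₀, ← TensorProduct.tmul_smul, hfk i,
          TensorProduct.tmul_zero]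
      rw [← hex'] at this
      exact this
    choose y hy using hy
    have hycoc : ∀ i j, f i ^ k • y j = f j ^ k • y i := by
      intro i j
      apply hi'
      rw [← hsmul_i', ← hsmul_i', hy, hy, smul_comm]
    obtain ⟨n₀, hn₀⟩ := exists_pow_le_span_pow R I f hf k
    obtain ⟨x, y₀, hx, hxy⟩ := exists_tmul_add_smul R S I hq (fun i => f i ^ k) hn₀ N y hycoc
    let pw : ∀ i : ι, Submonoid.powers (f i) := fun i => ⟨f i ^ k, ⟨k, rfl⟩⟩
    let ξ : ∀ i : ι, LocalizedModule (Submonoid.powers (f i)) N :=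
      fun i => LocalizedModule.mk (x i) (pw i)
    have hmem : (e₀ - i' y₀, ξ) ∈ extMod R S f N E' i' := by
      refine ⟨k, x, hx, fun i => ?_, fun i => ?_⟩
      · show f i ^ k • (e₀ - i' y₀) = i' ((1 : S) ⊗ₜ[R] x i)
        rw [smul_sub, ← hy i, hxy i, hsmul_i', map_add]
        abel
      · show f i ^ k • LocalizedModule.mk (x i) (pw i) = _
        rw [LocalizedModule.mkLinearMap_apply, LocalizedModule.smul'_mk]
        exact LocalizedModule.mk_cancel (pw i) (x i)
    refine ⟨⟨_, hmem⟩, ?_⟩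
    apply θ.injective
    rw [hθ, hpE]
    show p' (e₀ - i' y₀) = _
    rw [map_sub, hp'i', sub_zero, he₀]
    exact (hθ m).symm
  · -- exactness
    apply le_antisymm
    · rintro _ ⟨ν, rfl⟩
      rw [LinearMap.mem_ker]
      apply θ.injective
      rw [hθ, hpE, gE_iE, hp'i', map_zero]
    · rintro ⟨⟨e, ξ⟩, n, x, hx1, hx2, hx3⟩ hker
      rw [LinearMap.mem_ker] at hker
      have h1 : p' e = 0 := by
        have := hpE ⟨⟨e, ξ⟩, n, x, hx1, hx2, hx3⟩
        rw [hker, TensorProduct.tmul_zero] at this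
        exact this.symm
      have h2 : e ∈ LinearMap.range i' := by rw [hex']; exact h1
      obtain ⟨y, rfl⟩ := h2
      have h3 : ∀ i : ι, (1 : S) ⊗ₜ[R] x i = f i ^ n • y := by
        intro i
        apply hi'
        rw [← hsmul_i']
        exact (hx2 i).symm
      obtain ⟨n₀, hn₀⟩ := exists_pow_le_span_pow R I f hf n
      obtain ⟨ν₀, hν₀⟩ := exists_eq_smul_of_tmul R S I hq (fun i => f i ^ n) hn₀ N x hx1 y h3
      have h4 : IsTors R I (y - (1 : S) ⊗ₜ[R] ν₀) := by
        apply isTors_of_forall_pow_smul R I f hf _ n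
        intro i
        rw [smul_sub, ← h3 i, hν₀ i, TensorProduct.tmul_smul, sub_self]
      obtain ⟨ν₁, hν₁, hν₁'⟩ := exists_tmul_eq_of_isTors R S I hq ⟨s, hs⟩ N _ h4
      refine ⟨ν₀ + ν₁, ?_⟩
      apply Subtype.ext
      refine Prod.ext ?_ ?_
      · show i' ((1 : S) ⊗ₜ[R] (ν₀ + ν₁)) = i' y
        rw [TensorProduct.tmul_add, hν₁']
        congr 1
        abel
      · funext i
        show LocalizedModule.mkLinearMap (Submonoid.powers (f i)) N (ν₀ + ν₁) = ξ i
        have h5 : LocalizedModule.mkLinearMap (Submonoid.powers (f i)) N ν₁ = 0 := by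
          rw [IsLocalizedModule.eq_zero_iff (Submonoid.powers (f i))]
          obtain ⟨l, hl⟩ := hν₁
          exact ⟨⟨f i ^ l, ⟨l, rfl⟩⟩, hl _ (pow_mem_pow R I f hf i l)⟩
        rw [map_add, h5, add_zero]
        apply IsLocalizedModule.smul_injective
          (LocalizedModule.mkLinearMap (Submonoid.powers (f i)) N)
          (⟨f i ^ n, ⟨n, rfl⟩⟩ : Submonoid.powers (f i))
        show f i ^ n • _ = f i ^ n • ξ i
        rw [hx3 i, ← map_smul, ← hν₀ i]

end Groth.Agent.Lib.Seat10.GluePair
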