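import Mathlib

/-!
# Lifting étale algebras along an arbitrary surjection (seat 3)

Let `π : A → Ā` be a surjective ring map and `C` an étale `Ā`-algebra. Then there is an étale
`A`-algebra `D` with a surjection `π' : D → C` over `π` whose kernel is `(ker π) D`; in particular
`C = Ā ⊗[A] D` (the square is a pushout of commutative rings).

The construction follows `Seat88EtaleLift` (which treats nilpotent kernels): lift a standard smooth
presentation of relative dimension `0` and invert the jacobian.
-/

set_option autoImplicit false
set_option linter.style.haveILetI false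
universe u v

namespace Groth.Agent.Lib.Seat3.EtaleLift

open MvPolynomial

/-- For a square pre-submersive presentation, the localization at the jacobian is étale
(copied from the prior `Helper26JacEtale`). -/
theorem etale_away_jacobian' {A : Type u} {E : Type v} [CommRing A] [CommRing E] [Algebra A E] {ι σ : Type}
    [Finite ι] [Finite σ] (P : Algebra.PreSubmersivePresentation A E ι σ)
    (hcard : Nat.card ι = Nat.card σ) : Algebra.Etale A (Localization.Away P.jacobian) := by
  have hΔ : IsUnit (algebraMap E (Localization.Away P.jacobian) P.jacobian) :=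
    IsLocalization.Away.algebraMap_isUnit _
  let Q : Algebra.SubmersivePresentation A (Localization.Away P.jacobian) _ _ :=
    { toPreSubmersivePresentation :=
        .comp (.localizationAway (Localization.Away P.jacobian) P.jacobian) P
      jacobian_isUnit := by simpa [Algebra.smul_def, -isUnit_map_iff, hΔ] }
  have : Algebra.IsStandardSmoothOfRelativeDimension 0 A (Localization.Away P.jacobian) :=
    Q.isStandardSmoothOfRelativeDimension (by
      simp only [Algebra.PreSubmersivePresentation.dimension_comp_eq_dimension_add_dimension, Q]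
      simp [Algebra.Presentation.dimension, hcard])
  infer_instance

/-- Lifting an étale algebra along a surjection. -/
theorem exists_etale_lift {A : Type u} {Abar : Type v} {C : Type*} [CommRing A] [CommRing Abar]
    [CommRing C] [Algebra Abar C] [Algebra.Etale Abar C] (π : A →+* Abar)
    (hπ : Function.Surjective π) :
    ∃ (D : Type u) (_ : CommRing D) (_ : Algebra A D) (π' : D →+* C), Algebra.Etale A D ∧
      Function.Surjective π' ∧ π'.comp (algebraMap A D) = (algebraMap Abar C).comp π ∧
      RingHom.ker π' = Ideal.map (algebraMap A D) (RingHom.ker π) := by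
  classical
  have hstd : Algebra.IsStandardSmoothOfRelativeDimension 0 Abar C :=
    Algebra.Etale.iff_isStandardSmoothOfRelativeDimension_zero.mp inferInstance
  obtain ⟨ι, σ, _, _, P, hdim⟩ := hstd.out
  cases nonempty_fintype σ
  cases nonempty_fintype ι
  -- lift the relations
  have hmapsurj : Function.Surjective (MvPolynomial.map π : MvPolynomial ι A →+* MvPolynomial ι Abar) :=
    MvPolynomial.map_surjective π hπ
  choose R hR using fun j : σ => hmapsurj (P.relation j)
  let I : Ideal (MvPolynomial ι A) := Ideal.span (Set.range R)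
  let D₀ : Type u := MvPolynomial ι A ⧸ I
  let Q : Algebra.PreSubmersivePresentation A D₀ ι σ :=
    Algebra.PreSubmersivePresentation.naive (v := R) P.map P.map_inj
  -- the map to `C`
  let φ : MvPolynomial ι A →+* C :=
    ((MvPolynomial.aeval P.val : MvPolynomial ι Abar →ₐ[Abar] C) : MvPolynomial ι Abar →+* C).comp
      (MvPolynomial.map π)
  have hφR : ∀ j, φ (R j) = 0 := by
    intro j
    show (MvPolynomial.aeval P.val) (MvPolynomial.map π (R j)) = 0
    rw [hR j]
    exact P.aeval_val_relation j
  have hφI : ∀ x ∈ I, φ x = 0 := by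
    intro x hx
    refine Submodule.span_induction ?_ ?_ ?_ ?_ hx
    · rintro _ ⟨j, rfl⟩; exact hφR j
    · exact map_zero _
    · intro a b _ _ ha hb; rw [map_add, ha, hb, add_zero]
    · intro a b _ hb; rw [smul_eq_mul, map_mul, hb, mul_zero]
  let π₀ : D₀ →+* C := Ideal.Quotient.lift I φ hφI
  have hπ₀mk : ∀ x, π₀ (Ideal.Quotient.mk I x) = φ x := fun x => Ideal.Quotient.lift_mk I φ hφI
  have hφsurj : Function.Surjective φ := by
    intro c
    obtain ⟨x, hx⟩ := P.algebraMap_surjective c
    obtain ⟨y, hy⟩ := hmapsurj x
    exact ⟨y, by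
      show (MvPolynomial.aeval P.val) (MvPolynomial.map π y) = c
      rw [hy, ← P.algebraMap_apply]; exact hx⟩
  have hπ₀surj : Function.Surjective π₀ := by
    intro c
    obtain ⟨y, hy⟩ := hφsurj c
    exact ⟨Ideal.Quotient.mk I y, by rw [hπ₀mk, hy]⟩
  have hcomm₀ : π₀.comp (algebraMap A D₀) = (algebraMap Abar C).comp π := by
    ext b
    show π₀ (Ideal.Quotient.mk I (MvPolynomial.C b)) = algebraMap Abar C (π b)
    rw [hπ₀mk]
    show (MvPolynomial.aeval P.val) (MvPolynomial.map π (MvPolynomial.C b)) = _
    rw [MvPolynomial.map_C, MvPolynomial.aeval_C]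
  -- kernel of `φ`
  have hkerφ : RingHom.ker φ = I ⊔ Ideal.map (MvPolynomial.C : A →+* MvPolynomial ι A)
      (RingHom.ker π) := by
    have h1 : RingHom.ker φ = Ideal.comap (MvPolynomial.map π : MvPolynomial ι A →+* MvPolynomial ι Abar)
        (RingHom.ker ((MvPolynomial.aeval P.val : MvPolynomial ι Abar →ₐ[Abar] C) :
          MvPolynomial ι Abar →+* C)) := by
      rw [← RingHom.comap_ker]
    have h2 : RingHom.ker ((MvPolynomial.aeval P.val : MvPolynomial ι Abar →ₐ[Abar] C) :
          MvPolynomial ι Abar →+* C) =
        Ideal.map (MvPolynomial.map π : MvPolynomial ι A →+* MvPolynomial ι Abar) I := by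
      rw [Ideal.map_span, ← Set.range_comp]
      have : (fun j => (MvPolynomial.map π : MvPolynomial ι A →+* MvPolynomial ι Abar) (R j)) =
          P.relation := funext hR
      show _ = Ideal.span (Set.range (fun j =>
        (MvPolynomial.map π : MvPolynomial ι A →+* MvPolynomial ι Abar) (R j)))
      rw [this, P.span_range_relation_eq_ker, P.ker_eq_ker_aeval_val]
      rfl
    rw [h1, h2, Ideal.comap_map_of_surjective _ hmapsurj, ← RingHom.ker_eq_comap_bot,
      MvPolynomial.ker_map]
  have hker₀ : RingHom.ker π₀ = Ideal.map (algebraMap A D₀) (RingHom.ker π) := by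
    have h1 : RingHom.ker π₀ = Ideal.map (Ideal.Quotient.mk I) (RingHom.ker φ) := by
      apply le_antisymm
      · intro d hd
        obtain ⟨x, rfl⟩ := Ideal.Quotient.mk_surjective d
        apply Ideal.mem_map_of_mem
        rw [RingHom.mem_ker] at hd ⊢
        rwa [hπ₀mk] at hd
      · rw [Ideal.map_le_iff_le_comap]
        intro x hx
        rw [Ideal.mem_comap, RingHom.mem_ker, hπ₀mk]
        exact hx
    rw [h1, hkerφ, Ideal.map_sup, Ideal.map_quotient_self, bot_sup_eq, Ideal.map_map]
    rfl
  -- the jacobian
  have hjac : π₀ Q.jacobian = P.jacobian := by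
    rw [Algebra.PreSubmersivePresentation.jacobian_eq_jacobiMatrix_det,
      Algebra.PreSubmersivePresentation.jacobian_eq_jacobiMatrix_det]
    rw [P.algebraMap_apply]
    show π₀ (Ideal.Quotient.mk I Q.jacobiMatrix.det) = (MvPolynomial.aeval P.val) P.jacobiMatrix.det
    rw [hπ₀mk]
    show (MvPolynomial.aeval P.val) (MvPolynomial.map π Q.jacobiMatrix.det) = _
    congr 1
    rw [RingHom.map_det]
    congr 1
    ext i j
    rw [RingHom.mapMatrix_apply, Matrix.map_apply,
      Algebra.PreSubmersivePresentation.jacobiMatrix_naive,
      Algebra.PreSubmersivePresentation.jacobiMatrix_apply, ← MvPolynomial.pderiv_map, hR j]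
  have hunit : IsUnit (π₀ Q.jacobian) := hjac ▸ P.jacobian_isUnit
  -- localize at the jacobian
  let D : Type u := Localization.Away Q.jacobian
  have hcard : Nat.card ι = Nat.card σ := by
    have h1 : P.dimension = 0 := hdim
    have h2 : Nat.card σ ≤ Nat.card ι := Nat.card_le_card_of_injective P.map P.map_inj
    simp only [Algebra.Presentation.dimension] at h1
    omega
  have hEt : Algebra.Etale A D := etale_away_jacobian' Q hcard
  let π' : D →+* C := IsLocalization.Away.lift Q.jacobian hunit
  have hπ'alg : ∀ d : D₀, π' (algebraMap D₀ D d) = π₀ d := fun d =>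
    IsLocalization.Away.lift_eq Q.jacobian hunit d
  have hπ'surj : Function.Surjective π' := by
    intro c
    obtain ⟨d, hd⟩ := hπ₀surj c
    exact ⟨algebraMap D₀ D d, by rw [hπ'alg, hd]⟩
  have hcomm : π'.comp (algebraMap A D) = (algebraMap Abar C).comp π := by
    ext a
    have : algebraMap A D a = algebraMap D₀ D (algebraMap A D₀ a) :=
      IsScalarTower.algebraMap_apply A D₀ D a
    rw [RingHom.comp_apply, this, hπ'alg]
    exact RingHom.congr_fun hcomm₀ a
  have hker : RingHom.ker π' = Ideal.map (algebraMap A D) (RingHom.ker π) := by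
    apply le_antisymm
    · intro x hx
      obtain ⟨⟨d, s⟩, hds⟩ := IsLocalization.surj (Submonoid.powers Q.jacobian) x
      -- x * s = d
      have hd : π₀ d = 0 := by
        rw [← hπ'alg, ← hds, map_mul, (RingHom.mem_ker).mp hx, zero_mul]
      have hd' : d ∈ Ideal.map (algebraMap A D₀) (RingHom.ker π) := by
        rw [← hker₀]; exact hd
      have hdD : algebraMap D₀ D d ∈ Ideal.map (algebraMap A D) (RingHom.ker π) := by
        have h3 : Ideal.map (algebraMap D₀ D) (Ideal.map (algebraMap A D₀) (RingHom.ker π)) =
            Ideal.map (algebraMap A D) (RingHom.ker π) := by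
          rw [Ideal.map_map, ← IsScalarTower.algebraMap_eq]
        rw [← h3]
        exact Ideal.mem_map_of_mem _ hd'
      have hsu : IsUnit (algebraMap D₀ D s) := IsLocalization.map_units D s
      obtain ⟨w, hw⟩ := hsu
      have hx' : x = algebraMap D₀ D d * (↑w⁻¹ : D) := by
        rw [← hds, ← hw, mul_assoc, Units.mul_inv, mul_one]
      rw [hx']
      exact Ideal.mul_mem_right _ _ hdD
    · rw [Ideal.map_le_iff_le_comap]
      intro a ha
      rw [Ideal.mem_comap, RingHom.mem_ker]
      have := RingHom.congr_fun hcomm a
      rw [RingHom.comp_apply, RingHom.comp_apply, (RingHom.mem_ker).mp ha, map_zero] at this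
      exact this
  exact ⟨D, inferInstance, inferInstance, π', hEt, hπ'surj, hcomm, hker⟩

end Groth.Agent.Lib.Seat3.EtaleLift
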