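import Mathlib
import Groth.Prelude.Def_Smoothing
import Groth.Agent.S2025
import Groth.Agent.Lib.Seat3EtaleLift

/-!
# Lifting a factorization through a smooth algebra along a square-zero ideal (seat 10)
-/

set_option autoImplicit false
universe u

namespace Groth.Agent.Lib.Seat10.LiftOnce

open TensorProduct

section step1

variable {R Λ A : Type u} [CommRing R] [CommRing Λ] [Algebra R Λ] (I : Ideal R)
  [CommRing A] [Algebra R A] (φ : A →ₐ[R] Λ)

/-- the map `(R/I) ⊗ A → Λ/IΛ` induced by `φ`. -/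
noncomputable def phiBar : (R ⧸ I) ⊗[R] A →ₐ[R ⧸ I] (Λ ⧸ I.map (algebraMap R Λ)) :=
  Algebra.TensorProduct.lift (Algebra.ofId (R ⧸ I) (Λ ⧸ I.map (algebraMap R Λ)))
    ((Ideal.Quotient.mkₐ R (I.map (algebraMap R Λ))).comp φ) (fun _ _ => Commute.all _ _)

theorem phiBar_tmul (a : A) :
    phiBar I φ ((1 : R ⧸ I) ⊗ₜ[R] a) = Ideal.Quotient.mk (I.map (algebraMap R Λ)) (φ a) := by
  simp [phiBar]

end step1


section step2

/-- A standard smooth algebra over `R/I` lifts to a smooth `R`-algebra `D`, with a surjection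
`π' : D → B̄` whose kernel is `I D` and which is compatible with the algebra structures. -/
theorem exists_smooth_lift_of_isStandardSmooth {R : Type u} [CommRing R] (I : Ideal R)
    (Bbar : Type u) [CommRing Bbar] [Algebra (R ⧸ I) Bbar] [Algebra.IsStandardSmooth (R ⧸ I) Bbar] :
    ∃ (D : Type u) (_ : CommRing D) (_ : Algebra R D) (π' : D →+* Bbar), Algebra.Smooth R D ∧
      Function.Surjective π' ∧
      (∀ r : R, π' (algebraMap R D r) = algebraMap (R ⧸ I) Bbar (Ideal.Quotient.mk I r)) ∧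
      RingHom.ker π' = I.map (algebraMap R D) := by
  obtain ⟨ι, σ, _, _, ⟨P⟩⟩ := (inferInstance : Algebra.IsStandardSmooth (R ⧸ I) Bbar).out
  have hrel : Algebra.IsStandardSmoothOfRelativeDimension P.dimension (R ⧸ I) Bbar :=
    ⟨_, _, _, inferInstance, P, rfl⟩
  obtain ⟨g₀, hg₀⟩ :=
    Algebra.IsStandardSmoothOfRelativeDimension.exists_etale_mvPolynomial P.dimension (R ⧸ I) Bbar
  let _ : Algebra (MvPolynomial (Fin P.dimension) (R ⧸ I)) Bbar := g₀.toRingHom.toAlgebra
  have het : Algebra.Etale (MvPolynomial (Fin P.dimension) (R ⧸ I)) Bbar := hg₀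
  let π : MvPolynomial (Fin P.dimension) R →+* MvPolynomial (Fin P.dimension) (R ⧸ I) :=
    MvPolynomial.map (Ideal.Quotient.mk I)
  have hπ : Function.Surjective π := MvPolynomial.map_surjective _ Ideal.Quotient.mk_surjective
  obtain ⟨D, _, _, π', hDet, hπ', hcomp, hker⟩ :=
    Groth.Agent.Lib.Seat3.EtaleLift.exists_etale_lift (C := Bbar) π hπ
  let _ : Algebra R D :=
    ((algebraMap (MvPolynomial (Fin P.dimension) R) D).comp
      (algebraMap R (MvPolynomial (Fin P.dimension) R))).toAlgebra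
  have : IsScalarTower R (MvPolynomial (Fin P.dimension) R) D := .of_algebraMap_eq' rfl
  refine ⟨D, inferInstance, inferInstance, π', ?_, hπ', ?_, ?_⟩
  · have : Algebra.Smooth R (MvPolynomial (Fin P.dimension) R) := {}
    exact Algebra.Smooth.comp R (MvPolynomial (Fin P.dimension) R) D
  · intro r
    have h1 := congrArg (fun f => f (MvPolynomial.C r)) hcomp
    simp only [RingHom.comp_apply] at h1
    change π' (algebraMap (MvPolynomial (Fin P.dimension) R) D (MvPolynomial.C r)) = _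
    rw [h1]
    simp only [π, MvPolynomial.map_C]
    change g₀ (MvPolynomial.C _) = _
    rw [← MvPolynomial.algebraMap_eq, g₀.commutes]
  · rw [hker]
    have : RingHom.ker π = I.map (MvPolynomial.C) := by
      simp only [π]
      rw [MvPolynomial.ker_map, Ideal.mk_ker]
    rw [this, Ideal.map_map]
    rfl

end step2


section decomp

theorem exists_sum_of_mem_map {R Λ : Type*} [CommRing R] [CommRing Λ] [Algebra R Λ] (I : Ideal R)
    {ε : Λ} (hε : ε ∈ I.map (algebraMap R Λ)) :
    ∃ (N : ℕ) (c : Fin N → Λ) (ι : Fin N → R), (∀ a, ι a ∈ I) ∧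
      ε = ∑ a, algebraMap R Λ (ι a) * c a := by
  rw [Ideal.map, Ideal.span, Submodule.mem_span_set'] at hε
  obtain ⟨N, c, g, hg⟩ := hε
  choose ι hι hι' using fun a => (g a).2
  refine ⟨N, c, ι, hι, ?_⟩
  rw [← hg]
  refine Finset.sum_congr rfl fun a _ => ?_
  rw [hι' a, smul_eq_mul, mul_comm]

end decomp

section main

theorem lift_once {R Λ A : Type u} [CommRing R] [CommRing Λ] [Algebra R Λ] (I : Ideal R)
    (hI : I ^ 2 = ⊥) (h : Smoothing.IndSmooth (R ⧸ I) (Λ ⧸ I.map (algebraMap R Λ)))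
    [CommRing A] [Algebra R A] [Algebra.FinitePresentation R A] (φ : A →ₐ[R] Λ) :
    ∃ (B : Type u) (_ : CommRing B) (_ : Algebra R B), Algebra.Smooth R B ∧
      ∃ J : Ideal B, J ≤ I.map (algebraMap R B) ∧ J.FG ∧
        ∃ (g : A →ₐ[R] B ⧸ J) (k : (B ⧸ J) →ₐ[R] Λ), k.comp g = φ := by
  classical
  obtain ⟨Cbar, _, _, hCsm, gbar, hbar, hcomp⟩ :=
    h ((R ⧸ I) ⊗[R] A) inferInstance (phiBar I φ)
  obtain ⟨Bbar, _, _, _, _, hBsm, ⟨ρ⟩, hBstd⟩ :=
    Groth.Agent.S2025.result (R := R ⧸ I) (A := Cbar)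
  obtain ⟨D, _, _, π', hDsm, hπ'surj, hπ'R, hkerπ'⟩ :=
    exists_smooth_lift_of_isStandardSmooth I Bbar
  have hnil : IsNilpotent (I.map (algebraMap R Λ)) :=
    ⟨2, by rw [← Ideal.map_pow, hI, Ideal.map_bot]; rfl⟩
  -- the composite `D → B̄ → C̄ → Λ̄` as an `R`-algebra map
  let γ : D →ₐ[R] (Λ ⧸ I.map (algebraMap R Λ)) :=
    { (hbar.toRingHom.comp (ρ.toRingHom.comp π')) with
      commutes' := fun r => by
        change hbar (ρ (π' (algebraMap R D r))) = _
        rw [hπ'R, IsScalarTower.algebraMap_apply (R ⧸ I) Cbar Bbar, ρ.commutes,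
          Algebra.algebraMap_self_apply, hbar.commutes]
        rfl }
  have hγ : ∀ d, γ d = hbar (ρ (π' d)) := fun _ => rfl
  let k₀ : D →ₐ[R] Λ := Algebra.FormallySmooth.lift _ hnil γ
  have hk₀ : ∀ d, Ideal.Quotient.mk (I.map (algebraMap R Λ)) (k₀ d) = γ d :=
    Algebra.FormallySmooth.mk_lift _ hnil γ
  -- a presentation of `A`
  obtain ⟨m, f, hfsurj, hffg⟩ := Algebra.FinitePresentation.out (R := R) (A := A)
  -- the map `A → B̄`
  let Θ : A →+* Bbar := (algebraMap Cbar Bbar).comp (gbar.toRingHom.comp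
    (Algebra.TensorProduct.includeRight : A →ₐ[R] (R ⧸ I) ⊗[R] A).toRingHom)
  have hΘ : ∀ a, Θ a = algebraMap Cbar Bbar (gbar ((1 : R ⧸ I) ⊗ₜ[R] a)) := fun _ => rfl
  have hΘR : ∀ r : R, Θ (algebraMap R A r) = algebraMap (R ⧸ I) Bbar (Ideal.Quotient.mk I r) := by
    intro r
    rw [hΘ]
    have : (1 : R ⧸ I) ⊗ₜ[R] (algebraMap R A r) =
        algebraMap (R ⧸ I) ((R ⧸ I) ⊗[R] A) (Ideal.Quotient.mk I r) := by
      rw [Algebra.TensorProduct.algebraMap_apply, Algebra.algebraMap_eq_smul_one,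
        TensorProduct.tmul_smul, TensorProduct.smul_tmul', Algebra.algebraMap_self_apply]
      congr 1
      rw [Algebra.smul_def, mul_one]
      rfl
    rw [this, gbar.commutes, ← IsScalarTower.algebraMap_apply]
  choose hh hhh using fun i : Fin m => hπ'surj (Θ (f (MvPolynomial.X i)))
  have hγhh : ∀ i, γ (hh i) = Ideal.Quotient.mk (I.map (algebraMap R Λ)) (φ (f (MvPolynomial.X i))) := by
    intro i
    rw [hγ, hhh, hΘ, ρ.commutes, Algebra.algebraMap_self_apply, ← AlgHom.comp_apply, hcomp,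
      phiBar_tmul]
  have hε : ∀ i, φ (f (MvPolynomial.X i)) - k₀ (hh i) ∈ I.map (algebraMap R Λ) := by
    intro i
    rw [← Ideal.Quotient.eq, ← hγhh, hk₀]
  choose N c ι hιI hsum using fun i => exists_sum_of_mem_map I (hε i)
  -- the enlarged smooth algebra
  let σ := Σ i : Fin m, Fin (N i)
  let B := MvPolynomial σ D
  have hBsmD : Algebra.Smooth D B := {}
  have hBsmooth : Algebra.Smooth R B := Algebra.Smooth.comp R D B
  let h' : Fin m → B := fun i =>
    MvPolynomial.C (hh i) + ∑ a : Fin (N i), MvPolynomial.C (algebraMap R D (ι i a)) * MvPolynomial.X ⟨i, a⟩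
  -- the map `B → Λ`
  let k₀' : B →ₐ[R] Λ :=
    { MvPolynomial.eval₂Hom (k₀ : D →+* Λ) (fun s : σ => c s.1 s.2) with
      commutes' := fun r => by
        change MvPolynomial.eval₂Hom (k₀ : D →+* Λ) (fun s : σ => c s.1 s.2)
          (algebraMap R (MvPolynomial σ D) r) = _
        rw [IsScalarTower.algebraMap_apply R D (MvPolynomial σ D), MvPolynomial.algebraMap_eq,
          MvPolynomial.eval₂Hom_C]
        exact k₀.commutes r }
  have hk₀'C : ∀ d : D, k₀' (MvPolynomial.C d) = k₀ d := fun d =>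
    MvPolynomial.eval₂Hom_C _ _ d
  have hk₀'X : ∀ s : σ, k₀' (MvPolynomial.X s) = c s.1 s.2 := fun s =>
    MvPolynomial.eval₂Hom_X' _ _ s
  have hk₀'h' : ∀ i, k₀' (h' i) = φ (f (MvPolynomial.X i)) := by
    intro i
    simp only [h', map_add, map_sum, map_mul, hk₀'C, hk₀'X, AlgHom.commutes]
    rw [← hsum i]
    ring
  -- the evaluation maps
  let F' : MvPolynomial (Fin m) R →ₐ[R] B := MvPolynomial.aeval h'
  let F₀ : MvPolynomial (Fin m) R →ₐ[R] D := MvPolynomial.aeval hh
  let J : Ideal B := (RingHom.ker f.toRingHom).map F'.toRingHom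
  have hk₀'F' : k₀'.comp F' = φ.comp f := by
    apply MvPolynomial.algHom_ext
    intro i
    simp only [AlgHom.comp_apply, F', MvPolynomial.aeval_X, hk₀'h']
  -- `F₀` lands in `ker π' = I D` on `ker f`
  have hπ'F₀ : ∀ p : MvPolynomial (Fin m) R, π' (F₀ p) = Θ (f p) := by
    intro p
    induction p using MvPolynomial.induction_on with
    | C r =>
      rw [← MvPolynomial.algebraMap_eq, AlgHom.commutes, AlgHom.commutes, hπ'R, hΘR]
    | add p q hp hq => rw [map_add, map_add, map_add, map_add, hp, hq]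
    | mul_X p i hp =>
      rw [map_mul, map_mul, map_mul, map_mul, hp]
      congr 1
      simp only [F₀, MvPolynomial.aeval_X, hhh]
  have hF₀ker : ∀ p ∈ RingHom.ker f.toRingHom, F₀ p ∈ I.map (algebraMap R D) := by
    intro p hp
    rw [← hkerπ', RingHom.mem_ker, hπ'F₀]
    have : f p = 0 := hp
    rw [this, map_zero]
  have hIB : (I.map (algebraMap R D)).map (MvPolynomial.C : D →+* B) = I.map (algebraMap R B) := by
    rw [Ideal.map_map]
    rfl
  -- `F'` and `C ∘ F₀` agree modulo `I B`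
  have hF'F₀ : ∀ p : MvPolynomial (Fin m) R,
      F' p - MvPolynomial.C (F₀ p) ∈ I.map (algebraMap R B) := by
    intro p
    induction p using MvPolynomial.induction_on with
    | C r =>
      have : F' (MvPolynomial.C r) - MvPolynomial.C (F₀ (MvPolynomial.C r)) = 0 := by
        rw [← MvPolynomial.algebraMap_eq, AlgHom.commutes, AlgHom.commutes,
          IsScalarTower.algebraMap_apply R D B, MvPolynomial.algebraMap_eq, sub_self]
      rw [this]; exact Ideal.zero_mem _
    | add p q hp hq =>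
      have : F' (p + q) - MvPolynomial.C (F₀ (p + q)) =
          (F' p - MvPolynomial.C (F₀ p)) + (F' q - MvPolynomial.C (F₀ q)) := by
        simp only [map_add]; ring
      rw [this]; exact Ideal.add_mem _ hp hq
    | mul_X p i hp =>
      have hX : F' (MvPolynomial.X i) - MvPolynomial.C (F₀ (MvPolynomial.X i)) ∈
          I.map (algebraMap R B) := by
        simp only [F', F₀, MvPolynomial.aeval_X, h', add_sub_cancel_left]
        refine Ideal.sum_mem _ fun a _ => Ideal.mul_mem_right _ _ ?_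
        have : (MvPolynomial.C (algebraMap R D (ι i a)) : B) = algebraMap R B (ι i a) := rfl
        rw [this]
        exact Ideal.mem_map_of_mem _ (hιI i a)
      have : F' (p * MvPolynomial.X i) - MvPolynomial.C (F₀ (p * MvPolynomial.X i)) =
          (F' p - MvPolynomial.C (F₀ p)) * F' (MvPolynomial.X i) +
            MvPolynomial.C (F₀ p) * (F' (MvPolynomial.X i) - MvPolynomial.C (F₀ (MvPolynomial.X i))) := by
        simp only [map_mul]; ring
      rw [this]
      exact Ideal.add_mem _ (Ideal.mul_mem_right _ _ hp) (Ideal.mul_mem_left _ _ hX)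
  have hJle : J ≤ I.map (algebraMap R B) := by
    apply Ideal.map_le_iff_le_comap.mpr
    intro p hp
    rw [Ideal.mem_comap]
    have h1 := hF'F₀ p
    have h2 : (MvPolynomial.C (F₀ p) : B) ∈ I.map (algebraMap R B) := by
      rw [← hIB]
      exact Ideal.mem_map_of_mem _ (hF₀ker p hp)
    have : F'.toRingHom p = (F' p - MvPolynomial.C (F₀ p)) + MvPolynomial.C (F₀ p) := by
      change F' p = _
      ring
    rw [this]
    exact Ideal.add_mem _ h1 h2
  have hJfg : J.FG := Ideal.FG.map hffg _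
  -- the two maps
  have hkJ : ∀ b ∈ J, k₀' b = 0 := by
    intro b hb
    have hle : J ≤ RingHom.ker k₀'.toRingHom := by
      apply Ideal.map_le_iff_le_comap.mpr
      intro p hp
      rw [Ideal.mem_comap, RingHom.mem_ker]
      change k₀' (F' p) = 0
      rw [← AlgHom.comp_apply, hk₀'F', AlgHom.comp_apply]
      have : f p = 0 := hp
      rw [this, map_zero]
    exact hle hb
  let k : (B ⧸ J) →ₐ[R] Λ := Ideal.Quotient.liftₐ J k₀' hkJ
  let e := Ideal.quotientKerAlgEquivOfSurjective hfsurj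
  let g₁ : (MvPolynomial (Fin m) R ⧸ RingHom.ker f) →ₐ[R] B ⧸ J :=
    Ideal.Quotient.liftₐ (RingHom.ker f) ((Ideal.Quotient.mkₐ R J).comp F') (fun p hp => by
      rw [AlgHom.comp_apply, Ideal.Quotient.mkₐ_eq_mk, Ideal.Quotient.eq_zero_iff_mem]
      exact Ideal.mem_map_of_mem _ hp)
  let g : A →ₐ[R] B ⧸ J := g₁.comp e.symm.toAlgHom
  refine ⟨B, inferInstance, inferInstance, hBsmooth, J, hJle, hJfg, g, k, ?_⟩
  apply AlgHom.ext
  intro a
  obtain ⟨p, rfl⟩ := hfsurj a
  have he : e.symm (f p) = Ideal.Quotient.mk (RingHom.ker f) p := by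
    rw [AlgEquiv.symm_apply_eq]
    rfl
  change k (g₁ (e.symm (f p))) = φ (f p)
  rw [he]
  change k₀' (F' p) = φ (f p)
  rw [← AlgHom.comp_apply, hk₀'F', AlgHom.comp_apply]

end main

end Groth.Agent.Lib.Seat10.LiftOnce
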