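import Mathlib
import Groth.Prelude.Def_Smoothing
import Groth.Agent.Lib.Seat10LiftOnce

/-!
# Lifting along a square-zero ideal, second step, part A (seat 10)

`exists_smooth_approx`: if `I² = 0` and `Λ/IΛ` is ind-smooth over `R/I`, any map `φ : A → Λ` from a
finitely presented `R`-algebra is approximated modulo `I` by a smooth `R`-algebra `D`: there are a
ring `B̄`, a surjection `π' : D → B̄` with kernel `I D`, a map `Θ : A → B̄` and `β : D → Λ` with
`β d ≡ φ a` modulo `IΛ` whenever `π' d = Θ a`.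
-/

set_option autoImplicit false
universe u

namespace Groth.Agent.Lib.Seat10.LiftTwice

open TensorProduct Groth.Agent.Lib.Seat10.LiftOnce

theorem algebraMap_mul_eq_zero {R S : Type*} [CommRing R] [CommRing S] [Algebra R S] (I : Ideal R)
    (hI : I ^ 2 = ⊥) {r : R} (hr : r ∈ I) {z : S} (hz : z ∈ I.map (algebraMap R S)) :
    algebraMap R S r * z = 0 := by
  have h1 : algebraMap R S r * z ∈ I.map (algebraMap R S) * I.map (algebraMap R S) :=
    Ideal.mul_mem_mul (Ideal.mem_map_of_mem _ hr) hz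
  rw [← Ideal.map_mul, ← pow_two, hI, Ideal.map_bot] at h1
  exact h1

theorem isNilpotent_map {R S : Type*} [CommRing R] [CommRing S] [Algebra R S] (I : Ideal R)
    (hI : I ^ 2 = ⊥) : IsNilpotent (I.map (algebraMap R S)) :=
  ⟨2, by rw [← Ideal.map_pow, hI, Ideal.map_bot]; rfl⟩

theorem exists_smooth_approx {R Λ A : Type u} [CommRing R] [CommRing Λ] [Algebra R Λ] (I : Ideal R)
    (hI : I ^ 2 = ⊥) (h : Smoothing.IndSmooth (R ⧸ I) (Λ ⧸ I.map (algebraMap R Λ)))
    [CommRing A] [Algebra R A] [Algebra.FinitePresentation R A] (φ : A →ₐ[R] Λ) :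
    ∃ (D : Type u) (_ : CommRing D) (_ : Algebra R D) (Bbar : Type u) (_ : CommRing Bbar)
      (_ : Algebra R Bbar) (π' : D →ₐ[R] Bbar) (Θ : A →ₐ[R] Bbar) (β : D →ₐ[R] Λ),
      Algebra.Smooth R D ∧ Function.Surjective π' ∧
      RingHom.ker (π' : D →+* Bbar) = I.map (algebraMap R D) ∧
      ∀ (d : D) (a : A), π' d = Θ a → β d - φ a ∈ I.map (algebraMap R Λ) := by
  classical
  obtain ⟨Cbar, _, _, hCsm, gbar, hbar, hcomp⟩ :=
    h ((R ⧸ I) ⊗[R] A) inferInstance (phiBar I φ)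
  obtain ⟨Bbar, _, _, _, _, hBsm, ⟨ρ⟩, hBstd⟩ :=
    Groth.Agent.S2025.result (R := R ⧸ I) (A := Cbar)
  obtain ⟨D, _, _, π', hDsm, hπ'surj, hπ'R, hkerπ'⟩ :=
    exists_smooth_lift_of_isStandardSmooth I Bbar
  have hnil : IsNilpotent (I.map (algebraMap R Λ)) := isNilpotent_map I hI
  let algRB : Algebra R Bbar :=
    ((algebraMap (R ⧸ I) Bbar).comp (Ideal.Quotient.mk I)).toAlgebra
  have halgRB : ∀ r : R, algebraMap R Bbar r = algebraMap (R ⧸ I) Bbar (Ideal.Quotient.mk I r) :=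
    fun _ => rfl
  let π'ₐ : D →ₐ[R] Bbar := { π' with commutes' := fun r => by rw [halgRB]; exact hπ'R r }
  -- the composite `D → B̄ → C̄ → Λ̄` as an `R`-algebra map
  let γ : D →ₐ[R] (Λ ⧸ I.map (algebraMap R Λ)) :=
    { (hbar.toRingHom.comp (ρ.toRingHom.comp π')) with
      commutes' := fun r => by
        change hbar (ρ (π' (algebraMap R D r))) = _
        rw [hπ'R, IsScalarTower.algebraMap_apply (R ⧸ I) Cbar Bbar, ρ.commutes,
          Algebra.algebraMap_self_apply, hbar.commutes]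
        rfl }
  have hγ : ∀ d, γ d = hbar (ρ (π' d)) := fun _ => rfl
  let k₀ : D →ₐ[R] Λ := Algebra.FormallySmooth.lift _ hnil γ
  have hk₀ : ∀ d, Ideal.Quotient.mk (I.map (algebraMap R Λ)) (k₀ d) = γ d :=
    Algebra.FormallySmooth.mk_lift _ hnil γ
  -- the map `A → B̄`
  let Θ₀ : A →+* Bbar := (algebraMap Cbar Bbar).comp (gbar.toRingHom.comp
    (Algebra.TensorProduct.includeRight : A →ₐ[R] (R ⧸ I) ⊗[R] A).toRingHom)
  have hΘ₀ : ∀ a, Θ₀ a = algebraMap Cbar Bbar (gbar ((1 : R ⧸ I) ⊗ₜ[R] a)) := fun _ => rfl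
  have hΘR : ∀ r : R, Θ₀ (algebraMap R A r) =
      algebraMap (R ⧸ I) Bbar (Ideal.Quotient.mk I r) := by
    intro r
    rw [hΘ₀]
    have : (1 : R ⧸ I) ⊗ₜ[R] (algebraMap R A r) =
        algebraMap (R ⧸ I) ((R ⧸ I) ⊗[R] A) (Ideal.Quotient.mk I r) := by
      rw [Algebra.TensorProduct.algebraMap_apply, Algebra.algebraMap_eq_smul_one,
        TensorProduct.tmul_smul, TensorProduct.smul_tmul', Algebra.algebraMap_self_apply]
      congr 1
      rw [Algebra.smul_def, mul_one]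
      rfl
    rw [this, gbar.commutes, ← IsScalarTower.algebraMap_apply]
  let Θ : A →ₐ[R] Bbar := { Θ₀ with commutes' := fun r => by rw [halgRB]; exact hΘR r }
  refine ⟨D, inferInstance, inferInstance, Bbar, inferInstance, algRB, π'ₐ, Θ, k₀, hDsm, hπ'surj,
    hkerπ', ?_⟩
  intro d a hda
  have hda' : π' d = Θ₀ a := hda
  rw [← Ideal.Quotient.eq, hk₀, hγ, hda', hΘ₀, ρ.commutes, Algebra.algebraMap_self_apply,
    ← AlgHom.comp_apply, hcomp, phiBar_tmul]

end Groth.Agent.Lib.Seat10.LiftTwice
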