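import Mathlib
import Groth.Prelude.Def_Smoothing
import Groth.Agent.Lib.Seat10LiftTwiceA

/-!
# Lifting along a square-zero ideal, second step, part B (seat 10)

`lift_twice_single`: killing one element of `I B` which dies in `Λ`.
-/

set_option autoImplicit false
universe u

namespace Groth.Agent.Lib.Seat10.LiftTwice

open TensorProduct Groth.Agent.Lib.Seat10.LiftOnce

theorem lift_twice_single {R Λ B : Type u} [CommRing R] [CommRing Λ] [Algebra R Λ]
    [Module.Flat R Λ] (I : Ideal R) (hI : I ^ 2 = ⊥)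
    (h : Smoothing.IndSmooth (R ⧸ I) (Λ ⧸ I.map (algebraMap R Λ)))
    [CommRing B] [Algebra R B] [Algebra.Smooth R B] (φ : B →ₐ[R] Λ) (x : B)
    (hx : x ∈ I.map (algebraMap R B)) (hφx : φ x = 0) :
    ∃ (B' : Type u) (_ : CommRing B') (_ : Algebra R B'), Algebra.Smooth R B' ∧
      ∃ (α : B →ₐ[R] B') (β : B' →ₐ[R] Λ), α x = 0 ∧
        ∀ b : B, β (α b) - φ b ∈ I.map (algebraMap R Λ) := by
  classical
  obtain ⟨N, b, i, hi, hsum⟩ := exists_sum_of_mem_map I hx
  -- the relation in `Λ`
  have hrel : ∑ k, i k • φ (b k) = 0 := by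
    rw [← hφx, hsum, map_sum]
    refine Finset.sum_congr rfl fun k _ => ?_
    rw [map_mul, AlgHom.commutes, Algebra.smul_def]
  obtain ⟨K, a, y, hy, ha⟩ := Module.Flat.isTrivialRelation_of_sum_smul_eq_zero (R := R) (M := Λ)
    (f := i) (x := fun k => φ (b k)) hrel
  have hy' : ∀ k, φ (b k) = ∑ l, a k l • y l := hy
  -- the finitely presented algebra `A'`
  let Pol := MvPolynomial (Fin K) B
  let rels : Fin N → Pol := fun k =>
    MvPolynomial.C (b k) - ∑ l, MvPolynomial.C (algebraMap R B (a k l)) * MvPolynomial.X l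
  let JA : Ideal Pol := Ideal.span (Set.range rels)
  have hBfp : Algebra.FinitePresentation R B := inferInstance
  have hPolfp : Algebra.FinitePresentation R Pol := inferInstance
  have hJAfg : JA.FG := Submodule.fg_span (Set.finite_range rels)
  have hA'fp : Algebra.FinitePresentation R (Pol ⧸ JA) := Algebra.FinitePresentation.quotient hJAfg
  -- evaluation map
  let ev : Pol →ₐ[R] Λ :=
    { MvPolynomial.eval₂Hom (φ : B →+* Λ) y with
      commutes' := fun r => by
        change MvPolynomial.eval₂Hom (φ : B →+* Λ) y (algebraMap R (MvPolynomial (Fin K) B) r) = _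
        rw [IsScalarTower.algebraMap_apply R B (MvPolynomial (Fin K) B), MvPolynomial.algebraMap_eq,
          MvPolynomial.eval₂Hom_C]
        exact φ.commutes r }
  have hevC : ∀ d : B, ev (MvPolynomial.C d) = φ d := fun d => MvPolynomial.eval₂Hom_C _ _ d
  have hevX : ∀ l, ev (MvPolynomial.X l) = y l := fun l => MvPolynomial.eval₂Hom_X' _ _ l
  have hevrels : ∀ k, ev (rels k) = 0 := by
    intro k
    simp only [rels, map_sub, map_sum, map_mul, hevC, hevX, AlgHom.commutes]
    rw [hy' k, sub_eq_zero]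
    refine Finset.sum_congr rfl fun l _ => ?_
    rw [Algebra.smul_def]
  have hevJA : ∀ p ∈ JA, ev p = 0 := by
    intro p hp
    have hle : JA ≤ RingHom.ker ev.toRingHom := by
      rw [Ideal.span_le]
      rintro _ ⟨k, rfl⟩
      exact hevrels k
    exact hle hp
  let φ' : (Pol ⧸ JA) →ₐ[R] Λ := Ideal.Quotient.liftₐ JA ev hevJA
  let ι : B →ₐ[R] (Pol ⧸ JA) := (Ideal.Quotient.mkₐ R JA).comp (IsScalarTower.toAlgHom R B Pol)
  have hι : ∀ d : B, ι d = Ideal.Quotient.mk JA (MvPolynomial.C d) := fun _ => rfl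
  have hφ'ι : ∀ d : B, φ' (ι d) = φ d := by
    intro d
    rw [hι]
    change ev (MvPolynomial.C d) = φ d
    exact hevC d
  -- the smooth approximation
  obtain ⟨D, _, _, Bbar, _, _, π', Θ, β, hDsm, hπ'surj, hkerπ', happrox⟩ :=
    exists_smooth_approx I hI h φ'
  have hnilD : IsNilpotent (RingHom.ker (π' : D →+* Bbar)) := by
    rw [hkerπ']
    exact isNilpotent_map I hI
  let α : B →ₐ[R] D := Algebra.FormallySmooth.liftOfSurjective (Θ.comp ι) π' hπ'surj hnilD
  have hα : ∀ d : B, π' (α d) = Θ (ι d) := fun d =>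
    Algebra.FormallySmooth.liftOfSurjective_apply (Θ.comp ι) π' hπ'surj hnilD d
  refine ⟨D, inferInstance, inferInstance, hDsm, α, β, ?_, ?_⟩
  · -- `α x = 0`
    choose yt hyt using fun l : Fin K => hπ'surj (Θ (Ideal.Quotient.mk JA (MvPolynomial.X l)))
    have hdiff : ∀ k, α (b k) - ∑ l, algebraMap R D (a k l) * yt l ∈
        I.map (algebraMap R D) := by
      intro k
      rw [← hkerπ', RingHom.mem_ker]
      change π' (α (b k) - ∑ l, algebraMap R D (a k l) * yt l) = 0
      rw [map_sub, hα, map_sum]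
      have h1 : ∀ l, π' (algebraMap R D (a k l) * yt l) =
          Θ (Ideal.Quotient.mk JA (MvPolynomial.C (algebraMap R B (a k l)) * MvPolynomial.X l)) := by
        intro l
        rw [map_mul, hyt, AlgHom.commutes, map_mul, map_mul]
        congr 1
        have : (Ideal.Quotient.mk JA) (MvPolynomial.C ((algebraMap R B) (a k l))) =
            algebraMap R (Pol ⧸ JA) (a k l) := rfl
        rw [this, AlgHom.commutes]
      rw [Finset.sum_congr rfl fun l _ => h1 l, hι, ← map_sum, ← map_sum, ← map_sub, ← map_sub]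
      have : Ideal.Quotient.mk JA (rels k) = 0 :=
        Ideal.Quotient.eq_zero_iff_mem.mpr (Ideal.subset_span ⟨k, rfl⟩)
      change Θ (Ideal.Quotient.mk JA (rels k)) = 0
      rw [this, map_zero]
    have hx' : α x = ∑ k, algebraMap R D (i k) * α (b k) := by
      rw [hsum, map_sum]
      refine Finset.sum_congr rfl fun k _ => ?_
      rw [map_mul, AlgHom.commutes]
    rw [hx']
    have h2 : ∀ k, algebraMap R D (i k) * α (b k) =
        ∑ l, algebraMap R D (i k * a k l) * yt l := by
      intro k
      have h3 := algebraMap_mul_eq_zero I hI (hi k) (hdiff k)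
      rw [mul_sub, sub_eq_zero] at h3
      rw [h3, Finset.mul_sum]
      refine Finset.sum_congr rfl fun l _ => ?_
      rw [map_mul, mul_assoc]
    rw [Finset.sum_congr rfl fun k _ => h2 k, Finset.sum_comm]
    refine Finset.sum_eq_zero fun l _ => ?_
    rw [← Finset.sum_mul, ← map_sum, ha l, map_zero, zero_mul]
  · intro d
    have := happrox (α d) (ι d) (hα d)
    rwa [hφ'ι] at this

end Groth.Agent.Lib.Seat10.LiftTwice
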