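import Mathlib
import Groth.Prelude.Def_Smoothing
import Groth.Agent.Lib.Seat10LiftTwiceB

/-!
# Lifting along a square-zero ideal, second step, part C (seat 10)

`lift_twice`: killing a finitely generated ideal `J ⊆ I B` which dies in `Λ`.
-/

set_option autoImplicit false
universe u

namespace Groth.Agent.Lib.Seat10.LiftTwice

open TensorProduct Groth.Agent.Lib.Seat10.LiftOnce

/-- two algebra maps to `Λ` which agree modulo `IΛ` agree on `I B`. -/
theorem eq_of_sub_mem_of_mem_map {R Λ B : Type*} [CommRing R] [CommRing Λ] [Algebra R Λ]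
    (I : Ideal R) (hI : I ^ 2 = ⊥) [CommRing B] [Algebra R B] (φ ψ : B →ₐ[R] Λ)
    (hφψ : ∀ b, ψ b - φ b ∈ I.map (algebraMap R Λ)) {x : B} (hx : x ∈ I.map (algebraMap R B)) :
    ψ x = φ x := by
  obtain ⟨N, b, i, hi, hsum⟩ := exists_sum_of_mem_map I hx
  rw [hsum, map_sum, map_sum]
  refine Finset.sum_congr rfl fun k _ => ?_
  rw [map_mul, map_mul, AlgHom.commutes, AlgHom.commutes, ← sub_eq_zero, ← mul_sub]
  exact algebraMap_mul_eq_zero I hI (hi k) (hφψ (b k))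

theorem lift_twice_fin {R Λ : Type u} [CommRing R] [CommRing Λ] [Algebra R Λ]
    [Module.Flat R Λ] (I : Ideal R) (hI : I ^ 2 = ⊥)
    (h : Smoothing.IndSmooth (R ⧸ I) (Λ ⧸ I.map (algebraMap R Λ))) :
    ∀ (n : ℕ) (B : Type u) [CommRing B] [Algebra R B] [Algebra.Smooth R B] (φ : B →ₐ[R] Λ)
      (x : Fin n → B), (∀ j, x j ∈ I.map (algebraMap R B)) → (∀ j, φ (x j) = 0) →
      ∃ (B' : Type u) (_ : CommRing B') (_ : Algebra R B'), Algebra.Smooth R B' ∧
        ∃ (α : B →ₐ[R] B') (β : B' →ₐ[R] Λ), (∀ j, α (x j) = 0) ∧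
          ∀ b : B, β (α b) - φ b ∈ I.map (algebraMap R Λ) := by
  intro n
  induction n with
  | zero =>
    intro B _ _ _ φ x _ _
    refine ⟨B, inferInstance, inferInstance, inferInstance, AlgHom.id R B, φ, fun j => j.elim0, ?_⟩
    intro b
    simp
  | succ n ih =>
    intro B _ _ _ φ x hx hφx
    obtain ⟨B₁, _, _, hB₁, α₁, β₁, hα₁, hβ₁⟩ :=
      lift_twice_single I hI h φ (x 0) (hx 0) (hφx 0)
    have hmem : ∀ j : Fin n, α₁ (x j.succ) ∈ I.map (algebraMap R B₁) := by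
      intro j
      have h1 := Ideal.mem_map_of_mem (α₁ : B →+* B₁) (hx j.succ)
      rw [Ideal.map_map] at h1
      have h2 : (α₁ : B →+* B₁).comp (algebraMap R B) = algebraMap R B₁ := by
        ext r
        exact α₁.commutes r
      rw [h2] at h1
      exact h1
    have hzero : ∀ j : Fin n, β₁ (α₁ (x j.succ)) = 0 := by
      intro j
      have := eq_of_sub_mem_of_mem_map I hI φ (β₁.comp α₁) hβ₁ (hx j.succ)
      rw [AlgHom.comp_apply] at this
      rw [this, hφx]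
    obtain ⟨B₂, _, _, hB₂, α₂, β₂, hα₂, hβ₂⟩ :=
      ih B₁ β₁ (fun j => α₁ (x j.succ)) hmem hzero
    refine ⟨B₂, inferInstance, inferInstance, hB₂, α₂.comp α₁, β₂, ?_, ?_⟩
    · intro j
      refine Fin.cases ?_ (fun j' => ?_) j
      · rw [AlgHom.comp_apply, hα₁, map_zero]
      · rw [AlgHom.comp_apply]
        exact hα₂ j'
    · intro b
      have : β₂ ((α₂.comp α₁) b) - φ b = (β₂ (α₂ (α₁ b)) - β₁ (α₁ b)) + (β₁ (α₁ b) - φ b) := by
        rw [AlgHom.comp_apply]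
        ring
      rw [this]
      exact Ideal.add_mem _ (hβ₂ (α₁ b)) (hβ₁ b)

theorem lift_twice {R Λ B : Type u} [CommRing R] [CommRing Λ] [Algebra R Λ] [Module.Flat R Λ]
    (I : Ideal R) (hI : I ^ 2 = ⊥) (h : Smoothing.IndSmooth (R ⧸ I) (Λ ⧸ I.map (algebraMap R Λ)))
    [CommRing B] [Algebra R B] [Algebra.Smooth R B] (φ : B →ₐ[R] Λ) (J : Ideal B)
    (hJ : J ≤ I.map (algebraMap R B)) (hJfg : J.FG) (hφJ : ∀ x ∈ J, φ x = 0) :
    ∃ (B' : Type u) (_ : CommRing B') (_ : Algebra R B'), Algebra.Smooth R B' ∧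
      ∃ (α : B →ₐ[R] B') (β : B' →ₐ[R] Λ), (∀ x ∈ J, α x = 0) ∧
        ∀ b : B, β (α b) - φ b ∈ I.map (algebraMap R Λ) := by
  obtain ⟨n, x, hx⟩ := Submodule.fg_iff_exists_fin_generating_family.mp hJfg
  have hxJ : ∀ j, x j ∈ J := fun j => by rw [← hx]; exact Submodule.subset_span ⟨j, rfl⟩
  obtain ⟨B', _, _, hB', α, β, hα, hβ⟩ := lift_twice_fin I hI h n B φ x
    (fun j => hJ (hxJ j)) (fun j => hφJ _ (hxJ j))
  refine ⟨B', inferInstance, inferInstance, hB', α, β, ?_, hβ⟩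
  intro y hy
  have hle : J ≤ RingHom.ker α.toRingHom := by
    rw [← hx]
    change Ideal.span (Set.range x) ≤ _
    rw [Ideal.span_le]
    rintro _ ⟨j, rfl⟩
    exact hα j
  exact hle hy

end Groth.Agent.Lib.Seat10.LiftTwice
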