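import Mathlib
import Groth.Prelude.Def_Smoothing
import Groth.Agent.Lib.Seat10LiftTwiceC

/-!
# Ind-smoothness and nilpotent flat deformations, part A (seat 10)

`exists_correction`: if `I² = 0`, `B` is smooth over `R` and `α : B → B'`, `β : B' → Λ` satisfy
`β ∘ α ≡ φ` modulo `IΛ`, then after adjoining finitely many variables to `B'` one can correct `α` and
`β` so that the composite is exactly `φ`, without losing the vanishing of `α` on elements of `I B`.
-/

set_option autoImplicit false
universe u

namespace Groth.Agent.Lib.Seat10.IndSm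

open TensorProduct KaehlerDifferential Groth.Agent.Lib.Seat10.LiftOnce
  Groth.Agent.Lib.Seat10.LiftTwice

theorem mul_eq_zero_of_mem_map {R S : Type*} [CommRing R] [CommRing S] [Algebra R S] (I : Ideal R)
    (hI : I ^ 2 = ⊥) {w z : S} (hw : w ∈ I.map (algebraMap R S)) (hz : z ∈ I.map (algebraMap R S)) :
    w * z = 0 := by
  have h1 : w * z ∈ I.map (algebraMap R S) * I.map (algebraMap R S) := Ideal.mul_mem_mul hw hz
  rw [← Ideal.map_mul, ← pow_two, hI, Ideal.map_bot] at h1
  exact h1

theorem algHom_mem_map {R S T : Type*} [CommRing R] [CommRing S] [CommRing T] [Algebra R S]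
    [Algebra R T] (I : Ideal R) (f : S →ₐ[R] T) {z : S} (hz : z ∈ I.map (algebraMap R S)) :
    f z ∈ I.map (algebraMap R T) := by
  have h1 := Ideal.mem_map_of_mem (f : S →+* T) hz
  rw [Ideal.map_map] at h1
  have h2 : (f : S →+* T).comp (algebraMap R S) = algebraMap R T := by
    ext r
    exact f.commutes r
  rw [h2] at h1
  exact h1

section correction

variable {R Λ B B' : Type u} [CommRing R] [CommRing Λ] [Algebra R Λ] (I : Ideal R)
  [CommRing B] [Algebra R B] [Algebra.Smooth R B] [CommRing B'] [Algebra R B']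

theorem exists_correction (hI : I ^ 2 = ⊥) (φ : B →ₐ[R] Λ) (α : B →ₐ[R] B') (β : B' →ₐ[R] Λ)
    (hβα : ∀ b : B, β (α b) - φ b ∈ I.map (algebraMap R Λ)) :
    ∃ (σ : Type) (_ : Fintype σ) (α'' : B →ₐ[R] MvPolynomial σ B')
      (β'' : MvPolynomial σ B' →ₐ[R] Λ), β''.comp α'' = φ ∧
      ∀ x ∈ I.map (algebraMap R B), α x = 0 → α'' x = 0 := by
  classical
  -- `Λ` as a `B`-module through `φ`
  let _ : Algebra B Λ := φ.toRingHom.toAlgebra
  have hsmul : ∀ (b : B) (l : Λ), b • l = φ b * l := fun b l => rfl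
  have : IsScalarTower R B Λ := IsScalarTower.of_algebraMap_eq fun r => (φ.commutes r).symm
  -- the derivation
  let Dl : B →ₗ[R] Λ := φ.toLinearMap - (β.comp α).toLinearMap
  have hDl : ∀ b, Dl b = φ b - β (α b) := fun b => rfl
  have hDlmem : ∀ b, Dl b ∈ I.map (algebraMap R Λ) := by
    intro b
    rw [hDl, ← neg_sub]
    exact Ideal.neg_mem_iff _ |>.mpr (hβα b)
  let Der : Derivation R B Λ :=
    { toLinearMap := Dl
      map_one_eq_zero' := by
        change Dl 1 = 0
        rw [hDl, map_one, map_one, map_one, sub_self]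
      leibniz' := by
        intro b b'
        change Dl (b * b') = b • Dl b' + b' • Dl b
        rw [hsmul, hsmul, hDl, hDl, hDl, map_mul, map_mul, map_mul]
        have h0 := mul_eq_zero_of_mem_map I hI (hDlmem b) (hDlmem b')
        rw [hDl, hDl] at h0
        linear_combination (-1 : Λ) * h0 }
  let ξ : Ω[B⁄R] →ₗ[B] Λ := Der.liftKaehlerDifferential
  have hξD : ∀ b, ξ (D R B b) = φ b - β (α b) := fun b =>
    Derivation.liftKaehlerDifferential_comp_D Der b
  -- the image of `ξ` lies in `IΛ`
  have hξmem : ∀ ω : Ω[B⁄R], ξ ω ∈ I.map (algebraMap R Λ) := by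
    intro ω
    have hω : ω ∈ Submodule.span B (Set.range (D R B)) := by
      rw [KaehlerDifferential.span_range_derivation]; trivial
    induction hω using Submodule.span_induction with
    | mem x hx =>
      obtain ⟨b, rfl⟩ := hx
      rw [hξD]
      exact hDlmem b
    | zero => rw [map_zero]; exact Ideal.zero_mem _
    | add x y _ _ hx hy => rw [map_add]; exact Ideal.add_mem _ hx hy
    | smul c x _ hx =>
      rw [map_smul, hsmul]
      exact Ideal.mul_mem_left _ _ hx
  -- dual basis of `Ω`
  obtain ⟨n, p, s, -, -, hps⟩ := Module.Finite.exists_comp_eq_id_of_projective B Ω[B⁄R]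
  let ω₀ : Fin n → Ω[B⁄R] := fun i => p (Pi.single i 1)
  have hexp : ∀ ω : Ω[B⁄R], ω = ∑ i, (s ω) i • ω₀ i := by
    intro ω
    have h1 : p (s ω) = ω := by
      have := congrArg (fun f => f ω) hps
      simpa using this
    conv_lhs => rw [← h1]
    have h2 : s ω = ∑ i, (s ω) i • (Pi.single i 1 : Fin n → B) := by
      ext j
      simp [Finset.sum_apply, Pi.single_apply]
    conv_lhs => rw [h2]
    rw [map_sum]
    exact Finset.sum_congr rfl fun i _ => by rw [map_smul]
  let cc : Fin n → Λ := fun i => ξ (ω₀ i)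
  have hccmem : ∀ i, cc i ∈ I.map (algebraMap R Λ) := fun i => hξmem _
  have hξexp : ∀ ω : Ω[B⁄R], ξ ω = ∑ i, φ ((s ω) i) * cc i := by
    intro ω
    conv_lhs => rw [hexp ω]
    rw [map_sum]
    exact Finset.sum_congr rfl fun i _ => by rw [map_smul, hsmul]
  choose M lam ε hεI hcc using fun i => exists_sum_of_mem_map I (hccmem i)
  -- the enlarged algebra
  let σ := Σ i : Fin n, Fin (M i)
  let B'' := MvPolynomial σ B'
  let E : Fin n → B'' := fun i =>
    ∑ k : Fin (M i), MvPolynomial.C (algebraMap R B' (ε i k)) * MvPolynomial.X ⟨i, k⟩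
  have hCalg : ∀ r : R, (MvPolynomial.C (algebraMap R B' r) : B'') = algebraMap R B'' r :=
    fun r => rfl
  have hEmem : ∀ i, E i ∈ I.map (algebraMap R B'') := by
    intro i
    refine Ideal.sum_mem _ fun k _ => Ideal.mul_mem_right _ _ ?_
    rw [hCalg]
    exact Ideal.mem_map_of_mem _ (hεI i k)
  -- the map `β''`
  let β'' : B'' →ₐ[R] Λ :=
    { MvPolynomial.eval₂Hom (β : B' →+* Λ) (fun t : σ => lam t.1 t.2) with
      commutes' := fun r => by
        change MvPolynomial.eval₂Hom (β : B' →+* Λ) (fun t : σ => lam t.1 t.2)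
          (algebraMap R (MvPolynomial σ B') r) = _
        rw [IsScalarTower.algebraMap_apply R B' (MvPolynomial σ B'), MvPolynomial.algebraMap_eq,
          MvPolynomial.eval₂Hom_C]
        exact β.commutes r }
  have hβ''C : ∀ d : B', β'' (MvPolynomial.C d) = β d := fun d => MvPolynomial.eval₂Hom_C _ _ d
  have hβ''X : ∀ t : σ, β'' (MvPolynomial.X t) = lam t.1 t.2 := fun t =>
    MvPolynomial.eval₂Hom_X' _ _ t
  have hβ''E : ∀ i, β'' (E i) = cc i := by
    intro i
    simp only [E, map_sum, map_mul, hβ''C, hβ''X, AlgHom.commutes]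
    exact (hcc i).symm
  -- the map `α''`
  let CA : B' →ₐ[R] B'' := IsScalarTower.toAlgHom R B' B''
  have hCA : ∀ d : B', CA d = MvPolynomial.C d := fun d => rfl
  let coef : Fin n → B →ₗ[R] B := fun i =>
    ((LinearMap.proj i : (Fin n → B) →ₗ[B] B).restrictScalars R) ∘ₗ (s.restrictScalars R) ∘ₗ
      (D R B).toLinearMap
  have hcoef : ∀ i b, coef i b = (s (D R B b)) i := fun i b => rfl
  have hcoef_mul : ∀ i b b', coef i (b * b') = b * coef i b' + b' * coef i b := by
    intro i b b'
    rw [hcoef, hcoef, hcoef, Derivation.leibniz, map_add, map_smul, map_smul]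
    rfl
  have hcoef_one : ∀ i, coef i 1 = 0 := by
    intro i
    rw [hcoef, Derivation.map_one_eq_zero, map_zero]
    rfl
  let T : B →ₗ[R] B'' :=
    (CA.comp α).toLinearMap + ∑ i, (LinearMap.mulRight R (E i)) ∘ₗ (CA.comp α).toLinearMap ∘ₗ coef i
  have hT : ∀ b, T b = MvPolynomial.C (α b) + ∑ i, MvPolynomial.C (α (coef i b)) * E i := by
    intro b
    simp only [T, LinearMap.add_apply, LinearMap.sum_apply, LinearMap.comp_apply,
      LinearMap.mulRight_apply, AlgHom.toLinearMap_apply, AlgHom.comp_apply, hCA]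
  have hEE : ∀ (i j : Fin n) (u v : B''), (u * E i) * (v * E j) = 0 := by
    intro i j u v
    exact mul_eq_zero_of_mem_map I hI (Ideal.mul_mem_left _ _ (hEmem i))
      (Ideal.mul_mem_left _ _ (hEmem j))
  have hT_one : T 1 = 1 := by
    rw [hT, map_one, map_one]
    simp only [hcoef_one, map_zero, zero_mul, Finset.sum_const_zero, add_zero]
  have hT_mul : ∀ b b', T (b * b') = T b * T b' := by
    intro b b'
    rw [hT, hT, hT]
    have hcross : (∑ i, MvPolynomial.C (α (coef i b)) * E i) *
        (∑ j, MvPolynomial.C (α (coef j b')) * E j) = 0 := by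
      rw [Finset.sum_mul_sum]
      exact Finset.sum_eq_zero fun i _ => Finset.sum_eq_zero fun j _ => hEE i j _ _
    have hsum : ∑ i, MvPolynomial.C (α (coef i (b * b'))) * E i =
        MvPolynomial.C (α b) * ∑ i, MvPolynomial.C (α (coef i b')) * E i +
          MvPolynomial.C (α b') * ∑ i, MvPolynomial.C (α (coef i b)) * E i := by
      rw [Finset.mul_sum, Finset.mul_sum, ← Finset.sum_add_distrib]
      refine Finset.sum_congr rfl fun i _ => ?_
      rw [hcoef_mul, map_add, map_mul, map_mul, map_add, map_mul, map_mul]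
      ring
    rw [hsum, map_mul, map_mul]
    linear_combination (-1 : B'') * hcross
  let α'' : B →ₐ[R] B'' := AlgHom.ofLinearMap T hT_one hT_mul
  have hα'' : ∀ b, α'' b = MvPolynomial.C (α b) + ∑ i, MvPolynomial.C (α (coef i b)) * E i := hT
  refine ⟨σ, inferInstance, α'', β'', ?_, ?_⟩
  · apply AlgHom.ext
    intro b
    rw [AlgHom.comp_apply, hα'', map_add, map_sum, hβ''C]
    have h1 : ∀ i, β'' (MvPolynomial.C (α (coef i b)) * E i) = φ (coef i b) * cc i := by
      intro i
      rw [map_mul, hβ''C, hβ''E]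
      have h2 := mul_eq_zero_of_mem_map I hI (hβα (coef i b)) (hccmem i)
      rw [sub_mul, sub_eq_zero] at h2
      exact h2
    rw [Finset.sum_congr rfl fun i _ => h1 i]
    have h3 := hξexp (D R B b)
    rw [hξD] at h3
    have h4 : ∑ i, φ (coef i b) * cc i = φ b - β (α b) := h3.symm
    rw [h4]
    ring
  · intro x hx hαx
    rw [hα'', hαx, map_zero, zero_add]
    refine Finset.sum_eq_zero fun i _ => ?_
    -- `coef i x ∈ I B`
    have hcx : coef i x ∈ I.map (algebraMap R B) := by
      obtain ⟨N, b, ι, hι, hsum⟩ := exists_sum_of_mem_map I hx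
      rw [hsum, map_sum]
      refine Ideal.sum_mem _ fun k _ => ?_
      rw [← Algebra.smul_def, map_smul, Algebra.smul_def]
      exact Ideal.mul_mem_right _ _ (Ideal.mem_map_of_mem _ (hι k))
    have h1 : (MvPolynomial.C (α (coef i x)) : B'') ∈ I.map (algebraMap R B'') := by
      have := algHom_mem_map I (CA.comp α) hcx
      exact this
    exact mul_eq_zero_of_mem_map I hI h1 (hEmem i)

end correction

end Groth.Agent.Lib.Seat10.IndSm
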