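import Mathlib
import Groth.Prelude.Def_Smoothing
import Groth.Agent.Lib.Seat10IndSmA

/-!
# Ind-smoothness and nilpotent flat deformations, part B (seat 10)

`indSmooth_of_sq_zero`: the square-zero case.
-/

set_option autoImplicit false
universe u

namespace Groth.Agent.Lib.Seat10.IndSm

open TensorProduct Groth.Agent.Lib.Seat10.LiftOnce Groth.Agent.Lib.Seat10.LiftTwice

theorem indSmooth_of_sq_zero {R Λ : Type u} [CommRing R] [CommRing Λ] [Algebra R Λ] (I : Ideal R)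
    (hI : I ^ 2 = ⊥) [Module.Flat R Λ]
    (h : Smoothing.IndSmooth (R ⧸ I) (Λ ⧸ I.map (algebraMap R Λ))) :
    Smoothing.IndSmooth R Λ := by
  intro A _ _ hfp f
  have := hfp
  obtain ⟨B, _, _, hBsm, J, hJ, hJfg, g, k, hkg⟩ := lift_once I hI h f
  let φ : B →ₐ[R] Λ := k.comp (Ideal.Quotient.mkₐ R J)
  have hφ : ∀ b, φ b = k (Ideal.Quotient.mk J b) := fun b => rfl
  have hφJ : ∀ x ∈ J, φ x = 0 := by
    intro x hx
    rw [hφ, Ideal.Quotient.eq_zero_iff_mem.mpr hx, map_zero]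
  obtain ⟨B', _, _, hB'sm, α, β, hαJ, hβα⟩ := lift_twice I hI h φ J hJ hJfg hφJ
  obtain ⟨σ, _, α'', β'', hcomp, hα''⟩ := exists_correction I hI φ α β hβα
  have hα''J : ∀ x ∈ J, α'' x = 0 := fun x hx => hα'' x (hJ hx) (hαJ x hx)
  let αbar : (B ⧸ J) →ₐ[R] MvPolynomial σ B' := Ideal.Quotient.liftₐ J α'' hα''J
  have hB''sm : Algebra.Smooth R (MvPolynomial σ B') := by
    have : Algebra.Smooth B' (MvPolynomial σ B') := {}
    exact Algebra.Smooth.comp R B' (MvPolynomial σ B')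
  refine ⟨MvPolynomial σ B', inferInstance, inferInstance, hB''sm, αbar.comp g, β'', ?_⟩
  apply AlgHom.ext
  intro a
  rw [AlgHom.comp_apply, AlgHom.comp_apply, ← hkg, AlgHom.comp_apply]
  obtain ⟨b, hb⟩ := Ideal.Quotient.mk_surjective (g a)
  rw [← hb]
  change β'' (α'' b) = k (Ideal.Quotient.mk J b)
  rw [← hφ, ← hcomp, AlgHom.comp_apply]

end Groth.Agent.Lib.Seat10.IndSm
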