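import Mathlib
import Groth.Prelude.Def_Smoothing
import Groth.Agent.Lib.Seat10IndSmB

/-!
# Ind-smoothness and nilpotent flat deformations, part C (seat 10)

`indSmooth_of_ringEquiv`: transport of ind-smoothness along compatible ring isomorphisms.
-/

set_option autoImplicit false
universe u

namespace Groth.Agent.Lib.Seat10.IndSm

theorem indSmooth_of_ringEquiv {R R' Λ Λ' : Type u} [CommRing R] [CommRing R'] [CommRing Λ]
    [CommRing Λ'] [Algebra R Λ] [Algebra R' Λ'] (e : R ≃+* R') (E : Λ ≃+* Λ')
    (hE : ∀ r, E (algebraMap R Λ r) = algebraMap R' Λ' (e r)) (h : Smoothing.IndSmooth R Λ) :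
    Smoothing.IndSmooth R' Λ' := by
  intro A' _ _ hfp f'
  let algRA : Algebra R A' := ((algebraMap R' A').comp (e : R →+* R')).toAlgebra
  have halgRA : ∀ r : R, algebraMap R A' r = algebraMap R' A' (e r) := fun _ => rfl
  have hfpR : Algebra.FinitePresentation R A' := by
    have h1 : (algebraMap R' A').FinitePresentation :=
      RingHom.finitePresentation_algebraMap.mpr hfp
    have h2 : (e : R →+* R').FinitePresentation := .of_bijective e.bijective
    exact h1.comp h2
  let f : A' →ₐ[R] Λ :=
    { (E.symm : Λ' →+* Λ).comp (f' : A' →+* Λ') with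
      commutes' := fun r => by
        change E.symm (f' (algebraMap R A' r)) = _
        rw [halgRA, f'.commutes, ← hE, E.symm_apply_apply] }
  have hf : ∀ a, f a = E.symm (f' a) := fun _ => rfl
  obtain ⟨B, _, _, hBsm, g, k, hkg⟩ := h A' hfpR f
  let algR'B : Algebra R' B := ((algebraMap R B).comp (e.symm : R' →+* R)).toAlgebra
  have halgR'B : ∀ r' : R', algebraMap R' B r' = algebraMap R B (e.symm r') := fun _ => rfl
  have hBsm' : Algebra.Smooth R' B := by
    have h1 : (algebraMap R B).Smooth := RingHom.smooth_algebraMap.mpr hBsm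
    have h2 : (e.symm : R' →+* R).Smooth := .of_bijective e.symm.bijective
    exact RingHom.Smooth.comp h2 h1
  let g' : A' →ₐ[R'] B :=
    { (g : A' →+* B) with
      commutes' := fun r' => by
        change g (algebraMap R' A' r') = _
        have h1 := g.commutes (e.symm r')
        rw [halgRA, e.apply_symm_apply] at h1
        rw [h1, halgR'B] }
  let k' : B →ₐ[R'] Λ' :=
    { (E : Λ →+* Λ').comp (k : B →+* Λ) with
      commutes' := fun r' => by
        change E (k (algebraMap R' B r')) = _
        rw [halgR'B, k.commutes, hE, e.apply_symm_apply] }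
  refine ⟨B, inferInstance, algR'B, hBsm', g', k', ?_⟩
  apply AlgHom.ext
  intro a
  change E (k (g a)) = f' a
  rw [← AlgHom.comp_apply, hkg, hf, E.apply_symm_apply]

end Groth.Agent.Lib.Seat10.IndSm
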