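import Mathlib
import Groth.Prelude.Def_Smoothing
import Groth.Agent.Lib.Seat10IndSmC

/-!
# Ind-smoothness and nilpotent flat deformations, part D (seat 10)

`indSmooth_of_nilpotent`: the nilpotent case by induction on the order of nilpotency.
-/

set_option autoImplicit false
universe u

namespace Groth.Agent.Lib.Seat10.IndSm

open TensorProduct

theorem flat_quotient {R Λ : Type u} [CommRing R] [CommRing Λ] [Algebra R Λ] [Module.Flat R Λ]
    (K : Ideal R) : Module.Flat (R ⧸ K) (Λ ⧸ K.map (algebraMap R Λ)) :=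
  Module.Flat.of_linearEquiv
    (Algebra.TensorProduct.quotIdealMapEquivQuotTensor Λ K).toLinearEquiv

theorem indSmooth_of_eq_bot {R Λ : Type u} [CommRing R] [CommRing Λ] [Algebra R Λ] (I : Ideal R)
    (hI : I = ⊥) (h : Smoothing.IndSmooth (R ⧸ I) (Λ ⧸ I.map (algebraMap R Λ))) :
    Smoothing.IndSmooth R Λ := by
  subst hI
  have hmap : (⊥ : Ideal R).map (algebraMap R Λ) = ⊥ := Ideal.map_bot
  let e : R ⧸ (⊥ : Ideal R) ≃+* R := RingEquiv.quotientBot R
  let E : (Λ ⧸ (⊥ : Ideal R).map (algebraMap R Λ)) ≃+* Λ :=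
    (Ideal.quotEquivOfEq hmap).trans (RingEquiv.quotientBot Λ)
  refine indSmooth_of_ringEquiv e E ?_ h
  intro r
  obtain ⟨r, rfl⟩ := Ideal.Quotient.mk_surjective r
  rfl

theorem indSmooth_of_nilpotent : ∀ (n : ℕ) (R Λ : Type u) [CommRing R] [CommRing Λ] [Algebra R Λ]
    [Module.Flat R Λ] (I : Ideal R), I ^ n = ⊥ →
    Smoothing.IndSmooth (R ⧸ I) (Λ ⧸ I.map (algebraMap R Λ)) → Smoothing.IndSmooth R Λ := by
  intro n
  induction n with
  | zero =>
    intro R Λ _ _ _ _ I hI h
    refine indSmooth_of_eq_bot I ?_ h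
    rw [pow_zero, Ideal.one_eq_top] at hI
    exact le_bot_iff.mp (hI ▸ le_top)
  | succ n ih =>
    intro R Λ _ _ _ _ I hI h
    rcases Nat.eq_zero_or_pos n with hn | hn
    · subst hn
      rw [zero_add, pow_one] at hI
      exact indSmooth_of_eq_bot I hI h
    · -- `K = I ^ n` has square zero
      let K : Ideal R := I ^ n
      have hK2 : K ^ 2 = ⊥ := by
        rw [← le_bot_iff, ← hI]
        change (I ^ n) ^ 2 ≤ I ^ (n + 1)
        rw [← pow_mul]
        exact Ideal.pow_le_pow_right (by omega)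
      have hKI : K ≤ I := Ideal.pow_le_self (by omega)
      refine indSmooth_of_sq_zero K hK2 ?_
      -- apply the induction hypothesis to `R ⧸ K`
      have hflat : Module.Flat (R ⧸ K) (Λ ⧸ K.map (algebraMap R Λ)) := flat_quotient K
      let Ibar : Ideal (R ⧸ K) := I.map (Ideal.Quotient.mk K)
      have hIbar : Ibar ^ n = ⊥ := by
        change (I.map (Ideal.Quotient.mk K)) ^ n = ⊥
        rw [← Ideal.map_pow]
        exact Ideal.map_quotient_self K
      refine ih (R ⧸ K) (Λ ⧸ K.map (algebraMap R Λ)) Ibar hIbar ?_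
      -- transport
      have hKΛ : K.map (algebraMap R Λ) ≤ I.map (algebraMap R Λ) := Ideal.map_mono hKI
      let e : (R ⧸ I) ≃+* ((R ⧸ K) ⧸ Ibar) := (DoubleQuot.quotQuotEquivQuotOfLE hKI).symm
      have heq : (I.map (algebraMap R Λ)).map (Ideal.Quotient.mk (K.map (algebraMap R Λ))) =
          Ibar.map (algebraMap (R ⧸ K) (Λ ⧸ K.map (algebraMap R Λ))) := by
        change _ = (I.map (Ideal.Quotient.mk K)).map _
        rw [Ideal.map_map, Ideal.map_map]
        congr 1
      let E : (Λ ⧸ I.map (algebraMap R Λ)) ≃+*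
          ((Λ ⧸ K.map (algebraMap R Λ)) ⧸
            Ibar.map (algebraMap (R ⧸ K) (Λ ⧸ K.map (algebraMap R Λ)))) :=
        (DoubleQuot.quotQuotEquivQuotOfLE hKΛ).symm.trans (Ideal.quotEquivOfEq heq)
      refine indSmooth_of_ringEquiv e E ?_ h
      intro r
      obtain ⟨r, rfl⟩ := Ideal.Quotient.mk_surjective r
      rfl

end Groth.Agent.Lib.Seat10.IndSm
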