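import Mathlib

/-!
# Higher ramification filtration: elementary lemmas (Seat 10)

`B` is a commutative ring with an action of a group `G` by ring automorphisms and `m` an ideal of
`B`.  For `σ` stabilizing `m` and acting trivially on `B / m^(i+1)` with `i ≥ 1` we prove
`σ^n x - x ≡ n (σ x - x)` modulo `m^(i+2)`, and deduce that an element of finite order prime to
the residue characteristic acting trivially modulo `m^2` acts trivially modulo all powers of `m`.
-/

set_option autoImplicit false

namespace Groth.Agent.Lib.Seat10.Inertia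

open Pointwise

variable {B : Type*} [CommRing B] {G : Type*} [Group G] [MulSemiringAction G B] (m : Ideal B)

theorem smul_mem_pow {σ : G} (hσ : σ • m = m) {k : ℕ} {y : B} (hy : y ∈ m ^ k) :
    σ • y ∈ m ^ k := by
  have h1 : σ • y ∈ σ • (m ^ k) := Ideal.smul_mem_pointwise_smul σ y (m ^ k) hy
  rwa [smul_pow', hσ] at h1

/-- If `σ` acts trivially modulo `m^(i+1)` then it moves elements of `m^j` by `m^(i+j)`. -/
theorem smul_sub_mem_pow_add {σ : G} (hσ : σ • m = m) {i : ℕ}
    (h : ∀ x : B, σ • x - x ∈ m ^ (i + 1)) :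
    ∀ (j : ℕ) (y : B), y ∈ m ^ j → σ • y - y ∈ m ^ (i + j) := by
  intro j
  induction j with
  | zero =>
    intro y _
    exact Ideal.pow_le_pow_right (Nat.le_succ i) (h y)
  | succ j ih =>
    intro y hy
    rw [pow_succ] at hy
    refine Submodule.mul_induction_on hy ?_ ?_
    · intro z hz a ha
      have h1 : σ • (z * a) - z * a = (σ • z - z) * (σ • a) + z * (σ • a - a) := by
        rw [smul_mul']; ring
      rw [h1]
      have ha' : σ • a ∈ m := by
        have := smul_mem_pow m hσ (k := 1) (by simpa using ha)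
        simpa using this
      have h2 : (σ • z - z) * (σ • a) ∈ m ^ (i + (j + 1)) := by
        have : (σ • z - z) * (σ • a) ∈ m ^ (i + j) * m := Ideal.mul_mem_mul (ih z hz) ha'
        rwa [← pow_succ, add_assoc] at this
      have h3 : z * (σ • a - a) ∈ m ^ (i + (j + 1)) := by
        have : z * (σ • a - a) ∈ m ^ j * m ^ (i + 1) := Ideal.mul_mem_mul hz (h a)
        rw [← pow_add] at this
        have he : j + (i + 1) = i + (j + 1) := by ring
        rwa [he] at this
      exact Ideal.add_mem _ h2 h3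
    · intro x y hx hy
      have : σ • (x + y) - (x + y) = (σ • x - x) + (σ • y - y) := by
        rw [smul_add]; ring
      rw [this]
      exact Ideal.add_mem _ hx hy

/-- `σ^n x - x ≡ n (σ x - x)` modulo `m^(i+2)` when `σ` is trivial modulo `m^(i+1)`, `i ≥ 1`. -/
theorem pow_smul_sub_sub_nsmul_mem {σ : G} (hσ : σ • m = m) {i : ℕ} (hi : 1 ≤ i)
    (h : ∀ x : B, σ • x - x ∈ m ^ (i + 1)) (n : ℕ) (x : B) :
    σ ^ n • x - x - n • (σ • x - x) ∈ m ^ (i + 2) := by
  induction n with
  | zero => simp
  | succ n ih =>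
    set y := σ ^ n • x - x with hy
    have hy1 : y ∈ m ^ (i + 1) := by
      have h1 : n • (σ • x - x) ∈ m ^ (i + 1) := by
        rw [nsmul_eq_mul]
        exact Ideal.mul_mem_left _ _ (h x)
      have h2 : y - n • (σ • x - x) ∈ m ^ (i + 1) :=
        Ideal.pow_le_pow_right (by omega) ih
      have : y = (y - n • (σ • x - x)) + n • (σ • x - x) := by ring
      rw [this]
      exact Ideal.add_mem _ h2 h1
    have h3 : σ • y - y ∈ m ^ (i + 2) := by
      have := smul_sub_mem_pow_add m hσ h (i + 1) y hy1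
      exact Ideal.pow_le_pow_right (by omega) this
    have h4 : σ ^ (n + 1) • x - x - (n + 1) • (σ • x - x) =
        (σ • y - y) + (y - n • (σ • x - x)) := by
      have h5 : σ ^ (n + 1) • x = σ • (σ ^ n • x) := by rw [pow_succ', mul_smul]
      have h6 : σ ^ n • x = x + y := by rw [hy]; ring
      rw [h5, h6, smul_add, succ_nsmul]
      ring
    rw [h4]
    exact Ideal.add_mem _ h3 ih

/-- Descending one step in the filtration along a power prime to the residue characteristic. -/
theorem smul_sub_mem_of_pow {σ : G} (hσ : σ • m = m) {i : ℕ} (hi : 1 ≤ i)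
    (h : ∀ x : B, σ • x - x ∈ m ^ (i + 1)) (n : ℕ) (c : B) (hc : c * (n : B) - 1 ∈ m)
    (hn : ∀ x : B, σ ^ n • x - x ∈ m ^ (i + 2)) (x : B) : σ • x - x ∈ m ^ (i + 2) := by
  have h1 := pow_smul_sub_sub_nsmul_mem m hσ hi h n x
  have h2 : (n : B) * (σ • x - x) ∈ m ^ (i + 2) := by
    have : (n : B) * (σ • x - x) = (σ ^ n • x - x) - (σ ^ n • x - x - n • (σ • x - x)) := by
      rw [nsmul_eq_mul]; ring
    rw [this]
    exact Ideal.sub_mem _ (hn x) h1
  have h3 : (c * (n : B) - 1) * (σ • x - x) ∈ m ^ (i + 2) := by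
    have : (c * (n : B) - 1) * (σ • x - x) ∈ m * m ^ (i + 1) := Ideal.mul_mem_mul hc (h x)
    rwa [← pow_succ'] at this
  have h4 : σ • x - x = c * ((n : B) * (σ • x - x)) - (c * (n : B) - 1) * (σ • x - x) := by ring
  rw [h4]
  exact Ideal.sub_mem _ (Ideal.mul_mem_left _ _ h2) h3

/-- An element of finite order `n`, with `n` invertible modulo `m`, which acts trivially modulo
`m^2` acts trivially modulo every power of `m`. -/
theorem smul_sub_mem_pow_of_pow_eq_one {σ : G} (hσ : σ • m = m)
    (h : ∀ x : B, σ • x - x ∈ m ^ 2) (n : ℕ) (hn : σ ^ n = 1) (c : B)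
    (hc : c * (n : B) - 1 ∈ m) : ∀ (k : ℕ) (x : B), σ • x - x ∈ m ^ (k + 2) := by
  intro k
  induction k with
  | zero => simpa using h
  | succ k ih =>
    intro x
    have := smul_sub_mem_of_pow m hσ (i := k + 1) (by omega) ih n c hc
      (fun x => by rw [hn, one_smul, sub_self]; exact Ideal.zero_mem _) x
    exact this

/-- ... hence acts trivially if the powers of `m` intersect trivially. -/
theorem smul_eq_of_pow_eq_one {σ : G} (hσ : σ • m = m) (hm : ⨅ k : ℕ, m ^ k = ⊥)
    (h : ∀ x : B, σ • x - x ∈ m ^ 2) (n : ℕ) (hn : σ ^ n = 1) (c : B)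
    (hc : c * (n : B) - 1 ∈ m) (x : B) : σ • x = x := by
  have h1 : σ • x - x ∈ ⨅ k : ℕ, m ^ k := by
    rw [Ideal.mem_iInf]
    intro k
    have := smul_sub_mem_pow_of_pow_eq_one m hσ h n hn c hc k x
    exact Ideal.pow_le_pow_right (by omega) this
  rw [hm, Ideal.mem_bot, sub_eq_zero] at h1
  exact h1

end Groth.Agent.Lib.Seat10.Inertia
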