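import Groth.Agent.Lib.Seat10InertiaA

/-!
# The tame character of the inertia group (Seat 10)

`B` a commutative ring, `m` a maximal ideal, `π ∈ m ∖ m²` with `m = (π) + m²`, and a group `G`
acting on `B`.  The inertia group `I = m.inertia G` acts on `m/m²` through a character
`θ : I → (B/m)ˣ`; if `B/m` is separable over `A/(m ∩ A)` (in the concrete polynomial form `hsep`)
the kernel of `θ` is the set of elements acting trivially on `B/m²`.
-/

set_option autoImplicit false

namespace Groth.Agent.Lib.Seat10.Inertia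

open Pointwise Polynomial

variable {B : Type*} [CommRing B] {G : Type*} [Group G] [MulSemiringAction G B] (m : Ideal B)

theorem mem_of_mul_mem_sq [m.IsMaximal] {a π : B} (hπ : π ∈ m) (hπ2 : π ∉ m ^ 2)
    (h : a * π ∈ m ^ 2) : a ∈ m := by
  by_contra ha
  obtain ⟨r, s, hs, hrs⟩ := Ideal.IsMaximal.exists_inv (inferInstance : m.IsMaximal) ha
  apply hπ2
  have h1 : π = r * (a * π) + s * π := by linear_combination (-π) * hrs
  rw [h1]
  refine Ideal.add_mem _ (Ideal.mul_mem_left _ _ h) ?_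
  rw [pow_two]
  exact Ideal.mul_mem_mul hs hπ

theorem mem_sq_of_mul_mem_sq [m.IsMaximal] {u y : B} (hu : u ∉ m) (hy : y ∈ m)
    (h : u * y ∈ m ^ 2) : y ∈ m ^ 2 := by
  obtain ⟨r, s, hs, hrs⟩ := Ideal.IsMaximal.exists_inv (inferInstance : m.IsMaximal) hu
  have h1 : y = r * (u * y) + s * y := by linear_combination (-y) * hrs
  rw [h1]
  refine Ideal.add_mem _ (Ideal.mul_mem_left _ _ h) ?_
  rw [pow_two]
  exact Ideal.mul_mem_mul hs hy

theorem smul_eq_of_mem_inertia {σ : G} (hσ : σ ∈ m.inertia G) : σ • m = m :=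
  MulAction.mem_stabilizer_iff.mp (Ideal.inertia_le_stabilizer m hσ)

theorem smul_mem_of_mem_inertia {σ : G} (hσ : σ ∈ m.inertia G) {x : B} (hx : x ∈ m) :
    σ • x ∈ m := by
  have := hσ x
  have h2 : σ • x = (σ • x - x) + x := by ring
  rw [h2]
  exact Ideal.add_mem _ this hx

section theta

variable {m} {π : B} (hπ : π ∈ m) (hspan : ∀ x ∈ m, ∃ b : B, x - b * π ∈ m ^ 2)

include hπ hspan in
theorem exists_theta (σ : m.inertia G) : ∃ b : B, (σ : G) • π - b * π ∈ m ^ 2 :=
  hspan _ (smul_mem_of_mem_inertia m σ.2 hπ)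

/-- the tame character, as a function to `B ⧸ m` -/
noncomputable def theta (σ : m.inertia G) : B ⧸ m :=
  Ideal.Quotient.mk m (Classical.choose (exists_theta hπ hspan σ))

variable [m.IsMaximal] (hπ2 : π ∉ m ^ 2)

include hπ2 in
theorem theta_spec (σ : m.inertia G) {b : B} (hb : (σ : G) • π - b * π ∈ m ^ 2) :
    theta hπ hspan σ = Ideal.Quotient.mk m b := by
  unfold theta
  rw [Ideal.Quotient.eq]
  have h1 := Classical.choose_spec (exists_theta hπ hspan σ)
  apply mem_of_mul_mem_sq m hπ hπ2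
  have : (Classical.choose (exists_theta hπ hspan σ) - b) * π =
      ((σ : G) • π - b * π) - ((σ : G) • π - Classical.choose (exists_theta hπ hspan σ) * π) := by
    ring
  rw [this]
  exact Ideal.sub_mem _ hb h1

include hπ2 in
theorem theta_one : theta hπ hspan (1 : m.inertia G) = 1 := by
  rw [theta_spec hπ hspan hπ2 1 (b := 1)]
  · rfl
  · simp

include hπ2 in
theorem theta_mul (σ τ : m.inertia G) :
    theta hπ hspan (σ * τ) = theta hπ hspan σ * theta hπ hspan τ := by
  obtain ⟨bσ, hbσ⟩ := exists_theta hπ hspan σ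
  obtain ⟨bτ, hbτ⟩ := exists_theta hπ hspan τ
  rw [theta_spec hπ hspan hπ2 σ hbσ, theta_spec hπ hspan hπ2 τ hbτ, ← map_mul]
  apply theta_spec hπ hspan hπ2
  -- `στ π - bσ bτ π ∈ m²`
  have hσm := smul_eq_of_mem_inertia m σ.2
  have h1 : (σ : G) • ((τ : G) • π - bτ * π) ∈ m ^ 2 := smul_mem_pow m hσm hbτ
  have h2 : (σ : G) • bτ - bτ ∈ m := σ.2 bτ
  have h3 : ((σ * τ : m.inertia G) : G) • π - bσ * bτ * π =
      (σ : G) • ((τ : G) • π - bτ * π) + ((σ : G) • bτ - bτ) * ((σ : G) • π) +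
        bτ * ((σ : G) • π - bσ * π) := by
    rw [Subgroup.coe_mul, mul_smul, smul_sub, smul_mul']
    ring
  rw [h3]
  refine Ideal.add_mem _ (Ideal.add_mem _ h1 ?_) (Ideal.mul_mem_left _ _ hbσ)
  rw [pow_two]
  exact Ideal.mul_mem_mul h2 (smul_mem_of_mem_inertia m σ.2 hπ)

/-- the tame character as a monoid homomorphism to the units of the residue field -/
noncomputable def thetaHom : m.inertia G →* (B ⧸ m)ˣ :=
  MonoidHom.toHomUnits
    { toFun := theta hπ hspan
      map_one' := theta_one hπ hspan hπ2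
      map_mul' := theta_mul hπ hspan hπ2 }

theorem coe_thetaHom (σ : m.inertia G) :
    ((thetaHom hπ hspan hπ2 σ : (B ⧸ m)ˣ) : B ⧸ m) = theta hπ hspan σ := rfl

include hπ2 in
theorem theta_eq_one_iff (σ : m.inertia G) :
    theta hπ hspan σ = 1 ↔ (σ : G) • π - π ∈ m ^ 2 := by
  constructor
  · intro h
    obtain ⟨b, hb⟩ := exists_theta hπ hspan σ
    rw [theta_spec hπ hspan hπ2 σ hb, ← map_one (Ideal.Quotient.mk m), Ideal.Quotient.eq] at h
    have : (σ : G) • π - π = ((σ : G) • π - b * π) + (b - 1) * π := by ring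
    rw [this]
    refine Ideal.add_mem _ hb ?_
    rw [pow_two]
    exact Ideal.mul_mem_mul h hπ
  · intro h
    rw [theta_spec hπ hspan hπ2 σ (b := 1) (by simpa using h)]
    rfl

omit [m.IsMaximal] in
include hπ hspan in
/-- if `σ ∈ I` fixes `π` modulo `m²` then it acts trivially on `m/m²` -/
theorem smul_sub_mem_sq_of_mem (σ : m.inertia G) (h : (σ : G) • π - π ∈ m ^ 2) {x : B}
    (hx : x ∈ m) : (σ : G) • x - x ∈ m ^ 2 := by
  obtain ⟨b, hb⟩ := hspan x hx
  have hσm := smul_eq_of_mem_inertia m σ.2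
  have h1 : (σ : G) • (x - b * π) ∈ m ^ 2 := smul_mem_pow m hσm hb
  have h2 : (σ : G) • x - x = (σ : G) • (x - b * π) - (x - b * π) +
      ((σ : G) • b - b) * ((σ : G) • π) + b * ((σ : G) • π - π) := by
    rw [smul_sub, smul_mul']
    ring
  rw [h2]
  refine Ideal.add_mem _ (Ideal.add_mem _ (Ideal.sub_mem _ h1 hb) ?_) (Ideal.mul_mem_left _ _ h)
  rw [pow_two]
  exact Ideal.mul_mem_mul (σ.2 b) (smul_mem_of_mem_inertia m σ.2 hπ)

end theta

section kernel

variable {A : Type*} [CommRing A] [Algebra A B] [SMulCommClass G A B]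

theorem smul_aeval (σ : G) (f : A[X]) (x : B) : σ • (aeval x f) = aeval (σ • x) f :=
  (aeval_algHom_apply (MulSemiringAction.toAlgHom A B σ) x f).symm

variable {m} [m.IsMaximal]

/-- If `σ ∈ I` acts trivially on `m/m²` and `B/m` is separable over the image of `A`, then `σ`
acts trivially on `B/m²`. -/
theorem mem_inertia_sq_of_sep
    (hsep : ∀ x : B, ∃ f : A[X], aeval x f ∈ m ∧ aeval x (derivative f) ∉ m)
    {σ : G} (hσ : σ ∈ m.inertia G) (hm : ∀ x ∈ m, σ • x - x ∈ m ^ 2) :
    σ ∈ (m ^ 2).inertia G := by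
  intro x
  obtain ⟨f, hf, hf'⟩ := hsep x
  set h := σ • x - x with hh
  have hhm : h ∈ m := hσ x
  obtain ⟨k, hk⟩ := (f.map (algebraMap A B)).binomExpansion x h
  simp only [eval_map_algebraMap, derivative_map] at hk
  have h1 : σ • (aeval x f) - aeval x f ∈ m ^ 2 := hm _ hf
  rw [smul_aeval] at h1
  have h2 : σ • x = x + h := by rw [hh]; ring
  rw [h2, hk] at h1
  have h3 : aeval x (derivative f) * h ∈ m ^ 2 := by
    have : aeval x (derivative f) * h =
        (aeval x f + aeval x (derivative f) * h + k * h ^ 2 - aeval x f) - k * h ^ 2 := by ring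
    rw [this]
    refine Ideal.sub_mem _ h1 (Ideal.mul_mem_left _ _ ?_)
    exact Ideal.pow_mem_pow hhm 2
  exact mem_sq_of_mul_mem_sq m hf' hhm h3

end kernel

end Groth.Agent.Lib.Seat10.Inertia
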