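import Mathlib

/-!
# The order of the inertia group when the residue field extension is separable (Seat 10)

Mathlib proves `Ideal.card_inertia_eq_ramificationIdxIn` under `PerfectField`; here the same
for maximal ideals with separable residue field extension.
-/

set_option autoImplicit false

namespace Groth.Agent.Lib.Seat10.Inertia

open Pointwise Ideal

variable {R S G : Type*} [CommRing R] [CommRing S] [Algebra R S] [Group G]
  [MulSemiringAction G S] [IsGaloisGroup G R S] [Finite G]

attribute [local instance] Ideal.Quotient.field in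
theorem card_stabilizer_eq_card_inertia_mul_inertiaDeg_of_isSeparable (p : Ideal R) [p.IsMaximal]
    (P : Ideal S) [P.IsMaximal] [P.LiesOver p] [Algebra.IsSeparable (R ⧸ p) (S ⧸ P)] :
    Nat.card (MulAction.stabilizer G P) = Nat.card (P.inertia G) * P.inertiaDeg R := by
  have hn : Normal (R ⧸ p) (S ⧸ P) := Ideal.Quotient.normal G p P
  have : IsGalois (R ⧸ p) (S ⧸ P) := { }
  have : Module.Finite (R ⧸ p) (S ⧸ P) := Ideal.Quotient.finite_of_isInvariant G p P
  have h1 : Subgroup.index (P.inertia (MulAction.stabilizer G P)) =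
      Nat.card Gal((S ⧸ P)/(R ⧸ p)) :=
    Nat.card_congr (Ideal.Quotient.stabilizerQuotientInertiaEquiv G p P).toEquiv
  rw [Ideal.inertiaDeg_eq_of_isMaximal p P, ← IsGalois.card_aut_eq_finrank, ← h1,
    ← ((P.inertia G).subgroupOf (MulAction.stabilizer G P)).card_mul_index,
    Nat.card_congr (Subgroup.subgroupOfEquivOfLe (Ideal.inertia_le_stabilizer (M := G) P)).toEquiv,
    AddSubgroup.subgroupOf_inertia]

theorem ncard_primesOver_mul_card_inertia_mul_inertiaDeg_of_isSeparable (p : Ideal R)
    [p.IsMaximal] (P : Ideal S) [P.IsMaximal] [P.LiesOver p]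
    [Algebra.IsSeparable (R ⧸ p) (S ⧸ P)] :
    (p.primesOver S).ncard * Nat.card (P.inertia G) * P.inertiaDeg R = Nat.card G := by
  rw [mul_assoc, ← card_stabilizer_eq_card_inertia_mul_inertiaDeg_of_isSeparable p P,
    ← Algebra.IsInvariant.orbit_eq_primesOver R S G p P]
  simpa using Nat.card_congr (MulAction.orbitProdStabilizerEquivGroup G P)

/-- The cardinality of the inertia group is equal to the ramification index. -/
theorem card_inertia_eq_ramificationIdxIn_of_isSeparable [IsDomain R] [IsDomain S]
    [Module.Finite R S] [Module.Flat R S]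
    (p : Ideal R) [p.IsMaximal] (P : Ideal S) [P.IsMaximal] [P.LiesOver p]
    [Algebra.IsSeparable (R ⧸ p) (S ⧸ P)] :
    Nat.card (P.inertia G) = Ideal.ramificationIdxIn p S := by
  have H := ncard_primesOver_mul_card_inertia_mul_inertiaDeg_of_isSeparable (G := G) p P
  rw [← Ideal.inertiaDegIn_eq_inertiaDeg p P G] at H
  have h1 : (p.primesOver S).ncard ≠ 0 := by
    intro h0
    rw [h0, zero_mul, zero_mul] at H
    exact (Nat.card_pos (α := G)).ne' H.symm
  have h2 : p.inertiaDegIn S ≠ 0 := by
    intro h0
    rw [h0, mul_zero] at H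
    exact (Nat.card_pos (α := G)).ne' H.symm
  rwa [← Ideal.ncard_primesOver_mul_ramificationIdxIn_mul_inertiaDegIn p S G,
    mul_assoc, mul_right_inj' h1, mul_left_inj' h2] at H

end Groth.Agent.Lib.Seat10.Inertia
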