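import Groth.Agent.Lib.Seat10InertiaB

/-!
# Wild inertia is a `p`-group (Seat 10)

Abstract setting: a finite group `G` acting faithfully on a Noetherian domain `B` with invariants
`A`, `m` a maximal ideal of `B`.  `P = D ⊓ (m²).inertia` with `D` the stabilizer of `m`.
-/

set_option autoImplicit false

namespace Groth.Agent.Lib.Seat10.Inertia

open Pointwise

variable {A B G : Type*} [CommRing A] [CommRing B] [Algebra A B] [Group G]
  [MulSemiringAction G B] (m : Ideal B)

/-- the wild inertia group (in the separable residue field case) -/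
def wild (G : Type*) [Group G] [MulSemiringAction G B] (m : Ideal B) : Subgroup G :=
  MulAction.stabilizer G m ⊓ (m ^ 2).inertia G

theorem wild_le_inertia : wild G m ≤ m.inertia G := by
  intro σ hσ x
  have := hσ.2 x
  rw [Submodule.mem_toAddSubgroup] at this ⊢
  have h2 : m ^ 2 ≤ m := by
    have := Ideal.pow_le_pow_right (I := m) (show 1 ≤ 2 by norm_num)
    simpa using this
  exact h2 this

theorem wild_subgroupOf_normal :
    ((wild G m).subgroupOf (MulAction.stabilizer G m)).Normal := by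
  refine (Subgroup.normal_subgroupOf_iff inf_le_left).mpr fun σ τ hσ hτ => ⟨?_, ?_⟩
  · exact Subgroup.mul_mem _ (Subgroup.mul_mem _ hτ hσ.1) (Subgroup.inv_mem _ hτ)
  · intro x
    rw [Submodule.mem_toAddSubgroup]
    have hτm : τ • m = m := MulAction.mem_stabilizer_iff.mp hτ
    have h1 : σ • (τ⁻¹ • x) - τ⁻¹ • x ∈ m ^ 2 := hσ.2 (τ⁻¹ • x)
    have h2 := smul_mem_pow m hτm h1
    have h3 : τ • (σ • τ⁻¹ • x - τ⁻¹ • x) = (τ * σ * τ⁻¹) • x - x := by
      rw [smul_sub, smul_inv_smul, mul_smul, mul_smul]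
    rwa [h3] at h2

variable {m}

/-- an element of the wild inertia group of order prime to the residue characteristic is
trivial -/
theorem eq_one_of_mem_wild_of_pow_eq_one [IsDomain B] [IsNoetherianRing B] [FaithfulSMul G B]
    [hm : m.IsMaximal] {σ : G} (hσ : σ ∈ wild G m) (n : ℕ) (hn : σ ^ n = 1)
    (hnm : (n : B) ∉ m) : σ = 1 := by
  obtain ⟨c, s, hs, hcs⟩ := Ideal.IsMaximal.exists_inv hm hnm
  have hc : c * (n : B) - 1 ∈ m := by
    have : c * (n : B) - 1 = -s := by linear_combination hcs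
    rw [this]
    exact Ideal.neg_mem_iff _ |>.mpr hs
  have hbot : ⨅ k : ℕ, m ^ k = ⊥ := Ideal.iInf_pow_eq_bot_of_isDomain m hm.ne_top
  apply eq_of_smul_eq_smul (α := B)
  intro x
  rw [one_smul]
  exact smul_eq_of_pow_eq_one m (MulAction.mem_stabilizer_iff.mp hσ.1) hbot
    (fun x => hσ.2 x) n hn c hc x

theorem natCast_notMem_of_ne_zero {n : ℕ} (hn : (n : A ⧸ m.under A) ≠ 0) : (n : B) ∉ m := by
  intro h
  apply hn
  have h1 : (n : A) ∈ m.under A := by
    rw [Ideal.under_def, Ideal.mem_comap, map_natCast]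
    exact h
  rw [← map_natCast (Ideal.Quotient.mk (m.under A)), Ideal.Quotient.eq_zero_iff_mem]
  exact h1

variable [IsDomain B] [IsNoetherianRing B] [FaithfulSMul G B] [m.IsMaximal] [Finite G]

theorem isPGroup_wild (p : ℕ) [hp : Fact p.Prime] [CharP (A ⧸ m.under A) p] :
    IsPGroup p (wild G m) := by
  intro σ
  -- order of `σ` is `p^a * n'` with `n'` prime to `p`
  obtain ⟨a, n', hn', hord⟩ := Nat.exists_eq_pow_mul_and_not_dvd
    (orderOf_pos σ).ne' p hp.out.ne_one
  refine ⟨a, ?_⟩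
  have h1 : (σ ^ p ^ a) ^ n' = 1 := by
    rw [← pow_mul, ← hord, pow_orderOf_eq_one]
  have hn'0 : ((n' : ℕ) : A ⧸ m.under A) ≠ 0 := by
    rw [Ne, CharP.cast_eq_zero_iff (A ⧸ m.under A) p]
    exact hn'
  have h2 : ((σ ^ p ^ a : wild G m) : G) = 1 := by
    apply eq_one_of_mem_wild_of_pow_eq_one (σ ^ p ^ a).2 n'
    · have := congrArg Subtype.val h1
      simpa using this
    · exact natCast_notMem_of_ne_zero hn'0
  exact Subtype.ext h2

theorem wild_eq_bot [CharZero (A ⧸ m.under A)] : wild G m = ⊥ := by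
  rw [Subgroup.eq_bot_iff_forall]
  intro σ hσ
  apply eq_one_of_mem_wild_of_pow_eq_one hσ (orderOf σ) (pow_orderOf_eq_one σ)
  apply natCast_notMem_of_ne_zero (A := A)
  exact Nat.cast_ne_zero.mpr (orderOf_pos σ).ne'

end Groth.Agent.Lib.Seat10.Inertia
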