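import Mathlib

/-!
# A character of a finite group with values in the units of a domain (Seat 10)

`θ : I →* kˣ` with `I` finite and `k` a domain.  The quotient by the kernel is cyclic, of order
prime to the characteristic; if the kernel is a `p`-group (char `p`) or trivial, it is isomorphic
to the full group of `|I|`-th roots of unity.
-/

set_option autoImplicit false

namespace Groth.Agent.Lib.Seat10.Inertia

variable {I k : Type*} [Group I] [Finite I] [CommRing k] [IsDomain k] (θ : I →* kˣ)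

theorem isCyclic_quotient_ker : IsCyclic (I ⧸ θ.ker) := by
  have e := QuotientGroup.quotientKerEquivRange θ
  haveI : Finite θ.range := Set.finite_range θ
  haveI : IsCyclic θ.range := isCyclic_subgroup_units θ.range
  exact isCyclic_of_surjective e.symm e.symm.surjective

theorem card_eq_card_ker_mul : Nat.card I = Nat.card θ.ker * Nat.card (I ⧸ θ.ker) := by
  rw [Subgroup.card_eq_card_quotient_mul_card_subgroup θ.ker, mul_comm]

/-- in characteristic `p` the image has order prime to `p` -/
theorem not_dvd_card_quotient_ker (p : ℕ) [hp : Fact p.Prime] [CharP k p] :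
    ¬ p ∣ Nat.card (I ⧸ θ.ker) := by
  intro hdvd
  obtain ⟨x, hx⟩ := exists_prime_orderOf_dvd_card' p hdvd
  -- `x ≠ 1`, `x ^ p = 1`
  have hx1 : x ≠ 1 := by
    intro h
    rw [h, orderOf_one] at hx
    exact hp.out.one_lt.ne hx
  have hxp : x ^ p = 1 := by rw [← hx, pow_orderOf_eq_one]
  obtain ⟨g, rfl⟩ := QuotientGroup.mk_surjective x
  apply hx1
  rw [QuotientGroup.eq_one_iff, MonoidHom.mem_ker]
  have h2 : θ g ^ p = 1 := by
    have : (g ^ p : I) ∈ θ.ker := by
      rw [← QuotientGroup.eq_one_iff, QuotientGroup.mk_pow]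
      exact hxp
    rw [← map_pow]
    exact this
  have h3 : ((θ g : kˣ) : k) ^ (p ^ 1 * 1) = 1 := by
    rw [pow_one, mul_one, ← Units.val_pow_eq_pow_val, h2, Units.val_one]
  rw [ExpChar.pow_prime_pow_mul_eq_one_iff p 1 1, pow_one] at h3
  exact Units.ext h3

theorem card_quotient_ker_of_isPGroup (p : ℕ) [hp : Fact p.Prime] [CharP k p]
    (hker : IsPGroup p θ.ker) :
    Nat.card (I ⧸ θ.ker) = Nat.card I / p ^ (Nat.card I).factorization p := by
  obtain ⟨a, ha⟩ := IsPGroup.iff_card.mp hker
  have h1 := card_eq_card_ker_mul θ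
  rw [ha] at h1
  have h2 := not_dvd_card_quotient_ker θ p
  have hM : Nat.card (I ⧸ θ.ker) ≠ 0 := Nat.card_pos.ne'
  have hfac : (Nat.card I).factorization p = a := by
    rw [h1, Nat.factorization_mul (pow_ne_zero _ hp.out.ne_zero) hM, Finsupp.add_apply,
      hp.out.factorization_pow, Finsupp.single_eq_same,
      Nat.factorization_eq_zero_of_not_dvd h2, add_zero]
  rw [hfac, h1, Nat.mul_div_cancel_left _ (pow_pos hp.out.pos a)]

theorem theta_mem_rootsOfUnity (g : I) : θ g ∈ rootsOfUnity (Nat.card I) k := by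
  rw [mem_rootsOfUnity, ← map_pow, pow_card_eq_one', map_one]

/-- the character with values in the `|I|`-th roots of unity -/
noncomputable def thetaRoots : I →* rootsOfUnity (Nat.card I) k :=
  θ.codRestrict (rootsOfUnity (Nat.card I) k) (theta_mem_rootsOfUnity θ)

theorem ker_thetaRoots : (thetaRoots θ).ker = θ.ker := by
  ext g
  simp [thetaRoots, MonoidHom.mem_ker]

/-- Key counting statement: if `|μ_{|I|}(k)| ≤ |I / ker θ|` then `I / ker θ ≅ μ_{|I|}(k)`. -/
theorem nonempty_quotient_ker_equiv_rootsOfUnity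
    (h : Nat.card (rootsOfUnity (Nat.card I) k) ≤ Nat.card (I ⧸ θ.ker)) :
    Nonempty (I ⧸ θ.ker ≃* rootsOfUnity (Nat.card I) k) := by
  have e1 : I ⧸ θ.ker ≃* I ⧸ (thetaRoots θ).ker :=
    QuotientGroup.quotientMulEquivOfEq (ker_thetaRoots θ).symm
  have hinj : Function.Injective (QuotientGroup.kerLift (thetaRoots θ)) :=
    QuotientGroup.kerLift_injective _
  have hle : Nat.card (rootsOfUnity (Nat.card I) k) ≤ Nat.card (I ⧸ (thetaRoots θ).ker) := by
    rw [← Nat.card_congr e1.toEquiv]
    exact h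
  have hbij := hinj.bijective_of_nat_card_le hle
  exact ⟨e1.trans (MulEquiv.ofBijective _ hbij)⟩

theorem nonempty_equiv_rootsOfUnity_of_ker_eq_bot (hker : θ.ker = ⊥) :
    Nonempty (I ⧸ θ.ker ≃* rootsOfUnity (Nat.card I) k) := by
  apply nonempty_quotient_ker_equiv_rootsOfUnity
  haveI : NeZero (Nat.card I) := ⟨Nat.card_pos.ne'⟩
  have h1 := card_eq_card_ker_mul θ
  rw [hker, Subgroup.card_bot, one_mul] at h1
  have h2 : Nat.card (I ⧸ θ.ker) = Nat.card I := by
    rw [hker]
    exact h1.symm
  rw [h2]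
  exact card_rootsOfUnity k (Nat.card I)

theorem nonempty_equiv_rootsOfUnity_of_isPGroup (p : ℕ) [hp : Fact p.Prime] [CharP k p]
    (hker : IsPGroup p θ.ker) :
    Nonempty (I ⧸ θ.ker ≃* rootsOfUnity (Nat.card I) k) := by
  apply nonempty_quotient_ker_equiv_rootsOfUnity
  obtain ⟨a, ha⟩ := IsPGroup.iff_card.mp hker
  have h1 := card_eq_card_ker_mul θ
  rw [ha] at h1
  set M := Nat.card (I ⧸ θ.ker) with hM
  haveI : NeZero M := ⟨Nat.card_pos.ne'⟩
  -- `μ_{p^a M} = μ_M`
  have hsub : rootsOfUnity (Nat.card I) k ≤ rootsOfUnity M k := by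
    intro ζ hζ
    rw [mem_rootsOfUnity] at hζ ⊢
    have h2 : ((ζ : kˣ) : k) ^ (p ^ a * M) = 1 := by
      rw [← h1, ← Units.val_pow_eq_pow_val, hζ, Units.val_one]
    rw [ExpChar.pow_prime_pow_mul_eq_one_iff p a M] at h2
    exact Units.ext (by rw [Units.val_pow_eq_pow_val, h2, Units.val_one])
  calc Nat.card (rootsOfUnity (Nat.card I) k) ≤ Nat.card (rootsOfUnity M k) :=
        Nat.card_le_card_of_injective (Subgroup.inclusion hsub) (Subgroup.inclusion_injective hsub)
    _ ≤ M := card_rootsOfUnity k M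

end Groth.Agent.Lib.Seat10.Inertia
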