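import Groth.Agent.Lib.Seat10InertiaD
import Groth.Agent.Lib.Seat10InertiaE

/-!
# Structure of inertia and wild inertia at a maximal ideal of a Dedekind domain (Seat 10)
-/

set_option autoImplicit false

namespace Groth.Agent.Lib.Seat10.Inertia

open Pointwise Polynomial

section dedekind

variable {B : Type*} [CommRing B] [IsDedekindDomain B] (m : Ideal B) [hm : m.IsMaximal]

theorem exists_uniformizer (hm0 : m ≠ ⊥) : ∃ π ∈ m, π ∉ m ^ 2 := by
  obtain ⟨x, hx, hx2⟩ := Ideal.exists_mem_pow_notMem_pow_succ m hm0 hm.ne_top 1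
  exact ⟨x, by simpa using hx, hx2⟩

theorem exists_sub_mul_mem_sq (hm0 : m ≠ ⊥) {π : B} (hπ : π ∈ m) (hπ2 : π ∉ m ^ 2) :
    ∀ x ∈ m, ∃ b : B, x - b * π ∈ m ^ 2 := by
  have hJ : Ideal.span {π} ⊔ m ^ 2 = m ^ 1 := by
    apply Ideal.eq_prime_pow_of_succ_lt_of_le hm0
    · refine lt_of_le_of_ne le_sup_right ?_
      intro h
      apply hπ2
      rw [h]
      exact Ideal.mem_sup_left (Ideal.subset_span rfl)
    · rw [pow_one]
      refine sup_le ?_ ?_
      · rw [Ideal.span_le, Set.singleton_subset_iff]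
        exact hπ
      · have := Ideal.pow_le_pow_right (I := m) (show 1 ≤ 2 by norm_num)
        simpa using this
  intro x hx
  rw [← pow_one m, ← hJ] at hx
  obtain ⟨y, hy, z, hz, rfl⟩ := Submodule.mem_sup.mp hx
  obtain ⟨b, rfl⟩ := Ideal.mem_span_singleton'.mp hy
  exact ⟨b, by simpa using hz⟩

end dedekind

section sep

variable {A B : Type*} [CommRing A] [CommRing B] [Algebra A B] (m : Ideal B)

theorem exists_poly_of_isSeparable [Nontrivial (B ⧸ m)]
    [Algebra.IsSeparable (A ⧸ m.under A) (B ⧸ m)] (x : B) :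
    ∃ f : A[X], aeval x f ∈ m ∧ aeval x (derivative f) ∉ m := by
  have hsep : (minpoly (A ⧸ m.under A) (Ideal.Quotient.mk m x)).Separable :=
    Algebra.IsSeparable.isSeparable (A ⧸ m.under A) (Ideal.Quotient.mk m x)
  obtain ⟨f, hf⟩ := Polynomial.map_surjective (Ideal.Quotient.mk (m.under A))
    Ideal.Quotient.mk_surjective (minpoly (A ⧸ m.under A) (Ideal.Quotient.mk m x))
  have hcomm : (Ideal.Quotient.mk m).comp (algebraMap A B) =
      (algebraMap (A ⧸ m.under A) (B ⧸ m)).comp (Ideal.Quotient.mk (m.under A)) := rfl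
  have key : ∀ g : A[X], Ideal.Quotient.mk m (aeval x g) =
      aeval (Ideal.Quotient.mk m x) (g.map (Ideal.Quotient.mk (m.under A))) := by
    intro g
    rw [aeval_def, aeval_def, hom_eval₂, hcomm, eval₂_map]
  refine ⟨f, ?_, ?_⟩
  · rw [← Ideal.Quotient.eq_zero_iff_mem, key, hf, minpoly.aeval]
  · rw [← Ideal.Quotient.eq_zero_iff_mem, key, ← derivative_map, hf]
    exact hsep.aeval_derivative_ne_zero (minpoly.aeval _ _)

end sep

section main

variable (A : Type*) {B G : Type*} [CommRing A] [CommRing B] [IsDedekindDomain B] [Algebra A B]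
  [Group G] [Finite G] [MulSemiringAction G B] [IsGaloisGroup G A B]
  (m : Ideal B) [hm : m.IsMaximal] [Algebra.IsSeparable (A ⧸ m.under A) (B ⧸ m)]

include A in
/-- the tame character `I → (B/m)ˣ` and its kernel -/
theorem exists_tame_character (hm0 : m ≠ ⊥) :
    ∃ θ : m.inertia G →* (B ⧸ m)ˣ, θ.ker = (wild G m).subgroupOf (m.inertia G) := by
  obtain ⟨π, hπ, hπ2⟩ := exists_uniformizer m hm0
  have hspan := exists_sub_mul_mem_sq m hm0 hπ hπ2
  refine ⟨thetaHom hπ hspan hπ2, ?_⟩
  have : SMulCommClass G A B := IsGaloisGroup.commutes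
  have : Nontrivial (B ⧸ m) := Ideal.Quotient.nontrivial_iff.mpr hm.ne_top
  ext σ
  rw [MonoidHom.mem_ker, Subgroup.mem_subgroupOf, Units.ext_iff, coe_thetaHom, Units.val_one,
    theta_eq_one_iff hπ hspan hπ2]
  constructor
  · intro h
    refine ⟨Ideal.inertia_le_stabilizer m σ.2, ?_⟩
    exact mem_inertia_sq_of_sep (A := A) (exists_poly_of_isSeparable m) σ.2
      (fun x hx => smul_sub_mem_sq_of_mem hπ hspan σ h hx)
  · intro h
    exact h.2 π

end main

end Groth.Agent.Lib.Seat10.Inertia
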