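import Groth.Agent.Lib.Seat10InertiaC
import Groth.Agent.Lib.Seat10InertiaE
import Groth.Agent.Lib.Seat10InertiaF

/-!
# Structure of the inertia group: assembly (Seat 10)

Abstract setting: `G` finite with `IsGaloisGroup G A B`, `B` Dedekind, `m ≠ ⊥` a maximal ideal of
`B` with separable residue field extension.  `I = m.inertia G`, `P = wild G m`.
-/

set_option autoImplicit false

namespace Groth.Agent.Lib.Seat10.Inertia

open Pointwise

variable (A : Type*) {B G : Type*} [CommRing A] [CommRing B] [IsDedekindDomain B] [Algebra A B]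
  [Group G] [Finite G] [MulSemiringAction G B] [IsGaloisGroup G A B]
  (m : Ideal B) [hm : m.IsMaximal] [Algebra.IsSeparable (A ⧸ m.under A) (B ⧸ m)]

include A in
theorem tame_quotient_structure (hm0 : m ≠ ⊥) [((wild G m).subgroupOf (m.inertia G)).Normal] :
    IsCyclic (m.inertia G ⧸ (wild G m).subgroupOf (m.inertia G)) ∧
    (∀ p : ℕ, p.Prime → CharP (A ⧸ m.under A) p →
      Nat.card (m.inertia G ⧸ (wild G m).subgroupOf (m.inertia G)) =
        Nat.card (m.inertia G) / p ^ (Nat.card (m.inertia G)).factorization p) ∧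
    (CharZero (A ⧸ m.under A) →
      Nat.card (m.inertia G ⧸ (wild G m).subgroupOf (m.inertia G)) = Nat.card (m.inertia G)) ∧
    Nonempty (m.inertia G ⧸ (wild G m).subgroupOf (m.inertia G) ≃*
      ↥(rootsOfUnity (Nat.card (m.inertia G)) (B ⧸ m))) := by
  obtain ⟨θ, hθ⟩ := exists_tame_character (G := G) A m hm0
  have : FaithfulSMul G B := IsGaloisGroup.faithful A
  have : IsDomain (B ⧸ m) := Ideal.Quotient.isDomain m
  have hinj : Function.Injective (algebraMap (A ⧸ m.under A) (B ⧸ m)) :=
    Ideal.algebraMap_quotient_injective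
  have e1 : m.inertia G ⧸ θ.ker ≃* m.inertia G ⧸ (wild G m).subgroupOf (m.inertia G) :=
    QuotientGroup.quotientMulEquivOfEq hθ
  have hP : ∀ p : ℕ, p.Prime → CharP (A ⧸ m.under A) p → IsPGroup p θ.ker := by
    intro p hp hchar
    have : Fact p.Prime := ⟨hp⟩
    rw [hθ]
    exact (isPGroup_wild (A := A) (G := G) (m := m) p).comap_subtype
  have hZ : CharZero (A ⧸ m.under A) → θ.ker = ⊥ := by
    intro hchar
    rw [hθ, wild_eq_bot (A := A) (G := G) (m := m), Subgroup.bot_subgroupOf]
  refine ⟨?_, ?_, ?_, ?_⟩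
  · have := isCyclic_quotient_ker θ
    exact isCyclic_of_surjective e1 e1.surjective
  · intro p hp hchar
    have : Fact p.Prime := ⟨hp⟩
    have : CharP (B ⧸ m) p := charP_of_injective_algebraMap hinj p
    rw [← Nat.card_congr e1.toEquiv]
    exact card_quotient_ker_of_isPGroup θ p (hP p hp hchar)
  · intro hchar
    rw [← Nat.card_congr e1.toEquiv]
    have h1 := card_eq_card_ker_mul θ
    rw [hZ hchar, Subgroup.card_bot, one_mul] at h1
    rw [hZ hchar]
    exact h1.symm
  · have : IsDomain (A ⧸ m.under A) := Ideal.Quotient.isDomain _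
    rcases CharP.exists' (A ⧸ m.under A) with hchar | ⟨p, hp, hchar⟩
    · obtain ⟨e2⟩ := nonempty_equiv_rootsOfUnity_of_ker_eq_bot θ (hZ hchar)
      exact ⟨e1.symm.trans e2⟩
    · have : CharP (B ⧸ m) p := charP_of_injective_algebraMap hinj p
      obtain ⟨e2⟩ := nonempty_equiv_rootsOfUnity_of_isPGroup θ p (hP p hp.out hchar)
      exact ⟨e1.symm.trans e2⟩

omit [Algebra.IsSeparable (A ⧸ m.under A) (B ⧸ m)] in
include A in
theorem wild_structure :
    wild G m ≤ m.inertia G ∧ m.inertia G ≤ MulAction.stabilizer G m ∧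
    ((wild G m).subgroupOf (MulAction.stabilizer G m)).Normal ∧
    (∀ p : ℕ, p.Prime → CharP (A ⧸ m.under A) p → IsPGroup p (wild G m)) ∧
    (CharZero (A ⧸ m.under A) → wild G m = ⊥) := by
  have : FaithfulSMul G B := IsGaloisGroup.faithful A
  refine ⟨wild_le_inertia m, Ideal.inertia_le_stabilizer m, wild_subgroupOf_normal m, ?_, ?_⟩
  · intro p hp hchar
    have : Fact p.Prime := ⟨hp⟩
    exact isPGroup_wild (A := A) (G := G) (m := m) p
  · intro hchar
    exact wild_eq_bot (A := A) (G := G) (m := m)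

end Groth.Agent.Lib.Seat10.Inertia
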