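import Mathlib

/-!
# Purely inseparable degree-`p` extensions of DVRs: basic facts (Seat 10)

`B → C` an injective local homomorphism of DVRs with fraction fields `L ⊆ M`, `M/L` purely
inseparable of prime degree `p`.

* `exists_of_algebraMap_eq`: `C ∩ L = B`.
* `charP_of_finrank`: the characteristic is `p`.
* `pow_mem_range_field`: `x ^ p ∈ L` for `x ∈ M`.
* `pow_mem_range`: `c ^ p ∈ B` for `c ∈ C`.
* `ramification_dichotomy`: either `π_B` generates `m_C`, or there are a uniformizer `ϖ` of `C`
  and a unit `u` of `B` with `ϖ ^ p = u π_B`.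
-/

set_option autoImplicit false

universe u

namespace Groth.Agent.Lib.Seat10.Insep

open IsLocalRing Polynomial

section Basic

variable {B C L M : Type*} [CommRing B] [IsDomain B] [IsDiscreteValuationRing B]
  [CommRing C] [IsDomain C] [IsDiscreteValuationRing C] [Algebra B C]
  [IsLocalHom (algebraMap B C)]
  [Field L] [Field M] [Algebra B L] [IsFractionRing B L] [Algebra C M] [IsFractionRing C M]
  [Algebra L M] [Algebra B M] [IsScalarTower B L M] [IsScalarTower B C M]

/-- `C ∩ L = B` -/
theorem exists_of_algebraMap_eq (l : L) (c : C) (h : algebraMap L M l = algebraMap C M c) :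
    ∃ b : B, algebraMap B L b = l := by
  rcases ValuationRing.isInteger_or_isInteger B l with ⟨b, hb⟩ | ⟨b, hb⟩
  · exact ⟨b, hb⟩
  · by_cases hl : l = 0
    · exact ⟨0, by rw [hl, map_zero]⟩
    · have h1 : algebraMap B C b * c = 1 := by
        apply IsFractionRing.injective C M
        rw [map_mul, map_one, ← IsScalarTower.algebraMap_apply,
          IsScalarTower.algebraMap_apply B L M, hb, ← h, ← map_mul, inv_mul_cancel₀ hl, map_one]
      have h2 : IsUnit (algebraMap B C b) := IsUnit.of_mul_eq_one _ h1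
      have h3 : IsUnit b := isUnit_of_map_unit (algebraMap B C) b h2
      obtain ⟨v, rfl⟩ := h3
      refine ⟨((v⁻¹ : Bˣ) : B), ?_⟩
      have h4 : algebraMap B L ((v⁻¹ : Bˣ) : B) * algebraMap B L (v : B) = 1 := by
        rw [← map_mul, Units.inv_mul, map_one]
      rw [hb] at h4
      exact (mul_inv_eq_one₀ hl).mp h4

omit [IsDomain C] [IsDiscreteValuationRing C] [IsLocalHom (algebraMap B C)] [IsFractionRing C M]
  [Algebra B M] [IsScalarTower B L M] [IsScalarTower B C M] [Algebra B C] [Algebra C M]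
  [IsFractionRing B L] [Algebra B L] [IsDomain B] [IsDiscreteValuationRing B] in
theorem charP_of_finrank (p : ℕ) (hp : p.Prime) [IsPurelyInseparable L M]
    (hdeg : Module.finrank L M = p) : CharP L p := by
  have : FiniteDimensional L M := Module.finite_of_finrank_pos (by rw [hdeg]; exact hp.pos)
  obtain ⟨q, hq⟩ := ExpChar.exists L
  obtain ⟨n, hn⟩ := IsPurelyInseparable.finrank_eq_pow (F := L) M q
  rw [hdeg] at hn
  cases hq with
  | zero =>
    rw [one_pow] at hn
    exact absurd hn hp.ne_one
  | prime hq' =>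
    have hn0 : n ≠ 0 := by
      rintro rfl
      rw [pow_zero] at hn
      exact hp.ne_one hn
    have hdvd : q ∣ p := by
      rw [hn]
      exact dvd_pow_self q hn0
    have hqp : q = p := (Nat.prime_dvd_prime_iff_eq hq' hp).mp hdvd
    subst hqp
    assumption

omit [IsDomain C] [IsDiscreteValuationRing C] [IsLocalHom (algebraMap B C)] [IsFractionRing C M]
  [Algebra B M] [IsScalarTower B L M] [IsScalarTower B C M] [Algebra B C] [Algebra C M]
  [IsFractionRing B L] [Algebra B L] [IsDomain B] [IsDiscreteValuationRing B] in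
theorem pow_mem_range_field (p : ℕ) (hp : p.Prime) [IsPurelyInseparable L M]
    (hdeg : Module.finrank L M = p) (x : M) : ∃ l : L, algebraMap L M l = x ^ p := by
  have : FiniteDimensional L M := Module.finite_of_finrank_pos (by rw [hdeg]; exact hp.pos)
  have : CharP L p := charP_of_finrank p hp hdeg
  have : ExpChar L p := ExpChar.prime hp
  obtain ⟨n, y, hy⟩ := IsPurelyInseparable.minpoly_eq_X_pow_sub_C L p x
  have hdeg' : (minpoly L x).natDegree = p ^ n := by
    rw [hy, natDegree_X_pow_sub_C]
  have hle : p ^ n ≤ p := by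
    rw [← hdeg', ← hdeg]
    exact minpoly.natDegree_le x
  have hroot : x ^ p ^ n = algebraMap L M y := by
    have h1 := minpoly.aeval L x
    rw [hy] at h1
    simpa [sub_eq_zero] using h1
  have hn1 : n ≤ 1 := by
    by_contra hcon
    push Not at hcon
    have : p ^ 2 ≤ p ^ n := Nat.pow_le_pow_right hp.pos hcon
    have h2 : p < p ^ 2 := by
      have := hp.one_lt
      nlinarith
    omega
  interval_cases n
  · rw [pow_zero, pow_one] at hroot
    exact ⟨y ^ p, by rw [map_pow, hroot]⟩
  · rw [pow_one] at hroot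
    exact ⟨y, hroot.symm⟩

theorem pow_mem_range (p : ℕ) (hp : p.Prime) [IsPurelyInseparable L M]
    (hdeg : Module.finrank L M = p) (c : C) : ∃ b : B, algebraMap B C b = c ^ p := by
  obtain ⟨l, hl⟩ := pow_mem_range_field (L := L) p hp hdeg (algebraMap C M c)
  rw [← map_pow] at hl
  obtain ⟨b, hb⟩ := exists_of_algebraMap_eq (B := B) l (c ^ p) hl
  refine ⟨b, ?_⟩
  apply IsFractionRing.injective C M
  rw [← hl, ← hb, ← IsScalarTower.algebraMap_apply, ← IsScalarTower.algebraMap_apply]

/-- Either `π_B` generates the maximal ideal of `C`, or `ϖ ^ p = u π_B` for a uniformizer `ϖ` of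
`C` and a unit `u` of `B`. -/
theorem ramification_dichotomy (p : ℕ) (hp : p.Prime) [IsPurelyInseparable L M]
    (hdeg : Module.finrank L M = p) (hinj : Function.Injective (algebraMap B C))
    (πB : B) (hπB : Irreducible πB) :
    Ideal.span {algebraMap B C πB} = maximalIdeal C ∨
      ∃ (ϖ : C) (u : Bˣ), Irreducible ϖ ∧ ϖ ^ p = algebraMap B C ((u : B) * πB) := by
  obtain ⟨ϖ, hϖ⟩ := IsDiscreteValuationRing.exists_irreducible C
  obtain ⟨b, hb⟩ := pow_mem_range (B := B) (L := L) (M := M) p hp hdeg ϖ
  have hb0 : b ≠ 0 := by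
    rintro rfl
    rw [map_zero] at hb
    exact hϖ.ne_zero (pow_eq_zero_iff hp.ne_zero |>.mp hb.symm)
  obtain ⟨k, w, hw⟩ := IsDiscreteValuationRing.eq_unit_mul_pow_irreducible hb0 hπB
  have hπ0 : algebraMap B C πB ≠ 0 := fun h => hπB.ne_zero (hinj (h.trans (map_zero _).symm))
  obtain ⟨e, v, hv⟩ := IsDiscreteValuationRing.eq_unit_mul_pow_irreducible hπ0 hϖ
  have hwC : IsUnit (algebraMap B C (w : B)) := w.isUnit.map _
  have hrel : ((1 : Cˣ) : C) * ϖ ^ p = ((hwC.unit * v ^ k : Cˣ) : C) * ϖ ^ (e * k) := by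
    rw [Units.val_one, one_mul, ← hb, hw, map_mul, map_pow, hv, Units.val_mul, Units.val_pow_eq_pow_val,
      IsUnit.unit_spec, mul_pow, ← pow_mul]
    ring
  have hpek : p = e * k := IsDiscreteValuationRing.unit_mul_pow_congr_pow hϖ hϖ _ _ _ _ hrel
  have hdvd : e ∣ p := ⟨k, hpek⟩
  rcases (Nat.dvd_prime hp).mp hdvd with he | he
  · left
    rw [hϖ.maximalIdeal_eq, hv, he, pow_one, Ideal.span_singleton_mul_left_unit v.isUnit]
  · right
    have hk : k = 1 := by
      rw [he] at hpek
      have := hp.pos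
      nlinarith [Nat.eq_of_mul_eq_mul_left hp.pos (by rw [mul_one]; exact hpek : p * 1 = p * k)]
    refine ⟨ϖ, w, hϖ, ?_⟩
    rw [← hb, hw, hk, pow_one]

end Basic

end Groth.Agent.Lib.Seat10.Insep
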