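import Mathlib

/-!
# Linear independence of powers of a uniformizer in a ramified extension (Seat 10)

`φ : B → W`, `B` a DVR with uniformizer `π`, `W` a local domain with `m_W = (p₁)` and
`φ π = u p₁^e`: a relation `∑_{i<e} φ(b_i) p₁^i = 0` forces all `b_i = 0`
(`dvd_coeff_of_sum_eq_zero`, `coeff_eq_zero_of_sum_eq_zero`).
-/

set_option autoImplicit false

universe u

namespace Groth.Agent.Lib.Seat10.Tower

open IsLocalRing

section Indep

variable {B W : Type*} [CommRing B] [IsDomain B] [IsDiscreteValuationRing B]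
  [CommRing W] [IsDomain W] [IsLocalRing W] (φ : B →+* W)
  (π : B) (hπ : Irreducible π) (p₁ : W) (hp₁ : maximalIdeal W = Ideal.span {p₁})
  (e : ℕ) (u : W) (hπe : φ π = u * p₁ ^ e) (hφπ : φ π ≠ 0)

include hπ hp₁ hπe hφπ

theorem dvd_coeff_of_sum_eq_zero (b : Fin e → B) (hsum : ∑ i, φ (b i) * p₁ ^ (i : ℕ) = 0) :
    ∀ i, π ∣ b i := by
  by_contra hnot
  push Not at hnot
  have hp₁0 : p₁ ≠ 0 := by
    intro h0
    cases e with
    | zero => exact (Fin.elim0 hnot.choose)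
    | succ e => rw [h0, pow_succ, mul_zero, mul_zero] at hπe; exact hφπ hπe
  -- the least index with a unit coefficient
  classical
  let P : ℕ → Prop := fun j => ∃ h : j < e, ¬ π ∣ b ⟨j, h⟩
  have hP : ∃ j, P j := by
    obtain ⟨i, hi⟩ := hnot
    exact ⟨i.val, i.isLt, hi⟩
  obtain ⟨hj₀, hbj₀⟩ := Nat.find_spec hP
  set j₀ := Nat.find hP with hj₀def
  have hlt : ∀ i : Fin e, (i : ℕ) < j₀ → π ∣ b i := by
    intro i hi
    by_contra hni
    exact Nat.find_min hP hi ⟨i.isLt, hni⟩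
  -- every other term is divisible by `p₁ ^ (j₀ + 1)`
  have hother : ∀ i : Fin e, (i : ℕ) ≠ j₀ → p₁ ^ (j₀ + 1) ∣ φ (b i) * p₁ ^ (i : ℕ) := by
    intro i hi
    rcases lt_or_gt_of_ne hi with h | h
    · obtain ⟨c, hc⟩ := hlt i h
      rw [hc, map_mul, hπe]
      have : j₀ + 1 ≤ e := hj₀
      exact (((pow_dvd_pow p₁ this).mul_left u).mul_right (φ c)).mul_right _
    · exact Dvd.dvd.mul_left (pow_dvd_pow p₁ h) _
  have hmain : p₁ ^ (j₀ + 1) ∣ φ (b ⟨j₀, hj₀⟩) * p₁ ^ j₀ := by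
    have hsplit := Finset.add_sum_erase Finset.univ (fun i : Fin e => φ (b i) * p₁ ^ (i : ℕ))
      (Finset.mem_univ (⟨j₀, hj₀⟩ : Fin e))
    rw [hsum] at hsplit
    have h1 : φ (b ⟨j₀, hj₀⟩) * p₁ ^ j₀ =
        -∑ i ∈ Finset.univ.erase (⟨j₀, hj₀⟩ : Fin e), φ (b i) * p₁ ^ (i : ℕ) :=
      eq_neg_of_add_eq_zero_left hsplit
    rw [h1, dvd_neg]
    refine Finset.dvd_sum fun i hi => hother i ?_
    intro h
    exact (Finset.ne_of_mem_erase hi) (Fin.ext h)
  rw [pow_succ, mul_comm (φ _)] at hmain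
  have h2 : p₁ ∣ φ (b ⟨j₀, hj₀⟩) := (mul_dvd_mul_iff_left (pow_ne_zero j₀ hp₁0)).mp hmain
  have h3 : φ (b ⟨j₀, hj₀⟩) ∈ maximalIdeal W := by
    rw [hp₁, Ideal.mem_span_singleton]; exact h2
  have h4 : b ⟨j₀, hj₀⟩ ∈ maximalIdeal B := by
    rw [IsLocalRing.mem_maximalIdeal, mem_nonunits_iff] at h3 ⊢
    exact fun h => h3 (h.map φ)
  rw [hπ.maximalIdeal_eq, Ideal.mem_span_singleton] at h4
  exact hbj₀ h4

theorem coeff_eq_zero_of_sum_eq_zero (b : Fin e → B)
    (hsum : ∑ i, φ (b i) * p₁ ^ (i : ℕ) = 0) : ∀ i, b i = 0 := by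
  have key : ∀ k : ℕ, ∀ b : Fin e → B, ∑ i, φ (b i) * p₁ ^ (i : ℕ) = 0 → ∀ i, π ^ k ∣ b i := by
    intro k
    induction k with
    | zero => intro b _ i; simp
    | succ k ih =>
      intro b hb i
      have h1 := dvd_coeff_of_sum_eq_zero φ π hπ p₁ hp₁ e u hπe hφπ b hb
      choose c hc using h1
      have hc' : ∑ i, φ (c i) * p₁ ^ (i : ℕ) = 0 := by
        have h2 : φ π * ∑ i, φ (c i) * p₁ ^ (i : ℕ) = 0 := by
          rw [Finset.mul_sum, ← hb]
          refine Finset.sum_congr rfl fun i _ => ?_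
          rw [hc i, map_mul]
          ring
        exact (mul_eq_zero.mp h2).resolve_left hφπ
      obtain ⟨d, hd⟩ := ih c hc' i
      exact ⟨d, by rw [hc i, hd, pow_succ]; ring⟩
  intro i
  by_contra hne
  have h1 : ∀ k : ℕ, (k : ℕ∞) ≤ IsDiscreteValuationRing.addVal B (b i) := by
    intro k
    have h2 := (IsDiscreteValuationRing.addVal_le_iff_dvd (R := B)).mpr (key k b hsum i)
    rwa [IsDiscreteValuationRing.addVal_pow, IsDiscreteValuationRing.addVal_uniformizer hπ,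
      nsmul_eq_mul, mul_one] at h2
  have h3 : IsDiscreteValuationRing.addVal B (b i) = ⊤ := by
    rw [ENat.eq_top_iff_forall_ge]
    exact h1
  exact hne (IsDiscreteValuationRing.addVal_eq_top_iff.mp h3)

end Indep

end Groth.Agent.Lib.Seat10.Tower
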