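import Mathlib
import Groth.Agent.Lib.Seat10TowerP

/-!
# Totally ramified extensions of DVRs of full degree are monogenic (Seat 10)

`B → C` DVRs with fraction fields `L ⊆ M`, `c` a uniformizer of `C`, `π_B = v c^e` and
`[M : L] = e`.

* `dvd_coeff_of_dvd_sum`: `φ π ∣ ∑_{i<e} φ(b_i) p₁^i` forces `π ∣ b_i` for all `i`.
* `linearIndependent_pow`: the powers `c^i`, `i < e`, are linearly independent over `L`.
* `exists_field_expansion`: they span `M` when `[M : L] = e`.
* `exists_expansion`: every element of `C` is `∑_{i<e} b_i c^i` with `b_i ∈ B`.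
* `adjoin_eq_top`: `C = B[c]`.
-/

set_option autoImplicit false

universe u

namespace Groth.Agent.Lib.Seat10.Insep

open IsLocalRing Polynomial

section Dvd

variable {B W : Type*} [CommRing B] [IsDomain B] [IsDiscreteValuationRing B]
  [CommRing W] [IsDomain W] [IsLocalRing W] (φ : B →+* W)
  (π : B) (hπ : Irreducible π) (p₁ : W) (hp₁ : maximalIdeal W = Ideal.span {p₁})
  (e : ℕ) (u : W) (hπe : φ π = u * p₁ ^ e) (hφπ : φ π ≠ 0)

include hπ hp₁ hπe hφπ

theorem dvd_coeff_of_dvd_sum (b : Fin e → B) (hsum : φ π ∣ ∑ i, φ (b i) * p₁ ^ (i : ℕ)) :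
    ∀ i, π ∣ b i := by
  by_contra hnot
  push Not at hnot
  have hp₁0 : p₁ ≠ 0 := by
    intro h0
    cases e with
    | zero => exact (Fin.elim0 hnot.choose)
    | succ e => rw [h0, pow_succ, mul_zero, mul_zero] at hπe; exact hφπ hπe
  classical
  let P : ℕ → Prop := fun j => ∃ h : j < e, ¬ π ∣ b ⟨j, h⟩
  have hP : ∃ j, P j := by
    obtain ⟨i, hi⟩ := hnot
    exact ⟨i.val, i.isLt, hi⟩
  obtain ⟨hj₀, hbj₀⟩ := Nat.find_spec hP
  set j₀ := Nat.find hP with hj₀def
  have hlt : ∀ i : Fin e, (i : ℕ) < j₀ → π ∣ b i := by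
    intro i hi
    by_contra hni
    exact Nat.find_min hP hi ⟨i.isLt, hni⟩
  have hother : ∀ i : Fin e, (i : ℕ) ≠ j₀ → p₁ ^ (j₀ + 1) ∣ φ (b i) * p₁ ^ (i : ℕ) := by
    intro i hi
    rcases lt_or_gt_of_ne hi with h | h
    · obtain ⟨c, hc⟩ := hlt i h
      rw [hc, map_mul, hπe]
      have : j₀ + 1 ≤ e := hj₀
      exact (((pow_dvd_pow p₁ this).mul_left u).mul_right (φ c)).mul_right _
    · exact Dvd.dvd.mul_left (pow_dvd_pow p₁ h) _
  have htot : p₁ ^ (j₀ + 1) ∣ ∑ i, φ (b i) * p₁ ^ (i : ℕ) := by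
    refine dvd_trans ?_ hsum
    rw [hπe]
    have : j₀ + 1 ≤ e := hj₀
    exact (pow_dvd_pow p₁ this).mul_left u
  have hmain : p₁ ^ (j₀ + 1) ∣ φ (b ⟨j₀, hj₀⟩) * p₁ ^ j₀ := by
    have hsplit := Finset.add_sum_erase Finset.univ (fun i : Fin e => φ (b i) * p₁ ^ (i : ℕ))
      (Finset.mem_univ (⟨j₀, hj₀⟩ : Fin e))
    have h1 : φ (b ⟨j₀, hj₀⟩) * p₁ ^ j₀ = ∑ i, φ (b i) * p₁ ^ (i : ℕ) -
        ∑ i ∈ Finset.univ.erase (⟨j₀, hj₀⟩ : Fin e), φ (b i) * p₁ ^ (i : ℕ) :=
      eq_sub_of_add_eq hsplit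
    rw [h1]
    refine dvd_sub htot (Finset.dvd_sum fun i hi => hother i ?_)
    intro h
    exact (Finset.ne_of_mem_erase hi) (Fin.ext h)
  rw [pow_succ, mul_comm (φ _)] at hmain
  have h2 : p₁ ∣ φ (b ⟨j₀, hj₀⟩) := (mul_dvd_mul_iff_left (pow_ne_zero j₀ hp₁0)).mp hmain
  have h3 : φ (b ⟨j₀, hj₀⟩) ∈ maximalIdeal W := by
    rw [hp₁, Ideal.mem_span_singleton]; exact h2
  have h4 : b ⟨j₀, hj₀⟩ ∈ maximalIdeal B := by
    rw [IsLocalRing.mem_maximalIdeal, mem_nonunits_iff] at h3 ⊢
    exact fun h => h3 (h.map φ)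
  rw [hπ.maximalIdeal_eq, Ideal.mem_span_singleton] at h4
  exact hbj₀ h4

end Dvd

section Monogenic

variable {B C L M : Type*} [CommRing B] [IsDomain B] [IsDiscreteValuationRing B]
  [CommRing C] [IsDomain C] [IsDiscreteValuationRing C] [Algebra B C]
  [Field L] [Field M] [Algebra B L] [IsFractionRing B L] [Algebra C M] [IsFractionRing C M]
  [Algebra L M] [Algebra B M] [IsScalarTower B L M] [IsScalarTower B C M]
  (hinj : Function.Injective (algebraMap B C))
  (πB : B) (hπB : Irreducible πB) (c : C) (hc : maximalIdeal C = Ideal.span {c})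
  (e : ℕ) (v : C) (hπe : algebraMap B C πB = v * c ^ e)

include hinj hπB hc hπe

theorem linearIndependent_pow :
    LinearIndependent L (fun i : Fin e => (algebraMap C M c) ^ (i : ℕ)) := by
  have hφπ : algebraMap B C πB ≠ 0 := fun h => hπB.ne_zero (hinj (h.trans (map_zero _).symm))
  rw [Fintype.linearIndependent_iff]
  intro g hg i
  obtain ⟨d, hd⟩ := IsLocalization.exist_integer_multiples (nonZeroDivisors B) Finset.univ g
  choose b hb using fun i => hd i (Finset.mem_univ i)
  have hsum : ∑ i, algebraMap B C (b i) * c ^ (i : ℕ) = 0 := by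
    apply IsFractionRing.injective C M
    rw [map_sum, map_zero]
    have h2 : ∀ i : Fin e, algebraMap C M (algebraMap B C (b i) * c ^ (i : ℕ)) =
        algebraMap L M (algebraMap B L (d : B)) * (g i • (algebraMap C M c) ^ (i : ℕ)) := by
      intro i
      rw [map_mul, map_pow, ← IsScalarTower.algebraMap_apply, IsScalarTower.algebraMap_apply B L M,
        hb i, Algebra.smul_def, Algebra.smul_def, map_mul]
      ring
    simp only [h2]
    rw [← Finset.mul_sum, hg, mul_zero]
  have hb0 := Groth.Agent.Lib.Seat10.Tower.coeff_eq_zero_of_sum_eq_zero (algebraMap B C) πB hπB c hc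
    e v hπe hφπ b hsum
  have h3 := hb i
  rw [hb0 i, map_zero] at h3
  have hd0 : algebraMap B L (d : B) ≠ 0 := fun h0 =>
    nonZeroDivisors.ne_zero d.2 (IsFractionRing.injective B L (by rw [h0, map_zero]))
  rw [Algebra.smul_def] at h3
  exact (mul_eq_zero.mp h3.symm).resolve_left hd0

theorem exists_field_expansion (he : e ≠ 0) (hdeg : Module.finrank L M = e) (x : M) :
    ∃ l : Fin e → L, x = ∑ i, algebraMap L M (l i) * (algebraMap C M c) ^ (i : ℕ) := by
  have : FiniteDimensional L M := Module.finite_of_finrank_pos (by omega)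
  have hli := linearIndependent_pow (L := L) (M := M) hinj πB hπB c hc e v hπe
  have hspan := hli.span_eq_top_of_card_eq_finrank' (by rw [Fintype.card_fin, hdeg])
  have hx : x ∈ Submodule.span L (Set.range fun i : Fin e => (algebraMap C M c) ^ (i : ℕ)) := by
    rw [hspan]; trivial
  obtain ⟨l, hl⟩ := (Submodule.mem_span_range_iff_exists_fun L).mp hx
  refine ⟨l, ?_⟩
  rw [← hl]
  exact Finset.sum_congr rfl fun i _ => by rw [Algebra.smul_def]

theorem exists_expansion (he : e ≠ 0) (hdeg : Module.finrank L M = e) (x : C) :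
    ∃ b : Fin e → B, x = ∑ i, algebraMap B C (b i) * c ^ (i : ℕ) := by
  have hφπ : algebraMap B C πB ≠ 0 := fun h => hπB.ne_zero (hinj (h.trans (map_zero _).symm))
  -- descending induction on the exponent of the denominator
  have key : ∀ N : ℕ, ∀ (x : C) (b : Fin e → B),
      algebraMap B C πB ^ N * x = ∑ i, algebraMap B C (b i) * c ^ (i : ℕ) →
      ∃ b' : Fin e → B, x = ∑ i, algebraMap B C (b' i) * c ^ (i : ℕ) := by
    intro N
    induction N with
    | zero =>
      intro x b hb
      exact ⟨b, by rw [← hb, pow_zero, one_mul]⟩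
    | succ N ih =>
      intro x b hb
      have hdvd : algebraMap B C πB ∣ ∑ i, algebraMap B C (b i) * c ^ (i : ℕ) :=
        ⟨algebraMap B C πB ^ N * x, by rw [← hb, pow_succ]; ring⟩
      have h1 := dvd_coeff_of_dvd_sum (algebraMap B C) πB hπB c hc e v hπe hφπ b hdvd
      choose b' hb' using h1
      apply ih x b'
      apply mul_left_cancel₀ hφπ
      rw [Finset.mul_sum, ← mul_assoc, ← pow_succ', hb]
      refine Finset.sum_congr rfl fun i _ => ?_
      rw [hb' i, map_mul]
      ring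
  obtain ⟨l, hl⟩ := exists_field_expansion (L := L) (M := M) hinj πB hπB c hc e v hπe he hdeg
    (algebraMap C M x)
  obtain ⟨d, hd⟩ := IsLocalization.exist_integer_multiples (nonZeroDivisors B) Finset.univ l
  choose b hb using fun i => hd i (Finset.mem_univ i)
  obtain ⟨N, w, hw⟩ := IsDiscreteValuationRing.eq_unit_mul_pow_irreducible
    (nonZeroDivisors.ne_zero d.2) hπB
  apply key N x (fun i => ((w⁻¹ : Bˣ) : B) * b i)
  apply IsFractionRing.injective C M
  have hd0 : algebraMap B M ((w : B)) ≠ 0 := by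
    rw [IsScalarTower.algebraMap_apply B C M]
    intro h0
    have h1 := IsFractionRing.injective C M (h0.trans (map_zero _).symm)
    exact w.ne_zero (hinj (h1.trans (map_zero _).symm))
  apply mul_left_cancel₀ hd0
  rw [map_mul, map_pow, ← IsScalarTower.algebraMap_apply, hl, map_sum, Finset.mul_sum, Finset.mul_sum,
    Finset.mul_sum]
  refine Finset.sum_congr rfl fun i _ => ?_
  have h5 : algebraMap B M (b i) = algebraMap B M (d : B) * algebraMap L M (l i) := by
    rw [IsScalarTower.algebraMap_apply B L M, hb i, Algebra.smul_def, map_mul,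
      ← IsScalarTower.algebraMap_apply]
  simp only [map_mul, map_pow]
  rw [← IsScalarTower.algebraMap_apply B C M, ← IsScalarTower.algebraMap_apply B C M,
    h5, hw, map_mul, map_pow]
  have h6 : algebraMap B M (w : B) * algebraMap B M ((w⁻¹ : Bˣ) : B) = 1 := by
    rw [← map_mul, Units.mul_inv, map_one]
  linear_combination (-(algebraMap B M (w : B) * algebraMap B M πB ^ N * algebraMap L M (l i) *
    (algebraMap C M c) ^ (i : ℕ))) * h6

theorem adjoin_eq_top (he : e ≠ 0) (hdeg : Module.finrank L M = e) :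
    Algebra.adjoin B {c} = ⊤ := by
  rw [eq_top_iff]
  intro x _
  obtain ⟨b, hb⟩ := exists_expansion (L := L) (M := M) hinj πB hπB c hc e v hπe he hdeg x
  rw [hb]
  exact sum_mem fun i _ => mul_mem (Subalgebra.algebraMap_mem _ _)
    (pow_mem (Algebra.subset_adjoin (Set.mem_singleton c)) _)

end Monogenic

end Groth.Agent.Lib.Seat10.Insep
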