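import Mathlib
import Groth.Agent.Lib.Seat10InsepA
import Groth.Agent.Lib.Seat10InsepB

/-!
# The case `C = B[π^(1/p)]` (Seat 10)

`exists_root_adjoin`: if `ϖ^p = u π_B` and `u` is a `p`-th power in `M`, then `C = B[c]` with
`c^p = π_B`.
-/

set_option autoImplicit false

universe u

namespace Groth.Agent.Lib.Seat10.Insep

open IsLocalRing Polynomial

section

variable {B C L M : Type*} [CommRing B] [IsDomain B] [IsDiscreteValuationRing B]
  [CommRing C] [IsDomain C] [IsDiscreteValuationRing C] [Algebra B C]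
  [Field L] [Field M] [Algebra B L] [IsFractionRing B L] [Algebra C M] [IsFractionRing C M]
  [Algebra L M] [Algebra B M] [IsScalarTower B L M] [IsScalarTower B C M]

theorem exists_root_adjoin (p : ℕ) (hp : p.Prime) (hdeg : Module.finrank L M = p)
    (hinj : Function.Injective (algebraMap B C)) (πB : B) (hπB : Irreducible πB)
    (ϖ : C) (u : Bˣ) (hϖ : Irreducible ϖ) (hϖp : ϖ ^ p = algebraMap B C ((u : B) * πB))
    (θ : M) (hθ : θ ^ p = algebraMap B M (u : B)) :
    ∃ c : C, c ^ p = algebraMap B C πB ∧ Algebra.adjoin B {c} = ⊤ := by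
  have hint : IsIntegral C (θ ^ p) := by
    rw [hθ, IsScalarTower.algebraMap_apply B C M]
    exact isIntegral_algebraMap
  obtain ⟨t, ht⟩ := IsIntegrallyClosed.exists_algebraMap_eq_of_isIntegral_pow (R := C) hp.pos hint
  have htp : t ^ p = algebraMap B C (u : B) := by
    apply IsFractionRing.injective C M
    rw [map_pow, ht, hθ, ← IsScalarTower.algebraMap_apply]
  have htu : IsUnit t := by
    rw [← isUnit_pow_iff hp.ne_zero, htp]
    exact u.isUnit.map _
  obtain ⟨tu, rfl⟩ := htu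
  have hu0 : algebraMap B C (u : B) ≠ 0 := (u.isUnit.map (algebraMap B C)).ne_zero
  have hcp : (ϖ * ((tu⁻¹ : Cˣ) : C)) ^ p = algebraMap B C πB := by
    apply mul_left_cancel₀ hu0
    rw [← map_mul, ← hϖp, ← htp, mul_pow, ← Units.val_pow_eq_pow_val, ← Units.val_pow_eq_pow_val,
      inv_pow]
    rw [mul_comm, mul_assoc, Units.inv_mul, mul_one]
  have hcirr : Irreducible (ϖ * ((tu⁻¹ : Cˣ) : C)) := (irreducible_mul_units _).mpr hϖ
  refine ⟨ϖ * ((tu⁻¹ : Cˣ) : C), hcp, ?_⟩
  exact adjoin_eq_top (L := L) (M := M) hinj πB hπB _ hcirr.maximalIdeal_eq p 1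
    (by rw [one_mul, hcp]) hp.ne_zero hdeg

end

end Groth.Agent.Lib.Seat10.Insep
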