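import Mathlib

/-!
# A Krull-intersection closedness lemma (Seat 10)

`mem_of_forall_mem_add_smul`: over a Noetherian local ring, a submodule `N` of a finitely generated
submodule `D` is closed for the adic topology of `D`: if `x ∈ N + r^m D` for all `m` (with `r` in
the maximal ideal) then `x ∈ N`.
-/

set_option autoImplicit false

universe u

namespace Groth.Agent.Lib.Seat10.Insep

open IsLocalRing

theorem mem_of_forall_mem_add_smul {R E : Type*} [CommRing R] [IsNoetherianRing R] [IsLocalRing R]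
    [AddCommGroup E] [Module R E] (D N : Submodule R E) (hD : D.FG) (hND : N ≤ D) (r : R)
    (hr : r ∈ maximalIdeal R) (x : E)
    (hx : ∀ m : ℕ, ∃ n ∈ N, ∃ d ∈ D, x = n + r ^ m • d) : x ∈ N := by
  have hxD : x ∈ D := by
    obtain ⟨n, hn, d, hd, h⟩ := hx 0
    rw [h, pow_zero, one_smul]
    exact add_mem (hND hn) hd
  have : Module.Finite R D := Module.Finite.iff_fg.mpr hD
  let N' : Submodule R D := N.comap D.subtype
  have hkrull := Ideal.iInf_pow_smul_eq_bot_of_isLocalRing (maximalIdeal R) (M := D ⧸ N')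
    (Ideal.IsPrime.ne_top inferInstance)
  have hq : N'.mkQ ⟨x, hxD⟩ ∈ (⨅ i : ℕ, maximalIdeal R ^ i • (⊤ : Submodule R (D ⧸ N'))) := by
    rw [Submodule.mem_iInf]
    intro m
    obtain ⟨n, hn, d, hd, h⟩ := hx m
    have h1 : (⟨x, hxD⟩ : D) = ⟨n, hND hn⟩ + r ^ m • ⟨d, hd⟩ := Subtype.ext h
    have h2 : N'.mkQ ⟨n, hND hn⟩ = 0 := by
      rw [Submodule.mkQ_apply, Submodule.Quotient.mk_eq_zero]
      exact hn
    rw [h1, map_add, h2, zero_add, map_smul]
    exact Submodule.smul_mem_smul (Ideal.pow_mem_pow hr m) Submodule.mem_top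
  rw [hkrull, Submodule.mem_bot, Submodule.mkQ_apply, Submodule.Quotient.mk_eq_zero] at hq
  exact hq

end Groth.Agent.Lib.Seat10.Insep
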