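import Mathlib
import Groth.Agent.Lib.Helper14Japanese
import Groth.Agent.Lib.Seat10InsepD

/-!
# Approximation by `p`-th powers forces a `p`-th root (Seat 10)

`B` an N-2 DVR with uniformizer `π`, `L = Frac B` of characteristic `p`, `M/L` of degree `p`
generated by `ϖ` with `ϖ^p = u π`.  If the unit `u` is, for every `k`, congruent mod `π^k` to
`∑_{i<k} f_i^p π^i`, then any `p`-th root `θ` of `u` in a finite extension `E` of `M` lies in `M`
(`mem_range_of_approx`).
-/

set_option autoImplicit false

universe u

namespace Groth.Agent.Lib.Seat10.Insep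

open IsLocalRing Polynomial

theorem mem_range_of_approx {B L M E : Type u} [CommRing B] [IsDomain B]
    [IsDiscreteValuationRing B]
    [Field L] [Field M] [Field E] [Algebra B L] [IsFractionRing B L] [Algebra L M] [Algebra B M]
    [IsScalarTower B L M] [Algebra M E] [Algebra L E] [Algebra B E] [IsScalarTower L M E]
    [IsScalarTower B L E] [FiniteDimensional L E]
    (hN2 : CAlg.IsN2 B) (p : ℕ) (hp : p.Prime) [CharP L p] (hdeg : Module.finrank L M = p)
    (πB : B) (hπB : Irreducible πB) (u : Bˣ) (ϖ : M)
    (hϖp : ϖ ^ p = algebraMap B M ((u : B) * πB)) (hϖL : ∀ l : L, algebraMap L M l ≠ ϖ)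
    (happrox : ∀ k : ℕ, ∃ (f : ℕ → B) (r : B),
      (u : B) = ∑ i ∈ Finset.range k, f i ^ p * πB ^ i + r * πB ^ k)
    (θ : E) (hθ : θ ^ p = algebraMap B E (u : B)) :
    ∃ θ' : M, algebraMap M E θ' = θ := by
  have : Fact p.Prime := ⟨hp⟩
  have : CharP E p := charP_of_injective_algebraMap (algebraMap L E).injective p
  have hBE : ∀ b : B, algebraMap B E b = algebraMap M E (algebraMap B M b) := by
    intro b
    rw [IsScalarTower.algebraMap_apply B L E, IsScalarTower.algebraMap_apply B L M,
      ← IsScalarTower.algebraMap_apply L M E]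
  have hinjBE : Function.Injective (algebraMap B E) := by
    rw [IsScalarTower.algebraMap_eq B L E]
    exact (algebraMap L E).injective.comp (IsFractionRing.injective B L)
  have hu0 : algebraMap B E (u : B) ≠ 0 := fun h => u.ne_zero (hinjBE (h.trans (map_zero _).symm))
  have hπ0 : algebraMap B E πB ≠ 0 := fun h => hπB.ne_zero (hinjBE (h.trans (map_zero _).symm))
  have hθ0 : θ ≠ 0 := by
    rintro rfl
    rw [zero_pow hp.ne_zero] at hθ
    exact hu0 hθ.symm
  set ϖE := algebraMap M E ϖ with hϖE
  set τ := ϖE * θ⁻¹ with hτ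
  have hτp : τ ^ p = algebraMap B E πB := by
    rw [hτ, mul_pow, inv_pow, hθ, hϖE, ← map_pow, hϖp, ← hBE, map_mul]
    field_simp
  have hτ0 : τ ≠ 0 := by
    intro h
    rw [h, zero_pow hp.ne_zero] at hτp
    exact hπ0 hτp.symm
  -- the integral closure is finite
  have hfinD : Module.Finite B (integralClosure B E) :=
    Groth.Agent.Lib.Helper14.IsN2.finite hN2 L E
  let D : Submodule B E := Subalgebra.toSubmodule (integralClosure B E)
  let N : Submodule B E := Subalgebra.toSubmodule (Algebra.adjoin B {τ})
  have hD : D.FG := (Groth.Agent.Lib.Helper14.finite_integralClosure_iff_fg B E).mp hfinD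
  have hτint : IsIntegral B τ := IsIntegral.of_pow hp.pos (hτp ▸ isIntegral_algebraMap)
  have hND : N ≤ D := by
    intro x hx
    have h1 : Algebra.adjoin B {τ} ≤ integralClosure B E := by
      apply Algebra.adjoin_le
      intro z hz
      rw [Set.mem_singleton_iff] at hz
      rw [hz]
      exact hτint
    exact h1 hx
  have hθN : θ ∈ N := by
    apply mem_of_forall_mem_add_smul D N hD hND πB
      (by rw [hπB.maximalIdeal_eq]; exact Ideal.mem_span_singleton_self _) θ
    intro m
    obtain ⟨f, r, hfr⟩ := happrox (p * m)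
    set s := ∑ i ∈ Finset.range (p * m), algebraMap B E (f i) * τ ^ i with hs
    have hsN : s ∈ N := by
      show s ∈ Algebra.adjoin B {τ}
      exact sum_mem fun i _ => mul_mem (Subalgebra.algebraMap_mem _ _)
        (pow_mem (Algebra.subset_adjoin (Set.mem_singleton τ)) _)
    set y := (θ - s) / algebraMap B E πB ^ m with hy
    have hsp : s ^ p = ∑ i ∈ Finset.range (p * m), algebraMap B E (f i ^ p * πB ^ i) := by
      rw [hs, sum_pow_char]
      refine Finset.sum_congr rfl fun i _ => ?_
      rw [mul_pow, ← pow_mul, mul_comm i p, pow_mul, hτp, map_mul, map_pow, map_pow]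
    have hyp : y ^ p = algebraMap B E r := by
      rw [hy, div_pow, sub_pow_char, hθ, hsp, ← map_sum, ← map_sub, ← pow_mul, mul_comm m p]
      have h1 : (u : B) - ∑ i ∈ Finset.range (p * m), f i ^ p * πB ^ i = r * πB ^ (p * m) := by
        rw [hfr]; ring
      rw [h1, map_mul, map_pow]
      field_simp
    have hyD : y ∈ D := IsIntegral.of_pow hp.pos (hyp ▸ isIntegral_algebraMap)
    refine ⟨s, hsN, y, hyD, ?_⟩
    rw [Algebra.smul_def, map_pow, hy]
    field_simp
    ring
  -- intermediate fields
  let F : IntermediateField L E := IntermediateField.adjoin L {τ}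
  have hτF : τ ∈ F := IntermediateField.mem_adjoin_simple_self L τ
  have hθF : θ ∈ F := by
    have h1 : Algebra.adjoin B {τ} ≤ (F.toSubalgebra).restrictScalars B := by
      apply Algebra.adjoin_le
      intro z hz
      rw [Set.mem_singleton_iff] at hz
      rw [hz]
      exact hτF
    exact h1 hθN
  have hϖF : ϖE ∈ F := by
    have h1 : ϖE = τ * θ := by
      rw [hτ, mul_assoc, inv_mul_cancel₀ hθ0, mul_one]
    rw [h1]
    exact mul_mem hτF hθF
  let ι : M →ₐ[L] E := IsScalarTower.toAlgHom L M E
  have hfinLM : FiniteDimensional L M := Module.finite_of_finrank_pos (by rw [hdeg]; exact hp.pos)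
  have hsimple := IntermediateField.isSimpleOrder_of_finrank_prime L M (by rw [hdeg]; exact hp)
  have htop : IntermediateField.adjoin L {ϖ} = (⊤ : IntermediateField L M) := by
    rcases hsimple.eq_bot_or_eq_top (IntermediateField.adjoin L {ϖ}) with h | h
    · exfalso
      rw [IntermediateField.adjoin_simple_eq_bot_iff, IntermediateField.mem_bot] at h
      obtain ⟨l, hl⟩ := h
      exact hϖL l hl
    · exact h
  have hrange : ι.fieldRange ≤ F := by
    rw [AlgHom.fieldRange_eq_map, ← htop, IntermediateField.adjoin_map, Set.image_singleton,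
      IntermediateField.adjoin_simple_le_iff]
    exact hϖF
  have hfinrank_range : Module.finrank L ι.fieldRange = p := by
    rw [← hdeg]
    exact (AlgEquiv.ofInjectiveField ι).toLinearEquiv.finrank_eq.symm
  have hF_le : Module.finrank L F ≤ p := by
    have hτpL : τ ^ p = algebraMap L E (algebraMap B L πB) := by
      rw [hτp, ← IsScalarTower.algebraMap_apply]
    have hτintL : IsIntegral L τ := IsIntegral.of_pow hp.pos (hτpL ▸ isIntegral_algebraMap)
    rw [IntermediateField.adjoin.finrank hτintL]
    have hdvd : minpoly L τ ∣ (X ^ p - C (algebraMap B L πB) : L[X]) :=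
      minpoly.dvd L τ (by simp [hτpL])
    calc (minpoly L τ).natDegree ≤ (X ^ p - C (algebraMap B L πB) : L[X]).natDegree :=
          natDegree_le_of_dvd hdvd (X_pow_sub_C_ne_zero hp.pos _)
      _ = p := natDegree_X_pow_sub_C
  have hEq : ι.fieldRange = F :=
    IntermediateField.eq_of_le_of_finrank_le hrange (by rw [hfinrank_range]; exact hF_le)
  have hτrange : τ ∈ ι.fieldRange := by rw [hEq]; exact hτF
  obtain ⟨τ', hτ'⟩ := hτrange
  refine ⟨ϖ / τ', ?_⟩
  have h2 : algebraMap M E τ' = τ := hτ'
  have hϖE0 : ϖE ≠ 0 := by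
    intro h
    rw [hτ, h, zero_mul] at hτ0
    exact hτ0 rfl
  rw [map_div₀, h2, ← hϖE, hτ]
  field_simp

end Groth.Agent.Lib.Seat10.Insep
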