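import Mathlib
import Groth.Agent.Lib.Seat10InsepE

/-!
# Dichotomy for the unit `u` in `ϖ^p = u π` (Seat 10)

`exists_root_or_expansion`: either `u` is a `p`-th power in `M`, or
`u = ∑_{i<m} f_i^p π^i + b π^m` with the residue of `b` not a `p`-th power in the residue field
of `B`.
-/

set_option autoImplicit false

universe u

namespace Groth.Agent.Lib.Seat10.Insep

open IsLocalRing Polynomial

theorem exists_root_or_expansion {B L M : Type u} [CommRing B] [IsDomain B]
    [IsDiscreteValuationRing B]
    [Field L] [Field M] [Algebra B L] [IsFractionRing B L] [Algebra L M] [Algebra B M]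
    [IsScalarTower B L M]
    (hN2 : CAlg.IsN2 B) (p : ℕ) (hp : p.Prime) [CharP L p] (hdeg : Module.finrank L M = p)
    (πB : B) (hπB : Irreducible πB) (u : Bˣ) (ϖ : M)
    (hϖp : ϖ ^ p = algebraMap B M ((u : B) * πB)) (hϖL : ∀ l : L, algebraMap L M l ≠ ϖ) :
    (∃ θ : M, θ ^ p = algebraMap B M (u : B)) ∨
      ∃ (m : ℕ) (f : ℕ → B) (b : B),
        (u : B) = ∑ i ∈ Finset.range m, f i ^ p * πB ^ i + b * πB ^ m ∧
        ∀ β : ResidueField B, β ^ p ≠ residue B b := by
  by_cases hroot : ∃ θ : M, θ ^ p = algebraMap B M (u : B)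
  · exact Or.inl hroot
  right
  push Not at hroot
  by_cases happ : ∀ k : ℕ, ∃ (f : ℕ → B) (r : B),
      (u : B) = ∑ i ∈ Finset.range k, f i ^ p * πB ^ i + r * πB ^ k
  · exfalso
    have hirr : Irreducible (X ^ p - C (algebraMap B M (u : B)) : M[X]) :=
      X_pow_sub_C_irreducible_of_prime hp hroot
    have : Fact (Irreducible (X ^ p - C (algebraMap B M (u : B)) : M[X])) := ⟨hirr⟩
    have hfinLM : FiniteDimensional L M :=
      Module.finite_of_finrank_pos (by rw [hdeg]; exact hp.pos)
    have hfinME : FiniteDimensional M (AdjoinRoot (X ^ p - C (algebraMap B M (u : B)) : M[X])) :=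
      (AdjoinRoot.powerBasis hirr.ne_zero).finite
    have hfinLE : FiniteDimensional L (AdjoinRoot (X ^ p - C (algebraMap B M (u : B)) : M[X])) :=
      FiniteDimensional.trans L M _
    have hrootp : (AdjoinRoot.root (X ^ p - C (algebraMap B M (u : B)) : M[X])) ^ p =
        algebraMap B (AdjoinRoot (X ^ p - C (algebraMap B M (u : B)) : M[X])) (u : B) := by
      have h1 := AdjoinRoot.eval₂_root (X ^ p - C (algebraMap B M (u : B)) : M[X])
      rw [eval₂_sub, eval₂_pow, eval₂_X, eval₂_C, sub_eq_zero] at h1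
      rw [h1, IsScalarTower.algebraMap_apply B M (AdjoinRoot _), AdjoinRoot.algebraMap_eq]
    obtain ⟨θ', hθ'⟩ := mem_range_of_approx (L := L) (M := M) hN2 p hp hdeg πB hπB u ϖ hϖp hϖL happ
      (AdjoinRoot.root (X ^ p - C (algebraMap B M (u : B)) : M[X])) hrootp
    apply hroot θ'
    apply (algebraMap M (AdjoinRoot (X ^ p - C (algebraMap B M (u : B)) : M[X]))).injective
    rw [map_pow, hθ', hrootp, IsScalarTower.algebraMap_apply B M (AdjoinRoot _)]
  · push Not at happ
    classical
    have h0 : Nat.find happ ≠ 0 := by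
      intro h0
      have h1 := Nat.find_spec happ
      rw [h0] at h1
      exact h1 (fun _ => 0) (u : B) (by simp)
    obtain ⟨m, hm⟩ : ∃ m, Nat.find happ = m + 1 := ⟨Nat.find happ - 1, by omega⟩
    have hPm := Nat.find_min happ (m := m) (by omega)
    push Not at hPm
    obtain ⟨f, r, hfr⟩ := hPm
    refine ⟨m, f, r, hfr, ?_⟩
    intro β hβ
    obtain ⟨g, rfl⟩ := residue_surjective β
    have h1 : r - g ^ p ∈ maximalIdeal B := by
      rw [← Ideal.Quotient.eq_zero_iff_mem]
      show residue B (r - g ^ p) = 0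
      rw [map_sub, map_pow, hβ, sub_self]
    rw [hπB.maximalIdeal_eq, Ideal.mem_span_singleton] at h1
    obtain ⟨r', hr'⟩ := h1
    have h2 := Nat.find_spec happ
    rw [hm] at h2
    apply h2 (Function.update f m g) r'
    rw [Finset.sum_range_succ, Function.update_self]
    have h3 : ∑ i ∈ Finset.range m, Function.update f m g i ^ p * πB ^ i =
        ∑ i ∈ Finset.range m, f i ^ p * πB ^ i := by
      refine Finset.sum_congr rfl fun i hi => ?_
      rw [Function.update_of_ne (Finset.mem_range.mp hi).ne]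
    rw [h3, hfr]
    have h4 : r = g ^ p + πB * r' := by rw [← hr']; ring
    rw [h4]
    ring

end Groth.Agent.Lib.Seat10.Insep
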