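import Mathlib
import Groth.Agent.Lib.Helper24DvrEF
import Groth.Agent.Lib.Seat10TowerU

/-!
# The key local computation for the third case (Seat 10)

`B → W` an extension of DVRs (characteristic `p`) with `[Frac W : Frac B] ≤ p²`, `π` a uniformizer of
`B`, `u = ∑_{i<m} f_i^p π^i + b π^m` a unit of `B` with `b̄ ∉ κ_B^p`.  If `W` contains `ϖ`, `π₁` with
`ϖ^p = u π` and `π₁^p = π (1 + π^(m+1) b₁)`, then `π₁` is a uniformizer of `W` and
`[Frac W : Frac B] = p²` (`core`).
-/

set_option autoImplicit false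

universe u

namespace Groth.Agent.Lib.Seat10.Insep

open IsLocalRing Polynomial

theorem isUnit_add_of_mem_maximalIdeal {W : Type*} [CommRing W] [IsLocalRing W] {x y : W}
    (hx : IsUnit x) (hy : y ∈ maximalIdeal W) : IsUnit (x + y) := by
  by_contra h
  have h1 : x + y ∈ maximalIdeal W := (mem_maximalIdeal _).mpr h
  have h2 : x ∈ maximalIdeal W := by
    have := Ideal.sub_mem _ h1 hy
    rwa [add_sub_cancel_right] at this
  exact (mem_maximalIdeal _).mp h2 hx

theorem core {B W L M' : Type u}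
    [CommRing B] [IsDomain B] [IsDiscreteValuationRing B] [CommRing W] [IsDomain W]
    [IsDiscreteValuationRing W]
    [Algebra B W] (hinj : Function.Injective (algebraMap B W)) [IsLocalHom (algebraMap B W)]
    [Field L] [Field M'] [Algebra B L] [IsFractionRing B L] [Algebra W M'] [IsFractionRing W M']
    [Algebra L M'] [Algebra B M'] [IsScalarTower B L M'] [IsScalarTower B W M']
    [FiniteDimensional L M']
    (p : ℕ) (hp : p.Prime) [CharP B p]
    (hfr : Module.finrank L M' ≤ p * p)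
    (πB : B) (hπB : Irreducible πB) (u : Bˣ) (m : ℕ) (f : ℕ → B) (b : B)
    (hu : (u : B) = ∑ i ∈ Finset.range m, f i ^ p * πB ^ i + b * πB ^ m)
    (hb : ∀ β : ResidueField B, β ^ p ≠ residue B b)
    (ϖ π₁ b₁ : W)
    (hϖ : ϖ ^ p = algebraMap B W ((u : B) * πB))
    (hπ₁ : π₁ ^ p = algebraMap B W πB * (1 + algebraMap B W πB ^ (m + 1) * b₁)) :
    Irreducible π₁ ∧ p * p ≤ Module.finrank L M' := by
  have : Fact p.Prime := ⟨hp⟩
  have : CharP W p := charP_of_injective_algebraMap hinj p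
  set ε : W := 1 + algebraMap B W πB ^ (m + 1) * b₁ with hε
  have hπBm : algebraMap B W πB ∈ maximalIdeal W := by
    rw [mem_maximalIdeal, mem_nonunits_iff]
    exact fun h => hπB.not_isUnit (isUnit_of_map_unit _ _ h)
  have hεm : algebraMap B W πB ^ (m + 1) * b₁ ∈ maximalIdeal W :=
    Ideal.mul_mem_right _ _ (Ideal.pow_mem_of_mem _ hπBm _ (Nat.succ_pos m))
  have hεu : IsUnit ε := isUnit_add_of_mem_maximalIdeal isUnit_one hεm
  have hπ0 : algebraMap B W πB ≠ 0 := fun h => hπB.ne_zero (hinj (h.trans (map_zero _).symm))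
  have hπ₁0 : π₁ ≠ 0 := by
    rintro rfl
    rw [zero_pow hp.ne_zero] at hπ₁
    exact (mul_ne_zero hπ0 hεu.ne_zero) hπ₁.symm
  have hϖ0 : ϖ ≠ 0 := by
    rintro rfl
    rw [zero_pow hp.ne_zero, map_mul] at hϖ
    exact (mul_ne_zero (u.isUnit.map (algebraMap B W)).ne_zero hπ0) hϖ.symm
  have hrel : ϖ ^ p * ε = algebraMap B W (u : B) * π₁ ^ p := by
    rw [hϖ, hπ₁, map_mul]; ring
  obtain ⟨t, ht⟩ : ∃ t, ϖ = π₁ * t := by
    rcases ValuationRing.dvd_total π₁ ϖ with h | h
    · exact h
    · obtain ⟨t', ht'⟩ := h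
      have h1 : ε = algebraMap B W (u : B) * t' ^ p := by
        apply mul_left_cancel₀ (pow_ne_zero p hϖ0)
        rw [hrel, ht']; ring
      have ht'u : IsUnit t' := by
        rw [← isUnit_pow_iff hp.ne_zero]
        exact isUnit_of_mul_isUnit_right (h1 ▸ hεu)
      obtain ⟨tu, rfl⟩ := ht'u
      exact ⟨((tu⁻¹ : Wˣ) : W), by rw [ht', mul_assoc, Units.mul_inv, mul_one]⟩
  have htp : ε * t ^ p = algebraMap B W (u : B) := by
    apply mul_left_cancel₀ (pow_ne_zero p hπ₁0)
    rw [ht, mul_pow] at hrel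
    linear_combination hrel
  -- the approximation `s` of `t`
  set s : W := ∑ i ∈ Finset.range m, algebraMap B W (f i) * π₁ ^ i with hs
  have hsp : s ^ p = ∑ i ∈ Finset.range m, algebraMap B W (f i ^ p * πB ^ i) * ε ^ i := by
    rw [hs, sum_pow_char]
    refine Finset.sum_congr rfl fun i _ => ?_
    rw [mul_pow, ← pow_mul, mul_comm i p, pow_mul, hπ₁, mul_pow, map_mul, map_pow, map_pow]
    ring
  have hdvd : ∀ i : ℕ, algebraMap B W πB ^ (m + 1) ∣ 1 - ε ^ (i + 1) := by
    intro i
    have h1 : (1 : W) - ε ∣ 1 ^ (i + 1) - ε ^ (i + 1) := sub_dvd_pow_sub_pow 1 ε (i + 1)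
    rw [one_pow] at h1
    refine dvd_trans ?_ h1
    exact ⟨-b₁, by rw [hε]; ring⟩
  choose c hc using hdvd
  set r : W := ∑ i ∈ Finset.range m, algebraMap B W (f i ^ p * πB ^ i) * c i with hr
  set g : W := algebraMap B W b + algebraMap B W πB * r with hg
  have huW : algebraMap B W (u : B) =
      ∑ i ∈ Finset.range m, algebraMap B W (f i ^ p * πB ^ i) +
        algebraMap B W b * algebraMap B W πB ^ m := by
    rw [hu, map_add, map_sum, map_mul, map_pow]
  have hkey : ε * (t - s) ^ p = algebraMap B W πB ^ m * g := by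
    rw [sub_pow_char, mul_sub, htp, hsp, huW, hg, hr, Finset.mul_sum, mul_add, mul_comm _ (algebraMap B W b),
      ← mul_assoc, ← pow_succ, Finset.mul_sum]
    rw [add_comm, add_sub_assoc, ← Finset.sum_sub_distrib]
    congr 1
    refine Finset.sum_congr rfl fun i _ => ?_
    have := hc i
    linear_combination (algebraMap B W (f i ^ p * πB ^ i)) * this
  have hbu : IsUnit b := by
    by_contra hnb
    have h1 : residue B b = 0 := (residue_eq_zero_iff b).mpr ((mem_maximalIdeal b).mpr hnb)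
    exact hb 0 (by rw [h1, zero_pow hp.ne_zero])
  have hgu : IsUnit g :=
    isUnit_add_of_mem_maximalIdeal (hbu.map (algebraMap B W)) (Ideal.mul_mem_right _ _ hπBm)
  have hπ₁pm : (π₁ ^ m) ^ p = algebraMap B W πB ^ m * ε ^ m := by
    rw [← pow_mul, mul_comm m p, pow_mul, hπ₁, mul_pow]
  obtain ⟨y, hy⟩ : ∃ y, t - s = π₁ ^ m * y := by
    rcases ValuationRing.dvd_total (π₁ ^ m) (t - s) with h | h
    · exact h
    · obtain ⟨y', hy'⟩ := h
      have h1 : ε ^ (m + 1) = g * y' ^ p := by
        apply mul_left_cancel₀ (pow_ne_zero m hπ0)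
        calc algebraMap B W πB ^ m * ε ^ (m + 1) = ε * (π₁ ^ m) ^ p := by rw [hπ₁pm]; ring
          _ = ε * ((t - s) * y') ^ p := by rw [← hy']
          _ = (ε * (t - s) ^ p) * y' ^ p := by rw [mul_pow]; ring
          _ = algebraMap B W πB ^ m * (g * y' ^ p) := by rw [hkey]; ring
      have hy'u : IsUnit y' := by
        rw [← isUnit_pow_iff hp.ne_zero]
        exact isUnit_of_mul_isUnit_right (h1 ▸ hεu.pow (m + 1))
      obtain ⟨yu, rfl⟩ := hy'u
      exact ⟨((yu⁻¹ : Wˣ) : W), by rw [hy', mul_assoc, Units.mul_inv, mul_one]⟩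
  have hyp : ε ^ (m + 1) * y ^ p = g := by
    apply mul_left_cancel₀ (pow_ne_zero m hπ0)
    calc algebraMap B W πB ^ m * (ε ^ (m + 1) * y ^ p) = ε * ((π₁ ^ m) ^ p * y ^ p) := by
          rw [hπ₁pm]; ring
      _ = ε * (t - s) ^ p := by rw [hy, mul_pow]
      _ = algebraMap B W πB ^ m * g := hkey
  -- residues
  have hε1 : residue W ε = 1 := by
    rw [hε, map_add, map_one, (residue_eq_zero_iff _).mpr hεm, add_zero]
  have hres : (residue W y) ^ p = algebraMap (ResidueField B) (ResidueField W) (residue B b) := by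
    have h1 := congrArg (residue W) hyp
    rw [map_mul, map_pow, map_pow, hε1, one_pow, one_mul] at h1
    rw [h1, hg, map_add, (residue_eq_zero_iff _).mpr (Ideal.mul_mem_right _ _ hπBm), add_zero]
    rfl
  obtain ⟨hfin, hle⟩ := Groth.Agent.Lib.Helper24DvrEF.s7132 B W L M' hinj
  have hirr : Irreducible (X ^ p - C (residue B b) : (ResidueField B)[X]) :=
    X_pow_sub_C_irreducible_of_prime hp hb
  have hmin : minpoly (ResidueField B) (residue W y) = X ^ p - C (residue B b) := by
    symm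
    apply minpoly.eq_of_irreducible_of_monic hirr _ (monic_X_pow_sub_C _ hp.ne_zero)
    simp [hres]
  have hf : p ≤ Module.finrank (ResidueField B) (ResidueField W) := by
    have h1 := minpoly.natDegree_le (A := ResidueField B) (residue W y)
    rw [hmin, natDegree_X_pow_sub_C] at h1
    exact h1
  -- the ramification index
  obtain ⟨πW, hπW⟩ := IsDiscreteValuationRing.exists_irreducible W
  obtain ⟨e₁, w, hw⟩ := IsDiscreteValuationRing.eq_unit_mul_pow_irreducible hπ₁0 hπW
  obtain ⟨εu, hεu'⟩ := hεu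
  have hπBW : algebraMap B W πB = ((w ^ p * εu⁻¹ : Wˣ) : W) * πW ^ (p * e₁) := by
    have h1 : algebraMap B W πB * ε = ((w ^ p : Wˣ) : W) * πW ^ (p * e₁) := by
      rw [← hπ₁, hw, mul_pow, ← pow_mul, Units.val_pow_eq_pow_val, mul_comm e₁ p]
    rw [Units.val_mul, mul_assoc, mul_comm ((εu⁻¹ : Wˣ) : W), ← mul_assoc, ← h1, ← hεu', mul_assoc,
      Units.mul_inv, mul_one]
  have hram : Ideal.ramificationIdx' (maximalIdeal B) (maximalIdeal W) = p * e₁ :=
    Groth.Agent.Lib.Seat10.Tower.ramificationIdx'_eq_of_eq_unit_mul_pow hπB.maximalIdeal_eq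
      hπW.maximalIdeal_eq hπW.ne_zero hπW.not_isUnit _ _ hπBW
  rw [hram] at hle
  have he₁0 : e₁ ≠ 0 := by
    rintro rfl
    rw [pow_zero, mul_one] at hw
    have h1 : IsUnit (π₁ ^ p) := by rw [hw]; exact w.isUnit.pow p
    rw [hπ₁] at h1
    exact (mem_maximalIdeal _).mp hπBm (isUnit_of_mul_isUnit_left h1)
  have hppos := hp.pos
  have h1 : p * e₁ * p ≤ p * p := by
    calc p * e₁ * p ≤ p * e₁ * Module.finrank (ResidueField B) (ResidueField W) :=
          Nat.mul_le_mul_left _ hf
      _ ≤ Module.finrank L M' := hle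
      _ ≤ p * p := hfr
  have he₁1 : e₁ = 1 := by
    have h2 : p * e₁ ≤ p * 1 := by
      rw [mul_one]
      exact Nat.le_of_mul_le_mul_right h1 hppos
    have := Nat.le_of_mul_le_mul_left h2 hppos
    omega
  constructor
  · rw [hw, he₁1, pow_one]
    exact (irreducible_units_mul w).mpr hπW
  · calc p * p = p * e₁ * p := by rw [he₁1, mul_one]
      _ ≤ p * e₁ * Module.finrank (ResidueField B) (ResidueField W) := Nat.mul_le_mul_left _ hf
      _ ≤ Module.finrank L M' := hle

end Groth.Agent.Lib.Seat10.Insep
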