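import Groth.Agent.Lib.Seat10ValDomA
import Groth.Agent.Lib.Helper4DVRDom

/-!
# Valuation rings of finite extensions dominating a DVR (Seat 10)

* `isDiscreteValuationRing_of_dominates_finite`: a valuation subring of a finite (possibly
  inseparable) extension of `Frac A` dominating the DVR `A` is a DVR (Krull–Akizuki, via
  `Helper4DVRDom`).
* `finiteDimensional_of_adjoin_eq_top`: a compositum `M = L[K₁]` with `K₁/K` finite is finite
  over `L`.
* `isAlgebraic_residueField_of_isAlgebraic`: algebraic local extensions of a DVR have algebraic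
  residue field extensions.
-/

set_option autoImplicit false

universe u

namespace Groth.Agent.Lib.Seat10.Tower

open EtRam IsLocalRing Groth.Agent.Lib.Seat10.ValDom

section DVR

variable (A K : Type u) {K₁ : Type u} [CommRing A] [IsDomain A] [IsDiscreteValuationRing A]
  [Field K] [Algebra A K] [IsFractionRing A K] [Field K₁] [Algebra K K₁] [FiniteDimensional K K₁]

/-- A valuation subring of a finite extension `K₁` of `K = Frac A` dominating the DVR `A` is a
DVR (Krull–Akizuki). -/
theorem isDiscreteValuationRing_of_dominates_finite (V : ValuationSubring K₁)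
    (h : Dominates A ((algebraMap K K₁).comp (algebraMap A K)) V) :
    IsDiscreteValuationRing V := by
  classical
  let _ : Algebra A K₁ := ((algebraMap K K₁).comp (algebraMap A K)).toAlgebra
  have : IsScalarTower A K K₁ := IsScalarTower.of_algebraMap_eq (fun _ => rfl)
  have hinjAK₁ : Function.Injective (algebraMap A K₁) := by
    rw [IsScalarTower.algebraMap_eq A K K₁]
    exact (algebraMap K K₁).injective.comp (IsFractionRing.injective A K)
  let b := Module.finBasis K K₁
  have halg : ∀ i, IsAlgebraic A (b i) := fun i =>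
    (IsFractionRing.isAlgebraic_iff A K K₁).mpr (Algebra.IsAlgebraic.isAlgebraic (b i))
  choose y hy0 hyint using fun i => (halg i).exists_integral_multiple
  let S : Set K₁ := Set.range (fun i => y i • b i)
  have hSfin : S.Finite := Set.finite_range _
  have hSint : ∀ x ∈ S, IsIntegral A x := by
    rintro _ ⟨i, rfl⟩
    exact hyint i
  let A' : Subalgebra A K₁ := Algebra.adjoin A S
  have hfin : Module.Finite A A' := Algebra.finite_adjoin_of_finite_of_isIntegral hSfin hSint
  have hnoeth : IsNoetherianRing A' := isNoetherian_of_tower A (isNoetherian_of_isNoetherianRing_of_finite A A')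
  have hint : Algebra.IsIntegral A A' := Algebra.IsIntegral.of_finite A A'
  have hdim1 : Ring.DimensionLEOne A' := Ring.DimensionLEOne.of_isIntegral A A'
  have hdim : ringKrullDim A' ≤ 1 := by
    have : Ring.KrullDimLE 1 A' := inferInstance
    exact Ring.krullDimLE_iff.mp this
  -- the fraction field
  have hclos : Subfield.closure ((A'.toSubring : Subring K₁) : Set K₁) = ⊤ := by
    rw [eq_top_iff]
    intro z _
    have hA : ∀ a : A, algebraMap A K₁ a ∈ Subfield.closure ((A'.toSubring : Subring K₁) : Set K₁) :=
      fun a => Subfield.subset_closure (A'.algebraMap_mem a)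
    have hK : ∀ c : K, algebraMap K K₁ c ∈
        Subfield.closure ((A'.toSubring : Subring K₁) : Set K₁) := by
      intro c
      obtain ⟨p, q, hq, rfl⟩ := IsFractionRing.div_surjective (A := A) c
      rw [map_div₀, ← IsScalarTower.algebraMap_apply, ← IsScalarTower.algebraMap_apply]
      exact div_mem (hA p) (hA q)
    have hb : ∀ i, b i ∈ Subfield.closure ((A'.toSubring : Subring K₁) : Set K₁) := by
      intro i
      have h1 : y i • b i ∈ Subfield.closure ((A'.toSubring : Subring K₁) : Set K₁) :=
        Subfield.subset_closure (Algebra.subset_adjoin ⟨i, rfl⟩)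
      have h2 : algebraMap A K₁ (y i) ≠ 0 := fun h0 => hy0 i (hinjAK₁ (by rw [h0, map_zero]))
      have h3 : b i = (algebraMap A K₁ (y i))⁻¹ * (y i • b i) := by
        rw [Algebra.smul_def, ← mul_assoc, inv_mul_cancel₀ h2, one_mul]
      rw [h3]
      exact mul_mem (inv_mem (hA _)) h1
    rw [← b.sum_repr z]
    refine sum_mem fun i _ => ?_
    rw [Algebra.smul_def]
    exact mul_mem (hK _) (hb i)
  have hfrac : IsFractionRing A'.toSubring K₁ :=
    Groth.Agent.Lib.Helper4.DVRDom.isFractionRing_of_closure_eq_top _ hclos
  -- `A' ⊆ V`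
  have hAV : ∀ a : A, algebraMap A K₁ a ∈ V := h.1
  have hle : A'.toSubring ≤ V.toSubring := by
    intro x hx
    have hx' : IsIntegral A x := by
      have := hint.isIntegral (⟨x, hx⟩ : A')
      exact this.map A'.val
    have hxV : IsIntegral V x :=
      IsIntegral.map_of_comp_eq (toVal h) (RingHom.id K₁) (by ext; rfl) hx'
    obtain ⟨z, hz⟩ := IsIntegrallyClosed.algebraMap_eq_of_integral hxV
    rw [← hz]
    exact z.2
  have hnoeth' : IsNoetherianRing A'.toSubring := hnoeth
  have hdim' : ringKrullDim A'.toSubring ≤ 1 := hdim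
  have hVnoeth : IsNoetherianRing V :=
    Groth.Agent.Lib.Helper4.DVRDom.isNoetherianRing_valuationSubring A'.toSubring hdim' V hle
  obtain ⟨π, hπ⟩ := IsDiscreteValuationRing.exists_irreducible A
  have hπm : π ∈ maximalIdeal A := by
    rw [IsLocalRing.mem_maximalIdeal]
    exact hπ.not_isUnit
  exact Groth.Agent.Lib.Helper4.DVRDom.isDiscreteValuationRing_of_isNoetherianRing V
    (x := algebraMap A K₁ π) (h.2 π hπm)
    (fun h0 => hπ.ne_zero (hinjAK₁ (by rw [h0, map_zero])))

end DVR

section Finite

/-- a compositum of `L` with a finite extension of `K` is finite over `L` -/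
theorem finiteDimensional_of_adjoin_eq_top (K : Type u) {L K₁ M : Type u} [Field K] [Field L]
    [Field K₁] [Field M] [Algebra K L] [Algebra K K₁]
    [Algebra K M] [Algebra L M] [Algebra K₁ M] [IsScalarTower K L M] [IsScalarTower K K₁ M]
    [FiniteDimensional K K₁]
    (hadj : Algebra.adjoin L (Set.range (algebraMap K₁ M)) = ⊤) : FiniteDimensional L M := by
  classical
  let b := Module.finBasis K K₁
  let S₀ : Set M := Set.range (fun i => algebraMap K₁ M (b i))
  have hint : ∀ x ∈ S₀, IsIntegral L x := by
    rintro _ ⟨i, rfl⟩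
    have h1 : IsIntegral K (b i) := Algebra.IsIntegral.isIntegral (b i)
    have h2 : IsIntegral K (algebraMap K₁ M (b i)) := h1.algebraMap
    exact h2.tower_top
  have htop : Algebra.adjoin L S₀ = ⊤ := by
    rw [eq_top_iff, ← hadj]
    apply Algebra.adjoin_le
    rintro _ ⟨k, rfl⟩
    rw [← b.sum_repr k, map_sum]
    refine sum_mem fun i _ => ?_
    rw [Algebra.smul_def, map_mul, ← IsScalarTower.algebraMap_apply K K₁ M,
      IsScalarTower.algebraMap_apply K L M]
    exact mul_mem (Subalgebra.algebraMap_mem _ _) (Algebra.subset_adjoin ⟨i, rfl⟩)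
  have hfin : Module.Finite L (Algebra.adjoin L S₀) :=
    Algebra.finite_adjoin_of_finite_of_isIntegral (Set.finite_range _) hint
  rw [htop] at hfin
  exact Module.Finite.equiv (Subalgebra.topEquiv (R := L) (A := M)).toLinearEquiv

end Finite

section ResAlg

open Polynomial

variable {A : Type*} [CommRing A] [IsDomain A] [IsDiscreteValuationRing A]

theorem exists_polynomial_not_dvd_coeff {π : A} (hπ : Irreducible π) {T : Type*} [CommRing T]
    [IsDomain T] [Algebra A T] (hinj : Function.Injective (algebraMap A T)) (v : T) :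
    ∀ n : ℕ, ∀ p : A[X], p ≠ 0 → IsDiscreteValuationRing.addVal A p.leadingCoeff = n →
      aeval v p = 0 → ∃ q : A[X], (∃ i, ¬ π ∣ q.coeff i) ∧ aeval v q = 0 := by
  intro n
  induction n with
  | zero =>
    intro p hp hn hv
    refine ⟨p, ?_, hv⟩
    by_contra hall
    push Not at hall
    have h1 : π ∣ p.leadingCoeff := hall _
    have h2 := (IsDiscreteValuationRing.addVal_le_iff_dvd (R := A)).mpr h1
    rw [hn, IsDiscreteValuationRing.addVal_uniformizer hπ] at h2
    exact absurd h2 (by norm_num)
  | succ n ih =>
    intro p hp hn hv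
    by_cases hall : ∀ i, π ∣ p.coeff i
    · obtain ⟨p', rfl⟩ := (Polynomial.C_dvd_iff_dvd_coeff π p).mpr hall
      have hp' : p' ≠ 0 := fun h0 => hp (by rw [h0, mul_zero])
      rw [leadingCoeff_mul, leadingCoeff_C, IsDiscreteValuationRing.addVal_mul,
        IsDiscreteValuationRing.addVal_uniformizer hπ] at hn
      have hn' : IsDiscreteValuationRing.addVal A p'.leadingCoeff = n := by
        have hne : IsDiscreteValuationRing.addVal A p'.leadingCoeff ≠ ⊤ := fun h =>
          (leadingCoeff_ne_zero.mpr hp') (IsDiscreteValuationRing.addVal_eq_top_iff.mp h)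
        obtain ⟨m, hm⟩ := ENat.ne_top_iff_exists.mp hne
        rw [← hm] at hn ⊢
        have : 1 + m = n + 1 := by exact_mod_cast hn
        have : m = n := by omega
        rw [this]
      rw [map_mul, aeval_C] at hv
      have hπT : algebraMap A T π ≠ 0 := fun h0 => hπ.ne_zero (hinj (by rw [h0, map_zero]))
      exact ih p' hp' hn' ((mul_eq_zero.mp hv).resolve_left hπT)
    · push Not at hall
      exact ⟨p, hall, hv⟩

/-- The residue field extension of an algebraic local extension of a DVR is algebraic. -/
theorem isAlgebraic_residueField_of_isAlgebraic {V : Type*} [CommRing V] [IsDomain V]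
    [IsLocalRing V] [Algebra A V] [IsLocalHom (algebraMap A V)] [Algebra.IsAlgebraic A V]
    (hinj : Function.Injective (algebraMap A V)) :
    Algebra.IsAlgebraic (ResidueField A) (ResidueField V) := by
  refine ⟨fun x => ?_⟩
  obtain ⟨v, rfl⟩ := IsLocalRing.residue_surjective x
  obtain ⟨π, hπ⟩ := IsDiscreteValuationRing.exists_irreducible A
  obtain ⟨p, hp0, hpv⟩ := Algebra.IsAlgebraic.isAlgebraic (R := A) v
  have hne : IsDiscreteValuationRing.addVal A p.leadingCoeff ≠ ⊤ := fun h =>
    (leadingCoeff_ne_zero.mpr hp0) (IsDiscreteValuationRing.addVal_eq_top_iff.mp h)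
  obtain ⟨m, hm⟩ := ENat.ne_top_iff_exists.mp hne
  obtain ⟨q, ⟨i, hi⟩, hqv⟩ := exists_polynomial_not_dvd_coeff hπ hinj v m p hp0 hm.symm hpv
  refine ⟨q.map (algebraMap A (ResidueField A)), ?_, ?_⟩
  · intro h0
    have h1 := congrArg (fun r => r.coeff i) h0
    simp only [coeff_map, coeff_zero] at h1
    rw [ResidueField.algebraMap_eq, IsLocalRing.residue_eq_zero_iff, hπ.maximalIdeal_eq,
      Ideal.mem_span_singleton] at h1
    exact hi h1
  · rw [aeval_map_algebraMap]
    have : residue V v = algebraMap V (ResidueField V) v := rfl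
    rw [this, aeval_algebraMap_apply, hqv, map_zero]

end ResAlg

end Groth.Agent.Lib.Seat10.Tower
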