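import Mathlib
import Groth.Agent.Lib.Seat10InsepG
import Groth.Agent.Lib.Seat10InsepH
import Groth.Agent.Lib.Seat10TowerH
import Groth.Agent.Lib.Seat10ValDomD

/-!
# The local extensions attached to `K₁/K` over `C` (Seat 10)

`concrete_core`: in the situation of the third case of the trichotomy, for every compositum `M'` of
`M` and `K₁` over `K` and every valuation subring `W` of `M'` dominating `C`, the element `π₁`
generates the maximal ideal of `W`, and `[M' : M] ≥ p`.
-/

set_option autoImplicit false

universe u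

namespace Groth.Agent.Lib.Seat10.Insep

open IsLocalRing TensorProduct EtRam Groth.Agent.Lib.Seat10.ValDom Groth.Agent.Lib.Seat10.Tower

theorem concrete_core (p : ℕ) (hp : p.Prime) (A B C K L M : Type u)
    [CommRing A] [IsDomain A] [IsDiscreteValuationRing A] [CommRing B] [IsDomain B]
    [IsDiscreteValuationRing B]
    [CommRing C] [IsDomain C] [IsDiscreteValuationRing C]
    [Algebra A B] [Algebra B C] [Algebra A C] [IsScalarTower A B C]
    [IsLocalHom (algebraMap B C)]
    [Field K] [Field L] [Field M] [Algebra A K] [IsFractionRing A K] [Algebra B L]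
    [IsFractionRing B L]
    [Algebra C M] [IsFractionRing C M] [Algebra K L] [Algebra L M] [Algebra K M]
    [IsScalarTower K L M]
    [Algebra A L] [IsScalarTower A K L] [IsScalarTower A B L] [Algebra B M] [IsScalarTower B L M]
    [IsScalarTower B C M]
    [Algebra A M] [IsScalarTower A K M] [IsScalarTower A C M]
    [CharP L p] (hdeg : Module.finrank L M = p)
    (π : A) (hπB : Irreducible (algebraMap A B π))
    (u : Bˣ) (m : ℕ) (f : ℕ → B) (b : B)
    (hu : (u : B) = ∑ i ∈ Finset.range m, f i ^ p * (algebraMap A B π) ^ i +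
      b * (algebraMap A B π) ^ m)
    (hb : ∀ β : ResidueField B, β ^ p ≠ residue B b)
    (ϖ : C) (hϖ : ϖ ^ p = algebraMap B C ((u : B) * algebraMap A B π))
    (K₁ : Type u) [Field K₁] [Algebra K K₁] [Algebra A K₁] [IsScalarTower A K K₁]
    (hK₁ : Module.finrank K K₁ = p)
    (π₁ b₁ : K₁) (hπ₁int : IsIntegral A π₁) (hb₁int : IsIntegral A b₁)
    (hπ₁ : π₁ ^ p = algebraMap A K₁ π + algebraMap A K₁ π ^ (m + 2) * b₁)
    (M' : Type u) [Field M'] [Algebra K M'] [Algebra M M'] [Algebra K₁ M'] [IsScalarTower K M M']
    [IsScalarTower K K₁ M']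
    (hadj : Algebra.adjoin M (Set.range (algebraMap K₁ M')) = ⊤)
    (W : ValuationSubring M')
    (hW : Dominates C ((algebraMap M M').comp (algebraMap C M)) W) :
    algebraMap K₁ M' π₁ ∈ W ∧ W.valuation (algebraMap K₁ M' π₁) < 1 ∧
      (∀ w ∈ W, W.valuation w < 1 → ∃ c ∈ W, w = c * algebraMap K₁ M' π₁) ∧
      p ≤ Module.finrank M M' := by
  have hfinK₁ : FiniteDimensional K K₁ :=
    Module.finite_of_finrank_pos (by rw [hK₁]; exact hp.pos)
  have hfinLM : FiniteDimensional L M := Module.finite_of_finrank_pos (by rw [hdeg]; exact hp.pos)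
  have hfinMM' : FiniteDimensional M M' := finiteDimensional_of_adjoin_eq_top K hadj
  have hWdvr : IsDiscreteValuationRing W := isDiscreteValuationRing_of_dominates_finite C M W hW
  let _ : Algebra L M' := ((algebraMap M M').comp (algebraMap L M)).toAlgebra
  have : IsScalarTower L M M' := IsScalarTower.of_algebraMap_eq (fun _ => rfl)
  have hfinLM' : FiniteDimensional L M' := FiniteDimensional.trans L M M'
  have hfinrank : Module.finrank L M' = p * Module.finrank M M' := by
    rw [← Module.finrank_mul_finrank L M M', hdeg]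
  let _ : Algebra B M' := ((algebraMap L M').comp (algebraMap B L)).toAlgebra
  have : IsScalarTower B L M' := IsScalarTower.of_algebraMap_eq (fun _ => rfl)
  have hBM' : ∀ b : B, algebraMap B M' b = algebraMap M M' (algebraMap C M (algebraMap B C b)) := by
    intro b
    show algebraMap M M' (algebraMap L M (algebraMap B L b)) = _
    rw [← IsScalarTower.algebraMap_apply B L M, IsScalarTower.algebraMap_apply B C M]
  have hAM' : ∀ a : A, algebraMap K₁ M' (algebraMap A K₁ a) = algebraMap B M' (algebraMap A B a) := by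
    intro a
    rw [hBM', ← IsScalarTower.algebraMap_apply A B C, ← IsScalarTower.algebraMap_apply A C M,
      IsScalarTower.algebraMap_apply A K K₁, ← IsScalarTower.algebraMap_apply K K₁ M',
      IsScalarTower.algebraMap_apply K M M', ← IsScalarTower.algebraMap_apply A K M]
  have hWB : Dominates B (algebraMap B M') W := by
    refine ⟨fun b => ?_, fun b hb => ?_⟩
    · rw [hBM']
      exact hW.1 _
    · rw [hBM']
      apply hW.2
      rw [mem_maximalIdeal, mem_nonunits_iff] at hb ⊢
      exact fun h => hb (isUnit_of_map_unit (algebraMap B C) b h)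
  have hinjBM' : Function.Injective (algebraMap B M') := by
    show Function.Injective ((algebraMap L M').comp (algebraMap B L))
    exact (algebraMap L M').injective.comp (IsFractionRing.injective B L)
  let _ : Algebra B W := (toVal hWB).toAlgebra
  have : IsLocalHom (algebraMap B W) := isLocalHom_toVal hWB
  have hinjBW : Function.Injective (algebraMap B W) := toVal_injective hWB hinjBM'
  have : IsScalarTower B W M' := IsScalarTower.of_algebraMap_eq (fun _ => rfl)
  have : CharP B p := ((algebraMap B L).charP_iff (IsFractionRing.injective B L) p).mpr inferInstance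
  -- elements of `W`
  have hgA : ∀ a : A, ((algebraMap K₁ M').comp (algebraMap A K₁)) a ∈ W := by
    intro a
    rw [RingHom.comp_apply, hAM']
    exact hWB.1 _
  have hint : ∀ x : K₁, IsIntegral A x → algebraMap K₁ M' x ∈ W := by
    intro x hx
    apply mem_of_isIntegralElem ((algebraMap K₁ M').comp (algebraMap A K₁)) W hgA
    obtain ⟨P, hP, hPx⟩ := hx
    refine ⟨P, hP, ?_⟩
    rw [← Polynomial.hom_eval₂, hPx, map_zero]
  have hπ₁W := hint π₁ hπ₁int
  have hb₁W := hint b₁ hb₁int
  have hcore := core (B := B) (W := W) (L := L) (M' := M') hinjBW p hp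
    (by rw [hfinrank, ← hK₁]
        exact Nat.mul_le_mul_left _ (hK₁ ▸ finrank_le_of_adjoin_eq_top K hadj))
    (algebraMap A B π) hπB u m f b hu hb
    ⟨algebraMap M M' (algebraMap C M ϖ), hW.1 ϖ⟩ ⟨algebraMap K₁ M' π₁, hπ₁W⟩
    ⟨algebraMap K₁ M' b₁, hb₁W⟩
    (by
      apply Subtype.ext
      show (algebraMap M M' (algebraMap C M ϖ)) ^ p = algebraMap B M' ((u : B) * algebraMap A B π)
      rw [hBM', ← hϖ, map_pow, map_pow])
    (by
      apply Subtype.ext
      show (algebraMap K₁ M' π₁) ^ p = algebraMap B M' (algebraMap A B π) *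
        (1 + algebraMap B M' (algebraMap A B π) ^ (m + 1) * algebraMap K₁ M' b₁)
      rw [← hAM', ← map_pow, hπ₁, map_add, map_mul, map_pow]
      ring)
  obtain ⟨hirr, hpp⟩ := hcore
  refine ⟨hπ₁W, ?_, ?_, ?_⟩
  · have h1 : (⟨algebraMap K₁ M' π₁, hπ₁W⟩ : W) ∈ maximalIdeal W := by
      rw [hirr.maximalIdeal_eq]
      exact Ideal.mem_span_singleton_self _
    exact (ValuationSubring.valuation_lt_one_iff W _).mp h1
  · intro w hw hlt
    have h1 : (⟨w, hw⟩ : W) ∈ maximalIdeal W := (ValuationSubring.valuation_lt_one_iff W _).mpr hlt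
    rw [hirr.maximalIdeal_eq, Ideal.mem_span_singleton'] at h1
    obtain ⟨c, hc⟩ := h1
    exact ⟨c, c.2, (congrArg Subtype.val hc).symm⟩
  · rw [hfinrank] at hpp
    exact Nat.le_of_mul_le_mul_left hpp hp.pos

end Groth.Agent.Lib.Seat10.Insep
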