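import Mathlib
import Groth.Agent.Lib.Helper14Newton
import Groth.Agent.Lib.Helper14ProjLim

/-!
# Approximating a finite separable extension of a complete discretely valued field (Seat 10)

Algebraic ingredients for the "Krasner" descent of finite separable extensions of the fraction
field of a complete DVR to a dense subring:

* `bezout_clear`: a Bezout relation `U f + V f' = D ≠ 0` over the base ring for a polynomial
  separable over the fraction field;
* `isAdicComplete_of_free`: finite free algebras over an adically complete ring are complete;
* `adjoin_eq_top_of_sub_mem`: (Nakayama) a perturbation of a generator modulo the radical is again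
  a generator.
-/

set_option autoImplicit false

namespace Groth.Agent.Lib.Seat10.Krasner

open Polynomial

/-- Clearing denominators in a Bezout relation for a polynomial which is separable over the
fraction field. -/
theorem bezout_clear {R Kh : Type*} [CommRing R] [IsDomain R] [Field Kh] [Algebra R Kh]
    [IsFractionRing R Kh] (f : R[X]) (hsep : (f.map (algebraMap R Kh)).Separable) :
    ∃ (D : R) (U V : R[X]), D ≠ 0 ∧ U * f + V * derivative f = C D := by
  obtain ⟨u, v, huv⟩ := hsep
  obtain ⟨bu, hbuM, hbu⟩ := IsLocalization.integerNormalization_spec (nonZeroDivisors R) u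
  obtain ⟨bv, hbvM, hbv⟩ := IsLocalization.integerNormalization_spec (nonZeroDivisors R) v
  refine ⟨bu * bv, C (bv : R) * IsLocalization.integerNormalization (nonZeroDivisors R) u,
    C (bu : R) * IsLocalization.integerNormalization (nonZeroDivisors R) v,
    mul_ne_zero (nonZeroDivisors.ne_zero hbuM) (nonZeroDivisors.ne_zero hbvM), ?_⟩
  apply Polynomial.map_injective (algebraMap R Kh) (IsFractionRing.injective R Kh)
  rw [derivative_map] at huv
  rw [Polynomial.map_add, Polynomial.map_mul, Polynomial.map_mul, Polynomial.map_mul,
    Polynomial.map_mul, hbu, hbv, Polynomial.map_C, Polynomial.map_C, Polynomial.map_C,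
    map_mul, C_mul, Algebra.smul_def, Algebra.smul_def,
    Polynomial.algebraMap_apply, Polynomial.algebraMap_apply]
  linear_combination (C (algebraMap R Kh bu) * C (algebraMap R Kh bv)) * huv

/-- Adic completeness transfers along linear equivalences. -/
theorem isAdicComplete_of_linearEquiv {R : Type*} [CommRing R] (I : Ideal R) {M N : Type*}
    [AddCommGroup M] [Module R M] [AddCommGroup N] [Module R N] (e : M ≃ₗ[R] N)
    [IsAdicComplete I M] : IsAdicComplete I N := by
  rw [← AdicCompletion.of_bijective_iff]
  have : ⇑(AdicCompletion.of I N) =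
      (AdicCompletion.congr I e) ∘ (AdicCompletion.of I M) ∘ e.symm := by
    ext x
    simp only [Function.comp_apply, AdicCompletion.congr_apply, AdicCompletion.map_of,
      LinearEquiv.coe_coe, LinearEquiv.apply_symm_apply]
  rw [this]
  exact (AdicCompletion.congr I e).bijective.comp
    ((AdicCompletion.of_bijective I M).comp e.symm.bijective)

/-- A finite free algebra over an adically complete ring is adically complete. -/
theorem isAdicComplete_of_free {R S : Type*} [CommRing R] [Nontrivial R] [CommRing S] [Algebra R S]
    (I : Ideal R) [IsAdicComplete I R] [Module.Free R S] [Module.Finite R S] :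
    IsAdicComplete (I.map (algebraMap R S)) S := by
  rw [IsAdicComplete.map_algebraMap_iff]
  haveI := Groth.Agent.Lib.Helper14.ProjLim.isAdicComplete_pi I (Module.finrank R S)
  exact isAdicComplete_of_linearEquiv I (Module.finBasis R S).equivFun.symm

/-- Nakayama: perturbing a generator of a finite algebra by an element of `I S`, with `I` in the
Jacobson radical, gives a generator again. -/
theorem adjoin_eq_top_of_sub_mem {R S : Type*} [CommRing R] [CommRing S] [Algebra R S]
    [Module.Finite R S] (I : Ideal R) (hI : I ≤ Ideal.jacobson ⊥) (a b : S)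
    (ha : Algebra.adjoin R {a} = ⊤) (hab : a - b ∈ I.map (algebraMap R S)) :
    Algebra.adjoin R {b} = ⊤ := by
  set J := I.map (algebraMap R S) with hJ
  let T : Subalgebra R S :=
    ((Algebra.adjoin R {b}).map (Ideal.Quotient.mkₐ R J)).comap (Ideal.Quotient.mkₐ R J)
  have haT : a ∈ T := by
    show Ideal.Quotient.mkₐ R J a ∈ (Algebra.adjoin R {b}).map (Ideal.Quotient.mkₐ R J)
    refine ⟨b, Algebra.self_mem_adjoin_singleton R b, ?_⟩
    exact (Ideal.Quotient.mk_eq_mk_iff_sub_mem a b).mpr hab |>.symm
  have hT : T = ⊤ := by
    rw [eq_top_iff, ← ha]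
    exact Algebra.adjoin_le (Set.singleton_subset_iff.mpr haT)
  have key : (⊤ : Submodule R S) ≤
      Subalgebra.toSubmodule (Algebra.adjoin R {b}) ⊔ I • (⊤ : Submodule R S) := by
    intro x _
    have hx : x ∈ T := hT ▸ Algebra.mem_top
    obtain ⟨y, hy, hyx⟩ := hx
    have hxy : x - y ∈ J := (Ideal.Quotient.mk_eq_mk_iff_sub_mem x y).mp hyx.symm
    rw [Ideal.smul_top_eq_map]
    have hx' : x = y + (x - y) := by ring
    rw [hx']
    exact Submodule.add_mem_sup hy hxy
  have h := Submodule.le_of_le_smul_of_le_jacobson_bot Module.Finite.fg_top hI key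
  exact Algebra.toSubmodule_eq_top.mp (top_le_iff.mp h)

end Groth.Agent.Lib.Seat10.Krasner
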