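import Mathlib
import Groth.Agent.Lib.Seat10KrasnerA

/-!
# Approximating a generator of a finite separable extension of a complete DVR field (Seat 10)

* `exists_root_adjoinRoot`: the Newton step in `R[X]/(f)`;
* `exists_approx_root`: if `R` is a complete DVR with fraction field `Kh`, `M/Kh` is finite
  separable and `ι : A → R` has dense image, then `M = Kh(β)` for a root `β` of a monic polynomial
  of degree `[M : Kh]` with coefficients in `A`.
-/

set_option autoImplicit false

namespace Groth.Agent.Lib.Seat10.Krasner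

open Polynomial IntermediateField

/-- The Newton step in the finite free algebra `R[X]/(f)` over a complete local ring: if
`U f + V f' = D`, then every polynomial congruent to `f` modulo `D² ϖ` (`ϖ` in the maximal ideal)
has a root congruent to the canonical root modulo the maximal ideal. -/
theorem exists_root_adjoinRoot {R : Type*} [CommRing R] [IsDomain R] [IsLocalRing R]
    [IsAdicComplete (IsLocalRing.maximalIdeal R) R]
    (f : R[X]) (hf : f.Monic) (D : R) (U V : R[X]) (hUV : U * f + V * derivative f = C D)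
    (ϖ : R) (hϖ : ϖ ∈ IsLocalRing.maximalIdeal R) (h : R[X]) :
    ∃ b : AdjoinRoot f, aeval b (f + C (D ^ 2 * ϖ) * h) = 0 ∧
      AdjoinRoot.root f - b ∈ (IsLocalRing.maximalIdeal R).map (algebraMap R (AdjoinRoot f)) := by
  classical
  haveI : Module.Free R (AdjoinRoot f) := hf.free_adjoinRoot
  haveI : Module.Finite R (AdjoinRoot f) := hf.finite_adjoinRoot
  set J := (IsLocalRing.maximalIdeal R).map (algebraMap R (AdjoinRoot f)) with hJ
  haveI hcomp : IsAdicComplete J (AdjoinRoot f) :=
    isAdicComplete_of_free (IsLocalRing.maximalIdeal R)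
  set a : AdjoinRoot f := AdjoinRoot.root f with ha
  set G : R[X] := f + C (D ^ 2 * ϖ) * h with hG
  have hfa : aeval a f = 0 := by rw [AdjoinRoot.aeval_eq, AdjoinRoot.mk_self]
  set d : AdjoinRoot f := aeval a (derivative f) with hd
  set c₀ : AdjoinRoot f := aeval a V with hc₀
  have hcd : c₀ * d = algebraMap R (AdjoinRoot f) D := by
    have := congrArg (aeval a) hUV
    rw [map_add, map_mul, map_mul, hfa, mul_zero, zero_add, aeval_C] at this
    exact this
  set p : AdjoinRoot f := algebraMap R (AdjoinRoot f) ϖ with hp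
  have hpJ : p ∈ J := Ideal.mem_map_of_mem _ hϖ
  have hjac : J ≤ (⊥ : Ideal (AdjoinRoot f)).jacobson := IsAdicComplete.le_jacobson_bot J
  -- values of `G` and `G'` at `a`
  have hGa : aeval a G = c₀ ^ 2 * d ^ 2 * p * aeval a h := by
    rw [hG, map_add, hfa, zero_add, map_mul, aeval_C, map_mul, map_pow, ← hcd]
    ring
  have hG'a : aeval a (derivative G) = d * (1 + p * (c₀ ^ 2 * d * aeval a (derivative h))) := by
    rw [hG, derivative_add, derivative_C_mul, map_add, map_mul, aeval_C, map_mul, map_pow, ← hcd]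
    ring
  set w : AdjoinRoot f := 1 + p * (c₀ ^ 2 * d * aeval a (derivative h)) with hw
  have hwu : IsUnit w := by
    have h1 : p ∈ (⊥ : Ideal (AdjoinRoot f)).jacobson := hjac hpJ
    have := Ideal.mem_jacobson_bot.mp h1 (c₀ ^ 2 * d * aeval a (derivative h))
    rwa [add_comm] at this
  obtain ⟨wu, hwu'⟩ := hwu
  -- Newton
  set F : (AdjoinRoot f)[X] := G.map (algebraMap R (AdjoinRoot f)) with hF
  have hFa : F.eval a = aeval a G := by rw [hF, eval_map_algebraMap]
  have hF'a : F.derivative.eval a = aeval a (derivative G) := by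
    rw [hF, derivative_map, eval_map_algebraMap]
  set s : AdjoinRoot f :=
    p * (c₀ ^ 2 * aeval a h * (((wu⁻¹ : (AdjoinRoot f)ˣ) : AdjoinRoot f)) ^ 2) with hs
  have hsJ : s ∈ J ^ 1 := by rw [pow_one]; exact Ideal.mul_mem_right _ _ hpJ
  have huu : (wu : AdjoinRoot f) * ((wu⁻¹ : (AdjoinRoot f)ˣ) : AdjoinRoot f) = 1 :=
    Units.mul_inv wu
  have hNewton : F.eval a = (F.derivative.eval a) ^ 2 * s := by
    rw [hFa, hF'a, hGa, hG'a, ← hwu', hs]
    calc c₀ ^ 2 * d ^ 2 * p * aeval a h
        = c₀ ^ 2 * d ^ 2 * p * aeval a h *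
          ((wu : AdjoinRoot f) * ((wu⁻¹ : (AdjoinRoot f)ˣ) : AdjoinRoot f)) ^ 2 := by
          rw [huu]; ring
      _ = _ := by ring
  obtain ⟨b, hb0, hba⟩ :=
    Groth.Agent.Lib.Helper14.Newton.exists_root_of_eval_eq_sq_mul J F a 1 le_rfl s hsJ hNewton
  refine ⟨b, ?_, ?_⟩
  · rw [← eval_map_algebraMap]; exact hb0
  · rw [pow_one] at hba
    rw [← neg_sub]; exact J.neg_mem hba

/-- Let `R` be a complete DVR with fraction field `Kh`, `M/Kh` a finite separable extension and
`ι : A → R` a ring homomorphism with dense image. Then `M` is generated by a root of a monic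
polynomial of degree `[M : Kh]` with coefficients in (the image of) `A`. -/
theorem exists_approx_root
    {A R Kh M : Type*} [CommRing A] [CommRing R] [IsDomain R] [IsDiscreteValuationRing R]
    [IsAdicComplete (IsLocalRing.maximalIdeal R) R]
    [Field Kh] [Algebra R Kh] [IsFractionRing R Kh] [Field M] [Algebra Kh M] [Algebra R M]
    [IsScalarTower R Kh M] [FiniteDimensional Kh M] [Algebra.IsSeparable Kh M]
    (ι : A →+* R)
    (hdense : ∀ (r : R) (N : ℕ), ∃ a : A, r - ι a ∈ IsLocalRing.maximalIdeal R ^ N) :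
    ∃ (g₀ : A[X]) (β : M), g₀.Monic ∧ g₀.natDegree = Module.finrank Kh M ∧
      aeval β (g₀.map ι) = 0 ∧ Kh⟮β⟯ = ⊤ := by
  classical
  obtain ⟨α₀, hα₀⟩ := Field.exists_primitive_element Kh M
  have halg : IsAlgebraic R α₀ :=
    (IsFractionRing.isAlgebraic_iff R Kh M).mpr (Algebra.IsAlgebraic.isAlgebraic α₀)
  obtain ⟨y, hy0, hyint⟩ := halg.exists_integral_multiple
  set α : M := y • α₀ with hα
  have hαtop : Kh⟮α⟯ = ⊤ := by
    rw [eq_top_iff, ← hα₀, IntermediateField.adjoin_simple_le_iff]
    have h1 : α ∈ Kh⟮α⟯ := mem_adjoin_simple_self Kh α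
    have hy' : algebraMap R Kh y ≠ 0 :=
      (map_ne_zero_iff _ (IsFractionRing.injective R Kh)).mpr hy0
    have h2 : α₀ = (algebraMap R Kh y)⁻¹ • α := by
      rw [hα, ← algebraMap_smul Kh y α₀, smul_smul, inv_mul_cancel₀ hy', one_smul]
    rw [h2]
    exact Kh⟮α⟯.smul_mem h1
  set f : R[X] := minpoly R α with hf
  have hfmonic : f.Monic := minpoly.monic hyint
  have hfmap : minpoly Kh α = f.map (algebraMap R Kh) :=
    minpoly.isIntegrallyClosed_eq_field_fractions' Kh hyint
  have hsep : (f.map (algebraMap R Kh)).Separable :=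
    hfmap ▸ Algebra.IsSeparable.isSeparable Kh α
  have hdeg : f.natDegree = Module.finrank Kh M := by
    have h1 := IntermediateField.adjoin.finrank (Algebra.IsIntegral.isIntegral (R := Kh) α)
    rw [hαtop, IntermediateField.finrank_top', hfmap, hfmonic.natDegree_map] at h1
    exact h1.symm
  obtain ⟨D, U, V, hD, hUV⟩ := bezout_clear f hsep
  obtain ⟨ϖ, hϖ⟩ := IsDiscreteValuationRing.exists_irreducible R
  have hϖm : ϖ ∈ IsLocalRing.maximalIdeal R := by
    rw [hϖ.maximalIdeal_eq]; exact Ideal.mem_span_singleton_self ϖ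
  set e : R := D ^ 2 * ϖ with he
  have he0 : e ≠ 0 := mul_ne_zero (pow_ne_zero 2 hD) hϖ.ne_zero
  have hspan0 : Ideal.span {e} ≠ ⊥ := by
    rw [Ne, Ideal.span_singleton_eq_bot]; exact he0
  obtain ⟨N, hN⟩ := IsDiscreteValuationRing.ideal_eq_span_pow_irreducible hspan0 hϖ
  have hmN : IsLocalRing.maximalIdeal R ^ N = Ideal.span {e} := by
    rw [hN, hϖ.maximalIdeal_eq, Ideal.span_singleton_pow]
  -- approximate the coefficients
  have happ : ∀ i : ℕ, ∃ a : A, e ∣ f.coeff i - ι a := by
    intro i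
    obtain ⟨a, ha⟩ := hdense (f.coeff i) N
    rw [hmN, Ideal.mem_span_singleton] at ha
    exact ⟨a, ha⟩
  choose a ha using happ
  set n := f.natDegree with hn
  set g₀ : A[X] := X ^ n + Polynomial.ofFn n (fun i : Fin n => a i) with hg₀
  have hg₀monic : g₀.Monic := monic_X_pow_add (Polynomial.ofFn_degree_lt _)
  have hcoeff : ∀ j, e ∣ f.coeff j - (g₀.map ι).coeff j := by
    intro j
    rw [coeff_map, hg₀, coeff_add, coeff_X_pow]
    rcases lt_trichotomy j n with hj | hj | hj
    · rw [if_neg hj.ne, zero_add, Polynomial.ofFn_coeff_eq_val_of_lt _ hj]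
      exact ha j
    · rw [if_pos hj, Polynomial.ofFn_coeff_eq_zero_of_ge _ hj.ge, add_zero, map_one, hj, hn,
        hfmonic.coeff_natDegree, sub_self]
      exact dvd_zero e
    · rw [if_neg hj.ne', Polynomial.ofFn_coeff_eq_zero_of_ge _ hj.le, add_zero, map_zero,
        coeff_eq_zero_of_natDegree_lt hj, sub_self]
      exact dvd_zero e
  have hdvd : C e ∣ g₀.map ι - f := by
    rw [Polynomial.C_dvd_iff_dvd_coeff]
    intro j
    rw [coeff_sub, ← neg_sub, dvd_neg]
    exact hcoeff j
  obtain ⟨h, hh⟩ := hdvd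
  have hGeq : g₀.map ι = f + C (D ^ 2 * ϖ) * h := by rw [← he, ← hh]; ring
  obtain ⟨b, hb0, hba⟩ := exists_root_adjoinRoot f hfmonic D U V hUV ϖ hϖm h
  rw [← hGeq] at hb0
  -- the map to `M`
  have hfα : f.eval₂ (Algebra.ofId R M) α = 0 := minpoly.aeval R α
  let φ : AdjoinRoot f →ₐ[R] M := AdjoinRoot.liftAlgHom f (Algebra.ofId R M) α hfα
  have hφa : φ (AdjoinRoot.root f) = α := AdjoinRoot.liftAlgHom_root f _ α hfα
  haveI : Module.Finite R (AdjoinRoot f) := hfmonic.finite_adjoinRoot
  have hbtop : Algebra.adjoin R {b} = ⊤ :=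
    adjoin_eq_top_of_sub_mem (IsLocalRing.maximalIdeal R) (IsLocalRing.maximalIdeal_le_jacobson ⊥)
      _ b AdjoinRoot.adjoinRoot_eq_top hba
  refine ⟨g₀, φ b, hg₀monic, ?_, ?_, ?_⟩
  · haveI : Nontrivial A := ι.domain_nontrivial
    have h1 : (Polynomial.ofFn n fun i : Fin n => a i).degree < (X ^ n : A[X]).degree := by
      rw [degree_X_pow]; exact Polynomial.ofFn_degree_lt _
    rw [hg₀, natDegree_add_eq_left_of_degree_lt h1, natDegree_X_pow, ← hdeg]
  · rw [Polynomial.aeval_algHom_apply, hb0, map_zero]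
  · rw [eq_top_iff, ← hαtop, IntermediateField.adjoin_simple_le_iff]
    have key : ∀ x ∈ Algebra.adjoin R {b}, φ x ∈ Kh⟮φ b⟯ := by
      intro x hx
      induction hx using Algebra.adjoin_induction with
      | mem x hx =>
        rw [Set.mem_singleton_iff.mp hx]; exact mem_adjoin_simple_self Kh _
      | algebraMap r =>
        rw [AlgHom.commutes, IsScalarTower.algebraMap_apply R Kh M]
        exact Kh⟮φ b⟯.algebraMap_mem _
      | add x y _ _ hx hy => rw [map_add]; exact add_mem hx hy
      | mul x y _ _ hx hy => rw [map_mul]; exact mul_mem hx hy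
    rw [← hφa]
    exact key _ (hbtop ▸ Algebra.mem_top)

end Groth.Agent.Lib.Seat10.Krasner
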