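import Mathlib
import Groth.Agent.Lib.Seat10KrasnerB

/-!
# Descent of finite separable extensions from the completion (Seat 10)

* `isSeparable_adjoinRoot`: `K[X]/(g)` is separable over `K` for `g` monic irreducible separable;
* `dense_adicCompletion`: a Noetherian local ring is dense in its completion;
* `exists_descent`: if `R` is a complete DVR with fraction field `Kh`, `A → R` has dense image and
  `K → Kh` is a field containing the image of `A`, then every finite separable extension of `Kh` is
  `Kh ⊗_K L` for a finite separable extension `L/K`.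
-/

set_option autoImplicit false

universe u v w

namespace Groth.Agent.Lib.Seat10.Krasner

open Polynomial IntermediateField TensorProduct

/-- Adjoining a root of a monic irreducible separable polynomial gives a separable extension. -/
theorem isSeparable_adjoinRoot {K : Type*} [Field K] (g : K[X]) [Fact (Irreducible g)]
    (hmonic : g.Monic) (hg : g.Separable) : Algebra.IsSeparable K (AdjoinRoot g) := by
  rw [← separableClosure.eq_top_iff]
  have hroot : AdjoinRoot.root g ∈ separableClosure K (AdjoinRoot g) := by
    rw [mem_separableClosure_iff, IsSeparable, AdjoinRoot.minpoly_root hmonic.ne_zero,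
      hmonic.leadingCoeff, inv_one, C_1, mul_one]
    exact hg
  have htop : IntermediateField.adjoin K {AdjoinRoot.root g} = ⊤ :=
    IntermediateField.adjoin_eq_top_of_algebra K _ AdjoinRoot.adjoinRoot_eq_top
  rw [eq_top_iff, ← htop, IntermediateField.adjoin_simple_le_iff]
  exact hroot

/-- A Noetherian local ring is dense in its completion. -/
theorem dense_adicCompletion (A : Type*) [CommRing A] [IsLocalRing A] [IsNoetherianRing A]
    (r : AdicCompletion (IsLocalRing.maximalIdeal A) A) (N : ℕ) :
    ∃ a : A, r - algebraMap A (AdicCompletion (IsLocalRing.maximalIdeal A) A) a ∈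
      IsLocalRing.maximalIdeal (AdicCompletion (IsLocalRing.maximalIdeal A) A) ^ N := by
  obtain ⟨a, ha⟩ := Submodule.Quotient.mk_surjective _
    (AdicCompletion.eval (IsLocalRing.maximalIdeal A) A N r)
  refine ⟨a, ?_⟩
  have h1 : r - AdicCompletion.of (IsLocalRing.maximalIdeal A) A a ∈
      ((IsLocalRing.maximalIdeal A) ^ N • ⊤ :
        Submodule A (AdicCompletion (IsLocalRing.maximalIdeal A) A)) := by
    rw [AdicCompletion.pow_smul_top_eq_ker_eval (IsLocalRing.maximalIdeal A).fg_of_isNoetherianRing,
      LinearMap.mem_ker, map_sub, sub_eq_zero, AdicCompletion.eval_of, ← ha]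
    rfl
  rw [Ideal.smul_top_eq_map] at h1
  rw [AdicCompletion.maximalIdeal_eq_map, ← Ideal.map_pow]
  exact h1

/-- Descent of finite separable extensions along a dense subfield of a complete discretely valued
field. -/
theorem exists_descent {A : Type v} {K : Type u} {R : Type w} {Kh M : Type*}
    [CommRing A] [Field K] [Algebra A K]
    [CommRing R] [IsDomain R] [IsDiscreteValuationRing R]
    [IsAdicComplete (IsLocalRing.maximalIdeal R) R]
    [Field Kh] [Algebra R Kh] [IsFractionRing R Kh] [Algebra A R] [Algebra A Kh] [Algebra K Kh]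
    [IsScalarTower A R Kh] [IsScalarTower A K Kh]
    [Field M] [Algebra Kh M] [FiniteDimensional Kh M] [Algebra.IsSeparable Kh M]
    (hdense : ∀ (r : R) (N : ℕ), ∃ a : A, r - algebraMap A R a ∈ IsLocalRing.maximalIdeal R ^ N) :
    ∃ (L : Type u) (_ : Field L) (_ : Algebra K L), FiniteDimensional K L ∧
      Algebra.IsSeparable K L ∧ Nonempty ((Kh ⊗[K] L) ≃ₐ[Kh] M) := by
  classical
  letI algRM : Algebra R M := ((algebraMap Kh M).comp (algebraMap R Kh)).toAlgebra
  haveI tRM : IsScalarTower R Kh M := IsScalarTower.of_algebraMap_eq fun _ => rfl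
  letI algKM : Algebra K M := ((algebraMap Kh M).comp (algebraMap K Kh)).toAlgebra
  haveI tKM : IsScalarTower K Kh M := IsScalarTower.of_algebraMap_eq fun _ => rfl
  obtain ⟨g₀, β, hg₀monic, hg₀deg, hβ0, hβtop⟩ :=
    exists_approx_root (Kh := Kh) (M := M) (algebraMap A R) hdense
  set gK : K[X] := g₀.map (algebraMap A K) with hgK
  set gKh : Kh[X] := gK.map (algebraMap K Kh) with hgKh
  have hgKh' : gKh = (g₀.map (algebraMap A R)).map (algebraMap R Kh) := by
    rw [hgKh, hgK, Polynomial.map_map, Polynomial.map_map, ← IsScalarTower.algebraMap_eq,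
      ← IsScalarTower.algebraMap_eq]
  have hgKmonic : gK.Monic := hg₀monic.map _
  have hgKhmonic : gKh.Monic := hgKmonic.map _
  have hβ : aeval β gKh = 0 := by
    rw [hgKh', aeval_map_algebraMap]
    exact hβ0
  have hβint : IsIntegral Kh β := Algebra.IsIntegral.isIntegral β
  have hdegKh : gKh.natDegree = Module.finrank Kh M := by
    rw [hgKh, hgKmonic.natDegree_map, hgK, hg₀monic.natDegree_map, hg₀deg]
  have hmin : gKh = minpoly Kh β := by
    refine Polynomial.eq_of_monic_of_dvd_of_natDegree_le (minpoly.monic hβint) hgKhmonic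
      (minpoly.dvd Kh β hβ) ?_
    have h1 := IntermediateField.adjoin.finrank hβint
    rw [hβtop, IntermediateField.finrank_top'] at h1
    rw [hdegKh, h1]
  have hirrKh : Irreducible gKh := hmin ▸ minpoly.irreducible hβint
  have hsepKh : gKh.Separable := hmin ▸ Algebra.IsSeparable.isSeparable Kh β
  have hirrK : Irreducible gK :=
    Polynomial.Monic.irreducible_of_irreducible_map (algebraMap K Kh) gK hgKmonic hirrKh
  have hsepK : gK.Separable := (Polynomial.separable_map (algebraMap K Kh)).mp hsepKh
  haveI : Fact (Irreducible gK) := ⟨hirrK⟩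
  haveI hfin : FiniteDimensional K (AdjoinRoot gK) :=
    (AdjoinRoot.powerBasis hgKmonic.ne_zero).finite
  haveI hsepL : Algebra.IsSeparable K (AdjoinRoot gK) := isSeparable_adjoinRoot gK hgKmonic hsepK
  refine ⟨AdjoinRoot gK, inferInstance, inferInstance, hfin, hsepL, ?_⟩
  -- the comparison map
  have hβK : gK.eval₂ (Algebra.ofId K M) β = 0 := by
    have h1 : aeval β gK = 0 := by
      rw [← aeval_map_algebraMap Kh]
      exact hβ
    exact h1
  let ψ : AdjoinRoot gK →ₐ[K] M := AdjoinRoot.liftAlgHom gK (Algebra.ofId K M) β hβK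
  have hψ : ψ (AdjoinRoot.root gK) = β := AdjoinRoot.liftAlgHom_root gK _ β hβK
  let Φ : Kh ⊗[K] AdjoinRoot gK →ₐ[Kh] M :=
    Algebra.TensorProduct.lift (Algebra.ofId Kh M) ψ (fun _ _ => Commute.all _ _)
  have hΦβ : Φ (1 ⊗ₜ AdjoinRoot.root gK) = β := by
    rw [Algebra.TensorProduct.lift_tmul, map_one, one_mul, hψ]
  have hsurj : Function.Surjective Φ := by
    rw [← AlgHom.range_eq_top, eq_top_iff]
    have h1 : Algebra.adjoin Kh {β} = ⊤ := by
      rw [← IntermediateField.adjoin_simple_toSubalgebra_of_isAlgebraic hβint.isAlgebraic, hβtop,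
        IntermediateField.top_toSubalgebra]
    rw [← h1]
    refine Algebra.adjoin_le ?_
    rw [Set.singleton_subset_iff]
    exact ⟨_, hΦβ⟩
  have hfr : Module.finrank Kh (Kh ⊗[K] AdjoinRoot gK) = Module.finrank Kh M := by
    rw [Module.finrank_baseChange, (AdjoinRoot.powerBasis hgKmonic.ne_zero).finrank,
      AdjoinRoot.powerBasis_dim, hgK, hg₀monic.natDegree_map, hg₀deg]
  have hinj : Function.Injective Φ :=
    (LinearMap.injective_iff_surjective_of_finrank_eq_finrank (f := Φ.toLinearMap) hfr).mpr hsurj
  exact ⟨AlgEquiv.ofBijective Φ ⟨hinj, hsurj⟩⟩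

end Groth.Agent.Lib.Seat10.Krasner
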