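import Mathlib

/-!
# The polynomial `P` with `w^p P(t) = (1 + w t)^p - 1`, `w = 1 - ζ` (Seat 10)

Ring-level facts: `P` is monic of degree `p`, `p = ε w^(p-1)` with `ε` a unit, and the derivative of
`P - a` is a unit modulo `P - a` when `1 + w^p a` is a unit.
-/

set_option autoImplicit false

universe u

namespace Groth.Agent.Lib.Seat10.Kum

open Polynomial Finset

variable {A : Type u} [CommRing A] [IsDomain A] {p : ℕ}

theorem isPrimitiveRoot_of_aeval_cyclotomic [CharZero A] (hp : p.Prime) (ζ : A)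
    (hζ : aeval ζ (cyclotomic p ℤ) = 0) : IsPrimitiveRoot ζ p := by
  haveI : NeZero ((p : ℕ) : A) := ⟨by exact_mod_cast hp.ne_zero⟩
  rw [← isRoot_cyclotomic_iff, IsRoot.def, ← map_cyclotomic_int p A, eval_map, ← hζ, aeval_def]
  rfl

theorem one_sub_ne_zero (hp : p.Prime) {ζ : A} (hζ : IsPrimitiveRoot ζ p) : 1 - ζ ≠ 0 := by
  intro h
  have h1 : ζ = 1 := (sub_eq_zero.mp h).symm
  exact hp.one_lt.ne' (hζ.unique (h1 ▸ IsPrimitiveRoot.one))

/-- `p = ε (1 - ζ)^(p-1)` with `ε` a unit -/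
theorem exists_unit_natCast_eq (hp : p.Prime) {ζ : A} (hζ : IsPrimitiveRoot ζ p) :
    ∃ ε : Aˣ, ((p : ℕ) : A) = ε * (1 - ζ) ^ (p - 1) := by
  obtain ⟨n, rfl⟩ : ∃ n, p = n + 1 := ⟨p - 1, (Nat.succ_pred_eq_of_pos hp.pos).symm⟩
  have h1 := hζ.prod_one_sub_pow_eq_order
  have h2 : ∀ k ∈ range n, (1 - ζ ^ (k + 1)) = (1 - ζ) * ∑ i ∈ range (k + 1), ζ ^ i := by
    intro k _
    rw [mul_neg_geom_sum]
  rw [Finset.prod_congr rfl h2, Finset.prod_mul_distrib, Finset.prod_const, card_range] at h1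
  have h3 : IsUnit (∏ k ∈ range n, ∑ i ∈ range (k + 1), ζ ^ i) := by
    rw [IsUnit.prod_iff]
    intro k hk
    rw [mem_range] at hk
    apply hζ.geom_sum_isUnit hp.two_le
    rw [Nat.coprime_comm, Nat.Prime.coprime_iff_not_dvd hp]
    intro hdvd
    have := Nat.le_of_dvd (Nat.succ_pos k) hdvd
    omega
  obtain ⟨ε, hε⟩ := h3
  refine ⟨ε, ?_⟩
  rw [hε, Nat.add_sub_cancel, mul_comm, h1]
  push_cast
  ring

section P

variable (hp : p.Prime) {ζ : A} (hζ : IsPrimitiveRoot ζ p) {P : A[X]}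
  (hP : C ((1 - ζ) ^ p) * P = (1 + C (1 - ζ) * X) ^ p - 1)

include hp hζ in
theorem rhs_natDegree : ((1 + C (1 - ζ) * X) ^ p - 1 : A[X]).natDegree = p := by
  have hw := one_sub_ne_zero hp hζ
  have h1 : (1 + C (1 - ζ) * X : A[X]) = C (1 - ζ) * X + C 1 := by rw [C_1]; ring
  have h2 : ((1 + C (1 - ζ) * X) ^ p : A[X]).natDegree = p := by
    rw [natDegree_pow, h1, natDegree_linear hw, mul_one]
  have h3 : ((1 + C (1 - ζ) * X) ^ p - 1 : A[X]) = (1 + C (1 - ζ) * X) ^ p - C 1 := by rw [C_1]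
  rw [h3, natDegree_sub_C, h2]

include hp hζ in
theorem rhs_leadingCoeff :
    ((1 + C (1 - ζ) * X) ^ p - 1 : A[X]).leadingCoeff = (1 - ζ) ^ p := by
  have hw := one_sub_ne_zero hp hζ
  have h1 : (1 + C (1 - ζ) * X : A[X]) = C (1 - ζ) * X + C 1 := by rw [C_1]; ring
  have h2 : ((1 + C (1 - ζ) * X) ^ p : A[X]).natDegree = p := by
    rw [natDegree_pow, h1, natDegree_linear hw, mul_one]
  have h3 : ((1 + C (1 - ζ) * X) ^ p - 1 : A[X]) = (1 + C (1 - ζ) * X) ^ p - C 1 := by rw [C_1]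
  rw [h3, leadingCoeff_sub_of_degree_lt, leadingCoeff_pow, h1, leadingCoeff_linear hw]
  apply degree_C_le.trans_lt
  have hlin : (1 + C (1 - ζ) * X : A[X]) ≠ 0 := by
    intro h0
    have := congrArg natDegree h0
    rw [h1, natDegree_linear hw, natDegree_zero] at this
    exact one_ne_zero this
  rw [degree_eq_natDegree (pow_ne_zero _ hlin), h2]
  exact_mod_cast hp.pos

include hp hζ hP in
theorem P_natDegree : P.natDegree = p := by
  have hw := one_sub_ne_zero hp hζ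
  have := congrArg natDegree hP
  rw [natDegree_C_mul (pow_ne_zero p hw), rhs_natDegree hp hζ] at this
  exact this

include hp hζ hP in
theorem P_monic : P.Monic := by
  have hw := one_sub_ne_zero hp hζ
  have := congrArg leadingCoeff hP
  rw [leadingCoeff_mul, leadingCoeff_C, rhs_leadingCoeff hp hζ] at this
  have h2 : (1 - ζ) ^ p * P.leadingCoeff = (1 - ζ) ^ p * 1 := by rw [this, mul_one]
  exact mul_left_cancel₀ (pow_ne_zero p hw) h2

include hp hζ hP in
theorem derivative_P {ε : Aˣ} (hε : ((p : ℕ) : A) = ε * (1 - ζ) ^ (p - 1)) :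
    derivative P = C (ε : A) * (1 + C (1 - ζ) * X) ^ (p - 1) := by
  have hw := one_sub_ne_zero hp hζ
  have h1 := congrArg derivative hP
  rw [derivative_mul, derivative_C, zero_mul, zero_add, derivative_sub, derivative_one, sub_zero,
    derivative_pow, derivative_add, derivative_one, zero_add, derivative_C_mul, derivative_X,
    mul_one] at h1
  have h2 : C ((1 - ζ) ^ p) * derivative P =
      C ((1 - ζ) ^ p) * (C (ε : A) * (1 + C (1 - ζ) * X) ^ (p - 1)) := by
    rw [h1]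
    have h3 : (C ((p : ℕ) : A) : A[X]) = C (ε : A) * C ((1 - ζ) ^ (p - 1)) := by
      rw [hε, C_mul]
    rw [h3]
    have h4 : (1 - ζ) ^ p = (1 - ζ) ^ (p - 1) * (1 - ζ) := by
      rw [← pow_succ, Nat.sub_add_cancel hp.pos]
    rw [h4, C_mul]
    ring
  exact mul_left_cancel₀ (by rw [Ne, C_eq_zero]; exact pow_ne_zero p hw) h2

include hp hζ hP in
theorem isUnit_mk_derivative (a : A) (hu : IsUnit (1 + (1 - ζ) ^ p * a)) :
    IsUnit (AdjoinRoot.mk (P - C a) (derivative (P - C a))) := by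
  obtain ⟨ε, hε⟩ := exists_unit_natCast_eq hp hζ
  rw [derivative_sub, derivative_C, sub_zero, derivative_P hp hζ hP hε, map_mul, map_pow]
  have h1 : (AdjoinRoot.mk (P - C a) (1 + C (1 - ζ) * X)) ^ p =
      AdjoinRoot.mk (P - C a) (C (1 + (1 - ζ) ^ p * a)) := by
    rw [← map_pow, AdjoinRoot.mk_eq_mk]
    refine ⟨C ((1 - ζ) ^ p), ?_⟩
    have : (1 + C (1 - ζ) * X) ^ p = C ((1 - ζ) ^ p) * P + 1 := by rw [hP]; ring
    rw [this, C_add, C_mul, C_1]
    ring
  have h2 : IsUnit (AdjoinRoot.mk (P - C a) (1 + C (1 - ζ) * X)) := by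
    rw [← isUnit_pow_iff hp.ne_zero, h1]
    exact (hu.map C).map (AdjoinRoot.mk (P - C a))
  exact ((ε.isUnit.map C).map (AdjoinRoot.mk (P - C a))).mul (h2.pow _)

end P

end Groth.Agent.Lib.Seat10.Kum
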