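import Groth.Agent.Lib.Seat10ASA

/-!
# Kummer extensions of prime degree in characteristic zero (Seat 10)
-/

set_option autoImplicit false

universe u

namespace Groth.Agent.Lib.Seat10.Kum

open Polynomial IntermediateField

variable {K : Type u} {L : Type u} [Field K] [Field L] [Algebra K L] [CharZero K]

theorem kummer_isGalois_and_degree {p : ℕ} (hp : p.Prime) {ζ : K} (hζ : IsPrimitiveRoot ζ p)
    (c : K) (u : L) (hu : u ^ p = algebraMap K L c)
    (hgen : IntermediateField.adjoin K {u} = ⊤) :
    FiniteDimensional K L ∧ IsGalois K L ∧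
      (Module.finrank K L = 1 ∨ Module.finrank K L = p) := by
  have hroot : aeval u (X ^ p - C c : K[X]) = 0 := by
    rw [map_sub, map_pow, aeval_X, aeval_C, hu, sub_self]
  have hmonic : (X ^ p - C c : K[X]).Monic := monic_X_pow_sub_C c hp.ne_zero
  have hint : IsIntegral K u := ⟨_, hmonic, by rw [← aeval_def]; exact hroot⟩
  haveI hfd : FiniteDimensional K L :=
    Groth.Agent.Lib.Seat10.AS.finiteDimensional_of_adjoin_simple_eq_top K hint hgen
  have halg := Groth.Agent.Lib.Seat10.AS.algebra_adjoin_eq_top K hint hgen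
  have hζL : IsPrimitiveRoot (algebraMap K L ζ) p :=
    hζ.map_of_injective (algebraMap K L).injective
  haveI hsplit : (X ^ p - C c : K[X]).IsSplittingField K L := by
    refine ⟨?_, ?_⟩
    · rw [Polynomial.map_sub, Polynomial.map_pow, Polynomial.map_C, Polynomial.map_X]
      exact X_pow_sub_C_splits_of_isPrimitiveRoot hζL hu
    · rw [eq_top_iff, ← halg]
      apply Algebra.adjoin_mono
      rw [Set.singleton_subset_iff, mem_rootSet]
      exact ⟨hmonic.ne_zero, hroot⟩
  haveI hnormal : Normal K L := Normal.of_isSplittingField (X ^ p - C c : K[X])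
  haveI hsep : Algebra.IsSeparable K L := inferInstance
  refine ⟨hfd, ⟨⟩, ?_⟩
  by_cases hex : ∃ b : K, b ^ p = c
  · left
    obtain ⟨b, rfl⟩ := hex
    have hmem : u ∈ (⊥ : IntermediateField K L) := by
      rw [IntermediateField.mem_bot]
      by_cases hb : b = 0
      · refine ⟨0, ?_⟩
        rw [hb, zero_pow hp.ne_zero, map_zero] at hu
        rw [map_zero]
        exact (pow_eq_zero_iff hp.ne_zero).mp hu |>.symm
      · have hbL : algebraMap K L b ≠ 0 := by
          rwa [Ne, map_eq_zero]
        have h1 : (u / algebraMap K L b) ^ p = 1 := by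
          rw [div_pow, hu, map_pow, div_self (pow_ne_zero p hbL)]
        haveI : NeZero p := ⟨hp.ne_zero⟩
        obtain ⟨i, -, hi⟩ := hζL.eq_pow_of_pow_eq_one h1
        refine ⟨b * ζ ^ i, ?_⟩
        rw [map_mul, map_pow, hi, mul_div_cancel₀ _ hbL]
    have hbot : (⊥ : IntermediateField K L) = ⊤ := by
      rw [← hgen, eq_comm, IntermediateField.adjoin_simple_eq_bot_iff]
      exact hmem
    exact IntermediateField.bot_eq_top_iff_finrank_eq_one.mp hbot
  · right
    have hirr : Irreducible (X ^ p - C c : K[X]) :=
      X_pow_sub_C_irreducible_of_prime hp (fun b hb => hex ⟨b, hb⟩)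
    have hmin : (X ^ p - C c : K[X]) = minpoly K u :=
      minpoly.eq_of_irreducible_of_monic hirr hroot hmonic
    have h1 := IntermediateField.adjoin.finrank hint
    rw [hgen, IntermediateField.finrank_top', ← hmin, natDegree_X_pow_sub_C] at h1
    exact h1

end Groth.Agent.Lib.Seat10.Kum
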