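import Groth.Agent.Lib.Seat10ContractionC

/-!
# Permuting the indices of a numerical type; `Pic ≅ ℤ` in genus `≤ 0` (Seat 10)
-/

set_option autoImplicit false

namespace Groth.Agent.Lib.Seat10.NumPerm

open Finset Models Groth.Agent.Lib.Helper11 Groth.Agent.Lib.Seat10.Contraction

variable {n : ℕ} (T : Models.NumericalType n) (σ : Equiv.Perm (Fin n))

/-- the numerical type with indices permuted by `σ` -/
def perm : Models.NumericalType n where
  m i := T.m (σ i)
  a := Matrix.of fun i j => T.a (σ i) (σ j)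
  w i := T.w (σ i)
  g i := T.g (σ i)
  pos := T.pos
  m_pos _ := T.m_pos _
  w_pos _ := T.w_pos _
  g_nonneg _ := T.g_nonneg _
  symm := by
    ext i j
    simp only [Matrix.transpose_apply, Matrix.of_apply]
    exact a_symm T _ _
  offDiag_nonneg i j hij := T.offDiag_nonneg _ _ (σ.injective.ne hij)
  connected I hI hI' := by
    classical
    have hne : I.map σ.toEmbedding ≠ univ := by
      intro h
      apply hI'
      rw [Finset.eq_univ_iff_forall] at h ⊢
      intro x
      obtain ⟨y, hy, hyx⟩ := Finset.mem_map.mp (h (σ x))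
      have : y = x := σ.injective hyx
      exact this ▸ hy
    obtain ⟨i, hi, j, hj, h⟩ := T.connected (I.map σ.toEmbedding) (hI.map) hne
    obtain ⟨i', hi', rfl⟩ := Finset.mem_map.mp hi
    refine ⟨i', hi', σ.symm j, ?_, ?_⟩
    · intro hmem
      apply hj
      rw [Finset.mem_map]
      exact ⟨σ.symm j, hmem, by simp⟩
    · simpa using h
  mulVec_m := by
    funext i
    simp only [Matrix.mulVec, dotProduct, Matrix.of_apply, Pi.zero_apply]
    rw [Equiv.sum_comp σ (fun j => T.a (σ i) j * T.m j)]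
    exact row_sum T (σ i)
  w_dvd _ _ := T.w_dvd _ _

theorem genus_perm : (perm T σ).genus = T.genus := by
  unfold NumericalType.genus
  have h1 : ∑ i, (perm T σ).m i * (perm T σ).w i * ((perm T σ).g i - 1) =
      ∑ i, T.m i * T.w i * (T.g i - 1) :=
    Equiv.sum_comp σ (fun i => T.m i * T.w i * (T.g i - 1))
  have h2 : ∑ i, (perm T σ).m i * (perm T σ).a i i = ∑ i, T.m i * T.a i i :=
    Equiv.sum_comp σ (fun i => T.m i * T.a i i)
  rw [h1, h2]

theorem isMinusOne_perm (i : Fin n) : (perm T σ).IsMinusOne i ↔ T.IsMinusOne (σ i) := Iff.rfl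

theorem picMatrix_perm (i j : Fin n) : (perm T σ).picMatrix i j = T.picMatrix (σ i) (σ j) := rfl

/-- the Picard groups of `T` and of the permuted type are isomorphic -/
theorem nonempty_pic_equiv_perm : Nonempty (T.Pic ≃+ (perm T σ).Pic) := by
  let e : (Fin n → ℤ) ≃ₗ[ℤ] (Fin n → ℤ) := LinearEquiv.funCongrLeft ℤ ℤ σ
  have he : ∀ x i, e x i = x (σ i) := fun _ _ => rfl
  have hcomm : ∀ x, e (T.picMatrix.mulVec x) = (perm T σ).picMatrix.mulVec (e x) := by
    intro x
    funext i
    rw [he]
    simp only [Matrix.mulVec, dotProduct, picMatrix_perm, he]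
    exact (Equiv.sum_comp σ (fun j => T.picMatrix (σ i) j * x j)).symm
  have hmap : (LinearMap.range (Matrix.mulVecLin T.picMatrix)).map (e : (Fin n → ℤ) →ₗ[ℤ] (Fin n → ℤ)) =
      LinearMap.range (Matrix.mulVecLin (perm T σ).picMatrix) := by
    apply le_antisymm
    · rintro _ ⟨_, ⟨x, rfl⟩, rfl⟩
      exact ⟨e x, by simp only [Matrix.mulVecLin_apply]; exact (hcomm x).symm⟩
    · rintro _ ⟨y, rfl⟩
      refine ⟨T.picMatrix.mulVec (e.symm y), ⟨e.symm y, rfl⟩, ?_⟩
      simp only [Matrix.mulVecLin_apply, LinearEquiv.coe_coe]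
      rw [hcomm, LinearEquiv.apply_symm_apply]
  exact ⟨(Submodule.Quotient.equiv _ _ e hmap).toAddEquiv⟩

/-- an abelian group with an injective map to `ℤ` whose image contains `2ℤ` is infinite cyclic -/
theorem nonempty_equiv_int_of_injective {P : Type*} [AddCommGroup P] (g : P →+ ℤ)
    (hinj : Function.Injective g) (h2 : ∀ y : ℤ, ∃ x : P, 2 • y = g x) : Nonempty (P ≃+ ℤ) := by
  obtain ⟨a, ha⟩ := Int.subgroup_cyclic g.range
  have hmem : ∀ z : ℤ, z ∈ g.range ↔ ∃ k : ℤ, k • a = z := by
    intro z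
    rw [ha, AddSubgroup.mem_closure_singleton]
  have ha0 : a ≠ 0 := by
    intro h0
    obtain ⟨x, hx⟩ := h2 1
    obtain ⟨k, hk⟩ := (hmem (g x)).mp ⟨x, rfl⟩
    rw [h0, smul_zero] at hk
    rw [← hk] at hx
    norm_num at hx
  obtain ⟨x₀, hx₀⟩ : ∃ x₀, g x₀ = a := (hmem a).mpr ⟨1, one_smul _ _⟩
  let φ : ℤ →+ P := zmultiplesHom P x₀
  have hφ : ∀ k : ℤ, g (φ k) = k * a := by
    intro k
    simp only [φ, zmultiplesHom_apply, map_zsmul, hx₀, smul_eq_mul]
  refine ⟨(AddEquiv.ofBijective φ ⟨?_, ?_⟩).symm⟩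
  · intro k k' hkk
    have := congrArg g hkk
    rw [hφ, hφ] at this
    exact mul_right_cancel₀ ha0 this
  · intro x
    obtain ⟨k, hk⟩ := (hmem (g x)).mp ⟨x, rfl⟩
    refine ⟨k, hinj ?_⟩
    rw [hφ, ← hk, smul_eq_mul]

/-- the case of one index -/
theorem pic_equiv_int_one (T : Models.NumericalType 1) : Nonempty (T.Pic ≃+ ℤ) := by
  have h0 : T.a 0 0 = 0 := by
    have h := row_sum T 0
    simp only [Fin.sum_univ_one] at h
    rcases mul_eq_zero.mp h with h' | h'
    · exact h'
    · exact absurd h' (T.m_pos 0).ne'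
  have hpm : T.picMatrix = 0 := by
    ext i j
    have hi : i = 0 := Subsingleton.elim _ _
    have hj : j = 0 := Subsingleton.elim _ _
    subst hi hj
    show T.a 0 0 / T.w 0 = 0
    rw [h0, Int.zero_ediv]
  have hbot : LinearMap.range (Matrix.mulVecLin T.picMatrix) = ⊥ := by
    rw [hpm]
    simp
  exact ⟨((Submodule.quotEquivOfEqBot _ hbot).trans
    (LinearEquiv.funUnique (Fin 1) ℤ ℤ)).toAddEquiv⟩

/-- S2181 -/
theorem pic_equiv_int : ∀ (n : ℕ) (T : Models.NumericalType n), T.genus ≤ 0 →
    Nonempty (T.Pic ≃+ ℤ) := by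
  intro n
  induction n with
  | zero => intro T _; exact absurd T.pos (lt_irrefl 0)
  | succ k ih =>
    intro T hg
    by_cases hk : k = 0
    · subst hk
      exact pic_equiv_int_one T
    · have hn : 1 < k + 1 := by omega
      have hnotmin : ¬ T.IsMinimal := by
        intro hmin
        have := one_le_genus_of_isMinimal T hmin hn
        omega
      unfold NumericalType.IsMinimal at hnotmin
      push Not at hnotmin
      obtain ⟨i, hi⟩ := hnotmin
      let σ : Equiv.Perm (Fin (k + 1)) := Equiv.swap i (Fin.last k)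
      have hl : (perm T σ).IsMinusOne (Fin.last k) := by
        rw [isMinusOne_perm]
        simpa [σ] using hi
      have hgen : (contract hl).genus ≤ 0 := by
        rw [genus_eq_of_isContraction hl _ (isContraction_contract hl), genus_perm]
        exact hg
      obtain ⟨e'⟩ := ih (contract hl) hgen
      obtain ⟨f, hf, hf2⟩ := exists_pic_hom hl _ (isContraction_contract hl)
      have h1 : Nonempty ((perm T σ).Pic ≃+ ℤ) := by
        refine nonempty_equiv_int_of_injective (e'.toAddMonoidHom.comp f) ?_ ?_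
        · exact e'.injective.comp hf
        · intro y
          obtain ⟨x, hx⟩ := hf2 (e'.symm y)
          refine ⟨x, ?_⟩
          simp only [AddMonoidHom.coe_comp, AddEquiv.coe_toAddMonoidHom, Function.comp_apply]
          rw [← hx, map_nsmul, AddEquiv.apply_symm_apply]
      obtain ⟨e₁⟩ := h1
      obtain ⟨e₂⟩ := nonempty_pic_equiv_perm T σ
      exact ⟨e₂.trans e₁⟩

end Groth.Agent.Lib.Seat10.NumPerm
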