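import Groth.Agent.Lib.Helper11Genus

/-!
# Numerical types: the topological genus is at most the genus (minimal types, `n > 1`)

Seat 10 helper file.  The key inequality is `2 e ≤ Σ_i k_i`, where `a i i = - k_i w_i`,
which follows from `k_i = Σ_{j ≠ i} kk i j * m j / m i` and AM-GM on each edge.
-/

set_option autoImplicit false

namespace Groth.Agent.Lib.Seat10.NumType

open Finset Models Groth.Agent.Lib.Helper11

variable {n : ℕ} (T : Models.NumericalType n)

/-- splitting an off-diagonal double sum into the sum over pairs `i < j` -/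
theorem sum_offDiag_eq {M : Type*} [AddCommMonoid M] (f : Fin n → Fin n → M) :
    ∑ i, ∑ j ∈ univ.erase i, f i j =
      ∑ p ∈ (univ : Finset (Fin n × Fin n)).filter (fun p => p.1 < p.2), (f p.1 p.2 + f p.2 p.1) := by
  classical
  have h1 : ∀ i, ∑ j ∈ univ.erase i, f i j =
      ∑ j ∈ univ.filter (fun j => i < j), f i j + ∑ j ∈ univ.filter (fun j => j < i), f i j := by
    intro i
    rw [← Finset.sum_union]
    · refine Finset.sum_congr ?_ fun _ _ => rfl
      ext j
      simp only [mem_erase, mem_univ, and_true, mem_union, mem_filter, true_and]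
      constructor
      · intro h
        rcases lt_or_gt_of_ne h with h | h
        · exact Or.inr h
        · exact Or.inl h
      · rintro (h | h)
        · exact h.ne'
        · exact h.ne
    · rw [Finset.disjoint_left]
      intro j hj hj'
      simp only [mem_filter, mem_univ, true_and] at hj hj'
      exact lt_asymm hj hj'
  simp_rw [h1, Finset.sum_add_distrib]
  have h2 : ∑ i, ∑ j ∈ univ.filter (fun j => j < i), f i j =
      ∑ i, ∑ j ∈ univ.filter (fun j => i < j), f j i := by
    rw [Finset.sum_sigma', Finset.sum_sigma']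
    refine Finset.sum_bij' (fun x _ => ⟨x.2, x.1⟩) (fun x _ => ⟨x.2, x.1⟩) ?_ ?_ ?_ ?_ ?_
    · intro x hx
      simp only [mem_sigma, mem_univ, mem_filter, true_and] at hx ⊢
      exact hx
    · intro x hx
      simp only [mem_sigma, mem_univ, mem_filter, true_and] at hx ⊢
      exact hx
    · intro x _; rfl
    · intro x _; rfl
    · intro x _; rfl
  rw [h2, ← Finset.sum_add_distrib]
  simp_rw [← Finset.sum_add_distrib]
  rw [Finset.sum_sigma']
  refine Finset.sum_bij' (fun x _ => (x.1, x.2)) (fun p _ => ⟨p.1, p.2⟩) ?_ ?_ ?_ ?_ ?_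
  · intro x hx
    simp only [mem_sigma, mem_univ, mem_filter, true_and] at hx ⊢
    exact hx
  · intro p hp
    simp only [mem_sigma, mem_univ, mem_filter, true_and] at hp ⊢
    exact hp
  · intro x _; rfl
  · intro p _; rfl
  · intro x _; rfl

/-- `k_i := - a i i / w i` -/
def kd (i : Fin n) : ℤ := - kk T i i

theorem kd_mul_m (i : Fin n) : kd T i * T.m i = ∑ j ∈ univ.erase i, kk T i j * T.m j := by
  have h := kk_row T i
  rw [← Finset.add_sum_erase univ (fun j => kk T i j * T.m j) (mem_univ i)] at h
  unfold kd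
  linarith

theorem a_diag_eq_kd (i : Fin n) : T.a i i = -(kd T i * T.w i) := by
  unfold kd
  rw [a_eq_kk T i i]; ring

theorem one_le_kd (hn : 1 < n) (i : Fin n) : 1 ≤ kd T i := by
  obtain ⟨k, hk, hka⟩ := diag_eq T hn i
  have h := a_diag_eq_kd T i
  have hw := T.w_pos i
  have : (kd T i - k) * T.w i = 0 := by linarith
  rcases mul_eq_zero.mp this with h1 | h1
  · omega
  · omega

/-- the contribution of the index `i` to `2g - 2` is at least `k_i - 2` for a minimal type -/
theorem kd_sub_two_le_contribution (hn : 1 < n) (hmin : T.IsMinimal) (i : Fin n) :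
    kd T i - 2 ≤ T.m i * (2 * T.w i * (T.g i - 1) - T.a i i) := by
  have hk := one_le_kd T hn i
  have ha := a_diag_eq_kd T i
  have hm := T.m_pos i
  have hw := T.w_pos i
  have hg := T.g_nonneg i
  have hF : 0 ≤ 2 * T.g i - 2 + kd T i := by
    by_contra hcon
    push Not at hcon
    have hg0 : T.g i = 0 := by omega
    have hk1 : kd T i = 1 := by omega
    exact hmin i ⟨hg0, by rw [ha, hk1]; ring⟩
  have hmw : 1 ≤ T.m i * T.w i := by nlinarith
  have : T.m i * (2 * T.w i * (T.g i - 1) - T.a i i) =
      (T.m i * T.w i) * (2 * T.g i - 2 + kd T i) := by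
    rw [ha]; ring
  rw [this]
  nlinarith

/-- AM-GM on one edge: `x / y + y / x ≥ 2` with positive integer weights at least one -/
theorem edge_ineq (c d x y : ℚ) (hc : 1 ≤ c) (hd : 1 ≤ d) (hx : 0 < x) (hy : 0 < y) :
    2 ≤ c * y / x + d * x / y := by
  have h1 : y / x ≤ c * y / x := by
    rw [mul_div_assoc]
    have : 0 < y / x := div_pos hy hx
    nlinarith
  have h2 : x / y ≤ d * x / y := by
    rw [mul_div_assoc]
    have : 0 < x / y := div_pos hx hy
    nlinarith
  have h3 : 2 ≤ y / x + x / y := by
    rw [div_add_div _ _ hx.ne' hy.ne', le_div_iff₀ (mul_pos hx hy)]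
    nlinarith [sq_nonneg (x - y)]
  linarith

/-- twice the number of edges is at most the sum of the `k_i` -/
theorem two_edgeCount_le_sum_kd : 2 * (T.edgeCount : ℤ) ≤ ∑ i, kd T i := by
  classical
  have hq : (2 * (T.edgeCount : ℚ)) ≤ ∑ i, (kd T i : ℚ) := by
    have h1 : ∀ i, (kd T i : ℚ) = ∑ j ∈ univ.erase i, (kk T i j : ℚ) * (T.m j : ℚ) / (T.m i : ℚ) := by
      intro i
      have hm : (T.m i : ℚ) ≠ 0 := by exact_mod_cast (T.m_pos i).ne'
      rw [← Finset.sum_div, eq_div_iff hm]
      exact_mod_cast kd_mul_m T i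
    simp_rw [h1]
    rw [sum_offDiag_eq]
    unfold NumericalType.edgeCount
    rw [Finset.card_filter]
    push_cast
    rw [Finset.mul_sum, Finset.sum_filter]
    refine Finset.sum_le_sum fun p _ => ?_
    by_cases hlt : p.1 < p.2
    · simp only [hlt, true_and, if_true]
      have hne : p.1 ≠ p.2 := hlt.ne
      have hmi : (0 : ℚ) < T.m p.1 := by exact_mod_cast T.m_pos p.1
      have hmj : (0 : ℚ) < T.m p.2 := by exact_mod_cast T.m_pos p.2
      by_cases hpos : 0 < T.a p.1 p.2
      · simp only [hpos, if_true]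
        have hc : (1 : ℚ) ≤ kk T p.1 p.2 := by exact_mod_cast kk_pos T hne hpos.ne'
        have hd : (1 : ℚ) ≤ kk T p.2 p.1 := by exact_mod_cast kk_pos' T hne hpos.ne'
        have := edge_ineq _ _ _ _ hc hd hmi hmj
        linarith
      · simp only [hpos, if_false]
        have h0 : T.a p.1 p.2 = 0 := le_antisymm (not_lt.mp hpos) (T.offDiag_nonneg _ _ hne)
        have h0' : T.a p.2 p.1 = 0 := by rw [a_symm]; exact h0
        rw [kk_eq_zero T h0, kk_eq_zero T h0']
        simp
    · simp [hlt]
  exact_mod_cast hq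

/-- S2177: for a minimal numerical type with at least two indices, `g_top ≤ g`. -/
theorem topGenus_le_genus (hmin : T.IsMinimal) (hn : 1 < n) : T.topGenus ≤ T.genus := by
  have h := two_genus T
  have h1 : ∑ i, (kd T i - 2) ≤ ∑ i, T.m i * (2 * T.w i * (T.g i - 1) - T.a i i) :=
    Finset.sum_le_sum fun i _ => kd_sub_two_le_contribution T hn hmin i
  have h2 := two_edgeCount_le_sum_kd T
  have h3 : ∑ i, (kd T i - 2) = ∑ i, kd T i - 2 * (n : ℤ) := by
    rw [Finset.sum_sub_distrib]
    simp [mul_comm]
  unfold NumericalType.topGenus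
  omega

end Groth.Agent.Lib.Seat10.NumType
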