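import Mathlib

/-!
# Parameters with annihilator condition, part A (seat 10)

Powers of a regular sequence in a Noetherian local ring form a regular sequence; elementwise
consequence for sequences indexed by `Fin d`.
-/

set_option autoImplicit false
universe u

namespace Groth.Agent.Lib.Seat10.Param

open RingTheory.Sequence IsLocalRing

section pow

variable {R : Type*} [CommRing R] [IsLocalRing R]

theorem mem_maximalIdeal_of_isRegular {M : Type*} [AddCommGroup M] [Module R M] {rs : List R}
    (h : IsRegular M rs) : ∀ r ∈ rs, r ∈ maximalIdeal R := by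
  intro x hx
  have hx' : x ∈ {r | r ∈ rs} := hx
  refine IsLocalRing.le_maximalIdeal ?_ (Ideal.subset_span hx')
  intro htop
  apply h.top_ne_smul
  change (⊤ : Submodule R M) = Ideal.span {r | r ∈ rs} • ⊤
  rw [htop, Submodule.top_smul]

theorem isRegular_pow_cons {M : Type*} [AddCommGroup M] [Module R M] [IsNoetherian R M] {x : R}
    {rs : List R} (h : IsRegular M (x :: rs)) (e : ℕ) (he : 0 < e) :
    IsRegular M (x ^ e :: rs) := by
  have hmem := mem_maximalIdeal_of_isRegular h
  have hnt : Nontrivial M := h.nontrivial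
  have h1 : IsRegular M (rs ++ [x]) :=
    IsLocalRing.isRegular_of_perm h (List.perm_append_singleton x rs).symm
  obtain ⟨hrs, hx⟩ := (isWeaklyRegular_append_iff M rs [x]).mp h1.toIsWeaklyRegular
  have hx' := (isWeaklyRegular_singleton_iff _ x).mp hx
  have hxe := hx'.pow e
  have h2 : IsWeaklyRegular M (rs ++ [x ^ e]) :=
    (isWeaklyRegular_append_iff M rs [x ^ e]).mpr
      ⟨hrs, (isWeaklyRegular_singleton_iff _ (x ^ e)).mpr hxe⟩
  have hmem2 : ∀ r ∈ rs ++ [x ^ e], r ∈ maximalIdeal R := by
    intro r hr
    rcases List.mem_append.mp hr with hr | hr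
    · exact hmem r (List.mem_cons_of_mem _ hr)
    · rw [List.mem_singleton] at hr
      rw [hr]
      exact Ideal.pow_mem_of_mem _ (hmem x List.mem_cons_self) e he
  have h3 : IsRegular M (rs ++ [x ^ e]) :=
    IsRegular.of_isWeaklyRegular_of_mem_maximalIdeal M hmem2 h2
  exact IsLocalRing.isRegular_of_perm h3 (List.perm_append_singleton (x ^ e) rs)

theorem isRegular_map_pow (e : ℕ) (he : 0 < e) : ∀ (rs : List R) (M : Type u) [AddCommGroup M]
    [Module R M] [IsNoetherian R M], IsRegular M rs → IsRegular M (rs.map (· ^ e)) := by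
  intro rs
  induction rs with
  | nil =>
    intro M _ _ _ h
    exact h
  | cons x rs ih =>
    intro M _ _ _ h
    have h1 := isRegular_pow_cons h e he
    obtain ⟨hx, hrs⟩ := (isRegular_cons_iff M (x ^ e) rs).mp h1
    have : IsNoetherian R (QuotSMulTop (x ^ e) M) := by
      unfold QuotSMulTop
      infer_instance
    have h2 := ih (QuotSMulTop (x ^ e) M) hrs
    rw [List.map_cons]
    exact (isRegular_cons_iff M (x ^ e) (rs.map (· ^ e))).mpr ⟨hx, h2⟩

end pow

section fin

variable {S : Type u} [CommRing S] [IsLocalRing S] [IsNoetherianRing S]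

/-- In a Noetherian local ring, if `x` is a regular sequence then `x k` is a nonzerodivisor modulo
the `e`-th powers of the previous elements. -/
theorem mem_span_pow_of_mul_mem {d : ℕ} (x : Fin d → S) (hreg : IsRegular S (List.ofFn x)) (e : ℕ)
    (he : 0 < e) (k : Fin d) (y : S)
    (hy : x k * y ∈ Ideal.span (Set.range fun j : {j : Fin d // j < k} => x j.1 ^ e)) :
    y ∈ Ideal.span (Set.range fun j : {j : Fin d // j < k} => x j.1 ^ e) := by
  have h2 := isRegular_map_pow e he (List.ofFn x) S hreg
  rw [List.map_ofFn] at h2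
  set rs := List.ofFn ((fun a => a ^ e) ∘ x) with hrs
  have hlen : rs.length = d := List.length_ofFn
  have hk : (k : ℕ) < rs.length := by rw [hlen]; exact k.2
  have h3 := ((isWeaklyRegular_iff S rs).mp h2.toIsWeaklyRegular) k hk
  have hget : rs[(k : ℕ)] = x k ^ e := by
    simp [rs]
  -- the ideal generated by the first `k` elements
  have hideal : Ideal.ofList (rs.take k) =
      Ideal.span (Set.range fun j : {j : Fin d // j < k} => x j.1 ^ e) := by
    unfold Ideal.ofList
    congr 1
    ext a
    simp only [Set.mem_ofPred_eq, Set.mem_range, Subtype.exists]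
    rw [List.mem_take_iff_getElem]
    constructor
    · rintro ⟨i, hi, rfl⟩
      have hi' : i < k ∧ i < rs.length := by
        rw [lt_min_iff] at hi
        exact hi
      have hid : i < d := by rw [← hlen]; exact hi'.2
      refine ⟨⟨i, hid⟩, ?_, ?_⟩
      · exact Fin.lt_def.mpr hi'.1
      · simp [rs]
    · rintro ⟨j, hj, rfl⟩
      refine ⟨j, ?_, ?_⟩
      · rw [lt_min_iff]
        exact ⟨Fin.lt_def.mp hj, by rw [hlen]; exact j.2⟩
      · simp [rs]
  rw [hget, hideal] at h3
  set K := Ideal.span (Set.range fun j : {j : Fin d // j < k} => x j.1 ^ e) with hK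
  have hKtop : (K • ⊤ : Submodule S S) = K := by
    rw [smul_eq_mul, Ideal.mul_top]
  -- `x k ^ e * y ∈ K`
  have hy' : x k ^ e * y ∈ K := by
    obtain ⟨e', rfl⟩ : ∃ e', e = e' + 1 := ⟨e - 1, by omega⟩
    rw [pow_succ, mul_assoc]
    exact K.mul_mem_left _ hy
  have h4 : (Submodule.Quotient.mk y : S ⧸ (K • ⊤ : Submodule S S)) = 0 := by
    apply h3
    change x k ^ e • (Submodule.Quotient.mk y : S ⧸ (K • ⊤ : Submodule S S)) = x k ^ e • 0
    rw [smul_zero, ← Submodule.Quotient.mk_smul, Submodule.Quotient.mk_eq_zero, hKtop, smul_eq_mul]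
    exact hy'
  rw [Submodule.Quotient.mk_eq_zero, hKtop] at h4
  exact h4

end fin

end Groth.Agent.Lib.Seat10.Param
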