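import Mathlib
import Groth.Agent.Lib.Helper5RLR
import Groth.Agent.Lib.Seat10ParamA

/-!
# Parameters with annihilator condition, part B (seat 10)

Ring-level lemmas: initial generators, torsion of the colon ideal, uniform multiplier,
stabilization of annihilators.
-/

set_option autoImplicit false
universe u

namespace Groth.Agent.Lib.Seat10.Param

open RingTheory.Sequence IsLocalRing

/-- the ideal generated by the `e`-th powers of the `π j`, `j < k`. -/
def Kid {Λ : Type u} [CommRing Λ] {d : ℕ} (π : Fin d → Λ) (e : ℕ) (k : Fin d) : Ideal Λ :=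
  Ideal.span (Set.range fun j : {j : Fin d // (j : ℕ) < (k : ℕ)} => π j ^ e)

section loc

variable {Λ : Type u} [CommRing Λ] (q : Ideal Λ) [q.IsPrime]

local notation "S" => Localization.AtPrime q

theorem map_Kid {d : ℕ} (π : Fin d → Λ) (e : ℕ) (k : Fin d) :
    (Kid π e k).map (algebraMap Λ S) =
      Ideal.span (Set.range fun j : {j : Fin d // j < k} => (algebraMap Λ S (π j.1)) ^ e) := by
  unfold Kid
  rw [Ideal.map_span, ← Set.range_comp]
  congr 1
  ext a
  constructor
  · rintro ⟨j, rfl⟩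
    exact ⟨j, by simp⟩
  · rintro ⟨j, rfl⟩
    exact ⟨j, by simp⟩

/-- initial generators of the maximal ideal of the local ring at `q` coming from `Λ`. -/
theorem exists_generators [IsRegularLocalRing S] {d : ℕ} (hd : ringKrullDim S = d) :
    ∃ π : Fin d → Λ, Ideal.span (Set.range fun i => algebraMap Λ S (π i)) =
      q.map (algebraMap Λ S) := by
  classical
  have hfg : (maximalIdeal S).FG := (isNoetherianRing_iff_ideal_fg S).mp inferInstance _
  obtain ⟨s, hcard, hspan⟩ := Submodule.FG.exists_span_finset_card_eq_spanFinrank hfg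
  have hreg : ((maximalIdeal S).spanFinrank : WithBot ℕ∞) = ringKrullDim S :=
    IsRegularLocalRing.spanFinrank_maximalIdeal
  have hsd : s.card = d := by
    rw [hcard]
    rw [hd] at hreg
    exact_mod_cast hreg
  let eqv : s ≃ Fin d := Finset.equivFinOfCardEq hsd
  let g : Fin d → S := fun i => ((eqv.symm i : s) : S)
  have hrange : Set.range g = (s : Set S) := by
    ext a
    constructor
    · rintro ⟨i, rfl⟩
      exact (eqv.symm i).2
    · intro ha
      exact ⟨eqv ⟨a, ha⟩, by simp [g]⟩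
  -- clear denominators
  have hex : ∀ i, ∃ (a : Λ) (u : S), IsUnit u ∧ algebraMap Λ S a = u * g i := by
    intro i
    obtain ⟨⟨a, t⟩, hat⟩ := IsLocalization.surj q.primeCompl (g i)
    refine ⟨a, algebraMap Λ S t, IsLocalization.map_units S t, ?_⟩
    rw [← hat, mul_comm]
  choose a u hu hau using hex
  refine ⟨a, ?_⟩
  rw [Localization.AtPrime.map_eq_maximalIdeal]
  change _ = maximalIdeal S
  rw [← hspan]
  change _ = Ideal.span (s : Set S)
  rw [← hrange]
  apply le_antisymm
  · rw [Ideal.span_le]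
    rintro _ ⟨i, rfl⟩
    change algebraMap Λ S (a i) ∈ _
    rw [hau]
    exact Ideal.mul_mem_left _ _ (Ideal.subset_span ⟨i, rfl⟩)
  · rw [Ideal.span_le]
    rintro _ ⟨i, rfl⟩
    have h1 : algebraMap Λ S (a i) ∈ Ideal.span (Set.range fun i => algebraMap Λ S (a i)) :=
      Ideal.subset_span ⟨i, rfl⟩
    rw [hau] at h1
    exact (Ideal.unit_mul_mem_iff_mem _ (hu i)).mp h1

/-- elements of the colon ideal `(K : π k ^ 2)` are torsion modulo `K` at `q`. -/
theorem exists_notMem_mul_mem_Kid [IsRegularLocalRing S] {d : ℕ} (hd : ringKrullDim S = d)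
    (π : Fin d → Λ)
    (hgen : Ideal.span (Set.range fun i => algebraMap Λ S (π i)) = q.map (algebraMap Λ S))
    (e : ℕ) (he : 0 < e) (k : Fin d) (y : Λ) (hy : π k ^ 2 * y ∈ Kid π e k) :
    ∃ t : Λ, t ∉ q ∧ t * y ∈ Kid π e k := by
  let x : Fin d → S := fun i => algebraMap Λ S (π i)
  have hx : Ideal.span (Set.range x) = maximalIdeal S := by
    rw [← Localization.AtPrime.map_eq_maximalIdeal]
    exact hgen
  have hreg : IsRegular S (List.ofFn x) :=
    Groth.Agent.Lib.Helper5.isRegular_ofFn_of_span_eq_maximalIdeal hd x hx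
  have h1 : algebraMap Λ S (π k ^ 2 * y) ∈ (Kid π e k).map (algebraMap Λ S) :=
    Ideal.mem_map_of_mem _ hy
  rw [map_Kid, map_mul, map_pow, pow_two, mul_assoc] at h1
  have h2 := mem_span_pow_of_mul_mem x hreg e he k _ h1
  have h3 := mem_span_pow_of_mul_mem x hreg e he k _ h2
  rw [← map_Kid] at h3
  obtain ⟨⟨⟨a, ha⟩, t⟩, hat⟩ :=
    (IsLocalization.mem_map_algebraMap_iff q.primeCompl S).mp h3
  simp only at hat
  rw [← map_mul] at hat
  obtain ⟨c, hc⟩ := (IsLocalization.eq_iff_exists q.primeCompl S).mp hat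
  refine ⟨(c : Λ) * (t : Λ), (c * t).2, ?_⟩
  have : (c : Λ) * (t : Λ) * y = c * a := by
    rw [← hc]; ring
  rw [this]
  exact Ideal.mul_mem_left _ _ ha

end loc

section noeth

variable {Λ : Type u} [CommRing Λ] [IsNoetherianRing Λ]

/-- a uniform multiplier outside `q` for a torsion ideal modulo `K`. -/
theorem exists_uniform_multiplier (q : Ideal Λ) [q.IsPrime] (K C : Ideal Λ)
    (h : ∀ y ∈ C, ∃ t : Λ, t ∉ q ∧ t * y ∈ K) :
    ∃ s : Λ, s ∉ q ∧ ∀ y ∈ C, s * y ∈ K := by
  classical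
  choose! tf htf1 htf2 using h
  obtain ⟨F, hF⟩ := (isNoetherianRing_iff_ideal_fg Λ).mp inferInstance C
  refine ⟨∏ f ∈ F, tf f, ?_, ?_⟩
  · have : ∏ f ∈ F, tf f ∈ q.primeCompl :=
      Submonoid.prod_mem _ (fun f hf => htf1 f (hF ▸ Ideal.subset_span hf))
    exact this
  · intro y hy
    rw [← hF] at hy
    induction hy using Submodule.span_induction with
    | mem f hf =>
      obtain ⟨c, hc⟩ := Finset.dvd_prod_of_mem tf hf
      rw [hc, mul_comm (tf f) c, mul_assoc]
      exact K.mul_mem_left _ (htf2 f (hF ▸ Ideal.subset_span hf))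
    | zero => rw [mul_zero]; exact K.zero_mem
    | add x y _ _ hx hy => rw [mul_add]; exact K.add_mem hx hy
    | smul a x _ hx =>
      rw [smul_eq_mul, mul_left_comm]
      exact K.mul_mem_left _ hx

/-- some positive power `s` of `s₀` has the property `s² y ∈ K → s y ∈ K`. -/
theorem exists_pow_stable (K : Ideal Λ) (s₀ : Λ) :
    ∃ m : ℕ, 0 < m ∧ ∀ y : Λ, (s₀ ^ m) ^ 2 * y ∈ K → s₀ ^ m * y ∈ K := by
  let Cj : ℕ →o Ideal Λ :=
    { toFun := fun j => Submodule.comap (LinearMap.mulLeft Λ (s₀ ^ j)) K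
      monotone' := by
        intro i j hij y hy
        have hy' : s₀ ^ i * y ∈ K := hy
        change s₀ ^ j * y ∈ K
        obtain ⟨l, rfl⟩ := Nat.exists_eq_add_of_le hij
        rw [pow_add, mul_comm (s₀ ^ i), mul_assoc]
        exact K.mul_mem_left _ hy' }
  have hmem : ∀ j y, y ∈ Cj j ↔ s₀ ^ j * y ∈ K := fun j y => Iff.rfl
  obtain ⟨m₀, hm₀⟩ := monotone_stabilizes_iff_noetherian.mpr inferInstance Cj
  refine ⟨m₀ + 1, Nat.succ_pos _, ?_⟩
  intro y hy
  rw [← pow_mul] at hy
  have h1 : y ∈ Cj ((m₀ + 1) * 2) := (hmem _ _).mpr hy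
  rw [← hm₀ ((m₀ + 1) * 2) (by omega), hm₀ (m₀ + 1) (by omega)] at h1
  exact (hmem _ _).mp h1

end noeth

end Groth.Agent.Lib.Seat10.Param
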