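import Mathlib
import Groth.Agent.Lib.Seat10ParamB

/-!
# Parameters with annihilator condition, part C (seat 10)

Inductive adjustment of the parameters and the final statement.
-/

set_option autoImplicit false
universe u

namespace Groth.Agent.Lib.Seat10.Param

open RingTheory.Sequence IsLocalRing

variable {Λ : Type u} [CommRing Λ] [IsNoetherianRing Λ] (q : Ideal Λ) [q.IsPrime]

local notation "S" => Localization.AtPrime q

/-- the annihilator condition at index `i`, elementwise. -/
def P3 {d : ℕ} (π : Fin d → Λ) (e : ℕ) (i : Fin d) : Prop :=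
  ∀ y : Λ, π i ^ 2 * y ∈ Kid π e i → π i * y ∈ Kid π e i

omit [IsNoetherianRing Λ] in
theorem Kid_update {d : ℕ} (π : Fin d → Λ) (e : ℕ) (k : Fin d) (v : Λ) (i : Fin d)
    (hi : (i : ℕ) ≤ (k : ℕ)) : Kid (Function.update π k v) e i = Kid π e i := by
  unfold Kid
  congr 1
  ext a
  constructor
  · rintro ⟨j, rfl⟩
    refine ⟨j, ?_⟩
    have hjk : j.1 ≠ k := by
      intro h
      have := j.2
      rw [h] at this
      omega
    simp [Function.update_of_ne hjk]
  · rintro ⟨j, rfl⟩
    refine ⟨j, ?_⟩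
    have hjk : j.1 ≠ k := by
      intro h
      have := j.2
      rw [h] at this
      omega
    simp [Function.update_of_ne hjk]

/-- one step of the adjustment. -/
theorem exists_step [IsRegularLocalRing S] {d : ℕ} (hd : ringKrullDim S = d) (I : Ideal Λ)
    (e N : ℕ) (he : 0 < e) (π : Fin d → Λ)
    (hgen : Ideal.span (Set.range fun i => algebraMap Λ S (π i)) = q.map (algebraMap Λ S))
    (hN : ∀ i, π i ^ N ∈ I) (k : Fin d) (hP : ∀ i : Fin d, (i : ℕ) < (k : ℕ) → P3 π e i) :
    ∃ π' : Fin d → Λ,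
      Ideal.span (Set.range fun i => algebraMap Λ S (π' i)) = q.map (algebraMap Λ S) ∧
      (∀ i, π' i ^ N ∈ I) ∧ ∀ i : Fin d, (i : ℕ) < (k : ℕ) + 1 → P3 π' e i := by
  classical
  set K := Kid π e k with hK
  let C : Ideal Λ := Submodule.comap (LinearMap.mulLeft Λ (π k ^ 2)) K
  have hC : ∀ y, y ∈ C ↔ π k ^ 2 * y ∈ K := fun y => Iff.rfl
  obtain ⟨s₀, hs₀q, hs₀⟩ := exists_uniform_multiplier q K C
    (fun y hy => exists_notMem_mul_mem_Kid q hd π hgen e he k y ((hC y).mp hy))
  obtain ⟨m, hm, hstab⟩ := exists_pow_stable K s₀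
  set s := s₀ ^ m with hs
  have hsq : s ∉ q := fun h => hs₀q (Ideal.IsPrime.mem_of_pow_mem inferInstance m h)
  have hsC : ∀ y ∈ C, s * y ∈ K := by
    intro y hy
    obtain ⟨m', rfl⟩ : ∃ m', m = m' + 1 := ⟨m - 1, by omega⟩
    rw [hs, pow_succ, mul_assoc]
    exact K.mul_mem_left _ (hs₀ y hy)
  let π' : Fin d → Λ := Function.update π k (s * π k)
  have hπ'k : π' k = s * π k := Function.update_self ..
  have hπ'ne : ∀ i, i ≠ k → π' i = π i := fun i hi => Function.update_of_ne hi ..
  have hu : IsUnit (algebraMap Λ S s) :=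
    IsLocalization.map_units S (⟨s, hsq⟩ : q.primeCompl)
  refine ⟨π', ?_, ?_, ?_⟩
  · rw [← hgen]
    apply le_antisymm
    · rw [Ideal.span_le]
      rintro _ ⟨i, rfl⟩
      by_cases hik : i = k
      · subst hik
        change algebraMap Λ S (π' i) ∈ _
        rw [hπ'k, map_mul]
        exact Ideal.mul_mem_left _ _ (Ideal.subset_span ⟨i, rfl⟩)
      · change algebraMap Λ S (π' i) ∈ _
        rw [hπ'ne i hik]
        exact Ideal.subset_span ⟨i, rfl⟩
    · rw [Ideal.span_le]
      rintro _ ⟨i, rfl⟩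
      by_cases hik : i = k
      · subst hik
        have h1 : algebraMap Λ S (π' i) ∈
            Ideal.span (Set.range fun i => algebraMap Λ S (π' i)) := Ideal.subset_span ⟨i, rfl⟩
        rw [hπ'k, map_mul] at h1
        exact (Ideal.unit_mul_mem_iff_mem _ hu).mp h1
      · have h1 : algebraMap Λ S (π' i) ∈
            Ideal.span (Set.range fun i => algebraMap Λ S (π' i)) := Ideal.subset_span ⟨i, rfl⟩
        rw [hπ'ne i hik] at h1
        exact h1
  · intro i
    by_cases hik : i = k
    · subst hik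
      rw [hπ'k, mul_pow]
      exact I.mul_mem_left _ (hN i)
    · rw [hπ'ne i hik]
      exact hN i
  · intro i hi
    have hle : (i : ℕ) ≤ (k : ℕ) := by omega
    have hKid : Kid π' e i = Kid π e i := Kid_update π e k (s * π k) i hle
    by_cases hik : i = k
    · subst hik
      intro y hy
      rw [hKid] at hy ⊢
      rw [hπ'k] at hy ⊢
      -- `π i ^ 2 * (s ^ 2 * y) ∈ K`
      have h1 : s ^ 2 * y ∈ C := by
        rw [hC]
        have : π i ^ 2 * (s ^ 2 * y) = (s * π i) ^ 2 * y := by ring
        rw [this]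
        exact hy
      have h2 : s * (s ^ 2 * y) ∈ K := hsC _ h1
      have h3 : s ^ 2 * (s * y) ∈ K := by
        have : s ^ 2 * (s * y) = s * (s ^ 2 * y) := by ring
        rw [this]
        exact h2
      have h4 : s * (s * y) ∈ K := hstab _ h3
      have h5 : s ^ 2 * y ∈ K := by
        have : s ^ 2 * y = s * (s * y) := by ring
        rw [this]
        exact h4
      have h6 : s * y ∈ K := hstab _ h5
      have : s * π i * y = π i * (s * y) := by ring
      rw [this]
      exact K.mul_mem_left _ h6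
    · have hlt : (i : ℕ) < (k : ℕ) := by
        rcases Nat.lt_or_ge (i : ℕ) (k : ℕ) with h | h
        · exact h
        · exact absurd (Fin.ext (by omega)) hik
      intro y hy
      rw [hKid] at hy ⊢
      rw [hπ'ne i hik] at hy ⊢
      exact hP i hlt y hy

/-- all steps. -/
theorem exists_all_steps [IsRegularLocalRing S] {d : ℕ} (hd : ringKrullDim S = d) (I : Ideal Λ)
    (e N : ℕ) (he : 0 < e) (π₀ : Fin d → Λ)
    (hgen₀ : Ideal.span (Set.range fun i => algebraMap Λ S (π₀ i)) = q.map (algebraMap Λ S))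
    (hN₀ : ∀ i, π₀ i ^ N ∈ I) :
    ∀ k : ℕ, k ≤ d → ∃ π : Fin d → Λ,
      Ideal.span (Set.range fun i => algebraMap Λ S (π i)) = q.map (algebraMap Λ S) ∧
      (∀ i, π i ^ N ∈ I) ∧ ∀ i : Fin d, (i : ℕ) < k → P3 π e i := by
  intro k
  induction k with
  | zero =>
    intro _
    exact ⟨π₀, hgen₀, hN₀, fun i hi => absurd hi (Nat.not_lt_zero _)⟩
  | succ k ih =>
    intro hk
    obtain ⟨π, hgen, hN, hP⟩ := ih (by omega)
    exact exists_step q hd I e N he π hgen hN ⟨k, by omega⟩ hP

end Groth.Agent.Lib.Seat10.Param
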