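import Mathlib
import Groth.Agent.Lib.Seat10ParamC

/-!
# Parameters with annihilator condition, part D (seat 10)

Final statement.
-/

set_option autoImplicit false
universe u

namespace Groth.Agent.Lib.Seat10.Param

open RingTheory.Sequence IsLocalRing

variable {Λ : Type u} [CommRing Λ] [IsNoetherianRing Λ]

theorem exists_parameters (I q : Ideal Λ) [q.IsPrime] (n e d : ℕ) (hn : 0 < n)
    (he : 0 < e)
    (hpow : (q ^ n).map (algebraMap Λ (Localization.AtPrime q)) ≤
      I.map (algebraMap Λ (Localization.AtPrime q)))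
    [IsRegularLocalRing (Localization.AtPrime q)]
    (hd : ringKrullDim (Localization.AtPrime q) = d) :
    ∃ (N : ℕ) (π : Fin d → Λ), 0 < N ∧
      Ideal.span (Set.range fun i => algebraMap Λ (Localization.AtPrime q) (π i)) =
        q.map (algebraMap Λ (Localization.AtPrime q)) ∧
      (∀ i, π i ^ N ∈ I) ∧
      ∀ i : Fin d, ∀ x : Λ ⧸ Ideal.span (Set.range fun j : {j : Fin d // (j : ℕ) < (i : ℕ)} =>
          π j ^ e),
        Ideal.Quotient.mk _ (π i) ^ 2 * x = 0 → Ideal.Quotient.mk _ (π i) * x = 0 := by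
  classical
  obtain ⟨π₀, hgen₀⟩ := exists_generators q hd
  -- `π₀ i ∈ q`
  have hπ₀q : ∀ i, π₀ i ∈ q := by
    intro i
    have h1 : algebraMap Λ (Localization.AtPrime q) (π₀ i) ∈
        q.map (algebraMap Λ (Localization.AtPrime q)) := by
      rw [← hgen₀]
      exact Ideal.subset_span ⟨i, rfl⟩
    rw [Localization.AtPrime.map_eq_maximalIdeal] at h1
    exact (IsLocalization.AtPrime.to_map_mem_maximal_iff _ q _).mp h1
  -- multipliers putting the `n`-th powers into `I`
  have hex : ∀ i, ∃ t : Λ, t ∉ q ∧ t * π₀ i ^ n ∈ I := by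
    intro i
    have h1 : algebraMap Λ (Localization.AtPrime q) (π₀ i ^ n) ∈
        I.map (algebraMap Λ (Localization.AtPrime q)) :=
      hpow (Ideal.mem_map_of_mem _ (Ideal.pow_mem_pow (hπ₀q i) n))
    obtain ⟨⟨⟨a, ha⟩, t⟩, hat⟩ :=
      (IsLocalization.mem_map_algebraMap_iff q.primeCompl (Localization.AtPrime q)).mp h1
    simp only at hat
    rw [← map_mul] at hat
    obtain ⟨c, hc⟩ := (IsLocalization.eq_iff_exists q.primeCompl (Localization.AtPrime q)).mp hat
    refine ⟨(c : Λ) * (t : Λ), (c * t).2, ?_⟩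
    have : (c : Λ) * (t : Λ) * π₀ i ^ n = c * a := by
      rw [← hc]; ring
    rw [this]
    exact Ideal.mul_mem_left _ _ ha
  choose t htq ht using hex
  let π₁ : Fin d → Λ := fun i => t i * π₀ i
  have hgen₁ : Ideal.span (Set.range fun i => algebraMap Λ (Localization.AtPrime q) (π₁ i)) =
      q.map (algebraMap Λ (Localization.AtPrime q)) := by
    rw [← hgen₀]
    have hu : ∀ i, IsUnit (algebraMap Λ (Localization.AtPrime q) (t i)) := fun i =>
      IsLocalization.map_units (Localization.AtPrime q) (⟨t i, htq i⟩ : q.primeCompl)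
    apply le_antisymm
    · rw [Ideal.span_le]
      rintro _ ⟨i, rfl⟩
      change algebraMap Λ (Localization.AtPrime q) (t i * π₀ i) ∈ _
      rw [map_mul]
      exact Ideal.mul_mem_left _ _ (Ideal.subset_span ⟨i, rfl⟩)
    · rw [Ideal.span_le]
      rintro _ ⟨i, rfl⟩
      have h1 : algebraMap Λ (Localization.AtPrime q) (π₁ i) ∈
          Ideal.span (Set.range fun i => algebraMap Λ (Localization.AtPrime q) (π₁ i)) :=
        Ideal.subset_span ⟨i, rfl⟩
      change algebraMap Λ (Localization.AtPrime q) (t i * π₀ i) ∈ _ at h1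
      rw [map_mul] at h1
      exact (Ideal.unit_mul_mem_iff_mem _ (hu i)).mp h1
  have hN₁ : ∀ i, π₁ i ^ n ∈ I := by
    intro i
    change (t i * π₀ i) ^ n ∈ I
    obtain ⟨n', rfl⟩ : ∃ n', n = n' + 1 := ⟨n - 1, by omega⟩
    have : (t i * π₀ i) ^ (n' + 1) = t i ^ n' * (t i * π₀ i ^ (n' + 1)) := by ring
    rw [this]
    exact I.mul_mem_left _ (ht i)
  obtain ⟨π, hgen, hN, hP⟩ := exists_all_steps q hd I e n he π₁ hgen₁ hN₁ d le_rfl
  refine ⟨n, π, hn, hgen, hN, ?_⟩
  intro i x hx
  obtain ⟨y, rfl⟩ := Ideal.Quotient.mk_surjective x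
  rw [← map_pow, ← map_mul, Ideal.Quotient.eq_zero_iff_mem] at hx
  rw [← map_mul, Ideal.Quotient.eq_zero_iff_mem]
  exact hP i i.2 y hx

end Groth.Agent.Lib.Seat10.Param
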