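import Mathlib

/-!
# Principal radical ideals, part A (seat 10)

Second symbolic power of a prime, the "locally principal" structure of the associated primes of a
principal ideal in a Noetherian integrally closed domain, and the resulting criterion for a
principal ideal to be radical.
-/

set_option autoImplicit false

namespace Groth.Agent.Lib.Seat10.PrincRad

variable {R : Type*} [CommRing R]

/-- The second symbolic power of a prime ideal, in elementary form. -/
def symSq (q : Ideal R) [hq : q.IsPrime] : Ideal R where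
  carrier := {a | ∃ c, c ∉ q ∧ c * a ∈ q ^ 2}
  zero_mem' := ⟨1, fun h => hq.ne_top ((Ideal.eq_top_iff_one _).mpr h), by simp⟩
  add_mem' := by
    rintro a b ⟨c, hc, hca⟩ ⟨d, hd, hdb⟩
    refine ⟨c * d, fun h => (hq.mem_or_mem h).elim hc hd, ?_⟩
    have h1 : c * d * a = d * (c * a) := by ring
    have h2 : c * d * b = c * (d * b) := by ring
    rw [mul_add, h1, h2]
    exact Ideal.add_mem _ (Ideal.mul_mem_left _ _ hca) (Ideal.mul_mem_left _ _ hdb)
  smul_mem' := by
    rintro r a ⟨c, hc, hca⟩
    refine ⟨c, hc, ?_⟩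
    have : c * (r • a) = r * (c * a) := by simp only [smul_eq_mul]; ring
    rw [this]
    exact Ideal.mul_mem_left _ _ hca

theorem mem_symSq {q : Ideal R} [q.IsPrime] {a : R} :
    a ∈ symSq q ↔ ∃ c, c ∉ q ∧ c * a ∈ q ^ 2 := Iff.rfl

theorem sq_le_symSq (q : Ideal R) [hq : q.IsPrime] : q ^ 2 ≤ symSq q := fun a ha =>
  ⟨1, fun h => hq.ne_top ((Ideal.eq_top_iff_one _).mpr h), by simpa using ha⟩

theorem symSq_le (q : Ideal R) [hq : q.IsPrime] : symSq q ≤ q := by
  rintro a ⟨c, hc, hca⟩
  have : c * a ∈ q := Ideal.pow_le_self two_ne_zero hca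
  exact (hq.mem_or_mem this).resolve_left hc

/-- `symSq q` is `q`-primary. -/
theorem mem_symSq_of_mul_mem {q : Ideal R} [hq : q.IsPrime] {a b : R} (ha : a ∉ q)
    (hab : a * b ∈ symSq q) : b ∈ symSq q := by
  obtain ⟨c, hc, hcab⟩ := hab
  exact ⟨c * a, fun h => (hq.mem_or_mem h).elim hc ha, by rwa [mul_assoc]⟩

theorem mul_mem_symSq_of_mem_of_mem {q : Ideal R} [q.IsPrime] {a b : R} (ha : a ∈ q)
    (hb : b ∈ q) : a * b ∈ symSq q :=
  sq_le_symSq q (by rw [pow_two]; exact Ideal.mul_mem_mul ha hb)

/-- In a Noetherian domain, a nonzero prime is not equal to its second symbolic power. -/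
theorem exists_mem_notMem_symSq [IsDomain R] [IsNoetherianRing R] (q : Ideal R) [hq : q.IsPrime]
    (hq0 : q ≠ ⊥) : ∃ a ∈ q, a ∉ symSq q := by
  by_contra hcon
  push Not at hcon
  let A := Localization.AtPrime q
  have hmap : q.map (algebraMap R A) = IsLocalRing.maximalIdeal A :=
    Localization.AtPrime.map_eq_maximalIdeal
  have hle : IsLocalRing.maximalIdeal A ≤ IsLocalRing.maximalIdeal A • IsLocalRing.maximalIdeal A := by
    rw [← hmap, smul_eq_mul, ← Ideal.map_mul]
    apply Ideal.map_le_of_le_comap
    intro a ha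
    obtain ⟨c, hc, hca⟩ := hcon a ha
    rw [Ideal.mem_comap]
    have hu : IsUnit (algebraMap R A c) := IsLocalization.map_units A (⟨c, hc⟩ : q.primeCompl)
    have h1 : algebraMap R A (c * a) ∈ (q * q).map (algebraMap R A) :=
      Ideal.mem_map_of_mem _ (by rwa [← pow_two])
    rw [map_mul] at h1
    exact (Ideal.unit_mul_mem_iff_mem _ hu).mp h1
  have hbot : IsLocalRing.maximalIdeal A = ⊥ :=
    Submodule.eq_bot_of_le_smul_of_le_jacobson_bot (IsLocalRing.maximalIdeal A) _
      (IsNoetherian.noetherian _) hle (by rw [IsLocalRing.jacobson_eq_maximalIdeal _ bot_ne_top])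
  apply hq0
  rw [eq_bot_iff]
  intro a ha
  have : algebraMap R A a ∈ IsLocalRing.maximalIdeal A := by
    rw [← hmap]; exact Ideal.mem_map_of_mem _ ha
  rw [hbot, Ideal.mem_bot] at this
  have hinj : Function.Injective (algebraMap R A) :=
    IsLocalization.injective A (Ideal.primeCompl_le_nonZeroDivisors q)
  exact (Ideal.mem_bot).mpr (hinj (by rw [this, map_zero]))


section normal

variable [IsDomain R] [IsNoetherianRing R] [IsIntegrallyClosed R]

/-- Associated primes of a nonzero principal ideal in a Noetherian integrally closed domain are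
locally principal: there are `π ∈ P` and `c ∉ P` with `c • P ≤ (π)`. -/
theorem exists_local_generator {f : R} (hf : f ≠ 0) {P : Ideal R}
    (hP : P ∈ associatedPrimes R (R ⧸ Ideal.span {f})) :
    ∃ π ∈ P, ∃ c, c ∉ P ∧ ∀ p ∈ P, c * p ∈ Ideal.span {π} := by
  obtain ⟨hPp, z, hz⟩ := (isAssociatedPrime_iff).mp hP
  obtain ⟨b, rfl⟩ := Ideal.Quotient.mk_surjective z
  have hmem : ∀ r : R, r ∈ P ↔ ∃ s, r * b = f * s := by
    intro r
    rw [hz, Submodule.mem_colon_singleton, Submodule.mem_bot, Algebra.smul_def,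
      Ideal.Quotient.algebraMap_eq, ← map_mul,
      Ideal.Quotient.eq_zero_iff_mem, Ideal.mem_span_singleton']
    constructor
    · rintro ⟨s, hs⟩; exact ⟨s, by rw [← hs, mul_comm]⟩
    · rintro ⟨s, hs⟩; exact ⟨s, by rw [hs, mul_comm]⟩
  have hfP : f ∈ P := (hmem f).mpr ⟨b, rfl⟩
  have hb : ∀ s, b ≠ f * s := by
    intro s hs
    apply hPp.ne_top
    rw [Ideal.eq_top_iff_one, hmem]
    exact ⟨s, by rw [one_mul, hs]⟩
  by_cases hcase : ∀ p ∈ P, ∀ s, p * b = f * s → s ∈ P
  · -- then `b / f` is integral over `R`, a contradiction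
    exfalso
    let K := FractionRing R
    have hinj : Function.Injective (algebraMap R K) := IsFractionRing.injective R K
    have hfK : algebraMap R K f ≠ 0 := fun h => hf (hinj (by rw [h, map_zero]))
    let y : K := algebraMap R K b / algebraMap R K f
    let N : Submodule R K := Submodule.map (Algebra.linearMap R K) P
    have hN0 : N ≠ ⊥ := by
      intro h
      have : algebraMap R K f ∈ N := ⟨f, hfP, rfl⟩
      rw [h, Submodule.mem_bot] at this
      exact hfK this
    have hNfg : N.FG := Submodule.FG.map _ (IsNoetherian.noetherian P)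
    have hy : IsIntegral R y := by
      refine isIntegral_of_smul_mem_submodule N hN0 hNfg y ?_
      rintro _ ⟨p, hp, rfl⟩
      obtain ⟨s, hs⟩ := (hmem p).mp hp
      refine ⟨s, hcase p hp s hs, ?_⟩
      simp only [Algebra.linearMap_apply, smul_eq_mul, y]
      rw [div_mul_eq_mul_div, eq_div_iff hfK, ← map_mul, ← map_mul]
      congr 1
      rw [mul_comm s f, ← hs, mul_comm]
    obtain ⟨r, hr⟩ := (IsIntegrallyClosed.isIntegral_iff (R := R) (K := K)).mp hy
    apply hb r
    apply hinj
    rw [map_mul, hr]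
    simp only [y]
    rw [mul_div_cancel₀ _ hfK]
  · push Not at hcase
    obtain ⟨π, hπ, c, hc, hcP⟩ := hcase
    refine ⟨π, hπ, c, hcP, ?_⟩
    intro p hp
    obtain ⟨s, hs⟩ := (hmem p).mp hp
    rw [Ideal.mem_span_singleton']
    refine ⟨s, ?_⟩
    apply mul_left_cancel₀ hf
    calc f * (s * π) = π * (f * s) := by ring
      _ = π * (p * b) := by rw [hs]
      _ = p * (π * b) := by ring
      _ = p * (f * c) := by rw [hc]
      _ = f * (c * p) := by ring

/-- Associated primes of a nonzero principal ideal in a Noetherian integrally closed domain are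
minimal over it. -/
theorem mem_minimalPrimes_of_mem_associatedPrimes {f : R} (hf : f ≠ 0) {P : Ideal R}
    (hP : P ∈ associatedPrimes R (R ⧸ Ideal.span {f})) :
    P ∈ (Ideal.span {f}).minimalPrimes := by
  obtain ⟨π, hπ, c, hc, hcP⟩ := exists_local_generator hf hP
  have hPp : P.IsPrime := (isAssociatedPrime_iff.mp hP).1
  have hfP : f ∈ P := by
    obtain ⟨_, z, hz⟩ := (isAssociatedPrime_iff).mp hP
    obtain ⟨b, rfl⟩ := Ideal.Quotient.mk_surjective z
    rw [hz, Submodule.mem_colon_singleton, Submodule.mem_bot, Algebra.smul_def,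
      Ideal.Quotient.algebraMap_eq, ← map_mul, Ideal.Quotient.eq_zero_iff_mem,
      Ideal.mem_span_singleton]
    exact dvd_mul_right _ _
  -- `P` has height at most one since it is locally principal
  let A := Localization.AtPrime P
  have hmap : P.map (algebraMap R A) = Ideal.span {algebraMap R A π} := by
    apply le_antisymm
    · apply Ideal.map_le_of_le_comap
      intro p hp
      rw [Ideal.mem_comap]
      have hu : IsUnit (algebraMap R A c) := IsLocalization.map_units A (⟨c, hc⟩ : P.primeCompl)
      have h1 : algebraMap R A (c * p) ∈ Ideal.span {algebraMap R A π} := by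
        obtain ⟨s, hs⟩ := Ideal.mem_span_singleton'.mp (hcP p hp)
        rw [← hs, map_mul]
        exact Ideal.mul_mem_left _ _ (Ideal.subset_span rfl)
      rw [map_mul] at h1
      exact (Ideal.unit_mul_mem_iff_mem _ hu).mp h1
    · rw [Ideal.span_le, Set.singleton_subset_iff]
      exact Ideal.mem_map_of_mem _ hπ
  have hht : P.height ≤ 1 := by
    have h1 : (IsLocalRing.maximalIdeal A).height ≤ 1 := by
      have hmin : IsLocalRing.maximalIdeal A ∈ (Ideal.span {algebraMap R A π}).minimalPrimes := by
        rw [← hmap, Localization.AtPrime.map_eq_maximalIdeal]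
        exact ⟨⟨inferInstance, le_rfl⟩, fun J hJ _ => hJ.2⟩
      exact Ideal.height_le_one_of_isPrincipal_of_mem_minimalPrimes _ _ hmin
    rwa [← IsLocalization.height_under P.primeCompl, Localization.AtPrime.under_maximalIdeal] at h1
  refine Ideal.mem_minimalPrimes_of_height_le ((Ideal.span_singleton_le_iff_mem _).mpr hfP)
    (hht.trans ?_)
  apply Ideal.one_le_height_span_singleton_of_mem_nonZeroDivisors
  exact mem_nonZeroDivisors_of_ne_zero hf

/-- A nonzero principal ideal of a Noetherian integrally closed domain is radical as soon as its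
generator is not in the second symbolic power of any minimal prime over it. -/
theorem isRadical_span_singleton {f : R} (hf : f ≠ 0)
    (h : ∀ (q : Ideal R) [q.IsPrime], q ∈ (Ideal.span {f}).minimalPrimes → f ∉ symSq q) :
    (Ideal.span {f}).IsRadical := by
  intro a ha
  by_contra hna
  have hne : (Ideal.Quotient.mk (Ideal.span {f}) a) ≠ 0 := by
    rwa [Ne, Ideal.Quotient.eq_zero_iff_mem]
  obtain ⟨P, hP, hle⟩ := exists_le_isAssociatedPrime_of_isNoetherianRing (R := R) _ hne
  have hPp : P.IsPrime := hP.isPrime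
  have hPmin := mem_minimalPrimes_of_mem_associatedPrimes hf hP
  obtain ⟨π, hπ, c, hc, hcP⟩ := exists_local_generator hf hP
  have hfP : f ∈ P := hPmin.1.2 (Ideal.subset_span rfl)
  have haP : a ∈ P := by
    obtain ⟨n, hn⟩ := ha
    exact hPp.mem_of_pow_mem n (hPmin.1.2 hn)
  obtain ⟨u, hu⟩ := Ideal.mem_span_singleton'.mp (hcP f hfP)
  obtain ⟨v, hv⟩ := Ideal.mem_span_singleton'.mp (hcP a haP)
  -- `u ∉ P` since `f ∉ symSq P`
  have huP : u ∉ P := by
    intro huP
    apply h P hPmin
    refine ⟨c * c, fun hcc => (hPp.mem_or_mem hcc).elim hc hc, ?_⟩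
    obtain ⟨w, hw⟩ := Ideal.mem_span_singleton'.mp (hcP u huP)
    have : c * c * f = (w * π) * π := by
      calc c * c * f = c * (c * f) := by ring
        _ = c * (u * π) := by rw [hu]
        _ = (c * u) * π := by ring
        _ = (w * π) * π := by rw [hw]
    rw [this, pow_two]
    exact Ideal.mul_mem_mul (Ideal.mul_mem_left _ _ hπ) hπ
  apply huP
  apply hle
  rw [Submodule.mem_colon_singleton, Submodule.mem_bot, Algebra.smul_def,
    Ideal.Quotient.algebraMap_eq, ← map_mul,
    Ideal.Quotient.eq_zero_iff_mem, Ideal.mem_span_singleton']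
  refine ⟨v, ?_⟩
  have hc0 : c ≠ 0 := fun h0 => hc (h0 ▸ P.zero_mem)
  apply mul_left_cancel₀ hc0
  calc c * (v * f) = v * (c * f) := by ring
    _ = v * (u * π) := by rw [hu]
    _ = u * (v * π) := by ring
    _ = u * (c * a) := by rw [hv]
    _ = c * (u * a) := by ring

end normal

end Groth.Agent.Lib.Seat10.PrincRad
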