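import Groth.Agent.Lib.Seat10PrincRadA

/-!
# Principal radical ideals, part B (seat 10)

Elements with prescribed behaviour at finitely many height-one primes, and prime avoidance picks.
-/

set_option autoImplicit false

namespace Groth.Agent.Lib.Seat10.PrincRad

variable {R : Type*} [CommRing R]

/-- Prime avoidance: an ideal not contained in any of finitely many primes has an element outside
all of them. -/
theorem exists_mem_forall_notMem (I : Ideal R) (M : Finset (Ideal R)) (hM : ∀ q ∈ M, q.IsPrime)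
    (hI : ∀ q ∈ M, ¬ I ≤ q) : ∃ y ∈ I, ∀ q ∈ M, y ∉ q := by
  by_contra hcon
  push Not at hcon
  have hsub : (I : Set R) ⊆ ⋃ q ∈ (↑M : Set (Ideal R)), ((fun q => q) q : Ideal R) := by
    intro y hy
    obtain ⟨q, hq, hyq⟩ := hcon y hy
    exact Set.mem_biUnion (Finset.mem_coe.mpr hq) hyq
  by_cases hne : M.Nonempty
  · obtain ⟨q0, hq0⟩ := hne
    obtain ⟨q, hq, hle⟩ := (Ideal.subset_union_prime (f := fun q => q) q0 q0
      (fun i hi _ _ => hM i hi)).mp hsub
    exact hI q hq hle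
  · rw [Finset.not_nonempty_iff_eq_empty] at hne
    subst hne
    obtain ⟨q, hq, _⟩ := hcon 0 I.zero_mem
    simp at hq

section domain

variable [IsDomain R] [IsNoetherianRing R]

/-- Given a finite antichain `Q` of nonzero primes and a subset `bad`, there is an element lying in
all members of `Q`, outside the second symbolic power of the members of `bad` and inside the
second symbolic power of the other members of `Q`. -/
theorem exists_prescribed (Q : Finset (Ideal R)) (hQ : ∀ q ∈ Q, q.IsPrime ∧ q ≠ ⊥)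
    (hanti : ∀ q ∈ Q, ∀ q' ∈ Q, q ≤ q' → q = q') (bad : Finset (Ideal R)) (hbad : bad ⊆ Q) :
    ∃ s : R, (∀ q ∈ Q, s ∈ q) ∧ (∀ (q : Ideal R) [q.IsPrime], q ∈ bad → s ∉ symSq q) ∧
      (∀ (q : Ideal R) [q.IsPrime], q ∈ Q → q ∉ bad → s ∈ symSq q) := by
  classical
  have key : ∀ q ∈ Q, ∃ π a : R, π ∈ q ∧ (∀ [q.IsPrime], π ∉ symSq q) ∧ a ∉ q ∧
      ∀ q' ∈ Q, q' ≠ q → a ∈ q' := by
    intro q hq
    have := (hQ q hq).1
    obtain ⟨π, hπ, hπ'⟩ := exists_mem_notMem_symSq q (hQ q hq).2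
    have hnle : ¬ (Q.erase q).inf (fun q' => q') ≤ q := by
      intro hle
      obtain ⟨q', hq', hle'⟩ := (Ideal.IsPrime.inf_le' (hQ q hq).1).mp hle
      have := hanti q' (Finset.mem_of_mem_erase hq') q hq hle'
      exact (Finset.ne_of_mem_erase hq') this
    obtain ⟨a, ha, haq⟩ := SetLike.not_le_iff_exists.mp hnle
    refine ⟨π, a, hπ, fun {_} => hπ', haq, fun q' hq' hne => ?_⟩
    have : (Q.erase q).inf (fun q' => q') ≤ q' := Finset.inf_le (Finset.mem_erase.mpr ⟨hne, hq'⟩)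
    exact this ha
  choose! π a hπ using key
  refine ⟨∑ q ∈ bad, π q * a q ^ 2, ?_, ?_, ?_⟩
  · intro q0 hq0
    refine Ideal.sum_mem _ fun q hq => ?_
    by_cases hqq : q = q0
    · subst hqq
      exact Ideal.mul_mem_right _ _ (hπ q hq0).1
    · refine Ideal.mul_mem_left _ _ (Ideal.pow_mem_of_mem _ ?_ 2 two_pos)
      exact (hπ q (hbad hq)).2.2.2 q0 hq0 (Ne.symm hqq)
  · intro q0 _ hq0 hmem
    have hq0Q := hbad hq0
    rw [← Finset.add_sum_erase bad _ hq0] at hmem
    have hrest : ∑ q ∈ bad.erase q0, π q * a q ^ 2 ∈ symSq q0 := by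
      refine Ideal.sum_mem _ fun q hq => ?_
      refine Ideal.mul_mem_left _ _ ?_
      have haq : a q ∈ q0 :=
        (hπ q (hbad (Finset.mem_of_mem_erase hq))).2.2.2 q0 hq0Q (Finset.ne_of_mem_erase hq).symm
      rw [pow_two]
      exact mul_mem_symSq_of_mem_of_mem haq haq
    have hfirst : π q0 * a q0 ^ 2 ∈ symSq q0 := (Ideal.add_mem_iff_left _ hrest).mp hmem
    have ha2 : a q0 ^ 2 ∉ q0 := fun h =>
      (hπ q0 hq0Q).2.2.1 (Ideal.IsPrime.mem_of_pow_mem inferInstance 2 h)
    rw [mul_comm] at hfirst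
    exact (hπ q0 hq0Q).2.1 (mem_symSq_of_mul_mem ha2 hfirst)
  · intro q0 _ hq0 hq0bad
    refine Ideal.sum_mem _ fun q hq => ?_
    refine Ideal.mul_mem_left _ _ ?_
    have hne : q0 ≠ q := fun h => hq0bad (h ▸ hq)
    have haq : a q ∈ q0 := (hπ q (hbad hq)).2.2.2 q0 hq0 hne
    rw [pow_two]
    exact mul_mem_symSq_of_mem_of_mem haq haq

end domain

end Groth.Agent.Lib.Seat10.PrincRad
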