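import Groth.Agent.Lib.Seat10PrincRadB

/-!
# Principal radical ideals, part C (seat 10)

A bound for the number of pairwise incomparable primes `q` of a Noetherian local ring not
containing `h` such that `(⋂ q) + (h)` contains a fixed ideal `𝔠` of finite colength.
-/

set_option autoImplicit false

namespace Groth.Agent.Lib.Seat10.PrincRad

open IsLocalRing

section local_bound

variable {A : Type*} [CommRing A] [IsNoetherianRing A] [IsLocalRing A]

theorem card_add_height_le (h : A) (hh : h ∈ maximalIdeal A) (𝔠 : Ideal A)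
    [IsArtinian A (A ⧸ 𝔠)] :
    ∀ S : Finset (Ideal A), (∀ q ∈ S, q.IsPrime ∧ h ∉ q) →
      (∀ q ∈ S, ∀ q' ∈ S, q ≤ q' → q = q') →
      𝔠 ≤ S.inf (fun q => q) ⊔ Ideal.span {h} →
      (S.card : ℕ∞) + Order.height
        (Submodule.map (Submodule.mkQ 𝔠) (S.inf (fun q => q) ⊔ Ideal.span {h})) ≤
          Module.length A (A ⧸ 𝔠) := by
  classical
  intro S
  induction S using Finset.induction_on with
  | empty =>
    intro _ _ _
    simp only [Finset.card_empty, Nat.cast_zero, zero_add, Finset.inf_empty, top_sup_eq]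
    rw [Submodule.map_top, Submodule.range_mkQ, Module.length_eq_height]
  | insert q S₀ hq IH =>
    intro hS hanti hc
    have hS₀ : ∀ q' ∈ S₀, q'.IsPrime ∧ h ∉ q' := fun q' hq' => hS q' (Finset.mem_insert_of_mem hq')
    have hanti₀ : ∀ q₁ ∈ S₀, ∀ q₂ ∈ S₀, q₁ ≤ q₂ → q₁ = q₂ := fun q₁ h₁ q₂ h₂ =>
      hanti q₁ (Finset.mem_insert_of_mem h₁) q₂ (Finset.mem_insert_of_mem h₂)
    have hinf : (insert q S₀).inf (fun q => q) = q ⊓ S₀.inf (fun q => q) := Finset.inf_insert
    have hmono : (insert q S₀).inf (fun q => q) ⊔ Ideal.span {h} ≤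
        S₀.inf (fun q => q) ⊔ Ideal.span {h} := by
      rw [hinf]; exact sup_le_sup_right inf_le_right _
    have hc₀ : 𝔠 ≤ S₀.inf (fun q => q) ⊔ Ideal.span {h} := hc.trans hmono
    have IH' := IH hS₀ hanti₀ hc₀
    have hqp : q.IsPrime := (hS q (Finset.mem_insert_self _ _)).1
    -- strictness
    have hlt : Submodule.map (Submodule.mkQ 𝔠) ((insert q S₀).inf (fun q => q) ⊔ Ideal.span {h}) <
        Submodule.map (Submodule.mkQ 𝔠) (S₀.inf (fun q => q) ⊔ Ideal.span {h}) := by
      refine lt_of_le_of_ne (Submodule.map_mono hmono) fun heq => ?_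
      have h1 : S₀.inf (fun q => q) ⊔ Ideal.span {h} ≤
          (insert q S₀).inf (fun q => q) ⊔ Ideal.span {h} := by
        have := congrArg (Submodule.comap (Submodule.mkQ 𝔠)) heq
        rw [Submodule.comap_map_eq, Submodule.comap_map_eq, Submodule.ker_mkQ] at this
        calc S₀.inf (fun q => q) ⊔ Ideal.span {h}
            ≤ (S₀.inf (fun q => q) ⊔ Ideal.span {h}) ⊔ 𝔠 := le_sup_left
          _ = ((insert q S₀).inf (fun q => q) ⊔ Ideal.span {h}) ⊔ 𝔠 := this.symm
          _ ≤ (insert q S₀).inf (fun q => q) ⊔ Ideal.span {h} := sup_le le_rfl hc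
      have h2 : S₀.inf (fun q => q) ≤
          (insert q S₀).inf (fun q => q) ⊔ Ideal.span {h} • S₀.inf (fun q => q) := by
        intro b hb
        have hb' := h1 (Ideal.mem_sup_left hb)
        obtain ⟨b', hb'I, c, hc', hbc⟩ := Submodule.mem_sup.mp hb'
        obtain ⟨r, rfl⟩ := Ideal.mem_span_singleton'.mp hc'
        have hb'I₀ : b' ∈ S₀.inf (fun q => q) := by
          rw [hinf] at hb'I; exact hb'I.2
        have hrh : r * h ∈ S₀.inf (fun q => q) := by
          have : r * h = b - b' := by rw [← hbc]; ring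
          rw [this]; exact Ideal.sub_mem _ hb hb'I₀
        have hr : r ∈ S₀.inf (fun q => q) := by
          rw [Submodule.mem_finsetInf] at hrh ⊢
          intro q' hq'
          have := (hS₀ q' hq').1
          exact ((hS₀ q' hq').1.mem_or_mem (hrh q' hq')).resolve_right (hS₀ q' hq').2
        rw [← hbc]
        refine Submodule.add_mem_sup hb'I ?_
        rw [mul_comm, ← smul_eq_mul]
        exact Submodule.smul_mem_smul (Ideal.mem_span_singleton_self h) hr
      have h3 : S₀.inf (fun q => q) ≤ (insert q S₀).inf (fun q => q) :=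
        Submodule.le_of_le_smul_of_le_jacobson_bot (IsNoetherian.noetherian _)
          (by rw [IsLocalRing.jacobson_eq_maximalIdeal _ bot_ne_top, Ideal.span_le,
            Set.singleton_subset_iff]; exact hh) h2
      have h4 : S₀.inf (fun q => q) ≤ q := h3.trans (by rw [hinf]; exact inf_le_left)
      obtain ⟨q', hq', hle⟩ := (Ideal.IsPrime.inf_le' hqp).mp h4
      have := hanti q' (Finset.mem_insert_of_mem hq') q (Finset.mem_insert_self _ _) hle
      exact hq (this ▸ hq')
    have hstep := Order.add_one_le_of_lt ((Submodule.height_strictMono (R := A)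
      (M := A ⧸ 𝔠)) hlt)
    rw [Finset.card_insert_of_notMem hq]
    push_cast
    calc (S₀.card : ℕ∞) + 1 + Order.height (Submodule.map (Submodule.mkQ 𝔠)
          ((insert q S₀).inf (fun q => q) ⊔ Ideal.span {h}))
        = (S₀.card : ℕ∞) + (Order.height (Submodule.map (Submodule.mkQ 𝔠)
          ((insert q S₀).inf (fun q => q) ⊔ Ideal.span {h})) + 1) := by ring
      _ ≤ (S₀.card : ℕ∞) + Order.height (Submodule.map (Submodule.mkQ 𝔠)
          (S₀.inf (fun q => q) ⊔ Ideal.span {h})) := by gcongr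
      _ ≤ _ := IH'

theorem card_le_length (h : A) (hh : h ∈ maximalIdeal A) (𝔠 : Ideal A)
    [IsArtinian A (A ⧸ 𝔠)] (S : Finset (Ideal A)) (hS : ∀ q ∈ S, q.IsPrime ∧ h ∉ q)
    (hanti : ∀ q ∈ S, ∀ q' ∈ S, q ≤ q' → q = q')
    (hc : 𝔠 ≤ S.inf (fun q => q) ⊔ Ideal.span {h}) :
    (S.card : ℕ∞) ≤ Module.length A (A ⧸ 𝔠) :=
  le_trans le_self_add (card_add_height_le h hh 𝔠 S hS hanti hc)

end local_bound


section global_bound

variable {R : Type*} [CommRing R] [IsNoetherianRing R]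

theorem exists_bound_at (x h : R) (W : Ideal R)
    (hW : W ∈ (Ideal.span {x, h}).minimalPrimes) :
    ∃ n : ℕ, ∀ f : R, f - x ∈ Ideal.span {h} → ∀ S : Finset (Ideal R),
      (∀ q ∈ S, q.IsPrime ∧ f ∈ q ∧ h ∉ q ∧ q ≤ W) →
      (∀ q ∈ S, ∀ q' ∈ S, q ≤ q' → q = q') → S.card ≤ n := by
  classical
  have hWp : W.IsPrime := hW.1.1
  let A := Localization.AtPrime W
  let 𝔠 : Ideal A := (Ideal.span {x, h}).map (algebraMap R A)
  have hmin : maximalIdeal A ∈ 𝔠.minimalPrimes := by
    rwa [IsLocalization.minimalPrimes_map W.primeCompl A, Set.mem_preimage,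
      Localization.AtPrime.under_maximalIdeal]
  have : IsArtinianRing (A ⧸ 𝔠) :=
    IsLocalRing.quotient_artinian_of_mem_minimalPrimes_of_isLocalRing 𝔠 hmin
  have : IsArtinian A (A ⧸ 𝔠) :=
    isArtinian_of_surjective_algebraMap (R := A ⧸ 𝔠) Ideal.Quotient.mk_surjective
  have hfin : Module.length A (A ⧸ 𝔠) ≠ ⊤ := Module.length_ne_top
  obtain ⟨n, hn⟩ := ENat.ne_top_iff_exists.mp hfin
  refine ⟨n, fun f hf S hS hanti => ?_⟩
  have hdisj : ∀ q ∈ S, Disjoint (W.primeCompl : Set R) (q : Set R) := fun q hq =>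
    Set.disjoint_left.mpr fun a ha haq => ha ((hS q hq).2.2.2 haq)
  have hcomap : ∀ q ∈ S, (q.map (algebraMap R A)).comap (algebraMap R A) = q := fun q hq =>
    IsLocalization.under_map_of_isPrime_disjoint W.primeCompl A (hS q hq).1 (hdisj q hq)
  let S' := S.image (fun q => q.map (algebraMap R A))
  have hcard : S'.card = S.card := by
    apply Finset.card_image_of_injOn
    intro q₁ h₁ q₂ h₂ heq
    have := congrArg (Ideal.comap (algebraMap R A)) heq
    rwa [hcomap q₁ h₁, hcomap q₂ h₂] at this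
  have hhW : h ∈ W := hW.1.2 (Ideal.subset_span (by simp))
  have hh' : algebraMap R A h ∈ maximalIdeal A :=
    (IsLocalization.AtPrime.to_map_mem_maximal_iff A W h).mpr hhW
  have hS' : ∀ q' ∈ S', q'.IsPrime ∧ algebraMap R A h ∉ q' := by
    intro q' hq'
    obtain ⟨q, hq, rfl⟩ := Finset.mem_image.mp hq'
    refine ⟨IsLocalization.isPrime_of_isPrime_disjoint W.primeCompl A q (hS q hq).1 (hdisj q hq),
      fun hmem => (hS q hq).2.2.1 ?_⟩
    rw [← hcomap q hq]
    exact hmem
  have hanti' : ∀ q₁ ∈ S', ∀ q₂ ∈ S', q₁ ≤ q₂ → q₁ = q₂ := by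
    intro q₁' h₁ q₂' h₂ hle
    obtain ⟨q₁, hq₁, rfl⟩ := Finset.mem_image.mp h₁
    obtain ⟨q₂, hq₂, rfl⟩ := Finset.mem_image.mp h₂
    have := Ideal.comap_mono (f := algebraMap R A) hle
    rw [hcomap q₁ hq₁, hcomap q₂ hq₂] at this
    rw [hanti q₁ hq₁ q₂ hq₂ this]
  have hc : 𝔠 ≤ S'.inf (fun q => q) ⊔ Ideal.span {algebraMap R A h} := by
    apply Ideal.map_le_of_le_comap
    rw [Ideal.span_le]
    have hfmem : algebraMap R A f ∈ S'.inf (fun q => q) := by
      rw [Submodule.mem_finsetInf]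
      intro q' hq'
      obtain ⟨q, hq, rfl⟩ := Finset.mem_image.mp hq'
      exact Ideal.mem_map_of_mem _ (hS q hq).2.1
    have hhmem : algebraMap R A h ∈ S'.inf (fun q => q) ⊔ Ideal.span {algebraMap R A h} :=
      Ideal.mem_sup_right (Ideal.mem_span_singleton_self _)
    intro z hz
    rcases hz with rfl | rfl
    · obtain ⟨r, hr⟩ := Ideal.mem_span_singleton'.mp hf
      have hx : z = f - r * h := by rw [hr]; ring
      rw [SetLike.mem_coe, Ideal.mem_comap, hx, map_sub, map_mul]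
      exact Ideal.sub_mem _ (Ideal.mem_sup_left hfmem) (Ideal.mul_mem_left _ _ hhmem)
    · exact hhmem
  have := card_le_length (algebraMap R A h) hh' 𝔠 S' hS' hanti' hc
  rw [hcard, ← hn] at this
  exact_mod_cast this

theorem exists_bound (x h : R) :
    ∃ B : ℕ, ∀ f : R, f - x ∈ Ideal.span {h} → ∀ S : Finset (Ideal R),
      (∀ q ∈ S, q.IsPrime ∧ f ∈ q ∧ h ∉ q ∧ ∃ W ∈ (Ideal.span {x, h}).minimalPrimes, q ≤ W) →
      (∀ q ∈ S, ∀ q' ∈ S, q ≤ q' → q = q') → S.card ≤ B := by
  classical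
  have hfin : (Ideal.span {x, h}).minimalPrimes.Finite :=
    Ideal.finite_minimalPrimes_of_isNoetherianRing R _
  have key : ∀ W ∈ (Ideal.span {x, h}).minimalPrimes, ∃ n : ℕ, ∀ f : R,
      f - x ∈ Ideal.span {h} → ∀ S : Finset (Ideal R),
      (∀ q ∈ S, q.IsPrime ∧ f ∈ q ∧ h ∉ q ∧ q ≤ W) →
      (∀ q ∈ S, ∀ q' ∈ S, q ≤ q' → q = q') → S.card ≤ n := fun W hW => exists_bound_at x h W hW
  choose! n hn using key
  refine ⟨∑ W ∈ hfin.toFinset, n W, fun f hf S hS hanti => ?_⟩
  have hsub : S ⊆ hfin.toFinset.biUnion (fun W => S.filter (fun q => q ≤ W)) := by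
    intro q hq
    obtain ⟨W, hW, hle⟩ := (hS q hq).2.2.2
    exact Finset.mem_biUnion.mpr ⟨W, hfin.mem_toFinset.mpr hW, Finset.mem_filter.mpr ⟨hq, hle⟩⟩
  calc S.card ≤ (hfin.toFinset.biUnion (fun W => S.filter (fun q => q ≤ W))).card :=
        Finset.card_le_card hsub
    _ ≤ ∑ W ∈ hfin.toFinset, (S.filter (fun q => q ≤ W)).card := Finset.card_biUnion_le
    _ ≤ ∑ W ∈ hfin.toFinset, n W := by
        refine Finset.sum_le_sum fun W hW => ?_
        refine hn W (hfin.mem_toFinset.mp hW) f hf _ ?_ ?_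
        · intro q hq
          obtain ⟨hqS, hle⟩ := Finset.mem_filter.mp hq
          exact ⟨(hS q hqS).1, (hS q hqS).2.1, (hS q hqS).2.2.1, hle⟩
        · intro q₁ h₁ q₂ h₂
          exact hanti q₁ (Finset.mem_filter.mp h₁).1 q₂ (Finset.mem_filter.mp h₂).1

end global_bound

end Groth.Agent.Lib.Seat10.PrincRad
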