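import Groth.Agent.Lib.Seat10PrincRadC

/-!
# Principal radical ideals, part D (seat 10)

The extremal argument: in a Noetherian local integrally closed domain whose maximal ideal has
height at least two and which satisfies the covering hypothesis `Cover`, every finite set of
height-one primes contains in its intersection a nonzero element generating a radical ideal.
-/

set_option autoImplicit false

namespace Groth.Agent.Lib.Seat10.PrincRad

open IsLocalRing

variable {R : Type*} [CommRing R]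

/-- The covering hypothesis: every height-one prime `q` not containing `h` and with
`x ∈ q + (h)` lies below a minimal prime of `(x, h)`. -/
def Cover (R : Type*) [CommRing R] [IsLocalRing R] : Prop :=
  ∀ x h : R, x ≠ 0 → h ∈ maximalIdeal R → (∀ q ∈ (Ideal.span {x}).minimalPrimes, h ∉ q) →
    ∀ q : Ideal R, q.IsPrime → q.height = 1 → h ∉ q → x ∈ q ⊔ Ideal.span {h} →
      ∃ W ∈ (Ideal.span {x, h}).minimalPrimes, q ≤ W

theorem exists_forall_le_of_bounded {α : Type*} [Nonempty α] (φ : α → ℕ) (B : ℕ)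
    (hB : ∀ a, φ a ≤ B) : ∃ a, ∀ a', φ a' ≤ φ a := by
  have hne : (Set.range φ).Nonempty := Set.range_nonempty φ
  have hbdd : BddAbove (Set.range φ) := ⟨B, by rintro _ ⟨a, rfl⟩; exact hB a⟩
  obtain ⟨a, ha⟩ := Nat.sSup_mem hne hbdd
  exact ⟨a, fun a' => ha ▸ le_csSup hbdd ⟨a', rfl⟩⟩

section domain

variable [IsDomain R] [IsNoetherianRing R]

theorem eq_of_le_of_height_le_one {P q : Ideal R} [P.IsPrime] [q.IsPrime] (hq : q.height ≤ 1)
    (hle : P ≤ q) (hP : P ≠ ⊥) : P = q := by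
  by_contra hne
  have hlt : P < q := lt_of_le_of_ne hle hne
  have h1 : P.height < 1 := (Ideal.height_strict_mono_of_isPrime_of_isPrime hlt).trans_le hq
  have h0 : P.height = 0 := Order.lt_one_iff.mp h1
  exact hP (Ideal.height_eq_zero_iff_eq_bot.mp h0)

theorem height_eq_one_of_mem_minimalPrimes {f : R} (hf : f ≠ 0) {q : Ideal R}
    (hq : q ∈ (Ideal.span {f}).minimalPrimes) : q.height = 1 := by
  have := hq.1.1
  apply le_antisymm (Ideal.height_le_one_of_isPrincipal_of_mem_minimalPrimes _ _ hq)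
  rw [Order.one_le_iff_ne_zero, Ne, Ideal.height_eq_zero_iff_eq_bot]
  intro h0
  apply hf
  have : f ∈ q := hq.1.2 (Ideal.subset_span rfl)
  rwa [h0, Ideal.mem_bot] at this

theorem mem_minimalPrimes_of_height_le_one {f : R} (hf : f ≠ 0) {q : Ideal R} [hq : q.IsPrime]
    (hht : q.height ≤ 1) (hfq : f ∈ q) : q ∈ (Ideal.span {f}).minimalPrimes := by
  refine ⟨⟨hq, (Ideal.span_singleton_le_iff_mem _).mpr hfq⟩, fun P hP hPq => ?_⟩
  have := hP.1
  have hP0 : P ≠ ⊥ := by
    intro h0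
    apply hf
    have : f ∈ P := hP.2 (Ideal.subset_span rfl)
    rwa [h0, Ideal.mem_bot] at this
  exact (eq_of_le_of_height_le_one hht hPq hP0).ge

end domain

section main

variable [IsDomain R] [IsNoetherianRing R] [IsLocalRing R] [IsIntegrallyClosed R]

theorem exists_isRadical_span_singleton (hht : 1 < (maximalIdeal R).height) (hcov : Cover R)
    (T : Finset (Ideal R)) (hT : ∀ q ∈ T, q.IsPrime ∧ q.height = 1) :
    ∃ f : R, f ≠ 0 ∧ (∀ q ∈ T, f ∈ q) ∧ (Ideal.span {f}).IsRadical := by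
  classical
  by_cases hTe : T = ∅
  · subst hTe
    refine ⟨1, one_ne_zero, by simp, ?_⟩
    rw [Ideal.span_singleton_one]
    exact fun _ _ => Submodule.mem_top
  obtain ⟨q0, hq0⟩ := Finset.nonempty_iff_ne_empty.mpr hTe
  have hT0 : ∀ q ∈ T, q.IsPrime ∧ q ≠ ⊥ := fun q hq =>
    ⟨(hT q hq).1, Ideal.ne_bot_of_height_eq_one (hT q hq).2⟩
  have hTanti : ∀ q ∈ T, ∀ q' ∈ T, q ≤ q' → q = q' := by
    intro q hq q' hq' hle
    have := (hT q hq).1
    have := (hT q' hq').1
    exact eq_of_le_of_height_le_one (hT q' hq').2.le hle (hT0 q hq).2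
  obtain ⟨x, hxT, hxns, -⟩ := exists_prescribed T hT0 hTanti T (Finset.Subset.refl _)
  have hx0 : x ≠ 0 := by
    have := (hT q0 hq0).1
    intro h
    exact hxns q0 hq0 (h ▸ (symSq q0).zero_mem)
  have hMxfin : (Ideal.span {x}).minimalPrimes.Finite :=
    Ideal.finite_minimalPrimes_of_isNoetherianRing R _
  have hTMx : ∀ q ∈ T, q ∈ (Ideal.span {x}).minimalPrimes := by
    intro q hq
    have := (hT q hq).1
    exact mem_minimalPrimes_of_height_le_one hx0 (hT q hq).2.le (hxT q hq)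
  -- the element `y`
  obtain ⟨y, hyI, hyT'⟩ := exists_mem_forall_notMem (∏ q ∈ T, q ^ 2) (hMxfin.toFinset \ T)
    (fun q hq => ((hMxfin.mem_toFinset.mp (Finset.mem_sdiff.mp hq).1)).1.1)
    (by
      intro q' hq' hle
      obtain ⟨hq'M, hq'T⟩ := Finset.mem_sdiff.mp hq'
      have hq'p : q'.IsPrime := (hMxfin.mem_toFinset.mp hq'M).1.1
      obtain ⟨q, hq, hqq'⟩ := (Ideal.IsPrime.prod_le hq'p).mp hle
      have hqp := (hT q hq).1
      have hle' : q ≤ q' := Ideal.IsPrime.le_of_pow_le hqq'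
      have hq'ht : q'.height ≤ 1 :=
        (height_eq_one_of_mem_minimalPrimes hx0 (hMxfin.mem_toFinset.mp hq'M)).le
      have := eq_of_le_of_height_le_one hq'ht hle' (hT0 q hq).2
      exact hq'T (this ▸ hq))
  have hyT : ∀ q ∈ T, y ∈ q ^ 2 := fun q hq =>
    (Ideal.prod_le_inf.trans (Finset.inf_le hq)) hyI
  -- the element `h`
  obtain ⟨h, hhm, hhMx'⟩ := exists_mem_forall_notMem (maximalIdeal R) hMxfin.toFinset
    (fun q hq => (hMxfin.mem_toFinset.mp hq).1.1)
    (by
      intro q hq hle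
      have h1 : q.height ≤ 1 :=
        (height_eq_one_of_mem_minimalPrimes hx0 (hMxfin.mem_toFinset.mp hq)).le
      exact absurd ((Ideal.height_mono hle).trans h1) (not_le.mpr hht))
  have hhMx : ∀ q ∈ (Ideal.span {x}).minimalPrimes, h ∉ q := fun q hq =>
    hhMx' q (hMxfin.mem_toFinset.mpr hq)
  -- the family
  let F : R → R := fun t => x + t * (y * h)
  have hF1 : ∀ t, F t - x ∈ Ideal.span {h} := fun t =>
    Ideal.mem_span_singleton'.mpr ⟨t * y, by simp only [F]; ring⟩
  have hFT : ∀ t, ∀ (q : Ideal R) [q.IsPrime], q ∈ T → F t ∈ q ∧ F t ∉ symSq q := by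
    intro t q _ hq
    have hy2 : t * (y * h) ∈ symSq q :=
      Ideal.mul_mem_left _ _ (Ideal.mul_mem_right _ _ (sq_le_symSq q (hyT q hq)))
    refine ⟨Ideal.add_mem _ (hxT q hq) (symSq_le q hy2), fun hmem => hxns q hq ?_⟩
    exact (Ideal.add_mem_iff_left _ hy2).mp hmem
  have hF0 : ∀ t, F t ≠ 0 := by
    intro t h0
    have := (hT q0 hq0).1
    exact (hFT t q0 hq0).2 (h0 ▸ (symSq q0).zero_mem)
  have hxmem : ∀ t, ∀ q : Ideal R, F t ∈ q → (y ∈ q ∨ h ∈ q) → x ∈ q := by
    intro t q hFq hyh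
    have hyh' : t * (y * h) ∈ q := by
      rcases hyh with hy | hh
      · exact Ideal.mul_mem_left _ _ (Ideal.mul_mem_right _ _ hy)
      · exact Ideal.mul_mem_left _ _ (Ideal.mul_mem_left _ _ hh)
    exact (Ideal.add_mem_iff_left _ hyh').mp hFq
  have hMin : ∀ t, ∀ q ∈ (Ideal.span {F t}).minimalPrimes,
      q.IsPrime ∧ q.height = 1 ∧ h ∉ q ∧ (q ∉ T → y ∉ q) := by
    intro t q hq
    have hqp : q.IsPrime := hq.1.1
    have hqht := height_eq_one_of_mem_minimalPrimes (hF0 t) hq
    have hFq : F t ∈ q := hq.1.2 (Ideal.subset_span rfl)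
    refine ⟨hqp, hqht, fun hh => ?_, fun hqT hy => ?_⟩
    · have hxq := hxmem t q hFq (Or.inr hh)
      exact hhMx q (mem_minimalPrimes_of_height_le_one hx0 hqht.le hxq) hh
    · have hxq := hxmem t q hFq (Or.inl hy)
      have hqMx := mem_minimalPrimes_of_height_le_one hx0 hqht.le hxq
      exact hyT' q (Finset.mem_sdiff.mpr ⟨hMxfin.mem_toFinset.mpr hqMx, hqT⟩) hy
  have hFfin : ∀ t, (Ideal.span {F t}).minimalPrimes.Finite := fun t =>
    Ideal.finite_minimalPrimes_of_isNoetherianRing R _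
  have hMinAnti : ∀ t, ∀ q ∈ (Ideal.span {F t}).minimalPrimes,
      ∀ q' ∈ (Ideal.span {F t}).minimalPrimes, q ≤ q' → q = q' := fun t q hq q' hq' hle =>
    le_antisymm hle (hq'.2 hq.1 hle)
  -- the bound
  obtain ⟨B, hB⟩ := exists_bound x h
  have hbound : ∀ t, (Ideal.span {F t}).minimalPrimes.ncard ≤ B := by
    intro t
    rw [Set.ncard_eq_toFinset_card _ (hFfin t)]
    refine hB (F t) (hF1 t) _ ?_ ?_
    · intro q hq
      have hq' := (hFfin t).mem_toFinset.mp hq
      obtain ⟨hqp, hqht, hhq, -⟩ := hMin t q hq'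
      have hFq : F t ∈ q := hq'.1.2 (Ideal.subset_span rfl)
      refine ⟨hqp, hFq, hhq, hcov x h hx0 hhm hhMx q hqp hqht hhq ?_⟩
      have : x = F t - (t * y) * h := by simp only [F]; ring
      rw [this]
      exact Ideal.sub_mem _ (Ideal.mem_sup_left hFq)
        (Ideal.mem_sup_right (Ideal.mul_mem_left _ _ (Ideal.mem_span_singleton_self h)))
    · intro q hq q' hq'
      exact hMinAnti t q ((hFfin t).mem_toFinset.mp hq) q' ((hFfin t).mem_toFinset.mp hq')
  -- extremal choice of `t`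
  obtain ⟨t, ht⟩ := exists_forall_le_of_bounded
    (fun t => (Ideal.span {F t}).minimalPrimes.ncard) B hbound
  let bad : Finset (Ideal R) :=
    (hFfin t).toFinset.filter (fun q => ∃ c, c ∉ q ∧ c * F t ∈ q ^ 2)
  obtain ⟨s, hsP, hsbad, hsgood⟩ := exists_prescribed (hFfin t).toFinset
    (fun q hq => by
      have hq' := (hFfin t).mem_toFinset.mp hq
      exact ⟨hq'.1.1, Ideal.ne_bot_of_height_eq_one (hMin t q hq').2.1⟩)
    (fun q hq q' hq' =>
      hMinAnti t q ((hFfin t).mem_toFinset.mp hq) q' ((hFfin t).mem_toFinset.mp hq'))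
    bad (Finset.filter_subset _ _)
  have hFts : F (t + s) = F t + s * (y * h) := by simp only [F]; ring
  have hnew : ∀ (q : Ideal R) [q.IsPrime], q ∈ (Ideal.span {F t}).minimalPrimes →
      F (t + s) ∈ q ∧ F (t + s) ∉ symSq q := by
    intro q _ hq
    by_cases hqT : q ∈ T
    · exact hFT (t + s) q hqT
    have hqfin : q ∈ (hFfin t).toFinset := (hFfin t).mem_toFinset.mpr hq
    obtain ⟨hqp, -, hhq, hyq⟩ := hMin t q hq
    have hyh : y * h ∉ q := fun hmem => (hqp.mem_or_mem hmem).elim (hyq hqT) hhq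
    have hFq : F t ∈ q := hq.1.2 (Ideal.subset_span rfl)
    have hsq : s ∈ q := hsP q hqfin
    refine ⟨hFts ▸ Ideal.add_mem _ hFq (Ideal.mul_mem_right _ _ hsq), ?_⟩
    rw [hFts]
    by_cases hqbad : q ∈ bad
    · have hFt2 : F t ∈ symSq q := (Finset.mem_filter.mp hqbad).2
      intro hmem
      have h1 : s * (y * h) ∈ symSq q := (Ideal.add_mem_iff_right _ hFt2).mp hmem
      rw [mul_comm] at h1
      exact hsbad q hqbad (mem_symSq_of_mul_mem hyh h1)
    · have hFt2 : F t ∉ symSq q := fun hmem =>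
        hqbad (Finset.mem_filter.mpr ⟨hqfin, hmem⟩)
      have h1 : s * (y * h) ∈ symSq q := Ideal.mul_mem_right _ _ (hsgood q hqfin hqbad)
      intro hmem
      exact hFt2 ((Ideal.add_mem_iff_left _ h1).mp hmem)
  have hsub : (Ideal.span {F t}).minimalPrimes ⊆ (Ideal.span {F (t + s)}).minimalPrimes := by
    intro q hq
    have hqp : q.IsPrime := hq.1.1
    exact mem_minimalPrimes_of_height_le_one (hF0 _) (hMin t q hq).2.1.le (hnew q hq).1
  have heq : (Ideal.span {F t}).minimalPrimes = (Ideal.span {F (t + s)}).minimalPrimes :=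
    Set.eq_of_subset_of_ncard_le hsub (ht (t + s)) (hFfin _)
  refine ⟨F (t + s), hF0 _, fun q hq => ?_, isRadical_span_singleton (hF0 _) ?_⟩
  · have := (hT q hq).1
    exact (hFT (t + s) q hq).1
  · intro q _ hq
    exact (hnew q (heq ▸ hq)).2

end main

end Groth.Agent.Lib.Seat10.PrincRad
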