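import Groth.Agent.Lib.Seat10PrincRadD
import Groth.Prelude.Def_Found

/-!
# Principal radical ideals, part E (seat 10)

The covering hypothesis holds for Noetherian local domains of dimension two and for catenary
Noetherian local domains; final existence theorems.
-/

set_option autoImplicit false

namespace Groth.Agent.Lib.Seat10.PrincRad

open IsLocalRing

universe u

section cover

variable {R : Type u} [CommRing R] [IsDomain R] [IsNoetherianRing R]

omit [IsNoetherianRing R] in
theorem mem_minimalPrimes_pair_of_height_eq_two [IsNoetherianRing R] {x h : R} (hx0 : x ≠ 0)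
    (hhMx : ∀ q ∈ (Ideal.span {x}).minimalPrimes, h ∉ q) {W : Ideal R} [hWp : W.IsPrime]
    (hWht : W.height = 2) (hxW : x ∈ W) (hhW : h ∈ W) :
    W ∈ (Ideal.span {x, h}).minimalPrimes := by
  refine ⟨⟨hWp, ?_⟩, fun P hP hPW => ?_⟩
  · rw [Ideal.span_le]
    rintro z (rfl | rfl)
    · exact hxW
    · exact hhW
  · by_contra hnle
    have := hP.1
    have hlt : P < W := lt_of_le_of_ne hPW fun heq => hnle heq.ge
    have h2 : P.height < 2 := hWht ▸ Ideal.height_strict_mono_of_isPrime_of_isPrime hlt
    have h1 : P.height ≤ 1 := by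
      have h11 : (2 : ℕ∞) = 1 + 1 := by norm_num
      rw [h11] at h2
      exact (ENat.lt_add_one_iff (by simp)).mp h2
    have hxP : x ∈ P := hP.2 (Ideal.subset_span (by simp))
    have hhP : h ∈ P := hP.2 (Ideal.subset_span (by simp))
    exact hhMx P (mem_minimalPrimes_of_height_le_one hx0 h1 hxP) hhP

theorem cover_of_height_eq_two [IsLocalRing R] (hm : (maximalIdeal R).height = 2) : Cover R := by
  intro x h hx0 hhm hhMx q hqp hqht hhq hxq
  have hqm : q ≤ maximalIdeal R := IsLocalRing.le_maximalIdeal hqp.ne_top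
  have hxm : x ∈ maximalIdeal R := by
    have hle : q ⊔ Ideal.span {h} ≤ maximalIdeal R :=
      sup_le hqm ((Ideal.span_singleton_le_iff_mem _).mpr hhm)
    exact hle hxq
  exact ⟨maximalIdeal R, mem_minimalPrimes_pair_of_height_eq_two hx0 hhMx hm hxm hhm, hqm⟩

theorem height_eq_two_of_catenary (hc : CAlg.IsCatenary R) {q W : Ideal R} [hqp : q.IsPrime]
    [hWp : W.IsPrime] (hq : q.height = 1) (hqW : q < W)
    (hcov : ∀ Q : Ideal R, Q.IsPrime → q < Q → ¬ Q < W) : W.height = 2 := by
  let b' : PrimeSpectrum R := ⟨⊥, Ideal.isPrime_bot⟩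
  let q' : PrimeSpectrum R := ⟨q, hqp⟩
  let W' : PrimeSpectrum R := ⟨W, hWp⟩
  have hq0 : q ≠ ⊥ := Ideal.ne_bot_of_height_eq_one hq
  have hbq : b' < q' := by
    change (⊥ : Ideal R) < q
    exact bot_lt_iff_ne_bot.mpr hq0
  have hqW' : q' < W' := hqW
  let s₀ : LTSeries (PrimeSpectrum R) :=
    { length := 2
      toFun := ![b', q', W']
      step := by
        intro i
        fin_cases i
        · exact hbq
        · exact hqW' }
  obtain ⟨t, htlast, htlen⟩ := Ideal.exists_ltSeries_length_eq_height W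
  have htlen' : (t.length : ℕ∞) = Order.height t.last := by
    rw [htlast, htlen]
    exact PrimeSpectrum.height_eq_orderHeight W'
  have hidx := Order.height_eq_index_of_length_eq_height_last htlen'
  have hthead : t.head = b' := by
    have h0 : Order.height t.head = 0 := by
      have := hidx 0
      simpa [RelSeries.head] using this
    have hmin : IsMin t.head := Order.height_eq_zero.mp h0
    have hle : b' ≤ t.head := by
      change (⊥ : Ideal R) ≤ t.head.asIdeal
      exact bot_le
    exact le_antisymm (hmin hle) hle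
  have hs₀sat : ∀ i : Fin s₀.length, s₀ (Fin.castSucc i) ⋖ s₀ (Fin.succ i) := by
    intro i
    fin_cases i
    · refine ⟨hbq, fun r hr1 hr2 => ?_⟩
      have hr0 : r.asIdeal ≠ ⊥ := by
        intro h0
        have : r = b' := PrimeSpectrum.ext h0
        exact (this ▸ hr1).false
      have := r.isPrime
      have heq : r.asIdeal = q := eq_of_le_of_height_le_one hq.le (le_of_lt hr2) hr0
      have : r = q' := PrimeSpectrum.ext heq
      exact (this ▸ hr2).false
    · refine ⟨hqW', fun r hr1 hr2 => ?_⟩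
      exact hcov r.asIdeal r.isPrime hr1 hr2
  have htsat : ∀ i : Fin t.length, t (Fin.castSucc i) ⋖ t (Fin.succ i) := by
    intro i
    refine ⟨t.strictMono (Fin.castSucc_lt_succ), fun r hr1 hr2 => ?_⟩
    have h1 := Order.height_add_one_le hr1
    have h2 := Order.height_add_one_le hr2
    rw [hidx] at h1 h2
    have h3 : ((Fin.castSucc i : Fin (t.length + 1)) : ℕ∞) + 1 + 1 ≤ ((Fin.succ i : Fin (t.length + 1)) : ℕ∞) :=
      (add_le_add_left h1 1).trans h2
    simp only [Fin.val_castSucc, Fin.val_succ] at h3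
    norm_cast at h3
    omega
  have hlen := hc.2 s₀ t (by rw [hthead]; rfl) (by rw [htlast]; rfl) hs₀sat htsat
  have : (2 : ℕ∞) = W.height := by
    rw [← htlen, ← hlen]
    rfl
  exact this.symm

theorem cover_of_catenary [IsLocalRing R] (hc : CAlg.IsCatenary R) : Cover R := by
  intro x h hx0 hhm hhMx q hqp hqht hhq hxq
  have hqm : q ≤ maximalIdeal R := IsLocalRing.le_maximalIdeal hqp.ne_top
  have hle : q ⊔ Ideal.span {h} ≤ maximalIdeal R :=
    sup_le hqm ((Ideal.span_singleton_le_iff_mem _).mpr hhm)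
  have hne : q ⊔ Ideal.span {h} ≠ ⊤ := fun htop =>
    (Ideal.IsPrime.ne_top inferInstance : maximalIdeal R ≠ ⊤) (top_le_iff.mp (htop ▸ hle))
  obtain ⟨W, hW⟩ := Ideal.nonempty_minimalPrimes hne
  have hWp : W.IsPrime := hW.1.1
  have hqW : q ≤ W := le_sup_left.trans hW.1.2
  have hhW : h ∈ W := hW.1.2 (Ideal.mem_sup_right (Ideal.mem_span_singleton_self h))
  have hxW : x ∈ W := hW.1.2 hxq
  have hqltW : q < W := lt_of_le_of_ne hqW fun heq => hhq (heq ▸ hhW)
  have hcov : ∀ Q : Ideal R, Q.IsPrime → q < Q → ¬ Q < W := by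
    intro Q hQp hqQ hQW
    have hbar := Ideal.map_height_le_one_of_mem_minimalPrimes hW
    have hsurj : Function.Surjective (Ideal.Quotient.mk q) := Ideal.Quotient.mk_surjective
    have hkerQ : RingHom.ker (Ideal.Quotient.mk q) ≤ Q := by rw [Ideal.mk_ker]; exact hqQ.le
    have hkerW : RingHom.ker (Ideal.Quotient.mk q) ≤ W := by rw [Ideal.mk_ker]; exact hqW
    have hQbar : (Q.map (Ideal.Quotient.mk q)).IsPrime :=
      Ideal.map_isPrime_of_surjective hsurj hkerQ
    have hWbar : (W.map (Ideal.Quotient.mk q)).IsPrime :=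
      Ideal.map_isPrime_of_surjective hsurj hkerW
    have hQ0 : Q.map (Ideal.Quotient.mk q) ≠ ⊥ := by
      intro h0
      have := (Ideal.map_eq_bot_iff_le_ker _).mp h0
      rw [Ideal.mk_ker] at this
      exact (lt_of_lt_of_le hqQ this).false
    have heq := eq_of_le_of_height_le_one hbar (Ideal.map_mono hQW.le) hQ0
    have := congrArg (Ideal.comap (Ideal.Quotient.mk q)) heq
    rw [Ideal.comap_map_mk hqQ.le, Ideal.comap_map_mk hqW] at this
    exact (this ▸ hQW).false
  have hWht : W.height = 2 := height_eq_two_of_catenary hc hqht hqltW hcov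
  exact ⟨W, mem_minimalPrimes_pair_of_height_eq_two hx0 hhMx hWht hxW hhW, hqW⟩

end cover

section final

variable {R : Type u} [CommRing R] [IsDomain R] [IsNoetherianRing R] [IsLocalRing R]
  [IsIntegrallyClosed R]

theorem exists_of_dim_two (hdim : ringKrullDim R = 2) (T : Finset (Ideal R))
    (hT : ∀ q ∈ T, q.IsPrime ∧ q.height = 1) :
    ∃ f : R, f ≠ 0 ∧ (∀ q ∈ T, f ∈ q) ∧ (Ideal.span {f}).IsRadical := by
  have hm : (maximalIdeal R).height = 2 := by
    have := IsLocalRing.maximalIdeal_height_eq_ringKrullDim (R := R)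
    rw [hdim] at this
    have h2 : ((2 : ℕ∞) : WithBot ℕ∞) = 2 := rfl
    rw [← h2] at this
    exact WithBot.coe_injective this
  exact exists_isRadical_span_singleton (by rw [hm]; norm_num) (cover_of_height_eq_two hm) T hT

theorem exists_of_catenary (hc : CAlg.IsCatenary R) (hht : 1 < (maximalIdeal R).height)
    (T : Finset (Ideal R)) (hT : ∀ q ∈ T, q.IsPrime ∧ q.height = 1) :
    ∃ f : R, f ≠ 0 ∧ (∀ q ∈ T, f ∈ q) ∧ (Ideal.span {f}).IsRadical :=
  exists_isRadical_span_singleton hht (cover_of_catenary hc) T hT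

end final

end Groth.Agent.Lib.Seat10.PrincRad
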