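import Mathlib

/-!
# The ring `A[z]/(z ^ e - π)` for a local ring `A` and `π ∈ m_A` (Seat 10)

* `psi`: the map `A[z]/(z^e - π) → κ(A)`, `z ↦ 0`.
* `isLocalHom_of`, `not_isUnit_root`, `isLocalRing_adjoinRoot`.
* `maximalIdeal_eq_span_root`: `m = (z)` when `m_A = (π)`.
* `residue_algebraMap_surjective`: `κ(A) → κ(A[z]/(z^e - π))` is surjective.
-/

set_option autoImplicit false

universe u

namespace Groth.Agent.Lib.Seat10.Root

open IsLocalRing Polynomial

section

variable {A : Type*} [CommRing A] [IsLocalRing A] (π : A) (hπm : π ∈ maximalIdeal A) {e : ℕ}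
  (he : e ≠ 0)

include hπm he

/-- the map `A[z]/(z^e - π) → κ(A)`, `z ↦ 0` -/
noncomputable def psi : AdjoinRoot (X ^ e - C π : A[X]) →+* ResidueField A :=
  AdjoinRoot.lift (residue A) 0 (by
    rw [eval₂_sub, eval₂_pow, eval₂_X, eval₂_C, zero_pow he, zero_sub, neg_eq_zero]
    exact (residue_eq_zero_iff π).mpr hπm)

theorem psi_of (a : A) : psi π hπm he (AdjoinRoot.of _ a) = residue A a :=
  AdjoinRoot.lift_of _

theorem psi_root : psi π hπm he (AdjoinRoot.root _) = 0 :=
  AdjoinRoot.lift_root _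

theorem not_isUnit_root : ¬ IsUnit (AdjoinRoot.root (X ^ e - C π : A[X])) := by
  intro h
  have := h.map (psi π hπm he)
  rw [psi_root] at this
  exact not_isUnit_zero this

omit hπm he [IsLocalRing A] in
theorem root_pow : (AdjoinRoot.root (X ^ e - C π : A[X])) ^ e = AdjoinRoot.of _ π := by
  have h := AdjoinRoot.eval₂_root (X ^ e - C π : A[X])
  rw [eval₂_sub, eval₂_pow, eval₂_X, eval₂_C, sub_eq_zero] at h
  exact h

theorem isLocalHom_of : IsLocalHom (algebraMap A (AdjoinRoot (X ^ e - C π : A[X]))) := by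
  constructor
  intro a ha
  rw [AdjoinRoot.algebraMap_eq] at ha
  have := ha.map (psi π hπm he)
  rw [psi_of] at this
  by_contra hna
  have h0 : residue A a = 0 := (residue_eq_zero_iff a).mpr ((mem_maximalIdeal a).mpr hna)
  rw [h0] at this
  exact not_isUnit_zero this

omit hπm he [IsLocalRing A] in
theorem exists_eq_mul_root_add (x : AdjoinRoot (X ^ e - C π : A[X])) :
    ∃ (y : AdjoinRoot (X ^ e - C π : A[X])) (a : A),
      x = y * AdjoinRoot.root _ + AdjoinRoot.of _ a := by
  obtain ⟨f, rfl⟩ := AdjoinRoot.mk_surjective x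
  refine ⟨AdjoinRoot.mk _ f.divX, f.coeff 0, ?_⟩
  conv_lhs => rw [← Polynomial.divX_mul_X_add f]
  rw [map_add, map_mul, AdjoinRoot.mk_X, AdjoinRoot.mk_C]

theorem root_mem_jacobson :
    AdjoinRoot.root (X ^ e - C π : A[X]) ∈ (⊥ : Ideal (AdjoinRoot (X ^ e - C π : A[X]))).jacobson := by
  have hmonic : (X ^ e - C π : A[X]).Monic := monic_X_pow_sub_C π he
  have hfin : Module.Finite A (AdjoinRoot (X ^ e - C π : A[X])) := hmonic.finite_adjoinRoot
  have hint : Algebra.IsIntegral A (AdjoinRoot (X ^ e - C π : A[X])) :=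
    Algebra.IsIntegral.of_finite _ _
  rw [Ideal.jacobson, Ideal.mem_sInf]
  rintro M ⟨-, hM⟩
  have hcomap : (M.comap (algebraMap A (AdjoinRoot (X ^ e - C π : A[X])))).IsMaximal :=
    Ideal.isMaximal_comap_of_isIntegral_of_isMaximal M
  have h1 : M.comap (algebraMap A (AdjoinRoot (X ^ e - C π : A[X]))) = maximalIdeal A :=
    IsLocalRing.eq_maximalIdeal hcomap
  have h2 : algebraMap A (AdjoinRoot (X ^ e - C π : A[X])) π ∈ M := by
    rw [← Ideal.mem_comap, h1]
    exact hπm
  rw [AdjoinRoot.algebraMap_eq, ← root_pow] at h2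
  exact hM.isPrime.mem_of_pow_mem e h2

theorem isUnit_of_psi_ne_zero (x : AdjoinRoot (X ^ e - C π : A[X]))
    (hx : psi π hπm he x ≠ 0) : IsUnit x := by
  obtain ⟨y, a, rfl⟩ := exists_eq_mul_root_add π x
  rw [map_add, map_mul, psi_root, mul_zero, zero_add, psi_of] at hx
  have ha : IsUnit a := by
    by_contra hna
    exact hx ((residue_eq_zero_iff a).mpr ((mem_maximalIdeal a).mpr hna))
  obtain ⟨a, rfl⟩ := ha
  have hjac := root_mem_jacobson π hπm he
  rw [Ideal.mem_jacobson_bot] at hjac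
  have h1 := hjac (y * AdjoinRoot.of _ ((a⁻¹ : Aˣ) : A))
  have h2 : IsUnit (AdjoinRoot.of (X ^ e - C π : A[X]) (a : A)) := a.isUnit.map _
  have h3 : y * AdjoinRoot.root _ + AdjoinRoot.of (X ^ e - C π : A[X]) (a : A) =
      AdjoinRoot.of _ (a : A) *
        (AdjoinRoot.root _ * (y * AdjoinRoot.of _ ((a⁻¹ : Aˣ) : A)) + 1) := by
    have h4 : AdjoinRoot.of (X ^ e - C π : A[X]) (a : A) * AdjoinRoot.of _ ((a⁻¹ : Aˣ) : A) = 1 := by
      rw [← map_mul, Units.mul_inv, map_one]
    calc y * AdjoinRoot.root _ + AdjoinRoot.of (X ^ e - C π : A[X]) (a : A)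
        = (AdjoinRoot.of (X ^ e - C π : A[X]) (a : A) * AdjoinRoot.of _ ((a⁻¹ : Aˣ) : A)) *
          (y * AdjoinRoot.root _) + AdjoinRoot.of (X ^ e - C π : A[X]) (a : A) := by
          rw [h4, one_mul]
      _ = _ := by ring
  rw [h3]
  exact h2.mul h1

theorem isLocalRing_adjoinRoot : IsLocalRing (AdjoinRoot (X ^ e - C π : A[X])) := by
  have hnt : Nontrivial (AdjoinRoot (X ^ e - C π : A[X])) := by
    refine ⟨⟨0, 1, fun h01 => ?_⟩⟩
    have := congrArg (psi π hπm he) h01
    rw [map_zero, map_one] at this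
    exact zero_ne_one this
  refine IsLocalRing.of_nonunits_add ?_
  intro x y hx hy
  have hx0 : psi π hπm he x = 0 := by
    by_contra h
    exact hx (isUnit_of_psi_ne_zero π hπm he x h)
  have hy0 : psi π hπm he y = 0 := by
    by_contra h
    exact hy (isUnit_of_psi_ne_zero π hπm he y h)
  intro hxy
  have := hxy.map (psi π hπm he)
  rw [map_add, hx0, hy0, add_zero] at this
  exact not_isUnit_zero this

variable [IsLocalRing (AdjoinRoot (X ^ e - C π : A[X]))]

theorem root_mem_maximalIdeal :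
    AdjoinRoot.root (X ^ e - C π : A[X]) ∈ maximalIdeal (AdjoinRoot (X ^ e - C π : A[X])) :=
  (mem_maximalIdeal _).mpr (not_isUnit_root π hπm he)

theorem maximalIdeal_eq_span_root (hπ : maximalIdeal A = Ideal.span {π}) :
    maximalIdeal (AdjoinRoot (X ^ e - C π : A[X])) = Ideal.span {AdjoinRoot.root _} := by
  apply le_antisymm
  · intro x hx
    obtain ⟨y, a, rfl⟩ := exists_eq_mul_root_add π x
    have hroot := root_mem_maximalIdeal π hπm he
    have ha : AdjoinRoot.of (X ^ e - C π : A[X]) a ∈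
        maximalIdeal (AdjoinRoot (X ^ e - C π : A[X])) := by
      have := Ideal.sub_mem _ hx (Ideal.mul_mem_left _ y hroot)
      rwa [add_sub_cancel_left] at this
    have ha' : a ∈ maximalIdeal A := by
      rw [mem_maximalIdeal, mem_nonunits_iff] at ha ⊢
      exact fun h => ha (h.map _)
    rw [hπ, Ideal.mem_span_singleton'] at ha'
    obtain ⟨c, rfl⟩ := ha'
    refine Ideal.add_mem _ (Ideal.mul_mem_left _ _ (Ideal.mem_span_singleton_self _)) ?_
    rw [map_mul, ← root_pow]
    have h5 : AdjoinRoot.root (X ^ e - C π : A[X]) ^ e =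
        AdjoinRoot.root _ ^ (e - 1) * AdjoinRoot.root _ := (pow_sub_one_mul he _).symm
    rw [h5, ← mul_assoc]
    exact Ideal.mul_mem_left _ _ (Ideal.mem_span_singleton_self _)
  · rw [Ideal.span_le, Set.singleton_subset_iff]
    exact root_mem_maximalIdeal π hπm he

theorem residue_eq_residue_of (x : AdjoinRoot (X ^ e - C π : A[X])) :
    ∃ a : A, residue _ x = residue _ (AdjoinRoot.of (X ^ e - C π : A[X]) a) := by
  obtain ⟨y, a, rfl⟩ := exists_eq_mul_root_add π x
  refine ⟨a, ?_⟩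
  rw [map_add, map_mul, (residue_eq_zero_iff _).mpr (root_mem_maximalIdeal π hπm he), mul_zero,
    zero_add]

end

end Groth.Agent.Lib.Seat10.Root
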