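import Groth.Agent.Lib.Seat10TowerM
import Groth.Agent.Lib.Seat10TowerN
import Groth.Agent.Lib.Seat10TowerP

/-!
# `L ⊗[K] K₁` is a field for a totally ramified separable `K₁/K` and weakly unramified `A → B`
(Seat 10)

`coeff_eq_zero_of_sum_eq_zero_field`: linear independence over `L` of the powers of a uniformizer.
`isField_tensor_of_totallyRamified`: for a maximal ideal `q` of `L ⊗[K] K₁`, the compositum
`M = (L ⊗[K] K₁)/q` carries a valuation ring `W` dominating `B`; `W ∩ K₁ = V₁` is weakly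
unramified under `W`, so the powers of `π₁` (which span `L ⊗[K] K₁` over `L`) stay independent in
`M`; hence `q = 0`.
-/

set_option autoImplicit false

universe u

namespace Groth.Agent.Lib.Seat10.Tower

open EtRam IsLocalRing TensorProduct Groth.Agent.Lib.Seat10.ValDom

/-- linear independence over `L = Frac B` of the powers of `p₁` in a field `M` containing a local
domain `W ⊇ B` with `m_W = (p₁)` and `π = u p₁^e` -/
theorem coeff_eq_zero_of_sum_eq_zero_field {B L M : Type*} [CommRing B] [IsDomain B]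
    [IsDiscreteValuationRing B] [Field L] [Algebra B L] [IsFractionRing B L] [Field M]
    [Algebra L M] (W : ValuationSubring M)
    (hBW : ∀ b : B, algebraMap L M (algebraMap B L b) ∈ W)
    (π : B) (hπ : Irreducible π) (p₁ : W) (hp₁ : maximalIdeal W = Ideal.span {p₁})
    (e : ℕ) (u : W) (hπe : algebraMap L M (algebraMap B L π) = (u : M) * (p₁ : M) ^ e)
    (l : Fin e → L) (hsum : ∑ i, algebraMap L M (l i) * (p₁ : M) ^ (i : ℕ) = 0) :
    ∀ i, l i = 0 := by
  let φ : B →+* W := RingHom.codRestrict ((algebraMap L M).comp (algebraMap B L)) W hBW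
  have hφπ : φ π ≠ 0 := by
    intro h0
    have h1 : algebraMap L M (algebraMap B L π) = 0 := congrArg Subtype.val h0
    rw [map_eq_zero, map_eq_zero_iff _ (IsFractionRing.injective B L)] at h1
    exact hπ.ne_zero h1
  have hπe' : φ π = u * p₁ ^ e := by
    apply Subtype.ext
    have : ((φ π : W) : M) = algebraMap L M (algebraMap B L π) := rfl
    rw [this, hπe]
    simp
  obtain ⟨d, hd⟩ := IsLocalization.exist_integer_multiples (nonZeroDivisors B) Finset.univ l
  choose b hb using fun i => hd i (Finset.mem_univ i)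
  have hsum' : ∑ i, φ (b i) * p₁ ^ (i : ℕ) = 0 := by
    apply Subtype.ext
    have h1 : (((∑ i, φ (b i) * p₁ ^ (i : ℕ) : W)) : M) =
        ∑ i, algebraMap L M (algebraMap B L (b i)) * (p₁ : M) ^ (i : ℕ) := by
      simp [φ]
    rw [h1]
    have h2 : ∀ i, algebraMap L M (algebraMap B L (b i)) * (p₁ : M) ^ (i : ℕ) =
        algebraMap L M (algebraMap B L (d : B)) * (algebraMap L M (l i) * (p₁ : M) ^ (i : ℕ)) := by
      intro i
      rw [hb i, Algebra.smul_def, map_mul]
      ring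
    simp only [h2]
    rw [← Finset.mul_sum, hsum, mul_zero]
    rfl
  have hb0 := coeff_eq_zero_of_sum_eq_zero φ π hπ p₁ hp₁ e u hπe' hφπ b hsum'
  intro i
  have h3 := hb i
  rw [hb0 i, map_zero] at h3
  have hd0 : algebraMap B L (d : B) ≠ 0 := fun h0 =>
    nonZeroDivisors.ne_zero d.2 (IsFractionRing.injective B L (by rw [h0, map_zero]))
  rw [Algebra.smul_def] at h3
  exact (mul_eq_zero.mp h3.symm).resolve_left hd0

end Groth.Agent.Lib.Seat10.Tower

namespace Groth.Agent.Lib.Seat10.Tower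

open EtRam IsLocalRing TensorProduct Groth.Agent.Lib.Seat10.ValDom

theorem isField_tensor_of_totallyRamified (A B K L : Type u) [CommRing A] [IsDomain A]
    [IsDiscreteValuationRing A]
    [CommRing B] [IsDomain B] [IsDiscreteValuationRing B] [Algebra A B]
    [IsLocalHom (algebraMap A B)]
    [Field K] [Field L] [Algebra A K] [IsFractionRing A K] [Algebra B L] [IsFractionRing B L]
    [Algebra K L] [Algebra A L] [IsScalarTower A K L] [IsScalarTower A B L]
    (hw : EtRam.IsWeaklyUnramified A B)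
    (K₁ : Type u) [Field K₁] [Algebra K K₁] [FiniteDimensional K K₁] [Algebra.IsSeparable K K₁]
    (ht : EtRam.IsTotallyRamified A ((algebraMap K K₁).comp (algebraMap A K))) :
    IsField (L ⊗[K] K₁) := by
  obtain ⟨⟨V₁, hdomV₁⟩, huniq, hres⟩ := ht
  have hws := isWeakSolution_of_residue_surjective A B K L hw K₁ hres
  let _ : Algebra A K₁ := ((algebraMap K K₁).comp (algebraMap A K)).toAlgebra
  have : IsScalarTower A K K₁ := IsScalarTower.of_algebraMap_eq (fun _ => rfl)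
  obtain ⟨π, hπ⟩ := IsDiscreteValuationRing.exists_irreducible A
  -- a maximal ideal of the tensor product and the corresponding compositum
  have : Nontrivial (L ⊗[K] K₁) := inferInstance
  obtain ⟨q, hq⟩ := Ideal.exists_maximal (L ⊗[K] K₁)
  rw [Ring.isField_iff_maximal_bot]
  suffices hq0 : q = ⊥ from hq0 ▸ hq
  let _ : Field ((L ⊗[K] K₁) ⧸ q) := Ideal.Quotient.field q
  let _ : Algebra K₁ ((L ⊗[K] K₁) ⧸ q) :=
    ((Ideal.Quotient.mk q).comp
      (Algebra.TensorProduct.includeRight : K₁ →ₐ[K] L ⊗[K] K₁).toRingHom).toAlgebra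
  have : IsScalarTower K K₁ ((L ⊗[K] K₁) ⧸ q) := IsScalarTower.of_algebraMap_eq (fun k => by
    show Ideal.Quotient.mk q (algebraMap K (L ⊗[K] K₁) k) =
      Ideal.Quotient.mk q ((Algebra.TensorProduct.includeRight : K₁ →ₐ[K] L ⊗[K] K₁)
        (algebraMap K K₁ k))
    rw [AlgHom.commutes])
  have hmk_tmul : ∀ (l : L) (k : K₁), Ideal.Quotient.mk q (l ⊗ₜ[K] k) =
      algebraMap L ((L ⊗[K] K₁) ⧸ q) l * algebraMap K₁ ((L ⊗[K] K₁) ⧸ q) k := by
    intro l k
    have h1 : l ⊗ₜ[K] k = (l ⊗ₜ[K] (1 : K₁)) * ((1 : L) ⊗ₜ[K] k) := by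
      rw [Algebra.TensorProduct.tmul_mul_tmul, mul_one, one_mul]
    rw [h1, map_mul]
    rfl
  have hadj : Algebra.adjoin L (Set.range (algebraMap K₁ ((L ⊗[K] K₁) ⧸ q))) = ⊤ := by
    rw [eq_top_iff]
    intro m _
    obtain ⟨t, rfl⟩ := Ideal.Quotient.mk_surjective m
    induction t using TensorProduct.induction_on with
    | zero => rw [map_zero]; exact zero_mem _
    | tmul l k =>
      rw [hmk_tmul]
      exact mul_mem (Subalgebra.algebraMap_mem _ _) (Algebra.subset_adjoin ⟨k, rfl⟩)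
    | add x y hx hy => rw [map_add]; exact add_mem (hx trivial) (hy trivial)
  obtain ⟨W, hWmem, hWloc⟩ := IsLocalRing.exists_factor_valuationRing
    ((algebraMap L ((L ⊗[K] K₁) ⧸ q)).comp (algebraMap B L))
  have hW : Dominates B ((algebraMap L ((L ⊗[K] K₁) ⧸ q)).comp (algebraMap B L)) W := by
    refine ⟨hWmem, fun b hb => ?_⟩
    have hnu : ¬ IsUnit (RingHom.codRestrict
        ((algebraMap L ((L ⊗[K] K₁) ⧸ q)).comp (algebraMap B L)) W.toSubring hWmem b) := by
      intro h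
      exact (IsLocalRing.mem_maximalIdeal _).mp hb (hWloc.map_nonunit b h)
    by_contra hlt
    apply hnu
    have hmem := hWmem b
    have h1 : W.valuation (((algebraMap L ((L ⊗[K] K₁) ⧸ q)).comp (algebraMap B L)) b) = 1 :=
      le_antisymm ((W.valuation_le_one_iff _).mpr hmem) (not_lt.mp hlt)
    have hne : ((algebraMap L ((L ⊗[K] K₁) ⧸ q)).comp (algebraMap B L)) b ≠ 0 := by
      intro h0
      rw [h0, map_zero] at h1
      exact zero_ne_one h1
    have hinv : (((algebraMap L ((L ⊗[K] K₁) ⧸ q)).comp (algebraMap B L)) b)⁻¹ ∈ W := by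
      rw [← W.valuation_le_one_iff, map_inv₀, h1, inv_one]
    refine isUnit_iff_exists_inv.mpr ⟨⟨_, hinv⟩, Subtype.ext ?_⟩
    exact mul_inv_cancel₀ hne
  have hwu := hws ((L ⊗[K] K₁) ⧸ q) hadj W hW
  -- `W ∩ K₁ = V₁`
  have hcompat : ∀ a : A, algebraMap K₁ ((L ⊗[K] K₁) ⧸ q) (algebraMap K K₁ (algebraMap A K a)) =
      algebraMap L ((L ⊗[K] K₁) ⧸ q) (algebraMap B L (algebraMap A B a)) := by
    intro a
    rw [← IsScalarTower.algebraMap_apply K K₁ ((L ⊗[K] K₁) ⧸ q),
      IsScalarTower.algebraMap_apply K L ((L ⊗[K] K₁) ⧸ q),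
      ← IsScalarTower.algebraMap_apply A K L, ← IsScalarTower.algebraMap_apply A B L]
  have hdomc : Dominates A ((algebraMap K K₁).comp (algebraMap A K))
      (W.comap (algebraMap K₁ ((L ⊗[K] K₁) ⧸ q))) := by
    rw [← dominates_comp_iff]
    refine ⟨fun a => ?_, fun a ha => ?_⟩
    · simp only [RingHom.comp_apply]
      rw [hcompat]
      exact hW.1 _
    · simp only [RingHom.comp_apply]
      rw [hcompat]
      apply hW.2
      rw [IsLocalRing.mem_maximalIdeal, mem_nonunits_iff] at ha ⊢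
      exact fun h => ha (isUnit_of_map_unit (algebraMap A B) a h)
  obtain rfl : W.comap (algebraMap K₁ ((L ⊗[K] K₁) ⧸ q)) = V₁ := huniq _ _ hdomc hdomV₁
  have hV₁dvr : IsDiscreteValuationRing (W.comap (algebraMap K₁ ((L ⊗[K] K₁) ⧸ q))) :=
    isDiscreteValuationRing_of_dominates_finite A K _ hdomV₁
  obtain ⟨π₁, hπ₁⟩ := IsDiscreteValuationRing.exists_irreducible
    (W.comap (algebraMap K₁ ((L ⊗[K] K₁) ⧸ q)))
  have hπV0 : toVal hdomV₁ π ≠ 0 := by
    intro h0
    have h1 : algebraMap K K₁ (algebraMap A K π) = 0 := congrArg Subtype.val h0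
    rw [map_eq_zero, map_eq_zero_iff _ (IsFractionRing.injective A K)] at h1
    exact hπ.ne_zero h1
  obtain ⟨e, u, hu⟩ := IsDiscreteValuationRing.eq_unit_mul_pow_irreducible hπV0 hπ₁
  -- the powers of `π₁` span `K₁` over `K`
  have hres' : ∀ v : K₁, v ∈ W.comap (algebraMap K₁ ((L ⊗[K] K₁) ⧸ q)) →
      ∃ a : A, (W.comap (algebraMap K₁ ((L ⊗[K] K₁) ⧸ q))).valuation
        (v - algebraMap A K₁ a) < 1 := by
    intro v hv
    obtain ⟨a, ha⟩ := hres _ hdomV₁ (residue _ ⟨v, hv⟩)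
    refine ⟨a, ?_⟩
    have h1 : residue _ ((⟨v, hv⟩ : W.comap (algebraMap K₁ ((L ⊗[K] K₁) ⧸ q))) -
        toVal hdomV₁ a) = 0 := by
      rw [map_sub, sub_eq_zero]
      exact ha.symm
    rw [residue_eq_zero_iff, ValuationSubring.valuation_lt_one_iff] at h1
    exact h1
  have hmax' : ∀ v : K₁, v ∈ W.comap (algebraMap K₁ ((L ⊗[K] K₁) ⧸ q)) →
      (W.comap (algebraMap K₁ ((L ⊗[K] K₁) ⧸ q))).valuation v < 1 →
      ∃ c ∈ W.comap (algebraMap K₁ ((L ⊗[K] K₁) ⧸ q)), v = (π₁ : K₁) * c := by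
    intro v hv hlt
    have h1 : (⟨v, hv⟩ : W.comap (algebraMap K₁ ((L ⊗[K] K₁) ⧸ q))) ∈ maximalIdeal _ :=
      (ValuationSubring.valuation_lt_one_iff _ _).mpr hlt
    rw [hπ₁.maximalIdeal_eq, Ideal.mem_span_singleton'] at h1
    obtain ⟨c, hc⟩ := h1
    refine ⟨c, c.2, ?_⟩
    have := congrArg Subtype.val hc
    simp only [MulMemClass.coe_mul] at this
    rw [← this, mul_comm]
  have hπe : (π₁ : K₁) ^ e = algebraMap A K₁ π *
      (((u⁻¹ : (W.comap (algebraMap K₁ ((L ⊗[K] K₁) ⧸ q)))ˣ) :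
        W.comap (algebraMap K₁ ((L ⊗[K] K₁) ⧸ q))) : K₁) := by
    have h1 : π₁ ^ e = toVal hdomV₁ π * ((u⁻¹ : (W.comap (algebraMap K₁ ((L ⊗[K] K₁) ⧸ q)))ˣ) :
        W.comap (algebraMap K₁ ((L ⊗[K] K₁) ⧸ q))) := by
      rw [hu, mul_comm (u : W.comap (algebraMap K₁ ((L ⊗[K] K₁) ⧸ q))), mul_assoc,
        Units.mul_inv, mul_one]
    have h2 := congrArg Subtype.val h1
    simp only [SubmonoidClass.coe_pow, MulMemClass.coe_mul] at h2
    rw [h2]
    rfl
  have hspanK := span_pow_uniformizer A K _ hdomV₁ (fun V' h => huniq V' _ h hdomV₁) hres' π hπ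
    (π₁ : K₁) hmax' e _ (SetLike.coe_mem _) hπe
  have hspanT : ∀ t : L ⊗[K] K₁, ∃ l : Fin e → L,
      t = ∑ i, (l i) ⊗ₜ[K] ((π₁ : K₁) ^ (i : ℕ)) := by
    intro t
    induction t using TensorProduct.induction_on with
    | zero => exact ⟨fun _ => 0, by simp⟩
    | tmul l k =>
      obtain ⟨c, hc⟩ := hspanK k
      refine ⟨fun i => c i • l, ?_⟩
      rw [hc, TensorProduct.tmul_sum]
      refine Finset.sum_congr rfl fun i _ => ?_
      rw [← Algebra.smul_def, TensorProduct.tmul_smul, TensorProduct.smul_tmul']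
    | add x y hx hy =>
      obtain ⟨lx, hlx⟩ := hx
      obtain ⟨ly, hly⟩ := hy
      refine ⟨fun i => lx i + ly i, ?_⟩
      rw [hlx, hly, ← Finset.sum_add_distrib]
      refine Finset.sum_congr rfl fun i _ => ?_
      rw [TensorProduct.add_tmul]
  -- the uniformizers in `W`
  have hπB : Irreducible (algebraMap A B π) := by
    rw [IsDiscreteValuationRing.irreducible_iff_uniformizer]
    unfold IsWeaklyUnramified at hw
    rw [← hw, hπ.maximalIdeal_eq, Ideal.map_span, Set.image_singleton]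
  have hp₁ : maximalIdeal W = Ideal.span
      {inclOfComap W (algebraMap K₁ ((L ⊗[K] K₁) ⧸ q)) π₁} := by
    unfold IsWeaklyUnramified at hwu
    rw [← hwu, hπ₁.maximalIdeal_eq, Ideal.map_span, Set.image_singleton]
    rfl
  have hπeM : algebraMap L ((L ⊗[K] K₁) ⧸ q) (algebraMap B L (algebraMap A B π)) =
      ((inclOfComap W (algebraMap K₁ ((L ⊗[K] K₁) ⧸ q)) u : W) : (L ⊗[K] K₁) ⧸ q) *
        ((inclOfComap W (algebraMap K₁ ((L ⊗[K] K₁) ⧸ q)) π₁ : W) : (L ⊗[K] K₁) ⧸ q) ^ e := by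
    rw [← hcompat]
    have h2 := congrArg (fun z : W.comap (algebraMap K₁ ((L ⊗[K] K₁) ⧸ q)) =>
      algebraMap K₁ ((L ⊗[K] K₁) ⧸ q) (z : K₁)) hu
    simp only [MulMemClass.coe_mul, SubmonoidClass.coe_pow, map_mul, map_pow] at h2
    exact h2
  -- conclusion
  rw [eq_bot_iff]
  intro x hx
  obtain ⟨l, hl⟩ := hspanT x
  have hx0 : Ideal.Quotient.mk q x = 0 := Ideal.Quotient.eq_zero_iff_mem.mpr hx
  rw [hl, map_sum] at hx0
  have hsum : ∑ i, algebraMap L ((L ⊗[K] K₁) ⧸ q) (l i) *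
      ((inclOfComap W (algebraMap K₁ ((L ⊗[K] K₁) ⧸ q)) π₁ : W) : (L ⊗[K] K₁) ⧸ q) ^ (i : ℕ)
        = 0 := by
    rw [← hx0]
    refine Finset.sum_congr rfl fun i _ => ?_
    rw [hmk_tmul, map_pow]
    rfl
  have hl0 := coeff_eq_zero_of_sum_eq_zero_field W hW.1 (algebraMap A B π) hπB _ hp₁ e _ hπeM l hsum
  rw [hl]
  simp [hl0]

end Groth.Agent.Lib.Seat10.Tower
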