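import Groth.Agent.Lib.Seat10TowerH
import Groth.Agent.Lib.Seat10TowerQ
import Groth.Agent.Lib.Seat10TowerU

/-!
# A uniform bound for ramification indices (Seat 10)

* `ramificationIdx'_le_finrank`: `e(V/A) ≤ [L : K]` for a valuation ring `V` of `L` dominating `A`.
* `exists_uniform_index`: a number invertible in `k` divisible by all `n ≤ N` invertible in `k`.
-/

set_option autoImplicit false

universe u

namespace Groth.Agent.Lib.Seat10.Root

open EtRam IsLocalRing Groth.Agent.Lib.Seat10.ValDom Groth.Agent.Lib.Seat10.Tower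

theorem ramificationIdx'_le_finrank (A K L : Type u) [CommRing A] [IsDomain A]
    [IsDiscreteValuationRing A] [Field K] [Algebra A K] [IsFractionRing A K] [Field L]
    [Algebra K L] [FiniteDimensional K L] (V : ValuationSubring L)
    (hV : Dominates A ((algebraMap K L).comp (algebraMap A K)) V) :
    letI : Algebra A V := (RingHom.codRestrict _ V hV.1).toAlgebra
    Ideal.ramificationIdx' (maximalIdeal A) (maximalIdeal V) ≤ Module.finrank K L := by
  letI : Algebra A V := (RingHom.codRestrict _ V hV.1).toAlgebra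
  have hdvr : IsDiscreteValuationRing V := isDiscreteValuationRing_of_dominates_finite A K V hV
  obtain ⟨π, hπirr⟩ := IsDiscreteValuationRing.exists_irreducible A
  obtain ⟨π₁, hπ₁irr⟩ := IsDiscreteValuationRing.exists_irreducible V
  have hinj : Function.Injective ((algebraMap K L).comp (algebraMap A K)) :=
    (algebraMap K L).injective.comp (IsFractionRing.injective A K)
  have hπVne : algebraMap A V π ≠ 0 := by
    intro h0
    have h1 : ((algebraMap K L).comp (algebraMap A K)) π = 0 := congrArg Subtype.val h0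
    exact hπirr.ne_zero (hinj (by rw [h1, map_zero]))
  obtain ⟨n, u₁, hf₁⟩ := IsDiscreteValuationRing.eq_unit_mul_pow_irreducible hπVne hπ₁irr
  have he₁ : Ideal.ramificationIdx' (maximalIdeal A) (maximalIdeal V) = n :=
    ramificationIdx'_eq_of_eq_unit_mul_pow hπirr.maximalIdeal_eq hπ₁irr.maximalIdeal_eq
      hπ₁irr.ne_zero hπ₁irr.not_isUnit u₁ n hf₁
  rw [he₁]
  have hπe : algebraMap K L (algebraMap A K π) = ((u₁ : V) : L) * (π₁ : L) ^ n := by
    have h2 : ((algebraMap A V π : V) : L) = (((u₁ : V) * π₁ ^ n : V) : L) :=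
      congrArg Subtype.val hf₁
    rw [MulMemClass.coe_mul, SubmonoidClass.coe_pow] at h2
    exact h2
  have hli : LinearIndependent K (fun i : Fin n => (π₁ : L) ^ (i : ℕ)) := by
    rw [Fintype.linearIndependent_iff]
    intro l hsum
    apply coeff_eq_zero_of_sum_eq_zero_field (B := A) (L := K) (M := L) V hV.1 π hπirr π₁
      hπ₁irr.maximalIdeal_eq n (u₁ : V) hπe l
    simpa [Algebra.smul_def] using hsum
  have := hli.fintype_card_le_finrank
  simpa using this

theorem exists_uniform_index (k : Type*) [Field k] (N : ℕ) :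
    ∃ e₀ : ℕ, 0 < e₀ ∧ ((e₀ : ℕ) : k) ≠ 0 ∧
      ∀ n : ℕ, 0 < n → n ≤ N → ((n : ℕ) : k) ≠ 0 → n ∣ e₀ := by
  classical
  refine ⟨∏ i ∈ (Finset.Icc 1 N).filter (fun i : ℕ => ((i : ℕ) : k) ≠ 0), i, ?_, ?_, ?_⟩
  · apply Finset.prod_pos
    intro i hi
    rw [Finset.mem_filter, Finset.mem_Icc] at hi
    omega
  · rw [Nat.cast_prod, Finset.prod_ne_zero_iff]
    intro i hi
    rw [Finset.mem_filter] at hi
    exact hi.2
  · intro n hn0 hnN hnk
    apply Finset.dvd_prod_of_mem
    rw [Finset.mem_filter, Finset.mem_Icc]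
    exact ⟨⟨hn0, hnN⟩, hnk⟩

end Groth.Agent.Lib.Seat10.Root
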