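import Groth.Agent.Lib.Seat10RootA
import Groth.Agent.Lib.Seat10RootB
import Groth.Agent.Lib.Seat10TowerZ

/-!
# Tamely ramified extensions become unramified after adjoining a root of the uniformizer (Seat 10)

`isUnramifiedExt_over_root`: `L/K` tamely ramified with respect to the DVR `A` with uniformizer
`π`, `e ≥ 1` invertible in `κ(A)` and divisible by all ramification indices, `L' = L(z)` with
`z ^ e = π` an algebra over `A' = A[z]/(z ^ e - π)`; then `L'` is unramified with respect to `A'`.
-/

set_option autoImplicit false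

universe u

namespace Groth.Agent.Lib.Seat10.Root

open EtRam IsLocalRing TensorProduct Polynomial Groth.Agent.Lib.Seat10.ValDom
  Groth.Agent.Lib.Seat10.Tower

set_option maxHeartbeats 1600000 in
theorem isUnramifiedExt_over_root (A K L L' : Type u) [CommRing A] [IsDomain A]
    [IsDiscreteValuationRing A] [Field K] [Algebra A K] [IsFractionRing A K] [Field L] [Algebra K L]
    [Algebra A L] [IsScalarTower A K L] [FiniteDimensional K L] [Field L'] [Algebra K L']
    [Algebra L L'] [IsScalarTower K L L'] [FiniteDimensional K L']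
    (π : A) (hπ : maximalIdeal A = Ideal.span {π})
    (h : EtRam.IsTamelyRamified A (algebraMap A L))
    (e : ℕ) (he0 : 0 < e)
    (hdiv : ∀ (V : ValuationSubring L) (hV : Dominates A (algebraMap A L) V),
      letI : Algebra A V := (RingHom.codRestrict (algebraMap A L) V hV.1).toAlgebra
      Ideal.ramificationIdx' (maximalIdeal A) (maximalIdeal V) ∣ e)
    [Algebra (AdjoinRoot (X ^ e - C π : A[X])) L']
    (hcomp : (algebraMap (AdjoinRoot (X ^ e - C π : A[X])) L').comp (AdjoinRoot.of (X ^ e - C π)) =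
      (algebraMap K L').comp (algebraMap A K))
    (hgenL' : Algebra.adjoin L
      {algebraMap (AdjoinRoot (X ^ e - C π : A[X])) L' (AdjoinRoot.root _)} = ⊤)
    [IsLocalRing (AdjoinRoot (X ^ e - C π : A[X]))] :
    EtRam.IsUnramifiedExt (AdjoinRoot (X ^ e - C π : A[X]))
      (algebraMap (AdjoinRoot (X ^ e - C π : A[X])) L') := by
  intro V' hV' hloc'
  have hπm : π ∈ maximalIdeal A := hπ ▸ Ideal.mem_span_singleton_self π
  have he : e ≠ 0 := he0.ne'
  haveI hlocAA' : IsLocalHom (algebraMap A (AdjoinRoot (X ^ e - C π : A[X]))) :=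
    isLocalHom_of π hπm he
  have hmA' := maximalIdeal_eq_span_root π hπm he hπ
  have hcomp' : ∀ a : A, algebraMap (AdjoinRoot (X ^ e - C π : A[X])) L' (AdjoinRoot.of _ a) =
      algebraMap L L' (algebraMap A L a) := by
    intro a
    have := RingHom.congr_fun hcomp a
    simp only [RingHom.comp_apply] at this
    rw [this, IsScalarTower.algebraMap_apply A K L, ← IsScalarTower.algebraMap_apply K L L']
  have hze : (algebraMap (AdjoinRoot (X ^ e - C π : A[X])) L' (AdjoinRoot.root _)) ^ e =
      algebraMap L L' (algebraMap A L π) := by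
    rw [← map_pow, root_pow, hcomp']
  have hALeq : algebraMap A L = (algebraMap K L).comp (algebraMap A K) :=
    IsScalarTower.algebraMap_eq A K L
  -- `V' ∩ L` dominates `A`
  have hdomV : Dominates A (algebraMap A L) (V'.comap (algebraMap L L')) := by
    refine ⟨fun a => ?_, fun a ha => ?_⟩
    · show algebraMap L L' (algebraMap A L a) ∈ V'
      rw [← hcomp']
      exact hV'.1 _
    · rw [valuation_comap_lt_one_iff, ← hcomp']
      apply hV'.2
      rw [mem_maximalIdeal, mem_nonunits_iff] at ha ⊢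
      exact fun hu => ha (isUnit_of_map_unit (algebraMap A (AdjoinRoot (X ^ e - C π : A[X]))) a
        (by rwa [AdjoinRoot.algebraMap_eq]))
  have hdomAV' : Dominates A ((algebraMap K L').comp (algebraMap A K)) V' := by
    rw [← hcomp]
    refine ⟨fun a => hV'.1 _, fun a ha => ?_⟩
    apply hV'.2
    rw [mem_maximalIdeal, mem_nonunits_iff] at ha ⊢
    exact fun hu => ha (isUnit_of_map_unit (algebraMap A (AdjoinRoot (X ^ e - C π : A[X]))) a
      (by rwa [AdjoinRoot.algebraMap_eq]))
  have hV_dvr : IsDiscreteValuationRing (V'.comap (algebraMap L L')) :=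
    isDiscreteValuationRing_of_dominates_finite A K _ (hALeq ▸ hdomV)
  have hV'_dvr : IsDiscreteValuationRing V' :=
    isDiscreteValuationRing_of_dominates_finite A K V' hdomAV'
  -- algebra structures
  letI algAV : Algebra A (V'.comap (algebraMap L L')) :=
    (RingHom.codRestrict (algebraMap A L) (V'.comap (algebraMap L L')) hdomV.1).toAlgebra
  letI algA'V' : Algebra (AdjoinRoot (X ^ e - C π : A[X])) V' :=
    (RingHom.codRestrict (algebraMap (AdjoinRoot (X ^ e - C π : A[X])) L') V' hV'.1).toAlgebra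
  letI algVV' : Algebra (V'.comap (algebraMap L L')) V' :=
    (inclOfComap V' (algebraMap L L')).toAlgebra
  letI algAV' : Algebra A V' := ((algebraMap (AdjoinRoot (X ^ e - C π : A[X])) V').comp
    (algebraMap A (AdjoinRoot (X ^ e - C π : A[X])))).toAlgebra
  haveI : IsScalarTower A (AdjoinRoot (X ^ e - C π : A[X])) V' :=
    IsScalarTower.of_algebraMap_eq (fun _ => rfl)
  haveI : IsScalarTower A (V'.comap (algebraMap L L')) V' :=
    IsScalarTower.of_algebraMap_eq (fun a => Subtype.ext (by
      show algebraMap (AdjoinRoot (X ^ e - C π : A[X])) L'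
        (algebraMap A (AdjoinRoot (X ^ e - C π : A[X])) a) = algebraMap L L' (algebraMap A L a)
      rw [AdjoinRoot.algebraMap_eq, hcomp']))
  haveI hlocAV : IsLocalHom (algebraMap A (V'.comap (algebraMap L L'))) := isLocalHom_toVal hdomV
  haveI hlocVV' : IsLocalHom (algebraMap (V'.comap (algebraMap L L')) V') :=
    isLocalHom_inclOfComap V' (algebraMap L L')
  haveI hlocAV' : IsLocalHom (algebraMap A V') :=
    RingHom.isLocalHom_comp (algebraMap (AdjoinRoot (X ^ e - C π : A[X])) V')
      (algebraMap A (AdjoinRoot (X ^ e - C π : A[X])))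
  -- tameness of `V' ∩ L`
  obtain ⟨hsep, hram⟩ := h (V'.comap (algebraMap L L')) hdomV
  have hdvd := hdiv (V'.comap (algebraMap L L')) hdomV
  -- uniformizers and the factorization of `π`
  have hπirr : Irreducible π := by
    rw [IsDiscreteValuationRing.irreducible_iff_uniformizer]
    exact hπ
  obtain ⟨π₁, hπ₁irr⟩ := IsDiscreteValuationRing.exists_irreducible (V'.comap (algebraMap L L'))
  have hπ₁ := hπ₁irr.maximalIdeal_eq
  have hinjAL : Function.Injective (algebraMap A L) := by
    rw [hALeq]
    exact (algebraMap K L).injective.comp (IsFractionRing.injective A K)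
  have hinjAV : Function.Injective (algebraMap A (V'.comap (algebraMap L L'))) := by
    intro a a' haa
    exact hinjAL (congrArg Subtype.val haa)
  have hπVne : algebraMap A (V'.comap (algebraMap L L')) π ≠ 0 :=
    fun h0 => hπirr.ne_zero (hinjAV (by rw [h0, map_zero]))
  obtain ⟨n, u₁, hf₁⟩ := IsDiscreteValuationRing.eq_unit_mul_pow_irreducible hπVne hπ₁irr
  have he₁ : Ideal.ramificationIdx' (maximalIdeal A)
      (maximalIdeal (V'.comap (algebraMap L L'))) = n :=
    ramificationIdx'_eq_of_eq_unit_mul_pow hπ hπ₁ hπ₁irr.ne_zero hπ₁irr.not_isUnit u₁ n hf₁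
  rw [he₁] at hram hdvd
  have hn0 : n ≠ 0 := by
    rintro rfl
    rw [pow_zero, mul_one] at hf₁
    exact hπirr.not_isUnit (isUnit_of_map_unit (algebraMap A (V'.comap (algebraMap L L'))) π
      (hf₁ ▸ u₁.isUnit))
  have hnk : ((n : ℕ) : ResidueField A) ≠ 0 := by
    obtain ⟨p, hp⟩ := CharP.exists (ResidueField A)
    rcases CharP.char_is_prime_or_zero (ResidueField A) p with hpp | hp0
    · rw [Ne, CharP.cast_eq_zero_iff (ResidueField A) p]
      exact hram p hpp hp
    · subst hp0
      have : CharZero (ResidueField A) := CharP.charP_to_charZero _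
      exact Nat.cast_ne_zero.mpr hn0
  obtain ⟨d', hd'⟩ := hdvd
  have hd'0 : d' ≠ 0 := by
    rintro rfl
    rw [mul_zero] at hd'
    exact he hd'
  -- the element `t`
  set t : V' := algebraMap (AdjoinRoot (X ^ e - C π : A[X])) V' (AdjoinRoot.root _) with ht
  have hte : t ^ e = algebraMap (V'.comap (algebraMap L L')) V'
      (algebraMap A (V'.comap (algebraMap L L')) π) := Subtype.ext (by
    show (algebraMap (AdjoinRoot (X ^ e - C π : A[X])) L' (AdjoinRoot.root _)) ^ e = _
    rw [hze]
    rfl)
  have htm : t ∈ maximalIdeal V' := by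
    have hr := root_mem_maximalIdeal π hπm he
    rw [mem_maximalIdeal, mem_nonunits_iff] at hr ⊢
    exact fun hu => hr (isUnit_of_map_unit (algebraMap (AdjoinRoot (X ^ e - C π : A[X])) V') _ hu)
  have hπ₁0 : algebraMap (V'.comap (algebraMap L L')) V' π₁ ≠ 0 := by
    intro h0
    have h1 : algebraMap L L' (π₁ : L) = 0 := congrArg Subtype.val h0
    rw [map_eq_zero] at h1
    exact hπ₁irr.ne_zero (Subtype.ext h1)
  have hπV'0 : algebraMap (V'.comap (algebraMap L L')) V'
      (algebraMap A (V'.comap (algebraMap L L')) π) ≠ 0 := by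
    intro h0
    have h1 : algebraMap L L' (algebraMap A L π) = 0 := congrArg Subtype.val h0
    rw [map_eq_zero] at h1
    exact hπirr.ne_zero (hinjAL (by rw [h1, map_zero]))
  have ht0 : t ≠ 0 := by
    intro h0
    rw [h0, zero_pow he] at hte
    exact hπV'0 hte.symm
  -- the unit `w`
  have hWeq : (algebraMap (V'.comap (algebraMap L L')) V' (u₁ : V'.comap (algebraMap L L'))) *
      (algebraMap (V'.comap (algebraMap L L')) V' π₁) ^ n =
      ((1 : V'ˣ) : V') * (t ^ d') ^ n := by
    rw [Units.val_one, one_mul, ← pow_mul, mul_comm d' n, ← hd', hte, hf₁, map_mul, map_pow]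
  obtain ⟨w, hw1, hw2⟩ := exists_unit_of_mul_pow_eq V'
    (algebraMap (V'.comap (algebraMap L L')) V' π₁) (t ^ d') (pow_ne_zero _ ht0) 1
    (Units.map (algebraMap (V'.comap (algebraMap L L')) V').toMonoidHom u₁) hn0 hWeq
  -- generation
  have hρA' : ∀ x : AdjoinRoot (X ^ e - C π : A[X]),
      ((rho A (AdjoinRoot (X ^ e - C π : A[X])) (V'.comap (algebraMap L L')) V' (x ⊗ₜ[A] 1) : V') :
        L') = algebraMap (AdjoinRoot (X ^ e - C π : A[X])) L' x := by
    intro x
    have : rho A (AdjoinRoot (X ^ e - C π : A[X])) (V'.comap (algebraMap L L')) V' (x ⊗ₜ[A] 1) =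
        algebraMap (AdjoinRoot (X ^ e - C π : A[X])) V' x := by
      simp [rho]
    rw [this]
    rfl
  have hρV : ∀ v : V'.comap (algebraMap L L'),
      ((rho A (AdjoinRoot (X ^ e - C π : A[X])) (V'.comap (algebraMap L L')) V' (1 ⊗ₜ[A] v) : V') :
        L') = algebraMap L L' (v : L) := by
    intro v
    have : rho A (AdjoinRoot (X ^ e - C π : A[X])) (V'.comap (algebraMap L L')) V' (1 ⊗ₜ[A] v) =
        algebraMap (V'.comap (algebraMap L L')) V' v := by
      simp [rho]
    rw [this]
    rfl
  have hgenM : ∀ m : L', ∃ x y : (AdjoinRoot (X ^ e - C π : A[X])) ⊗[A] (V'.comap (algebraMap L L')),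
      rho A (AdjoinRoot (X ^ e - C π : A[X])) (V'.comap (algebraMap L L')) V' y ≠ 0 ∧
      m * ((rho A (AdjoinRoot (X ^ e - C π : A[X])) (V'.comap (algebraMap L L')) V' y : V') : L') =
        ((rho A (AdjoinRoot (X ^ e - C π : A[X])) (V'.comap (algebraMap L L')) V' x : V') : L') := by
    intro m
    have hm : m ∈ Algebra.adjoin L
        {algebraMap (AdjoinRoot (X ^ e - C π : A[X])) L' (AdjoinRoot.root _)} :=
      hgenL' ▸ Algebra.mem_top
    induction hm using Algebra.adjoin_induction with
    | mem m hm =>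
      rw [Set.mem_singleton_iff] at hm
      refine ⟨AdjoinRoot.root _ ⊗ₜ[A] 1, 1, ?_, ?_⟩
      · rw [map_one]; exact one_ne_zero
      · rw [hρA', map_one, hm]
        simp
    | algebraMap l =>
      obtain ⟨v, v', hv', rfl⟩ := IsFractionRing.div_surjective (A := V'.comap (algebraMap L L')) l
      have hv'0 : (v' : L) ≠ 0 := fun h0 => nonZeroDivisors.ne_zero hv' (Subtype.ext h0)
      refine ⟨1 ⊗ₜ[A] v, 1 ⊗ₜ[A] v', ?_, ?_⟩
      · intro h0
        have h1 := congrArg Subtype.val h0
        rw [hρV] at h1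
        exact hv'0 ((map_eq_zero _).mp h1)
      · rw [hρV, hρV, ← map_mul]
        congr 1
        exact div_mul_cancel₀ _ hv'0
    | add m m' _ _ hm hm' =>
      obtain ⟨x, y, hy, hxy⟩ := hm
      obtain ⟨x', y', hy', hxy'⟩ := hm'
      refine ⟨x * y' + x' * y, y * y', ?_, ?_⟩
      · rw [map_mul]; exact mul_ne_zero hy hy'
      · simp only [map_mul, map_add, MulMemClass.coe_mul, AddMemClass.coe_add]
        rw [← hxy, ← hxy']
        ring
    | mul m m' _ _ hm hm' =>
      obtain ⟨x, y, hy, hxy⟩ := hm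
      obtain ⟨x', y', hy', hxy'⟩ := hm'
      refine ⟨x * x', y * y', ?_, ?_⟩
      · rw [map_mul]; exact mul_ne_zero hy hy'
      · simp only [map_mul, MulMemClass.coe_mul]
        rw [← hxy, ← hxy']
        ring
  have hgen : ∀ w : V', ∃ x y : (AdjoinRoot (X ^ e - C π : A[X])) ⊗[A] (V'.comap (algebraMap L L')),
      rho A (AdjoinRoot (X ^ e - C π : A[X])) (V'.comap (algebraMap L L')) V' y ≠ 0 ∧
      w * rho A (AdjoinRoot (X ^ e - C π : A[X])) (V'.comap (algebraMap L L')) V' y =
        rho A (AdjoinRoot (X ^ e - C π : A[X])) (V'.comap (algebraMap L L')) V' x := by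
    intro w
    obtain ⟨x, y, hy, hxy⟩ := hgenM (w : L')
    exact ⟨x, y, hy, Subtype.ext hxy⟩
  -- conclusion
  have hu : algebraMap (V'.comap (algebraMap L L')) V' (u₁ : V'.comap (algebraMap L L')) *
      (w : V') ^ n = algebraMap (AdjoinRoot (X ^ e - C π : A[X])) V'
        ((1 : (AdjoinRoot (X ^ e - C π : A[X]))ˣ) : AdjoinRoot (X ^ e - C π : A[X])) := by
    rw [Units.val_one, map_one]
    exact hw2
  obtain ⟨h1, h2⟩ := kummer_abstract_isSeparable (A := A) (B := AdjoinRoot (X ^ e - C π : A[X]))
    (V := V'.comap (algebraMap L L')) (W := V') 1 u₁ n w hu t (AdjoinRoot.root _) hmA' π₁ hπ₁ hnk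
    1 d' 0 0 0 1 one_ne_zero hd'0 (by rw [pow_zero, mul_one, mul_one, pow_one])
    (by rw [pow_zero, mul_one, pow_one]; exact hw1.symm) htm ht0 hgen
  refine ⟨?_, h2⟩
  unfold EtRam.IsWeaklyUnramified
  rw [hmA', Ideal.map_span, Set.image_singleton, h1]

end Groth.Agent.Lib.Seat10.Root
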