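import Groth.Agent.Lib.Seat10RootC

/-!
# Existence of the unramified extension over `A[π^{1/e}]` (Seat 10)

`exists_unramified_over_root`: for `L/K` tamely ramified with respect to `A` and `e ≥ 1` invertible
in `κ(A)` and divisible by all ramification indices, a residue field `L'` of `L[z]/(z ^ e - π)` is
a finite separable extension of `K` containing `L`, an algebra over `A' = A[z]/(z ^ e - π)`, and
unramified with respect to `A'`.  `exists_uniform_index_of_tame`: a uniform `e₀`.
-/

set_option autoImplicit false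

universe u

namespace Groth.Agent.Lib.Seat10.Root

open EtRam IsLocalRing TensorProduct Polynomial Groth.Agent.Lib.Seat10.ValDom
  Groth.Agent.Lib.Seat10.Tower

theorem exists_unramified_over_root {A K L : Type u} [CommRing A] [IsDomain A]
    [IsDiscreteValuationRing A] [Field K] [Algebra A K] [IsFractionRing A K] [Field L] [Algebra K L]
    [Algebra A L] [IsScalarTower A K L] [FiniteDimensional K L] [Algebra.IsSeparable K L]
    (π : A) (hπ : maximalIdeal A = Ideal.span {π})
    (h : EtRam.IsTamelyRamified A (algebraMap A L))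
    (e : ℕ) (he0 : 0 < e) (hek : ((e : ℕ) : ResidueField A) ≠ 0)
    (hdiv : ∀ (V : ValuationSubring L) (hV : Dominates A (algebraMap A L) V),
      letI : Algebra A V := (RingHom.codRestrict (algebraMap A L) V hV.1).toAlgebra
      Ideal.ramificationIdx' (maximalIdeal A) (maximalIdeal V) ∣ e) :
    ∃ (L' : Type u) (_ : Field L') (_ : Algebra K L')
      (_ : Algebra (AdjoinRoot (X ^ e - C π : A[X])) L') (_ : L →ₐ[K] L'),
      FiniteDimensional K L' ∧ Algebra.IsSeparable K L' ∧
      (algebraMap (AdjoinRoot (X ^ e - C π : A[X])) L').comp (AdjoinRoot.of (X ^ e - C π)) =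
        (algebraMap K L').comp (algebraMap A K) ∧
      ∀ [IsLocalRing (AdjoinRoot (X ^ e - C π : A[X]))],
        EtRam.IsUnramifiedExt (AdjoinRoot (X ^ e - C π : A[X]))
          (algebraMap (AdjoinRoot (X ^ e - C π : A[X])) L') := by
  have he : e ≠ 0 := he0.ne'
  have hπm : π ∈ maximalIdeal A := hπ ▸ Ideal.mem_span_singleton_self π
  have hπirr : Irreducible π := by
    rw [IsDiscreteValuationRing.irreducible_iff_uniformizer]
    exact hπ
  have hinjAL : Function.Injective (algebraMap A L) := by
    rw [IsScalarTower.algebraMap_eq A K L]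
    exact (algebraMap K L).injective.comp (IsFractionRing.injective A K)
  have hπL0 : algebraMap A L π ≠ 0 := fun h0 => hπirr.ne_zero (hinjAL (by rw [h0, map_zero]))
  -- the field `L'`
  have hmonic : (X ^ e - C (algebraMap A L π) : L[X]).Monic := monic_X_pow_sub_C _ he
  have hdeg : (X ^ e - C (algebraMap A L π) : L[X]).degree ≠ 0 := by
    rw [degree_X_pow_sub_C he0]
    exact_mod_cast he
  have hnt : Nontrivial (AdjoinRoot (X ^ e - C (algebraMap A L π) : L[X])) :=
    AdjoinRoot.nontrivial _ hdeg
  obtain ⟨m, hm⟩ := Ideal.exists_maximal (AdjoinRoot (X ^ e - C (algebraMap A L π) : L[X]))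
  letI : Field (AdjoinRoot (X ^ e - C (algebraMap A L π) : L[X]) ⧸ m) := Ideal.Quotient.field m
  set z : AdjoinRoot (X ^ e - C (algebraMap A L π) : L[X]) ⧸ m :=
    Ideal.Quotient.mk m (AdjoinRoot.root _) with hz
  have halgL : ∀ l : L, algebraMap L (AdjoinRoot (X ^ e - C (algebraMap A L π) : L[X]) ⧸ m) l =
      Ideal.Quotient.mk m (AdjoinRoot.of _ l) := fun l => rfl
  have hze : z ^ e = algebraMap L _ (algebraMap A L π) := by
    rw [hz, ← map_pow, root_pow, halgL]
  have hroot : (X ^ e - C π : A[X]).eval₂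
      ((algebraMap L (AdjoinRoot (X ^ e - C (algebraMap A L π) : L[X]) ⧸ m)).comp (algebraMap A L))
      z = 0 := by
    rw [eval₂_sub, eval₂_pow, eval₂_X, eval₂_C, hze]
    exact sub_self _
  letI algA'L' : Algebra (AdjoinRoot (X ^ e - C π : A[X]))
      (AdjoinRoot (X ^ e - C (algebraMap A L π) : L[X]) ⧸ m) :=
    (AdjoinRoot.lift _ z hroot).toAlgebra
  have hA'root : algebraMap (AdjoinRoot (X ^ e - C π : A[X]))
      (AdjoinRoot (X ^ e - C (algebraMap A L π) : L[X]) ⧸ m) (AdjoinRoot.root _) = z :=
    AdjoinRoot.lift_root hroot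
  have hA'of : ∀ a : A, algebraMap (AdjoinRoot (X ^ e - C π : A[X]))
      (AdjoinRoot (X ^ e - C (algebraMap A L π) : L[X]) ⧸ m) (AdjoinRoot.of _ a) =
      algebraMap L _ (algebraMap A L a) := fun a => AdjoinRoot.lift_of hroot
  -- finiteness and separability
  have hfinR : Module.Finite L (AdjoinRoot (X ^ e - C (algebraMap A L π) : L[X])) :=
    hmonic.finite_adjoinRoot
  have hfinL' : Module.Finite L (AdjoinRoot (X ^ e - C (algebraMap A L π) : L[X]) ⧸ m) :=
    Module.Finite.of_surjective (Ideal.Quotient.mkₐ L m).toLinearMap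
      (Ideal.Quotient.mkₐ_surjective L m)
  have hfin : FiniteDimensional K (AdjoinRoot (X ^ e - C (algebraMap A L π) : L[X]) ⧸ m) :=
    Module.Finite.trans L _
  have hgenL' : Algebra.adjoin L {z} = ⊤ := by
    rw [eq_top_iff]
    rintro x -
    obtain ⟨y, rfl⟩ := Ideal.Quotient.mk_surjective x
    have hy : y ∈ Algebra.adjoin L {AdjoinRoot.root (X ^ e - C (algebraMap A L π) : L[X])} := by
      rw [AdjoinRoot.adjoinRoot_eq_top]; trivial
    induction hy using Algebra.adjoin_induction with
    | mem y hy =>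
      rw [Set.mem_singleton_iff.mp hy]
      exact Algebra.subset_adjoin rfl
    | algebraMap l => exact Subalgebra.algebraMap_mem _ l
    | add x y _ _ hx hy => rw [map_add]; exact add_mem hx hy
    | mul x y _ _ hx hy => rw [map_mul]; exact mul_mem hx hy
  have heL : ((e : ℕ) : L) ≠ 0 := by
    intro h0
    apply hek
    have h1 : algebraMap A L ((e : ℕ) : A) = 0 := by rw [map_natCast]; exact h0
    have h2 : ((e : ℕ) : A) = 0 := hinjAL (by rw [h1, map_zero])
    have h3 : residue A ((e : ℕ) : A) = 0 := by rw [h2, map_zero]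
    rwa [map_natCast] at h3
  have hz0 : z ≠ 0 := by
    intro h0
    rw [h0, zero_pow he] at hze
    exact hπL0 ((map_eq_zero _).mp hze.symm)
  have hsepL' : Algebra.IsSeparable L (AdjoinRoot (X ^ e - C (algebraMap A L π) : L[X]) ⧸ m) := by
    apply isSeparable_of_adjoin_kummer ∅ (fun x hx => absurd hx (Set.notMem_empty x)) z heL hz0
    · rw [hze]
      exact isSeparable_algebraMap _
    · rw [Set.empty_union]
      exact hgenL'
  have hsep : Algebra.IsSeparable K (AdjoinRoot (X ^ e - C (algebraMap A L π) : L[X]) ⧸ m) :=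
    Algebra.IsSeparable.trans K L _
  have hcomp : (algebraMap (AdjoinRoot (X ^ e - C π : A[X]))
      (AdjoinRoot (X ^ e - C (algebraMap A L π) : L[X]) ⧸ m)).comp (AdjoinRoot.of (X ^ e - C π)) =
      (algebraMap K _).comp (algebraMap A K) := by
    ext a
    simp only [RingHom.comp_apply]
    rw [hA'of]
    have h1 : algebraMap A L a = algebraMap K L (algebraMap A K a) :=
      IsScalarTower.algebraMap_apply A K L a
    have h2 := IsScalarTower.algebraMap_apply K L
      (AdjoinRoot (X ^ e - C (algebraMap A L π) : L[X]) ⧸ m) (algebraMap A K a)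
    rw [h2]
    exact congrArg _ h1
  refine ⟨AdjoinRoot (X ^ e - C (algebraMap A L π) : L[X]) ⧸ m, inferInstance, inferInstance,
    algA'L', IsScalarTower.toAlgHom K L _, hfin, hsep, hcomp, ?_⟩
  intro hloc
  exact isUnramifiedExt_over_root A K L _ π hπ h e he0 hdiv hcomp (by rw [hA'root]; exact hgenL')

end Groth.Agent.Lib.Seat10.Root
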