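import Groth.Agent.Lib.Seat10RootD

/-!
# A uniform index for a tamely ramified extension (Seat 10)

`exists_uniform_index_of_tame`: for `L/K` tamely ramified with respect to `A` there is `e₀ ≥ 1`
invertible in `κ(A)` divisible by the ramification indices of all valuation rings of `L`
dominating `A`.
-/

set_option autoImplicit false

universe u

namespace Groth.Agent.Lib.Seat10.Root

open EtRam IsLocalRing TensorProduct Polynomial Groth.Agent.Lib.Seat10.ValDom
  Groth.Agent.Lib.Seat10.Tower

theorem ramificationIdx'_bounds (A K L : Type u) [CommRing A] [IsDomain A]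
    [IsDiscreteValuationRing A] [Field K] [Algebra A K] [IsFractionRing A K] [Field L]
    [Algebra K L] [FiniteDimensional K L] (g : A →+* L)
    (hg : g = (algebraMap K L).comp (algebraMap A K)) (V : ValuationSubring L)
    (hV : Dominates A g V) :
    letI : Algebra A V := (RingHom.codRestrict g V hV.1).toAlgebra
    0 < Ideal.ramificationIdx' (maximalIdeal A) (maximalIdeal V) ∧
      Ideal.ramificationIdx' (maximalIdeal A) (maximalIdeal V) ≤ Module.finrank K L ∧
      ((∀ p : ℕ, p.Prime → CharP (ResidueField A) p →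
        ¬ p ∣ Ideal.ramificationIdx' (maximalIdeal A) (maximalIdeal V)) →
        ((Ideal.ramificationIdx' (maximalIdeal A) (maximalIdeal V) : ℕ) : ResidueField A) ≠ 0) := by
  subst hg
  letI : Algebra A V := (RingHom.codRestrict _ V hV.1).toAlgebra
  have hle := ramificationIdx'_le_finrank A K L V hV
  have hdvr : IsDiscreteValuationRing V := isDiscreteValuationRing_of_dominates_finite A K V hV
  haveI hloc : IsLocalHom (algebraMap A V) := isLocalHom_toVal hV
  obtain ⟨π, hπirr⟩ := IsDiscreteValuationRing.exists_irreducible A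
  obtain ⟨π₁, hπ₁irr⟩ := IsDiscreteValuationRing.exists_irreducible V
  have hinj : Function.Injective ((algebraMap K L).comp (algebraMap A K)) :=
    (algebraMap K L).injective.comp (IsFractionRing.injective A K)
  have hπVne : algebraMap A V π ≠ 0 := by
    intro h0
    have h1 : ((algebraMap K L).comp (algebraMap A K)) π = 0 := congrArg Subtype.val h0
    exact hπirr.ne_zero (hinj (by rw [h1, map_zero]))
  obtain ⟨n, u₁, hf₁⟩ := IsDiscreteValuationRing.eq_unit_mul_pow_irreducible hπVne hπ₁irr
  have he₁ : Ideal.ramificationIdx' (maximalIdeal A) (maximalIdeal V) = n :=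
    ramificationIdx'_eq_of_eq_unit_mul_pow hπirr.maximalIdeal_eq hπ₁irr.maximalIdeal_eq
      hπ₁irr.ne_zero hπ₁irr.not_isUnit u₁ n hf₁
  have hn0 : n ≠ 0 := by
    rintro rfl
    rw [pow_zero, mul_one] at hf₁
    exact hπirr.not_isUnit (isUnit_of_map_unit (algebraMap A V) π (hf₁ ▸ u₁.isUnit))
  refine ⟨?_, hle, ?_⟩
  · rw [he₁]; exact Nat.pos_of_ne_zero hn0
  · rw [he₁]
    intro hram
    obtain ⟨p, hp⟩ := CharP.exists (ResidueField A)
    rcases CharP.char_is_prime_or_zero (ResidueField A) p with hpp | hp0
    · rw [Ne, CharP.cast_eq_zero_iff (ResidueField A) p]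
      exact hram p hpp hp
    · subst hp0
      have : CharZero (ResidueField A) := CharP.charP_to_charZero _
      exact Nat.cast_ne_zero.mpr hn0

theorem exists_uniform_index_of_tame {A K L : Type u} [CommRing A] [IsDomain A]
    [IsDiscreteValuationRing A] [Field K] [Algebra A K] [IsFractionRing A K] [Field L] [Algebra K L]
    [Algebra A L] [IsScalarTower A K L] [FiniteDimensional K L]
    (h : EtRam.IsTamelyRamified A (algebraMap A L)) :
    ∃ e₀ : ℕ, 0 < e₀ ∧ ((e₀ : ℕ) : ResidueField A) ≠ 0 ∧
      ∀ (V : ValuationSubring L) (hV : Dominates A (algebraMap A L) V),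
        letI : Algebra A V := (RingHom.codRestrict (algebraMap A L) V hV.1).toAlgebra
        Ideal.ramificationIdx' (maximalIdeal A) (maximalIdeal V) ∣ e₀ := by
  obtain ⟨e₀, he₀pos, he₀k, hdvd⟩ := exists_uniform_index (ResidueField A) (Module.finrank K L)
  refine ⟨e₀, he₀pos, he₀k, fun V hV => ?_⟩
  letI : Algebra A V := (RingHom.codRestrict (algebraMap A L) V hV.1).toAlgebra
  haveI hloc : IsLocalHom (algebraMap A V) := isLocalHom_toVal hV
  obtain ⟨-, hram⟩ := h V hV
  obtain ⟨h1, h2, h3⟩ := ramificationIdx'_bounds A K L (algebraMap A L)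
    (IsScalarTower.algebraMap_eq A K L) V hV
  exact hdvd _ h1 h2 (h3 hram)

end Groth.Agent.Lib.Seat10.Root
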