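import Groth.Agent.Lib.Seat10ValDomB

/-!
# Towers of local rings / DVRs: residue fields and ramification indices (Seat 10)
-/

set_option autoImplicit false

universe u

namespace Groth.Agent.Lib.Seat10.ValDom

open IsLocalRing

section tower

variable {A V W : Type*} [CommRing A] [CommRing V] [CommRing W]
  [IsLocalRing A] [IsLocalRing V] [IsLocalRing W]
  [Algebra A V] [Algebra V W] [Algebra A W] [IsScalarTower A V W]
  [IsLocalHom (algebraMap A V)] [IsLocalHom (algebraMap V W)] [IsLocalHom (algebraMap A W)]

theorem isSeparable_residueField_bot
    (h : Algebra.IsSeparable (ResidueField A) (ResidueField W)) :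
    Algebra.IsSeparable (ResidueField A) (ResidueField V) :=
  Algebra.isSeparable_tower_bot_of_isSeparable (ResidueField A) (ResidueField V) (ResidueField W)

theorem isSeparable_residueField_trans
    (h1 : Algebra.IsSeparable (ResidueField A) (ResidueField V))
    (h2 : Algebra.IsSeparable (ResidueField V) (ResidueField W)) :
    Algebra.IsSeparable (ResidueField A) (ResidueField W) :=
  Algebra.IsSeparable.trans (ResidueField A) (ResidueField V) (ResidueField W)

omit [IsLocalHom (algebraMap A W)] in
/-- weak unramifiedness descends along a saturated local extension `V → W` -/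
theorem isWeaklyUnramified_bot (hprinc : (maximalIdeal A).IsPrincipal)
    (hsat : ∀ v v' : V, algebraMap V W v' ∣ algebraMap V W v → v' ∣ v)
    (h : (maximalIdeal A).map (algebraMap A W) = maximalIdeal W) :
    (maximalIdeal A).map (algebraMap A V) = maximalIdeal V := by
  apply le_antisymm
  · rw [Ideal.map_le_iff_le_comap]
    exact ((local_hom_TFAE (algebraMap A V)).out 0 3).mp ‹IsLocalHom (algebraMap A V)›
  · intro x hx
    obtain ⟨π, hπ⟩ := hprinc.principal
    have hle : maximalIdeal V ≤ (maximalIdeal W).comap (algebraMap V W) :=
      ((local_hom_TFAE (algebraMap V W)).out 0 3).mp ‹IsLocalHom (algebraMap V W)›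
    have hxW : algebraMap V W x ∈ maximalIdeal W := hle hx
    rw [← h, hπ, Ideal.submodule_span_eq, Ideal.map_span, Set.image_singleton,
      Ideal.mem_span_singleton, IsScalarTower.algebraMap_apply A V W] at hxW
    have h1 := hsat x _ hxW
    rw [hπ, Ideal.submodule_span_eq, Ideal.map_span, Set.image_singleton,
      Ideal.mem_span_singleton]
    exact h1

end tower

section dvr

variable {A V W : Type*} [CommRing A] [CommRing V] [CommRing W]
  [IsDomain A] [IsDomain V] [IsDomain W]
  [IsDiscreteValuationRing A] [IsDiscreteValuationRing V] [IsDiscreteValuationRing W]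
  [Algebra A V] [Algebra V W] [Algebra A W] [IsScalarTower A V W]
  [IsLocalHom (algebraMap A V)] [IsLocalHom (algebraMap V W)] [IsLocalHom (algebraMap A W)]

theorem ramificationIdx'_tower (hAV : Function.Injective (algebraMap A V))
    (hVW : Function.Injective (algebraMap V W)) :
    Ideal.ramificationIdx' (maximalIdeal A) (maximalIdeal W) =
      Ideal.ramificationIdx' (maximalIdeal A) (maximalIdeal V) *
        Ideal.ramificationIdx' (maximalIdeal V) (maximalIdeal W) := by
  have hAW : Function.Injective (algebraMap A W) := by
    rw [IsScalarTower.algebraMap_eq A V W]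
    exact hVW.comp hAV
  have : FaithfulSMul A V := (faithfulSMul_iff_algebraMap_injective A V).mpr hAV
  have : FaithfulSMul V W := (faithfulSMul_iff_algebraMap_injective V W).mpr hVW
  have : FaithfulSMul A W := (faithfulSMul_iff_algebraMap_injective A W).mpr hAW
  have : Module.IsTorsionFree A V := inferInstance
  have : Module.IsTorsionFree V W := inferInstance
  have : Module.IsTorsionFree A W := inferInstance
  have : Module.Flat V W := inferInstance
  have hA0 : maximalIdeal A ≠ ⊥ := IsDiscreteValuationRing.not_a_field A
  have hV0 : maximalIdeal V ≠ ⊥ := IsDiscreteValuationRing.not_a_field V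
  rw [Ideal.ramificationIdx'_eq_ramificationIdx (maximalIdeal A) (maximalIdeal W) hA0,
    Ideal.ramificationIdx'_eq_ramificationIdx (maximalIdeal A) (maximalIdeal V) hA0,
    Ideal.ramificationIdx'_eq_ramificationIdx (maximalIdeal V) (maximalIdeal W) hV0]
  exact Ideal.ramificationIdx_tower (maximalIdeal V) (maximalIdeal W)

end dvr

end Groth.Agent.Lib.Seat10.ValDom
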