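import Groth.Agent.Lib.Seat10RootE
import Groth.Agent.Lib.Seat10ValDomC
import Groth.Agent.Lib.Seat10ValDomD

/-!
# Unramified over `A[π^{1/e}]` implies tamely ramified over `A` (Seat 10)

`isTamelyRamified_of_unramified_over_root`: if `L` embeds into a finite extension `L'` of `K` which
is an algebra over `A' = A[z]/(z ^ e - π)` (`e` invertible in `κ(A)`) and unramified with respect
to `A'`, then `L` is tamely ramified with respect to `A`.
-/

set_option autoImplicit false

universe u

namespace Groth.Agent.Lib.Seat10.Root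

open EtRam IsLocalRing TensorProduct Polynomial Groth.Agent.Lib.Seat10.ValDom
  Groth.Agent.Lib.Seat10.Tower

set_option maxHeartbeats 1600000 in
theorem isTamelyRamified_of_unramified_over_root {A K L : Type u} [CommRing A] [IsDomain A]
    [IsDiscreteValuationRing A] [Field K] [Algebra A K] [IsFractionRing A K] [Field L] [Algebra K L]
    [Algebra A L] [IsScalarTower A K L] [FiniteDimensional K L]
    (π : A) (hπ : maximalIdeal A = Ideal.span {π}) (e : ℕ) (he0 : 0 < e)
    (hek : ((e : ℕ) : ResidueField A) ≠ 0)
    (L' : Type u) [Field L'] [Algebra K L'] [Algebra (AdjoinRoot (X ^ e - C π : A[X])) L']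
    (f : L →ₐ[K] L') [FiniteDimensional K L']
    (hcomp : (algebraMap (AdjoinRoot (X ^ e - C π : A[X])) L').comp (AdjoinRoot.of (X ^ e - C π)) =
      (algebraMap K L').comp (algebraMap A K))
    (hunr : ∀ [IsLocalRing (AdjoinRoot (X ^ e - C π : A[X]))],
      EtRam.IsUnramifiedExt (AdjoinRoot (X ^ e - C π : A[X]))
        (algebraMap (AdjoinRoot (X ^ e - C π : A[X])) L')) :
    EtRam.IsTamelyRamified A (algebraMap A L) := by
  intro V hV hlocAV
  have hπm : π ∈ maximalIdeal A := hπ ▸ Ideal.mem_span_singleton_self π
  have he : e ≠ 0 := he0.ne'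
  haveI hlocalA' : IsLocalRing (AdjoinRoot (X ^ e - C π : A[X])) :=
    isLocalRing_adjoinRoot π hπm he
  have hunr' := @hunr hlocalA'
  haveI hlocAA' : IsLocalHom (algebraMap A (AdjoinRoot (X ^ e - C π : A[X]))) :=
    isLocalHom_of π hπm he
  have hmA' := maximalIdeal_eq_span_root π hπm he hπ
  obtain ⟨V', hV'⟩ := exists_comap_eq V f.toRingHom
  subst hV'
  have hALeq : algebraMap A L = (algebraMap K L).comp (algebraMap A K) :=
    IsScalarTower.algebraMap_eq A K L
  have hfA : ∀ a : A, algebraMap (AdjoinRoot (X ^ e - C π : A[X])) L' (AdjoinRoot.of _ a) =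
      f.toRingHom (algebraMap A L a) := by
    intro a
    have := RingHom.congr_fun hcomp a
    simp only [RingHom.comp_apply] at this
    rw [this, IsScalarTower.algebraMap_apply A K L]
    exact (f.commutes _).symm
  have hzpow : (algebraMap (AdjoinRoot (X ^ e - C π : A[X])) L' (AdjoinRoot.root _)) ^ e =
      f.toRingHom (algebraMap A L π) := by
    rw [← map_pow, root_pow, hfA]
  have hvπ : V'.valuation (f.toRingHom (algebraMap A L π)) < 1 := by
    rw [← valuation_comap_lt_one_iff]
    exact hV.2 π hπm
  have hvz : V'.valuation (algebraMap (AdjoinRoot (X ^ e - C π : A[X])) L' (AdjoinRoot.root _)) < 1 := by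
    rw [← hzpow, map_pow] at hvπ
    exact (pow_lt_one_iff he).mp hvπ
  have hzmem : algebraMap (AdjoinRoot (X ^ e - C π : A[X])) L' (AdjoinRoot.root _) ∈ V' :=
    (ValuationSubring.valuation_le_one_iff V' _).mp hvz.le
  have hmemA' : ∀ x : AdjoinRoot (X ^ e - C π : A[X]),
      algebraMap (AdjoinRoot (X ^ e - C π : A[X])) L' x ∈ V' := by
    intro x
    have hx : x ∈ Algebra.adjoin A {AdjoinRoot.root (X ^ e - C π : A[X])} := by
      rw [AdjoinRoot.adjoinRoot_eq_top]; trivial
    induction hx using Algebra.adjoin_induction with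
    | mem x hx =>
      rw [Set.mem_singleton_iff.mp hx]
      exact hzmem
    | algebraMap a =>
      rw [AdjoinRoot.algebraMap_eq, hfA]
      exact hV.1 a
    | add x y _ _ hx hy => rw [map_add]; exact V'.add_mem _ _ hx hy
    | mul x y _ _ hx hy => rw [map_mul]; exact V'.mul_mem _ _ hx hy
  have hdomA'V' : Dominates (AdjoinRoot (X ^ e - C π : A[X]))
      (algebraMap (AdjoinRoot (X ^ e - C π : A[X])) L') V' := by
    refine ⟨hmemA', fun x hx => ?_⟩
    rw [hmA', Ideal.mem_span_singleton'] at hx
    obtain ⟨y, rfl⟩ := hx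
    have h1 : (⟨_, hzmem⟩ : V') ∈ maximalIdeal V' :=
      (ValuationSubring.valuation_lt_one_iff V' _).mpr hvz
    have h2 : (⟨_, hmemA' y⟩ : V') * (⟨_, hzmem⟩ : V') ∈ maximalIdeal V' :=
      Ideal.mul_mem_left _ _ h1
    have h3 := (ValuationSubring.valuation_lt_one_iff V' _).mp h2
    rw [map_mul]
    simpa using h3
  letI algA'V' : Algebra (AdjoinRoot (X ^ e - C π : A[X])) V' :=
    (RingHom.codRestrict (algebraMap (AdjoinRoot (X ^ e - C π : A[X])) L') V' hdomA'V'.1).toAlgebra
  haveI hlocA'V' : IsLocalHom (algebraMap (AdjoinRoot (X ^ e - C π : A[X])) V') :=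
    isLocalHom_toVal hdomA'V'
  obtain ⟨hwu, hsepV'⟩ := hunr' V' hdomA'V'
  -- algebra structures
  letI algAV : Algebra A (V'.comap f.toRingHom) :=
    (RingHom.codRestrict (algebraMap A L) (V'.comap f.toRingHom) hV.1).toAlgebra
  letI algVV' : Algebra (V'.comap f.toRingHom) V' := (inclOfComap V' f.toRingHom).toAlgebra
  letI algAV' : Algebra A V' := ((algebraMap (AdjoinRoot (X ^ e - C π : A[X])) V').comp
    (algebraMap A (AdjoinRoot (X ^ e - C π : A[X])))).toAlgebra
  haveI : IsScalarTower A (AdjoinRoot (X ^ e - C π : A[X])) V' :=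
    IsScalarTower.of_algebraMap_eq (fun _ => rfl)
  haveI : IsScalarTower A (V'.comap f.toRingHom) V' :=
    IsScalarTower.of_algebraMap_eq (fun a => Subtype.ext (by
      show algebraMap (AdjoinRoot (X ^ e - C π : A[X])) L'
        (algebraMap A (AdjoinRoot (X ^ e - C π : A[X])) a) = f.toRingHom (algebraMap A L a)
      rw [AdjoinRoot.algebraMap_eq, hfA]))
  haveI hlocVV' : IsLocalHom (algebraMap (V'.comap f.toRingHom) V') :=
    isLocalHom_inclOfComap V' f.toRingHom
  haveI hlocAV' : IsLocalHom (algebraMap A V') :=
    RingHom.isLocalHom_comp (algebraMap (AdjoinRoot (X ^ e - C π : A[X])) V')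
      (algebraMap A (AdjoinRoot (X ^ e - C π : A[X])))
  have hdomAV' : Dominates A ((algebraMap K L').comp (algebraMap A K)) V' := by
    rw [← hcomp]
    refine ⟨fun a => hdomA'V'.1 _, fun a ha => ?_⟩
    apply hdomA'V'.2
    rw [mem_maximalIdeal, mem_nonunits_iff] at ha ⊢
    exact fun hu => ha (isUnit_of_map_unit (algebraMap A (AdjoinRoot (X ^ e - C π : A[X]))) a
      (by rwa [AdjoinRoot.algebraMap_eq]))
  haveI hV_dvr : IsDiscreteValuationRing (V'.comap f.toRingHom) :=
    isDiscreteValuationRing_of_dominates_finite A K _ (hALeq ▸ hV)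
  haveI hV'_dvr : IsDiscreteValuationRing V' :=
    isDiscreteValuationRing_of_dominates_finite A K V' hdomAV'
  refine ⟨?_, ?_⟩
  · -- separability of the residue field extension
    have hsepA' : Algebra.IsSeparable (ResidueField A)
        (ResidueField (AdjoinRoot (X ^ e - C π : A[X]))) := by
      refine ⟨fun x => ?_⟩
      obtain ⟨x', rfl⟩ := IsLocalRing.residue_surjective x
      obtain ⟨a, ha⟩ := residue_eq_residue_of π hπm he x'
      rw [ha]
      have : residue (AdjoinRoot (X ^ e - C π : A[X])) (AdjoinRoot.of (X ^ e - C π : A[X]) a) =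
          algebraMap (ResidueField A) (ResidueField (AdjoinRoot (X ^ e - C π : A[X])))
            (residue A a) := rfl
      rw [this]
      exact isSeparable_algebraMap _
    have hsepAV' : Algebra.IsSeparable (ResidueField A) (ResidueField V') :=
      isSeparable_residueField_trans (A := A) (V := AdjoinRoot (X ^ e - C π : A[X])) (W := V')
        hsepA' hsepV'
    exact isSeparable_residueField_bot (A := A) (V := V'.comap f.toRingHom) (W := V') hsepAV'
  · -- the ramification index
    intro p hp hchar hdvd
    set t : V' := algebraMap (AdjoinRoot (X ^ e - C π : A[X])) V' (AdjoinRoot.root _) with ht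
    have hmV' : maximalIdeal V' = Ideal.span {t} := by
      unfold EtRam.IsWeaklyUnramified at hwu
      rw [← hwu, hmA', Ideal.map_span, Set.image_singleton]
    have hπirr : Irreducible π := by
      rw [IsDiscreteValuationRing.irreducible_iff_uniformizer]
      exact hπ
    have hinjAL : Function.Injective (algebraMap A L) := by
      rw [hALeq]
      exact (algebraMap K L).injective.comp (IsFractionRing.injective A K)
    have hinjAV : Function.Injective (algebraMap A (V'.comap f.toRingHom)) := by
      intro a a' haa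
      exact hinjAL (congrArg Subtype.val haa)
    have hinjVV' : Function.Injective (algebraMap (V'.comap f.toRingHom) V') := by
      intro v v' hvv
      have h1 : f.toRingHom (v : L) = f.toRingHom (v' : L) := congrArg Subtype.val hvv
      exact Subtype.ext (f.toRingHom.injective h1)
    have hte : algebraMap A V' π = ((1 : V'ˣ) : V') * t ^ e := by
      rw [Units.val_one, one_mul, ht, ← map_pow, root_pow]
      rfl
    have htm : t ∈ maximalIdeal V' := hmV' ▸ Ideal.mem_span_singleton_self t
    have htu : ¬ IsUnit t := (mem_maximalIdeal t).mp htm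
    have ht0 : t ≠ 0 := by
      intro h0
      rw [h0, zero_pow he, mul_zero] at hte
      have h1 : algebraMap (V'.comap f.toRingHom) V' (algebraMap A (V'.comap f.toRingHom) π) = 0 := by
        rw [← IsScalarTower.algebraMap_apply]
        exact hte
      have h2 := hinjAV (hinjVV' (by rw [h1, map_zero, map_zero]) : _ = algebraMap A _ 0)
      exact hπirr.ne_zero h2
    have heV' : Ideal.ramificationIdx' (maximalIdeal A) (maximalIdeal V') = e :=
      ramificationIdx'_eq_of_eq_unit_mul_pow hπ hmV' ht0 htu 1 e hte
    have htower := ramificationIdx'_tower (A := A) (V := V'.comap f.toRingHom) (W := V') hinjAV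
      hinjVV'
    rw [heV'] at htower
    have hpe : p ∣ e := by
      rw [htower]
      exact Dvd.dvd.mul_right hdvd _
    apply hek
    rw [CharP.cast_eq_zero_iff (ResidueField A) p]
    exact hpe

end Groth.Agent.Lib.Seat10.Root
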