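import Mathlib

/-!
# The fundamental equality `e f = n` for a finite extension of DVRs (Seat 10)

`ramificationIdx'_mul_finrank_eq`: `R → S` an injective local homomorphism of DVRs with `S` a
finite `R`-module; then `e(S/R) * [κ(S) : κ(R)] = [Frac S : Frac R]`.
-/

set_option autoImplicit false
set_option linter.deprecated false

universe u

namespace Groth.Agent.Lib.Seat10.SepStep

open IsLocalRing

theorem ramificationIdx'_mul_finrank_eq {R S Q E : Type*} [CommRing R] [IsDomain R]
    [IsDiscreteValuationRing R] [CommRing S] [IsDomain S] [IsDiscreteValuationRing S]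
    [Algebra R S] [IsLocalHom (algebraMap R S)] [Module.Finite R S]
    [Field Q] [Field E] [Algebra R Q] [IsFractionRing R Q] [Algebra S E] [IsFractionRing S E]
    [Algebra Q E] [Algebra R E] [IsScalarTower R S E] [IsScalarTower R Q E] :
    Ideal.ramificationIdx' (maximalIdeal R) (maximalIdeal S) *
      Module.finrank (ResidueField R) (ResidueField S) = Module.finrank Q E := by
  have hp0 : maximalIdeal R ≠ ⊥ := IsDiscreteValuationRing.not_a_field R
  have h1 := Ideal.ramificationIdx_mul_inertiaDeg_of_isLocalRing (R := R) S Q E hp0
  rw [← h1]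
  congr 1
  have hlies : (maximalIdeal S).LiesOver (maximalIdeal R) := inferInstance
  rw [Ideal.inertiaDeg'_algebraMap]
  refine Algebra.finrank_eq_of_equiv_equiv (RingEquiv.refl _) (RingEquiv.refl _) ?_
  ext a
  rfl

end Groth.Agent.Lib.Seat10.SepStep
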