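import Mathlib
import Groth.Agent.Lib.Helper24DvrEF
import Groth.Agent.Lib.Seat10TowerU

/-!
# Comparing two DVRs under a common finite DVR extension (Seat 10)

`cmp`: `R₂ → S ← R₃` injective local homomorphisms of DVRs with finite fraction field extensions,
such that `e f = n` holds for `S/R₃`, `[Frac S : Frac R₂] ≤ [Frac S : Frac R₃]`, and every element
of `R₂` is congruent modulo `π₂ m_S` to an element of `R₃` (`π₂ ∈ m_{R₂}` nonzero).  Then
`e(S/R₂) = e(S/R₃)` and the residue fields of `R₂` and `R₃` have the same image in that of `S`.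
-/

set_option autoImplicit false

universe u

namespace Groth.Agent.Lib.Seat10.SepStep

open IsLocalRing

theorem cmp {R₂ R₃ S Q₂ Q₃ E : Type u}
    [CommRing R₂] [IsDomain R₂] [IsDiscreteValuationRing R₂]
    [CommRing R₃] [IsDomain R₃] [IsDiscreteValuationRing R₃]
    [CommRing S] [IsDomain S] [IsDiscreteValuationRing S]
    [Algebra R₂ S] [Algebra R₃ S] (hinj₂ : Function.Injective (algebraMap R₂ S))
    (hinj₃ : Function.Injective (algebraMap R₃ S))
    [IsLocalHom (algebraMap R₂ S)] [IsLocalHom (algebraMap R₃ S)]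
    [Field Q₂] [Field Q₃] [Field E] [Algebra R₂ Q₂] [IsFractionRing R₂ Q₂] [Algebra R₃ Q₃]
    [IsFractionRing R₃ Q₃]
    [Algebra S E] [IsFractionRing S E] [Algebra Q₂ E] [Algebra Q₃ E] [Algebra R₂ E] [Algebra R₃ E]
    [IsScalarTower R₂ Q₂ E] [IsScalarTower R₂ S E] [IsScalarTower R₃ Q₃ E] [IsScalarTower R₃ S E]
    [FiniteDimensional Q₂ E] [FiniteDimensional Q₃ E]
    (hEF : Ideal.ramificationIdx' (maximalIdeal R₃) (maximalIdeal S) *
      Module.finrank (ResidueField R₃) (ResidueField S) = Module.finrank Q₃ E)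
    (hdeg : Module.finrank Q₂ E ≤ Module.finrank Q₃ E)
    (π₂ : R₂) (hπ₂m : π₂ ∈ maximalIdeal R₂)
    (happrox : ∀ x : R₂, ∃ x₃ : R₃, ∃ s ∈ maximalIdeal S,
      algebraMap R₃ S x₃ - algebraMap R₂ S x = algebraMap R₂ S π₂ * s) :
    Ideal.ramificationIdx' (maximalIdeal R₂) (maximalIdeal S) =
        Ideal.ramificationIdx' (maximalIdeal R₃) (maximalIdeal S) ∧
      (algebraMap (ResidueField R₂) (ResidueField S)).range =
        (algebraMap (ResidueField R₃) (ResidueField S)).range := by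
  obtain ⟨hfin₂, hle₂⟩ := Groth.Agent.Lib.Helper24DvrEF.s7132 R₂ S Q₂ E hinj₂
  obtain ⟨hfin₃, hle₃⟩ := Groth.Agent.Lib.Helper24DvrEF.s7132 R₃ S Q₃ E hinj₃
  obtain ⟨t₂, ht₂⟩ := IsDiscreteValuationRing.exists_irreducible R₂
  obtain ⟨t₃, ht₃⟩ := IsDiscreteValuationRing.exists_irreducible R₃
  obtain ⟨ϖ, hϖ⟩ := IsDiscreteValuationRing.exists_irreducible S
  have ht₂0 : algebraMap R₂ S t₂ ≠ 0 := fun h => ht₂.ne_zero (hinj₂ (h.trans (map_zero _).symm))
  have ht₃0 : algebraMap R₃ S t₃ ≠ 0 := fun h => ht₃.ne_zero (hinj₃ (h.trans (map_zero _).symm))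
  obtain ⟨e₂, u₂, hu₂⟩ := IsDiscreteValuationRing.eq_unit_mul_pow_irreducible ht₂0 hϖ
  obtain ⟨e₃, u₃, hu₃⟩ := IsDiscreteValuationRing.eq_unit_mul_pow_irreducible ht₃0 hϖ
  have hram₂ : Ideal.ramificationIdx' (maximalIdeal R₂) (maximalIdeal S) = e₂ :=
    Groth.Agent.Lib.Seat10.Tower.ramificationIdx'_eq_of_eq_unit_mul_pow ht₂.maximalIdeal_eq
      hϖ.maximalIdeal_eq hϖ.ne_zero hϖ.not_isUnit u₂ e₂ hu₂
  have hram₃ : Ideal.ramificationIdx' (maximalIdeal R₃) (maximalIdeal S) = e₃ :=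
    Groth.Agent.Lib.Seat10.Tower.ramificationIdx'_eq_of_eq_unit_mul_pow ht₃.maximalIdeal_eq
      hϖ.maximalIdeal_eq hϖ.ne_zero hϖ.not_isUnit u₃ e₃ hu₃
  rw [hram₂] at hle₂
  rw [hram₃] at hle₃ hEF
  rw [hram₂, hram₃]
  -- `e₃ ≤ e₂`
  have he₂pos : e₂ ≠ 0 := by
    rintro rfl
    rw [pow_zero, mul_one] at hu₂
    exact ht₂.not_isUnit (isUnit_of_map_unit (algebraMap R₂ S) t₂ (hu₂ ▸ u₂.isUnit))
  have he₃₂ : e₃ ≤ e₂ := by
    obtain ⟨x₃, s, hs, hx₃⟩ := happrox t₂
    rw [ht₂.maximalIdeal_eq, Ideal.mem_span_singleton] at hπ₂m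
    obtain ⟨r, hr⟩ := hπ₂m
    have h1 : algebraMap R₃ S x₃ = algebraMap R₂ S t₂ * (1 + algebraMap R₂ S r * s) := by
      rw [sub_eq_iff_eq_add] at hx₃
      rw [hx₃, hr, map_mul]; ring
    have hunit : IsUnit (1 + algebraMap R₂ S r * s) := by
      by_contra hnu
      have h2 : 1 + algebraMap R₂ S r * s ∈ maximalIdeal S := (mem_maximalIdeal _).mpr hnu
      have h3 : (1 : S) ∈ maximalIdeal S := by
        have := Ideal.sub_mem _ h2 (Ideal.mul_mem_left _ (algebraMap R₂ S r) hs)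
        rwa [add_sub_cancel_right] at this
      exact (Ideal.ne_top_iff_one _).mp (IsLocalRing.maximalIdeal.isMaximal S).ne_top h3
    obtain ⟨v, hv⟩ := hunit
    have hx₃0 : x₃ ≠ 0 := by
      rintro rfl
      rw [map_zero] at h1
      rcases mul_eq_zero.mp h1.symm with h | h
      · exact ht₂0 h
      · exact v.ne_zero (hv.trans h)
    obtain ⟨k, w, hw⟩ := IsDiscreteValuationRing.eq_unit_mul_pow_irreducible hx₃0 ht₃
    have hwS : IsUnit (algebraMap R₃ S (w : R₃)) := w.isUnit.map _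
    have hrel : ((u₂ * v : Sˣ) : S) * ϖ ^ e₂ = ((hwS.unit * u₃ ^ k : Sˣ) : S) * ϖ ^ (e₃ * k) := by
      have h5 : algebraMap R₃ S x₃ = algebraMap R₃ S (w : R₃) * (algebraMap R₃ S t₃) ^ k := by
        rw [hw, map_mul, map_pow]
      rw [Units.val_mul, Units.val_mul, Units.val_pow_eq_pow_val, IsUnit.unit_spec, hv, pow_mul]
      calc (u₂ : S) * (1 + algebraMap R₂ S r * s) * ϖ ^ e₂
          = algebraMap R₂ S t₂ * (1 + algebraMap R₂ S r * s) := by rw [hu₂]; ring
        _ = algebraMap R₃ S x₃ := h1.symm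
        _ = algebraMap R₃ S (w : R₃) * (algebraMap R₃ S t₃) ^ k := h5
        _ = algebraMap R₃ S (w : R₃) * (u₃ : S) ^ k * (ϖ ^ e₃) ^ k := by rw [hu₃, mul_pow]; ring
    have hek : e₂ = e₃ * k := IsDiscreteValuationRing.unit_mul_pow_congr_pow hϖ hϖ _ _ _ _ hrel
    have hk : k ≠ 0 := by
      rintro rfl
      rw [mul_zero] at hek
      exact he₂pos hek
    calc e₃ = e₃ * 1 := (mul_one _).symm
      _ ≤ e₃ * k := Nat.mul_le_mul_left _ (Nat.one_le_iff_ne_zero.mpr hk)
      _ = e₂ := hek.symm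
  -- the map of residue fields
  have hex : ∀ x : ResidueField R₂, ∃ y : ResidueField R₃,
      algebraMap (ResidueField R₃) (ResidueField S) y =
        algebraMap (ResidueField R₂) (ResidueField S) x := by
    intro x
    obtain ⟨x, rfl⟩ := residue_surjective x
    obtain ⟨x₃, s, hs, hx₃⟩ := happrox x
    refine ⟨residue R₃ x₃, ?_⟩
    rw [ResidueField.algebraMap_residue, ResidueField.algebraMap_residue, ← sub_eq_zero,
      ← map_sub, hx₃, residue_eq_zero_iff]
    exact Ideal.mul_mem_left _ _ hs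
  choose τf hτf using hex
  have hinjκ : Function.Injective (algebraMap (ResidueField R₃) (ResidueField S)) :=
    (algebraMap (ResidueField R₃) (ResidueField S)).injective
  let τ : ResidueField R₂ →+* ResidueField R₃ :=
    { toFun := τf
      map_one' := hinjκ (by rw [hτf, map_one, map_one])
      map_mul' := fun x y => hinjκ (by rw [hτf, map_mul, map_mul, hτf, hτf])
      map_zero' := hinjκ (by rw [hτf, map_zero, map_zero])
      map_add' := fun x y => hinjκ (by rw [hτf, map_add, map_add, hτf, hτf]) }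
  letI : Algebra (ResidueField R₂) (ResidueField R₃) := τ.toAlgebra
  have htower : IsScalarTower (ResidueField R₂) (ResidueField R₃) (ResidueField S) :=
    IsScalarTower.of_algebraMap_eq (fun x => (hτf x).symm)
  have hfin₂₃ : Module.Finite (ResidueField R₂) (ResidueField R₃) :=
    Module.Finite.of_injective
      (IsScalarTower.toAlgHom (ResidueField R₂) (ResidueField R₃) (ResidueField S)).toLinearMap
      hinjκ
  have hmul := Module.finrank_mul_finrank (ResidueField R₂) (ResidueField R₃) (ResidueField S)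
  set g := Module.finrank (ResidueField R₂) (ResidueField R₃) with hg
  set f₃ := Module.finrank (ResidueField R₃) (ResidueField S) with hf₃
  have hgpos : 0 < g := Module.finrank_pos
  have hf₃pos : 0 < f₃ := Module.finrank_pos
  rw [← hmul] at hle₂
  -- arithmetic
  have hchain : e₂ * (g * f₃) ≤ e₃ * f₃ := by
    calc e₂ * (g * f₃) ≤ Module.finrank Q₂ E := hle₂
      _ ≤ Module.finrank Q₃ E := hdeg
      _ = e₃ * f₃ := hEF.symm
  have h1 : e₂ * g ≤ e₃ := by
    have : e₂ * g * f₃ ≤ e₃ * f₃ := by rw [mul_assoc]; exact hchain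
    exact Nat.le_of_mul_le_mul_right this hf₃pos
  have he : e₂ = e₃ := by
    apply le_antisymm _ he₃₂
    calc e₂ = e₂ * 1 := (mul_one _).symm
      _ ≤ e₂ * g := Nat.mul_le_mul_left _ hgpos
      _ ≤ e₃ := h1
  have hg1 : g = 1 := by
    have h2 : e₂ * g ≤ e₂ * 1 := by rw [mul_one, he]; rw [he] at h1; exact h1
    have := Nat.le_of_mul_le_mul_left h2 (Nat.pos_of_ne_zero he₂pos)
    omega
  refine ⟨he, ?_⟩
  have hsurj : Function.Surjective τ := by
    have hbt : (⊥ : Subalgebra (ResidueField R₂) (ResidueField R₃)) = ⊤ :=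
      Subalgebra.bot_eq_top_of_finrank_eq_one hg1
    intro y
    have hy : y ∈ (⊥ : Subalgebra (ResidueField R₂) (ResidueField R₃)) := by rw [hbt]; trivial
    obtain ⟨x, hx⟩ := Algebra.mem_bot.mp hy
    exact ⟨x, hx⟩
  ext z
  constructor
  · rintro ⟨x, rfl⟩
    exact ⟨τ x, hτf x⟩
  · rintro ⟨y, rfl⟩
    obtain ⟨x, rfl⟩ := hsurj y
    exact ⟨x, (hτf x).symm⟩

end Groth.Agent.Lib.Seat10.SepStep
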