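import Mathlib
import Groth.Agent.Lib.Seat10DomB

/-!
# Valuation rings over a DVR with finite integral closure (Seat 10)

`A` a DVR with fraction field `K`, `E/K` a finite extension in which the integral closure of `A`
is a finite `A`-module.

* `isDedekindDomain_integralClosure`
* `exists_integral_fraction`: every element of a valuation subring of `E` dominating `A` is a
  quotient `y / s` of integral elements with `s` a unit of the valuation subring.
* `finite_of_pow_mem`: if `M'` is an intermediate field with `z ^ p ∈ M'` for all `z ∈ E`, then a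
  valuation subring `𝒲` of `E` dominating `A` is a finite module over `𝒲 ∩ M'`.
-/

set_option autoImplicit false

universe u

namespace Groth.Agent.Lib.Seat10.SepStep

open IsLocalRing EtRam Groth.Agent.Lib.Seat10.Dom Groth.Agent.Lib.Seat10.ValDom

variable (A K : Type u) {E : Type u} [CommRing A] [IsDomain A] [IsDiscreteValuationRing A]
  [Field K] [Algebra A K] [IsFractionRing A K] [Field E] [Algebra K E] [Algebra A E]
  [IsScalarTower A K E] [FiniteDimensional K E]

include K in
theorem isDedekindDomain_integralClosure (hfin : Module.Finite A (integralClosure A E)) :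
    IsDedekindDomain (integralClosure A E) :=
  have : IsFractionRing (integralClosure A E) E :=
    IsIntegralClosure.isFractionRing_of_finite_extension A K E (integralClosure A E)
  have : Algebra.IsIntegral A (integralClosure A E) := IsIntegralClosure.isIntegral_algebra A E
  have hN : IsNoetherian A (integralClosure A E) := isNoetherian_of_isNoetherianRing_of_finite A _
  { isNoetherian_of_tower A hN,
    Ring.DimensionLEOne.of_isIntegral A (integralClosure A E),
    (isIntegrallyClosed_iff E).mpr fun {x} hx =>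
      ⟨IsIntegralClosure.mk' (integralClosure A E) x (isIntegral_trans (R := A) _ hx),
        IsIntegralClosure.algebraMap_mk' _ _ _⟩ with : IsDedekindDomain (integralClosure A E) }

include K in
theorem exists_integral_fraction (hfin : Module.Finite A (integralClosure A E))
    {V : ValuationSubring E} (h : Dominates A (algebraMap A E) V) (x : E) (hx : x ∈ V) :
    ∃ y s : E, IsIntegral A y ∧ IsIntegral A s ∧ s ∈ V ∧ s⁻¹ ∈ V ∧ s ≠ 0 ∧ x * s = y := by
  have hded : IsDedekindDomain (integralClosure A E) := isDedekindDomain_integralClosure A K hfin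
  have : IsFractionRing (integralClosure A E) E :=
    IsIntegralClosure.isFractionRing_of_finite_extension A K E (integralClosure A E)
  obtain ⟨b, s, hs, hxs⟩ := exists_mul_eq (L := E) (toV h) (fun b => rfl) (centre_ne_bot A K h)
    (⟨x, hx⟩ : V)
  have hsu : IsUnit (toV h s) := by
    by_contra hnu
    exact hs ((mem_maximalIdeal _).mpr hnu)
  obtain ⟨u, hu⟩ := hsu
  have hs0 : (s : E) ≠ 0 := by
    intro h0
    have h1 : ((u : V) : E) = 0 := by rw [hu]; exact h0
    have h2 : (u : V) = 0 := Subtype.ext h1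
    exact u.ne_zero h2
  refine ⟨(b : E), (s : E), b.2, s.2, (toV h s).2, ?_, hs0, congrArg Subtype.val hxs⟩
  have h1 : (((u⁻¹ : Vˣ) : V) : E) * (s : E) = 1 := by
    have h2 : ((u⁻¹ : Vˣ) : V) * toV h s = 1 := by rw [← hu, Units.inv_mul]
    exact congrArg Subtype.val h2
  have h3 : (s : E)⁻¹ = (((u⁻¹ : Vˣ) : V) : E) := by
    rw [eq_comm, ← mul_eq_one_iff_eq_inv₀ hs0]
    exact h1
  rw [h3]
  exact ((u⁻¹ : Vˣ) : V).2

include K in
theorem finite_of_pow_mem (hfin : Module.Finite A (integralClosure A E))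
    {M' : Type u} [Field M'] [Algebra M' E] [Algebra A M'] [IsScalarTower A M' E] (p : ℕ)
    (hp : 0 < p) (hpow : ∀ z : E, ∃ m : M', algebraMap M' E m = z ^ p)
    {𝒲 : ValuationSubring E} (h : Dominates A (algebraMap A E) 𝒲) :
    letI : Algebra (𝒲.comap (algebraMap M' E)) 𝒲 := (inclOfComap 𝒲 (algebraMap M' E)).toAlgebra
    Module.Finite (𝒲.comap (algebraMap M' E)) 𝒲 := by
  letI : Algebra (𝒲.comap (algebraMap M' E)) 𝒲 := (inclOfComap 𝒲 (algebraMap M' E)).toAlgebra
  classical
  obtain ⟨S, hS⟩ := hfin.fg_top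
  refine ⟨⟨S.image (toV h), ?_⟩⟩
  rw [eq_top_iff]
  rintro ⟨x, hx⟩ -
  obtain ⟨y, s, hy, hs, hsV, hsinv, hs0, hxs⟩ := exists_integral_fraction A K hfin h x hx
  obtain ⟨m, hm⟩ := hpow s
  have hm0 : m ≠ 0 := by
    rintro rfl
    rw [map_zero] at hm
    exact hs0 (pow_eq_zero_iff hp.ne' |>.mp hm.symm)
  have hmW : m ∈ 𝒲.comap (algebraMap M' E) := by
    show algebraMap M' E m ∈ 𝒲
    rw [hm]
    exact pow_mem hsV p
  have hminvW : m⁻¹ ∈ 𝒲.comap (algebraMap M' E) := by
    show algebraMap M' E m⁻¹ ∈ 𝒲
    rw [map_inv₀, hm, ← inv_pow]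
    exact pow_mem hsinv p
  have hz : IsIntegral A (y * s ^ (p - 1)) := hy.mul (hs.pow _)
  have hzmem : (⟨y * s ^ (p - 1), hz⟩ : integralClosure A E) ∈
      Submodule.span A (S : Set (integralClosure A E)) := by rw [hS]; trivial
  obtain ⟨f, -, hf⟩ := Submodule.mem_span_finset.mp hzmem
  have hAW : ∀ a : A, algebraMap A M' a ∈ 𝒲.comap (algebraMap M' E) := by
    intro a
    show algebraMap M' E (algebraMap A M' a) ∈ 𝒲
    rw [← IsScalarTower.algebraMap_apply]
    exact h.1 a
  have hxsum : (⟨x, hx⟩ : 𝒲) = ∑ g ∈ S,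
      (⟨m⁻¹, hminvW⟩ * ⟨algebraMap A M' (f g), hAW (f g)⟩ : 𝒲.comap (algebraMap M' E)) •
        toV h g := by
    apply Subtype.ext
    have hf' := congrArg (fun t : integralClosure A E => (t : E)) hf
    simp only [AddSubmonoidClass.coe_finsetSum] at hf'
    have h1 : ((∑ g ∈ S, (⟨m⁻¹, hminvW⟩ * ⟨algebraMap A M' (f g), hAW (f g)⟩ :
        𝒲.comap (algebraMap M' E)) • toV h g : 𝒲) : E) =
        ∑ g ∈ S, (algebraMap M' E m)⁻¹ * (algebraMap A E (f g) * (g : E)) := by
      rw [AddSubmonoidClass.coe_finsetSum]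
      refine Finset.sum_congr rfl fun g _ => ?_
      rw [Algebra.smul_def]
      show algebraMap M' E (m⁻¹ * algebraMap A M' (f g)) * (g : E) = _
      rw [map_mul, map_inv₀, ← IsScalarTower.algebraMap_apply, mul_assoc]
    rw [h1, ← Finset.mul_sum]
    have h2 : ∑ g ∈ S, algebraMap A E (f g) * (g : E) = y * s ^ (p - 1) := by
      rw [← hf']
      refine Finset.sum_congr rfl fun g _ => ?_
      rw [Algebra.smul_def]
      rfl
    rw [h2, hm, ← hxs]
    have hsp : s ^ p = s ^ (p - 1) * s := by rw [← pow_succ, Nat.sub_add_cancel hp]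
    rw [hsp]
    field_simp
  rw [hxsum]
  refine Submodule.sum_mem _ fun g hg => Submodule.smul_mem _ _ (Submodule.subset_span ?_)
  exact Finset.mem_coe.mpr (Finset.mem_image_of_mem _ hg)

end Groth.Agent.Lib.Seat10.SepStep
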