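import Mathlib
import Groth.Agent.Lib.Helper14Japanese

/-!
# Conductors (Seat 10)

* `exists_pow_mul_eq`: in the fraction field of a DVR every element becomes integral after
  multiplication by a power of a fixed nonzero non-unit.
* `exists_pow_smul_mem_span`: a finitely generated `B`-submodule of an `L`-vector space spanned by
  a finite family `w` is contained in `π^{-c} ∑ B w_λ` for some `c`.
* `exists_conductor`: for an N-2 DVR `B` with fraction field `L ⊇ K` and a finite extension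
  `K₂/K` spanned by `e`, there is one exponent `c` such that in every field compositum of `L` and
  `K₂` the `B`-integral elements lie in `π^{-c} ∑ B e_λ`.
-/

set_option autoImplicit false

universe u

namespace Groth.Agent.Lib.Seat10.SepStep

open IsLocalRing TensorProduct

section dvr

variable {B L : Type*} [CommRing B] [IsDomain B] [IsDiscreteValuationRing B] [Field L]
  [Algebra B L] [IsFractionRing B L]

theorem exists_pow_mul_eq (π : B) (hπ : π ∈ maximalIdeal B) (l : L) :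
    ∃ (n : ℕ) (b : B), algebraMap B L (π ^ n) * l = algebraMap B L b := by
  obtain ⟨x, s, hs, rfl⟩ := IsFractionRing.div_surjective (A := B) l
  have hs0 : s ≠ 0 := nonZeroDivisors.ne_zero hs
  obtain ⟨ϖ, hϖ⟩ := IsDiscreteValuationRing.exists_irreducible B
  obtain ⟨k, u, hu⟩ := IsDiscreteValuationRing.eq_unit_mul_pow_irreducible hs0 hϖ
  rw [hϖ.maximalIdeal_eq, Ideal.mem_span_singleton] at hπ
  obtain ⟨r, hr⟩ := hπ
  -- `s ∣ π ^ k`
  have hdvd : s ∣ π ^ k := by
    refine ⟨((u⁻¹ : Bˣ) : B) * r ^ k, ?_⟩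
    rw [hu, hr, mul_pow]
    have : (u : B) * ((u⁻¹ : Bˣ) : B) = 1 := Units.mul_inv u
    calc ϖ ^ k * r ^ k = ((u : B) * ((u⁻¹ : Bˣ) : B)) * (ϖ ^ k * r ^ k) := by rw [this, one_mul]
      _ = (u : B) * ϖ ^ k * (((u⁻¹ : Bˣ) : B) * r ^ k) := by ring
  obtain ⟨d, hd⟩ := hdvd
  refine ⟨k, d * x, ?_⟩
  have hsL : algebraMap B L s ≠ 0 := fun h =>
    hs0 (IsFractionRing.injective B L (h.trans (map_zero _).symm))
  rw [hd, map_mul, map_mul]
  field_simp

variable {F : Type*} [AddCommGroup F] [Module B F] [Module L F] [IsScalarTower B L F]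

theorem exists_pow_smul_mem_span {Λ : Type*} [Fintype Λ] (w : Λ → F)
    (hw : Submodule.span L (Set.range w) = ⊤) (D : Submodule B F) (hD : D.FG) (π : B)
    (hπ : π ∈ maximalIdeal B) :
    ∃ c : ℕ, ∀ y ∈ D, ∃ b : Λ → B, π ^ c • y = ∑ i, b i • w i := by
  classical
  let S : ℕ → Submodule B F := fun c =>
    (Submodule.span B (Set.range w)).comap (LinearMap.lsmul B F (π ^ c))
  have hSmono : ∀ c c' : ℕ, c ≤ c' → S c ≤ S c' := by
    intro c c' hcc y hy
    show π ^ c' • y ∈ Submodule.span B (Set.range w)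
    have h1 : π ^ c' • y = π ^ (c' - c) • (π ^ c • y) := by
      rw [smul_smul, ← pow_add, Nat.sub_add_cancel hcc]
    rw [h1]
    exact Submodule.smul_mem _ _ hy
  have hall : ∀ g : F, ∃ c, g ∈ S c := by
    intro g
    have hg : g ∈ Submodule.span L (Set.range w) := by rw [hw]; trivial
    obtain ⟨l, hl⟩ := (Submodule.mem_span_range_iff_exists_fun L).mp hg
    choose n b hnb using fun i => exists_pow_mul_eq (L := L) π hπ (l i)
    refine ⟨Finset.univ.sup n, ?_⟩
    show π ^ (Finset.univ.sup n) • g ∈ Submodule.span B (Set.range w)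
    rw [← hl, Finset.smul_sum]
    refine Submodule.sum_mem _ fun i _ => ?_
    have hle : n i ≤ Finset.univ.sup n := Finset.le_sup (Finset.mem_univ i)
    have h2 : π ^ (Finset.univ.sup n) • l i • w i =
        (π ^ (Finset.univ.sup n - n i) * b i) • w i := by
      rw [← algebraMap_smul L (π ^ (Finset.univ.sup n)) (l i • w i), smul_smul,
        ← algebraMap_smul L (π ^ (Finset.univ.sup n - n i) * b i) (w i)]
      congr 1
      rw [map_mul, ← hnb i, ← mul_assoc, ← map_mul, ← pow_add, Nat.sub_add_cancel hle]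
    rw [h2]
    exact Submodule.smul_mem _ _ (Submodule.subset_span ⟨i, rfl⟩)
  obtain ⟨G, hG⟩ := hD
  choose cg hcg using hall
  refine ⟨G.sup cg, fun y hy => ?_⟩
  have hDle : D ≤ S (G.sup cg) := by
    rw [← hG, Submodule.span_le]
    intro g hg
    exact hSmono _ _ (Finset.le_sup hg) (hcg g)
  have h3 : π ^ (G.sup cg) • y ∈ Submodule.span B (Set.range w) := hDle hy
  obtain ⟨b, hb⟩ := (Submodule.mem_span_range_iff_exists_fun B).mp h3
  exact ⟨b, hb.symm⟩

end dvr

section conductor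

variable {B K L K₂ : Type u} [CommRing B] [IsDomain B] [IsDiscreteValuationRing B] [Field K]
  [Field L] [Field K₂] [Algebra B L] [IsFractionRing B L] [Algebra K L] [Algebra K K₂]
  [FiniteDimensional K K₂]

theorem span_one_tmul_eq_top {Λ : Type*} (e : Λ → K₂)
    (he : Submodule.span K (Set.range e) = ⊤) :
    Submodule.span L (Set.range fun i => (1 : L) ⊗ₜ[K] e i) = ⊤ := by
  rw [eq_top_iff]
  rintro x -
  induction x using TensorProduct.induction_on with
  | zero => exact zero_mem _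
  | add x y hx hy => exact add_mem hx hy
  | tmul l k =>
    have hk : k ∈ Submodule.span K (Set.range e) := by rw [he]; trivial
    induction hk using Submodule.span_induction with
    | mem k hk =>
      obtain ⟨i, rfl⟩ := hk
      have : l ⊗ₜ[K] e i = l • ((1 : L) ⊗ₜ[K] e i) := by
        rw [TensorProduct.smul_tmul', smul_eq_mul, mul_one]
      rw [this]
      exact Submodule.smul_mem _ _ (Submodule.subset_span ⟨i, rfl⟩)
    | zero => rw [TensorProduct.tmul_zero]; exact zero_mem _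
    | add k₁ k₂ _ _ h₁ h₂ => rw [TensorProduct.tmul_add]; exact add_mem h₁ h₂
    | smul c k _ h =>
      have : l ⊗ₜ[K] (c • k) = algebraMap K L c • (l ⊗ₜ[K] k) := by
        rw [TensorProduct.tmul_smul, algebraMap_smul]
      rw [this]
      exact Submodule.smul_mem _ _ h

theorem exists_conductor_quotient (hN2 : CAlg.IsN2 B) {Λ : Type*} [Fintype Λ] (e : Λ → K₂)
    (he : Submodule.span K (Set.range e) = ⊤) (π : B) (hπ : π ∈ maximalIdeal B)
    (𝔮 : Ideal (L ⊗[K] K₂)) [𝔮.IsPrime] :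
    ∃ c : ℕ, ∀ y : (L ⊗[K] K₂) ⧸ 𝔮, IsIntegral B y →
      ∃ b : Λ → B, algebraMap B ((L ⊗[K] K₂) ⧸ 𝔮) (π ^ c) * y =
        ∑ i, algebraMap B ((L ⊗[K] K₂) ⧸ 𝔮) (b i) *
          Ideal.Quotient.mk 𝔮 ((1 : L) ⊗ₜ[K] e i) := by
  have hfinT : Module.Finite L (L ⊗[K] K₂) := inferInstance
  have hart : IsArtinianRing (L ⊗[K] K₂) := IsArtinianRing.of_finite L _
  have hmax : 𝔮.IsMaximal := IsArtinianRing.isMaximal_of_isPrime 𝔮
  letI : Field ((L ⊗[K] K₂) ⧸ 𝔮) := Ideal.Quotient.field 𝔮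
  have hfinQ : FiniteDimensional L ((L ⊗[K] K₂) ⧸ 𝔮) :=
    Module.Finite.of_surjective (Ideal.Quotient.mkₐ L 𝔮).toLinearMap
      (Ideal.Quotient.mkₐ_surjective L 𝔮)
  have hfin : Module.Finite B (integralClosure B ((L ⊗[K] K₂) ⧸ 𝔮)) :=
    Groth.Agent.Lib.Helper14.IsN2.finite hN2 L _
  have hD := (Groth.Agent.Lib.Helper14.finite_integralClosure_iff_fg B _).mp hfin
  have hw : Submodule.span L (Set.range fun i =>
      Ideal.Quotient.mk 𝔮 ((1 : L) ⊗ₜ[K] e i)) = ⊤ := by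
    have h1 := span_one_tmul_eq_top (L := L) e he
    have h2 := congrArg (Submodule.map (Ideal.Quotient.mkₐ L 𝔮).toLinearMap) h1
    rw [Submodule.map_span, Submodule.map_top, LinearMap.range_eq_top.mpr
      (Ideal.Quotient.mkₐ_surjective L 𝔮), ← Set.range_comp] at h2
    exact h2
  obtain ⟨c, hc⟩ := exists_pow_smul_mem_span (L := L) _ hw _ hD π hπ
  refine ⟨c, fun y hy => ?_⟩
  obtain ⟨b, hb⟩ := hc y hy
  refine ⟨b, ?_⟩
  simp only [Algebra.smul_def] at hb
  exact hb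

theorem exists_conductor (hN2 : CAlg.IsN2 B) {Λ : Type*} [Fintype Λ] (e : Λ → K₂)
    (he : Submodule.span K (Set.range e) = ⊤) (π : B) (hπ : π ∈ maximalIdeal B) :
    ∃ c : ℕ, ∀ (E : Type u) [Field E] [Algebra L E] [Algebra K₂ E] [Algebra K E]
      [IsScalarTower K L E] [IsScalarTower K K₂ E] [Algebra B E] [IsScalarTower B L E] (y : E),
      y ∈ Algebra.adjoin L (Set.range (algebraMap K₂ E)) → IsIntegral B y →
      ∃ b : Λ → B, algebraMap B E (π ^ c) * y =
        ∑ i, algebraMap B E (b i) * algebraMap K₂ E (e i) := by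
  classical
  have hfinT : Module.Finite L (L ⊗[K] K₂) := inferInstance
  have hart : IsArtinianRing (L ⊗[K] K₂) := IsArtinianRing.of_finite L _
  have : Fintype (PrimeSpectrum (L ⊗[K] K₂)) := Fintype.ofFinite _
  choose cq hcq using fun 𝔮 : PrimeSpectrum (L ⊗[K] K₂) =>
    exists_conductor_quotient hN2 e he π hπ 𝔮.asIdeal
  refine ⟨Finset.univ.sup cq, ?_⟩
  intro E _ _ _ _ _ _ _ _ y hy hyint
  let ψ : L ⊗[K] K₂ →ₐ[L] E :=
    Algebra.TensorProduct.productLeftAlgHom (Algebra.ofId L E) (IsScalarTower.toAlgHom K K₂ E)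
  have hψ1 : ∀ k : K₂, ψ ((1 : L) ⊗ₜ[K] k) = algebraMap K₂ E k := by
    intro k
    show Algebra.TensorProduct.lift _ _ _ _ = _
    rw [Algebra.TensorProduct.lift_tmul, map_one, one_mul]
    rfl
  have hrange : Algebra.adjoin L (Set.range (algebraMap K₂ E)) ≤ ψ.range := by
    apply Algebra.adjoin_le
    rintro _ ⟨k, rfl⟩
    exact ⟨(1 : L) ⊗ₜ[K] k, hψ1 k⟩
  obtain ⟨t, ht⟩ := hrange hy
  have ht' : ψ t = y := ht
  let 𝔮 : PrimeSpectrum (L ⊗[K] K₂) := ⟨RingHom.ker (ψ : L ⊗[K] K₂ →+* E), RingHom.ker_isPrime _⟩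
  let ψ' : (L ⊗[K] K₂) ⧸ 𝔮.asIdeal →+* E := RingHom.kerLift (ψ : L ⊗[K] K₂ →+* E)
  have hψ'inj : Function.Injective ψ' := RingHom.kerLift_injective _
  have hψ'mk : ∀ x : L ⊗[K] K₂, ψ' (Ideal.Quotient.mk 𝔮.asIdeal x) = ψ x := fun x => rfl
  have hψ'B : ∀ b : B, ψ' (algebraMap B ((L ⊗[K] K₂) ⧸ 𝔮.asIdeal) b) = algebraMap B E b := by
    intro b
    rw [IsScalarTower.algebraMap_apply B (L ⊗[K] K₂) ((L ⊗[K] K₂) ⧸ 𝔮.asIdeal),
      Ideal.Quotient.algebraMap_eq, hψ'mk, IsScalarTower.algebraMap_apply B L (L ⊗[K] K₂),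
      AlgHom.commutes, ← IsScalarTower.algebraMap_apply]
  have hint : IsIntegral B (Ideal.Quotient.mk 𝔮.asIdeal t) := by
    obtain ⟨P, hP, hPy⟩ := hyint
    refine ⟨P, hP, hψ'inj ?_⟩
    rw [map_zero, Polynomial.hom_eval₂, hψ'mk, ht']
    have : ψ'.comp (algebraMap B ((L ⊗[K] K₂) ⧸ 𝔮.asIdeal)) = algebraMap B E :=
      RingHom.ext hψ'B
    rw [this]
    exact hPy
  obtain ⟨b, hb⟩ := hcq 𝔮 _ hint
  have hle : cq 𝔮 ≤ Finset.univ.sup cq := Finset.le_sup (Finset.mem_univ 𝔮)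
  refine ⟨fun i => π ^ (Finset.univ.sup cq - cq 𝔮) * b i, ?_⟩
  have hb' := congrArg ψ' hb
  rw [map_mul, hψ'B, hψ'mk, map_sum, ht'] at hb'
  have h1 : algebraMap B E (π ^ Finset.univ.sup cq) =
      algebraMap B E (π ^ (Finset.univ.sup cq - cq 𝔮)) * algebraMap B E (π ^ cq 𝔮) := by
    rw [← map_mul, ← pow_add, Nat.sub_add_cancel hle]
  rw [h1, mul_assoc, hb', Finset.mul_sum]
  refine Finset.sum_congr rfl fun i _ => ?_
  rw [map_mul, hψ'B, hψ'mk, hψ1, map_mul, mul_assoc]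

end conductor

end Groth.Agent.Lib.Seat10.SepStep
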