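import Mathlib
import Groth.Agent.Lib.Helper14Japanese
import Groth.Agent.Lib.Helper14GeomRed
import Groth.Agent.Lib.Seat10InsepA
import Groth.Agent.Lib.Seat10SepStepD

/-!
# Descent of the N-2 property along a separable extension of DVRs (Seat 10)

`A → B` an injective local homomorphism of DVRs with fraction fields `K ⊆ L`, `L/K` geometrically
reduced and `B` an N-2 ring.

* `finite_integralClosure_tensor`: the integral closure of `B` in a reduced `L ⊗[K] K'`
  (`K'/K` finite) is a finite `B`-module.
* `finite_integralClosure_of_isGeometricallyReduced`: the integral closure of `A` in every finite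
  extension `K'` of `K` is a finite `A`-module.
-/

set_option autoImplicit false

universe u

namespace Groth.Agent.Lib.Seat10.SepStep

open IsLocalRing TensorProduct

section tensor

variable {B K L K' : Type u} [CommRing B] [IsDomain B] [IsDiscreteValuationRing B] [Field K]
  [Field L] [Field K'] [Algebra B L] [IsFractionRing B L] [Algebra K L] [Algebra K K']
  [FiniteDimensional K K']

theorem finite_integralClosure_tensor (hN2 : CAlg.IsN2 B) (hred : IsReduced (L ⊗[K] K')) :
    Module.Finite B (integralClosure B (L ⊗[K] K')) := by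
  have hfinT : Module.Finite L (L ⊗[K] K') := inferInstance
  have hart : IsArtinianRing (L ⊗[K] K') := IsArtinianRing.of_finite L _
  have hfin : ∀ 𝔮 : PrimeSpectrum (L ⊗[K] K'),
      Module.Finite B (integralClosure B ((L ⊗[K] K') ⧸ 𝔮.asIdeal)) := by
    intro 𝔮
    have hmax : 𝔮.asIdeal.IsMaximal := IsArtinianRing.isMaximal_of_isPrime 𝔮.asIdeal
    letI : Field ((L ⊗[K] K') ⧸ 𝔮.asIdeal) := Ideal.Quotient.field 𝔮.asIdeal
    have hfinQ : FiniteDimensional L ((L ⊗[K] K') ⧸ 𝔮.asIdeal) :=
      Module.Finite.of_surjective (Ideal.Quotient.mkₐ L 𝔮.asIdeal).toLinearMap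
        (Ideal.Quotient.mkₐ_surjective L 𝔮.asIdeal)
    exact Groth.Agent.Lib.Helper14.IsN2.finite hN2 L _
  let Φ : integralClosure B (L ⊗[K] K') →ₗ[B]
      ∀ 𝔮 : PrimeSpectrum (L ⊗[K] K'), integralClosure B ((L ⊗[K] K') ⧸ 𝔮.asIdeal) :=
    LinearMap.pi fun 𝔮 => ((Ideal.Quotient.mkₐ B 𝔮.asIdeal).mapIntegralClosure).toLinearMap
  have hΦ : Function.Injective Φ := by
    rw [injective_iff_map_eq_zero]
    intro x hx
    have h1 : ∀ J : Ideal (L ⊗[K] K'), J.IsPrime → (x : L ⊗[K] K') ∈ J := by
      intro J hJ
      have h2 := congrFun hx ⟨J, hJ⟩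
      have h3 := congrArg (fun z : integralClosure B ((L ⊗[K] K') ⧸ J) =>
        (z : (L ⊗[K] K') ⧸ J)) h2
      exact Ideal.Quotient.eq_zero_iff_mem.mp h3
    have h4 : IsNilpotent (x : L ⊗[K] K') := nilpotent_iff_mem_prime.mpr h1
    exact Subtype.ext h4.eq_zero
  exact Module.Finite.of_injective Φ hΦ

end tensor

section descent

variable (A B K L : Type u) [CommRing A] [IsDomain A] [IsDiscreteValuationRing A]
  [CommRing B] [IsDomain B] [IsDiscreteValuationRing B] [Algebra A B]
  [IsLocalHom (algebraMap A B)]
  [Field K] [Field L] [Algebra A K] [IsFractionRing A K] [Algebra B L] [IsFractionRing B L]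
  [Algebra K L] [Algebra A L] [IsScalarTower A K L] [IsScalarTower A B L]
  [Algebra.IsGeometricallyReduced K L]

include B L in
theorem finite_integralClosure_of_isGeometricallyReduced (hN2 : CAlg.IsN2 B)
    (K' : Type u) [Field K'] [Algebra K K'] [FiniteDimensional K K'] [Algebra A K']
    [IsScalarTower A K K'] : Module.Finite A (integralClosure A K') := by
  classical
  -- `T = L ⊗ K'` is reduced
  have hred' : IsReduced (K' ⊗[K] L) :=
    Groth.Agent.Lib.Helper14.GeomRed.isReduced_tensor_of_isGeometricallyReduced (k := K) (S := L) K'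
  have hred : IsReduced (L ⊗[K] K') :=
    isReduced_of_injective (Algebra.TensorProduct.comm K L K')
      (Algebra.TensorProduct.comm K L K').injective
  have hfinT := finite_integralClosure_tensor (B := B) (K := K) (L := L) (K' := K') hN2 hred
  have hD := (Groth.Agent.Lib.Helper14.finite_integralClosure_iff_fg B _).mp hfinT
  obtain ⟨s, bas, hbas⟩ := FiniteDimensional.exists_is_basis_integral A K K'
  obtain ⟨πA, hπA⟩ := IsDiscreteValuationRing.exists_irreducible A
  have hπAm : πA ∈ maximalIdeal A := by
    rw [hπA.maximalIdeal_eq]; exact Ideal.mem_span_singleton_self _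
  have hπB : algebraMap A B πA ∈ maximalIdeal B := by
    rw [mem_maximalIdeal, mem_nonunits_iff]
    intro hu
    exact hπA.not_isUnit (isUnit_of_map_unit (algebraMap A B) πA hu)
  let basT : Module.Basis s L (L ⊗[K] K') := Algebra.TensorProduct.basis L bas
  have hw : Submodule.span L (Set.range fun i => basT i) = ⊤ := basT.span_eq
  obtain ⟨c, hc⟩ := exists_pow_smul_mem_span (L := L) (fun i => basT i) hw _ hD
    (algebraMap A B πA) hπB
  have hπK0 : algebraMap A K (πA ^ c) ≠ 0 := fun h =>
    (pow_ne_zero c hπA.ne_zero) (IsFractionRing.injective A K (h.trans (map_zero _).symm))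
  have hle : Subalgebra.toSubmodule (integralClosure A K') ≤
      Submodule.span A (Set.range fun i : s => (algebraMap A K (πA ^ c))⁻¹ • bas i) := by
    intro y hy
    have hyint : IsIntegral A y := hy
    have hcomp : (algebraMap B (L ⊗[K] K')).comp (algebraMap A B) =
        (Algebra.TensorProduct.includeRight : K' →ₐ[K] L ⊗[K] K').toRingHom.comp
          (algebraMap A K') := by
      ext a
      show algebraMap B (L ⊗[K] K') (algebraMap A B a) = (1 : L) ⊗ₜ[K] algebraMap A K' a
      rw [Algebra.TensorProduct.algebraMap_apply, ← IsScalarTower.algebraMap_apply A B L,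
        IsScalarTower.algebraMap_apply A K L, IsScalarTower.algebraMap_apply A K K',
        Algebra.TensorProduct.tmul_one_eq_one_tmul]
    have htint : IsIntegral B ((1 : L) ⊗ₜ[K] y) :=
      IsIntegral.map_of_comp_eq (algebraMap A B)
        (Algebra.TensorProduct.includeRight : K' →ₐ[K] L ⊗[K] K').toRingHom hcomp hyint
    obtain ⟨b, hb⟩ := hc _ htint
    -- compare coordinates
    have hcoord : ∀ i : s, algebraMap B L (algebraMap A B (πA ^ c)) *
        algebraMap K L (bas.repr y i) = algebraMap B L (b i) := by
      intro i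
      have hb' : algebraMap B L (algebraMap A B πA ^ c) • ((1 : L) ⊗ₜ[K] y) =
          ∑ j, algebraMap B L (b j) • basT j := by
        rw [algebraMap_smul, hb]
        exact Finset.sum_congr rfl fun j _ => (algebraMap_smul L _ _).symm
      have h1 := congrArg (fun t => basT.repr t i) hb'
      simp only [map_smul, map_sum, Finsupp.smul_apply, Finsupp.coe_finsetSum, Finset.sum_apply,
        Module.Basis.repr_self, smul_eq_mul] at h1
      rw [Finset.sum_eq_single i (fun j _ hji => by
        rw [Finsupp.single_eq_of_ne (Ne.symm hji), mul_zero])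
        (fun h => absurd (Finset.mem_univ i) h),
        Finsupp.single_eq_same, mul_one] at h1
      have h2 : basT.repr ((1 : L) ⊗ₜ[K] y) i = algebraMap K L (bas.repr y i) := by
        show (Algebra.TensorProduct.basis L bas).repr ((1 : L) ⊗ₜ[K] y) i = _
        rw [Algebra.TensorProduct.basis_repr_tmul, one_smul, Finsupp.mapRange_apply]
      rw [h2] at h1
      rw [map_pow]
      exact h1
    have hA : ∀ i : s, ∃ a : A, algebraMap A K a = algebraMap A K (πA ^ c) * bas.repr y i := by
      intro i
      apply Groth.Agent.Lib.Seat10.Insep.exists_of_algebraMap_eq (B := A) (C := B) (L := K)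
        (M := L) _ (b i)
      rw [map_mul, ← hcoord i, ← IsScalarTower.algebraMap_apply A K L,
        IsScalarTower.algebraMap_apply A B L]
    choose a ha using hA
    have hy' : y = ∑ i, a i • ((algebraMap A K (πA ^ c))⁻¹ • bas i) := by
      conv_lhs => rw [← bas.sum_repr y]
      refine Finset.sum_congr rfl fun i _ => ?_
      rw [← algebraMap_smul K (a i), smul_smul, ha i, mul_comm, ← mul_assoc,
        inv_mul_cancel₀ hπK0, one_mul]
    rw [hy']
    exact Submodule.sum_mem _ fun i _ =>
      Submodule.smul_mem _ _ (Submodule.subset_span ⟨i, rfl⟩)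
  have hnoeth : IsNoetherian A (Submodule.span A
      (Set.range fun i : s => (algebraMap A K (πA ^ c))⁻¹ • bas i)) :=
    isNoetherian_span_of_finite A (Set.finite_range _)
  rw [Groth.Agent.Lib.Helper14.finite_integralClosure_iff_fg]
  exact isNoetherian_submodule.mp hnoeth _ hle

end descent

end Groth.Agent.Lib.Seat10.SepStep
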