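import Mathlib

/-!
# Reduced zero-dimensional rings are von Neumann regular (Seat 10)

`exists_mul_eq_zero_of_mem_prime`, `exists_eq_mul_sq`, `isReduced_quotient_of_krullDimLE_zero`.
-/
set_option autoImplicit false

universe u

namespace Groth.Agent.Lib.Seat10.Tower

section VNR

variable {E : Type*} [CommRing E] [IsReduced E] [Ring.KrullDimLE 0 E]

/-- In a reduced zero-dimensional ring an element of a prime is killed by an element outside it. -/
theorem exists_mul_eq_zero_of_mem_prime (q : Ideal E) [q.IsPrime] {t : E} (ht : t ∈ q) :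
    ∃ s : E, s ∉ q ∧ s * t = 0 := by
  have hq : q ∈ minimalPrimes E := Ideal.mem_minimalPrimes_of_krullDimLE_zero q
  have : Ring.KrullDimLE 0 (Localization.AtPrime q) :=
    Ring.KrullDimLE.of_isLocalization q hq _
  have hfield : IsField (Localization.AtPrime q) := Ring.KrullDimLE.isField_of_isReduced
  have hmem : algebraMap E (Localization.AtPrime q) t ∈
      IsLocalRing.maximalIdeal (Localization.AtPrime q) :=
    (IsLocalization.AtPrime.to_map_mem_maximal_iff (Localization.AtPrime q) q t).mpr ht
  rw [(IsLocalRing.isField_iff_maximalIdeal_eq).mp hfield, Ideal.mem_bot] at hmem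
  obtain ⟨s, hs⟩ := (IsLocalization.map_eq_zero_iff q.primeCompl _ t).mp hmem
  exact ⟨s, s.2, hs⟩

/-- A reduced zero-dimensional ring is von Neumann regular. -/
theorem exists_eq_mul_sq (x : E) : ∃ a : E, x = a * x ^ 2 := by
  have htop : Ideal.span {x} ⊔ (Ideal.span {x}).annihilator = ⊤ := by
    by_contra hne
    obtain ⟨m, hm, hle⟩ := Ideal.exists_le_maximal _ hne
    have hxm : x ∈ m := hle (Submodule.mem_sup_left (Ideal.mem_span_singleton_self x))
    obtain ⟨s, hs, hsx⟩ := exists_mul_eq_zero_of_mem_prime m hxm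
    apply hs
    apply hle
    apply Submodule.mem_sup_right
    rw [Submodule.mem_annihilator_span_singleton]
    exact hsx
  have h1 : (1 : E) ∈ Ideal.span {x} ⊔ (Ideal.span {x}).annihilator := htop ▸ Submodule.mem_top
  obtain ⟨y, hy, z, hz, hyz⟩ := Submodule.mem_sup.mp h1
  obtain ⟨a, rfl⟩ := Ideal.mem_span_singleton'.mp hy
  rw [Submodule.mem_annihilator_span_singleton, smul_eq_mul] at hz
  refine ⟨a, ?_⟩
  have : x = (a * x + z) * x := by rw [hyz, one_mul]
  rw [add_mul, hz, add_zero] at this
  rw [pow_two, ← mul_assoc]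
  exact this

/-- Quotients of a reduced zero-dimensional ring are reduced. -/
theorem isReduced_quotient_of_krullDimLE_zero (I : Ideal E) : IsReduced (E ⧸ I) := by
  refine ⟨fun y hy => ?_⟩
  obtain ⟨x, rfl⟩ := Ideal.Quotient.mk_surjective y
  obtain ⟨n, hn⟩ := hy
  rw [← map_pow, Ideal.Quotient.eq_zero_iff_mem] at hn
  rw [Ideal.Quotient.eq_zero_iff_mem]
  obtain ⟨a, ha⟩ := exists_eq_mul_sq x
  have key : ∀ k : ℕ, x = a ^ k * x ^ (k + 1) := by
    intro k
    induction k with
    | zero => simp
    | succ k ih =>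
      calc x = a ^ k * x ^ (k + 1) := ih
        _ = a ^ k * (x ^ k * x) := by rw [pow_succ]
        _ = a ^ k * (x ^ k * (a * x ^ 2)) := by rw [← ha]
        _ = a ^ (k + 1) * x ^ (k + 1 + 1) := by ring
  cases n with
  | zero =>
    rw [pow_zero] at hn
    rw [(Ideal.eq_top_iff_one I).mpr hn]
    exact Submodule.mem_top
  | succ n =>
    rw [key n]
    exact Ideal.mul_mem_left _ _ hn

end VNR

end Groth.Agent.Lib.Seat10.Tower
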