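import Mathlib
import Groth.Agent.Lib.Helper14GeomRed
import Groth.Agent.Lib.Seat10TowerD

/-!
# Separable extensions acquire no new `p`-th roots (Seat 10)

`pow_ne_of_isGeometricallyReduced`: `L/K` geometrically reduced of characteristic `p`, `K'/K`
finite, `a ∈ K'` not a `p`-th power in `K'`.  Then in any field `E` containing `L` and `K'`
compatibly, `a` is not a `p`-th power in the compositum `L K'`.
-/

set_option autoImplicit false

universe u

namespace Groth.Agent.Lib.Seat10.SepStep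

open TensorProduct Polynomial

variable {K L K' : Type u} [Field K] [Field L] [Field K'] [Algebra K L] [Algebra K K']
  [FiniteDimensional K K'] [Algebra.IsGeometricallyReduced K L]

theorem isReduced_tensor (K'' : Type u) [Field K''] [Algebra K K''] : IsReduced (L ⊗[K] K'') := by
  have hred' : IsReduced (K'' ⊗[K] L) :=
    Groth.Agent.Lib.Helper14.GeomRed.isReduced_tensor_of_isGeometricallyReduced (k := K) (S := L) K''
  exact isReduced_of_injective (Algebra.TensorProduct.comm K L K'')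
    (Algebra.TensorProduct.comm K L K'').injective

theorem pow_ne_of_isGeometricallyReduced (p : ℕ) (hp : p.Prime) [CharP K p] (a : K')
    (ha : ∀ b : K', b ^ p ≠ a) (E : Type u) [Field E] [Algebra L E] [Algebra K' E] [Algebra K E]
    [IsScalarTower K L E] [IsScalarTower K K' E] (z : E)
    (hz : z ∈ Algebra.adjoin L (Set.range (algebraMap K' E))) : z ^ p ≠ algebraMap K' E a := by
  intro hzp
  have : Fact p.Prime := ⟨hp⟩
  have hirr : Irreducible (X ^ p - C a : K'[X]) := X_pow_sub_C_irreducible_of_prime hp ha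
  have : Fact (Irreducible (X ^ p - C a : K'[X])) := ⟨hirr⟩
  have hf0 : (X ^ p - C a : K'[X]) ≠ 0 := hirr.ne_zero
  have hdeg : (X ^ p - C a : K'[X]).natDegree = p := natDegree_X_pow_sub_C
  -- the field `K'' = K'(a^{1/p})`
  let ρ : AdjoinRoot (X ^ p - C a : K'[X]) := AdjoinRoot.root _
  have hρ : ρ ^ p = algebraMap K' (AdjoinRoot (X ^ p - C a : K'[X])) a := by
    have h1 := AdjoinRoot.eval₂_root (X ^ p - C a : K'[X])
    rw [eval₂_sub, eval₂_pow, eval₂_X, eval₂_C, sub_eq_zero] at h1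
    exact h1
  have hred'' : IsReduced (L ⊗[K] AdjoinRoot (X ^ p - C a : K'[X])) := isReduced_tensor _
  have hred' : IsReduced (L ⊗[K] K') := isReduced_tensor _
  have hfinT : Module.Finite L (L ⊗[K] K') := inferInstance
  have hart : IsArtinianRing (L ⊗[K] K') := IsArtinianRing.of_finite L _
  -- the coordinate functional
  let pb := AdjoinRoot.powerBasis hf0
  have hdim : pb.dim = p := by rw [AdjoinRoot.powerBasis_dim, hdeg]
  have h1p : 1 < pb.dim := by rw [hdim]; exact hp.one_lt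
  have h0p : 0 < pb.dim := by omega
  let lam : AdjoinRoot (X ^ p - C a : K'[X]) →ₗ[K'] K' := pb.basis.coord ⟨1, h1p⟩
  have hlam1 : lam 1 = 0 := by
    have h2 : (1 : AdjoinRoot (X ^ p - C a : K'[X])) = pb.basis ⟨0, h0p⟩ := by
      rw [PowerBasis.coe_basis]
      simp
    rw [h2]
    show pb.basis.coord ⟨1, h1p⟩ (pb.basis ⟨0, h0p⟩) = 0
    rw [Module.Basis.coord_apply, Module.Basis.repr_self, Finsupp.single_eq_of_ne]
    intro h
    exact absurd (congrArg Fin.val h) (by simp)
  have hlamρ : lam ρ = 1 := by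
    have h2 : ρ = pb.basis ⟨1, h1p⟩ := by
      rw [PowerBasis.coe_basis]
      simp [pb, ρ]
    rw [h2]
    show pb.basis.coord ⟨1, h1p⟩ (pb.basis ⟨1, h1p⟩) = 1
    rw [Module.Basis.coord_apply, Module.Basis.repr_self, Finsupp.single_eq_same]
  let ι : L ⊗[K] K' →ₐ[L] L ⊗[K] AdjoinRoot (X ^ p - C a : K'[X]) :=
    Algebra.TensorProduct.map (AlgHom.id L L)
      (IsScalarTower.toAlgHom K K' (AdjoinRoot (X ^ p - C a : K'[X])))
  let Lam : L ⊗[K] AdjoinRoot (X ^ p - C a : K'[X]) →ₗ[K] L ⊗[K] K' :=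
    TensorProduct.map LinearMap.id (lam.restrictScalars K)
  have hLam : ∀ (t' : L ⊗[K] K') (t'' : L ⊗[K] AdjoinRoot (X ^ p - C a : K'[X])),
      Lam (ι t' * t'') = t' * Lam t'' := by
    intro t' t''
    induction t' using TensorProduct.induction_on with
    | zero => simp
    | add x y hx hy => rw [map_add, add_mul, map_add, hx, hy, add_mul]
    | tmul l k =>
      induction t'' using TensorProduct.induction_on with
      | zero => simp
      | add x y hx hy => rw [mul_add, map_add, hx, hy, map_add, mul_add]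
      | tmul l' k'' =>
        show Lam (Algebra.TensorProduct.map _ _ (l ⊗ₜ[K] k) * l' ⊗ₜ[K] k'') =
          l ⊗ₜ[K] k * Lam (l' ⊗ₜ[K] k'')
        rw [Algebra.TensorProduct.map_tmul, Algebra.TensorProduct.tmul_mul_tmul]
        show TensorProduct.map _ _ _ = _ * TensorProduct.map _ _ _
        rw [TensorProduct.map_tmul, TensorProduct.map_tmul,
          Algebra.TensorProduct.tmul_mul_tmul]
        simp only [AlgHom.coe_id, id_eq, LinearMap.id_coe, IsScalarTower.coe_toAlgHom',
          LinearMap.coe_restrictScalars]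
        rw [← Algebra.smul_def, map_smul, smul_eq_mul]
  -- the product map to `E`
  let ψ : L ⊗[K] K' →ₐ[L] E :=
    Algebra.TensorProduct.productLeftAlgHom (Algebra.ofId L E) (IsScalarTower.toAlgHom K K' E)
  have hψ1 : ∀ k : K', ψ ((1 : L) ⊗ₜ[K] k) = algebraMap K' E k := by
    intro k
    show Algebra.TensorProduct.lift _ _ _ _ = _
    rw [Algebra.TensorProduct.lift_tmul, map_one, one_mul]
    rfl
  have hrange : Algebra.adjoin L (Set.range (algebraMap K' E)) ≤ ψ.range := by
    apply Algebra.adjoin_le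
    rintro _ ⟨k, rfl⟩
    exact ⟨(1 : L) ⊗ₜ[K] k, hψ1 k⟩
  obtain ⟨t, ht⟩ := hrange hz
  have ht' : ψ t = z := ht
  have hq : (RingHom.ker (ψ : L ⊗[K] K' →+* E)).IsPrime := RingHom.ker_isPrime _
  have hu : t ^ p - (1 : L) ⊗ₜ[K] a ∈ RingHom.ker (ψ : L ⊗[K] K' →+* E) := by
    rw [RingHom.mem_ker]
    show ψ (t ^ p - (1 : L) ⊗ₜ[K] a) = 0
    rw [map_sub, map_pow, ht', hψ1, hzp, sub_self]
  obtain ⟨ε, hε, hεu⟩ := Groth.Agent.Lib.Seat10.Tower.exists_mul_eq_zero_of_mem_prime _ hu
  -- characteristic `p`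
  have hinjL : Function.Injective (algebraMap K L) := (algebraMap K L).injective
  have : CharP L p := charP_of_injective_algebraMap hinjL p
  have hnt : Nontrivial (L ⊗[K] AdjoinRoot (X ^ p - C a : K'[X])) := inferInstance
  have : CharP (L ⊗[K] AdjoinRoot (X ^ p - C a : K'[X])) p :=
    charP_of_injective_algebraMap (algebraMap L _).injective p
  have hw : (ι t - (1 : L) ⊗ₜ[K] ρ) ^ p = ι (t ^ p - (1 : L) ⊗ₜ[K] a) := by
    rw [sub_pow_char, map_sub, map_pow, Algebra.TensorProduct.tmul_pow, one_pow, hρ]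
    rfl
  have hzero : ι ε * (ι t - (1 : L) ⊗ₜ[K] ρ) = 0 := by
    apply IsNilpotent.eq_zero
    refine ⟨p, ?_⟩
    have hp1 : ι ε ^ p = ι ε ^ (p - 1) * ι ε := by
      rw [← pow_succ, Nat.sub_add_cancel hp.pos]
    rw [mul_pow, hw, hp1, mul_assoc, ← map_mul, hεu, map_zero, mul_zero]
  have h1 : Lam (ι (ε * t) * 1) = Lam (ι ε * (1 : L) ⊗ₜ[K] ρ) := by
    rw [mul_one, map_mul]
    rw [mul_sub, sub_eq_zero] at hzero
    rw [hzero]
  rw [hLam, hLam] at h1
  have h2 : Lam 1 = 0 := by
    show TensorProduct.map _ _ ((1 : L) ⊗ₜ[K] (1 : AdjoinRoot (X ^ p - C a : K'[X]))) = 0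
    rw [TensorProduct.map_tmul]
    show _ ⊗ₜ[K] lam 1 = 0
    rw [hlam1, TensorProduct.tmul_zero]
  have h3 : Lam ((1 : L) ⊗ₜ[K] ρ) = 1 := by
    show TensorProduct.map _ _ ((1 : L) ⊗ₜ[K] ρ) = 1
    rw [TensorProduct.map_tmul]
    show _ ⊗ₜ[K] lam ρ = 1
    rw [hlamρ]
    rfl
  rw [h2, h3, mul_zero, mul_one] at h1
  rw [← h1] at hε
  exact hε (zero_mem _)

end Groth.Agent.Lib.Seat10.SepStep
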