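import Mathlib
import Groth.Agent.Lib.Helper24DvrEF
import Groth.Agent.Lib.Seat10TowerU
import Groth.Agent.Lib.Seat10ValDomC
import Groth.Agent.Lib.Seat10SepStepB

/-!
# Comparing two DVR extensions of a common DVR inside a bigger DVR (Seat 10)

* `approx_consequences`: if every element of `R₂` is congruent modulo `π₂ m_S` to an element of
  `R₃` then `e(S/R₃) ≤ e(S/R₂)` and the residue field of `R₂` maps into that of `R₃`
  compatibly with the maps to the residue field of `S`.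
* `cmp'`: `R₁ → R₂ → S`, `R₁ → R₃ → S`, with `e f = n` for `R₂/R₁`, `[Q₃ : Q₁] ≤ [Q₂ : Q₁]` and
  approximation of `R₂` by `R₃`: the residue fields of `R₂` and `R₃` have the same image in that
  of `S`.
* `associated_of_ramificationIdx'_eq`, `exists_sub_mem_of_range_le`: unpacking the conclusions of
  `cmp`.
-/

set_option autoImplicit false

universe u

namespace Groth.Agent.Lib.Seat10.SepStep

open IsLocalRing

section approx

variable {R₂ R₃ S : Type u}
    [CommRing R₂] [IsDomain R₂] [IsDiscreteValuationRing R₂]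
    [CommRing R₃] [IsDomain R₃] [IsDiscreteValuationRing R₃]
    [CommRing S] [IsDomain S] [IsDiscreteValuationRing S]
    [Algebra R₂ S] [Algebra R₃ S]
    [IsLocalHom (algebraMap R₂ S)] [IsLocalHom (algebraMap R₃ S)]

theorem approx_consequences (hinj₂ : Function.Injective (algebraMap R₂ S))
    (hinj₃ : Function.Injective (algebraMap R₃ S))
    (π₂ : R₂) (hπ₂m : π₂ ∈ maximalIdeal R₂)
    (happrox : ∀ x : R₂, ∃ x₃ : R₃, ∃ s ∈ maximalIdeal S,
      algebraMap R₃ S x₃ - algebraMap R₂ S x = algebraMap R₂ S π₂ * s) :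
    Ideal.ramificationIdx' (maximalIdeal R₃) (maximalIdeal S) ≤
        Ideal.ramificationIdx' (maximalIdeal R₂) (maximalIdeal S) ∧
      ∃ τ : ResidueField R₂ →+* ResidueField R₃,
        ∀ x, algebraMap (ResidueField R₃) (ResidueField S) (τ x) =
          algebraMap (ResidueField R₂) (ResidueField S) x := by
  obtain ⟨t₂, ht₂⟩ := IsDiscreteValuationRing.exists_irreducible R₂
  obtain ⟨t₃, ht₃⟩ := IsDiscreteValuationRing.exists_irreducible R₃
  obtain ⟨ϖ, hϖ⟩ := IsDiscreteValuationRing.exists_irreducible S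
  have ht₂0 : algebraMap R₂ S t₂ ≠ 0 := fun h => ht₂.ne_zero (hinj₂ (h.trans (map_zero _).symm))
  have ht₃0 : algebraMap R₃ S t₃ ≠ 0 := fun h => ht₃.ne_zero (hinj₃ (h.trans (map_zero _).symm))
  obtain ⟨e₂, u₂, hu₂⟩ := IsDiscreteValuationRing.eq_unit_mul_pow_irreducible ht₂0 hϖ
  obtain ⟨e₃, u₃, hu₃⟩ := IsDiscreteValuationRing.eq_unit_mul_pow_irreducible ht₃0 hϖ
  have hram₂ : Ideal.ramificationIdx' (maximalIdeal R₂) (maximalIdeal S) = e₂ :=
    Groth.Agent.Lib.Seat10.Tower.ramificationIdx'_eq_of_eq_unit_mul_pow ht₂.maximalIdeal_eq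
      hϖ.maximalIdeal_eq hϖ.ne_zero hϖ.not_isUnit u₂ e₂ hu₂
  have hram₃ : Ideal.ramificationIdx' (maximalIdeal R₃) (maximalIdeal S) = e₃ :=
    Groth.Agent.Lib.Seat10.Tower.ramificationIdx'_eq_of_eq_unit_mul_pow ht₃.maximalIdeal_eq
      hϖ.maximalIdeal_eq hϖ.ne_zero hϖ.not_isUnit u₃ e₃ hu₃
  rw [hram₂, hram₃]
  have he₂pos : e₂ ≠ 0 := by
    rintro rfl
    rw [pow_zero, mul_one] at hu₂
    exact ht₂.not_isUnit (isUnit_of_map_unit (algebraMap R₂ S) t₂ (hu₂ ▸ u₂.isUnit))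
  constructor
  · obtain ⟨x₃, s, hs, hx₃⟩ := happrox t₂
    rw [ht₂.maximalIdeal_eq, Ideal.mem_span_singleton] at hπ₂m
    obtain ⟨r, hr⟩ := hπ₂m
    have h1 : algebraMap R₃ S x₃ = algebraMap R₂ S t₂ * (1 + algebraMap R₂ S r * s) := by
      rw [sub_eq_iff_eq_add] at hx₃
      rw [hx₃, hr, map_mul]; ring
    have hunit : IsUnit (1 + algebraMap R₂ S r * s) := by
      by_contra hnu
      have h2 : 1 + algebraMap R₂ S r * s ∈ maximalIdeal S := (mem_maximalIdeal _).mpr hnu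
      have h3 : (1 : S) ∈ maximalIdeal S := by
        have := Ideal.sub_mem _ h2 (Ideal.mul_mem_left _ (algebraMap R₂ S r) hs)
        rwa [add_sub_cancel_right] at this
      exact (Ideal.ne_top_iff_one _).mp (IsLocalRing.maximalIdeal.isMaximal S).ne_top h3
    obtain ⟨v, hv⟩ := hunit
    have hx₃0 : x₃ ≠ 0 := by
      rintro rfl
      rw [map_zero] at h1
      rcases mul_eq_zero.mp h1.symm with h | h
      · exact ht₂0 h
      · exact v.ne_zero (hv.trans h)
    obtain ⟨k, w, hw⟩ := IsDiscreteValuationRing.eq_unit_mul_pow_irreducible hx₃0 ht₃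
    have hwS : IsUnit (algebraMap R₃ S (w : R₃)) := w.isUnit.map _
    have hrel : ((u₂ * v : Sˣ) : S) * ϖ ^ e₂ = ((hwS.unit * u₃ ^ k : Sˣ) : S) * ϖ ^ (e₃ * k) := by
      have h5 : algebraMap R₃ S x₃ = algebraMap R₃ S (w : R₃) * (algebraMap R₃ S t₃) ^ k := by
        rw [hw, map_mul, map_pow]
      rw [Units.val_mul, Units.val_mul, Units.val_pow_eq_pow_val, IsUnit.unit_spec, hv, pow_mul]
      calc (u₂ : S) * (1 + algebraMap R₂ S r * s) * ϖ ^ e₂
          = algebraMap R₂ S t₂ * (1 + algebraMap R₂ S r * s) := by rw [hu₂]; ring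
        _ = algebraMap R₃ S x₃ := h1.symm
        _ = algebraMap R₃ S (w : R₃) * (algebraMap R₃ S t₃) ^ k := h5
        _ = algebraMap R₃ S (w : R₃) * (u₃ : S) ^ k * (ϖ ^ e₃) ^ k := by rw [hu₃, mul_pow]; ring
    have hek : e₂ = e₃ * k := IsDiscreteValuationRing.unit_mul_pow_congr_pow hϖ hϖ _ _ _ _ hrel
    have hk : k ≠ 0 := by
      rintro rfl
      rw [mul_zero] at hek
      exact he₂pos hek
    calc e₃ = e₃ * 1 := (mul_one _).symm
      _ ≤ e₃ * k := Nat.mul_le_mul_left _ (Nat.one_le_iff_ne_zero.mpr hk)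
      _ = e₂ := hek.symm
  · have hex : ∀ x : ResidueField R₂, ∃ y : ResidueField R₃,
        algebraMap (ResidueField R₃) (ResidueField S) y =
          algebraMap (ResidueField R₂) (ResidueField S) x := by
      intro x
      obtain ⟨x, rfl⟩ := residue_surjective x
      obtain ⟨x₃, s, hs, hx₃⟩ := happrox x
      refine ⟨residue R₃ x₃, ?_⟩
      rw [ResidueField.algebraMap_residue, ResidueField.algebraMap_residue, ← sub_eq_zero,
        ← map_sub, hx₃, residue_eq_zero_iff]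
      exact Ideal.mul_mem_left _ _ hs
    choose τf hτf using hex
    have hinjκ : Function.Injective (algebraMap (ResidueField R₃) (ResidueField S)) :=
      (algebraMap (ResidueField R₃) (ResidueField S)).injective
    exact ⟨{ toFun := τf
             map_one' := hinjκ (by rw [hτf, map_one, map_one])
             map_mul' := fun x y => hinjκ (by rw [hτf, map_mul, map_mul, hτf, hτf])
             map_zero' := hinjκ (by rw [hτf, map_zero, map_zero])
             map_add' := fun x y => hinjκ (by rw [hτf, map_add, map_add, hτf, hτf]) }, hτf⟩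

/-- equal ramification indices: uniformizers of `R₂` and `R₃` are associated in `S` -/
theorem associated_of_ramificationIdx'_eq (hinj₂ : Function.Injective (algebraMap R₂ S))
    (hinj₃ : Function.Injective (algebraMap R₃ S))
    (he : Ideal.ramificationIdx' (maximalIdeal R₂) (maximalIdeal S) =
      Ideal.ramificationIdx' (maximalIdeal R₃) (maximalIdeal S))
    {t₂ : R₂} (ht₂ : Irreducible t₂) {t₃ : R₃} (ht₃ : Irreducible t₃) :
    Associated (algebraMap R₂ S t₂) (algebraMap R₃ S t₃) := by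
  obtain ⟨ϖ, hϖ⟩ := IsDiscreteValuationRing.exists_irreducible S
  have ht₂0 : algebraMap R₂ S t₂ ≠ 0 := fun h => ht₂.ne_zero (hinj₂ (h.trans (map_zero _).symm))
  have ht₃0 : algebraMap R₃ S t₃ ≠ 0 := fun h => ht₃.ne_zero (hinj₃ (h.trans (map_zero _).symm))
  obtain ⟨e₂, u₂, hu₂⟩ := IsDiscreteValuationRing.eq_unit_mul_pow_irreducible ht₂0 hϖ
  obtain ⟨e₃, u₃, hu₃⟩ := IsDiscreteValuationRing.eq_unit_mul_pow_irreducible ht₃0 hϖ
  have hram₂ : Ideal.ramificationIdx' (maximalIdeal R₂) (maximalIdeal S) = e₂ :=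
    Groth.Agent.Lib.Seat10.Tower.ramificationIdx'_eq_of_eq_unit_mul_pow ht₂.maximalIdeal_eq
      hϖ.maximalIdeal_eq hϖ.ne_zero hϖ.not_isUnit u₂ e₂ hu₂
  have hram₃ : Ideal.ramificationIdx' (maximalIdeal R₃) (maximalIdeal S) = e₃ :=
    Groth.Agent.Lib.Seat10.Tower.ramificationIdx'_eq_of_eq_unit_mul_pow ht₃.maximalIdeal_eq
      hϖ.maximalIdeal_eq hϖ.ne_zero hϖ.not_isUnit u₃ e₃ hu₃
  rw [hram₂, hram₃] at he
  subst he
  refine ⟨u₃ * u₂⁻¹, ?_⟩
  rw [hu₂, hu₃, Units.val_mul]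
  calc (u₂ : S) * ϖ ^ e₂ * ((u₃ : S) * ((u₂⁻¹ : Sˣ) : S))
      = ((u₂ : S) * ((u₂⁻¹ : Sˣ) : S)) * ((u₃ : S) * ϖ ^ e₂) := by ring
    _ = (u₃ : S) * ϖ ^ e₂ := by rw [Units.mul_inv, one_mul]

omit [IsDomain R₂] [IsDiscreteValuationRing R₂] [IsDomain R₃] [IsDiscreteValuationRing R₃]
  [IsDomain S] [IsDiscreteValuationRing S] in
theorem exists_sub_mem_of_range_le [IsLocalRing R₂] [IsLocalRing R₃] [IsLocalRing S]
    (h : (algebraMap (ResidueField R₃) (ResidueField S)).range ≤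
      (algebraMap (ResidueField R₂) (ResidueField S)).range) (x₃ : R₃) :
    ∃ x₂ : R₂, algebraMap R₃ S x₃ - algebraMap R₂ S x₂ ∈ maximalIdeal S := by
  obtain ⟨y, hy⟩ := h ⟨residue R₃ x₃, rfl⟩
  obtain ⟨x₂, rfl⟩ := residue_surjective y
  refine ⟨x₂, ?_⟩
  rw [ResidueField.algebraMap_residue, ResidueField.algebraMap_residue] at hy
  rw [← residue_eq_zero_iff, map_sub, hy, sub_self]

end approx

theorem cmp' {R₁ R₂ R₃ S Q₁ Q₂ Q₃ : Type u}
    [CommRing R₁] [IsDomain R₁] [IsDiscreteValuationRing R₁]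
    [CommRing R₂] [IsDomain R₂] [IsDiscreteValuationRing R₂]
    [CommRing R₃] [IsDomain R₃] [IsDiscreteValuationRing R₃]
    [CommRing S] [IsDomain S] [IsDiscreteValuationRing S]
    [Algebra R₁ R₂] [Algebra R₁ R₃] [Algebra R₂ S] [Algebra R₃ S] [Algebra R₁ S]
    [IsScalarTower R₁ R₂ S] [IsScalarTower R₁ R₃ S]
    (hinj₁₂ : Function.Injective (algebraMap R₁ R₂))
    (hinj₁₃ : Function.Injective (algebraMap R₁ R₃))
    (hinj₂ : Function.Injective (algebraMap R₂ S)) (hinj₃ : Function.Injective (algebraMap R₃ S))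
    [IsLocalHom (algebraMap R₁ R₂)] [IsLocalHom (algebraMap R₁ R₃)]
    [IsLocalHom (algebraMap R₂ S)] [IsLocalHom (algebraMap R₃ S)] [IsLocalHom (algebraMap R₁ S)]
    [Field Q₁] [Field Q₂] [Field Q₃] [Algebra R₁ Q₁] [IsFractionRing R₁ Q₁] [Algebra R₂ Q₂]
    [IsFractionRing R₂ Q₂] [Algebra R₃ Q₃] [IsFractionRing R₃ Q₃]
    [Algebra Q₁ Q₂] [Algebra Q₁ Q₃] [Algebra R₁ Q₂] [Algebra R₁ Q₃]
    [IsScalarTower R₁ Q₁ Q₂] [IsScalarTower R₁ R₂ Q₂] [IsScalarTower R₁ Q₁ Q₃]
    [IsScalarTower R₁ R₃ Q₃] [FiniteDimensional Q₁ Q₂] [FiniteDimensional Q₁ Q₃]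
    (hEF : Ideal.ramificationIdx' (maximalIdeal R₁) (maximalIdeal R₂) *
      Module.finrank (ResidueField R₁) (ResidueField R₂) = Module.finrank Q₁ Q₂)
    (hdeg : Module.finrank Q₁ Q₃ ≤ Module.finrank Q₁ Q₂)
    (π₂ : R₂) (hπ₂m : π₂ ∈ maximalIdeal R₂)
    (happrox : ∀ x : R₂, ∃ x₃ : R₃, ∃ s ∈ maximalIdeal S,
      algebraMap R₃ S x₃ - algebraMap R₂ S x = algebraMap R₂ S π₂ * s) :
    (algebraMap (ResidueField R₃) (ResidueField S)).range ≤
      (algebraMap (ResidueField R₂) (ResidueField S)).range := by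
  obtain ⟨hfin₂, -⟩ := Groth.Agent.Lib.Helper24DvrEF.s7132 R₁ R₂ Q₁ Q₂ hinj₁₂
  obtain ⟨hfin₃, hle₃⟩ := Groth.Agent.Lib.Helper24DvrEF.s7132 R₁ R₃ Q₁ Q₃ hinj₁₃
  obtain ⟨he₃₂, τ, hτ⟩ := approx_consequences hinj₂ hinj₃ π₂ hπ₂m happrox
  have htow₂ := Groth.Agent.Lib.Seat10.ValDom.ramificationIdx'_tower (A := R₁) (V := R₂) (W := S)
    hinj₁₂ hinj₂
  have htow₃ := Groth.Agent.Lib.Seat10.ValDom.ramificationIdx'_tower (A := R₁) (V := R₃) (W := S)
    hinj₁₃ hinj₃
  set e₂' := Ideal.ramificationIdx' (maximalIdeal R₁) (maximalIdeal R₂) with he₂'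
  set e₃' := Ideal.ramificationIdx' (maximalIdeal R₁) (maximalIdeal R₃) with he₃'
  set e₂ := Ideal.ramificationIdx' (maximalIdeal R₂) (maximalIdeal S) with he₂
  set e₃ := Ideal.ramificationIdx' (maximalIdeal R₃) (maximalIdeal S) with he₃
  -- residue field tower
  have hinjκ : Function.Injective (algebraMap (ResidueField R₃) (ResidueField S)) :=
    (algebraMap (ResidueField R₃) (ResidueField S)).injective
  letI : Algebra (ResidueField R₂) (ResidueField R₃) := τ.toAlgebra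
  have htower : IsScalarTower (ResidueField R₂) (ResidueField R₃) (ResidueField S) :=
    IsScalarTower.of_algebraMap_eq (fun x => (hτ x).symm)
  have htower1 : IsScalarTower (ResidueField R₁) (ResidueField R₂) (ResidueField R₃) := by
    refine IsScalarTower.of_algebraMap_eq fun x => hinjκ ?_
    obtain ⟨x, rfl⟩ := residue_surjective x
    show _ = algebraMap (ResidueField R₃) (ResidueField S) (τ _)
    rw [hτ, ResidueField.algebraMap_residue, ResidueField.algebraMap_residue,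
      ResidueField.algebraMap_residue, ResidueField.algebraMap_residue,
      ← IsScalarTower.algebraMap_apply, ← IsScalarTower.algebraMap_apply]
  have hmul := Module.finrank_mul_finrank (ResidueField R₁) (ResidueField R₂) (ResidueField R₃)
  have hfin₂₃ : Module.Finite (ResidueField R₂) (ResidueField R₃) :=
    Module.Finite.of_restrictScalars_finite (ResidueField R₁) _ _
  set f₂' := Module.finrank (ResidueField R₁) (ResidueField R₂) with hf₂'
  set g := Module.finrank (ResidueField R₂) (ResidueField R₃) with hg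
  have hf₂'pos : 0 < f₂' := Module.finrank_pos
  have hgpos : 0 < g := Module.finrank_pos
  rw [← hmul] at hle₃
  -- positivity of ramification indices
  have hpos : ∀ n : ℕ, n * e₂ = e₃' * e₃ → 0 < e₃' * e₃ → 0 < n := by
    intro n h1 h2
    rcases Nat.eq_zero_or_pos n with h | h
    · rw [h, zero_mul] at h1; omega
    · exact h
  have hEpos : 0 < e₂' * f₂' := by
    rw [hEF]; exact Module.finrank_pos
  have he₂'pos : 0 < e₂' := Nat.pos_of_mul_pos_right hEpos |> fun _ => by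
    rcases Nat.eq_zero_or_pos e₂' with h | h
    · rw [h, zero_mul] at hEpos; omega
    · exact h
  -- `e₂' e₂ = e₃' e₃`, `e₃ ≤ e₂`
  have htot : e₂' * e₂ = e₃' * e₃ := by rw [← htow₂, ← htow₃]
  -- arithmetic
  have hchain : e₃' * (f₂' * g) ≤ e₂' * f₂' := by
    calc e₃' * (f₂' * g) ≤ Module.finrank Q₁ Q₃ := hle₃
      _ ≤ Module.finrank Q₁ Q₂ := hdeg
      _ = e₂' * f₂' := hEF.symm
  have hg1 : g = 1 := by
    by_contra hne
    have hg2 : 2 ≤ g := by omega
    -- `e₃' ≥ e₂'` when `e₃ > 0`; handle via multiplication by `e₃`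
    have h1 : e₃' * e₃ * (f₂' * g) ≤ e₂' * e₃ * f₂' := by
      calc e₃' * e₃ * (f₂' * g) = e₃ * (e₃' * (f₂' * g)) := by ring
        _ ≤ e₃ * (e₂' * f₂') := Nat.mul_le_mul_left _ hchain
        _ = e₂' * e₃ * f₂' := by ring
    have h2 : e₂' * e₃ * f₂' ≤ e₂' * e₂ * f₂' :=
      Nat.mul_le_mul_right _ (Nat.mul_le_mul_left _ he₃₂)
    rw [← htot] at h1
    have h3 : e₂' * e₂ * (f₂' * g) ≤ e₂' * e₂ * f₂' := h1.trans h2
    have he₂pos : 0 < e₂ := by
      rcases Nat.eq_zero_or_pos e₂ with h | h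
      · exfalso
        -- `e₂ = 0` impossible: `π₁` maps to a nonzero element
        obtain ⟨t₂, ht₂⟩ := IsDiscreteValuationRing.exists_irreducible R₂
        obtain ⟨ϖ, hϖ⟩ := IsDiscreteValuationRing.exists_irreducible S
        have ht₂0 : algebraMap R₂ S t₂ ≠ 0 :=
          fun h => ht₂.ne_zero (hinj₂ (h.trans (map_zero _).symm))
        obtain ⟨k, u, hu⟩ := IsDiscreteValuationRing.eq_unit_mul_pow_irreducible ht₂0 hϖ
        have hram : Ideal.ramificationIdx' (maximalIdeal R₂) (maximalIdeal S) = k :=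
          Groth.Agent.Lib.Seat10.Tower.ramificationIdx'_eq_of_eq_unit_mul_pow ht₂.maximalIdeal_eq
            hϖ.maximalIdeal_eq hϖ.ne_zero hϖ.not_isUnit u k hu
        rw [← he₂, h] at hram
        rw [← hram, pow_zero, mul_one] at hu
        exact ht₂.not_isUnit (isUnit_of_map_unit (algebraMap R₂ S) t₂ (hu ▸ u.isUnit))
      · exact h
    have h4 : f₂' * g ≤ f₂' :=
      Nat.le_of_mul_le_mul_left h3 (Nat.mul_pos he₂'pos he₂pos)
    have h5 : f₂' * 2 ≤ f₂' * g := Nat.mul_le_mul_left _ hg2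
    omega
  have hsurj : Function.Surjective τ := by
    have hbt : (⊥ : Subalgebra (ResidueField R₂) (ResidueField R₃)) = ⊤ :=
      Subalgebra.bot_eq_top_of_finrank_eq_one hg1
    intro y
    have hy : y ∈ (⊥ : Subalgebra (ResidueField R₂) (ResidueField R₃)) := by rw [hbt]; trivial
    obtain ⟨x, hx⟩ := Algebra.mem_bot.mp hy
    exact ⟨x, hx⟩
  rintro z ⟨y, rfl⟩
  obtain ⟨x, rfl⟩ := hsurj y
  exact ⟨x, (hτ x).symm⟩

end Groth.Agent.Lib.Seat10.SepStep
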