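import Mathlib
import Groth.Agent.Lib.Seat36GeomRedTrans
import Groth.Agent.Lib.Seat10TowerC

/-!
# Transfer of geometric reducedness between isomorphic pairs of fields (Seat 10)

`isGeometricallyReduced_transfer`: towers `k₂ → ℓ₂ → Ω` and `k₃ → ℓ₃ → Ω` of fields with the same
images of `k₂`, `k₃` in `Ω` and the image of `ℓ₃` contained in that of `ℓ₂`; if `ℓ₂/k₂` is
geometrically reduced then so is `ℓ₃/k₃`.
-/

set_option autoImplicit false

universe u

namespace Groth.Agent.Lib.Seat10.SepStep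

open TensorProduct

theorem isGeometricallyReduced_self (k : Type u) [Field k] : Algebra.IsGeometricallyReduced k k := by
  rw [Algebra.isGeometricallyReduced_field_iff]
  exact isReduced_of_injective
    (Algebra.TensorProduct.rid k (AlgebraicClosure k) (AlgebraicClosure k))
    (Algebra.TensorProduct.rid k (AlgebraicClosure k) (AlgebraicClosure k)).injective

theorem isGeometricallyReduced_comp_bijective {k k' ℓ : Type u} [Field k] [Field k'] [Field ℓ]
    (τ : k →+* k') (hτ : Function.Bijective τ) (φ : k' →+* ℓ)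
    (h : @Algebra.IsGeometricallyReduced k' ℓ _ _ φ.toAlgebra) :
    @Algebra.IsGeometricallyReduced k ℓ _ _ (φ.comp τ).toAlgebra := by
  letI : Algebra k k' := τ.toAlgebra
  letI : Algebra k' ℓ := φ.toAlgebra
  letI : Algebra k ℓ := (φ.comp τ).toAlgebra
  have : IsScalarTower k k' ℓ := IsScalarTower.of_algebraMap_eq fun _ => rfl
  have hself : Algebra.IsGeometricallyReduced k k := isGeometricallyReduced_self k
  let e : k ≃+* k' := RingEquiv.ofBijective τ hτ
  let f : k' →ₐ[k] k :=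
    { e.symm.toRingHom with
      commutes' := fun y => by
        show e.symm (τ y) = y
        exact e.symm_apply_apply y }
  have hkk' : Algebra.IsGeometricallyReduced k k' :=
    Algebra.IsGeometricallyReduced.of_injective f e.symm.injective
  have : Algebra.IsGeometricallyReduced k' ℓ := h
  exact Groth.Agent.Lib.Seat36.GeomRedTrans.isGeometricallyReduced_trans k k' ℓ

theorem isGeometricallyReduced_transfer {k₂ k₃ ℓ₂ ℓ₃ Ω : Type u} [Field k₂] [Field k₃] [Field ℓ₂]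
    [Field ℓ₃] [Field Ω] (φ₂ : k₂ →+* ℓ₂) (φ₃ : k₃ →+* ℓ₃) (ψ₂ : ℓ₂ →+* Ω) (ψ₃ : ℓ₃ →+* Ω)
    (hk : (ψ₂.comp φ₂).range = (ψ₃.comp φ₃).range) (hℓ : ψ₃.range ≤ ψ₂.range)
    (h : @Algebra.IsGeometricallyReduced k₂ ℓ₂ _ _ φ₂.toAlgebra) :
    @Algebra.IsGeometricallyReduced k₃ ℓ₃ _ _ φ₃.toAlgebra := by
  have hψ₂ : Function.Injective ψ₂ := ψ₂.injective
  have hψφ₂ : Function.Injective (ψ₂.comp φ₂) := (ψ₂.comp φ₂).injective
  -- `τℓ : ℓ₃ → ℓ₂`
  have hexℓ : ∀ y : ℓ₃, ∃ x : ℓ₂, ψ₂ x = ψ₃ y := fun y => hℓ ⟨y, rfl⟩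
  choose τℓf hτℓf using hexℓ
  let τℓ : ℓ₃ →+* ℓ₂ :=
    { toFun := τℓf
      map_one' := hψ₂ (by rw [hτℓf, map_one, map_one])
      map_mul' := fun x y => hψ₂ (by rw [hτℓf, map_mul, map_mul, hτℓf, hτℓf])
      map_zero' := hψ₂ (by rw [hτℓf, map_zero, map_zero])
      map_add' := fun x y => hψ₂ (by rw [hτℓf, map_add, map_add, hτℓf, hτℓf]) }
  have hτℓ : ∀ y, ψ₂ (τℓ y) = ψ₃ y := hτℓf
  -- `τk : k₃ → k₂`
  have hexk : ∀ y : k₃, ∃ x : k₂, (ψ₂.comp φ₂) x = (ψ₃.comp φ₃) y := by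
    intro y
    have : (ψ₃.comp φ₃) y ∈ (ψ₂.comp φ₂).range := by rw [hk]; exact ⟨y, rfl⟩
    exact this
  choose τkf hτkf using hexk
  let τk : k₃ →+* k₂ :=
    { toFun := τkf
      map_one' := hψφ₂ (by rw [hτkf, map_one, map_one])
      map_mul' := fun x y => hψφ₂ (by rw [hτkf, map_mul, map_mul, hτkf, hτkf])
      map_zero' := hψφ₂ (by rw [hτkf, map_zero, map_zero])
      map_add' := fun x y => hψφ₂ (by rw [hτkf, map_add, map_add, hτkf, hτkf]) }
  have hτk : ∀ y, (ψ₂.comp φ₂) (τk y) = (ψ₃.comp φ₃) y := hτkf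
  have hτkbij : Function.Bijective τk := by
    refine ⟨τk.injective, fun x => ?_⟩
    have : (ψ₂.comp φ₂) x ∈ (ψ₃.comp φ₃).range := by rw [← hk]; exact ⟨x, rfl⟩
    obtain ⟨y, hy⟩ := this
    exact ⟨y, hψφ₂ (by rw [hτk, hy])⟩
  have hcompat : φ₂.comp τk = τℓ.comp φ₃ := by
    ext y
    apply hψ₂
    have h1 := hτk y
    simp only [RingHom.comp_apply] at h1 ⊢
    rw [h1, hτℓ]
  apply Groth.Agent.Lib.Seat10.Tower.isGeometricallyReduced_of_comp φ₃ τℓ
  rw [← hcompat]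
  exact isGeometricallyReduced_comp_bijective τk hτkbij φ₂ h

end Groth.Agent.Lib.Seat10.SepStep
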