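import Mathlib

/-!
# The approximation estimate (Seat 10)

`approx_core`: in a field `E` with a valuation subring `𝒲`, let `β - α = π^(c₀+2) γ'` with
`π` in the maximal ideal and `α, β, γ' ∈ 𝒲`.  If `π^c₀ y = ∑ tᵢ αⁱ` and `π^c₀ s = ∑ uᵢ αⁱ` with
`tᵢ, uᵢ ∈ 𝒲`, `y, s ∈ 𝒲`, `s` a unit of `𝒲`, then replacing `α` by `β` in these expansions
produces `x' = y'/s'` with `x' - y/s ∈ π² 𝒲`; moreover `x'` lies in any subfield containing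
`π, β, tᵢ, uᵢ`.
-/

set_option autoImplicit false

namespace Groth.Agent.Lib.Seat10.SepStep

open Finset

variable {E : Type*} [Field E]

theorem sum_mul_pow_sub (𝒲 : ValuationSubring E) {α β : E} (hα : α ∈ 𝒲) (hβ : β ∈ 𝒲) {p : ℕ}
    (t : Fin p → E) (ht : ∀ i, t i ∈ 𝒲) :
    ∃ q ∈ 𝒲, ∑ i, t i * β ^ (i : ℕ) - ∑ i, t i * α ^ (i : ℕ) = (β - α) * q := by
  refine ⟨∑ i : Fin p, t i * ∑ k ∈ range (i : ℕ), β ^ k * α ^ ((i : ℕ) - 1 - k), ?_, ?_⟩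
  · refine sum_mem fun i _ => mul_mem (ht i) (sum_mem fun k _ => ?_)
    exact mul_mem (pow_mem hβ _) (pow_mem hα _)
  · rw [← Finset.sum_sub_distrib, Finset.mul_sum]
    refine Finset.sum_congr rfl fun i _ => ?_
    rw [← mul_sub, ← geom_sum₂_mul β α (i : ℕ)]
    ring

theorem approx_core (𝒲 : ValuationSubring E) (Q : Subfield E) (π α β γ' : E) (c₀ p : ℕ)
    (hπlt : 𝒲.valuation π < 1) (hπ0 : π ≠ 0) (hα : α ∈ 𝒲) (hβ : β ∈ 𝒲) (hγ' : γ' ∈ 𝒲)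
    (hγ : β - α = π ^ (c₀ + 2) * γ') (t u : Fin p → E) (ht : ∀ i, t i ∈ 𝒲) (hu : ∀ i, u i ∈ 𝒲)
    (y s : E) (hy : π ^ c₀ * y = ∑ i, t i * α ^ (i : ℕ)) (hs : π ^ c₀ * s = ∑ i, u i * α ^ (i : ℕ))
    (hyW : y ∈ 𝒲) (hsW : s ∈ 𝒲) (hsinv : s⁻¹ ∈ 𝒲) (hs0 : s ≠ 0)
    (hπQ : π ∈ Q) (hβQ : β ∈ Q) (htQ : ∀ i, t i ∈ Q) (huQ : ∀ i, u i ∈ Q) :
    ∃ x' ∈ Q, ∃ r ∈ 𝒲, x' - y / s = π ^ 2 * r := by
  have hπW : π ∈ 𝒲 := (𝒲.valuation_le_one_iff π).mp hπlt.le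
  have hπc0 : π ^ c₀ ≠ 0 := pow_ne_zero _ hπ0
  obtain ⟨q₁, hq₁, hq₁e⟩ := sum_mul_pow_sub 𝒲 hα hβ t ht
  obtain ⟨q₂, hq₂, hq₂e⟩ := sum_mul_pow_sub 𝒲 hα hβ u hu
  set y' := (π ^ c₀)⁻¹ * ∑ i, t i * β ^ (i : ℕ) with hy'
  set s' := (π ^ c₀)⁻¹ * ∑ i, u i * β ^ (i : ℕ) with hs'
  have hy'Q : y' ∈ Q :=
    mul_mem (inv_mem (pow_mem hπQ _)) (sum_mem fun i _ => mul_mem (htQ i) (pow_mem hβQ _))
  have hs'Q : s' ∈ Q :=
    mul_mem (inv_mem (pow_mem hπQ _)) (sum_mem fun i _ => mul_mem (huQ i) (pow_mem hβQ _))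
  have hy'e : y' = y + π ^ 2 * (γ' * q₁) := by
    have h1 : ∑ i, t i * β ^ (i : ℕ) = π ^ c₀ * y + π ^ (c₀ + 2) * γ' * q₁ := by
      rw [hy, ← hγ, ← hq₁e]; ring
    rw [hy', h1, pow_add]
    field_simp
  have hs'e : s' = s + π ^ 2 * (γ' * q₂) := by
    have h1 : ∑ i, u i * β ^ (i : ℕ) = π ^ c₀ * s + π ^ (c₀ + 2) * γ' * q₂ := by
      rw [hs, ← hγ, ← hq₂e]; ring
    rw [hs', h1, pow_add]
    field_simp
  -- `s'` is a unit of `𝒲`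
  have hvs : 𝒲.valuation s = 1 := by
    apply le_antisymm ((𝒲.valuation_le_one_iff s).mpr hsW)
    have h1 : 𝒲.valuation s⁻¹ ≤ 1 := (𝒲.valuation_le_one_iff _).mpr hsinv
    rw [map_inv₀] at h1
    have hvs0 : 𝒲.valuation s ≠ 0 := (Valuation.ne_zero_iff _).mpr hs0
    exact (inv_le_one₀ (zero_lt_iff.mpr hvs0)).mp h1
  have hsmall : 𝒲.valuation (π ^ 2 * (γ' * q₂)) < 1 := by
    have h1 : 𝒲.valuation (γ' * q₂) ≤ 1 := (𝒲.valuation_le_one_iff _).mpr (mul_mem hγ' hq₂)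
    have h2 : 𝒲.valuation (π ^ 2) < 1 := by
      rw [map_pow]
      exact pow_lt_one₀ zero_le' hπlt (by norm_num)
    rw [map_mul]
    exact mul_lt_one_of_lt_of_le h2 h1
  have hvs' : 𝒲.valuation s' = 1 := by
    rw [hs'e, ← hvs]
    apply Valuation.map_add_eq_of_lt_left
    rw [hvs]
    exact hsmall
  have hs'0 : s' ≠ 0 := by
    intro h
    rw [h, map_zero] at hvs'
    exact zero_ne_one hvs'
  have hs'inv : s'⁻¹ ∈ 𝒲 := by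
    rw [← 𝒲.valuation_le_one_iff, map_inv₀, hvs', inv_one]
  refine ⟨y' / s', div_mem hy'Q hs'Q,
    (γ' * q₁ * s - y * (γ' * q₂)) * s⁻¹ * s'⁻¹, ?_, ?_⟩
  · refine mul_mem (mul_mem (sub_mem (mul_mem (mul_mem hγ' hq₁) hsW)
      (mul_mem hyW (mul_mem hγ' hq₂))) hsinv) hs'inv
  · rw [div_sub_div _ _ hs'0 hs0, hy'e]
    have h3 : (y + π ^ 2 * (γ' * q₁)) * s - s' * y =
        π ^ 2 * (γ' * q₁ * s - y * (γ' * q₂)) := by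
      rw [hs'e]; ring
    rw [h3]
    field_simp

end Groth.Agent.Lib.Seat10.SepStep
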