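import Mathlib
import Groth.Agent.Lib.Seat10ValDomA
import Groth.Agent.Lib.Seat10SepStepA
import Groth.Agent.Lib.Seat10SepStepB
import Groth.Agent.Lib.Seat10SepStepG

/-!
# `cmp` and `cmp'` for restrictions of one valuation subring (Seat 10)

`cmp_val`, `cmp'_val`: the comparison lemmas for the DVRs `𝒲 ∩ Q` cut out of a valuation
subring `𝒲` of a field `E` by subfields `Q`, with elementwise conclusions.
-/

set_option autoImplicit false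

universe u

namespace Groth.Agent.Lib.Seat10.SepStep

open IsLocalRing EtRam Groth.Agent.Lib.Seat10.ValDom

section

variable {E : Type u} [Field E] (𝒲 : ValuationSubring E)

theorem inclOfComap_injective {Q : Type u} [Field Q] (f : Q →+* E) :
    Function.Injective (inclOfComap 𝒲 f) := by
  intro x y hxy
  apply Subtype.ext
  apply f.injective
  exact congrArg Subtype.val hxy

theorem valuation_lt_one_of_mem_maximalIdeal {Q : Type u} [Field Q] (f : Q →+* E)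
    (x : 𝒲.comap f) : x ∈ maximalIdeal (𝒲.comap f) ↔ 𝒲.valuation (f (x : Q)) < 1 := by
  rw [ValuationSubring.valuation_lt_one_iff, valuation_comap_lt_one_iff]

theorem valuation_eq_of_associated {x y : 𝒲} (h : Associated x y) :
    𝒲.valuation (x : E) = 𝒲.valuation (y : E) := by
  obtain ⟨u, rfl⟩ := h
  rw [MulMemClass.coe_mul, map_mul, ValuationSubring.valuation_unit, mul_one]

theorem valuation_le_of_mem_maximalIdeal {Q : Type u} [Field Q] (f : Q →+* E)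
    [IsDiscreteValuationRing (𝒲.comap f)] {t : 𝒲.comap f} (ht : Irreducible t) (w : Q)
    (hw : 𝒲.valuation (f w) < 1) : 𝒲.valuation (f w) ≤ 𝒲.valuation (f (t : Q)) := by
  have hwW : w ∈ 𝒲.comap f := by
    rw [ValuationSubring.mem_comap, ← ValuationSubring.valuation_le_one_iff]
    exact hw.le
  have hwm : (⟨w, hwW⟩ : 𝒲.comap f) ∈ maximalIdeal (𝒲.comap f) :=
    (valuation_lt_one_of_mem_maximalIdeal 𝒲 f _).mpr hw
  rw [ht.maximalIdeal_eq, Ideal.mem_span_singleton] at hwm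
  obtain ⟨d, hd⟩ := hwm
  have h1 : w = (t : Q) * (d : Q) := congrArg Subtype.val hd
  rw [h1, map_mul, map_mul]
  have h2 : 𝒲.valuation (f (d : Q)) ≤ 1 := (𝒲.valuation_le_one_iff _).mpr d.2
  exact mul_le_of_le_one_right' h2

end

theorem cmp_val {E Q₂ Q₃ : Type u} [Field E] [Field Q₂] [Field Q₃] [Algebra Q₂ E] [Algebra Q₃ E]
    [FiniteDimensional Q₂ E] [FiniteDimensional Q₃ E] (𝒲 : ValuationSubring E)
    (h𝒲 : IsDiscreteValuationRing 𝒲)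
    (h₂ : IsDiscreteValuationRing (𝒲.comap (algebraMap Q₂ E)))
    (h₃ : IsDiscreteValuationRing (𝒲.comap (algebraMap Q₃ E)))
    (hfin : letI : Algebra (𝒲.comap (algebraMap Q₃ E)) 𝒲 :=
        (inclOfComap 𝒲 (algebraMap Q₃ E)).toAlgebra
      Module.Finite (𝒲.comap (algebraMap Q₃ E)) 𝒲)
    (hdeg : Module.finrank Q₂ E ≤ Module.finrank Q₃ E)
    (π₂ : Q₂) (hπ₂ : 𝒲.valuation (algebraMap Q₂ E π₂) < 1)
    (happrox : ∀ x : Q₂, algebraMap Q₂ E x ∈ 𝒲 → ∃ x₃ : Q₃, ∃ r ∈ 𝒲,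
      algebraMap Q₃ E x₃ - algebraMap Q₂ E x = (algebraMap Q₂ E π₂) ^ 2 * r) :
    (∃ x : Q₂, 𝒲.valuation (algebraMap Q₂ E x) < 1 ∧
      (∀ x' : Q₂, 𝒲.valuation (algebraMap Q₂ E x') < 1 →
        𝒲.valuation (algebraMap Q₂ E x') ≤ 𝒲.valuation (algebraMap Q₂ E x)) ∧
      ∀ w : Q₃, 𝒲.valuation (algebraMap Q₃ E w) < 1 →
        𝒲.valuation (algebraMap Q₃ E w) ≤ 𝒲.valuation (algebraMap Q₂ E x)) ∧
    ∀ x₃ : Q₃, algebraMap Q₃ E x₃ ∈ 𝒲 → ∃ x₂ : Q₂, algebraMap Q₂ E x₂ ∈ 𝒲 ∧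
      𝒲.valuation (algebraMap Q₃ E x₃ - algebraMap Q₂ E x₂) < 1 := by
  letI alg₂ : Algebra (𝒲.comap (algebraMap Q₂ E)) 𝒲 := (inclOfComap 𝒲 (algebraMap Q₂ E)).toAlgebra
  letI alg₃ : Algebra (𝒲.comap (algebraMap Q₃ E)) 𝒲 := (inclOfComap 𝒲 (algebraMap Q₃ E)).toAlgebra
  haveI loc₂ : IsLocalHom (algebraMap (𝒲.comap (algebraMap Q₂ E)) 𝒲) :=
    isLocalHom_inclOfComap 𝒲 _
  haveI loc₃ : IsLocalHom (algebraMap (𝒲.comap (algebraMap Q₃ E)) 𝒲) :=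
    isLocalHom_inclOfComap 𝒲 _
  have hinj₂ : Function.Injective (algebraMap (𝒲.comap (algebraMap Q₂ E)) 𝒲) :=
    inclOfComap_injective 𝒲 _
  have hinj₃ : Function.Injective (algebraMap (𝒲.comap (algebraMap Q₃ E)) 𝒲) :=
    inclOfComap_injective 𝒲 _
  letI algE₂ : Algebra (𝒲.comap (algebraMap Q₂ E)) E :=
    ((algebraMap Q₂ E).comp (algebraMap (𝒲.comap (algebraMap Q₂ E)) Q₂)).toAlgebra
  letI algE₃ : Algebra (𝒲.comap (algebraMap Q₃ E)) E :=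
    ((algebraMap Q₃ E).comp (algebraMap (𝒲.comap (algebraMap Q₃ E)) Q₃)).toAlgebra
  haveI : IsScalarTower (𝒲.comap (algebraMap Q₂ E)) Q₂ E :=
    IsScalarTower.of_algebraMap_eq fun _ => rfl
  haveI : IsScalarTower (𝒲.comap (algebraMap Q₃ E)) Q₃ E :=
    IsScalarTower.of_algebraMap_eq fun _ => rfl
  haveI : IsScalarTower (𝒲.comap (algebraMap Q₂ E)) 𝒲 E :=
    IsScalarTower.of_algebraMap_eq fun _ => rfl
  haveI : IsScalarTower (𝒲.comap (algebraMap Q₃ E)) 𝒲 E :=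
    IsScalarTower.of_algebraMap_eq fun _ => rfl
  haveI : Module.Finite (𝒲.comap (algebraMap Q₃ E)) 𝒲 := hfin
  have hEF := ramificationIdx'_mul_finrank_eq (R := 𝒲.comap (algebraMap Q₃ E)) (S := 𝒲)
    (Q := Q₃) (E := E)
  have hπ₂W : π₂ ∈ 𝒲.comap (algebraMap Q₂ E) := by
    rw [ValuationSubring.mem_comap, ← ValuationSubring.valuation_le_one_iff]
    exact hπ₂.le
  have hπ₂m : (⟨π₂, hπ₂W⟩ : 𝒲.comap (algebraMap Q₂ E)) ∈
      maximalIdeal (𝒲.comap (algebraMap Q₂ E)) :=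
    (valuation_lt_one_of_mem_maximalIdeal 𝒲 _ _).mpr hπ₂
  have happrox' : ∀ x : 𝒲.comap (algebraMap Q₂ E), ∃ x₃ : 𝒲.comap (algebraMap Q₃ E),
      ∃ s ∈ maximalIdeal 𝒲, algebraMap (𝒲.comap (algebraMap Q₃ E)) 𝒲 x₃ -
        algebraMap (𝒲.comap (algebraMap Q₂ E)) 𝒲 x =
        algebraMap (𝒲.comap (algebraMap Q₂ E)) 𝒲 ⟨π₂, hπ₂W⟩ * s := by
    intro x
    obtain ⟨x₃, r, hr, hx₃⟩ := happrox (x : Q₂) x.2
    have hπW : algebraMap Q₂ E π₂ ∈ 𝒲 := hπ₂W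
    have hx₃W : x₃ ∈ 𝒲.comap (algebraMap Q₃ E) := by
      rw [ValuationSubring.mem_comap]
      have : algebraMap Q₃ E x₃ = algebraMap Q₂ E (x : Q₂) + (algebraMap Q₂ E π₂) ^ 2 * r := by
        rw [← hx₃]; ring
      rw [this]
      exact add_mem x.2 (mul_mem (pow_mem hπW 2) hr)
    refine ⟨⟨x₃, hx₃W⟩, ⟨algebraMap Q₂ E π₂ * r, mul_mem hπW hr⟩, ?_, ?_⟩
    · rw [ValuationSubring.valuation_lt_one_iff]
      show 𝒲.valuation (algebraMap Q₂ E π₂ * r) < 1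
      rw [map_mul]
      exact mul_lt_one_of_lt_of_le hπ₂ ((𝒲.valuation_le_one_iff _).mpr hr)
    · apply Subtype.ext
      show algebraMap Q₃ E x₃ - algebraMap Q₂ E (x : Q₂) =
        algebraMap Q₂ E π₂ * (algebraMap Q₂ E π₂ * r)
      rw [hx₃]; ring
  obtain ⟨he, hrange⟩ := cmp (R₂ := 𝒲.comap (algebraMap Q₂ E)) (R₃ := 𝒲.comap (algebraMap Q₃ E))
    (S := 𝒲) (Q₂ := Q₂) (Q₃ := Q₃) (E := E) hinj₂ hinj₃ hEF hdeg ⟨π₂, hπ₂W⟩ hπ₂m happrox'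
  obtain ⟨t₂, ht₂⟩ := IsDiscreteValuationRing.exists_irreducible (𝒲.comap (algebraMap Q₂ E))
  obtain ⟨t₃, ht₃⟩ := IsDiscreteValuationRing.exists_irreducible (𝒲.comap (algebraMap Q₃ E))
  have hassoc := associated_of_ramificationIdx'_eq hinj₂ hinj₃ he ht₂ ht₃
  have hveq : 𝒲.valuation (algebraMap Q₂ E (t₂ : Q₂)) = 𝒲.valuation (algebraMap Q₃ E (t₃ : Q₃)) :=
    valuation_eq_of_associated 𝒲 hassoc
  constructor
  · refine ⟨(t₂ : Q₂), ?_, ?_, ?_⟩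
    · exact (valuation_lt_one_of_mem_maximalIdeal 𝒲 _ t₂).mp
        ((mem_maximalIdeal _).mpr ht₂.not_isUnit)
    · intro x' hx'
      exact valuation_le_of_mem_maximalIdeal 𝒲 _ ht₂ x' hx'
    · intro w hw
      rw [hveq]
      exact valuation_le_of_mem_maximalIdeal 𝒲 _ ht₃ w hw
  · intro x₃ hx₃
    obtain ⟨x₂, hx₂⟩ := exists_sub_mem_of_range_le (R₂ := 𝒲.comap (algebraMap Q₂ E))
      (R₃ := 𝒲.comap (algebraMap Q₃ E)) (S := 𝒲) hrange.ge ⟨x₃, hx₃⟩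
    refine ⟨(x₂ : Q₂), x₂.2, ?_⟩
    rw [ValuationSubring.valuation_lt_one_iff] at hx₂
    exact hx₂

theorem cmp'_val {E Q₁ Q₂ Q₃ : Type u} [Field E] [Field Q₁] [Field Q₂] [Field Q₃]
    [Algebra Q₁ Q₂] [Algebra Q₁ Q₃] [Algebra Q₂ E] [Algebra Q₃ E] [Algebra Q₁ E]
    [IsScalarTower Q₁ Q₂ E] [IsScalarTower Q₁ Q₃ E]
    [FiniteDimensional Q₁ Q₂] [FiniteDimensional Q₁ Q₃] (𝒲 : ValuationSubring E)
    (h𝒲 : IsDiscreteValuationRing 𝒲)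
    (h₁ : IsDiscreteValuationRing ((𝒲.comap (algebraMap Q₂ E)).comap (algebraMap Q₁ Q₂)))
    (h₂ : IsDiscreteValuationRing (𝒲.comap (algebraMap Q₂ E)))
    (h₃ : IsDiscreteValuationRing (𝒲.comap (algebraMap Q₃ E)))
    (hfin :
      letI : Algebra ((𝒲.comap (algebraMap Q₂ E)).comap (algebraMap Q₁ Q₂))
            (𝒲.comap (algebraMap Q₂ E)) :=
          (inclOfComap (𝒲.comap (algebraMap Q₂ E)) (algebraMap Q₁ Q₂)).toAlgebra
      Module.Finite ((𝒲.comap (algebraMap Q₂ E)).comap (algebraMap Q₁ Q₂))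
        (𝒲.comap (algebraMap Q₂ E)))
    (hdeg : Module.finrank Q₁ Q₃ ≤ Module.finrank Q₁ Q₂)
    (π₂ : Q₂) (hπ₂ : 𝒲.valuation (algebraMap Q₂ E π₂) < 1)
    (happrox : ∀ x : Q₂, algebraMap Q₂ E x ∈ 𝒲 → ∃ x₃ : Q₃, ∃ r ∈ 𝒲,
      algebraMap Q₃ E x₃ - algebraMap Q₂ E x = (algebraMap Q₂ E π₂) ^ 2 * r) :
    ∀ x₃ : Q₃, algebraMap Q₃ E x₃ ∈ 𝒲 → ∃ x₂ : Q₂, algebraMap Q₂ E x₂ ∈ 𝒲 ∧
      𝒲.valuation (algebraMap Q₃ E x₃ - algebraMap Q₂ E x₂) < 1 := by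
  letI alg₂ : Algebra (𝒲.comap (algebraMap Q₂ E)) 𝒲 := (inclOfComap 𝒲 (algebraMap Q₂ E)).toAlgebra
  letI alg₃ : Algebra (𝒲.comap (algebraMap Q₃ E)) 𝒲 := (inclOfComap 𝒲 (algebraMap Q₃ E)).toAlgebra
  haveI loc₂ : IsLocalHom (algebraMap (𝒲.comap (algebraMap Q₂ E)) 𝒲) :=
    isLocalHom_inclOfComap 𝒲 _
  haveI loc₃ : IsLocalHom (algebraMap (𝒲.comap (algebraMap Q₃ E)) 𝒲) :=
    isLocalHom_inclOfComap 𝒲 _
  have hinj₂ : Function.Injective (algebraMap (𝒲.comap (algebraMap Q₂ E)) 𝒲) :=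
    inclOfComap_injective 𝒲 _
  have hinj₃ : Function.Injective (algebraMap (𝒲.comap (algebraMap Q₃ E)) 𝒲) :=
    inclOfComap_injective 𝒲 _
  letI alg₁₂ : Algebra ((𝒲.comap (algebraMap Q₂ E)).comap (algebraMap Q₁ Q₂))
      (𝒲.comap (algebraMap Q₂ E)) :=
    (inclOfComap (𝒲.comap (algebraMap Q₂ E)) (algebraMap Q₁ Q₂)).toAlgebra
  haveI loc₁₂ : IsLocalHom (algebraMap ((𝒲.comap (algebraMap Q₂ E)).comap (algebraMap Q₁ Q₂))
      (𝒲.comap (algebraMap Q₂ E))) := isLocalHom_inclOfComap _ _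
  have hinj₁₂ : Function.Injective (algebraMap
      ((𝒲.comap (algebraMap Q₂ E)).comap (algebraMap Q₁ Q₂)) (𝒲.comap (algebraMap Q₂ E))) :=
    inclOfComap_injective _ _
  have h13 : (𝒲.comap (algebraMap Q₃ E)).comap (algebraMap Q₁ Q₃) =
      (𝒲.comap (algebraMap Q₂ E)).comap (algebraMap Q₁ Q₂) := by
    ext x
    rw [ValuationSubring.mem_comap, ValuationSubring.mem_comap, ValuationSubring.mem_comap,
      ValuationSubring.mem_comap, ← IsScalarTower.algebraMap_apply,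
      ← IsScalarTower.algebraMap_apply]
  letI alg₁₃ : Algebra ((𝒲.comap (algebraMap Q₂ E)).comap (algebraMap Q₁ Q₂))
      (𝒲.comap (algebraMap Q₃ E)) :=
    (mapOfLE _ (𝒲.comap (algebraMap Q₃ E)) (algebraMap Q₁ Q₃) h13.ge).toAlgebra
  haveI loc₁₃ : IsLocalHom (algebraMap ((𝒲.comap (algebraMap Q₂ E)).comap (algebraMap Q₁ Q₂))
      (𝒲.comap (algebraMap Q₃ E))) := isLocalHom_mapOfLE _ _ _ h13
  have hinj₁₃ : Function.Injective (algebraMap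
      ((𝒲.comap (algebraMap Q₂ E)).comap (algebraMap Q₁ Q₂)) (𝒲.comap (algebraMap Q₃ E))) :=
    mapOfLE_injective _ _ _ _
  letI alg₁ : Algebra ((𝒲.comap (algebraMap Q₂ E)).comap (algebraMap Q₁ Q₂)) 𝒲 :=
    ((algebraMap (𝒲.comap (algebraMap Q₂ E)) 𝒲).comp
      (algebraMap ((𝒲.comap (algebraMap Q₂ E)).comap (algebraMap Q₁ Q₂))
        (𝒲.comap (algebraMap Q₂ E)))).toAlgebra
  haveI : IsScalarTower ((𝒲.comap (algebraMap Q₂ E)).comap (algebraMap Q₁ Q₂))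
      (𝒲.comap (algebraMap Q₂ E)) 𝒲 := IsScalarTower.of_algebraMap_eq fun _ => rfl
  haveI : IsScalarTower ((𝒲.comap (algebraMap Q₂ E)).comap (algebraMap Q₁ Q₂))
      (𝒲.comap (algebraMap Q₃ E)) 𝒲 := IsScalarTower.of_algebraMap_eq fun x => by
    apply Subtype.ext
    show algebraMap Q₂ E (algebraMap Q₁ Q₂ (x : Q₁)) = algebraMap Q₃ E (algebraMap Q₁ Q₃ (x : Q₁))
    rw [← IsScalarTower.algebraMap_apply, ← IsScalarTower.algebraMap_apply]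
  haveI loc₁ : IsLocalHom (algebraMap ((𝒲.comap (algebraMap Q₂ E)).comap (algebraMap Q₁ Q₂)) 𝒲) := by
    constructor
    intro x hx
    have h1 : IsUnit (algebraMap ((𝒲.comap (algebraMap Q₂ E)).comap (algebraMap Q₁ Q₂))
        (𝒲.comap (algebraMap Q₂ E)) x) := isUnit_of_map_unit (algebraMap _ 𝒲) _ hx
    exact isUnit_of_map_unit _ _ h1
  letI algQ₂ : Algebra ((𝒲.comap (algebraMap Q₂ E)).comap (algebraMap Q₁ Q₂)) Q₂ :=
    ((algebraMap Q₁ Q₂).comp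
      (algebraMap ((𝒲.comap (algebraMap Q₂ E)).comap (algebraMap Q₁ Q₂)) Q₁)).toAlgebra
  letI algQ₃ : Algebra ((𝒲.comap (algebraMap Q₂ E)).comap (algebraMap Q₁ Q₂)) Q₃ :=
    ((algebraMap Q₁ Q₃).comp
      (algebraMap ((𝒲.comap (algebraMap Q₂ E)).comap (algebraMap Q₁ Q₂)) Q₁)).toAlgebra
  haveI : IsScalarTower ((𝒲.comap (algebraMap Q₂ E)).comap (algebraMap Q₁ Q₂)) Q₁ Q₂ :=
    IsScalarTower.of_algebraMap_eq fun _ => rfl
  haveI : IsScalarTower ((𝒲.comap (algebraMap Q₂ E)).comap (algebraMap Q₁ Q₂)) Q₁ Q₃ :=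
    IsScalarTower.of_algebraMap_eq fun _ => rfl
  haveI : IsScalarTower ((𝒲.comap (algebraMap Q₂ E)).comap (algebraMap Q₁ Q₂))
      (𝒲.comap (algebraMap Q₂ E)) Q₂ := IsScalarTower.of_algebraMap_eq fun _ => rfl
  haveI : IsScalarTower ((𝒲.comap (algebraMap Q₂ E)).comap (algebraMap Q₁ Q₂))
      (𝒲.comap (algebraMap Q₃ E)) Q₃ := IsScalarTower.of_algebraMap_eq fun _ => rfl
  haveI : Module.Finite ((𝒲.comap (algebraMap Q₂ E)).comap (algebraMap Q₁ Q₂))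
      (𝒲.comap (algebraMap Q₂ E)) := hfin
  have hEF := ramificationIdx'_mul_finrank_eq
    (R := (𝒲.comap (algebraMap Q₂ E)).comap (algebraMap Q₁ Q₂))
    (S := 𝒲.comap (algebraMap Q₂ E)) (Q := Q₁) (E := Q₂)
  have hπ₂W : π₂ ∈ 𝒲.comap (algebraMap Q₂ E) := by
    rw [ValuationSubring.mem_comap, ← ValuationSubring.valuation_le_one_iff]
    exact hπ₂.le
  have hπ₂m : (⟨π₂, hπ₂W⟩ : 𝒲.comap (algebraMap Q₂ E)) ∈
      maximalIdeal (𝒲.comap (algebraMap Q₂ E)) :=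
    (valuation_lt_one_of_mem_maximalIdeal 𝒲 _ _).mpr hπ₂
  have happrox' : ∀ x : 𝒲.comap (algebraMap Q₂ E), ∃ x₃ : 𝒲.comap (algebraMap Q₃ E),
      ∃ s ∈ maximalIdeal 𝒲, algebraMap (𝒲.comap (algebraMap Q₃ E)) 𝒲 x₃ -
        algebraMap (𝒲.comap (algebraMap Q₂ E)) 𝒲 x =
        algebraMap (𝒲.comap (algebraMap Q₂ E)) 𝒲 ⟨π₂, hπ₂W⟩ * s := by
    intro x
    obtain ⟨x₃, r, hr, hx₃⟩ := happrox (x : Q₂) x.2
    have hπW : algebraMap Q₂ E π₂ ∈ 𝒲 := hπ₂W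
    have hx₃W : x₃ ∈ 𝒲.comap (algebraMap Q₃ E) := by
      rw [ValuationSubring.mem_comap]
      have : algebraMap Q₃ E x₃ = algebraMap Q₂ E (x : Q₂) + (algebraMap Q₂ E π₂) ^ 2 * r := by
        rw [← hx₃]; ring
      rw [this]
      exact add_mem x.2 (mul_mem (pow_mem hπW 2) hr)
    refine ⟨⟨x₃, hx₃W⟩, ⟨algebraMap Q₂ E π₂ * r, mul_mem hπW hr⟩, ?_, ?_⟩
    · rw [ValuationSubring.valuation_lt_one_iff]
      show 𝒲.valuation (algebraMap Q₂ E π₂ * r) < 1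
      rw [map_mul]
      exact mul_lt_one_of_lt_of_le hπ₂ ((𝒲.valuation_le_one_iff _).mpr hr)
    · apply Subtype.ext
      show algebraMap Q₃ E x₃ - algebraMap Q₂ E (x : Q₂) =
        algebraMap Q₂ E π₂ * (algebraMap Q₂ E π₂ * r)
      rw [hx₃]; ring
  have hrange := cmp' (R₁ := (𝒲.comap (algebraMap Q₂ E)).comap (algebraMap Q₁ Q₂))
    (R₂ := 𝒲.comap (algebraMap Q₂ E)) (R₃ := 𝒲.comap (algebraMap Q₃ E))
    (S := 𝒲) (Q₁ := Q₁) (Q₂ := Q₂) (Q₃ := Q₃) hinj₁₂ hinj₁₃ hinj₂ hinj₃ hEF hdeg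
    ⟨π₂, hπ₂W⟩ hπ₂m happrox'
  intro x₃ hx₃
  obtain ⟨x₂, hx₂⟩ := exists_sub_mem_of_range_le (R₂ := 𝒲.comap (algebraMap Q₂ E))
    (R₃ := 𝒲.comap (algebraMap Q₃ E)) (S := 𝒲) hrange ⟨x₃, hx₃⟩
  refine ⟨(x₂ : Q₂), x₂.2, ?_⟩
  rw [ValuationSubring.valuation_lt_one_iff] at hx₂
  exact hx₂

end Groth.Agent.Lib.Seat10.SepStep
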