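import Mathlib
import Groth.Agent.Lib.Helper14Japanese
import Groth.Agent.Lib.Seat10ValDomA
import Groth.Agent.Lib.Seat10InsepH
import Groth.Agent.Lib.Seat10SepStepC
import Groth.Agent.Lib.Seat10SepStepI
import Groth.Agent.Lib.Seat10SepStepJ

/-!
# Approximating elements of `𝒲 ∩ L K₂` and `𝒲 ∩ K₂` (Seat 10)

* `gamma_mem`: `β ∈ 𝒲` and `β - α ∈ π^m 𝒲` when `α^p = a`, `β^p = π^(p m) β + a`.
* `approx_B`: elements of `𝒲 ∩ L K₂` are congruent mod `π² 𝒲` to elements of any subfield `Q`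
  of `E` containing `L`, `K₁` and `β`.
* `approx_A`: elements of `𝒲 ∩ K₂` are congruent mod `π² 𝒲` to elements of any subfield `Q`
  containing `K₁` and `β`.
-/

set_option autoImplicit false

universe u

namespace Groth.Agent.Lib.Seat10.SepStep

open IsLocalRing EtRam Groth.Agent.Lib.Seat10.ValDom

theorem gamma_mem {E : Type*} [Field E] (𝒲 : ValuationSubring E) (p : ℕ) [hp : Fact p.Prime]
    [CharP E p] (π α β a : E) (m : ℕ) (hπ : π ∈ 𝒲) (hπ0 : π ≠ 0) (ha : a ∈ 𝒲)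
    (hαp : α ^ p = a) (hβp : β ^ p = π ^ (p * m) * β + a) :
    β ∈ 𝒲 ∧ ∃ γ' ∈ 𝒲, β - α = π ^ m * γ' := by
  have hβ : β ∈ 𝒲 := mem_of_pow_eq 𝒲 hp.out.two_le (pow_mem hπ _) ha hβp
  have hπm0 : π ^ m ≠ 0 := pow_ne_zero _ hπ0
  refine ⟨hβ, (β - α) / π ^ m, ?_, ?_⟩
  · apply mem_of_pow_mem 𝒲 hp.out.ne_zero
    have h1 : ((β - α) / π ^ m) ^ p = β := by
      rw [div_pow, sub_pow_char, hβp, hαp, add_sub_cancel_right, ← pow_mul, mul_comm m p]
      field_simp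
    rw [h1]
    exact hβ
  · field_simp

section B

variable {B L K₁ K₂ E : Type u} [CommRing B] [IsDomain B] [IsDiscreteValuationRing B]
  [Field L] [Field K₁] [Field K₂] [Field E] [Algebra B L] [IsFractionRing B L]
  [Algebra K₁ K₂] [Algebra L E] [Algebra K₂ E] [Algebra K₁ E] [IsScalarTower K₁ K₂ E]
  [Algebra B E] [IsScalarTower B L E] [FiniteDimensional L E]

theorem approx_B (hN2 : CAlg.IsN2 B) (𝒲 : ValuationSubring E)
    (hdom : Dominates B (algebraMap B E) 𝒲)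
    {J : Type*} [Fintype J] (κ : J → K₁) (α : K₂) (p c₀ : ℕ) (π : B)
    (hcond : ∀ y : E, y ∈ Algebra.adjoin L (Set.range (algebraMap K₂ E)) → IsIntegral B y →
      ∃ b : Fin p × J → B, algebraMap B E (π ^ c₀) * y =
        ∑ ij, algebraMap B E (b ij) *
          algebraMap K₂ E (algebraMap K₁ K₂ (κ ij.2) * α ^ (ij.1 : ℕ)))
    (hκ : ∀ j, algebraMap K₁ E (κ j) ∈ 𝒲)
    (hπlt : 𝒲.valuation (algebraMap B E π) < 1) (hπ0 : algebraMap B E π ≠ 0)
    (β γ' : E) (hα : algebraMap K₂ E α ∈ 𝒲) (hβ : β ∈ 𝒲) (hγ' : γ' ∈ 𝒲)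
    (hγ : β - algebraMap K₂ E α = (algebraMap B E π) ^ (c₀ + 2) * γ')
    (Q : Subfield E) (hQL : ∀ l : L, algebraMap L E l ∈ Q) (hQK₁ : ∀ k : K₁, algebraMap K₁ E k ∈ Q)
    (hβQ : β ∈ Q) (x : compF L K₂ E) (hx : (x : E) ∈ 𝒲) :
    ∃ x' ∈ Q, ∃ r ∈ 𝒲, x' - (x : E) = (algebraMap B E π) ^ 2 * r := by
  have hfinF : Module.Finite B (integralClosure B (compF L K₂ E)) :=
    Groth.Agent.Lib.Helper14.IsN2.finite hN2 L _
  have hdomF : Dominates B (algebraMap B (compF L K₂ E))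
      (𝒲.comap (algebraMap (compF L K₂ E) E)) := by
    rw [← dominates_comp_iff]
    exact hdom
  obtain ⟨y, s, hy, hs, hsV, hsinv, hs0, hxs⟩ :=
    exists_integral_fraction B L hfinF hdomF x hx
  have hFsub : (compF L K₂ E).toSubalgebra = Algebra.adjoin L (Set.range (algebraMap K₂ E)) :=
    IntermediateField.adjoin_toSubalgebra _
  have hmemF : ∀ z : compF L K₂ E,
      (z : E) ∈ Algebra.adjoin L (Set.range (algebraMap K₂ E)) := by
    intro z
    rw [← hFsub]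
    exact z.2
  haveI : IsScalarTower B (compF L K₂ E) E := IsScalarTower.of_algebraMap_eq fun _ => rfl
  have hintE : ∀ z : compF L K₂ E, IsIntegral B z → IsIntegral B (z : E) := by
    intro z hz
    exact hz.map (IsScalarTower.toAlgHom B (compF L K₂ E) E)
  obtain ⟨b₁, hb₁⟩ := hcond (y : E) (hmemF y) (hintE y hy)
  obtain ⟨b₂, hb₂⟩ := hcond (s : E) (hmemF s) (hintE s hs)
  have hBW : ∀ b : B, algebraMap B E b ∈ 𝒲 := hdom.1
  have hBQ : ∀ b : B, algebraMap B E b ∈ Q := by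
    intro b
    rw [IsScalarTower.algebraMap_apply B L E]
    exact hQL _
  -- rewrite the expansions
  have hexp : ∀ b : Fin p × J → B,
      ∑ ij, algebraMap B E (b ij) *
          algebraMap K₂ E (algebraMap K₁ K₂ (κ ij.2) * α ^ (ij.1 : ℕ)) =
        ∑ i : Fin p, (∑ j, algebraMap B E (b (i, j)) * algebraMap K₁ E (κ j)) *
          (algebraMap K₂ E α) ^ (i : ℕ) := by
    intro b
    rw [Fintype.sum_prod_type]
    refine Finset.sum_congr rfl fun i _ => ?_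
    rw [Finset.sum_mul]
    refine Finset.sum_congr rfl fun j _ => ?_
    rw [map_mul, map_pow, ← IsScalarTower.algebraMap_apply K₁ K₂ E]
    ring
  rw [hexp] at hb₁ hb₂
  rw [map_pow] at hb₁ hb₂
  have hyW : (y : E) ∈ 𝒲 :=
    Groth.Agent.Lib.Seat10.Insep.mem_of_isIntegralElem (algebraMap B E) 𝒲 hBW _ (hintE y hy)
  obtain ⟨x', hx'Q, r, hr, hx'⟩ := approx_core 𝒲 Q (algebraMap B E π) (algebraMap K₂ E α) β γ' c₀ p
    hπlt hπ0 hα hβ hγ' hγ
    (fun i => ∑ j, algebraMap B E (b₁ (i, j)) * algebraMap K₁ E (κ j))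
    (fun i => ∑ j, algebraMap B E (b₂ (i, j)) * algebraMap K₁ E (κ j))
    (fun i => sum_mem fun j _ => mul_mem (hBW _) (hκ j))
    (fun i => sum_mem fun j _ => mul_mem (hBW _) (hκ j))
    (y : E) (s : E) hb₁ hb₂ hyW hsV
    (by
      have : ((s⁻¹ : compF L K₂ E) : E) ∈ 𝒲 := hsinv
      simpa using this)
    (fun h => hs0 (Subtype.ext h))
    (hBQ π) hβQ
    (fun i => sum_mem fun j _ => mul_mem (hBQ _) (hQK₁ _))
    (fun i => sum_mem fun j _ => mul_mem (hBQ _) (hQK₁ _))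
  refine ⟨x', hx'Q, r, hr, ?_⟩
  rw [← hx']
  congr 1
  have h1 : (x : E) * (s : E) = (y : E) := congrArg Subtype.val hxs
  have hs0' : (s : E) ≠ 0 := fun h => hs0 (Subtype.ext h)
  rw [← h1, mul_div_assoc, div_self hs0', mul_one]

end B

section A

variable {A K K₁ K₂ E : Type u} [CommRing A] [IsDomain A] [IsDiscreteValuationRing A]
  [Field K] [Field K₁] [Field K₂] [Field E] [Algebra A K] [IsFractionRing A K]
  [Algebra K K₂] [Algebra A K₂] [IsScalarTower A K K₂] [FiniteDimensional K K₂]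
  [Algebra K₁ K₂] [Algebra A K₁] [IsScalarTower A K₁ K₂]
  [Algebra K₂ E] [Algebra K₁ E] [IsScalarTower K₁ K₂ E]

include K in
theorem approx_A (hfinA₂ : Module.Finite A (integralClosure A K₂)) (𝒲 : ValuationSubring E)
    (hdomA : Dominates A (algebraMap A K₂) (𝒲.comap (algebraMap K₂ E)))
    {J : Type*} [Fintype J] (κ : J → K₁) (α : K₂) (p c₀ : ℕ) (πA : A)
    (hcondA : ∀ y : K₂, IsIntegral A y → ∃ a' : Fin p × J → A,
      algebraMap A K₂ (πA ^ c₀) * y =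
        ∑ ij, algebraMap A K₂ (a' ij) * (algebraMap K₁ K₂ (κ ij.2) * α ^ (ij.1 : ℕ)))
    (hκ : ∀ j, algebraMap K₁ E (κ j) ∈ 𝒲)
    (πE : E) (hπE : algebraMap K₂ E (algebraMap A K₂ πA) = πE)
    (hπlt : 𝒲.valuation πE < 1) (hπ0 : πE ≠ 0)
    (β γ' : E) (hα : algebraMap K₂ E α ∈ 𝒲) (hβ : β ∈ 𝒲) (hγ' : γ' ∈ 𝒲)
    (hγ : β - algebraMap K₂ E α = πE ^ (c₀ + 2) * γ')
    (Q : Subfield E) (hQK₁ : ∀ k : K₁, algebraMap K₁ E k ∈ Q)
    (hβQ : β ∈ Q) (x : K₂) (hx : algebraMap K₂ E x ∈ 𝒲) :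
    ∃ x' ∈ Q, ∃ r ∈ 𝒲, x' - algebraMap K₂ E x = πE ^ 2 * r := by
  obtain ⟨y, s, hy, hs, hsV, hsinv, hs0, hxs⟩ :=
    exists_integral_fraction A K hfinA₂ hdomA x hx
  obtain ⟨a₁, ha₁⟩ := hcondA y hy
  obtain ⟨a₂, ha₂⟩ := hcondA s hs
  have hAW : ∀ a : A, algebraMap K₂ E (algebraMap A K₂ a) ∈ 𝒲 := hdomA.1
  have hAQ : ∀ a : A, algebraMap K₂ E (algebraMap A K₂ a) ∈ Q := by
    intro a
    rw [IsScalarTower.algebraMap_apply A K₁ K₂, ← IsScalarTower.algebraMap_apply K₁ K₂ E]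
    exact hQK₁ _
  have hexp : ∀ (a' : Fin p × J → A) (z : K₂),
      algebraMap A K₂ (πA ^ c₀) * z =
        ∑ ij, algebraMap A K₂ (a' ij) * (algebraMap K₁ K₂ (κ ij.2) * α ^ (ij.1 : ℕ)) →
      πE ^ c₀ * algebraMap K₂ E z =
        ∑ i : Fin p, (∑ j, algebraMap K₂ E (algebraMap A K₂ (a' (i, j))) *
          algebraMap K₁ E (κ j)) * (algebraMap K₂ E α) ^ (i : ℕ) := by
    intro a' z hz
    have h1 := congrArg (algebraMap K₂ E) hz
    rw [map_mul, map_pow, map_pow, hπE, map_sum, Fintype.sum_prod_type] at h1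
    rw [h1]
    refine Finset.sum_congr rfl fun i _ => ?_
    rw [Finset.sum_mul]
    refine Finset.sum_congr rfl fun j _ => ?_
    rw [map_mul, map_mul, map_pow, ← IsScalarTower.algebraMap_apply K₁ K₂ E]
    ring
  have hb₁ := hexp a₁ y ha₁
  have hb₂ := hexp a₂ s ha₂
  have hyW : algebraMap K₂ E y ∈ 𝒲 := by
    have h1 : y ∈ 𝒲.comap (algebraMap K₂ E) := by
      have h2 : x * s = y := hxs
      rw [← h2]
      exact mul_mem hx hsV
    exact h1
  have hπEQ : πE ∈ Q := by rw [← hπE]; exact hAQ πA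
  obtain ⟨x', hx'Q, r, hr, hx'⟩ := approx_core 𝒲 Q πE (algebraMap K₂ E α) β γ' c₀ p
    hπlt hπ0 hα hβ hγ' hγ
    (fun i => ∑ j, algebraMap K₂ E (algebraMap A K₂ (a₁ (i, j))) * algebraMap K₁ E (κ j))
    (fun i => ∑ j, algebraMap K₂ E (algebraMap A K₂ (a₂ (i, j))) * algebraMap K₁ E (κ j))
    (fun i => sum_mem fun j _ => mul_mem (hAW _) (hκ j))
    (fun i => sum_mem fun j _ => mul_mem (hAW _) (hκ j))
    (algebraMap K₂ E y) (algebraMap K₂ E s) hb₁ hb₂ hyW hsV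
    (by
      have : algebraMap K₂ E s⁻¹ ∈ 𝒲 := hsinv
      rwa [map_inv₀] at this)
    (fun h => hs0 ((algebraMap K₂ E).injective (h.trans (map_zero _).symm)))
    hπEQ hβQ
    (fun i => sum_mem fun j _ => mul_mem (hAQ _) (hQK₁ _))
    (fun i => sum_mem fun j _ => mul_mem (hAQ _) (hQK₁ _))
  refine ⟨x', hx'Q, r, hr, ?_⟩
  rw [← hx']
  congr 1
  have hs0' : algebraMap K₂ E s ≠ 0 :=
    fun h => hs0 ((algebraMap K₂ E).injective (h.trans (map_zero _).symm))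
  rw [← hxs, map_mul, mul_div_assoc, div_self hs0', mul_one]

end A

end Groth.Agent.Lib.Seat10.SepStep
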