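import Mathlib
import Groth.Agent.Lib.Seat10ValDomA
import Groth.Agent.Lib.Seat10TowerC
import Groth.Agent.Lib.Seat10SepStepH

/-!
# The final combination (Seat 10)

`final_step`: inside a field `E` with valuation subring `𝒲`, subfields `K₂ ⊆ F`, `K₃ ⊆ M'`;
from the comparison of `𝒲 ∩ F` with `𝒲 ∩ M'` and of `𝒲 ∩ K₂` with `𝒲 ∩ K₃`, weak
unramifiedness and separability of the residue extension pass from `𝒲 ∩ K₂ → 𝒲 ∩ F` to
`𝒲 ∩ K₃ → 𝒲 ∩ M'`.
-/

set_option autoImplicit false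

universe u

namespace Groth.Agent.Lib.Seat10.SepStep

open IsLocalRing EtRam Groth.Agent.Lib.Seat10.ValDom Groth.Agent.Lib.Seat10.Tower

variable {E F M' K₂ K₃ : Type u} [Field E] [Field F] [Field M'] [Field K₂] [Field K₃]
  [Algebra F E] [Algebra M' E] [Algebra K₂ F] [Algebra K₃ M'] [Algebra K₂ E] [Algebra K₃ E]
  [IsScalarTower K₂ F E] [IsScalarTower K₃ M' E]

theorem final_wu (𝒲 : ValuationSubring E) (πE : E) (hπ : 𝒲.valuation πE < 1) (hπ0 : πE ≠ 0)
    (hπF : ∃ x : F, algebraMap F E x = πE)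
    (hG : ∃ x : F, 𝒲.valuation (algebraMap F E x) < 1 ∧
      (∀ x' : F, 𝒲.valuation (algebraMap F E x') < 1 →
        𝒲.valuation (algebraMap F E x') ≤ 𝒲.valuation (algebraMap F E x)) ∧
      ∀ w : M', 𝒲.valuation (algebraMap M' E w) < 1 →
        𝒲.valuation (algebraMap M' E w) ≤ 𝒲.valuation (algebraMap F E x))
    (hAppA : ∀ x₂ : K₂, algebraMap K₂ E x₂ ∈ 𝒲 → ∃ x₃ : K₃, ∃ r ∈ 𝒲,
      algebraMap K₃ E x₃ - algebraMap K₂ E x₂ = πE ^ 2 * r)
    (hWU₂ : WU (𝒲.comap (algebraMap F E)) (algebraMap K₂ F)) :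
    WU (𝒲.comap (algebraMap M' E)) (algebraMap K₃ M') := by
  obtain ⟨x, hxlt, hxmax, hxM⟩ := hG
  obtain ⟨πF, hπF⟩ := hπF
  have hπx : 𝒲.valuation πE ≤ 𝒲.valuation (algebraMap F E x) := by
    rw [← hπF]
    apply hxmax
    rw [hπF]
    exact hπ
  have hvπ0 : 𝒲.valuation πE ≠ 0 := (Valuation.ne_zero_iff _).mpr hπ0
  have hxW : x ∈ 𝒲.comap (algebraMap F E) := by
    rw [ValuationSubring.mem_comap, ← ValuationSubring.valuation_le_one_iff]
    exact hxlt.le
  obtain ⟨y₂, hy₂W, hy₂lt, c, hcW, hxc⟩ := hWU₂ x hxW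
    ((valuation_comap_lt_one_iff _ _ _).mpr hxlt)
  rw [valuation_comap_lt_one_iff] at hy₂lt
  have hy₂E : algebraMap F E (algebraMap K₂ F y₂) = algebraMap K₂ E y₂ :=
    (IsScalarTower.algebraMap_apply K₂ F E y₂).symm
  have hvy₂ : 𝒲.valuation (algebraMap K₂ E y₂) = 𝒲.valuation (algebraMap F E x) := by
    apply le_antisymm
    · rw [← hy₂E]
      exact hxmax _ hy₂lt
    · rw [hxc, map_mul, map_mul, hy₂E]
      have hc1 : 𝒲.valuation (algebraMap F E c) ≤ 1 := (𝒲.valuation_le_one_iff _).mpr hcW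
      exact mul_le_of_le_one_left' hc1
  have hy₂W' : algebraMap K₂ E y₂ ∈ 𝒲 := by
    rw [← hy₂E]; exact hy₂W
  obtain ⟨y₃, r, hr, hy₃⟩ := hAppA y₂ hy₂W'
  have hsmall : 𝒲.valuation (πE ^ 2 * r) < 𝒲.valuation (algebraMap K₂ E y₂) := by
    rw [hvy₂]
    refine lt_of_lt_of_le ?_ hπx
    rw [map_mul, map_pow, pow_two, mul_assoc]
    have hr1 : 𝒲.valuation r ≤ 1 := (𝒲.valuation_le_one_iff _).mpr hr
    have h1 : 𝒲.valuation πE * 𝒲.valuation r < 1 := mul_lt_one_of_lt_of_le hπ hr1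
    calc 𝒲.valuation πE * (𝒲.valuation πE * 𝒲.valuation r)
        < 𝒲.valuation πE * 1 := by
          exact mul_lt_mul_of_pos_left h1 (zero_lt_iff.mpr hvπ0)
      _ = 𝒲.valuation πE := mul_one _
  have hvy₃ : 𝒲.valuation (algebraMap K₃ E y₃) = 𝒲.valuation (algebraMap F E x) := by
    have h1 : algebraMap K₃ E y₃ = algebraMap K₂ E y₂ + πE ^ 2 * r := by
      rw [← hy₃]; ring
    rw [h1, ← hvy₂]
    exact Valuation.map_add_eq_of_lt_left _ hsmall
  have hy₃E : algebraMap M' E (algebraMap K₃ M' y₃) = algebraMap K₃ E y₃ :=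
    (IsScalarTower.algebraMap_apply K₃ M' E y₃).symm
  have hvx0 : 𝒲.valuation (algebraMap F E x) ≠ 0 := by
    intro h
    rw [h] at hπx
    exact hvπ0 (le_antisymm hπx zero_le)
  have hy₃0 : algebraMap K₃ M' y₃ ≠ 0 := by
    intro h
    rw [h, map_zero] at hy₃E
    rw [← hy₃E, map_zero] at hvy₃
    exact hvx0 hvy₃.symm
  intro w hw hwlt
  rw [valuation_comap_lt_one_iff] at hwlt
  have hwle := hxM w hwlt
  refine ⟨y₃, ?_, ?_, w / algebraMap K₃ M' y₃, ?_, ?_⟩
  · rw [ValuationSubring.mem_comap, hy₃E, ← ValuationSubring.valuation_le_one_iff, hvy₃]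
    exact hxlt.le
  · rw [valuation_comap_lt_one_iff, hy₃E, hvy₃]
    exact hxlt
  · rw [ValuationSubring.mem_comap, map_div₀, hy₃E, ← ValuationSubring.valuation_le_one_iff,
      map_div₀, hvy₃]
    exact div_le_one_of_le₀ hwle zero_le
  · rw [div_mul_cancel₀ _ hy₃0]

theorem final_res (𝒲 : ValuationSubring E) (πE : E) (hπ : 𝒲.valuation πE < 1)
    (hR1 : ∀ x₃ : M', algebraMap M' E x₃ ∈ 𝒲 → ∃ x₂ : F, algebraMap F E x₂ ∈ 𝒲 ∧
      𝒲.valuation (algebraMap M' E x₃ - algebraMap F E x₂) < 1)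
    (hR2 : ∀ x₃ : K₃, algebraMap K₃ E x₃ ∈ 𝒲 → ∃ x₂ : K₂, algebraMap K₂ E x₂ ∈ 𝒲 ∧
      𝒲.valuation (algebraMap K₃ E x₃ - algebraMap K₂ E x₂) < 1)
    (hAppA : ∀ x₂ : K₂, algebraMap K₂ E x₂ ∈ 𝒲 → ∃ x₃ : K₃, ∃ r ∈ 𝒲,
      algebraMap K₃ E x₃ - algebraMap K₂ E x₂ = πE ^ 2 * r)
    (hres₂ : @Algebra.IsGeometricallyReduced
      (ResidueField ((𝒲.comap (algebraMap F E)).comap (algebraMap K₂ F)))
      (ResidueField (𝒲.comap (algebraMap F E))) _ _
      (ResidueField.map (inclOfComap (𝒲.comap (algebraMap F E)) (algebraMap K₂ F))).toAlgebra) :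
    @Algebra.IsGeometricallyReduced
      (ResidueField ((𝒲.comap (algebraMap M' E)).comap (algebraMap K₃ M')))
      (ResidueField (𝒲.comap (algebraMap M' E))) _ _
      (ResidueField.map (inclOfComap (𝒲.comap (algebraMap M' E)) (algebraMap K₃ M'))).toAlgebra := by
  -- residues in `𝒲` of elements with small difference agree
  have hres : ∀ (u v : 𝒲), 𝒲.valuation ((u : E) - (v : E)) < 1 → residue 𝒲 u = residue 𝒲 v := by
    intro u v h
    rw [← sub_eq_zero, ← map_sub, residue_eq_zero_iff, ValuationSubring.valuation_lt_one_iff]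
    exact h
  have hπW : πE ∈ 𝒲 := (𝒲.valuation_le_one_iff _).mp hπ.le
  refine isGeometricallyReduced_transfer
    (ResidueField.map (inclOfComap (𝒲.comap (algebraMap F E)) (algebraMap K₂ F)))
    (ResidueField.map (inclOfComap (𝒲.comap (algebraMap M' E)) (algebraMap K₃ M')))
    (ResidueField.map (inclOfComap 𝒲 (algebraMap F E)))
    (ResidueField.map (inclOfComap 𝒲 (algebraMap M' E))) ?_ ?_ hres₂
  · ext z
    constructor
    · rintro ⟨y, rfl⟩
      obtain ⟨x, rfl⟩ := residue_surjective y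
      have hxW : algebraMap K₂ E (x : K₂) ∈ 𝒲 := by
        have h1 : algebraMap F E (algebraMap K₂ F (x : K₂)) ∈ 𝒲 := x.2
        rwa [← IsScalarTower.algebraMap_apply] at h1
      obtain ⟨x₃, r, hr, hx₃⟩ := hAppA (x : K₂) hxW
      have hx₃W : algebraMap K₃ E x₃ ∈ 𝒲 := by
        have : algebraMap K₃ E x₃ = algebraMap K₂ E (x : K₂) + πE ^ 2 * r := by
          rw [← hx₃]; ring
        rw [this]
        exact add_mem hxW (mul_mem (pow_mem hπW 2) hr)
      have hx₃W' : x₃ ∈ (𝒲.comap (algebraMap M' E)).comap (algebraMap K₃ M') := by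
        rw [ValuationSubring.mem_comap, ValuationSubring.mem_comap,
          ← IsScalarTower.algebraMap_apply]
        exact hx₃W
      refine ⟨residue _ ⟨x₃, hx₃W'⟩, ?_⟩
      simp only [RingHom.comp_apply, ResidueField.map_residue]
      apply hres
      show 𝒲.valuation (algebraMap M' E (algebraMap K₃ M' x₃) -
        algebraMap F E (algebraMap K₂ F (x : K₂))) < 1
      rw [← IsScalarTower.algebraMap_apply, ← IsScalarTower.algebraMap_apply, hx₃, map_mul,
        map_pow]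
      have hr1 : 𝒲.valuation r ≤ 1 := (𝒲.valuation_le_one_iff _).mpr hr
      have h2 : 𝒲.valuation πE ^ 2 < 1 := pow_lt_one₀ zero_le hπ (by norm_num)
      exact mul_lt_one_of_lt_of_le h2 hr1
    · rintro ⟨y, rfl⟩
      obtain ⟨x, rfl⟩ := residue_surjective y
      have hxW : algebraMap K₃ E (x : K₃) ∈ 𝒲 := by
        have h1 : algebraMap M' E (algebraMap K₃ M' (x : K₃)) ∈ 𝒲 := x.2
        rwa [← IsScalarTower.algebraMap_apply] at h1
      obtain ⟨x₂, hx₂W, hlt⟩ := hR2 (x : K₃) hxW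
      have hx₂W' : x₂ ∈ (𝒲.comap (algebraMap F E)).comap (algebraMap K₂ F) := by
        rw [ValuationSubring.mem_comap, ValuationSubring.mem_comap,
          ← IsScalarTower.algebraMap_apply]
        exact hx₂W
      refine ⟨residue _ ⟨x₂, hx₂W'⟩, ?_⟩
      simp only [RingHom.comp_apply, ResidueField.map_residue]
      apply hres
      show 𝒲.valuation (algebraMap F E (algebraMap K₂ F x₂) -
        algebraMap M' E (algebraMap K₃ M' (x : K₃))) < 1
      rw [← IsScalarTower.algebraMap_apply, ← IsScalarTower.algebraMap_apply,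
        ← Valuation.map_neg, neg_sub]
      exact hlt
  · rintro z ⟨y, rfl⟩
    obtain ⟨x, rfl⟩ := residue_surjective y
    obtain ⟨x₂, hx₂W, hlt⟩ := hR1 (x : M') x.2
    refine ⟨residue _ ⟨x₂, hx₂W⟩, ?_⟩
    simp only [ResidueField.map_residue]
    apply hres
    show 𝒲.valuation (algebraMap F E x₂ - algebraMap M' E (x : M')) < 1
    rw [← Valuation.map_neg, neg_sub]
    exact hlt

end Groth.Agent.Lib.Seat10.SepStep
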