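import Mathlib
import Groth.Agent.Lib.Seat10TowerH
import Groth.Agent.Lib.Seat10SepStepF
import Groth.Agent.Lib.Seat10SepStepK
import Groth.Agent.Lib.Seat10SepStepL
import Groth.Agent.Lib.Seat10SepStepM

/-!
# The local step: `K₃` is a solution (Seat 10)

`local_step`: with all the global data fixed (conductor exponent `c₀`, the generator `α` of
`K₂/K₁`, the root `β` of `X^p - π^(p(c₀+2)) X - a` generating `K₃`), the extension `K₃` is a
solution for `A ⊆ B`.
-/

set_option autoImplicit false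

universe u

namespace Groth.Agent.Lib.Seat10.SepStep

open IsLocalRing EtRam Groth.Agent.Lib.Seat10.ValDom Groth.Agent.Lib.Seat10.Tower Polynomial

/-- `E = F[K₃]` -/
theorem adjoin_compF_eq_top {K₁ L K₂ K₃ M' E : Type u} [Field K₁] [Field L] [Field K₂] [Field K₃]
    [Field M'] [Field E] [Algebra L M'] [Algebra K₃ M'] [Algebra M' E] [Algebra K₂ E]
    [Algebra L E] [IsScalarTower L M' E] [Algebra K₃ E] [IsScalarTower K₃ M' E]
    (hgen : Algebra.adjoin L (Set.range (algebraMap K₃ M')) = ⊤)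
    (hadjE : Algebra.adjoin M' (Set.range (algebraMap K₂ E)) = ⊤) :
    Algebra.adjoin (compF L K₂ E) (Set.range (algebraMap K₃ E)) = ⊤ := by
  rw [eq_top_iff]
  rintro z -
  have hz : z ∈ Algebra.adjoin M' (Set.range (algebraMap K₂ E)) := by rw [hadjE]; trivial
  induction hz using Algebra.adjoin_induction with
  | mem x hx =>
    obtain ⟨k, rfl⟩ := hx
    exact Subalgebra.algebraMap_mem _ (algebraMap K₂ (compF L K₂ E) k)
  | algebraMap m =>
    have hm : m ∈ Algebra.adjoin L (Set.range (algebraMap K₃ M')) := by rw [hgen]; trivial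
    induction hm using Algebra.adjoin_induction with
    | mem x hx =>
      obtain ⟨k, rfl⟩ := hx
      rw [← IsScalarTower.algebraMap_apply]
      exact Algebra.subset_adjoin ⟨k, rfl⟩
    | algebraMap l =>
      rw [← IsScalarTower.algebraMap_apply]
      exact Subalgebra.algebraMap_mem _ (algebraMap L (compF L K₂ E) l)
    | add x y _ _ hx hy => rw [map_add]; exact add_mem hx hy
    | mul x y _ _ hx hy => rw [map_mul]; exact mul_mem hx hy
  | add x y _ _ hx hy => exact add_mem hx hy
  | mul x y _ _ hx hy => exact mul_mem hx hy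

/-- `[E : M'] ≥ p` when `a` has no `p`-th root in `M'` -/
theorem le_finrank_of_pow_ne {M' E : Type u} [Field M'] [Field E] [Algebra M' E]
    [FiniteDimensional M' E] (p : ℕ) (hp : p.Prime) (a : M') (ha : ∀ b : M', b ^ p ≠ a)
    (αE : E) (hα : αE ^ p = algebraMap M' E a) : p ≤ Module.finrank M' E := by
  have hirr : Irreducible (X ^ p - C a : M'[X]) := X_pow_sub_C_irreducible_of_prime hp ha
  have hmonic : (X ^ p - C a : M'[X]).Monic := monic_X_pow_sub_C a hp.ne_zero
  have hroot : aeval αE (X ^ p - C a : M'[X]) = 0 := by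
    rw [map_sub, map_pow, aeval_X, aeval_C, hα, sub_self]
  have hmin : (X ^ p - C a : M'[X]) = minpoly M' αE :=
    minpoly.eq_of_irreducible_of_monic hirr hroot hmonic
  have h1 : (minpoly M' αE).natDegree = p := by rw [← hmin, natDegree_X_pow_sub_C]
  rw [← h1]
  exact minpoly.natDegree_le αE

theorem local_step (p : ℕ) (hp : p.Prime)
    {A B K L K₁ K₂ K₃ : Type u} [CommRing A] [IsDomain A] [IsDiscreteValuationRing A]
    [CommRing B] [IsDomain B] [IsDiscreteValuationRing B]
    [Algebra A B] [IsLocalHom (algebraMap A B)] (hinj : Function.Injective (algebraMap A B))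
    [Field K] [Field L] [Algebra A K] [IsFractionRing A K] [Algebra B L] [IsFractionRing B L]
    [Algebra K L] [Algebra A L] [IsScalarTower A K L] [IsScalarTower A B L] [CharP K p]
    [Algebra.IsGeometricallyReduced K L] (hN2 : CAlg.IsN2 B)
    [Field K₁] [Field K₂] [Algebra K K₁] [Algebra K K₂] [Algebra K₁ K₂] [IsScalarTower K K₁ K₂]
    [FiniteDimensional K K₁] [FiniteDimensional K₁ K₂] (hsol : EtRam.IsSolution B K L K₂)
    (hdeg : Module.finrank K₁ K₂ = p)
    (hpowK : ∀ k : K₂, ∃ k₁ : K₁, algebraMap K₁ K₂ k₁ = k ^ p)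
    [Algebra A K₁] [IsScalarTower A K K₁] [Algebra A K₂] [IsScalarTower A K K₂]
    [IsScalarTower A K₁ K₂]
    (hfinA₂ : Module.Finite A (integralClosure A K₂))
    [Field K₃] [Algebra K K₃] [Algebra K₁ K₃] [IsScalarTower K K₁ K₃] [FiniteDimensional K₁ K₃]
    (hdeg₃ : Module.finrank K₁ K₃ ≤ p)
    (πA : A) (hπA : Irreducible πA)
    {J : Type u} [Fintype J] (κ : J → K₁) (hκ : ∀ j, IsIntegral A (κ j))
    (α : K₂) (hαint : IsIntegral A α) (a : K₁) (hαp : α ^ p = algebraMap K₁ K₂ a)
    (ha₃ : ∀ b : K₃, b ^ p ≠ algebraMap K₁ K₃ a)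
    (c₀ : ℕ)
    (hcondB : ∀ (E : Type u) [Field E] [Algebra L E] [Algebra K₂ E] [Algebra K E]
      [IsScalarTower K L E] [IsScalarTower K K₂ E] [Algebra B E] [IsScalarTower B L E] (y : E),
      y ∈ Algebra.adjoin L (Set.range (algebraMap K₂ E)) → IsIntegral B y →
      ∃ b : Fin p × J → B, algebraMap B E ((algebraMap A B πA) ^ c₀) * y =
        ∑ ij, algebraMap B E (b ij) *
          algebraMap K₂ E (algebraMap K₁ K₂ (κ ij.2) * α ^ (ij.1 : ℕ)))
    (hcondA : ∀ y : K₂, IsIntegral A y → ∃ a' : Fin p × J → A,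
      algebraMap A K₂ (πA ^ c₀) * y =
        ∑ ij, algebraMap A K₂ (a' ij) * (algebraMap K₁ K₂ (κ ij.2) * α ^ (ij.1 : ℕ)))
    (β : K₃) (hβ : β ^ p = algebraMap K₁ K₃ (algebraMap A K₁ (πA ^ (p * (c₀ + 2)))) * β +
      algebraMap K₁ K₃ a) :
    EtRam.IsSolution B K L K₃ := by
  intro M' _ _ _ _ _ _ hgen W hW
  have hfact : Fact p.Prime := ⟨hp⟩
  have hfinKK₂ : FiniteDimensional K K₂ := FiniteDimensional.trans K K₁ K₂
  have hfinKK₃ : FiniteDimensional K K₃ := FiniteDimensional.trans K K₁ K₃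
  -- `K₁`-algebra structure on `M'`
  letI algK₁M : Algebra K₁ M' := ((algebraMap K₃ M').comp (algebraMap K₁ K₃)).toAlgebra
  haveI tK₁K₃M : IsScalarTower K₁ K₃ M' := IsScalarTower.of_algebraMap_eq fun _ => rfl
  haveI tKK₁M : IsScalarTower K K₁ M' := IsScalarTower.of_algebraMap_eq fun k => by
    show algebraMap K M' k = algebraMap K₃ M' (algebraMap K₁ K₃ (algebraMap K K₁ k))
    rw [← IsScalarTower.algebraMap_apply K K₁ K₃, ← IsScalarTower.algebraMap_apply K K₃ M']
  letI algBM : Algebra B M' := ((algebraMap L M').comp (algebraMap B L)).toAlgebra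
  haveI tBLM : IsScalarTower B L M' := IsScalarTower.of_algebraMap_eq fun _ => rfl
  -- the compositum `E`
  obtain ⟨E, _, _, _, _, _, _, hfinM'E, hadjE⟩ := exists_field_compositum K₁ M' K₂
  letI algLE : Algebra L E := ((algebraMap M' E).comp (algebraMap L M')).toAlgebra
  haveI tLME : IsScalarTower L M' E := IsScalarTower.of_algebraMap_eq fun _ => rfl
  letI algK₃E : Algebra K₃ E := ((algebraMap M' E).comp (algebraMap K₃ M')).toAlgebra
  haveI tK₃ME : IsScalarTower K₃ M' E := IsScalarTower.of_algebraMap_eq fun _ => rfl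
  letI algKE : Algebra K E := ((algebraMap M' E).comp (algebraMap K M')).toAlgebra
  haveI tKME : IsScalarTower K M' E := IsScalarTower.of_algebraMap_eq fun _ => rfl
  haveI tKLE : IsScalarTower K L E := IsScalarTower.of_algebraMap_eq fun k => by
    show algebraMap M' E (algebraMap K M' k) = algebraMap M' E (algebraMap L M' (algebraMap K L k))
    rw [← IsScalarTower.algebraMap_apply K L M']
  haveI tKK₁E : IsScalarTower K K₁ E := IsScalarTower.of_algebraMap_eq fun k => by
    show algebraMap M' E (algebraMap K M' k) = algebraMap K₁ E (algebraMap K K₁ k)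
    rw [IsScalarTower.algebraMap_apply K K₁ M', ← IsScalarTower.algebraMap_apply K₁ M' E]
  haveI tKK₂E : IsScalarTower K K₂ E := IsScalarTower.of_algebraMap_eq fun k => by
    rw [IsScalarTower.algebraMap_apply K K₁ K₂, ← IsScalarTower.algebraMap_apply K₁ K₂ E,
      ← IsScalarTower.algebraMap_apply K K₁ E]
  haveI tK₁K₃E : IsScalarTower K₁ K₃ E := IsScalarTower.of_algebraMap_eq fun k => by
    show algebraMap K₁ E k = algebraMap M' E (algebraMap K₃ M' (algebraMap K₁ K₃ k))
    rw [← IsScalarTower.algebraMap_apply K₁ K₃ M', ← IsScalarTower.algebraMap_apply K₁ M' E]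
  letI algBE : Algebra B E := ((algebraMap L E).comp (algebraMap B L)).toAlgebra
  haveI tBLE : IsScalarTower B L E := IsScalarTower.of_algebraMap_eq fun _ => rfl
  haveI tBME : IsScalarTower B M' E := IsScalarTower.of_algebraMap_eq fun _ => rfl
  letI algAE : Algebra A E := ((algebraMap K₁ E).comp (algebraMap A K₁)).toAlgebra
  haveI tAK₁E : IsScalarTower A K₁ E := IsScalarTower.of_algebraMap_eq fun _ => rfl
  haveI tAK₂E : IsScalarTower A K₂ E := IsScalarTower.of_algebraMap_eq fun x => by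
    show algebraMap K₁ E (algebraMap A K₁ x) = algebraMap K₂ E (algebraMap A K₂ x)
    rw [IsScalarTower.algebraMap_apply A K₁ K₂, ← IsScalarTower.algebraMap_apply K₁ K₂ E]
  have hAB_E : ∀ x : A, algebraMap A E x = algebraMap B E (algebraMap A B x) := by
    intro x
    show algebraMap K₁ E (algebraMap A K₁ x) =
      algebraMap M' E (algebraMap L M' (algebraMap B L (algebraMap A B x)))
    rw [IsScalarTower.algebraMap_apply A K K₁, ← IsScalarTower.algebraMap_apply K K₁ E,
      IsScalarTower.algebraMap_apply K L E, ← IsScalarTower.algebraMap_apply A K L,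
      IsScalarTower.algebraMap_apply A B L]
    rfl
  -- the valuation subring `𝒲`
  obtain ⟨𝒲, h𝒲W⟩ := exists_comap_eq W (algebraMap M' E)
  subst h𝒲W
  have hdomB : Dominates B (algebraMap B E) 𝒲 :=
    (dominates_comp_iff ((algebraMap L M').comp (algebraMap B L)) (algebraMap M' E) 𝒲).mpr hW
  have hfinLM' : FiniteDimensional L M' := finiteDimensional_of_adjoin_eq_top K hgen
  have hfinLE : FiniteDimensional L E := FiniteDimensional.trans L M' E
  have h𝒲dvr : IsDiscreteValuationRing 𝒲 :=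
    isDiscreteValuationRing_of_dominates_finite B L 𝒲 hdomB
  have hcharE : CharP E p := charP_of_injective_algebraMap (algebraMap K E).injective p
  -- the elements
  have hπAm : πA ∈ maximalIdeal A := by
    rw [hπA.maximalIdeal_eq]; exact Ideal.mem_span_singleton_self _
  have hπBm : algebraMap A B πA ∈ maximalIdeal B := by
    rw [mem_maximalIdeal, mem_nonunits_iff]
    intro hu
    exact hπA.not_isUnit (isUnit_of_map_unit (algebraMap A B) πA hu)
  have hπlt : 𝒲.valuation (algebraMap B E (algebraMap A B πA)) < 1 := hdomB.2 _ hπBm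
  have hinjBE : Function.Injective (algebraMap B E) :=
    (algebraMap L E).injective.comp (IsFractionRing.injective B L)
  have hπ0 : algebraMap B E (algebraMap A B πA) ≠ 0 := by
    intro h
    exact hπA.ne_zero (hinj (hinjBE (h.trans (map_zero _).symm) |>.trans (map_zero _).symm))
  have hπW : algebraMap B E (algebraMap A B πA) ∈ 𝒲 := hdomB.1 _
  have hAW : ∀ x : A, algebraMap A E x ∈ 𝒲 := fun x => by rw [hAB_E]; exact hdomB.1 _
  have hαW : algebraMap K₂ E α ∈ 𝒲 :=
    Groth.Agent.Lib.Seat10.Insep.mem_of_isIntegralElem (algebraMap A E) 𝒲 hAW _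
      (hαint.map (IsScalarTower.toAlgHom A K₂ E))
  have hκW : ∀ j, algebraMap K₁ E (κ j) ∈ 𝒲 := fun j =>
    Groth.Agent.Lib.Seat10.Insep.mem_of_isIntegralElem (algebraMap A E) 𝒲 hAW _
      ((hκ j).map (IsScalarTower.toAlgHom A K₁ E))
  have hαpE : (algebraMap K₂ E α) ^ p = algebraMap K₁ E a := by
    rw [← map_pow, hαp, ← IsScalarTower.algebraMap_apply]
  have haW : algebraMap K₁ E a ∈ 𝒲 := by rw [← hαpE]; exact pow_mem hαW _
  have hβpE : (algebraMap K₃ E β) ^ p =
      (algebraMap B E (algebraMap A B πA)) ^ (p * (c₀ + 2)) * algebraMap K₃ E β +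
        algebraMap K₁ E a := by
    rw [← map_pow, hβ, map_add, map_mul, ← IsScalarTower.algebraMap_apply K₁ K₃ E,
      ← IsScalarTower.algebraMap_apply K₁ K₃ E, ← map_pow, ← map_pow, ← hAB_E]
    rfl
  obtain ⟨hβW, γ', hγ'W, hγ⟩ := gamma_mem 𝒲 p (algebraMap B E (algebraMap A B πA))
    (algebraMap K₂ E α) (algebraMap K₃ E β) (algebraMap K₁ E a) (c₀ + 2) hπW hπ0 haW hαpE hβpE
  -- B-side approximations
  have happB : ∀ x : compF L K₂ E, algebraMap (compF L K₂ E) E x ∈ 𝒲 → ∃ x₃ : M', ∃ r ∈ 𝒲,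
      algebraMap M' E x₃ - algebraMap (compF L K₂ E) E x =
        (algebraMap B E (algebraMap A B πA)) ^ 2 * r := by
    intro x hx
    obtain ⟨x', hx'Q, r, hr, hx'⟩ := approx_B hN2 𝒲 hdomB κ α p c₀ (algebraMap A B πA)
      (hcondB E) hκW hπlt hπ0 (algebraMap K₃ E β) γ' hαW hβW hγ'W hγ
      (algebraMap M' E).fieldRange
      (fun l => ⟨algebraMap L M' l, rfl⟩)
      (fun k => ⟨algebraMap K₁ M' k, (IsScalarTower.algebraMap_apply K₁ M' E k).symm⟩)
      ⟨algebraMap K₃ M' β, rfl⟩ x hx
    obtain ⟨x₃, rfl⟩ := hx'Q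
    exact ⟨x₃, r, hr, hx'⟩
  -- A-side approximations
  have hdomA : Dominates A (algebraMap A K₂) (𝒲.comap (algebraMap K₂ E)) := by
    rw [← dominates_comp_iff]
    refine ⟨fun x => ?_, fun x hx => ?_⟩
    · show algebraMap K₂ E (algebraMap A K₂ x) ∈ 𝒲
      rw [← IsScalarTower.algebraMap_apply A K₂ E]
      exact hAW x
    · show 𝒲.valuation (algebraMap K₂ E (algebraMap A K₂ x)) < 1
      rw [← IsScalarTower.algebraMap_apply A K₂ E, hAB_E]
      apply hdomB.2
      rw [mem_maximalIdeal, mem_nonunits_iff] at hx ⊢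
      exact fun hu => hx (isUnit_of_map_unit (algebraMap A B) x hu)
  have hπE : algebraMap K₂ E (algebraMap A K₂ πA) = algebraMap B E (algebraMap A B πA) := by
    rw [← IsScalarTower.algebraMap_apply A K₂ E, hAB_E]
  have happA : ∀ x : K₂, algebraMap K₂ E x ∈ 𝒲 → ∃ x₃ : K₃, ∃ r ∈ 𝒲,
      algebraMap K₃ E x₃ - algebraMap K₂ E x = (algebraMap B E (algebraMap A B πA)) ^ 2 * r := by
    intro x hx
    obtain ⟨x', hx'Q, r, hr, hx'⟩ := approx_A (K := K) hfinA₂ 𝒲 hdomA κ α p c₀ πA hcondA hκW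
      (algebraMap B E (algebraMap A B πA)) hπE hπlt hπ0 (algebraMap K₃ E β) γ' hαW hβW hγ'W hγ
      (algebraMap K₃ E).fieldRange
      (fun k => ⟨algebraMap K₁ K₃ k, (IsScalarTower.algebraMap_apply K₁ K₃ E k).symm⟩)
      ⟨β, rfl⟩ x hx
    obtain ⟨x₃, rfl⟩ := hx'Q
    exact ⟨x₃, r, hr, hx'⟩
  -- B-side comparison
  have hdomF : Dominates B ((algebraMap L (compF L K₂ E)).comp (algebraMap B L))
      (𝒲.comap (algebraMap (compF L K₂ E) E)) := by
    rw [← dominates_comp_iff]
    exact hdomB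
  have hdvrF : IsDiscreteValuationRing (𝒲.comap (algebraMap (compF L K₂ E) E)) :=
    isDiscreteValuationRing_of_dominates_finite B L _ hdomF
  have hdvrM : IsDiscreteValuationRing (𝒲.comap (algebraMap M' E)) :=
    isDiscreteValuationRing_of_dominates_finite B L _ hW
  have hfinBE : Module.Finite B (integralClosure B E) :=
    Groth.Agent.Lib.Helper14.IsN2.finite hN2 L E
  have hpowE : ∀ z : E, ∃ m : M', algebraMap M' E m = z ^ p :=
    pow_mem_range_of_adjoin p hadjE hpowK
  have hfinW := finite_of_pow_mem B L hfinBE (M' := M') p hp.pos hpowE hdomB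
  have hdegB : Module.finrank (compF L K₂ E) E ≤ Module.finrank M' E := by
    letI algK₁F : Algebra K₁ (compF L K₂ E) :=
      ((algebraMap K₂ (compF L K₂ E)).comp (algebraMap K₁ K₂)).toAlgebra
    haveI : IsScalarTower K₁ (compF L K₂ E) E := IsScalarTower.of_algebraMap_eq fun k => by
      show algebraMap K₁ E k = algebraMap K₂ E (algebraMap K₁ K₂ k)
      rw [← IsScalarTower.algebraMap_apply]
    have h1 : Module.finrank (compF L K₂ E) E ≤ Module.finrank K₁ K₃ :=
      Groth.Agent.Lib.Seat10.Insep.finrank_le_of_adjoin_eq_top K₁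
        (adjoin_compF_eq_top (K₁ := K₁) hgen hadjE)
    have haM : ∀ b : M', b ^ p ≠ algebraMap K₁ M' a := by
      intro b
      have hb : b ∈ Algebra.adjoin L (Set.range (algebraMap K₃ M')) := by rw [hgen]; trivial
      exact pow_ne_of_isGeometricallyReduced (K := K) (L := L) (K' := K₃) p hp
        (algebraMap K₁ K₃ a) ha₃ M' b hb
    have h2 : p ≤ Module.finrank M' E :=
      le_finrank_of_pow_ne p hp (algebraMap K₁ M' a) haM (algebraMap K₂ E α) (by
        rw [hαpE, ← IsScalarTower.algebraMap_apply])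
    exact h1.trans (hdeg₃.trans h2)
  obtain ⟨hG, hR1⟩ := cmp_val 𝒲 h𝒲dvr hdvrF hdvrM hfinW hdegB
    (algebraMap B (compF L K₂ E) (algebraMap A B πA)) hπlt happB
  -- A-side comparison
  have hdomGen : ∀ (Q : Type u) [Field Q] [Algebra K Q] [Algebra Q E] [IsScalarTower K Q E],
      Dominates A ((algebraMap K Q).comp (algebraMap A K)) (𝒲.comap (algebraMap Q E)) := by
    intro Q _ _ _ _
    have hcomp : ∀ x : A, algebraMap Q E (algebraMap K Q (algebraMap A K x)) =
        algebraMap B E (algebraMap A B x) := by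
      intro x
      rw [← IsScalarTower.algebraMap_apply K Q E, ← hAB_E]
      show _ = algebraMap K₁ E (algebraMap A K₁ x)
      rw [IsScalarTower.algebraMap_apply A K K₁, ← IsScalarTower.algebraMap_apply K K₁ E]
    rw [← dominates_comp_iff]
    refine ⟨fun x => ?_, fun x hx => ?_⟩
    · show algebraMap Q E (algebraMap K Q (algebraMap A K x)) ∈ 𝒲
      rw [hcomp]
      exact hdomB.1 _
    · show 𝒲.valuation (algebraMap Q E (algebraMap K Q (algebraMap A K x))) < 1
      rw [hcomp]
      apply hdomB.2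
      rw [mem_maximalIdeal, mem_nonunits_iff] at hx ⊢
      exact fun hu => hx (isUnit_of_map_unit (algebraMap A B) x hu)
  have hdvrK₂ : IsDiscreteValuationRing (𝒲.comap (algebraMap K₂ E)) :=
    isDiscreteValuationRing_of_dominates_finite A K _ (hdomGen K₂)
  have hdvrK₃ : IsDiscreteValuationRing (𝒲.comap (algebraMap K₃ E)) := by
    haveI : IsScalarTower K K₃ E := IsScalarTower.of_algebraMap_eq fun k => by
      show algebraMap M' E (algebraMap K M' k) = algebraMap M' E (algebraMap K₃ M' (algebraMap K K₃ k))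
      rw [← IsScalarTower.algebraMap_apply K K₃ M']
    exact isDiscreteValuationRing_of_dominates_finite A K _ (hdomGen K₃)
  have hdvrK₁ : IsDiscreteValuationRing
      ((𝒲.comap (algebraMap K₂ E)).comap (algebraMap K₁ K₂)) := by
    have h1 : (𝒲.comap (algebraMap K₂ E)).comap (algebraMap K₁ K₂) =
        𝒲.comap (algebraMap K₁ E) := by
      ext x
      rw [ValuationSubring.mem_comap, ValuationSubring.mem_comap, ValuationSubring.mem_comap,
        ← IsScalarTower.algebraMap_apply]
    rw [h1]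
    exact isDiscreteValuationRing_of_dominates_finite A K _ (hdomGen K₁)
  have hfinV := finite_of_pow_mem A K hfinA₂ (M' := K₁) p hp.pos hpowK hdomA
  have hdegA : Module.finrank K₁ K₃ ≤ Module.finrank K₁ K₂ := hdeg₃.trans hdeg.ge
  have hπltA : 𝒲.valuation (algebraMap K₂ E (algebraMap A K₂ πA)) < 1 := by rw [hπE]; exact hπlt
  have happA' : ∀ x : K₂, algebraMap K₂ E x ∈ 𝒲 → ∃ x₃ : K₃, ∃ r ∈ 𝒲,
      algebraMap K₃ E x₃ - algebraMap K₂ E x =
        (algebraMap K₂ E (algebraMap A K₂ πA)) ^ 2 * r := by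
    rw [hπE]; exact happA
  have hR2 := cmp'_val 𝒲 h𝒲dvr hdvrK₁ hdvrK₂ hdvrK₃ hfinV hdegA (algebraMap A K₂ πA) hπltA happA'
  -- the solution `K₂`
  haveI : Algebra.IsAlgebraic L E := Algebra.IsAlgebraic.of_finite L E
  obtain ⟨hwu₂, hres₂⟩ := hsol (compF L K₂ E) (compF_adjoin_eq_top L K₂ E)
    (𝒲.comap (algebraMap (compF L K₂ E) E)) hdomF
  refine ⟨(isWeaklyUnramified_iff _ _).mpr ?_, ?_⟩
  · exact final_wu 𝒲 (algebraMap B E (algebraMap A B πA)) hπlt hπ0
      ⟨algebraMap B (compF L K₂ E) (algebraMap A B πA), rfl⟩ hG happA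
      ((isWeaklyUnramified_iff _ _).mp hwu₂)
  · exact final_res 𝒲 (algebraMap B E (algebraMap A B πA)) hπlt hR1 hR2 happA hres₂

end Groth.Agent.Lib.Seat10.SepStep
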