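import Mathlib
import Groth.Agent.Lib.Seat10InsepA

/-!
# Global choices for the separable-solution step (Seat 10)

* `exists_generator`: an `A`-integral generator `α` of a purely inseparable degree-`p` extension
  `K₂/K₁` with `α^p = a ∈ K₁`, `a` not a `p`-th power in `K₁`.
* `span_mul_pow_eq_top`: the products `κ_j α^i` span `K₂` over `K`.
-/

set_option autoImplicit false

universe u

namespace Groth.Agent.Lib.Seat10.SepStep

open Polynomial

section gen

variable (A K : Type u) {K₁ K₂ : Type u} [CommRing A] [IsDomain A] [Field K] [Algebra A K]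
  [IsFractionRing A K] [Field K₁] [Field K₂] [Algebra K K₁] [Algebra K K₂] [Algebra K₁ K₂]
  [IsScalarTower K K₁ K₂] [FiniteDimensional K K₁] [FiniteDimensional K₁ K₂]
  [Algebra A K₂] [IsScalarTower A K K₂] [Algebra A K₁] [IsScalarTower A K K₁]
  [IsScalarTower A K₁ K₂]

include K in
theorem exists_generator (p : ℕ) (hp : p.Prime) [CharP K p] [IsPurelyInseparable K₁ K₂]
    (hdeg : Module.finrank K₁ K₂ = p) :
    ∃ α : K₂, IsIntegral A α ∧ ∃ a : K₁, α ^ p = algebraMap K₁ K₂ a ∧ ∀ b : K₁, b ^ p ≠ a := by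
  classical
  have : Fact p.Prime := ⟨hp⟩
  have hfinKK₂ : FiniteDimensional K K₂ := FiniteDimensional.trans K K₁ K₂
  have hcharK₂ : CharP K₂ p := charP_of_injective_algebraMap (algebraMap K K₂).injective p
  -- an element outside `K₁`
  have hex : ∃ x₀ : K₂, ∀ k : K₁, algebraMap K₁ K₂ k ≠ x₀ := by
    by_contra hcon
    push Not at hcon
    have hbt : (⊥ : Subalgebra K₁ K₂) = ⊤ := by
      rw [eq_top_iff]
      rintro x -
      obtain ⟨k, hk⟩ := hcon x
      exact Algebra.mem_bot.mpr ⟨k, hk⟩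
    rw [Subalgebra.bot_eq_top_iff_finrank_eq_one, hdeg] at hbt
    exact hp.ne_one hbt
  obtain ⟨x₀, hx₀⟩ := hex
  obtain ⟨d, hd0, hd⟩ := exists_integral_multiples A K ({x₀} : Finset K₂)
  have hint : IsIntegral A (d • x₀) := hd x₀ (Finset.mem_singleton_self _)
  have hdK₁ : algebraMap A K₁ d ≠ 0 := by
    rw [IsScalarTower.algebraMap_apply A K K₁]
    intro h
    rw [map_eq_zero] at h
    exact hd0 (IsFractionRing.injective A K (h.trans (map_zero _).symm))
  have hnot : ∀ k : K₁, algebraMap K₁ K₂ k ≠ d • x₀ := by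
    intro k hk
    apply hx₀ ((algebraMap A K₁ d)⁻¹ * k)
    rw [map_mul, hk, Algebra.smul_def, IsScalarTower.algebraMap_apply A K₁ K₂, ← mul_assoc,
      ← map_mul, inv_mul_cancel₀ hdK₁, map_one, one_mul]
  obtain ⟨a, ha⟩ := Groth.Agent.Lib.Seat10.Insep.pow_mem_range_field (L := K₁) (M := K₂) p hp hdeg
    (d • x₀)
  refine ⟨d • x₀, hint, a, ha.symm, ?_⟩
  intro b hb
  apply hnot b
  apply frobenius_inj K₂ p
  show (algebraMap K₁ K₂ b) ^ p = (d • x₀) ^ p
  rw [← map_pow, hb, ha]

end gen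

section span

variable {K K₁ K₂ : Type u} [Field K] [Field K₁] [Field K₂] [Algebra K K₁] [Algebra K K₂]
  [Algebra K₁ K₂] [IsScalarTower K K₁ K₂]

theorem span_mul_pow_eq_top {J : Type*} [Fintype J] (bas : Module.Basis J K K₁) (p : ℕ)
    (hp : p.Prime) (hdeg : Module.finrank K₁ K₂ = p) (α : K₂) (a : K₁)
    (hαp : α ^ p = algebraMap K₁ K₂ a) (ha : ∀ b : K₁, b ^ p ≠ a) :
    Submodule.span K (Set.range fun ij : Fin p × J =>
      algebraMap K₁ K₂ (bas ij.2) * α ^ (ij.1 : ℕ)) = ⊤ := by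
  have hfin : FiniteDimensional K₁ K₂ := Module.finite_of_finrank_pos (by rw [hdeg]; exact hp.pos)
  have hirr : Irreducible (X ^ p - C a : K₁[X]) := X_pow_sub_C_irreducible_of_prime hp ha
  have hmonic : (X ^ p - C a : K₁[X]).Monic := monic_X_pow_sub_C a hp.ne_zero
  have hroot : aeval α (X ^ p - C a : K₁[X]) = 0 := by
    rw [map_sub, map_pow, aeval_X, aeval_C, hαp, sub_self]
  have hmin : (X ^ p - C a : K₁[X]) = minpoly K₁ α :=
    minpoly.eq_of_irreducible_of_monic hirr hroot hmonic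
  have hnat : (minpoly K₁ α).natDegree = p := by rw [← hmin, natDegree_X_pow_sub_C]
  have hli : LinearIndependent K₁ (fun i : Fin p => α ^ (i : ℕ)) :=
    (linearIndependent_pow (K := K₁) α).comp (Fin.cast hnat.symm) (Fin.cast_injective _)
  have hspan := hli.span_eq_top_of_card_eq_finrank' (by rw [Fintype.card_fin, hdeg])
  rw [eq_top_iff]
  rintro x -
  have hx : x ∈ Submodule.span K₁ (Set.range fun i : Fin p => α ^ (i : ℕ)) := by
    rw [hspan]; trivial
  obtain ⟨l, hl⟩ := (Submodule.mem_span_range_iff_exists_fun K₁).mp hx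
  rw [← hl]
  refine Submodule.sum_mem _ fun i _ => ?_
  rw [← bas.sum_repr (l i), Finset.sum_smul]
  refine Submodule.sum_mem _ fun j _ => ?_
  have h1 : (bas.repr (l i) j • bas j) • α ^ (i : ℕ) =
      bas.repr (l i) j • (algebraMap K₁ K₂ (bas j) * α ^ (i : ℕ)) := by
    rw [smul_assoc, Algebra.smul_def (bas j)]
  rw [h1]
  exact Submodule.smul_mem _ _ (Submodule.subset_span ⟨(i, j), rfl⟩)

end span

end Groth.Agent.Lib.Seat10.SepStep
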