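import Mathlib

/-!
# A subfield of index `p` under which a finite inseparable extension is purely inseparable (Seat 10)

`exists_index_p`: `K₂/K` finite, not separable, of exponential characteristic `p`; then there is an
intermediate field `F` with `K₂/F` purely inseparable of degree `p`.
-/

set_option autoImplicit false

universe u

namespace Groth.Agent.Lib.Seat10.SepStep

open Polynomial IntermediateField

theorem exists_index_p (K K₂ : Type u) [Field K] [Field K₂] [Algebra K K₂] [FiniteDimensional K K₂]
    (p : ℕ) [hexp : ExpChar K p] (hns : ¬Algebra.IsSeparable K K₂) :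
    p.Prime ∧ ∃ F : IntermediateField K K₂, IsPurelyInseparable F K₂ ∧ Module.finrank F K₂ = p := by
  classical
  -- `p` is prime
  have hp : p.Prime := by
    cases hexp with
    | zero =>
      exfalso
      exact hns inferInstance
    | prime hq => exact hq
  refine ⟨hp, ?_⟩
  have hfact : Fact p.Prime := ⟨hp⟩
  have hcharK : CharP K p := by
    cases hexp with
    | zero => exact absurd hp Nat.not_prime_one
    | prime hq => assumption
  have hcharK₂ : CharP K₂ p := charP_of_injective_algebraMap (algebraMap K K₂).injective p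
  let 𝒮 : Set (IntermediateField K K₂) := {F | IsPurelyInseparable F K₂ ∧ F ≠ ⊤}
  have hne : 𝒮.Nonempty := by
    refine ⟨separableClosure K K₂, inferInstance, ?_⟩
    intro h
    exact hns ((separableClosure.eq_top_iff K K₂).mp h)
  obtain ⟨F, ⟨hFpi, hFtop⟩, hFmin⟩ :=
    WellFounded.has_min (measure fun F : IntermediateField K K₂ => Module.finrank F K₂).wf 𝒮 hne
  have hexpF : ExpChar F p := expChar_of_injective_algebraMap (algebraMap K F).injective p
  -- an element outside `F`
  have hex : ∃ x : K₂, x ∉ F := by
    by_contra hcon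
    push Not at hcon
    exact hFtop (eq_top_iff.mpr fun x _ => hcon x)
  obtain ⟨x, hx⟩ := hex
  have hpow := IsPurelyInseparable.pow_mem F p x
  -- minimal exponent
  let n := Nat.find hpow
  have hn : x ^ p ^ n ∈ (algebraMap F K₂).range := Nat.find_spec hpow
  have hn0 : n ≠ 0 := by
    intro h0
    rw [h0, pow_zero, pow_one] at hn
    obtain ⟨w, hw⟩ := hn
    exact hx (hw ▸ w.2)
  obtain ⟨m, hm⟩ := Nat.exists_eq_succ_of_ne_zero hn0
  have hzF : x ^ p ^ m ∉ F := by
    intro h
    have : x ^ p ^ m ∈ (algebraMap F K₂).range := ⟨⟨_, h⟩, rfl⟩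
    have hle := Nat.find_min' hpow this
    omega
  have hzp : (x ^ p ^ m) ^ p ∈ (algebraMap F K₂).range := by
    have he : p ^ m * p = p ^ n := by rw [hm, pow_succ]
    rw [← pow_mul, he]
    exact hn
  set z := x ^ p ^ m with hz
  obtain ⟨y, hy⟩ := hzp
  -- the bigger field
  let F' : IntermediateField K K₂ := (IntermediateField.adjoin F {z}).restrictScalars K
  have hFF' : F ≤ F' := by
    intro w hw
    show w ∈ IntermediateField.adjoin F {z}
    exact (IntermediateField.adjoin F {z}).algebraMap_mem ⟨w, hw⟩
  have hzF' : z ∈ F' := IntermediateField.mem_adjoin_simple_self F z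
  have hlt : F < F' := lt_of_le_of_ne hFF' (fun h => hzF (h ▸ hzF'))
  have hF'pi : IsPurelyInseparable F' K₂ := by
    have hexpF' : ExpChar F' p := expChar_of_injective_algebraMap (algebraMap K F').injective p
    rw [isPurelyInseparable_iff_pow_mem F' p]
    intro w
    obtain ⟨k, v, hv⟩ := IsPurelyInseparable.pow_mem F p w
    exact ⟨k, ⟨(v : K₂), hFF' v.2⟩, hv⟩
  have hF'top : F' = ⊤ := by
    by_contra hF'
    have h1 : F' ∈ 𝒮 := ⟨hF'pi, hF'⟩
    have h2 := hFmin F' h1
    exact h2 (IntermediateField.finrank_lt_of_gt hlt)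
  have hadj : IntermediateField.adjoin F {z} = ⊤ :=
    IntermediateField.restrictScalars_eq_top_iff.mp hF'top
  -- the minimal polynomial of `z`
  have hyne : ∀ b : F, b ^ p ≠ y := by
    intro b hb
    apply hzF
    have h1 : (algebraMap F K₂ b) ^ p = z ^ p := by rw [← map_pow, hb, hy]
    have h2 : algebraMap F K₂ b = z := frobenius_inj K₂ p h1
    rw [← h2]
    exact b.2
  have hirr : Irreducible (X ^ p - C y : F[X]) := X_pow_sub_C_irreducible_of_prime hp hyne
  have hmonic : (X ^ p - C y : F[X]).Monic := monic_X_pow_sub_C y hp.ne_zero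
  have hroot : aeval z (X ^ p - C y : F[X]) = 0 := by
    rw [map_sub, map_pow, aeval_X, aeval_C, hy, sub_self]
  have hmin : (X ^ p - C y : F[X]) = minpoly F z :=
    minpoly.eq_of_irreducible_of_monic hirr hroot hmonic
  have hzint : IsIntegral F z := ⟨_, hmonic, hroot⟩
  refine ⟨F, hFpi, ?_⟩
  rw [← IntermediateField.finrank_top', ← hadj, IntermediateField.adjoin.finrank hzint, ← hmin,
    natDegree_X_pow_sub_C]

end Groth.Agent.Lib.Seat10.SepStep
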