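/-
Seat80: rings all of whose (finitely generated) ideals are flat = rings whose localizations at primes are
valuation rings.  A nonzero finitely generated flat ideal of a local ring is generated by a nonzerodivisor.
-/
import Mathlib
set_option autoImplicit false
universe u

namespace Groth.Agent.Lib.Seat80.FlatIdeals

section Local

variable {L : Type u} [CommRing L] [IsLocalRing L]

/-- a nonzero finitely generated flat ideal of a local ring is generated by a nonzerodivisor -/
theorem exists_generator (J : Ideal L) [Module.Finite L J] [Module.Flat L J] (hJ : J ≠ ⊥) :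
    ∃ c : L, J = Ideal.span {c} ∧ ∀ a : L, a * c = 0 → a = 0 := by
  classical
  have hfree : Module.Free L J := Module.free_of_flat_of_isLocalRing
  let b := Module.Free.chooseBasis L J
  -- the index type is a subsingleton
  have hsub : Subsingleton (Module.Free.ChooseBasisIndex L J) := by
    constructor
    intro i j
    by_contra hij
    have hrel : ((b j : J) : L) • b i + (-((b i : J) : L)) • b j = 0 := by
      apply Subtype.ext
      simp only [Submodule.coe_add, Submodule.coe_smul, smul_eq_mul, ZeroMemClass.coe_zero]
      ring
    have hli := b.linearIndependent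
    rw [linearIndependent_iff'] at hli
    have := hli {i, j} (fun k => if k = i then ((b j : J) : L) else -((b i : J) : L)) (by
      rw [Finset.sum_pair hij]
      simp only [if_true, if_neg (Ne.symm hij)]
      exact hrel) i (by simp)
    simp only [if_true] at this
    have h0 : b j = 0 := Subtype.ext this
    exact b.ne_zero j h0
  -- the index type is nonempty
  have hne : Nonempty (Module.Free.ChooseBasisIndex L J) := by
    by_contra hemp
    rw [not_nonempty_iff] at hemp
    apply hJ
    rw [eq_bot_iff]
    intro x hx
    have : (⟨x, hx⟩ : J) = 0 := by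
      have := b.repr.injective (a₁ := (⟨x, hx⟩ : J)) (a₂ := 0) (Subsingleton.elim _ _)
      exact this
    exact congrArg Subtype.val this
  obtain ⟨i⟩ := hne
  refine ⟨((b i : J) : L), ?_, ?_⟩
  · apply le_antisymm
    · intro x hx
      have hx' := b.sum_repr ⟨x, hx⟩
      rw [Fintype.sum_subsingleton _ i] at hx'
      have : x = b.repr ⟨x, hx⟩ i * ((b i : J) : L) := by
        have := congrArg Subtype.val hx'
        simpa using this.symm
      rw [this]
      exact Ideal.mul_mem_left _ _ (Ideal.subset_span rfl)
    · rw [Ideal.span_le]
      rintro _ rfl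
      exact (b i).2
  · intro a ha
    have : a • b i = 0 := by
      apply Subtype.ext
      simpa using ha
    have hli := b.linearIndependent
    rw [linearIndependent_iff'] at hli
    exact hli {i} (fun _ => a) (by simpa using this) i (by simp)

theorem local_domain_valuation
    (hflat : ∀ x y : L, Module.Flat L (Ideal.span ({x, y} : Set L))) :
    (∀ x y : L, x * y = 0 → x = 0 ∨ y = 0) ∧ ∀ x y : L, x ∣ y ∨ y ∣ x := by
  have hfin : ∀ x y : L, Module.Finite L (Ideal.span ({x, y} : Set L)) := fun x y =>
    Module.Finite.iff_fg.mpr (Submodule.fg_span (Set.toFinite {x, y}))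
  constructor
  · intro x y hxy
    by_contra hcon
    push Not at hcon
    obtain ⟨hx, hy⟩ := hcon
    have := hflat x x
    have := hfin x x
    have hJ : Ideal.span ({x, x} : Set L) ≠ ⊥ := by
      intro h
      have : x ∈ Ideal.span ({x, x} : Set L) := Ideal.subset_span (by simp)
      rw [h] at this
      exact hx this
    obtain ⟨c, hc, hreg⟩ := exists_generator _ hJ
    have hxc : x ∈ Ideal.span ({c} : Set L) := hc ▸ Ideal.subset_span (by simp)
    obtain ⟨t, ht⟩ := Ideal.mem_span_singleton'.mp hxc
    have hcx : c ∈ Ideal.span ({x, x} : Set L) := hc ▸ Ideal.subset_span (by simp)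
    rw [Set.pair_eq_singleton] at hcx
    obtain ⟨w, hw⟩ := Ideal.mem_span_singleton'.mp hcx
    have h1 : 1 - w * t = 0 := by
      apply hreg
      rw [sub_mul, one_mul, mul_assoc, ht, hw, sub_self]
    have h2 : t * y = 0 := by
      apply hreg
      rw [mul_comm t y, mul_assoc, ht, mul_comm, hxy]
    apply hy
    have : y = (w * t) * y := by
      rw [← sub_eq_zero.mp h1, one_mul]
    rw [this, mul_assoc, h2, mul_zero]
  · intro x y
    by_cases hx : x = 0
    · right; rw [hx]; exact dvd_zero y
    have := hflat x y
    have := hfin x y
    have hJ : Ideal.span ({x, y} : Set L) ≠ ⊥ := by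
      intro h
      have : x ∈ Ideal.span ({x, y} : Set L) := Ideal.subset_span (by simp)
      rw [h] at this
      exact hx this
    obtain ⟨c, hc, hreg⟩ := exists_generator _ hJ
    have hxc : x ∈ Ideal.span ({c} : Set L) := hc ▸ Ideal.subset_span (by simp)
    have hyc : y ∈ Ideal.span ({c} : Set L) := hc ▸ Ideal.subset_span (by simp)
    obtain ⟨x', hx'⟩ := Ideal.mem_span_singleton'.mp hxc
    obtain ⟨y', hy'⟩ := Ideal.mem_span_singleton'.mp hyc
    have hcx : c ∈ Ideal.span ({x, y} : Set L) := hc ▸ Ideal.subset_span (by simp)
    obtain ⟨α, β, hαβ⟩ := Ideal.mem_span_pair.mp hcx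
    have h1 : α * x' + β * y' = 1 := by
      have : (α * x' + β * y' - 1) * c = 0 := by
        rw [sub_mul, add_mul, one_mul, mul_assoc, mul_assoc, hx', hy', hαβ, sub_self]
      exact sub_eq_zero.mp (hreg _ this)
    rcases IsLocalRing.isUnit_or_isUnit_of_add_one h1 with h | h
    · have hu : IsUnit x' := isUnit_of_mul_isUnit_right h
      obtain ⟨v, rfl⟩ := hu
      left
      refine ⟨y' * ↑v⁻¹, ?_⟩
      rw [← hx', ← hy']
      calc y' * c = y' * (↑v⁻¹ * ↑v) * c := by rw [Units.inv_mul, mul_one]
        _ = ↑v * c * (y' * ↑v⁻¹) := by ring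
    · have hu : IsUnit y' := isUnit_of_mul_isUnit_right h
      obtain ⟨v, rfl⟩ := hu
      right
      refine ⟨x' * ↑v⁻¹, ?_⟩
      rw [← hx', ← hy']
      calc x' * c = x' * (↑v⁻¹ * ↑v) * c := by rw [Units.inv_mul, mul_one]
        _ = ↑v * c * (x' * ↑v⁻¹) := by ring

end Local

section Global

variable (A : Type u) [CommRing A]

theorem flat_span_pair_localization
    (h2 : ∀ I : Ideal A, I.FG → Module.Flat A I) (p : Ideal A) [p.IsPrime]
    (x y : Localization.AtPrime p) :
    Module.Flat (Localization.AtPrime p) (Ideal.span ({x, y} : Set (Localization.AtPrime p))) := by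
  obtain ⟨a, s, rfl⟩ := IsLocalization.exists_mk'_eq p.primeCompl x
  obtain ⟨b, t, rfl⟩ := IsLocalization.exists_mk'_eq p.primeCompl y
  set L := Localization.AtPrime p
  set I : Ideal A := Ideal.span {a, b} with hI
  have hIflat : Module.Flat A I := h2 I (Submodule.fg_span (Set.toFinite {a, b}))
  have hJ' : Module.Flat L (I.localized' L p.primeCompl (Algebra.linearMap A L)) :=
    Module.Flat.of_isLocalizedModule L p.primeCompl
      (I.toLocalized' L p.primeCompl (Algebra.linearMap A L))
  have heq : I.localized' L p.primeCompl (Algebra.linearMap A L) =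
      Ideal.span ({IsLocalization.mk' L a s, IsLocalization.mk' L b t} : Set L) := by
    rw [hI]
    change (Submodule.span A {a, b}).localized' L p.primeCompl (Algebra.linearMap A L) = _
    rw [Submodule.localized'_span, Set.image_pair]
    apply le_antisymm
    · apply Submodule.span_le.mpr
      rintro z (rfl | rfl)
      · have : (Algebra.linearMap A L) a = algebraMap A L s * IsLocalization.mk' L a s := by
          rw [IsLocalization.mk'_spec']; rfl
        rw [this]
        exact Ideal.mul_mem_left _ _ (Ideal.subset_span (by simp))
      · have : (Algebra.linearMap A L) b = algebraMap A L t * IsLocalization.mk' L b t := by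
          rw [IsLocalization.mk'_spec']; rfl
        rw [this]
        exact Ideal.mul_mem_left _ _ (Ideal.subset_span (by simp))
    · apply Ideal.span_le.mpr
      rintro z (rfl | rfl)
      · have : IsLocalization.mk' L a s = IsLocalization.mk' L 1 s * (Algebra.linearMap A L) a := by
          rw [Algebra.linearMap_apply, mul_comm, ← IsLocalization.mk'_eq_mul_mk'_one]
        rw [this]
        exact Ideal.mul_mem_left _ _ (Submodule.subset_span (by simp))
      · have : IsLocalization.mk' L b t = IsLocalization.mk' L 1 t * (Algebra.linearMap A L) b := by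
          rw [Algebra.linearMap_apply, mul_comm, ← IsLocalization.mk'_eq_mul_mk'_one]
        rw [this]
        exact Ideal.mul_mem_left _ _ (Submodule.subset_span (by simp))
  rw [← heq]
  exact hJ'

theorem tfae : List.TFAE [∀ I : Ideal A, Module.Flat A I,
      ∀ I : Ideal A, I.FG → Module.Flat A I,
      ∀ (M : Type u) [AddCommGroup M] [Module A M], Module.Flat A M → ∀ N : Submodule A M, Module.Flat A N,
      ∀ (p : Ideal A) [p.IsPrime], ∃ _ : IsDomain (Localization.AtPrime p), ValuationRing (Localization.AtPrime p)] := by
  tfae_have 1 → 2 := fun h I _ => h I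
  tfae_have 3 → 1 := fun h I => h A inferInstance I
  tfae_have 2 → 4 := by
    intro h2 p hp
    obtain ⟨hdom, hval⟩ := local_domain_valuation (L := Localization.AtPrime p)
      (flat_span_pair_localization A h2 p)
    have hnzd : NoZeroDivisors (Localization.AtPrime p) := ⟨fun {x y} h => hdom x y h⟩
    have hD : IsDomain (Localization.AtPrime p) := NoZeroDivisors.to_isDomain _
    refine ⟨hD, ?_⟩
    rw [ValuationRing.iff_dvd_total]
    exact ⟨hval⟩
  tfae_have 4 → 3 := by
    intro h4 M _ _ hM N
    apply Module.flat_of_localized_maximal
    intro P hP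
    obtain ⟨hD, hV⟩ := h4 P
    rw [← Module.flat_iff_of_isLocalization (Localization.AtPrime P) P.primeCompl]
    rw [Module.Flat.flat_iff_torsion_eq_bot_of_isBezout]
    have hMP : Submodule.torsion (Localization.AtPrime P) (LocalizedModule P.primeCompl M) = ⊥ :=
      Module.Flat.torsion_eq_bot
    have hinj : Function.Injective (LocalizedModule.map P.primeCompl N.subtype) :=
      LocalizedModule.map_injective P.primeCompl N.subtype N.injective_subtype
    rw [eq_bot_iff]
    intro x hx
    rw [Submodule.mem_torsion_iff] at hx
    obtain ⟨r, hr⟩ := hx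
    have h1 : LocalizedModule.map P.primeCompl N.subtype x ∈
        Submodule.torsion (Localization.AtPrime P) (LocalizedModule P.primeCompl M) := by
      rw [Submodule.mem_torsion_iff]
      refine ⟨r, ?_⟩
      rw [Submonoid.smul_def] at hr ⊢
      rw [← map_smul, hr, map_zero]
    rw [hMP] at h1
    have h2 : LocalizedModule.map P.primeCompl N.subtype x = 0 := h1
    rw [Submodule.mem_bot]
    exact hinj (h2.trans (map_zero _).symm)
  tfae_finish

end Global

end Groth.Agent.Lib.Seat80.FlatIdeals
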