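/-
Seat 69: étale algebras over valuation rings.
* `flat_of_flat_of_unramified`: `B` (essentially) finite type and formally unramified over `A`,
  `M` a `B`-module flat over `A` ⟹ `M` flat over `B` (separability idempotent retract).
* `ideal_flat`: ideals of a flat unramified algebra over a valuation ring are flat.
-/
import Mathlib
import Groth.Agent.Lib.Seat80FlatIdeals

set_option autoImplicit false
set_option linter.style.haveILetI false

namespace Groth.Agent.Lib.Seat69.ValEtale

open TensorProduct

section Separable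

variable {A B : Type*} [CommRing A] [CommRing B] [Algebra A B]
variable (M : Type*) [AddCommGroup M] [Module A M] [Module B M] [IsScalarTower A B M]

/-- the `A`-bilinear-in-`B ⊗ B` action map `(x ⊗ y, m) ↦ x ⊗ y • m`. -/
noncomputable def act : B ⊗[A] B →ₗ[A] M →ₗ[A] B ⊗[A] M :=
  TensorProduct.lift
    (LinearMap.mk₂ A (fun x y => (TensorProduct.mk A B M x) ∘ₗ (Algebra.lsmul A A M y))
      (by intro x x' y; ext m; simp)
      (by intro a x y; ext m; simp [smul_tmul'])
      (by intro x y y'; ext m; simp [tmul_add])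
      (by intro a x y; ext m; simp))

@[simp] lemma act_tmul (x y : B) (m : M) : act (A := A) M (x ⊗ₜ y) m = x ⊗ₜ (y • m) := by
  simp [act]

lemma act_mul_right (t : B ⊗[A] B) (b : B) (m : M) :
    act M t (b • m) = act M (t * (1 ⊗ₜ b)) m := by
  induction t using TensorProduct.induction_on with
  | zero => simp
  | tmul x y => simp [mul_smul]
  | add t t' h h' => simp [add_mul, h, h']

lemma smul_act (t : B ⊗[A] B) (b : B) (m : M) :
    b • act M t m = act M (t * (b ⊗ₜ 1)) m := by
  induction t using TensorProduct.induction_on with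
  | zero => simp
  | tmul x y => simp [smul_tmul', mul_comm]
  | add t t' h h' => simp [add_mul, h, h', smul_add]

lemma lift_act (t : B ⊗[A] B) (m : M) :
    (LinearMap.id (R := A) (M := M)).liftBaseChange B (act M t m) =
      (Algebra.TensorProduct.lmul' A t) • m := by
  induction t using TensorProduct.induction_on with
  | zero => simp
  | tmul x y => simp [mul_smul]
  | add t t' h h' => simp [h, h', add_smul]

theorem flat_of_flat_of_unramified [Algebra.EssFiniteType A B] [Algebra.FormallyUnramified A B]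
    [Module.Flat A M] : Module.Flat B M := by
  obtain ⟨t, ht1, ht2⟩ := Algebra.FormallyUnramified.iff_exists_tensorProduct.mp
    (inferInstance : Algebra.FormallyUnramified A B)
  let σ : M →ₗ[B] B ⊗[A] M :=
    { toFun := fun m => act M t m
      map_add' := fun m m' => map_add _ _ _
      map_smul' := fun b m => by
        simp only [RingHom.id_apply]
        rw [act_mul_right, smul_act]
        have := ht1 b
        rw [sub_mul, sub_eq_zero] at this
        rw [mul_comm t, mul_comm t, this] }
  have hret : ((LinearMap.id (R := A) (M := M)).liftBaseChange B) ∘ₗ σ = LinearMap.id := by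
    ext m
    simp only [LinearMap.coe_comp, Function.comp_apply, LinearMap.id_coe, id_eq]
    change (LinearMap.id (R := A) (M := M)).liftBaseChange B (act M t m) = m
    rw [lift_act, ht2, one_smul]
  exact Module.Flat.of_retract σ _ hret

end Separable

section Ideals

universe u

variable (A B : Type u) [CommRing A] [IsDomain A] [ValuationRing A] [CommRing B] [Algebra A B]

omit [ValuationRing A] in
/-- a flat module over a domain: nonzero scalars act injectively -/
theorem smul_eq_zero_of_flat {M : Type*} [AddCommGroup M] [Module A M] [Module.Flat A M]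
    {a : A} (ha : a ≠ 0) {x : M} (h : a • x = 0) : x = 0 :=
  Module.Flat.isSMulRegular_of_nonZeroDivisors (mem_nonZeroDivisors_of_ne_zero ha)
    (by simpa using h)

omit [ValuationRing A] in
theorem algebraMap_injective_of_flat (R : Type*) [CommRing R] [Nontrivial R] [Algebra A R]
    [Module.Flat A R] : Function.Injective (algebraMap A R) := by
  rw [injective_iff_map_eq_zero]
  intro a ha
  by_contra h
  have : a • (1 : R) = 0 := by rw [Algebra.smul_def, mul_one, ha]
  exact one_ne_zero (smul_eq_zero_of_flat A h this)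

/-- ideals of a flat unramified algebra over a valuation ring are flat -/
theorem ideal_flat [Module.Flat A B] [Algebra.EssFiniteType A B] [Algebra.FormallyUnramified A B]
    (J : Ideal B) : Module.Flat B J := by
  haveI : Module.Flat A J := by
    rw [Module.Flat.flat_iff_torsion_eq_bot_of_isBezout, eq_bot_iff]
    rintro x ⟨⟨a, ha⟩, hax⟩
    have ha0 : a ≠ 0 := nonZeroDivisors.ne_zero ha
    have h1 : a • (x : B) = 0 := by
      have := congrArg Subtype.val hax
      simpa using this
    have h2 : (x : B) = 0 := smul_eq_zero_of_flat A ha0 h1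
    exact (Submodule.mem_bot _).mpr (Subtype.ext h2)
  exact flat_of_flat_of_unramified (A := A) J

/-- every localization of an étale algebra over a valuation ring is a valuation ring -/
theorem exists_valuationRing_localization [Algebra.Etale A B] (n : Ideal B) [n.IsPrime] :
    ∃ _ : IsDomain (Localization.AtPrime n), ValuationRing (Localization.AtPrime n) := by
  have h := ((Groth.Agent.Lib.Seat80.FlatIdeals.tfae B).out 0 3).mp (fun J => ideal_flat A B J)
  exact h n

end Ideals

section Val

variable {R : Type*} [CommRing R] [IsDomain R] [ValuationRing R]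

theorem exists_dvd_all {ι : Type*} (s : Finset ι) (hs : s.Nonempty) (τ : ι → R) :
    ∃ i₀ ∈ s, ∀ i ∈ s, τ i₀ ∣ τ i := by
  induction hs using Finset.Nonempty.cons_induction with
  | singleton a => exact ⟨a, by simp, by simp⟩
  | cons a s ha hs ih =>
    obtain ⟨i₀, hi₀, h⟩ := ih
    rcases ValuationRing.dvd_total (τ a) (τ i₀) with h1 | h1
    · refine ⟨a, by simp, ?_⟩
      intro i hi
      rcases Finset.mem_cons.mp hi with rfl | hi
      · exact dvd_rfl
      · exact h1.trans (h i hi)
    · refine ⟨i₀, by simp [hi₀], ?_⟩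
      intro i hi
      rcases Finset.mem_cons.mp hi with rfl | hi
      · exact h1
      · exact h i hi

theorem exists_unit_pair {ι : Type*} [DecidableEq ι] (s : Finset ι) (hs : s.Nonempty) (τ : ι → R)
    (hne : ∀ i ∈ s, τ i ≠ 0) (hsum : ∑ i ∈ s, τ i = 0) :
    ∃ i ∈ s, ∃ j ∈ s, i ≠ j ∧ ∃ u : Rˣ, τ j = u * τ i := by
  obtain ⟨i₀, hi₀, h⟩ := exists_dvd_all s hs τ
  choose! q hq using h
  have hq0 : q i₀ = 1 := by
    have h1 := hq i₀ hi₀
    have h2 : τ i₀ * q i₀ = τ i₀ * 1 := by rw [mul_one]; exact h1.symm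
    exact mul_left_cancel₀ (hne i₀ hi₀) h2
  have hsum' : ∑ i ∈ s, q i = 0 := by
    have : τ i₀ * ∑ i ∈ s, q i = 0 := by
      rw [Finset.mul_sum, ← hsum]
      exact Finset.sum_congr rfl (fun i hi => (hq i hi).symm)
    exact (mul_eq_zero.mp this).resolve_left (hne i₀ hi₀)
  by_contra hcon
  push Not at hcon
  have hnu : ∀ j ∈ s.erase i₀, q j ∈ IsLocalRing.maximalIdeal R := by
    intro j hj
    rw [IsLocalRing.mem_maximalIdeal, mem_nonunits_iff]
    intro hu
    obtain ⟨hji, hjs⟩ := Finset.mem_erase.mp hj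
    refine hcon i₀ hi₀ j hjs (Ne.symm hji) hu.unit ?_
    rw [IsUnit.unit_spec, mul_comm]
    exact hq j hjs
  have hmem : ∑ j ∈ s.erase i₀, q j ∈ IsLocalRing.maximalIdeal R := Ideal.sum_mem _ hnu
  rw [← Finset.add_sum_erase s q hi₀, hq0] at hsum'
  have h1 : (1 : R) ∈ IsLocalRing.maximalIdeal R := by
    have : (1 : R) = - ∑ j ∈ s.erase i₀, q j := by linear_combination hsum'
    rw [this]
    exact neg_mem hmem
  exact (IsLocalRing.maximalIdeal.isMaximal R).ne_top ((Ideal.eq_top_iff_one _).mpr h1)

/-- an algebraic nonzero element of a valuation ring over a subring `A`: some power is, up to a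
unit, a quotient of two elements of `A`. -/
theorem exists_pow_relation {A : Type*} [CommRing A] [Algebra A R]
    (hinj : Function.Injective (algebraMap A R))
    (x : R) (hx : x ≠ 0) (P : Polynomial A) (hP : P ≠ 0) (hPx : Polynomial.aeval x P = 0) :
    ∃ (n : ℕ) (a a' : A) (u : Rˣ), 0 < n ∧ a ≠ 0 ∧ a' ≠ 0 ∧
      algebraMap A R a' * x ^ n = u * algebraMap A R a := by
  classical
  have hsum : ∑ i ∈ P.support, algebraMap A R (P.coeff i) * x ^ i = 0 := by
    rw [← hPx, Polynomial.aeval_def, Polynomial.eval₂_eq_sum, Polynomial.sum_def]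
  have hne : ∀ i ∈ P.support, algebraMap A R (P.coeff i) * x ^ i ≠ 0 := by
    intro i hi
    refine mul_ne_zero ?_ (pow_ne_zero _ hx)
    rw [Ne, ← map_zero (algebraMap A R), hinj.eq_iff]
    exact Polynomial.mem_support_iff.mp hi
  obtain ⟨i, hi, j, hj, hij, u, hu⟩ := exists_unit_pair P.support
    (Polynomial.nonempty_support_iff.mpr hP) _ hne hsum
  have hci : P.coeff i ≠ 0 := Polynomial.mem_support_iff.mp hi
  have hcj : P.coeff j ≠ 0 := Polynomial.mem_support_iff.mp hj
  rcases Nat.lt_or_gt_of_ne hij with hlt | hlt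
  · refine ⟨j - i, P.coeff i, P.coeff j, u, Nat.sub_pos_of_lt hlt, hci, hcj, ?_⟩
    have hxj : x ^ j = x ^ i * x ^ (j - i) := by
      rw [← pow_add, Nat.add_sub_cancel' hlt.le]
    rw [hxj] at hu
    have : x ^ i * (algebraMap A R (P.coeff j) * x ^ (j - i)) =
        x ^ i * (u * algebraMap A R (P.coeff i)) := by linear_combination hu
    exact mul_left_cancel₀ (pow_ne_zero _ hx) this
  · refine ⟨i - j, P.coeff j, P.coeff i, u⁻¹, Nat.sub_pos_of_lt hlt, hcj, hci, ?_⟩
    have hxi : x ^ i = x ^ j * x ^ (i - j) := by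
      rw [← pow_add, Nat.add_sub_cancel' hlt.le]
    rw [hxi] at hu
    have h1 : x ^ j * (algebraMap A R (P.coeff j)) =
        x ^ j * (u * (algebraMap A R (P.coeff i) * x ^ (i - j))) := by linear_combination hu
    have h2 := mul_left_cancel₀ (pow_ne_zero _ hx) h1
    rw [h2, ← mul_assoc, Units.inv_mul, one_mul]

/-- two maps from `B'` to a valuation ring agreeing on `A`: images of an element satisfying a
power relation over `A` divide each other. -/
theorem dvd_of_relation {A B' : Type*} [CommRing A] [CommRing B'] [Algebra A B']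
    (p₁ p₂ : B' →+* R) (hp : ∀ a : A, p₁ (algebraMap A B' a) = p₂ (algebraMap A B' a))
    (hinj : ∀ a : A, a ≠ 0 → p₁ (algebraMap A B' a) ≠ 0)
    (x : B') (n : ℕ) (hn : 0 < n) (a a' : A) (ha : a ≠ 0) (u : B'ˣ)
    (h : algebraMap A B' a' * x ^ n = u * algebraMap A B' a) : p₂ x ∣ p₁ x := by
  rcases ValuationRing.dvd_total (p₂ x) (p₁ x) with h1 | ⟨r, hr⟩
  · exact h1
  · by_cases h0 : p₁ x = 0
    · rw [h0, zero_mul] at hr
      rw [h0, hr]
    · have e1 := congrArg p₁ h
      have e2 := congrArg p₂ h
      simp only [map_mul, map_pow] at e1 e2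
      rw [hr, ← hp a', ← hp a, mul_pow] at e2
      have h3 : p₁ (algebraMap A B' a) * (p₁ u * r ^ n) = p₁ (algebraMap A B' a) * p₂ u := by
        linear_combination e2 - r ^ n * e1
      have h4 : p₁ u * r ^ n = p₂ u := mul_left_cancel₀ (hinj a ha) h3
      have hu1 : IsUnit (p₁ (u : B')) := u.isUnit.map p₁
      have hu2 : IsUnit (p₂ (u : B')) := u.isUnit.map p₂
      have hrn : IsUnit (r ^ n) := by
        have : IsUnit (p₁ (u : B') * r ^ n) := h4 ▸ hu2
        exact (IsUnit.mul_iff.mp this).2
      have hru : IsUnit r := (isUnit_pow_iff hn.ne').mp hrn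
      refine ⟨(hru.unit⁻¹ : Rˣ), ?_⟩
      rw [hr, mul_assoc]
      simp

end Val

section Algebraic

universe u

theorem exists_polynomial_of_etale (A B : Type u) [CommRing A] [IsDomain A] [CommRing B]
    [Algebra A B] [Algebra.Etale A B] (x : B) :
    ∃ P : Polynomial A, P ≠ 0 ∧ Polynomial.aeval x P = 0 := by
  let K := FractionRing A
  haveI : Algebra.Etale K (K ⊗[A] B) := inferInstance
  haveI : Module.Finite K (K ⊗[A] B) := Algebra.FormallyUnramified.finite_of_free K _
  have halg : IsAlgebraic K ((1 : K) ⊗ₜ[A] x) := Algebra.IsAlgebraic.isAlgebraic _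
  have halg' : IsAlgebraic A ((1 : K) ⊗ₜ[A] x) :=
    (IsFractionRing.isAlgebraic_iff A K (K ⊗[A] B)).mpr halg
  obtain ⟨P, hP, hPx⟩ := halg'
  refine ⟨P, hP, ?_⟩
  have hinj : Function.Injective (Algebra.TensorProduct.includeRight : B →ₐ[A] K ⊗[A] B) :=
    Algebra.TensorProduct.includeRight_injective (IsFractionRing.injective A K)
  apply hinj
  rw [map_zero, ← Polynomial.aeval_algHom_apply]
  exact hPx

end Algebraic

section Main

universe u

variable (A B : Type u) [CommRing A] [IsDomain A] [ValuationRing A] [CommRing B] [Algebra A B]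
  [Algebra.Etale A B] (m : Ideal B) [m.IsPrime]

instance flat_localization : Module.Flat A (Localization.AtPrime m) :=
  Module.Flat.trans A B (Localization.AtPrime m)

omit [ValuationRing A] in
/-- Key step: in `E = B_m ⊗[A] B` the element `x' ⊗ 1` becomes a multiple of `1 ⊗ x` after
multiplying with `1 ⊗ s` for some `s ∉ m`. -/
theorem exists_tensor_relation [IsDomain (Localization.AtPrime m)]
    [ValuationRing (Localization.AtPrime m)] (x : B)
    (hx : algebraMap B (Localization.AtPrime m) x ≠ 0) :
    ∃ s ∈ m.primeCompl, ∃ z : Localization.AtPrime m ⊗[A] B,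
      z * ((1 : Localization.AtPrime m) ⊗ₜ[A] x) =
        (algebraMap B (Localization.AtPrime m) x ⊗ₜ[A] (1 : B)) * (1 ⊗ₜ[A] s) := by
  classical
  set B' := Localization.AtPrime m with hB'
  set x' : B' := algebraMap B B' x with hx'
  let E := B' ⊗[A] B
  by_contra hcon
  push Not at hcon
  let Q : Ideal E := Submodule.comap (LinearMap.mulLeft E (x' ⊗ₜ[A] (1 : B)))
    (Ideal.span {(1 : B') ⊗ₜ[A] x})
  have hQ : ∀ w : E, w ∈ Q ↔ ∃ z : E, z * ((1 : B') ⊗ₜ[A] x) = (x' ⊗ₜ[A] (1 : B)) * w := by
    intro w
    change (x' ⊗ₜ[A] (1 : B)) * w ∈ Ideal.span {(1 : B') ⊗ₜ[A] x} ↔ _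
    rw [Ideal.mem_span_singleton']
  let incR : B →* E := (Algebra.TensorProduct.includeRight : B →ₐ[A] E)
  let S : Submonoid E := m.primeCompl.map incR
  have hdisj : Disjoint (Q : Set E) S := by
    rw [Set.disjoint_left]
    rintro w hwQ ⟨s, hs, rfl⟩
    obtain ⟨z, hz⟩ := (hQ _).mp hwQ
    exact hcon s hs z hz
  obtain ⟨n', hn', hQn', hdisj'⟩ := Ideal.exists_le_prime_disjoint Q S hdisj
  haveI := hn'
  let R := Localization.AtPrime n'
  obtain ⟨hDR, hVR⟩ := exists_valuationRing_localization B' E n'
  haveI : Module.Flat A R := Module.Flat.trans A E R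
  have hAR : Function.Injective (algebraMap A R) := algebraMap_injective_of_flat A R
  let p₁ : B' →+* R := (algebraMap E R).comp
    (Algebra.TensorProduct.includeLeft : B' →ₐ[A] E).toRingHom
  let g : B →+* R := (algebraMap E R).comp
    (Algebra.TensorProduct.includeRight : B →ₐ[A] E).toRingHom
  have hg : ∀ s : m.primeCompl, IsUnit (g s) := by
    intro s
    have hmem : incR s ∈ S := ⟨s, s.2, rfl⟩
    have hnot : incR s ∉ n' := fun h => Set.disjoint_left.mp hdisj' h hmem
    exact IsLocalization.map_units R (⟨incR s, hnot⟩ : n'.primeCompl)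
  let p₂ : B' →+* R := IsLocalization.lift (M := m.primeCompl) hg
  have hp₂ : ∀ b : B, p₂ (algebraMap B B' b) = g b := fun b => IsLocalization.lift_eq hg b
  have hp₁A : ∀ a : A, p₁ (algebraMap A B' a) = algebraMap A R a := by
    intro a
    change algebraMap E R ((algebraMap A B' a) ⊗ₜ[A] (1 : B)) = _
    rw [IsScalarTower.algebraMap_apply A E R, Algebra.TensorProduct.algebraMap_apply]
  have hp : ∀ a : A, p₁ (algebraMap A B' a) = p₂ (algebraMap A B' a) := by
    intro a
    rw [hp₁A, IsScalarTower.algebraMap_apply A B B', hp₂]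
    change _ = algebraMap E R ((Algebra.TensorProduct.includeRight : B →ₐ[A] E) (algebraMap A B a))
    rw [AlgHom.commutes, ← IsScalarTower.algebraMap_apply]
  have hinj : ∀ a : A, a ≠ 0 → p₁ (algebraMap A B' a) ≠ 0 := by
    intro a ha h
    rw [hp₁A] at h
    exact ha (hAR (h.trans (map_zero _).symm))
  -- the algebraic relation for `x'`
  obtain ⟨P, hP, hPx⟩ := exists_polynomial_of_etale A B x
  have hPx' : Polynomial.aeval x' P = 0 := by
    rw [hx', Polynomial.aeval_algebraMap_apply, hPx, map_zero]
  have hAB' : Function.Injective (algebraMap A B') := algebraMap_injective_of_flat A B'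
  obtain ⟨n, a, a', u, hn, ha, ha', hrel⟩ := exists_pow_relation hAB' x' hx P hP hPx'
  obtain ⟨r, hr⟩ := dvd_of_relation (R := R) (A := A) (B' := B') p₁ p₂ hp hinj x' n hn a a' ha u hrel
  obtain ⟨z, t, rfl⟩ := IsLocalization.exists_mk'_eq n'.primeCompl r
  have h1 : p₁ x' = algebraMap E R (x' ⊗ₜ[A] (1 : B)) := rfl
  have h2 : p₂ x' = algebraMap E R ((1 : B') ⊗ₜ[A] x) := hp₂ x
  rw [h1, h2] at hr
  have h3 : algebraMap E R ((x' ⊗ₜ[A] (1 : B)) * t) = algebraMap E R (((1 : B') ⊗ₜ[A] x) * z) := by
    rw [map_mul, map_mul, hr, mul_assoc, IsLocalization.mk'_spec]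
  obtain ⟨c, hc⟩ := (IsLocalization.eq_iff_exists n'.primeCompl R).mp h3
  have hmemQ : (c : E) * t ∈ Q := by
    rw [hQ]
    refine ⟨c * z, ?_⟩
    linear_combination -hc
  have := hQn' hmemQ
  rcases hn'.mem_or_mem this with h | h
  · exact c.2 h
  · exact t.2 h

omit [Algebra.Etale A B] in
/-- an element of the extension of an ideal `I` of a valuation ring is a multiple of the image of
an element of `I` -/
theorem exists_dvd_of_mem_map {R : Type*} [CommRing R] [Algebra A R]
    (I : Ideal A) {y : R} (hy : y ∈ I.map (algebraMap A R)) :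
    ∃ a ∈ I, algebraMap A R a ∣ y := by
  rw [Ideal.map] at hy
  induction hy using Submodule.span_induction with
  | mem y hy =>
    obtain ⟨a, ha, rfl⟩ := hy
    exact ⟨a, ha, dvd_rfl⟩
  | zero => exact ⟨0, I.zero_mem, dvd_zero _⟩
  | add y₁ y₂ _ _ h₁ h₂ =>
    obtain ⟨a₁, ha₁, d₁⟩ := h₁
    obtain ⟨a₂, ha₂, d₂⟩ := h₂
    rcases ValuationRing.dvd_total a₁ a₂ with h | h
    · exact ⟨a₁, ha₁, dvd_add d₁ ((map_dvd (algebraMap A R) h).trans d₂)⟩
    · exact ⟨a₂, ha₂, dvd_add ((map_dvd (algebraMap A R) h).trans d₁) d₂⟩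
  | smul c y _ h =>
    obtain ⟨a, ha, d⟩ := h
    exact ⟨a, ha, Dvd.dvd.mul_left d c⟩

/-- weak unramifiedness: the image of `x : B` in `B_m` is a unit times an element of `A`. -/
theorem exists_eq_unit_mul_of_ne_zero [IsDomain (Localization.AtPrime m)]
    [ValuationRing (Localization.AtPrime m)] (x : B)
    (hx : algebraMap B (Localization.AtPrime m) x ≠ 0) :
    ∃ (a : A) (u : (Localization.AtPrime m)ˣ),
      algebraMap B (Localization.AtPrime m) x = u * algebraMap A (Localization.AtPrime m) a := by
  obtain ⟨s, hs, z, hz⟩ := exists_tensor_relation A B m x hx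
  set B' := Localization.AtPrime m with hB'
  set x' : B' := algebraMap B B' x with hx'
  let J : Ideal B' := Ideal.span {x'}
  let N := B' ⧸ J
  let I : Ideal A := J.comap (algebraMap A B')
  let φ : A →ₗ[A] N := Algebra.linearMap A N
  have hker : ∀ a, a ∈ LinearMap.ker φ → a ∈ I := by
    intro a ha
    have h1 : (Ideal.Quotient.mk J) (algebraMap A B' a) = 0 := ha
    exact (Ideal.Quotient.eq_zero_iff_mem (I := J)).mp h1
  have hα : x' ⊗ₜ[A] (1 : N) = 0 := by
    let ψ : B →ₗ[A] N := (Ideal.Quotient.mkₐ A J).toLinearMap ∘ₗ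
      (IsScalarTower.toAlgHom A B B').toLinearMap
    let Θ : B' ⊗[A] B →ₗ[A] B' ⊗[A] N := LinearMap.lTensor B' ψ
    have hΘ0 : ∀ w : B' ⊗[A] B, Θ (w * ((1 : B') ⊗ₜ[A] x)) = 0 := by
      intro w
      induction w using TensorProduct.induction_on with
      | zero => simp
      | tmul y b =>
        rw [Algebra.TensorProduct.tmul_mul_tmul, mul_one]
        change y ⊗ₜ[A] (ψ (b * x)) = 0
        have : ψ (b * x) = 0 := by
          change Ideal.Quotient.mk J (algebraMap B B' (b * x)) = 0
          rw [Ideal.Quotient.eq_zero_iff_mem, map_mul]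
          exact Ideal.mul_mem_left _ _ (Ideal.subset_span rfl)
        rw [this, tmul_zero]
      | add w w' h h' => rw [add_mul, map_add, h, h', add_zero]
    have h1 : Θ ((x' ⊗ₜ[A] (1 : B)) * ((1 : B') ⊗ₜ[A] s)) = 0 := by
      rw [← hz]
      exact hΘ0 z
    rw [Algebra.TensorProduct.tmul_mul_tmul, mul_one, one_mul] at h1
    obtain ⟨v, hv⟩ := IsLocalization.map_units B' (⟨s, hs⟩ : m.primeCompl)
    let μ : N →ₗ[A] N := LinearMap.mulLeft A (Ideal.Quotient.mk J (↑v⁻¹ : B'))
    have h2 := congrArg (LinearMap.lTensor B' μ) h1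
    rw [map_zero] at h2
    change x' ⊗ₜ[A] (μ (ψ s)) = 0 at h2
    have h3 : μ (ψ s) = 1 := by
      change Ideal.Quotient.mk J (↑v⁻¹ : B') * Ideal.Quotient.mk J (algebraMap B B' s) = 1
      rw [← map_mul]
      have : (↑v⁻¹ : B') * algebraMap B B' s = 1 := by
        have hv' : (v : B') = algebraMap B B' s := hv
        rw [← hv', Units.inv_mul]
      rw [this, map_one]
    rwa [h3] at h2
  have hex : Function.Exact (LinearMap.lTensor B' (LinearMap.ker φ).subtype)
      (LinearMap.lTensor B' φ) :=
    Module.Flat.lTensor_exact B' (LinearMap.exact_subtype_ker_map φ)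
  have h0 : LinearMap.lTensor B' φ (x' ⊗ₜ[A] (1 : A)) = 0 := by
    rw [LinearMap.lTensor_tmul]
    have : φ 1 = 1 := map_one (algebraMap A N)
    rw [this]
    exact hα
  obtain ⟨w, hw⟩ := (hex _).mp h0
  have hmem : x' ∈ I.map (algebraMap A B') := by
    have h3 : TensorProduct.rid A B' (LinearMap.lTensor B' (LinearMap.ker φ).subtype w) = x' := by
      rw [hw]
      simp
    rw [← h3]
    clear hw h3
    induction w using TensorProduct.induction_on with
    | zero => simp
    | tmul y a =>
      rw [LinearMap.lTensor_tmul, TensorProduct.rid_tmul]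
      change ((a : A)) • y ∈ _
      rw [Algebra.smul_def]
      exact Ideal.mul_mem_right _ _ (Ideal.mem_map_of_mem _ (hker a.1 a.2))
    | add w w' h h' =>
      rw [map_add, map_add]
      exact add_mem h h'
  obtain ⟨a, haI, y, hy⟩ := exists_dvd_of_mem_map A I hmem
  obtain ⟨c, hc⟩ := Ideal.mem_span_singleton'.mp (show algebraMap A B' a ∈ J from haI)
  have hcy : c * y = 1 := by
    have : x' * (c * y) = x' * 1 := by
      rw [mul_one]
      conv_rhs => rw [hy, ← hc]
      ring
    exact mul_left_cancel₀ hx this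
  refine ⟨a, ⟨y, c, by rw [mul_comm]; exact hcy, hcy⟩, ?_⟩
  rw [hy]
  exact mul_comm _ _

/-- Étale-local extensions of a valuation ring are weakly unramified extensions of valuation
rings (Stacks 0ASJ). -/
theorem main (hm : m.comap (algebraMap A B) = IsLocalRing.maximalIdeal A) :
    IsDomain (Localization.AtPrime m) ∧
    (∀ _ : IsDomain (Localization.AtPrime m), ValuationRing (Localization.AtPrime m)) ∧
    Function.Injective (algebraMap A (Localization.AtPrime m)) ∧
    IsLocalHom (algebraMap A (Localization.AtPrime m)) ∧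
    ∀ b : Localization.AtPrime m, b ≠ 0 → ∃ (a : A) (u : (Localization.AtPrime m)ˣ),
      b = u * algebraMap A (Localization.AtPrime m) a := by
  obtain ⟨hD, hV⟩ := exists_valuationRing_localization A B m
  refine ⟨hD, fun _ => hV, algebraMap_injective_of_flat A _, ⟨?_⟩, ?_⟩
  · intro a ha
    by_contra hna
    have h1 : a ∈ IsLocalRing.maximalIdeal A := (IsLocalRing.mem_maximalIdeal a).mpr hna
    rw [← hm, Ideal.mem_comap] at h1
    have h2 : algebraMap B (Localization.AtPrime m) (algebraMap A B a) ∈
        IsLocalRing.maximalIdeal (Localization.AtPrime m) := by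
      rw [← Localization.AtPrime.map_eq_maximalIdeal]
      exact Ideal.mem_map_of_mem _ h1
    rw [← IsScalarTower.algebraMap_apply] at h2
    exact (IsLocalRing.mem_maximalIdeal _).mp h2 ha
  · intro b hb
    obtain ⟨x, s, rfl⟩ := IsLocalization.exists_mk'_eq m.primeCompl b
    have hsu : IsUnit (algebraMap B (Localization.AtPrime m) s) := IsLocalization.map_units _ s
    have hspec := IsLocalization.mk'_spec (Localization.AtPrime m) x s
    have hx : algebraMap B (Localization.AtPrime m) x ≠ 0 := by
      intro h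
      rw [h] at hspec
      exact hb (hsu.mul_left_eq_zero.mp hspec)
    obtain ⟨a, u, hu⟩ := exists_eq_unit_mul_of_ne_zero A B m x hx
    refine ⟨a, u * hsu.unit⁻¹, ?_⟩
    have h3 : IsLocalization.mk' (Localization.AtPrime m) x s =
        algebraMap B (Localization.AtPrime m) x * ↑hsu.unit⁻¹ := by
      rw [← hspec, mul_assoc, IsUnit.mul_val_inv, mul_one]
    rw [h3, hu, Units.val_mul]
    ring

end Main

end Groth.Agent.Lib.Seat69.ValEtale
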