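/-
Seat 69: the (strict) henselization of a valuation ring is a valuation ring with the same value
group (Stacks 0ASK), via `Seat69ValEtale.main` and helper3's colimit models.
-/
import Mathlib
import Groth.Agent.Lib.Seat69ValEtale
import Groth.Agent.Lib.Helper3HzP

set_option autoImplicit false
set_option linter.style.haveILetI false

namespace Groth.Agent.Lib.Seat69.ValHens

open Groth.Agent.Lib.Helper3

universe u

section Core

variable (A S : Type*) [CommRing A] [IsDomain A] [ValuationRing A] [CommRing S] [Nontrivial S]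
  [Algebra A S]

/-- a nontrivial `A`-algebra (A a valuation ring, `A → S` injective) in which every nonzero element
is a unit multiple of an element of `A` is a valuation ring. -/
theorem isDomain_and_valuationRing (hinj : Function.Injective (algebraMap A S))
    (h : ∀ s : S, s ≠ 0 → ∃ (a : A) (u : Sˣ), s = u * algebraMap A S a) :
    IsDomain S ∧ (∀ _ : IsDomain S, ValuationRing S) := by
  have hnzd : NoZeroDivisors S := by
    refine ⟨fun {s s'} hss => ?_⟩
    by_contra hcon
    push Not at hcon
    obtain ⟨a, u, rfl⟩ := h s hcon.1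
    obtain ⟨a', u', rfl⟩ := h s' hcon.2
    have ha : a ≠ 0 := by
      rintro rfl
      exact hcon.1 (by rw [map_zero, mul_zero])
    have ha' : a' ≠ 0 := by
      rintro rfl
      exact hcon.2 (by rw [map_zero, mul_zero])
    have h1 : algebraMap A S (a * a') = 0 := by
      have : (u : S) * u' * algebraMap A S (a * a') = 0 := by
        rw [map_mul]
        linear_combination hss
      exact (u * u').isUnit.mul_right_eq_zero.mp (by simpa using this)
    exact mul_ne_zero ha ha' (hinj (h1.trans (map_zero _).symm))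
  have hD : IsDomain S := NoZeroDivisors.to_isDomain _
  refine ⟨hD, fun _ => ?_⟩
  rw [ValuationRing.iff_dvd_total]
  refine ⟨fun s s' => ?_⟩
  by_cases hs : s = 0
  · exact Or.inr (hs ▸ dvd_zero _)
  by_cases hs' : s' = 0
  · exact Or.inl (hs' ▸ dvd_zero _)
  obtain ⟨a, u, rfl⟩ := h s hs
  obtain ⟨a', u', rfl⟩ := h s' hs'
  rcases ValuationRing.dvd_total a a' with hd | hd
  · left
    exact (Units.mul_left_dvd).mpr (Dvd.dvd.mul_left (map_dvd (algebraMap A S) hd) _)
  · right
    exact (Units.mul_left_dvd).mpr (Dvd.dvd.mul_left (map_dvd (algebraMap A S) hd) _)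

omit [IsDomain A] [ValuationRing A] [Nontrivial S] in
/-- transport of the unit-multiple property along an algebra isomorphism -/
theorem transport {T : Type*} [CommRing T] [Algebra A T] (e : S ≃ₐ[A] T)
    (h : ∀ t : T, t ≠ 0 → ∃ (a : A) (u : Tˣ), t = u * algebraMap A T a) :
    ∀ s : S, s ≠ 0 → ∃ (a : A) (u : Sˣ), s = u * algebraMap A S a := by
  intro s hs
  have hes : e s ≠ 0 := fun h0 => hs (e.injective (h0.trans (map_zero e).symm))
  obtain ⟨a, u, hu⟩ := h (e s) hes
  refine ⟨a, Units.map (e.symm : T →* S) u, ?_⟩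
  have := congrArg e.symm hu
  rw [e.symm_apply_apply, map_mul, e.symm.commutes] at this
  exact this

end Core

section Models

variable (A : Type u) [CommRing A] [IsDomain A] [ValuationRing A]

theorem hz_model (z : Hz.Rh A) (hz : z ≠ 0) :
    ∃ (a : A) (u : (Hz.Rh A)ˣ), z = u * algebraMap A (Hz.Rh A) a := by
  obtain ⟨i, x, rfl⟩ := Hz.exists_ofL z
  have hx : x ≠ 0 := fun h => hz (by rw [h, map_zero])
  obtain ⟨-, -, -, -, h5⟩ := ValEtale.main A i.C i.Q i.comap_Q
  obtain ⟨a, u, hu⟩ : ∃ (a : A) (u : (i.L)ˣ), x = u * algebraMap A i.L a := h5 x hx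
  refine ⟨a, Units.map (Hz.ofL i : i.L →* Hz.Rh A) u, ?_⟩
  rw [Hz.algebraMap_eq i a]
  have := congrArg (Hz.ofL i) hu
  rw [map_mul] at this
  exact this

variable {Ω : Type u} [Field Ω] [Algebra A Ω] [Algebra (IsLocalRing.ResidueField A) Ω]
  [IsScalarTower A (IsLocalRing.ResidueField A) Ω]

theorem sh_model (z : Sh.Rsh A Ω) (hz : z ≠ 0) :
    ∃ (a : A) (u : (Sh.Rsh A Ω)ˣ), z = u * algebraMap A (Sh.Rsh A Ω) a := by
  obtain ⟨i, x, rfl⟩ := Sh.exists_ofL z
  have hx : x ≠ 0 := fun h => hz (by rw [h, map_zero])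
  obtain ⟨-, -, -, -, h5⟩ := ValEtale.main A i.C i.Q i.comap_Q
  obtain ⟨a, u, hu⟩ : ∃ (a : A) (u : (i.L)ˣ), x = u * algebraMap A i.L a := h5 x hx
  refine ⟨a, Units.map (Sh.ofL i : i.L →* Sh.Rsh A Ω) u, ?_⟩
  rw [Sh.algebraMap_eq i a]
  have := congrArg (Sh.ofL i) hu
  rw [map_mul] at this
  exact this

end Models

section Main

variable (A S : Type u) [CommRing A] [IsDomain A] [ValuationRing A] [CommRing S]
  [IsLocalRing S] [Algebra A S] [IsLocalHom (algebraMap A S)]

theorem main (h : Hensel.IsHenselization A S ∨ Hensel.IsStrictHenselization A S) :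
    IsDomain S ∧ (∀ _ : IsDomain S, ValuationRing S) ∧ Function.Injective (algebraMap A S) ∧
      ∀ s : S, s ≠ 0 → ∃ (a : A) (u : Sˣ), s = u * algebraMap A S a := by
  rcases h with h | h
  · haveI := h
    haveI := HzP.hz_faithfullyFlat A S
    have hinj : Function.Injective (algebraMap A S) := FaithfulSMul.algebraMap_injective A S
    obtain ⟨e⟩ := Hz.nonempty_algEquiv (R := A) S
    have hu := transport A S e (hz_model A)
    obtain ⟨h1, h2⟩ := isDomain_and_valuationRing A S hinj hu
    exact ⟨h1, h2, hinj, hu⟩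
  · haveI := h
    haveI := HzP.sh_faithfullyFlat A S
    have hinj : Function.Injective (algebraMap A S) := FaithfulSMul.algebraMap_injective A S
    obtain ⟨Ω, _, _, _, _, _, ⟨e⟩⟩ := HzP.sh_exists_model A S
    have hu := transport A S e (sh_model A)
    obtain ⟨h1, h2⟩ := isDomain_and_valuationRing A S hinj hu
    exact ⟨h1, h2, hinj, hu⟩

end Main

end Groth.Agent.Lib.Seat69.ValHens
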