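import Mathlib
import Groth.Agent.Lib.Seat69ValHens
import Groth.Agent.Lib.Helper3HzP

/-!
# Strict henselization of a discrete valuation ring (Seat 10)

For a DVR `A` with fraction field `K` and a strict henselization `S` of `A`:
* `isDomain_sh`, `injective_sh`, `unit_mul_sh` (from helper69), `isDVR_sh`: `S` is a DVR;
* `isSeparable_of_etale`: elements of an étale `A`-algebra map to separable elements of any field
  extension of `K`;
* `isSeparable_fractionField_sh`: the fraction field of `S` is separable algebraic over `K`.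
-/

set_option autoImplicit false
set_option linter.style.haveILetI false

universe u

namespace Groth.Agent.Lib.Seat10.ShDvr

open IsLocalRing TensorProduct Groth.Agent.Lib.Helper3

section Basic

theorem isDomain_sh (A S : Type u) [CommRing A] [IsDomain A] [IsDiscreteValuationRing A]
    [CommRing S] [IsLocalRing S] [Algebra A S] [IsLocalHom (algebraMap A S)]
    [Hensel.IsStrictHenselization A S] : IsDomain S :=
  (Groth.Agent.Lib.Seat69.ValHens.main A S (Or.inr inferInstance)).1

theorem injective_sh (A S : Type u) [CommRing A] [IsDomain A] [IsDiscreteValuationRing A]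
    [CommRing S] [IsLocalRing S] [Algebra A S] [IsLocalHom (algebraMap A S)]
    [Hensel.IsStrictHenselization A S] : Function.Injective (algebraMap A S) :=
  (Groth.Agent.Lib.Seat69.ValHens.main A S (Or.inr inferInstance)).2.2.1

theorem unit_mul_sh (A S : Type u) [CommRing A] [IsDomain A] [IsDiscreteValuationRing A]
    [CommRing S] [IsLocalRing S] [Algebra A S] [IsLocalHom (algebraMap A S)]
    [Hensel.IsStrictHenselization A S] :
    ∀ s : S, s ≠ 0 → ∃ (a : A) (u : Sˣ), s = u * algebraMap A S a :=
  (Groth.Agent.Lib.Seat69.ValHens.main A S (Or.inr inferInstance)).2.2.2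

theorem isDVR_sh (A S : Type u) [CommRing A] [IsDomain A] [IsDiscreteValuationRing A]
    [CommRing S] [IsLocalRing S] [Algebra A S] [IsLocalHom (algebraMap A S)]
    [Hensel.IsStrictHenselization A S] [IsDomain S] : IsDiscreteValuationRing S := by
  haveI hval : ValuationRing S :=
    (Groth.Agent.Lib.Seat69.ValHens.main A S (Or.inr inferInstance)).2.1 inferInstance
  haveI : IsNoetherianRing S := HzP.sh_isNoetherianRing A S
  have hnf : ¬ IsField S := by
    intro hf
    obtain ⟨ϖ, hϖ⟩ := IsDiscreteValuationRing.exists_irreducible A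
    have h1 : algebraMap A S ϖ ≠ 0 := by
      intro h0
      exact hϖ.ne_zero (injective_sh A S (h0.trans (map_zero _).symm))
    have h2 : IsUnit (algebraMap A S ϖ) := by
      obtain ⟨b, hb⟩ := hf.mul_inv_cancel h1
      exact .of_mul_eq_one b hb
    exact hϖ.not_isUnit (isUnit_of_map_unit (algebraMap A S) ϖ h2)
  exact ((IsDiscreteValuationRing.TFAE S hnf).out 0 1).mpr hval

end Basic

section Etale

/-- Elements of an étale algebra over a domain `A` are separable over `K = Frac A` in any field
extension of `K`. -/
theorem isSeparable_of_etale (A K : Type u) [CommRing A] [Field K] [Algebra A K]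
    (C : Type u) [CommRing C] [Algebra A C] [Algebra.Etale A C]
    (K' : Type u) [Field K'] [Algebra K K'] [Algebra A K'] [IsScalarTower A K K']
    (g : C →ₐ[A] K') (c : C) : IsSeparable K (g c) := by
  let G : K ⊗[A] C →ₐ[K] K' :=
    Algebra.TensorProduct.lift (Algebra.ofId K K') g (fun _ _ => Commute.all _ _)
  have hG : G (1 ⊗ₜ c) = g c := by
    rw [Algebra.TensorProduct.lift_tmul, map_one, one_mul]
  let p : Ideal (K ⊗[A] C) := RingHom.ker G.toRingHom
  haveI hp : p.IsPrime := RingHom.ker_isPrime G.toRingHom
  haveI : Algebra.IsSeparable K ((K ⊗[A] C) ⧸ p) := inferInstance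
  let Gq : ((K ⊗[A] C) ⧸ p) →ₐ[K] K' := Ideal.Quotient.liftₐ p G (fun a ha => ha)
  have hGq : Function.Injective Gq := by
    rw [injective_iff_map_eq_zero]
    intro y hy
    obtain ⟨y, rfl⟩ := Ideal.Quotient.mk_surjective y
    rw [Ideal.Quotient.eq_zero_iff_mem]
    exact hy
  have h1 : IsSeparable K (Ideal.Quotient.mk p (1 ⊗ₜ c)) := Algebra.IsSeparable.isSeparable K _
  have h2 : Gq (Ideal.Quotient.mk p (1 ⊗ₜ c)) = g c := hG
  rw [← h2]
  unfold IsSeparable at h1 ⊢
  rwa [minpoly.algHom_eq Gq hGq]

end Etale

section Sep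

/-- Every element of the strict henselization is separable algebraic over `K`. -/
theorem isSeparable_algebraMap_sh (A S : Type u) [CommRing A] [IsDomain A]
    [IsDiscreteValuationRing A] [CommRing S] [IsLocalRing S] [Algebra A S]
    [IsLocalHom (algebraMap A S)] [Hensel.IsStrictHenselization A S]
    (K K' : Type u) [Field K] [Algebra A K] [IsFractionRing A K] [Field K'] [Algebra S K']
    [Algebra K K'] [Algebra A K'] [IsScalarTower A K K'] [IsScalarTower A S K'] (s : S) : IsSeparable K (algebraMap S K' s) := by
  obtain ⟨Ω, _, _, _, _, _, ⟨e⟩⟩ := HzP.sh_exists_model A S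
  obtain ⟨i, x, hx⟩ := Sh.exists_ofL (e s)
  -- the map from the stage to `K'`
  let φ : i.L →ₐ[A] K' :=
    ((IsScalarTower.toAlgHom A S K').comp (e.symm : Sh.Rsh A Ω →ₐ[A] S)).comp (Sh.ofLₐ i)
  have hφx : φ x = algebraMap S K' s := by
    show algebraMap S K' (e.symm (Sh.ofL i x)) = _
    rw [hx, e.symm_apply_apply]
  let g : i.C →ₐ[A] K' := φ.comp (IsScalarTower.toAlgHom A i.C i.L)
  obtain ⟨⟨c, t⟩, hct⟩ := IsLocalization.mk'_surjective i.Q.primeCompl x
  have hxt : x * algebraMap i.C i.L t = algebraMap i.C i.L c := by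
    rw [← hct]; exact IsLocalization.mk'_spec _ _ _
  have hgt : g t ≠ 0 := by
    have hu : IsUnit (algebraMap i.C i.L (t : i.C)) := IsLocalization.map_units i.L t
    exact (hu.map φ).ne_zero
  have hkey : algebraMap S K' s = g c * (g t)⁻¹ := by
    rw [eq_mul_inv_iff_mul_eq₀ hgt, ← hφx]
    show φ x * φ (algebraMap i.C i.L t) = φ (algebraMap i.C i.L c)
    rw [← map_mul, hxt]
  rw [hkey]
  exact Field.isSeparable_mul (isSeparable_of_etale A K i.C K' g c)
    (Field.isSeparable_inv (isSeparable_of_etale A K i.C K' g t))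

/-- The fraction field of the strict henselization of a DVR is separable algebraic over the
fraction field of the DVR. -/
theorem isSeparable_fractionField_sh (A S : Type u) [CommRing A] [IsDomain A]
    [IsDiscreteValuationRing A] [CommRing S] [IsLocalRing S] [Algebra A S]
    [IsLocalHom (algebraMap A S)] [Hensel.IsStrictHenselization A S]
    (K K' : Type u) [Field K] [Algebra A K] [IsFractionRing A K] [Field K'] [Algebra S K']
    [Algebra K K'] [Algebra A K'] [IsScalarTower A K K'] [IsScalarTower A S K']
    [IsFractionRing S K'] : Algebra.IsSeparable K K' := by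
  haveI := isDomain_sh A S
  refine ⟨fun z => ?_⟩
  obtain ⟨a, b, hb, rfl⟩ := IsFractionRing.div_surjective (A := S) z
  rw [div_eq_mul_inv]
  exact Field.isSeparable_mul (isSeparable_algebraMap_sh A S K K' a)
    (Field.isSeparable_inv (isSeparable_algebraMap_sh A S K K' b))

end Sep

end Groth.Agent.Lib.Seat10.ShDvr
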