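import Groth.Agent.Lib.Seat10ShDvrA
import Groth.Agent.Lib.Seat10ShDvrB
import Groth.Agent.Lib.Seat10SepStepH
import Groth.Agent.Lib.Seat36SepClosure

/-!
# The strict henselization of a DVR as a valuation subring of its fraction field (Seat 10)

* `vs R F`: the valuation subring of `F = Frac R` attached to a valuation ring `R`;
* `good_vs_sh`: for a DVR `V₀` with fraction field `K₁` and strict henselization `S` with fraction
  field `FV`, the pair `(vs S FV, K₁ → FV)` satisfies the local predicate `Good`: `V₀ → S` is weakly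
  unramified with separable residue field extension.
-/

set_option autoImplicit false
set_option linter.style.haveILetI false

universe u

namespace Groth.Agent.Lib.Seat10.ShDvr

open EtRam IsLocalRing Groth.Agent.Lib.Seat10.Tower Groth.Agent.Lib.Seat10.ValDom

section VS

variable (R F : Type u) [CommRing R] [IsDomain R] [ValuationRing R] [Field F] [Algebra R F]
  [IsFractionRing R F]

/-- the valuation subring of `F = Frac R` whose elements are the images of elements of `R` -/
noncomputable def vs : ValuationSubring F := (ValuationRing.valuation R F).valuationSubring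

theorem mem_vs_iff (x : F) : x ∈ vs R F ↔ ∃ r : R, algebraMap R F r = x :=
  ValuationRing.mem_integer_iff R F x

theorem algebraMap_mem_vs (r : R) : algebraMap R F r ∈ vs R F := (mem_vs_iff R F _).mpr ⟨r, rfl⟩

theorem valuation_algebraMap_lt_one_iff [IsLocalRing R] (r : R) :
    (vs R F).valuation (algebraMap R F r) < 1 ↔ r ∈ maximalIdeal R := by
  have hinj : Function.Injective (algebraMap R F) := IsFractionRing.injective R F
  rw [← ValuationSubring.mem_nonunits_iff, ValuationSubring.mem_nonunits_iff_or,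
    IsLocalRing.mem_maximalIdeal, mem_nonunits_iff]
  constructor
  · rintro (h0 | hinv) hu
    · have : r = 0 := hinj (h0.trans (map_zero _).symm)
      rw [this] at hu
      exact not_isUnit_zero hu
    · apply hinv
      obtain ⟨u, rfl⟩ := hu
      refine (mem_vs_iff R F _).mpr ⟨((u⁻¹ : Rˣ) : R), ?_⟩
      have hu0 : algebraMap R F (u : R) ≠ 0 :=
        fun h0 => u.ne_zero (hinj (h0.trans (map_zero _).symm))
      refine eq_inv_of_mul_eq_one_left ?_
      rw [← map_mul, Units.inv_mul, map_one]
  · intro hnu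
    by_cases h0 : r = 0
    · left; rw [h0, map_zero]
    · right
      intro hmem
      obtain ⟨s, hs⟩ := (mem_vs_iff R F _).mp hmem
      apply hnu
      have hr0 : algebraMap R F r ≠ 0 := fun h => h0 (hinj (h.trans (map_zero _).symm))
      have h1 : algebraMap R F (s * r) = 1 := by
        rw [map_mul, hs, inv_mul_cancel₀ hr0]
      have h2 : s * r = 1 := hinj (h1.trans (map_one _).symm)
      exact .of_mul_eq_one s (by rw [mul_comm]; exact h2)

end VS

section Sh

/-- the instance algebra structure on residue fields agrees with the one induced by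
`ResidueField.map` -/
theorem residueField_algebra_eq (R S : Type u) [CommRing R] [IsLocalRing R] [CommRing S]
    [IsLocalRing S] [Algebra R S] [IsLocalHom (algebraMap R S)] :
    (ResidueField.instAlgebra : Algebra (ResidueField R) (ResidueField S)) =
      (ResidueField.map (algebraMap R S)).toAlgebra := by
  refine Algebra.algebra_ext _ _ (fun r => ?_)
  obtain ⟨x, rfl⟩ := residue_surjective r
  rfl

theorem algebraMap_algebraMap_eq (V₀ S K₁ FV : Type u) [CommRing V₀] [IsDomain V₀]
    [IsDiscreteValuationRing V₀] [CommRing S] [IsLocalRing S] [Algebra V₀ S]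
    [IsLocalHom (algebraMap V₀ S)] [Hensel.IsStrictHenselization V₀ S] [IsDomain S]
    [ValuationRing S] [Field K₁] [Algebra V₀ K₁] [IsFractionRing V₀ K₁] [Field FV] [Algebra S FV]
    [IsFractionRing S FV] [Algebra K₁ FV] [Algebra V₀ FV] [IsScalarTower V₀ K₁ FV]
    [IsScalarTower V₀ S FV] (v : V₀) :
    algebraMap K₁ FV (algebraMap V₀ K₁ v) = algebraMap S FV (algebraMap V₀ S v) := by
  rw [← IsScalarTower.algebraMap_apply V₀ K₁ FV, ← IsScalarTower.algebraMap_apply V₀ S FV]

/-- elements of `K₁` which become integral in the strict henselization are in `V₀` -/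
theorem mem_vs_sh_iff (V₀ S K₁ FV : Type u) [CommRing V₀] [IsDomain V₀]
    [IsDiscreteValuationRing V₀] [CommRing S] [IsLocalRing S] [Algebra V₀ S]
    [IsLocalHom (algebraMap V₀ S)] [Hensel.IsStrictHenselization V₀ S] [IsDomain S]
    [ValuationRing S] [Field K₁] [Algebra V₀ K₁] [IsFractionRing V₀ K₁] [Field FV] [Algebra S FV]
    [IsFractionRing S FV] [Algebra K₁ FV] [Algebra V₀ FV] [IsScalarTower V₀ K₁ FV]
    [IsScalarTower V₀ S FV] (x : K₁) :
    algebraMap K₁ FV x ∈ vs S FV ↔ ∃ v : V₀, algebraMap V₀ K₁ v = x := by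
  have hc := comap_eq_of_dominates (vs S FV) (algebraMap K₁ FV) (vs V₀ K₁) (by
      intro y hy
      obtain ⟨v, rfl⟩ := (mem_vs_iff V₀ K₁ y).mp hy
      rw [algebraMap_algebraMap_eq V₀ S K₁ FV]
      exact algebraMap_mem_vs S FV _) (by
      intro y hy hlt
      obtain ⟨v, rfl⟩ := (mem_vs_iff V₀ K₁ y).mp hy
      rw [valuation_algebraMap_lt_one_iff] at hlt
      rw [algebraMap_algebraMap_eq V₀ S K₁ FV, valuation_algebraMap_lt_one_iff]
      rw [IsLocalRing.mem_maximalIdeal, mem_nonunits_iff] at hlt ⊢
      exact fun hu => hlt (isUnit_of_map_unit (algebraMap V₀ S) v hu))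
  rw [← ValuationSubring.mem_comap, hc, mem_vs_iff]

theorem WU_vs_sh (V₀ S K₁ FV : Type u) [CommRing V₀] [IsDomain V₀]
    [IsDiscreteValuationRing V₀] [CommRing S] [IsLocalRing S] [Algebra V₀ S]
    [IsLocalHom (algebraMap V₀ S)] [Hensel.IsStrictHenselization V₀ S] [IsDomain S]
    [ValuationRing S] [Field K₁] [Algebra V₀ K₁] [IsFractionRing V₀ K₁] [Field FV] [Algebra S FV]
    [IsFractionRing S FV] [Algebra K₁ FV] [Algebra V₀ FV] [IsScalarTower V₀ K₁ FV]
    [IsScalarTower V₀ S FV] :
    WU (vs S FV) (algebraMap K₁ FV) := by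
  intro w hw hlt
  obtain ⟨s, rfl⟩ := (mem_vs_iff S FV w).mp hw
  rw [valuation_algebraMap_lt_one_iff] at hlt
  by_cases hs0 : s = 0
  · refine ⟨0, ?_, ?_, 0, (vs S FV).zero_mem, ?_⟩
    · rw [map_zero]; exact (vs S FV).zero_mem
    · rw [map_zero, map_zero]; exact zero_lt_one
    · rw [hs0, map_zero, zero_mul]
  · obtain ⟨a, u, hu⟩ := unit_mul_sh V₀ S s hs0
    have ha : a ∈ maximalIdeal V₀ := by
      rw [IsLocalRing.mem_maximalIdeal, mem_nonunits_iff]
      intro hau
      rw [IsLocalRing.mem_maximalIdeal, mem_nonunits_iff] at hlt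
      apply hlt
      rw [hu]
      exact u.isUnit.mul (hau.map _)
    have ha' : algebraMap V₀ S a ∈ maximalIdeal S := by
      rw [IsLocalRing.mem_maximalIdeal, mem_nonunits_iff]
      rw [IsLocalRing.mem_maximalIdeal, mem_nonunits_iff] at ha
      exact fun h => ha (isUnit_of_map_unit (algebraMap V₀ S) a h)
    refine ⟨algebraMap V₀ K₁ a, ?_, ?_, algebraMap S FV u, algebraMap_mem_vs S FV _, ?_⟩
    · rw [algebraMap_algebraMap_eq V₀ S K₁ FV]; exact algebraMap_mem_vs S FV _
    · rw [algebraMap_algebraMap_eq V₀ S K₁ FV, valuation_algebraMap_lt_one_iff]; exact ha'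
    · rw [algebraMap_algebraMap_eq V₀ S K₁ FV, ← map_mul, hu]

theorem good_vs_sh (V₀ S K₁ FV : Type u) [CommRing V₀] [IsDomain V₀]
    [IsDiscreteValuationRing V₀] [CommRing S] [IsLocalRing S] [Algebra V₀ S]
    [IsLocalHom (algebraMap V₀ S)] [Hensel.IsStrictHenselization V₀ S] [IsDomain S]
    [ValuationRing S] [Field K₁] [Algebra V₀ K₁] [IsFractionRing V₀ K₁] [Field FV] [Algebra S FV]
    [IsFractionRing S FV] [Algebra K₁ FV] [Algebra V₀ FV] [IsScalarTower V₀ K₁ FV]
    [IsScalarTower V₀ S FV] :
    Good (vs S FV) (algebraMap K₁ FV) := by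
  refine ⟨(isWeaklyUnramified_iff _ _).mpr (WU_vs_sh V₀ S K₁ FV), ?_⟩
  have hinjS : Function.Injective (algebraMap S FV) := IsFractionRing.injective S FV
  -- the inverse of `S → vs S FV`
  have hex : ∀ t : vs S FV, ∃ s : S, algebraMap S FV s = (t : FV) :=
    fun t => (mem_vs_iff S FV _).mp t.2
  choose rf hrf using hex
  let r : vs S FV →+* S :=
    { toFun := rf
      map_one' := hinjS (by rw [hrf, map_one]; rfl)
      map_mul' := fun x y => hinjS (by rw [hrf, map_mul, hrf, hrf]; rfl)
      map_zero' := hinjS (by rw [hrf, map_zero]; rfl)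
      map_add' := fun x y => hinjS (by rw [hrf, map_add, hrf, hrf]; rfl) }
  have hr : ∀ t : vs S FV, algebraMap S FV (r t) = (t : FV) := hrf
  haveI hrloc : IsLocalHom r := by
    constructor
    intro t ht
    obtain ⟨s', hs'⟩ := isUnit_iff_exists_inv.mp ht
    refine isUnit_iff_exists_inv.mpr ⟨⟨algebraMap S FV s', algebraMap_mem_vs S FV _⟩, ?_⟩
    apply Subtype.ext
    show (t : FV) * algebraMap S FV s' = 1
    rw [← hr t, ← map_mul, hs', map_one]
  -- the key computation
  have hkey : ∀ (v : V₀) (hv : algebraMap K₁ FV (algebraMap V₀ K₁ v) ∈ vs S FV),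
      r ⟨algebraMap K₁ FV (algebraMap V₀ K₁ v), hv⟩ = algebraMap V₀ S v := by
    intro v hv
    apply hinjS
    rw [hr, ← algebraMap_algebraMap_eq V₀ S K₁ FV]
  haveI hsep : Algebra.IsSeparable (ResidueField V₀) (ResidueField S) :=
    (Hensel.IsStrictHenselization.isSepClosure (R := V₀) (S := S)).separable
  have hgr0 : Algebra.IsGeometricallyReduced (ResidueField V₀) (ResidueField S) :=
    Groth.Agent.Lib.Seat36.SepClosure.isGeometricallyReduced_of_isSeparable _ _
  have hgr : @Algebra.IsGeometricallyReduced (ResidueField V₀) (ResidueField S) _ _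
      (ResidueField.map (algebraMap V₀ S)).toAlgebra := by
    rw [← residueField_algebra_eq V₀ S]
    exact hgr0
  refine Groth.Agent.Lib.Seat10.SepStep.isGeometricallyReduced_transfer
    (ResidueField.map (algebraMap V₀ S)) (ResidueField.map (inclOfComap (vs S FV) (algebraMap K₁ FV)))
    (RingHom.id _) (ResidueField.map r) ?_ ?_ ?_
  rotate_left 2
  · exact hgr
  · -- equality of the images of the small residue fields
    ext z
    constructor
    · rintro ⟨x, rfl⟩
      obtain ⟨v, rfl⟩ := residue_surjective x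
      have hv : algebraMap K₁ FV (algebraMap V₀ K₁ v) ∈ vs S FV := by
        rw [algebraMap_algebraMap_eq V₀ S K₁ FV]; exact algebraMap_mem_vs S FV _
      refine ⟨residue _ (⟨algebraMap V₀ K₁ v, hv⟩ : (vs S FV).comap (algebraMap K₁ FV)), ?_⟩
      simp only [RingHom.comp_apply, RingHom.id_apply, ResidueField.map_residue]
      congr 1
      exact hkey v hv
    · rintro ⟨y, rfl⟩
      obtain ⟨⟨x, hx⟩, rfl⟩ := residue_surjective y
      obtain ⟨v, rfl⟩ := (mem_vs_sh_iff V₀ S K₁ FV x).mp hx
      refine ⟨residue _ v, ?_⟩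
      simp only [RingHom.comp_apply, RingHom.id_apply, ResidueField.map_residue]
      congr 1
      exact (hkey v hx).symm
  · intro z _
    exact ⟨z, rfl⟩

end Sh

end Groth.Agent.Lib.Seat10.ShDvr
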