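import Mathlib

/-!
# A valuation argument in a DVR (Seat 10)

`ρ : R → W` with `W` a DVR, `p : R` with `ρ p` a nonzero nonunit, such that every element of `R`
mapping into `m_W` is, up to an element invertible in `W`, a multiple of `p`, and every element
of `W` is a quotient of elements of `ρ(R)`.  Then `ρ p` is a uniformizer of `W`
(`maximalIdeal_eq_span`) and `W` is the localization of `ρ(R)` (`exists_unit_denominator`).
-/

set_option autoImplicit false

universe u

namespace Groth.Agent.Lib.Seat10.Tower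

open IsDiscreteValuationRing

section Val

variable {R W : Type*} [CommRing R] [CommRing W] [IsDomain W] [IsDiscreteValuationRing W]
  (ρ : R →+* W) (p : R)

theorem exists_natCast_addVal {w : W} (hw : w ≠ 0) : ∃ n : ℕ, addVal W w = n := by
  have : addVal W w ≠ ⊤ := fun h => hw (addVal_eq_top_iff.mp h)
  obtain ⟨n, hn⟩ := ENat.ne_top_iff_exists.mp this
  exact ⟨n, hn.symm⟩

variable (hp : ρ p ∈ IsLocalRing.maximalIdeal W) (hp0 : ρ p ≠ 0)
  (hstar : ∀ x : R, ρ x ∈ IsLocalRing.maximalIdeal W → ∃ s : R, IsUnit (ρ s) ∧ s * x ∈ Ideal.span {p})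

include hp hp0 hstar

theorem exists_unit_factorization (x : R) (hx : ρ x ≠ 0) :
    ∃ (k : ℕ) (s x' : R), IsUnit (ρ s) ∧ IsUnit (ρ x') ∧ s * x = p ^ k * x' := by
  obtain ⟨e, he⟩ := exists_natCast_addVal hp0
  have he1 : 1 ≤ e := by
    rcases Nat.eq_zero_or_pos e with h0 | h0
    · exfalso
      rw [h0, Nat.cast_zero, addVal_eq_zero_iff] at he
      exact (IsLocalRing.mem_maximalIdeal _).mp hp he
    · exact h0
  obtain ⟨n, hn⟩ := exists_natCast_addVal hx
  induction n using Nat.strong_induction_on generalizing x with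
  | _ n ih =>
    by_cases hu : IsUnit (ρ x)
    · exact ⟨0, 1, x, by rw [map_one]; exact isUnit_one, hu, by simp⟩
    · obtain ⟨s₁, hs₁, hmem⟩ := hstar x ((IsLocalRing.mem_maximalIdeal _).mpr hu)
      obtain ⟨c, hc⟩ := Ideal.mem_span_singleton'.mp hmem
      have hprod : ρ s₁ * ρ x = ρ c * ρ p := by rw [← map_mul, ← map_mul, hc]
      have hc0 : ρ c ≠ 0 := by
        intro h0
        rw [h0, zero_mul] at hprod
        rcases mul_eq_zero.mp hprod with h | h
        · exact hs₁.ne_zero h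
        · exact hx h
      obtain ⟨m, hm⟩ := exists_natCast_addVal hc0
      have hv := congrArg (addVal W) hprod
      rw [addVal_mul, addVal_mul, hn, hm, he, addVal_eq_zero_iff.mpr hs₁, zero_add] at hv
      have hnm : n = m + e := by exact_mod_cast hv
      obtain ⟨k, s₂, c', hs₂, hc', hfac⟩ := ih m (by omega) c hc0 hm
      refine ⟨k + 1, s₂ * s₁, c', by rw [map_mul]; exact hs₂.mul hs₁, hc', ?_⟩
      calc s₂ * s₁ * x = s₂ * (s₁ * x) := by ring
        _ = s₂ * (c * p) := by rw [hc]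
        _ = (s₂ * c) * p := by ring
        _ = p ^ k * c' * p := by rw [hfac]
        _ = p ^ (k + 1) * c' := by ring

omit hp hp0 hstar in
theorem addVal_of_factorization {x s x' : R} {k : ℕ} (hs : IsUnit (ρ s)) (hx' : IsUnit (ρ x'))
    (h : s * x = p ^ k * x') : addVal W (ρ x) = k • addVal W (ρ p) := by
  have h1 := congrArg (fun t => addVal W (ρ t)) h
  simp only [map_mul, map_pow, addVal_mul, addVal_pow, addVal_eq_zero_iff.mpr hs,
    addVal_eq_zero_iff.mpr hx', zero_add, add_zero] at h1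
  exact h1

variable (hgen : ∀ w : W, ∃ x y : R, ρ y ≠ 0 ∧ w * ρ y = ρ x)

include hgen

theorem addVal_eq_one : addVal W (ρ p) = 1 := by
  obtain ⟨e, he⟩ := exists_natCast_addVal hp0
  obtain ⟨ϖ, hϖ⟩ := IsDiscreteValuationRing.exists_irreducible W
  obtain ⟨x, y, hy, hxy⟩ := hgen ϖ
  have hx : ρ x ≠ 0 := by
    rw [← hxy]
    exact mul_ne_zero hϖ.ne_zero hy
  obtain ⟨a, sx, x', hsx, hx', hfx⟩ := exists_unit_factorization ρ p hp hp0 hstar x hx
  obtain ⟨b, sy, y', hsy, hy', hfy⟩ := exists_unit_factorization ρ p hp hp0 hstar y hy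
  have hvx := addVal_of_factorization ρ p hsx hx' hfx
  have hvy := addVal_of_factorization ρ p hsy hy' hfy
  have hv := congrArg (addVal W) hxy
  rw [addVal_mul, addVal_uniformizer hϖ, hvx, hvy, he] at hv
  have hnat : 1 + b * e = a * e := by
    have : ((1 + b * e : ℕ) : ℕ∞) = ((a * e : ℕ) : ℕ∞) := by
      push_cast
      simpa [nsmul_eq_mul] using hv
    exact_mod_cast this
  have he1 : e ∣ 1 := by
    have h1 : e ∣ a * e := Dvd.intro_left a rfl
    have h2 : e ∣ b * e := Dvd.intro_left b rfl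
    rw [← hnat] at h1
    exact (Nat.dvd_add_left h2).mp h1
  rw [he, Nat.dvd_one.mp he1, Nat.cast_one]

theorem maximalIdeal_eq_span : IsLocalRing.maximalIdeal W = Ideal.span {ρ p} := by
  obtain ⟨ϖ, hϖ⟩ := IsDiscreteValuationRing.exists_irreducible W
  have h1 : addVal W (ρ p) = addVal W ϖ := by
    rw [addVal_eq_one ρ p hp hp0 hstar hgen, addVal_uniformizer hϖ]
  have h2 : Associated (ρ p) ϖ := (addVal_eq_iff_associated _ _).mp h1
  rw [hϖ.maximalIdeal_eq]
  exact (Ideal.span_singleton_eq_span_singleton.mpr h2).symm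

theorem exists_unit_denominator (w : W) : ∃ x s : R, IsUnit (ρ s) ∧ w * ρ s = ρ x := by
  by_cases hw : w = 0
  · exact ⟨0, 1, by rw [map_one]; exact isUnit_one, by rw [hw, zero_mul, map_zero]⟩
  obtain ⟨x, y, hy, hxy⟩ := hgen w
  have hx : ρ x ≠ 0 := by
    rw [← hxy]
    exact mul_ne_zero hw hy
  obtain ⟨a, sx, x', hsx, hx', hfx⟩ := exists_unit_factorization ρ p hp hp0 hstar x hx
  obtain ⟨b, sy, y', hsy, hy', hfy⟩ := exists_unit_factorization ρ p hp hp0 hstar y hy
  have hvx := addVal_of_factorization ρ p hsx hx' hfx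
  have hvy := addVal_of_factorization ρ p hsy hy' hfy
  have hv := congrArg (addVal W) hxy
  obtain ⟨n, hn⟩ := exists_natCast_addVal hw
  rw [addVal_mul, hvx, hvy, addVal_eq_one ρ p hp hp0 hstar hgen, hn] at hv
  have hnat : n + b = a := by
    have : ((n + b : ℕ) : ℕ∞) = ((a : ℕ) : ℕ∞) := by
      push_cast
      simpa [nsmul_eq_mul] using hv
    exact_mod_cast this
  refine ⟨p ^ n * x' * sy, sx * y', ?_, ?_⟩
  · rw [map_mul]; exact hsx.mul hy'
  · have hpb : ρ p ^ b ≠ 0 := pow_ne_zero _ hp0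
    apply mul_left_cancel₀ hpb
    have e1 : ρ p ^ b * (w * ρ (sx * y')) = ρ sx * (w * ρ (p ^ b * y')) := by
      simp only [map_mul, map_pow]; ring
    have e2 : ρ p ^ b * ρ (p ^ n * x' * sy) = ρ sy * ρ (p ^ a * x') := by
      rw [← hnat]
      simp only [map_mul, map_pow]; ring
    rw [e1, e2, ← hfy, ← hfx]
    simp only [map_mul]
    rw [← hxy]
    ring

end Val

end Groth.Agent.Lib.Seat10.Tower
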