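import Groth.Agent.Lib.Seat10TowerD

/-!
# Geometric reducedness of a field generated by a separable and an algebraic extension (Seat 10)

`isGeometricallyReduced_of_generated`: fields `k ⊆ kV, kB ⊆ kW` with `kV/k` algebraic, `kB/k`
geometrically reduced and `kW = kB[kV]`; then `kW/kV` is geometrically reduced (it is a quotient
of `kV ⊗[k] kB`, whose base change to an algebraic closure is reduced and zero-dimensional).
-/
set_option autoImplicit false

universe u

namespace Groth.Agent.Lib.Seat10.Tower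

open TensorProduct

theorem krullDimLE_zero_of_isIntegral (F T : Type*) [Field F] [CommRing T] [Algebra F T]
    [Algebra.IsIntegral F T] : Ring.KrullDimLE 0 T :=
  Ring.KrullDimLE.mk₀ fun I hI => by
    have hprime : (I.comap (algebraMap F T)).IsPrime := Ideal.comap_isPrime _ _
    have : (I.comap (algebraMap F T)).IsMaximal := by
      rw [Ideal.eq_bot_of_prime (I.comap (algebraMap F T))]
      exact Ideal.bot_isMaximal
    exact Ideal.isMaximal_of_isIntegral_of_isMaximal_comap I this

theorem krullDimLE_zero_of_ringEquiv {S T : Type*} [CommRing S] [CommRing T] (e : S ≃+* T)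
    [Ring.KrullDimLE 0 S] : Ring.KrullDimLE 0 T := by
  rw [Ring.krullDimLE_iff, ← ringKrullDim_eq_of_ringEquiv e, ← Ring.krullDimLE_iff]
  infer_instance

/-- A field `kW` generated as a ring by a geometrically reduced extension `kB` of `k` and an
algebraic extension `kV` of `k` is geometrically reduced over `kV`. -/
theorem isGeometricallyReduced_of_generated {k kV kB kW : Type u} [Field k] [Field kV] [Field kB]
    [Field kW] [Algebra k kV] [Algebra k kB] [Algebra k kW] [Algebra kV kW] [Algebra kB kW]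
    [IsScalarTower k kV kW] [IsScalarTower k kB kW]
    [Algebra.IsAlgebraic k kV] [Algebra.IsGeometricallyReduced k kB]
    (hgen : Algebra.adjoin kB (Set.range (algebraMap kV kW)) = ⊤) :
    Algebra.IsGeometricallyReduced kV kW := by
  let φ : kV ⊗[k] kB →ₐ[kV] kW :=
    Algebra.TensorProduct.lift (Algebra.ofId kV kW) (IsScalarTower.toAlgHom k kB kW)
      (fun _ _ => Commute.all _ _)
  have hφ : Function.Surjective φ := by
    intro w
    have hw : w ∈ Algebra.adjoin kB (Set.range (algebraMap kV kW)) := hgen ▸ Algebra.mem_top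
    induction hw using Algebra.adjoin_induction with
    | mem x hx =>
      obtain ⟨v, rfl⟩ := hx
      exact ⟨v ⊗ₜ 1, by simp [φ, Algebra.ofId_apply]⟩
    | algebraMap b => exact ⟨1 ⊗ₜ b, by simp [φ]⟩
    | add x y _ _ hx hy =>
      obtain ⟨x', rfl⟩ := hx
      obtain ⟨y', rfl⟩ := hy
      exact ⟨x' + y', map_add _ _ _⟩
    | mul x y _ _ hx hy =>
      obtain ⟨x', rfl⟩ := hx
      obtain ⟨y', rfl⟩ := hy
      exact ⟨x' * y', map_mul _ _ _⟩
  let Ω := AlgebraicClosure kV
  have halg : Algebra.IsAlgebraic k Ω := Algebra.IsAlgebraic.trans k kV Ω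
  let e : Ω ⊗[kV] (kV ⊗[k] kB) ≃ₐ[Ω] Ω ⊗[k] kB :=
    Algebra.TensorProduct.cancelBaseChange k kV Ω Ω kB
  have hred : IsReduced (Ω ⊗[kV] (kV ⊗[k] kB)) := isReduced_of_injective e e.injective
  have hdim1 : Ring.KrullDimLE 0 (kB ⊗[k] Ω) := krullDimLE_zero_of_isIntegral kB _
  have hdim : Ring.KrullDimLE 0 (Ω ⊗[kV] (kV ⊗[k] kB)) :=
    krullDimLE_zero_of_ringEquiv
      ((Algebra.TensorProduct.comm k kB Ω).toRingEquiv.trans e.symm.toRingEquiv)
  let ψ : Ω ⊗[kV] (kV ⊗[k] kB) →ₐ[Ω] Ω ⊗[kV] kW :=
    Algebra.TensorProduct.map (AlgHom.id Ω Ω) φ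
  have hψ : Function.Surjective ψ :=
    Algebra.TensorProduct.map_surjective _ _ Function.surjective_id hφ
  have hq : IsReduced ((Ω ⊗[kV] (kV ⊗[k] kB)) ⧸ RingHom.ker ψ.toRingHom) :=
    isReduced_quotient_of_krullDimLE_zero _
  let q := RingHom.quotientKerEquivOfSurjective (f := ψ.toRingHom) hψ
  rw [Algebra.isGeometricallyReduced_field_iff]
  exact isReduced_of_injective q.symm q.symm.injective

end Groth.Agent.Lib.Seat10.Tower
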