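import Groth.Agent.Lib.Seat10TowerE
import Groth.Agent.Lib.Seat10TowerF
import Groth.Agent.Lib.Seat10TowerG

/-!
# Weakly unramified extensions with separable residue field: the abstract local statement (Seat 10)

Local rings `A → B`, `A → V`, and a DVR `W` receiving `B` and `V` compatibly, with `m_A B = m_B`,
`m_V = (π₁)`, `κ(V)/κ(A)` algebraic, `κ(B)/κ(A)` geometrically reduced, and every element of `W`
a quotient of elements of the image of `B ⊗[A] V`.  Then `m_V W = m_W`
(`map_maximalIdeal_eq`) and `κ(W)/κ(V)` is geometrically reduced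
(`isGeometricallyReduced_residueField`).
-/

set_option autoImplicit false

universe u

namespace Groth.Agent.Lib.Seat10.Tower

open IsLocalRing TensorProduct

section Main

variable {A B V W : Type u} [CommRing A] [IsLocalRing A] [CommRing B] [IsLocalRing B]
  [CommRing V] [IsLocalRing V] [CommRing W] [IsDomain W] [IsDiscreteValuationRing W]
  [Algebra A B] [Algebra A V] [Algebra A W] [Algebra B W] [Algebra V W]
  [IsScalarTower A B W] [IsScalarTower A V W]
  [IsLocalHom (algebraMap A B)] [IsLocalHom (algebraMap A V)] [IsLocalHom (algebraMap B W)]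
  [IsLocalHom (algebraMap V W)] [IsLocalHom (algebraMap A W)]

variable (A B V W) in
/-- the comparison map `B ⊗[A] V → W` -/
noncomputable def rho : B ⊗[A] V →ₐ[A] W :=
  Algebra.TensorProduct.productMap (IsScalarTower.toAlgHom A B W) (IsScalarTower.toAlgHom A V W)

theorem isReduced_and_krullDimLE_zero [Algebra.IsAlgebraic (ResidueField A) (ResidueField V)]
    [Algebra.IsGeometricallyReduced (ResidueField A) (ResidueField B)] :
    IsReduced (ResidueField B ⊗[A] ResidueField V) ∧
      Ring.KrullDimLE 0 (ResidueField B ⊗[A] ResidueField V) := by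
  have hc : TensorProduct.CompatibleSMul A (ResidueField A) (ResidueField B) (ResidueField V) := by
    refine ⟨fun c m n => ?_⟩
    obtain ⟨a, rfl⟩ := IsLocalRing.residue_surjective c
    rw [← ResidueField.algebraMap_eq, algebraMap_smul, algebraMap_smul, TensorProduct.smul_tmul]
  let e : ResidueField B ⊗[A] ResidueField V ≃ₐ[A] ResidueField B ⊗[ResidueField A] ResidueField V :=
    Algebra.TensorProduct.equivOfCompatibleSMul (ResidueField A) A A (ResidueField B)
      (ResidueField V)
  let c : ResidueField B ⊗[ResidueField A] ResidueField V ≃ₐ[ResidueField A]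
      ResidueField V ⊗[ResidueField A] ResidueField B :=
    Algebra.TensorProduct.comm _ _ _
  have hred : IsReduced (ResidueField V ⊗[ResidueField A] ResidueField B) := inferInstance
  have hdim : Ring.KrullDimLE 0 (ResidueField B ⊗[ResidueField A] ResidueField V) :=
    krullDimLE_zero_of_isIntegral (ResidueField B) _
  refine ⟨isReduced_of_injective (c.toRingEquiv.toRingHom.comp e.toRingEquiv.toRingHom)
    (c.injective.comp e.injective), krullDimLE_zero_of_ringEquiv e.symm.toRingEquiv⟩

section Concl

variable (hwu : (maximalIdeal A).map (algebraMap A B) = maximalIdeal B)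
  (π₁ : V) (hπ₁ : maximalIdeal V = Ideal.span {π₁}) (hπ₁0 : algebraMap V W π₁ ≠ 0)
  [Algebra.IsAlgebraic (ResidueField A) (ResidueField V)]
  [Algebra.IsGeometricallyReduced (ResidueField A) (ResidueField B)]
  (hgen : ∀ w : W, ∃ x y : B ⊗[A] V, rho A B V W y ≠ 0 ∧ w * rho A B V W y = rho A B V W x)

include hwu hπ₁

omit [IsDomain W] [IsDiscreteValuationRing W] [IsLocalHom (algebraMap A B)]
  [IsLocalHom (algebraMap B W)] [IsLocalHom (algebraMap A W)]
  [Algebra.IsAlgebraic (ResidueField A) (ResidueField V)] in
theorem rho_star [IsLocalRing W] [IsReduced (ResidueField B ⊗[A] ResidueField V)]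
    [Ring.KrullDimLE 0 (ResidueField B ⊗[A] ResidueField V)] (x : B ⊗[A] V)
    (hx : (rho A B V W).toRingHom x ∈ maximalIdeal W) :
    ∃ s : B ⊗[A] V, IsUnit ((rho A B V W).toRingHom s) ∧
      s * x ∈ Ideal.span {(1 : B) ⊗ₜ[A] π₁} := by
  have hπm : π₁ ∈ maximalIdeal V := hπ₁ ▸ Ideal.mem_span_singleton_self π₁
  have hγ : (IsScalarTower.toAlgHom A V W) π₁ ∈ maximalIdeal W := by
    rw [IsLocalRing.mem_maximalIdeal, mem_nonunits_iff] at hπm ⊢
    exact fun h => hπm (isUnit_of_map_unit (algebraMap V W) π₁ h)
  exact exists_unit_mul_mem_span (IsScalarTower.toAlgHom A B W) (IsScalarTower.toAlgHom A V W)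
    hwu π₁ hπ₁ hγ x hx

include hπ₁0 hgen

omit [IsLocalHom (algebraMap B W)] [IsLocalHom (algebraMap A W)] in
theorem map_maximalIdeal_eq : (maximalIdeal V).map (algebraMap V W) = maximalIdeal W := by
  obtain ⟨hred, hdim⟩ := isReduced_and_krullDimLE_zero (A := A) (B := B) (V := V)
  have hρp : (rho A B V W).toRingHom ((1 : B) ⊗ₜ[A] π₁) = algebraMap V W π₁ := by
    show rho A B V W ((1 : B) ⊗ₜ[A] π₁) = _
    simp [rho]
  have hπm : π₁ ∈ maximalIdeal V := hπ₁ ▸ Ideal.mem_span_singleton_self π₁
  have hp : (rho A B V W).toRingHom ((1 : B) ⊗ₜ[A] π₁) ∈ maximalIdeal W := by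
    rw [hρp, IsLocalRing.mem_maximalIdeal, mem_nonunits_iff]
    rw [IsLocalRing.mem_maximalIdeal, mem_nonunits_iff] at hπm
    exact fun h => hπm (isUnit_of_map_unit (algebraMap V W) π₁ h)
  have hp0 : (rho A B V W).toRingHom ((1 : B) ⊗ₜ[A] π₁) ≠ 0 := by rw [hρp]; exact hπ₁0
  have := maximalIdeal_eq_span (rho A B V W).toRingHom ((1 : B) ⊗ₜ[A] π₁) hp hp0
    (rho_star hwu π₁ hπ₁) hgen
  rw [this, hρp, hπ₁, Ideal.map_span, Set.image_singleton]

theorem isGeometricallyReduced_residueField :
    Algebra.IsGeometricallyReduced (ResidueField V) (ResidueField W) := by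
  obtain ⟨hred, hdim⟩ := isReduced_and_krullDimLE_zero (A := A) (B := B) (V := V)
  have hρp : (rho A B V W).toRingHom ((1 : B) ⊗ₜ[A] π₁) = algebraMap V W π₁ := by
    show rho A B V W ((1 : B) ⊗ₜ[A] π₁) = _
    simp [rho]
  have hπm : π₁ ∈ maximalIdeal V := hπ₁ ▸ Ideal.mem_span_singleton_self π₁
  have hp : (rho A B V W).toRingHom ((1 : B) ⊗ₜ[A] π₁) ∈ maximalIdeal W := by
    rw [hρp, IsLocalRing.mem_maximalIdeal, mem_nonunits_iff]
    rw [IsLocalRing.mem_maximalIdeal, mem_nonunits_iff] at hπm
    exact fun h => hπm (isUnit_of_map_unit (algebraMap V W) π₁ h)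
  have hp0 : (rho A B V W).toRingHom ((1 : B) ⊗ₜ[A] π₁) ≠ 0 := by rw [hρp]; exact hπ₁0
  have hden := exists_unit_denominator (rho A B V W).toRingHom ((1 : B) ⊗ₜ[A] π₁) hp hp0
    (rho_star hwu π₁ hπ₁) hgen
  apply isGeometricallyReduced_of_generated (k := ResidueField A) (kB := ResidueField B)
  -- the subalgebra generated by `κ(V)`
  have hint : ∀ x ∈ Set.range (algebraMap (ResidueField V) (ResidueField W)),
      IsIntegral (ResidueField B) x := by
    rintro _ ⟨v, rfl⟩
    have h1 : IsIntegral (ResidueField A) v := Algebra.IsIntegral.isIntegral v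
    have h2 : IsIntegral (ResidueField A) (algebraMap (ResidueField V) (ResidueField W) v) :=
      h1.algebraMap
    exact h2.tower_top
  have hCint : Algebra.IsIntegral (ResidueField B)
      (Algebra.adjoin (ResidueField B) (Set.range (algebraMap (ResidueField V) (ResidueField W)))) :=
    Algebra.IsIntegral.adjoin hint
  have hres : ∀ x : B ⊗[A] V, residue W (rho A B V W x) ∈
      Algebra.adjoin (ResidueField B) (Set.range (algebraMap (ResidueField V) (ResidueField W))) := by
    intro x
    induction x using TensorProduct.induction_on with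
    | zero => rw [map_zero, map_zero]; exact zero_mem _
    | tmul b v =>
      have : rho A B V W (b ⊗ₜ[A] v) = algebraMap B W b * algebraMap V W v := by simp [rho]
      rw [this, map_mul]
      refine mul_mem ?_ ?_
      · have : residue W (algebraMap B W b) =
            algebraMap (ResidueField B) (ResidueField W) (residue B b) := rfl
        rw [this]
        exact Subalgebra.algebraMap_mem _ _
      · have : residue W (algebraMap V W v) =
            algebraMap (ResidueField V) (ResidueField W) (residue V v) := rfl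
        rw [this]
        exact Algebra.subset_adjoin ⟨_, rfl⟩
    | add x y hx hy => rw [map_add, map_add]; exact add_mem hx hy
  rw [eq_top_iff]
  intro wbar _
  obtain ⟨w, rfl⟩ := IsLocalRing.residue_surjective wbar
  obtain ⟨x, s, hs, hws⟩ := hden w
  have hs' : IsUnit (residue W ((rho A B V W) s)) := hs.map (residue W)
  have h1 : residue W w = residue W (rho A B V W x) * (residue W (rho A B V W s))⁻¹ := by
    have h2 := congrArg (residue W) hws
    rw [map_mul] at h2
    rw [eq_mul_inv_iff_mul_eq₀ hs'.ne_zero]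
    exact h2
  rw [h1]
  refine mul_mem (hres x) ?_
  have halg : IsAlgebraic (ResidueField B) (residue W (rho A B V W s)) :=
    (hCint.isIntegral ⟨_, hres s⟩).isAlgebraic.algebraMap (A := ResidueField W)
  exact Subalgebra.inv_mem_of_algebraic _ (x := ⟨_, hres s⟩) halg

end Concl

end Main

end Groth.Agent.Lib.Seat10.Tower
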