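import Groth.Agent.Lib.Seat10ShDvrC
import Groth.Agent.Lib.Seat10TowerK
import Groth.Agent.Lib.Seat10SepStepJ

/-!
# Solutions persist in bigger finite extensions (Seat 10)

`isSolution_of_tower`: if the finite extension `K₁/K` is a solution for the extension of discrete
valuation rings `A ⊆ B`, then so is every finite extension `K₂/K` containing `K₁`.
-/

set_option autoImplicit false
set_option linter.style.haveILetI false

universe u

namespace Groth.Agent.Lib.Seat10.ShDvr

open EtRam IsLocalRing Groth.Agent.Lib.Seat10.Tower Groth.Agent.Lib.Seat10.ValDom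
  Groth.Agent.Lib.Seat10.SepStep

/-- the local statement behind `isSolution_of_tower` -/
theorem good_of_tower_aux (A B K L : Type u) [CommRing A] [IsDomain A]
    [IsDiscreteValuationRing A]
    [CommRing B] [IsDomain B] [IsDiscreteValuationRing B] [Algebra A B]
    [IsLocalHom (algebraMap A B)]
    [Field K] [Field L] [Algebra A K] [IsFractionRing A K] [Algebra B L] [IsFractionRing B L]
    [Algebra K L] [Algebra A L] [IsScalarTower A K L] [IsScalarTower A B L]
    (K₁ K₂ : Type u) [Field K₁] [Algebra K K₁] [FiniteDimensional K K₁]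
    [Field K₂] [Algebra K₁ K₂] [FiniteDimensional K₁ K₂]
    (F M₂ : Type u) [Field F] [Field M₂] [Algebra L F] [Algebra K₁ F] [Algebra K F]
    [IsScalarTower K L F] [IsScalarTower K K₁ F] [Algebra F M₂] [Algebra K₂ M₂] [Algebra K₁ M₂]
    [IsScalarTower K₁ F M₂] [IsScalarTower K₁ K₂ M₂]
    (hadjF : Algebra.adjoin L (Set.range (algebraMap K₁ F)) = ⊤)
    (hadj₂ : Algebra.adjoin F (Set.range (algebraMap K₂ M₂)) = ⊤)
    (W₂ : ValuationSubring M₂) (W₁ : ValuationSubring F)
    (hW₁ : W₂.comap (algebraMap F M₂) = W₁)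
    (hdom : Dominates B ((algebraMap L F).comp (algebraMap B L)) W₁)
    (hgood : Good W₁ (algebraMap K₁ F)) : Good W₂ (algebraMap K₂ M₂) := by
  have hcompat : ∀ a : A, algebraMap K₁ F (algebraMap K K₁ (algebraMap A K a)) =
      algebraMap L F (algebraMap B L (algebraMap A B a)) := by
    intro a
    rw [← IsScalarTower.algebraMap_apply K K₁ F, IsScalarTower.algebraMap_apply K L F,
      ← IsScalarTower.algebraMap_apply A K L, ← IsScalarTower.algebraMap_apply A B L]
  have hdomV : Dominates A ((algebraMap K K₁).comp (algebraMap A K))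
      (W₁.comap (algebraMap K₁ F)) := by
    rw [← dominates_comp_iff]
    refine ⟨fun a => ?_, fun a ha => ?_⟩
    · simp only [RingHom.comp_apply]
      rw [hcompat]
      exact hdom.1 _
    · simp only [RingHom.comp_apply]
      rw [hcompat]
      apply hdom.2
      rw [IsLocalRing.mem_maximalIdeal, mem_nonunits_iff] at ha ⊢
      exact fun h => ha (isUnit_of_map_unit (algebraMap A B) a h)
  haveI hV_dvr : IsDiscreteValuationRing (W₁.comap (algebraMap K₁ F)) :=
    isDiscreteValuationRing_of_dominates_finite A K _ hdomV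
  haveI hfinLF : FiniteDimensional L F := finiteDimensional_of_adjoin_eq_top K hadjF
  haveI hW_dvr : IsDiscreteValuationRing W₁ := isDiscreteValuationRing_of_dominates_finite B L W₁ hdom
  letI algVW : Algebra (W₁.comap (algebraMap K₁ F)) W₁ := (inclOfComap W₁ (algebraMap K₁ F)).toAlgebra
  haveI : IsLocalHom (algebraMap (W₁.comap (algebraMap K₁ F)) W₁) :=
    isLocalHom_inclOfComap W₁ (algebraMap K₁ F)
  letI algVF : Algebra (W₁.comap (algebraMap K₁ F)) F :=
    ((algebraMap K₁ F).comp (algebraMap (W₁.comap (algebraMap K₁ F)) K₁)).toAlgebra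
  haveI : IsScalarTower (W₁.comap (algebraMap K₁ F)) K₁ F :=
    IsScalarTower.of_algebraMap_eq (fun _ => rfl)
  haveI : IsScalarTower (W₁.comap (algebraMap K₁ F)) W₁ F :=
    IsScalarTower.of_algebraMap_eq (fun _ => rfl)
  have hwu : EtRam.IsWeaklyUnramified (W₁.comap (algebraMap K₁ F)) W₁ := hgood.1
  haveI hgr : Algebra.IsGeometricallyReduced (ResidueField (W₁.comap (algebraMap K₁ F)))
      (ResidueField W₁) := by
    rw [residueField_algebra_eq]
    exact hgood.2
  have hsol : EtRam.IsSolution W₁ K₁ F K₂ :=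
    isSolution_of_weaklyUnramified_separable (W₁.comap (algebraMap K₁ F)) W₁ K₁ F hwu K₂
  refine hsol M₂ hadj₂ W₂ ?_
  rw [dominates_comp_iff, hW₁]
  refine ⟨fun w => w.2, fun w hw => ?_⟩
  exact (ValuationSubring.valuation_lt_one_iff W₁ w).mp hw

theorem isSolution_of_tower (A B K L : Type u) [CommRing A] [IsDomain A]
    [IsDiscreteValuationRing A]
    [CommRing B] [IsDomain B] [IsDiscreteValuationRing B] [Algebra A B]
    [IsLocalHom (algebraMap A B)]
    [Field K] [Field L] [Algebra A K] [IsFractionRing A K] [Algebra B L] [IsFractionRing B L]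
    [Algebra K L] [Algebra A L] [IsScalarTower A K L] [IsScalarTower A B L]
    (K₁ K₂ : Type u) [Field K₁] [Algebra K K₁] [FiniteDimensional K K₁]
    [Field K₂] [Algebra K K₂] [FiniteDimensional K K₂] [Algebra K₁ K₂] [IsScalarTower K K₁ K₂]
    (h : EtRam.IsSolution B K L K₁) : EtRam.IsSolution B K L K₂ := by
  intro M₂ _ _ _ _ _ _ hadj W₂ hW₂
  letI algK₁M₂ : Algebra K₁ M₂ := ((algebraMap K₂ M₂).comp (algebraMap K₁ K₂)).toAlgebra
  haveI tK₁K₂M₂ : IsScalarTower K₁ K₂ M₂ := IsScalarTower.of_algebraMap_eq (fun _ => rfl)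
  haveI tKK₁M₂ : IsScalarTower K K₁ M₂ := IsScalarTower.of_algebraMap_eq (fun k => by
    show algebraMap K M₂ k = algebraMap K₂ M₂ (algebraMap K₁ K₂ (algebraMap K K₁ k))
    rw [← IsScalarTower.algebraMap_apply K K₁ K₂, ← IsScalarTower.algebraMap_apply K K₂ M₂])
  haveI hfinLM : FiniteDimensional L M₂ := finiteDimensional_of_adjoin_eq_top K hadj
  haveI : Algebra.IsAlgebraic L M₂ := Algebra.IsAlgebraic.of_finite L M₂
  haveI : FiniteDimensional K₁ K₂ := Module.Finite.of_restrictScalars_finite K K₁ K₂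
  -- the compositum `F = L K₁` inside `M₂`
  have hadjF : Algebra.adjoin L (Set.range (algebraMap K₁ (compF L K₁ M₂))) = ⊤ :=
    compF_adjoin_eq_top L K₁ M₂
  haveI : IsScalarTower K K₁ (compF L K₁ M₂) := compF.isScalarTower' L K₁ M₂ K
  have hW₁ : Dominates B ((algebraMap L (compF L K₁ M₂)).comp (algebraMap B L))
      (W₂.comap (algebraMap (compF L K₁ M₂) M₂)) := by
    rw [← dominates_comp_iff]
    exact hW₂
  have hgood : Good (W₂.comap (algebraMap (compF L K₁ M₂) M₂)) (algebraMap K₁ (compF L K₁ M₂)) :=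
    h (compF L K₁ M₂) hadjF _ hW₁
  have hadj₂ : Algebra.adjoin (compF L K₁ M₂) (Set.range (algebraMap K₂ M₂)) = ⊤ := by
    rw [eq_top_iff]
    rintro z -
    have hz : z ∈ Algebra.adjoin L (Set.range (algebraMap K₂ M₂)) := by rw [hadj]; trivial
    induction hz using Algebra.adjoin_induction with
    | mem x hx => exact Algebra.subset_adjoin hx
    | algebraMap l => exact Subalgebra.algebraMap_mem _ (algebraMap L (compF L K₁ M₂) l)
    | add x y _ _ hx hy => exact add_mem hx hy
    | mul x y _ _ hx hy => exact mul_mem hx hy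
  exact good_of_tower_aux A B K L K₁ K₂ (compF L K₁ M₂) M₂ hadjF hadj₂ W₂ _ rfl hW₁ hgood

end Groth.Agent.Lib.Seat10.ShDvr
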