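import Mathlib

/-!
# Descending a finite extension along an algebraic extension (Seat 10)

`exists_finite_splitting`: for `K'/K` algebraic and `K₁'/K'` finite there is a finite extension
`K₁/K` (separable when `K'/K` and `K₁'/K'` are) such that `K₁'` embeds over `K'` in every field
containing `K'` and `K₁` compatibly over `K`.
-/

set_option autoImplicit false
set_option linter.style.haveILetI false

universe u

namespace Groth.Agent.Lib.Seat10.ShDvr

open Polynomial IntermediateField

theorem exists_finite_splitting (K K' K₁' : Type u) [Field K] [Field K'] [Algebra K K']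
    [Algebra.IsAlgebraic K K'] [Field K₁'] [Algebra K' K₁'] [FiniteDimensional K' K₁'] :
    ∃ (K₁ : Type u) (_ : Field K₁) (_ : Algebra K K₁), FiniteDimensional K K₁ ∧
      (Algebra.IsSeparable K K' → Algebra.IsSeparable K' K₁' → Algebra.IsSeparable K K₁) ∧
      ∀ (E : Type u) [Field E] [Algebra K E] [Algebra K' E] [Algebra K₁ E] [IsScalarTower K K' E]
        [IsScalarTower K K₁ E], Nonempty (K₁' →ₐ[K'] E) := by
  classical
  letI algKK₁' : Algebra K K₁' := ((algebraMap K' K₁').comp (algebraMap K K')).toAlgebra
  haveI : IsScalarTower K K' K₁' := IsScalarTower.of_algebraMap_eq (fun _ => rfl)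
  haveI : Algebra.IsAlgebraic K' K₁' := Algebra.IsAlgebraic.of_finite K' K₁'
  haveI : Algebra.IsAlgebraic K K₁' := Algebra.IsAlgebraic.trans K K' K₁'
  let b := Module.finBasis K' K₁'
  let f : K[X] := ∏ i, minpoly K (b i)
  have hint : ∀ i, IsIntegral K (b i) := fun i => Algebra.IsIntegral.isIntegral (b i)
  have hf0 : f ≠ 0 := Finset.prod_ne_zero_iff.mpr (fun i _ => minpoly.ne_zero (hint i))
  refine ⟨f.SplittingField, inferInstance, inferInstance, inferInstance, ?_, ?_⟩
  · intro hs1 hs2
    haveI : Algebra.IsSeparable K K₁' := Algebra.IsSeparable.trans K K' K₁'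
    have sp : f.IsSplittingField K f.SplittingField := inferInstance
    rw [← isSeparable_top, ← (isSplittingField_iff_intermediateField.mp sp).2,
      isSeparable_adjoin_iff_isSeparable]
    intro x hx
    have hx0 : aeval x f = 0 := aeval_eq_zero_of_mem_rootSet hx
    rw [map_prod, Finset.prod_eq_zero_iff] at hx0
    obtain ⟨i, -, hi⟩ := hx0
    have hsep : (minpoly K (b i)).Separable := Algebra.IsSeparable.isSeparable K (b i)
    exact hsep.of_dvd (minpoly.dvd K x hi)
  · intro E _ _ _ _ _ _
    have hadj : adjoin K' (Set.range b) = ⊤ := by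
      rw [eq_top_iff]
      rintro z -
      have hz : z ∈ Submodule.span K' (Set.range b) := by rw [b.span_eq]; trivial
      have hle : Submodule.span K' (Set.range b) ≤
          Subalgebra.toSubmodule (adjoin K' (Set.range b)).toSubalgebra :=
        Submodule.span_le.mpr (fun y hy => subset_adjoin K' _ hy)
      exact hle hz
    refine nonempty_algHom_of_adjoin_splits ?_ hadj
    rintro _ ⟨i, rfl⟩
    refine ⟨Algebra.IsIntegral.isIntegral (b i), ?_⟩
    have hdvd : minpoly K' (b i) ∣ (minpoly K (b i)).map (algebraMap K K') :=
      minpoly.dvd_map_of_isScalarTower K K' (b i)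
    have hsplit_f : (f.map (algebraMap K E)).Splits := by
      have h1 : (f.map (algebraMap K f.SplittingField)).Splits := SplittingField.splits f
      have h2 := h1.map (algebraMap f.SplittingField E)
      rwa [Polynomial.map_map, ← IsScalarTower.algebraMap_eq] at h2
    have hsplit_i : ((minpoly K (b i)).map (algebraMap K E)).Splits := by
      refine hsplit_f.of_dvd ?_ ?_
      · exact (Polynomial.map_ne_zero_iff (algebraMap K E).injective).mpr hf0
      · exact Polynomial.map_dvd _ (Finset.dvd_prod_of_mem _ (Finset.mem_univ i))
    refine hsplit_i.of_dvd ?_ ?_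
    · exact (Polynomial.map_ne_zero_iff (algebraMap K E).injective).mpr (minpoly.ne_zero (hint i))
    · have := Polynomial.map_dvd (algebraMap K' E) hdvd
      rwa [Polynomial.map_map, ← IsScalarTower.algebraMap_eq] at this

end Groth.Agent.Lib.Seat10.ShDvr
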