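import Groth.Agent.Lib.Seat10ShDvrD
import Groth.Agent.Lib.Seat10ShDvrE

/-!
# Descent of the local predicate through a diagram of fields (Seat 10)

* `good_of_diagram`: the formal part of the descent of solutions from the strict henselizations;
* `injective_of_sh`: a ring map out of the strict henselization of a DVR into a domain is injective
  as soon as its restriction to the DVR is;
* `isSolution_compF`: the compositum `K' K₁` inside a field `FV` is a solution for `A' ⊆ B'`.
-/

set_option autoImplicit false
set_option linter.style.haveILetI false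

universe u

namespace Groth.Agent.Lib.Seat10.ShDvr

open EtRam IsLocalRing Groth.Agent.Lib.Seat10.Tower Groth.Agent.Lib.Seat10.ValDom
  Groth.Agent.Lib.Seat10.SepStep

/-- the formal part of the descent -/
theorem good_of_diagram {K₁ M F FV N' M' : Type u} [Field K₁] [Field M] [Field F] [Field FV]
    [Field N'] [Field M'] (W : ValuationSubring M) (X : ValuationSubring F)
    (Y : ValuationSubring FV) (f : K₁ →+* M) (jM : M →+* F) (jFV : FV →+* F) (iK₁ : K₁ →+* FV)
    (lam : N' →+* FV) (ι : K₁ →+* N') (μ : M' →+* F) (f' : N' →+* M') (j : M →+* M')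
    (h1 : jFV.comp iK₁ = jM.comp f) (hW : X.comap jM = W) (hY : X.comap jFV = Y)
    (h2 : lam.comp ι = iK₁) (h3 : μ.comp f' = jFV.comp lam) (h4 : μ.comp j = jM)
    (gY : Good Y iK₁) (gX : Good (X.comap μ) f') : Good W f := by
  have g2 : Good (Y.comap lam) ι := good_comap Y lam ι (by rw [h2]; exact gY)
  have e1 : Y.comap lam = (X.comap μ).comap f' := by
    rw [← hY, ValuationSubring.comap_comap, ValuationSubring.comap_comap, h3]
  rw [e1] at g2
  have g5 : Good (X.comap μ) (f'.comp ι) := good_comp _ f' ι gX g2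
  have e2 : f'.comp ι = j.comp f := by
    apply RingHom.ext
    intro x
    apply μ.injective
    have a1 : μ (f' (ι x)) = jFV (lam (ι x)) := congrArg (fun r : N' →+* F => r (ι x)) h3
    have a2 : lam (ι x) = iK₁ x := congrArg (fun r : K₁ →+* FV => r x) h2
    have a3 : jFV (iK₁ x) = jM (f x) := congrArg (fun r : K₁ →+* F => r x) h1
    have a4 : μ (j (f x)) = jM (f x) := congrArg (fun r : M →+* F => r (f x)) h4
    simp only [RingHom.comp_apply]
    rw [a1, a2, a3, a4]
  rw [e2] at g5
  have g6 : Good ((X.comap μ).comap j) f := good_comap _ j f g5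
  have e3 : (X.comap μ).comap j = W := by
    rw [ValuationSubring.comap_comap, h4, hW]
  rw [e3] at g6
  exact g6

/-- a ring map from the strict henselization of a DVR to a domain is injective as soon as its
restriction to the DVR is -/
theorem injective_of_sh (R S T : Type u) [CommRing R] [IsDomain R] [IsDiscreteValuationRing R]
    [CommRing S] [IsLocalRing S] [Algebra R S] [IsLocalHom (algebraMap R S)]
    [Hensel.IsStrictHenselization R S] [CommRing T] [IsDomain T] (ψ : S →+* T)
    (h : Function.Injective (ψ.comp (algebraMap R S))) : Function.Injective ψ := by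
  rw [injective_iff_map_eq_zero]
  intro s hs
  by_contra hs0
  obtain ⟨a, u, hu⟩ := unit_mul_sh R S s hs0
  have ha : a ≠ 0 := by
    rintro rfl
    rw [map_zero, mul_zero] at hu
    exact hs0 hu
  have h1 : ψ (algebraMap R S a) ≠ 0 := fun h0 => ha (h (h0.trans (map_zero _).symm))
  have h2 : ψ (u : S) ≠ 0 := (u.isUnit.map ψ).ne_zero
  rw [hu, map_mul] at hs
  exact (mul_ne_zero h2 h1) hs

/-- the compositum `K' K₁` inside `FV` is a solution for `A' ⊆ B'` as soon as `K₁'` is and `K₁'`
embeds in every field containing `K'` and `K₁` -/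
theorem isSolution_compF (A' B' K' L' : Type u) [CommRing A'] [IsDomain A']
    [IsDiscreteValuationRing A']
    [CommRing B'] [IsDomain B'] [IsDiscreteValuationRing B'] [Algebra A' B']
    [IsLocalHom (algebraMap A' B')]
    [Field K'] [Field L'] [Algebra A' K'] [IsFractionRing A' K'] [Algebra B' L']
    [IsFractionRing B' L']
    [Algebra K' L'] [Algebra A' L'] [IsScalarTower A' K' L'] [IsScalarTower A' B' L']
    (K K₁ K₁' FV : Type u) [Field K] [Field K₁] [Field K₁'] [Field FV] [Algebra K K']
    [Algebra K K₁] [FiniteDimensional K K₁] [Algebra K' K₁'] [FiniteDimensional K' K₁']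
    [Algebra K' FV] [Algebra K₁ FV] [Algebra K FV] [IsScalarTower K K' FV] [IsScalarTower K K₁ FV]
    [Algebra.IsAlgebraic K₁ FV]
    (hemb : ∀ (E : Type u) [Field E] [Algebra K E] [Algebra K' E] [Algebra K₁ E]
      [IsScalarTower K K' E] [IsScalarTower K K₁ E], Nonempty (K₁' →ₐ[K'] E))
    (hsol : EtRam.IsSolution B' K' L' K₁') :
    FiniteDimensional K' (compF K' K₁ FV) ∧ EtRam.IsSolution B' K' L' (compF K' K₁ FV) := by
  haveI : Algebra.IsAlgebraic K K₁ := Algebra.IsAlgebraic.of_finite K K₁
  haveI : Algebra.IsAlgebraic K FV := Algebra.IsAlgebraic.trans K K₁ FV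
  haveI : Algebra.IsAlgebraic K' FV := Algebra.IsAlgebraic.tower_top (K := K) K'
  have hadj : Algebra.adjoin K' (Set.range (algebraMap K₁ (compF K' K₁ FV))) = ⊤ :=
    compF_adjoin_eq_top K' K₁ FV
  haveI : IsScalarTower K K₁ (compF K' K₁ FV) := compF.isScalarTower' K' K₁ FV K
  haveI hfin : FiniteDimensional K' (compF K' K₁ FV) := finiteDimensional_of_adjoin_eq_top K hadj
  obtain ⟨σ⟩ := hemb (compF K' K₁ FV)
  letI : Algebra K₁' (compF K' K₁ FV) := σ.toRingHom.toAlgebra
  haveI : IsScalarTower K' K₁' (compF K' K₁ FV) :=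
    IsScalarTower.of_algebraMap_eq (fun k => (σ.commutes k).symm)
  exact ⟨hfin, isSolution_of_tower A' B' K' L' K₁' (compF K' K₁ FV) hsol⟩

end Groth.Agent.Lib.Seat10.ShDvr
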