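import Groth.Prelude.Def_Hensel
import Mathlib

/-!
# Lifting local homomorphisms to strict henselizations (helper15)

* `exists_lift`: a local homomorphism `φ : R₁ → R₂` lifts to a local homomorphism `S₁ → S₂` between
  strict henselizations.
* `exists_factor`: given local `a : R₁ → R₂`, `b : R₂ → R₃`, strict henselizations `Sᵢ` of `Rᵢ`, a local
  lift `φ : S₁ → S₃` of `b ∘ a` and a local lift `ψ₂ : S₂ → S₃` of `b`, there is a local lift
  `ψ₁ : S₁ → S₂` of `a` with `ψ₂ ∘ ψ₁ = φ`.
-/

set_option autoImplicit false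
set_option linter.style.haveILetI false
universe u

namespace Groth.Agent.Lib.Seat15.StrictHens

open IsLocalRing Polynomial

/-- An element separable over a separably closed field lies in it. -/
theorem mem_range_of_isSeparable {k K : Type*} [Field k] [Field K] [Algebra k K] [IsSepClosed k]
    (x : K) (hsep : IsSeparable k x) : x ∈ (algebraMap k K).range := by
  refine ⟨-(minpoly k x).coeff 0, ?_⟩
  have hint : IsIntegral k x := hsep.isIntegral
  have hq : (minpoly k x).leadingCoeff = 1 := minpoly.monic hint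
  have h : (minpoly k x).degree = 1 :=
    IsSepClosed.degree_eq_one_of_irreducible k (minpoly.irreducible hint) hsep
  have : aeval x (minpoly k x) = 0 := minpoly.aeval k x
  rw [eq_X_add_C_of_degree_eq_one h, hq, C_1, one_mul, aeval_add, aeval_X, aeval_C,
    add_eq_zero_iff_eq_neg] at this
  exact (map_neg (algebraMap k K) ((minpoly k x).coeff 0)).symm ▸ this.symm

section

variable {R₁ R₂ S₁ S₂ : Type u} [CommRing R₁] [CommRing R₂] [CommRing S₁] [CommRing S₂]
  [IsLocalRing R₁] [IsLocalRing R₂] [IsLocalRing S₁] [IsLocalRing S₂]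
  [Algebra R₁ S₁] [IsLocalHom (algebraMap R₁ S₁)] [Hensel.IsStrictHenselization R₁ S₁]
  [Algebra R₂ S₂] [IsLocalHom (algebraMap R₂ S₂)] [Hensel.IsStrictHenselization R₂ S₂]

/-- A ring hom between local rings compatible with residue maps through a ring hom of residue fields is
local. -/
theorem isLocalHom_of_residue {A B : Type*} [CommRing A] [CommRing B] [IsLocalRing A] [IsLocalRing B]
    (g : A →+* B) (τ : ResidueField A →+* ResidueField B)
    (h : ∀ x : A, residue B (g x) = τ (residue A x)) : IsLocalHom g := by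
  refine ⟨fun x hx => ?_⟩
  by_contra hx'
  have h1 : residue A x = 0 := (residue_eq_zero_iff x).2 ((mem_maximalIdeal x).2 hx')
  have h2 : residue B (g x) = 0 := by rw [h, h1, map_zero]
  exact ((mem_maximalIdeal _).1 ((residue_eq_zero_iff _).1 h2)) hx

/-- A local homomorphism lifts to a local homomorphism of strict henselizations. -/
theorem exists_lift (φ : R₁ →+* R₂) [IsLocalHom φ] :
    ∃ ψ : S₁ →+* S₂, IsLocalHom ψ ∧ ψ.comp (algebraMap R₁ S₁) = (algebraMap R₂ S₂).comp φ := by
  haveI : HenselianLocalRing S₂ := Hensel.IsStrictHenselization.henselian R₂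
  haveI : IsSepClosure (ResidueField R₁) (ResidueField S₁) :=
    Hensel.IsStrictHenselization.isSepClosure
  haveI : IsSepClosure (ResidueField R₂) (ResidueField S₂) :=
    Hensel.IsStrictHenselization.isSepClosure
  haveI : IsSepClosed (ResidueField S₂) := IsSepClosure.sep_closed (ResidueField R₂)
  let f : R₁ →+* S₂ := (algebraMap R₂ S₂).comp φ
  haveI : IsLocalHom f := RingHom.isLocalHom_comp _ _
  letI : Algebra (ResidueField R₁) (ResidueField S₂) := (ResidueField.map f).toAlgebra
  let τ₀ : ResidueField S₁ →ₐ[ResidueField R₁] ResidueField S₂ := IsSepClosed.lift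
  have hτ : (τ₀ : ResidueField S₁ →+* ResidueField S₂).comp
      (ResidueField.map (algebraMap R₁ S₁)) = ResidueField.map f := by
    ext x
    exact τ₀.commutes x
  obtain ⟨g, ⟨hg1, hg2⟩, -⟩ := Hensel.IsStrictHenselization.universal (R := R₁) (S := S₁) S₂ f
    (τ₀ : ResidueField S₁ →+* ResidueField S₂) hτ
  exact ⟨g, isLocalHom_of_residue g _ hg2, hg1⟩

end

section

variable {R₁ R₂ R₃ S₁ S₂ S₃ : Type u} [CommRing R₁] [CommRing R₂] [CommRing R₃]
  [CommRing S₁] [CommRing S₂] [CommRing S₃]
  [IsLocalRing R₁] [IsLocalRing R₂] [IsLocalRing R₃] [IsLocalRing S₁] [IsLocalRing S₂] [IsLocalRing S₃]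
  [Algebra R₁ S₁] [IsLocalHom (algebraMap R₁ S₁)] [Hensel.IsStrictHenselization R₁ S₁]
  [Algebra R₂ S₂] [IsLocalHom (algebraMap R₂ S₂)] [Hensel.IsStrictHenselization R₂ S₂]
  [Algebra R₃ S₃] [IsLocalHom (algebraMap R₃ S₃)] [Hensel.IsStrictHenselization R₃ S₃]

/-- Factorisation of a lift of a composite through a given lift of the second map. -/
theorem exists_factor (a : R₁ →+* R₂) (b : R₂ →+* R₃) [IsLocalHom a] [IsLocalHom b]
    (φ : S₁ →+* S₃) [IsLocalHom φ]
    (hφ : φ.comp (algebraMap R₁ S₁) = (algebraMap R₃ S₃).comp (b.comp a))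
    (ψ₂ : S₂ →+* S₃) [IsLocalHom ψ₂]
    (hψ₂ : ψ₂.comp (algebraMap R₂ S₂) = (algebraMap R₃ S₃).comp b) :
    ∃ ψ₁ : S₁ →+* S₂, IsLocalHom ψ₁ ∧ ψ₁.comp (algebraMap R₁ S₁) = (algebraMap R₂ S₂).comp a ∧
      ψ₂.comp ψ₁ = φ := by
  haveI : HenselianLocalRing S₂ := Hensel.IsStrictHenselization.henselian R₂
  haveI : HenselianLocalRing S₃ := Hensel.IsStrictHenselization.henselian R₃
  haveI : IsSepClosure (ResidueField R₁) (ResidueField S₁) :=
    Hensel.IsStrictHenselization.isSepClosure
  haveI : IsSepClosure (ResidueField R₂) (ResidueField S₂) :=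
    Hensel.IsStrictHenselization.isSepClosure
  haveI : IsSepClosed (ResidueField S₂) := IsSepClosure.sep_closed (ResidueField R₂)
  let τφ : ResidueField S₁ →+* ResidueField S₃ := ResidueField.map φ
  let τ₂ : ResidueField S₂ →+* ResidueField S₃ := ResidueField.map ψ₂
  let f₁ : R₁ →+* S₂ := (algebraMap R₂ S₂).comp a
  haveI : IsLocalHom f₁ := RingHom.isLocalHom_comp _ _
  let f₃ : R₁ →+* S₃ := (algebraMap R₃ S₃).comp (b.comp a)
  haveI : IsLocalHom (b.comp a) := RingHom.isLocalHom_comp _ _
  haveI : IsLocalHom f₃ := RingHom.isLocalHom_comp _ _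
  -- residue-level compatibilities
  have c1 : τφ.comp (ResidueField.map (algebraMap R₁ S₁)) = ResidueField.map f₃ := by
    ext x
    obtain ⟨x, rfl⟩ := residue_surjective x
    exact congrArg (residue S₃) (RingHom.congr_fun hφ x)
  have c2 : τ₂.comp (ResidueField.map f₁) = ResidueField.map f₃ := by
    ext x
    obtain ⟨x, rfl⟩ := residue_surjective x
    exact congrArg (residue S₃) (RingHom.congr_fun hψ₂ (a x))
  -- the range of `τφ` lies in the range of `τ₂`
  have hrange : ∀ x : ResidueField S₁, τφ x ∈ τ₂.range := by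
    intro x
    letI : Algebra (ResidueField R₁) (ResidueField S₂) := (ResidueField.map f₁).toAlgebra
    letI : Algebra (ResidueField S₂) (ResidueField S₃) := τ₂.toAlgebra
    letI : Algebra (ResidueField R₁) (ResidueField S₃) := (ResidueField.map f₃).toAlgebra
    haveI : IsScalarTower (ResidueField R₁) (ResidueField S₂) (ResidueField S₃) :=
      IsScalarTower.of_algebraMap_eq (fun y => (RingHom.congr_fun c2 y).symm)
    let τφA : ResidueField S₁ →ₐ[ResidueField R₁] ResidueField S₃ :=
      { τφ with commutes' := fun y => RingHom.congr_fun c1 y }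
    have hx : IsSeparable (ResidueField R₁) x := Algebra.IsSeparable.isSeparable _ x
    have hx' : IsSeparable (ResidueField R₁) (τφA x) := hx.map τφA (RingHom.injective (τφA : ResidueField S₁ →+* ResidueField S₃))
    have hx'' : IsSeparable (ResidueField S₂) (τφA x) :=
      hx'.tower_top (ResidueField S₂)
    exact mem_range_of_isSeparable (k := ResidueField S₂) (τφA x) hx''
  have hinj : Function.Injective τ₂ := τ₂.injective
  let e : ResidueField S₂ ≃+* τ₂.range := RingEquiv.ofBijective τ₂.rangeRestrict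
    ⟨fun x y hxy => hinj (congrArg Subtype.val hxy), τ₂.rangeRestrict_surjective⟩
  let τ₁ : ResidueField S₁ →+* ResidueField S₂ :=
    (e.symm : τ₂.range →+* ResidueField S₂).comp (τφ.codRestrict τ₂.range hrange)
  have hτ₁ : ∀ x, τ₂ (τ₁ x) = τφ x := by
    intro x
    have : e (τ₁ x) = τφ.codRestrict τ₂.range hrange x := e.apply_symm_apply _
    exact congrArg Subtype.val this
  have c3 : τ₁.comp (ResidueField.map (algebraMap R₁ S₁)) = ResidueField.map f₁ := by
    ext x
    apply hinj
    refine (hτ₁ _).trans ?_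
    exact (RingHom.congr_fun c1 x).trans (RingHom.congr_fun c2 x).symm
  obtain ⟨ψ₁, ⟨h1, h2⟩, -⟩ := Hensel.IsStrictHenselization.universal (R := R₁) (S := S₁) S₂ f₁ τ₁ c3
  obtain ⟨ξ, -, huniq⟩ := Hensel.IsStrictHenselization.universal (R := R₁) (S := S₁) S₃ f₃ τφ c1
  have e1 : ψ₂.comp ψ₁ = ξ := by
    apply huniq
    refine ⟨?_, fun x => ?_⟩
    · rw [RingHom.comp_assoc, h1, ← RingHom.comp_assoc, hψ₂]
      rfl
    · change residue S₃ (ψ₂ (ψ₁ x)) = τφ (residue S₁ x)
      rw [← hτ₁, ← h2]
      rfl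
  have e2 : φ = ξ := by
    apply huniq
    exact ⟨hφ, fun x => rfl⟩
  have hcomp : ψ₂.comp ψ₁ = φ := e1.trans e2.symm
  refine ⟨ψ₁, ?_, h1, hcomp⟩
  refine ⟨fun x hx => ?_⟩
  have : IsUnit (φ x) := by
    rw [← hcomp]
    exact hx.map ψ₂
  exact isUnit_of_map_unit φ x this

end

end Groth.Agent.Lib.Seat15.StrictHens
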