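import Groth.Agent.Lib.Seat10ShDvrF
import Groth.Agent.Lib.Seat15StrictHens

/-!
# A commutative square of strict henselizations (Seat 10)

`exists_sh_square`: a commutative square of local homomorphisms of local rings together with a lift
of one side to the strict henselizations extends to a commutative square of local homomorphisms of
strict henselizations.
-/

set_option autoImplicit false
set_option linter.style.haveILetI false

universe u

namespace Groth.Agent.Lib.Seat10.ShDvr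

open IsLocalRing

theorem exists_sh_square {R₁ R₂ R₃ R₄ S₁ S₂ S₃ S₄ : Type u}
    [CommRing R₁] [CommRing R₂] [CommRing R₃] [CommRing R₄]
    [CommRing S₁] [CommRing S₂] [CommRing S₃] [CommRing S₄]
    [IsLocalRing R₁] [IsLocalRing R₂] [IsLocalRing R₃] [IsLocalRing R₄]
    [IsLocalRing S₁] [IsLocalRing S₂] [IsLocalRing S₃] [IsLocalRing S₄]
    [Algebra R₁ S₁] [IsLocalHom (algebraMap R₁ S₁)] [Hensel.IsStrictHenselization R₁ S₁]
    [Algebra R₂ S₂] [IsLocalHom (algebraMap R₂ S₂)] [Hensel.IsStrictHenselization R₂ S₂]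
    [Algebra R₃ S₃] [IsLocalHom (algebraMap R₃ S₃)] [Hensel.IsStrictHenselization R₃ S₃]
    [Algebra R₄ S₄] [IsLocalHom (algebraMap R₄ S₄)] [Hensel.IsStrictHenselization R₄ S₄]
    (α : R₁ →+* R₂) (β : R₂ →+* R₄) (γ : R₁ →+* R₃) (δ : R₃ →+* R₄)
    [IsLocalHom α] [IsLocalHom β] [IsLocalHom γ] [IsLocalHom δ]
    (hsq : β.comp α = δ.comp γ) (φ : S₁ →+* S₂) [IsLocalHom φ]
    (hφ : φ.comp (algebraMap R₁ S₁) = (algebraMap R₂ S₂).comp α) :
    ∃ (ψB : S₂ →+* S₄) (ρ : S₃ →+* S₄) (ψA : S₁ →+* S₃),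
      IsLocalHom ψB ∧ IsLocalHom ρ ∧ IsLocalHom ψA ∧
      ψB.comp (algebraMap R₂ S₂) = (algebraMap R₄ S₄).comp β ∧
      ρ.comp (algebraMap R₃ S₃) = (algebraMap R₄ S₄).comp δ ∧
      ψA.comp (algebraMap R₁ S₁) = (algebraMap R₃ S₃).comp γ ∧
      ρ.comp ψA = ψB.comp φ := by
  obtain ⟨ψB, hψBloc, hψB⟩ := Groth.Agent.Lib.Seat15.StrictHens.exists_lift
    (S₁ := S₂) (S₂ := S₄) β
  obtain ⟨ρ, hρloc, hρ⟩ := Groth.Agent.Lib.Seat15.StrictHens.exists_lift
    (S₁ := S₃) (S₂ := S₄) δ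
  haveI : IsLocalHom (ψB.comp φ) := RingHom.isLocalHom_comp ψB φ
  have hφ' : (ψB.comp φ).comp (algebraMap R₁ S₁) = (algebraMap R₄ S₄).comp (δ.comp γ) := by
    rw [RingHom.comp_assoc, hφ, ← RingHom.comp_assoc, hψB, RingHom.comp_assoc, hsq]
  obtain ⟨ψA, hψAloc, hψA, hfac⟩ := Groth.Agent.Lib.Seat15.StrictHens.exists_factor
    (S₁ := S₁) (S₂ := S₃) (S₃ := S₄) γ δ (ψB.comp φ) hφ' ρ hρ
  exact ⟨ψB, ρ, ψA, hψBloc, hρloc, hψAloc, hψB, hρ, hψA, hfac⟩

end Groth.Agent.Lib.Seat10.ShDvr
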