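import Groth.Agent.Lib.Seat10ShDvrG
import Groth.Agent.Lib.Seat10ValDomD

/-!
# Descent of solutions from the strict henselizations: the local statement (Seat 10)

`good_of_sh`: let `A ⊆ B` be an extension of DVRs with strict henselizations `A' ⊆ B'` (fraction
fields `K' ⊆ L'`), let `K₁'/K'` be a solution for `A' ⊆ B'` and `K₁/K` a finite extension such that
`K₁'` embeds over `K'` into every field containing `K'` and `K₁`.  Then every local extension
`W ∩ K₁ ⊆ W` attached to `K₁` satisfies the local predicate `Good`.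
-/

set_option autoImplicit false
set_option linter.style.haveILetI false
set_option maxHeartbeats 1600000

universe u

namespace Groth.Agent.Lib.Seat10.ShDvr

open EtRam IsLocalRing Groth.Agent.Lib.Seat10.Tower Groth.Agent.Lib.Seat10.ValDom
  Groth.Agent.Lib.Seat10.SepStep

theorem good_of_sh (A B K L : Type u) [CommRing A] [IsDomain A] [IsDiscreteValuationRing A]
    [CommRing B] [IsDomain B] [IsDiscreteValuationRing B] [Algebra A B]
    [IsLocalHom (algebraMap A B)]
    [Field K] [Field L] [Algebra A K] [IsFractionRing A K] [Algebra B L] [IsFractionRing B L]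
    [Algebra K L] [Algebra A L] [IsScalarTower A K L] [IsScalarTower A B L]
    (A' B' K' L' : Type u) [CommRing A'] [IsDomain A'] [IsDiscreteValuationRing A']
    [CommRing B'] [IsDomain B'] [IsDiscreteValuationRing B'] [Field K'] [Field L']
    [Algebra A A'] [Algebra B B'] [Algebra A' B'] [Algebra A B'] [IsScalarTower A B B']
    [IsScalarTower A A' B']
    [Algebra A' K'] [IsFractionRing A' K'] [Algebra B' L'] [IsFractionRing B' L']
    [Algebra K' L'] [Algebra A' L'] [IsScalarTower A' K' L'] [IsScalarTower A' B' L']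
    [Algebra K K'] [Algebra A K'] [IsScalarTower A K K'] [IsScalarTower A A' K']
    [Algebra L L'] [Algebra B L'] [IsScalarTower B L L'] [IsScalarTower B B' L']
    [IsLocalHom (algebraMap A A')] [IsLocalHom (algebraMap B B')] [IsLocalHom (algebraMap A' B')]
    [Hensel.IsStrictHenselization A A'] [Hensel.IsStrictHenselization B B']
    (K₁' : Type u) [Field K₁'] [Algebra K' K₁'] [FiniteDimensional K' K₁']
    (hsol : EtRam.IsSolution B' K' L' K₁')
    (K₁ : Type u) [Field K₁] [Algebra K K₁] [FiniteDimensional K K₁]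
    (hemb : ∀ (E : Type u) [Field E] [Algebra K E] [Algebra K' E] [Algebra K₁ E]
      [IsScalarTower K K' E] [IsScalarTower K K₁ E], Nonempty (K₁' →ₐ[K'] E))
    (M : Type u) [Field M] [Algebra K M] [Algebra L M] [Algebra K₁ M] [IsScalarTower K L M]
    [IsScalarTower K K₁ M]
    (hadj : Algebra.adjoin L (Set.range (algebraMap K₁ M)) = ⊤)
    (W : ValuationSubring M) (hW : Dominates B ((algebraMap L M).comp (algebraMap B L)) W)
    (Ws Vs F FV : Type u) [CommRing Ws] [IsLocalRing Ws] [Algebra W Ws]
    [IsLocalHom (algebraMap W Ws)] [Hensel.IsStrictHenselization W Ws]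
    [CommRing Vs] [IsLocalRing Vs] [Algebra (W.comap (algebraMap K₁ M)) Vs]
    [IsLocalHom (algebraMap (W.comap (algebraMap K₁ M)) Vs)]
    [Hensel.IsStrictHenselization (W.comap (algebraMap K₁ M)) Vs]
    [Field F] [Algebra Ws F] [IsFractionRing Ws F] [Field FV] [Algebra Vs FV]
    [IsFractionRing Vs FV] :
    Good W (algebraMap K₁ M) := by
  classical
  have hcompat : ∀ a : A, algebraMap K₁ M (algebraMap K K₁ (algebraMap A K a)) =
      algebraMap L M (algebraMap B L (algebraMap A B a)) := by
    intro a
    rw [← IsScalarTower.algebraMap_apply K K₁ M, IsScalarTower.algebraMap_apply K L M,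
      ← IsScalarTower.algebraMap_apply A K L, ← IsScalarTower.algebraMap_apply A B L]
  have hdomV : Dominates A ((algebraMap K K₁).comp (algebraMap A K))
      (W.comap (algebraMap K₁ M)) := by
    rw [← dominates_comp_iff]
    refine ⟨fun a => ?_, fun a ha => ?_⟩
    · simp only [RingHom.comp_apply]
      rw [hcompat]
      exact hW.1 _
    · simp only [RingHom.comp_apply]
      rw [hcompat]
      apply hW.2
      rw [IsLocalRing.mem_maximalIdeal, mem_nonunits_iff] at ha ⊢
      exact fun h => ha (isUnit_of_map_unit (algebraMap A B) a h)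
  haveI hV_dvr : IsDiscreteValuationRing (W.comap (algebraMap K₁ M)) :=
    isDiscreteValuationRing_of_dominates_finite A K _ hdomV
  haveI hfinLM : FiniteDimensional L M := finiteDimensional_of_adjoin_eq_top K hadj
  haveI hW_dvr : IsDiscreteValuationRing W := isDiscreteValuationRing_of_dominates_finite B L W hW
  haveI hdomWs : IsDomain Ws := isDomain_sh W Ws
  haveI hdomVs : IsDomain Vs := isDomain_sh (W.comap (algebraMap K₁ M)) Vs
  haveI hdvrWs : IsDiscreteValuationRing Ws := isDVR_sh W Ws
  haveI hdvrVs : IsDiscreteValuationRing Vs := isDVR_sh (W.comap (algebraMap K₁ M)) Vs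
  haveI : IsLocalHom (toVal hW) := isLocalHom_toVal hW
  haveI : IsLocalHom (toVal hdomV) := isLocalHom_toVal hdomV
  have hsq : (toVal hW).comp (algebraMap A B) =
      (inclOfComap W (algebraMap K₁ M)).comp (toVal hdomV) := by
    apply RingHom.ext
    intro a
    apply Subtype.ext
    exact (hcompat a).symm
  have hφ : (algebraMap A' B').comp (algebraMap A A') = (algebraMap B B').comp (algebraMap A B) := by
    rw [← IsScalarTower.algebraMap_eq A A' B', ← IsScalarTower.algebraMap_eq A B B']
  obtain ⟨ψB, ρ, ψA, hψBloc, hρloc, hψAloc, hψB, hρ, hψA, hfac⟩ :=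
    exists_sh_square (S₁ := A') (S₂ := B') (S₃ := Vs) (S₄ := Ws) (algebraMap A B) (toVal hW)
      (toVal hdomV) (inclOfComap W (algebraMap K₁ M)) hsq (algebraMap A' B') hφ
  -- pointwise forms of the commutation relations
  have hψB' : ∀ b : B, ψB (algebraMap B B' b) = algebraMap W Ws (toVal hW b) :=
    fun b => RingHom.congr_fun hψB b
  have hρ' : ∀ v : W.comap (algebraMap K₁ M), ρ (algebraMap (W.comap (algebraMap K₁ M)) Vs v) =
      algebraMap W Ws (inclOfComap W (algebraMap K₁ M) v) := fun v => RingHom.congr_fun hρ v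
  have hψA' : ∀ a : A, ψA (algebraMap A A' a) =
      algebraMap (W.comap (algebraMap K₁ M)) Vs (toVal hdomV a) := fun a => RingHom.congr_fun hψA a
  have hfac' : ∀ a : A', ρ (ψA a) = ψB (algebraMap A' B' a) := fun a => RingHom.congr_fun hfac a
  -- injectivity
  have hinjW : Function.Injective (algebraMap W Ws) := injective_sh W Ws
  have hinjV : Function.Injective (algebraMap (W.comap (algebraMap K₁ M)) Vs) :=
    injective_sh (W.comap (algebraMap K₁ M)) Vs
  have hinjWsF : Function.Injective (algebraMap Ws F) := IsFractionRing.injective Ws F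
  have hinjVsFV : Function.Injective (algebraMap Vs FV) := IsFractionRing.injective Vs FV
  have hinjBM : Function.Injective ((algebraMap L M).comp (algebraMap B L)) :=
    (algebraMap L M).injective.comp (IsFractionRing.injective B L)
  have hinjAK₁ : Function.Injective ((algebraMap K K₁).comp (algebraMap A K)) :=
    (algebraMap K K₁).injective.comp (IsFractionRing.injective A K)
  have hinjψB : Function.Injective ψB := by
    apply injective_of_sh B B' Ws ψB
    rw [hψB]
    exact hinjW.comp (toVal_injective hW hinjBM)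
  have hinjρ : Function.Injective ρ := by
    apply injective_of_sh (W.comap (algebraMap K₁ M)) Vs Ws ρ
    rw [hρ]
    refine hinjW.comp ?_
    intro x y hxy
    apply Subtype.ext
    exact (algebraMap K₁ M).injective (congrArg Subtype.val hxy)
  have hinjψA : Function.Injective ψA := by
    apply injective_of_sh A A' Vs ψA
    rw [hψA]
    exact hinjV.comp (toVal_injective hdomV hinjAK₁)
  -- the field maps
  let jM : M →+* F := IsFractionRing.lift (A := W) (K := M)
    (g := (algebraMap Ws F).comp (algebraMap W Ws)) (hinjWsF.comp hinjW)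
  let jL' : L' →+* F := IsFractionRing.lift (A := B') (K := L')
    (g := (algebraMap Ws F).comp ψB) (hinjWsF.comp hinjψB)
  let jFV : FV →+* F := IsFractionRing.lift (A := Vs) (K := FV)
    (g := (algebraMap Ws F).comp ρ) (hinjWsF.comp hinjρ)
  let iK₁ : K₁ →+* FV := IsFractionRing.lift (A := W.comap (algebraMap K₁ M)) (K := K₁)
    (g := (algebraMap Vs FV).comp (algebraMap (W.comap (algebraMap K₁ M)) Vs))
    (hinjVsFV.comp hinjV)
  let iK' : K' →+* FV := IsFractionRing.lift (A := A') (K := K')
    (g := (algebraMap Vs FV).comp ψA) (hinjVsFV.comp hinjψA)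
  have hjM : ∀ w : W, jM (algebraMap W M w) = algebraMap Ws F (algebraMap W Ws w) :=
    fun w => IsFractionRing.lift_algebraMap _ w
  have hjL' : ∀ b : B', jL' (algebraMap B' L' b) = algebraMap Ws F (ψB b) :=
    fun b => IsFractionRing.lift_algebraMap _ b
  have hjFV : ∀ s : Vs, jFV (algebraMap Vs FV s) = algebraMap Ws F (ρ s) :=
    fun s => IsFractionRing.lift_algebraMap _ s
  have hiK₁ : ∀ v : W.comap (algebraMap K₁ M), iK₁ (algebraMap (W.comap (algebraMap K₁ M)) K₁ v) =
      algebraMap Vs FV (algebraMap (W.comap (algebraMap K₁ M)) Vs v) :=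
    fun v => IsFractionRing.lift_algebraMap _ v
  have hiK' : ∀ a : A', iK' (algebraMap A' K' a) = algebraMap Vs FV (ψA a) :=
    fun a => IsFractionRing.lift_algebraMap _ a
  -- compatibilities
  have c1 : jFV.comp iK₁ = jM.comp (algebraMap K₁ M) := by
    apply IsLocalization.ringHom_ext (nonZeroDivisors (W.comap (algebraMap K₁ M)))
    apply RingHom.ext
    intro v
    simp only [RingHom.comp_apply]
    rw [hiK₁, hjFV, hρ']
    exact (hjM (inclOfComap W (algebraMap K₁ M) v)).symm
  have c2 : jFV.comp iK' = jL'.comp (algebraMap K' L') := by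
    apply IsLocalization.ringHom_ext (nonZeroDivisors A')
    apply RingHom.ext
    intro a
    simp only [RingHom.comp_apply]
    rw [hiK', hjFV, hfac', ← IsScalarTower.algebraMap_apply A' K' L',
      IsScalarTower.algebraMap_apply A' B' L', hjL']
  have c3 : iK'.comp (algebraMap K K') = iK₁.comp (algebraMap K K₁) := by
    apply IsLocalization.ringHom_ext (nonZeroDivisors A)
    apply RingHom.ext
    intro a
    simp only [RingHom.comp_apply]
    rw [← IsScalarTower.algebraMap_apply A K K', IsScalarTower.algebraMap_apply A A' K', hiK',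
      hψA']
    exact (hiK₁ (toVal hdomV a)).symm
  have c4 : jL'.comp (algebraMap L L') = jM.comp (algebraMap L M) := by
    apply IsLocalization.ringHom_ext (nonZeroDivisors B)
    apply RingHom.ext
    intro b
    simp only [RingHom.comp_apply]
    rw [← IsScalarTower.algebraMap_apply B L L', IsScalarTower.algebraMap_apply B B' L', hjL',
      hψB']
    exact (hjM (toVal hW b)).symm
  -- the valuation subrings
  have hWeq : (vs Ws F).comap jM = W := by
    refine comap_eq_of_dominates (vs Ws F) jM W (fun y hy => ?_) (fun y hy hlt => ?_)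
    · have : jM y = algebraMap Ws F (algebraMap W Ws ⟨y, hy⟩) := hjM ⟨y, hy⟩
      rw [this]
      exact algebraMap_mem_vs Ws F _
    · have : jM y = algebraMap Ws F (algebraMap W Ws ⟨y, hy⟩) := hjM ⟨y, hy⟩
      rw [this, valuation_algebraMap_lt_one_iff]
      have hm : (⟨y, hy⟩ : W) ∈ maximalIdeal W :=
        (ValuationSubring.valuation_lt_one_iff W _).mpr hlt
      rw [IsLocalRing.mem_maximalIdeal, mem_nonunits_iff] at hm ⊢
      exact fun hu => hm (isUnit_of_map_unit (algebraMap W Ws) _ hu)
  have hYeq : (vs Ws F).comap jFV = vs Vs FV := by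
    refine comap_eq_of_dominates (vs Ws F) jFV (vs Vs FV) (fun y hy => ?_) (fun y hy hlt => ?_)
    · obtain ⟨s, rfl⟩ := (mem_vs_iff Vs FV y).mp hy
      rw [hjFV]
      exact algebraMap_mem_vs Ws F _
    · obtain ⟨s, rfl⟩ := (mem_vs_iff Vs FV y).mp hy
      rw [valuation_algebraMap_lt_one_iff] at hlt
      rw [hjFV, valuation_algebraMap_lt_one_iff]
      rw [IsLocalRing.mem_maximalIdeal, mem_nonunits_iff] at hlt ⊢
      exact fun hu => hlt (isUnit_of_map_unit ρ _ hu)
  -- algebra structures on `FV`
  letI aK₁FV : Algebra K₁ FV := iK₁.toAlgebra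
  letI aK'FV : Algebra K' FV := iK'.toAlgebra
  letI aKFV : Algebra K FV := (iK₁.comp (algebraMap K K₁)).toAlgebra
  haveI tKK₁FV : IsScalarTower K K₁ FV := IsScalarTower.of_algebraMap_eq (fun _ => rfl)
  haveI tKK'FV : IsScalarTower K K' FV :=
    IsScalarTower.of_algebraMap_eq (fun k => (RingHom.congr_fun c3 k).symm)
  letI aVFV : Algebra (W.comap (algebraMap K₁ M)) FV := ((algebraMap Vs FV).comp (algebraMap (W.comap (algebraMap K₁ M)) Vs)).toAlgebra
  haveI tVVsFV : IsScalarTower (W.comap (algebraMap K₁ M)) Vs FV := IsScalarTower.of_algebraMap_eq (fun _ => rfl)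
  haveI tVK₁FV : IsScalarTower (W.comap (algebraMap K₁ M)) K₁ FV :=
    IsScalarTower.of_algebraMap_eq (fun v => (hiK₁ v).symm)
  haveI sepK₁FV : Algebra.IsSeparable K₁ FV := isSeparable_fractionField_sh (W.comap (algebraMap K₁ M)) Vs K₁ FV
  have gY : Good (vs Vs FV) (algebraMap K₁ FV) := good_vs_sh (W.comap (algebraMap K₁ M)) Vs K₁ FV
  obtain ⟨hfinN', hsolN'⟩ := isSolution_compF A' B' K' L' K K₁ K₁' FV hemb hsol
  -- algebra structures on `F`
  letI aMF : Algebra M F := jM.toAlgebra
  letI aWF : Algebra W F := ((algebraMap Ws F).comp (algebraMap W Ws)).toAlgebra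
  haveI tWWsF : IsScalarTower W Ws F := IsScalarTower.of_algebraMap_eq (fun _ => rfl)
  haveI tWMF : IsScalarTower W M F := IsScalarTower.of_algebraMap_eq (fun w => (hjM w).symm)
  haveI sepMF : Algebra.IsSeparable M F := isSeparable_fractionField_sh W Ws M F
  letI aLF : Algebra L F := (jM.comp (algebraMap L M)).toAlgebra
  haveI tLMF : IsScalarTower L M F := IsScalarTower.of_algebraMap_eq (fun _ => rfl)
  letI aL'F : Algebra L' F := jL'.toAlgebra
  haveI tLL'F : IsScalarTower L L' F :=
    IsScalarTower.of_algebraMap_eq (fun l => (RingHom.congr_fun c4 l).symm)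
  haveI algLM : Algebra.IsAlgebraic L M := Algebra.IsAlgebraic.of_finite L M
  haveI algLF : Algebra.IsAlgebraic L F := Algebra.IsAlgebraic.trans L M F
  haveI algL'F : Algebra.IsAlgebraic L' F := Algebra.IsAlgebraic.tower_top (K := L) L'
  letI aK'F : Algebra K' F := (jL'.comp (algebraMap K' L')).toAlgebra
  haveI tK'L'F : IsScalarTower K' L' F := IsScalarTower.of_algebraMap_eq (fun _ => rfl)
  letI aN'F : Algebra (compF K' K₁ FV) F := (jFV.comp (algebraMap (compF K' K₁ FV) FV)).toAlgebra
  haveI tK'N'F : IsScalarTower K' (compF K' K₁ FV) F := IsScalarTower.of_algebraMap_eq (fun k => by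
    show jL' (algebraMap K' L' k) = jFV (iK' k)
    exact (RingHom.congr_fun c2 k).symm)
  haveI tK'N'M' : IsScalarTower K' (compF K' K₁ FV) (compF L' (compF K' K₁ FV) F) := compF.isScalarTower' L' (compF K' K₁ FV) F K'
  have hadjM' : Algebra.adjoin L' (Set.range (algebraMap (compF K' K₁ FV) (compF L' (compF K' K₁ FV) F))) = ⊤ :=
    compF_adjoin_eq_top L' (compF K' K₁ FV) F
  have hW'dom : Dominates B' ((algebraMap L' (compF L' (compF K' K₁ FV) F)).comp (algebraMap B' L'))
      ((vs Ws F).comap (algebraMap (compF L' (compF K' K₁ FV) F) F)) := by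
    rw [← dominates_comp_iff]
    refine ⟨fun b => ?_, fun b hb => ?_⟩
    · show jL' (algebraMap B' L' b) ∈ vs Ws F
      rw [hjL']
      exact algebraMap_mem_vs Ws F _
    · show (vs Ws F).valuation (jL' (algebraMap B' L' b)) < 1
      rw [hjL', valuation_algebraMap_lt_one_iff]
      rw [IsLocalRing.mem_maximalIdeal, mem_nonunits_iff] at hb ⊢
      exact fun hu => hb (isUnit_of_map_unit ψB _ hu)
  have gX : Good ((vs Ws F).comap (algebraMap (compF L' (compF K' K₁ FV) F) F)) (algebraMap (compF K' K₁ FV) (compF L' (compF K' K₁ FV) F)) :=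
    hsolN' (compF L' (compF K' K₁ FV) F) hadjM' _ hW'dom
  -- the map `M → M'`
  have hjmem : ∀ x : M, jM x ∈ compF L' (compF K' K₁ FV) F := by
    intro x
    have hx : x ∈ Algebra.adjoin L (Set.range (algebraMap K₁ M)) := by rw [hadj]; trivial
    induction hx using Algebra.adjoin_induction with
    | mem x hx =>
      obtain ⟨k, rfl⟩ := hx
      have : jM (algebraMap K₁ M k) = algebraMap (compF K' K₁ FV) F (algebraMap K₁ (compF K' K₁ FV) k) :=
        (RingHom.congr_fun c1 k).symm
      rw [this]
      exact IntermediateField.subset_adjoin _ _ ⟨_, rfl⟩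
    | algebraMap l =>
      have : jM (algebraMap L M l) = algebraMap L' F (algebraMap L L' l) :=
        (RingHom.congr_fun c4 l).symm
      rw [this]
      exact IntermediateField.algebraMap_mem _ _
    | add x y _ _ hx hy => rw [map_add]; exact add_mem hx hy
    | mul x y _ _ hx hy => rw [map_mul]; exact mul_mem hx hy
  let j : M →+* (compF L' (compF K' K₁ FV) F) := jM.codRestrict (compF L' (compF K' K₁ FV) F) hjmem
  exact good_of_diagram W (vs Ws F) (vs Vs FV) (algebraMap K₁ M) jM jFV iK₁
    (algebraMap (compF K' K₁ FV) FV) (algebraMap K₁ (compF K' K₁ FV)) (algebraMap (compF L' (compF K' K₁ FV) F) F) (algebraMap (compF K' K₁ FV) (compF L' (compF K' K₁ FV) F)) j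
    c1 hWeq hYeq rfl rfl rfl gY gX

end Groth.Agent.Lib.Seat10.ShDvr
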