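import Groth.Agent.Lib.Seat10ShDvrH
import Groth.Agent.Lib.Helper3Branch

/-!
# Descent of solutions from the strict henselizations (Seat 10)

`exists_solution_descent`: let `A ⊆ B` be an extension of DVRs with strict henselizations
`A' ⊆ B'` (fraction fields `K' ⊆ L'`).  If `A' ⊆ B'` has a (separable) solution `K₁'/K'`, then
`A ⊆ B` has a (separable) solution.
-/

set_option autoImplicit false
set_option linter.style.haveILetI false
set_option maxHeartbeats 1600000

universe u

namespace Groth.Agent.Lib.Seat10.ShDvr

open EtRam IsLocalRing Groth.Agent.Lib.Seat10.Tower Groth.Agent.Lib.Seat10.ValDom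
  Groth.Agent.Lib.Seat10.SepStep

theorem exists_solution_descent (A B K L : Type u) [CommRing A] [IsDomain A]
    [IsDiscreteValuationRing A]
    [CommRing B] [IsDomain B] [IsDiscreteValuationRing B] [Algebra A B]
    [IsLocalHom (algebraMap A B)]
    [Field K] [Field L] [Algebra A K] [IsFractionRing A K] [Algebra B L] [IsFractionRing B L]
    [Algebra K L] [Algebra A L] [IsScalarTower A K L] [IsScalarTower A B L]
    (A' B' K' L' : Type u) [CommRing A'] [IsDomain A'] [IsDiscreteValuationRing A']
    [CommRing B'] [IsDomain B'] [IsDiscreteValuationRing B'] [Field K'] [Field L']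
    [Algebra A A'] [Algebra B B'] [Algebra A' B'] [Algebra A B'] [IsScalarTower A B B']
    [IsScalarTower A A' B']
    [Algebra A' K'] [IsFractionRing A' K'] [Algebra B' L'] [IsFractionRing B' L']
    [Algebra K' L'] [Algebra A' L'] [IsScalarTower A' K' L'] [IsScalarTower A' B' L']
    [Algebra K K'] [Algebra A K'] [IsScalarTower A K K'] [IsScalarTower A A' K']
    [Algebra L L'] [Algebra B L'] [IsScalarTower B L L'] [IsScalarTower B B' L']
    [IsLocalHom (algebraMap A A')] [IsLocalHom (algebraMap B B')] [IsLocalHom (algebraMap A' B')]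
    [Hensel.IsStrictHenselization A A'] [Hensel.IsStrictHenselization B B']
    (K₁' : Type u) [Field K₁'] [Algebra K' K₁'] [FiniteDimensional K' K₁']
    (hsol : EtRam.IsSolution B' K' L' K₁') :
    ∃ (K₁ : Type u) (_ : Field K₁) (_ : Algebra K K₁), FiniteDimensional K K₁ ∧
      (Algebra.IsSeparable K' K₁' → Algebra.IsSeparable K K₁) ∧ EtRam.IsSolution B K L K₁ := by
  haveI hsepKK' : Algebra.IsSeparable K K' := isSeparable_fractionField_sh A A' K K'
  obtain ⟨K₁, _, _, hfin, hsep, hemb⟩ := exists_finite_splitting K K' K₁'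
  refine ⟨K₁, inferInstance, inferInstance, hfin, fun h => hsep hsepKK' h, ?_⟩
  intro M _ _ _ _ _ _ hadj W hW
  have hcompat : ∀ a : A, algebraMap K₁ M (algebraMap K K₁ (algebraMap A K a)) =
      algebraMap L M (algebraMap B L (algebraMap A B a)) := by
    intro a
    rw [← IsScalarTower.algebraMap_apply K K₁ M, IsScalarTower.algebraMap_apply K L M,
      ← IsScalarTower.algebraMap_apply A K L, ← IsScalarTower.algebraMap_apply A B L]
  have hdomV : Dominates A ((algebraMap K K₁).comp (algebraMap A K))
      (W.comap (algebraMap K₁ M)) := by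
    rw [← dominates_comp_iff]
    refine ⟨fun a => ?_, fun a ha => ?_⟩
    · simp only [RingHom.comp_apply]
      rw [hcompat]
      exact hW.1 _
    · simp only [RingHom.comp_apply]
      rw [hcompat]
      apply hW.2
      rw [IsLocalRing.mem_maximalIdeal, mem_nonunits_iff] at ha ⊢
      exact fun h => ha (isUnit_of_map_unit (algebraMap A B) a h)
  haveI hV_dvr : IsDiscreteValuationRing (W.comap (algebraMap K₁ M)) :=
    isDiscreteValuationRing_of_dominates_finite A K _ hdomV
  haveI hfinLM : FiniteDimensional L M := finiteDimensional_of_adjoin_eq_top K hadj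
  haveI hW_dvr : IsDiscreteValuationRing W := isDiscreteValuationRing_of_dominates_finite B L W hW
  obtain ⟨Ws, _, _, _, _, _⟩ := Groth.Agent.Lib.Helper3.Branch.exists_isStrictHenselization W
  obtain ⟨Vs, _, _, _, _, _⟩ :=
    Groth.Agent.Lib.Helper3.Branch.exists_isStrictHenselization (W.comap (algebraMap K₁ M))
  haveI hdomWs : IsDomain Ws := isDomain_sh W Ws
  haveI hdomVs : IsDomain Vs := isDomain_sh (W.comap (algebraMap K₁ M)) Vs
  exact good_of_sh A B K L A' B' K' L' K₁' hsol K₁ hemb M hadj W hW Ws Vs (FractionRing Ws)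
    (FractionRing Vs)

end Groth.Agent.Lib.Seat10.ShDvr
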