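import Groth.Agent.Lib.Seat10ShDvrI

/-!
# Strictly henselian extensions reflecting solutions (Seat 10)

`exists_sh_extension`: for an extension of DVRs `A ⊆ B` the strict henselizations `A' ⊆ B'` form an
extension of DVRs with separably closed residue fields, separable algebraic fraction field
extensions, such that (separable) solutions for `A' ⊆ B'` descend to (separable) solutions for
`A ⊆ B`.
-/

set_option autoImplicit false
set_option linter.style.haveILetI false
set_option maxHeartbeats 1600000

universe u

namespace Groth.Agent.Lib.Seat10.ShDvr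

open EtRam IsLocalRing

theorem exists_sh_extension (A B K L : Type u) [CommRing A] [IsDomain A]
    [IsDiscreteValuationRing A] [CommRing B] [IsDomain B] [IsDiscreteValuationRing B] [Algebra A B]
    (hinj : Function.Injective (algebraMap A B)) [IsLocalHom (algebraMap A B)]
    [Field K] [Field L] [Algebra A K] [IsFractionRing A K] [Algebra B L] [IsFractionRing B L]
    [Algebra K L] [Algebra A L] [IsScalarTower A K L] [IsScalarTower A B L] :
    ∃ (A' B' K' L' : Type u) (_ : CommRing A') (_ : IsDomain A') (_ : IsDiscreteValuationRing A')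
      (_ : CommRing B') (_ : IsDomain B') (_ : IsDiscreteValuationRing B') (_ : Field K') (_ : Field L')
      (_ : Algebra A A') (_ : Algebra B B') (_ : Algebra A' B') (_ : Algebra A B')
      (_ : IsScalarTower A B B') (_ : IsScalarTower A A' B')
      (_ : Algebra A' K') (_ : IsFractionRing A' K') (_ : Algebra B' L') (_ : IsFractionRing B' L')
      (_ : Algebra K' L') (_ : Algebra A' L') (_ : IsScalarTower A' K' L') (_ : IsScalarTower A' B' L')
      (_ : Algebra K K') (_ : Algebra A K') (_ : IsScalarTower A K K') (_ : IsScalarTower A A' K')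
      (_ : Algebra L L') (_ : Algebra B L') (_ : IsScalarTower B L L') (_ : IsScalarTower B B' L')
      (hA : IsLocalHom (algebraMap A A')) (hB : IsLocalHom (algebraMap B B')) (_ : IsLocalHom (algebraMap A' B')),
      Function.Injective (algebraMap A A') ∧ Function.Injective (algebraMap B B') ∧
      Function.Injective (algebraMap A' B') ∧
      Algebra.IsSeparable K K' ∧ Algebra.IsSeparable L L' ∧
      (letI := (IsLocalRing.ResidueField.map (algebraMap A A')).toAlgebra
       IsSepClosure (IsLocalRing.ResidueField A) (IsLocalRing.ResidueField A')) ∧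
      (letI := (IsLocalRing.ResidueField.map (algebraMap B B')).toAlgebra
       IsSepClosure (IsLocalRing.ResidueField B) (IsLocalRing.ResidueField B')) ∧
      ((∃ (K₁ : Type u) (_ : Field K₁) (_ : Algebra K' K₁), FiniteDimensional K' K₁ ∧ EtRam.IsSolution B' K' L' K₁) →
        ∃ (K₁ : Type u) (_ : Field K₁) (_ : Algebra K K₁), FiniteDimensional K K₁ ∧ EtRam.IsSolution B K L K₁) ∧
      ((∃ (K₁ : Type u) (_ : Field K₁) (_ : Algebra K' K₁), FiniteDimensional K' K₁ ∧ Algebra.IsSeparable K' K₁ ∧
          EtRam.IsSolution B' K' L' K₁) →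
        ∃ (K₁ : Type u) (_ : Field K₁) (_ : Algebra K K₁), FiniteDimensional K K₁ ∧ Algebra.IsSeparable K K₁ ∧
          EtRam.IsSolution B K L K₁) := by
  obtain ⟨A', cA', lA', aAA', hlocA, hshA⟩ :=
    Groth.Agent.Lib.Helper3.Branch.exists_isStrictHenselization A
  obtain ⟨B', cB', lB', aBB', hlocB, hshB⟩ :=
    Groth.Agent.Lib.Helper3.Branch.exists_isStrictHenselization B
  haveI dA' : IsDomain A' := isDomain_sh A A'
  haveI dB' : IsDomain B' := isDomain_sh B B'
  haveI dvrA' : IsDiscreteValuationRing A' := isDVR_sh A A'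
  haveI dvrB' : IsDiscreteValuationRing B' := isDVR_sh B B'
  obtain ⟨φ, hφloc, hφ⟩ := Groth.Agent.Lib.Seat15.StrictHens.exists_lift
    (S₁ := A') (S₂ := B') (algebraMap A B)
  have hinjA : Function.Injective (algebraMap A A') := injective_sh A A'
  have hinjB : Function.Injective (algebraMap B B') := injective_sh B B'
  have hinjφ : Function.Injective φ := by
    apply injective_of_sh A A' B' φ
    rw [hφ]
    exact hinjB.comp hinj
  obtain ⟨K', fK', aA'K', frK'⟩ : ∃ (K' : Type u) (_ : Field K') (_ : Algebra A' K'),
      IsFractionRing A' K' := ⟨FractionRing A', inferInstance, inferInstance, inferInstance⟩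
  obtain ⟨L', fL', aB'L', frL'⟩ : ∃ (L' : Type u) (_ : Field L') (_ : Algebra B' L'),
      IsFractionRing B' L' := ⟨FractionRing B', inferInstance, inferInstance, inferInstance⟩
  have hinjA'K' : Function.Injective (algebraMap A' K') := IsFractionRing.injective A' K'
  have hinjB'L' : Function.Injective (algebraMap B' L') := IsFractionRing.injective B' L'
  letI aA'B' : Algebra A' B' := φ.toAlgebra
  letI aAB' : Algebra A B' := ((algebraMap B B').comp (algebraMap A B)).toAlgebra
  haveI tABB' : IsScalarTower A B B' := IsScalarTower.of_algebraMap_eq (fun _ => rfl)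
  haveI tAA'B' : IsScalarTower A A' B' :=
    IsScalarTower.of_algebraMap_eq (fun a => (RingHom.congr_fun hφ a).symm)
  haveI hlocφ : IsLocalHom (algebraMap A' B') := hφloc
  have hinj1 : Function.Injective ((algebraMap B' L').comp (algebraMap A' B')) :=
    hinjB'L'.comp hinjφ
  letI aK'L' : Algebra K' L' := (IsFractionRing.lift (A := A') (K := K')
    (g := (algebraMap B' L').comp (algebraMap A' B')) hinj1).toAlgebra
  letI aA'L' : Algebra A' L' := ((algebraMap B' L').comp (algebraMap A' B')).toAlgebra
  haveI tA'K'L' : IsScalarTower A' K' L' := IsScalarTower.of_algebraMap_eq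
    (fun a => (IsFractionRing.lift_algebraMap hinj1 a).symm)
  haveI tA'B'L' : IsScalarTower A' B' L' := IsScalarTower.of_algebraMap_eq (fun _ => rfl)
  have hinj2 : Function.Injective ((algebraMap A' K').comp (algebraMap A A')) :=
    hinjA'K'.comp hinjA
  letI aKK' : Algebra K K' := (IsFractionRing.lift (A := A) (K := K)
    (g := (algebraMap A' K').comp (algebraMap A A')) hinj2).toAlgebra
  letI aAK' : Algebra A K' := ((algebraMap A' K').comp (algebraMap A A')).toAlgebra
  haveI tAKK' : IsScalarTower A K K' := IsScalarTower.of_algebraMap_eq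
    (fun a => (IsFractionRing.lift_algebraMap hinj2 a).symm)
  haveI tAA'K' : IsScalarTower A A' K' := IsScalarTower.of_algebraMap_eq (fun _ => rfl)
  have hinj3 : Function.Injective ((algebraMap B' L').comp (algebraMap B B')) :=
    hinjB'L'.comp hinjB
  letI aLL' : Algebra L L' := (IsFractionRing.lift (A := B) (K := L)
    (g := (algebraMap B' L').comp (algebraMap B B')) hinj3).toAlgebra
  letI aBL' : Algebra B L' := ((algebraMap B' L').comp (algebraMap B B')).toAlgebra
  haveI tBLL' : IsScalarTower B L L' := IsScalarTower.of_algebraMap_eq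
    (fun b => (IsFractionRing.lift_algebraMap hinj3 b).symm)
  haveI tBB'L' : IsScalarTower B B' L' := IsScalarTower.of_algebraMap_eq (fun _ => rfl)
  refine ⟨A', B', K', L', cA', dA', dvrA', cB', dB', dvrB', fK', fL', aAA', aBB', aA'B', aAB',
    tABB', tAA'B', aA'K', frK', aB'L', frL', aK'L', aA'L', tA'K'L', tA'B'L', aKK', aAK', tAKK',
    tAA'K', aLL', aBL', tBLL', tBB'L', hlocA, hlocB, hlocφ, hinjA, hinjB, hinjφ, ?_, ?_, ?_, ?_,
    ?_, ?_⟩
  · exact isSeparable_fractionField_sh A A' K K'
  · exact isSeparable_fractionField_sh B B' L L'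
  · show @IsSepClosure (ResidueField A) _ (ResidueField A') _
      (IsLocalRing.ResidueField.map (algebraMap A A')).toAlgebra
    rw [← residueField_algebra_eq A A']
    exact Hensel.IsStrictHenselization.isSepClosure
  · show @IsSepClosure (ResidueField B) _ (ResidueField B') _
      (IsLocalRing.ResidueField.map (algebraMap B B')).toAlgebra
    rw [← residueField_algebra_eq B B']
    exact Hensel.IsStrictHenselization.isSepClosure
  · rintro ⟨K₁', _, _, hfin, hsol⟩
    obtain ⟨K₁, fK₁, aK₁, h1, -, h3⟩ := exists_solution_descent A B K L A' B' K' L' K₁' hsol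
    exact ⟨K₁, fK₁, aK₁, h1, h3⟩
  · rintro ⟨K₁', _, _, hfin, hsep, hsol⟩
    obtain ⟨K₁, fK₁, aK₁, h1, h2, h3⟩ := exists_solution_descent A B K L A' B' K' L' K₁' hsol
    exact ⟨K₁, fK₁, aK₁, h1, h2 hsep, h3⟩

end Groth.Agent.Lib.Seat10.ShDvr
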