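import Mathlib
import Groth.Agent.Lib.Helper6Tower

/-!
# Etale coordinates adapted to a smooth closed subscheme (seat 12)

Affine form of the Jacobian criterion: if `B` is smooth over `A` at `q ⊇ J` and `B ⧸ J` is smooth at `q`,
then a minimal system of generators of `J` at `q` extends to etale coordinates near `q`.
Main steps: `linearIndependent_tmul_D` (conormal injectivity at the residue field),
`exists_basis_extension`, `isEtaleAt_of_basis`, `exists_notMem_map_eq_span`.
-/

set_option autoImplicit false
set_option linter.style.haveILetI false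
set_option linter.unusedSectionVars false
universe u

namespace Groth.Agent.Lib.Seat12.EtCoord


open TensorProduct IsLocalRing

section MinGen

variable {B : Type u} [CommRing B] (J : Ideal B) (q : Ideal B) [q.IsPrime]

/-- elements of `q • J` die in `κ(q) ⊗ J`. -/
theorem tmul_eq_zero_of_mem_smul (x : J) (hx : x ∈ q • (⊤ : Submodule B J)) :
    (1 : q.ResidueField) ⊗ₜ[B] x = 0 := by
  refine Submodule.smul_induction_on hx (fun a ha j _ => ?_) (fun x y hx hy => ?_)
  · rw [← TensorProduct.smul_tmul, Algebra.smul_def, mul_one,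
      (Ideal.algebraMap_residueField_eq_zero).mpr ha, zero_tmul]
  · rw [tmul_add, hx, hy, add_zero]

/-- if the `g i` generate `J` at `q`, the `1 ⊗ g i` span `κ(q) ⊗ J`. -/
theorem span_tmul_eq_top {r : ℕ} (g : Fin r → B) (hg : ∀ i, g i ∈ J)
    (hgen : J.map (algebraMap B (Localization.AtPrime q)) =
      Ideal.span (Set.range fun i => algebraMap B (Localization.AtPrime q) (g i))) :
    Submodule.span q.ResidueField
      (Set.range fun i => (1 : q.ResidueField) ⊗ₜ[B] (⟨g i, hg i⟩ : J)) = ⊤ := by
  classical
  rw [eq_top_iff]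
  rintro x -
  induction x using TensorProduct.induction_on with
  | zero => exact Submodule.zero_mem _
  | add x y hx hy => exact Submodule.add_mem _ hx hy
  | tmul c j =>
    have hc : c ⊗ₜ[B] j = c • ((1 : q.ResidueField) ⊗ₜ[B] j) := by
      rw [TensorProduct.smul_tmul', smul_eq_mul, mul_one]
    rw [hc]
    refine Submodule.smul_mem _ _ ?_
    -- `j / 1` is a combination of the `g i / 1`
    have hj : algebraMap B (Localization.AtPrime q) j ∈
        Ideal.span (Set.range fun i => algebraMap B (Localization.AtPrime q) (g i)) := by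
      rw [← hgen]
      exact Ideal.mem_map_of_mem _ j.2
    obtain ⟨a, ha⟩ := (Submodule.mem_span_range_iff_exists_fun _).mp hj
    obtain ⟨s, hs⟩ := IsLocalization.exist_integer_multiples q.primeCompl Finset.univ a
    choose a' ha' using fun i => hs i (Finset.mem_univ i)
    -- `s j = ∑ a' i g i` in the localization
    have h1 : algebraMap B (Localization.AtPrime q) ((s : B) * j) =
        algebraMap B (Localization.AtPrime q) (∑ i, a' i * g i) := by
      rw [map_mul, ← ha, Finset.mul_sum, map_sum]
      refine Finset.sum_congr rfl fun i _ => ?_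
      rw [map_mul, ha' i, smul_eq_mul, Algebra.smul_def ((s : B)) (a i)]
      ring
    obtain ⟨t, ht⟩ := (IsLocalization.eq_iff_exists q.primeCompl _).mp h1
    -- in `J`
    have h2 : ((t : B) * (s : B)) • j = ∑ i, ((t : B) * a' i) • (⟨g i, hg i⟩ : J) := by
      apply Subtype.ext
      simp only [Submodule.coe_smul, Submodule.coe_sum, smul_eq_mul]
      rw [mul_assoc, ht, Finset.mul_sum]
      refine Finset.sum_congr rfl fun i _ => by ring
    have hts : algebraMap B q.ResidueField ((t : B) * (s : B)) ≠ 0 := by
      rw [Ne, Ideal.algebraMap_residueField_eq_zero]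
      exact fun h => (q.primeCompl.mul_mem t.2 s.2) h
    have h3 : algebraMap B q.ResidueField ((t : B) * (s : B)) • ((1 : q.ResidueField) ⊗ₜ[B] j) =
        ∑ i, algebraMap B q.ResidueField ((t : B) * a' i) •
          ((1 : q.ResidueField) ⊗ₜ[B] (⟨g i, hg i⟩ : J)) := by
      have e : ∀ (b : B) (y : J), algebraMap B q.ResidueField b • ((1 : q.ResidueField) ⊗ₜ[B] y) =
          (1 : q.ResidueField) ⊗ₜ[B] (b • y) := by
        intro b y
        rw [TensorProduct.smul_tmul', smul_eq_mul, mul_one, ← TensorProduct.smul_tmul,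
          Algebra.smul_def, mul_one]
      rw [e, h2, tmul_sum]
      exact Finset.sum_congr rfl fun i _ => (e _ _).symm
    have h4 : (1 : q.ResidueField) ⊗ₜ[B] j =
        (algebraMap B q.ResidueField ((t : B) * (s : B)))⁻¹ •
          ∑ i, algebraMap B q.ResidueField ((t : B) * a' i) •
            ((1 : q.ResidueField) ⊗ₜ[B] (⟨g i, hg i⟩ : J)) := by
      rw [← h3, smul_smul, inv_mul_cancel₀ hts, one_smul]
    rw [h4]
    refine Submodule.smul_mem _ _ (Submodule.sum_mem _ fun i _ => Submodule.smul_mem _ _ ?_)
    exact Submodule.subset_span ⟨i, rfl⟩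

/-- a minimal system of generators of `J` at `q` gives a linearly independent family of `κ(q) ⊗ J`. -/
theorem linearIndependent_tmul {r : ℕ} (g : Fin r → B) (hg : ∀ i, g i ∈ J)
    (hgen : J.map (algebraMap B (Localization.AtPrime q)) =
      Ideal.span (Set.range fun i => algebraMap B (Localization.AtPrime q) (g i)))
    (hmin : r = Module.finrank q.ResidueField (q.ResidueField ⊗[B] J)) :
    LinearIndependent q.ResidueField
      (fun i => (1 : q.ResidueField) ⊗ₜ[B] (⟨g i, hg i⟩ : J)) := by
  apply linearIndependent_of_top_le_span_of_card_eq_finrank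
  · rw [span_tmul_eq_top J q g hg hgen]
  · rw [Fintype.card_fin]; exact hmin

end MinGen



open TensorProduct IsLocalRing

section MinGen

variable {B : Type u} [CommRing B] (J : Ideal B) (q : Ideal B) [q.IsPrime]

theorem mem_smul_top_of_coe_mem_mul (x : J) (hx : (x : B) ∈ q * J) :
    x ∈ q • (⊤ : Submodule B J) := by
  have h1 : (q • (⊤ : Submodule B J)).map J.subtype = q * J := by
    rw [Submodule.map_smul'', Submodule.map_subtype_top]
    rfl
  rw [← h1] at hx
  obtain ⟨x', hx', hxx'⟩ := hx
  have : x' = x := Subtype.ext hxx'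
  rwa [← this]

/-- a relation among a minimal system of generators modulo `𝔪 I` has coefficients in `𝔪`. -/
theorem mem_maximalIdeal_of_sum_mem {r : ℕ} (g : Fin r → B) (hg : ∀ i, g i ∈ J)
    (hli : LinearIndependent q.ResidueField
      (fun i => (1 : q.ResidueField) ⊗ₜ[B] (⟨g i, hg i⟩ : J)))
    (a : Fin r → Localization.AtPrime q)
    (h : ∑ i, a i * algebraMap B (Localization.AtPrime q) (g i) ∈
      maximalIdeal (Localization.AtPrime q) * J.map (algebraMap B (Localization.AtPrime q))) :
    ∀ i, a i ∈ maximalIdeal (Localization.AtPrime q) := by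
  classical
  rw [← Localization.AtPrime.map_eq_maximalIdeal, ← Ideal.map_mul] at h
  obtain ⟨s, hs⟩ := IsLocalization.exist_integer_multiples q.primeCompl Finset.univ a
  choose a' ha' using fun i => hs i (Finset.mem_univ i)
  have h1 : algebraMap B (Localization.AtPrime q) (∑ i, a' i * g i) ∈
      (q * J).map (algebraMap B (Localization.AtPrime q)) := by
    have : algebraMap B (Localization.AtPrime q) (∑ i, a' i * g i) =
        algebraMap B (Localization.AtPrime q) (s : B) *
          ∑ i, a i * algebraMap B (Localization.AtPrime q) (g i) := by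
      rw [map_sum, Finset.mul_sum]
      refine Finset.sum_congr rfl fun i _ => ?_
      rw [map_mul, ha' i, Algebra.smul_def ((s : B)) (a i)]
      ring
    rw [this]
    exact Ideal.mul_mem_left _ _ h
  obtain ⟨⟨⟨y, hy⟩, t⟩, hyt⟩ :=
    (IsLocalization.mem_map_algebraMap_iff q.primeCompl (Localization.AtPrime q)).mp h1
  simp only at hyt
  rw [← map_mul] at hyt
  obtain ⟨t', ht'⟩ := (IsLocalization.eq_iff_exists q.primeCompl _).mp hyt
  -- the element of `J`
  let x : J := ∑ i, ((t' : B) * (t : B) * a' i) • (⟨g i, hg i⟩ : J)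
  have hxval : (x : B) = (t' : B) * y := by
    simp only [x, Submodule.coe_sum, Submodule.coe_smul, smul_eq_mul]
    rw [← ht', Finset.sum_mul, Finset.mul_sum]
    refine Finset.sum_congr rfl fun i _ => by ring
  have hxmem : x ∈ q • (⊤ : Submodule B J) := by
    apply mem_smul_top_of_coe_mem_mul
    rw [hxval]
    exact Ideal.mul_mem_left _ _ hy
  have hx0 := tmul_eq_zero_of_mem_smul J q x hxmem
  have e : ∀ (b : B) (z : J), algebraMap B q.ResidueField b • ((1 : q.ResidueField) ⊗ₜ[B] z) =
      (1 : q.ResidueField) ⊗ₜ[B] (b • z) := by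
    intro b z
    rw [TensorProduct.smul_tmul', smul_eq_mul, mul_one, ← TensorProduct.smul_tmul,
      Algebra.smul_def, mul_one]
  have hsum : ∑ i, algebraMap B q.ResidueField ((t' : B) * (t : B) * a' i) •
      ((1 : q.ResidueField) ⊗ₜ[B] (⟨g i, hg i⟩ : J)) = 0 := by
    rw [← hx0]
    simp only [x, tmul_sum]
    exact Finset.sum_congr rfl fun i _ => e _ _
  have hcoef := (Fintype.linearIndependent_iff.mp hli) _ hsum
  intro i
  have h2 : (t' : B) * (t : B) * a' i ∈ q := (Ideal.algebraMap_residueField_eq_zero).mp (hcoef i)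
  have h3 : a' i ∈ q := by
    rcases (inferInstance : q.IsPrime).mem_or_mem h2 with h | h
    · exact absurd h (q.primeCompl.mul_mem t'.2 t.2)
    · exact h
  have h4 : algebraMap B (Localization.AtPrime q) (s : B) * a i ∈
      maximalIdeal (Localization.AtPrime q) := by
    rw [← Algebra.smul_def, ← ha' i]
    exact (IsLocalization.AtPrime.to_map_mem_maximal_iff _ q _).mpr h3
  rcases (IsLocalRing.maximalIdeal.isMaximal (Localization.AtPrime q)).isPrime.mem_or_mem h4 with h | h
  · exact absurd ((IsLocalization.AtPrime.to_map_mem_maximal_iff _ q _).mp h) s.2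
  · exact h

end MinGen



open TensorProduct IsLocalRing KaehlerDifferential

section Conormal

variable (A : Type u) {L S : Type u} [CommRing A] [CommRing L] [Algebra A L] [CommRing S]
  [Algebra A S] [Algebra L S] [IsScalarTower A L S]

theorem coe_mem_of_toCotangent_mem (𝔪 K : Ideal L) (y : K)
    (h : K.toCotangent y ∈ 𝔪 • (⊤ : Submodule L K.Cotangent)) :
    (y : L) ∈ 𝔪 * K ⊔ K * K := by
  have h2 : 𝔪 • (⊤ : Submodule L K.Cotangent) = (𝔪 • (⊤ : Submodule L K)).map K.toCotangent := by
    rw [Submodule.map_smul'', Submodule.map_top, LinearMap.range_eq_top.mpr K.toCotangent_surjective]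
  rw [h2] at h
  obtain ⟨z, hz, hzy⟩ := h
  have h3 : ((y - z : K) : L) ∈ K * K := by
    have : K.toCotangent (y - z) = 0 := by rw [map_sub, hzy, sub_self]
    rwa [Ideal.toCotangent_eq_zero, pow_two] at this
  have h4 : (z : L) ∈ 𝔪 * K := by
    have : (𝔪 • (⊤ : Submodule L K)).map K.subtype = 𝔪 * K := by
      rw [Submodule.map_smul'', Submodule.map_subtype_top]
      rfl
    rw [← this]
    exact Submodule.mem_map_of_mem hz
  have : (y : L) = (z : L) + ((y - z : K) : L) := by simp
  rw [this]
  exact Submodule.add_mem_sup h4 h3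

/-- **Conormal injectivity, elementwise**. -/
theorem sum_mul_mem_of_sum_smul_D_mem_aux [Algebra.FormallySmooth A L] [Algebra.FormallySmooth A S]
    (surj : Function.Surjective (algebraMap L S)) (𝔪 : Ideal L)
    {r : ℕ} (γ : Fin r → L) (hγ : ∀ i, γ i ∈ RingHom.ker (algebraMap L S))
    (a : Fin r → L)
    (h : ∑ i, a i • D A L (γ i) ∈ 𝔪 • (⊤ : Submodule L Ω[L⁄A])) :
    ∑ i, a i * γ i ∈ 𝔪 * RingHom.ker (algebraMap L S) ⊔
      RingHom.ker (algebraMap L S) * RingHom.ker (algebraMap L S) := by
  obtain ⟨l, hl⟩ := (Algebra.FormallySmooth.iff_split_injection (R := A) (P := L) (A := S)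
    surj).mp inferInstance
  let lam : Ω[L⁄A] →ₗ[L] (RingHom.ker (algebraMap L S)).Cotangent :=
    l ∘ₗ (TensorProduct.mk L S Ω[L⁄A] 1)
  have hlam : ∀ x : RingHom.ker (algebraMap L S),
      lam (D A L x.1) = (RingHom.ker (algebraMap L S)).toCotangent x := by
    intro x
    have h1 : kerCotangentToTensor A L S ((RingHom.ker (algebraMap L S)).toCotangent x) =
        1 ⊗ₜ D A L x.1 := kerCotangentToTensor_toCotangent A L S x
    have h2 := congrArg (fun f => f ((RingHom.ker (algebraMap L S)).toCotangent x)) hl
    simp only [LinearMap.comp_apply, LinearMap.id_apply] at h2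
    change l ((1 : S) ⊗ₜ D A L x.1) = _
    rw [← h1, h2]
  let y : RingHom.ker (algebraMap L S) := ∑ i, a i • (⟨γ i, hγ i⟩ : RingHom.ker (algebraMap L S))
  have hy : lam (∑ i, a i • D A L (γ i)) = (RingHom.ker (algebraMap L S)).toCotangent y := by
    simp only [y, map_sum, map_smul]
    exact Finset.sum_congr rfl fun i _ => by rw [hlam ⟨γ i, hγ i⟩]
  have h1 : (RingHom.ker (algebraMap L S)).toCotangent y ∈
      𝔪 • (⊤ : Submodule L (RingHom.ker (algebraMap L S)).Cotangent) := by
    rw [← hy]
    have : (𝔪 • (⊤ : Submodule L Ω[L⁄A])).map lam ≤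
        𝔪 • (⊤ : Submodule L (RingHom.ker (algebraMap L S)).Cotangent) := by
      rw [Submodule.map_smul'']
      exact Submodule.smul_mono le_rfl le_top
    exact this (Submodule.mem_map_of_mem h)
  have h2 := coe_mem_of_toCotangent_mem 𝔪 _ y h1
  have h3 : (y : L) = ∑ i, a i * γ i := by
    simp [y]
  rwa [h3] at h2

theorem sum_mul_mem_of_sum_smul_D_mem [Algebra.FormallySmooth A L] (𝔪 I : Ideal L) (hI : I ≤ 𝔪)
    [Algebra.FormallySmooth A (L ⧸ I)] {r : ℕ} (γ : Fin r → L) (hγ : ∀ i, γ i ∈ I)
    (a : Fin r → L)
    (h : ∑ i, a i • D A L (γ i) ∈ 𝔪 • (⊤ : Submodule L Ω[L⁄A])) :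
    ∑ i, a i * γ i ∈ 𝔪 * I := by
  have hK : RingHom.ker (algebraMap L (L ⧸ I)) = I := by
    rw [Ideal.Quotient.algebraMap_eq, Ideal.mk_ker]
  have := sum_mul_mem_of_sum_smul_D_mem_aux A (S := L ⧸ I) Ideal.Quotient.mk_surjective 𝔪 γ
    (fun i => by rw [hK]; exact hγ i) a h
  rw [hK] at this
  refine (sup_le le_rfl ?_ : 𝔪 * I ⊔ I * I ≤ 𝔪 * I) this
  exact Ideal.mul_mono_left hI

end Conormal



open TensorProduct IsLocalRing KaehlerDifferential

section QuotLoc

variable (A : Type u) {B : Type u} [CommRing A] [CommRing B] [Algebra A B]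

theorem formallySmooth_quotient_localization (J : Ideal B) (q : Ideal B) [q.IsPrime]
    (Q : Ideal (B ⧸ J)) [Q.IsPrime] (hQ : Q.comap (Ideal.Quotient.mk J) = q)
    [Algebra.IsSmoothAt A Q] :
    Algebra.FormallySmooth A
      (Localization.AtPrime q ⧸ J.map (algebraMap B (Localization.AtPrime q))) := by
  have hsub : Algebra.algebraMapSubmonoid (B ⧸ J) q.primeCompl = Q.primeCompl := by
    ext x
    constructor
    · rintro ⟨y, hy, rfl⟩
      intro hmem
      apply hy
      rw [← hQ]
      exact hmem
    · intro hx
      obtain ⟨y, rfl⟩ := Ideal.Quotient.mk_surjective x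
      refine ⟨y, ?_, rfl⟩
      intro hy
      apply hx
      rw [← hQ] at hy
      exact hy
  haveI h1 : IsLocalization (Algebra.algebraMapSubmonoid (B ⧸ J) q.primeCompl)
      (Localization.AtPrime q ⧸ J.map (algebraMap B (Localization.AtPrime q))) := inferInstance
  haveI h2 : IsLocalization Q.primeCompl
      (Localization.AtPrime q ⧸ J.map (algebraMap B (Localization.AtPrime q))) := by
    rw [← hsub]; exact h1
  let e : Localization.AtPrime Q ≃ₐ[B ⧸ J]
      (Localization.AtPrime q ⧸ J.map (algebraMap B (Localization.AtPrime q))) :=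
    IsLocalization.algEquiv Q.primeCompl _ _
  haveI : Algebra.FormallySmooth A (Localization.AtPrime Q) := ‹Algebra.IsSmoothAt A Q›
  haveI : IsScalarTower A (B ⧸ J)
      (Localization.AtPrime q ⧸ J.map (algebraMap B (Localization.AtPrime q))) := by
    refine IsScalarTower.of_algebraMap_eq (fun a => ?_)
    rw [IsScalarTower.algebraMap_apply A (Localization.AtPrime q)
      (Localization.AtPrime q ⧸ J.map (algebraMap B (Localization.AtPrime q))),
      IsScalarTower.algebraMap_apply A B (Localization.AtPrime q),
      IsScalarTower.algebraMap_apply A B (B ⧸ J)]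
    rfl
  exact Algebra.FormallySmooth.of_equiv (e.restrictScalars A)

end QuotLoc


section Main

open TensorProduct IsLocalRing KaehlerDifferential

variable (A : Type u) {B : Type u} [CommRing A] [CommRing B] [Algebra A B]

/-- linear independence of the differentials of a minimal system of generators of `J` at `q`. -/
theorem linearIndependent_tmul_D (J : Ideal B) (q : Ideal B) [q.IsPrime] (hJq : J ≤ q)
    [Algebra.IsSmoothAt A q] (Q : Ideal (B ⧸ J)) [Q.IsPrime]
    (hQ : Q.comap (Ideal.Quotient.mk J) = q) [Algebra.IsSmoothAt A Q]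
    {r : ℕ} (g : Fin r → B) (hg : ∀ i, g i ∈ J)
    (hgen : J.map (algebraMap B (Localization.AtPrime q)) =
      Ideal.span (Set.range fun i => algebraMap B (Localization.AtPrime q) (g i)))
    (hmin : r = Module.finrank q.ResidueField (q.ResidueField ⊗[B] J)) :
    LinearIndependent (ResidueField (Localization.AtPrime q))
      (fun i => (1 : ResidueField (Localization.AtPrime q)) ⊗ₜ[Localization.AtPrime q]
        D A (Localization.AtPrime q) (algebraMap B (Localization.AtPrime q) (g i))) := by
  haveI : Algebra.FormallySmooth A (Localization.AtPrime q) := ‹Algebra.IsSmoothAt A q›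
  haveI := formallySmooth_quotient_localization A J q Q hQ
  have hli := linearIndependent_tmul J q g hg hgen hmin
  rw [Fintype.linearIndependent_iff]
  intro c hc i
  choose a ha using fun i => IsLocalRing.residue_surjective (c i)
  have h1 : ∑ i, a i • D A (Localization.AtPrime q) (algebraMap B (Localization.AtPrime q) (g i)) ∈
      maximalIdeal (Localization.AtPrime q) • (⊤ : Submodule (Localization.AtPrime q)
        Ω[Localization.AtPrime q⁄A]) := by
    rw [← LinearMap.ker_tensorProductMk, LinearMap.mem_ker, map_sum]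
    refine Eq.trans ?_ hc
    refine Finset.sum_congr rfl fun i _ => ?_
    rw [map_smul, TensorProduct.mk_apply, ← ha i, TensorProduct.smul_tmul', TensorProduct.smul_tmul',
      smul_eq_mul, mul_one]
    congr 1
    rw [Algebra.smul_def, mul_one]
    rfl
  have hIm : J.map (algebraMap B (Localization.AtPrime q)) ≤ maximalIdeal (Localization.AtPrime q) := by
    rw [← Localization.AtPrime.map_eq_maximalIdeal]
    exact Ideal.map_mono hJq
  have h2 := sum_mul_mem_of_sum_smul_D_mem A (maximalIdeal (Localization.AtPrime q))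
    (J.map (algebraMap B (Localization.AtPrime q))) hIm
    (fun i => algebraMap B (Localization.AtPrime q) (g i))
    (fun i => Ideal.mem_map_of_mem _ (hg i)) a h1
  have h3 := mem_maximalIdeal_of_sum_mem J q g hg hli a h2 i
  rw [← ha i]
  exact (IsLocalRing.residue_eq_zero_iff _).mpr h3

end Main


section Main2

open TensorProduct IsLocalRing KaehlerDifferential

variable (A : Type u) {B : Type u} [CommRing A] [CommRing B] [Algebra A B]

/-- Extension of the differentials of a minimal system of generators of `J` at `q` to a basis of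
`Ω_{B_q/A}` by differentials of elements of `B`. -/
theorem exists_basis_extension [Algebra.FinitePresentation A B]
    (J : Ideal B) (q : Ideal B) [q.IsPrime] (hJq : J ≤ q)
    [Algebra.IsSmoothAt A q] (Q : Ideal (B ⧸ J)) [Q.IsPrime]
    (hQ : Q.comap (Ideal.Quotient.mk J) = q) [Algebra.IsSmoothAt A Q]
    {r : ℕ} (g : Fin r → B) (hg : ∀ i, g i ∈ J)
    (hgen : J.map (algebraMap B (Localization.AtPrime q)) =
      Ideal.span (Set.range fun i => algebraMap B (Localization.AtPrime q) (g i)))
    (hmin : r = Module.finrank q.ResidueField (q.ResidueField ⊗[B] J)) :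
    ∃ (m : ℕ) (b : Fin m → B)
      (bΩ : Module.Basis (Fin r ⊕ Fin m) (Localization.AtPrime q) Ω[Localization.AtPrime q⁄A]),
      ∀ i, bΩ i = D A (Localization.AtPrime q) (algebraMap B (Localization.AtPrime q) (Sum.elim g b i)) := by
  classical
  haveI hsm : Algebra.FormallySmooth A (Localization.AtPrime q) := ‹Algebra.IsSmoothAt A q›
  haveI : Module.Projective (Localization.AtPrime q) Ω[Localization.AtPrime q⁄A] :=
    ((Algebra.formallySmooth_iff (R := A) (A := Localization.AtPrime q)).mp hsm).1
  haveI : Module.Finite (Localization.AtPrime q) Ω[Localization.AtPrime q⁄A] := inferInstance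
  haveI : Module.FinitePresentation (Localization.AtPrime q) Ω[Localization.AtPrime q⁄A] :=
    Module.finitePresentation_of_projective _ _
  have hu := linearIndependent_tmul_D A J q hJq Q hQ g hg hgen hmin
  -- the big family
  let M := Ω[Localization.AtPrime q⁄A]
  let k := ResidueField (Localization.AtPrime q)
  let dd : B → M := fun b => D A (Localization.AtPrime q) (algebraMap B (Localization.AtPrime q) b)
  let v : Fin r ⊕ B → k ⊗[Localization.AtPrime q] M :=
    fun x => (1 : k) ⊗ₜ[Localization.AtPrime q] dd (Sum.elim g id x)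
  have hs : LinearIndepOn k v (Set.range Sum.inl) := by
    rw [linearIndepOn_range_iff Sum.inl_injective]
    exact hu
  obtain ⟨bset, -, hsb, hspan, hbli⟩ := exists_linearIndepOn_extension hs (Set.subset_univ _)
  -- `v '' bset` spans
  have hspanM : Submodule.span (Localization.AtPrime q) (Set.range dd) = ⊤ := by
    have h0 := span_range_map_derivation_of_isLocalization A B (Localization.AtPrime q) q.primeCompl
    have : (⇑(KaehlerDifferential.map A A B (Localization.AtPrime q)) ∘ ⇑(D A B)) = dd := by
      funext b
      simp [dd]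
    rwa [this] at h0
  have htop : Submodule.span k (v '' bset) = ⊤ := by
    rw [eq_top_iff]
    have h1 := (IsLocalRing.map_tensorProduct_mk_eq_top
      (N := Submodule.span (Localization.AtPrime q) (Set.range dd))).mpr hspanM
    rw [← Submodule.span_image, ← Set.range_comp, eq_top_iff, ← SetLike.coe_subset_coe,
      Submodule.top_coe] at h1
    have h2 : Submodule.span k (Set.range (TensorProduct.mk (Localization.AtPrime q) k M 1 ∘ dd)) = ⊤ := by
      rw [eq_top_iff]
      exact Set.Subset.trans h1 (Submodule.span_subset_span _ _ _)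
    rw [← h2]
    refine Submodule.span_le.mpr ?_
    rintro _ ⟨b, rfl⟩
    exact hspan ⟨Sum.inr b, Set.mem_univ _, rfl⟩
  -- finiteness of `bset`
  have hbfin : bset.Finite := by
    have hli' : LinearIndependent k (fun x : bset => v x) := hbli
    have hsp' : ⊤ ≤ Submodule.span k (Set.range fun x : bset => v x) := by
      rw [← htop, Set.image_eq_range]
    have := Module.Finite.finite_basis (Module.Basis.mk hli' hsp')
    exact Set.toFinite bset
  let c : Set B := Sum.inr ⁻¹' bset
  have hcfin : c.Finite := hbfin.preimage Sum.inr_injective.injOn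
  haveI : Fintype c := hcfin.fintype
  let m := Fintype.card c
  let e : Fin m ≃ c := (Fintype.equivFin c).symm
  let b : Fin m → B := fun j => (e j : B)
  let f : Fin r ⊕ Fin m → Fin r ⊕ B := Sum.map id b
  have hf_inj : Function.Injective f := by
    apply Sum.map_injective.mpr
    refine ⟨Function.injective_id, ?_⟩
    intro j j' h
    exact e.injective (Subtype.ext h)
  have hf_range : Set.range f = bset := by
    ext x
    constructor
    · rintro ⟨y, rfl⟩
      rcases y with i | j
      · exact hsb ⟨i, rfl⟩
      · exact (e j).2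
    · intro hx
      rcases x with i | y
      · exact ⟨Sum.inl i, rfl⟩
      · have hy : y ∈ c := hx
        refine ⟨Sum.inr (e.symm ⟨y, hy⟩), ?_⟩
        simp [f, b]
  have hli : LinearIndependent k (v ∘ f) := by
    rw [← linearIndepOn_range_iff hf_inj, hf_range]
    exact hbli
  have hsp : Submodule.span k (Set.range (v ∘ f)) = ⊤ := by
    rw [Set.range_comp, hf_range, htop]
  let vt : Fin r ⊕ Fin m → M := fun i => dd (Sum.elim g b i)
  have hvt : TensorProduct.mk (Localization.AtPrime q) k M 1 ∘ vt = v ∘ f := by
    funext i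
    rcases i with i | j <;> rfl
  have H : Function.Injective ((maximalIdeal (Localization.AtPrime q)).subtype.rTensor M) :=
    Module.Flat.rTensor_preserves_injective_linearMap _ Subtype.val_injective
  obtain ⟨bΩ, hbΩ⟩ := Module.exists_basis_of_basis_baseChange vt (hvt ▸ hli) (hvt ▸ hsp) H
  exact ⟨m, b, bΩ, hbΩ⟩

end Main2


section Main3

open TensorProduct IsLocalRing KaehlerDifferential

/-- If the differentials of elements `x i` form a basis of `Ω_{P/A}` and their images form a basis of
`Ω_{B_q/A}` (with `B` smooth over `A` at `q`), then `B` is etale over `P` at `q`. -/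
theorem isEtaleAt_of_basis (A P : Type u) {B : Type u} [CommRing A] [CommRing P] [CommRing B]
    [Algebra A P] [Algebra P B] [Algebra A B] [IsScalarTower A P B] (q : Ideal B) [q.IsPrime]
    [Algebra.IsSmoothAt A q]
    {σ : Type*} (bP : Module.Basis σ P Ω[P⁄A]) (x : σ → P) (hbP : ∀ i, bP i = D A P (x i))
    (bΩ : Module.Basis σ (Localization.AtPrime q) Ω[Localization.AtPrime q⁄A])
    (hbΩ : ∀ i, bΩ i = D A (Localization.AtPrime q)
      (algebraMap B (Localization.AtPrime q) (algebraMap P B (x i)))) :
    Algebra.IsEtaleAt P q := by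
  haveI hsm : Algebra.FormallySmooth A (Localization.AtPrime q) := ‹Algebra.IsSmoothAt A q›
  change Algebra.FormallyEtale P (Localization.AtPrime q)
  rw [Groth.Agent.Lib.Helper6.Tower.formallyEtale_iff_bijective A P (Localization.AtPrime q)]
  let bL : Module.Basis σ (Localization.AtPrime q) (Localization.AtPrime q ⊗[P] Ω[P⁄A]) :=
    bP.baseChange (Localization.AtPrime q)
  have h : mapBaseChange A P (Localization.AtPrime q) =
      (bL.equiv bΩ (Equiv.refl σ)).toLinearMap := by
    apply bL.ext
    intro i
    rw [LinearEquiv.coe_coe, Module.Basis.equiv_apply, Equiv.refl_apply, hbΩ]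
    simp only [bL, Module.Basis.baseChange_apply, hbP, mapBaseChange_tmul, map_D, one_smul]
    rw [← IsScalarTower.algebraMap_apply P B (Localization.AtPrime q)]
  rw [h]
  exact (bL.equiv bΩ (Equiv.refl σ)).bijective

end Main3


section IdealEq

variable {B : Type u} [CommRing B]

/-- a finitely generated ideal generated at `q` by elements `g i` is generated by them over a basic open
neighbourhood `D(f)` of `q` (and over every smaller basic open). -/
theorem exists_notMem_map_eq_span (J : Ideal B) (hJ : J.FG) (q : Ideal B) [q.IsPrime] {r : ℕ}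
    (g : Fin r → B) (hg : ∀ i, g i ∈ J)
    (hgen : J.map (algebraMap B (Localization.AtPrime q)) =
      Ideal.span (Set.range fun i => algebraMap B (Localization.AtPrime q) (g i))) :
    ∃ f ∉ q, ∀ f' : B, f ∣ f' → J.map (algebraMap B (Localization.Away f')) =
      Ideal.span (Set.range fun i => algebraMap B (Localization.Away f') (g i)) := by
  classical
  let G : Ideal B := Ideal.span (Set.range g)
  have hGJ : G ≤ J := Ideal.span_le.mpr (by rintro _ ⟨i, rfl⟩; exact hg i)
  have hGmap : ∀ (S : Type u) [CommRing S] [Algebra B S],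
      G.map (algebraMap B S) = Ideal.span (Set.range fun i => algebraMap B S (g i)) := by
    intro S _ _
    rw [Ideal.map_span, ← Set.range_comp]
    rfl
  have key : ∀ j ∈ J, ∃ t : B, t ∉ q ∧ t * j ∈ G := by
    intro j hj
    have h1 : algebraMap B (Localization.AtPrime q) j ∈ G.map (algebraMap B (Localization.AtPrime q)) := by
      rw [hGmap, ← hgen]
      exact Ideal.mem_map_of_mem _ hj
    obtain ⟨⟨⟨y, hy⟩, t⟩, hyt⟩ :=
      (IsLocalization.mem_map_algebraMap_iff q.primeCompl (Localization.AtPrime q)).mp h1
    simp only at hyt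
    rw [← map_mul] at hyt
    obtain ⟨t', ht'⟩ := (IsLocalization.eq_iff_exists q.primeCompl _).mp hyt
    refine ⟨(t' : B) * (t : B), q.primeCompl.mul_mem t'.2 t.2, ?_⟩
    have : (t' : B) * (t : B) * j = (t' : B) * y := by rw [← ht']; ring
    rw [this]
    exact Ideal.mul_mem_left _ _ hy
  obtain ⟨S, hS⟩ := hJ
  choose! tf htf using key
  have hSJ : ∀ j ∈ S, j ∈ J := fun j hj => hS ▸ Ideal.subset_span hj
  refine ⟨∏ j ∈ S, tf j, ?_, ?_⟩
  · exact q.primeCompl.prod_mem fun j hj => (htf j (hSJ j hj)).1
  · intro f' hf'
    have hfJ : ∀ j ∈ J, (∏ j ∈ S, tf j) * j ∈ G := by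
      intro j hj
      rw [← hS] at hj
      induction hj using Submodule.span_induction with
      | mem j hj =>
        obtain ⟨c, hc⟩ := Finset.dvd_prod_of_mem tf hj
        rw [hc, mul_comm (tf j) c, mul_assoc]
        exact Ideal.mul_mem_left _ _ (htf j (hSJ j hj)).2
      | zero => simp
      | add y z _ _ hy hz => rw [mul_add]; exact Ideal.add_mem _ hy hz
      | smul a y _ hy =>
        rw [smul_eq_mul, mul_left_comm]
        exact Ideal.mul_mem_left _ _ hy
    rw [← hGmap]
    apply le_antisymm _ (Ideal.map_mono hGJ)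
    rw [Ideal.map_le_iff_le_comap]
    intro j hj
    rw [Ideal.mem_comap]
    have h1 : algebraMap B (Localization.Away f') ((∏ j ∈ S, tf j) * j) ∈
        G.map (algebraMap B (Localization.Away f')) := Ideal.mem_map_of_mem _ (hfJ j hj)
    have hunit : IsUnit (algebraMap B (Localization.Away f') (∏ j ∈ S, tf j)) := by
      have h2 : IsUnit (algebraMap B (Localization.Away f') f') :=
        IsLocalization.Away.algebraMap_isUnit f'
      obtain ⟨c, hc⟩ := hf'
      have h3 : algebraMap B (Localization.Away f') f' =
          algebraMap B (Localization.Away f') (∏ j ∈ S, tf j) *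
            algebraMap B (Localization.Away f') c := by
        rw [← map_mul, ← hc]
      rw [h3] at h2
      exact isUnit_of_mul_isUnit_left h2
    rw [map_mul] at h1
    exact (Ideal.unit_mul_mem_iff_mem _ hunit).mp h1

end IdealEq

end Groth.Agent.Lib.Seat12.EtCoord
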