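import Mathlib
import Groth.Agent.Lib.Seat12EtCoord

/-!
# A Jacobian criterion at a prime of a polynomial ring (seat 33)

Let `R` be a Noetherian ring, `𝔭` a prime of `P = R[x_1..x_n]` whose residue field `κ(𝔭)` is formally smooth
over `R` (e.g. `R ⊆ κ(𝔭)` with `Frac R` perfect).  Then there are `g_1, …, g_r ∈ 𝔭`, an `r × r` minor of the
Jacobian matrix of `g` not lying in `𝔭`, and `h ∉ 𝔭` with `h 𝔭 ⊆ (g_1, …, g_r)`
(`jacobian_criterion`).

Auxiliary: `exists_minor_ne_zero` (a matrix with independent rows has a nonzero maximal minor),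
`D_algebraMap_eq_sum` (chain rule for `D (algebraMap p)`).
-/

set_option autoImplicit false
universe u

open MvPolynomial IsLocalRing KaehlerDifferential Module

namespace Groth.Agent.Lib.Seat33.JacCrit

/-- an `r × n` matrix over a field with linearly independent rows has a nonvanishing `r × r` minor. -/
theorem exists_minor_ne_zero {L : Type*} [Field L] {r n : ℕ} (M : Matrix (Fin r) (Fin n) L)
    (h : LinearIndependent L M.row) : ∃ σ : Fin r → Fin n, (M.submatrix id σ).det ≠ 0 := by
  classical
  have hrank : M.rank = r := by rw [h.rank_matrix, Fintype.card_fin]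
  have hspan : Submodule.span L (Set.range M.col) = ⊤ := by
    apply Submodule.eq_top_of_finrank_eq
    rw [← Matrix.rank_eq_finrank_span_cols, hrank, Module.finrank_fin_fun]
  obtain ⟨b, hb, hbspan, hbli⟩ := exists_linearIndependent L (Set.range M.col)
  rw [hspan] at hbspan
  let B : Basis b L (Fin r → L) := Basis.mk hbli (by rw [Subtype.range_coe]; exact hbspan.ge)
  have hfin : Finite b := Module.Finite.finite_basis B
  have := Fintype.ofFinite b
  have hcard : Fintype.card b = r := by
    rw [← Module.finrank_eq_card_basis B, Module.finrank_fin_fun]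
  let e : Fin r ≃ b := (Fintype.equivFinOfCardEq hcard).symm
  choose σ hσ using fun l : Fin r => hb (e l).2
  refine ⟨σ, ?_⟩
  have hcol : (M.submatrix id σ).col = fun l => ((e l : b) : Fin r → L) := by
    funext l
    rw [← hσ l]
    rfl
  have hli : LinearIndependent L (M.submatrix id σ).col := by
    rw [hcol]
    exact hbli.comp e e.injective
  have hunit := Matrix.linearIndependent_cols_iff_isUnit.mp hli
  rw [Matrix.isUnit_iff_isUnit_det] at hunit
  exact hunit.ne_zero

section Chain

variable {R : Type u} [CommRing R] {n : ℕ}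

/-- chain rule for the universal derivation of an algebra over a polynomial ring. -/
theorem D_algebraMap_eq_sum {B : Type u} [CommRing B] [Algebra R B]
    [Algebra (MvPolynomial (Fin n) R) B] [IsScalarTower R (MvPolynomial (Fin n) R) B]
    (p : MvPolynomial (Fin n) R) :
    D R B (algebraMap (MvPolynomial (Fin n) R) B p) =
      ∑ j, algebraMap (MvPolynomial (Fin n) R) B (pderiv j p) •
        D R B (algebraMap (MvPolynomial (Fin n) R) B (X j)) := by
  classical
  induction p using MvPolynomial.induction_on with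
  | C r =>
    have : algebraMap (MvPolynomial (Fin n) R) B (C r) = algebraMap R B r := by
      rw [IsScalarTower.algebraMap_apply R (MvPolynomial (Fin n) R) B]
      rfl
    rw [this, Derivation.map_algebraMap]
    simp
  | add p q hp hq =>
    simp only [map_add, hp, hq, add_smul, Finset.sum_add_distrib]
  | mul_X p i hp =>
    rw [map_mul, Derivation.leibniz, hp]
    have hd : ∀ j, pderiv j (p * X i) = pderiv j p * X i + p * (if j = i then 1 else 0) := by
      intro j
      rw [Derivation.leibniz, pderiv_X, smul_eq_mul, smul_eq_mul, Pi.single_apply]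
      by_cases h : j = i
      · have h' : i = j := h.symm
        rw [if_pos h', if_pos h]; ring
      · have h' : ¬ i = j := fun e => h e.symm
        rw [if_neg h', if_neg h]; ring
    simp only [hd, map_add, map_mul, add_smul, Finset.sum_add_distrib]
    rw [add_comm]
    congr 1
    · rw [Finset.smul_sum]
      apply Finset.sum_congr rfl
      intro j _
      rw [smul_smul, mul_comm]
    · rw [Finset.sum_eq_single i]
      · simp
      · intro b _ hb
        simp [hb]
      · intro h; exact absurd (Finset.mem_univ i) h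

end Chain

section Main

variable {R : Type u} [CommRing R] [IsNoetherianRing R] {n : ℕ}
  (𝔭 : Ideal (MvPolynomial (Fin n) R)) [𝔭.IsPrime]
  (B : Type u) [CommRing B] [Algebra (MvPolynomial (Fin n) R) B] [IsLocalization.AtPrime B 𝔭]
  [IsLocalRing B] [IsNoetherianRing B] [Algebra R B] [IsScalarTower R (MvPolynomial (Fin n) R) B]

local notation "P" => MvPolynomial (Fin n) R

omit [IsNoetherianRing R] [IsNoetherianRing B] [Algebra R B]
  [IsScalarTower R (MvPolynomial (Fin n) R) B] in
theorem algebraMap_mem_maximalIdeal {p : P} (hp : p ∈ 𝔭) :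
    algebraMap P B p ∈ maximalIdeal B :=
  (IsLocalization.AtPrime.to_map_mem_maximal_iff B 𝔭 p).mpr hp

/-- the class of `p ∈ 𝔭` in the cotangent space of the local ring at `𝔭`. -/
noncomputable def cls (p : 𝔭) : CotangentSpace B :=
  (maximalIdeal B).toCotangent ⟨algebraMap P B p.1, algebraMap_mem_maximalIdeal 𝔭 B p.2⟩

omit [IsNoetherianRing R] [Algebra R B] [IsScalarTower R (MvPolynomial (Fin n) R) B] in
theorem span_range_cls : Submodule.span (ResidueField B) (Set.range (cls 𝔭 B)) = ⊤ := by
  let s : Set (maximalIdeal B) := Set.range fun p : 𝔭 =>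
    (⟨algebraMap P B p.1, algebraMap_mem_maximalIdeal 𝔭 B p.2⟩ : maximalIdeal B)
  have hs : Submodule.span B s = ⊤ := by
    apply Submodule.map_injective_of_injective (maximalIdeal B).subtype_injective
    rw [Submodule.map_span, Submodule.map_top, Submodule.range_subtype]
    have : (maximalIdeal B).subtype '' s = algebraMap P B '' (𝔭 : Set P) := by
      ext x
      constructor
      · rintro ⟨_, ⟨p, rfl⟩, rfl⟩
        exact ⟨p.1, p.2, rfl⟩
      · rintro ⟨p, hp, rfl⟩
        exact ⟨_, ⟨⟨p, hp⟩, rfl⟩, rfl⟩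
    rw [this]
    exact IsLocalization.AtPrime.map_eq_maximalIdeal 𝔭 B
  have h2 := (CotangentSpace.span_image_eq_top_iff (R := B) (s := s)).mpr hs
  have : (maximalIdeal B).toCotangent '' s = Set.range (cls 𝔭 B) := by
    ext x
    constructor
    · rintro ⟨_, ⟨p, rfl⟩, rfl⟩
      exact ⟨p, rfl⟩
    · rintro ⟨p, rfl⟩
      exact ⟨_, ⟨p, rfl⟩, rfl⟩
  rw [← this]
  exact h2

omit [IsNoetherianRing R] [Algebra R B] [IsScalarTower R (MvPolynomial (Fin n) R) B] in
theorem exists_basis_cls : ∃ (r : ℕ) (g : Fin r → 𝔭),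
    LinearIndependent (ResidueField B) (fun i => cls 𝔭 B (g i)) ∧
    Submodule.span (ResidueField B) (Set.range fun i => cls 𝔭 B (g i)) = ⊤ := by
  classical
  obtain ⟨b, hb, hbspan, hbli⟩ := exists_linearIndependent (ResidueField B) (Set.range (cls 𝔭 B))
  rw [span_range_cls] at hbspan
  let Bs : Basis b (ResidueField B) (CotangentSpace B) :=
    Basis.mk hbli (by rw [Subtype.range_coe]; exact hbspan.ge)
  have hfin : Finite b := Module.Finite.finite_basis Bs
  have := Fintype.ofFinite b
  let e : Fin (Fintype.card b) ≃ b := (Fintype.equivFin b).symm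
  choose g hg using fun l : Fin (Fintype.card b) => hb (e l).2
  refine ⟨Fintype.card b, g, ?_, ?_⟩
  · have : (fun i => cls 𝔭 B (g i)) = fun i => ((e i : b) : CotangentSpace B) := funext hg
    rw [this]
    exact hbli.comp e e.injective
  · have : (Set.range fun i => cls 𝔭 B (g i)) = b := by
      ext x
      constructor
      · rintro ⟨i, rfl⟩
        show cls 𝔭 B (g i) ∈ b
        rw [hg i]; exact (e i).2
      · intro hx
        refine ⟨e.symm ⟨x, hx⟩, ?_⟩
        show cls 𝔭 B (g (e.symm ⟨x, hx⟩)) = x
        rw [hg]; simp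
    rw [this, hbspan]

omit [Algebra R B] [IsScalarTower R (MvPolynomial (Fin n) R) B] in
theorem exists_mul_mem_span {r : ℕ} (g : Fin r → 𝔭)
    (hspan : Submodule.span (ResidueField B) (Set.range fun i => cls 𝔭 B (g i)) = ⊤) :
    ∃ h : P, h ∉ 𝔭 ∧ ∀ p ∈ 𝔭, h * p ∈ Ideal.span (Set.range fun i => (g i : P)) := by
  classical
  set I : Ideal P := Ideal.span (Set.range fun i => (g i : P)) with hI
  let s : Set (maximalIdeal B) := Set.range fun i : Fin r =>
    (⟨algebraMap P B (g i).1, algebraMap_mem_maximalIdeal 𝔭 B (g i).2⟩ : maximalIdeal B)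
  have hs : (maximalIdeal B).toCotangent '' s = Set.range fun i => cls 𝔭 B (g i) := by
    ext x
    constructor
    · rintro ⟨_, ⟨i, rfl⟩, rfl⟩
      exact ⟨i, rfl⟩
    · rintro ⟨i, rfl⟩
      exact ⟨_, ⟨i, rfl⟩, rfl⟩
  rw [← hs, CotangentSpace.span_image_eq_top_iff] at hspan
  have hmap : Ideal.map (algebraMap P B) I = maximalIdeal B := by
    have h1 := congrArg (Submodule.map (maximalIdeal B).subtype) hspan
    rw [Submodule.map_span, Submodule.map_top, Submodule.range_subtype] at h1
    rw [hI, Ideal.map_span, ← h1]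
    congr 1
    ext x
    constructor
    · rintro ⟨_, ⟨i, rfl⟩, rfl⟩
      exact ⟨_, ⟨i, rfl⟩, rfl⟩
    · rintro ⟨_, ⟨i, rfl⟩, rfl⟩
      exact ⟨_, ⟨i, rfl⟩, rfl⟩
  have key : ∀ p ∈ 𝔭, ∃ h : P, h ∉ 𝔭 ∧ h * p ∈ I := by
    intro p hp
    have h1 : algebraMap P B p ∈ Ideal.map (algebraMap P B) I := by
      rw [hmap]; exact algebraMap_mem_maximalIdeal 𝔭 B hp
    rw [IsLocalization.mem_map_algebraMap_iff 𝔭.primeCompl B] at h1
    obtain ⟨⟨a, s⟩, h2⟩ := h1
    rw [← map_mul, IsLocalization.eq_iff_exists 𝔭.primeCompl B] at h2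
    obtain ⟨c, hc⟩ := h2
    refine ⟨(c : P) * (s : P), (c * s).2, ?_⟩
    have : (c : P) * (s : P) * p = c * (a : P) := by
      rw [← hc]; ring
    rw [this]
    exact I.mul_mem_left _ a.2
  choose! hf hf1 hf2 using key
  obtain ⟨S, hS⟩ := (isNoetherianRing_iff_ideal_fg P).mp inferInstance 𝔭
  refine ⟨∏ x ∈ S, hf x, ?_, ?_⟩
  · have : ∏ x ∈ S, hf x ∈ 𝔭.primeCompl :=
      Submonoid.prod_mem _ (fun x hx => hf1 x (hS ▸ Ideal.subset_span hx))
    exact this
  · intro p hp
    rw [← hS] at hp
    induction hp using Submodule.span_induction with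
    | mem x hx =>
      obtain ⟨c, hc⟩ := Finset.dvd_prod_of_mem hf hx
      rw [hc, mul_comm (hf x) c, mul_assoc]
      exact I.mul_mem_left _ (hf2 x (hS ▸ Ideal.subset_span hx))
    | zero => rw [mul_zero]; exact I.zero_mem
    | add x y _ _ hx hy => rw [mul_add]; exact I.add_mem hx hy
    | smul a x _ hx =>
      rw [smul_eq_mul, mul_left_comm]
      exact I.mul_mem_left _ hx

omit [IsNoetherianRing R] [IsNoetherianRing B] in
include 𝔭 in
theorem formallySmooth_loc : Algebra.FormallySmooth R B :=
  have : Algebra.FormallySmooth P B := Algebra.FormallySmooth.of_isLocalization 𝔭.primeCompl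
  Algebra.FormallySmooth.comp R P B

omit [IsNoetherianRing R] [IsNoetherianRing B] in
theorem linearIndependent_jacobian [Algebra.FormallySmooth R (B ⧸ maximalIdeal B)] {r : ℕ}
    (g : Fin r → 𝔭) (hli : LinearIndependent (ResidueField B) (fun i => cls 𝔭 B (g i))) :
    LinearIndependent (ResidueField B)
      (Matrix.of fun (i : Fin r) (j : Fin n) =>
        residue B (algebraMap P B (pderiv j (g i).1))).row := by
  classical
  have := formallySmooth_loc 𝔭 B
  rw [Fintype.linearIndependent_iff]
  intro lam hlam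
  choose a ha using fun i => residue_surjective (R := B) (lam i)
  have hcoef : ∀ j, ∑ i, a i * algebraMap P B (pderiv j (g i).1) ∈ maximalIdeal B := by
    intro j
    rw [← residue_eq_zero_iff, map_sum]
    have := congrFun hlam j
    simp only [Finset.sum_apply, Pi.smul_apply, Matrix.row, Matrix.of_apply, smul_eq_mul,
      Pi.zero_apply] at this
    rw [← this]
    apply Finset.sum_congr rfl
    intro i _
    rw [map_mul, ha]
  have hD : ∑ i, a i • D R B (algebraMap P B (g i).1) ∈
      maximalIdeal B • (⊤ : Submodule B Ω[B⁄R]) := by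
    have h1 : ∑ i, a i • D R B (algebraMap P B (g i).1) =
        ∑ j, (∑ i, a i * algebraMap P B (pderiv j (g i).1)) • D R B (algebraMap P B (X j)) := by
      have hch : ∀ i, D R B (algebraMap P B (g i).1) =
          ∑ j, algebraMap P B (pderiv j (g i).1) • D R B (algebraMap P B (X j)) :=
        fun i => D_algebraMap_eq_sum _
      calc ∑ i, a i • D R B (algebraMap P B (g i).1)
          = ∑ i, ∑ j, (a i * algebraMap P B (pderiv j (g i).1)) • D R B (algebraMap P B (X j)) := by
            apply Finset.sum_congr rfl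
            intro i _
            rw [hch i, Finset.smul_sum]
            apply Finset.sum_congr rfl
            intro j _
            rw [smul_smul]
        _ = ∑ j, ∑ i, (a i * algebraMap P B (pderiv j (g i).1)) • D R B (algebraMap P B (X j)) :=
            Finset.sum_comm
        _ = ∑ j, (∑ i, a i * algebraMap P B (pderiv j (g i).1)) • D R B (algebraMap P B (X j)) := by
            apply Finset.sum_congr rfl
            intro j _
            rw [Finset.sum_smul]
    rw [h1]
    exact Submodule.sum_mem _ fun j _ => Submodule.smul_mem_smul (hcoef j) Submodule.mem_top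
  have h2 := Groth.Agent.Lib.Seat12.EtCoord.sum_mul_mem_of_sum_smul_D_mem R (maximalIdeal B)
    (maximalIdeal B) le_rfl (fun i => algebraMap P B (g i).1)
    (fun i => algebraMap_mem_maximalIdeal 𝔭 B (g i).2) a hD
  have h3 : ∑ i, lam i • cls 𝔭 B (g i) = 0 := by
    have h4 : ∑ i, lam i • cls 𝔭 B (g i) = (maximalIdeal B).toCotangent
        ⟨∑ i, a i * algebraMap P B (g i).1,
          Ideal.sum_mem _ fun i _ =>
            Ideal.mul_mem_left _ _ (algebraMap_mem_maximalIdeal 𝔭 B (g i).2)⟩ := by
      have h5 : (⟨∑ i, a i * algebraMap P B (g i).1,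
          Ideal.sum_mem _ fun i _ =>
            Ideal.mul_mem_left _ _ (algebraMap_mem_maximalIdeal 𝔭 B (g i).2)⟩ :
          maximalIdeal B) = ∑ i, a i •
            (⟨algebraMap P B (g i).1, algebraMap_mem_maximalIdeal 𝔭 B (g i).2⟩ :
              maximalIdeal B) := by
        apply Subtype.ext
        simp
      rw [h5, map_sum]
      apply Finset.sum_congr rfl
      intro i _
      rw [map_smul, ← ha i]
      rfl
    rw [h4, Ideal.toCotangent_eq_zero, pow_two]
    exact h2
  exact Fintype.linearIndependent_iff.mp hli lam h3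

/-- **Jacobian criterion** at a prime `𝔭` of `R[x_1, …, x_n]` with `κ(𝔭)` formally smooth over `R`. -/
theorem jacobian_criterion_aux [Algebra.FormallySmooth R (B ⧸ maximalIdeal B)] :
    ∃ (r : ℕ) (g : Fin r → P) (σ : Fin r → Fin n) (h : P),
      (∀ i, g i ∈ 𝔭) ∧ (Matrix.of fun i l => pderiv (σ l) (g i)).det ∉ 𝔭 ∧ h ∉ 𝔭 ∧
      ∀ p ∈ 𝔭, h * p ∈ Ideal.span (Set.range g) := by
  obtain ⟨r, g, hli, hspan⟩ := exists_basis_cls 𝔭 B
  obtain ⟨h, hh, hmul⟩ := exists_mul_mem_span 𝔭 B g hspan
  have hJ := linearIndependent_jacobian 𝔭 B g hli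
  obtain ⟨σ, hσ⟩ := exists_minor_ne_zero _ hJ
  refine ⟨r, fun i => (g i).1, σ, h, fun i => (g i).2, ?_, hh, hmul⟩
  intro hmem
  apply hσ
  have h1 := algebraMap_mem_maximalIdeal 𝔭 B hmem
  rw [← residue_eq_zero_iff, ← RingHom.comp_apply, RingHom.map_det] at h1
  rw [← h1]
  congr 1

end Main

end Groth.Agent.Lib.Seat33.JacCrit
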