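import Mathlib
import Groth.Agent.Lib.Seat12EtCoord
import Groth.Agent.Lib.Seat33JacCrit

/-!
# Standard elements at a smooth point, part A (seat 10)

Transport of smoothness at a prime along an algebra isomorphism, and extraction of a minimal
generating subfamily at a prime.
-/

set_option autoImplicit false
universe u

namespace Groth.Agent.Lib.Seat10.StdElem

open TensorProduct

section transport

variable {R A₁ A₂ : Type u} [CommRing R] [CommRing A₁] [CommRing A₂] [Algebra R A₁] [Algebra R A₂]

/-- smoothness at a prime is invariant under algebra isomorphisms. -/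
theorem isSmoothAt_comap_algEquiv (e : A₁ ≃ₐ[R] A₂) (q : Ideal A₂) [q.IsPrime]
    [hq : Algebra.IsSmoothAt R q] (Q : Ideal A₁) [Q.IsPrime]
    (hQ : Q = q.comap (e : A₁ →+* A₂)) :
    Algebra.IsSmoothAt R Q := by
  have H : Submonoid.map e Q.primeCompl = q.primeCompl := by
    ext x
    constructor
    · rintro ⟨y, hy, rfl⟩
      intro hx
      apply hy
      rw [hQ]
      exact hx
    · intro hx
      refine ⟨e.symm x, ?_, e.apply_symm_apply x⟩
      intro hy
      apply hx
      rw [hQ] at hy
      have : e (e.symm x) ∈ q := hy
      rwa [e.apply_symm_apply] at this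
  let E : Localization.AtPrime Q ≃ₐ[R] Localization.AtPrime q :=
    IsLocalization.algEquivOfAlgEquiv (Localization.AtPrime Q) (Localization.AtPrime q) e H
  have : Algebra.FormallySmooth R (Localization.AtPrime q) := hq
  exact Algebra.FormallySmooth.of_equiv E.symm

end transport

end Groth.Agent.Lib.Seat10.StdElem
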