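import Mathlib
import Groth.Agent.Lib.Seat10StdElemA

/-!
# Standard elements at a smooth point, part B (seat 10)

Extraction of a minimal generating subfamily of a finite family of generators of an ideal at a
prime (Nakayama).
-/

set_option autoImplicit false
universe u

namespace Groth.Agent.Lib.Seat10.StdElem

open TensorProduct

section rows

variable {B : Type u} [CommRing B] (q : Ideal B) [q.IsPrime] {m : ℕ} (f : Fin m → B)

/-- From generators `f` of an ideal one can pick a subfamily which is a minimal system of generators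
at a given prime `q`: its size is the dimension of `κ(q) ⊗ J`, and every `f ℓ` is, up to a factor
outside `q`, in the ideal generated by the subfamily. -/
theorem exists_rows (J : Ideal B) (hJ : J = Ideal.span (Set.range f)) :
    ∃ (c : ℕ) (rows : Fin c ↪ Fin m),
      c = Module.finrank q.ResidueField (q.ResidueField ⊗[B] J) ∧
      ∀ ℓ : Fin m, ∃ t : B, t ∉ q ∧ t * f ℓ ∈ Ideal.span (Set.range (f ∘ rows)) := by
  classical
  have hf : ∀ ℓ, f ℓ ∈ J := fun ℓ => by rw [hJ]; exact Ideal.subset_span ⟨ℓ, rfl⟩
  let K := q.ResidueField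
  let v : Fin m → K ⊗[B] J := fun ℓ => (1 : K) ⊗ₜ[B] (⟨f ℓ, hf ℓ⟩ : J)
  have hgen0 : J.map (algebraMap B (Localization.AtPrime q)) =
      Ideal.span (Set.range fun i => algebraMap B (Localization.AtPrime q) (f i)) := by
    rw [hJ, Ideal.map_span, ← Set.range_comp]
    rfl
  have hspan : Submodule.span K (Set.range v) = ⊤ :=
    Groth.Agent.Lib.Seat12.EtCoord.span_tmul_eq_top J q f hf hgen0
  obtain ⟨b, hb, hbspan, hbli⟩ := exists_linearIndependent K (Set.range v)
  rw [hspan] at hbspan
  let Bs : Module.Basis b K (K ⊗[B] J) :=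
    Module.Basis.mk hbli (by rw [Subtype.range_coe]; exact hbspan.ge)
  have hfin : Finite b := (Set.finite_range v).subset hb
  have := Fintype.ofFinite b
  have hcard : Fintype.card b = Module.finrank K (K ⊗[B] J) :=
    (Module.finrank_eq_card_basis Bs).symm
  let e : Fin (Module.finrank K (K ⊗[B] J)) ≃ b := (Fintype.equivFinOfCardEq hcard).symm
  choose rows hrows using fun l => hb (e l).2
  have hvr : (fun i => v (rows i)) = fun i => ((e i : b) : K ⊗[B] J) := funext hrows
  have hli : LinearIndependent K (fun i => v (rows i)) := by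
    rw [hvr]
    exact hbli.comp e e.injective
  have hinj : Function.Injective rows := by
    intro i j hij
    apply hli.injective
    change v (rows i) = v (rows j)
    rw [hij]
  have hspan' : Submodule.span K (Set.range fun i => v (rows i)) = ⊤ := by
    have : (Set.range fun i => v (rows i)) = b := by
      rw [hvr]
      ext x
      constructor
      · rintro ⟨i, rfl⟩
        exact (e i).2
      · intro hx
        exact ⟨e.symm ⟨x, hx⟩, by simp⟩
    rw [this, hbspan]
  refine ⟨_, ⟨rows, hinj⟩, rfl, ?_⟩
  -- Nakayama through the support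
  let G' : Submodule B J := Submodule.span B (Set.range fun i => (⟨f (rows i), hf (rows i)⟩ : J))
  have hJfg : Module.Finite B J := by
    rw [Module.Finite.iff_fg, hJ]
    exact Submodule.fg_span (Set.finite_range f)
  have hsub : Subsingleton (K ⊗[B] (J ⧸ G')) := by
    have hsurj : Function.Surjective (LinearMap.baseChange K G'.mkQ) :=
      LinearMap.lTensor_surjective K (Submodule.mkQ_surjective G')
    have hker : LinearMap.ker (LinearMap.baseChange K G'.mkQ) = ⊤ := by
      rw [eq_top_iff, ← hspan', Submodule.span_le]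
      rintro _ ⟨i, rfl⟩
      change LinearMap.baseChange K G'.mkQ ((1 : K) ⊗ₜ[B] (⟨f (rows i), hf (rows i)⟩ : J)) = 0
      rw [LinearMap.baseChange_tmul]
      have : G'.mkQ (⟨f (rows i), hf (rows i)⟩ : J) = 0 := by
        rw [Submodule.mkQ_apply, Submodule.Quotient.mk_eq_zero]
        exact Submodule.subset_span ⟨i, rfl⟩
      rw [this, tmul_zero]
    refine ⟨fun x y => ?_⟩
    obtain ⟨x', rfl⟩ := hsurj x
    obtain ⟨y', rfl⟩ := hsurj y
    have hx : x' ∈ LinearMap.ker (LinearMap.baseChange K G'.mkQ) := by rw [hker]; trivial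
    have hy : y' ∈ LinearMap.ker (LinearMap.baseChange K G'.mkQ) := by rw [hker]; trivial
    rw [LinearMap.mem_ker.mp hx, LinearMap.mem_ker.mp hy]
  have hsupp : (⟨q, inferInstance⟩ : PrimeSpectrum B) ∉ Module.support B (J ⧸ G') := by
    rw [Module.mem_support_iff_nontrivial_residueField_tensorProduct]
    exact not_nontrivial_iff_subsingleton.mpr hsub
  rw [Module.notMem_support_iff'] at hsupp
  intro ℓ
  obtain ⟨t, ht, htl⟩ := hsupp (G'.mkQ ⟨f ℓ, hf ℓ⟩)
  refine ⟨t, ht, ?_⟩
  rw [← map_smul, Submodule.mkQ_apply, Submodule.Quotient.mk_eq_zero] at htl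
  have hmap : G'.map J.subtype = Ideal.span (Set.range (f ∘ ⇑(⟨rows, hinj⟩ : Fin _ ↪ Fin m))) := by
    rw [Submodule.map_span, ← Set.range_comp]
    rfl
  rw [← hmap]
  exact ⟨_, htl, rfl⟩

/-- the subfamily of `exists_rows` generates the ideal in the local ring at `q`. -/
theorem map_eq_span_of_rows (J : Ideal B) (hJ : J = Ideal.span (Set.range f)) {c : ℕ}
    (rows : Fin c → Fin m)
    (h : ∀ ℓ : Fin m, ∃ t : B, t ∉ q ∧ t * f ℓ ∈ Ideal.span (Set.range (f ∘ rows))) :
    J.map (algebraMap B (Localization.AtPrime q)) =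
      Ideal.span (Set.range fun i => algebraMap B (Localization.AtPrime q) (f (rows i))) := by
  have hG : (Ideal.span (Set.range (f ∘ rows))).map (algebraMap B (Localization.AtPrime q)) =
      Ideal.span (Set.range fun i => algebraMap B (Localization.AtPrime q) (f (rows i))) := by
    rw [Ideal.map_span, ← Set.range_comp]
    rfl
  apply le_antisymm
  · rw [hJ, Ideal.map_span, Ideal.span_le]
    rintro _ ⟨_, ⟨ℓ, rfl⟩, rfl⟩
    obtain ⟨t, ht, htl⟩ := h ℓ
    have hu : IsUnit (algebraMap B (Localization.AtPrime q) t) :=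
      IsLocalization.map_units (Localization.AtPrime q) (⟨t, ht⟩ : q.primeCompl)
    have h1 : algebraMap B (Localization.AtPrime q) (t * f ℓ) ∈
        Ideal.span (Set.range fun i => algebraMap B (Localization.AtPrime q) (f (rows i))) := by
      rw [← hG]
      exact Ideal.mem_map_of_mem _ htl
    rw [map_mul] at h1
    exact (Ideal.unit_mul_mem_iff_mem _ hu).mp h1
  · rw [Ideal.span_le]
    rintro _ ⟨i, rfl⟩
    apply Ideal.mem_map_of_mem
    rw [hJ]
    exact Ideal.subset_span ⟨rows i, rfl⟩

end rows

end Groth.Agent.Lib.Seat10.StdElem
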