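import Mathlib
import Groth.Agent.Lib.Seat10StdElemB

/-!
# Standard elements at a smooth point, part C (seat 10)

The Jacobian step: independent differentials give a nonvanishing minor.
-/

set_option autoImplicit false
universe u

namespace Groth.Agent.Lib.Seat10.StdElem

open TensorProduct MvPolynomial IsLocalRing KaehlerDifferential

section cols

variable {R : Type u} [CommRing R] {n : ℕ} (𝔮 : Ideal (MvPolynomial (Fin n) R)) [𝔮.IsPrime]

local notation "P" => MvPolynomial (Fin n) R
local notation "L" => Localization.AtPrime 𝔮

/-- if the differentials of the `g i` are independent at `𝔮`, some maximal minor of their Jacobian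
matrix is not in `𝔮`. -/
theorem exists_cols {c : ℕ} (g : Fin c → P)
    (hli : LinearIndependent (ResidueField L)
      (fun i => (1 : ResidueField L) ⊗ₜ[L] D R L (algebraMap P L (g i)))) :
    ∃ cols : Fin c ↪ Fin n,
      Matrix.det (Matrix.of fun j k : Fin c => pderiv (cols k) (g j)) ∉ 𝔮 := by
  classical
  let M : Matrix (Fin c) (Fin n) (ResidueField L) :=
    Matrix.of fun i j => residue L (algebraMap P L (pderiv j (g i)))
  have hsm : ∀ (a : L) (x : Ω[L⁄R]), (1 : ResidueField L) ⊗ₜ[L] (a • x) =
      residue L a • ((1 : ResidueField L) ⊗ₜ[L] x) := by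
    intro a x
    rw [TensorProduct.smul_tmul', smul_eq_mul, mul_one,
      ← TensorProduct.smul_tmul (R := L) (R' := L) a (1 : ResidueField L) x,
      Algebra.smul_def, mul_one]
    rfl
  have hM : LinearIndependent (ResidueField L) M.row := by
    rw [Fintype.linearIndependent_iff]
    intro lam hlam
    refine Fintype.linearIndependent_iff.mp hli lam ?_
    have hch : ∀ i, (1 : ResidueField L) ⊗ₜ[L] D R L (algebraMap P L (g i)) =
        ∑ j, M i j • ((1 : ResidueField L) ⊗ₜ[L] D R L (algebraMap P L (X j))) := by
      intro i
      rw [Groth.Agent.Lib.Seat33.JacCrit.D_algebraMap_eq_sum (g i), tmul_sum]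
      exact Finset.sum_congr rfl fun j _ => hsm _ _
    calc ∑ i, lam i • ((1 : ResidueField L) ⊗ₜ[L] D R L (algebraMap P L (g i)))
        = ∑ i, ∑ j, (lam i * M i j) •
            ((1 : ResidueField L) ⊗ₜ[L] D R L (algebraMap P L (X j))) := by
          refine Finset.sum_congr rfl fun i _ => ?_
          rw [hch i, Finset.smul_sum]
          exact Finset.sum_congr rfl fun j _ => by rw [smul_smul]
      _ = ∑ j, ∑ i, (lam i * M i j) •
            ((1 : ResidueField L) ⊗ₜ[L] D R L (algebraMap P L (X j))) := Finset.sum_comm
      _ = ∑ j, (∑ i, lam i * M i j) •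
            ((1 : ResidueField L) ⊗ₜ[L] D R L (algebraMap P L (X j))) := by
          refine Finset.sum_congr rfl fun j _ => ?_
          rw [Finset.sum_smul]
      _ = 0 := by
          refine Finset.sum_eq_zero fun j _ => ?_
          have := congrFun hlam j
          simp only [Finset.sum_apply, Pi.smul_apply, Matrix.row, smul_eq_mul,
            Pi.zero_apply] at this
          rw [this, zero_smul]
  obtain ⟨σ, hσ⟩ := Groth.Agent.Lib.Seat33.JacCrit.exists_minor_ne_zero M hM
  have hinj : Function.Injective σ := by
    intro a b hab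
    by_contra hne
    apply hσ
    apply Matrix.det_zero_of_column_eq hne
    intro i
    simp only [Matrix.submatrix_apply, id_eq]
    rw [hab]
  refine ⟨⟨σ, hinj⟩, ?_⟩
  intro hmem
  apply hσ
  have h1 : algebraMap P L (Matrix.det (Matrix.of fun j k : Fin c => pderiv (σ k) (g j))) ∈
      maximalIdeal L :=
    (IsLocalization.AtPrime.to_map_mem_maximal_iff L 𝔮 _).mpr hmem
  rw [← residue_eq_zero_iff, ← RingHom.comp_apply, RingHom.map_det] at h1
  rw [← h1]
  congr 1

end cols

end Groth.Agent.Lib.Seat10.StdElem
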