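import Mathlib
import Groth.Prelude.Def_Smoothing
import Groth.Agent.Lib.Seat10StdElemC

/-!
# Standard elements at a smooth point, part D (seat 10)

Assembly: at a prime where a finitely presented algebra is smooth there is a standard element
(a multiple of a Jacobian minor which multiplies the relations into the chosen ones modulo the
square of the relation ideal) not in the prime.
-/

set_option autoImplicit false
universe u

namespace Groth.Agent.Lib.Seat10.StdElem

open TensorProduct MvPolynomial IsLocalRing KaehlerDifferential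

theorem exists_standard_element {R A : Type u} [CommRing R] [CommRing A] [Algebra R A] {n m : ℕ}
    (f : Fin m → MvPolynomial (Fin n) R) (φ : MvPolynomial (Fin n) R →ₐ[R] A)
    (hφ : Function.Surjective φ)
    (hker : RingHom.ker φ.toRingHom = Ideal.span (Set.range f)) (q : Ideal A) [q.IsPrime]
    [hq : Algebra.IsSmoothAt R q] :
    ∃ a : A, a ∉ q ∧ ∃ (c : ℕ) (rows : Fin c ↪ Fin m) (cols : Fin c ↪ Fin n) (a' : A),
      a = a' * φ (Smoothing.jacobianMinor f rows cols) ∧
      ∀ a₁ : MvPolynomial (Fin n) R, φ a₁ = a → ∀ ℓ : Fin m,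
        a₁ * f ℓ ∈ Ideal.span (Set.range (f ∘ rows)) ⊔ Ideal.span (Set.range f) ^ 2 := by
  classical
  let P := MvPolynomial (Fin n) R
  let J : Ideal P := Ideal.span (Set.range f)
  have hJker : J = RingHom.ker φ := hker.symm
  have hmemJ : ∀ p : P, p ∈ J ↔ φ p = 0 := by
    intro p
    rw [hJker, RingHom.mem_ker]
  let 𝔮 : Ideal P := q.comap (φ : P →+* A)
  have h𝔮 : 𝔮.IsPrime := Ideal.comap_isPrime _ q
  have hJq : J ≤ 𝔮 := by
    intro p hp
    change φ p ∈ q
    rw [(hmemJ p).mp hp]
    exact q.zero_mem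
  -- the quotient presentation
  let e : (P ⧸ J) ≃ₐ[R] A :=
    (Ideal.quotientEquivAlgOfEq R hJker).trans (Ideal.quotientKerAlgEquivOfSurjective hφ)
  have he : ∀ p : P, e (Ideal.Quotient.mk J p) = φ p := by
    intro p
    rfl
  let Q : Ideal (P ⧸ J) := q.comap (e : (P ⧸ J) →+* A)
  have hQp : Q.IsPrime := Ideal.comap_isPrime _ q
  have hQ : Q.comap (Ideal.Quotient.mk J) = 𝔮 := by
    ext p
    change e (Ideal.Quotient.mk J p) ∈ q ↔ φ p ∈ q
    rw [he]
  have hsmQ : Algebra.IsSmoothAt R Q := isSmoothAt_comap_algEquiv e q Q rfl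
  have hsm𝔮 : Algebra.IsSmoothAt R 𝔮 := by
    have : Algebra.FormallySmooth P (Localization.AtPrime 𝔮) :=
      Algebra.FormallySmooth.of_isLocalization 𝔮.primeCompl
    exact Algebra.FormallySmooth.comp R P (Localization.AtPrime 𝔮)
  -- rows
  obtain ⟨c, rows, hc, hrows⟩ := exists_rows 𝔮 f J rfl
  have hgen := map_eq_span_of_rows 𝔮 f J rfl rows hrows
  have hg : ∀ i, f (rows i) ∈ J := fun i => Ideal.subset_span ⟨rows i, rfl⟩
  have hli := Groth.Agent.Lib.Seat12.EtCoord.linearIndependent_tmul_D R J 𝔮 hJq Q hQ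
    (fun i => f (rows i)) hg hgen hc
  obtain ⟨cols, hcols⟩ := exists_cols 𝔮 (fun i => f (rows i)) hli
  choose t ht htl using hrows
  let T : P := ∏ ℓ, t ℓ
  have hT : T ∉ 𝔮 := by
    have : T ∈ 𝔮.primeCompl := Submonoid.prod_mem _ fun ℓ _ => ht ℓ
    exact this
  have hminor : Smoothing.jacobianMinor f rows cols ∉ 𝔮 := hcols
  refine ⟨φ T * φ (Smoothing.jacobianMinor f rows cols), ?_, c, rows, cols, φ T, rfl, ?_⟩
  · intro hmem
    rw [← map_mul] at hmem
    have : T * Smoothing.jacobianMinor f rows cols ∈ 𝔮 := hmem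
    rcases h𝔮.mem_or_mem this with h | h
    · exact hT h
    · exact hminor h
  · intro a₁ ha₁ ℓ
    have hdiff : a₁ - T * Smoothing.jacobianMinor f rows cols ∈ J := by
      rw [hmemJ, map_sub, ha₁, map_mul, sub_self]
    have hsplit : a₁ * f ℓ = (a₁ - T * Smoothing.jacobianMinor f rows cols) * f ℓ +
        T * Smoothing.jacobianMinor f rows cols * f ℓ := by ring
    rw [hsplit, add_comm]
    refine Submodule.add_mem_sup ?_ ?_
    · obtain ⟨u, hu⟩ := Finset.dvd_prod_of_mem t (Finset.mem_univ ℓ)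
      have : T * Smoothing.jacobianMinor f rows cols * f ℓ =
          (u * Smoothing.jacobianMinor f rows cols) * (t ℓ * f ℓ) := by
        change (∏ ℓ, t ℓ) * _ * _ = _
        rw [hu]
        ring
      rw [this]
      exact Ideal.mul_mem_left _ _ (htl ℓ)
    · rw [pow_two]
      exact Ideal.mul_mem_mul hdiff (Ideal.subset_span ⟨ℓ, rfl⟩)

end Groth.Agent.Lib.Seat10.StdElem
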