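import Mathlib
import Groth.Agent.Lib.Seat33JacCrit

set_option autoImplicit false
universe u

open MvPolynomial KaehlerDifferential Module TensorProduct

namespace Groth.Agent.Lib.Seat33.StdSmoothEmb

/-- localizing a pre-submersive presentation at its jacobian gives a standard smooth algebra. -/
theorem isStandardSmoothOfRelativeDimension_away_jacobian {A E : Type u} [CommRing A] [CommRing E]
    [Algebra A E] {ι σ : Type} [Finite ι] [Finite σ] (P : Algebra.PreSubmersivePresentation A E ι σ)
    (d : ℕ) (hcard : Nat.card ι = Nat.card σ + d) :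
    Algebra.IsStandardSmoothOfRelativeDimension d A (Localization.Away P.jacobian) := by
  have hΔ : IsUnit (algebraMap E (Localization.Away P.jacobian) P.jacobian) :=
    IsLocalization.Away.algebraMap_isUnit _
  let Q : Algebra.SubmersivePresentation A (Localization.Away P.jacobian) _ _ :=
    { toPreSubmersivePresentation :=
        .comp (.localizationAway (Localization.Away P.jacobian) P.jacobian) P
      jacobian_isUnit := by simpa [Algebra.smul_def, -isUnit_map_iff, hΔ] }
  exact Q.isStandardSmoothOfRelativeDimension (by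
      simp only [Algebra.PreSubmersivePresentation.dimension_comp_eq_dimension_add_dimension, Q]
      simp [Algebra.Presentation.dimension, hcard])

section

variable {A B : Type u} [CommRing A] [CommRing B] [Algebra A B] {n : ℕ}
  (π : MvPolynomial (Fin n) A →ₐ[A] B) (q : Ideal B) [q.IsPrime]

/-- the gradient of `f` modulo `q`. -/
noncomputable def grad (f : MvPolynomial (Fin n) A) : Fin n → q.ResidueField :=
  fun i => algebraMap B q.ResidueField (π (pderiv i f))

theorem grad_add (f g : MvPolynomial (Fin n) A) : grad π q (f + g) = grad π q f + grad π q g := by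
  funext i; simp [grad]

theorem grad_smul (a : A) (f : MvPolynomial (Fin n) A) :
    grad π q (a • f) = (algebraMap B q.ResidueField (algebraMap A B a)) • grad π q f := by
  funext i
  simp [grad, Algebra.smul_def]

theorem grad_mul (f g : MvPolynomial (Fin n) A) :
    grad π q (f * g) = algebraMap B q.ResidueField (π f) • grad π q g +
      algebraMap B q.ResidueField (π g) • grad π q f := by
  funext i
  simp only [grad, Derivation.leibniz, smul_eq_mul, map_add, map_mul, Pi.add_apply, Pi.smul_apply]

theorem grad_X (i : Fin n) : grad π q (X i) = Pi.single i 1 := by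
  classical
  funext j
  simp only [grad, pderiv_X, Pi.single_apply]
  split_ifs with h1 h2 h2
  · simp
  · exact absurd h1.symm h2
  · exact absurd h2.symm h1
  · simp

/-- the comparison map `κ^n → κ ⊗ Ω`. -/
noncomputable def Φ : (Fin n → q.ResidueField) →ₗ[q.ResidueField] q.ResidueField ⊗[B] Ω[B⁄A] :=
  Fintype.linearCombination q.ResidueField
    (fun i : Fin n => (1 : q.ResidueField) ⊗ₜ[B] D A B (π (X i)))

theorem Φ_grad (f : MvPolynomial (Fin n) A) :
    Φ π q (grad π q f) = (1 : q.ResidueField) ⊗ₜ[B] D A B (π f) := by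
  letI : Algebra (MvPolynomial (Fin n) A) B := π.toRingHom.toAlgebra
  haveI : IsScalarTower A (MvPolynomial (Fin n) A) B :=
    IsScalarTower.of_algebraMap_eq' π.comp_algebraMap.symm
  have h := Groth.Agent.Lib.Seat33.JacCrit.D_algebraMap_eq_sum (R := A) (B := B) f
  change D A B (π f) = ∑ j, π (pderiv j f) • D A B (π (X j)) at h
  rw [h, Φ, Fintype.linearCombination_apply, TensorProduct.tmul_sum]
  apply Finset.sum_congr rfl
  intro i _
  rw [TensorProduct.tmul_smul, TensorProduct.smul_tmul', TensorProduct.smul_tmul', grad,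
    smul_eq_mul, mul_one, Algebra.smul_def, mul_one]

theorem Φ_surjective (hπ : Function.Surjective π) : Function.Surjective (Φ π q) := by
  rw [← LinearMap.range_eq_top, eq_top_iff]
  have h1 : (⊤ : Submodule q.ResidueField (q.ResidueField ⊗[B] Ω[B⁄A])) =
      Submodule.span q.ResidueField
        (TensorProduct.mk B q.ResidueField Ω[B⁄A] 1 '' Set.range (D A B)) := by
    rw [← Submodule.baseChange_span, KaehlerDifferential.span_range_derivation,
      Submodule.baseChange_top]
  rw [h1, Submodule.span_le]
  rintro _ ⟨_, ⟨b, rfl⟩, rfl⟩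
  obtain ⟨f, rfl⟩ := hπ b
  exact ⟨grad π q f, Φ_grad π q f⟩

theorem ker_Φ_le (hπ : Function.Surjective π) :
    LinearMap.ker (Φ π q) ≤
      Submodule.span q.ResidueField (grad π q '' (RingHom.ker π : Set (MvPolynomial (Fin n) A))) := by
  classical
  intro x hx
  by_contra hxW
  obtain ⟨l, hlx, hlW⟩ := Submodule.exists_le_ker_of_notMem hxW
  let δ₀ : MvPolynomial (Fin n) A →ₗ[A] q.ResidueField :=
    { toFun := fun f => l (grad π q f)
      map_add' := fun f g => by rw [grad_add, map_add]
      map_smul' := fun a f => by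
        rw [grad_smul, map_smul, RingHom.id_apply, smul_eq_mul, Algebra.smul_def,
          IsScalarTower.algebraMap_apply A B q.ResidueField] }
  have hδ₀ : ∀ f ∈ LinearMap.ker π.toLinearMap, δ₀ f = 0 := by
    intro f hf
    have : grad π q f ∈ Submodule.span q.ResidueField
        (grad π q '' (RingHom.ker π : Set (MvPolynomial (Fin n) A))) :=
      Submodule.subset_span ⟨f, hf, rfl⟩
    exact hlW this
  let δ₁ : B →ₗ[A] q.ResidueField :=
    (LinearMap.ker π.toLinearMap).liftQ δ₀ hδ₀ ∘ₗ
      (π.toLinearMap.quotKerEquivOfSurjective hπ).symm.toLinearMap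
  have hδ₁ : ∀ f, δ₁ (π f) = l (grad π q f) := by
    intro f
    have : (π.toLinearMap.quotKerEquivOfSurjective hπ).symm (π f) = Submodule.Quotient.mk f :=
      LinearMap.quotKerEquivOfSurjective_symm_apply _ hπ f
    simp only [δ₁, LinearMap.comp_apply, LinearEquiv.coe_coe]
    rw [this, Submodule.liftQ_apply]
    rfl
  let δ : Derivation A B q.ResidueField := Derivation.mk' δ₁ (by
    intro a b
    obtain ⟨f, rfl⟩ := hπ a
    obtain ⟨g, rfl⟩ := hπ b
    rw [← map_mul, hδ₁, hδ₁, hδ₁, grad_mul, map_add, map_smul, map_smul, smul_eq_mul, smul_eq_mul,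
      Algebra.smul_def, Algebra.smul_def])
  let L : q.ResidueField ⊗[B] Ω[B⁄A] →ₗ[q.ResidueField] q.ResidueField :=
    LinearMap.liftBaseChange q.ResidueField δ.liftKaehlerDifferential
  have hL : L ∘ₗ Φ π q = l := by
    apply LinearMap.pi_ext'
    intro i
    apply LinearMap.ext_ring
    simp only [LinearMap.comp_apply, LinearMap.coe_single]
    rw [← grad_X π q i, Φ_grad, LinearMap.liftBaseChange_one_tmul,
      Derivation.liftKaehlerDifferential_comp_D]
    exact hδ₁ _
  apply hlx
  rw [← hL, LinearMap.comp_apply, LinearMap.mem_ker.mp hx, map_zero]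


/-- **Local embedding into a standard smooth algebra.** -/
theorem exists_stdSmooth_surj (A B : Type u) [CommRing A] [CommRing B] [Algebra A B]
    [Algebra.FiniteType A B] (q : Ideal B) [q.IsPrime] (r : ℕ)
    (hr : Module.finrank q.ResidueField (q.ResidueField ⊗[B] Ω[B⁄A]) = r) :
    ∃ g : B, g ∉ q ∧ ∃ (D : Type u) (_ : CommRing D) (_ : Algebra A D),
      Algebra.IsStandardSmoothOfRelativeDimension r A D ∧
        ∃ φ : D →ₐ[A] Localization.Away g, Function.Surjective φ := by
  classical
  obtain ⟨n, π, hπ⟩ := Algebra.FiniteType.iff_quotient_mvPolynomial''.mp ‹Algebra.FiniteType A B›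
  have hW : LinearMap.ker (Φ π q) = Submodule.span q.ResidueField
      (grad π q '' (RingHom.ker π : Set (MvPolynomial (Fin n) A))) := by
    refine le_antisymm (ker_Φ_le π q hπ) (Submodule.span_le.2 ?_)
    rintro _ ⟨f, hf, rfl⟩
    have hf0 : π f = 0 := hf
    rw [SetLike.mem_coe, LinearMap.mem_ker, Φ_grad, hf0, map_zero, TensorProduct.tmul_zero]
  have hdim : r + Module.finrank q.ResidueField (Submodule.span q.ResidueField
      (grad π q '' (RingHom.ker π : Set (MvPolynomial (Fin n) A)))) = n := by
    have := LinearMap.finrank_range_add_finrank_ker (Φ π q)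
    rw [LinearMap.range_eq_top.2 (Φ_surjective π q hπ), finrank_top, hr, hW,
      Module.finrank_fin_fun] at this
    exact this
  obtain ⟨w, hwS, -, hwli⟩ := Submodule.exists_fun_fin_finrank_span_eq q.ResidueField
    (grad π q '' (RingHom.ker π : Set (MvPolynomial (Fin n) A)))
  choose f hfI hfw using hwS
  obtain ⟨σ, hσ⟩ := Groth.Agent.Lib.Seat33.JacCrit.exists_minor_ne_zero (Matrix.of w) hwli
  have hσinj : Function.Injective σ := by
    intro a b hab
    by_contra hne
    exact hσ (Matrix.det_zero_of_column_eq hne (by intro i; simp [hab]))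
  let Pres := Algebra.PreSubmersivePresentation.naive (v := f) σ hσinj
  have hle : Ideal.span (Set.range f) ≤ RingHom.ker π := by
    rw [Ideal.span_le]
    rintro _ ⟨i, rfl⟩
    exact hfI i
  let ψ : (MvPolynomial (Fin n) A ⧸ Ideal.span (Set.range f)) →ₐ[A] B :=
    Ideal.Quotient.liftₐ (Ideal.span (Set.range f)) π (fun a ha => hle ha)
  have hψ : Function.Surjective ψ := by
    intro b
    obtain ⟨p, rfl⟩ := hπ b
    exact ⟨Ideal.Quotient.mk _ p, rfl⟩
  have hjac : algebraMap B q.ResidueField (ψ Pres.jacobian) ≠ 0 := by
    have e1 : ψ Pres.jacobian = π Pres.jacobiMatrix.det := by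
      rw [Algebra.PreSubmersivePresentation.jacobian_eq_jacobiMatrix_det]
      rfl
    have e2 : algebraMap B q.ResidueField (π Pres.jacobiMatrix.det) =
        (((algebraMap B q.ResidueField).comp (π : MvPolynomial (Fin n) A →+* B)).mapMatrix
          Pres.jacobiMatrix).det := by
      rw [← RingHom.map_det]
      rfl
    have e3 : ((algebraMap B q.ResidueField).comp (π : MvPolynomial (Fin n) A →+* B)).mapMatrix
          Pres.jacobiMatrix = ((Matrix.of w).submatrix id σ).transpose := by
      ext i j
      rw [RingHom.mapMatrix_apply, Matrix.map_apply,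
        Algebra.PreSubmersivePresentation.jacobiMatrix_naive, Matrix.transpose_apply,
        Matrix.submatrix_apply, Matrix.of_apply, id, ← hfw j]
      rfl
    rw [e1, e2, e3, Matrix.det_transpose]
    exact hσ
  refine ⟨ψ Pres.jacobian, fun hmem => hjac ?_, Localization.Away Pres.jacobian, inferInstance,
    inferInstance, ?_, IsLocalization.Away.mapₐ (Localization.Away Pres.jacobian)
      (Localization.Away (ψ Pres.jacobian)) ψ Pres.jacobian,
    IsLocalization.Away.mapₐ_surjective_of_surjective _ hψ⟩
  · exact (Ideal.algebraMap_residueField_eq_zero).mpr hmem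
  · apply isStandardSmoothOfRelativeDimension_away_jacobian Pres r
    rw [Nat.card_eq_fintype_card, Nat.card_eq_fintype_card, Fintype.card_fin, Fintype.card_fin]
    omega

end

end Groth.Agent.Lib.Seat33.StdSmoothEmb
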