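import Mathlib
import Groth.Agent.Lib.Seat10StdElemA
import Groth.Agent.Lib.Seat33StdSmoothEmb

/-!
# Smoothness at primes where a standard element does not vanish, part A (seat 10)

* `isSmoothAt_quotient_of_map_eq_bot`: if the ideal `J` dies in the local ring of `B` at `q` and `B`
  is smooth at `q`, then `B ⧸ J` is smooth at the corresponding prime.
* `map_eq_bot_of_mul_mem_sq`: Nakayama: a finitely generated ideal `N ≤ q` with `s N ⊆ N²`, `s ∉ q`,
  dies in the local ring at `q`.
-/

set_option autoImplicit false
universe u

namespace Groth.Agent.Lib.Seat10.StdSm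

open TensorProduct IsLocalRing

section quot

variable (A : Type u) {B : Type u} [CommRing A] [CommRing B] [Algebra A B]

/-- converse direction of helper12's `formallySmooth_quotient_localization`. -/
theorem isSmoothAt_of_formallySmooth_quotient_localization (J : Ideal B) (q : Ideal B) [q.IsPrime]
    (Q : Ideal (B ⧸ J)) [Q.IsPrime] (hQ : Q.comap (Ideal.Quotient.mk J) = q)
    [hsm : Algebra.FormallySmooth A
      (Localization.AtPrime q ⧸ J.map (algebraMap B (Localization.AtPrime q)))] :
    Algebra.IsSmoothAt A Q := by
  have hsub : Algebra.algebraMapSubmonoid (B ⧸ J) q.primeCompl = Q.primeCompl := by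
    ext x
    constructor
    · rintro ⟨y, hy, rfl⟩
      intro hmem
      apply hy
      rw [← hQ]
      exact hmem
    · intro hx
      obtain ⟨y, rfl⟩ := Ideal.Quotient.mk_surjective x
      refine ⟨y, ?_, rfl⟩
      intro hy
      apply hx
      rw [← hQ] at hy
      exact hy
  have h1 : IsLocalization (Algebra.algebraMapSubmonoid (B ⧸ J) q.primeCompl)
      (Localization.AtPrime q ⧸ J.map (algebraMap B (Localization.AtPrime q))) := inferInstance
  have h2 : IsLocalization Q.primeCompl
      (Localization.AtPrime q ⧸ J.map (algebraMap B (Localization.AtPrime q))) := by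
    rw [← hsub]; exact h1
  let e : Localization.AtPrime Q ≃ₐ[B ⧸ J]
      (Localization.AtPrime q ⧸ J.map (algebraMap B (Localization.AtPrime q))) :=
    IsLocalization.algEquiv Q.primeCompl _ _
  have : IsScalarTower A (B ⧸ J)
      (Localization.AtPrime q ⧸ J.map (algebraMap B (Localization.AtPrime q))) := by
    refine IsScalarTower.of_algebraMap_eq (fun a => ?_)
    rw [IsScalarTower.algebraMap_apply A (Localization.AtPrime q)
      (Localization.AtPrime q ⧸ J.map (algebraMap B (Localization.AtPrime q))),
      IsScalarTower.algebraMap_apply A B (Localization.AtPrime q),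
      IsScalarTower.algebraMap_apply A B (B ⧸ J)]
    rfl
  exact Algebra.FormallySmooth.of_equiv (e.restrictScalars A).symm

/-- if `J` dies in the local ring of `B` at `q` and `B` is smooth at `q`, then `B ⧸ J` is smooth at
the prime corresponding to `q`. -/
theorem isSmoothAt_quotient_of_map_eq_bot (J : Ideal B) (q : Ideal B) [q.IsPrime]
    (Q : Ideal (B ⧸ J)) [Q.IsPrime] (hQ : Q.comap (Ideal.Quotient.mk J) = q)
    [hsm : Algebra.IsSmoothAt A q]
    (hJ : J.map (algebraMap B (Localization.AtPrime q)) = ⊥) :
    Algebra.IsSmoothAt A Q := by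
  have hfs : Algebra.FormallySmooth A (Localization.AtPrime q) := hsm
  let g : Localization.AtPrime q →ₐ[A]
      (Localization.AtPrime q ⧸ J.map (algebraMap B (Localization.AtPrime q))) :=
    IsScalarTower.toAlgHom A _ _
  have hg : Function.Bijective g := by
    constructor
    · intro x y hxy
      have h1 : Ideal.Quotient.mk (J.map (algebraMap B (Localization.AtPrime q))) x =
          Ideal.Quotient.mk (J.map (algebraMap B (Localization.AtPrime q))) y := hxy
      rw [Ideal.Quotient.eq, hJ, Ideal.mem_bot, sub_eq_zero] at h1
      exact h1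
    · exact Ideal.Quotient.mk_surjective
  have : Algebra.FormallySmooth A
      (Localization.AtPrime q ⧸ J.map (algebraMap B (Localization.AtPrime q))) :=
    Algebra.FormallySmooth.of_equiv (AlgEquiv.ofBijective g hg)
  exact isSmoothAt_of_formallySmooth_quotient_localization A J q Q hQ

end quot

section nak

variable {B : Type u} [CommRing B]

/-- Nakayama: a finitely generated ideal `N ≤ q` with `s N ⊆ N²` for some `s ∉ q` dies in the local
ring at `q`. -/
theorem map_eq_bot_of_mul_mem_sq (N : Ideal B) (hN : N.FG) (q : Ideal B) [q.IsPrime] (hNq : N ≤ q)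
    (s : B) (hs : s ∉ q) (h : ∀ x ∈ N, s * x ∈ N ^ 2) :
    N.map (algebraMap B (Localization.AtPrime q)) = ⊥ := by
  set N' := N.map (algebraMap B (Localization.AtPrime q)) with hN'
  have hfg : N'.FG := hN.map _
  have hle : N' ≤ maximalIdeal (Localization.AtPrime q) • N' := by
    rw [hN', Ideal.map_le_iff_le_comap]
    intro x hx
    rw [Ideal.mem_comap]
    have hu : IsUnit (algebraMap B (Localization.AtPrime q) s) :=
      IsLocalization.map_units (Localization.AtPrime q) (⟨s, hs⟩ : q.primeCompl)
    have h1 : algebraMap B (Localization.AtPrime q) (s * x) ∈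
        maximalIdeal (Localization.AtPrime q) • N' := by
      have h2 : algebraMap B (Localization.AtPrime q) (s * x) ∈
          (N ^ 2).map (algebraMap B (Localization.AtPrime q)) := Ideal.mem_map_of_mem _ (h x hx)
      rw [pow_two, Ideal.map_mul] at h2
      refine Ideal.mul_mono_left ?_ h2
      rw [← Localization.AtPrime.map_eq_maximalIdeal]
      exact Ideal.map_mono hNq
    rw [map_mul] at h1
    exact (Ideal.unit_mul_mem_iff_mem _ hu).mp h1
  exact Submodule.eq_bot_of_le_smul_of_le_jacobson_bot _ _ hfg hle
    (IsLocalRing.maximalIdeal_le_jacobson _)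

end nak

end Groth.Agent.Lib.Seat10.StdSm
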