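import Mathlib
import Groth.Prelude.Def_Smoothing
import Groth.Agent.Lib.Seat10StdSmA

/-!
# Smoothness at primes where a standard element does not vanish, part B (seat 10)

`isSmoothAt_of_minor_notMem`: for `A = R[x]/(f)`, a prime `q` of `A`, chosen relations `rows`,
chosen variables `cols` such that the corresponding Jacobian minor is not in `q`, and `s ∉ q` with
`s f_ℓ ∈ (f ∘ rows) + (f)²`, the algebra `A` is smooth over `R` at `q`.
-/

set_option autoImplicit false
universe u

namespace Groth.Agent.Lib.Seat10.StdSm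

open TensorProduct IsLocalRing MvPolynomial

theorem isSmoothAt_of_minor_notMem {R A : Type u} [CommRing R] [CommRing A] [Algebra R A]
    {n m c : ℕ} (f : Fin m → MvPolynomial (Fin n) R) (φ : MvPolynomial (Fin n) R →ₐ[R] A)
    (hφ : Function.Surjective φ)
    (hker : RingHom.ker φ.toRingHom = Ideal.span (Set.range f))
    (rows : Fin c → Fin m) (cols : Fin c → Fin n) (q : Ideal A) [hqp : q.IsPrime]
    (hminor : φ (Smoothing.jacobianMinor f rows cols) ∉ q)
    (s : MvPolynomial (Fin n) R) (hs : φ s ∉ q)
    (hkill : ∀ ℓ, s * f ℓ ∈ Ideal.span (Set.range (f ∘ rows)) ⊔ Ideal.span (Set.range f) ^ 2) :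
    Algebra.IsSmoothAt R q := by
  classical
  let P := MvPolynomial (Fin n) R
  let I : Ideal P := Ideal.span (Set.range f)
  have hmemI : ∀ p : P, p ∈ I ↔ φ p = 0 := by
    intro p
    change p ∈ Ideal.span (Set.range f) ↔ _
    rw [← hker, RingHom.mem_ker]
    rfl
  -- `cols` is injective
  have hinj : Function.Injective cols := by
    intro a b hab
    by_contra hne
    apply hminor
    have : Smoothing.jacobianMinor f rows cols = 0 := by
      unfold Smoothing.jacobianMinor
      apply Matrix.det_zero_of_column_eq hne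
      intro i
      simp only [Matrix.of_apply]
      rw [hab]
    rw [this, map_zero]
    exact q.zero_mem
  let g : Fin c → P := f ∘ rows
  let G : Ideal P := Ideal.span (Set.range g)
  have hGI : G ≤ I := by
    apply Ideal.span_mono
    rintro _ ⟨i, rfl⟩
    exact ⟨rows i, rfl⟩
  let E := P ⧸ G
  let Pres : Algebra.PreSubmersivePresentation R E (Fin n) (Fin c) :=
    Algebra.PreSubmersivePresentation.naive (v := g) cols hinj
  have hcn : c ≤ n := by
    have := Fintype.card_le_of_injective cols hinj
    simpa using this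
  have hstd : Algebra.IsStandardSmoothOfRelativeDimension (n - c) R
      (Localization.Away Pres.jacobian) :=
    Groth.Agent.Lib.Seat33.StdSmoothEmb.isStandardSmoothOfRelativeDimension_away_jacobian Pres
      (n - c) (by simp; omega)
  have hss : Algebra.IsStandardSmooth R (Localization.Away Pres.jacobian) :=
    hstd.isStandardSmooth
  have hsmooth : Algebra.Smooth R (Localization.Away Pres.jacobian) := inferInstance
  have hGfg : G.FG := Submodule.fg_span (Set.finite_range g)
  have hEfp : Algebra.FinitePresentation R E := Algebra.FinitePresentation.quotient hGfg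
  have hlocus : ↑(PrimeSpectrum.basicOpen Pres.jacobian) ⊆ Algebra.smoothLocus R E :=
    Algebra.basicOpen_subset_smoothLocus_iff_smooth.mpr hsmooth
  -- the map `E → A`
  have hGker : ∀ a ∈ G, φ a = 0 := fun a ha => (hmemI a).mp (hGI ha)
  let ψ : E →ₐ[R] A := Ideal.Quotient.liftₐ G φ hGker
  have hψmk : ∀ p : P, ψ (Ideal.Quotient.mk G p) = φ p := fun p => rfl
  have hψ : Function.Surjective ψ := by
    intro a
    obtain ⟨p, rfl⟩ := hφ a
    exact ⟨Ideal.Quotient.mk G p, rfl⟩
  let N : Ideal E := RingHom.ker ψ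
  have hNmap : N = I.map (Ideal.Quotient.mk G) := by
    apply le_antisymm
    · intro x hx
      obtain ⟨p, rfl⟩ := Ideal.Quotient.mk_surjective x
      have : φ p = 0 := hx
      exact Ideal.mem_map_of_mem _ ((hmemI p).mpr this)
    · rw [Ideal.map_le_iff_le_comap]
      intro p hp
      change ψ (Ideal.Quotient.mk G p) = 0
      rw [hψmk]
      exact (hmemI p).mp hp
  have hNfg : N.FG := by
    rw [hNmap]
    have hIfg : I.FG := Submodule.fg_span (Set.finite_range f)
    exact hIfg.map _
  let e : (E ⧸ N) ≃ₐ[R] A := Ideal.quotientKerAlgEquivOfSurjective hψ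
  have he : ∀ x : E, e (Ideal.Quotient.mk N x) = ψ x := fun x => rfl
  let qt : Ideal E := q.comap (ψ : E →+* A)
  have hqt : qt.IsPrime := Ideal.comap_isPrime _ q
  let Q : Ideal (E ⧸ N) := q.comap (e : (E ⧸ N) →+* A)
  have hQp : Q.IsPrime := Ideal.comap_isPrime _ q
  have hQ : Q.comap (Ideal.Quotient.mk N) = qt := by
    ext x
    change e (Ideal.Quotient.mk N x) ∈ q ↔ ψ x ∈ q
    rw [he]
  -- the jacobian is not in `qt`
  have hjac : Pres.jacobian ∉ qt := by
    intro hmem
    apply hminor
    have h1 : ψ Pres.jacobian ∈ q := hmem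
    have e1 : ψ Pres.jacobian = φ Pres.jacobiMatrix.det := by
      rw [Algebra.PreSubmersivePresentation.jacobian_eq_jacobiMatrix_det]
      rfl
    have e2 : Pres.jacobiMatrix.det = Smoothing.jacobianMinor f rows cols := by
      unfold Smoothing.jacobianMinor
      rw [← Matrix.det_transpose]
      congr 1
      refine Matrix.ext fun i j => ?_
      rw [Matrix.transpose_apply, Algebra.PreSubmersivePresentation.jacobiMatrix_naive,
        Matrix.of_apply]
      rfl
    rw [e1, e2] at h1
    exact h1
  have hsmE : Algebra.IsSmoothAt R qt := by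
    have : (⟨qt, hqt⟩ : PrimeSpectrum E) ∈ Algebra.smoothLocus R E := hlocus hjac
    exact this
  -- Nakayama
  have hNq : N ≤ qt := by
    intro x hx
    change ψ x ∈ q
    have : ψ x = 0 := hx
    rw [this]
    exact q.zero_mem
  have hsb : Ideal.Quotient.mk G s ∉ qt := by
    intro hmem
    apply hs
    exact hmem
  have hN2 : (I ^ 2).map (Ideal.Quotient.mk G) = N ^ 2 := by
    rw [Ideal.map_pow, hNmap]
  have hmul : ∀ x ∈ N, Ideal.Quotient.mk G s * x ∈ N ^ 2 := by
    intro x hx
    rw [hNmap, Ideal.map_span] at hx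
    induction hx using Submodule.span_induction with
    | mem x hx =>
      obtain ⟨_, ⟨ℓ, rfl⟩, rfl⟩ := hx
      rw [← map_mul]
      obtain ⟨y, hy, z, hz, hyz⟩ := Submodule.mem_sup.mp (hkill ℓ)
      rw [← hyz, map_add, Ideal.Quotient.eq_zero_iff_mem.mpr hy, zero_add, ← hN2]
      exact Ideal.mem_map_of_mem _ hz
    | zero => rw [mul_zero]; exact Ideal.zero_mem _
    | add x y _ _ hx hy => rw [mul_add]; exact Ideal.add_mem _ hx hy
    | smul a x _ hx =>
      rw [smul_eq_mul, mul_left_comm]
      exact Ideal.mul_mem_left _ _ hx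
  have hbot := map_eq_bot_of_mul_mem_sq N hNfg qt hNq _ hsb hmul
  have hsmQ : @Algebra.IsSmoothAt R (E ⧸ N) _ _ _ Q hQp :=
    isSmoothAt_quotient_of_map_eq_bot R N qt Q hQ hbot
  -- transport to `A`
  refine Groth.Agent.Lib.Seat10.StdElem.isSmoothAt_comap_algEquiv (A₁ := A) (A₂ := E ⧸ N)
    e.symm Q q ?_
  ext x
  change x ∈ q ↔ e (e.symm x) ∈ q
  rw [e.apply_symm_apply]

end Groth.Agent.Lib.Seat10.StdSm
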