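import Mathlib
import Groth.Prelude.Def_Smoothing
import Groth.Agent.Lib.Seat10StdSmB
import Groth.Agent.Lib.Seat10StdElemD

/-!
# Smoothness at primes where a standard element does not vanish, part C (seat 10)

* `isElementaryStandard_of_rows_cols`: permuting relations and variables, an element which is
  standard with respect to chosen rows and columns is elementary standard.
* `isSmoothAt_of_isStrictlyStandard`: a strictly standard element cuts out smooth points.
* `singularIdeal_eq`: the singular ideal is the radical of the ideal of (strictly or elementary)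
  standard elements.
-/

set_option autoImplicit false
universe u

namespace Groth.Agent.Lib.Seat10.StdSm

open MvPolynomial

section perm

variable {R A : Type u} [CommRing R] [CommRing A] [Algebra R A]

theorem isElementaryStandard_of_rows_cols {n m c : ℕ}
    (f : Fin m → MvPolynomial (Fin n) R) (φ : MvPolynomial (Fin n) R →ₐ[R] A)
    (hφ : Function.Surjective φ)
    (hker : RingHom.ker φ.toRingHom = Ideal.span (Set.range f))
    (rows : Fin c ↪ Fin m) (cols : Fin c ↪ Fin n) (a a' : A)
    (ha : a = a' * φ (Smoothing.jacobianMinor f rows cols))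
    (hkill : ∀ a₁ : MvPolynomial (Fin n) R, φ a₁ = a → ∀ ℓ : Fin m,
      a₁ * f ℓ ∈ Ideal.span (Set.range (f ∘ rows)) ⊔ Ideal.span (Set.range f) ^ 2) :
    Smoothing.IsElementaryStandard R A a := by
  classical
  have hcm : c ≤ m := by simpa using Fintype.card_le_of_embedding rows
  have hcn : c ≤ n := by simpa using Fintype.card_le_of_embedding cols
  obtain ⟨σ, hσ⟩ := Equiv.Perm.exists_extending_pair (Fin.castLE hcm) rows
    (Fin.castLE_injective hcm) rows.injective
  obtain ⟨τ, hτ⟩ := Equiv.Perm.exists_extending_pair cols (Fin.castLE hcn)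
    cols.injective (Fin.castLE_injective hcn)
  have hmemI : ∀ p : MvPolynomial (Fin n) R, p ∈ Ideal.span (Set.range f) ↔ φ p = 0 := by
    intro p
    rw [← hker, RingHom.mem_ker]
    rfl
  have hrr : ∀ p : MvPolynomial (Fin n) R, rename τ.symm (rename τ p) = p := by
    intro p
    rw [rename_rename, τ.symm_comp_self, rename_id_apply]
  have hrr' : ∀ p : MvPolynomial (Fin n) R, rename τ (rename τ.symm p) = p := by
    intro p
    rw [rename_rename, τ.self_comp_symm, rename_id_apply]
  let rel' : Fin m → MvPolynomial (Fin n) R := fun j => rename τ (f (σ j))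
  let hom' : MvPolynomial (Fin n) R →ₐ[R] A := φ.comp (rename τ.symm)
  have hhom : ∀ p, hom' (rename τ p) = φ p := by
    intro p
    change φ (rename τ.symm (rename τ p)) = φ p
    rw [hrr]
  have hmapI : (Ideal.span (Set.range f)).map (rename τ : MvPolynomial (Fin n) R →ₐ[R] _) =
      Ideal.span (Set.range rel') := by
    rw [Ideal.map_span]
    congr 1
    ext x
    constructor
    · rintro ⟨_, ⟨ℓ, rfl⟩, rfl⟩
      refine ⟨σ.symm ℓ, ?_⟩
      change rename τ (f (σ (σ.symm ℓ))) = _
      rw [σ.apply_symm_apply]
    · rintro ⟨j, rfl⟩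
      exact ⟨f (σ j), ⟨σ j, rfl⟩, rfl⟩
  have hmapG : (Ideal.span (Set.range (f ∘ rows))).map
      (rename τ : MvPolynomial (Fin n) R →ₐ[R] _) =
      Ideal.span (rel' '' {j' : Fin m | (j' : ℕ) < c}) := by
    rw [Ideal.map_span]
    congr 1
    ext x
    constructor
    · rintro ⟨_, ⟨i, rfl⟩, rfl⟩
      refine ⟨Fin.castLE hcm i, ?_, ?_⟩
      · change ((Fin.castLE hcm i : Fin m) : ℕ) < c
        rw [Fin.val_castLE]
        exact i.2
      · change rename τ (f (σ (Fin.castLE hcm i))) = _
        rw [hσ]
        rfl
    · rintro ⟨j, hj, rfl⟩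
      have hj' : (j : ℕ) < c := hj
      refine ⟨f (rows ⟨j, hj'⟩), ⟨⟨j, hj'⟩, rfl⟩, ?_⟩
      change rename τ (f (rows ⟨j, hj'⟩)) = rename τ (f (σ j))
      rw [← hσ]
      congr 3
  let MP : Smoothing.MarkedPresentation R A :=
    { n := n
      m := m
      c := c
      hcn := hcn
      hcm := hcm
      rel := rel'
      hom := hom'
      surj := by
        intro x
        obtain ⟨p, rfl⟩ := hφ x
        exact ⟨rename τ p, hhom p⟩
      ker_eq := by
        apply le_antisymm
        · intro x hx
          have hx' : φ (rename τ.symm x) = 0 := hx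
          have h1 : rename τ.symm x ∈ Ideal.span (Set.range f) := (hmemI _).mpr hx'
          have h2 := Ideal.mem_map_of_mem (rename τ : MvPolynomial (Fin n) R →ₐ[R] _) h1
          rw [hmapI] at h2
          have h3 : (rename τ : MvPolynomial (Fin n) R →ₐ[R] _) (rename τ.symm x) = x := hrr' x
          rwa [h3] at h2
        · rw [Ideal.span_le]
          rintro _ ⟨j, rfl⟩
          change hom' (rename τ (f (σ j))) = 0
          rw [hhom]
          exact (hmemI _).mp (Ideal.subset_span ⟨σ j, rfl⟩) }
  have hminor : Smoothing.jacobianMinor rel' (Fin.castLE hcm) (Fin.castLE hcn) =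
      rename τ (Smoothing.jacobianMinor f rows cols) := by
    unfold Smoothing.jacobianMinor
    rw [AlgHom.map_det]
    congr 1
    refine Matrix.ext fun j k => ?_
    rw [AlgHom.mapMatrix_apply, Matrix.map_apply, Matrix.of_apply, Matrix.of_apply,
      ← pderiv_rename τ.injective, hτ]
    change pderiv _ (rename τ (f (σ (Fin.castLE hcm j)))) = _
    rw [hσ]
  refine ⟨MP, ⟨a', ?_⟩, ?_⟩
  · change a = a' * hom' (Smoothing.jacobianMinor rel' (Fin.castLE hcm) (Fin.castLE hcn))
    rw [hminor, hhom]
    exact ha
  · intro a'' ha'' j _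
    change a'' * rel' j ∈ Ideal.span (rel' '' {j' : Fin m | (j' : ℕ) < c}) ⊔
      Ideal.span (Set.range rel') ^ 2
    have h1 : φ (rename τ.symm a'') = a := ha''
    have h2 := hkill _ h1 (σ j)
    have h3 := Ideal.mem_map_of_mem (rename τ : MvPolynomial (Fin n) R →ₐ[R] _) h2
    rw [Ideal.map_sup, Ideal.map_pow, hmapG, hmapI, map_mul] at h3
    have h4 : (rename τ : MvPolynomial (Fin n) R →ₐ[R] _) (rename τ.symm a'') = a'' := hrr' a''
    rw [h4] at h3
    exact h3

end perm

end Groth.Agent.Lib.Seat10.StdSm
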