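import Mathlib
import Groth.Prelude.Def_Smoothing
import Groth.Agent.Lib.Seat10StdSmC

/-!
# Smoothness at primes where a standard element does not vanish, part D (seat 10)

* `isSmoothAt_of_isStrictlyStandard`: a strictly standard element cuts out smooth points.
* `singularIdeal_eq`: the singular ideal is the radical of the ideal of (strictly or elementary)
  standard elements.
-/

set_option autoImplicit false
universe u

namespace Groth.Agent.Lib.Seat10.StdSm

open MvPolynomial

variable {R A : Type u} [CommRing R] [CommRing A] [Algebra R A]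

theorem isStrictlyStandard_of_isElementaryStandard (a : A)
    (ha : Smoothing.IsElementaryStandard R A a) : Smoothing.IsStrictlyStandard R A a := by
  obtain ⟨P, ⟨a', ha'⟩, hk⟩ := ha
  refine ⟨P, ?_, hk⟩
  rw [ha']
  refine Ideal.mul_mem_left _ _ (Ideal.subset_span ?_)
  exact ⟨fun k => Fin.castLE P.hcn k, rfl⟩

theorem isSmoothAt_of_isStrictlyStandard (a : A) (ha : Smoothing.IsStrictlyStandard R A a)
    (q : Ideal A) [q.IsPrime] (haq : a ∉ q) : Algebra.IsSmoothAt R q := by
  classical
  obtain ⟨P, hspan, hk⟩ := ha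
  -- some minor is not in `q`
  have hex : ∃ cols : Fin P.c → Fin P.n,
      P.hom (Smoothing.jacobianMinor P.rel (Fin.castLE P.hcm) cols) ∉ q := by
    by_contra hcon
    push Not at hcon
    apply haq
    have hle : Ideal.span (Set.range fun cols : Fin P.c → Fin P.n =>
        P.hom (Smoothing.jacobianMinor P.rel (Fin.castLE P.hcm) cols)) ≤ q := by
      rw [Ideal.span_le]
      rintro _ ⟨cols, rfl⟩
      exact hcon cols
    exact hle hspan
  obtain ⟨cols, hcols⟩ := hex
  obtain ⟨s, hs⟩ := P.surj a
  have hrange : Set.range (P.rel ∘ Fin.castLE P.hcm) = P.rel '' {j' : Fin P.m | (j' : ℕ) < P.c} := by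
    ext x
    constructor
    · rintro ⟨i, rfl⟩
      refine ⟨Fin.castLE P.hcm i, ?_, rfl⟩
      change ((Fin.castLE P.hcm i : Fin P.m) : ℕ) < P.c
      rw [Fin.val_castLE]
      exact i.2
    · rintro ⟨j, hj, rfl⟩
      have hj' : (j : ℕ) < P.c := hj
      refine ⟨⟨j, hj'⟩, ?_⟩
      change P.rel (Fin.castLE P.hcm ⟨j, hj'⟩) = P.rel j
      congr 1
  refine isSmoothAt_of_minor_notMem P.rel P.hom P.surj P.ker_eq (Fin.castLE P.hcm) cols q hcols s
    (by rw [hs]; exact haq) ?_
  intro ℓ
  by_cases hℓ : (ℓ : ℕ) < P.c
  · refine Ideal.mem_sup_left (Ideal.mul_mem_left _ _ (Ideal.subset_span ?_))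
    rw [hrange]
    exact ⟨ℓ, hℓ, rfl⟩
  · rw [hrange]
    exact hk s hs ℓ (not_lt.mp hℓ)

theorem span_isStrictlyStandard_le_singularIdeal :
    Ideal.span {a : A | Smoothing.IsStrictlyStandard R A a} ≤ Smoothing.singularIdeal R A := by
  rw [Ideal.span_le]
  intro a ha
  change a ∈ PrimeSpectrum.vanishingIdeal (Algebra.smoothLocus R A)ᶜ
  rw [PrimeSpectrum.mem_vanishingIdeal]
  intro x hx
  by_contra hax
  apply hx
  exact isSmoothAt_of_isStrictlyStandard a ha x.asIdeal hax

theorem singularIdeal_le_radical_span_isElementaryStandard [Algebra.FinitePresentation R A] :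
    Smoothing.singularIdeal R A ≤
      (Ideal.span {a : A | Smoothing.IsElementaryStandard R A a}).radical := by
  classical
  rw [Ideal.radical_eq_sInf, le_sInf_iff]
  rintro p ⟨hle, hp⟩
  -- `p` is not a smooth point
  have hns : (⟨p, hp⟩ : PrimeSpectrum A) ∈ (Algebra.smoothLocus R A)ᶜ := by
    intro hsm
    have hsm' : Algebra.IsSmoothAt R p := hsm
    obtain ⟨n, φ, hφ, hfg⟩ := (Algebra.FinitePresentation.out : ∃ (n : ℕ)
      (f : MvPolynomial (Fin n) R →ₐ[R] A), Function.Surjective f ∧ (RingHom.ker f.toRingHom).FG)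
    obtain ⟨m, f, hf⟩ := Submodule.fg_iff_exists_fin_generating_family.mp hfg
    have hker : RingHom.ker φ.toRingHom = Ideal.span (Set.range f) := hf.symm
    obtain ⟨a, hap, c, rows, cols, a', haa', hkill⟩ :=
      Groth.Agent.Lib.Seat10.StdElem.exists_standard_element f φ hφ hker p
    apply hap
    apply hle
    apply Ideal.subset_span
    exact isElementaryStandard_of_rows_cols f φ hφ hker rows cols a a' haa' hkill
  intro x hx
  change x ∈ PrimeSpectrum.vanishingIdeal (Algebra.smoothLocus R A)ᶜ at hx
  rw [PrimeSpectrum.mem_vanishingIdeal] at hx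
  exact hx ⟨p, hp⟩ hns

theorem singularIdeal_eq [Algebra.FinitePresentation R A] :
    Smoothing.singularIdeal R A =
        (Ideal.span {a : A | Smoothing.IsStrictlyStandard R A a}).radical ∧
      Smoothing.singularIdeal R A =
        (Ideal.span {a : A | Smoothing.IsElementaryStandard R A a}).radical := by
  have hrad : (Smoothing.singularIdeal R A).IsRadical := by
    change (PrimeSpectrum.vanishingIdeal (Algebra.smoothLocus R A)ᶜ).IsRadical
    exact PrimeSpectrum.isRadical_vanishingIdeal _
  have h1 : (Ideal.span {a : A | Smoothing.IsStrictlyStandard R A a}).radical ≤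
      Smoothing.singularIdeal R A :=
    hrad.radical_le_iff.mpr span_isStrictlyStandard_le_singularIdeal
  have h2 : (Ideal.span {a : A | Smoothing.IsElementaryStandard R A a}).radical ≤
      (Ideal.span {a : A | Smoothing.IsStrictlyStandard R A a}).radical := by
    apply Ideal.radical_mono
    apply Ideal.span_mono
    intro a ha
    exact isStrictlyStandard_of_isElementaryStandard a ha
  have h3 := singularIdeal_le_radical_span_isElementaryStandard (R := R) (A := A)
  exact ⟨le_antisymm (h3.trans h2) h1, le_antisymm h3 (h2.trans h1)⟩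

end Groth.Agent.Lib.Seat10.StdSm
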