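import Mathlib

/-!
# Symmetric algebras: derivations, Kähler differentials, formal smoothness, base change

Helper lemmas (seat helper10) for S2110.
-/

set_option autoImplicit false

namespace Groth.Agent.Lib.Seat10.SymA

open TensorProduct KaehlerDifferential

universe u

section Der

variable {S T P : Type*} [CommRing S] [CommRing T] [Algebra S T] [AddCommGroup P] [Module S P]
  {f : P →ₗ[S] T}
variable {N : Type*} [AddCommGroup N] [Module T N] [Module S N]

/-- Universal property of the symmetric algebra for derivations: every linear map `P → N`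
extends to a derivation `T → N`. -/
theorem exists_derivation [IsScalarTower S T N] (h : IsSymmetricAlgebra f) (g : P →ₗ[S] N) :
    ∃ d : Derivation S T N, ∀ p, d (f p) = g p := by
  let _ : Module Tᵐᵒᵖ N := Module.compHom _ ((RingHom.id T).fromOpposite mul_comm)
  have : IsCentralScalar T N := ⟨fun r m => rfl⟩
  let E := TrivSqZeroExt T N
  let l : P →ₗ[S] E :=
    (TrivSqZeroExt.inlAlgHom S T N).toLinearMap ∘ₗ f +
      (TrivSqZeroExt.inrHom T N).restrictScalars S ∘ₗ g
  let Φ : T →ₐ[S] E := h.lift l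
  have hfst : (TrivSqZeroExt.fstHom S T N).comp Φ = AlgHom.id S T := by
    apply h.algHom_ext
    ext p
    simp [Φ, l]
  have hfst' : ∀ t, (Φ t).fst = t := fun t => by
    simpa using congr($hfst t)
  refine ⟨Derivation.mk' ((TrivSqZeroExt.sndHom T N).restrictScalars S ∘ₗ Φ.toLinearMap) ?_, ?_⟩
  · intro a b
    simp only [LinearMap.coe_comp, LinearMap.coe_restrictScalars, AlgHom.coe_toLinearMap,
      Function.comp_apply, map_mul, TrivSqZeroExt.sndHom_apply]
    rw [TrivSqZeroExt.snd_mul, hfst', hfst', op_smul_eq_smul]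
  · intro p
    simp [Φ, l]

/-- Derivations out of a symmetric algebra are determined by their values on generators. -/
theorem derivation_ext (h : IsSymmetricAlgebra f) {d₁ d₂ : Derivation S T N}
    (H : ∀ p, d₁ (f p) = d₂ (f p)) : d₁ = d₂ := by
  ext x
  induction x using h.induction with
  | algebraMap r => simp
  | ι p => exact H p
  | mul a b ha hb => simp [Derivation.leibniz, ha, hb]
  | add a b ha hb => simp [ha, hb]

/-- `Ω[Sym(P)/S] ≃ Sym(P) ⊗ P`. -/
theorem kaehler_equiv (h : IsSymmetricAlgebra f) : Nonempty (Ω[T⁄S] ≃ₗ[T] T ⊗[S] P) := by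
  obtain ⟨d, hd⟩ := exists_derivation (N := T ⊗[S] P) h (TensorProduct.mk S T P 1)
  let φ : Ω[T⁄S] →ₗ[T] T ⊗[S] P := d.liftKaehlerDifferential
  let ψ : T ⊗[S] P →ₗ[T] Ω[T⁄S] :=
    LinearMap.liftBaseChange T ((KaehlerDifferential.D S T).toLinearMap ∘ₗ f)
  refine ⟨LinearEquiv.ofLinearMap φ ψ ?_ ?_⟩
  · ext p
    simp [φ, ψ, hd]
  · apply Derivation.liftKaehlerDifferential_unique
    apply derivation_ext h
    intro p
    simp [φ, ψ, hd]

/-- If `K` is finitely generated, then its symmetric algebra is of finite type. -/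
theorem finiteType (h : IsSymmetricAlgebra f) [Module.Finite S P] : Algebra.FiniteType S T := by
  classical
  obtain ⟨s, hs⟩ := (Module.finite_def.mp ‹Module.Finite S P›)
  refine ⟨⟨s.image f, ?_⟩⟩
  rw [eq_top_iff]
  rintro x -
  induction x using h.induction with
  | algebraMap r => exact Subalgebra.algebraMap_mem _ r
  | ι p =>
    have hp : p ∈ Submodule.span S (s : Set P) := hs ▸ Submodule.mem_top
    have : f p ∈ Submodule.span S (f '' (s : Set P)) := by
      rw [← Submodule.map_span]
      exact Submodule.mem_map_of_mem hp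
    have h2 : Submodule.span S (f '' (s : Set P)) ≤
        Subalgebra.toSubmodule (Algebra.adjoin S ((s.image f : Finset T) : Set T)) := by
      rw [Submodule.span_le]
      intro y hy
      exact Algebra.subset_adjoin (by simpa using hy)
    exact h2 this
  | mul a b ha hb => exact Subalgebra.mul_mem _ ha hb
  | add a b ha hb => exact Subalgebra.add_mem _ ha hb

end Der

section Smooth

variable {S T P : Type u} [CommRing S] [CommRing T] [Algebra S T] [AddCommGroup P] [Module S P]
  {f : P →ₗ[S] T}

/-- The symmetric algebra of a projective module is formally smooth. -/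
theorem formallySmooth [Module.Projective S P] (h : IsSymmetricAlgebra f) :
    Algebra.FormallySmooth S T := by
  refine Algebra.FormallySmooth.iff_comp_surjective.mpr fun B _ _ I hI φ => ?_
  obtain ⟨g, hg⟩ := Module.projective_lifting_property (Ideal.Quotient.mkₐ S I).toLinearMap
    (φ.toLinearMap ∘ₗ f) Ideal.Quotient.mk_surjective
  refine ⟨h.lift g, ?_⟩
  apply h.algHom_ext
  ext p
  simpa using congr($hg p)

end Smooth

section Split

variable (R S T : Type u) [CommRing R] [CommRing S] [CommRing T] [Algebra R S] [Algebra S T]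
  [Algebra R T] [IsScalarTower R S T]

/-- For `T` formally smooth over `S`, the first fundamental sequence of differentials is split
exact. -/
theorem kaehler_split [Algebra.FormallySmooth S T] :
    Nonempty (Ω[T⁄R] ≃ₗ[T] (T ⊗[S] Ω[S⁄R]) × Ω[T⁄S]) := by
  have hinj : Function.Injective (mapBaseChange R S T) := by
    rw [← LinearMap.ker_eq_bot,
      (Algebra.H1Cotangent.exact_δ_mapBaseChange R S T).linearMap_ker_eq]
    rw [LinearMap.range_eq_bot]
    exact Subsingleton.elim _ _
  have hex := KaehlerDifferential.exact_mapBaseChange_map R S T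
  have hsurj := KaehlerDifferential.map_surjective R S T
  obtain ⟨l, hl⟩ :=
    Module.projective_lifting_property (KaehlerDifferential.map R S T T) LinearMap.id hsurj
  exact ⟨((hex.splitSurjectiveEquiv hinj) ⟨l, hl⟩).1⟩

variable {S T}
variable {P : Type u} [AddCommGroup P] [Module S P] {f : P →ₗ[S] T}

/-- If `P` is projective with `Ω[S/R] × P` free, then the differentials of `Sym_S(P)` over `R`
are free. -/
theorem free_kaehler (h : IsSymmetricAlgebra f) [Module.Projective S P]
    {F : Type u} [AddCommGroup F] [Module S F] [Module.Free S F]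
    (e : (Ω[S⁄R] × P) ≃ₗ[S] F) : Module.Free T Ω[T⁄R] := by
  have := formallySmooth h
  obtain ⟨e₁⟩ := kaehler_split R S T
  obtain ⟨e₂⟩ := kaehler_equiv h
  let e₃ : Ω[T⁄R] ≃ₗ[T] T ⊗[S] F :=
    e₁ ≪≫ₗ (LinearEquiv.prodCongr (LinearEquiv.refl T _) e₂) ≪≫ₗ
      (TensorProduct.prodRight S T T Ω[S⁄R] P).symm ≪≫ₗ
      (TensorProduct.AlgebraTensorModule.congr (LinearEquiv.refl T T) e)
  exact Module.Free.of_equiv e₃.symm

end Split

section BaseChange

variable {A K C A' C' : Type*} [CommRing A] [AddCommGroup K] [Module A K] [CommRing C]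
  [Algebra A C] [CommRing A'] [Algebra A A'] [CommRing C'] [Algebra A' C'] [Algebra C C']
  [Algebra A C'] [IsScalarTower A A' C'] [IsScalarTower A C C']

/-- Base change of the structure map of a symmetric algebra. -/
noncomputable def bcMap (f₀ : K →ₗ[A] C) : A' ⊗[A] K →ₗ[A'] C' :=
  LinearMap.liftBaseChange A' ((IsScalarTower.toAlgHom A C C').toLinearMap ∘ₗ f₀)

@[simp] lemma bcMap_tmul (f₀ : K →ₗ[A] C) (s : A') (k : K) :
    bcMap (C' := C') f₀ (s ⊗ₜ k) = s • algebraMap C C' (f₀ k) := by
  simp [bcMap]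

/-- Symmetric algebras are stable under base change. -/
theorem isSymmetricAlgebra_bcMap [Algebra.IsPushout A C A' C'] {f₀ : K →ₗ[A] C}
    (h₀ : IsSymmetricAlgebra f₀) : IsSymmetricAlgebra (bcMap (A' := A') (C' := C') f₀) := by
  let Sg := SymmetricAlgebra A' (A' ⊗[A] K)
  let F : Sg →ₐ[A'] C' := SymmetricAlgebra.lift (bcMap f₀)
  let fC : C →ₐ[A] Sg := h₀.lift
    (((SymmetricAlgebra.ι A' (A' ⊗[A] K)).restrictScalars A) ∘ₗ (TensorProduct.mk A A' K 1))
  have hfC : ∀ k, fC (f₀ k) = SymmetricAlgebra.ι A' (A' ⊗[A] K) (1 ⊗ₜ k) := fun k => by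
    simp [fC]
  let G₀ : C' →ₐ[A] Sg := Algebra.pushoutDesc C' fC (IsScalarTower.toAlgHom A A' Sg)
    (fun _ _ => mul_comm _ _)
  have hG₀ : ∀ s : A', G₀ (algebraMap A' C' s) = algebraMap A' Sg s := fun s => by
    simp [G₀]
  let G : C' →ₐ[A'] Sg := { G₀ with commutes' := hG₀ }
  have hGC : ∀ c : C, G (algebraMap C C' c) = fC c := fun c => by
    change G₀ _ = _
    simp [G₀]
  have hF : ∀ x, F (SymmetricAlgebra.ι A' (A' ⊗[A] K) x) = bcMap f₀ x := fun x =>
    SymmetricAlgebra.lift_ι_apply _ _
  have hFG : (F.restrictScalars A).comp G₀ = AlgHom.id A C' := by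
    apply Algebra.IsPushout.algHom_ext (R := A) (S := C) (R' := A') (S' := C')
    · ext s
      simp [hG₀]
    · apply h₀.algHom_ext
      ext k
      change F (G (algebraMap C C' (f₀ k))) = algebraMap C C' (f₀ k)
      rw [hGC, hfC, hF, bcMap_tmul, one_smul]
  have hGF : G.comp F = AlgHom.id A' Sg := by
    apply SymmetricAlgebra.algHom_ext
    ext k
    change G (F (SymmetricAlgebra.ι A' (A' ⊗[A] K) (1 ⊗ₜ k))) =
      SymmetricAlgebra.ι A' (A' ⊗[A] K) (1 ⊗ₜ k)
    rw [hF, bcMap_tmul, one_smul, hGC, hfC]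
  refine Function.bijective_iff_has_inverse.mpr ⟨G, ?_, ?_⟩
  · intro x; exact congr($hGF x)
  · intro x; exact congr($hFG x)

end BaseChange

section SplitKer

variable {A : Type u} [CommRing A] (A' : Type u) [CommRing A'] [Algebra A A'] [Module.Flat A A']
  {F₀ W : Type u} [AddCommGroup F₀] [Module A F₀] [AddCommGroup W] [Module A W]

/-- If `π : F₀ → W` is surjective with `F₀` free and `A' ⊗ W` projective over the flat
`A`-algebra `A'`, then `A' ⊗ ker π` is projective and `(A' ⊗ W) × (A' ⊗ ker π) ≃ A' ⊗ F₀`. -/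
theorem split_ker [Module.Free A F₀] (π : F₀ →ₗ[A] W) (hπ : Function.Surjective π)
    [Module.Projective A' (A' ⊗[A] W)] :
    Module.Projective A' (A' ⊗[A] π.ker) ∧
      Nonempty (((A' ⊗[A] W) × (A' ⊗[A] π.ker)) ≃ₗ[A'] A' ⊗[A] F₀) := by
  let i : π.ker →ₗ[A] F₀ := π.ker.subtype
  have hex : Function.Exact i π := LinearMap.exact_subtype_ker_map π
  let i' : A' ⊗[A] π.ker →ₗ[A'] A' ⊗[A] F₀ := i.baseChange A'
  let π' : A' ⊗[A] F₀ →ₗ[A'] A' ⊗[A] W := π.baseChange A'
  have hex' : Function.Exact i' π' := by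
    have := Module.Flat.lTensor_exact A' hex
    exact this
  have hinj : Function.Injective i' := by
    have := Module.Flat.lTensor_preserves_injective_linearMap (M := A') i
      (Submodule.subtype_injective _)
    exact this
  have hsurj : Function.Surjective π' := by
    have := LinearMap.lTensor_surjective A' hπ
    exact this
  obtain ⟨l, hl⟩ := Module.projective_lifting_property π' LinearMap.id hsurj
  obtain ⟨e, he₁, he₂⟩ := (hex'.splitSurjectiveEquiv hinj) ⟨l, hl⟩
  refine ⟨?_, ⟨(LinearEquiv.prodComm A' _ _).trans e.symm⟩⟩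
  refine Module.Projective.of_split i' (LinearMap.fst A' _ _ ∘ₗ e.toLinearMap) ?_
  rw [he₁]
  ext x
  simp

end SplitKer

end Groth.Agent.Lib.Seat10.SymA
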