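import Groth.Agent.Lib.Seat10SymA

/-!
# Differentials of a localized symmetric algebra of `ker(F₀ → Ω[A/R])`

Helper lemma (seat helper10) for S2110.
-/

set_option autoImplicit false
set_option linter.style.haveILetI false

namespace Groth.Agent.Lib.Seat10.SymB

open TensorProduct KaehlerDifferential
open Groth.Agent.Lib.Seat10.SymA

universe u

/-- Let `π : F₀ → Ω[A/R]` be a surjection from a free module and `C = Sym_A(ker π)`. If `A_a` is
formally smooth over `R`, then `Ω[C_a/R]` is a free `C_a`-module. -/
theorem free_kaehler_away {R A : Type u} [CommRing R] [CommRing A] [Algebra R A]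
    {F₀ : Type u} [AddCommGroup F₀] [Module A F₀] [Module.Free A F₀]
    (π : F₀ →ₗ[A] Ω[A⁄R]) (hπ : Function.Surjective π)
    {C : Type u} [CommRing C] [Algebra A C] [Algebra R C] [IsScalarTower R A C]
    {f₀ : π.ker →ₗ[A] C} (h₀ : IsSymmetricAlgebra f₀)
    (a : A) {A' C' : Type u} [CommRing A'] [CommRing C'] [Algebra A A'] [Algebra R A']
    [IsScalarTower R A A']
    [Algebra C C'] [Algebra A C'] [Algebra R C'] [IsScalarTower A C C'] [IsScalarTower R C C']
    [IsScalarTower R A C']
    [IsLocalization.Away a A'] [IsLocalization.Away (algebraMap A C a) C']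
    [Algebra.FormallySmooth R A'] : Module.Free C' Ω[C'⁄R] := by
  have hu : IsUnit (algebraMap A C' a) := by
    rw [IsScalarTower.algebraMap_apply A C C']
    exact IsLocalization.Away.algebraMap_isUnit _
  letI : Algebra A' C' := (IsLocalization.Away.lift a hu).toAlgebra
  haveI : IsScalarTower A A' C' := IsScalarTower.of_algebraMap_eq fun x => by
    simp [RingHom.algebraMap_toAlgebra]
  haveI : IsScalarTower R A' C' := IsScalarTower.of_algebraMap_eq fun x => by
    rw [IsScalarTower.algebraMap_apply R A A', ← IsScalarTower.algebraMap_apply A A' C',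
      ← IsScalarTower.algebraMap_apply R A C']
  haveI : Algebra.IsPushout A C A' C' := by
    have : IsLocalization (Algebra.algebraMapSubmonoid C (Submonoid.powers a)) C' := by
      rw [show Algebra.algebraMapSubmonoid C (Submonoid.powers a) =
        Submonoid.powers (algebraMap A C a) from Submonoid.map_powers _ _]
      infer_instance
    exact Algebra.isPushout_of_isLocalization (Submonoid.powers a) A' C C'
  haveI : Module.Flat A A' := IsLocalization.flat A' (Submonoid.powers a)
  haveI : Algebra.FormallyEtale A A' :=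
    Algebra.FormallyEtale.of_isLocalization (Submonoid.powers a)
  let eΩ : A' ⊗[A] Ω[A⁄R] ≃ₗ[A'] Ω[A'⁄R] :=
    KaehlerDifferential.tensorKaehlerEquivOfFormallyEtale R A A'
  haveI : Module.Projective A' (A' ⊗[A] Ω[A⁄R]) := Module.Projective.of_equiv eΩ.symm
  obtain ⟨hproj, ⟨e⟩⟩ := split_ker A' π hπ
  have hsym := isSymmetricAlgebra_bcMap (A' := A') (C' := C') h₀
  exact free_kaehler R hsym ((LinearEquiv.prodCongr eΩ.symm (LinearEquiv.refl _ _)).trans e)

end Groth.Agent.Lib.Seat10.SymB
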