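import Groth.Agent.Lib.Seat10ValDomA

/-!
# Compositum of a valuation ring and a DVR over a DVR (Seat 10)

Given a DVR `B`, a valuation subring `W` of a field `M` dominating `B`, and a local injective
extension of DVRs `B → C` with `M₀ = Frac C`, we build a field `M'` receiving `M` and `M₀`
compatibly over `B`, generated by their images, together with a valuation subring `W'` of `M'`
with `W' ∩ M = W` which dominates `C`.
-/

set_option autoImplicit false

universe u

namespace Groth.Agent.Lib.Seat10.Tower

open EtRam IsLocalRing TensorProduct Groth.Agent.Lib.Seat10.ValDom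

section NZD

variable {B W C : Type u} [CommRing B] [CommRing W] [CommRing C] [Algebra B W] [Algebra B C]

theorem tmul_one_mem_nonZeroDivisors [IsDomain W] [Module.Flat B C] (w : W) (hw : w ≠ 0) :
    (w ⊗ₜ[B] (1 : C)) ∈ nonZeroDivisors (W ⊗[B] C) := by
  have key : ∀ x : W ⊗[B] C,
      (w ⊗ₜ[B] (1 : C)) * x = (LinearMap.rTensor C (LinearMap.mulLeft B w)) x := by
    intro x
    induction x using TensorProduct.induction_on with
    | zero => simp
    | tmul a c => simp [Algebra.TensorProduct.tmul_mul_tmul]
    | add a b ha hb => rw [mul_add, map_add, ha, hb]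
  have hinj : Function.Injective (LinearMap.rTensor C (LinearMap.mulLeft B w)) :=
    Module.Flat.rTensor_preserves_injective_linearMap _ (mul_right_injective₀ hw)
  rw [mem_nonZeroDivisors_iff_right]
  intro x hx
  apply hinj
  rw [map_zero, ← key, mul_comm]
  exact hx

theorem one_tmul_mem_nonZeroDivisors [IsDomain C] [Module.Flat B W] (c : C) (hc : c ≠ 0) :
    ((1 : W) ⊗ₜ[B] c) ∈ nonZeroDivisors (W ⊗[B] C) := by
  have key : ∀ x : W ⊗[B] C,
      ((1 : W) ⊗ₜ[B] c) * x = (LinearMap.lTensor W (LinearMap.mulLeft B c)) x := by
    intro x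
    induction x using TensorProduct.induction_on with
    | zero => simp
    | tmul a c => simp [Algebra.TensorProduct.tmul_mul_tmul]
    | add a b ha hb => rw [mul_add, map_add, ha, hb]
  have hinj : Function.Injective (LinearMap.lTensor W (LinearMap.mulLeft B c)) :=
    Module.Flat.lTensor_preserves_injective_linearMap _ (mul_right_injective₀ hc)
  rw [mem_nonZeroDivisors_iff_right]
  intro x hx
  apply hinj
  rw [map_zero, ← key, mul_comm]
  exact hx

end NZD

end Groth.Agent.Lib.Seat10.Tower
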