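import Groth.Agent.Lib.Seat10TowerA

/-!
# Compositum of a valuation ring and a DVR over a DVR, construction (Seat 10)

`exists_field_of_prime`: from a ring `T` receiving `W` and `C` with a prime lying over both
maximal ideals, build the field, the embeddings and the dominating valuation ring.
`exists_compositum`: the case `T = W ⊗[B] C`.
-/
set_option autoImplicit false

universe u

namespace Groth.Agent.Lib.Seat10.Tower

open EtRam IsLocalRing TensorProduct Groth.Agent.Lib.Seat10.ValDom

theorem exists_field_of_prime {M M₀ C T : Type u} [Field M] [Field M₀] [CommRing C] [IsDomain C]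
    [IsLocalRing C] [Algebra C M₀] [IsFractionRing C M₀] [CommRing T]
    (W : ValuationSubring M) (a : W →+* T) (c : C →+* T)
    (ha : ∀ w : W, w ≠ 0 → a w ∈ nonZeroDivisors T)
    (hc : ∀ x : C, x ≠ 0 → c x ∈ nonZeroDivisors T)
    (P : Ideal T) [P.IsPrime] (hPa : P.comap a = maximalIdeal W)
    (hPc : P.comap c = maximalIdeal C)
    (hgen : Subring.closure (Set.range a ∪ Set.range c) = ⊤) :
    ∃ (M' : Type u) (_ : Field M') (j : M →+* M') (i : M₀ →+* M') (ι : T →+* M')
      (W' : ValuationSubring M'),
      (∀ w : W, j (w : M) = ι (a w)) ∧ (∀ x : C, i (algebraMap C M₀ x) = ι (c x)) ∧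
      W'.comap j = W ∧ Dominates C (i.comp (algebraMap C M₀)) W' ∧
      Subfield.closure (Set.range j ∪ Set.range i) = ⊤ := by
  obtain ⟨P0, hP0min, hP0le⟩ := Ideal.exists_minimalPrimes_le (I := ⊥) (J := P) bot_le
  have hP0prime : P0.IsPrime := hP0min.1.1
  have hdisj := Ideal.disjoint_nonZeroDivisors_of_mem_minimalPrimes (p := P0) hP0min
  -- the field
  let ι : T →+* FractionRing (T ⧸ P0) :=
    (algebraMap (T ⧸ P0) (FractionRing (T ⧸ P0))).comp (Ideal.Quotient.mk P0)
  have hι0 : ∀ t : T, ι t = 0 ↔ t ∈ P0 := by
    intro t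
    show algebraMap (T ⧸ P0) (FractionRing (T ⧸ P0)) (Ideal.Quotient.mk P0 t) = 0 ↔ _
    rw [map_eq_zero_iff _ (IsFractionRing.injective (T ⧸ P0) (FractionRing (T ⧸ P0))),
      Ideal.Quotient.eq_zero_iff_mem]
  have hιnzd : ∀ t : T, t ∈ nonZeroDivisors T → ι t ≠ 0 := by
    intro t ht h0
    exact Set.disjoint_left.mp hdisj ((hι0 t).mp h0) ht
  have hψW : Function.Injective (ι.comp a) := by
    rw [injective_iff_map_eq_zero]
    intro w hw
    by_contra hw0
    exact hιnzd _ (ha w hw0) hw
  have hψC : Function.Injective (ι.comp c) := by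
    rw [injective_iff_map_eq_zero]
    intro x hx
    by_contra hx0
    exact hιnzd _ (hc x hx0) hx
  let j : M →+* FractionRing (T ⧸ P0) := IsFractionRing.lift (A := W) (K := M) hψW
  let i : M₀ →+* FractionRing (T ⧸ P0) := IsFractionRing.lift (A := C) (K := M₀) hψC
  have hj : ∀ w : W, j (w : M) = ι (a w) := fun w => IsFractionRing.lift_algebraMap hψW w
  have hi : ∀ x : C, i (algebraMap C M₀ x) = ι (c x) :=
    fun x => IsFractionRing.lift_algebraMap hψC x
  -- the valuation ring
  have hunit : ∀ y : P.primeCompl, IsUnit (ι y) := by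
    intro y
    apply IsUnit.mk0
    intro h0
    exact y.2 (hP0le ((hι0 _).mp h0))
  let f : Localization.AtPrime P →+* FractionRing (T ⧸ P0) :=
    IsLocalization.lift (M := P.primeCompl) (g := ι) hunit
  have hf : ∀ t : T, f (algebraMap T (Localization.AtPrime P) t) = ι t :=
    fun t => IsLocalization.lift_eq _ _
  obtain ⟨W', hW'mem, hW'loc⟩ := IsLocalRing.exists_factor_valuationRing f
  have hιW' : ∀ t : T, ι t ∈ W' := fun t => by rw [← hf]; exact hW'mem _
  have hιP : ∀ t : T, t ∈ P → W'.valuation (ι t) < 1 := by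
    intro t ht
    by_contra hlt
    have hmem := hιW' t
    have h1 : W'.valuation (ι t) = 1 :=
      le_antisymm ((W'.valuation_le_one_iff _).mpr hmem) (not_lt.mp hlt)
    have hne : ι t ≠ 0 := by
      intro h0
      rw [h0, map_zero] at h1
      exact zero_ne_one h1
    have hinv : (ι t)⁻¹ ∈ W' := by
      rw [← W'.valuation_le_one_iff, map_inv₀, h1, inv_one]
    have hu : IsUnit (f.codRestrict W'.toSubring hW'mem
        (algebraMap T (Localization.AtPrime P) t)) := by
      refine isUnit_iff_exists_inv.mpr ⟨⟨(ι t)⁻¹, hinv⟩, Subtype.ext ?_⟩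
      show f (algebraMap T _ t) * (ι t)⁻¹ = 1
      rw [hf, mul_inv_cancel₀ hne]
    have hu' := hW'loc.map_nonunit _ hu
    exact ((IsLocalization.AtPrime.isUnit_to_map_iff (Localization.AtPrime P) P t).mp hu') ht
  refine ⟨FractionRing (T ⧸ P0), inferInstance, j, i, ι, W', hj, hi, ?_, ?_, ?_⟩
  · ext x
    rw [ValuationSubring.mem_comap]
    constructor
    · intro hx
      by_contra hxW
      have hx0 : x ≠ 0 := fun h => hxW (h ▸ W.zero_mem)
      have hinv : x⁻¹ ∈ W := (W.mem_or_inv_mem x).resolve_left hxW
      have hnu : (⟨x⁻¹, hinv⟩ : W) ∈ maximalIdeal W := by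
        rw [ValuationSubring.valuation_lt_one_iff, ← ValuationSubring.mem_nonunits_iff,
          ValuationSubring.mem_nonunits_iff_or]
        right
        rw [inv_inv]
        exact hxW
      rw [← hPa, Ideal.mem_comap] at hnu
      have h1 := hιP _ hnu
      rw [← hj] at h1
      have h2 : W'.valuation (j x) ≤ 1 := (W'.valuation_le_one_iff _).mpr hx
      have h3 : W'.valuation (j x * j x⁻¹) < 1 := by
        rw [map_mul]
        calc W'.valuation (j x) * W'.valuation (j x⁻¹) ≤ 1 * W'.valuation (j x⁻¹) :=
              mul_le_mul_left h2 _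
          _ < 1 := by rw [one_mul]; exact h1
      rw [← map_mul, mul_inv_cancel₀ hx0, map_one, map_one] at h3
      exact lt_irrefl _ h3
    · intro hx
      have := hj ⟨x, hx⟩
      rw [show j x = ι (a ⟨x, hx⟩) from this]
      exact hιW' _
  · refine ⟨fun x => ?_, fun x hx => ?_⟩
    · rw [RingHom.comp_apply, hi]
      exact hιW' _
    · rw [RingHom.comp_apply, hi]
      apply hιP
      rw [← hPc] at hx
      exact hx
  · have hF : ∀ t : T, ι t ∈ Subfield.closure (Set.range j ∪ Set.range i) := by
      intro t
      have ht : t ∈ Subring.closure (Set.range a ∪ Set.range c) := hgen ▸ Subring.mem_top t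
      induction ht using Subring.closure_induction with
      | mem x hx =>
        rcases hx with ⟨w, rfl⟩ | ⟨y, rfl⟩
        · rw [← hj]
          exact Subfield.subset_closure (Or.inl ⟨_, rfl⟩)
        · rw [← hi]
          exact Subfield.subset_closure (Or.inr ⟨_, rfl⟩)
      | zero => rw [map_zero]; exact zero_mem _
      | one => rw [map_one]; exact one_mem _
      | add x y _ _ hx hy => rw [map_add]; exact add_mem hx hy
      | neg x _ hx => rw [map_neg]; exact neg_mem hx
      | mul x y _ _ hx hy => rw [map_mul]; exact mul_mem hx hy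
    rw [eq_top_iff]
    intro x _
    obtain ⟨p, q, _, rfl⟩ := IsFractionRing.div_surjective (A := T ⧸ P0) x
    obtain ⟨t, rfl⟩ := Ideal.Quotient.mk_surjective p
    obtain ⟨s, rfl⟩ := Ideal.Quotient.mk_surjective q
    exact div_mem (hF t) (hF s)

end Groth.Agent.Lib.Seat10.Tower

namespace Groth.Agent.Lib.Seat10.Tower

open EtRam IsLocalRing TensorProduct Groth.Agent.Lib.Seat10.ValDom

theorem exists_compositum {B C : Type u} [CommRing B] [IsDomain B] [IsDiscreteValuationRing B]
    [CommRing C] [IsDomain C] [IsDiscreteValuationRing C] [Algebra B C]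
    [IsLocalHom (algebraMap B C)] (hinj : Function.Injective (algebraMap B C))
    {M M₀ : Type u} [Field M] [Field M₀] [Algebra C M₀] [IsFractionRing C M₀]
    (φ : B →+* M) (hφ : Function.Injective φ)
    (W : ValuationSubring M) (hW : Dominates B φ W) :
    ∃ (M' : Type u) (_ : Field M') (j : M →+* M') (i : M₀ →+* M') (W' : ValuationSubring M'),
      (∀ b : B, j (φ b) = i (algebraMap C M₀ (algebraMap B C b))) ∧ W'.comap j = W ∧
      Dominates C (i.comp (algebraMap C M₀)) W' ∧
      Subfield.closure (Set.range j ∪ Set.range i) = ⊤ := by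
  let _ : Algebra B W := (toVal hW).toAlgebra
  have hBW : Function.Injective (algebraMap B W) := by
    intro x y hxy
    apply hφ
    exact congrArg Subtype.val hxy
  have : Module.IsTorsionFree B W := Module.isTorsionFree_iff_algebraMap_injective.mpr hBW
  have : Module.IsTorsionFree B C := Module.isTorsionFree_iff_algebraMap_injective.mpr hinj
  have : Module.Flat B W := inferInstance
  have : Module.Flat B C := inferInstance
  have : Module.FaithfullyFlat B C := Module.FaithfullyFlat.of_flat_of_isLocalHom
  have : Module.FaithfullyFlat W (W ⊗[B] C) := inferInstance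
  obtain ⟨P, hPprime, hPover⟩ :=
    Ideal.exists_isPrime_liesOver_of_faithfullyFlat (B := W ⊗[B] C) (maximalIdeal W)
  have hPa : P.comap (Algebra.TensorProduct.includeLeftRingHom : W →+* W ⊗[B] C) =
      maximalIdeal W := by
    have := hPover.over
    rw [this]
    rfl
  -- the contraction to `C`
  have hPc : P.comap (Algebra.TensorProduct.includeRight (R := B) (A := W) (B := C)).toRingHom =
      maximalIdeal C := by
    have hprime : (P.comap (Algebra.TensorProduct.includeRight
        (R := B) (A := W) (B := C)).toRingHom).IsPrime := Ideal.comap_isPrime _ _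
    obtain ⟨π, hπ⟩ := IsDiscreteValuationRing.exists_irreducible B
    have hπm : π ∈ maximalIdeal B := by
      rw [IsLocalRing.mem_maximalIdeal]
      exact hπ.not_isUnit
    have hπW : algebraMap B W π ∈ maximalIdeal W := by
      rw [ValuationSubring.valuation_lt_one_iff]
      exact hW.2 π hπm
    have hmem : algebraMap B C π ∈ P.comap (Algebra.TensorProduct.includeRight
        (R := B) (A := W) (B := C)).toRingHom := by
      rw [Ideal.mem_comap]
      have h1 : (Algebra.TensorProduct.includeRight (R := B) (A := W) (B := C)).toRingHom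
          (algebraMap B C π) = (algebraMap B W π) ⊗ₜ[B] (1 : C) := by
        show (1 : W) ⊗ₜ[B] (algebraMap B C π) = _
        rw [Algebra.algebraMap_eq_smul_one, Algebra.algebraMap_eq_smul_one, TensorProduct.smul_tmul]
      rw [h1]
      rw [← hPa] at hπW
      exact hπW
    have hne : P.comap (Algebra.TensorProduct.includeRight
        (R := B) (A := W) (B := C)).toRingHom ≠ ⊥ := by
      intro hbot
      rw [hbot, Ideal.mem_bot] at hmem
      exact hπ.ne_zero (hinj (by rw [hmem, map_zero]))
    exact IsLocalRing.eq_maximalIdeal (hprime.isMaximal hne)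
  have hgen : Subring.closure (Set.range (Algebra.TensorProduct.includeLeftRingHom :
      W →+* W ⊗[B] C) ∪ Set.range (Algebra.TensorProduct.includeRight
        (R := B) (A := W) (B := C)).toRingHom) = ⊤ := by
    rw [eq_top_iff]
    intro t _
    induction t using TensorProduct.induction_on with
    | zero => exact zero_mem _
    | tmul w x =>
      have : w ⊗ₜ[B] x = (w ⊗ₜ[B] (1 : C)) * ((1 : W) ⊗ₜ[B] x) := by
        rw [Algebra.TensorProduct.tmul_mul_tmul, mul_one, one_mul]
      rw [this]
      exact mul_mem (Subring.subset_closure (Or.inl ⟨w, rfl⟩))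
        (Subring.subset_closure (Or.inr ⟨x, rfl⟩))
    | add x y hx hy => exact add_mem (hx trivial) (hy trivial)
  obtain ⟨M', hM', j, i, ι, W', hj, hi, hcomap, hdom, hclos⟩ :=
    exists_field_of_prime (M₀ := M₀) W (Algebra.TensorProduct.includeLeftRingHom : W →+* W ⊗[B] C)
      (Algebra.TensorProduct.includeRight (R := B) (A := W) (B := C)).toRingHom
      (fun w hw => tmul_one_mem_nonZeroDivisors (B := B) (C := C) w hw)
      (fun x hx => one_tmul_mem_nonZeroDivisors (B := B) (W := W) x hx) P hPa hPc hgen
  refine ⟨M', hM', j, i, W', ?_, hcomap, hdom, hclos⟩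
  intro b
  have h1 : φ b = ((algebraMap B W b : W) : M) := rfl
  rw [h1, hj, hi]
  congr 1
  show (algebraMap B W b) ⊗ₜ[B] (1 : C) = (1 : W) ⊗ₜ[B] (algebraMap B C b)
  rw [Algebra.algebraMap_eq_smul_one, Algebra.algebraMap_eq_smul_one, TensorProduct.smul_tmul]

end Groth.Agent.Lib.Seat10.Tower
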