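import Groth.Agent.Lib.Seat10TowerD

/-!
# The reduction `B ⊗[A] V → κ(B) ⊗[A] κ(V)` and the key divisibility statement (Seat 10)

For local `A`-algebras `B`, `V` with `m_A B = m_B`, `m_V = (π₁)` and `κ(B) ⊗[A] κ(V)` reduced and
zero-dimensional: an element `x` of `B ⊗[A] V` mapping into the maximal ideal of a local ring `W`
satisfies `s x ∈ (1 ⊗ π₁)` for some `s` invertible in `W` (`exists_unit_mul_mem_span`).
-/

set_option autoImplicit false

universe u

namespace Groth.Agent.Lib.Seat10.Tower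

open IsLocalRing TensorProduct

section Star

variable {A B V W : Type u} [CommRing A] [IsLocalRing A] [CommRing B] [IsLocalRing B]
  [CommRing V] [IsLocalRing V] [CommRing W] [IsLocalRing W]
  [Algebra A B] [Algebra A V] [Algebra A W] [IsLocalHom (algebraMap A V)]

/-- the reduction map `B ⊗[A] V → κ(B) ⊗[A] κ(V)` -/
noncomputable def redMap : B ⊗[A] V →ₐ[A] ResidueField B ⊗[A] ResidueField V :=
  Algebra.TensorProduct.map (IsScalarTower.toAlgHom A B (ResidueField B))
    (IsScalarTower.toAlgHom A V (ResidueField V))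

omit [IsLocalRing A] [IsLocalHom (algebraMap A V)] in
theorem redMap_surjective : Function.Surjective (redMap (A := A) (B := B) (V := V)) :=
  Algebra.TensorProduct.map_surjective _ _ IsLocalRing.residue_surjective
    IsLocalRing.residue_surjective

theorem ker_redMap_le (hwu : (maximalIdeal A).map (algebraMap A B) = maximalIdeal B)
    (π₁ : V) (hπ₁ : maximalIdeal V = Ideal.span {π₁}) :
    RingHom.ker (redMap (A := A) (B := B) (V := V)) ≤ Ideal.span {(1 : B) ⊗ₜ[A] π₁} := by
  have h1 : RingHom.ker (IsScalarTower.toAlgHom A B (ResidueField B)) = maximalIdeal B :=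
    IsLocalRing.ker_residue
  have h2 : RingHom.ker (IsScalarTower.toAlgHom A V (ResidueField V)) = maximalIdeal V :=
    IsLocalRing.ker_residue
  unfold redMap
  rw [Algebra.TensorProduct.map_ker _ _ IsLocalRing.residue_surjective
    IsLocalRing.residue_surjective, h1, h2]
  have h3 : (maximalIdeal V).map (Algebra.TensorProduct.includeRight : V →ₐ[A] B ⊗[A] V) =
      Ideal.span {(1 : B) ⊗ₜ[A] π₁} := by
    rw [hπ₁, Ideal.map_span, Set.image_singleton]
    rfl
  rw [sup_le_iff]
  refine ⟨?_, h3.le⟩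
  rw [← hwu, Ideal.map_le_iff_le_comap, Ideal.map_le_iff_le_comap]
  intro a ha
  rw [Ideal.mem_comap, Ideal.mem_comap]
  have h4 : algebraMap A V a ∈ maximalIdeal V := by
    rw [IsLocalRing.mem_maximalIdeal, mem_nonunits_iff] at ha ⊢
    exact fun h => ha (isUnit_of_map_unit (algebraMap A V) a h)
  rw [hπ₁, Ideal.mem_span_singleton'] at h4
  obtain ⟨c, hc⟩ := h4
  have h5 : (Algebra.TensorProduct.includeLeft : B →ₐ[A] B ⊗[A] V) (algebraMap A B a) =
      ((1 : B) ⊗ₜ[A] c) * ((1 : B) ⊗ₜ[A] π₁) := by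
    rw [Algebra.TensorProduct.includeLeft_apply, Algebra.TensorProduct.tmul_mul_tmul, mul_one, hc,
      Algebra.algebraMap_eq_smul_one, Algebra.algebraMap_eq_smul_one, TensorProduct.smul_tmul]
  rw [h5]
  exact Ideal.mul_mem_left _ _ (Ideal.mem_span_singleton_self _)

/-- the key divisibility statement: an element of `B ⊗[A] V` landing in the maximal ideal of `W`
is, up to an element invertible in `W`, a multiple of the uniformizer of `V`. -/
theorem exists_unit_mul_mem_span (β : B →ₐ[A] W) (γ : V →ₐ[A] W)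
    (hwu : (maximalIdeal A).map (algebraMap A B) = maximalIdeal B)
    (π₁ : V) (hπ₁ : maximalIdeal V = Ideal.span {π₁}) (hγ : γ π₁ ∈ maximalIdeal W)
    [IsReduced (ResidueField B ⊗[A] ResidueField V)]
    [Ring.KrullDimLE 0 (ResidueField B ⊗[A] ResidueField V)]
    (x : B ⊗[A] V) (hx : Algebra.TensorProduct.productMap β γ x ∈ maximalIdeal W) :
    ∃ s : B ⊗[A] V, IsUnit (Algebra.TensorProduct.productMap β γ s) ∧
      s * x ∈ Ideal.span {(1 : B) ⊗ₜ[A] π₁} := by
  set ρ := Algebra.TensorProduct.productMap β γ with hρ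
  set θ := redMap (A := A) (B := B) (V := V) with hθ
  have hθs : Function.Surjective θ := redMap_surjective
  have hker : RingHom.ker θ ≤ Ideal.span {(1 : B) ⊗ₜ[A] π₁} := ker_redMap_le hwu π₁ hπ₁
  -- the prime of `B ⊗ V`
  let n : Ideal (B ⊗[A] V) := (maximalIdeal W).comap ρ.toRingHom
  have hnprime : n.IsPrime := Ideal.comap_isPrime _ _
  have hspan_le : Ideal.span {(1 : B) ⊗ₜ[A] π₁} ≤ n := by
    rw [Ideal.span_le, Set.singleton_subset_iff]
    show ρ ((1 : B) ⊗ₜ[A] π₁) ∈ maximalIdeal W
    rw [hρ, Algebra.TensorProduct.productMap_apply_tmul, map_one, one_mul]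
    exact hγ
  have hkn : RingHom.ker θ.toRingHom ≤ n := hker.trans hspan_le
  have hqprime : (n.map θ.toRingHom).IsPrime :=
    Ideal.map_isPrime_of_surjective hθs hkn
  have hxn : x ∈ n := hx
  obtain ⟨sbar, hsbar, hmul⟩ := exists_mul_eq_zero_of_mem_prime (n.map θ.toRingHom)
    (Ideal.mem_map_of_mem θ.toRingHom hxn)
  obtain ⟨s, rfl⟩ := hθs sbar
  refine ⟨s, ?_, ?_⟩
  · have hsn : s ∉ n := by
      intro h
      exact hsbar (Ideal.mem_map_of_mem θ.toRingHom h)
    by_contra hu
    exact hsn ((IsLocalRing.mem_maximalIdeal _).mpr hu)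
  · apply hker
    rw [RingHom.mem_ker, map_mul]
    exact hmul

end Star

end Groth.Agent.Lib.Seat10.Tower
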