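import Groth.Agent.Lib.Seat10TowerD

/-!
# Kummer-type algebras over reduced zero-dimensional rings (Seat 10)

* `isReduced_adjoinRoot_of_separable`: `R[X]/(g)` is reduced for `R` reduced and `g` monic separable.
* `krullDimLE_zero_of_algebraIsIntegral`: integral extensions of zero-dimensional rings are
  zero-dimensional.
* `isReduced_kummer`, `krullDimLE_zero_kummer`: `R[X]/(X^e - c)` for a unit `c` and `e` invertible.
* `exists_unit_mul_eq`: the divisibility statement for a ring `R → W` whose quotient by an ideal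
  that becomes divisible by `p` in `W` is reduced and zero-dimensional.
-/

set_option autoImplicit false

universe u

namespace Groth.Agent.Lib.Seat10.Tower

open Polynomial

section AdjoinRoot

variable {R : Type*} [CommRing R]

/-- `R[X]/(g)` is reduced for `R` reduced and `g` monic separable. -/
theorem isReduced_adjoinRoot_of_separable [IsReduced R] {g : R[X]} (hgm : g.Monic)
    (hsep : g.Separable) : IsReduced (AdjoinRoot g) := by
  classical
  refine ⟨fun x hx => ?_⟩
  obtain ⟨h, rfl⟩ := AdjoinRoot.mk_surjective x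
  set r := h %ₘ g with hr
  have hmk : AdjoinRoot.mk g h = AdjoinRoot.mk g r := by
    rw [AdjoinRoot.mk_eq_mk]
    refine ⟨h /ₘ g, ?_⟩
    have := Polynomial.modByMonic_add_div h g
    rw [hr]
    linear_combination this.symm
  rw [hmk] at hx ⊢
  obtain ⟨n, hn⟩ := hx
  rw [← map_pow, AdjoinRoot.mk_eq_zero] at hn
  suffices r = 0 by rw [this, map_zero]
  ext i
  rw [coeff_zero]
  have hmem : r.coeff i ∈ nilradical R := by
    rw [nilradical_eq_sInf, Ideal.mem_sInf]
    intro p hp
    have : p.IsPrime := hp
    have : Nontrivial R := ⟨⟨0, 1, fun h01 => hp.ne_top (by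
      rw [Ideal.eq_top_iff_one, ← h01]; exact p.zero_mem)⟩⟩
    let ψ : R →+* p.ResidueField := algebraMap R p.ResidueField
    have hgsep : (g.map ψ).Separable := hsep.map
    have hdvd : g.map ψ ∣ (r.map ψ) ^ n := by
      rw [← Polynomial.map_pow]
      exact Polynomial.map_dvd ψ hn
    have hdvd' : g.map ψ ∣ r.map ψ := hgsep.squarefree.isRadical n _ hdvd
    have hdeg : (r.map ψ).degree < (g.map ψ).degree := by
      calc (r.map ψ).degree ≤ r.degree := Polynomial.degree_map_le
        _ < g.degree := Polynomial.degree_modByMonic_lt h hgm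
        _ = (g.map ψ).degree := (hgm.degree_map ψ).symm
    have h0 : r.map ψ = 0 := Polynomial.eq_zero_of_dvd_of_degree_lt hdvd' hdeg
    have h1 : ψ (r.coeff i) = 0 := by
      rw [← Polynomial.coeff_map, h0, coeff_zero]
    exact (Ideal.algebraMap_residueField_eq_zero).mp h1
  rw [nilradical_eq_zero] at hmem
  exact hmem

/-- An integral extension of a zero-dimensional ring is zero-dimensional. -/
theorem krullDimLE_zero_of_algebraIsIntegral (R S : Type*) [CommRing R] [CommRing S] [Algebra R S]
    [Algebra.IsIntegral R S] [Ring.KrullDimLE 0 R] : Ring.KrullDimLE 0 S :=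
  Ring.KrullDimLE.mk₀ fun I hI => by
    have hprime : (I.comap (algebraMap R S)).IsPrime := Ideal.comap_isPrime _ _
    have : (I.comap (algebraMap R S)).IsMaximal := inferInstance
    exact Ideal.isMaximal_of_isIntegral_of_isMaximal_comap I this

/-- A quotient of a zero-dimensional ring is zero-dimensional. -/
theorem krullDimLE_zero_of_surjective {S T F : Type*} [CommRing S] [CommRing T] [FunLike F S T]
    [RingHomClass F S T] (f : F) (hf : Function.Surjective f) [Ring.KrullDimLE 0 S] :
    Ring.KrullDimLE 0 T :=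
  Ring.KrullDimLE.mk₀ fun I hI => by
    have : (I.comap f).IsPrime := Ideal.comap_isPrime _ _
    have hmax : (I.comap f).IsMaximal := inferInstance
    have h := Ideal.map_eq_top_or_isMaximal_of_surjective f hf hmax
    rw [Ideal.map_comap_of_surjective f hf] at h
    exact h.resolve_left hI.ne_top

theorem isReduced_kummer [IsReduced R] (c : Rˣ) {e : ℕ} (he0 : e ≠ 0) (he : IsUnit (e : R)) :
    IsReduced (AdjoinRoot (X ^ e - C (c : R))) :=
  isReduced_adjoinRoot_of_separable (monic_X_pow_sub_C _ he0) (separable_X_pow_sub_C_unit c he)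

theorem krullDimLE_zero_kummer [Ring.KrullDimLE 0 R] (c : R) {e : ℕ} (he0 : e ≠ 0) :
    Ring.KrullDimLE 0 (AdjoinRoot (X ^ e - C c)) := by
  have hfin : Module.Finite R (AdjoinRoot (X ^ e - C c)) :=
    (monic_X_pow_sub_C c he0).finite_adjoinRoot
  have : Algebra.IsIntegral R (AdjoinRoot (X ^ e - C c)) := Algebra.IsIntegral.of_finite _ _
  exact krullDimLE_zero_of_algebraIsIntegral R _

end AdjoinRoot

section Star

variable {R Q W : Type*} [CommRing R] [CommRing Q] [CommRing W] [IsLocalRing W]

/-- the divisibility statement -/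
theorem exists_unit_mul_eq (ρ : R →+* W) (θ : R →+* Q) (hθ : Function.Surjective θ)
    [IsReduced Q] [Ring.KrullDimLE 0 Q] (p : R) (hp : ρ p ∈ IsLocalRing.maximalIdeal W)
    (hker : ∀ y ∈ RingHom.ker θ, ∃ z : R, ρ y = ρ (z * p))
    (x : R) (hx : ρ x ∈ IsLocalRing.maximalIdeal W) :
    ∃ s z : R, IsUnit (ρ s) ∧ ρ (s * x) = ρ (z * p) := by
  let n : Ideal R := (IsLocalRing.maximalIdeal W).comap ρ
  have hnprime : n.IsPrime := Ideal.comap_isPrime _ _
  have hkn : RingHom.ker θ ≤ n := by
    intro y hy
    obtain ⟨z, hz⟩ := hker y hy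
    show ρ y ∈ IsLocalRing.maximalIdeal W
    rw [hz, map_mul]
    exact Ideal.mul_mem_left _ _ hp
  have hqprime : (n.map θ).IsPrime := Ideal.map_isPrime_of_surjective hθ hkn
  have hxn : x ∈ n := hx
  obtain ⟨sbar, hsbar, hmul⟩ := exists_mul_eq_zero_of_mem_prime (n.map θ)
    (Ideal.mem_map_of_mem θ hxn)
  obtain ⟨s, rfl⟩ := hθ sbar
  have hsx : s * x ∈ RingHom.ker θ := by
    rw [RingHom.mem_ker, map_mul]
    exact hmul
  obtain ⟨z, hz⟩ := hker _ hsx
  refine ⟨s, z, ?_, hz⟩
  have hsn : s ∉ n := fun h => hsbar (Ideal.mem_map_of_mem θ h)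
  by_contra hu
  exact hsn ((IsLocalRing.mem_maximalIdeal _).mpr hu)

end Star

end Groth.Agent.Lib.Seat10.Tower
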