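import Groth.Agent.Lib.Seat10TowerG
import Groth.Agent.Lib.Seat10TowerR

/-!
# Geometric reducedness of a field generated by a separable extension, an algebraic extension
and a tame radical (Seat 10)

`isGeometricallyReduced_of_generated_kummer`: fields `k ⊆ kV, kB ⊆ kW` with `kV/k` algebraic,
`kB/k` geometrically reduced, `kW = kB[kV, z]` with `b z ^ e = a` for nonzero `a ∈ kB`, `b ∈ kV`
and `e` invertible in `k`; then `kW/kV` is geometrically reduced.
-/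
set_option autoImplicit false

universe u

namespace Groth.Agent.Lib.Seat10.Tower

open TensorProduct Polynomial

theorem isGeometricallyReduced_of_generated_kummer {k kV kB kW : Type u} [Field k] [Field kV]
    [Field kB] [Field kW] [Algebra k kV] [Algebra k kB] [Algebra k kW] [Algebra kV kW]
    [Algebra kB kW] [IsScalarTower k kV kW] [IsScalarTower k kB kW]
    [Algebra.IsAlgebraic k kV] [Algebra.IsGeometricallyReduced k kB]
    {e : ℕ} (he : (e : k) ≠ 0) (z : kW) (a : kB) (b : kV) (ha : a ≠ 0) (hb : b ≠ 0)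
    (hz : algebraMap kV kW b * z ^ e = algebraMap kB kW a)
    (hgen : Algebra.adjoin kB (Set.range (algebraMap kV kW) ∪ {z}) = ⊤) :
    Algebra.IsGeometricallyReduced kV kW := by
  have he0 : e ≠ 0 := by
    rintro rfl
    exact he Nat.cast_zero
  let Ω := AlgebraicClosure kV
  have halg : Algebra.IsAlgebraic k Ω := Algebra.IsAlgebraic.trans k kV Ω
  have hred0 : IsReduced (Ω ⊗[k] kB) := inferInstance
  have hred : IsReduced (kB ⊗[k] Ω) :=
    isReduced_of_injective (Algebra.TensorProduct.comm k kB Ω)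
      (Algebra.TensorProduct.comm k kB Ω).injective
  have hdim : Ring.KrullDimLE 0 (kB ⊗[k] Ω) := krullDimLE_zero_of_isIntegral kB _
  have hβ : algebraMap kV Ω b ≠ 0 := fun h => hb ((map_eq_zero _).mp h)
  let c' : (kB ⊗[k] Ω)ˣ :=
    ⟨a ⊗ₜ[k] (algebraMap kV Ω b)⁻¹, a⁻¹ ⊗ₜ[k] (algebraMap kV Ω b), by
      rw [Algebra.TensorProduct.tmul_mul_tmul, mul_inv_cancel₀ ha, inv_mul_cancel₀ hβ]
      rfl, by
      rw [Algebra.TensorProduct.tmul_mul_tmul, inv_mul_cancel₀ ha, mul_inv_cancel₀ hβ]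
      rfl⟩
  have heu : IsUnit ((e : ℕ) : kB ⊗[k] Ω) := by
    have : ((e : ℕ) : kB ⊗[k] Ω) = algebraMap k (kB ⊗[k] Ω) (e : k) := (map_natCast _ e).symm
    rw [this]
    exact (IsUnit.mk0 _ he).map _
  have hredT : IsReduced (AdjoinRoot (X ^ e - C (c' : kB ⊗[k] Ω))) := isReduced_kummer c' he0 heu
  have hdimT : Ring.KrullDimLE 0 (AdjoinRoot (X ^ e - C (c' : kB ⊗[k] Ω))) :=
    krullDimLE_zero_kummer _ he0
  -- the map to `Ω ⊗[kV] kW`
  let f₁ : kB →ₐ[k] Ω ⊗[kV] kW :=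
    ((Algebra.TensorProduct.includeRight : kW →ₐ[kV] Ω ⊗[kV] kW).restrictScalars k).comp
      (IsScalarTower.toAlgHom k kB kW)
  let f₂ : Ω →ₐ[k] Ω ⊗[kV] kW := Algebra.TensorProduct.includeLeft
  let φ₀ : kB ⊗[k] Ω →ₐ[k] Ω ⊗[kV] kW := Algebra.TensorProduct.productMap f₁ f₂
  have hφ₀ : ∀ (x : kB) (ω : Ω), φ₀ (x ⊗ₜ[k] ω) = ω ⊗ₜ[kV] (algebraMap kB kW x) := by
    intro x ω
    simp [φ₀, f₁, f₂]
  have hroot : (X ^ e - C (c' : kB ⊗[k] Ω)).eval₂ φ₀.toRingHom ((1 : Ω) ⊗ₜ[kV] z) = 0 := by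
    rw [eval₂_sub, eval₂_pow, eval₂_X, eval₂_C]
    show ((1 : Ω) ⊗ₜ[kV] z) ^ e - φ₀ (a ⊗ₜ[k] (algebraMap kV Ω b)⁻¹) = 0
    rw [hφ₀, ← hz, Algebra.TensorProduct.tmul_pow, one_pow, ← Algebra.smul_def,
      ← TensorProduct.smul_tmul, Algebra.smul_def, mul_inv_cancel₀ hβ, sub_self]
  let Φ : AdjoinRoot (X ^ e - C (c' : kB ⊗[k] Ω)) →+* Ω ⊗[kV] kW :=
    AdjoinRoot.lift φ₀.toRingHom ((1 : Ω) ⊗ₜ[kV] z) hroot
  have hΦof : ∀ t : kB ⊗[k] Ω, Φ (AdjoinRoot.of _ t) = φ₀ t := fun t => AdjoinRoot.lift_of hroot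
  have hΦroot : Φ (AdjoinRoot.root _) = (1 : Ω) ⊗ₜ[kV] z := AdjoinRoot.lift_root hroot
  have hright : ∀ x : kW, (1 : Ω) ⊗ₜ[kV] x ∈ Φ.range := by
    intro x
    have hx : x ∈ Algebra.adjoin kB (Set.range (algebraMap kV kW) ∪ {z}) := hgen ▸ Algebra.mem_top
    induction hx using Algebra.adjoin_induction with
    | mem x hx =>
      rcases hx with ⟨v, rfl⟩ | rfl
      · refine ⟨AdjoinRoot.of _ ((1 : kB) ⊗ₜ[k] algebraMap kV Ω v), ?_⟩
        rw [hΦof, hφ₀, map_one, Algebra.algebraMap_eq_smul_one, Algebra.algebraMap_eq_smul_one,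
          TensorProduct.smul_tmul]
      · exact ⟨_, hΦroot⟩
    | algebraMap x =>
      refine ⟨AdjoinRoot.of _ (x ⊗ₜ[k] (1 : Ω)), ?_⟩
      rw [hΦof, hφ₀]
    | add x y _ _ hx hy =>
      rw [TensorProduct.tmul_add]
      exact add_mem hx hy
    | mul x y _ _ hx hy =>
      have : (1 : Ω) ⊗ₜ[kV] (x * y) = ((1 : Ω) ⊗ₜ[kV] x) * ((1 : Ω) ⊗ₜ[kV] y) := by
        rw [Algebra.TensorProduct.tmul_mul_tmul, one_mul]
      rw [this]
      exact mul_mem hx hy
  have hΦ : Function.Surjective Φ := by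
    intro t
    rw [← RingHom.mem_range]
    induction t using TensorProduct.induction_on with
    | zero => exact zero_mem _
    | tmul ω x =>
      have : ω ⊗ₜ[kV] x = (ω ⊗ₜ[kV] (1 : kW)) * ((1 : Ω) ⊗ₜ[kV] x) := by
        rw [Algebra.TensorProduct.tmul_mul_tmul, one_mul, mul_one]
      rw [this]
      refine mul_mem ⟨AdjoinRoot.of _ ((1 : kB) ⊗ₜ[k] ω), ?_⟩ (hright x)
      rw [hΦof, hφ₀, map_one]
    | add x y hx hy => exact add_mem hx hy
  have hq : IsReduced (AdjoinRoot (X ^ e - C (c' : kB ⊗[k] Ω)) ⧸ RingHom.ker Φ) :=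
    isReduced_quotient_of_krullDimLE_zero _
  let q := RingHom.quotientKerEquivOfSurjective hΦ
  rw [Algebra.isGeometricallyReduced_field_iff]
  exact isReduced_of_injective q.symm q.symm.injective

end Groth.Agent.Lib.Seat10.Tower
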