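import Groth.Agent.Lib.Seat10TowerJ
import Groth.Agent.Lib.Seat10TowerS

/-!
# Abhyankar's lemma: the abstract local statement (Seat 10)

Local rings `A → B`, `A → V` and a DVR `W` receiving `B` and `V` compatibly, with `m_B = (πB)`,
`m_V = (π₁)`, `κ(V)/κ(A)` algebraic, `κ(B)/κ(A)` geometrically reduced, every element of `W`
a quotient of elements of the image of `B ⊗[A] V`, and a unit `w` of `W` with
`πB w = π₁ ^ d` (`d ≥ 1`), `u₁ w ^ e = u` for units `u` of `B`, `u₁` of `V` and `e` invertible in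
`κ(A)`.  Then `m_V W = m_W` and `κ(W)/κ(V)` is geometrically reduced.
-/

set_option autoImplicit false

universe u

namespace Groth.Agent.Lib.Seat10.Tower

open IsLocalRing TensorProduct Polynomial

section KummerQuot

variable {T : Type*} [CommRing T] (I₀ : Ideal T) [IsReduced (T ⧸ I₀)] [Ring.KrullDimLE 0 (T ⧸ I₀)]
  (c₀ : Tˣ) {e : ℕ} (he0 : e ≠ 0) (he : IsUnit ((e : ℕ) : T ⧸ I₀))

include he0 he

theorem isReduced_and_krullDimLE_zero_kummer_quot :
    IsReduced (AdjoinRoot (X ^ e - C (c₀ : T)) ⧸ I₀.map (AdjoinRoot.of (X ^ e - C (c₀ : T)))) ∧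
      Ring.KrullDimLE 0
        (AdjoinRoot (X ^ e - C (c₀ : T)) ⧸ I₀.map (AdjoinRoot.of (X ^ e - C (c₀ : T)))) := by
  let cbar : (T ⧸ I₀)ˣ := Units.map (Ideal.Quotient.mk I₀).toMonoidHom c₀
  have hmap : (X ^ e - C (c₀ : T)).map (Ideal.Quotient.mk I₀) = X ^ e - C (cbar : T ⧸ I₀) := by
    rw [Polynomial.map_sub, Polynomial.map_pow, Polynomial.map_X, Polynomial.map_C]
    rfl
  have h1 : IsReduced (AdjoinRoot ((X ^ e - C (c₀ : T)).map (Ideal.Quotient.mk I₀))) := by
    rw [hmap]
    exact isReduced_kummer cbar he0 he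
  have h2 : Ring.KrullDimLE 0 (AdjoinRoot ((X ^ e - C (c₀ : T)).map (Ideal.Quotient.mk I₀))) := by
    rw [hmap]
    exact krullDimLE_zero_kummer _ he0
  let q := AdjoinRoot.quotAdjoinRootEquivQuotPolynomialQuot I₀ (X ^ e - C (c₀ : T))
  have h1' : IsReduced ((T ⧸ I₀)[X] ⧸
      Ideal.span ({(X ^ e - C (c₀ : T)).map (Ideal.Quotient.mk I₀)} : Set (T ⧸ I₀)[X])) := h1
  have h2' : Ring.KrullDimLE 0 ((T ⧸ I₀)[X] ⧸
      Ideal.span ({(X ^ e - C (c₀ : T)).map (Ideal.Quotient.mk I₀)} : Set (T ⧸ I₀)[X])) := h2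
  exact ⟨isReduced_of_injective q q.injective,
    krullDimLE_zero_of_surjective q.symm q.symm.surjective⟩

end KummerQuot

section Main

variable {A B V W : Type u} [CommRing A] [IsLocalRing A] [CommRing B] [IsLocalRing B]
  [CommRing V] [IsLocalRing V] [CommRing W] [IsDomain W] [IsDiscreteValuationRing W]
  [Algebra A B] [Algebra A V] [Algebra A W] [Algebra B W] [Algebra V W]
  [IsScalarTower A B W] [IsScalarTower A V W]
  [IsLocalHom (algebraMap A B)] [IsLocalHom (algebraMap A V)] [IsLocalHom (algebraMap B W)]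
  [IsLocalHom (algebraMap V W)] [IsLocalHom (algebraMap A W)]

omit [IsLocalRing A] [IsLocalHom (algebraMap A V)] [IsLocalHom (algebraMap A B)] in
theorem ker_redMap_le_pair (πB : B) (hπB : maximalIdeal B = Ideal.span {πB})
    (π₁ : V) (hπ₁ : maximalIdeal V = Ideal.span {π₁}) :
    RingHom.ker (redMap (A := A) (B := B) (V := V)) ≤
      Ideal.span {πB ⊗ₜ[A] (1 : V), (1 : B) ⊗ₜ[A] π₁} := by
  have h1 : RingHom.ker (IsScalarTower.toAlgHom A B (ResidueField B)) = maximalIdeal B :=
    IsLocalRing.ker_residue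
  have h2 : RingHom.ker (IsScalarTower.toAlgHom A V (ResidueField V)) = maximalIdeal V :=
    IsLocalRing.ker_residue
  unfold redMap
  rw [Algebra.TensorProduct.map_ker _ _ IsLocalRing.residue_surjective
    IsLocalRing.residue_surjective, h1, h2, hπB, hπ₁, Ideal.map_span, Ideal.map_span,
    Set.image_singleton, Set.image_singleton, ← Ideal.span_union]
  apply le_of_eq
  congr 1

section Data

variable (u : Bˣ) (u₁ : Vˣ) (e : ℕ)

variable (A) in
/-- the unit `u ⊗ u₁⁻¹` of `B ⊗[A] V` -/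
noncomputable def cT : (B ⊗[A] V)ˣ :=
  ⟨(u : B) ⊗ₜ[A] ((u₁⁻¹ : Vˣ) : V), ((u⁻¹ : Bˣ) : B) ⊗ₜ[A] (u₁ : V), by
    rw [Algebra.TensorProduct.tmul_mul_tmul, Units.mul_inv, Units.inv_mul]; rfl, by
    rw [Algebra.TensorProduct.tmul_mul_tmul, Units.inv_mul, Units.mul_inv]; rfl⟩

variable (A) in
/-- the Kummer polynomial `X ^ e - u ⊗ u₁⁻¹` -/
noncomputable def gT : (B ⊗[A] V)[X] := X ^ e - C ((cT A u u₁ : (B ⊗[A] V)ˣ) : B ⊗[A] V)

variable (w : Wˣ) (hu : algebraMap V W u₁ * (w : W) ^ e = algebraMap B W u)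

include hu in
omit [IsLocalRing A] [IsLocalRing B] [IsLocalRing V] [IsDomain W] [IsDiscreteValuationRing W]
  [IsLocalHom (algebraMap A B)] [IsLocalHom (algebraMap A V)] [IsLocalHom (algebraMap B W)]
  [IsLocalHom (algebraMap V W)] [IsLocalHom (algebraMap A W)] in
theorem pow_eq_of_hu : (w : W) ^ e = algebraMap B W u * algebraMap V W ((u₁⁻¹ : Vˣ) : V) := by
  rw [← hu]
  have : algebraMap V W (u₁ : V) * algebraMap V W ((u₁⁻¹ : Vˣ) : V) = 1 := by
    rw [← map_mul, Units.mul_inv, map_one]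
  calc (w : W) ^ e = (algebraMap V W (u₁ : V) * algebraMap V W ((u₁⁻¹ : Vˣ) : V)) * (w : W) ^ e := by
        rw [this, one_mul]
    _ = _ := by ring

include hu in
omit [IsLocalRing A] [IsLocalRing B] [IsLocalRing V] [IsDomain W] [IsDiscreteValuationRing W]
  [IsLocalHom (algebraMap A B)] [IsLocalHom (algebraMap A V)] [IsLocalHom (algebraMap B W)]
  [IsLocalHom (algebraMap V W)] [IsLocalHom (algebraMap A W)] in
theorem eval₂_gT : (gT A u u₁ e).eval₂ (rho A B V W).toRingHom (w : W) = 0 := by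
  unfold gT
  rw [eval₂_sub, eval₂_pow, eval₂_X, eval₂_C, pow_eq_of_hu u u₁ e w hu]
  show _ - rho A B V W ((u : B) ⊗ₜ[A] ((u₁⁻¹ : Vˣ) : V)) = 0
  simp [rho]

variable (A) in
/-- the map `(B ⊗[A] V)[X]/(X ^ e - u ⊗ u₁⁻¹) → W` -/
noncomputable def rhoK : AdjoinRoot (gT A u u₁ e) →+* W :=
  AdjoinRoot.lift (rho A B V W).toRingHom (w : W) (eval₂_gT u u₁ e w hu)

omit [IsLocalRing A] [IsLocalRing B] [IsLocalRing V] [IsDomain W] [IsDiscreteValuationRing W]
  [IsLocalHom (algebraMap A B)] [IsLocalHom (algebraMap A V)] [IsLocalHom (algebraMap B W)]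
  [IsLocalHom (algebraMap V W)] [IsLocalHom (algebraMap A W)] in
theorem rhoK_of (t : B ⊗[A] V) : rhoK A u u₁ e w hu (AdjoinRoot.of _ t) = rho A B V W t :=
  AdjoinRoot.lift_of (eval₂_gT u u₁ e w hu)

omit [IsLocalRing A] [IsLocalRing B] [IsLocalRing V] [IsDomain W] [IsDiscreteValuationRing W]
  [IsLocalHom (algebraMap A B)] [IsLocalHom (algebraMap A V)] [IsLocalHom (algebraMap B W)]
  [IsLocalHom (algebraMap V W)] [IsLocalHom (algebraMap A W)] in
theorem rhoK_root : rhoK A u u₁ e w hu (AdjoinRoot.root _) = (w : W) :=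
  AdjoinRoot.lift_root (eval₂_gT u u₁ e w hu)

section Concl

variable (πB : B) (hπB : maximalIdeal B = Ideal.span {πB})
  (π₁ : V) (hπ₁ : maximalIdeal V = Ideal.span {π₁}) (hπ₁0 : algebraMap V W π₁ ≠ 0)
  [Algebra.IsAlgebraic (ResidueField A) (ResidueField V)]
  [Algebra.IsGeometricallyReduced (ResidueField A) (ResidueField B)]
  (he : ((e : ℕ) : ResidueField A) ≠ 0) (d : ℕ) (hd : d ≠ 0)
  (hw : algebraMap B W πB * (w : W) = (algebraMap V W π₁) ^ d)
  (hgen : ∀ w : W, ∃ x y : B ⊗[A] V, rho A B V W y ≠ 0 ∧ w * rho A B V W y = rho A B V W x)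

include hπB hπ₁ he hd hw

omit [IsLocalHom (algebraMap B W)] [IsLocalHom (algebraMap A W)] in
theorem rhoK_star (x : AdjoinRoot (gT A u u₁ e))
    (hx : rhoK A u u₁ e w hu x ∈ maximalIdeal W) :
    ∃ s z : AdjoinRoot (gT A u u₁ e), IsUnit (rhoK A u u₁ e w hu s) ∧
      rhoK A u u₁ e w hu (s * x) =
        rhoK A u u₁ e w hu (z * AdjoinRoot.of _ ((1 : B) ⊗ₜ[A] π₁)) := by
  have he0 : e ≠ 0 := by
    rintro rfl
    exact he Nat.cast_zero
  obtain ⟨hred, hdim⟩ := isReduced_and_krullDimLE_zero (A := A) (B := B) (V := V)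
  set I₀ := RingHom.ker (redMap (A := A) (B := B) (V := V)).toRingHom with hI₀
  let qE : (B ⊗[A] V) ⧸ I₀ ≃+* ResidueField B ⊗[A] ResidueField V :=
    RingHom.quotientKerEquivOfSurjective (f := (redMap (A := A) (B := B) (V := V)).toRingHom)
      redMap_surjective
  have hredT : IsReduced ((B ⊗[A] V) ⧸ I₀) := isReduced_of_injective qE qE.injective
  have hdimT : Ring.KrullDimLE 0 ((B ⊗[A] V) ⧸ I₀) :=
    krullDimLE_zero_of_surjective qE.symm qE.symm.surjective
  have heu : IsUnit ((e : ℕ) : (B ⊗[A] V) ⧸ I₀) := by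
    have h1 : IsUnit ((e : ℕ) : ResidueField B ⊗[A] ResidueField V) := by
      have : ((e : ℕ) : ResidueField B ⊗[A] ResidueField V) =
          algebraMap (ResidueField B) (ResidueField B ⊗[A] ResidueField V)
            (algebraMap (ResidueField A) (ResidueField B) ((e : ℕ) : ResidueField A)) := by
        rw [map_natCast, map_natCast]
      rw [this]
      exact ((IsUnit.mk0 _ he).map _).map _
    have : ((e : ℕ) : (B ⊗[A] V) ⧸ I₀) =
        qE.symm ((e : ℕ) : ResidueField B ⊗[A] ResidueField V) := (map_natCast _ e).symm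
    rw [this]
    exact h1.map _
  obtain ⟨hredQ, hdimQ⟩ := isReduced_and_krullDimLE_zero_kummer_quot I₀ (cT A u u₁) he0 heu
  have hredQ' : IsReduced (AdjoinRoot (gT A u u₁ e) ⧸ I₀.map (AdjoinRoot.of (gT A u u₁ e))) :=
    hredQ
  have hdimQ' : Ring.KrullDimLE 0
      (AdjoinRoot (gT A u u₁ e) ⧸ I₀.map (AdjoinRoot.of (gT A u u₁ e))) := hdimQ
  set ρ' := rhoK A u u₁ e w hu with hρ'
  set p : AdjoinRoot (gT A u u₁ e) := AdjoinRoot.of _ ((1 : B) ⊗ₜ[A] π₁) with hp_def
  set q : AdjoinRoot (gT A u u₁ e) := AdjoinRoot.of _ (πB ⊗ₜ[A] (1 : V)) with hq_def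
  have hρp : ρ' p = algebraMap V W π₁ := by
    rw [hρ', hp_def, rhoK_of]
    simp [rho]
  have hρq : ρ' q = algebraMap B W πB := by
    rw [hρ', hq_def, rhoK_of]
    simp [rho]
  have hπm : π₁ ∈ maximalIdeal V := hπ₁ ▸ Ideal.mem_span_singleton_self π₁
  have hpm : ρ' p ∈ maximalIdeal W := by
    rw [hρp, IsLocalRing.mem_maximalIdeal, mem_nonunits_iff]
    rw [IsLocalRing.mem_maximalIdeal, mem_nonunits_iff] at hπm
    exact fun h => hπm (isUnit_of_map_unit (algebraMap V W) π₁ h)
  -- `q` is a multiple of `p` in `W`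
  set winv : AdjoinRoot (gT A u u₁ e) :=
    AdjoinRoot.root _ ^ (e - 1) * AdjoinRoot.of _ (((u⁻¹ : Bˣ) : B) ⊗ₜ[A] (u₁ : V)) with hwinv
  have hρwinv : (w : W) * ρ' winv = 1 := by
    have h1 : ρ' winv = (w : W) ^ (e - 1) *
        (algebraMap B W ((u⁻¹ : Bˣ) : B) * algebraMap V W (u₁ : V)) := by
      rw [hwinv, map_mul, map_pow, hρ', rhoK_root, rhoK_of]
      simp [rho]
    have h2 : algebraMap B W (u : B) * algebraMap B W ((u⁻¹ : Bˣ) : B) = 1 := by
      rw [← map_mul, Units.mul_inv, map_one]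
    have h3 : algebraMap V W ((u₁⁻¹ : Vˣ) : V) * algebraMap V W (u₁ : V) = 1 := by
      rw [← map_mul, Units.inv_mul, map_one]
    calc (w : W) * ρ' winv = ((w : W) ^ (e - 1) * (w : W)) *
          (algebraMap B W ((u⁻¹ : Bˣ) : B) * algebraMap V W (u₁ : V)) := by rw [h1]; ring
      _ = (algebraMap B W u * algebraMap V W ((u₁⁻¹ : Vˣ) : V)) *
          (algebraMap B W ((u⁻¹ : Bˣ) : B) * algebraMap V W (u₁ : V)) := by
        rw [pow_sub_one_mul he0, pow_eq_of_hu u u₁ e w hu]
      _ = (algebraMap B W (u : B) * algebraMap B W ((u⁻¹ : Bˣ) : B)) *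
          (algebraMap V W ((u₁⁻¹ : Vˣ) : V) * algebraMap V W (u₁ : V)) := by ring
      _ = 1 := by rw [h2, h3, one_mul]
  have hq : ρ' q = ρ' (p ^ (d - 1) * winv * p) := by
    rw [hρq, map_mul, map_mul, map_pow, hρp]
    calc algebraMap B W πB = algebraMap B W πB * ((w : W) * ρ' winv) := by rw [hρwinv, mul_one]
      _ = (algebraMap B W πB * (w : W)) * ρ' winv := by ring
      _ = (algebraMap V W π₁ ^ (d - 1) * algebraMap V W π₁) * ρ' winv := by
        rw [hw, pow_sub_one_mul hd]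
      _ = _ := by ring
  have hker : ∀ y ∈ RingHom.ker (Ideal.Quotient.mk (I₀.map (AdjoinRoot.of (gT A u u₁ e)))),
      ∃ z, ρ' y = ρ' (z * p) := by
    intro y hy
    rw [Ideal.mk_ker] at hy
    have hle : I₀.map (AdjoinRoot.of (gT A u u₁ e)) ≤ Ideal.span {q, p} := by
      have h1 : I₀ ≤ Ideal.span {πB ⊗ₜ[A] (1 : V), (1 : B) ⊗ₜ[A] π₁} :=
        ker_redMap_le_pair πB hπB π₁ hπ₁
      refine (Ideal.map_mono h1).trans ?_
      rw [Ideal.map_span, Set.image_pair]
    obtain ⟨a, b, hab⟩ := Ideal.mem_span_pair.mp (hle hy)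
    refine ⟨a * (p ^ (d - 1) * winv) + b, ?_⟩
    rw [← hab, map_add, map_mul, hq]
    simp only [map_add, map_mul]
    ring
  exact exists_unit_mul_eq ρ' (Ideal.Quotient.mk (I₀.map (AdjoinRoot.of (gT A u u₁ e))))
    Ideal.Quotient.mk_surjective p hpm hker x hx

include hπ₁0 hgen hu

/-- Abhyankar's lemma, abstract local form. -/
theorem abhyankar_abstract :
    (maximalIdeal V).map (algebraMap V W) = maximalIdeal W ∧
      Algebra.IsGeometricallyReduced (ResidueField V) (ResidueField W) := by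
  have he0 : e ≠ 0 := by
    rintro rfl
    exact he Nat.cast_zero
  set ρ' := rhoK A u u₁ e w hu with hρ'
  set p : AdjoinRoot (gT A u u₁ e) := AdjoinRoot.of _ ((1 : B) ⊗ₜ[A] π₁) with hp_def
  have hρp : ρ' p = algebraMap V W π₁ := by
    rw [hρ', hp_def, rhoK_of]
    simp [rho]
  have hπm : π₁ ∈ maximalIdeal V := hπ₁ ▸ Ideal.mem_span_singleton_self π₁
  have hpm : ρ' p ∈ maximalIdeal W := by
    rw [hρp, IsLocalRing.mem_maximalIdeal, mem_nonunits_iff]
    rw [IsLocalRing.mem_maximalIdeal, mem_nonunits_iff] at hπm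
    exact fun h => hπm (isUnit_of_map_unit (algebraMap V W) π₁ h)
  have hp0 : ρ' p ≠ 0 := by rw [hρp]; exact hπ₁0
  -- the quotient by the kernel
  let ρ'' : AdjoinRoot (gT A u u₁ e) ⧸ RingHom.ker ρ' →+* W := RingHom.kerLift ρ'
  have hρ''mk : ∀ x, ρ'' (Ideal.Quotient.mk _ x) = ρ' x := fun x => RingHom.kerLift_mk ρ' x
  have hstar : ∀ x : AdjoinRoot (gT A u u₁ e) ⧸ RingHom.ker ρ', ρ'' x ∈ maximalIdeal W →
      ∃ s : AdjoinRoot (gT A u u₁ e) ⧸ RingHom.ker ρ', IsUnit (ρ'' s) ∧
        s * x ∈ Ideal.span {Ideal.Quotient.mk (RingHom.ker ρ') p} := by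
    intro x hx
    obtain ⟨x, rfl⟩ := Ideal.Quotient.mk_surjective x
    rw [hρ''mk] at hx
    obtain ⟨s, z, hs, hsz⟩ := rhoK_star u u₁ e w hu πB hπB π₁ hπ₁ he d hd hw x hx
    refine ⟨Ideal.Quotient.mk _ s, by rw [hρ''mk]; exact hs, ?_⟩
    rw [Ideal.mem_span_singleton']
    refine ⟨Ideal.Quotient.mk _ z, ?_⟩
    rw [← map_mul, ← map_mul, Ideal.Quotient.eq, RingHom.mem_ker, map_sub, hsz, sub_self]
  have hgen'' : ∀ w' : W, ∃ x y : AdjoinRoot (gT A u u₁ e) ⧸ RingHom.ker ρ',
      ρ'' y ≠ 0 ∧ w' * ρ'' y = ρ'' x := by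
    intro w'
    obtain ⟨x, y, hy, hxy⟩ := hgen w'
    refine ⟨Ideal.Quotient.mk _ (AdjoinRoot.of _ x), Ideal.Quotient.mk _ (AdjoinRoot.of _ y),
      ?_, ?_⟩
    · rw [hρ''mk, hρ', rhoK_of]; exact hy
    · rw [hρ''mk, hρ''mk, hρ', rhoK_of, rhoK_of]; exact hxy
  have hpm'' : ρ'' (Ideal.Quotient.mk (RingHom.ker ρ') p) ∈ maximalIdeal W := by
    rw [hρ''mk]; exact hpm
  have hp0'' : ρ'' (Ideal.Quotient.mk (RingHom.ker ρ') p) ≠ 0 := by
    rw [hρ''mk]; exact hp0
  have hmax := maximalIdeal_eq_span ρ'' (Ideal.Quotient.mk (RingHom.ker ρ') p) hpm'' hp0'' hstar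
    hgen''
  have hden := exists_unit_denominator ρ'' (Ideal.Quotient.mk (RingHom.ker ρ') p) hpm'' hp0'' hstar
    hgen''
  refine ⟨?_, ?_⟩
  · rw [hmax, hρ''mk, hρp, hπ₁, Ideal.map_span, Set.image_singleton]
  · have ha : residue B (u : B) ≠ 0 := (u.isUnit.map (residue B)).ne_zero
    have hb : residue V (u₁ : V) ≠ 0 := (u₁.isUnit.map (residue V)).ne_zero
    have hz : algebraMap (ResidueField V) (ResidueField W) (residue V (u₁ : V)) *
        (residue W (w : W)) ^ e = algebraMap (ResidueField B) (ResidueField W) (residue B u) := by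
      have := congrArg (residue W) hu
      rw [map_mul, map_pow] at this
      exact this
    apply isGeometricallyReduced_of_generated_kummer (k := ResidueField A) (kB := ResidueField B)
      he (residue W (w : W)) (residue B (u : B)) (residue V (u₁ : V)) ha hb hz
    have hintV : ∀ x ∈ Set.range (algebraMap (ResidueField V) (ResidueField W)),
        IsIntegral (ResidueField B) x := by
      rintro _ ⟨v, rfl⟩
      have h1 : IsIntegral (ResidueField A) v := Algebra.IsIntegral.isIntegral v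
      have h2 : IsIntegral (ResidueField A) (algebraMap (ResidueField V) (ResidueField W) v) :=
        h1.algebraMap
      exact h2.tower_top
    have hzint : IsIntegral (ResidueField B) (residue W (w : W)) := by
      apply IsIntegral.of_pow (Nat.pos_of_ne_zero he0)
      have h1 : residue W (w : W) ^ e =
          algebraMap (ResidueField B) (ResidueField W) (residue B u) *
            algebraMap (ResidueField V) (ResidueField W) (residue V ((u₁⁻¹ : Vˣ) : V)) := by
        have := congrArg (residue W) (pow_eq_of_hu u u₁ e w hu)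
        rw [map_pow, map_mul] at this
        exact this
      rw [h1]
      exact isIntegral_algebraMap.mul (hintV _ ⟨_, rfl⟩)
    have hCint : Algebra.IsIntegral (ResidueField B)
        (Algebra.adjoin (ResidueField B)
          (Set.range (algebraMap (ResidueField V) (ResidueField W)) ∪ {residue W (w : W)})) := by
      apply Algebra.IsIntegral.adjoin
      rintro x (hx | hx)
      · exact hintV x hx
      · rw [Set.mem_singleton_iff.mp hx]; exact hzint
    have hres₀ : ∀ t : B ⊗[A] V, residue W (rho A B V W t) ∈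
        Algebra.adjoin (ResidueField B)
          (Set.range (algebraMap (ResidueField V) (ResidueField W)) ∪ {residue W (w : W)}) := by
      intro t
      induction t using TensorProduct.induction_on with
      | zero => rw [map_zero, map_zero]; exact zero_mem _
      | tmul b v =>
        have : rho A B V W (b ⊗ₜ[A] v) = algebraMap B W b * algebraMap V W v := by simp [rho]
        rw [this, map_mul]
        refine mul_mem ?_ ?_
        · have : residue W (algebraMap B W b) =
              algebraMap (ResidueField B) (ResidueField W) (residue B b) := rfl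
          rw [this]
          exact Subalgebra.algebraMap_mem _ _
        · have : residue W (algebraMap V W v) =
              algebraMap (ResidueField V) (ResidueField W) (residue V v) := rfl
          rw [this]
          exact Algebra.subset_adjoin (Or.inl ⟨_, rfl⟩)
      | add x y hx hy => rw [map_add, map_add]; exact add_mem hx hy
    have hres : ∀ x : AdjoinRoot (gT A u u₁ e), residue W (ρ' x) ∈
        Algebra.adjoin (ResidueField B)
          (Set.range (algebraMap (ResidueField V) (ResidueField W)) ∪ {residue W (w : W)}) := by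
      intro x
      have hx : x ∈ Algebra.adjoin (B ⊗[A] V) {AdjoinRoot.root (gT A u u₁ e)} := by
        rw [AdjoinRoot.adjoinRoot_eq_top]; trivial
      induction hx using Algebra.adjoin_induction with
      | mem x hx =>
        rw [Set.mem_singleton_iff.mp hx, hρ', rhoK_root]
        exact Algebra.subset_adjoin (Or.inr rfl)
      | algebraMap t =>
        rw [AdjoinRoot.algebraMap_eq, hρ', rhoK_of]
        exact hres₀ t
      | add x y _ _ hx hy => rw [map_add, map_add]; exact add_mem hx hy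
      | mul x y _ _ hx hy => rw [map_mul, map_mul]; exact mul_mem hx hy
    rw [eq_top_iff]
    intro wbar _
    obtain ⟨w', rfl⟩ := IsLocalRing.residue_surjective wbar
    obtain ⟨x, s, hs, hws⟩ := hden w'
    obtain ⟨x, rfl⟩ := Ideal.Quotient.mk_surjective x
    obtain ⟨s, rfl⟩ := Ideal.Quotient.mk_surjective s
    rw [hρ''mk] at hs
    rw [hρ''mk, hρ''mk] at hws
    have hs' : IsUnit (residue W (ρ' s)) := hs.map (residue W)
    have h1 : residue W w' = residue W (ρ' x) * (residue W (ρ' s))⁻¹ := by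
      have h2 := congrArg (residue W) hws
      rw [map_mul] at h2
      rw [eq_mul_inv_iff_mul_eq₀ hs'.ne_zero]
      exact h2
    rw [h1]
    refine mul_mem (hres x) ?_
    have halg : IsAlgebraic (ResidueField B) (residue W (ρ' s)) :=
      (hCint.isIntegral ⟨_, hres s⟩).isAlgebraic.algebraMap (A := ResidueField W)
    exact Subalgebra.inv_mem_of_algebraic _ (x := ⟨_, hres s⟩) halg

end Concl

end Data

end Main

end Groth.Agent.Lib.Seat10.Tower
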