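import Groth.Agent.Lib.Seat10TowerH
import Groth.Agent.Lib.Seat10TowerT
import Groth.Agent.Lib.Seat10TowerU

/-!
# Abhyankar's lemma for extensions of discrete valuation rings (Seat 10)

`abhyankar`: assembly of `Seat10TowerH` (the valuation rings are DVRs, the residue extension is
algebraic), `Seat10TowerU` (the unit `w`) and `Seat10TowerT` (the abstract local statement).
-/

set_option autoImplicit false

universe u

namespace Groth.Agent.Lib.Seat10.Tower

open EtRam IsLocalRing TensorProduct Groth.Agent.Lib.Seat10.ValDom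

theorem abhyankar (A B K L : Type u) [CommRing A] [IsDomain A] [IsDiscreteValuationRing A]
    [CommRing B] [IsDomain B] [IsDiscreteValuationRing B] [Algebra A B] [IsLocalHom (algebraMap A B)]
    (hinj : Function.Injective (algebraMap A B))
    [Field K] [Field L] [Algebra A K] [IsFractionRing A K] [Algebra B L] [IsFractionRing B L]
    [Algebra K L] [Algebra A L] [IsScalarTower A K L] [IsScalarTower A B L]
    (htame : CharZero (IsLocalRing.ResidueField A) ∨
      ∃ p : ℕ, p.Prime ∧ CharP (IsLocalRing.ResidueField A) p ∧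
        ¬ p ∣ Ideal.ramificationIdx' (IsLocalRing.maximalIdeal A) (IsLocalRing.maximalIdeal B) ∧
        Algebra.IsGeometricallyReduced (IsLocalRing.ResidueField A) (IsLocalRing.ResidueField B))
    (K₁ : Type u) [Field K₁] [Algebra K K₁] [FiniteDimensional K K₁] :
    EtRam.ForallLocalExt B K L K₁ (fun M _ W f =>
      ∀ hA : ∀ a : A, (algebraMap K K₁) (algebraMap A K a) ∈ W.comap f,
        letI : Algebra A (W.comap f) := (RingHom.codRestrict ((algebraMap K K₁).comp (algebraMap A K)) (W.comap f) hA).toAlgebra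
        letI : Algebra (W.comap f) W := (EtRam.inclOfComap W f).toAlgebra
        Ideal.ramificationIdx' (IsLocalRing.maximalIdeal A) (IsLocalRing.maximalIdeal B) ∣
          Ideal.ramificationIdx' (IsLocalRing.maximalIdeal A) (IsLocalRing.maximalIdeal (W.comap f)) →
        EtRam.IsWeaklyUnramified (W.comap f) W ∧
          @Algebra.IsGeometricallyReduced (IsLocalRing.ResidueField (W.comap f)) (IsLocalRing.ResidueField W) _ _
            (IsLocalRing.ResidueField.map (EtRam.inclOfComap W f)).toAlgebra) := by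
  intro M _ _ _ _ _ _ hadj W hW hA hdvd
  -- compatibility of the two maps `A → M`
  have hcompat : ∀ a : A, algebraMap K₁ M (algebraMap K K₁ (algebraMap A K a)) =
      algebraMap L M (algebraMap B L (algebraMap A B a)) := by
    intro a
    rw [← IsScalarTower.algebraMap_apply K K₁ M, IsScalarTower.algebraMap_apply K L M,
      ← IsScalarTower.algebraMap_apply A K L, ← IsScalarTower.algebraMap_apply A B L]
  have hdomV : Dominates A ((algebraMap K K₁).comp (algebraMap A K))
      (W.comap (algebraMap K₁ M)) := by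
    rw [← dominates_comp_iff]
    refine ⟨fun a => ?_, fun a ha => ?_⟩
    · simp only [RingHom.comp_apply]
      rw [hcompat]
      exact hW.1 _
    · simp only [RingHom.comp_apply]
      rw [hcompat]
      apply hW.2
      rw [IsLocalRing.mem_maximalIdeal, mem_nonunits_iff] at ha ⊢
      exact fun h => ha (isUnit_of_map_unit (algebraMap A B) a h)
  have hV_dvr : IsDiscreteValuationRing (W.comap (algebraMap K₁ M)) :=
    isDiscreteValuationRing_of_dominates_finite A K _ hdomV
  have hfinLM : FiniteDimensional L M := finiteDimensional_of_adjoin_eq_top K hadj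
  have hW_dvr : IsDiscreteValuationRing W := isDiscreteValuationRing_of_dominates_finite B L W hW
  -- algebra structures
  let _ : Algebra A (W.comap (algebraMap K₁ M)) :=
    (RingHom.codRestrict ((algebraMap K K₁).comp (algebraMap A K)) (W.comap (algebraMap K₁ M))
      hA).toAlgebra
  let _ : Algebra B W := (toVal hW).toAlgebra
  let _ : Algebra (W.comap (algebraMap K₁ M)) W := (inclOfComap W (algebraMap K₁ M)).toAlgebra
  let _ : Algebra A W := ((algebraMap B W).comp (algebraMap A B)).toAlgebra
  have : IsScalarTower A B W := IsScalarTower.of_algebraMap_eq (fun _ => rfl)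
  have : IsScalarTower A (W.comap (algebraMap K₁ M)) W :=
    IsScalarTower.of_algebraMap_eq (fun a => Subtype.ext (hcompat a).symm)
  have : IsLocalHom (algebraMap A (W.comap (algebraMap K₁ M))) := isLocalHom_toVal hdomV
  have : IsLocalHom (algebraMap B W) := isLocalHom_toVal hW
  have : IsLocalHom (algebraMap (W.comap (algebraMap K₁ M)) W) :=
    isLocalHom_inclOfComap W (algebraMap K₁ M)
  have : IsLocalHom (algebraMap A W) :=
    RingHom.isLocalHom_comp (algebraMap B W) (algebraMap A B)
  -- algebraicity of the residue field extension of `A → W ∩ K₁`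
  have hinjAK₁ : Function.Injective ((algebraMap K K₁).comp (algebraMap A K)) :=
    (algebraMap K K₁).injective.comp (IsFractionRing.injective A K)
  have hinjAV : Function.Injective (algebraMap A (W.comap (algebraMap K₁ M))) := by
    intro a a' h
    exact hinjAK₁ (congrArg Subtype.val h)
  have halgAV : Algebra.IsAlgebraic A (W.comap (algebraMap K₁ M)) := by
    let _ : Algebra A K₁ := ((algebraMap K K₁).comp (algebraMap A K)).toAlgebra
    have : IsScalarTower A K K₁ := IsScalarTower.of_algebraMap_eq (fun _ => rfl)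
    have : IsScalarTower A (W.comap (algebraMap K₁ M)) K₁ :=
      IsScalarTower.of_algebraMap_eq (fun _ => rfl)
    refine ⟨fun v => ?_⟩
    have h1 : IsAlgebraic K (v : K₁) := Algebra.IsAlgebraic.isAlgebraic _
    have h2 : IsAlgebraic A (algebraMap (W.comap (algebraMap K₁ M)) K₁ v) :=
      (IsFractionRing.isAlgebraic_iff A K K₁).mpr h1
    exact (isAlgebraic_algebraMap_iff Subtype.val_injective).mp h2
  have hresalg : Algebra.IsAlgebraic (ResidueField A)
      (ResidueField (W.comap (algebraMap K₁ M))) :=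
    isAlgebraic_residueField_of_isAlgebraic hinjAV
  -- uniformizers
  obtain ⟨π, hπirr⟩ := IsDiscreteValuationRing.exists_irreducible A
  obtain ⟨πB, hπBirr⟩ := IsDiscreteValuationRing.exists_irreducible B
  obtain ⟨π₁, hπ₁irr⟩ := IsDiscreteValuationRing.exists_irreducible (W.comap (algebraMap K₁ M))
  have hπ := hπirr.maximalIdeal_eq
  have hπB := hπBirr.maximalIdeal_eq
  have hπ₁ := hπ₁irr.maximalIdeal_eq
  have hπ₁0 : algebraMap (W.comap (algebraMap K₁ M)) W π₁ ≠ 0 := by
    intro h0
    have h1 : algebraMap K₁ M (π₁ : K₁) = 0 := congrArg Subtype.val h0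
    rw [map_eq_zero] at h1
    exact hπ₁irr.ne_zero (Subtype.ext h1)
  have hπB0 : algebraMap B W πB ≠ 0 := by
    intro h0
    have h1 : algebraMap L M (algebraMap B L πB) = 0 := congrArg Subtype.val h0
    rw [map_eq_zero] at h1
    exact hπBirr.ne_zero (IsFractionRing.injective B L (by rw [h1, map_zero]))
  -- factorizations of the uniformizer of `A`
  have hπBne : algebraMap A B π ≠ 0 := fun h => hπirr.ne_zero (hinj (by rw [h, map_zero]))
  have hπVne : algebraMap A (W.comap (algebraMap K₁ M)) π ≠ 0 :=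
    fun h => hπirr.ne_zero (hinjAV (by rw [h, map_zero]))
  obtain ⟨eB, uB, hfB⟩ := IsDiscreteValuationRing.eq_unit_mul_pow_irreducible hπBne hπBirr
  obtain ⟨e₁, u₁, hf₁⟩ := IsDiscreteValuationRing.eq_unit_mul_pow_irreducible hπVne hπ₁irr
  have heB : Ideal.ramificationIdx' (maximalIdeal A) (maximalIdeal B) = eB :=
    ramificationIdx'_eq_of_eq_unit_mul_pow hπ hπB hπBirr.ne_zero hπBirr.not_isUnit uB eB hfB
  have he₁ : Ideal.ramificationIdx' (maximalIdeal A)
      (maximalIdeal (W.comap (algebraMap K₁ M))) = e₁ :=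
    ramificationIdx'_eq_of_eq_unit_mul_pow hπ hπ₁ hπ₁irr.ne_zero hπ₁irr.not_isUnit u₁ e₁ hf₁
  have hdvd' : eB ∣ e₁ := by
    rw [← heB, ← he₁]
    exact hdvd
  have hπnu : ¬ IsUnit π := hπirr.not_isUnit
  have heB0 : eB ≠ 0 := by
    rintro rfl
    rw [pow_zero, mul_one] at hfB
    exact hπnu (isUnit_of_map_unit (algebraMap A B) π (hfB ▸ uB.isUnit))
  have he₁0 : e₁ ≠ 0 := by
    rintro rfl
    rw [pow_zero, mul_one] at hf₁
    exact hπnu (isUnit_of_map_unit (algebraMap A (W.comap (algebraMap K₁ M))) π
      (hf₁ ▸ u₁.isUnit))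
  obtain ⟨d, hd⟩ := hdvd'
  have hd0 : d ≠ 0 := by
    rintro rfl
    exact he₁0 (by rw [hd, mul_zero])
  -- tameness
  have heBk : ((eB : ℕ) : ResidueField A) ≠ 0 := by
    rcases htame with h0 | ⟨p, hp, hchar, hndvd, -⟩
    · exact Nat.cast_ne_zero.mpr heB0
    · rw [heB] at hndvd
      rw [Ne, CharP.cast_eq_zero_iff (ResidueField A) p]
      exact hndvd
  have hGR : Algebra.IsGeometricallyReduced (ResidueField A) (ResidueField B) := by
    rcases htame with h0 | ⟨p, hp, hchar, hndvd, h⟩
    · exact isGeometricallyReduced_of_charZero _ _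
    · exact h
  -- the unit `w`
  have hWeq : (algebraMap (W.comap (algebraMap K₁ M)) W (u₁ : W.comap (algebraMap K₁ M))) *
      (algebraMap (W.comap (algebraMap K₁ M)) W π₁ ^ d) ^ eB =
      (algebraMap B W (uB : B)) * (algebraMap B W πB) ^ eB := by
    have h1 : algebraMap (W.comap (algebraMap K₁ M)) W
        (algebraMap A (W.comap (algebraMap K₁ M)) π) = algebraMap B W (algebraMap A B π) := by
      rw [← IsScalarTower.algebraMap_apply, ← IsScalarTower.algebraMap_apply]
    rw [hf₁, hfB, map_mul, map_mul, map_pow, map_pow, hd] at h1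
    rw [← pow_mul, mul_comm d eB]
    exact h1
  obtain ⟨w, hw1, hw2⟩ := exists_unit_of_mul_pow_eq W
    (algebraMap (W.comap (algebraMap K₁ M)) W π₁ ^ d) (algebraMap B W πB) hπB0
    (Units.map (algebraMap B W).toMonoidHom uB)
    (Units.map (algebraMap (W.comap (algebraMap K₁ M)) W).toMonoidHom u₁) heB0 hWeq
  -- every element of `M` is a quotient of elements coming from `B ⊗ (W ∩ K₁)`
  have hρL : ∀ b : B, ((rho A B (W.comap (algebraMap K₁ M)) W (b ⊗ₜ[A] 1) : W) : M) =
      algebraMap L M (algebraMap B L b) := by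
    intro b
    have : rho A B (W.comap (algebraMap K₁ M)) W (b ⊗ₜ[A] 1) = algebraMap B W b := by
      simp [rho]
    rw [this]
    rfl
  have hρK : ∀ v : W.comap (algebraMap K₁ M),
      ((rho A B (W.comap (algebraMap K₁ M)) W (1 ⊗ₜ[A] v) : W) : M) =
      algebraMap K₁ M (v : K₁) := by
    intro v
    have : rho A B (W.comap (algebraMap K₁ M)) W (1 ⊗ₜ[A] v) =
        algebraMap (W.comap (algebraMap K₁ M)) W v := by
      simp [rho]
    rw [this]
    rfl
  have hgenM : ∀ m : M, ∃ x y : B ⊗[A] (W.comap (algebraMap K₁ M)),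
      rho A B (W.comap (algebraMap K₁ M)) W y ≠ 0 ∧
      m * ((rho A B (W.comap (algebraMap K₁ M)) W y : W) : M) =
        ((rho A B (W.comap (algebraMap K₁ M)) W x : W) : M) := by
    intro m
    have hm : m ∈ Algebra.adjoin L (Set.range (algebraMap K₁ M)) := hadj ▸ Algebra.mem_top
    induction hm using Algebra.adjoin_induction with
    | mem m hm =>
      obtain ⟨k, rfl⟩ := hm
      obtain ⟨v, v', hv', rfl⟩ := IsFractionRing.div_surjective (A := W.comap (algebraMap K₁ M)) k
      have hv'0 : (v' : K₁) ≠ 0 := fun h => nonZeroDivisors.ne_zero hv' (Subtype.ext h)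
      refine ⟨1 ⊗ₜ[A] v, 1 ⊗ₜ[A] v', ?_, ?_⟩
      · intro h0
        have h1 := congrArg Subtype.val h0
        rw [hρK] at h1
        exact hv'0 ((map_eq_zero _).mp h1)
      · rw [hρK, hρK, ← map_mul]
        congr 1
        exact div_mul_cancel₀ _ hv'0
    | algebraMap l =>
      obtain ⟨b, b', hb', rfl⟩ := IsFractionRing.div_surjective (A := B) l
      have hb'0 : algebraMap B L b' ≠ 0 := fun h =>
        nonZeroDivisors.ne_zero hb' (IsFractionRing.injective B L (by rw [h, map_zero]))
      refine ⟨b ⊗ₜ[A] 1, b' ⊗ₜ[A] 1, ?_, ?_⟩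
      · intro h0
        have h1 := congrArg Subtype.val h0
        rw [hρL] at h1
        exact hb'0 ((map_eq_zero _).mp h1)
      · rw [hρL, hρL, ← map_mul]
        congr 1
        exact div_mul_cancel₀ _ hb'0
    | add m m' _ _ hm hm' =>
      obtain ⟨x, y, hy, hxy⟩ := hm
      obtain ⟨x', y', hy', hxy'⟩ := hm'
      refine ⟨x * y' + x' * y, y * y', ?_, ?_⟩
      · rw [map_mul]; exact mul_ne_zero hy hy'
      · simp only [map_mul, map_add, MulMemClass.coe_mul, AddMemClass.coe_add]
        rw [← hxy, ← hxy']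
        ring
    | mul m m' _ _ hm hm' =>
      obtain ⟨x, y, hy, hxy⟩ := hm
      obtain ⟨x', y', hy', hxy'⟩ := hm'
      refine ⟨x * x', y * y', ?_, ?_⟩
      · rw [map_mul]; exact mul_ne_zero hy hy'
      · simp only [map_mul, MulMemClass.coe_mul]
        rw [← hxy, ← hxy']
        ring
  have hgen : ∀ w : W, ∃ x y : B ⊗[A] (W.comap (algebraMap K₁ M)),
      rho A B (W.comap (algebraMap K₁ M)) W y ≠ 0 ∧
      w * rho A B (W.comap (algebraMap K₁ M)) W y = rho A B (W.comap (algebraMap K₁ M)) W x := by
    intro w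
    obtain ⟨x, y, hy, hxy⟩ := hgenM (w : M)
    exact ⟨x, y, hy, Subtype.ext hxy⟩
  obtain ⟨h1, h2⟩ := abhyankar_abstract (A := A) uB u₁ eB w hw2 πB hπB π₁ hπ₁ hπ₁0 heBk d hd0 hw1
    hgen
  refine ⟨h1, ?_⟩
  have heq : (IsLocalRing.ResidueField.instAlgebra :
      Algebra (ResidueField (W.comap (algebraMap K₁ M))) (ResidueField W)) =
      (ResidueField.map (inclOfComap W (algebraMap K₁ M))).toAlgebra := by
    apply Algebra.algebra_ext
    intro r
    obtain ⟨v, rfl⟩ := IsLocalRing.residue_surjective r
    rfl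
  rw [← heq]
  exact h2

end Groth.Agent.Lib.Seat10.Tower
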