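import Groth.Agent.Lib.Seat10TowerT

/-!
# Abhyankar's lemma: the general abstract local statement (Seat 10)

Local rings `A → B`, `A → V` and a DVR `W` receiving `B` and `V` compatibly, with `m_B = (πB)`,
`m_V = (π₁)`, `κ(B) ⊗ κ(V)` reduced and zero-dimensional, every element of `W` a quotient of
elements of the image of `B ⊗[A] V`, a unit `w` of `W` with `u₁ w ^ e = u` for units `u` of `B`,
`u₁` of `V` and `e` invertible in `κ(A)`, and a nonzero element `t` of `m_W` with
`πB w ^ a₁ = t ^ n' w ^ a₂`, `π₁ w ^ b₁ = t ^ m' w ^ b₂` (`n', m' ≥ 1`).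
Then `m_W = (t)` (`maximalIdeal_eq_span_of_kummer`) and `κ(W) = κ(B)[κ(V), w]`
(`adjoin_residue_eq_top_of_kummer`).
-/

set_option autoImplicit false

universe u

namespace Groth.Agent.Lib.Seat10.Tower

open IsLocalRing TensorProduct Polynomial

section Main

variable {A B V W : Type u} [CommRing A] [IsLocalRing A] [CommRing B] [IsLocalRing B]
  [CommRing V] [IsLocalRing V] [CommRing W] [IsDomain W] [IsDiscreteValuationRing W]
  [Algebra A B] [Algebra A V] [Algebra A W] [Algebra B W] [Algebra V W]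
  [IsScalarTower A B W] [IsScalarTower A V W]
  [IsLocalHom (algebraMap A B)] [IsLocalHom (algebraMap A V)] [IsLocalHom (algebraMap B W)]
  [IsLocalHom (algebraMap V W)] [IsLocalHom (algebraMap A W)]
  (u : Bˣ) (u₁ : Vˣ) (e : ℕ) (w : Wˣ) (hu : algebraMap V W u₁ * (w : W) ^ e = algebraMap B W u)
  (t : W)

variable (A) in
/-- the map `((B ⊗[A] V)[X]/(X ^ e - u ⊗ u₁⁻¹))[T] → W`, `X ↦ w`, `T ↦ t` -/
noncomputable def rhoKT : (AdjoinRoot (gT A u u₁ e))[X] →+* W :=
  Polynomial.eval₂RingHom (rhoK A u u₁ e w hu) t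

omit [IsLocalRing A] [IsLocalRing B] [IsLocalRing V] [IsDomain W] [IsDiscreteValuationRing W]
  [IsLocalHom (algebraMap A B)] [IsLocalHom (algebraMap A V)] [IsLocalHom (algebraMap B W)]
  [IsLocalHom (algebraMap V W)] [IsLocalHom (algebraMap A W)] in
theorem rhoKT_C (c : AdjoinRoot (gT A u u₁ e)) :
    rhoKT A u u₁ e w hu t (C c) = rhoK A u u₁ e w hu c := by
  simp [rhoKT]

omit [IsLocalRing A] [IsLocalRing B] [IsLocalRing V] [IsDomain W] [IsDiscreteValuationRing W]
  [IsLocalHom (algebraMap A B)] [IsLocalHom (algebraMap A V)] [IsLocalHom (algebraMap B W)]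
  [IsLocalHom (algebraMap V W)] [IsLocalHom (algebraMap A W)] in
theorem rhoKT_X : rhoKT A u u₁ e w hu t X = t := by
  simp [rhoKT]

section Concl

variable (πB : B) (hπB : maximalIdeal B = Ideal.span {πB})
  (π₁ : V) (hπ₁ : maximalIdeal V = Ideal.span {π₁})
  [IsReduced (ResidueField B ⊗[A] ResidueField V)]
  [Ring.KrullDimLE 0 (ResidueField B ⊗[A] ResidueField V)]
  (he : ((e : ℕ) : ResidueField A) ≠ 0)
  (n' m' a₁ a₂ b₁ b₂ : ℕ) (hn' : n' ≠ 0) (hm' : m' ≠ 0)
  (hB : algebraMap B W πB * (w : W) ^ a₁ = t ^ n' * (w : W) ^ a₂)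
  (hV : algebraMap V W π₁ * (w : W) ^ b₁ = t ^ m' * (w : W) ^ b₂)
  (htm : t ∈ maximalIdeal W) (ht0 : t ≠ 0)
  (hgen : ∀ w : W, ∃ x y : B ⊗[A] V, rho A B V W y ≠ 0 ∧ w * rho A B V W y = rho A B V W x)

include hπB hπ₁ he hn' hm' hB hV htm

omit [IsLocalHom (algebraMap B W)] [IsLocalHom (algebraMap V W)] [IsLocalHom (algebraMap A W)]
  [IsLocalHom (algebraMap A V)] in
theorem rhoKT_star (x : (AdjoinRoot (gT A u u₁ e))[X])
    (hx : rhoKT A u u₁ e w hu t x ∈ maximalIdeal W) :
    ∃ s z : (AdjoinRoot (gT A u u₁ e))[X], IsUnit (rhoKT A u u₁ e w hu t s) ∧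
      rhoKT A u u₁ e w hu t (s * x) = rhoKT A u u₁ e w hu t (z * X) := by
  have he0 : e ≠ 0 := by
    rintro rfl
    exact he Nat.cast_zero
  set I₀ := RingHom.ker (redMap (A := A) (B := B) (V := V)).toRingHom with hI₀
  let qE : (B ⊗[A] V) ⧸ I₀ ≃+* ResidueField B ⊗[A] ResidueField V :=
    RingHom.quotientKerEquivOfSurjective (f := (redMap (A := A) (B := B) (V := V)).toRingHom)
      redMap_surjective
  have hredT : IsReduced ((B ⊗[A] V) ⧸ I₀) := isReduced_of_injective qE qE.injective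
  have hdimT : Ring.KrullDimLE 0 ((B ⊗[A] V) ⧸ I₀) :=
    krullDimLE_zero_of_surjective qE.symm qE.symm.surjective
  have heu : IsUnit ((e : ℕ) : (B ⊗[A] V) ⧸ I₀) := by
    have h1 : IsUnit ((e : ℕ) : ResidueField B ⊗[A] ResidueField V) := by
      have : ((e : ℕ) : ResidueField B ⊗[A] ResidueField V) =
          algebraMap (ResidueField B) (ResidueField B ⊗[A] ResidueField V)
            (algebraMap (ResidueField A) (ResidueField B) ((e : ℕ) : ResidueField A)) := by
        rw [map_natCast, map_natCast]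
      rw [this]
      exact ((IsUnit.mk0 _ he).map _).map _
    have : ((e : ℕ) : (B ⊗[A] V) ⧸ I₀) =
        qE.symm ((e : ℕ) : ResidueField B ⊗[A] ResidueField V) := (map_natCast _ e).symm
    rw [this]
    exact h1.map _
  obtain ⟨hredQ, hdimQ⟩ := isReduced_and_krullDimLE_zero_kummer_quot I₀ (cT A u u₁) he0 heu
  have hredQ' : IsReduced (AdjoinRoot (gT A u u₁ e) ⧸ I₀.map (AdjoinRoot.of (gT A u u₁ e))) :=
    hredQ
  have hdimQ' : Ring.KrullDimLE 0
      (AdjoinRoot (gT A u u₁ e) ⧸ I₀.map (AdjoinRoot.of (gT A u u₁ e))) := hdimQ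
  set ρ' := rhoK A u u₁ e w hu with hρ'
  set ρT := rhoKT A u u₁ e w hu t with hρT
  have hρTC : ∀ c, ρT (C c) = ρ' c := fun c => rhoKT_C u u₁ e w hu t c
  have hρTX : ρT X = t := rhoKT_X u u₁ e w hu t
  set p : AdjoinRoot (gT A u u₁ e) := AdjoinRoot.of _ ((1 : B) ⊗ₜ[A] π₁) with hp_def
  set q : AdjoinRoot (gT A u u₁ e) := AdjoinRoot.of _ (πB ⊗ₜ[A] (1 : V)) with hq_def
  have hρp : ρ' p = algebraMap V W π₁ := by
    rw [hρ', hp_def, rhoK_of]
    simp [rho]
  have hρq : ρ' q = algebraMap B W πB := by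
    rw [hρ', hq_def, rhoK_of]
    simp [rho]
  -- the inverse of `w`
  set winv : AdjoinRoot (gT A u u₁ e) :=
    AdjoinRoot.root _ ^ (e - 1) * AdjoinRoot.of _ (((u⁻¹ : Bˣ) : B) ⊗ₜ[A] (u₁ : V)) with hwinv
  have hρroot : ρ' (AdjoinRoot.root _) = (w : W) := rhoK_root u u₁ e w hu
  have hρwinv : (w : W) * ρ' winv = 1 := by
    have h1 : ρ' winv = (w : W) ^ (e - 1) *
        (algebraMap B W ((u⁻¹ : Bˣ) : B) * algebraMap V W (u₁ : V)) := by
      rw [hwinv, map_mul, map_pow, hρ', rhoK_root, rhoK_of]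
      simp [rho]
    have h2 : algebraMap B W (u : B) * algebraMap B W ((u⁻¹ : Bˣ) : B) = 1 := by
      rw [← map_mul, Units.mul_inv, map_one]
    have h3 : algebraMap V W ((u₁⁻¹ : Vˣ) : V) * algebraMap V W (u₁ : V) = 1 := by
      rw [← map_mul, Units.inv_mul, map_one]
    calc (w : W) * ρ' winv = ((w : W) ^ (e - 1) * (w : W)) *
          (algebraMap B W ((u⁻¹ : Bˣ) : B) * algebraMap V W (u₁ : V)) := by rw [h1]; ring
      _ = (algebraMap B W u * algebraMap V W ((u₁⁻¹ : Vˣ) : V)) *
          (algebraMap B W ((u⁻¹ : Bˣ) : B) * algebraMap V W (u₁ : V)) := by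
        rw [pow_sub_one_mul he0, pow_eq_of_hu u u₁ e w hu]
      _ = (algebraMap B W (u : B) * algebraMap B W ((u⁻¹ : Bˣ) : B)) *
          (algebraMap V W ((u₁⁻¹ : Vˣ) : V) * algebraMap V W (u₁ : V)) := by ring
      _ = 1 := by rw [h2, h3, one_mul]
  have hwpow : ∀ k : ℕ, (w : W) ^ k * ρ' winv ^ k = 1 := by
    intro k
    rw [← mul_pow, hρwinv, one_pow]
  -- `q` and `p` are multiples of `T` in `W`
  have hq : ρ' q = ρT (X ^ (n' - 1) * C (AdjoinRoot.root _ ^ a₂ * winv ^ a₁) * X) := by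
    rw [hρq, map_mul, map_mul, map_pow, hρTX, hρTC, map_mul, map_pow, map_pow, hρroot]
    calc algebraMap B W πB = (algebraMap B W πB * (w : W) ^ a₁) * ρ' winv ^ a₁ := by
          rw [mul_assoc, hwpow, mul_one]
      _ = (t ^ (n' - 1) * t) * (w : W) ^ a₂ * ρ' winv ^ a₁ := by rw [hB, pow_sub_one_mul hn']
      _ = _ := by ring
  have hp : ρ' p = ρT (X ^ (m' - 1) * C (AdjoinRoot.root _ ^ b₂ * winv ^ b₁) * X) := by
    rw [hρp, map_mul, map_mul, map_pow, hρTX, hρTC, map_mul, map_pow, map_pow, hρroot]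
    calc algebraMap V W π₁ = (algebraMap V W π₁ * (w : W) ^ b₁) * ρ' winv ^ b₁ := by
          rw [mul_assoc, hwpow, mul_one]
      _ = (t ^ (m' - 1) * t) * (w : W) ^ b₂ * ρ' winv ^ b₁ := by rw [hV, pow_sub_one_mul hm']
      _ = _ := by ring
  -- the quotient map
  let θ : (AdjoinRoot (gT A u u₁ e))[X] →+*
      AdjoinRoot (gT A u u₁ e) ⧸ I₀.map (AdjoinRoot.of (gT A u u₁ e)) :=
    (Ideal.Quotient.mk (I₀.map (AdjoinRoot.of (gT A u u₁ e)))).comp Polynomial.constantCoeff
  have hθ : Function.Surjective θ := by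
    intro y
    obtain ⟨c, rfl⟩ := Ideal.Quotient.mk_surjective y
    exact ⟨C c, by simp [θ]⟩
  have hker : ∀ y ∈ RingHom.ker θ, ∃ z, ρT y = ρT (z * X) := by
    intro y hy
    have hy' : y.coeff 0 ∈ I₀.map (AdjoinRoot.of (gT A u u₁ e)) := by
      rw [RingHom.mem_ker] at hy
      have : θ y = Ideal.Quotient.mk _ (y.coeff 0) := by
        simp [θ, Polynomial.constantCoeff_apply]
      rw [this, Ideal.Quotient.eq_zero_iff_mem] at hy
      exact hy
    have hle : I₀.map (AdjoinRoot.of (gT A u u₁ e)) ≤ Ideal.span {q, p} := by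
      have h1 : I₀ ≤ Ideal.span {πB ⊗ₜ[A] (1 : V), (1 : B) ⊗ₜ[A] π₁} :=
        ker_redMap_le_pair πB hπB π₁ hπ₁
      refine (Ideal.map_mono h1).trans ?_
      rw [Ideal.map_span, Set.image_pair]
    obtain ⟨a, b, hab⟩ := Ideal.mem_span_pair.mp (hle hy')
    refine ⟨y.divX + C a * (X ^ (n' - 1) * C (AdjoinRoot.root _ ^ a₂ * winv ^ a₁)) +
      C b * (X ^ (m' - 1) * C (AdjoinRoot.root _ ^ b₂ * winv ^ b₁)), ?_⟩
    have hy2 : y = y.divX * X + C (y.coeff 0) := (Polynomial.divX_mul_X_add y).symm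
    have h3 : ρT y = ρT (y.divX * X) + (ρ' a * ρ' q + ρ' b * ρ' p) := by
      conv_lhs => rw [hy2]
      rw [map_add, hρTC, ← hab, map_add ρ', map_mul ρ', map_mul ρ']
    rw [h3, hq, hp]
    simp only [map_add, map_mul, hρTC]
    ring
  have hpm : ρT X ∈ maximalIdeal W := by rw [hρTX]; exact htm
  exact exists_unit_mul_eq ρT θ hθ X hpm hker x hx

include ht0 hgen hu

/-- The general abstract form of Abhyankar's lemma: `t` is a uniformizer of `W` and the residue
field of `W` is generated by those of `B`, `V` and the residue of `w`. -/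
theorem kummer_abstract [Algebra.IsAlgebraic (ResidueField A) (ResidueField V)] :
    maximalIdeal W = Ideal.span {t} ∧
      Algebra.adjoin (ResidueField B)
        (Set.range (algebraMap (ResidueField V) (ResidueField W)) ∪ {residue W (w : W)}) = ⊤ := by
  have he0 : e ≠ 0 := by
    rintro rfl
    exact he Nat.cast_zero
  set ρ' := rhoK A u u₁ e w hu with hρ'
  set ρT := rhoKT A u u₁ e w hu t with hρT
  have hρTC : ∀ c, ρT (C c) = ρ' c := fun c => rhoKT_C u u₁ e w hu t c
  have hρTX : ρT X = t := rhoKT_X u u₁ e w hu t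
  -- the quotient by the kernel
  let ρ'' : (AdjoinRoot (gT A u u₁ e))[X] ⧸ RingHom.ker ρT →+* W := RingHom.kerLift ρT
  have hρ''mk : ∀ x, ρ'' (Ideal.Quotient.mk _ x) = ρT x := fun x => RingHom.kerLift_mk ρT x
  have hstar : ∀ x : (AdjoinRoot (gT A u u₁ e))[X] ⧸ RingHom.ker ρT, ρ'' x ∈ maximalIdeal W →
      ∃ s : (AdjoinRoot (gT A u u₁ e))[X] ⧸ RingHom.ker ρT, IsUnit (ρ'' s) ∧
        s * x ∈ Ideal.span {Ideal.Quotient.mk (RingHom.ker ρT) X} := by
    intro x hx
    obtain ⟨x, rfl⟩ := Ideal.Quotient.mk_surjective x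
    rw [hρ''mk] at hx
    obtain ⟨s, z, hs, hsz⟩ := rhoKT_star u u₁ e w hu t πB hπB π₁ hπ₁ he n' m' a₁ a₂ b₁ b₂ hn' hm'
      hB hV htm x hx
    refine ⟨Ideal.Quotient.mk _ s, by rw [hρ''mk]; exact hs, ?_⟩
    rw [Ideal.mem_span_singleton']
    refine ⟨Ideal.Quotient.mk _ z, ?_⟩
    rw [← map_mul, ← map_mul, Ideal.Quotient.eq, RingHom.mem_ker, map_sub, hsz, sub_self]
  have hgen'' : ∀ w' : W, ∃ x y : (AdjoinRoot (gT A u u₁ e))[X] ⧸ RingHom.ker ρT,
      ρ'' y ≠ 0 ∧ w' * ρ'' y = ρ'' x := by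
    intro w'
    obtain ⟨x, y, hy, hxy⟩ := hgen w'
    refine ⟨Ideal.Quotient.mk _ (C (AdjoinRoot.of _ x)), Ideal.Quotient.mk _ (C (AdjoinRoot.of _ y)),
      ?_, ?_⟩
    · rw [hρ''mk, hρTC, hρ', rhoK_of]; exact hy
    · rw [hρ''mk, hρ''mk, hρTC, hρTC, hρ', rhoK_of, rhoK_of]; exact hxy
  have hpm'' : ρ'' (Ideal.Quotient.mk (RingHom.ker ρT) X) ∈ maximalIdeal W := by
    rw [hρ''mk, hρTX]; exact htm
  have hp0'' : ρ'' (Ideal.Quotient.mk (RingHom.ker ρT) X) ≠ 0 := by
    rw [hρ''mk, hρTX]; exact ht0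
  have hmax := maximalIdeal_eq_span ρ'' (Ideal.Quotient.mk (RingHom.ker ρT) X) hpm'' hp0'' hstar
    hgen''
  have hden := exists_unit_denominator ρ'' (Ideal.Quotient.mk (RingHom.ker ρT) X) hpm'' hp0'' hstar
    hgen''
  refine ⟨?_, ?_⟩
  · rw [hmax, hρ''mk, hρTX]
  · have hintV : ∀ x ∈ Set.range (algebraMap (ResidueField V) (ResidueField W)),
        IsIntegral (ResidueField B) x := by
      rintro _ ⟨v, rfl⟩
      have h1 : IsIntegral (ResidueField A) v := Algebra.IsIntegral.isIntegral v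
      have h2 : IsIntegral (ResidueField A) (algebraMap (ResidueField V) (ResidueField W) v) :=
        h1.algebraMap
      exact h2.tower_top
    have hzint : IsIntegral (ResidueField B) (residue W (w : W)) := by
      apply IsIntegral.of_pow (Nat.pos_of_ne_zero he0)
      have h1 : residue W (w : W) ^ e =
          algebraMap (ResidueField B) (ResidueField W) (residue B u) *
            algebraMap (ResidueField V) (ResidueField W) (residue V ((u₁⁻¹ : Vˣ) : V)) := by
        have := congrArg (residue W) (pow_eq_of_hu u u₁ e w hu)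
        rw [map_pow, map_mul] at this
        exact this
      rw [h1]
      exact isIntegral_algebraMap.mul (hintV _ ⟨_, rfl⟩)
    have hCint : Algebra.IsIntegral (ResidueField B)
        (Algebra.adjoin (ResidueField B)
          (Set.range (algebraMap (ResidueField V) (ResidueField W)) ∪ {residue W (w : W)})) := by
      apply Algebra.IsIntegral.adjoin
      rintro x (hx | hx)
      · exact hintV x hx
      · rw [Set.mem_singleton_iff.mp hx]; exact hzint
    have hres₀ : ∀ t : B ⊗[A] V, residue W (rho A B V W t) ∈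
        Algebra.adjoin (ResidueField B)
          (Set.range (algebraMap (ResidueField V) (ResidueField W)) ∪ {residue W (w : W)}) := by
      intro t
      induction t using TensorProduct.induction_on with
      | zero => rw [map_zero, map_zero]; exact zero_mem _
      | tmul b v =>
        have : rho A B V W (b ⊗ₜ[A] v) = algebraMap B W b * algebraMap V W v := by simp [rho]
        rw [this, map_mul]
        refine mul_mem ?_ ?_
        · have : residue W (algebraMap B W b) =
              algebraMap (ResidueField B) (ResidueField W) (residue B b) := rfl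
          rw [this]
          exact Subalgebra.algebraMap_mem _ _
        · have : residue W (algebraMap V W v) =
              algebraMap (ResidueField V) (ResidueField W) (residue V v) := rfl
          rw [this]
          exact Algebra.subset_adjoin (Or.inl ⟨_, rfl⟩)
      | add x y hx hy => rw [map_add, map_add]; exact add_mem hx hy
    have hres₁ : ∀ x : AdjoinRoot (gT A u u₁ e), residue W (ρ' x) ∈
        Algebra.adjoin (ResidueField B)
          (Set.range (algebraMap (ResidueField V) (ResidueField W)) ∪ {residue W (w : W)}) := by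
      intro x
      have hx : x ∈ Algebra.adjoin (B ⊗[A] V) {AdjoinRoot.root (gT A u u₁ e)} := by
        rw [AdjoinRoot.adjoinRoot_eq_top]; trivial
      induction hx using Algebra.adjoin_induction with
      | mem x hx =>
        rw [Set.mem_singleton_iff.mp hx, hρ', rhoK_root]
        exact Algebra.subset_adjoin (Or.inr rfl)
      | algebraMap t =>
        rw [AdjoinRoot.algebraMap_eq, hρ', rhoK_of]
        exact hres₀ t
      | add x y _ _ hx hy => rw [map_add, map_add]; exact add_mem hx hy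
      | mul x y _ _ hx hy => rw [map_mul, map_mul]; exact mul_mem hx hy
    have hres : ∀ x : (AdjoinRoot (gT A u u₁ e))[X], residue W (ρT x) ∈
        Algebra.adjoin (ResidueField B)
          (Set.range (algebraMap (ResidueField V) (ResidueField W)) ∪ {residue W (w : W)}) := by
      intro x
      induction x using Polynomial.induction_on' with
      | add x y hx hy => rw [map_add, map_add]; exact add_mem hx hy
      | monomial k c =>
        rw [← Polynomial.C_mul_X_pow_eq_monomial, map_mul, map_pow, hρTC, hρTX, map_mul, map_pow]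
        exact mul_mem (hres₁ c) (pow_mem
          (by rw [(residue_eq_zero_iff t).mpr htm]; exact zero_mem _) k)
    rw [eq_top_iff]
    intro wbar _
    obtain ⟨w', rfl⟩ := IsLocalRing.residue_surjective wbar
    obtain ⟨x, s, hs, hws⟩ := hden w'
    obtain ⟨x, rfl⟩ := Ideal.Quotient.mk_surjective x
    obtain ⟨s, rfl⟩ := Ideal.Quotient.mk_surjective s
    rw [hρ''mk] at hs
    rw [hρ''mk, hρ''mk] at hws
    have hs' : IsUnit (residue W (ρT s)) := hs.map (residue W)
    have h1 : residue W w' = residue W (ρT x) * (residue W (ρT s))⁻¹ := by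
      have h2 := congrArg (residue W) hws
      rw [map_mul] at h2
      rw [eq_mul_inv_iff_mul_eq₀ hs'.ne_zero]
      exact h2
    rw [h1]
    refine mul_mem (hres x) ?_
    have halg : IsAlgebraic (ResidueField B) (residue W (ρT s)) :=
      (hCint.isIntegral ⟨_, hres s⟩).isAlgebraic.algebraMap (A := ResidueField W)
    exact Subalgebra.inv_mem_of_algebraic _ (x := ⟨_, hres s⟩) halg

end Concl

end Main

end Groth.Agent.Lib.Seat10.Tower
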