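import Mathlib
import Groth.Prelude.Def_FDesc
import Groth.Agent.Lib.Helper23AssAffine

/-!
# Associated points near a point via the local ring (seat 11)

For a quasi-coherent module `F` on a locally Noetherian scheme `X`, a point `x` and a prime `q` of
`O_{X,x}`: the generization `X.fromSpecStalk x q` of `x` is an associated point of `F` iff `q` is an
associated prime of the stalk `F_x`.
-/

set_option autoImplicit false
set_option linter.style.haveILetI false
universe u
open CategoryTheory Limits AlgebraicGeometry TopologicalSpace Opposite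

namespace Groth.Agent.Lib.Seat11.AssDict

open Groth.Agent.Lib.Helper2.FlatOver Groth.Agent.Lib.Helper23.AssAffine

variable {X : Scheme.{u}}

theorem isAssPoint_fromSpecStalk_iff [IsLocallyNoetherian X] (F : X.Modules) [F.IsQuasicoherent]
    (x : X) (q : Spec (X.presheaf.stalk x)) :
    Curv2.IsAssPoint F (X.fromSpecStalk x q) ↔
      q.asIdeal ∈ associatedPrimes (X.presheaf.stalk x) (F.presheaf.stalk x) := by
  obtain ⟨_, ⟨U, hU, rfl⟩, hxU, -⟩ :=
    X.isBasis_affineOpens.exists_subset_of_mem_open (Set.mem_univ x) isOpen_univ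
  have hU : IsAffineOpen U := hU
  haveI : IsNoetherianRing Γ(X, U) := IsLocallyNoetherian.component_noetherian ⟨U, hU⟩
  set ξ : X := X.fromSpecStalk x q with hξ
  set y₀ : Spec Γ(X, U) := Spec.map (X.presheaf.germ U x hxU) q with hy₀
  have hξ' : ξ = hU.fromSpec y₀ := by
    rw [hξ, ← hU.fromSpecStalk_eq_fromSpecStalk hxU]
    rfl
  have hξU : ξ ∈ U := by
    rw [hξ']
    have : hU.fromSpec y₀ ∈ Set.range hU.fromSpec := ⟨y₀, rfl⟩
    rw [hU.range_fromSpec] at this
    exact this
  have hprime : hU.primeIdealOf ⟨ξ, hξU⟩ = y₀ := by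
    apply hU.fromSpec.isOpenEmbedding.injective
    rw [hU.fromSpec_primeIdealOf ⟨ξ, hξU⟩]
    exact hξ'
  rw [isAssPoint_iff_mem_associatedPrimes hU F ξ hξU, hprime]
  -- now the stalk at `x`
  letI alg : Algebra Γ(X, U) (X.presheaf.stalk x) := X.presheaf.algebra_section_stalk ⟨x, hxU⟩
  letI := moduleStalkSections F U x hxU
  haveI loc : IsLocalization.AtPrime (X.presheaf.stalk x) (hU.primeIdealOf ⟨x, hxU⟩).asIdeal :=
    hU.isLocalization_stalk ⟨x, hxU⟩
  haveI := isLocalizedModule_germ hU F x hxU
  haveI : IsScalarTower Γ(X, U) (X.presheaf.stalk x) (F.presheaf.stalk x) := by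
    refine ⟨fun r a y => ?_⟩
    change (X.presheaf.germ U x hxU r * a) • y = X.presheaf.germ U x hxU r • (a • y)
    rw [mul_smul]
  have key := Module.associatedPrimes.preimage_comap_associatedPrimes_eq_associatedPrimes_of_isLocalizedModule
    (hU.primeIdealOf ⟨x, hxU⟩).asIdeal.primeCompl (X.presheaf.stalk x) (germₗ F U x hxU)
  rw [← key, Set.mem_preimage]
  rfl

end Groth.Agent.Lib.Seat11.AssDict
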