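import Mathlib
import Groth.Agent.Lib.Helper20SuppBC
import Groth.Agent.Lib.Helper5TensorDim
import Groth.Agent.Lib.Helper28DepthFlat

/-!
# Dimension of `N ⊗_A M` for `N` flat over `A` (seat 11)

* `exists_ltSeries_lift` : lifting chains along a map of posets with the going-down property.
* `mem_support_tensor` : `Supp_B N ∩ comap⁻¹ (Supp_A M) ⊆ Supp_B (N ⊗_A M)` for finite modules.
* `exists_le_mem_support_comap_eq` : going-down for the support of a module flat over the base.
* `supportDim_tensor_of_flat` : `dim_B (N ⊗_A M) = dim_A M + dim_B (N / m_A N)`.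
-/

set_option autoImplicit false
universe u v w
open TensorProduct

namespace Groth.Agent.Lib.Seat11.FlatDim

section Poset

/-- Lifting of chains along a map with the (strict) going-down property. -/
theorem exists_ltSeries_lift {α : Type*} {β : Type*} [PartialOrder α] [PartialOrder β] (f : β → α)
    (hGD : ∀ (q : β) (p' : α), p' < f q → ∃ q', q' < q ∧ f q' = p')
    (l : LTSeries α) (q : β) (hq : f q = l.last) :
    ∃ L : LTSeries β, L.length = l.length ∧ L.last = q ∧ f L.head = l.head := by
  induction l using RelSeries.inductionOn generalizing q with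
  | singleton a =>
    refine ⟨RelSeries.singleton _ q, rfl, rfl, ?_⟩
    simpa using hq
  | cons l a lt ih =>
    obtain ⟨L, hlen, hlast, hhead⟩ := ih q (by simpa using hq)
    obtain ⟨q', hq'lt, hq'⟩ := hGD L.head a (by rw [hhead]; exact lt)
    refine ⟨L.cons q' hq'lt, ?_, ?_, ?_⟩
    · simp [hlen]
    · simpa using hlast
    · simpa using hq'

end Poset

section Support

variable {A B : Type u} [CommRing A] [CommRing B] [Algebra A B]
  {M : Type u} [AddCommGroup M] [Module A M] [Module.Finite A M]
  {N : Type u} [AddCommGroup N] [Module B N] [Module A N] [IsScalarTower A B N] [Module.Finite B N]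

/-- `Supp_B N ∩ comap⁻¹ (Supp_A M) ⊆ Supp_B (N ⊗_A M)` for finite modules. -/
theorem mem_support_tensor (q : PrimeSpectrum B) (hqN : q ∈ Module.support B N)
    (hp : q.comap (algebraMap A B) ∈ Module.support A M) :
    q ∈ Module.support B (N ⊗[A] M) := by
  haveI : Module.Finite B (N ⊗[A] M) := Groth.Agent.Lib.Helper5.TensorDim.finite_tensor A B M N
  rw [Module.mem_support_iff_of_finite]
  intro t ht
  set p := q.comap (algebraMap A B) with hpdef
  let K := q.asIdeal.ResidueField
  let g : A →+* K := (algebraMap B K).comp (algebraMap A B)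
  have hker : p.asIdeal ≤ RingHom.ker g := by
    intro a ha
    rw [RingHom.mem_ker]
    show algebraMap B K (algebraMap A B a) = 0
    rw [Ideal.algebraMap_residueField_eq_zero]
    exact ha
  have hunit : p.asIdeal.primeCompl ≤ (IsUnit.submonoid K).comap g := by
    intro a ha
    show IsUnit (g a)
    rw [isUnit_iff_ne_zero]
    intro h0
    apply ha
    have : algebraMap B K (algebraMap A B a) = 0 := h0
    rw [Ideal.algebraMap_residueField_eq_zero] at this
    exact this
  let ι : p.asIdeal.ResidueField →+* K := Ideal.ResidueField.lift p.asIdeal g hker hunit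
  have hι : ∀ a : A, ι (algebraMap A _ a) = g a := fun a =>
    Ideal.ResidueField.lift_algebraMap p.asIdeal g hker hunit a
  obtain ⟨μ, m₀, hm₀⟩ :=
    Groth.Agent.Lib.Helper20.SuppBC.exists_linearMap_residueField_ne_zero (N := M) p hp
  obtain ⟨ν, n₀, hn₀⟩ :=
    Groth.Agent.Lib.Helper20.SuppBC.exists_linearMap_residueField_ne_zero (N := N) q hqN
  let f : N →+ M →+ K := AddMonoidHom.mk' (fun n => AddMonoidHom.mk' (fun m => ν n * ι (μ m))
    (fun m m' => by simp only [map_add, mul_add]))
    (fun n n' => by ext m; simp only [map_add, add_mul, AddMonoidHom.mk'_apply, AddMonoidHom.add_apply])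
  have hf : ∀ (a : A) (n : N) (m : M), f (a • n) m = f n (a • m) := by
    intro a n m
    show ν (a • n) * ι (μ m) = ν n * ι (μ (a • m))
    rw [← algebraMap_smul B a n, map_smul, Algebra.smul_def, map_smul, Algebra.smul_def (R := A),
      map_mul, hι]
    show algebraMap B K (algebraMap A B a) * _ * _ = _ * (algebraMap B K (algebraMap A B a) * _)
    ring
  let L : N ⊗[A] M →+ K := TensorProduct.liftAddHom f hf
  have h1 : t • (n₀ ⊗ₜ[A] m₀) = 0 := Module.mem_annihilator.mp ht _
  have h2 : L (t • (n₀ ⊗ₜ[A] m₀)) = algebraMap B K t * (ν n₀ * ι (μ m₀)) := by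
    rw [TensorProduct.smul_tmul']
    show ν (t • n₀) * ι (μ m₀) = _
    rw [map_smul, Algebra.smul_def, mul_assoc]
  rw [h1, map_zero] at h2
  have h3 : ι (μ m₀) ≠ 0 := by
    rw [Ne, map_eq_zero]; exact hm₀
  have h4 : algebraMap B K t = 0 := by
    rcases mul_eq_zero.mp h2.symm with h | h
    · exact h
    · exact ((mul_ne_zero hn₀ h3) h).elim
  exact (Ideal.algebraMap_residueField_eq_zero (I := q.asIdeal)).mp h4

omit [Module.Finite A M] in
/-- `Supp_B (N ⊗_A M) ⊆ Supp_B N`. -/
theorem mem_support_of_mem_support_tensor (q : PrimeSpectrum B)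
    (hq : q ∈ Module.support B (N ⊗[A] M)) : q ∈ Module.support B N := by
  rw [Module.mem_support_iff_of_finite]
  exact (Groth.Agent.Lib.Helper5.TensorDim.annihilator_le_annihilator_tensor A B M N).trans
    (Module.annihilator_le_of_mem_support hq)

omit [Module.Finite B N] in
/-- `Supp_B (N ⊗_A M) ⊆ comap⁻¹ (Supp_A M)`. -/
theorem comap_mem_support_of_mem_support_tensor (q : PrimeSpectrum B)
    (hq : q ∈ Module.support B (N ⊗[A] M)) : q.comap (algebraMap A B) ∈ Module.support A M := by
  rw [Module.mem_support_iff_of_finite]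
  intro a ha
  have h1 := Module.annihilator_le_of_mem_support hq
  apply h1
  rw [Module.mem_annihilator]
  intro x
  induction x using TensorProduct.induction_on with
  | zero => rw [smul_zero]
  | tmul n m =>
    rw [TensorProduct.smul_tmul', algebraMap_smul, TensorProduct.smul_tmul,
      Module.mem_annihilator.mp ha m, TensorProduct.tmul_zero]
  | add x y hx hy => rw [smul_add, hx, hy, add_zero]

end Support

section GoingDown

/-- For `N` flat over `A`, `p'` prime and `a ∉ p'`: `a` is a nonzerodivisor on `N / p' N`. -/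
theorem mem_smul_top_of_smul_mem {A : Type u} [CommRing A] (p' : Ideal A) [p'.IsPrime]
    {N : Type v} [AddCommGroup N] [Module A N] [Module.Flat A N] {a : A} (ha : a ∉ p') {x : N}
    (h : a • x ∈ (p' • ⊤ : Submodule A N)) : x ∈ (p' • ⊤ : Submodule A N) := by
  let f : (A ⧸ p') →ₗ[A] (A ⧸ p') := LinearMap.lsmul A (A ⧸ p') a
  have hf : Function.Injective f := by
    rw [injective_iff_map_eq_zero]
    intro y hy
    obtain ⟨y, rfl⟩ := Ideal.Quotient.mk_surjective y
    have h1 : Ideal.Quotient.mk p' (a * y) = 0 := by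
      rw [map_mul]
      have : f (Ideal.Quotient.mk p' y) = Ideal.Quotient.mk p' a * Ideal.Quotient.mk p' y := by
        show a • (Ideal.Quotient.mk p' y) = _
        rw [Algebra.smul_def]; rfl
      rw [← this, hy]
    rw [Ideal.Quotient.eq_zero_iff_mem] at h1 ⊢
    exact (Ideal.IsPrime.mem_or_mem ‹p'.IsPrime› h1).resolve_left ha
  have hinj : Function.Injective (f.lTensor N) :=
    Module.Flat.lTensor_preserves_injective_linearMap f hf
  have hz : f.lTensor N (x ⊗ₜ[A] (1 : A ⧸ p')) = 0 := by
    rw [LinearMap.lTensor_tmul]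
    show x ⊗ₜ[A] (a • (1 : A ⧸ p')) = 0
    rw [← TensorProduct.smul_tmul, ← tensorQuotEquivQuotSMul_symm_mk,
      (Submodule.Quotient.mk_eq_zero _).mpr h, map_zero]
  have h0 : x ⊗ₜ[A] (1 : A ⧸ p') = 0 := hinj (by rw [hz, map_zero])
  rw [← tensorQuotEquivQuotSMul_symm_mk, LinearEquiv.map_eq_zero_iff] at h0
  exact (Submodule.Quotient.mk_eq_zero _).mp h0

variable {A B : Type u} [CommRing A] [CommRing B] [Algebra A B] [IsNoetherianRing B]
  {N : Type u} [AddCommGroup N] [Module B N] [Module A N] [IsScalarTower A B N] [Module.Finite B N]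
  [Module.Flat A N]

/-- Going-down for the support of a finite `B`-module which is flat over `A`. -/
theorem exists_le_mem_support_comap_eq (q : PrimeSpectrum B) (hq : q ∈ Module.support B N)
    (p' : PrimeSpectrum A) (hp' : p' ≤ q.comap (algebraMap A B)) :
    ∃ q' : PrimeSpectrum B, q' ≤ q ∧ q' ∈ Module.support B N ∧ q'.comap (algebraMap A B) = p' := by
  set I : Ideal B := p'.asIdeal.map (algebraMap A B) with hI
  set N' := N ⧸ (I • ⊤ : Submodule B N) with hN'
  have hIq : I ≤ q.asIdeal := Ideal.map_le_iff_le_comap.mpr hp'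
  have hqN' : q ∈ Module.support B N' := by
    rw [Module.support_quotient]
    exact ⟨hq, by rw [PrimeSpectrum.mem_zeroLocus]; exact hIq⟩
  have hann : Module.annihilator B N' ≤ q.asIdeal := Module.annihilator_le_of_mem_support hqN'
  obtain ⟨Q, hQmin, hQle⟩ := Ideal.exists_minimalPrimes_le hann
  have hQprime : Q.IsPrime := hQmin.1.1
  have hQass : Q ∈ associatedPrimes B N' :=
    Module.associatedPrimes.minimalPrimes_annihilator_subset_associatedPrimes B N' hQmin
  have hIann : I ≤ Module.annihilator B N' := by
    intro b hb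
    rw [Module.mem_annihilator]
    intro y
    obtain ⟨y, rfl⟩ := Submodule.Quotient.mk_surjective _ y
    rw [← Submodule.Quotient.mk_smul, Submodule.Quotient.mk_eq_zero]
    exact Submodule.smul_mem_smul hb Submodule.mem_top
  refine ⟨⟨Q, hQprime⟩, hQle, ?_, ?_⟩
  · have h1 : (⟨Q, hQprime⟩ : PrimeSpectrum B) ∈ Module.support B N' := by
      rw [Module.mem_support_iff_of_finite]
      exact hQmin.1.2
    rw [Module.support_quotient] at h1
    exact h1.1
  · apply le_antisymm
    · -- `comap Q ≤ p'` by flatness
      intro a ha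
      by_contra hap
      obtain ⟨-, y, hy⟩ := isAssociatedPrime_iff.mp hQass
      obtain ⟨x, rfl⟩ := Submodule.Quotient.mk_surjective _ y
      have hax : algebraMap A B a ∈ Q := ha
      have hy' : ∀ b : B, b ∈ Q ↔ b • x ∈ (I • ⊤ : Submodule B N) := by
        intro b
        rw [hy, Submodule.mem_colon_singleton, Submodule.mem_bot,
          ← Submodule.Quotient.mk_smul, Submodule.Quotient.mk_eq_zero]
      have h1 : a • x ∈ (p'.asIdeal • ⊤ : Submodule A N) := by
        rw [← Groth.Agent.Lib.Helper28.mem_map_smul_top_iff (R := A) (S := B), ← algebraMap_smul B a x]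
        exact (hy' _).mp hax
      have h2 := mem_smul_top_of_smul_mem p'.asIdeal hap h1
      rw [← Groth.Agent.Lib.Helper28.mem_map_smul_top_iff (R := A) (S := B)] at h2
      have h3 : (1 : B) ∈ Q := (hy' 1).mpr (by rwa [one_smul])
      exact hQprime.ne_top ((Ideal.eq_top_iff_one _).mpr h3)
    · intro a ha
      exact hQmin.1.2 (hIann (Ideal.mem_map_of_mem _ ha))

end GoingDown

section Main

/-- The closed fibre module `N / m_A N`. -/
abbrev FibQ (A B : Type u) [CommRing A] [CommRing B] [IsLocalRing A] [Algebra A B]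
    (N : Type u) [AddCommGroup N] [Module B N] : Type u :=
  N ⧸ ((IsLocalRing.maximalIdeal A).map (algebraMap A B) • (⊤ : Submodule B N))

variable (A B : Type u) [CommRing A] [CommRing B] [IsLocalRing A] [IsLocalRing B]
  [IsNoetherianRing A] [IsNoetherianRing B] [Algebra A B] [IsLocalHom (algebraMap A B)]
  (M : Type u) [AddCommGroup M] [Module A M] [Module.Finite A M] [Nontrivial M]
  (N : Type u) [AddCommGroup N] [Module B N] [Module A N] [IsScalarTower A B N]
  [Module.Finite B N] [Nontrivial N] [Module.Flat A N]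


theorem nontrivial_fib : Nontrivial (FibQ A B N) := by
  rw [Submodule.Quotient.nontrivial_iff]
  exact Groth.Agent.Lib.Helper28.smul_top_ne_top_of_le_maximalIdeal
    (IsLocalRing.map_maximalIdeal_le (algebraMap A B))

theorem supportDim_add_le_supportDim_tensor :
    Module.supportDim A M + Module.supportDim B (FibQ A B N) ≤ Module.supportDim B (N ⊗[A] M) := by
  have hfin : Module.Finite B (N ⊗[A] M) := Groth.Agent.Lib.Helper5.TensorDim.finite_tensor A B M N
  have hFnt : Nontrivial (FibQ A B N) := nontrivial_fib A B N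
  have hneM : Nonempty (Module.support A M) := Module.nonempty_support_of_nontrivial.to_subtype
  have hneF : Nonempty (Module.support B (FibQ A B N)) := Module.nonempty_support_of_nontrivial.to_subtype
  -- points of the support of the fibre
  have hF : ∀ q : PrimeSpectrum B, q ∈ Module.support B (FibQ A B N) →
      q ∈ Module.support B N ∧ q.comap (algebraMap A B) = IsLocalRing.closedPoint A := by
    intro q hq
    rw [Module.support_quotient] at hq
    refine ⟨hq.1, ?_⟩
    have h1 : (IsLocalRing.maximalIdeal A).map (algebraMap A B) ≤ q.asIdeal := by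
      have := hq.2
      rwa [PrimeSpectrum.mem_zeroLocus] at this
    have h2 : IsLocalRing.maximalIdeal A ≤ (q.comap (algebraMap A B)).asIdeal :=
      Ideal.map_le_iff_le_comap.mp h1
    ext1
    exact ((IsLocalRing.maximalIdeal.isMaximal A).eq_of_le (q.comap (algebraMap A B)).2.ne_top h2).symm
  have hcl : IsLocalRing.closedPoint A ∈ Module.support A M :=
    IsLocalRing.closedPoint_mem_support A M
  have hFβ : ∀ q : PrimeSpectrum B, q ∈ Module.support B (FibQ A B N) → q ∈ Module.support B (N ⊗[A] M) := by
    intro q hq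
    obtain ⟨h1, h2⟩ := hF q hq
    exact mem_support_tensor q h1 (by rw [h2]; exact hcl)
  -- the map on supports
  let f : Module.support B (N ⊗[A] M) → Module.support A M := fun q =>
    ⟨q.1.comap (algebraMap A B), comap_mem_support_of_mem_support_tensor q.1 q.2⟩
  have hGD : ∀ (q : Module.support B (N ⊗[A] M)) (p' : Module.support A M), p' < f q →
      ∃ q', q' < q ∧ f q' = p' := by
    intro q p' hlt
    obtain ⟨q', hle, hq'N, hq'⟩ := exists_le_mem_support_comap_eq (A := A) q.1
      (mem_support_of_mem_support_tensor q.1 q.2) p'.1 hlt.le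
    have hq'β : q' ∈ Module.support B (N ⊗[A] M) := mem_support_tensor q' hq'N (by rw [hq']; exact p'.2)
    refine ⟨⟨q', hq'β⟩, lt_of_le_of_ne hle ?_, Subtype.ext hq'⟩
    intro heq
    have : f ⟨q', hq'β⟩ = f q := by rw [heq]
    have h3 : f ⟨q', hq'β⟩ = p' := Subtype.ext hq'
    rw [h3] at this
    exact hlt.ne this
  have hneβ : Nonempty (Module.support B (N ⊗[A] M)) := by
    obtain ⟨q⟩ := hneF
    exact ⟨⟨q.1, hFβ q.1 q.2⟩⟩
  simp only [Module.supportDim, Order.krullDim_eq_iSup_length]
  rw [← WithBot.coe_add, WithBot.coe_le_coe]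
  refine ENat.iSup_add_iSup_le fun lM lF => ?_
  obtain ⟨lM', hlen', hmax⟩ := Module.exists_ltSeries_support_isMaximal_last_of_ltSeries_support lM
  have hlast : lM'.last.1 = IsLocalRing.closedPoint A := by
    ext1
    exact IsLocalRing.eq_maximalIdeal hmax
  let j : Module.support B (FibQ A B N) → Module.support B (N ⊗[A] M) := fun q => ⟨q.1, hFβ q.1 q.2⟩
  have hj : StrictMono j := fun a b h => h
  let lF' : LTSeries (Module.support B (N ⊗[A] M)) := lF.map j hj
  have hhead : f lF'.head = lM'.last := by
    apply Subtype.ext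
    rw [hlast]
    exact (hF lF.head.1 lF.head.2).2
  obtain ⟨L, hLlen, hLlast, -⟩ := exists_ltSeries_lift f hGD lM' lF'.head hhead
  have hsm : (L.smash lF' hLlast).length = lM'.length + lF.length := by
    simp [hLlen, lF']
  calc (lM.length : ℕ∞) + lF.length ≤ lM'.length + lF.length := by gcongr
    _ = ((L.smash lF' hLlast).length : ℕ∞) := by rw [hsm]; push_cast; rfl
    _ ≤ _ := le_iSup (fun l : LTSeries (Module.support B (N ⊗[A] M)) => (l.length : ℕ∞)) _

/-- **Dimension formula** for `N ⊗_A M`, `N` flat over `A` (EGA IV 6.1.2 / Matsumura 15.1). -/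
theorem supportDim_tensor_of_flat :
    Module.supportDim B (N ⊗[A] M) = Module.supportDim A M + Module.supportDim B (FibQ A B N) :=
  le_antisymm (Groth.Agent.Lib.Helper5.TensorDim.main A B M N)
    (supportDim_add_le_supportDim_tensor A B M N)

end Main

end Groth.Agent.Lib.Seat11.FlatDim
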