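import Mathlib
import Groth.Prelude.Def_EGA4b
import Groth.Agent.Lib.Seat11FlatDim
import Groth.Agent.Lib.Helper28DepthBC
import Groth.Agent.Lib.Helper28DepthLoc
import Groth.Agent.Lib.Helper5RLR

/-!
# Dimension and depth are insensitive to a surjective change of rings (seat 11)

and the Cohen–Macaulay criterion for `N ⊗_A M`, `N` flat over `A`.
-/

set_option autoImplicit false
universe u v w
open TensorProduct

namespace Groth.Agent.Lib.Seat11.FibRing

section Surj

variable {R : Type u} {R' : Type v} [CommRing R] [CommRing R'] [Algebra R R']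
  (hs : Function.Surjective (algebraMap R R'))
  (M : Type w) [AddCommGroup M] [Module R M] [Module R' M] [IsScalarTower R R' M]

include hs in
theorem comap_mem_support_iff (q' : PrimeSpectrum R') :
    q'.comap (algebraMap R R') ∈ Module.support R M ↔ q' ∈ Module.support R' M := by
  rw [Module.mem_support_iff', Module.mem_support_iff']
  constructor
  · rintro ⟨m, hm⟩
    refine ⟨m, fun r' hr' => ?_⟩
    obtain ⟨r, rfl⟩ := hs r'
    rw [algebraMap_smul]
    exact hm r hr'
  · rintro ⟨m, hm⟩
    refine ⟨m, fun r hr => ?_⟩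
    rw [← algebraMap_smul R' r m]
    exact hm _ hr

include hs in
theorem supportDim_eq_of_surjective :
    Module.supportDim R' M = Module.supportDim R M := by
  apply le_antisymm
  · let f : Module.support R' M → Module.support R M := fun q' =>
      ⟨q'.1.comap (algebraMap R R'), (comap_mem_support_iff hs M q'.1).mpr q'.2⟩
    refine Order.krullDim_le_of_strictMono f ?_
    intro a b hab
    have hle : a.1 ≤ b.1 := hab.le
    refine lt_of_le_of_ne (Ideal.comap_mono hle) ?_
    intro heq
    have h2 : a.1 = b.1 := PrimeSpectrum.comap_injective_of_surjective _ hs (Subtype.ext_iff.mp heq)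
    exact hab.ne (Subtype.ext h2)
  · have hker : ∀ q ∈ Module.support R M, RingHom.ker (algebraMap R R') ≤ q.asIdeal := by
      intro q hq r hr
      apply Module.annihilator_le_of_mem_support hq
      rw [Module.mem_annihilator]
      intro m
      rw [← algebraMap_smul R' r m, (RingHom.mem_ker).mp hr, zero_smul]
    have hex : ∀ q ∈ Module.support R M, ∃ q' : PrimeSpectrum R', q'.comap (algebraMap R R') = q := by
      intro q hq
      have : q ∈ Set.range (PrimeSpectrum.comap (algebraMap R R')) := by
        rw [range_comap_of_surjective _ _ hs, PrimeSpectrum.mem_zeroLocus]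
        exact hker q hq
      exact this
    choose g hg using hex
    let f : Module.support R M → Module.support R' M := fun q =>
      ⟨g q.1 q.2, (comap_mem_support_iff hs M _).mp (by rw [hg]; exact q.2)⟩
    refine Order.krullDim_le_of_strictMono f ?_
    intro a b hab
    have h1 : (g a.1 a.2).comap (algebraMap R R') = a.1 := hg a.1 a.2
    have h2 : (g b.1 b.2).comap (algebraMap R R') = b.1 := hg b.1 b.2
    have hle : g a.1 a.2 ≤ g b.1 b.2 := by
      intro x hx
      obtain ⟨r, rfl⟩ := hs x
      have hr : r ∈ a.1.asIdeal := by rw [← h1]; exact hx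
      have hr' : r ∈ b.1.asIdeal := hab.le hr
      rw [← h2] at hr'
      exact hr'
    refine lt_of_le_of_ne hle ?_
    intro heq
    have h3 : g a.1 a.2 = g b.1 b.2 := Subtype.ext_iff.mp heq
    have : a.1 = b.1 := by rw [← h1, ← h2, h3]
    exact hab.ne (Subtype.ext this)

end Surj

section Depth

variable {R R' : Type u} [CommRing R] [CommRing R'] [Algebra R R'] [IsLocalRing R] [IsLocalRing R']
  [IsNoetherianRing R] [IsNoetherianRing R']
  (hs : Function.Surjective (algebraMap R R'))
  (M : Type u) [AddCommGroup M] [Module R M] [Module R' M] [IsScalarTower R R' M]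
  [Module.Finite R' M]

include hs in
theorem map_maximalIdeal_eq :
    (IsLocalRing.maximalIdeal R).map (algebraMap R R') = IsLocalRing.maximalIdeal R' := by
  have hloc : IsLocalHom (algebraMap R R') := hs.isLocalHom _
  apply le_antisymm (IsLocalRing.map_maximalIdeal_le (algebraMap R R'))
  intro x hx
  obtain ⟨r, rfl⟩ := hs x
  apply Ideal.mem_map_of_mem
  rw [IsLocalRing.mem_maximalIdeal, mem_nonunits_iff] at hx ⊢
  exact fun hu => hx (hu.map _)

include hs in
theorem depth_eq_of_surjective : LocCoh.depth R' M = LocCoh.depth R M := by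
  have hfinR' : Module.Finite R R' := Module.Finite.of_surjective (Algebra.linearMap R R') hs
  have hfin : Module.Finite R M := Module.Finite.trans R' M
  unfold LocCoh.depth
  rw [Groth.Agent.Lib.Helper28.idealDepth_restrictScalars_eq_idealDepth_map (B := R')
    (IsLocalRing.maximalIdeal R) M, map_maximalIdeal_eq hs]

end Depth

section CM

variable (A B : Type u) [CommRing A] [CommRing B] [IsLocalRing A] [IsLocalRing B]
  [IsNoetherianRing A] [IsNoetherianRing B] [Algebra A B] [IsLocalHom (algebraMap A B)]
  (M : Type u) [AddCommGroup M] [Module A M] [Module.Finite A M] [Nontrivial M]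
  (N : Type u) [AddCommGroup N] [Module B N] [Module A N] [IsScalarTower A B N]
  [Module.Finite B N] [Nontrivial N] [Module.Flat A N]

omit [IsNoetherianRing A] [Module A N] [IsScalarTower A B N] [Nontrivial N] [Module.Flat A N] in
theorem supportDim_fibMod :
    Module.supportDim (EGA4.FibRing A B) (EGA4.FibMod A B N) =
      Module.supportDim B (EGA4.FibMod A B N) :=
  supportDim_eq_of_surjective (R := B) (R' := EGA4.FibRing A B) Ideal.Quotient.mk_surjective _

omit [IsNoetherianRing A] [Module A N] [IsScalarTower A B N] [Nontrivial N] [Module.Flat A N] in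
theorem depth_fibMod :
    LocCoh.depth (EGA4.FibRing A B) (EGA4.FibMod A B N) =
      LocCoh.depth B (EGA4.FibMod A B N) := by
  have : Module.Finite (EGA4.FibRing A B) (EGA4.FibMod A B N) :=
    Module.Finite.of_restrictScalars_finite B _ _
  exact depth_eq_of_surjective (R := B) (R' := EGA4.FibRing A B) Ideal.Quotient.mk_surjective _

/-- `N ⊗_A M` is Cohen–Macaulay iff `M` and the closed fibre of `N` are (EGA IV 6.3.3). -/
theorem isCohenMacaulay_tensor_iff :
    LocCoh.IsCohenMacaulayModule B (N ⊗[A] M) ↔
      (LocCoh.IsCohenMacaulayModule A M ∧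
        LocCoh.IsCohenMacaulayModule (EGA4.FibRing A B) (EGA4.FibMod A B N)) := by
  unfold LocCoh.IsCohenMacaulayModule
  rw [supportDim_fibMod, depth_fibMod,
    Groth.Agent.Lib.Seat11.FlatDim.supportDim_tensor_of_flat A B M N,
    Groth.Agent.Lib.Helper28.depth_tensor_of_flat (R := A) (S := B) M N]
  have hFnt : Nontrivial (EGA4.FibMod A B N) := Groth.Agent.Lib.Seat11.FlatDim.nontrivial_fib A B N
  obtain ⟨a, ha⟩ := Groth.Agent.Lib.Helper5.IntegralMod.exists_nat_supportDim (A := A) M
  obtain ⟨b, hb⟩ := Groth.Agent.Lib.Helper5.IntegralMod.exists_nat_supportDim (A := B)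
    (EGA4.FibMod A B N)
  have hM1 := Groth.Agent.Lib.Helper28.depth_le_supportDim (R := A) (M := M)
  have hF1 := Groth.Agent.Lib.Helper28.depth_le_supportDim (R := B) (M := EGA4.FibMod A B N)
  have hcM : LocCoh.depth A M ≠ ⊤ := Groth.Agent.Lib.Helper28.idealDepth_ne_top
    (Groth.Agent.Lib.Helper28.maximalIdeal_smul_top_ne_top (R := A) (M := M))
  have hcF : LocCoh.depth B (EGA4.FibMod A B N) ≠ ⊤ := Groth.Agent.Lib.Helper28.idealDepth_ne_top
    (Groth.Agent.Lib.Helper28.maximalIdeal_smul_top_ne_top (R := B) (M := EGA4.FibMod A B N))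
  obtain ⟨c, hc⟩ := ENat.ne_top_iff_exists.mp hcM
  obtain ⟨d, hd⟩ := ENat.ne_top_iff_exists.mp hcF
  change Module.supportDim A M + Module.supportDim B (EGA4.FibMod A B N) = _ ↔ _
  rw [ha, ← hc] at hM1
  rw [hb, ← hd] at hF1
  rw [ha, hb, ← hc, ← hd]
  have hca : c ≤ a := by exact_mod_cast hM1
  have hdb : d ≤ b := by exact_mod_cast hF1
  constructor
  · intro h
    have h' : a + b = c + d := by exact_mod_cast h
    have h1 : a = c := by omega
    have h2 : b = d := by omega
    subst h1 h2
    exact ⟨rfl, rfl⟩
  · rintro ⟨h1, h2⟩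
    have h1' : a = c := by exact_mod_cast h1
    have h2' : b = d := by exact_mod_cast h2
    subst h1' h2'
    push_cast
    rfl

end CM

end Groth.Agent.Lib.Seat11.FibRing
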