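import Mathlib
import Groth.Prelude.Def_EGA4b
import Groth.Agent.Lib.Helper5CodepthOpen
import Groth.Agent.Lib.Helper28FibLoc
import Groth.Agent.Lib.Seat11FibRing

/-!
# Depth and dimension of `(F ⊗_A E)_q` (seat 11)

For `A → B` Noetherian, `q` a prime of `B` over `p = q ∩ A`, `E` a finite `A`-module and `F` a finite
`B`-module flat over `A`:

* `dep q (F ⊗ E) = dep p E + depth_{B_q} (F_q / p F_q)`;
* `dm q (F ⊗ E) = dm p E + dim_{B_q} (F_q / p F_q)`.
-/

set_option autoImplicit false
universe u
open TensorProduct

namespace Groth.Agent.Lib.Seat11.LocTensor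
open Groth.Agent.Lib.Helper28 Groth.Agent.Lib.Helper5 Groth.Agent.Lib.Helper5.GenDepth

section General

variable {A B : Type u} [CommRing A] [CommRing B] [IsLocalRing A] [IsLocalRing B]
  [IsNoetherianRing A] [IsNoetherianRing B] [Algebra A B] [IsLocalHom (algebraMap A B)]
  (M : Type u) [AddCommGroup M] [Module A M] [Module.Finite A M]
  (N : Type u) [AddCommGroup N] [Module B N] [Module A N] [IsScalarTower A B N]
  [Module.Finite B N] [Module.Flat A N]

/-- The dimension formula without nontriviality hypotheses. -/
theorem supportDim_tensor_of_flat' :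
    Module.supportDim B (N ⊗[A] M) =
      Module.supportDim A M + Module.supportDim B (Groth.Agent.Lib.Seat11.FlatDim.FibQ A B N) := by
  by_cases hN : Subsingleton N
  · have h1 : Subsingleton (N ⊗[A] M) := inferInstance
    have h2 : Subsingleton (Groth.Agent.Lib.Seat11.FlatDim.FibQ A B N) := inferInstance
    rw [Module.supportDim_eq_bot_of_subsingleton (R := B) (M := N ⊗[A] M),
      Module.supportDim_eq_bot_of_subsingleton (R := B)
        (M := Groth.Agent.Lib.Seat11.FlatDim.FibQ A B N), WithBot.add_bot]
  by_cases hM : Subsingleton M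
  · have h1 : Subsingleton (N ⊗[A] M) := inferInstance
    rw [Module.supportDim_eq_bot_of_subsingleton (R := B) (M := N ⊗[A] M),
      Module.supportDim_eq_bot_of_subsingleton (R := A) (M := M), WithBot.bot_add]
  rw [not_subsingleton_iff_nontrivial] at hN hM
  exact Groth.Agent.Lib.Seat11.FlatDim.supportDim_tensor_of_flat A B M N

end General

section Loc

variable {A B : Type u} [CommRing A] [CommRing B] [IsNoetherianRing A] [IsNoetherianRing B]
  [Algebra A B] (q : Ideal B) [q.IsPrime]
  (E : Type u) [AddCommGroup E] [Module A E] [Module.Finite A E]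
  (F : Type u) [AddCommGroup F] [Module B F] [Module A F] [IsScalarTower A B F]
  [Module.Finite B F] [Module.Flat A F]

/-- Depth and dimension of `(F ⊗_A E)_q` in terms of `E_p` and the fibre `F_q / p F_q`. -/
theorem dep_dm_tensor :
    dep q (F ⊗[A] E) = dep (q.comap (algebraMap A B)) E +
      LocCoh.depth (Localization.AtPrime q) (EGA4.FibLocMod A B q F) ∧
    dm q (F ⊗[A] E) = dm (q.comap (algebraMap A B)) E +
      Module.supportDim (Localization.AtPrime q) (EGA4.FibLocMod A B q F) := by
  set p : Ideal A := q.comap (algebraMap A B) with hp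
  have hlies : q.LiesOver p := ⟨rfl⟩
  let alg := Localization.AtPrime.algebraOfLiesOver p q
  have hloc : IsLocalHom (algebraMap (Localization.AtPrime p) (Localization.AtPrime q)) := by
    rw [RingHom.algebraMap_toAlgebra]
    exact Localization.isLocalHom_localRingHom p q (algebraMap A B) Ideal.LiesOver.over
  let mod : Module (Localization.AtPrime p) (LocalizedModule q.primeCompl F) :=
    Module.compHom _ (algebraMap (Localization.AtPrime p) (Localization.AtPrime q))
  have t1 : IsScalarTower (Localization.AtPrime p) (Localization.AtPrime q)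
      (LocalizedModule q.primeCompl F) :=
    ⟨fun a b x => by
      change (a • b) • x = algebraMap _ (Localization.AtPrime q) a • (b • x)
      rw [Algebra.smul_def, mul_smul]⟩
  have t2 : IsScalarTower A (Localization.AtPrime p) (LocalizedModule q.primeCompl F) :=
    IsScalarTower.of_algebraMap_smul fun r x => by
      change algebraMap (Localization.AtPrime p) (Localization.AtPrime q) (algebraMap A _ r) • x
        = r • x
      rw [← IsScalarTower.algebraMap_apply, IsScalarTower.algebraMap_apply A B
        (Localization.AtPrime q), algebraMap_smul, algebraMap_smul]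
  have t3 : IsScalarTower A (Localization.AtPrime q) (LocalizedModule q.primeCompl F) :=
    IsScalarTower.of_algebraMap_smul fun r x => by
      rw [IsScalarTower.algebraMap_apply A B (Localization.AtPrime q), algebraMap_smul,
        algebraMap_smul]
  have hflatA : Module.Flat A (LocalizedModule q.primeCompl F) :=
    flat_localizedModule_of_flat q.primeCompl
  have hflat : Module.Flat (Localization.AtPrime p) (LocalizedModule q.primeCompl F) :=
    (Module.flat_iff_of_isLocalization (Localization.AtPrime p) p.primeCompl _).mpr hflatA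
  have hmapeq : (IsLocalRing.maximalIdeal (Localization.AtPrime p)).map
      (algebraMap (Localization.AtPrime p) (Localization.AtPrime q)) =
      p.map (algebraMap A (Localization.AtPrime q)) := by
    rw [← IsLocalization.AtPrime.map_eq_maximalIdeal p (Localization.AtPrime p), Ideal.map_map,
      ← IsScalarTower.algebraMap_eq]
  haveI : IsNoetherianRing (Localization.AtPrime p) :=
    IsLocalization.isNoetherianRing p.primeCompl _ inferInstance
  haveI : IsNoetherianRing (Localization.AtPrime q) :=
    IsLocalization.isNoetherianRing q.primeCompl _ inferInstance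
  -- the identification of the localized tensor product
  let e_a : (Localization.AtPrime q) ⊗[B] (F ⊗[A] E) ≃ₗ[Localization.AtPrime q]
      ((Localization.AtPrime q) ⊗[B] F) ⊗[A] E :=
    (TensorProduct.AlgebraTensorModule.assoc A B (Localization.AtPrime q)
      (Localization.AtPrime q) F E).symm
  let e_b : ((Localization.AtPrime q) ⊗[B] F) ⊗[A] E ≃ₗ[Localization.AtPrime q]
      (LocalizedModule q.primeCompl F) ⊗[A] E :=
    TensorProduct.AlgebraTensorModule.congr
      (IsLocalizedModule.isBaseChange q.primeCompl (Localization.AtPrime q)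
        (LocalizedModule.mkLinearMap q.primeCompl F)).equiv (LinearEquiv.refl A E)
  let e_c : (LocalizedModule q.primeCompl F) ⊗[A] E ≃ₗ[Localization.AtPrime q]
      (LocalizedModule q.primeCompl F) ⊗[Localization.AtPrime p]
        ((Localization.AtPrime p) ⊗[A] E) :=
    (TensorProduct.AlgebraTensorModule.cancelBaseChange A (Localization.AtPrime p)
      (Localization.AtPrime q) (LocalizedModule q.primeCompl F) E).symm
  let e := e_a ≪≫ₗ e_b ≪≫ₗ e_c
  -- the `B`-module structure on the target and the localization map
  letI modB : Module B ((LocalizedModule q.primeCompl F) ⊗[Localization.AtPrime p]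
      ((Localization.AtPrime p) ⊗[A] E)) :=
    Module.compHom _ (algebraMap B (Localization.AtPrime q))
  haveI towB : IsScalarTower B (Localization.AtPrime q)
      ((LocalizedModule q.primeCompl F) ⊗[Localization.AtPrime p]
        ((Localization.AtPrime p) ⊗[A] E)) :=
    IsScalarTower.of_algebraMap_smul fun r x => rfl
  let φ : F ⊗[A] E →ₗ[B] (LocalizedModule q.primeCompl F) ⊗[Localization.AtPrime p]
      ((Localization.AtPrime p) ⊗[A] E) :=
    (e.restrictScalars B).toLinearMap ∘ₗ
      (TensorProduct.mk B (Localization.AtPrime q) (F ⊗[A] E) 1)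
  have hbc : IsBaseChange (Localization.AtPrime q) φ := IsBaseChange.of_equiv e (fun x => rfl)
  haveI hlm : IsLocalizedModule q.primeCompl φ :=
    (isLocalizedModule_iff_isBaseChange q.primeCompl (Localization.AtPrime q) φ).mpr hbc
  haveI hfinT : Module.Finite B (F ⊗[A] E) :=
    Groth.Agent.Lib.Helper5.TensorDim.finite_tensor A B E F
  obtain ⟨h1, h2⟩ := FinDimDepth.transport_aux q (F ⊗[A] E) (Localization.AtPrime q)
    ((LocalizedModule q.primeCompl F) ⊗[Localization.AtPrime p]
      ((Localization.AtPrime p) ⊗[A] E)) φ
  -- the base module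
  obtain ⟨h3, h4⟩ := FinDimDepth.transport_aux p E (Localization.AtPrime p)
    ((Localization.AtPrime p) ⊗[A] E) (TensorProduct.mk A (Localization.AtPrime p) E 1)
  -- the fibre
  let eF : (LocalizedModule q.primeCompl F ⧸
        ((IsLocalRing.maximalIdeal (Localization.AtPrime p)).map
          (algebraMap (Localization.AtPrime p) (Localization.AtPrime q)) •
          (⊤ : Submodule (Localization.AtPrime q) (LocalizedModule q.primeCompl F))))
      ≃ₗ[Localization.AtPrime q] EGA4.FibLocMod A B q F :=
    Submodule.quotEquivOfEq _ _ (by rw [hmapeq])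
  have h5 : LocCoh.depth (Localization.AtPrime q) (LocalizedModule q.primeCompl F ⧸
        ((IsLocalRing.maximalIdeal (Localization.AtPrime p)).map
          (algebraMap (Localization.AtPrime p) (Localization.AtPrime q)) •
          (⊤ : Submodule (Localization.AtPrime q) (LocalizedModule q.primeCompl F)))) =
      LocCoh.depth (Localization.AtPrime q) (EGA4.FibLocMod A B q F) := by
    change LocCoh.idealDepth _ _ = LocCoh.idealDepth _ _
    exact idealDepth_congr eF _
  have h6 : Module.supportDim (Localization.AtPrime q) (LocalizedModule q.primeCompl F ⧸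
        ((IsLocalRing.maximalIdeal (Localization.AtPrime p)).map
          (algebraMap (Localization.AtPrime p) (Localization.AtPrime q)) •
          (⊤ : Submodule (Localization.AtPrime q) (LocalizedModule q.primeCompl F)))) =
      Module.supportDim (Localization.AtPrime q) (EGA4.FibLocMod A B q F) :=
    Module.supportDim_eq_of_equiv eF
  have hd := depth_tensor_of_flat (R := Localization.AtPrime p) (S := Localization.AtPrime q)
    ((Localization.AtPrime p) ⊗[A] E) (LocalizedModule q.primeCompl F)
  have hdim := supportDim_tensor_of_flat' (A := Localization.AtPrime p)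
    (B := Localization.AtPrime q) ((Localization.AtPrime p) ⊗[A] E)
    (LocalizedModule q.primeCompl F)
  constructor
  · change LocCoh.depth _ _ = LocCoh.depth _ _ + _
    rw [← h1, ← h3, ← h5]
    exact hd
  · change Module.supportDim _ _ = Module.supportDim _ _ + _
    rw [← h2, ← h4, ← h6]
    exact hdim

end Loc

section MaxIdeal

variable {R : Type u} [CommRing R] [IsNoetherianRing R] [IsLocalRing R]
  (M : Type u) [AddCommGroup M] [Module R M] [Module.Finite R M]

/-- Localizing a local ring at its maximal ideal changes nothing. -/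
theorem dep_dm_maximalIdeal :
    dep (IsLocalRing.maximalIdeal R) M = LocCoh.depth R M ∧
    dm (IsLocalRing.maximalIdeal R) M = Module.supportDim R M := by
  haveI hloc : IsLocalization.AtPrime R (IsLocalRing.maximalIdeal R) :=
    IsLocalization.self (fun x hx => by
      have hx' : x ∉ IsLocalRing.maximalIdeal R := hx
      rw [IsLocalRing.mem_maximalIdeal, mem_nonunits_iff, not_not] at hx'
      exact hx')
  haveI hlm : IsLocalizedModule (IsLocalRing.maximalIdeal R).primeCompl
      (LinearMap.id : M →ₗ[R] M) :=
    isLocalizedModule_id (IsLocalRing.maximalIdeal R).primeCompl M R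
  obtain ⟨h1, h2⟩ := FinDimDepth.transport_aux (IsLocalRing.maximalIdeal R) M R M LinearMap.id
  exact ⟨h1.symm, h2.symm⟩

end MaxIdeal

section FibLoc

variable {A B : Type u} [CommRing A] [CommRing B] [IsNoetherianRing B]
  [Algebra A B] (q : Ideal B) [q.IsPrime]
  (F : Type u) [AddCommGroup F] [Module B F] [Module.Finite B F]

omit [IsNoetherianRing B] in
theorem map_comap_ne_top :
    (q.comap (algebraMap A B)).map (algebraMap A (Localization.AtPrime q)) ≠ ⊤ := by
  intro h
  have hle : (q.comap (algebraMap A B)).map (algebraMap A (Localization.AtPrime q)) ≤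
      IsLocalRing.maximalIdeal (Localization.AtPrime q) := by
    rw [Ideal.map_le_iff_le_comap]
    intro a ha
    rw [Ideal.mem_comap, IsScalarTower.algebraMap_apply A B (Localization.AtPrime q)]
    exact (IsLocalization.AtPrime.to_map_mem_maximal_iff (Localization.AtPrime q) q _).mpr ha
  exact (IsLocalRing.maximalIdeal.isMaximal (Localization.AtPrime q)).ne_top
    (top_le_iff.mp (h ▸ hle))

omit [IsNoetherianRing B] in
instance nontrivial_fibLocRing : Nontrivial (EGA4.FibLocRing A B q) :=
  Ideal.Quotient.nontrivial_iff.mpr (map_comap_ne_top q)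

/-- `(S_k)` of the fibre stalk over the fibre local ring, read over `B_q`. -/
theorem good_fib (k : ℕ)
    (h : LocCoh.HasSk k (EGA4.FibLocRing A B q) (EGA4.FibLocMod A B q F)) :
    min (k : WithBot ℕ∞)
        (Module.supportDim (Localization.AtPrime q) (EGA4.FibLocMod A B q F)) ≤
      ((LocCoh.depth (Localization.AtPrime q) (EGA4.FibLocMod A B q F) : ℕ∞) : WithBot ℕ∞) := by
  haveI : IsNoetherianRing (Localization.AtPrime q) :=
    IsLocalization.isNoetherianRing q.primeCompl _ inferInstance
  haveI hfin : Module.Finite (EGA4.FibLocRing A B q) (EGA4.FibLocMod A B q F) :=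
    Module.Finite.of_restrictScalars_finite (Localization.AtPrime q) _ _
  have h0 := h (IsLocalRing.maximalIdeal (EGA4.FibLocRing A B q))
  obtain ⟨h1, h2⟩ := dep_dm_maximalIdeal (R := EGA4.FibLocRing A B q) (EGA4.FibLocMod A B q F)
  change min (k : WithBot ℕ∞) (dm (IsLocalRing.maximalIdeal (EGA4.FibLocRing A B q))
      (EGA4.FibLocMod A B q F)) ≤ ((dep (IsLocalRing.maximalIdeal (EGA4.FibLocRing A B q))
      (EGA4.FibLocMod A B q F) : ℕ∞) : WithBot ℕ∞) at h0
  rw [h1, h2] at h0
  rw [← Groth.Agent.Lib.Seat11.FibRing.supportDim_eq_of_surjective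
      (R := Localization.AtPrime q) (R' := EGA4.FibLocRing A B q) Ideal.Quotient.mk_surjective,
    ← Groth.Agent.Lib.Seat11.FibRing.depth_eq_of_surjective
      (R := Localization.AtPrime q) (R' := EGA4.FibLocRing A B q) Ideal.Quotient.mk_surjective]
  exact h0

end FibLoc

section Sk

variable {A B : Type u} [CommRing A] [CommRing B] [IsNoetherianRing A] [IsNoetherianRing B]
  [Algebra A B]
  (E : Type u) [AddCommGroup E] [Module A E] [Module.Finite A E]
  (F : Type u) [AddCommGroup F] [Module B F] [Module A F] [IsScalarTower A B F]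
  [Module.Finite B F] [Module.Flat A F]

/-- EGA IV 6.4.1 (ii): `(S_k)` ascends along a flat module with `(S_k)` fibres. -/
theorem hasSkAt_tensor (k : ℕ)
    (hfib : ∀ (q : Ideal B) [q.IsPrime],
      LocCoh.HasSk k (EGA4.FibLocRing A B q) (EGA4.FibLocMod A B q F))
    (q : Ideal B) [q.IsPrime] (hE : EGA4.HasSkAt k A E (q.comap (algebraMap A B))) :
    EGA4.HasSkAt k B (F ⊗[A] E) q := by
  haveI hfinT : Module.Finite B (F ⊗[A] E) :=
    Groth.Agent.Lib.Helper5.TensorDim.finite_tensor A B E F
  rw [CodepthOpen.hasSkAt_iff]
  intro q' hq'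
  have hE' := (CodepthOpen.hasSkAt_iff k E (q.comap (algebraMap A B))).mp hE
    ⟨q'.asIdeal.comap (algebraMap A B), inferInstance⟩ (Ideal.comap_mono hq')
  change min (k : WithBot ℕ∞) (dm (q'.asIdeal.comap (algebraMap A B)) E) ≤
    ((dep (q'.asIdeal.comap (algebraMap A B)) E : ℕ∞) : WithBot ℕ∞) at hE'
  have hF' := good_fib (A := A) q'.asIdeal F k (hfib q'.asIdeal)
  obtain ⟨h1, h2⟩ := dep_dm_tensor (A := A) q'.asIdeal E F
  change min (k : WithBot ℕ∞) (dm q'.asIdeal (F ⊗[A] E)) ≤
    ((dep q'.asIdeal (F ⊗[A] E) : ℕ∞) : WithBot ℕ∞)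
  rw [h1, h2]
  by_cases ha : dm (q'.asIdeal.comap (algebraMap A B)) E = ⊥
  · rw [ha, WithBot.bot_add, min_eq_right bot_le]
    exact bot_le
  by_cases hb : Module.supportDim (Localization.AtPrime q'.asIdeal)
      (EGA4.FibLocMod A B q'.asIdeal F) = ⊥
  · rw [hb, WithBot.add_bot, min_eq_right bot_le]
    exact bot_le
  exact CodepthOpen.good_add ha hb hE' hF'

end Sk

end Groth.Agent.Lib.Seat11.LocTensor
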