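import Mathlib
import Groth.Prelude.Def_EGA4b
import Groth.Agent.Lib.Seat11LocTensor
import Groth.Agent.Lib.Helper28DepthMore

/-!
# Descent of `(S_k)` along a flat module (seat 11)

EGA IV 6.4.1 (i): for `A → B` Noetherian, `E` a finite `A`-module, `F` a finite `B`-module flat over
`A`, `q ∈ Supp F`: if `F ⊗_A E` is `(S_k)` at `q` then `E` is `(S_k)` at `q ∩ A`.
-/

set_option autoImplicit false
universe u
open TensorProduct

namespace Groth.Agent.Lib.Seat11.SkDescent
open Groth.Agent.Lib.Helper28 Groth.Agent.Lib.Helper5 Groth.Agent.Lib.Helper5.GenDepth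
open Groth.Agent.Lib.Seat11.LocTensor

section GoingDown

variable {A B : Type u} [CommRing A] [CommRing B] [Algebra A B] [IsNoetherianRing B]
  {N : Type u} [AddCommGroup N] [Module B N] [Module A N] [IsScalarTower A B N] [Module.Finite B N]
  [Module.Flat A N]

/-- Going-down for the support of a finite `B`-module flat over `A`, with the prime found
associated to (and minimal in the support of) the fibre. -/
theorem exists_le_mem_associatedPrimes_comap_eq (q : PrimeSpectrum B)
    (hq : q ∈ Module.support B N)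
    (p' : PrimeSpectrum A) (hp' : p' ≤ q.comap (algebraMap A B)) :
    ∃ q' : PrimeSpectrum B, q' ≤ q ∧ q' ∈ Module.support B N ∧
      q'.comap (algebraMap A B) = p' ∧
      q'.asIdeal ∈ associatedPrimes B
        (N ⧸ (p'.asIdeal.map (algebraMap A B) • ⊤ : Submodule B N)) := by
  set I : Ideal B := p'.asIdeal.map (algebraMap A B) with hI
  set N' := N ⧸ (I • ⊤ : Submodule B N) with hN'
  have hIq : I ≤ q.asIdeal := Ideal.map_le_iff_le_comap.mpr hp'
  have hqN' : q ∈ Module.support B N' := by
    rw [Module.support_quotient]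
    exact ⟨hq, by rw [PrimeSpectrum.mem_zeroLocus]; exact hIq⟩
  have hann : Module.annihilator B N' ≤ q.asIdeal := Module.annihilator_le_of_mem_support hqN'
  obtain ⟨Q, hQmin, hQle⟩ := Ideal.exists_minimalPrimes_le hann
  have hQprime : Q.IsPrime := hQmin.1.1
  have hQass : Q ∈ associatedPrimes B N' :=
    Module.associatedPrimes.minimalPrimes_annihilator_subset_associatedPrimes B N' hQmin
  have hIann : I ≤ Module.annihilator B N' := by
    intro b hb
    rw [Module.mem_annihilator]
    intro y
    obtain ⟨y, rfl⟩ := Submodule.Quotient.mk_surjective _ y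
    rw [← Submodule.Quotient.mk_smul, Submodule.Quotient.mk_eq_zero]
    exact Submodule.smul_mem_smul hb Submodule.mem_top
  refine ⟨⟨Q, hQprime⟩, hQle, ?_, ?_, hQass⟩
  · have h1 : (⟨Q, hQprime⟩ : PrimeSpectrum B) ∈ Module.support B N' := by
      rw [Module.mem_support_iff_of_finite]
      exact hQmin.1.2
    rw [Module.support_quotient] at h1
    exact h1.1
  · apply le_antisymm
    · intro a ha
      by_contra hap
      obtain ⟨-, y, hy⟩ := isAssociatedPrime_iff.mp hQass
      obtain ⟨x, rfl⟩ := Submodule.Quotient.mk_surjective _ y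
      have hax : algebraMap A B a ∈ Q := ha
      have hy' : ∀ b : B, b ∈ Q ↔ b • x ∈ (I • ⊤ : Submodule B N) := by
        intro b
        rw [hy, Submodule.mem_colon_singleton, Submodule.mem_bot,
          ← Submodule.Quotient.mk_smul, Submodule.Quotient.mk_eq_zero]
      have h1 : a • x ∈ (p'.asIdeal • ⊤ : Submodule A N) := by
        rw [← Groth.Agent.Lib.Helper28.mem_map_smul_top_iff (R := A) (S := B),
          ← algebraMap_smul B a x]
        exact (hy' _).mp hax
      have h2 := Groth.Agent.Lib.Seat11.FlatDim.mem_smul_top_of_smul_mem p'.asIdeal hap h1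
      rw [← Groth.Agent.Lib.Helper28.mem_map_smul_top_iff (R := A) (S := B)] at h2
      have h3 : (1 : B) ∈ Q := (hy' 1).mpr (by rwa [one_smul])
      exact hQprime.ne_top ((Ideal.eq_top_iff_one _).mpr h3)
    · intro a ha
      exact hQmin.1.2 (hIann (Ideal.mem_map_of_mem _ ha))

end GoingDown

section Fib

variable {A B : Type u} [CommRing A] [CommRing B] [Algebra A B] [IsNoetherianRing B]
  (Q : Ideal B) [Q.IsPrime]
  (F : Type u) [AddCommGroup F] [Module B F] [Module.Finite B F]

/-- The stalk at `Q` of the fibre `F / p F` is the fibre stalk `F_Q / p F_Q`. -/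
noncomputable def fibLocModEquiv (I : Ideal A)
    (hI : I = Q.comap (algebraMap A B)) :
    LocalizedModule Q.primeCompl (F ⧸ (I.map (algebraMap A B) • ⊤ : Submodule B F))
      ≃ₗ[Localization.AtPrime Q] EGA4.FibLocMod A B Q F :=
  (localizedQuotientEquiv _ _).symm ≪≫ₗ
    Submodule.quotEquivOfEq _ _ (by
      rw [Submodule.localized, Submodule.localized'_smul, Ideal.localized'_eq_map,
        Submodule.localized'_top, Ideal.map_map, ← IsScalarTower.algebraMap_eq, hI])

theorem depth_fibLocMod_eq_zero (I : Ideal A) (hI : I = Q.comap (algebraMap A B))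
    (hass : Q ∈ associatedPrimes B (F ⧸ (I.map (algebraMap A B) • ⊤ : Submodule B F))) :
    LocCoh.depth (Localization.AtPrime Q) (EGA4.FibLocMod A B Q F) = 0 ∧
      Module.supportDim (Localization.AtPrime Q) (EGA4.FibLocMod A B Q F) ≠ ⊥ := by
  have h0 := (depth_localization_eq_zero_iff
    (M := F ⧸ (I.map (algebraMap A B) • ⊤ : Submodule B F)) Q).mpr hass
  have hsupp : (⟨Q, inferInstance⟩ : PrimeSpectrum B) ∈
      Module.support B (F ⧸ (I.map (algebraMap A B) • ⊤ : Submodule B F)) :=
    mem_support_of_mem_associatedPrimes hass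
  have hnt : Nontrivial (LocalizedModule Q.primeCompl
      (F ⧸ (I.map (algebraMap A B) • ⊤ : Submodule B F))) := Module.mem_support_iff.mp hsupp
  constructor
  · rw [← h0]
    change LocCoh.idealDepth _ _ = LocCoh.idealDepth _ _
    exact (idealDepth_congr (fibLocModEquiv (A := A) Q F I hI) _).symm
  · rw [Module.supportDim_ne_bot_iff_nontrivial]
    exact (fibLocModEquiv (A := A) Q F I hI).symm.nontrivial

end Fib

section Sk

variable {A B : Type u} [CommRing A] [CommRing B] [IsNoetherianRing A] [IsNoetherianRing B]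
  [Algebra A B]
  (E : Type u) [AddCommGroup E] [Module A E] [Module.Finite A E]
  (F : Type u) [AddCommGroup F] [Module B F] [Module A F] [IsScalarTower A B F]
  [Module.Finite B F] [Module.Flat A F]

/-- EGA IV 6.4.1 (i): `(S_k)` descends along a flat module. -/
theorem hasSkAt_base (k : ℕ) (q : PrimeSpectrum B) (hq : q ∈ Module.support B F)
    (h : EGA4.HasSkAt k B (F ⊗[A] E) q.asIdeal) :
    EGA4.HasSkAt k A E (q.asIdeal.comap (algebraMap A B)) := by
  haveI hfinT : Module.Finite B (F ⊗[A] E) :=
    Groth.Agent.Lib.Helper5.TensorDim.finite_tensor A B E F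
  rw [CodepthOpen.hasSkAt_iff]
  intro p' hp'
  obtain ⟨q', hq'q, hq'F, hq'p, hass⟩ :=
    exists_le_mem_associatedPrimes_comap_eq (N := F) q hq p' hp'
  have hI : p'.asIdeal = q'.asIdeal.comap (algebraMap A B) := by
    rw [← hq'p]; rfl
  obtain ⟨hd0, hsd⟩ := depth_fibLocMod_eq_zero (A := A) q'.asIdeal F p'.asIdeal hI hass
  have hT := (CodepthOpen.hasSkAt_iff k (F ⊗[A] E) q.asIdeal).mp h q' hq'q
  change min (k : WithBot ℕ∞) (dm q'.asIdeal (F ⊗[A] E)) ≤
    ((dep q'.asIdeal (F ⊗[A] E) : ℕ∞) : WithBot ℕ∞) at hT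
  obtain ⟨h1, h2⟩ := dep_dm_tensor (A := A) q'.asIdeal E F
  rw [h1, h2, hd0, add_zero] at hT
  obtain ⟨h3, h4⟩ := CodepthOpen.dep_dm_congr_ideal hI E
  change min (k : WithBot ℕ∞) (dm p'.asIdeal E) ≤ ((dep p'.asIdeal E : ℕ∞) : WithBot ℕ∞)
  rw [h3, h4]
  refine le_trans (min_le_min le_rfl ?_) hT
  obtain ⟨c, hc⟩ := WithBot.ne_bot_iff_exists.mp hsd
  rw [← hc]
  exact le_add_of_nonneg_right (WithBot.coe_le_coe.mpr zero_le)

end Sk

end Groth.Agent.Lib.Seat11.SkDescent
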