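import Mathlib
import Groth.Agent.S2069
import Groth.Agent.Lib.Seat11FlatDim
import Groth.Agent.Lib.Seat11SkDescent
import Groth.Agent.Lib.Helper28DepthFlat

/-!
# Associated primes of `F ⊗_A E` for `F` flat over `A` (seat 11)

Ring-level input for EGA IV 3.3.1–3.3.3.

* `comap_eq_of_mem_associatedPrimes`: associated primes of `F / pF` lie over `p` (`F` flat over `A`).
* `maximalIdeal_mem_associatedPrimes_tensor_iff`: for a local homomorphism `A → B`,
  `m_B ∈ Ass_B(F ⊗_A E) ↔ m_A ∈ Ass_A(E) ∧ m_B ∈ Ass_B(F / m_A F)`.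
* `exists_embedded`: if `m_A` and `p' ` are associated to `E` then there are associated primes
  `q₁' ≤ q₁` of `F ⊗_A E` over `p'` and `m_A`.
* `mem_associatedPrimes_of_surjective_iff`, `mem_associatedPrimes_baseChange_surjective_iff`:
  associated primes along a surjective ring map.
-/

set_option autoImplicit false
set_option linter.style.haveILetI false
set_option linter.unusedSectionVars false
universe u
open TensorProduct

namespace Groth.Agent.Lib.Seat11.AssRing

section LiesOver

variable {A B : Type u} [CommRing A] [CommRing B] [Algebra A B]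
  {F : Type u} [AddCommGroup F] [Module B F] [Module A F] [IsScalarTower A B F] [Module.Flat A F]

/-- Associated primes of `F / pF` lie over `p` when `F` is flat over `A`. -/
theorem comap_eq_of_mem_associatedPrimes (p : Ideal A) [p.IsPrime] (q : Ideal B)
    (hq : q ∈ associatedPrimes B (F ⧸ (p.map (algebraMap A B) • ⊤ : Submodule B F))) :
    q.comap (algebraMap A B) = p := by
  obtain ⟨hqp, y, hy⟩ := hq
  obtain ⟨x, rfl⟩ := Submodule.Quotient.mk_surjective _ y
  have hy' : ∀ b : B, b ∈ q ↔ ∃ k : ℕ, b ^ k • x ∈ (p.map (algebraMap A B) • ⊤ : Submodule B F) := by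
    intro b
    rw [hy, Ideal.mem_radical_iff]
    refine exists_congr (fun k => ?_)
    rw [Submodule.mem_colon_singleton, Submodule.mem_bot,
      ← Submodule.Quotient.mk_smul, Submodule.Quotient.mk_eq_zero]
  apply le_antisymm
  · intro a ha
    by_contra hap
    have hax : algebraMap A B a ∈ q := ha
    obtain ⟨k, hk⟩ := (hy' _).mp hax
    have h1 : a ^ k • x ∈ (p • ⊤ : Submodule A F) := by
      rw [← Groth.Agent.Lib.Helper28.mem_map_smul_top_iff (R := A) (S := B),
        ← algebraMap_smul B (a ^ k) x, map_pow]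
      exact hk
    have hapk : a ^ k ∉ p := fun h => hap (Ideal.IsPrime.mem_of_pow_mem inferInstance k h)
    have h2 := Groth.Agent.Lib.Seat11.FlatDim.mem_smul_top_of_smul_mem p hapk h1
    rw [← Groth.Agent.Lib.Helper28.mem_map_smul_top_iff (R := A) (S := B)] at h2
    have h3 : (1 : B) ∈ q := (hy' 1).mpr ⟨1, by rwa [pow_one, one_smul]⟩
    exact hqp.ne_top ((Ideal.eq_top_iff_one _).mpr h3)
  · intro a ha
    show algebraMap A B a ∈ q
    rw [hy']
    exact ⟨1, by
      rw [pow_one]
      exact Submodule.smul_mem_smul (Ideal.mem_map_of_mem _ ha) Submodule.mem_top⟩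

end LiesOver

section Local

variable {A B : Type u} [CommRing A] [CommRing B] [Algebra A B] [IsLocalRing A] [IsLocalRing B]
  [IsLocalHom (algebraMap A B)] [IsNoetherianRing A]
  (E : Type u) [AddCommGroup E] [Module A E]
  (F : Type u) [AddCommGroup F] [Module B F] [Module A F] [IsScalarTower A B F] [Module.Flat A F]

omit [IsNoetherianRing A] in
theorem comap_maximalIdeal :
    (IsLocalRing.maximalIdeal B).comap (algebraMap A B) = IsLocalRing.maximalIdeal A := by
  ext a
  rw [Ideal.mem_comap, IsLocalRing.mem_maximalIdeal, IsLocalRing.mem_maximalIdeal,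
    mem_nonunits_iff, mem_nonunits_iff, not_iff_not]
  exact isUnit_map_iff (algebraMap A B) a

/-- EGA IV 3.3.1 at a closed point: `m_B ∈ Ass(F ⊗_A E)` iff `m_A ∈ Ass E` and
`m_B ∈ Ass(F / m_A F)`. -/
theorem maximalIdeal_mem_associatedPrimes_tensor_iff :
    IsLocalRing.maximalIdeal B ∈ associatedPrimes B (F ⊗[A] E) ↔
      IsLocalRing.maximalIdeal A ∈ associatedPrimes A E ∧
      IsLocalRing.maximalIdeal B ∈ associatedPrimes B
        (F ⧸ ((IsLocalRing.maximalIdeal A).map (algebraMap A B) • ⊤ : Submodule B F)) := by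
  rw [Groth.Agent.S2069.result (R := A) (S := B) (M := E) (N := F)]
  simp only [Set.mem_iUnion, exists_prop]
  constructor
  · rintro ⟨p, hp, hq⟩
    haveI : p.IsPrime := hp.isPrime
    have h1 := comap_eq_of_mem_associatedPrimes p _ hq
    rw [comap_maximalIdeal] at h1
    subst h1
    exact ⟨hp, hq⟩
  · rintro ⟨hp, hq⟩
    exact ⟨_, hp, hq⟩

variable [IsNoetherianRing B] [Module.Finite B F] [Nontrivial F]

/-- If `m_A` and `p'` are associated to `E`, then `F ⊗_A E` has associated primes `q₁' ≤ q₁`
lying over `p'` and `m_A` respectively. -/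
theorem exists_embedded (hm : IsLocalRing.maximalIdeal A ∈ associatedPrimes A E) (p' : Ideal A)
    (hp' : p' ∈ associatedPrimes A E) :
    ∃ q₁ q₁' : Ideal B, q₁ ∈ associatedPrimes B (F ⊗[A] E) ∧
      q₁' ∈ associatedPrimes B (F ⊗[A] E) ∧ q₁' ≤ q₁ ∧
      q₁.comap (algebraMap A B) = IsLocalRing.maximalIdeal A ∧
      q₁'.comap (algebraMap A B) = p' := by
  haveI hp'prime : p'.IsPrime := hp'.isPrime
  set mA := IsLocalRing.maximalIdeal A with hmA
  -- `F / m_A F` is nontrivial
  have hne : ((mA.map (algebraMap A B)) • ⊤ : Submodule B F) ≠ ⊤ := by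
    intro htop
    have hle : mA.map (algebraMap A B) ≤ (⊥ : Ideal B).jacobson := by
      rw [IsLocalRing.jacobson_eq_maximalIdeal ⊥ bot_ne_top]
      exact IsLocalRing.map_maximalIdeal_le _
    have h2 : (⊤ : Submodule B F) ≤ (mA.map (algebraMap A B)) • ⊤ := htop.ge
    have := Submodule.eq_bot_of_le_smul_of_le_jacobson_bot _ _ (Module.Finite.fg_top) h2 hle
    exact top_ne_bot this
  haveI : Nontrivial (F ⧸ ((mA.map (algebraMap A B)) • ⊤ : Submodule B F)) :=
    Submodule.Quotient.nontrivial_iff.mpr hne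
  obtain ⟨q₁, hq₁⟩ := associatedPrimes.nonempty B
    (F ⧸ ((mA.map (algebraMap A B)) • ⊤ : Submodule B F))
  haveI hq₁prime : q₁.IsPrime := hq₁.isPrime
  have hc₁ : q₁.comap (algebraMap A B) = mA := comap_eq_of_mem_associatedPrimes mA q₁ hq₁
  have hsupp : (⟨q₁, hq₁prime⟩ : PrimeSpectrum B) ∈ Module.support B F := by
    have h1 : (⟨q₁, hq₁prime⟩ : PrimeSpectrum B) ∈ Module.support B
        (F ⧸ ((mA.map (algebraMap A B)) • ⊤ : Submodule B F)) :=
      Groth.Agent.Lib.Helper28.mem_support_of_mem_associatedPrimes hq₁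
    rw [Module.support_quotient] at h1
    exact h1.1
  have hle : (⟨p', hp'prime⟩ : PrimeSpectrum A) ≤
      (⟨q₁, hq₁prime⟩ : PrimeSpectrum B).comap (algebraMap A B) := by
    show p' ≤ q₁.comap (algebraMap A B)
    rw [hc₁]
    exact IsLocalRing.le_maximalIdeal hp'prime.ne_top
  obtain ⟨q', hq'le, -, hq'c, hq'ass⟩ :=
    Groth.Agent.Lib.Seat11.SkDescent.exists_le_mem_associatedPrimes_comap_eq (A := A) (B := B)
      (N := F) ⟨q₁, hq₁prime⟩ hsupp ⟨p', hp'prime⟩ hle
  refine ⟨q₁, q'.asIdeal, ?_, ?_, hq'le, hc₁, ?_⟩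
  · rw [Groth.Agent.S2069.result (R := A) (S := B) (M := E) (N := F)]
    simp only [Set.mem_iUnion, exists_prop]
    exact ⟨mA, hm, hq₁⟩
  · rw [Groth.Agent.S2069.result (R := A) (S := B) (M := E) (N := F)]
    simp only [Set.mem_iUnion, exists_prop]
    exact ⟨p', hp', hq'ass⟩
  · exact congrArg PrimeSpectrum.asIdeal hq'c

end Local

section Surjective

variable {R R' : Type u} [CommRing R] [CommRing R'] [Algebra R R']
  (hsurj : Function.Surjective (algebraMap R R'))
  (T : Type u) [AddCommGroup T] [Module R' T] [Module R T] [IsScalarTower R R' T]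

include hsurj in
/-- Associated primes along a surjective ring map. -/
theorem mem_associatedPrimes_of_surjective_iff (q' : Ideal R') :
    q' ∈ associatedPrimes R' T ↔ q'.comap (algebraMap R R') ∈ associatedPrimes R T := by
  have hann : ∀ t : T, (((⊥ : Submodule R' T).colon {t}).radical).comap (algebraMap R R') =
      ((⊥ : Submodule R T).colon {t}).radical := by
    intro t
    rw [Ideal.comap_radical]
    congr 1
    ext a
    rw [Ideal.mem_comap, Submodule.mem_colon_singleton, Submodule.mem_colon_singleton,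
      Submodule.mem_bot, Submodule.mem_bot, algebraMap_smul]
  constructor
  · rintro ⟨hp, t, ht⟩
    refine ⟨Ideal.comap_isPrime _ _, t, ?_⟩
    rw [ht, hann]
  · rintro ⟨hp, t, ht⟩
    have heq : q' = ((⊥ : Submodule R' T).colon {t}).radical := by
      apply Ideal.comap_injective_of_surjective _ hsurj
      rw [ht, hann]
    refine ⟨?_, t, heq⟩
    have := Ideal.map_isPrime_of_surjective hsurj (I := q'.comap (algebraMap R R')) (by
      intro a ha
      rw [Ideal.mem_comap]
      rw [RingHom.mem_ker] at ha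
      rw [ha]
      exact zero_mem _)
    rwa [Ideal.map_comap_of_surjective _ hsurj] at this

end Surjective

section BaseChangeSurj

variable {R R' : Type u} [CommRing R] [CommRing R'] [Algebra R R']
  (hsurj : Function.Surjective (algebraMap R R'))
  (N : Type u) [AddCommGroup N] [Module R N]

/-- For `R → R'` surjective with kernel `I`: `R' ⊗_R N ≃ N / I N`. -/
noncomputable def baseChangeSurjEquiv :
    R' ⊗[R] N ≃ₗ[R] N ⧸ (RingHom.ker (algebraMap R R') • ⊤ : Submodule R N) :=
  (TensorProduct.congr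
    ((Ideal.quotientKerAlgEquivOfSurjective (f := Algebra.ofId R R') hsurj).symm.toLinearEquiv)
    (LinearEquiv.refl R N)) ≪≫ₗ
  (TensorProduct.quotTensorEquivQuotSMul N (RingHom.ker (algebraMap R R')))

include hsurj in
theorem mem_associatedPrimes_baseChange_iff (q' : Ideal R') :
    q' ∈ associatedPrimes R' (R' ⊗[R] N) ↔
      q'.comap (algebraMap R R') ∈
        associatedPrimes R (N ⧸ (RingHom.ker (algebraMap R R') • ⊤ : Submodule R N)) := by
  rw [mem_associatedPrimes_of_surjective_iff hsurj (R' ⊗[R] N) q',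
    LinearEquiv.AssociatedPrimes.eq (baseChangeSurjEquiv hsurj N)]

end BaseChangeSurj

end Groth.Agent.Lib.Seat11.AssRing
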