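import Mathlib
import Groth.Prelude.Def_FDesc
import Groth.Prelude.Def_CohB1
import Groth.Prelude.Def_FlatMod2
import Groth.Agent.Lib.Helper1StalkTensorB
import Groth.Agent.Lib.Helper1Sky3
import Groth.Agent.Lib.Helper10FibStalk
import Groth.Agent.Lib.Seat11AssRing
import Groth.Agent.Lib.Seat11AssDict
import Groth.Agent.Lib.Helper23TensorQCoh
import Groth.Agent.Lib.Helper20PullbackAff
import Groth.Agent.Lib.Helper2FibreCrit2
set_option backward.isDefEq.respectTransparency.types false

/-!
# Stalks of `f^*E ⊗ F` and of the restriction of `F` to a fibre; associated points (seat 11)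
-/

set_option autoImplicit false
set_option linter.style.haveILetI false
universe u
open CategoryTheory AlgebraicGeometry TopologicalSpace Opposite TensorProduct MonoidalCategory

namespace Groth.Agent.Lib.Seat11.AssStalk

open Groth.Agent.Lib.Helper1.StalkTensor Groth.Agent.Lib.Helper1.Sky
open Groth.Agent.Lib.Seat11.AssRing

variable {X Y : Scheme.{u}}

/-- The stalk of the tensor product of two `O_X`-modules. -/
noncomputable def stalkTensorEquiv (M N : X.Modules) (x : X) :
    (CohB1.tensorMod M N).presheaf.stalk x ≃ₗ[X.presheaf.stalk x]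
      (M.presheaf.stalk x) ⊗[X.presheaf.stalk x] (N.presheaf.stalk x) :=
  (LinearEquiv.ofBijective (smₗ (etaX (toPM M ⊗ toPM N)) x)
    (sm_etaX_bijective (toPM M ⊗ toPM N) x)).symm ≪≫ₗ αLin (toPM M) (toPM N) x

variable (f : X ⟶ Y) (E : Y.Modules) (F : X.Modules) (x : X)

/-- The stalk of a pullback. -/
noncomputable def stalkPullbackEquiv :
    letI : Algebra (Y.presheaf.stalk (f x)) (X.presheaf.stalk x) := (f.stalkMap x).hom.toAlgebra
    ((Scheme.Modules.pullback f).obj E).presheaf.stalk x ≃ₗ[X.presheaf.stalk x]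
      (X.presheaf.stalk x) ⊗[Y.presheaf.stalk (f x)] (E.presheaf.stalk (f x)) :=
  letI : Algebra (Y.presheaf.stalk (f x)) (X.presheaf.stalk x) := (f.stalkMap x).hom.toAlgebra
  ((stalkPullbackIso f x).app E).toLinearEquiv

/-- `O_{Y,f x}`-algebra structure on `O_{X,x}`. -/
noncomputable abbrev algStalk : Algebra (Y.presheaf.stalk (f x)) (X.presheaf.stalk x) :=
  (f.stalkMap x).hom.toAlgebra

theorem isScalarTower_stalk :
    letI := algStalk f x
    letI := FlatMod.moduleStalkOver f F x
    IsScalarTower (Y.presheaf.stalk (f x)) (X.presheaf.stalk x) (F.presheaf.stalk x) := by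
  letI := algStalk f x
  letI := FlatMod.moduleStalkOver f F x
  refine ⟨fun a b n => ?_⟩
  show ((f.stalkMap x).hom a * b) • n = (f.stalkMap x).hom a • (b • n)
  rw [mul_smul]

/-- The stalk of `f^*E ⊗ F` at `x` is `F_x ⊗_{O_{Y,f x}} E_{f x}`. -/
noncomputable def stalkTensorPullbackEquiv :
    letI := algStalk f x
    letI := FlatMod.moduleStalkOver f F x
    haveI := isScalarTower_stalk f F x
    (CohB1.tensorMod ((Scheme.Modules.pullback f).obj E) F).presheaf.stalk x ≃ₗ[X.presheaf.stalk x]
      (F.presheaf.stalk x) ⊗[Y.presheaf.stalk (f x)] (E.presheaf.stalk (f x)) :=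
  letI := algStalk f x
  letI := FlatMod.moduleStalkOver f F x
  haveI := isScalarTower_stalk f F x
  stalkTensorEquiv ((Scheme.Modules.pullback f).obj E) F x ≪≫ₗ
    TensorProduct.congr (stalkPullbackEquiv f E x) (LinearEquiv.refl _ _) ≪≫ₗ
    TensorProduct.comm _ _ _ ≪≫ₗ
    TensorProduct.AlgebraTensorModule.cancelBaseChange (Y.presheaf.stalk (f x))
      (X.presheaf.stalk x) (X.presheaf.stalk x) (F.presheaf.stalk x) (E.presheaf.stalk (f x))

/-- The fibre module `F_x / m_{f x} F_x`. -/
abbrev FibMod : Type u :=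
  (F.presheaf.stalk x) ⧸ ((IsLocalRing.maximalIdeal (Y.presheaf.stalk (f x))).map (f.stalkMap x).hom •
    (⊤ : Submodule (X.presheaf.stalk x) (F.presheaf.stalk x)))

/-- `x` is an associated point of the fibre of `F` through `x`, in terms of stalks. -/
def FibAss : Prop :=
  IsLocalRing.maximalIdeal (X.presheaf.stalk x) ∈
    associatedPrimes (X.presheaf.stalk x) (FibMod f F x)

theorem isAssPoint_tensor_pullback_iff [IsLocallyNoetherian Y]
    (hflat : FlatMod.IsFlatOverAt f F x) :
    Curv2.IsAssPoint (CohB1.tensorMod ((Scheme.Modules.pullback f).obj E) F) x ↔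
      Curv2.IsAssPoint E (f x) ∧ FibAss f F x := by
  letI := algStalk f x
  letI := FlatMod.moduleStalkOver f F x
  haveI := isScalarTower_stalk f F x
  haveI : IsLocalHom (algebraMap (Y.presheaf.stalk (f x)) (X.presheaf.stalk x)) :=
    inferInstanceAs (IsLocalHom (f.stalkMap x).hom)
  haveI : Module.Flat (Y.presheaf.stalk (f x)) (F.presheaf.stalk x) := hflat
  have e := stalkTensorPullbackEquiv f E F x
  have h1 : Curv2.IsAssPoint (CohB1.tensorMod ((Scheme.Modules.pullback f).obj E) F) x ↔
      IsLocalRing.maximalIdeal (X.presheaf.stalk x) ∈ associatedPrimes (X.presheaf.stalk x)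
        ((CohB1.tensorMod ((Scheme.Modules.pullback f).obj E) F).presheaf.stalk x) := Iff.rfl
  rw [h1, LinearEquiv.AssociatedPrimes.eq e]
  exact maximalIdeal_mem_associatedPrimes_tensor_iff (E.presheaf.stalk (f x)) (F.presheaf.stalk x)

section Fibre

variable (y : Y) (z : ↥(f.fiber y))

theorem ker_stalkMap_fiberι :
    letI := algStalk (f.fiberι y) z
    RingHom.ker (algebraMap (X.presheaf.stalk (f.fiberι y z)) ((f.fiber y).presheaf.stalk z)) =
      (IsLocalRing.maximalIdeal (Y.presheaf.stalk (f (f.fiberι y z)))).map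
        (f.stalkMap (f.fiberι y z)).hom :=
  Groth.Agent.Lib.Helper10.FibStalk.ker_eq_map f y z

theorem surjective_stalkMap_fiberι :
    letI := algStalk (f.fiberι y) z
    Function.Surjective
      (algebraMap (X.presheaf.stalk (f.fiberι y z)) ((f.fiber y).presheaf.stalk z)) :=
  (f.fiberι y).stalkMap_surjective z

/-- Associated points of the restriction of `F` to the fibre, in terms of stalks on `X`. -/
theorem isAssPoint_fiber_iff :
    Curv2.IsAssPoint ((Scheme.Modules.pullback (f.fiberι y)).obj F) z ↔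
      FibAss f F (f.fiberι y z) := by
  letI := algStalk (f.fiberι y) z
  haveI : IsLocalHom (algebraMap (X.presheaf.stalk (f.fiberι y z))
      ((f.fiber y).presheaf.stalk z)) :=
    inferInstanceAs (IsLocalHom ((f.fiberι y).stalkMap z).hom)
  have e := stalkPullbackEquiv (f.fiberι y) F z
  have h1 : Curv2.IsAssPoint ((Scheme.Modules.pullback (f.fiberι y)).obj F) z ↔
      IsLocalRing.maximalIdeal ((f.fiber y).presheaf.stalk z) ∈
        associatedPrimes ((f.fiber y).presheaf.stalk z)
          (((Scheme.Modules.pullback (f.fiberι y)).obj F).presheaf.stalk z) := Iff.rfl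
  rw [h1, LinearEquiv.AssociatedPrimes.eq e,
    mem_associatedPrimes_baseChange_iff (surjective_stalkMap_fiberι f y z),
    Groth.Agent.Lib.Seat11.AssRing.comap_maximalIdeal]
  unfold FibAss FibMod
  rw [← ker_stalkMap_fiberι f y z]

end Fibre

section Embedded

open Groth.Agent.Lib.Seat11.AssDict

/-- EGA IV 3.3.2, the key step: if `f x` and a proper generization `y'` of it are both associated
points of `E`, then `f^*E ⊗ F` has associated points `x₁' ⤳ x₁` over `y'` and `f x`. -/
theorem exists_embedded_points [IsLocallyNoetherian X] [IsLocallyNoetherian Y]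
    [E.IsQuasicoherent] [F.IsQuasicoherent] [SheafOfModules.IsFiniteType (R := X.ringCatSheaf) F]
    (hflat : FlatMod.IsFlatOverAt f F x) (hnt : Nontrivial (F.presheaf.stalk x))
    (hy : Curv2.IsAssPoint E (f x)) (y' : Y) (hy' : Curv2.IsAssPoint E y') (hspec : y' ⤳ f x) :
    ∃ x₁ x₁' : X,
      Curv2.IsAssPoint (CohB1.tensorMod ((Scheme.Modules.pullback f).obj E) F) x₁ ∧
      Curv2.IsAssPoint (CohB1.tensorMod ((Scheme.Modules.pullback f).obj E) F) x₁' ∧
      x₁' ⤳ x₁ ∧ f x₁ = f x ∧ f x₁' = y' := by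
  letI := algStalk f x
  letI := FlatMod.moduleStalkOver f F x
  haveI := isScalarTower_stalk f F x
  haveI : IsLocalHom (algebraMap (Y.presheaf.stalk (f x)) (X.presheaf.stalk x)) :=
    inferInstanceAs (IsLocalHom (f.stalkMap x).hom)
  haveI : Module.Flat (Y.presheaf.stalk (f x)) (F.presheaf.stalk x) := hflat
  haveI : Module.Finite (X.presheaf.stalk x) (F.presheaf.stalk x) :=
    Groth.Agent.Lib.Helper2.FibreCrit.finite_stalk F x
  haveI := Groth.Agent.Lib.Helper23.TensorQCoh.isQuasicoherent_tensorMod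
    ((Scheme.Modules.pullback f).obj E) F
  have hr : y' ∈ Set.range (Y.fromSpecStalk (f x)) := by
    rw [Scheme.range_fromSpecStalk]
    exact hspec
  obtain ⟨p', rfl⟩ := hr
  have hp' := (isAssPoint_fromSpecStalk_iff E (f x) p').1 hy'
  obtain ⟨q₁, q₁', hq₁, hq₁', hle, hc₁, hc₁'⟩ :=
    exists_embedded (A := Y.presheaf.stalk (f x)) (B := X.presheaf.stalk x)
      (E.presheaf.stalk (f x)) (F.presheaf.stalk x) hy p'.asIdeal hp'
  have e := stalkTensorPullbackEquiv f E F x
  rw [← LinearEquiv.AssociatedPrimes.eq e] at hq₁ hq₁'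
  haveI hq₁p : q₁.IsPrime := hq₁.isPrime
  haveI hq₁'p : q₁'.IsPrime := hq₁'.isPrime
  let Q₁ : Spec (X.presheaf.stalk x) := ⟨q₁, hq₁p⟩
  let Q₁' : Spec (X.presheaf.stalk x) := ⟨q₁', hq₁'p⟩
  have hsq := Scheme.SpecMap_stalkMap_fromSpecStalk (f := f) (x := x)
  have hf : ∀ Q : Spec (X.presheaf.stalk x),
      f (X.fromSpecStalk x Q) = Y.fromSpecStalk (f x) (Spec.map (f.stalkMap x) Q) := by
    intro Q
    rw [← Scheme.Hom.comp_apply, ← Scheme.Hom.comp_apply, hsq]
  refine ⟨X.fromSpecStalk x Q₁, X.fromSpecStalk x Q₁', ?_, ?_, ?_, ?_, ?_⟩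
  · exact (isAssPoint_fromSpecStalk_iff _ x Q₁).2 hq₁
  · exact (isAssPoint_fromSpecStalk_iff _ x Q₁').2 hq₁'
  · have h1 : Q₁' ⤳ Q₁ := (PrimeSpectrum.le_iff_specializes Q₁' Q₁).1 hle
    exact h1.map (X.fromSpecStalk x).continuous
  · rw [hf]
    have h2 : Spec.map (f.stalkMap x) Q₁ = IsLocalRing.closedPoint (Y.presheaf.stalk (f x)) :=
      PrimeSpectrum.ext hc₁
    rw [h2]
    exact Scheme.fromSpecStalk_closedPoint
  · rw [hf]
    have h2 : Spec.map (f.stalkMap x) Q₁' = p' := PrimeSpectrum.ext hc₁'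
    rw [h2]

end Embedded

end Groth.Agent.Lib.Seat11.AssStalk
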