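import Mathlib
import Groth.Agent.S2498
import Groth.Agent.Lib.Seat11AssStalk
set_option backward.isDefEq.respectTransparency.types false

/-!
# Lengths of stalks of `f^*E ⊗ F` and of fibres (seat 11)
-/

set_option autoImplicit false
set_option linter.style.haveILetI false
set_option linter.unusedSectionVars false
universe u
open CategoryTheory AlgebraicGeometry TopologicalSpace Opposite TensorProduct

namespace Groth.Agent.Lib.Seat11.AssLen

section Ring

variable {A B : Type u} [CommRing A] [CommRing B] [Algebra A B] [IsLocalRing A] [IsLocalRing B]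
  [IsLocalHom (algebraMap A B)]
  (E : Type u) [AddCommGroup E] [Module A E]
  (F : Type u) [AddCommGroup F] [Module B F] [Module A F] [IsScalarTower A B F] [Module.Flat A F]
  [Module.Finite B F] [Nontrivial F]

include B in
theorem faithfullyFlat_of_finite : Module.FaithfullyFlat A F := by
  refine ⟨fun {m} hm => ?_⟩
  have hm' : m = IsLocalRing.maximalIdeal A := IsLocalRing.eq_maximalIdeal hm
  subst hm'
  intro htop
  have h1 : ((IsLocalRing.maximalIdeal A).map (algebraMap A B) • ⊤ : Submodule B F) = ⊤ := by
    apply Submodule.restrictScalars_injective A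
    rw [Ideal.smul_restrictScalars, Submodule.restrictScalars_top, htop]
  have hle : (IsLocalRing.maximalIdeal A).map (algebraMap A B) ≤ (⊥ : Ideal B).jacobson := by
    rw [IsLocalRing.jacobson_eq_maximalIdeal ⊥ bot_ne_top]
    exact IsLocalRing.map_maximalIdeal_le _
  have := Submodule.eq_bot_of_le_smul_of_le_jacobson_bot _ _ (Module.Finite.fg_top (R := B) (M := F))
    h1.ge hle
  exact top_ne_bot this

theorem length_tensor_eq_one_iff :
    Module.length B (F ⊗[A] E) = 1 ↔
      Module.length A E = 1 ∧
        Module.length B (F ⧸ ((IsLocalRing.maximalIdeal A).map (algebraMap A B) • ⊤ :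
          Submodule B F)) = 1 := by
  haveI := faithfullyFlat_of_finite (A := A) (B := B) F
  constructor
  · intro h
    have h1 := Groth.Agent.S2498.length_le (A := A) (B := B) F E
    rw [h] at h1
    have hfin : Module.length A E ≠ ⊤ := fun ht => by
      rw [ht] at h1
      exact absurd h1 (by simp)
    obtain ⟨n, hn⟩ := ENat.ne_top_iff_exists.mp hfin
    have h2 := Groth.Agent.S2498.length_fin (A := A) (B := B) F n E hn.symm
    rw [h] at h2
    have h3 := mul_eq_one.mp h2.symm
    rw [← hn]
    exact h3
  · rintro ⟨h1, h2⟩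
    have h3 := Groth.Agent.S2498.length_fin (A := A) (B := B) F 1 E (by rw [h1]; rfl)
    rw [h3, h2]
    simp

end Ring

section Scheme

open Groth.Agent.Lib.Seat11.AssStalk Groth.Agent.Lib.Seat11.AssRing

variable {X Y : Scheme.{u}} (f : X ⟶ Y) (E : Y.Modules) (F : X.Modules) (x : X)

/-- The stalk of `f^*E ⊗ F` at `x` has length one iff `E_{f x}` and the fibre `F_x / m F_x` do. -/
theorem length_stalk_tensor_pullback_eq_one_iff
    [F.IsQuasicoherent] [SheafOfModules.IsFiniteType (R := X.ringCatSheaf) F]
    (hflat : FlatMod.IsFlatOverAt f F x) (hnt : Nontrivial (F.presheaf.stalk x)) :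
    Module.length (X.presheaf.stalk x)
        ((CohB1.tensorMod ((Scheme.Modules.pullback f).obj E) F).presheaf.stalk x) = 1 ↔
      Module.length (Y.presheaf.stalk (f x)) (E.presheaf.stalk (f x)) = 1 ∧
        Module.length (X.presheaf.stalk x) (FibMod f F x) = 1 := by
  letI := algStalk f x
  letI := FlatMod.moduleStalkOver f F x
  haveI := isScalarTower_stalk f F x
  haveI : IsLocalHom (algebraMap (Y.presheaf.stalk (f x)) (X.presheaf.stalk x)) :=
    inferInstanceAs (IsLocalHom (f.stalkMap x).hom)
  haveI : Module.Flat (Y.presheaf.stalk (f x)) (F.presheaf.stalk x) := hflat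
  haveI : Module.Finite (X.presheaf.stalk x) (F.presheaf.stalk x) :=
    Groth.Agent.Lib.Helper2.FibreCrit.finite_stalk F x
  rw [(stalkTensorPullbackEquiv f E F x).length_eq]
  exact length_tensor_eq_one_iff (E.presheaf.stalk (f x)) (F.presheaf.stalk x)

variable (y : Y) (z : ↥(f.fiber y))

/-- The length of the stalk of the restriction of `F` to the fibre. -/
theorem length_stalk_fiber :
    Module.length ((f.fiber y).presheaf.stalk z)
        (((Scheme.Modules.pullback (f.fiberι y)).obj F).presheaf.stalk z) =
      Module.length (X.presheaf.stalk (f.fiberι y z)) (FibMod f F (f.fiberι y z)) := by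
  letI := algStalk (f.fiberι y) z
  have hsurj := surjective_stalkMap_fiberι f y z
  rw [(stalkPullbackEquiv (f.fiberι y) F z).length_eq,
    ← Module.length_eq_of_surjective hsurj, (baseChangeSurjEquiv hsurj _).length_eq]
  unfold FibMod
  have hk := ker_stalkMap_fiberι f y z
  have h1 : ((RingHom.ker (algebraMap (X.presheaf.stalk (f.fiberι y z))
      ((f.fiber y).presheaf.stalk z))) • ⊤ :
      Submodule (X.presheaf.stalk (f.fiberι y z)) (F.presheaf.stalk (f.fiberι y z))) =
      ((IsLocalRing.maximalIdeal (Y.presheaf.stalk (f (f.fiberι y z)))).map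
        (f.stalkMap (f.fiberι y z)).hom • ⊤) := by
    rw [hk]
  exact (Submodule.quotEquivOfEq _ _ h1).length_eq

end Scheme

end Groth.Agent.Lib.Seat11.AssLen
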