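import Mathlib
import Groth.Agent.Lib.Seat11AssStalk
import Groth.Agent.Lib.Helper23UnitStalk
import Groth.Agent.Lib.Helper2PullbackSec3
set_option backward.isDefEq.respectTransparency.types false

/-!
# Fibre products `X ×_S Y`: local rings of fibres of the projections, associated points (seat 11)

Scheme-level input for EGA IV 3.3.1–3.3.5 on `F ⊗_S G`.
-/

set_option autoImplicit false
set_option linter.style.haveILetI false
universe u
open CategoryTheory CategoryTheory.Limits AlgebraicGeometry TopologicalSpace Opposite TensorProduct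

namespace Groth.Agent.Lib.Seat11.FibProd

open Groth.Agent.Lib.Helper1.StalkTensor Groth.Agent.Lib.Helper1.Sky
open Groth.Agent.Lib.Seat11.AssRing Groth.Agent.Lib.Seat11.AssStalk

section Iso

variable {X : Scheme.{u}}

/-- Associated points only depend on the isomorphism class of the module. -/
theorem isAssPoint_iff_of_iso {M N : X.Modules} (e : M ≅ N) (x : X) :
    Curv2.IsAssPoint M x ↔ Curv2.IsAssPoint N x := by
  have e' : M.presheaf.stalk x ≃ₗ[X.presheaf.stalk x] N.presheaf.stalk x :=
    ((stalkFun x).mapIso e).toLinearEquiv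
  exact e'.isAssociatedPrime_iff

end Iso

section FS

variable {P W V : Scheme.{u}} {fst : P ⟶ W} {v : V} {snd : P ⟶ Spec (V.residueField v)}
  {φ : W ⟶ V}

/-- In a cartesian square over `Spec κ(v) → V`, the stalk maps of the projection to `W` are
surjective with kernel generated by the maximal ideal of the local ring of `V`. -/
theorem stalkMap_of_isPullback (sq : IsPullback fst snd φ (V.fromSpecResidueField v)) (t : P) :
    Function.Surjective (fst.stalkMap t).hom ∧
    RingHom.ker (fst.stalkMap t).hom =
      Ideal.map (φ.stalkMap (fst t)).hom (IsLocalRing.maximalIdeal (V.presheaf.stalk (φ (fst t)))) := by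
  have key : ∀ (fst' : P ⟶ W), fst' = sq.isoPullback.hom ≫ φ.fiberι v →
      Function.Surjective (fst'.stalkMap t).hom ∧
      RingHom.ker (fst'.stalkMap t).hom =
        Ideal.map (φ.stalkMap (fst' t)).hom
          (IsLocalRing.maximalIdeal (V.presheaf.stalk (φ (fst' t)))) := by
    rintro _ rfl
    have hcomp := Scheme.Hom.stalkMap_comp sq.isoPullback.hom (φ.fiberι v) t
    have hbij : Function.Bijective (sq.isoPullback.hom.stalkMap t).hom :=
      ConcreteCategory.bijective_of_isIso _
    constructor
    · rw [hcomp]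
      exact hbij.surjective.comp ((φ.fiberι v).stalkMap_surjective _)
    · have := Groth.Agent.Lib.Helper10.FibStalk.ker_eq_map φ v (sq.isoPullback.hom t)
      refine Eq.trans ?_ this
      rw [hcomp]
      ext a
      simp only [RingHom.mem_ker]
      exact (map_eq_zero_iff _ hbij.injective)
  exact key fst sq.isoPullback_hom_fst.symm

end FS

section Squares

variable {X Y S : Scheme.{u}} (f : X ⟶ S) (g : Y ⟶ S) (x : X) (y : Y)

/-- The fibre of `X ×_S Y → X` over `x` is `Spec κ(x) ×_S Y`. -/
theorem isPullback_fiber_fst :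
    IsPullback ((pullback.fst f g).fiberToSpecResidueField x)
      ((pullback.fst f g).fiberι x ≫ pullback.snd f g) (X.fromSpecResidueField x ≫ f) g :=
  (IsPullback.of_hasPullback (pullback.fst f g) (X.fromSpecResidueField x)).flip.paste_vert
    (IsPullback.of_hasPullback f g)

/-- The map from the fibre of `X ×_S Y → X` over `x` to the fibre of `Y → S` over `f x`. -/
noncomputable def fibMap : (pullback.fst f g).fiber x ⟶ g.fiber (f x) :=
  pullback.map _ _ _ _ (pullback.snd f g) (Spec.map (f.residueFieldMap x)) f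
    (IsPullback.of_hasPullback f g).flip.w.symm (by simp)

theorem fibMap_fiberι :
    fibMap f g x ≫ g.fiberι (f x) = (pullback.fst f g).fiberι x ≫ pullback.snd f g :=
  pullback.lift_fst _ _ _

theorem isPullback_fibMap :
    IsPullback (fibMap f g x) ((pullback.fst f g).fiberToSpecResidueField x)
      (g.fiberToSpecResidueField (f x)) (Spec.map (f.residueFieldMap x)) :=
  isPullback_fiberToSpecResidueField_of_isPullback (IsPullback.of_hasPullback f g).flip x

instance flat_fibMap : Flat (fibMap f g x) := by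
  have h1 : Flat (Spec.map (f.residueFieldMap x)) := by
    rw [Flat.SpecMap_iff]
    letI := (f.residueFieldMap x).hom.toAlgebra
    show Module.Flat _ _
    infer_instance
  exact MorphismProperty.of_isPullback (isPullback_fibMap f g x).flip h1

/-- `T(x, y) = Spec κ(x) ×_S Spec κ(y)`. -/
noncomputable abbrev T : Scheme.{u} :=
  pullback (X.fromSpecResidueField x ≫ f) (Y.fromSpecResidueField y ≫ g)

/-- The canonical monomorphism `T(x, y) → X ×_S Y`. -/
noncomputable abbrev jMap : T f g x y ⟶ pullback f g :=
  pullback.map (X.fromSpecResidueField x ≫ f) (Y.fromSpecResidueField y ≫ g) f g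
    (X.fromSpecResidueField x) (Y.fromSpecResidueField y) (𝟙 S) (Category.comp_id _)
    (Category.comp_id _)

/-- The map from `T(x, y)` to the fibre of `X ×_S Y → X` over `x`. -/
noncomputable def tMap : T f g x y ⟶ (pullback.fst f g).fiber x :=
  pullback.lift (jMap f g x y) (pullback.fst _ _) (pullback.lift_fst _ _ _)

theorem tMap_fiberι : tMap f g x y ≫ (pullback.fst f g).fiberι x = jMap f g x y :=
  pullback.lift_fst _ _ _

theorem tMap_fiberToSpecResidueField :
    tMap f g x y ≫ (pullback.fst f g).fiberToSpecResidueField x = pullback.fst _ _ :=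
  pullback.lift_snd _ _ _

/-- `T(x, y)` is the fibre over `y` of `Spec κ(x) ×_S Y → Y`. -/
theorem isPullback_tMap :
    IsPullback (tMap f g x y) (pullback.snd _ _)
      ((pullback.fst f g).fiberι x ≫ pullback.snd f g) (Y.fromSpecResidueField y) := by
  refine IsPullback.of_right (h₁₂ := (pullback.fst f g).fiberToSpecResidueField x)
    (v₁₃ := X.fromSpecResidueField x ≫ f) (h₂₂ := g) ?_ ?_ (isPullback_fiber_fst f g x)
  · rw [tMap_fiberToSpecResidueField]
    exact IsPullback.of_hasPullback _ _
  · rw [← Category.assoc, tMap_fiberι]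
    exact pullback.lift_snd _ _ _

theorem fst_jMap (t : ↥(T f g x y)) : pullback.fst f g (jMap f g x y t) = x := by
  have h : jMap f g x y ≫ pullback.fst f g = pullback.fst _ _ ≫ X.fromSpecResidueField x :=
    pullback.lift_fst _ _ _
  rw [← Scheme.Hom.comp_apply, h, Scheme.Hom.comp_apply, Scheme.fromSpecResidueField_apply]

theorem snd_jMap (t : ↥(T f g x y)) : pullback.snd f g (jMap f g x y t) = y := by
  have h : jMap f g x y ≫ pullback.snd f g = pullback.snd _ _ ≫ Y.fromSpecResidueField y :=
    pullback.lift_snd _ _ _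
  rw [← Scheme.Hom.comp_apply, h, Scheme.Hom.comp_apply, Scheme.fromSpecResidueField_apply]

theorem fiberι_fibMap_tMap (t : ↥(T f g x y)) :
    g.fiberι (f x) (fibMap f g x (tMap f g x y t)) = y := by
  have h1 : g.fiberι (f x) (fibMap f g x (tMap f g x y t)) =
      pullback.snd f g ((pullback.fst f g).fiberι x (tMap f g x y t)) := by
    rw [← Scheme.Hom.comp_apply, fibMap_fiberι]
    rfl
  have h2 : (pullback.fst f g).fiberι x (tMap f g x y t) = jMap f g x y t := by
    rw [← Scheme.Hom.comp_apply, tMap_fiberι]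
  rw [h1, h2, snd_jMap]

/-- Every point of `X ×_S Y` lies in the image of `T(x, y)` for its projections `x`, `y`. -/
theorem exists_jMap_eq (z : ↥(pullback f g)) :
    ∃ t : ↥(T f g (pullback.fst f g z) (pullback.snd f g z)),
      jMap f g (pullback.fst f g z) (pullback.snd f g z) t = z := by
  set x := pullback.fst f g z
  set y := pullback.snd f g z
  obtain ⟨t, ht, -⟩ := Scheme.exists_preimage_of_isPullback (isPullback_tMap f g x y)
    ((pullback.fst f g).asFiber z) (IsLocalRing.closedPoint (Y.residueField y)) (by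
      rw [Scheme.fromSpecResidueField_apply, Scheme.Hom.comp_apply, Scheme.Hom.fiberι_asFiber])
  refine ⟨t, ?_⟩
  have h1 : jMap f g x y t = (pullback.fst f g).fiberι x (tMap f g x y t) := by
    rw [← Scheme.Hom.comp_apply, tMap_fiberι]
  rw [h1]
  exact (congrArg _ ht).trans (Scheme.Hom.fiberι_asFiber _ z)

end Squares

section AssLemmas

variable {W V : Scheme.{u}} (φ : W ⟶ V)

/-- `m_w ∈ Ass(O_w / m_{φ w} O_w)`: the fibre of `φ` through `w` has depth `0` at `w`. -/
def FibAssRing (w : W) : Prop :=
  IsLocalRing.maximalIdeal (W.presheaf.stalk w) ∈ associatedPrimes (W.presheaf.stalk w)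
    ((W.presheaf.stalk w) ⧸
      ((IsLocalRing.maximalIdeal (V.presheaf.stalk (φ w))).map (φ.stalkMap w).hom •
        (⊤ : Submodule (W.presheaf.stalk w) (W.presheaf.stalk w))))

/-- EGA IV 3.3.1 along a fibre. -/
theorem isAssPoint_tensor_pullback_fiberι_iff [IsLocallyNoetherian V] (E : V.Modules)
    (F : W.Modules) (v : V) (w : ↥(φ.fiber v))
    (hflat : FlatMod.IsFlatOverAt φ F (φ.fiberι v w)) :
    Curv2.IsAssPoint (CohB1.tensorMod ((Scheme.Modules.pullback φ).obj E) F) (φ.fiberι v w) ↔
      Curv2.IsAssPoint E v ∧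
        Curv2.IsAssPoint ((Scheme.Modules.pullback (φ.fiberι v)).obj F) w := by
  rw [isAssPoint_tensor_pullback_iff φ E F _ hflat, isAssPoint_fiber_iff]
  have h := Groth.Agent.Lib.Helper10.FibStalk.fiberι_apply_eq φ v w
  constructor
  · rintro ⟨h1, h2⟩
    exact ⟨(congrArg (Curv2.IsAssPoint E) h).mp h1, h2⟩
  · rintro ⟨h1, h2⟩
    exact ⟨(congrArg (Curv2.IsAssPoint E) h).mpr h1, h2⟩

/-- Associated points of a pullback along a morphism which is flat at `w`. -/
theorem isAssPoint_pullback_iff_of_flat (E : V.Modules) (w : W) (hfl : (φ.stalkMap w).hom.Flat)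
    [IsNoetherianRing (V.presheaf.stalk (φ w))] :
    Curv2.IsAssPoint ((Scheme.Modules.pullback φ).obj E) w ↔
      Curv2.IsAssPoint E (φ w) ∧ FibAssRing φ w := by
  letI := algStalk φ w
  haveI : IsLocalHom (algebraMap (V.presheaf.stalk (φ w)) (W.presheaf.stalk w)) :=
    inferInstanceAs (IsLocalHom (φ.stalkMap w).hom)
  haveI : Module.Flat (V.presheaf.stalk (φ w)) (W.presheaf.stalk w) := hfl
  have e := stalkPullbackEquiv φ E w
  have h1 : Curv2.IsAssPoint ((Scheme.Modules.pullback φ).obj E) w ↔
      IsLocalRing.maximalIdeal (W.presheaf.stalk w) ∈ associatedPrimes (W.presheaf.stalk w)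
        (((Scheme.Modules.pullback φ).obj E).presheaf.stalk w) := Iff.rfl
  rw [h1, LinearEquiv.AssociatedPrimes.eq e]
  exact maximalIdeal_mem_associatedPrimes_tensor_iff (E.presheaf.stalk (φ w))
    (W.presheaf.stalk w)

theorem map_maximalIdeal_of_surjective {R R' : Type*} [CommRing R] [CommRing R'] [IsLocalRing R]
    [IsLocalRing R'] (ψ : R →+* R') [IsLocalHom ψ] (hψ : Function.Surjective ψ) :
    (IsLocalRing.maximalIdeal R).map ψ = IsLocalRing.maximalIdeal R' := by
  apply le_antisymm
  · exact IsLocalRing.map_maximalIdeal_le ψ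
  · intro r' hr'
    obtain ⟨r, rfl⟩ := hψ r'
    refine Ideal.mem_map_of_mem _ ?_
    rw [IsLocalRing.mem_maximalIdeal, mem_nonunits_iff] at hr' ⊢
    exact fun h => hr' (h.map ψ)

theorem fibAssRing_comp_iff {V' : Scheme.{u}} (ψ : W ⟶ V') (ι : V' ⟶ V) (w : W)
    (hsurj : Function.Surjective (ι.stalkMap (ψ w)).hom) :
    FibAssRing (ψ ≫ ι) w ↔ FibAssRing ψ w := by
  have hI : (IsLocalRing.maximalIdeal (V.presheaf.stalk ((ψ ≫ ι) w))).map
        ((ψ ≫ ι).stalkMap w).hom =
      (IsLocalRing.maximalIdeal (V'.presheaf.stalk (ψ w))).map (ψ.stalkMap w).hom := by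
    have key : ((ψ ≫ ι).stalkMap w).hom = (ψ.stalkMap w).hom.comp (ι.stalkMap (ψ w)).hom :=
      RingHom.ext fun a => congrArg (fun f => f.hom a) (Scheme.Hom.stalkMap_comp ψ ι w)
    rw [key]
    refine (Ideal.map_map (ι.stalkMap (ψ w)).hom (ψ.stalkMap w).hom).symm.trans ?_
    congr 1
    exact map_maximalIdeal_of_surjective (ι.stalkMap (ψ w)).hom hsurj
  unfold FibAssRing
  rw [hI]

section FS2

variable {P : Scheme.{u}} {fst : P ⟶ W} {v : V} {snd : P ⟶ Spec (V.residueField v)}

/-- In a cartesian square over `Spec κ(v) → V`, the associated points of the structure sheaf of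
the fibre are the points where the fibre has depth `0`. -/
theorem fibAssRing_iff_isAssPoint_structureModule
    (sq : IsPullback fst snd φ (V.fromSpecResidueField v)) (t : P) :
    FibAssRing φ (fst t) ↔ Curv2.IsAssPoint (Coh.structureModule P) t := by
  obtain ⟨hsurj, hker⟩ := stalkMap_of_isPullback sq t
  rw [Groth.Agent.Lib.Helper23.UnitStalk.isAssPoint_structureModule_iff]
  letI := algStalk fst t
  haveI : IsLocalHom (algebraMap (W.presheaf.stalk (fst t)) (P.presheaf.stalk t)) :=
    inferInstanceAs (IsLocalHom (fst.stalkMap t).hom)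
  have hsurj' : Function.Surjective (algebraMap (W.presheaf.stalk (fst t)) (P.presheaf.stalk t)) :=
    hsurj
  have h1 := mem_associatedPrimes_of_surjective_iff hsurj' (P.presheaf.stalk t)
    (IsLocalRing.maximalIdeal (P.presheaf.stalk t))
  rw [comap_maximalIdeal] at h1
  have e : (P.presheaf.stalk t) ≃ₗ[W.presheaf.stalk (fst t)]
      (W.presheaf.stalk (fst t)) ⧸ (RingHom.ker (algebraMap (W.presheaf.stalk (fst t))
        (P.presheaf.stalk t)) • ⊤ : Submodule (W.presheaf.stalk (fst t))
          (W.presheaf.stalk (fst t))) :=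
    (TensorProduct.rid (W.presheaf.stalk (fst t)) (P.presheaf.stalk t)).symm ≪≫ₗ
      baseChangeSurjEquiv hsurj' (W.presheaf.stalk (fst t))
  rw [LinearEquiv.AssociatedPrimes.eq e] at h1
  have hker' : RingHom.ker (algebraMap (W.presheaf.stalk (fst t)) (P.presheaf.stalk t)) =
      Ideal.map (φ.stalkMap (fst t)).hom
        (IsLocalRing.maximalIdeal (V.presheaf.stalk (φ (fst t)))) := hker
  rw [hker'] at h1
  exact h1.symm

end FS2

end AssLemmas

section Key

variable {X Y S : Scheme.{u}} (f : X ⟶ S) (g : Y ⟶ S)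
  [IsLocallyNoetherian X] [IsLocallyNoetherian Y]
  (F : X.Modules) (G : Y.Modules) [G.IsQuasicoherent]

/-- EGA IV 3.3.1 for `F ⊗_S G`, at a point of `T(x, y) = Spec κ(x) ×_S Spec κ(y)`. -/
theorem isAssPoint_jMap_iff (hGfl : FlatMod.IsFlatOver g G) (x : X) (y : Y) (t : ↥(T f g x y)) :
    Curv2.IsAssPoint (CohB1.tensorMod ((Scheme.Modules.pullback (pullback.fst f g)).obj F)
        ((Scheme.Modules.pullback (pullback.snd f g)).obj G)) (jMap f g x y t) ↔
      Curv2.IsAssPoint F x ∧
      Curv2.IsAssPoint ((Scheme.Modules.pullback (g.fiberι (f x))).obj G)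
        (fibMap f g x (tMap f g x y t)) ∧
      Curv2.IsAssPoint (Coh.structureModule (T f g x y)) t := by
  set w := tMap f g x y t with hw
  have hj : jMap f g x y t = (pullback.fst f g).fiberι x w := by
    rw [hw, ← Scheme.Hom.comp_apply, tMap_fiberι]
  rw [hj]
  have hflat : FlatMod.IsFlatOverAt (pullback.fst f g)
      ((Scheme.Modules.pullback (pullback.snd f g)).obj G) ((pullback.fst f g).fiberι x w) :=
    Groth.Agent.Lib.Helper2.PullbackSec.isFlatOverAt_pullback_of_isPullback
      (IsPullback.of_hasPullback f g).flip G _ (hGfl _)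
  rw [isAssPoint_tensor_pullback_fiberι_iff (pullback.fst f g) F _ x w hflat]
  refine and_congr_right (fun _ => ?_)
  have e1 : (Scheme.Modules.pullback ((pullback.fst f g).fiberι x)).obj
        ((Scheme.Modules.pullback (pullback.snd f g)).obj G) ≅
      (Scheme.Modules.pullback (fibMap f g x)).obj
        ((Scheme.Modules.pullback (g.fiberι (f x))).obj G) :=
    (Scheme.Modules.pullbackComp _ _).app G ≪≫
      (Scheme.Modules.pullbackCongr (fibMap_fiberι f g x).symm).app G ≪≫
      ((Scheme.Modules.pullbackComp _ _).app G).symm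
  rw [isAssPoint_iff_of_iso e1 w]
  haveI : IsNoetherianRing ((g.fiber (f x)).presheaf.stalk (fibMap f g x w)) :=
    isNoetherianRing_of_surjective _ _ ((g.fiberι (f x)).stalkMap (fibMap f g x w)).hom
      ((g.fiberι (f x)).stalkMap_surjective _)
  rw [isAssPoint_pullback_iff_of_flat (fibMap f g x) _ w (Flat.stalkMap _ w)]
  refine and_congr_right (fun _ => ?_)
  rw [← fibAssRing_comp_iff (fibMap f g x) (g.fiberι (f x)) w
    ((g.fiberι (f x)).stalkMap_surjective _)]
  rw [fibMap_fiberι]
  exact fibAssRing_iff_isAssPoint_structureModule _ (isPullback_tMap f g x y) t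

end Key

end Groth.Agent.Lib.Seat11.FibProd
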