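import Mathlib
import Groth.Agent.Lib.Helper6NoEmb3

/-!
# Primes of `K ⊗_k L` consisting of zero divisors are minimal (seat 11)

A variant of `Helper6.NoEmb.associatedPrimes_subset_minimalPrimes_field` which does not need the
prime to be associated in the global ring (no Noetherian hypothesis): it is enough that the
localization at the prime has depth `0`.
-/

set_option autoImplicit false
set_option linter.style.haveILetI false
universe u
open TensorProduct

namespace Groth.Agent.Lib.Seat11.FieldTensor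

open Groth.Agent.Lib.Helper6.NoEmb

/-- In an integral torsion-free algebra over a domain, a prime consisting of zero divisors is
minimal. -/
theorem mem_minimalPrimes_of_integral (R S : Type*) [CommRing R] [IsDomain R]
    [CommRing S] [Algebra R S] [Algebra.IsIntegral R S]
    (h : ∀ r : R, r ≠ 0 → algebraMap R S r ∈ nonZeroDivisors S) (q : Ideal S) [hqp : q.IsPrime]
    (hq : ∀ r ∈ q, r ∉ nonZeroDivisors S) : q ∈ minimalPrimes S := by
  have hcomap : q.comap (algebraMap R S) = ⊥ := by
    rw [eq_bot_iff]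
    intro r hr
    rw [Ideal.mem_bot]
    by_contra hr0
    exact hq _ (Ideal.mem_comap.mp hr) (h r hr0)
  obtain ⟨p, hp, hpq⟩ := Ideal.exists_minimalPrimes_le (bot_le : (⊥ : Ideal S) ≤ q)
  haveI hpp : p.IsPrime := hp.1.1
  by_cases hpq' : p = q
  · rw [← hpq']; exact hp
  · exfalso
    have hlt : p < q := lt_of_le_of_ne hpq hpq'
    obtain ⟨x, hxq, hxp⟩ := SetLike.exists_of_lt hlt
    have := Ideal.comap_lt_comap_of_integral_mem_sdiff (R := R) hpq ⟨hxq, hxp⟩
      (Algebra.IsIntegral.isIntegral x)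
    rw [hcomap] at this
    exact not_lt_bot this

variable {k : Type u} [Field k]

/-- A prime of `K ⊗_k L` consisting of zero divisors is minimal. -/
theorem mem_minimalPrimes_field (K L : Type u) [Field K] [Field L]
    [Algebra k K] [Algebra k L] (q : Ideal (K ⊗[k] L)) [q.IsPrime]
    (hq : ∀ r ∈ q, r ∉ nonZeroDivisors (K ⊗[k] L)) : q ∈ minimalPrimes (K ⊗[k] L) := by
  obtain ⟨ι, x, hx⟩ := exists_isTranscendenceBasis' k K
  let F := IntermediateField.adjoin k (Set.range x)
  haveI : Algebra.IsAlgebraic F K := hx.isAlgebraic_field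
  haveI : Algebra.IsIntegral F K := Algebra.IsAlgebraic.isIntegral
  haveI : IsDomain (F ⊗[k] L) := by
    haveI := isDomain_fractionRing_mvPolynomial_tensor (k := k) ι L
    let e : FractionRing (MvPolynomial ι k) ⊗[k] L ≃ₐ[k] F ⊗[k] L :=
      Algebra.TensorProduct.congr hx.1.aevalEquivField AlgEquiv.refl
    exact e.symm.toMulEquiv.isDomain (FractionRing (MvPolynomial ι k) ⊗[k] L)
  let φ : F ⊗[k] L →ₐ[k] K ⊗[k] L :=
    Algebra.TensorProduct.map (IsScalarTower.toAlgHom k F K) (AlgHom.id k L)
  letI : Algebra (F ⊗[k] L) (K ⊗[k] L) := φ.toRingHom.toAlgebra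
  haveI : Algebra.IsIntegral (F ⊗[k] L) (K ⊗[k] L) := by
    constructor
    intro z
    induction z using TensorProduct.induction_on with
    | zero => exact isIntegral_zero
    | tmul a b =>
      have h1 : IsIntegral (F ⊗[k] L) ((a ⊗ₜ[k] (1 : L)) : K ⊗[k] L) := by
        have ha : IsIntegral F a := Algebra.IsIntegral.isIntegral a
        exact IsIntegral.map_of_comp_eq (R := F) (S := K) (T := F ⊗[k] L) (U := K ⊗[k] L)
          (Algebra.TensorProduct.includeLeftRingHom (R := k) (A := F) (B := L))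
          (Algebra.TensorProduct.includeLeftRingHom (R := k) (A := K) (B := L))
          (RingHom.ext fun p => by
            change φ (p ⊗ₜ[k] 1) = (algebraMap F K p) ⊗ₜ[k] 1
            simp [φ]) ha
      have h2 : IsIntegral (F ⊗[k] L) (((1 : K) ⊗ₜ[k] b) : K ⊗[k] L) := by
        have h : φ ((1 : F) ⊗ₜ[k] b) = ((1 : K) ⊗ₜ[k] b : K ⊗[k] L) := by simp [φ]
        rw [← h]
        exact isIntegral_algebraMap (R := F ⊗[k] L) (A := K ⊗[k] L) (x := (1 : F) ⊗ₜ[k] b)
      have h3 : (a ⊗ₜ[k] b : K ⊗[k] L) = (a ⊗ₜ[k] (1 : L)) * ((1 : K) ⊗ₜ[k] b) := by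
        rw [Algebra.TensorProduct.tmul_mul_tmul, mul_one, one_mul]
      rw [h3]
      exact h1.mul h2
    | add a b ha hb => exact ha.add hb
  apply mem_minimalPrimes_of_integral (F ⊗[k] L) (K ⊗[k] L) _ q hq
  intro r hr
  exact map_mem_nonZeroDivisors_general F K L (IsScalarTower.toAlgHom k F K)
    (FaithfulSMul.algebraMap_injective F K) r hr

/-- If the localization of `R` at the prime `Q` has depth `0` then `Q` consists of zero
divisors. -/
theorem not_mem_nonZeroDivisors_of_atPrime {R : Type*} [CommRing R] (Q : Ideal R) [Q.IsPrime]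
    (h : IsAssociatedPrime (IsLocalRing.maximalIdeal (Localization.AtPrime Q))
      (Localization.AtPrime Q)) {r : R} (hr : r ∈ Q) : r ∉ nonZeroDivisors R := by
  obtain ⟨hp, a, ha⟩ := h
  intro hnz
  have ha0 : a ≠ 0 := by
    rintro rfl
    apply hp.ne_top
    rw [ha, eq_top_iff]
    intro b _
    apply Ideal.le_radical
    rw [Submodule.mem_colon_singleton]
    simp
  obtain ⟨⟨r₀, s₀⟩, rfl⟩ := IsLocalization.mk'_surjective Q.primeCompl a
  have hrm : algebraMap R (Localization.AtPrime Q) r ∈
      IsLocalRing.maximalIdeal (Localization.AtPrime Q) := by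
    rw [← Localization.AtPrime.map_eq_maximalIdeal]
    exact Ideal.mem_map_of_mem _ hr
  rw [ha] at hrm
  obtain ⟨n, hn⟩ := hrm
  rw [Submodule.mem_colon_singleton, Submodule.mem_bot, smul_eq_mul, ← map_pow,
    ← IsLocalization.mk'_one (M := Q.primeCompl) (Localization.AtPrime Q) (r ^ n),
    ← IsLocalization.mk'_mul, IsLocalization.mk'_eq_zero_iff] at hn
  obtain ⟨c, hc⟩ := hn
  apply ha0
  rw [IsLocalization.mk'_eq_zero_iff]
  refine ⟨c, ?_⟩
  have h2 : r ^ n ∈ nonZeroDivisors R := pow_mem hnz n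
  have h3 : r ^ n * (c * r₀) = 0 := by
    rw [← hc]; ring
  exact (mem_nonZeroDivisors_iff_right.mp h2) _ (by rw [mul_comm]; exact h3)

end Groth.Agent.Lib.Seat11.FieldTensor
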