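import Mathlib
import Groth.Agent.Lib.Seat11FibProd
import Groth.Agent.Lib.Seat11FieldTensor
import Groth.Agent.Lib.Helper6NoEmb4
set_option backward.isDefEq.respectTransparency.types false

/-!
# `Spec κ(x) ×_S Spec κ(y)` has no embedded associated points (seat 11)
-/

set_option autoImplicit false
set_option linter.style.haveILetI false
universe u
open CategoryTheory CategoryTheory.Limits AlgebraicGeometry TensorProduct

namespace Groth.Agent.Lib.Seat11.TNoEmb

open Groth.Agent.Lib.Seat11.FibProd Groth.Agent.Lib.Seat11.FieldTensor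
open Groth.Agent.Lib.Helper6.BcBridge Groth.Agent.Lib.Helper6.NoEmb

variable {X Y S : Scheme.{u}} (f : X ⟶ S) (g : Y ⟶ S) (x : X) (y : Y)

theorem eq_of_point (t : ↥(T f g x y)) : f x = g y := by
  have hc := congrArg (fun φ => φ t) (pullback.condition (f := X.fromSpecResidueField x ≫ f)
    (g := Y.fromSpecResidueField y ≫ g))
  simp only [Scheme.Hom.comp_apply, Scheme.fromSpecResidueField_apply] at hc
  exact hc

theorem noEmbedded_structureModule_T : AssSch.NoEmbedded (Coh.structureModule (T f g x y)) := by
  intro t ht t' ht' hspec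
  have hxy : f x = g y := eq_of_point f g x y t
  letI algK : Algebra (S.residueField (f x)) (X.residueField x) :=
    (f.residueFieldMap x).hom.toAlgebra
  letI algL : Algebra (S.residueField (f x)) (Y.residueField y) :=
    ((S.residueFieldCongr hxy).hom ≫ g.residueFieldMap y).hom.toAlgebra
  let a : Spec (X.residueField x) ⟶ Spec (S.residueField (f x)) :=
    Spec.map (CommRingCat.ofHom (algebraMap (S.residueField (f x)) (X.residueField x)))
  let b : Spec (Y.residueField y) ⟶ Spec (S.residueField (f x)) :=
    Spec.map (CommRingCat.ofHom (algebraMap (S.residueField (f x)) (Y.residueField y)))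
  have ha : a ≫ S.fromSpecResidueField (f x) = X.fromSpecResidueField x ≫ f :=
    f.SpecMap_residueFieldMap_fromSpecResidueField x
  have hb : b ≫ S.fromSpecResidueField (f x) = Y.fromSpecResidueField y ≫ g := by
    have h1 : b = Spec.map (g.residueFieldMap y) ≫ Spec.map (S.residueFieldCongr hxy).hom :=
      Spec.map_comp _ _
    rw [h1, Category.assoc, Scheme.residueFieldCongr_fromSpecResidueField,
      Scheme.Hom.SpecMap_residueFieldMap_fromSpecResidueField]
  have sq : IsPullback (pullback.fst a b) (pullback.snd a b) (X.fromSpecResidueField x ≫ f)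
      (Y.fromSpecResidueField y ≫ g) := by
    rw [← ha, ← hb]
    exact IsPullback.of_isLimit (pullbackIsPullbackOfCompMono a b (S.fromSpecResidueField (f x)))
  let e : Spec (CommRingCat.of ((X.residueField x) ⊗[S.residueField (f x)] (Y.residueField y))) ≅
      T f g x y :=
    (pullbackSpecIso (S.residueField (f x)) (X.residueField x) (Y.residueField y)).symm ≪≫
      sq.isoPullback
  have hsurj : ∀ t₀ : ↥(T f g x y), ∃ Q, e.hom Q = t₀ := fun t₀ =>
    ⟨e.inv t₀, by rw [← Scheme.Hom.comp_apply, e.inv_hom_id]; rfl⟩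
  obtain ⟨Q, rfl⟩ := hsurj t
  obtain ⟨Q', rfl⟩ := hsurj t'
  have hx' := (Groth.Agent.Lib.Helper23.UnitStalk.isAssPoint_structureModule_iff _).mp ht
  have hQ := isAssociatedPrime_maximalIdeal_of_ringEquiv (stalkEquivSpec e.hom Q) hx'
  have hmin : Q.asIdeal ∈ minimalPrimes _ :=
    mem_minimalPrimes_field (X.residueField x) (Y.residueField y) Q.asIdeal
      (fun r hr => not_mem_nonZeroDivisors_of_atPrime Q.asIdeal hQ hr)
  have hspec' : Q' ⤳ Q := e.hom.isOpenEmbedding.isInducing.specializes_iff.mp hspec
  have hle : Q'.asIdeal ≤ Q.asIdeal := (PrimeSpectrum.le_iff_specializes Q' Q).mpr hspec'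
  have hge : Q.asIdeal ≤ Q'.asIdeal := hmin.2 ⟨Q'.2, bot_le⟩ hle
  have : Q = Q' := PrimeSpectrum.ext (le_antisymm hge hle)
  rw [this]

end Groth.Agent.Lib.Seat11.TNoEmb
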