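import Mathlib
import Groth.Agent.Lib.Seat11FibProd
import Groth.Agent.Lib.Seat11TNoEmb
set_option backward.isDefEq.respectTransparency.types false

/-!
# Associated points of `F ⊗_S G` on `X ×_S Y`: consequences (seat 11)

EGA IV 3.3.2–3.3.5.
-/

set_option autoImplicit false
set_option linter.style.haveILetI false
universe u
open CategoryTheory CategoryTheory.Limits AlgebraicGeometry TensorProduct

namespace Groth.Agent.Lib.Seat11.FibProdAss

open Groth.Agent.Lib.Seat11.FibProd Groth.Agent.Lib.Seat11.TNoEmb
open Groth.Agent.Lib.Seat11.AssRing Groth.Agent.Lib.Seat11.AssStalk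

section K5

variable {Y S : Scheme.{u}}

/-- For `G` flat over `S` at `y`: `y ∈ Ass G` iff `g y ∈ Ass O_S` and `y` is associated to the
restriction of `G` to the fibre. -/
theorem isAssPoint_iff_of_isFlatOverAt [IsLocallyNoetherian S] (g : Y ⟶ S) (G : Y.Modules) (y : Y)
    (hflat : FlatMod.IsFlatOverAt g G y) :
    Curv2.IsAssPoint G y ↔
      Curv2.IsAssPoint (Coh.structureModule S) (g y) ∧ FibAss g G y := by
  letI := algStalk g y
  letI := FlatMod.moduleStalkOver g G y
  haveI := isScalarTower_stalk g G y
  haveI : IsLocalHom (algebraMap (S.presheaf.stalk (g y)) (Y.presheaf.stalk y)) :=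
    inferInstanceAs (IsLocalHom (g.stalkMap y).hom)
  haveI : Module.Flat (S.presheaf.stalk (g y)) (G.presheaf.stalk y) := hflat
  rw [Groth.Agent.Lib.Helper23.UnitStalk.isAssPoint_structureModule_iff]
  have e : (G.presheaf.stalk y) ⊗[S.presheaf.stalk (g y)] (S.presheaf.stalk (g y))
      ≃ₗ[Y.presheaf.stalk y] G.presheaf.stalk y :=
    TensorProduct.AlgebraTensorModule.rid _ _ _
  have h := maximalIdeal_mem_associatedPrimes_tensor_iff (A := S.presheaf.stalk (g y))
    (B := Y.presheaf.stalk y) (S.presheaf.stalk (g y)) (G.presheaf.stalk y)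
  rw [LinearEquiv.AssociatedPrimes.eq e] at h
  exact h

end K5

section Main

variable {X Y S : Scheme.{u}} (f : X ⟶ S) (g : Y ⟶ S)

instance isPreimmersion_tMap (x : X) (y : Y) : IsPreimmersion (tMap f g x y) :=
  MorphismProperty.of_isPullback (P := @IsPreimmersion) (isPullback_tMap f g x y).flip
    inferInstance

instance isPreimmersion_jMap (x : X) (y : Y) : IsPreimmersion (jMap f g x y) := by
  have : IsPreimmersion (tMap f g x y ≫ (pullback.fst f g).fiberι x) := inferInstance
  rwa [tMap_fiberι] at this

/-- Two associated points of `O_T` whose images in `X ×_S Y` specialize are equal. -/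
theorem eq_of_specializes_jMap (x : X) (y : Y) (t t' : ↥(T f g x y))
    (ht : Curv2.IsAssPoint (Coh.structureModule (T f g x y)) t)
    (ht' : Curv2.IsAssPoint (Coh.structureModule (T f g x y)) t')
    (h : jMap f g x y t' ⤳ jMap f g x y t) : t = t' :=
  noEmbedded_structureModule_T f g x y t ht t' ht'
    ((jMap f g x y).isEmbedding.isInducing.specializes_iff.mp h)

/-- Every point of `X ×_S Y` over `x` and `y` lies in the image of `T(x, y)`. -/
theorem exists_jMap_eq' (z : ↥(pullback f g)) (x : X) (y : Y) (hx : pullback.fst f g z = x)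
    (hy : pullback.snd f g z = y) : ∃ t : ↥(T f g x y), jMap f g x y t = z := by
  subst hx hy
  exact exists_jMap_eq f g z

variable [IsLocallyNoetherian X] [IsLocallyNoetherian Y]
  (F : X.Modules) (G : Y.Modules) [G.IsQuasicoherent]

/-- EGA IV 3.3.2: when `f x` is an associated point of `O_S`. -/
theorem isAssPoint_jMap_iff' [IsLocallyNoetherian S] (hGfl : FlatMod.IsFlatOver g G) (x : X) (y : Y)
    (t : ↥(T f g x y)) (hfx : Curv2.IsAssPoint (Coh.structureModule S) (f x)) :
    Curv2.IsAssPoint (CohB1.tensorMod ((Scheme.Modules.pullback (pullback.fst f g)).obj F)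
        ((Scheme.Modules.pullback (pullback.snd f g)).obj G)) (jMap f g x y t) ↔
      Curv2.IsAssPoint F x ∧ Curv2.IsAssPoint G y ∧
      Curv2.IsAssPoint (Coh.structureModule (T f g x y)) t := by
  rw [isAssPoint_jMap_iff f g F G hGfl x y t]
  refine and_congr_right (fun _ => and_congr_left (fun _ => ?_))
  rw [isAssPoint_fiber_iff, fiberι_fibMap_tMap, isAssPoint_iff_of_isFlatOverAt g G y (hGfl y)]
  have hxy : f x = g y := eq_of_point f g x y t
  rw [← hxy]
  exact ⟨fun h => ⟨hfx, h⟩, fun h => h.2⟩

end Main

end Groth.Agent.Lib.Seat11.FibProdAss
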