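import Mathlib
import Groth.Agent.Lib.Seat11FibProdLen
import Groth.Agent.Lib.Seat11TNoEmb
set_option backward.isDefEq.respectTransparency.types false

/-!
# Schemes isomorphic to `Spec (K ⊗[k] L)` for fields `K`, `L` over `k` (seat 11)

Associated points, embedded points, lengths of local rings.
-/

set_option autoImplicit false
set_option linter.style.haveILetI false
universe u
open CategoryTheory CategoryTheory.Limits AlgebraicGeometry TensorProduct

namespace Groth.Agent.Lib.Seat11.TensorFields

open Groth.Agent.Lib.Seat11.FibProd Groth.Agent.Lib.Seat11.FieldTensor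
open Groth.Agent.Lib.Seat11.FibProdLen
open Groth.Agent.Lib.Helper6.BcBridge Groth.Agent.Lib.Helper6.NoEmb

section General

variable {A : Type u} [CommRing A] {W : Scheme.{u}} (e : Spec (CommRingCat.of A) ≅ W)

theorem exists_hom_eq (w : W) : ∃ Q : PrimeSpectrum A, e.hom Q = w :=
  ⟨e.inv w, by rw [← Scheme.Hom.comp_apply, e.inv_hom_id]; rfl⟩

/-- Associated points of `O_W` in terms of the localizations of `A`. -/
theorem isAssPoint_hom_iff (Q : PrimeSpectrum A) :
    Curv2.IsAssPoint (Coh.structureModule W) (e.hom Q) ↔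
      IsAssociatedPrime (IsLocalRing.maximalIdeal (Localization.AtPrime Q.asIdeal))
        (Localization.AtPrime Q.asIdeal) := by
  rw [Groth.Agent.Lib.Helper23.UnitStalk.isAssPoint_structureModule_iff]
  exact ⟨isAssociatedPrime_maximalIdeal_of_ringEquiv (stalkEquivSpec e.hom Q),
    isAssociatedPrime_maximalIdeal_of_ringEquiv (stalkEquivSpec e.hom Q).symm⟩

/-- Length one of the local ring of `W` in terms of the localizations of `A`. -/
theorem length_stalk_hom_eq_one_iff (Q : PrimeSpectrum A) :
    Module.length (W.presheaf.stalk (e.hom Q)) (W.presheaf.stalk (e.hom Q)) = 1 ↔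
      IsField (Localization.AtPrime Q.asIdeal) := by
  rw [length_self_eq_one_iff]
  exact (stalkEquivSpec e.hom Q).toMulEquiv.isField_congr

include e in
/-- If `A` is Artinian, every point of `W` is an associated point of `O_W`. -/
theorem isAssPoint_of_isArtinianRing [IsArtinianRing A] (w : W) :
    Curv2.IsAssPoint (Coh.structureModule W) w := by
  obtain ⟨Q, rfl⟩ := exists_hom_eq e w
  rw [isAssPoint_hom_iff]
  have hmin : Q.asIdeal ∈ minimalPrimes A := by
    rw [Ring.KrullDimLE.minimalPrimes_eq_setOfPred_isPrime]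
    exact Q.2
  haveI : Ring.KrullDimLE 0 (Localization.AtPrime Q.asIdeal) :=
    Ring.KrullDimLE.of_isLocalization _ hmin _
  obtain ⟨P, hP⟩ := associatedPrimes.nonempty (Localization.AtPrime Q.asIdeal)
    (Localization.AtPrime Q.asIdeal)
  have hP' : IsAssociatedPrime P (Localization.AtPrime Q.asIdeal) := hP
  haveI := hP'.isPrime
  rwa [Ring.KrullDimLE.eq_maximalIdeal_of_isPrime P] at hP'

include e in
/-- If all local rings of `W` have length one then `A` is reduced. -/
theorem isReduced_of_forall_length
    (h : ∀ w : W, Module.length (W.presheaf.stalk w) (W.presheaf.stalk w) = 1) :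
    IsReduced A := by
  refine isReduced_ofLocalizationMaximal A (fun P hP => ?_)
  have hf := (length_stalk_hom_eq_one_iff e ⟨P, hP.isPrime⟩).mp (h _)
  letI := hf.toField
  infer_instance

end General

section Fields

variable {k : Type u} [Field k] (K L : Type u) [Field K] [Field L] [Algebra k K] [Algebra k L]
  {W : Scheme.{u}} (e : Spec (CommRingCat.of (K ⊗[k] L)) ≅ W)

include e in
/-- Associated points of `O_W` are minimal primes of `K ⊗[k] L`. -/
theorem mem_minimalPrimes_of_isAssPoint (Q : PrimeSpectrum (K ⊗[k] L))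
    (h : Curv2.IsAssPoint (Coh.structureModule W) (e.hom Q)) :
    Q.asIdeal ∈ minimalPrimes (K ⊗[k] L) := by
  rw [isAssPoint_hom_iff] at h
  exact mem_minimalPrimes_field K L Q.asIdeal
    (fun r hr => not_mem_nonZeroDivisors_of_atPrime Q.asIdeal h hr)

include e in
/-- `Spec (K ⊗[k] L)` has no embedded associated points. -/
theorem noEmbedded_of_iso : AssSch.NoEmbedded (Coh.structureModule W) := by
  intro t ht t' ht' hspec
  obtain ⟨Q, rfl⟩ := exists_hom_eq e t
  obtain ⟨Q', rfl⟩ := exists_hom_eq e t'
  have hmin := mem_minimalPrimes_of_isAssPoint K L e Q ht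
  have hspec' : Q' ⤳ Q := e.hom.isOpenEmbedding.isInducing.specializes_iff.mp hspec
  have hle : Q'.asIdeal ≤ Q.asIdeal := (PrimeSpectrum.le_iff_specializes Q' Q).mpr hspec'
  have hge : Q.asIdeal ≤ Q'.asIdeal := hmin.2 ⟨Q'.2, bot_le⟩ hle
  have : Q = Q' := PrimeSpectrum.ext (le_antisymm hge hle)
  rw [this]

include e in
/-- If `K ⊗[k] L` is reduced, the local rings of `W` at associated points are fields. -/
theorem length_stalk_eq_one_of_isReduced [IsReduced (K ⊗[k] L)] (w : W)
    (hw : Curv2.IsAssPoint (Coh.structureModule W) w) :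
    Module.length (W.presheaf.stalk w) (W.presheaf.stalk w) = 1 := by
  obtain ⟨Q, rfl⟩ := exists_hom_eq e w
  have hmin := mem_minimalPrimes_of_isAssPoint K L e Q hw
  rw [length_stalk_hom_eq_one_iff]
  haveI : Ring.KrullDimLE 0 (Localization.AtPrime Q.asIdeal) :=
    Ring.KrullDimLE.of_isLocalization _ hmin _
  exact Ring.KrullDimLE.isField_of_isReduced

end Fields

end Groth.Agent.Lib.Seat11.TensorFields
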