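import Mathlib
import Groth.Agent.Lib.Seat11TensorFields
set_option backward.isDefEq.respectTransparency.types false

/-!
# Flat pullbacks along fibres; fibres of base changes over a field (seat 11)
-/

set_option autoImplicit false
set_option linter.style.haveILetI false
universe u
open CategoryTheory CategoryTheory.Limits AlgebraicGeometry TensorProduct

namespace Groth.Agent.Lib.Seat11.BaseChangeFib

open Groth.Agent.Lib.Seat11.FibProd Groth.Agent.Lib.Seat11.FibProdLen
open Groth.Agent.Lib.Seat11.AssRing Groth.Agent.Lib.Seat11.AssStalk

section Flat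

variable {X X' : Scheme.{u}} (π : X' ⟶ X) [Flat π] (F : X.Modules) (x : X) (w : ↥(π.fiber x))

omit [Flat π] in
theorem isPullback_fiber :
    IsPullback (π.fiberι x) (π.fiberToSpecResidueField x) π (X.fromSpecResidueField x) :=
  IsPullback.of_hasPullback _ _

/-- Associated points of a flat pullback, along a fibre. -/
theorem isAssPoint_pullback_fiberι_iff [IsLocallyNoetherian X] :
    Curv2.IsAssPoint ((Scheme.Modules.pullback π).obj F) (π.fiberι x w) ↔
      Curv2.IsAssPoint F x ∧ Curv2.IsAssPoint (Coh.structureModule (π.fiber x)) w := by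
  rw [isAssPoint_pullback_iff_of_flat π F _ (Flat.stalkMap π _),
    fibAssRing_iff_isAssPoint_structureModule π (isPullback_fiber π x) w]
  have h := Groth.Agent.Lib.Helper10.FibStalk.fiberι_apply_eq π x w
  exact and_congr_left (fun _ => by rw [h])

/-- Length one for stalks of a flat pullback, along a fibre. -/
theorem length_stalk_pullback_fiberι_eq_one_iff :
    Module.length (X'.presheaf.stalk (π.fiberι x w))
        (((Scheme.Modules.pullback π).obj F).presheaf.stalk (π.fiberι x w)) = 1 ↔
      Module.length (X.presheaf.stalk x) (F.presheaf.stalk x) = 1 ∧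
      Module.length ((π.fiber x).presheaf.stalk w) ((π.fiber x).presheaf.stalk w) = 1 := by
  rw [length_stalk_pullback_eq_one_iff_of_flat π F _ (Flat.stalkMap π _),
    fibLenRing_iff_length_stalk π (isPullback_fiber π x) w]
  have h := Groth.Agent.Lib.Helper10.FibStalk.fiberι_apply_eq π x w
  exact and_congr_left (fun _ => by rw [length_stalk_congr F h])

end Flat

section Field

variable {k : Type u} [CommRing k] {X : Scheme.{u}} (f : X ⟶ Spec (CommRingCat.of k)) (x : X)

/-- The structure map `k → κ(x)` of a point of a `k`-scheme. -/
noncomputable def resHom : k →+* X.residueField x :=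
  (Spec.preimage (X.fromSpecResidueField x ≫ f)).hom

theorem SpecMap_resHom :
    Spec.map (CommRingCat.ofHom (resHom f x)) = X.fromSpecResidueField x ≫ f :=
  Spec.map_preimage _

/-- `κ(x)` as a `k`-algebra. -/
noncomputable abbrev resAlg : Algebra k (X.residueField x) := (resHom f x).toAlgebra

variable {Y : Scheme.{u}} (g : Y ⟶ Spec (CommRingCat.of k)) (y : Y)

/-- `T(x, y) = Spec (κ(x) ⊗[k] κ(y))` over `Spec k`. -/
noncomputable def tIso :
    letI := resAlg f x
    letI := resAlg g y
    Spec (CommRingCat.of ((X.residueField x) ⊗[k] (Y.residueField y))) ≅ T f g x y :=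
  letI := resAlg f x
  letI := resAlg g y
  have sq : IsPullback
      (pullback.fst (Spec.map (CommRingCat.ofHom (algebraMap k (X.residueField x))))
        (Spec.map (CommRingCat.ofHom (algebraMap k (Y.residueField y)))))
      (pullback.snd (Spec.map (CommRingCat.ofHom (algebraMap k (X.residueField x))))
        (Spec.map (CommRingCat.ofHom (algebraMap k (Y.residueField y)))))
      (X.fromSpecResidueField x ≫ f) (Y.fromSpecResidueField y ≫ g) := by
    rw [← SpecMap_resHom f x, ← SpecMap_resHom g y]
    exact IsPullback.of_hasPullback _ _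
  (pullbackSpecIso k (X.residueField x) (Y.residueField y)).symm ≪≫ sq.isoPullback

variable (K : Type u) [CommRing K] [Algebra k K]

/-- The fibre of `X ⊗_k K → X` over `x` is `Spec (κ(x) ⊗[k] K)`. -/
noncomputable def fibIso :
    letI := resAlg f x
    Spec (CommRingCat.of ((X.residueField x) ⊗[k] K)) ≅
      (pullback.fst f (Spec.map (CommRingCat.ofHom (algebraMap k K)))).fiber x :=
  letI := resAlg f x
  have sq : IsPullback
      ((pullback.fst f (Spec.map (CommRingCat.ofHom (algebraMap k K)))).fiberToSpecResidueField x)
      ((pullback.fst f (Spec.map (CommRingCat.ofHom (algebraMap k K)))).fiberι x ≫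
        pullback.snd f (Spec.map (CommRingCat.ofHom (algebraMap k K))))
      (Spec.map (CommRingCat.ofHom (algebraMap k (X.residueField x))))
      (Spec.map (CommRingCat.ofHom (algebraMap k K))) := by
    have h := isPullback_fiber_fst f (Spec.map (CommRingCat.ofHom (algebraMap k K))) x
    rw [← SpecMap_resHom f x] at h
    exact h
  (pullbackSpecIso k (X.residueField x) K).symm ≪≫ sq.isoPullback.symm

end Field

end Groth.Agent.Lib.Seat11.BaseChangeFib
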