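import Mathlib
import Groth.Agent.Lib.Seat11FibProd
set_option backward.isDefEq.respectTransparency.types false

/-!
# Fibres of the projections of a cartesian square; non-vanishing of fibre modules (seat 11)
-/

set_option autoImplicit false
set_option linter.style.haveILetI false
universe u
open CategoryTheory CategoryTheory.Limits AlgebraicGeometry TensorProduct

namespace Groth.Agent.Lib.Seat11.FibSq

open Groth.Agent.Lib.Helper1.StalkTensor Groth.Agent.Lib.Helper1.Sky
open Groth.Agent.Lib.Seat11.AssRing Groth.Agent.Lib.Seat11.AssStalk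

section Stalk

variable {X Y : Scheme.{u}} (f : X ⟶ Y)

/-- An isomorphism of modules induces a linear equivalence on stalks. -/
noncomputable def stalkEquivOfIso {M N : X.Modules} (e : M ≅ N) (x : X) :
    M.presheaf.stalk x ≃ₗ[X.presheaf.stalk x] N.presheaf.stalk x :=
  ((stalkFun x).mapIso e).toLinearEquiv

/-- The stalk of the restriction of `F` to a fibre is the fibre module `F_x / m_y F_x`. -/
theorem nontrivial_stalk_fiber_iff (F : X.Modules) (y : Y) (z : ↥(f.fiber y)) :
    Nontrivial (((Scheme.Modules.pullback (f.fiberι y)).obj F).presheaf.stalk z) ↔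
      Nontrivial (FibMod f F (f.fiberι y z)) := by
  letI := algStalk (f.fiberι y) z
  have hsurj := surjective_stalkMap_fiberι f y z
  rw [(stalkPullbackEquiv (f.fiberι y) F z).toEquiv.nontrivial_congr,
    (baseChangeSurjEquiv hsurj _).toEquiv.nontrivial_congr]
  unfold FibMod
  rw [← ker_stalkMap_fiberι f y z]

/-- Pullback along a morphism which is flat at `w` preserves non-vanishing of stalks. -/
theorem nontrivial_stalk_pullback_iff_of_flat (E : Y.Modules) (w : X)
    (hfl : (f.stalkMap w).hom.Flat) :
    Nontrivial (((Scheme.Modules.pullback f).obj E).presheaf.stalk w) ↔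
      Nontrivial (E.presheaf.stalk (f w)) := by
  letI := algStalk f w
  haveI : IsLocalHom (algebraMap (Y.presheaf.stalk (f w)) (X.presheaf.stalk w)) :=
    inferInstanceAs (IsLocalHom (f.stalkMap w).hom)
  haveI : Module.Flat (Y.presheaf.stalk (f w)) (X.presheaf.stalk w) := hfl
  haveI : Module.FaithfullyFlat (Y.presheaf.stalk (f w)) (X.presheaf.stalk w) :=
    Module.FaithfullyFlat.of_flat_of_isLocalHom
  rw [(stalkPullbackEquiv f E w).toEquiv.nontrivial_congr]
  exact Module.FaithfullyFlat.nontrivial_tensorProduct_iff_right _ _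

end Stalk

section Sq

variable {P X Y Z : Scheme.{u}} {fst : P ⟶ X} {snd : P ⟶ Y} {f : X ⟶ Z} {g : Y ⟶ Z}
  (hsq : IsPullback fst snd f g) (y : Y)

/-- The map from the fibre of `snd` over `y` to the fibre of `f` over `g y`. -/
noncomputable def fibMapSq : snd.fiber y ⟶ f.fiber (g y) :=
  pullback.map _ _ _ _ fst (Spec.map (g.residueFieldMap y)) g hsq.w.symm (by simp)

theorem fibMapSq_fiberι : fibMapSq hsq y ≫ f.fiberι (g y) = snd.fiberι y ≫ fst :=
  pullback.lift_fst _ _ _

theorem isPullback_fibMapSq :
    IsPullback (fibMapSq hsq y) (snd.fiberToSpecResidueField y)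
      (f.fiberToSpecResidueField (g y)) (Spec.map (g.residueFieldMap y)) :=
  isPullback_fiberToSpecResidueField_of_isPullback hsq y

instance flat_fibMapSq : Flat (fibMapSq hsq y) := by
  have h1 : Flat (Spec.map (g.residueFieldMap y)) := by
    rw [Flat.SpecMap_iff]
    letI := (g.residueFieldMap y).hom.toAlgebra
    show Module.Flat _ _
    infer_instance
  exact MorphismProperty.of_isPullback (isPullback_fibMapSq hsq y).flip h1

instance surjective_fibMapSq : Surjective (fibMapSq hsq y) := by
  have h1 : Surjective (Spec.map (g.residueFieldMap y)) := by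
    refine ⟨fun c => ⟨IsLocalRing.closedPoint _, Subsingleton.elim (α := PrimeSpectrum _) _ _⟩⟩
  exact MorphismProperty.of_isPullback (isPullback_fibMapSq hsq y).flip h1

include hsq in
/-- If the fibre module of `F` at `x` does not vanish, then over every `y` with `g y = f x` there is
a point `x'` of `P` over `x` and `y` at which the fibre module of `fst^*F` does not vanish. -/
theorem exists_nontrivial_fibMod (F : X.Modules) (x : X) (hx : f x = g y)
    (hne : Nontrivial (FibMod f F x)) :
    ∃ x' : P, fst x' = x ∧ snd x' = y ∧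
      Nontrivial (FibMod snd ((Scheme.Modules.pullback fst).obj F) x') := by
  obtain ⟨w, rfl⟩ : x ∈ Set.range (f.fiberι (g y)) := by
    rw [f.range_fiberι]
    exact hx
  obtain ⟨w', rfl⟩ := (fibMapSq hsq y).surjective w
  have h1 := (nontrivial_stalk_fiber_iff f F (g y) _).2 hne
  have h2 := (nontrivial_stalk_pullback_iff_of_flat (fibMapSq hsq y) _ w'
    (Flat.stalkMap _ w')).2 h1
  have e1 : (Scheme.Modules.pullback (fibMapSq hsq y)).obj
        ((Scheme.Modules.pullback (f.fiberι (g y))).obj F) ≅
      (Scheme.Modules.pullback (snd.fiberι y)).obj ((Scheme.Modules.pullback fst).obj F) :=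
    (Scheme.Modules.pullbackComp _ _).app F ≪≫
      (Scheme.Modules.pullbackCongr (fibMapSq_fiberι hsq y)).app F ≪≫
      ((Scheme.Modules.pullbackComp _ _).app F).symm
  have h3 := ((stalkEquivOfIso e1 w').toEquiv.nontrivial_congr).1 h2
  have h4 := (nontrivial_stalk_fiber_iff snd _ y w').1 h3
  refine ⟨snd.fiberι y w', ?_, Groth.Agent.Lib.Helper10.FibStalk.fiberι_apply_eq snd y w', h4⟩
  rw [← Scheme.Hom.comp_apply, ← fibMapSq_fiberι]
  rfl

end Sq

end Groth.Agent.Lib.Seat11.FibSq
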