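import Mathlib
import Groth.Agent.Lib.Helper28DepthFlat

/-!
# Flatness of `M ⊗_A N` over a third ring `C` (seat 11)
-/

set_option autoImplicit false
set_option linter.style.haveILetI false
universe u
open TensorProduct

namespace Groth.Agent.Lib.Seat11.FlatTensor

section

variable (C A M N : Type u) [CommRing C] [CommRing A] [Algebra C A]
  [AddCommGroup M] [Module A M] [Module C M] [IsScalarTower C A M]
  [AddCommGroup N] [Module A N] [Module C N] [IsScalarTower C A N]

open TensorProduct.AlgebraTensorModule in
theorem assoc_lTensor {P : Type u} [AddCommMonoid P] [Module C P] (P' : Submodule C P)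
    (z : (M ⊗[A] N) ⊗[C] P') :
    (assoc C A A M N P) (P'.subtype.lTensor (M ⊗[A] N) z) =
      ((AlgebraTensorModule.lTensor A N P'.subtype).lTensor M) (assoc C A A M N P' z) := by
  induction z using TensorProduct.induction_on with
  | zero => simp
  | tmul a p =>
    induction a using TensorProduct.induction_on with
    | zero => simp
    | tmul m n => simp
    | add a b ha hb => simp only [add_tmul, map_add, ha, hb]
  | add a b ha hb => simp only [map_add, ha, hb]

open TensorProduct.AlgebraTensorModule in
/-- If `M` is a flat `A`-module and `N` is an `A`-module which is flat over `C`, then `M ⊗_A N` is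
flat over `C`. -/
theorem flat_tensor_of_flat [Module.Flat A M] [Module.Flat C N] : Module.Flat C (M ⊗[A] N) := by
  rw [Module.Flat.iff_lTensor_injectiveₛ]
  intro P _ _ P'
  have h1 : Function.Injective (P'.subtype.lTensor N) :=
    Module.Flat.lTensor_preserves_injective_linearMap _ Subtype.val_injective
  have h2 : Function.Injective ((AlgebraTensorModule.lTensor A N P'.subtype).lTensor M) := by
    apply Module.Flat.lTensor_preserves_injective_linearMap
    rw [coe_lTensor]
    exact h1
  intro z₁ z₂ h
  apply (assoc C A A M N P').injective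
  apply h2
  rw [← assoc_lTensor, ← assoc_lTensor, h]

open TensorProduct.AlgebraTensorModule in
/-- If `M` is a faithfully flat `A`-module and `M ⊗_A N` is flat over `C`, then `N` is flat over
`C`. -/
theorem flat_of_flat_tensor [Module.FaithfullyFlat A M] [Module.Flat C (M ⊗[A] N)] :
    Module.Flat C N := by
  rw [Module.Flat.iff_lTensor_injectiveₛ]
  intro P _ _ P'
  have h1 : Function.Injective (P'.subtype.lTensor (M ⊗[A] N)) :=
    Module.Flat.lTensor_preserves_injective_linearMap _ Subtype.val_injective
  have h2 : Function.Injective ((AlgebraTensorModule.lTensor A N P'.subtype).lTensor M) := by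
    intro z₁ z₂ h
    obtain ⟨w₁, rfl⟩ := (assoc C A A M N P').surjective z₁
    obtain ⟨w₂, rfl⟩ := (assoc C A A M N P').surjective z₂
    rw [← assoc_lTensor, ← assoc_lTensor] at h
    rw [h1 ((assoc C A A M N P).injective h)]
  have h3 := (Module.FaithfullyFlat.lTensor_injective_iff_injective A M
    (f := AlgebraTensorModule.lTensor A N P'.subtype)).1 h2
  rw [coe_lTensor] at h3
  exact h3

/-- `c • (m ⊗ n) = m ⊗ (c • n)` for the `C`-structure coming from the left factor. -/
theorem smul_tmul_right (c : C) (m : M) (n : N) : c • (m ⊗ₜ[A] n) = m ⊗ₜ[A] (c • n) := by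
  rw [TensorProduct.smul_tmul', ← algebraMap_smul A c m, TensorProduct.smul_tmul,
    algebraMap_smul]

theorem smul_top_ne_top_of_tensor (I : Ideal C)
    (h : I • (⊤ : Submodule C (M ⊗[A] N)) ≠ ⊤) : I • (⊤ : Submodule C N) ≠ ⊤ := by
  intro hN
  apply h
  rw [eq_top_iff]
  suffices H : ∀ t : M ⊗[A] N, t ∈ I • (⊤ : Submodule C (M ⊗[A] N)) from fun t _ => H t
  intro t
  induction t using TensorProduct.induction_on with
  | zero => exact zero_mem _
  | tmul m n =>
    have hn : n ∈ I • (⊤ : Submodule C N) := by rw [hN]; exact Submodule.mem_top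
    refine Submodule.smul_induction_on (p := fun n => m ⊗ₜ[A] n ∈
      I • (⊤ : Submodule C (M ⊗[A] N))) hn (fun c hc n' _ => ?_) (fun n₁ n₂ h₁ h₂ => ?_)
    · rw [← smul_tmul_right]
      exact Submodule.smul_mem_smul hc Submodule.mem_top
    · rw [TensorProduct.tmul_add]
      exact add_mem h₁ h₂
  | add a b ha hb => exact add_mem ha hb

theorem smul_top_tensor_ne_top [Module.FaithfullyFlat A M] (I : Ideal C)
    (h : I • (⊤ : Submodule C N) ≠ ⊤) : I • (⊤ : Submodule C (M ⊗[A] N)) ≠ ⊤ := by
  let N₀ : Submodule A N := I.map (algebraMap C A) • ⊤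
  have hN₀ : N₀ ≠ ⊤ := by
    intro h0
    apply h
    rw [eq_top_iff]
    intro n _
    have : n ∈ N₀ := by rw [h0]; exact Submodule.mem_top
    exact (Groth.Agent.Lib.Helper28.mem_map_smul_top_iff (R := C) (S := A) I n).1 this
  haveI : Nontrivial (N ⧸ N₀) := Submodule.Quotient.nontrivial_iff.2 hN₀
  haveI : Nontrivial (M ⊗[A] (N ⧸ N₀)) :=
    (Module.FaithfullyFlat.nontrivial_tensorProduct_iff_right A M).2 inferInstance
  let ψ : M ⊗[A] N →ₗ[A] M ⊗[A] (N ⧸ N₀) := N₀.mkQ.lTensor M
  have hψ : Function.Surjective ψ := LinearMap.lTensor_surjective M N₀.mkQ_surjective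
  have hkill : ∀ c ∈ I, ∀ t : M ⊗[A] N, ψ (c • t) = 0 := by
    intro c hc t
    induction t using TensorProduct.induction_on with
    | zero => simp
    | tmul m n =>
      rw [smul_tmul_right, LinearMap.lTensor_tmul]
      have : N₀.mkQ (c • n) = 0 := by
        rw [Submodule.mkQ_apply, Submodule.Quotient.mk_eq_zero,
          Groth.Agent.Lib.Helper28.mem_map_smul_top_iff (R := C) (S := A)]
        exact Submodule.smul_mem_smul hc Submodule.mem_top
      rw [this, TensorProduct.tmul_zero]
    | add a b ha hb => rw [smul_add, map_add, ha, hb, add_zero]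
  intro htop
  obtain ⟨u, hu⟩ := exists_ne (0 : M ⊗[A] (N ⧸ N₀))
  obtain ⟨t, rfl⟩ := hψ u
  apply hu
  have ht : t ∈ I • (⊤ : Submodule C (M ⊗[A] N)) := by rw [htop]; exact Submodule.mem_top
  refine Submodule.smul_induction_on (p := fun t => ψ t = 0) ht (fun c hc t' _ => hkill c hc t')
    (fun t₁ t₂ h₁ h₂ => ?_)
  rw [map_add, h₁, h₂, add_zero]

end

/-- A flat module `M` over a local ring with `m M ≠ M` is faithfully flat. -/
theorem faithfullyFlat_of_flat_of_ne_top (A M : Type*) [CommRing A] [IsLocalRing A]
    [AddCommGroup M] [Module A M] [Module.Flat A M]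
    (h : IsLocalRing.maximalIdeal A • (⊤ : Submodule A M) ≠ ⊤) : Module.FaithfullyFlat A M where
  submodule_ne_top := fun m hm => by
    rw [IsLocalRing.eq_maximalIdeal hm]
    exact h

end Groth.Agent.Lib.Seat11.FlatTensor
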