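import Mathlib
import Groth.Agent.Lib.Seat11AssStalk
import Groth.Agent.Lib.Seat11FlatTensor
set_option backward.isDefEq.respectTransparency.types false

/-!
# Flatness of `M ⊗ q^*G'` over `Z` (seat 11)
-/

set_option autoImplicit false
set_option linter.style.haveILetI false
universe u
open CategoryTheory CategoryTheory.Limits AlgebraicGeometry TensorProduct

namespace Groth.Agent.Lib.Seat11.FlatTensor

open Groth.Agent.Lib.Seat11.AssStalk

variable {X' Y' Z : Scheme.{u}} (q : X' ⟶ Y') (h : Y' ⟶ Z)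
  (M : X'.Modules) (G' : Y'.Modules) (x' : X')

/-- The stalk of `M ⊗ q^*G'` at `x'` is `M_{x'} ⊗_{O_{q x'}} G'_{q x'}`. -/
noncomputable def stalkTensorPullbackEquiv' :
    letI := algStalk q x'
    letI := FlatMod.moduleStalkOver q M x'
    haveI := isScalarTower_stalk q M x'
    (CohB1.tensorMod M ((Scheme.Modules.pullback q).obj G')).presheaf.stalk x' ≃ₗ[X'.presheaf.stalk x']
      (M.presheaf.stalk x') ⊗[Y'.presheaf.stalk (q x')] (G'.presheaf.stalk (q x')) :=
  letI := algStalk q x'
  letI := FlatMod.moduleStalkOver q M x'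
  haveI := isScalarTower_stalk q M x'
  stalkTensorEquiv M ((Scheme.Modules.pullback q).obj G') x' ≪≫ₗ
    TensorProduct.congr (LinearEquiv.refl _ _) (stalkPullbackEquiv q G' x') ≪≫ₗ
    TensorProduct.AlgebraTensorModule.cancelBaseChange (Y'.presheaf.stalk (q x'))
      (X'.presheaf.stalk x') (X'.presheaf.stalk x') (M.presheaf.stalk x')
      (G'.presheaf.stalk (q x'))

/-- EGA IV 2.1.? : if `M` is flat over `Y'` at `x'` and `G'` is flat over `Z` at `q x'` then
`M ⊗ q^*G'` is flat over `Z` at `x'`. -/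
theorem isFlatOverAt_tensor_pullback_comp
    (hM : FlatMod.IsFlatOverAt q M x') (hG : FlatMod.IsFlatOverAt h G' (q x')) :
    FlatMod.IsFlatOverAt (q ≫ h) (CohB1.tensorMod M ((Scheme.Modules.pullback q).obj G')) x' := by
  letI algAD := algStalk q x'
  letI algCA : Algebra (Z.presheaf.stalk ((q ≫ h) x')) (Y'.presheaf.stalk (q x')) :=
    (h.stalkMap (q x')).hom.toAlgebra
  letI algCD := algStalk (q ≫ h) x'
  haveI towCAD : IsScalarTower (Z.presheaf.stalk ((q ≫ h) x')) (Y'.presheaf.stalk (q x'))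
      (X'.presheaf.stalk x') :=
    IsScalarTower.of_algebraMap_eq fun c =>
      congrArg (fun φ => φ.hom c) (Scheme.Hom.stalkMap_comp q h x')
  letI modAM := FlatMod.moduleStalkOver q M x'
  letI modCM := FlatMod.moduleStalkOver (q ≫ h) M x'
  haveI towADM := isScalarTower_stalk q M x'
  haveI towCDM := isScalarTower_stalk (q ≫ h) M x'
  haveI towCAM : IsScalarTower (Z.presheaf.stalk ((q ≫ h) x')) (Y'.presheaf.stalk (q x'))
      (M.presheaf.stalk x') := by
    refine ⟨fun c a m => ?_⟩
    show (q.stalkMap x').hom (c • a) • m =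
      ((q ≫ h).stalkMap x').hom c • ((q.stalkMap x').hom a • m)
    rw [Algebra.smul_def, map_mul, mul_smul]
    congr 1
    exact (congrArg (fun φ => φ.hom c) (Scheme.Hom.stalkMap_comp q h x')).symm
  letI modCN : Module (Z.presheaf.stalk ((q ≫ h) x')) (G'.presheaf.stalk (q x')) :=
    FlatMod.moduleStalkOver h G' (q x')
  haveI towCAN : IsScalarTower (Z.presheaf.stalk ((q ≫ h) x')) (Y'.presheaf.stalk (q x'))
      (G'.presheaf.stalk (q x')) := isScalarTower_stalk h G' (q x')
  haveI : Module.Flat (Y'.presheaf.stalk (q x')) (M.presheaf.stalk x') := hM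
  haveI : Module.Flat (Z.presheaf.stalk ((q ≫ h) x')) (G'.presheaf.stalk (q x')) := hG
  letI modCE := FlatMod.moduleStalkOver (q ≫ h)
    (CohB1.tensorMod M ((Scheme.Modules.pullback q).obj G')) x'
  haveI towCDE := isScalarTower_stalk (q ≫ h)
    (CohB1.tensorMod M ((Scheme.Modules.pullback q).obj G')) x'
  have hflat := flat_tensor_of_flat (Z.presheaf.stalk ((q ≫ h) x')) (Y'.presheaf.stalk (q x'))
    (M.presheaf.stalk x') (G'.presheaf.stalk (q x'))
  let e := (stalkTensorPullbackEquiv' q M G' x').restrictScalars (Z.presheaf.stalk ((q ≫ h) x'))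
  exact Module.Flat.of_linearEquiv e
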