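import Mathlib
import Groth.Agent.Lib.Seat11FlatTensor2
import Groth.Agent.Lib.Seat11FibSq
import Groth.Agent.Lib.Helper2PullbackSec3
set_option backward.isDefEq.respectTransparency.types false

/-!
# Faithful flatness of `p^*F ⊗ q^*G'` over `Z` (seat 11)

EGA IV 2.2.? for modules: `F` faithfully flat relative to `Y`.
-/

set_option autoImplicit false
set_option linter.style.haveILetI false
universe u
open CategoryTheory CategoryTheory.Limits AlgebraicGeometry TensorProduct

namespace Groth.Agent.Lib.Seat11.FlatTensor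

open Groth.Agent.Lib.Seat11.AssStalk Groth.Agent.Lib.Seat11.FibSq

section NeTop

variable {X Y : Scheme.{u}} (f : X ⟶ Y) (F : X.Modules) (x : X)

/-- `F_x / m_{f x} F_x ≠ 0` in terms of submodules over the local ring of the base. -/
theorem nontrivial_fibMod_iff :
    Nontrivial (FibMod f F x) ↔
      (letI := FlatMod.moduleStalkOver f F x;
       IsLocalRing.maximalIdeal (Y.presheaf.stalk (f x)) •
        (⊤ : Submodule (Y.presheaf.stalk (f x)) (F.presheaf.stalk x)) ≠ ⊤) := by
  letI := algStalk f x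
  letI := FlatMod.moduleStalkOver f F x
  haveI := isScalarTower_stalk f F x
  unfold FibMod
  rw [Submodule.Quotient.nontrivial_iff, not_iff_not]
  constructor
  · intro h
    rw [eq_top_iff]
    intro n _
    have : n ∈ ((IsLocalRing.maximalIdeal (Y.presheaf.stalk (f x))).map (f.stalkMap x).hom •
        (⊤ : Submodule (X.presheaf.stalk x) (F.presheaf.stalk x))) := by
      rw [h]; exact Submodule.mem_top
    exact (Groth.Agent.Lib.Helper28.mem_map_smul_top_iff (R := Y.presheaf.stalk (f x))
      (S := X.presheaf.stalk x) _ n).1 this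
  · intro h
    rw [eq_top_iff]
    intro n _
    have : n ∈ (IsLocalRing.maximalIdeal (Y.presheaf.stalk (f x)) •
        (⊤ : Submodule (Y.presheaf.stalk (f x)) (F.presheaf.stalk x))) := by
      rw [h]; exact Submodule.mem_top
    exact (Groth.Agent.Lib.Helper28.mem_map_smul_top_iff (R := Y.presheaf.stalk (f x))
      (S := X.presheaf.stalk x) _ n).2 this

end NeTop

section Transfer

variable {X' Y' Z : Scheme.{u}} (q : X' ⟶ Y') (h : Y' ⟶ Z)
  (M : X'.Modules) (G' : Y'.Modules) (x' : X')

theorem transfer (hM : FlatMod.IsFlatOverAt q M x') :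
    ((letI := FlatMod.moduleStalkOver q M x';
      IsLocalRing.maximalIdeal (Y'.presheaf.stalk (q x')) •
        (⊤ : Submodule (Y'.presheaf.stalk (q x')) (M.presheaf.stalk x')) ≠ ⊤) →
      FlatMod.IsFlatOverAt (q ≫ h) (CohB1.tensorMod M ((Scheme.Modules.pullback q).obj G')) x' →
      FlatMod.IsFlatOverAt h G' (q x')) ∧
    ((letI := FlatMod.moduleStalkOver q M x';
      IsLocalRing.maximalIdeal (Y'.presheaf.stalk (q x')) •
        (⊤ : Submodule (Y'.presheaf.stalk (q x')) (M.presheaf.stalk x')) ≠ ⊤) →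
      (letI := FlatMod.moduleStalkOver h G' (q x');
       IsLocalRing.maximalIdeal (Z.presheaf.stalk (h (q x'))) •
        (⊤ : Submodule (Z.presheaf.stalk (h (q x'))) (G'.presheaf.stalk (q x'))) ≠ ⊤) →
      (letI := FlatMod.moduleStalkOver (q ≫ h)
        (CohB1.tensorMod M ((Scheme.Modules.pullback q).obj G')) x';
       IsLocalRing.maximalIdeal (Z.presheaf.stalk ((q ≫ h) x')) •
        (⊤ : Submodule (Z.presheaf.stalk ((q ≫ h) x'))
          ((CohB1.tensorMod M ((Scheme.Modules.pullback q).obj G')).presheaf.stalk x')) ≠ ⊤)) ∧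
    ((letI := FlatMod.moduleStalkOver (q ≫ h)
        (CohB1.tensorMod M ((Scheme.Modules.pullback q).obj G')) x';
      IsLocalRing.maximalIdeal (Z.presheaf.stalk ((q ≫ h) x')) •
        (⊤ : Submodule (Z.presheaf.stalk ((q ≫ h) x'))
          ((CohB1.tensorMod M ((Scheme.Modules.pullback q).obj G')).presheaf.stalk x')) ≠ ⊤) →
      (letI := FlatMod.moduleStalkOver h G' (q x');
       IsLocalRing.maximalIdeal (Z.presheaf.stalk (h (q x'))) •
        (⊤ : Submodule (Z.presheaf.stalk (h (q x'))) (G'.presheaf.stalk (q x'))) ≠ ⊤)) := by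
  letI algAD := algStalk q x'
  letI algCA : Algebra (Z.presheaf.stalk ((q ≫ h) x')) (Y'.presheaf.stalk (q x')) :=
    (h.stalkMap (q x')).hom.toAlgebra
  letI algCD := algStalk (q ≫ h) x'
  haveI towCAD : IsScalarTower (Z.presheaf.stalk ((q ≫ h) x')) (Y'.presheaf.stalk (q x'))
      (X'.presheaf.stalk x') :=
    IsScalarTower.of_algebraMap_eq fun c =>
      congrArg (fun φ => φ.hom c) (Scheme.Hom.stalkMap_comp q h x')
  letI modAM := FlatMod.moduleStalkOver q M x'
  letI modCM := FlatMod.moduleStalkOver (q ≫ h) M x'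
  haveI towADM := isScalarTower_stalk q M x'
  haveI towCDM := isScalarTower_stalk (q ≫ h) M x'
  haveI towCAM : IsScalarTower (Z.presheaf.stalk ((q ≫ h) x')) (Y'.presheaf.stalk (q x'))
      (M.presheaf.stalk x') := by
    refine ⟨fun c a m => ?_⟩
    show (q.stalkMap x').hom (c • a) • m =
      ((q ≫ h).stalkMap x').hom c • ((q.stalkMap x').hom a • m)
    rw [Algebra.smul_def, map_mul, mul_smul]
    congr 1
    exact (congrArg (fun φ => φ.hom c) (Scheme.Hom.stalkMap_comp q h x')).symm
  letI modCN : Module (Z.presheaf.stalk ((q ≫ h) x')) (G'.presheaf.stalk (q x')) :=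
    FlatMod.moduleStalkOver h G' (q x')
  haveI towCAN : IsScalarTower (Z.presheaf.stalk ((q ≫ h) x')) (Y'.presheaf.stalk (q x'))
      (G'.presheaf.stalk (q x')) := isScalarTower_stalk h G' (q x')
  haveI : Module.Flat (Y'.presheaf.stalk (q x')) (M.presheaf.stalk x') := hM
  letI modCE := FlatMod.moduleStalkOver (q ≫ h)
    (CohB1.tensorMod M ((Scheme.Modules.pullback q).obj G')) x'
  haveI towCDE := isScalarTower_stalk (q ≫ h)
    (CohB1.tensorMod M ((Scheme.Modules.pullback q).obj G')) x'
  let e := (stalkTensorPullbackEquiv' q M G' x').restrictScalars (Z.presheaf.stalk ((q ≫ h) x'))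
  have hmap : ∀ I : Ideal (Z.presheaf.stalk ((q ≫ h) x')),
      (I • (⊤ : Submodule (Z.presheaf.stalk ((q ≫ h) x'))
        ((CohB1.tensorMod M ((Scheme.Modules.pullback q).obj G')).presheaf.stalk x')) = ⊤) ↔
      (I • (⊤ : Submodule (Z.presheaf.stalk ((q ≫ h) x'))
        ((M.presheaf.stalk x') ⊗[Y'.presheaf.stalk (q x')] (G'.presheaf.stalk (q x')))) = ⊤) := by
    intro I
    have h1 : (I • (⊤ : Submodule (Z.presheaf.stalk ((q ≫ h) x'))
        ((CohB1.tensorMod M ((Scheme.Modules.pullback q).obj G')).presheaf.stalk x'))).map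
          e.toLinearMap =
        I • (⊤ : Submodule (Z.presheaf.stalk ((q ≫ h) x'))
          ((M.presheaf.stalk x') ⊗[Y'.presheaf.stalk (q x')] (G'.presheaf.stalk (q x')))) := by
      rw [Submodule.map_smul'', Submodule.map_top, LinearMap.range_eq_top.2 e.surjective]
    rw [← h1]
    constructor
    · intro h2
      rw [h2, Submodule.map_top, LinearMap.range_eq_top.2 e.surjective]
    · intro h2
      exact Submodule.map_injective_of_injective e.injective
        (h2.trans (by rw [Submodule.map_top, LinearMap.range_eq_top.2 e.surjective]))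
  refine ⟨fun hff hE => ?_, fun hff hG => ?_, fun hE => ?_⟩
  · haveI := faithfullyFlat_of_flat_of_ne_top (Y'.presheaf.stalk (q x')) (M.presheaf.stalk x') hff
    haveI : Module.Flat (Z.presheaf.stalk ((q ≫ h) x'))
        ((CohB1.tensorMod M ((Scheme.Modules.pullback q).obj G')).presheaf.stalk x') := hE
    haveI : Module.Flat (Z.presheaf.stalk ((q ≫ h) x'))
        ((M.presheaf.stalk x') ⊗[Y'.presheaf.stalk (q x')] (G'.presheaf.stalk (q x'))) :=
      Module.Flat.of_linearEquiv e.symm
    exact flat_of_flat_tensor (Z.presheaf.stalk ((q ≫ h) x')) (Y'.presheaf.stalk (q x'))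
      (M.presheaf.stalk x') (G'.presheaf.stalk (q x'))
  · haveI := faithfullyFlat_of_flat_of_ne_top (Y'.presheaf.stalk (q x')) (M.presheaf.stalk x') hff
    intro htop
    exact smul_top_tensor_ne_top (Z.presheaf.stalk ((q ≫ h) x')) (Y'.presheaf.stalk (q x'))
      (M.presheaf.stalk x') (G'.presheaf.stalk (q x')) _ hG ((hmap _).1 htop)
  · exact smul_top_ne_top_of_tensor (Z.presheaf.stalk ((q ≫ h) x')) (Y'.presheaf.stalk (q x'))
      (M.presheaf.stalk x') (G'.presheaf.stalk (q x')) _ (fun htop => hE ((hmap _).2 htop))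

end Transfer

end Groth.Agent.Lib.Seat11.FlatTensor
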