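import Mathlib
import Groth.Agent.Lib.Seat11BaseChangeFib
import Groth.Agent.Lib.Helper14GeomRed
import Groth.Agent.S4671
set_option backward.isDefEq.respectTransparency.types false

/-!
# Geometrically reduced modules over a field (seat 11)

EGA IV 4.6: `F ⊗_k k'` reduced for all finite purely inseparable `k'` iff `F` has no embedded
points, length one at its associated points, and the residue fields there are separable over `k`.
-/

set_option autoImplicit false
set_option linter.style.haveILetI false
universe u
open CategoryTheory CategoryTheory.Limits AlgebraicGeometry TensorProduct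

namespace Groth.Agent.Lib.Seat11.GeomRedMod

open Groth.Agent.Lib.Seat11.FibProd Groth.Agent.Lib.Seat11.FibProdLen
open Groth.Agent.Lib.Seat11.FibProdAss
open Groth.Agent.Lib.Seat11.TensorFields Groth.Agent.Lib.Seat11.BaseChangeFib
open Groth.Agent.Lib.Helper14.GeomRed

section Pre

variable {k : Type u} [Field k]

instance flat_SpecMap_field (K : Type u) [Field K] [Algebra k K] :
    Flat (Spec.map (CommRingCat.ofHom (algebraMap k K))) := by
  rw [Flat.SpecMap_iff]
  exact RingHom.flat_algebraMap_iff.mpr inferInstance

theorem isReduced_comm {K L : Type u} [Field K] [Field L] [Algebra k K] [Algebra k L]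
    (h : IsReduced (K ⊗[k] L)) : IsReduced (L ⊗[k] K) :=
  isReduced_of_injective (Algebra.TensorProduct.comm k L K)
    (Algebra.TensorProduct.comm k L K).injective

theorem exists_fiberι_eq {X X' : Scheme.{u}} (π : X' ⟶ X) (z : X') (x : X) (h : π z = x) :
    ∃ w : ↥(π.fiber x), π.fiberι x w = z := by
  subst h
  exact ⟨π.asFiber z, π.fiberι_asFiber z⟩

theorem nontrivial_of_isAssPoint {X : Scheme.{u}} (M : X.Modules) (x : X)
    (h : Curv2.IsAssPoint M x) : Nontrivial (M.presheaf.stalk x) := by
  by_contra hn
  rw [not_nontrivial_iff_subsingleton] at hn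
  exact not_isAssociatedPrime_of_subsingleton h

end Pre

variable {k : Type u} [Field k] {X : Scheme.{u}} [IsLocallyNoetherian X]
  (f : X ⟶ Spec (CommRingCat.of k)) (F : X.Modules)

/-- `F` has no embedded points, length one at its associated points, and the residue fields at
these are geometrically reduced (separable) over `k`. -/
def GeomRedData : Prop :=
  AssSch.NoEmbedded F ∧ ∀ x, Curv2.IsAssPoint F x →
    Module.length (X.presheaf.stalk x) (F.presheaf.stalk x) = 1 ∧
    (letI := resAlg f x; Algebra.IsGeometricallyReduced k (X.residueField x))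

section Finite

variable (k' : Type u) [Field k'] [Algebra k k'] [FiniteDimensional k k']

/-- For a finite extension `k'`, the associated points of `F ⊗_k k'` are all points over
associated points of `F`. -/
theorem isAssPoint_pullback_of_finite (x : X) (hx : Curv2.IsAssPoint F x)
    (w : ↥((pullback.fst f (Spec.map (CommRingCat.ofHom (algebraMap k k')))).fiber x)) :
    Curv2.IsAssPoint ((Scheme.Modules.pullback
        (pullback.fst f (Spec.map (CommRingCat.ofHom (algebraMap k k'))))).obj F)
      ((pullback.fst f (Spec.map (CommRingCat.ofHom (algebraMap k k')))).fiberι x w) := by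
  letI := resAlg f x
  haveI : IsArtinianRing ((X.residueField x) ⊗[k] k') :=
    IsArtinianRing.of_finite (X.residueField x) _
  exact (isAssPoint_pullback_fiberι_iff _ F x w).2
    ⟨hx, isAssPoint_of_isArtinianRing (fibIso f x k') w⟩

omit [IsLocallyNoetherian X] in
theorem nonempty_fiber (K : Type u) [Field K] [Algebra k K] (x : X) :
    Nonempty ↥((pullback.fst f (Spec.map (CommRingCat.ofHom (algebraMap k K)))).fiber x) := by
  letI := resAlg f x
  haveI : Nontrivial ((X.residueField x) ⊗[k] K) :=
    Algebra.TensorProduct.nontrivial_of_algebraMap_injective_of_flat_left (R := k)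
      (X.residueField x) K (algebraMap k K).injective
  obtain ⟨Q⟩ : Nonempty (PrimeSpectrum ((X.residueField x) ⊗[k] K)) := inferInstance
  exact ⟨(fibIso f x K).hom Q⟩

end Finite

/-- EGA IV 4.6.?: the purely inseparable criterion gives the pointwise data. -/
theorem geomRedData_of_forall
    (h : ∀ (k' : Type u) [Field k'] [Algebra k k'] [FiniteDimensional k k']
      [IsPurelyInseparable k k'],
      AssSch.IsReducedMod ((Scheme.Modules.pullback
        (pullback.fst f (Spec.map (CommRingCat.ofHom (algebraMap k k'))))).obj F)) :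
    GeomRedData f F := by
  refine ⟨?_, fun x hx => ⟨?_, ?_⟩⟩
  · -- no embedded points: use `k' = k`
    intro x hx x' hx' hspec
    obtain ⟨w⟩ := nonempty_fiber f k x
    set π := pullback.fst f (Spec.map (CommRingCat.ofHom (algebraMap k k))) with hπ
    have hz := isAssPoint_pullback_of_finite f F k x hx w
    have hπz : π (π.fiberι x w) = x := Groth.Agent.Lib.Helper10.FibStalk.fiberι_apply_eq π x w
    have hgen : GeneralizingMap π := Flat.generalizingMap π
    obtain ⟨z', hz'z, hπz'⟩ := hgen (a := π.fiberι x w) (b := x') (by rw [hπz]; exact hspec)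
    obtain ⟨w', hw'⟩ := exists_fiberι_eq π z' x' hπz'
    have hz' := isAssPoint_pullback_of_finite f F k x' hx' w'
    rw [hw'] at hz'
    have heq := (h k).1 _ hz _ hz' hz'z
    rw [← hπz, heq, hπz']
  · obtain ⟨w⟩ := nonempty_fiber f k x
    have hz := isAssPoint_pullback_of_finite f F k x hx w
    exact ((length_stalk_pullback_fiberι_eq_one_iff _ F x w).1 ((h k).2 _ hz)).1
  · letI := resAlg f x
    refine isGeometricallyReduced_of_forall_finite_purelyInseparable (fun k' _ _ _ _ => ?_)
    refine isReduced_comm (isReduced_of_forall_length (fibIso f x k') (fun w => ?_))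
    have hz := isAssPoint_pullback_of_finite f F k' x hx w
    exact ((length_stalk_pullback_fiberι_eq_one_iff _ F x w).1 ((h k').2 _ hz)).2

/-- The pointwise data give reducedness after any field extension. -/
theorem isReducedMod_pullback_of_geomRedData (hD : GeomRedData f F)
    (K : Type u) [Field K] [Algebra k K] :
    AssSch.IsReducedMod ((Scheme.Modules.pullback
      (pullback.fst f (Spec.map (CommRingCat.ofHom (algebraMap k K))))).obj F) := by
  set π := pullback.fst f (Spec.map (CommRingCat.ofHom (algebraMap k K))) with hπ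
  constructor
  · intro z hz z' hz' hspec
    obtain ⟨w, hw⟩ := exists_fiberι_eq π z (π z) rfl
    have hz1 : Curv2.IsAssPoint _ _ := hz
    rw [← hw] at hz1
    have hW := (isAssPoint_pullback_fiberι_iff π F (π z) w).1 hz1
    obtain ⟨w₀, hw₀⟩ := exists_fiberι_eq π z' (π z') rfl
    have hz2 : Curv2.IsAssPoint _ _ := hz'
    rw [← hw₀] at hz2
    have hW₀ := (isAssPoint_pullback_fiberι_iff π F (π z') w₀).1 hz2
    have hxx : π z = π z' := hD.1 _ hW.1 _ hW₀.1 (hspec.map π.continuous)
    obtain ⟨w', hw'⟩ := exists_fiberι_eq π z' (π z) hxx.symm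
    have hz3 : Curv2.IsAssPoint _ _ := hz'
    rw [← hw'] at hz3
    have hW' := (isAssPoint_pullback_fiberι_iff π F (π z) w').1 hz3
    have hsp : w' ⤳ w := by
      refine (π.fiberι (π z)).isEmbedding.isInducing.specializes_iff.mp ?_
      rw [hw, hw']
      exact hspec
    letI := resAlg f (π z)
    have := noEmbedded_of_iso (X.residueField (π z)) K (fibIso f (π z) K) w hW.2 w' hW'.2 hsp
    rw [← hw, ← hw', this]
  · intro z hz
    obtain ⟨w, hw⟩ := exists_fiberι_eq π z (π z) rfl
    have hz1 : Curv2.IsAssPoint _ _ := hz
    rw [← hw] at hz1 ⊢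
    have hW := (isAssPoint_pullback_fiberι_iff π F (π z) w).1 hz1
    obtain ⟨hlen, hgr⟩ := hD.2 _ hW.1
    letI := resAlg f (π z)
    haveI : Algebra.IsGeometricallyReduced k (X.residueField (π z)) := hgr
    haveI : IsReduced ((X.residueField (π z)) ⊗[k] K) :=
      isReduced_comm (isReduced_tensor_of_isGeometricallyReduced K)
    exact (length_stalk_pullback_fiberι_eq_one_iff π F (π z) w).2
      ⟨hlen, length_stalk_eq_one_of_isReduced _ K (fibIso f (π z) K) w hW.2⟩

section Tensor

theorem subsingleton_tensor_of_right {R M N : Type*} [CommRing R] [AddCommGroup M] [Module R M]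
    [AddCommGroup N] [Module R N] [Subsingleton N] : Subsingleton (M ⊗[R] N) := by
  refine subsingleton_of_forall_eq 0 (fun t => ?_)
  induction t using TensorProduct.induction_on with
  | zero => rfl
  | tmul m n => rw [Subsingleton.elim n 0, TensorProduct.tmul_zero]
  | add a b ha hb => rw [ha, hb, add_zero]

omit [IsLocallyNoetherian X] in
/-- Every point of `Spec k` is an associated point of the structure sheaf. -/
theorem isAssPoint_structureModule_Spec_field (s : Spec (CommRingCat.of k)) :
    Curv2.IsAssPoint (Coh.structureModule (Spec (CommRingCat.of k))) s := by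
  rw [Groth.Agent.Lib.Helper23.UnitStalk.isAssPoint_structureModule_iff]
  obtain ⟨P, hP⟩ := associatedPrimes.nonempty ((Spec (CommRingCat.of k)).presheaf.stalk s)
    ((Spec (CommRingCat.of k)).presheaf.stalk s)
  have hP' : IsAssociatedPrime P ((Spec (CommRingCat.of k)).presheaf.stalk s) := hP
  have hle := IsLocalRing.le_maximalIdeal hP'.isPrime.ne_top
  have hbot := maximalIdeal_stalk_Spec_field k s
  have : P = IsLocalRing.maximalIdeal ((Spec (CommRingCat.of k)).presheaf.stalk s) := by
    rw [hbot] at hle ⊢
    exact le_bot_iff.mp hle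
  rwa [this] at hP'

variable {Y : Scheme.{u}} [IsLocallyNoetherian Y] (g : Y ⟶ Spec (CommRingCat.of k))
  [IsLocallyNoetherian (pullback f g)] (G : Y.Modules)

/-- EGA IV 4.6: `F ⊗_k G` is reduced for `F` geometrically reduced and `G` reduced. -/
theorem isReducedMod_tensor_of_geomRedData (hF : Coh.IsCoh F) (hG : Coh.IsCoh G)
    (hD : GeomRedData f F) (hGr : AssSch.IsReducedMod G) :
    AssSch.IsReducedMod (CohB1.tensorMod ((Scheme.Modules.pullback (pullback.fst f g)).obj F)
      ((Scheme.Modules.pullback (pullback.snd f g)).obj G)) := by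
  haveI : G.IsQuasicoherent := hG.1
  haveI : SheafOfModules.IsFiniteType (R := Y.ringCatSheaf) G := hG.2
  have hS : ∀ s : Spec (CommRingCat.of k),
      IsLocalRing.maximalIdeal ((Spec (CommRingCat.of k)).presheaf.stalk s) = ⊥ :=
    maximalIdeal_stalk_Spec_field k
  have hGfl : FlatMod.IsFlatOver g G := isFlatOver_of_eq_bot g G hS
  refine ⟨Groth.Agent.S4671.result f g F hF.1 G hG.1 hGfl
    (fun x _ => isAssPoint_structureModule_Spec_field _) hD.1 hGr.1, ?_⟩
  intro z hz
  obtain ⟨t, ht⟩ := exists_jMap_eq f g z
  have hz1 : Curv2.IsAssPoint _ _ := hz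
  rw [← ht] at hz1 ⊢
  have h := (isAssPoint_jMap_iff' f g F G hGfl _ _ t
    (isAssPoint_structureModule_Spec_field _)).1 hz1
  obtain ⟨hlen, hgr⟩ := hD.2 _ h.1
  have hnt : Nontrivial (((Scheme.Modules.pullback (pullback.snd f g)).obj G).presheaf.stalk
      (jMap f g _ _ t)) := by
    have hM := nontrivial_of_isAssPoint _ _ hz1
    by_contra hn
    rw [not_nontrivial_iff_subsingleton] at hn
    haveI := hn
    have e := Groth.Agent.Lib.Seat11.AssStalk.stalkTensorEquiv
      ((Scheme.Modules.pullback (pullback.fst f g)).obj F)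
      ((Scheme.Modules.pullback (pullback.snd f g)).obj G) (jMap f g _ _ t)
    haveI := subsingleton_tensor_of_right
      (R := (pullback f g).presheaf.stalk (jMap f g _ _ t))
      (M := ((Scheme.Modules.pullback (pullback.fst f g)).obj F).presheaf.stalk (jMap f g _ _ t))
      (N := ((Scheme.Modules.pullback (pullback.snd f g)).obj G).presheaf.stalk (jMap f g _ _ t))
    exact not_subsingleton _ e.toEquiv.subsingleton
  letI := resAlg f (pullback.fst f g z)
  letI := resAlg g (pullback.snd f g z)
  haveI : Algebra.IsGeometricallyReduced k (X.residueField (pullback.fst f g z)) := hgr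
  haveI : IsReduced ((X.residueField (pullback.fst f g z)) ⊗[k]
      (Y.residueField (pullback.snd f g z))) :=
    isReduced_comm (isReduced_tensor_of_isGeometricallyReduced _)
  exact (length_stalk_jMap_eq_one_iff' f g F G hS hGfl _ _ t hnt).2
    ⟨hlen, hGr.2 _ h.2.1, length_stalk_eq_one_of_isReduced _ _ (tIso f _ g _) t h.2.2⟩

end Tensor

end Groth.Agent.Lib.Seat11.GeomRedMod
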