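import Mathlib
import Groth.Agent.Lib.Seat11GeomRedMod
import Groth.Agent.Lib.Helper14GeomIrr
set_option backward.isDefEq.respectTransparency.types false

/-!
# Geometrically integral modules over a field (seat 11)

EGA IV 4.6: `F ⊗_k k'` integral (one associated point, of length one) for all finite `k'` iff the
same holds for all extensions.
-/

set_option autoImplicit false
set_option linter.style.haveILetI false
universe u
open CategoryTheory CategoryTheory.Limits AlgebraicGeometry TensorProduct

namespace Groth.Agent.Lib.Seat11.GeomIntMod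

open Groth.Agent.Lib.Seat11.FibProd Groth.Agent.Lib.Seat11.FibProdLen
open Groth.Agent.Lib.Seat11.TensorFields Groth.Agent.Lib.Seat11.BaseChangeFib
open Groth.Agent.Lib.Seat11.GeomRedMod
open Groth.Agent.Lib.Helper14.GeomIrr

/-- `M` has exactly one associated point, and its stalk there has length one. -/
def IsIntegralMod {X : Scheme.{u}} (M : X.Modules) : Prop :=
  ∃ x : X, AssSch.Ass M = {x} ∧ Module.length (X.presheaf.stalk x) (M.presheaf.stalk x) = 1

theorem isAssociatedPrime_maximalIdeal_of_isField (R : Type*) [CommRing R] [IsLocalRing R]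
    (h : IsField R) : IsAssociatedPrime (IsLocalRing.maximalIdeal R) R := by
  haveI := h.isDomain
  refine ⟨inferInstance, 1, ?_⟩
  have hbot := IsLocalRing.isField_iff_maximalIdeal_eq.mp h
  ext r
  rw [Ideal.mem_radical_iff, hbot]
  simp only [Submodule.mem_colon_singleton, Submodule.mem_bot, smul_eq_mul, mul_one]
  constructor
  · rintro rfl
    exact ⟨1, by simp⟩
  · rintro ⟨n, hn⟩
    exact eq_zero_of_pow_eq_zero hn

theorem isDomain_comm {k : Type u} [Field k] {K L : Type u} [CommRing K] [CommRing L]
    [Algebra k K] [Algebra k L] (h : IsDomain (K ⊗[k] L)) : IsDomain (L ⊗[k] K) :=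
  (Algebra.TensorProduct.comm k L K).toMulEquiv.isDomain

variable {k : Type u} [Field k] {X : Scheme.{u}} [IsLocallyNoetherian X]
  (f : X ⟶ Spec (CommRingCat.of k)) (F : X.Modules)

/-- One associated point, of length one, whose residue field is geometrically integral over `k`. -/
def GeomIntData : Prop :=
  ∃ x : X, AssSch.Ass F = {x} ∧ Module.length (X.presheaf.stalk x) (F.presheaf.stalk x) = 1 ∧
    (letI := resAlg f x;
      ∀ (K : Type u) [Field K] [Algebra k K], IsDomain (K ⊗[k] (X.residueField x)))

theorem geomIntData_of_forall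
    (h : ∀ (k' : Type u) [Field k'] [Algebra k k'] [FiniteDimensional k k'],
      IsIntegralMod ((Scheme.Modules.pullback
        (pullback.fst f (Spec.map (CommRingCat.ofHom (algebraMap k k'))))).obj F)) :
    GeomIntData f F := by
  obtain ⟨z₀, hAss₀, hlen₀⟩ := h k
  set π := pullback.fst f (Spec.map (CommRingCat.ofHom (algebraMap k k))) with hπ
  obtain ⟨w₀, hw₀⟩ := exists_fiberι_eq π z₀ (π z₀) rfl
  have hz₀ : Curv2.IsAssPoint ((Scheme.Modules.pullback π).obj F) z₀ := by
    have : z₀ ∈ AssSch.Ass ((Scheme.Modules.pullback π).obj F) := by rw [hAss₀]; rfl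
    exact this
  rw [← hw₀] at hz₀ hlen₀
  have hx := ((isAssPoint_pullback_fiberι_iff π F (π z₀) w₀).1 hz₀).1
  refine ⟨π z₀, ?_, ((length_stalk_pullback_fiberι_eq_one_iff π F (π z₀) w₀).1 hlen₀).1, ?_⟩
  · ext x₁
    constructor
    · intro hx₁
      obtain ⟨w₁⟩ := nonempty_fiber f k x₁
      have hz₁ := isAssPoint_pullback_of_finite f F k x₁ hx₁ w₁
      have hmem : π.fiberι x₁ w₁ ∈ AssSch.Ass ((Scheme.Modules.pullback π).obj F) := hz₁
      rw [hAss₀] at hmem
      have h1 : π (π.fiberι x₁ w₁) = x₁ :=
        Groth.Agent.Lib.Helper10.FibStalk.fiberι_apply_eq π x₁ w₁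
      rw [Set.mem_singleton_iff] at hmem ⊢
      rw [← h1, hmem]
    · intro hx₁
      rw [Set.mem_singleton_iff] at hx₁
      rw [hx₁]
      exact hx
  · letI := resAlg f (π z₀)
    have H : ∀ (k' : Type u) [Field k'] [Algebra k k'] [Module.Finite k k'],
        IsDomain (k' ⊗[k] (X.residueField (π z₀))) := by
      intro k' _ _ _
      obtain ⟨z', hAss', hlen'⟩ := h k'
      set π' := pullback.fst f (Spec.map (CommRingCat.ofHom (algebraMap k k'))) with hπ'
      have hall : ∀ w : ↥(π'.fiber (π z₀)), π'.fiberι (π z₀) w = z' := by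
        intro w
        have hz := isAssPoint_pullback_of_finite f F k' (π z₀) hx w
        have hmem : π'.fiberι (π z₀) w ∈ AssSch.Ass ((Scheme.Modules.pullback π').obj F) := hz
        rw [hAss'] at hmem
        exact hmem
      have hlen : ∀ w : ↥(π'.fiber (π z₀)),
          Module.length ((π'.fiber (π z₀)).presheaf.stalk w)
            ((π'.fiber (π z₀)).presheaf.stalk w) = 1 := by
        intro w
        have h1 := hlen'
        rw [← hall w] at h1
        exact ((length_stalk_pullback_fiberι_eq_one_iff π' F (π z₀) w).1 h1).2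
      haveI : IsReduced ((X.residueField (π z₀)) ⊗[k] k') :=
        isReduced_of_forall_length (fibIso f (π z₀) k') hlen
      haveI : Nontrivial ((X.residueField (π z₀)) ⊗[k] k') :=
        Algebra.TensorProduct.nontrivial_of_algebraMap_injective_of_flat_left (R := k)
          (X.residueField (π z₀)) k' (algebraMap k k').injective
      haveI : Subsingleton (PrimeSpectrum ((X.residueField (π z₀)) ⊗[k] k')) := by
        refine ⟨fun Q Q' => ?_⟩
        apply (fibIso f (π z₀) k').hom.isOpenEmbedding.injective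
        apply (π'.fiberι (π z₀)).isEmbedding.injective
        rw [hall, hall]
      have hfield : IsField ((X.residueField (π z₀)) ⊗[k] k') :=
        PrimeSpectrum.subsingleton_iff_isField_of_isReduced.mp inferInstance
      exact isDomain_comm hfield.isDomain
    intro K _ _
    exact isDomain_of_algClosure (isDomain_algClosure H) K

theorem isIntegralMod_pullback_of_geomIntData (hD : GeomIntData f F)
    (K : Type u) [Field K] [Algebra k K] :
    IsIntegralMod ((Scheme.Modules.pullback
      (pullback.fst f (Spec.map (CommRingCat.ofHom (algebraMap k K))))).obj F) := by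
  obtain ⟨x, hAss, hlen, hdom⟩ := hD
  set π := pullback.fst f (Spec.map (CommRingCat.ofHom (algebraMap k K))) with hπ
  letI := resAlg f x
  haveI hD' : IsDomain ((X.residueField x) ⊗[k] K) := isDomain_comm (hdom K)
  have hx : Curv2.IsAssPoint F x := by
    have : x ∈ AssSch.Ass F := by rw [hAss]; rfl
    exact this
  let Q₀ : PrimeSpectrum ((X.residueField x) ⊗[k] K) := ⟨⊥, Ideal.isPrime_bot⟩
  have hmin : Q₀.asIdeal ∈ minimalPrimes ((X.residueField x) ⊗[k] K) :=
    ⟨⟨Ideal.isPrime_bot, bot_le⟩, fun _ _ _ => bot_le⟩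
  haveI : Ring.KrullDimLE 0 (Localization.AtPrime Q₀.asIdeal) :=
    Ring.KrullDimLE.of_isLocalization _ hmin _
  have hfield : IsField (Localization.AtPrime Q₀.asIdeal) :=
    Ring.KrullDimLE.isField_of_isReduced
  set e := fibIso f x K with he
  have hA1 : Curv2.IsAssPoint (Coh.structureModule (π.fiber x)) (e.hom Q₀) :=
    (isAssPoint_hom_iff e Q₀).2 (isAssociatedPrime_maximalIdeal_of_isField _ hfield)
  have hA2 : Module.length ((π.fiber x).presheaf.stalk (e.hom Q₀))
      ((π.fiber x).presheaf.stalk (e.hom Q₀)) = 1 :=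
    (length_stalk_hom_eq_one_iff e Q₀).2 hfield
  have hB : ∀ w : ↥(π.fiber x), Curv2.IsAssPoint (Coh.structureModule (π.fiber x)) w →
      w = e.hom Q₀ := by
    intro w hw
    obtain ⟨Q, rfl⟩ := exists_hom_eq e w
    have hQ := mem_minimalPrimes_of_isAssPoint (X.residueField x) K e Q hw
    have hle : Q.asIdeal ≤ ⊥ := hQ.2 ⟨Ideal.isPrime_bot, bot_le⟩ bot_le
    have : Q = Q₀ := PrimeSpectrum.ext (le_bot_iff.mp hle)
    rw [this]
  refine ⟨π.fiberι x (e.hom Q₀), ?_,
    (length_stalk_pullback_fiberι_eq_one_iff π F x (e.hom Q₀)).2 ⟨hlen, hA2⟩⟩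
  ext z
  rw [Set.mem_singleton_iff]
  constructor
  · intro hz
    obtain ⟨w, hw⟩ := exists_fiberι_eq π z (π z) rfl
    have hz1 : Curv2.IsAssPoint _ _ := hz
    rw [← hw] at hz1
    have hW := (isAssPoint_pullback_fiberι_iff π F (π z) w).1 hz1
    have hπz : π z = x := by
      have : π z ∈ AssSch.Ass F := hW.1
      rw [hAss] at this
      exact this
    obtain ⟨w', hw'⟩ := exists_fiberι_eq π z x hπz
    have hz2 : Curv2.IsAssPoint _ _ := hz
    rw [← hw'] at hz2
    have hW' := (isAssPoint_pullback_fiberι_iff π F x w').1 hz2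
    rw [← hw', hB w' hW'.2]
  · rintro rfl
    exact (isAssPoint_pullback_fiberι_iff π F x (e.hom Q₀)).2 ⟨hx, hA1⟩

end Groth.Agent.Lib.Seat11.GeomIntMod
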