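import Groth.Agent.Lib.Seat21DevGraph

set_option autoImplicit false
set_option linter.style.haveILetI false
universe u
open CategoryTheory Limits AlgebraicGeometry TopologicalSpace Opposite

noncomputable section

namespace Groth.Agent.Lib.Seat21.Dev

open Groth.Agent.Lib.Helper1.StalkTensor Groth.Agent.Lib.Helper1.Sky Groth.Agent.Lib.Seat21.QSub
open Groth.Agent.Lib.Helper23.QCohLocal Groth.Agent.Lib.Helper2.Push

variable {X : Scheme.{u}}

/-- the subsheaf of the sections supported in the set `C` -/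
def suppSub (F : X.Modules) (C : Set X) : SubSh F where
  carrier V :=
    { carrier := {s | ∀ (x : X) (hx : x ∈ V), x ∉ C → gmM F x V hx s = 0}
      add_mem' := fun {a b} ha hb x hx hxC => by
        rw [map_add, ha x hx hxC, hb x hx hxC, add_zero]
      zero_mem' := fun x hx _ => map_zero _
      smul_mem' := fun r a ha x hx hxC => by
        change gmM F x V hx (r • a) = 0
        rw [gmM_smul, ha x hx hxC, smul_zero] }
  res_mem := fun {V V'} h {s} hs x hx hxC => by
    rw [gmM_res]
    exact hs x (h hx) hxC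
  local_mem := fun V s hloc x hx hxC => by
    obtain ⟨V', h, hxV', hs⟩ := hloc x hx
    rw [← gmM_res F x h hxV' s]
    exact hs x hxV' hxC

theorem mem_suppSub_iff (F : X.Modules) (C : Set X) (V : X.Opens) (s : Γ(F, V)) :
    s ∈ (suppSub F C).carrier V ↔ ∀ (x : X) (hx : x ∈ V), x ∉ C → gmM F x V hx s = 0 := Iff.rfl

theorem qcOn_suppSub [IsNoetherian X] (F : X.Modules) [F.IsQuasicoherent] {C : Set X} (hC : IsClosed C) :
    (suppSub F C).QCOn ⊤ := by
  intro T hT _ g s hs
  have hloc : IsLocOn F T := IsLocOn.of_isQuasicoherent hT F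
  obtain ⟨n₀, t₀, ht₀⟩ := isLocOn_exists hloc g _ rfl (X.basicOpen_le g) s
  let U' : X.Opens := T ⊓ ⟨Cᶜ, hC.isOpen_compl⟩
  have hU'c : IsCompact (U' : Set X) := NoetherianSpace.isCompact _
  have hU'T : U' ≤ T := inf_le_left
  have hW : X.basicOpen (resf X hU'T g) = U' ⊓ X.basicOpen g := Scheme.basicOpen_res X _ _
  have hWD : X.basicOpen (resf X hU'T g) ≤ X.basicOpen g := hW ▸ inf_le_right
  have h0 : F.presheaf.map (homOfLE (X.basicOpen_le (resf X hU'T g))).op (res F hU'T t₀) = 0 := by
    apply eq_zero_of_gmM_eq_zero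
    intro x hx
    have hxU' : x ∈ U' := X.basicOpen_le _ hx
    have hxD : x ∈ X.basicOpen g := hWD hx
    have e1 : gmM F x _ hx (F.presheaf.map (homOfLE (X.basicOpen_le (resf X hU'T g))).op (res F hU'T t₀)) =
        gmM F x T (hU'T hxU') t₀ := by
      have := gmM_res F x (X.basicOpen_le (resf X hU'T g)) hx (res F hU'T t₀)
      rw [gmM_res F x hU'T hxU' t₀] at this
      exact this
    rw [e1, ← gmM_res F x (X.basicOpen_le g) hxD t₀, ht₀, gmM_smul, hs x hxD hxU'.2, smul_zero]
  obtain ⟨k, hk⟩ := exists_pow_smul_eq_zero_qc' hU'c F (resf X hU'T g) _ rfl (X.basicOpen_le _) (res F hU'T t₀) h0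
  refine ⟨k + n₀, g ^ k • t₀, ?_, ?_⟩
  · intro x hx hxC
    have hxU' : x ∈ U' := ⟨hx, hxC⟩
    rw [← gmM_res F x hU'T hxU' (g ^ k • t₀), res_smul, resf_pow, hk, map_zero]
  · rw [res_smul, ht₀, resf_pow, smul_smul, ← pow_add]

/-- the support of the subsheaf of sections supported in `C` is contained in `C` -/
theorem support_suppSub (F : X.Modules) (C : Set X) : CohB1.support (suppSub F C).toModules ⊆ C := by
  intro x hx
  by_contra hxC
  rw [mem_support_iff] at hx
  apply hx
  refine ⟨fun a b => ?_⟩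
  apply sm_injective_of_mono (suppSub F C).ι x
  have key : ∀ c : St (toPM (suppSub F C).toModules) x, sm (toPMMap (suppSub F C).ι) x c = 0 := by
    intro c
    obtain ⟨V, hxV, s, hs, e⟩ := (SubShStalk.mem_stalkSub_iff (suppSub F C) x _).1
      (sm_ι_mem_stalkSub (suppSub F C) x c)
    rw [← e]
    exact hs x hxV hxC
  rw [key a, key b]

/-- the quotient by the subsheaf of sections supported in `C` is supported in any closed set `D` with
`supp F ⊆ D ∪ C` -/
theorem support_cokernel_suppSub (F : X.Modules) (C D : Set X) (hD : IsClosed D)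
    (h : CohB1.support F ⊆ D ∪ C) : CohB1.support (cokernel (suppSub F C).ι) ⊆ D := by
  intro x hx
  by_contra hxD
  refine not_mem_support_cokernel (suppSub F C).ι x ?_ hx
  intro a
  obtain ⟨V, hxV, s, rfl⟩ := exists_gm_eq (P := toPM F) a
  let V' : X.Opens := V ⊓ ⟨Dᶜ, hD.isOpen_compl⟩
  have hxV' : x ∈ V' := ⟨hxV, hxD⟩
  have hmem : res F (inf_le_left : V' ≤ V) s ∈ (suppSub F C).carrier V' := by
    intro z hz hzC
    have hz' : z ∉ CohB1.support F := fun hzs => by
      rcases h hzs with h1 | h1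
      · exact hz.2 h1
      · exact hzC h1
    rw [mem_support_iff, not_not] at hz'
    exact Subsingleton.elim _ _
  obtain ⟨c, hc⟩ := exists_of_mem_stalkSub (suppSub F C) x
    (SubShStalk.gmM_mem_stalkSub (suppSub F C) x hxV' hmem)
  refine ⟨c, ?_⟩
  rw [hc]
  exact gmM_res F x inf_le_left hxV' s

end Groth.Agent.Lib.Seat21.Dev
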