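import Mathlib
import Groth.Prelude.Def_FDesc
import Groth.Agent.Lib.Seat21DevSupp
import Groth.Agent.Lib.Seat11OpenRestrict
import Groth.Agent.Lib.Seat11RedClosure
import Groth.Agent.Lib.Helper23Extend
import Groth.Agent.Lib.Helper23AssAffine
import Groth.Agent.Lib.Helper23AssStalk
import Groth.Agent.S0020

/-!
# Seat11: the largest coherent subsheaf with nowhere dense support (towards S8908)
-/

set_option autoImplicit false
universe u
open CategoryTheory AlgebraicGeometry Limits TopologicalSpace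

namespace Groth.Agent.Lib.Seat11.NowhereDense

open Groth.Agent.Lib.Seat11.OpenRestrict Groth.Agent.Lib.Seat21.QSub Groth.Agent.Lib.Seat21.Dev

section Top

variable {X : Scheme.{u}} [IsLocallyNoetherian X] (F : X.Modules) [F.IsQuasicoherent]
  [SheafOfModules.IsFiniteType (R := X.ringCatSheaf) F]

/-- embedded associated points -/
def Emb : Set X :=
  {y | Curv2.IsAssPoint F y ∧ ∃ y', Curv2.IsAssPoint F y' ∧ y' ⤳ y ∧ y' ≠ y}

/-- the set of specializations of embedded associated points -/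
def Cl : Set X := {z | ∃ y ∈ Emb F, y ⤳ z}

omit [IsLocallyNoetherian X] [F.IsQuasicoherent]
  [SheafOfModules.IsFiniteType (R := X.ringCatSheaf) F] in
theorem mem_Cl_of_specializes {z z' : X} (hz : z ∈ Cl F) (h : z ⤳ z') : z' ∈ Cl F := by
  obtain ⟨y, hy, hyz⟩ := hz
  exact ⟨y, hy, hyz.trans h⟩

theorem isClosed_Cl : IsClosed (Cl F) := by
  rw [← isOpen_compl_iff, isOpen_iff_forall_mem_open]
  intro z hz
  obtain ⟨_, ⟨V, hV : IsAffineOpen V, rfl⟩, hzV, -⟩ :=
    X.isBasis_affineOpens.exists_subset_of_mem_open (Set.mem_univ z) isOpen_univ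
  have hfin := finite_ass_inter F hV
  set A := {a : X | a ∈ V ∧ Curv2.IsAssPoint F a} with hA
  let O' : Set X := (V : Set X) ∩ ⋂ a ∈ A ∩ Emb F, (closure {a})ᶜ
  have hO' : IsOpen O' :=
    V.2.inter ((hfin.subset Set.inter_subset_left).isOpen_biInter
      (fun a _ => isClosed_closure.isOpen_compl))
  refine ⟨O', ?_, hO', ⟨hzV, Set.mem_iInter₂.2 (fun a ha => ?_)⟩⟩
  · intro z' hz' hz'C
    obtain ⟨y, hy, hyz'⟩ := hz'C
    have hyV : y ∈ V := hyz'.mem_open V.2 hz'.1
    have := Set.mem_iInter₂.1 hz'.2 y ⟨⟨hyV, hy.1⟩, hy⟩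
    exact this (specializes_iff_mem_closure.1 hyz')
  · intro hza
    exact hz ⟨a, ha.2, specializes_iff_mem_closure.2 hza⟩

omit [IsLocallyNoetherian X] [F.IsQuasicoherent]
  [SheafOfModules.IsFiniteType (R := X.ringCatSheaf) F] in
theorem not_mem_Cl {x : X} (hx : Curv2.IsAssPoint F x) (hne : x ∉ Emb F) : x ∉ Cl F := by
  rintro ⟨y, hy, hyx⟩
  by_cases h : y = x
  · exact hne (h ▸ hy)
  · exact hne ⟨hx, y, hy.1, hyx, h⟩

omit [F.IsQuasicoherent] [SheafOfModules.IsFiniteType (R := X.ringCatSheaf) F] in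
theorem mem_support_of_isAssPoint {x : X} (hx : Curv2.IsAssPoint F x) : x ∈ CohB1.support F := by
  have := Groth.Agent.Lib.Helper23.AssStalk.nontrivial_stalk_of_isAssPoint F x hx
  exact not_subsingleton _

/-- every point of the support is a specialization of a non-embedded associated point -/
theorem exists_min_ass {z : X} (hz : z ∈ CohB1.support F) :
    ∃ x, Curv2.IsAssPoint F x ∧ x ∉ Emb F ∧ x ⤳ z := by
  obtain ⟨_, ⟨V, hV : IsAffineOpen V, rfl⟩, hzV, -⟩ :=
    X.isBasis_affineOpens.exists_subset_of_mem_open (Set.mem_univ z) isOpen_univ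
  have hfin := finite_ass_inter F hV
  set A := {a : X | Curv2.IsAssPoint F a ∧ a ⤳ z} with hA
  have hAfin : A.Finite := hfin.subset (fun a ha => ⟨ha.2.mem_open V.2 hzV, ha.1⟩)
  have hAne : A.Nonempty := by
    have hnt : Nontrivial (F.presheaf.stalk z) := not_subsingleton_iff_nontrivial.1 hz
    obtain ⟨a, haw, haz⟩ :=
      Groth.Agent.Lib.Helper23.AssStalk.exists_isWeakAssPoint_specializes F z hnt
    exact ⟨a, (Groth.Agent.Lib.Helper2.Ass.isAssPoint_iff_isWeakAssPoint F a).2 haw, haz⟩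
  let _ := specializationPreorder X
  obtain ⟨x, hxA, hmax⟩ := hAfin.exists_maximal hAne
  refine ⟨x, hxA.1, ?_, hxA.2⟩
  rintro ⟨-, y', hy', hy'x, hne⟩
  have hy'A : y' ∈ A := ⟨hy', hy'x.trans hxA.2⟩
  have h2 : x ⤳ y' := hmax hy'A hy'x
  exact hne (hy'x.antisymm h2).eq

/-- a non-embedded associated point has a neighbourhood in which the support is its closure -/
theorem exists_nhd_support_subset_closure {x : X} (hx : Curv2.IsAssPoint F x) (hne : x ∉ Emb F) :
    ∃ U : X.Opens, x ∈ U ∧ (U : Set X) ∩ CohB1.support F ⊆ closure {x} := by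
  obtain ⟨_, ⟨V, hV : IsAffineOpen V, rfl⟩, hxV, -⟩ :=
    X.isBasis_affineOpens.exists_subset_of_mem_open (Set.mem_univ x) isOpen_univ
  have hfin := finite_ass_inter F hV
  set A := {a : X | a ∈ V ∧ Curv2.IsAssPoint F a} with hA
  let O' : Set X := (V : Set X) ∩ ⋂ a ∈ A ∩ {a | ¬ x ⤳ a}, (closure {a})ᶜ
  have hO' : IsOpen O' :=
    V.2.inter ((hfin.subset Set.inter_subset_left).isOpen_biInter
      (fun a _ => isClosed_closure.isOpen_compl))
  refine ⟨⟨O', hO'⟩, ⟨hxV, Set.mem_iInter₂.2 (fun a ha => ?_)⟩, ?_⟩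
  · intro hxa
    have hax : a ⤳ x := specializes_iff_mem_closure.2 hxa
    by_cases h : a = x
    · exact ha.2 (h ▸ specializes_rfl)
    · exact hne ⟨hx, a, ha.1.2, hax, h⟩
  · rintro z ⟨hzO, hzS⟩
    obtain ⟨a, ha, -, haz⟩ := exists_min_ass F hzS
    have haV : a ∈ V := haz.mem_open V.2 hzO.1
    rw [← specializes_iff_mem_closure]
    by_contra hxz
    have hxa : ¬ x ⤳ a := fun h => hxz (h.trans haz)
    have := Set.mem_iInter₂.1 hzO.2 a ⟨⟨haV, ha⟩, hxa⟩
    exact this (specializes_iff_mem_closure.1 haz)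

end Top

section Sub

open Groth.Agent.Lib.Helper23.QCohLocal Groth.Agent.Lib.Helper2.Push

variable {X : Scheme.{u}} [IsLocallyNoetherian X] (F : X.Modules) [F.IsQuasicoherent]

/-- opens contained in an affine open of a locally Noetherian scheme are compact -/
theorem isCompact_of_le_affine {T U' : X.Opens} (hT : IsAffineOpen T) (h : U' ≤ T) :
    IsCompact (U' : Set X) := by
  have : IsNoetherianRing Γ(X, T) := IsLocallyNoetherian.component_noetherian ⟨T, hT⟩
  have : NoetherianSpace T := noetherianSpace_of_isAffineOpen T hT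
  have h1 : IsCompact (T.ι ⁻¹' (U' : Set X)) := NoetherianSpace.isCompact _
  have h2 := h1.image T.ι.continuous
  rw [Set.image_preimage_eq_inter_range, Scheme.Opens.range_ι] at h2
  have h3 : (U' : Set X) ∩ (T : Set X) = (U' : Set X) := Set.inter_eq_left.2 h
  rwa [h3] at h2

/-- the subsheaf of sections supported in a closed set is quasi-coherent (locally Noetherian case) -/
theorem qcOn_suppSub' {C : Set X} (hC : IsClosed C) : (suppSub F C).QCOn ⊤ := by
  intro T hT _ g s hs
  have hloc : IsLocOn F T := IsLocOn.of_isQuasicoherent hT F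
  obtain ⟨n₀, t₀, ht₀⟩ := isLocOn_exists hloc g _ rfl (X.basicOpen_le g) s
  let U' : X.Opens := T ⊓ ⟨Cᶜ, hC.isOpen_compl⟩
  have hU'T : U' ≤ T := inf_le_left
  have hU'c : IsCompact (U' : Set X) := isCompact_of_le_affine hT hU'T
  have hW : X.basicOpen (resf X hU'T g) = U' ⊓ X.basicOpen g := Scheme.basicOpen_res X _ _
  have hWD : X.basicOpen (resf X hU'T g) ≤ X.basicOpen g := hW ▸ inf_le_right
  have h0 : F.presheaf.map (homOfLE (X.basicOpen_le (resf X hU'T g))).op (res F hU'T t₀) = 0 := by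
    apply eq_zero_of_gmM_eq_zero
    intro x hx
    have hxU' : x ∈ U' := X.basicOpen_le _ hx
    have hxD : x ∈ X.basicOpen g := hWD hx
    have e1 : gmM F x _ hx (F.presheaf.map (homOfLE (X.basicOpen_le (resf X hU'T g))).op (res F hU'T t₀)) =
        gmM F x T (hU'T hxU') t₀ := by
      have := gmM_res F x (X.basicOpen_le (resf X hU'T g)) hx (res F hU'T t₀)
      rw [gmM_res F x hU'T hxU' t₀] at this
      exact this
    rw [e1, ← gmM_res F x (X.basicOpen_le g) hxD t₀, ht₀, gmM_smul, hs x hxD hxU'.2, smul_zero]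
  obtain ⟨k, hk⟩ := exists_pow_smul_eq_zero_qc' hU'c F (resf X hU'T g) _ rfl (X.basicOpen_le _)
    (res F hU'T t₀) h0
  refine ⟨k + n₀, g ^ k • t₀, ?_, ?_⟩
  · intro x hx hxC
    have hxU' : x ∈ U' := ⟨hx, hxC⟩
    rw [← gmM_res F x hU'T hxU' (g ^ k • t₀), res_smul, resf_pow, hk, map_zero]
  · rw [res_smul, ht₀, resf_pow, smul_smul, ← pow_add]

variable [SheafOfModules.IsFiniteType (R := X.ringCatSheaf) F]

/-- the subsheaf of the sections of `F` supported in the specializations of embedded points -/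
noncomputable def Nsub : SubSh F := suppSub F (Cl F)

theorem isQuasicoherent_Nsub : (Nsub F).toModules.IsQuasicoherent :=
  SubSh.isQuasicoherent_toModules (qcOn_suppSub' F (isClosed_Cl F))

theorem isCoh_Nsub : Coh.IsCoh (Nsub F).toModules := by
  have hq := isQuasicoherent_Nsub F
  exact ⟨hq, Groth.Agent.Lib.Helper23.FinType.isFiniteType_of_mono (Nsub F).ι⟩

omit [IsLocallyNoetherian X] [F.IsQuasicoherent]
  [SheafOfModules.IsFiniteType (R := X.ringCatSheaf) F] in
theorem support_Nsub : CohB1.support (Nsub F).toModules ⊆ Cl F := support_suppSub F (Cl F)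

omit [IsLocallyNoetherian X] [F.IsQuasicoherent]
  [SheafOfModules.IsFiniteType (R := X.ringCatSheaf) F] in
theorem mem_Nsub_iff (V : X.Opens) (s : Γ(F, V)) :
    s ∈ (Nsub F).carrier V ↔ ∀ (x : X) (hx : x ∈ V), x ∉ Cl F → F.presheaf.germ V x hx s = 0 :=
  Iff.rfl

end Sub

section Main

open Groth.Agent.Lib.Helper26.ModSec Groth.Agent.Lib.Helper20.PullbackAff
  Groth.Agent.Lib.Helper23.QCohLocal Groth.Agent.Lib.Helper20.Thickening
  Groth.Agent.Lib.Seat11.RedClosure

variable {X : Scheme.{u}} [IsLocallyNoetherian X]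

omit [IsLocallyNoetherian X] in
/-- an epimorphism of quasi-coherent modules is surjective on sections over affine opens -/
theorem surjective_app_of_epi {P E : X.Modules} [P.IsQuasicoherent] [E.IsQuasicoherent]
    (π : P ⟶ E) [Epi π] {V : X.Opens} (hV : IsAffineOpen V) :
    Function.Surjective (π.app V) := by
  intro e
  have hepi : Epi ((ΓUF hV).map π) := epi_ΓUF_map π hV
  rw [ModuleCat.epi_iff_surjective] at hepi
  obtain ⟨t', ht'⟩ := hepi (ΓUEquiv hV E e)
  obtain ⟨s, rfl⟩ := (ΓUEquiv hV P).surjective t'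
  refine ⟨s, ?_⟩
  apply (ΓUEquiv hV E).injective
  rw [← ht', ΓUEquiv_naturality]

omit [IsLocallyNoetherian X] in
/-- sections of a module vanish at the points outside its support -/
theorem germ_app_eq_zero {K' G : X.Modules} (φ : K' ⟶ G) {z : X} (hz : z ∉ CohB1.support K')
    (V : X.Opens) (hzV : z ∈ V) (s : Γ(K', V)) : G.presheaf.germ V z hzV (φ.app V s) = 0 := by
  have hsub : Subsingleton (Groth.Agent.Lib.Helper1.StalkTensor.St
      (Groth.Agent.Lib.Helper1.StalkTensor.toPM K') z) := not_not.1 hz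
  have h1 := smM_gmM φ z V hzV s
  have h2 : gmM K' z V hzV s = 0 := Subsingleton.elim _ _
  rw [h2, map_zero] at h1
  exact h1.symm

variable (F : X.Modules) [F.IsQuasicoherent] [SheafOfModules.IsFiniteType (R := X.ringCatSheaf) F]

/-- the largest coherent subsheaf with nowhere dense support, as a subobject -/
noncomputable def Ksub : Subobject F := Subobject.mk (Nsub F).ι

omit [IsLocallyNoetherian X] [F.IsQuasicoherent]
  [SheafOfModules.IsFiniteType (R := X.ringCatSheaf) F] in
theorem arrow_mem (V : X.Opens) (s : Γ(((Ksub F : Subobject F) : X.Modules), V)) :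
    (Ksub F).arrow.app V s ∈ (Nsub F).carrier V := by
  have h : (Ksub F).arrow = (Subobject.underlyingIso (Nsub F).ι).hom ≫ (Nsub F).ι :=
    (Subobject.underlyingIso_hom_comp_eq_mk (Nsub F).ι).symm
  rw [h]
  exact (Nsub F).ι_app_mem V ((Subobject.underlyingIso (Nsub F).ι).hom.app V s)

omit [IsLocallyNoetherian X] [F.IsQuasicoherent]
  [SheafOfModules.IsFiniteType (R := X.ringCatSheaf) F] in
theorem exists_arrow_eq (V : X.Opens) (t : Γ(F, V)) (ht : t ∈ (Nsub F).carrier V) :
    ∃ s : Γ(((Ksub F : Subobject F) : X.Modules), V), (Ksub F).arrow.app V s = t := by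
  refine ⟨(Subobject.underlyingIso (Nsub F).ι).inv.app V ((Nsub F).mkSec V ⟨t, ht⟩), ?_⟩
  have h : (Subobject.underlyingIso (Nsub F).ι).inv ≫ (Ksub F).arrow = (Nsub F).ι :=
    Subobject.underlyingIso_arrow (Nsub F).ι
  have h2 : ((Subobject.underlyingIso (Nsub F).ι).inv ≫ (Ksub F).arrow).app V
      ((Nsub F).mkSec V ⟨t, ht⟩) = t := by
    rw [h]
    exact (Nsub F).ι_app_mkSec V ⟨t, ht⟩
  exact h2

theorem isCoh_Ksub : Coh.IsCoh ((Ksub F : Subobject F) : X.Modules) :=
  isCoh_of_iso (Subobject.underlyingIso (Nsub F).ι).symm (isCoh_Nsub F)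

omit [IsLocallyNoetherian X] [F.IsQuasicoherent]
  [SheafOfModules.IsFiniteType (R := X.ringCatSheaf) F] in
theorem support_Ksub : CohB1.support ((Ksub F : Subobject F) : X.Modules) ⊆ Cl F :=
  (support_subset_of_mono (Subobject.underlyingIso (Nsub F).ι).hom).trans (support_Nsub F)

theorem nowhereDense_Ksub (U : X.Opens)
    (h : (U : Set X) ∩ CohB1.support F ⊆ CohB1.support ((Ksub F : Subobject F) : X.Modules)) :
    (U : Set X) ∩ CohB1.support F = ∅ := by
  rw [Set.eq_empty_iff_forall_notMem]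
  rintro z ⟨hzU, hzS⟩
  obtain ⟨x, hx, hxE, hxz⟩ := exists_min_ass F hzS
  have hxU : x ∈ U := hxz.mem_open U.2 hzU
  exact not_mem_Cl F hx hxE (support_Ksub F (h ⟨hxU, mem_support_of_isAssPoint F hx⟩))

/-- maximality -/
theorem le_Ksub (K' : Subobject F) (hK' : Coh.IsCoh (K' : X.Modules))
    (hnd : ∀ U : X.Opens, (U : Set X) ∩ CohB1.support F ⊆ CohB1.support (K' : X.Modules) →
      (U : Set X) ∩ CohB1.support F = ∅) : K' ≤ Ksub F := by
  have hq := hK'.1
  have hcl : IsClosed (CohB1.support (K' : X.Modules)) := Groth.Agent.S0020.result X _ hK'.2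
  -- the support of `K'` lies in `Cl F`
  have hsupp : ∀ z, z ∉ Cl F → z ∉ CohB1.support (K' : X.Modules) := by
    intro z hzC hzS
    have hnt : Nontrivial ((K' : X.Modules).presheaf.stalk z) := not_subsingleton_iff_nontrivial.1 hzS
    obtain ⟨x, hxw, hxz⟩ :=
      Groth.Agent.Lib.Helper23.AssStalk.exists_isWeakAssPoint_specializes (K' : X.Modules) z hnt
    have hxK : Curv2.IsAssPoint (K' : X.Modules) x :=
      (Groth.Agent.Lib.Helper2.Ass.isAssPoint_iff_isWeakAssPoint _ x).2 hxw
    have hxF : Curv2.IsAssPoint F x := isAssPoint_of_mono K'.arrow x hxK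
    have hxC : x ∉ Cl F := fun h => hzC (mem_Cl_of_specializes F h hxz)
    have hxE : x ∉ Emb F := fun h => hxC ⟨x, h, specializes_rfl⟩
    obtain ⟨U, hxU, hU⟩ := exists_nhd_support_subset_closure F hxF hxE
    have hxS : x ∈ CohB1.support (K' : X.Modules) := mem_support_of_isAssPoint _ hxK
    have h1 : (U : Set X) ∩ CohB1.support F ⊆ CohB1.support (K' : X.Modules) :=
      hU.trans (hcl.closure_subset_iff.2 (Set.singleton_subset_iff.2 hxS))
    have h2 := hnd U h1
    rw [Set.eq_empty_iff_forall_notMem] at h2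
    exact h2 x ⟨hxU, mem_support_of_isAssPoint F hxF⟩
  have hmem : ∀ (V : X.Opens) (s : Γ((K' : X.Modules), V)), K'.arrow.app V s ∈ (Nsub F).carrier V := by
    intro V s z hzV hzC
    exact germ_app_eq_zero K'.arrow (hsupp z hzC) V hzV s
  have hzero : K'.arrow ≫ cokernel.π (Ksub F).arrow = 0 := by
    apply Scheme.Modules.hom_ext
    intro V
    ext s
    obtain ⟨s', hs'⟩ := exists_arrow_eq F V _ (hmem V s)
    have h3 : ((Ksub F).arrow ≫ cokernel.π (Ksub F).arrow).app V s' = 0 := by
      rw [cokernel.condition]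
      rfl
    have h4 : (K'.arrow ≫ cokernel.π (Ksub F).arrow).app V s =
        ((Ksub F).arrow ≫ cokernel.π (Ksub F).arrow).app V s' := by
      change (cokernel.π (Ksub F).arrow).app V (K'.arrow.app V s) =
        (cokernel.π (Ksub F).arrow).app V ((Ksub F).arrow.app V s')
      rw [hs']
    rw [h4, h3]
    rfl
  exact Subobject.le_of_comm (Abelian.monoLift (Ksub F).arrow K'.arrow hzero)
    (Abelian.monoLift_comp _ _ _)

end Main

section Quot

open Groth.Agent.Lib.Helper23.QCohLocal Groth.Agent.Lib.Seat11.RedClosure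

variable {X : Scheme.{u}} [IsLocallyNoetherian X] (F : X.Modules) [F.IsQuasicoherent]
  [SheafOfModules.IsFiniteType (R := X.ringCatSheaf) F]

omit [IsLocallyNoetherian X] [F.IsQuasicoherent]
  [SheafOfModules.IsFiniteType (R := X.ringCatSheaf) F] in
theorem shortExact_Ksub :
    (ShortComplex.mk (Ksub F).arrow (cokernel.π (Ksub F).arrow)
      (cokernel.condition (Ksub F).arrow)).ShortExact :=
  ShortComplex.ShortExact.mk'
    (ShortComplex.exact_of_g_is_cokernel _ (cokernelIsCokernel (Ksub F).arrow))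
    (inferInstanceAs (Mono (Ksub F).arrow)) (inferInstanceAs (Epi (cokernel.π (Ksub F).arrow)))

theorem isQuasicoherent_Q : (cokernel (Ksub F).arrow).IsQuasicoherent := by
  have := (isCoh_Ksub F).1
  exact isQuasicoherent_cokernel _

theorem isFiniteType_Q :
    CohB1.IsFT (cokernel (Ksub F).arrow) := by
  have hQ : (cokernel (Ksub F).arrow).IsQuasicoherent := isQuasicoherent_Q F
  exact Groth.Agent.Lib.Helper23.FinType.isFiniteType_of_epi (cokernel.π (Ksub F).arrow)

omit [IsLocallyNoetherian X] [F.IsQuasicoherent]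
  [SheafOfModules.IsFiniteType (R := X.ringCatSheaf) F] in
/-- sections killed by the quotient map lie in the subsheaf -/
theorem mem_of_app_eq_zero (V : X.Opens) (t : Γ(F, V))
    (ht : (cokernel.π (Ksub F).arrow).app V t = 0) : t ∈ (Nsub F).carrier V := by
  obtain ⟨r, hr⟩ := Groth.Agent.Lib.Helper20.StalkExact.exists_app_eq_of_exact _
    (shortExact_Ksub F) V t ht
  rw [← hr]
  exact arrow_mem F V r

omit [IsLocallyNoetherian X] [F.IsQuasicoherent]
  [SheafOfModules.IsFiniteType (R := X.ringCatSheaf) F] in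
theorem app_eq_zero_of_mem (V : X.Opens) (t : Γ(F, V)) (ht : t ∈ (Nsub F).carrier V) :
    (cokernel.π (Ksub F).arrow).app V t = 0 := by
  obtain ⟨s', rfl⟩ := exists_arrow_eq F V t ht
  have h3 : ((Ksub F).arrow ≫ cokernel.π (Ksub F).arrow).app V s' = 0 := by
    rw [cokernel.condition]
    rfl
  exact h3

theorem support_Q : CohB1.support (cokernel (Ksub F).arrow) = CohB1.support F := by
  have hS := support_shortExact _ (shortExact_Ksub F)
  change CohB1.support F = CohB1.support ((Ksub F : Subobject F) : X.Modules) ∪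
    CohB1.support (cokernel (Ksub F).arrow) at hS
  apply le_antisymm
  · rw [hS]
    exact Set.subset_union_right
  · intro z hz
    obtain ⟨x, hx, hxE, hxz⟩ := exists_min_ass F hz
    have hxS : x ∈ CohB1.support F := mem_support_of_isAssPoint F hx
    rw [hS] at hxS
    have hcl : IsClosed (CohB1.support (cokernel (Ksub F).arrow)) :=
      Groth.Agent.S0020.result X _ (isFiniteType_Q F)
    rcases hxS with h | h
    · exact absurd (support_Ksub F h) (not_mem_Cl F hx hxE)
    · exact hxz.mem_closed hcl h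

/-- the dense open on which `F` and its quotient agree -/
noncomputable def Uo : X.Opens := ⟨(Cl F)ᶜ, (isClosed_Cl F).isOpen_compl⟩

theorem dense_Uo : Dense ((Uo F : X.Opens) : Set X) := by
  rw [dense_iff_inter_open]
  intro W hW hWne
  obtain ⟨w, hw⟩ := hWne
  by_cases hwC : w ∈ Cl F
  · obtain ⟨y, hy, hyw⟩ := hwC
    have hyS : y ∈ CohB1.support F := mem_support_of_isAssPoint F hy.1
    obtain ⟨x, hx, hxE, hxy⟩ := exists_min_ass F hyS
    exact ⟨x, (hxy.trans hyw).mem_open hW hw, not_mem_Cl F hx hxE⟩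
  · exact ⟨w, hw, hwC⟩

theorem support_subset_closure_Uo :
    CohB1.support F ⊆ closure (((Uo F : X.Opens) : Set X) ∩ CohB1.support F) := by
  intro z hz
  rw [mem_closure_iff]
  intro W hW hzW
  obtain ⟨x, hx, hxE, hxz⟩ := exists_min_ass F hz
  exact ⟨x, hxz.mem_open hW hzW, not_mem_Cl F hx hxE, mem_support_of_isAssPoint F hx⟩

theorem isIso_restrict_Uo :
    IsIso ((Scheme.Modules.restrictFunctor (Uo F).ι).map (cokernel.π (Ksub F).arrow)) := by
  have hQ := isQuasicoherent_Q F
  refine Groth.Agent.Lib.Helper23.Extend.isIso_restrict_of_bijective_app (cokernel.π (Ksub F).arrow)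
    (Uo F) (κ := {D : X.Opens // IsAffineOpen D ∧ D ≤ Uo F}) (fun D => D.1) (fun D => D.2.1)
    (fun D => D.2.2) ?_ ?_
  · intro x hx
    obtain ⟨_, ⟨V, hV : IsAffineOpen V, rfl⟩, hxV, hVU⟩ :=
      X.isBasis_affineOpens.exists_subset_of_mem_open hx (Uo F).2
    exact Opens.mem_iSup.2 ⟨⟨V, hV, hVU⟩, hxV⟩
  · rintro ⟨D, hD, hDU⟩
    refine ⟨?_, surjective_app_of_epi _ hD⟩
    rw [injective_iff_map_eq_zero]
    intro t ht
    have hmem := mem_of_app_eq_zero F D t ht
    apply eq_zero_of_gmM_eq_zero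
    intro x hx
    exact hmem x hx (hDU hx)

end Quot

section AssQ

open Groth.Agent.Lib.Seat11.RedClosure

variable {X : Scheme.{u}} [IsLocallyNoetherian X] (F : X.Modules) [F.IsQuasicoherent]
  [SheafOfModules.IsFiniteType (R := X.ringCatSheaf) F]

/-- the quotient has no associated point among the specializations of embedded points of `F` -/
theorem not_mem_Cl_of_isAssPoint_Q {y : X}
    (hy : Curv2.IsAssPoint (cokernel (Ksub F).arrow) y) : y ∉ Cl F := by
  intro hyC
  have hQ := isQuasicoherent_Q F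
  obtain ⟨_, ⟨T, hT : IsAffineOpen T, rfl⟩, hyT, -⟩ :=
    X.isBasis_affineOpens.exists_subset_of_mem_open (Set.mem_univ y) isOpen_univ
  have hN : IsNoetherianRing Γ(X, T) := IsLocallyNoetherian.component_noetherian ⟨T, hT⟩
  have hass := (Groth.Agent.Lib.Helper23.AssAffine.isAssPoint_iff_mem_associatedPrimes hT
    (cokernel (Ksub F).arrow) y hyT).1 hy
  obtain ⟨hprime, q, hq⟩ := (isAssociatedPrime_iff).1 hass
  obtain ⟨t, rfl⟩ := surjective_app_of_epi (cokernel.π (Ksub F).arrow) hT q
  have hmemp : ∀ a : Γ(X, T), a ∈ (hT.primeIdealOf ⟨y, hyT⟩).asIdeal →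
      a • t ∈ (Nsub F).carrier T := by
    intro a ha
    apply mem_of_app_eq_zero
    rw [Scheme.Modules.Hom.app_smul]
    rw [hq, Submodule.mem_colon_singleton, Submodule.mem_bot] at ha
    exact ha
  have ht : t ∈ (Nsub F).carrier T := by
    intro z hzT hzC
    have hnspec : ¬ y ⤳ z := fun h => hzC (mem_Cl_of_specializes F hyC h)
    have hnle : ¬ (hT.primeIdealOf ⟨y, hyT⟩).asIdeal ≤ (hT.primeIdealOf ⟨z, hzT⟩).asIdeal := by
      intro hle
      apply hnspec
      have h1 : hT.primeIdealOf ⟨y, hyT⟩ ⤳ hT.primeIdealOf ⟨z, hzT⟩ :=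
        (PrimeSpectrum.le_iff_specializes _ _).1 hle
      have h2 := h1.map hT.fromSpec.continuous
      rwa [hT.fromSpec_primeIdealOf, hT.fromSpec_primeIdealOf] at h2
    obtain ⟨a, hap, haz⟩ := Set.not_subset.1 hnle
    have h3 : gmM F z T hzT (a • t) = 0 := hmemp a hap z hzT hzC
    rw [gmM_smul] at h3
    have hunit : IsUnit (grX z T hzT a) := by
      have h4 : z ∈ X.basicOpen a :=
        (Groth.Agent.Lib.Helper2.mem_basicOpen_iff_notMem_primeIdealOf hT z hzT a).2 haz
      exact (Scheme.mem_basicOpen X a z hzT).1 h4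
    obtain ⟨w, hw⟩ := hunit
    have h5 : gmM F z T hzT t = (↑w⁻¹ : X.presheaf.stalk z) • ((w : X.presheaf.stalk z) • gmM F z T hzT t) := by
      rw [smul_smul, Units.inv_mul, one_smul]
    rw [h5, hw, h3, smul_zero]
  have h1 : (1 : Γ(X, T)) ∈ (hT.primeIdealOf ⟨y, hyT⟩).asIdeal := by
    rw [hq, Submodule.mem_colon_singleton, Submodule.mem_bot, one_smul]
    exact app_eq_zero_of_mem F T t ht
  exact hprime.ne_top ((Ideal.eq_top_iff_one _).2 h1)

/-- away from the specializations of embedded points, `F` and its quotient have the same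
associated points -/
theorem isAssPoint_Q_iff {y : X} (hy : y ∉ Cl F) :
    Curv2.IsAssPoint (cokernel (Ksub F).arrow) y ↔ Curv2.IsAssPoint F y := by
  have hiso := isIso_restrict_Uo F
  have hiso' : IsIso ((Scheme.Modules.pullback (Uo F).ι).map (cokernel.π (Ksub F).arrow)) :=
    (NatIso.isIso_map_iff (Scheme.Modules.restrictFunctorIsoPullback (Uo F).ι) _).1 hiso
  let u : ↥(Uo F) := ⟨y, hy⟩
  have h1 := isAssPoint_restrict_iff (Uo F) F u
  have h2 := isAssPoint_restrict_iff (Uo F) (cokernel (Ksub F).arrow) u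
  have hu : (Uo F).ι u = y := rfl
  rw [hu] at h1 h2
  constructor
  · intro h
    exact h1.1 (isAssPoint_of_mono
      (inv ((Scheme.Modules.pullback (Uo F).ι).map (cokernel.π (Ksub F).arrow))) u (h2.2 h))
  · intro h
    exact h2.1 (isAssPoint_of_mono
      ((Scheme.Modules.pullback (Uo F).ι).map (cokernel.π (Ksub F).arrow)) u (h1.2 h))

theorem noEmbedded_Q (x : X) (hx : Curv2.IsAssPoint (cokernel (Ksub F).arrow) x) (y : X)
    (hy : Curv2.IsAssPoint (cokernel (Ksub F).arrow) y) (hyx : y ⤳ x) : y = x := by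
  have hxC := not_mem_Cl_of_isAssPoint_Q F hx
  have hyC := not_mem_Cl_of_isAssPoint_Q F hy
  have hxF := (isAssPoint_Q_iff F hxC).1 hx
  have hyF := (isAssPoint_Q_iff F hyC).1 hy
  by_contra hne
  exact hxC ⟨x, ⟨hxF, y, hyF, hyx, hne⟩, specializes_rfl⟩

end AssQ

/-- EGA IV 3.? / the statement of S8908 -/
theorem main (X : Scheme.{u}) [IsLocallyNoetherian X] (F : X.Modules) (hF : Coh.IsCoh F) :
    ∃ K : Subobject F, Coh.IsCoh (K : X.Modules) ∧
      (∀ U : X.Opens, (U : Set ↥X) ∩ CohB1.support F ⊆ CohB1.support (K : X.Modules) →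
        (U : Set ↥X) ∩ CohB1.support F = ∅) ∧
      (∀ K' : Subobject F, Coh.IsCoh (K' : X.Modules) →
        (∀ U : X.Opens, (U : Set ↥X) ∩ CohB1.support F ⊆ CohB1.support (K' : X.Modules) →
          (U : Set ↥X) ∩ CohB1.support F = ∅) →
        K' ≤ K) ∧
      CohB1.support (cokernel K.arrow) = CohB1.support F ∧
      (∀ x : ↥X, Curv2.IsAssPoint (cokernel K.arrow) x →
        ∀ y : ↥X, Curv2.IsAssPoint (cokernel K.arrow) y → y ⤳ x → y = x) ∧
      ∃ U : X.Opens, Dense (U : Set ↥X) ∧
        CohB1.support F ⊆ closure ((U : Set ↥X) ∩ CohB1.support F) ∧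
        IsIso ((Scheme.Modules.restrictFunctor U.ι).map (cokernel.π K.arrow)) := by
  have h1 := hF.1
  have h2 := hF.2
  exact ⟨Ksub F, isCoh_Ksub F, nowhereDense_Ksub F, le_Ksub F, support_Q F, noEmbedded_Q F,
    Uo F, dense_Uo F, support_subset_closure_Uo F, isIso_restrict_Uo F⟩

end Groth.Agent.Lib.Seat11.NowhereDense
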