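import Mathlib
import Groth.Agent.Lib.Seat11OpenRestrict
import Groth.Agent.Lib.Helper20StalkExact
set_option backward.isDefEq.respectTransparency.types false

/-!
# Uniqueness of reduced primary decompositions without embedded points (seat 11)

EGA IV 3.2.6 / 3.2.7.
-/

set_option autoImplicit false
set_option linter.style.haveILetI false
set_option linter.unusedSectionVars false
universe u
open CategoryTheory CategoryTheory.Limits AlgebraicGeometry TopologicalSpace Opposite

namespace Groth.Agent.Lib.Seat11.PrimDecomp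

open Groth.Agent.Lib.Seat11.OpenRestrict Groth.Agent.Lib.Helper20.StalkExact

variable {X : Scheme.{u}} [IsLocallyNoetherian X] (M : X.Modules) [M.IsQuasicoherent]
  [SheafOfModules.IsFiniteType (R := X.ringCatSheaf) M]

/-- Without embedded points, every associated point has an open neighbourhood containing no other
associated point. -/
theorem exists_nhd_no_other_ass (hne : AssSch.NoEmbedded M) (x : X) (hx : Curv2.IsAssPoint M x) :
    ∃ O' : X.Opens, x ∈ O' ∧ ∀ a : X, Curv2.IsAssPoint M a → a ∈ O' → a = x := by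
  obtain ⟨_, ⟨V, hV : IsAffineOpen V, rfl⟩, hxV, -⟩ :=
    X.isBasis_affineOpens.exists_subset_of_mem_open (Set.mem_univ x) isOpen_univ
  have hfin := finite_ass_inter M hV
  set A := {a : X | a ∈ V ∧ Curv2.IsAssPoint M a} with hA
  let O' : Set X := (V : Set X) ∩ ⋂ a ∈ A \ {x}, (closure {a})ᶜ
  have hO' : IsOpen O' :=
    V.2.inter ((hfin.subset Set.sdiff_subset).isOpen_biInter
      (fun a _ => isClosed_closure.isOpen_compl))
  refine ⟨⟨O', hO'⟩, ⟨hxV, Set.mem_iInter₂.2 (fun a ha => ?_)⟩, ?_⟩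
  · intro hxa
    have hspec : a ⤳ x := specializes_iff_mem_closure.2 hxa
    exact ha.2 (hne x hx a ha.1.2 hspec).symm
  · intro a ha haO'
    by_contra hne'
    have hb := Set.mem_iInter₂.1 haO'.2 a ⟨⟨haO'.1, ha⟩, hne'⟩
    exact hb (subset_closure rfl)

section Family

variable (G : ↥(AssSch.Ass M) → X.Modules) (q : ∀ x, M ⟶ G x)

/-- Jointly monomorphic families are injective on sections. -/
theorem section_eq_zero_of_forall
    (hm : ∀ (T : X.Modules) (a b : T ⟶ M), (∀ x, a ≫ q x = b ≫ q x) → a = b)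
    (U : X.Opens) (s : Γ(M, U)) (h : ∀ x, Scheme.Modules.Hom.app (q x) U s = 0) : s = 0 := by
  haveI : Mono (Pi.lift q) := by
    refine ⟨fun {T} a b hab => hm T a b (fun x => ?_)⟩
    have := congrArg (fun φ => φ ≫ Pi.π G x) hab
    simpa using this
  apply injective_app_of_mono (Pi.lift q) U
  rw [map_zero]
  have hlim : IsLimit ((secF U).mapCone (Fan.mk (∏ᶜ G) (Pi.π G))) :=
    isLimitOfPreserves (secF U) (productIsProduct G)
  refine Concrete.isLimit_ext _ hlim _ _ (fun ⟨x⟩ => ?_)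
  have h1 : Scheme.Modules.Hom.app (Pi.π G x) U (Scheme.Modules.Hom.app (Pi.lift q) U s) =
      Scheme.Modules.Hom.app (q x) U s := by
    rw [← ConcreteCategory.comp_apply, ← Scheme.Modules.Hom.comp_app, Pi.lift_π]
  have h2 : Scheme.Modules.Hom.app (Pi.π G x) U (0 : Γ(∏ᶜ G, U)) = 0 := map_zero _
  exact (h1.trans (h x)).trans h2.symm

variable (hG : ∀ x, (G x).IsQuasicoherent) (hA : ∀ x, AssSch.Ass (G x) = {x.1})

include hG hA in
/-- `G x'` has no sections over an open not containing `x'`. -/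
theorem section_eq_zero_of_not_mem (x' : ↥(AssSch.Ass M)) (U : X.Opens) (hx' : x'.1 ∉ U)
    (g : Γ(G x', U)) : g = 0 := by
  by_contra hg
  haveI := hG x'
  obtain ⟨y, hyU, hyw, -⟩ :=
    Groth.Agent.Lib.Helper2.Ass.exists_isWeakAssPoint_of_ne_zero_open (G x') U g hg
  have hy : y ∈ AssSch.Ass (G x') :=
    (Groth.Agent.Lib.Helper2.Ass.isAssPoint_iff_isWeakAssPoint (G x') y).2 hyw
  rw [hA x', Set.mem_singleton_iff] at hy
  exact hx' (hy ▸ hyU)

include hG hA in
/-- Sections of `M` killed by `q x` vanish at `x`. -/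
theorem germ_eq_zero_of_app_eq_zero (hne : AssSch.NoEmbedded M)
    (hm : ∀ (T : X.Modules) (a b : T ⟶ M), (∀ x, a ≫ q x = b ≫ q x) → a = b)
    (x : ↥(AssSch.Ass M)) (U : X.Opens) (hxU : x.1 ∈ U) (s : Γ(M, U))
    (h : Scheme.Modules.Hom.app (q x) U s = 0) : M.presheaf.germ U x.1 hxU s = 0 := by
  obtain ⟨O', hxO', hO'⟩ := exists_nhd_no_other_ass M hne x.1 x.2
  let i : U ⊓ O' ⟶ U := homOfLE inf_le_left
  have hs' : M.presheaf.map i.op s = 0 := by
    apply section_eq_zero_of_forall M G q hm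
    intro x'
    have hnat : Scheme.Modules.Hom.app (q x') (U ⊓ O') (M.presheaf.map i.op s) =
        (G x').presheaf.map i.op (Scheme.Modules.Hom.app (q x') U s) :=
      congr($((Scheme.Modules.Hom.mapPresheaf (q x')).naturality i.op) s)
    by_cases hxx : x' = x
    · rw [hnat, hxx, h, map_zero]
    · apply section_eq_zero_of_not_mem M G hG hA x'
      intro hmem
      exact hxx (Subtype.ext (hO' x'.1 x'.2 hmem.2))
  have hgerm : M.presheaf.germ U x.1 hxU s =
      M.presheaf.germ (U ⊓ O') x.1 ⟨hxU, hxO'⟩ (M.presheaf.map i.op s) :=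
    (TopCat.Presheaf.germ_res_apply M.presheaf i x.1 ⟨hxU, hxO'⟩ s).symm
  rw [hgerm, hs', map_zero]

include hG hA in
/-- The kernel of `q x` is killed by any other quotient with `x` as only associated point. -/
theorem kernel_comp_eq_zero (hne : AssSch.NoEmbedded M)
    (hm : ∀ (T : X.Modules) (a b : T ⟶ M), (∀ x, a ≫ q x = b ≫ q x) → a = b)
    (x : ↥(AssSch.Ass M)) (G' : X.Modules) [G'.IsQuasicoherent] (q' : M ⟶ G')
    (hA' : AssSch.Ass G' = {x.1}) : kernel.ι (q x) ≫ q' = 0 := by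
  apply Scheme.Modules.hom_ext
  intro U
  ext t
  rw [Scheme.Modules.Hom.zero_app]
  change Scheme.Modules.Hom.app (kernel.ι (q x) ≫ q') U t = 0
  by_contra hne0
  obtain ⟨y, hyU, hyw, hgerm⟩ :=
    Groth.Agent.Lib.Helper2.Ass.exists_isWeakAssPoint_of_ne_zero_open G' U _ hne0
  have hy : y ∈ AssSch.Ass G' :=
    (Groth.Agent.Lib.Helper2.Ass.isAssPoint_iff_isWeakAssPoint G' y).2 hyw
  rw [hA', Set.mem_singleton_iff] at hy
  subst hy
  set s : Γ(M, U) := Scheme.Modules.Hom.app (kernel.ι (q x)) U t with hs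
  have hqs : Scheme.Modules.Hom.app (q x) U s = 0 := by
    rw [hs, ← ConcreteCategory.comp_apply, ← Scheme.Modules.Hom.comp_app, kernel.condition]
    rfl
  have hgs := germ_eq_zero_of_app_eq_zero M G q hG hA hne hm x U hyU s hqs
  -- the germ of `q' s` vanishes
  obtain ⟨W, hxW, iU, _, e⟩ := M.presheaf.germ_eq x.1 hyU hyU s 0 (by rw [hgs, map_zero])
  rw [map_zero] at e
  have e' : Scheme.Modules.Hom.app q' W (M.presheaf.map iU.op s) = 0 := by
    rw [e, map_zero]
  have hnat : Scheme.Modules.Hom.app q' W (M.presheaf.map iU.op s) =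
      G'.presheaf.map iU.op (Scheme.Modules.Hom.app q' U s) :=
    congr($((Scheme.Modules.Hom.mapPresheaf q').naturality iU.op) s)
  apply hgerm
  have h3 : Scheme.Modules.Hom.app (kernel.ι (q x) ≫ q') U t = Scheme.Modules.Hom.app q' U s := by
    rw [hs, Scheme.Modules.Hom.comp_app]
    rfl
  rw [h3, ← TopCat.Presheaf.germ_res_apply G'.presheaf iU x.1 hxW, ← hnat, e', map_zero]

end Family

/-- EGA IV 3.2.6: uniqueness of the reduced primary decomposition without embedded points. -/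
theorem exists_iso_of_noEmbedded (hne : AssSch.NoEmbedded M)
    (G G' : ↥(AssSch.Ass M) → X.Modules) (q : ∀ x, M ⟶ G x) (q' : ∀ x, M ⟶ G' x)
    (hq : ∀ x, Epi (q x)) (hq' : ∀ x, Epi (q' x))
    (hG : ∀ x, (G x).IsQuasicoherent) (hG' : ∀ x, (G' x).IsQuasicoherent)
    (hA : ∀ x, AssSch.Ass (G x) = {x.1}) (hA' : ∀ x, AssSch.Ass (G' x) = {x.1})
    (hm : ∀ (T : X.Modules) (a b : T ⟶ M), (∀ x, a ≫ q x = b ≫ q x) → a = b)
    (hm' : ∀ (T : X.Modules) (a b : T ⟶ M), (∀ x, a ≫ q' x = b ≫ q' x) → a = b)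
    (x : ↥(AssSch.Ass M)) : ∃ e : G x ≅ G' x, q x ≫ e.hom = q' x := by
  haveI := hq x
  haveI := hq' x
  haveI := hG x
  haveI := hG' x
  have h1 := kernel_comp_eq_zero M G q hG hA hne hm x (G' x) (q' x) (hA' x)
  have h2 := kernel_comp_eq_zero M G' q' hG' hA' hne hm' x (G x) (q x) (hA x)
  let c1 := Abelian.epiIsCokernelOfKernel _ (kernelIsKernel (q x))
  let c2 := Abelian.epiIsCokernelOfKernel _ (kernelIsKernel (q' x))
  let u : G x ⟶ G' x := c1.desc (CokernelCofork.ofπ (q' x) h1)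
  let v : G' x ⟶ G x := c2.desc (CokernelCofork.ofπ (q x) h2)
  have hu : q x ≫ u = q' x := c1.fac (CokernelCofork.ofπ (q' x) h1) WalkingParallelPair.one
  have hv : q' x ≫ v = q x := c2.fac (CokernelCofork.ofπ (q x) h2) WalkingParallelPair.one
  refine ⟨⟨u, v, ?_, ?_⟩, hu⟩
  · rw [← cancel_epi (q x), ← Category.assoc, hu, hv, Category.comp_id]
  · rw [← cancel_epi (q' x), ← Category.assoc, hv, hu, Category.comp_id]

end Groth.Agent.Lib.Seat11.PrimDecomp
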