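import Mathlib
import Groth.Agent.Lib.Helper28RegLoc
import Groth.Agent.Lib.Helper28FlatNormal
import Groth.Agent.Lib.Helper5RLR3
import Groth.Agent.Lib.Helper5RLR
import Groth.Agent.S2082

/-!
# Regular local homomorphisms: numerical inequalities (seat 11)

For a local homomorphism `A → B` of Noetherian local rings with closed fibre `B₀ = B / m_A B`:
* `spanFinrank_maximalIdeal_le_add`: `edim B ≤ edim A + edim B₀`;
* `ringKrullDim_le_add`: `dim B ≤ dim A + dim B₀`.
-/

set_option autoImplicit false
universe u
open IsLocalRing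

namespace Groth.Agent.Lib.Seat11.RegHom

variable {A B : Type u} [CommRing A] [IsLocalRing A] [IsNoetherianRing A] [CommRing B] [IsLocalRing B]
  [IsNoetherianRing B] [Algebra A B] [IsLocalHom (algebraMap A B)]
  [IsLocalRing (B ⧸ (maximalIdeal A).map (algebraMap A B))]

/-- `edim B ≤ edim A + edim (B / m_A B)`. -/
theorem spanFinrank_maximalIdeal_le_add :
    (maximalIdeal B).spanFinrank ≤ (maximalIdeal A).spanFinrank +
      (maximalIdeal (B ⧸ (maximalIdeal A).map (algebraMap A B))).spanFinrank := by
  classical
  set J := (maximalIdeal A).map (algebraMap A B) with hJ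
  obtain ⟨s, hscard, hsspan⟩ := Submodule.FG.exists_span_finset_card_eq_spanFinrank
    (IsNoetherian.noetherian (maximalIdeal A))
  obtain ⟨t₀, ht₀card, ht₀span⟩ := Submodule.FG.exists_span_finset_card_eq_spanFinrank
    (IsNoetherian.noetherian (maximalIdeal (B ⧸ J)))
  -- lift `t₀`
  have hlift : ∀ y : B ⧸ J, ∃ x : B, Ideal.Quotient.mk J x = y := Ideal.Quotient.mk_surjective
  choose σ hσ using hlift
  let t : Finset B := t₀.image σ
  let g : Finset B := s.image (algebraMap A B) ∪ t
  have hgspan : Ideal.span (g : Set B) = maximalIdeal B := by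
    apply le_antisymm
    · rw [Ideal.span_le]
      intro x hx
      rcases Finset.mem_union.mp (Finset.mem_coe.mp hx) with hx | hx
      · obtain ⟨a, ha, rfl⟩ := Finset.mem_image.mp hx
        have ha' : a ∈ maximalIdeal A := by
          rw [← hsspan]; exact Submodule.subset_span ha
        exact IsLocalRing.map_maximalIdeal_le (algebraMap A B) (Ideal.mem_map_of_mem _ ha')
      · obtain ⟨y, hy, rfl⟩ := Finset.mem_image.mp hx
        have hy' : y ∈ maximalIdeal (B ⧸ J) := by
          rw [← ht₀span]; exact Submodule.subset_span hy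
        rw [← hσ y] at hy'
        exact (Groth.Agent.Lib.Helper5.mk_mem_maximalIdeal_quotient_iff J (σ y)).mp hy'
    · intro x hx
      have hx' : Ideal.Quotient.mk J x ∈ maximalIdeal (B ⧸ J) :=
        (Groth.Agent.Lib.Helper5.mk_mem_maximalIdeal_quotient_iff J x).mpr hx
      have hx'' : Ideal.Quotient.mk J x ∈ (Ideal.span (g : Set B)).map (Ideal.Quotient.mk J) := by
        have hle : maximalIdeal (B ⧸ J) ≤ (Ideal.span (g : Set B)).map (Ideal.Quotient.mk J) := by
          have : maximalIdeal (B ⧸ J) = Ideal.span (t₀ : Set (B ⧸ J)) := ht₀span.symm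
          rw [this, Ideal.span_le]
          intro y hy
          rw [← hσ y]
          apply Ideal.mem_map_of_mem
          apply Ideal.subset_span
          exact Finset.mem_coe.mpr (Finset.mem_union_right _ (Finset.mem_image_of_mem σ hy))
        exact hle hx'
      rw [Ideal.mem_map_iff_of_surjective _ Ideal.Quotient.mk_surjective] at hx''
      obtain ⟨z, hz, hzx⟩ := hx''
      have hker : x - z ∈ J := by
        rw [← Ideal.Quotient.eq_zero_iff_mem, map_sub, hzx, sub_self]
      have hJle : J ≤ Ideal.span (g : Set B) := by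
        rw [hJ, ← hsspan]
        change Ideal.map _ (Ideal.span _) ≤ _
        rw [Ideal.map_span, Ideal.span_le]
        rintro _ ⟨a, ha, rfl⟩
        apply Ideal.subset_span
        exact Finset.mem_coe.mpr (Finset.mem_union_left _ (Finset.mem_image_of_mem _ ha))
      have : x = (x - z) + z := by ring
      rw [this]
      exact Ideal.add_mem _ (hJle hker) hz
  calc (maximalIdeal B).spanFinrank = (Submodule.span B (g : Set B)).spanFinrank := by
        rw [← hgspan]
    _ ≤ (g : Set B).ncard := Submodule.spanFinrank_span_le_ncard_of_finite g.finite_toSet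
    _ = g.card := Set.ncard_coe_finset g
    _ ≤ (s.image (algebraMap A B)).card + t.card := Finset.card_union_le _ _
    _ ≤ s.card + t₀.card := add_le_add Finset.card_image_le Finset.card_image_le
    _ = _ := by rw [hscard, ht₀card]

/-- `dim B ≤ dim A + dim (B / m_A B)`. -/
theorem ringKrullDim_le_add :
    ringKrullDim B ≤ ringKrullDim A +
      ringKrullDim (B ⧸ (maximalIdeal A).map (algebraMap A B)) := by
  have hlies : (maximalIdeal B).LiesOver (maximalIdeal A) :=
    ⟨(IsLocalRing.maximalIdeal_comap (algebraMap A B)).symm⟩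
  have h := Ideal.height_le_height_add_of_liesOver (maximalIdeal A) (maximalIdeal B)
  rw [← Groth.Agent.Lib.Helper5.maximalIdeal_quotient_eq_map] at h
  rw [← IsLocalRing.maximalIdeal_height_eq_ringKrullDim, ← IsLocalRing.maximalIdeal_height_eq_ringKrullDim,
    ← IsLocalRing.maximalIdeal_height_eq_ringKrullDim, ← WithBot.coe_add]
  exact WithBot.coe_le_coe.mpr h

end Groth.Agent.Lib.Seat11.RegHom
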