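import Mathlib
import Groth.Agent.Lib.Seat11BaseChangeFib
import Groth.Agent.Lib.Seat11FibSq
set_option backward.isDefEq.respectTransparency.types false

/-!
# Relative associated points under base change (seat 11)

EGA IV 3.3.6-type statement: `Ass_{X'/S'}(F')` in terms of `Ass_{X/S}(F)`.
-/

set_option autoImplicit false
set_option linter.style.haveILetI false
set_option linter.unusedSectionVars false
universe u
open CategoryTheory CategoryTheory.Limits AlgebraicGeometry TensorProduct

namespace Groth.Agent.Lib.Seat11.RelAss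

open Groth.Agent.Lib.Seat11.FibProd Groth.Agent.Lib.Seat11.FibProdLen
open Groth.Agent.Lib.Seat11.TensorFields Groth.Agent.Lib.Seat11.BaseChangeFib
open Groth.Agent.Lib.Seat11.AssRing Groth.Agent.Lib.Seat11.AssStalk
open Groth.Agent.Lib.Seat11.FibSq

section Ring

/-- In a zero-dimensional local ring the maximal ideal is an associated prime (radical sense). -/
theorem isAssociatedPrime_maximalIdeal_of_krullDimLE_zero (R : Type*) [CommRing R] [IsLocalRing R]
    [Ring.KrullDimLE 0 R] : IsAssociatedPrime (IsLocalRing.maximalIdeal R) R := by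
  refine ⟨inferInstance, 1, ?_⟩
  rw [← Ring.KrullDimLE.nilradical_eq_maximalIdeal R]
  ext r
  rw [Ideal.mem_radical_iff, mem_nilradical]
  simp only [Submodule.mem_colon_singleton, Submodule.mem_bot, smul_eq_mul, mul_one]
  rfl

end Ring

section Fields

variable {k : Type u} [Field k] (K L : Type u) [Field K] [Field L] [Algebra k K] [Algebra k L]
  {P : Scheme.{u}} (e : Spec (CommRingCat.of (K ⊗[k] L)) ≅ P)

include e in
/-- On `Spec (K ⊗[k] L)` the associated points of the structure sheaf are the maximal points. -/
theorem isAssPoint_structureModule_iff_maximal (t : P) :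
    Curv2.IsAssPoint (Coh.structureModule P) t ↔ ∀ t'' : P, t'' ⤳ t → t'' = t := by
  obtain ⟨Q, rfl⟩ := exists_hom_eq e t
  constructor
  · intro h t'' hspec
    obtain ⟨Q'', rfl⟩ := exists_hom_eq e t''
    have hmin := mem_minimalPrimes_of_isAssPoint K L e Q h
    have hspec' : Q'' ⤳ Q := e.hom.isOpenEmbedding.isInducing.specializes_iff.mp hspec
    have hle : Q''.asIdeal ≤ Q.asIdeal := (PrimeSpectrum.le_iff_specializes Q'' Q).mpr hspec'
    have hge : Q.asIdeal ≤ Q''.asIdeal := hmin.2 ⟨Q''.2, bot_le⟩ hle
    rw [PrimeSpectrum.ext (le_antisymm hle hge)]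
  · intro h
    have hmin : Q.asIdeal ∈ minimalPrimes (K ⊗[k] L) := by
      refine ⟨⟨Q.2, bot_le⟩, fun J hJ hJQ => ?_⟩
      have hJ' : J.IsPrime := hJ.1
      let Q'' : PrimeSpectrum (K ⊗[k] L) := ⟨J, hJ'⟩
      have hsp : Q'' ⤳ Q := (PrimeSpectrum.le_iff_specializes Q'' Q).mp hJQ
      have := h (e.hom Q'') (hsp.map e.hom.continuous)
      have hQ : Q'' = Q := e.hom.isOpenEmbedding.injective this
      rw [← hQ]
    rw [isAssPoint_hom_iff]
    haveI : Ring.KrullDimLE 0 (Localization.AtPrime Q.asIdeal) :=
      Ring.KrullDimLE.of_isLocalization _ hmin _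
    exact isAssociatedPrime_maximalIdeal_of_krullDimLE_zero _

end Fields

section FibIso

variable {k : Type u} [Field k] (K : Type u) [Field K] [Algebra k K]
  {W W' : Scheme.{u}} {φ : W' ⟶ W} {ψ : W' ⟶ Spec (CommRingCat.of K)}
  {a : W ⟶ Spec (CommRingCat.of k)}
  (sq : IsPullback φ ψ a (Spec.map (CommRingCat.ofHom (algebraMap k K)))) (w : W)

/-- In a cartesian square over `Spec K → Spec k`, the fibre of `φ : W' → W` over `w` is
`Spec (κ(w) ⊗[k] K)`. -/
noncomputable def fibIsoSq :
    letI := resAlg a w
    Spec (CommRingCat.of ((W.residueField w) ⊗[k] K)) ≅ φ.fiber w :=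
  letI := resAlg a w
  have sq' : IsPullback (φ.fiberToSpecResidueField w) (φ.fiberι w ≫ ψ)
      (Spec.map (CommRingCat.ofHom (algebraMap k (W.residueField w))))
      (Spec.map (CommRingCat.ofHom (algebraMap k K))) := by
    have h := (IsPullback.of_hasPullback φ (W.fromSpecResidueField w)).flip.paste_vert sq
    rw [← SpecMap_resHom a w] at h
    exact h
  (pullbackSpecIso k (W.residueField w) K).symm ≪≫ sq'.isoPullback.symm

include sq in
/-- The associated points of the structure sheaf of such a fibre are its maximal points. -/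
theorem isAssPoint_fiber_iff_maximal (t : ↥(φ.fiber w)) :
    Curv2.IsAssPoint (Coh.structureModule (φ.fiber w)) t ↔
      ∀ t'' : ↥(φ.fiber w), t'' ⤳ t → t'' = t := by
  letI := resAlg a w
  exact isAssPoint_structureModule_iff_maximal (W.residueField w) K (fibIsoSq K sq w) t

end FibIso

section Main

theorem exists_fiberι_eq {X X' : Scheme.{u}} (π : X' ⟶ X) (z : X') (x : X) (h : π z = x) :
    ∃ w : ↥(π.fiber x), π.fiberι x w = z := by
  subst h
  exact ⟨π.asFiber z, π.fiberι_asFiber z⟩

variable {X S S' : Scheme.{u}} (f : X ⟶ S) [LocallyOfFiniteType f] (g : S' ⟶ S)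
  (F : X.Modules) (x' : ↥(pullback f g))

instance isLocallyNoetherian_fiber (s : S) : IsLocallyNoetherian (f.fiber s) := by
  haveI : LocallyOfFiniteType (f.fiberToSpecResidueField s) :=
    MorphismProperty.pullback_snd _ _ inferInstance
  exact LocallyOfFiniteType.isLocallyNoetherian (f.fiberToSpecResidueField s)

/-- The square of fibres. -/
noncomputable abbrev φ (s' : S') : (pullback.snd f g).fiber s' ⟶ f.fiber (g s') :=
  fibMapSq (IsPullback.of_hasPullback f g) s'

theorem fiberι_φ (s' : S') (w' : ↥((pullback.snd f g).fiber s')) :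
    f.fiberι (g s') (φ f g s' w') = pullback.fst f g ((pullback.snd f g).fiberι s' w') := by
  rw [← Scheme.Hom.comp_apply, fibMapSq_fiberι]
  rfl

/-- Step 2: relative associated points of `p^*F` in terms of those of `F` and the fibre of the
map of fibres. -/
theorem fibAss_pullback_iff :
    FibAss (pullback.snd f g) ((Scheme.Modules.pullback (pullback.fst f g)).obj F) x' ↔
      FibAss f F (pullback.fst f g x') ∧
        FibAssRing (φ f g (pullback.snd f g x')) ((pullback.snd f g).asFiber x') := by
  set s' := pullback.snd f g x' with hs'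
  set w' := (pullback.snd f g).asFiber x' with hw'
  have hx' : (pullback.snd f g).fiberι s' w' = x' := (pullback.snd f g).fiberι_asFiber x'
  have h1 := isAssPoint_fiber_iff (pullback.snd f g)
    ((Scheme.Modules.pullback (pullback.fst f g)).obj F) s' w'
  rw [hx'] at h1
  rw [← h1]
  have e1 : (Scheme.Modules.pullback ((pullback.snd f g).fiberι s')).obj
        ((Scheme.Modules.pullback (pullback.fst f g)).obj F) ≅
      (Scheme.Modules.pullback (φ f g s')).obj
        ((Scheme.Modules.pullback (f.fiberι (g s'))).obj F) :=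
    (Scheme.Modules.pullbackComp _ _).app F ≪≫
      (Scheme.Modules.pullbackCongr
        (fibMapSq_fiberι (IsPullback.of_hasPullback f g) s').symm).app F ≪≫
      ((Scheme.Modules.pullbackComp _ _).app F).symm
  rw [isAssPoint_iff_of_iso e1 w',
    isAssPoint_pullback_iff_of_flat (φ f g s') _ w' (Flat.stalkMap _ w'),
    isAssPoint_fiber_iff, fiberι_φ, hx']

/-- Step 3: the fibre of the map of fibres has depth `0` at `x'` iff `x'` is maximal among the
points over its images. -/
theorem fibAssRing_φ_iff :
    FibAssRing (φ f g (pullback.snd f g x')) ((pullback.snd f g).asFiber x') ↔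
      ∀ x'' : ↥(pullback f g), (pullback.snd f g) x'' = (pullback.snd f g) x' →
        (pullback.fst f g) x'' = (pullback.fst f g) x' → x'' ⤳ x' → x'' = x' := by
  set s' := pullback.snd f g x' with hs'
  set w' := (pullback.snd f g).asFiber x' with hw'
  have hx' : (pullback.snd f g).fiberι s' w' = x' := (pullback.snd f g).fiberι_asFiber x'
  set t := (φ f g s').asFiber w' with ht
  have htw : (φ f g s').fiberι (φ f g s' w') t = w' := (φ f g s').fiberι_asFiber w'
  have h1 := fibAssRing_iff_isAssPoint_structureModule (φ f g s')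
    (isPullback_fiber (φ f g s') (φ f g s' w')) t
  rw [htw] at h1
  rw [h1]
  letI : Algebra (S.residueField (g s')) (S'.residueField s') :=
    (g.residueFieldMap s').hom.toAlgebra
  have sq : IsPullback (φ f g s') ((pullback.snd f g).fiberToSpecResidueField s')
      (f.fiberToSpecResidueField (g s'))
      (Spec.map (CommRingCat.ofHom (algebraMap (S.residueField (g s')) (S'.residueField s')))) :=
    isPullback_fibMapSq (IsPullback.of_hasPullback f g) s'
  rw [isAssPoint_fiber_iff_maximal (k := S.residueField (g s')) (S'.residueField s') sq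
    (φ f g s' w') t]
  constructor
  · intro hmax x'' hq hp hspec
    obtain ⟨w'', hw''⟩ := exists_fiberι_eq (pullback.snd f g) x'' s' hq
    have hsp1 : w'' ⤳ w' := by
      refine ((pullback.snd f g).fiberι s').isEmbedding.isInducing.specializes_iff.mp ?_
      rw [hw'', hx']
      exact hspec
    have hφ : φ f g s' w'' = φ f g s' w' := by
      apply (f.fiberι (g s')).isEmbedding.injective
      rw [fiberι_φ, fiberι_φ, hw'', hx', hp]
    obtain ⟨t'', ht''⟩ := exists_fiberι_eq (φ f g s') w'' (φ f g s' w') hφ
    have hsp2 : t'' ⤳ t := by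
      refine ((φ f g s').fiberι (φ f g s' w')).isEmbedding.isInducing.specializes_iff.mp ?_
      rw [ht'', htw]
      exact hsp1
    have := hmax t'' hsp2
    rw [← hw'', ← ht'', this, htw, hx']
  · intro hmax t'' hspec
    have hsp1 : (φ f g s').fiberι (φ f g s' w') t'' ⤳ w' := by
      have := hspec.map ((φ f g s').fiberι (φ f g s' w')).continuous
      rwa [htw] at this
    set w'' := (φ f g s').fiberι (φ f g s' w') t'' with hw''
    have hsp2 : (pullback.snd f g).fiberι s' w'' ⤳ x' := by
      have := hsp1.map ((pullback.snd f g).fiberι s').continuous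
      rwa [hx'] at this
    have hq : pullback.snd f g ((pullback.snd f g).fiberι s' w'') = s' :=
      Groth.Agent.Lib.Helper10.FibStalk.fiberι_apply_eq (pullback.snd f g) s' w''
    have hφ : φ f g s' w'' = φ f g s' w' :=
      Groth.Agent.Lib.Helper10.FibStalk.fiberι_apply_eq (φ f g s') (φ f g s' w') t''
    have hp : pullback.fst f g ((pullback.snd f g).fiberι s' w'') = pullback.fst f g x' := by
      rw [← fiberι_φ, hφ, fiberι_φ, hx']
    have h2 := hmax _ hq hp hsp2
    have h3 : w'' = w' := by
      apply ((pullback.snd f g).fiberι s').isEmbedding.injective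
      rw [h2, hx']
    apply ((φ f g s').fiberι (φ f g s' w')).isEmbedding.injective
    rw [← hw'', h3, htw]

/-- EGA IV 3.3.6-type: relative associated points after base change. -/
theorem relAss_baseChange_iff :
    Curv2.IsAssPoint
        ((Scheme.Modules.pullback ((pullback.snd f g).fiberι ((pullback.snd f g) x'))).obj
          ((Scheme.Modules.pullback (pullback.fst f g)).obj F))
        ((pullback.snd f g).asFiber x') ↔
      Curv2.IsAssPoint ((Scheme.Modules.pullback (f.fiberι (f ((pullback.fst f g) x')))).obj F)
          (f.asFiber ((pullback.fst f g) x')) ∧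
        ∀ x'' : ↥(pullback f g), (pullback.snd f g) x'' = (pullback.snd f g) x' →
          (pullback.fst f g) x'' = (pullback.fst f g) x' → x'' ⤳ x' → x'' = x' := by
  rw [isAssPoint_fiber_iff, isAssPoint_fiber_iff, Scheme.Hom.fiberι_asFiber,
    Scheme.Hom.fiberι_asFiber, fibAss_pullback_iff, fibAssRing_φ_iff]

end Main

end Groth.Agent.Lib.Seat11.RelAss
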