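import Mathlib
import Groth.Agent.Lib.Seat11AssLen
import Groth.Agent.Lib.Helper2Ass
set_option backward.isDefEq.respectTransparency.types false

/-!
# Supports of `f^*E ⊗ F` and of fibres via stalks (seat 11)

No Noetherian hypotheses.
-/

set_option autoImplicit false
set_option linter.style.haveILetI false
set_option linter.unusedSectionVars false
universe u
open CategoryTheory AlgebraicGeometry TopologicalSpace Opposite TensorProduct

namespace Groth.Agent.Lib.Seat11.SuppStalk

section Ring

/-- Support of a localized module: `q ∈ Supp_{R'} N' ↔ q ∩ R ∈ Supp_R N`. -/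
theorem mem_support_localized_iff {R R' : Type u} [CommRing R] [CommRing R'] [Algebra R R']
    (S : Submonoid R) [IsLocalization S R']
    {N N' : Type u} [AddCommGroup N] [Module R N] [AddCommGroup N'] [Module R N'] [Module R' N']
    [IsScalarTower R R' N'] (g : N →ₗ[R] N') [IsLocalizedModule S g] (q : PrimeSpectrum R') :
    q ∈ Module.support R' N' ↔ q.comap (algebraMap R R') ∈ Module.support R N := by
  rw [Module.mem_support_iff', Module.mem_support_iff']
  constructor
  · rintro ⟨n', hn'⟩
    obtain ⟨⟨m, s⟩, rfl⟩ := IsLocalizedModule.mk'_surjective S g n'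
    refine ⟨m, fun r hr h0 => ?_⟩
    apply hn' (algebraMap R R' r) hr
    show algebraMap R R' r • IsLocalizedModule.mk' g m s = 0
    rw [algebraMap_smul, ← IsLocalizedModule.mk'_smul, h0, IsLocalizedModule.mk'_zero]
  · rintro ⟨m, hm⟩
    refine ⟨g m, fun t ht h0 => ?_⟩
    obtain ⟨r, s, rfl⟩ := IsLocalization.exists_mk'_eq S t
    have hr : algebraMap R R' r ∉ q.asIdeal := by
      intro hr
      apply ht
      rw [← IsLocalization.mk'_spec' R' r s] at hr
      exact (q.isPrime.mem_or_mem hr).resolve_left (fun hs =>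
        q.isPrime.ne_top (Ideal.eq_top_of_isUnit_mem _ hs (IsLocalization.map_units R' s)))
    have h1 : IsLocalization.mk' R' r s • g m = IsLocalizedModule.mk' g (r • m) s := by
      rw [← IsLocalizedModule.mk'_one S g m, IsLocalizedModule.mk'_smul_mk', mul_one]
    rw [h1, IsLocalizedModule.mk'_eq_zero'] at h0
    obtain ⟨u, hu⟩ := h0
    have h2 : (u : R) * r ∉ (q.comap (algebraMap R R')).asIdeal := by
      intro h2
      have h3 : algebraMap R R' ((u : R) * r) ∈ q.asIdeal := h2
      rw [map_mul] at h3
      rcases q.isPrime.mem_or_mem h3 with h | h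
      · exact q.isPrime.ne_top (Ideal.eq_top_of_isUnit_mem _ h (IsLocalization.map_units R' u))
      · exact hr h
    apply hm _ h2
    rw [mul_smul]
    exact hu

section GoingDown

variable {A B : Type u} [CommRing A] [CommRing B] [Algebra A B]
  {F : Type u} [AddCommGroup F] [Module B F] [Module A F] [IsScalarTower A B F]
  [Module.Finite B F] [Module.Flat A F]

/-- Every prime `p` of `A` with `pF ≠ F` is the contraction of a prime in the support of `F`
(`F` finite over `B`, flat over `A`); no Noetherian hypothesis. -/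
theorem exists_mem_support_comap_eq (p : Ideal A) [p.IsPrime]
    (hne : (p.map (algebraMap A B) • ⊤ : Submodule B F) ≠ ⊤) :
    ∃ q : PrimeSpectrum B, q ∈ Module.support B F ∧ q.asIdeal.comap (algebraMap A B) = p := by
  set I : Ideal B := p.map (algebraMap A B) with hI
  set N' := F ⧸ (I • ⊤ : Submodule B F) with hN'
  have hJ : Module.annihilator B N' ≠ ⊤ := by
    intro htop
    apply hne
    rw [eq_top_iff]
    intro x _
    have h1 : (1 : B) ∈ Module.annihilator B N' := by rw [htop]; trivial
    have h2 := Module.mem_annihilator.mp h1 (Submodule.Quotient.mk x)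
    rw [one_smul, Submodule.Quotient.mk_eq_zero] at h2
    exact h2
  obtain ⟨M, hM, hJM⟩ := Ideal.exists_le_maximal _ hJ
  obtain ⟨Q, hQmin, hQle⟩ := Ideal.exists_minimalPrimes_le hJM
  have hQprime : Q.IsPrime := hQmin.1.1
  have hIann : I ≤ Module.annihilator B N' := by
    intro b hb
    rw [Module.mem_annihilator]
    intro y
    obtain ⟨y, rfl⟩ := Submodule.Quotient.mk_surjective _ y
    rw [← Submodule.Quotient.mk_smul, Submodule.Quotient.mk_eq_zero]
    exact Submodule.smul_mem_smul hb Submodule.mem_top
  refine ⟨⟨Q, hQprime⟩, ?_, ?_⟩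
  · have h1 : (⟨Q, hQprime⟩ : PrimeSpectrum B) ∈ Module.support B N' := by
      rw [Module.mem_support_iff_of_finite]
      exact hQmin.1.2
    exact Module.support_subset_of_surjective _ (Submodule.mkQ_surjective _) h1
  · apply le_antisymm
    · intro a ha
      by_contra hap
      have hax : algebraMap A B a ∈ Q := ha
      obtain ⟨s, k, hs, hk⟩ :=
        Groth.Agent.Lib.Helper2.Ass.exists_mul_pow_mem_of_mem_minimalPrimes hQmin hax
      apply hs
      apply hQmin.1.2
      rw [Module.mem_annihilator]
      intro y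
      obtain ⟨y, rfl⟩ := Submodule.Quotient.mk_surjective _ y
      have h1 := Module.mem_annihilator.mp hk (Submodule.Quotient.mk y)
      rw [← Submodule.Quotient.mk_smul, Submodule.Quotient.mk_eq_zero] at h1 ⊢
      have h2 : a ^ k • (s • y) ∈ (p • ⊤ : Submodule A F) := by
        rw [← Groth.Agent.Lib.Helper28.mem_map_smul_top_iff (R := A) (S := B),
          ← algebraMap_smul B (a ^ k) (s • y), map_pow, smul_smul, mul_comm]
        exact h1
      have hapk : a ^ k ∉ p := fun h => hap (Ideal.IsPrime.mem_of_pow_mem inferInstance k h)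
      have h3 := Groth.Agent.Lib.Seat11.FlatDim.mem_smul_top_of_smul_mem p hapk h2
      rwa [← Groth.Agent.Lib.Helper28.mem_map_smul_top_iff (R := A) (S := B)] at h3
    · intro a ha
      exact hQmin.1.2 (hIann (Ideal.mem_map_of_mem _ ha))

end GoingDown

end Ring

section Scheme

open Groth.Agent.Lib.Seat11.AssStalk Groth.Agent.Lib.Seat11.AssRing Groth.Agent.Lib.Seat11.AssLen
open Groth.Agent.Lib.Helper2.FlatOver

theorem subsingleton_tensor_of_left {R M N : Type*} [CommRing R] [AddCommGroup M] [Module R M]
    [AddCommGroup N] [Module R N] [Subsingleton M] : Subsingleton (M ⊗[R] N) := by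
  refine subsingleton_of_forall_eq 0 (fun t => ?_)
  induction t using TensorProduct.induction_on with
  | zero => rfl
  | tmul m n => rw [Subsingleton.elim m 0, TensorProduct.zero_tmul]
  | add a b ha hb => rw [ha, hb, add_zero]

variable {X Y : Scheme.{u}} (f : X ⟶ Y) (E : Y.Modules) (F : X.Modules) (x : X)

theorem mem_support_iff (M : X.Modules) (x : X) :
    x ∈ CohB1.support M ↔ Nontrivial (M.presheaf.stalk x) :=
  not_subsingleton_iff_nontrivial

/-- `Supp (f^*E ⊗ F) = f⁻¹ (Supp E) ∩ Supp F` for `F` of finite type and flat over `Y`. -/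
theorem mem_support_tensor_pullback_iff
    [F.IsQuasicoherent] [SheafOfModules.IsFiniteType (R := X.ringCatSheaf) F]
    (hflat : FlatMod.IsFlatOverAt f F x) :
    x ∈ CohB1.support (CohB1.tensorMod ((Scheme.Modules.pullback f).obj E) F) ↔
      f x ∈ CohB1.support E ∧ x ∈ CohB1.support F := by
  letI := algStalk f x
  letI := FlatMod.moduleStalkOver f F x
  haveI := isScalarTower_stalk f F x
  haveI : IsLocalHom (algebraMap (Y.presheaf.stalk (f x)) (X.presheaf.stalk x)) :=
    inferInstanceAs (IsLocalHom (f.stalkMap x).hom)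
  haveI : Module.Flat (Y.presheaf.stalk (f x)) (F.presheaf.stalk x) := hflat
  haveI : Module.Finite (X.presheaf.stalk x) (F.presheaf.stalk x) :=
    Groth.Agent.Lib.Helper2.FibreCrit.finite_stalk F x
  rw [mem_support_iff, mem_support_iff, mem_support_iff,
    (stalkTensorPullbackEquiv f E F x).toEquiv.nontrivial_congr]
  constructor
  · intro h
    have hF : Nontrivial (F.presheaf.stalk x) := by
      by_contra hF
      rw [not_nontrivial_iff_subsingleton] at hF
      haveI := hF
      exact not_subsingleton _ (subsingleton_tensor_of_left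
        (R := Y.presheaf.stalk (f x)) (M := F.presheaf.stalk x) (N := E.presheaf.stalk (f x)))
    haveI := hF
    haveI := faithfullyFlat_of_finite (A := Y.presheaf.stalk (f x)) (B := X.presheaf.stalk x)
      (F.presheaf.stalk x)
    exact ⟨(Module.FaithfullyFlat.nontrivial_tensorProduct_iff_right _ _).1 h, hF⟩
  · rintro ⟨hE, hF⟩
    haveI := hF
    haveI := faithfullyFlat_of_finite (A := Y.presheaf.stalk (f x)) (B := X.presheaf.stalk x)
      (F.presheaf.stalk x)
    exact (Module.FaithfullyFlat.nontrivial_tensorProduct_iff_right _ _).2 hE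

/-- The support of the restriction of `F` to a fibre. -/
theorem mem_support_fiber_iff
    [F.IsQuasicoherent] [SheafOfModules.IsFiniteType (R := X.ringCatSheaf) F]
    (y : Y) (z : ↥(f.fiber y)) :
    z ∈ CohB1.support ((Scheme.Modules.pullback (f.fiberι y)).obj F) ↔
      f.fiberι y z ∈ CohB1.support F := by
  letI := algStalk (f.fiberι y) z
  haveI : Module.Finite (X.presheaf.stalk (f.fiberι y z)) (F.presheaf.stalk (f.fiberι y z)) :=
    Groth.Agent.Lib.Helper2.FibreCrit.finite_stalk F _
  have hsurj := surjective_stalkMap_fiberι f y z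
  rw [mem_support_iff, mem_support_iff,
    (stalkPullbackEquiv (f.fiberι y) F z).toEquiv.nontrivial_congr,
    (baseChangeSurjEquiv hsurj _).toEquiv.nontrivial_congr,
    Submodule.Quotient.nontrivial_iff]
  constructor
  · intro h
    by_contra hF
    rw [not_nontrivial_iff_subsingleton] at hF
    haveI := hF
    exact h (Subsingleton.elim _ _)
  · intro hF htop
    haveI := hF
    have hle : RingHom.ker (algebraMap (X.presheaf.stalk (f.fiberι y z))
        ((f.fiber y).presheaf.stalk z)) ≤ (⊥ : Ideal (X.presheaf.stalk (f.fiberι y z))).jacobson := by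
      rw [IsLocalRing.jacobson_eq_maximalIdeal ⊥ bot_ne_top, ker_stalkMap_fiberι f y z]
      exact IsLocalRing.map_maximalIdeal_le _
    have := Submodule.eq_bot_of_le_smul_of_le_jacobson_bot _ _
      (Module.Finite.fg_top (R := X.presheaf.stalk (f.fiberι y z))
        (M := F.presheaf.stalk (f.fiberι y z))) htop.ge hle
    exact top_ne_bot this

/-- The generization `fromSpecStalk x q` lies in the support of `M` iff `q ∈ Supp M_x`. -/
theorem mem_support_fromSpecStalk_iff (M : X.Modules) [M.IsQuasicoherent]
    (x : X) (q : Spec (X.presheaf.stalk x)) :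
    X.fromSpecStalk x q ∈ CohB1.support M ↔
      q ∈ Module.support (X.presheaf.stalk x) (M.presheaf.stalk x) := by
  obtain ⟨_, ⟨U, hU, rfl⟩, hxU, -⟩ :=
    X.isBasis_affineOpens.exists_subset_of_mem_open (Set.mem_univ x) isOpen_univ
  have hU : IsAffineOpen U := hU
  set ξ : X := X.fromSpecStalk x q with hξ
  set y₀ : Spec Γ(X, U) := Spec.map (X.presheaf.germ U x hxU) q with hy₀
  have hξ' : ξ = hU.fromSpec y₀ := by
    rw [hξ, ← hU.fromSpecStalk_eq_fromSpecStalk hxU]
    rfl
  have hξU : ξ ∈ U := by
    rw [hξ']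
    have : hU.fromSpec y₀ ∈ Set.range hU.fromSpec := ⟨y₀, rfl⟩
    rw [hU.range_fromSpec] at this
    exact this
  have hprime : hU.primeIdealOf ⟨ξ, hξU⟩ = y₀ := by
    apply hU.fromSpec.isOpenEmbedding.injective
    rw [hU.fromSpec_primeIdealOf ⟨ξ, hξU⟩]
    exact hξ'
  have h1 : ξ ∈ CohB1.support M ↔
      hU.primeIdealOf ⟨ξ, hξU⟩ ∈ Module.support Γ(X, U) Γ(M, U) := by
    letI alg : Algebra Γ(X, U) (X.presheaf.stalk ξ) := X.presheaf.algebra_section_stalk ⟨ξ, hξU⟩
    letI := moduleStalkSections M U ξ hξU
    haveI := isLocalizedModule_germ hU M ξ hξU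
    rw [mem_support_iff, Module.mem_support_iff]
    exact (IsLocalizedModule.iso (hU.primeIdealOf ⟨ξ, hξU⟩).asIdeal.primeCompl
      (germₗ M U ξ hξU)).toEquiv.nontrivial_congr.symm
  have h2 : q ∈ Module.support (X.presheaf.stalk x) (M.presheaf.stalk x) ↔
      y₀ ∈ Module.support Γ(X, U) Γ(M, U) := by
    letI alg : Algebra Γ(X, U) (X.presheaf.stalk x) := X.presheaf.algebra_section_stalk ⟨x, hxU⟩
    letI := moduleStalkSections M U x hxU
    haveI loc : IsLocalization.AtPrime (X.presheaf.stalk x) (hU.primeIdealOf ⟨x, hxU⟩).asIdeal :=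
      hU.isLocalization_stalk ⟨x, hxU⟩
    haveI := isLocalizedModule_germ hU M x hxU
    haveI : IsScalarTower Γ(X, U) (X.presheaf.stalk x) (M.presheaf.stalk x) := by
      refine ⟨fun r a y => ?_⟩
      change (X.presheaf.germ U x hxU r * a) • y = X.presheaf.germ U x hxU r • (a • y)
      rw [mul_smul]
    exact mem_support_localized_iff (hU.primeIdealOf ⟨x, hxU⟩).asIdeal.primeCompl
      (germₗ M U x hxU) q
  rw [h1, h2, hprime]
  exact Iff.rfl

/-- Going-down for the support of a finite type module flat over the base. -/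
theorem exists_generization_mem_support
    [F.IsQuasicoherent] [SheafOfModules.IsFiniteType (R := X.ringCatSheaf) F]
    (hflat : FlatMod.IsFlatOverAt f F x) (hx : x ∈ CohB1.support F) (w : Y) (hw : w ⤳ f x) :
    ∃ x' : X, x' ⤳ x ∧ x' ∈ CohB1.support F ∧ f x' = w := by
  letI := algStalk f x
  letI := FlatMod.moduleStalkOver f F x
  haveI := isScalarTower_stalk f F x
  haveI : IsLocalHom (algebraMap (Y.presheaf.stalk (f x)) (X.presheaf.stalk x)) :=
    inferInstanceAs (IsLocalHom (f.stalkMap x).hom)
  haveI : Module.Flat (Y.presheaf.stalk (f x)) (F.presheaf.stalk x) := hflat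
  haveI : Module.Finite (X.presheaf.stalk x) (F.presheaf.stalk x) :=
    Groth.Agent.Lib.Helper2.FibreCrit.finite_stalk F x
  haveI : Nontrivial (F.presheaf.stalk x) := (mem_support_iff F x).1 hx
  have hr : w ∈ Set.range (Y.fromSpecStalk (f x)) := by
    rw [Scheme.range_fromSpecStalk]
    exact hw
  obtain ⟨p, rfl⟩ := hr
  have hne : (p.asIdeal.map (algebraMap (Y.presheaf.stalk (f x)) (X.presheaf.stalk x)) • ⊤ :
      Submodule (X.presheaf.stalk x) (F.presheaf.stalk x)) ≠ ⊤ := by
    intro htop
    have hle : p.asIdeal.map (algebraMap (Y.presheaf.stalk (f x)) (X.presheaf.stalk x)) ≤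
        (⊥ : Ideal (X.presheaf.stalk x)).jacobson := by
      rw [IsLocalRing.jacobson_eq_maximalIdeal ⊥ bot_ne_top]
      exact (Ideal.map_mono (IsLocalRing.le_maximalIdeal p.isPrime.ne_top)).trans
        (IsLocalRing.map_maximalIdeal_le _)
    have := Submodule.eq_bot_of_le_smul_of_le_jacobson_bot _ _
      (Module.Finite.fg_top (R := X.presheaf.stalk x) (M := F.presheaf.stalk x)) htop.ge hle
    exact top_ne_bot this
  haveI := p.isPrime
  obtain ⟨q, hq, hqc⟩ := exists_mem_support_comap_eq (A := Y.presheaf.stalk (f x))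
    (B := X.presheaf.stalk x) (F := F.presheaf.stalk x) p.asIdeal hne
  have hsq := Scheme.SpecMap_stalkMap_fromSpecStalk (f := f) (x := x)
  have hf : f (X.fromSpecStalk x q) = Y.fromSpecStalk (f x) (Spec.map (f.stalkMap x) q) := by
    rw [← Scheme.Hom.comp_apply, ← Scheme.Hom.comp_apply, hsq]
  refine ⟨X.fromSpecStalk x q, ?_, (mem_support_fromSpecStalk_iff F x q).2 hq, ?_⟩
  · have : X.fromSpecStalk x q ∈ Set.range (X.fromSpecStalk x) := ⟨q, rfl⟩
    rw [Scheme.range_fromSpecStalk] at this
    exact this
  · rw [hf]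
    have h2 : Spec.map (f.stalkMap x) q = p := PrimeSpectrum.ext hqc
    rw [h2]

end Scheme

end Groth.Agent.Lib.Seat11.SuppStalk
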