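import Mathlib
import Groth.Agent.Lib.Helper5RLR
import Groth.Agent.Lib.Helper28RegLoc
import Groth.Agent.Lib.Helper5FFR

/-!
# Regular local rings are unique factorisation domains (Auslander–Buchsbaum) (seat 12)

* `invertible_of_locally_principal`: a nonzero ideal of a domain which is principal near every maximal ideal is an
  invertible module.
* `exists_local_generator`: a minimal prime over a nonzero principal ideal is principal near a prime `𝔮` with `R_𝔮` factorial.
* `isPrincipal_of_map_away`: Nagata descent of principality along inverting a prime element.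
* `ufd_of_isRegularLocalRing`: a regular local ring is a UFD (induction on the dimension; uses the prior
  library: regular local rings are domains, Serre's theorem on localizations, `Pic (R_f) = 0`).
-/

set_option autoImplicit false
set_option linter.style.haveILetI false
universe u

namespace Groth.Agent.Lib.Seat12.RegUFD

open IsLocalRing

/-- **Local criterion for invertibility of an ideal in a domain**: a nonzero ideal `P` such that at every
maximal ideal `𝔫` there are `π ∈ P` and `s ∉ 𝔫` with `s • P ⊆ (π)` is an invertible module. -/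
theorem invertible_of_locally_principal {S : Type u} [CommRing S] [IsDomain S] (P : Ideal S)
    (hP : P ≠ ⊥)
    (h : ∀ 𝔫 : Ideal S, 𝔫.IsMaximal → ∃ π ∈ P, ∃ s : S, s ∉ 𝔫 ∧ ∀ y ∈ P, s * y ∈ Ideal.span {π}) :
    Module.Invertible S P := by
  let K := FractionRing S
  let I : Submodule S K := Submodule.map (Algebra.linearMap S K) P
  have hmemI : ∀ y : K, y ∈ I ↔ ∃ y₀ ∈ P, algebraMap S K y₀ = y := by
    intro y
    simp [I, Submodule.mem_map]
  have hle : I * (1 / I) ≤ 1 := Submodule.mul_one_div_le_one
  have hone : (1 : K) ∈ I * (1 / I) := by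
    let 𝔞 : Ideal S := Submodule.comap (Algebra.linearMap S K) (I * (1 / I))
    have h𝔞 : 𝔞 = ⊤ := by
      by_contra hne
      obtain ⟨𝔫, h𝔫, hle𝔫⟩ := Ideal.exists_le_maximal 𝔞 hne
      obtain ⟨π, hπP, s, hs𝔫, hsP⟩ := h 𝔫 h𝔫
      have hs0 : s ≠ 0 := fun h0 => hs𝔫 (h0 ▸ 𝔫.zero_mem)
      have hπ0 : π ≠ 0 := by
        rintro rfl
        apply hP
        rw [eq_bot_iff]
        intro y hy
        have := hsP y hy
        rw [Ideal.mem_span_singleton, zero_dvd_iff] at this
        rcases mul_eq_zero.mp this with h1 | h1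
        · exact absurd h1 hs0
        · simp [h1]
      have hπK : algebraMap S K π ≠ 0 := by
        simpa using hπ0
      have hk : algebraMap S K s / algebraMap S K π ∈ (1 / I : Submodule S K) := by
        rw [Submodule.mem_div_iff_forall_mul_mem]
        intro y hy
        obtain ⟨y₀, hy₀, rfl⟩ := (hmemI y).mp hy
        obtain ⟨c, hc⟩ := Ideal.mem_span_singleton.mp (hsP y₀ hy₀)
        rw [Submodule.mem_one]
        refine ⟨c, ?_⟩
        rw [div_mul_eq_mul_div, ← map_mul, hc, map_mul]
        exact (eq_div_iff hπK).mpr (mul_comm _ _)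
      have hs𝔞 : s ∈ 𝔞 := by
        change algebraMap S K s ∈ I * (1 / I)
        have h1 : algebraMap S K s = algebraMap S K π * (algebraMap S K s / algebraMap S K π) := by
          rw [mul_div_cancel₀ _ hπK]
        rw [h1]
        exact Submodule.mul_mem_mul ((hmemI _).mpr ⟨π, hπP, rfl⟩) hk
      exact hs𝔫 (hle𝔫 hs𝔞)
    have : (1 : S) ∈ 𝔞 := by rw [h𝔞]; trivial
    simpa [𝔞] using this
  have hmul : I * (1 / I) = 1 := by
    apply le_antisymm hle
    rw [Submodule.one_le]
    exact hone
  let u : (Submodule S K)ˣ := Units.mkOfMulEqOne I (1 / I) hmul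
  have hinv : Module.Invertible S (u : Submodule S K) := inferInstance
  have e : P ≃ₗ[S] I :=
    Submodule.equivMapOfInjective (Algebra.linearMap S K) (IsFractionRing.injective S K) P
  haveI : Module.Invertible S I := hinv
  exact Module.Invertible.congr e.symm

/-- If `R_𝔮` is a UFD and `P ⊆ 𝔮` is a finitely generated minimal prime over a nonzero principal ideal, then
`P` is principal near `𝔮`: there are `p ∈ P`, `s ∉ 𝔮` with `s P ⊆ (p)`. -/
theorem exists_local_generator {R : Type u} [CommRing R] [IsDomain R] (𝔮 : Ideal R) [𝔮.IsPrime]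
    (hT : UniqueFactorizationMonoid (Localization.AtPrime 𝔮)) {a : R} (ha : a ≠ 0)
    (P : Ideal R) (hP : P ∈ (Ideal.span {a}).minimalPrimes) (hPq : P ≤ 𝔮) (hfg : P.FG) :
    ∃ p ∈ P, ∃ s : R, s ∉ 𝔮 ∧ ∀ y ∈ P, s * y ∈ Ideal.span {p} := by
  classical
  let T := Localization.AtPrime 𝔮
  have hinj : Function.Injective (algebraMap R T) :=
    IsLocalization.injective T 𝔮.primeCompl_le_nonZeroDivisors
  haveI hPprime : P.IsPrime := hP.1.1
  have haP : a ∈ P := hP.1.2 (Ideal.mem_span_singleton_self a)
  have hdisj : Disjoint (𝔮.primeCompl : Set R) (P : Set R) := by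
    rw [Set.disjoint_left]
    intro x hx hxP
    exact hx (hPq hxP)
  let PT : Ideal T := P.map (algebraMap R T)
  haveI hPT : PT.IsPrime := IsLocalization.isPrime_of_isPrime_disjoint 𝔮.primeCompl T P hPprime hdisj
  have hcomap : PT.comap (algebraMap R T) = P :=
    IsLocalization.under_map_of_isPrime_disjoint 𝔮.primeCompl T hPprime hdisj
  have haT : algebraMap R T a ≠ 0 := fun h0 => ha (hinj (by rw [h0, map_zero]))
  have haPT : algebraMap R T a ∈ PT := Ideal.mem_map_of_mem _ haP
  obtain ⟨f, hfprime, hfassoc⟩ := UniqueFactorizationMonoid.exists_prime_factors _ haT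
  have hfPT : f.prod ∈ PT := by
    obtain ⟨u, hu⟩ := hfassoc.symm
    rw [← hu]
    exact PT.mul_mem_right _ haPT
  obtain ⟨π, hπf, hπPT⟩ := (Ideal.IsPrime.multiset_prod_mem_iff_exists_mem hPT f).mp hfPT
  have hπprime : Prime π := hfprime π hπf
  have hπa : π ∣ algebraMap R T a := (Multiset.dvd_prod hπf).trans hfassoc.dvd
  let P₀ : Ideal R := (Ideal.span {π}).comap (algebraMap R T)
  haveI : (Ideal.span {π}).IsPrime := (Ideal.span_singleton_prime hπprime.ne_zero).mpr hπprime
  have hP₀prime : P₀.IsPrime := Ideal.comap_isPrime _ _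
  have haP₀ : Ideal.span {a} ≤ P₀ := by
    rw [Ideal.span_singleton_le_iff_mem]
    change algebraMap R T a ∈ Ideal.span {π}
    exact Ideal.mem_span_singleton.mpr hπa
  have hP₀P : P₀ ≤ P := by
    intro x hx
    rw [← hcomap]
    change algebraMap R T x ∈ PT
    have hx' : algebraMap R T x ∈ Ideal.span {π} := hx
    exact ((Ideal.span_singleton_le_iff_mem PT).mpr hπPT) hx'
  have hPP₀ : P ≤ P₀ := hP.2 ⟨hP₀prime, haP₀⟩ hP₀P
  obtain ⟨⟨p₀, t⟩, hp₀t⟩ := IsLocalization.surj 𝔮.primeCompl π
  -- hp₀t : π * algebraMap t = algebraMap p₀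
  have hp₀P : p₀ ∈ P := by
    apply hP₀P
    change algebraMap R T p₀ ∈ Ideal.span {π}
    rw [← hp₀t]
    exact Ideal.mul_mem_right _ _ (Ideal.mem_span_singleton_self π)
  have key : ∀ y ∈ P, ∃ s : R, s ∉ 𝔮 ∧ s * y ∈ Ideal.span {p₀} := by
    intro y hy
    have hy' : algebraMap R T y ∈ Ideal.span {π} := hPP₀ hy
    obtain ⟨c, hc⟩ := Ideal.mem_span_singleton.mp hy'
    obtain ⟨⟨r, t'⟩, hrt'⟩ := IsLocalization.surj 𝔮.primeCompl c
    refine ⟨(t : R) * (t' : R), 𝔮.primeCompl.mul_mem t.2 t'.2, ?_⟩
    rw [Ideal.mem_span_singleton]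
    refine ⟨r, hinj ?_⟩
    simp only [map_mul]
    rw [hc, ← hp₀t, ← hrt']
    ring
  obtain ⟨G, hG⟩ := hfg
  choose! sfun hsfun using key
  have hGP : ∀ g ∈ G, g ∈ P := fun g hg => hG ▸ Ideal.subset_span hg
  refine ⟨p₀, hp₀P, ∏ g ∈ G, sfun g, ?_, ?_⟩
  · exact 𝔮.primeCompl.prod_mem fun g hg => (hsfun g (hGP g hg)).1
  · intro y hy
    rw [← hG] at hy
    induction hy using Submodule.span_induction with
    | mem g hg =>
      obtain ⟨c, hc⟩ := Finset.dvd_prod_of_mem sfun hg
      rw [hc, mul_comm (sfun g) c, mul_assoc]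
      exact Ideal.mul_mem_left _ _ (hsfun g (hGP g hg)).2
    | zero => simp
    | add y z _ _ hy hz => rw [mul_add]; exact Ideal.add_mem _ hy hz
    | smul r y _ hy =>
      rw [smul_eq_mul, mul_left_comm]
      exact Ideal.mul_mem_left _ _ hy

/-- **Nagata descent** of principality along inverting a prime element. -/
theorem isPrincipal_of_map_away {R : Type u} [CommRing R] [IsDomain R] [IsNoetherianRing R]
    {x : R} (hx : Prime x) (P : Ideal R) [hPprime : P.IsPrime] (hxP : x ∉ P)
    (h : (P.map (algebraMap R (Localization.Away x))).IsPrincipal) : P.IsPrincipal := by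
  let S := Localization.Away x
  have hle : Submonoid.powers x ≤ nonZeroDivisors R :=
    powers_le_nonZeroDivisors_of_noZeroDivisors hx.ne_zero
  have hinj : Function.Injective (algebraMap R S) := IsLocalization.injective S hle
  by_cases hP0 : P = ⊥
  · rw [hP0]; exact bot_isPrincipal
  obtain ⟨g, hg⟩ := h
  have hgmem : g ∈ P.map (algebraMap R S) := by rw [hg]; exact Submodule.mem_span_singleton_self g
  obtain ⟨⟨⟨p, hpP⟩, ⟨_, n, rfl⟩⟩, hpg⟩ :=
    (IsLocalization.mem_map_algebraMap_iff (Submonoid.powers x) S).mp hgmem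
  simp only at hpg
  -- hpg : g * algebraMap (x ^ n) = algebraMap p
  have hp0 : p ≠ 0 := by
    rintro rfl
    apply hP0
    rw [map_zero] at hpg
    have hxn : algebraMap R S (x ^ n) ≠ 0 := fun h0 =>
      pow_ne_zero n hx.ne_zero (hinj (by rw [h0, map_zero]))
    have hg0 : g = 0 := (mul_eq_zero.mp hpg).resolve_right hxn
    rw [eq_bot_iff]
    intro y hy
    have hy' : algebraMap R S y ∈ P.map (algebraMap R S) := Ideal.mem_map_of_mem _ hy
    rw [hg, hg0] at hy'
    have : algebraMap R S y = 0 := by simpa using hy'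
    exact (Ideal.mem_bot).mpr (hinj (by rw [this, map_zero]))
  obtain ⟨k, p', hxp', hpp'⟩ := WfDvdMonoid.max_power_factor hp0 hx.irreducible
  have hp'P : p' ∈ P := by
    rw [hpp'] at hpP
    rcases hPprime.mem_or_mem hpP with h1 | h1
    · exact absurd (hPprime.mem_of_pow_mem k h1) hxP
    · exact h1
  -- cancellation lemma
  have cancel : ∀ (N : ℕ) (z w : R), p' * w = z * x ^ N → p' ∣ z := by
    intro N
    induction N with
    | zero => intro z w h; exact ⟨w, by rw [h]; simp⟩
    | succ N ih =>
      intro z w h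
      have hdvd : x ∣ p' * w := ⟨z * x ^ N, by rw [h, pow_succ]; ring⟩
      rcases hx.dvd_or_dvd hdvd with h1 | h1
      · exact absurd h1 hxp'
      · obtain ⟨w', rfl⟩ := h1
        apply ih z w'
        apply mul_right_cancel₀ hx.ne_zero
        rw [mul_assoc, mul_comm w' x, h, pow_succ]
        ring
  refine ⟨p', le_antisymm ?_ ?_⟩
  · intro z hz
    have hz' : algebraMap R S z ∈ P.map (algebraMap R S) := Ideal.mem_map_of_mem _ hz
    rw [hg] at hz'
    obtain ⟨c, hc⟩ := Submodule.mem_span_singleton.mp hz'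
    obtain ⟨⟨r, ⟨_, m, rfl⟩⟩, hrc⟩ := IsLocalization.surj (Submonoid.powers x) c
    simp only at hrc
    -- hrc : c * algebraMap (x^m) = algebraMap r ; hc : c • g = algebraMap z
    have hmain : p' * (x ^ k * r) = z * x ^ (m + n) := by
      apply hinj
      have h1 : algebraMap R S p = algebraMap R S (x ^ k) * algebraMap R S p' := by
        rw [← map_mul, hpp']
      simp only [map_mul, map_pow] at h1 hpg hrc ⊢
      rw [← hc, smul_eq_mul]
      calc algebraMap R S p' * (algebraMap R S x ^ k * algebraMap R S r)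
          = (algebraMap R S x ^ k * algebraMap R S p') * algebraMap R S r := by ring
        _ = (g * algebraMap R S x ^ n) * (c * algebraMap R S x ^ m) := by rw [← h1, hpg, hrc]
        _ = c * g * algebraMap R S x ^ (m + n) := by rw [pow_add]; ring
    obtain ⟨w, hw⟩ := cancel (m + n) z (x ^ k * r) hmain
    exact Submodule.mem_span_singleton.mpr ⟨w, by rw [hw, smul_eq_mul, mul_comm]⟩
  · rw [Submodule.span_singleton_le_iff_mem]
    exact hp'P


/-- Auslander–Buchsbaum, by induction on the dimension. -/
theorem ufd_of_isRegularLocalRing_aux (d : ℕ) :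
    ∀ (R : Type u) [CommRing R] [IsRegularLocalRing R] [IsDomain R], ringKrullDim R = d →
      UniqueFactorizationMonoid R := by
  induction d using Nat.strong_induction_on with
  | _ d ih =>
  intro R _ _ _ hd
  rw [UniqueFactorizationMonoid.iff_exists_prime_mem_of_isPrime]
  intro Q hQ0 hQ
  have hQm : Q ≤ maximalIdeal R := IsLocalRing.le_maximalIdeal hQ.ne_top
  have hm0 : maximalIdeal R ≠ ⊥ := fun h => hQ0 (le_bot_iff.mp (h ▸ hQm))
  -- an element of `𝔪 ∖ 𝔪²`
  obtain ⟨x, hxm, hxm2⟩ : ∃ x ∈ maximalIdeal R, x ∉ maximalIdeal R ^ 2 := by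
    by_contra hcon
    push Not at hcon
    apply hm0
    apply Submodule.eq_bot_of_le_smul_of_le_jacobson_bot (maximalIdeal R) _
      (IsNoetherian.noetherian _)
    · intro y hy
      have := hcon y hy
      rwa [pow_two] at this
    · rw [IsLocalRing.jacobson_eq_maximalIdeal ⊥ bot_ne_top]
  have hx0 : x ≠ 0 := fun h => hxm2 (h ▸ zero_mem _)
  have hxle : Ideal.span {x} ≤ maximalIdeal R := (Ideal.span_singleton_le_iff_mem _).mpr hxm
  have hxtop : Ideal.span {x} ≠ ⊤ := fun h => (IsLocalRing.maximalIdeal.isMaximal R).ne_top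
    (top_le_iff.mp (h ▸ hxle))
  haveI : IsLocalRing (R ⧸ Ideal.span {x}) := Groth.Agent.Lib.Helper5.isLocalRing_quotient hxtop
  haveI hreg : IsRegularLocalRing (R ⧸ Ideal.span {x}) :=
    (Groth.Agent.Lib.Helper5.isRegularLocalRing_quotient_span_singleton hxm hxm2).1
  haveI : IsDomain (R ⧸ Ideal.span {x}) :=
    Groth.Agent.Lib.Helper5.isDomain_of_isRegularLocalRing _
  have hxprimeI : (Ideal.span {x}).IsPrime := (Ideal.Quotient.isDomain_iff_prime _).mp inferInstance
  have hxprime : Prime x := (Ideal.span_singleton_prime hx0).mp hxprimeI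
  by_cases hxQ : x ∈ Q
  · exact ⟨x, hxQ, hxprime⟩
  obtain ⟨a, haQ, ha0⟩ := Submodule.exists_mem_ne_zero_of_ne_bot hQ0
  obtain ⟨P, hPmin, hPQ⟩ := Ideal.exists_minimalPrimes_le
    (show Ideal.span {a} ≤ Q from (Ideal.span_singleton_le_iff_mem _).mpr haQ)
  haveI hPprime : P.IsPrime := hPmin.1.1
  have hxP : x ∉ P := fun h => hxQ (hPQ h)
  have haP : a ∈ P := hPmin.1.2 (Ideal.mem_span_singleton_self a)
  have hP0 : P ≠ ⊥ := fun h => ha0 (by rw [h] at haP; exact (Ideal.mem_bot).mp haP)
  have hPprinc : P.IsPrincipal := by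
    apply isPrincipal_of_map_away hxprime P hxP
    have hle : Submonoid.powers x ≤ nonZeroDivisors R :=
      powers_le_nonZeroDivisors_of_noZeroDivisors hx0
    have hinj : Function.Injective (algebraMap R (Localization.Away x)) :=
      IsLocalization.injective _ hle
    haveI : IsDomain (Localization.Away x) :=
      IsLocalization.isDomain_localization hle
    have hP'0 : P.map (algebraMap R (Localization.Away x)) ≠ ⊥ := by
      intro h0
      apply ha0
      have : algebraMap R (Localization.Away x) a ∈ P.map (algebraMap R (Localization.Away x)) :=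
        Ideal.mem_map_of_mem _ haP
      rw [h0, Ideal.mem_bot] at this
      exact hinj (by rw [this, map_zero])
    have hinv : Module.Invertible (Localization.Away x)
        (P.map (algebraMap R (Localization.Away x))) := by
      refine invertible_of_locally_principal _ hP'0 (fun 𝔫 h𝔫 => ?_)
      haveI : 𝔫.IsPrime := h𝔫.isPrime
      let 𝔮 : Ideal R := 𝔫.comap (algebraMap R (Localization.Away x))
      haveI h𝔮prime : 𝔮.IsPrime := Ideal.comap_isPrime _ _
      have hx𝔮 : x ∉ 𝔮 := by
        intro hx𝔮
        have h1 : algebraMap R (Localization.Away x) x ∈ 𝔫 := hx𝔮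
        exact h𝔫.ne_top (Ideal.eq_top_of_isUnit_mem _ h1 (IsLocalization.Away.algebraMap_isUnit x))
      have h𝔮lt : 𝔮 < maximalIdeal R := by
        refine lt_of_le_of_ne (IsLocalRing.le_maximalIdeal h𝔮prime.ne_top) ?_
        intro h
        exact hx𝔮 (h ▸ hxm)
      haveI : IsRegularLocalRing (Localization.AtPrime 𝔮) :=
        Groth.Agent.Lib.Helper28.isRegularLocalRing_localization_of_isRegularLocalRing R 𝔮
      haveI : IsDomain (Localization.AtPrime 𝔮) :=
        IsLocalization.isDomain_localization 𝔮.primeCompl_le_nonZeroDivisors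
      have hdimT : ringKrullDim (Localization.AtPrime 𝔮) = 𝔮.height :=
        IsLocalization.AtPrime.ringKrullDim_eq_height 𝔮 _
      have hlt : 𝔮.height < (maximalIdeal R).height := Ideal.height_strict_mono_of_isPrime h𝔮lt
      have hmd : ((maximalIdeal R).height : WithBot ℕ∞) = d := by
        rw [IsLocalRing.maximalIdeal_height_eq_ringKrullDim, hd]
      have hmd' : (maximalIdeal R).height = d := by
        have := hmd
        exact_mod_cast this
      obtain ⟨e, he⟩ := ENat.ne_top_iff_exists.mp (ne_top_of_lt hlt)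
      have hed : e < d := by
        rw [hmd', ← he] at hlt
        exact_mod_cast hlt
      have hUFD : UniqueFactorizationMonoid (Localization.AtPrime 𝔮) :=
        ih e hed (Localization.AtPrime 𝔮) (by rw [hdimT, ← he]; rfl)
      by_cases hP𝔮 : P ≤ 𝔮
      · obtain ⟨p, hpP, s, hs𝔮, hsP⟩ := exists_local_generator 𝔮 hUFD ha0 P hPmin hP𝔮
          (IsNoetherian.noetherian P)
        refine ⟨algebraMap R _ p, Ideal.mem_map_of_mem _ hpP, algebraMap R _ s, hs𝔮, ?_⟩
        intro y hy
        induction hy using Submodule.span_induction with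
        | mem z hz =>
          obtain ⟨z₀, hz₀, rfl⟩ := hz
          obtain ⟨c, hc⟩ := Ideal.mem_span_singleton.mp (hsP z₀ hz₀)
          rw [Ideal.mem_span_singleton]
          exact ⟨algebraMap R _ c, by rw [← map_mul, ← map_mul, hc]⟩
        | zero => simp
        | add y z _ _ hy hz => rw [mul_add]; exact Ideal.add_mem _ hy hz
        | smul r y _ hy =>
          rw [smul_eq_mul, mul_left_comm]
          exact Ideal.mul_mem_left _ _ hy
      · obtain ⟨p, hpP, hp𝔮⟩ := Set.not_subset.mp hP𝔮
        refine ⟨algebraMap R _ p, Ideal.mem_map_of_mem _ hpP, algebraMap R _ p, hp𝔮, fun y _ => ?_⟩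
        exact Ideal.mem_span_singleton.mpr ⟨y, rfl⟩
    haveI := hinv
    have hfree : Module.Free (Localization.Away x)
        (P.map (algebraMap R (Localization.Away x))) :=
      Groth.Agent.Lib.Helper5.FFR.free_of_invertible_away x _
    obtain ⟨e⟩ := (Module.Invertible.free_iff_linearEquiv
      (R := Localization.Away x) (M := P.map (algebraMap R (Localization.Away x)))).mp hfree
    refine ⟨((e.symm 1 : P.map (algebraMap R (Localization.Away x))) : Localization.Away x), ?_⟩
    apply le_antisymm
    · intro y hy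
      rw [Submodule.mem_span_singleton]
      refine ⟨e ⟨y, hy⟩, ?_⟩
      have h1 : (e ⟨y, hy⟩) • (e.symm 1) = (⟨y, hy⟩ : P.map (algebraMap R (Localization.Away x))) := by
        rw [← map_smul, smul_eq_mul, mul_one, LinearEquiv.symm_apply_apply]
      have h2 := congrArg Subtype.val h1
      simpa using h2
    · rw [Submodule.span_singleton_le_iff_mem]
      exact (e.symm 1).2
  obtain ⟨p, hp⟩ := hPprinc
  have hp' : P = Ideal.span {p} := hp
  have hp0 : p ≠ 0 := by
    rintro rfl
    apply hP0
    rw [hp']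
    simp
  refine ⟨p, hPQ (hp' ▸ Ideal.mem_span_singleton_self p), ?_⟩
  rw [← Ideal.span_singleton_prime hp0, ← hp']
  exact hPprime

/-- **Auslander–Buchsbaum**: a regular local ring is a unique factorisation domain. -/
theorem ufd_of_isRegularLocalRing (R : Type u) [CommRing R] [IsRegularLocalRing R] [IsDomain R] :
    UniqueFactorizationMonoid R := by
  obtain ⟨d, hd⟩ := Groth.Agent.Lib.Helper5.exists_nat_ringKrullDim_eq R
  exact ufd_of_isRegularLocalRing_aux d R hd

end Groth.Agent.Lib.Seat12.RegUFD
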