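import Mathlib

/-!
# Splitting of a quotient by a finite group with a section (ring level)

`φ : A → B` with retraction `σ : B → A`, a finite group `G` acting on `B` from the right through ring
endomorphisms `γ g` fixing `φ A`, with invariants exactly `φ A`.  If the ideals `ker σ` and
`ker (σ ∘ γ g)` are comaximal for `g ≠ 1` (free action), then `b ↦ (σ (γ g b))_g : B → A^G` is bijective.
-/

universe u

namespace Groth.Agent.Lib.Seat12.GalSplit

open Polynomial

section

variable {A B G : Type*} [CommRing A] [CommRing B] [Group G]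
  (φ : A →+* B) (σ : B →+* A) (γ : G → B →+* B)

/-- The comparison map `b ↦ (g ↦ σ (γ g b))`. -/
def Psi : B →+* (G → A) := RingHom.pi fun g => σ.comp (γ g)

@[simp] lemma Psi_apply (b : B) (g : G) : Psi σ γ b g = σ (γ g b) := rfl

/-- The hypotheses: `σ` retracts `φ`, `γ` is a right action fixing `φ A`, invariants are `φ A`. -/
structure Data : Prop where
  sec : ∀ a, σ (φ a) = a
  one : ∀ b, γ 1 b = b
  mul : ∀ g h b, γ (g * h) b = γ h (γ g b)
  inv : ∀ g a, γ g (φ a) = φ a
  range : ∀ b, (∀ g, γ g b = b) → ∃ a, φ a = b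

variable {φ σ γ}

lemma Data.fix_eq (h : Data φ σ γ) {b : B} (hb : ∀ g, γ g b = b) : φ (σ b) = b := by
  obtain ⟨a, rfl⟩ := h.range b hb
  rw [h.sec]

lemma Data.cancel₁ (h : Data φ σ γ) (g : G) (b : B) : γ g (γ g⁻¹ b) = b := by
  rw [← h.mul, _root_.inv_mul_cancel, h.one]

lemma Data.cancel₂ (h : Data φ σ γ) (g : G) (b : B) : γ g⁻¹ (γ g b) = b := by
  rw [← h.mul, _root_.mul_inv_cancel, h.one]

variable [Fintype G]

lemma Data.trace_eq (h : Data φ σ γ) (y : B) :
    ∑ g, γ g y = φ (∑ g, σ (γ g y)) := by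
  have hfix : ∀ k, γ k (∑ g, γ g y) = ∑ g, γ g y := by
    intro k
    rw [map_sum]
    simp_rw [← h.mul]
    exact Fintype.sum_equiv (Equiv.mulRight k) _ _ (fun g => rfl)
  rw [← map_sum σ, h.fix_eq hfix]

lemma Data.isNilpotent_of_mem_ker (h : Data φ σ γ) {b : B} (hb : ∀ g, σ (γ g b) = 0) :
    IsNilpotent b := by
  classical
  set P : B[X] := ∏ g : G, (X - C (γ g b)) with hP
  have hmap : ∀ k, P.map (γ k) = P := by
    intro k
    rw [hP, Polynomial.map_prod]
    simp only [Polynomial.map_sub, Polynomial.map_X, Polynomial.map_C]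
    simp_rw [← h.mul]
    exact Fintype.prod_equiv (Equiv.mulRight k) _ _ (fun g => rfl)
  have hcoeff : ∀ n, φ (σ (P.coeff n)) = P.coeff n := by
    intro n
    apply h.fix_eq
    intro k
    rw [← Polynomial.coeff_map, hmap]
  have hP2 : P.map (φ.comp σ) = P := by
    ext n
    rw [Polynomial.coeff_map, RingHom.comp_apply, hcoeff]
  have hP3 : P.map (φ.comp σ) = X ^ Fintype.card G := by
    rw [hP, Polynomial.map_prod]
    simp only [Polynomial.map_sub, Polynomial.map_X, Polynomial.map_C, RingHom.comp_apply, hb,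
      map_zero, sub_zero, Finset.prod_const, Finset.card_univ]
  have hev : P.eval b = 0 := by
    rw [hP, Polynomial.eval_prod]
    apply Finset.prod_eq_zero (Finset.mem_univ (1 : G))
    simp [h.one]
  refine ⟨Fintype.card G, ?_⟩
  rw [← hP2, hP3] at hev
  simpa using hev

end

section

variable {A B G : Type*} [CommRing A] [CommRing B] [Group G] [Finite G]
  {φ : A →+* B} {σ : B →+* A} {γ : G → B →+* B}

lemma Data.pairwise_coprime (h : Data φ σ γ)
    (hcop : ∀ g : G, g ≠ 1 → RingHom.ker σ ⊔ RingHom.ker (σ.comp (γ g)) = ⊤) :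
    Pairwise (Function.onFun IsCoprime fun g : G => RingHom.ker (σ.comp (γ g))) := by
  intro g k hgk
  have hne : g⁻¹ * k ≠ 1 := by
    intro hh
    apply hgk
    have := congrArg (fun x => g * x) hh
    simpa using this.symm
  have h1 := hcop _ hne
  rw [← Ideal.isCoprime_iff_sup_eq, Ideal.isCoprime_iff_exists] at h1
  obtain ⟨a, ha, b, hb, hab⟩ := h1
  rw [Function.onFun, Ideal.isCoprime_iff_exists]
  refine ⟨γ g⁻¹ a, ?_, γ g⁻¹ b, ?_, ?_⟩
  · rw [RingHom.mem_ker, RingHom.comp_apply, h.cancel₁]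
    exact ha
  · rw [RingHom.mem_ker, RingHom.comp_apply, ← h.mul]
    exact hb
  · rw [← map_add, hab, map_one]

/-- The idempotent cutting out the section. -/
lemma Data.exists_idem (h : Data φ σ γ)
    (hcop : ∀ g : G, g ≠ 1 → RingHom.ker σ ⊔ RingHom.ker (σ.comp (γ g)) = ⊤) :
    ∃ e : B, IsIdempotentElem e ∧ (σ e = 1) ∧ (∀ g : G, g ≠ 1 → σ (γ g e) = 0) ∧
      ∀ g : G, g ≠ 1 → e * γ g e = 0 := by
  classical
  cases nonempty_fintype G
  obtain ⟨x, hx⟩ := Ideal.exists_forall_sub_mem_ideal (h.pairwise_coprime hcop)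
    (fun g : G => if g = 1 then (1 : B) else 0)
  have hx' : Psi σ γ x = (Pi.single (1 : G) (1 : A) : G → A) := by
    ext g
    have := hx g
    rw [RingHom.mem_ker, map_sub, sub_eq_zero] at this
    rw [Psi_apply, ← RingHom.comp_apply, this]
    by_cases hg : g = 1
    · subst hg; simp
    · simp [hg]
  have hnil : ∀ b ∈ RingHom.ker (Psi σ γ), IsNilpotent b := by
    intro b hb
    apply h.isNilpotent_of_mem_ker
    intro g
    have := congrFun (show Psi σ γ b = 0 from hb) g
    simpa using this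
  have hidem : IsIdempotentElem ((Pi.single (1 : G) (1 : A) : G → A)) := by
    unfold IsIdempotentElem
    rw [← Pi.single_mul, mul_one]
  obtain ⟨e, he, hee⟩ := exists_isIdempotentElem_eq_of_ker_isNilpotent (Psi σ γ) hnil _
    ⟨x, hx'⟩ hidem
  have hσ : ∀ g : G, σ (γ g e) = if g = 1 then 1 else 0 := by
    intro g
    have := congrFun hee g
    rw [Psi_apply] at this
    rw [this, Pi.single_apply]
  refine ⟨e, he, ?_, ?_, ?_⟩
  · have := hσ 1
    rwa [h.one, if_pos rfl] at this
  · intro g hg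
    rw [hσ g, if_neg hg]
  · intro g hg
    have hid : IsIdempotentElem (e * γ g e) := he.mul (he.map (γ g))
    have hker : e * γ g e ∈ RingHom.ker (Psi σ γ) := by
      rw [RingHom.mem_ker]
      ext k
      rw [Psi_apply, map_mul, map_mul, ← h.mul, hσ k, hσ (g * k)]
      by_cases hk : k = 1
      · subst hk
        simp [hg]
      · simp [hk]
    obtain ⟨n, hn⟩ := hnil _ hker
    rcases n with _ | n
    · rw [pow_zero] at hn
      have : (e * γ g e) = (e * γ g e) * 1 := (mul_one _).symm
      rw [this, hn, mul_zero]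
    · rw [hid.pow_succ_eq] at hn
      exact hn

theorem Data.bijective (h : Data φ σ γ)
    (hcop : ∀ g : G, g ≠ 1 → RingHom.ker σ ⊔ RingHom.ker (σ.comp (γ g)) = ⊤) :
    Function.Bijective (Psi σ γ) := by
  classical
  cases nonempty_fintype G
  obtain ⟨e, he, he1, heg, horth⟩ := h.exists_idem hcop
  have hσ : ∀ g : G, σ (γ g e) = if g = 1 then 1 else 0 := by
    intro g
    by_cases hg : g = 1
    · subst hg; rw [h.one, he1, if_pos rfl]
    · rw [heg g hg, if_neg hg]
  have hsum : ∑ g : G, γ g e = 1 := by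
    rw [h.trace_eq]
    simp_rw [hσ]
    simp
  constructor
  · rw [injective_iff_map_eq_zero]
    have key : ∀ b : B, (∀ g, σ (γ g b) = 0) → b * e = 0 := by
      intro b hb
      have hc : ∑ g : G, γ g (b * e) = 0 := by
        rw [h.trace_eq]
        simp_rw [map_mul, hb, zero_mul]
        simp
      have : (∑ g : G, γ g (b * e)) * e = b * e := by
        rw [Finset.sum_mul, Fintype.sum_eq_single (1 : G)]
        · rw [h.one, mul_assoc, he.eq]
        · intro g hg
          rw [map_mul, mul_assoc, mul_comm (γ g e) e, horth g hg, mul_zero]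
      rw [← this, hc, zero_mul]
    intro b hb
    have hb' : ∀ g, σ (γ g b) = 0 := by
      intro g
      have := congrFun hb g
      simpa using this
    have h2 : ∀ g : G, b * γ g e = 0 := by
      intro g
      have h3 : γ g⁻¹ b * e = 0 := by
        apply key
        intro k
        rw [← h.mul]
        exact hb' _
      have := congrArg (γ g) h3
      rwa [map_mul, h.cancel₁, map_zero] at this
    calc b = b * ∑ g : G, γ g e := by rw [hsum, mul_one]
      _ = 0 := by rw [Finset.mul_sum]; simp [h2]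
  · intro a
    refine ⟨∑ g : G, φ (a g) * γ g⁻¹ e, ?_⟩
    ext k
    rw [Psi_apply, map_sum, map_sum, Fintype.sum_eq_single k]
    · rw [map_mul, map_mul, h.inv, h.sec, ← h.mul, _root_.inv_mul_cancel, h.one, he1, mul_one]
    · intro g hg
      rw [map_mul, map_mul, ← h.mul, hσ, if_neg, mul_zero]
      intro hh
      apply hg
      have := congrArg (fun x => g * x) hh
      simpa using this.symm

end

section

variable {A B : Type u} {G : Type*} [CommRing A] [CommRing B] [Group G]
  {φ : A →+* B} {σ : B →+* A} {γ : G → B →+* B}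

/-- Freeness on geometric points gives comaximality. -/
theorem Data.coprime_of_geometric (h : Data φ σ γ) (g : G)
    (hg : ∀ (K : Type u) [Field K] [IsAlgClosed K] (ξ : B →+* K),
      (∀ b, ξ (γ g b) = ξ b) → g = 1)
    (hne : g ≠ 1) : RingHom.ker σ ⊔ RingHom.ker (σ.comp (γ g)) = ⊤ := by
  by_contra hne'
  obtain ⟨𝔪, hmax, hle⟩ := Ideal.exists_le_maximal _ hne'
  have h1 : RingHom.ker σ ≤ 𝔪 := le_trans le_sup_left hle
  have h2 : RingHom.ker (σ.comp (γ g)) ≤ 𝔪 := le_trans le_sup_right hle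
  let 𝔫 : Ideal A := 𝔪.comap φ
  have : 𝔫.IsPrime := Ideal.comap_isPrime φ 𝔪
  let K := AlgebraicClosure (FractionRing (A ⧸ 𝔫))
  let ι : A →+* K := (algebraMap (A ⧸ 𝔫) K).comp (Ideal.Quotient.mk 𝔫)
  have hι : ∀ x ∈ 𝔫, ι x = 0 := by
    intro x hx
    show algebraMap (A ⧸ 𝔫) K (Ideal.Quotient.mk 𝔫 x) = 0
    rw [Ideal.Quotient.eq_zero_iff_mem.mpr hx, map_zero]
  apply hne
  apply hg K (ι.comp σ)
  intro b
  show ι (σ (γ g b)) = ι (σ b)
  rw [← sub_eq_zero, ← map_sub]
  apply hι
  show φ (σ (γ g b) - σ b) ∈ 𝔪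
  have e1 : b - φ (σ b) ∈ 𝔪 := by
    apply h1
    rw [RingHom.mem_ker, map_sub, h.sec, sub_self]
  have e2 : b - φ (σ (γ g b)) ∈ 𝔪 := by
    apply h2
    rw [RingHom.mem_ker, RingHom.comp_apply, map_sub, h.inv, map_sub, h.sec, sub_self]
  have : φ (σ (γ g b) - σ b) = (b - φ (σ b)) - (b - φ (σ (γ g b))) := by
    rw [map_sub]; ring
  rw [this]
  exact 𝔪.sub_mem e1 e2

end

end Groth.Agent.Lib.Seat12.GalSplit
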