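import Mathlib

/-!
# Free actions of finite groups on rings: the pseudo-torsor property (ring level)

`A → B` injective, a finite group `G` acting on `B` from the right by `A`-algebra endomorphisms `γ g`
with invariants exactly `A`.  If for `g ≠ 1` the elements `γ g b - b` generate the unit ideal (free
action), then `B ⊗[A] B → G → B`, `a ⊗ b ↦ (a * γ g b)_g` is bijective, and `B` is a finite projective
`A`-module (Chase–Harrison–Rosenberg).
-/

universe u

namespace Groth.Agent.Lib.Seat12.GalTorsor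

open TensorProduct

variable {A B G : Type*} [CommRing A] [CommRing B] [Algebra A B] [Group G]
  (γ : G → B →ₐ[A] B)

/-- The hypotheses: `A → B` injective, `γ` a right action, invariants are `A`. -/
structure Act : Prop where
  inj : Function.Injective (algebraMap A B)
  one : ∀ b, γ 1 b = b
  mul : ∀ g h b, γ (g * h) b = γ h (γ g b)
  range : ∀ b, (∀ g, γ g b = b) → ∃ a, algebraMap A B a = b

/-- The component `a ⊗ b ↦ a * γ g b`. -/
noncomputable def Phi (g : G) : B ⊗[A] B →ₐ[B] B :=
  Algebra.TensorProduct.lift (AlgHom.id B B) (γ g) (fun _ _ => Commute.all _ _)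

@[simp] lemma Phi_tmul (g : G) (a b : B) : Phi γ g (a ⊗ₜ[A] b) = a * γ g b := by
  simp [Phi]

/-- The comparison map `B ⊗[A] B → (G → B)`. -/
noncomputable def PhiAll : B ⊗[A] B →+* (G → B) :=
  RingHom.pi fun g => (Phi γ g : B ⊗[A] B →+* B)

@[simp] lemma PhiAll_apply (t : B ⊗[A] B) (g : G) : PhiAll γ t g = Phi γ g t := rfl

variable {γ}

lemma Act.cancel₁ (h : Act γ) (g : G) (b : B) : γ g (γ g⁻¹ b) = b := by
  rw [← h.mul, _root_.inv_mul_cancel, h.one]

/-- `id ⊗ γ k`. -/
noncomputable def tau (γ : G → B →ₐ[A] B) (k : G) : B ⊗[A] B →ₐ[A] B ⊗[A] B :=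
  Algebra.TensorProduct.map (AlgHom.id A B) (γ k)

lemma Phi_tau (h : Act γ) (g k : G) (t : B ⊗[A] B) :
    Phi γ g (tau γ k t) = Phi γ (k * g) t := by
  induction t using TensorProduct.induction_on with
  | zero => simp
  | tmul a b => simp [tau, h.mul]
  | add x y hx hy => simp only [map_add, hx, hy]

section Free

variable (hfree : ∀ g : G, g ≠ 1 → Ideal.span (Set.range fun b : B => γ g b - b) = ⊤)

include hfree

/-- For `g ≠ 1` there is `ε` with `Φ_1 ε = 1` and `Φ_g ε = 0`. -/
lemma Act.exists_sep (h : Act γ) (g : G) (hg : g ≠ 1) :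
    ∃ ε : B ⊗[A] B, Phi γ 1 ε = 1 ∧ Phi γ g ε = 0 := by
  let D : B ⊗[A] B →ₗ[B] B := (Phi γ g).toLinearMap - (Phi γ 1).toLinearMap
  have hD : (LinearMap.range D : Ideal B) = ⊤ := by
    rw [eq_top_iff, ← hfree g hg, Ideal.span_le]
    rintro _ ⟨b, rfl⟩
    refine ⟨1 ⊗ₜ[A] b, ?_⟩
    simp [D, h.one]
  have h1 : (1 : B) ∈ LinearMap.range D := by rw [hD]; trivial
  obtain ⟨t, ht⟩ := h1
  have ht' : Phi γ g t - Phi γ 1 t = 1 := by simpa [D] using ht
  refine ⟨(Phi γ g t) ⊗ₜ[A] 1 - t, ?_, ?_⟩
  · rw [map_sub, Phi_tmul, map_one, mul_one, ht']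
  · rw [map_sub, Phi_tmul, map_one, mul_one, sub_self]

variable [Finite G] [DecidableEq G]

/-- The separating element: `Φ_g ε = δ_{g,1}`. -/
lemma Act.exists_eps (h : Act γ) :
    ∃ ε : B ⊗[A] B, ∀ g : G, Phi γ g ε = if g = 1 then 1 else 0 := by
  cases nonempty_fintype G
  choose! e he1 heg using fun g : G => h.exists_sep hfree g
  refine ⟨∏ g ∈ Finset.univ.filter (fun g : G => g ≠ 1), e g, ?_⟩
  intro k
  rw [map_prod]
  by_cases hk : k = 1
  · subst hk
    rw [if_pos rfl]
    apply Finset.prod_eq_one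
    intro g hg
    exact he1 g (Finset.mem_filter.mp hg).2
  · rw [if_neg hk]
    apply Finset.prod_eq_zero (i := k)
    · simp [hk]
    · exact heg k hk

end Free

section Main

variable [Fintype G]

/-- the trace `b ↦ ∑ g, γ g b`. -/
noncomputable def tr (γ : G → B →ₐ[A] B) : B →ₗ[A] B := ∑ g : G, (γ g).toLinearMap

lemma tr_apply (b : B) : tr γ b = ∑ g : G, γ g b := by
  simp [tr, LinearMap.sum_apply]

lemma Act.tr_mem (h : Act γ) (b : B) : ∃ a : A, algebraMap A B a = tr γ b := by
  apply h.range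
  intro k
  rw [tr_apply, map_sum]
  simp_rw [← h.mul]
  exact Fintype.sum_equiv (Equiv.mulRight k) _ _ (fun g => rfl)

/-- the trace with values in `A`. -/
noncomputable def Act.trA (h : Act γ) : B →ₗ[A] A :=
  (LinearEquiv.ofInjective (Algebra.linearMap A B) h.inj).symm.toLinearMap ∘ₗ
    (tr γ).codRestrict (LinearMap.range (Algebra.linearMap A B)) (fun b => by
      obtain ⟨a, ha⟩ := h.tr_mem b
      exact ⟨a, ha⟩)

lemma Act.algebraMap_trA (h : Act γ) (b : B) : algebraMap A B (h.trA b) = tr γ b := by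
  set e := LinearEquiv.ofInjective (Algebra.linearMap A B) h.inj
  have h1 : (e (h.trA b) : B) = tr γ b := by
    simp only [Act.trA, LinearMap.coe_comp, LinearEquiv.coe_coe, Function.comp_apply,
      LinearEquiv.apply_symm_apply, LinearMap.codRestrict_apply, e]
  rw [← h1]
  rfl

variable [DecidableEq G] (h : Act γ) (S : Finset (B × B))
  (hS : ∀ g : G, ∑ p ∈ S, p.1 * γ g p.2 = if g = 1 then 1 else 0)

include hS

include h in
lemma Act.dual_basis (b : B) : b = ∑ p ∈ S, tr γ (b * p.2) * p.1 := by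
  simp_rw [tr_apply, Finset.sum_mul, map_mul]
  rw [Finset.sum_comm]
  have : ∀ g : G, ∑ p ∈ S, γ g b * γ g p.2 * p.1 = γ g b * (if g = 1 then 1 else 0) := by
    intro g
    rw [← hS g, Finset.mul_sum]
    refine Finset.sum_congr rfl fun p _ => by ring
  simp_rw [this]
  simp [h.one]

include h in
lemma Act.tensor_eq (t : B ⊗[A] B) :
    t = ∑ p ∈ S, (∑ g : G, Phi γ g t * γ g p.2) ⊗ₜ[A] p.1 := by
  induction t using TensorProduct.induction_on with
  | zero => simp
  | tmul a b =>
    have h1 : ∀ p : B × B, (∑ g : G, Phi γ g (a ⊗ₜ[A] b) * γ g p.2) = h.trA (b * p.2) • a := by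
      intro p
      rw [Algebra.smul_def, h.algebraMap_trA, tr_apply, Finset.sum_mul]
      refine Finset.sum_congr rfl fun g _ => ?_
      rw [Phi_tmul, map_mul]; ring
    simp_rw [h1, TensorProduct.smul_tmul, ← TensorProduct.tmul_sum]
    congr 1
    conv_lhs => rw [h.dual_basis S hS b]
    refine Finset.sum_congr rfl fun p _ => ?_
    rw [Algebra.smul_def, h.algebraMap_trA]
  | add x y hx hy =>
    conv_lhs => rw [hx, hy]
    rw [← Finset.sum_add_distrib]
    refine Finset.sum_congr rfl fun p _ => ?_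
    rw [← TensorProduct.add_tmul, ← Finset.sum_add_distrib]
    congr 1
    refine Finset.sum_congr rfl fun g _ => ?_
    rw [map_add, add_mul]

include h in
lemma Act.injective_PhiAll : Function.Injective (PhiAll γ) := by
  rw [injective_iff_map_eq_zero]
  intro t ht
  have ht' : ∀ g, Phi γ g t = 0 := fun g => congrFun ht g
  rw [h.tensor_eq S hS t]
  simp [ht']

include h in
lemma Act.finite : Module.Finite A B := by
  refine Module.Finite.of_surjective
    (Fintype.linearCombination A (fun p : S => (p.1.1 : B))) ?_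
  intro b
  refine ⟨fun p => h.trA (b * p.1.2), ?_⟩
  rw [Fintype.linearCombination_apply]
  conv_rhs => rw [h.dual_basis S hS b]
  rw [← Finset.sum_coe_sort S (fun p => tr γ (b * p.2) * p.1)]
  refine Finset.sum_congr rfl fun p _ => ?_
  rw [Algebra.smul_def, h.algebraMap_trA]

include h in
lemma Act.projective : Module.Projective A B := by
  let s : (S → A) →ₗ[A] B := Fintype.linearCombination A (fun p : S => (p.1.1 : B))
  let i : B →ₗ[A] (S → A) := LinearMap.pi fun p => h.trA ∘ₗ (LinearMap.mulRight A p.1.2)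
  refine Module.Projective.of_split i s ?_
  ext b
  simp only [LinearMap.coe_comp, Function.comp_apply, LinearMap.id_coe, id_eq, s,
    Fintype.linearCombination_apply]
  conv_rhs => rw [h.dual_basis S hS b]
  rw [← Finset.sum_coe_sort S (fun p => tr γ (b * p.2) * p.1)]
  refine Finset.sum_congr rfl fun p _ => ?_
  simp only [LinearMap.pi_apply, LinearMap.coe_comp, Function.comp_apply,
    LinearMap.mulRight_apply, i]
  rw [Algebra.smul_def, h.algebraMap_trA]

end Main

section Final

variable [Finite G]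

/-- Main theorem: the comparison map is bijective, `B` is finite projective over `A`. -/
theorem Act.main (h : Act γ)
    (hfree : ∀ g : G, g ≠ 1 → Ideal.span (Set.range fun b : B => γ g b - b) = ⊤) :
    Function.Bijective (PhiAll γ) ∧ Module.Finite A B ∧ Module.Projective A B := by
  classical
  cases nonempty_fintype G
  obtain ⟨ε, hε⟩ := h.exists_eps hfree
  obtain ⟨S, hS'⟩ := TensorProduct.exists_finset ε
  have hS : ∀ g : G, ∑ p ∈ S, p.1 * γ g p.2 = if g = 1 then 1 else 0 := by
    intro g
    rw [← hε g, hS', map_sum]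
    refine Finset.sum_congr rfl fun p _ => ?_
    rw [Phi_tmul]
  refine ⟨⟨h.injective_PhiAll S hS, ?_⟩, h.finite S hS, h.projective S hS⟩
  intro c
  refine ⟨∑ k : G, (c k ⊗ₜ[A] 1) * tau γ k⁻¹ ε, ?_⟩
  ext g
  rw [PhiAll_apply, map_sum, Fintype.sum_eq_single g]
  · rw [map_mul, Phi_tmul, map_one, mul_one, Phi_tau h, hε, _root_.inv_mul_cancel, if_pos rfl,
      mul_one]
  · intro k hk
    rw [map_mul, Phi_tau h, hε, if_neg, mul_zero]
    intro hh
    apply hk
    have := congrArg (fun x => k * x) hh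
    simpa using this.symm

end Final

end Groth.Agent.Lib.Seat12.GalTorsor
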