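import Mathlib
import Groth.Agent.Lib.Seat12GalTorsor

universe u

open CategoryTheory CategoryTheory.Limits TensorProduct

namespace Groth.Agent.Lib.Seat12.GalTorsorCat

open Groth.Agent.Lib.Seat12.GalTorsor

variable {A B P : CommRingCat.{u}} {G : Type*} [Group G] [Finite G]

theorem main (φ : A ⟶ B) (i₁ i₂ : B ⟶ P) (hpo : IsPushout φ φ i₁ i₂)
    (γ : G → (B ⟶ B)) (lam : G → (P ⟶ B))
    (h1 : ∀ g, i₁ ≫ lam g = 𝟙 B) (h2 : ∀ g, i₂ ≫ lam g = γ g)
    (hinj : Function.Injective φ.hom)
    (hone : ∀ b, (γ 1).hom b = b) (hmul : ∀ g h b, (γ (g * h)).hom b = (γ h).hom ((γ g).hom b))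
    (hinv : ∀ g a, (γ g).hom (φ.hom a) = φ.hom a)
    (hrange : ∀ b : B, (∀ g, (γ g).hom b = b) → ∃ a, φ.hom a = b)
    (hfree : ∀ g, g ≠ 1 → Ideal.span (Set.range fun b : B => (γ g).hom b - b) = ⊤) :
    Function.Bijective (fun t : P => fun g => (lam g).hom t) ∧ φ.hom.Flat ∧ φ.hom.Finite := by
  let _ : Algebra A B := φ.hom.toAlgebra
  let γ' : G → B →ₐ[A] B := fun g => { (γ g).hom with commutes' := fun a => hinv g a }
  have hact : Act γ' :=
    { inj := hinj
      one := hone
      mul := hmul
      range := hrange }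
  obtain ⟨hbij, hfin, hproj⟩ := hact.main hfree
  have hpo' := CommRingCat.isPushout_tensorProduct A B B
  have hφ : CommRingCat.ofHom (algebraMap A B) = φ := rfl
  rw [hφ] at hpo'
  let e := hpo'.isoIsPushout _ _ hpo
  have he : ∀ g, e.hom ≫ lam g = CommRingCat.ofHom (Phi γ' g : B ⊗[A] B →+* B) := by
    intro g
    apply hpo'.hom_ext
    · rw [← Category.assoc, hpo'.inl_isoIsPushout_hom, h1]
      ext b
      simp [Phi]
    · rw [← Category.assoc, hpo'.inr_isoIsPushout_hom, h2]
      ext b
      simp [Phi, γ']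
  refine ⟨?_, ?_, ?_⟩
  · have hcomp : (fun t : P => fun g => (lam g).hom t) ∘ e.hom.hom = PhiAll γ' := by
      funext t g
      exact congr($(he g) t)
    have hebij : Function.Bijective e.hom.hom :=
      (ConcreteCategory.isIso_iff_bijective e.hom).mp inferInstance
    have : (fun t : P => fun g => (lam g).hom t) = PhiAll γ' ∘ e.inv.hom := by
      rw [← hcomp]
      funext t
      have ht : e.hom.hom (e.inv.hom t) = t := congr($(e.inv_hom_id) t)
      simp only [Function.comp_apply, ht]
    rw [this]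
    have heinv : Function.Bijective e.inv.hom :=
      (ConcreteCategory.isIso_iff_bijective e.inv).mp inferInstance
    exact hbij.comp heinv
  · show Module.Flat A B
    infer_instance
  · exact hfin

end Groth.Agent.Lib.Seat12.GalTorsorCat
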