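import Mathlib
import Groth.Prelude.Def_SGA1
import Groth.Agent.Lib.Helper5RLR
import Groth.Agent.Lib.Helper5IntDim

/-!
# Kummer algebras `A[T₁,…,T_r]/(Tᵢ^{nᵢ} - fᵢ)` (helper12)

For `A' = SGA1.kummerAlg A f n`:

* `T`, `T_pow`: the classes of the variables, `Tᵢ^{nᵢ} = fᵢ`.
* `isIntegral`: `A'` is integral over `A` (when all `nᵢ ≥ 1`).
* `algebraMap_injective`: `A → A'` is injective for a domain `A`.
* `isLocalRing`, `maximalIdeal_eq`: for local `A` and `fᵢ ∈ 𝔪`, `A'` is local with maximal ideal
  `(T₁,…,T_r) + 𝔪A'`.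
* `isRegularLocalRing`: `A'` is regular local if `A` is and the `fᵢ` are part of a regular system of
  parameters.
* `pres`, `pres_jacobian`: the naive presentation and its Jacobian `∏ nᵢ Tᵢ^{nᵢ-1}`.
* `etale_away`, `etale_localization_of_dvd`, `etale_localization`: étaleness after inverting `∏ fᵢ`.
-/

set_option autoImplicit false
universe u

namespace Groth.Agent.Lib.Seat12.Kummer

open IsLocalRing MvPolynomial

variable (A : Type u) [CommRing A] {r : ℕ} (f : Fin r → A) (n : Fin r → ℕ)

/-- The class of `T_i` in the Kummer algebra. -/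
noncomputable def T (i : Fin r) : SGA1.kummerAlg A f n :=
  Ideal.Quotient.mk _ (X i)

theorem algebraMap_eq_mk (a : A) :
    algebraMap A (SGA1.kummerAlg A f n) a = Ideal.Quotient.mk _ (C a) := rfl

theorem T_pow (i : Fin r) : T A f n i ^ n i = algebraMap A (SGA1.kummerAlg A f n) (f i) := by
  rw [algebraMap_eq_mk, T, ← map_pow, Ideal.Quotient.eq]
  exact Ideal.subset_span ⟨i, rfl⟩

theorem isIntegral_T (hn : ∀ i, 1 ≤ n i) (i : Fin r) : IsIntegral A (T A f n i) := by
  refine ⟨Polynomial.X ^ n i - Polynomial.C (f i),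
    Polynomial.monic_X_pow_sub_C _ (Nat.one_le_iff_ne_zero.mp (hn i)), ?_⟩
  simp [T_pow]

theorem adjoin_range_T : Algebra.adjoin A (Set.range (T A f n)) = ⊤ := by
  have h1 : (Algebra.adjoin A (Set.range (X : Fin r → MvPolynomial (Fin r) A))).map
      (Ideal.Quotient.mkₐ A (Ideal.span (Set.range fun i =>
        (X i : MvPolynomial (Fin r) A) ^ n i - C (f i)))) = ⊤ := by
    rw [MvPolynomial.adjoin_range_X, Algebra.map_top, AlgHom.range_eq_top]
    exact Ideal.Quotient.mkₐ_surjective _ _
  rw [AlgHom.map_adjoin, ← Set.range_comp] at h1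
  exact h1

theorem isIntegral (hn : ∀ i, 1 ≤ n i) : Algebra.IsIntegral A (SGA1.kummerAlg A f n) := by
  have h : Algebra.adjoin A (Set.range (T A f n)) ≤ integralClosure A (SGA1.kummerAlg A f n) :=
    Algebra.adjoin_le (by rintro _ ⟨i, rfl⟩; exact isIntegral_T A f n hn i)
  rw [adjoin_range_T] at h
  exact ⟨fun x => h (Algebra.mem_top)⟩

theorem algebraMap_injective [IsDomain A] (hn : ∀ i, 1 ≤ n i) :
    Function.Injective (algebraMap A (SGA1.kummerAlg A f n)) := by
  let K := AlgebraicClosure (FractionRing A)
  have hroot : ∀ i, ∃ z : K, z ^ n i = algebraMap A K (f i) :=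
    fun i => IsAlgClosed.exists_pow_nat_eq _ (hn i)
  choose z hz using hroot
  let g : SGA1.kummerAlg A f n →ₐ[A] K := Ideal.Quotient.liftₐ _ (MvPolynomial.aeval z) (by
    intro a ha
    have hle : Ideal.span (Set.range fun i =>
        (X i : MvPolynomial (Fin r) A) ^ n i - C (f i)) ≤
        RingHom.ker (MvPolynomial.aeval z : MvPolynomial (Fin r) A →ₐ[A] K) := by
      rw [Ideal.span_le]
      rintro _ ⟨i, rfl⟩
      simp [hz]
    exact hle ha)
  have hinj : Function.Injective (algebraMap A K) := by
    rw [IsScalarTower.algebraMap_eq A (FractionRing A) K]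
    exact (algebraMap (FractionRing A) K).injective.comp (IsFractionRing.injective A _)
  intro a b hab
  apply hinj
  rw [← g.commutes a, ← g.commutes b, hab]

theorem sub_C_constantCoeff_mem (p : MvPolynomial (Fin r) A) :
    p - C (constantCoeff p) ∈ Ideal.span (Set.range (X : Fin r → MvPolynomial (Fin r) A)) := by
  induction p using MvPolynomial.induction_on with
  | C a => simp
  | add p q hp hq =>
    have : p + q - C (constantCoeff (p + q)) =
        (p - C (constantCoeff p)) + (q - C (constantCoeff q)) := by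
      simp only [map_add]; ring
    rw [this]
    exact Ideal.add_mem _ hp hq
  | mul_X p i _ =>
    have : constantCoeff (p * X i) = 0 := by simp
    rw [this, map_zero, sub_zero]
    exact Ideal.mul_mem_left _ _ (Ideal.subset_span ⟨i, rfl⟩)

section Local

variable [IsLocalRing A]

/-- The residue character `A' → k`, `T_i ↦ 0`. -/
noncomputable def chi (hm : ∀ i, f i ∈ maximalIdeal A) (hn : ∀ i, 1 ≤ n i) :
    SGA1.kummerAlg A f n →+* ResidueField A :=
  Ideal.Quotient.lift _ (MvPolynomial.eval₂Hom (residue A) (fun _ => 0)) (by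
    intro a ha
    have hle : Ideal.span (Set.range fun i =>
        (X i : MvPolynomial (Fin r) A) ^ n i - C (f i)) ≤
        RingHom.ker (MvPolynomial.eval₂Hom (residue A) (fun _ : Fin r => (0 : ResidueField A))) := by
      rw [Ideal.span_le]
      rintro _ ⟨i, rfl⟩
      have h0 : (0 : ResidueField A) ^ n i = 0 := zero_pow (Nat.one_le_iff_ne_zero.mp (hn i))
      have h1 : residue A (f i) = 0 := (residue_eq_zero_iff _).mpr (hm i)
      simp [h0, h1]
    exact hle ha)

theorem chi_mk (hm : ∀ i, f i ∈ maximalIdeal A) (hn : ∀ i, 1 ≤ n i)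
    (p : MvPolynomial (Fin r) A) :
    chi A f n hm hn (Ideal.Quotient.mk _ p) = residue A (constantCoeff p) := by
  simp only [chi]
  exact MvPolynomial.eval₂_zero'_apply _ _

theorem chi_surjective (hm : ∀ i, f i ∈ maximalIdeal A) (hn : ∀ i, 1 ≤ n i) :
    Function.Surjective (chi A f n hm hn) := by
  intro x
  obtain ⟨a, rfl⟩ := residue_surjective x
  exact ⟨Ideal.Quotient.mk _ (C a), by rw [chi_mk]; simp⟩

theorem ker_chi_le (hm : ∀ i, f i ∈ maximalIdeal A) (hn : ∀ i, 1 ≤ n i) :
    RingHom.ker (chi A f n hm hn) ≤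
      Ideal.span (Set.range (T A f n)) ⊔
        (maximalIdeal A).map (algebraMap A (SGA1.kummerAlg A f n)) := by
  intro x hx
  obtain ⟨p, rfl⟩ := Ideal.Quotient.mk_surjective x
  rw [RingHom.mem_ker, chi_mk, residue_eq_zero_iff] at hx
  have hp : p = (p - C (constantCoeff p)) + C (constantCoeff p) := by ring
  rw [hp, map_add]
  refine Submodule.add_mem_sup ?_ ?_
  · have := Ideal.mem_map_of_mem (Ideal.Quotient.mk (Ideal.span (Set.range fun i =>
        (X i : MvPolynomial (Fin r) A) ^ n i - C (f i)))) (sub_C_constantCoeff_mem A p)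
    rw [Ideal.map_span, ← Set.range_comp] at this
    exact this
  · rw [← algebraMap_eq_mk]
    exact Ideal.mem_map_of_mem _ hx

theorem le_of_isMaximal (hm : ∀ i, f i ∈ maximalIdeal A) (hn : ∀ i, 1 ≤ n i)
    (N : Ideal (SGA1.kummerAlg A f n)) [N.IsMaximal] :
    Ideal.span (Set.range (T A f n)) ⊔
        (maximalIdeal A).map (algebraMap A (SGA1.kummerAlg A f n)) ≤ N := by
  have := isIntegral A f n hn
  have hmax : (N.comap (algebraMap A (SGA1.kummerAlg A f n))).IsMaximal :=
    Ideal.isMaximal_comap_of_isIntegral_of_isMaximal N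
  have hcomap : N.comap (algebraMap A (SGA1.kummerAlg A f n)) = maximalIdeal A :=
    IsLocalRing.eq_maximalIdeal hmax
  have h2 : (maximalIdeal A).map (algebraMap A (SGA1.kummerAlg A f n)) ≤ N := by
    rw [Ideal.map_le_iff_le_comap, hcomap]
  refine sup_le ?_ h2
  rw [Ideal.span_le]
  rintro _ ⟨i, rfl⟩
  have h3 : T A f n i ^ n i ∈ N := by
    rw [T_pow]
    exact h2 (Ideal.mem_map_of_mem _ (hm i))
  exact (Ideal.IsMaximal.isPrime ‹_›).mem_of_pow_mem _ h3

theorem isLocalRing (hm : ∀ i, f i ∈ maximalIdeal A) (hn : ∀ i, 1 ≤ n i) :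
    IsLocalRing (SGA1.kummerAlg A f n) := by
  have hker : (RingHom.ker (chi A f n hm hn)).IsMaximal :=
    RingHom.ker_isMaximal_of_surjective _ (chi_surjective A f n hm hn)
  refine IsLocalRing.of_unique_max_ideal ⟨RingHom.ker (chi A f n hm hn), hker, ?_⟩
  intro N hN
  have : N.IsMaximal := hN
  exact (hker.eq_of_le hN.ne_top
    ((ker_chi_le A f n hm hn).trans (le_of_isMaximal A f n hm hn N))).symm

theorem maximalIdeal_eq (hm : ∀ i, f i ∈ maximalIdeal A) (hn : ∀ i, 1 ≤ n i)
    [IsLocalRing (SGA1.kummerAlg A f n)] :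
    maximalIdeal (SGA1.kummerAlg A f n) = Ideal.span (Set.range (T A f n)) ⊔
        (maximalIdeal A).map (algebraMap A (SGA1.kummerAlg A f n)) := by
  have hker : (RingHom.ker (chi A f n hm hn)).IsMaximal :=
    RingHom.ker_isMaximal_of_surjective _ (chi_surjective A f n hm hn)
  refine le_antisymm ?_ (le_of_isMaximal A f n hm hn _)
  rw [← IsLocalRing.eq_maximalIdeal hker]
  exact ker_chi_le A f n hm hn

theorem ncard_range_le_fin {α : Type*} {r : ℕ} (g : Fin r → α) : (Set.range g).ncard ≤ r := by
  rw [← Set.image_univ]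
  refine (Set.ncard_image_le Set.finite_univ).trans ?_
  simp [Set.ncard_univ]

end Local

/-- **Regularity of the Kummer algebra** (SGA 1 XIII 5.x). -/
theorem isRegularLocalRing [IsRegularLocalRing A] (hm : ∀ i, f i ∈ maximalIdeal A)
    (hf : LinearIndependent (ResidueField A)
      (fun i => (maximalIdeal A).toCotangent ⟨f i, hm i⟩))
    (hn : ∀ i, 1 ≤ n i) : IsRegularLocalRing (SGA1.kummerAlg A f n) := by
  have := isLocalRing A f n hm hn
  have : IsDomain A := Groth.Agent.Lib.Helper5.isDomain_of_isRegularLocalRing A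
  have := isIntegral A f n hn
  obtain ⟨s, z, hrs, hspan⟩ :=
    Groth.Agent.Lib.Helper5.exists_extension_span_eq_maximalIdeal (fun i => ⟨f i, hm i⟩) hf
  have hdim : ringKrullDim (SGA1.kummerAlg A f n) = ringKrullDim A :=
    Groth.Agent.Lib.Helper5.ringKrullDim_eq_of_isIntegral_of_injective A _
      (algebraMap_injective A f n hn)
  set φ := algebraMap A (SGA1.kummerAlg A f n) with hφ
  have hgen : maximalIdeal (SGA1.kummerAlg A f n) =
      Ideal.span (Set.range (T A f n) ∪ Set.range (fun j => φ (z j))) := by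
    refine le_antisymm ?_ ?_
    · rw [maximalIdeal_eq A f n hm hn, Ideal.span_union]
      refine sup_le le_sup_left ?_
      have hmap : (maximalIdeal A).map φ = (Ideal.span (Set.range fun i => ((z i : A))) ⊔
          Ideal.span (Set.range fun i => f i)).map φ := by
        exact congrArg (Ideal.map φ) hspan.symm
      rw [hmap, Ideal.map_sup, Ideal.map_span, Ideal.map_span]
      refine sup_le ?_ ?_
      · refine le_sup_of_le_right (Ideal.span_mono ?_)
        rintro _ ⟨_, ⟨j, rfl⟩, rfl⟩
        exact ⟨j, rfl⟩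
      · refine le_sup_of_le_left ?_
        rw [Ideal.span_le]
        rintro _ ⟨_, ⟨i, rfl⟩, rfl⟩
        change φ (f i) ∈ _
        rw [hφ, ← T_pow, ← Nat.sub_add_cancel (hn i), pow_succ]
        exact Ideal.mul_mem_left _ _ (Ideal.subset_span ⟨i, rfl⟩)
    · rw [Ideal.span_le, maximalIdeal_eq A f n hm hn]
      rintro x (⟨i, rfl⟩ | ⟨j, rfl⟩)
      · exact Ideal.mem_sup_left (Ideal.subset_span ⟨i, rfl⟩)
      · exact Ideal.mem_sup_right (Ideal.mem_map_of_mem _ (z j).2)
  have hle : (maximalIdeal (SGA1.kummerAlg A f n)).spanFinrank ≤ r + s := by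
    rw [hgen]
    refine (Submodule.spanFinrank_span_le_ncard_of_finite (Set.toFinite _)).trans ?_
    refine (Set.ncard_union_le _ _).trans ?_
    exact Nat.add_le_add (ncard_range_le_fin _) (ncard_range_le_fin _)
  apply IsRegularLocalRing.of_spanFinrank_maximalIdeal_le
  rw [hdim, ← IsRegularLocalRing.spanFinrank_maximalIdeal, ← hrs]
  exact_mod_cast hle

section Etale

/-- The naive pre-submersive presentation of the Kummer algebra. -/
noncomputable def pres :
    Algebra.PreSubmersivePresentation A (SGA1.kummerAlg A f n) (Fin r) (Fin r) :=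
  Algebra.PreSubmersivePresentation.naive
    (v := fun i => (X i : MvPolynomial (Fin r) A) ^ n i - C (f i)) id Function.injective_id

theorem pres_jacobiMatrix :
    (pres A f n).jacobiMatrix =
      Matrix.diagonal (fun i => (n i : MvPolynomial (Fin r) A) * X i ^ (n i - 1)) := by
  ext i j
  rw [pres, Algebra.PreSubmersivePresentation.jacobiMatrix_naive]
  by_cases h : i = j
  · subst h
    simp
  · have h' : j ≠ i := fun e => h e.symm
    simp [h, pderiv_X_of_ne h']

theorem pres_jacobian :
    (pres A f n).jacobian =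
      ∏ i, ((n i : ℕ) : SGA1.kummerAlg A f n) * T A f n i ^ (n i - 1) := by
  classical
  rw [Algebra.PreSubmersivePresentation.jacobian_eq_jacobiMatrix_det, pres_jacobiMatrix,
    Matrix.det_diagonal, map_prod]
  refine Finset.prod_congr rfl fun i _ => ?_
  rw [map_mul, map_natCast, map_pow]
  rfl

/-- If the Jacobian `∏ nᵢ Tᵢ^(nᵢ-1)` becomes a unit in `A'[1/g]`, then `A'[1/g]` is étale
over `A`. -/
theorem etale_away (g : SGA1.kummerAlg A f n)
    (hg : IsUnit (algebraMap (SGA1.kummerAlg A f n) (Localization.Away g) (pres A f n).jacobian)) :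
    Algebra.Etale A (Localization.Away g) := by
  let Q : Algebra.SubmersivePresentation A (Localization.Away g) _ _ :=
    { toPreSubmersivePresentation :=
        .comp (.localizationAway (Localization.Away g) g) (pres A f n),
      jacobian_isUnit := by
        rw [Algebra.PreSubmersivePresentation.comp_jacobian_eq_jacobian_smul_jacobian,
          Algebra.PreSubmersivePresentation.localizationAway_jacobian, Algebra.smul_def]
        exact hg.mul (IsLocalization.Away.algebraMap_isUnit g) }
  have : Algebra.IsStandardSmoothOfRelativeDimension 0 A (Localization.Away g) :=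
    Q.isStandardSmoothOfRelativeDimension (by
      simp only [Algebra.PreSubmersivePresentation.dimension_comp_eq_dimension_add_dimension, Q]
      simp [Algebra.Presentation.dimension])
  infer_instance

/-- Étaleness of the Kummer algebra after inverting an `F` divisible by all `fᵢ`. -/
theorem etale_localization_of_dvd [IsLocalRing A] (hn : ∀ i, 1 ≤ n i)
    (hu : ∀ i, IsUnit ((n i : ℕ) : ResidueField A)) (F : A) (hF : ∀ i, f i ∣ F) :
    letI := (Localization.awayMap (algebraMap A (SGA1.kummerAlg A f n)) F).toAlgebra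
    Algebra.Etale (Localization.Away F)
      (Localization.Away (algebraMap A (SGA1.kummerAlg A f n) F)) := by
  classical
  set φ := algebraMap A (SGA1.kummerAlg A f n) with hφ
  let alg := (Localization.awayMap φ F).toAlgebra
  have hnA : ∀ i, IsUnit ((n i : ℕ) : A) := by
    intro i
    have h := hu i
    rw [← map_natCast (residue A)] at h
    exact isUnit_of_map_unit (residue A) _ h
  have hFu : IsUnit (algebraMap (SGA1.kummerAlg A f n) (Localization.Away (φ F)) (φ F)) :=
    IsLocalization.Away.algebraMap_isUnit _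
  have hTu : ∀ i, IsUnit (algebraMap (SGA1.kummerAlg A f n) (Localization.Away (φ F))
      (T A f n i)) := by
    intro i
    have hdvd : T A f n i ∣ φ F := by
      have h1 : T A f n i ∣ φ (f i) := by
        rw [hφ, ← T_pow]
        exact dvd_pow_self _ (Nat.one_le_iff_ne_zero.mp (hn i))
      exact h1.trans (map_dvd φ (hF i))
    exact isUnit_of_dvd_unit (map_dvd _ hdvd) hFu
  have hJ : IsUnit (algebraMap (SGA1.kummerAlg A f n) (Localization.Away (φ F))
      (pres A f n).jacobian) := by
    rw [pres_jacobian, map_prod, IsUnit.prod_iff]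
    intro i _
    rw [map_mul, map_pow]
    refine IsUnit.mul ?_ ((hTu i).pow _)
    have : ((n i : ℕ) : SGA1.kummerAlg A f n) = φ ((n i : ℕ) : A) := (map_natCast φ _).symm
    rw [this]
    exact ((hnA i).map φ).map _
  have hE : Algebra.Etale A (Localization.Away (φ F)) := etale_away A f n (φ F) hJ
  have tower : IsScalarTower A (Localization.Away F) (Localization.Away (φ F)) := by
    refine IsScalarTower.of_algebraMap_eq fun a => ?_
    change _ = Localization.awayMap φ F (algebraMap A (Localization.Away F) a)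
    rw [Localization.awayMap, IsLocalization.Away.map, IsLocalization.map_eq,
      IsScalarTower.algebraMap_apply A (SGA1.kummerAlg A f n) (Localization.Away (φ F))]
  have hfe : Algebra.FormallyEtale (Localization.Away F) (Localization.Away (φ F)) :=
    Algebra.FormallyEtale.localization_base (R := A) (Submonoid.powers F)
  have hfp0 : Algebra.FinitePresentation A (Localization.Away F) :=
    IsLocalization.Away.finitePresentation F
  have hfp : Algebra.FinitePresentation (Localization.Away F) (Localization.Away (φ F)) :=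
    Algebra.FinitePresentation.of_restrict_scalars_finitePresentation A _ _
  exact ⟨hfe, hfp⟩

/-- **Étaleness of the Kummer algebra after inverting `∏ fᵢ`.** -/
theorem etale_localization [IsLocalRing A] (hn : ∀ i, 1 ≤ n i)
    (hu : ∀ i, IsUnit ((n i : ℕ) : ResidueField A)) :
    letI := (Localization.awayMap (algebraMap A (SGA1.kummerAlg A f n)) (∏ i, f i)).toAlgebra
    Algebra.Etale (Localization.Away (∏ i, f i))
      (Localization.Away (algebraMap A (SGA1.kummerAlg A f n) (∏ i, f i))) :=
  etale_localization_of_dvd A f n hn hu _ (fun i => Finset.dvd_prod_of_mem f (Finset.mem_univ i))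

end Etale

end Groth.Agent.Lib.Seat12.Kummer
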