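import Mathlib
import Groth.Prelude.Def_SGA1
import Groth.Agent.Lib.Seat12Kummer

/-!
# Kummer algebras are tamely ramified along the `f_i` (helper12)

* `tame_core`: abstract criterion.  `A ⊆ B` integral extension of domains (`B` Noetherian), `(f)` a
  prime of `A`, `t ∈ B` with `t^n = f`, `(t)` prime, `n` invertible, `B` generated over `A` by `t` and
  elements whose `m`-th power (`m` invertible) lies in `A ∖ (f)`.  Then every valuation ring of
  `Frac B` dominating `A_(f)` is `B_(t)`; its residue field is separable over `κ(f)` and the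
  ramification index is `n`: `Frac B` is tamely ramified over `A_(f)`.
* `T_not_mem_sq`, `isPrime_span_T`: in the Kummer algebra of a regular local ring along part of a
  regular system of parameters, `(T_i)` is a prime ideal.
* `kummer_tame`: `SGA1.IsTameAlong f (algebraMap A (kummerAlg A f n))`.
-/

set_option autoImplicit false
universe u

namespace Groth.Agent.Lib.Seat12.KummerTame

open IsLocalRing

section core

variable {A B : Type u} [CommRing A] [IsDomain A] [CommRing B] [IsDomain B] [IsNoetherianRing B]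
    [Algebra A B] [Algebra.IsIntegral A B]

theorem tame_core (f : A) [hfp : (Ideal.span {f}).IsPrime] (t : B) (n : ℕ)
    (ht : t ^ n = algebraMap A B f) (ht0 : t ≠ 0) (htp : (Ideal.span {t}).IsPrime)
    (hnu : IsUnit (n : A))
    {ι : Type*} (T : ι → B) (hgen : Algebra.adjoin A (Set.range T) = ⊤)
    (hT : ∀ j, T j = t ∨ ∃ (m : ℕ) (c : A), IsUnit (m : A) ∧ c ∉ Ideal.span {f} ∧
      T j ^ m = algebraMap A B c)
    {L : Type u} [Field L] (ψ : B →+* L) (hψ : Function.Injective ψ)
    (hfrac : ∀ x : L, ∃ b c : B, c ≠ 0 ∧ x * ψ c = ψ b)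
    (g : Localization.AtPrime (Ideal.span {f}) →+* L)
    (hg : ∀ a, g (algebraMap A _ a) = ψ (algebraMap A B a)) :
    EtRam.IsTamelyRamified (Localization.AtPrime (Ideal.span {f})) g := by
  intro V h
  let algRV : Algebra (Localization.AtPrime (Ideal.span {f})) V :=
    (RingHom.codRestrict g V h.1).toAlgebra
  intro hloc
  set R := Localization.AtPrime (Ideal.span {f}) with hR
  have hcoe : ∀ x : R, ((algebraMap R V x : V) : L) = g x := fun x => rfl
  -- `ψ` lands in `V`
  have hBV : ∀ b : B, ψ b ∈ V := by
    intro b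
    have hb : b ∈ Algebra.adjoin A (Set.range T) := by rw [hgen]; trivial
    induction hb using Algebra.adjoin_induction with
    | mem x hx =>
      obtain ⟨j, rfl⟩ := hx
      rcases hT j with hj | ⟨m, c, hm, -, hj⟩
      · rw [hj]
        rw [← ValuationSubring.valuation_le_one_iff]
        have h1 : V.valuation (ψ t) ^ n ≤ 1 := by
          rw [← map_pow, ← map_pow, ht, ← hg, ValuationSubring.valuation_le_one_iff]
          exact h.1 _
        have hn0 : n ≠ 0 := by
          rintro rfl
          simp at hnu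
        exact (pow_le_one_iff hn0).mp h1
      · rw [← ValuationSubring.valuation_le_one_iff]
        have h1 : V.valuation (ψ (T j)) ^ m ≤ 1 := by
          rw [← map_pow, ← map_pow, hj, ← hg, ValuationSubring.valuation_le_one_iff]
          exact h.1 _
        have hm0 : m ≠ 0 := by
          rintro rfl
          simp at hm
        exact (pow_le_one_iff hm0).mp h1
    | algebraMap a => rw [← hg]; exact h.1 _
    | add x y _ _ hx hy => rw [map_add]; exact V.add_mem _ _ hx hy
    | mul x y _ _ hx hy => rw [map_mul]; exact V.mul_mem _ _ hx hy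
  let ψV : B →+* V := RingHom.codRestrict ψ V hBV
  have hψV : ∀ b, ((ψV b : V) : L) = ψ b := fun b => rfl
  have hψVinj : Function.Injective ψV := fun x y hxy => hψ (congrArg Subtype.val hxy)
  have hcomp : ∀ a : A, ψV (algebraMap A B a) = algebraMap R V (algebraMap A R a) := by
    intro a
    apply Subtype.ext
    rw [hψV, hcoe, hg]
  -- the centre of `V` on `B`
  have hmemR : ∀ x : R, algebraMap R V x ∈ maximalIdeal V ↔ x ∈ maximalIdeal R := by
    intro x
    constructor
    · intro hx
      by_contra hxm
      have hu : IsUnit x := by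
        by_contra hu
        exact hxm ((IsLocalRing.mem_maximalIdeal x).mpr hu)
      exact (IsLocalRing.mem_maximalIdeal _).mp hx (hu.map _)
    · intro hx
      rw [ValuationSubring.valuation_lt_one_iff]
      exact h.2 x hx
  set P : Ideal B := (maximalIdeal V).comap ψV with hP
  have hPprime : P.IsPrime := Ideal.comap_isPrime _ _
  have hPA : P.comap (algebraMap A B) = Ideal.span {f} := by
    ext a
    rw [Ideal.mem_comap, hP, Ideal.mem_comap, hcomp, hmemR,
      IsLocalization.AtPrime.to_map_mem_maximal_iff R (Ideal.span {f})]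
  have hn0 : n ≠ 0 := by
    rintro rfl
    simp at hnu
  have htP : t ∈ P := by
    have : t ^ n ∈ P := by
      rw [ht]
      have : f ∈ P.comap (algebraMap A B) := by rw [hPA]; exact Ideal.mem_span_singleton_self f
      exact this
    exact hPprime.mem_of_pow_mem _ this
  have hPt : P = Ideal.span {t} := by
    have hle : Ideal.span {t} ≤ P := (Ideal.span_singleton_le_iff_mem _).mpr htP
    by_contra hne
    have hlt : Ideal.span {t} < P := lt_of_le_of_ne hle (Ne.symm hne)
    have := Ideal.IsIntegral.comap_lt_comap (R := A) hlt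
    rw [hPA] at this
    have hf : f ∈ (Ideal.span {t}).comap (algebraMap A B) := by
      rw [Ideal.mem_comap, ← ht]
      exact Ideal.pow_mem_of_mem _ (Ideal.mem_span_singleton_self t) n (Nat.pos_of_ne_zero hn0)
    exact absurd ((Ideal.span_singleton_le_iff_mem _).mpr hf) (not_le_of_gt this)
  have htnu : ¬ IsUnit t := fun hu => hPprime.ne_top (Ideal.eq_top_of_isUnit_mem _ htP hu)
  have htV : ψV t ∈ maximalIdeal V := htP
  have htV0 : ψV t ≠ 0 := fun h0 => ht0 (hψVinj (h0.trans (map_zero ψV).symm))
  have hunit : ∀ s : B, s ∉ Ideal.span {t} → IsUnit (ψV s) := by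
    intro s hs
    by_contra hu
    exact hs (hPt ▸ (show s ∈ P from (IsLocalRing.mem_maximalIdeal _).mpr hu))
  have hrep : ∀ v : V, ∃ b s : B, s ∉ Ideal.span {t} ∧ v * ψV s = ψV b := by
    intro v
    obtain ⟨b, c, hc, hbc⟩ := hfrac (v : L)
    by_cases hb : b = 0
    · refine ⟨0, 1, ?_, ?_⟩
      · rw [Ideal.mem_span_singleton]; exact fun h => htnu (isUnit_of_dvd_one h)
      · have h0 : (v : L) = 0 := by
          rw [hb, map_zero] at hbc
          rcases mul_eq_zero.mp hbc with h | h
          · exact h
          · exact absurd (hψ (h.trans (map_zero ψ).symm)) hc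
        have hv : v = 0 := Subtype.ext h0
        rw [hv]; simp
    obtain ⟨α, b', hb', rfl⟩ := WfDvdMonoid.max_power_factor' hb htnu
    obtain ⟨β, c', hc', rfl⟩ := WfDvdMonoid.max_power_factor' hc htnu
    have hb'u := hunit b' (by rwa [Ideal.mem_span_singleton])
    have hc's : c' ∉ Ideal.span {t} := by rwa [Ideal.mem_span_singleton]
    have hbcV : v * (ψV t ^ β * ψV c') = ψV t ^ α * ψV b' := by
      apply Subtype.ext
      simp only [MulMemClass.coe_mul, SubmonoidClass.coe_pow, hψV]
      simpa using hbc
    have hαβ : β ≤ α := by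
      by_contra hlt
      rw [not_le] at hlt
      obtain ⟨k, rfl⟩ := Nat.exists_eq_add_of_lt hlt
      have h1 : ψV t ^ α * (v * (ψV t ^ (k + 1) * ψV c')) = ψV t ^ α * ψV b' := by
        rw [← hbcV]; ring
      have hcancel := mul_left_cancel₀ (pow_ne_zero _ htV0) h1
      have h2 : ψV b' ∈ maximalIdeal V := by
        rw [← hcancel]
        apply Ideal.mul_mem_left
        apply Ideal.mul_mem_right
        exact Ideal.pow_mem_of_mem _ htV _ (Nat.succ_pos k)
      exact (IsLocalRing.mem_maximalIdeal _).mp h2 hb'u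
    obtain ⟨k, rfl⟩ := Nat.exists_eq_add_of_le hαβ
    refine ⟨t ^ k * b', c', hc's, ?_⟩
    have h1 : ψV t ^ β * (v * ψV c') = ψV t ^ β * (ψV t ^ k * ψV b') := by
      rw [← mul_assoc (ψV t ^ β) (ψV t ^ k), ← pow_add, ← hbcV]; ring
    rw [map_mul, map_pow]
    exact mul_left_cancel₀ (pow_ne_zero _ htV0) h1
  have hmV : maximalIdeal V = Ideal.span {ψV t} := by
    apply le_antisymm
    · intro v hv
      obtain ⟨b, s, hs, hvs⟩ := hrep v
      have hbP : b ∈ P := by
        show ψV b ∈ maximalIdeal V
        rw [← hvs]; exact Ideal.mul_mem_right _ _ hv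
      rw [hPt, Ideal.mem_span_singleton] at hbP
      obtain ⟨b'', rfl⟩ := hbP
      obtain ⟨us, hus⟩ := hunit s hs
      rw [Ideal.mem_span_singleton]
      refine ⟨ψV b'' * ↑us⁻¹, ?_⟩
      calc v = v * ψV s * ↑us⁻¹ := by rw [← hus, mul_assoc, Units.mul_inv, mul_one]
        _ = ψV t * (ψV b'' * ↑us⁻¹) := by rw [hvs, map_mul]; ring
    · rw [Ideal.span_singleton_le_iff_mem]; exact htV
  have hmR : (maximalIdeal R).map (algebraMap R V) = Ideal.span {ψV t ^ n} := by
    rw [← IsLocalization.AtPrime.map_eq_maximalIdeal (Ideal.span {f}) R, Ideal.map_map,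
      Ideal.map_span, Set.image_singleton, RingHom.comp_apply, ← hcomp, ← ht, map_pow]
  have hram : (maximalIdeal R).ramificationIdx' (maximalIdeal V) = n := by
    apply Ideal.ramificationIdx'_spec
    · rw [hmR, hmV, Ideal.span_singleton_pow]
    · rw [hmR, hmV, Ideal.span_singleton_pow, Ideal.span_singleton_le_span_singleton]
      intro hdvd
      have hnu' : ¬ IsUnit (ψV t) := (IsLocalRing.mem_maximalIdeal _).mp htV
      exact absurd ((pow_dvd_pow_iff htV0 hnu').mp hdvd) (by omega)
  have hunitR : ∀ m : ℕ, IsUnit (m : A) → ((m : ℕ) : ResidueField R) ≠ 0 := by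
    intro m hm
    have := hm.map ((residue R).comp (algebraMap A R))
    rw [map_natCast] at this
    exact this.ne_zero
  refine ⟨?_, ?_⟩
  swap
  · intro p _ hchar hdvd
    rw [hram] at hdvd
    exact hunitR n hnu ((CharP.cast_eq_zero_iff _ p n).mpr hdvd)
  -- separability of the residue field extension
  let ρ : B →+* ResidueField V := (residue V).comp ψV
  have hρA : ∀ a : A, ρ (algebraMap A B a) =
      algebraMap (ResidueField R) (ResidueField V) (residue R (algebraMap A R a)) := by
    intro a
    rw [IsLocalRing.ResidueField.algebraMap_residue, ← hcomp]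
    rfl
  have hρ : ∀ b : B, ρ b ∈ separableClosure (ResidueField R) (ResidueField V) := by
    intro b
    have hb : b ∈ Algebra.adjoin A (Set.range T) := by rw [hgen]; trivial
    induction hb using Algebra.adjoin_induction with
    | mem x hx =>
      obtain ⟨j, rfl⟩ := hx
      rcases hT j with hj | ⟨m, c, hm, hc, hj⟩
      · have : ρ (T j) = 0 := by
          rw [hj]
          exact (residue_eq_zero_iff _).mpr htV
        rw [this]
        exact zero_mem _
      · rw [mem_separableClosure_iff]
        have hc0 : residue R (algebraMap A R c) ≠ 0 := by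
          rw [Ne, residue_eq_zero_iff,
            IsLocalization.AtPrime.to_map_mem_maximal_iff R (Ideal.span {f})]
          exact hc
        have hsep := Polynomial.separable_X_pow_sub_C (residue R (algebraMap A R c))
          (hunitR m hm) hc0
        refine hsep.of_dvd (minpoly.dvd _ _ ?_)
        rw [map_sub, map_pow, Polynomial.aeval_X, Polynomial.aeval_C, ← hρA, ← hj, map_pow,
          sub_self]
    | algebraMap a => rw [hρA]; exact IntermediateField.algebraMap_mem _ _
    | add x y _ _ hx hy => rw [map_add]; exact add_mem hx hy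
    | mul x y _ _ hx hy => rw [map_mul]; exact mul_mem hx hy
  rw [Algebra.isSeparable_def]
  intro x
  obtain ⟨v, rfl⟩ := residue_surjective x
  obtain ⟨b, s, hs, hvs⟩ := hrep v
  have hs0 : ρ s ≠ 0 := by
    show residue V (ψV s) ≠ 0
    rw [Ne, residue_eq_zero_iff]
    exact (IsLocalRing.mem_maximalIdeal _).not.mpr (not_not.mpr (hunit s hs))
  have hx : residue V v = ρ b / ρ s := by
    rw [eq_div_iff hs0]
    show residue V v * residue V (ψV s) = residue V (ψV b)
    rw [← map_mul, hvs]
  rw [← mem_separableClosure_iff, hx]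
  exact div_mem (hρ b) (hρ s)

end core

section kummer

open Groth.Agent.Lib.Seat12.Kummer

theorem range_append {α : Type*} {m k : ℕ} (a : Fin m → α) (b : Fin k → α) :
    Set.range (Fin.append a b) = Set.range a ∪ Set.range b := by
  ext y
  constructor
  · rintro ⟨j, rfl⟩
    refine Fin.addCases (fun i => ?_) (fun i => ?_) j
    · left; exact ⟨i, (Fin.append_left a b i).symm⟩
    · right; exact ⟨i, (Fin.append_right a b i).symm⟩
  · rintro (⟨i, rfl⟩ | ⟨i, rfl⟩)
    · exact ⟨Fin.castAdd k i, Fin.append_left a b i⟩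
    · exact ⟨Fin.natAdd m i, Fin.append_right a b i⟩

variable (A : Type u) [CommRing A] [IsRegularLocalRing A] {r : ℕ} (f : Fin r → A) (n : Fin r → ℕ)

theorem T_mem_maximalIdeal (hm : ∀ i, f i ∈ maximalIdeal A) (hn : ∀ i, 1 ≤ n i)
    [IsLocalRing (SGA1.kummerAlg A f n)] (i : Fin r) :
    T A f n i ∈ maximalIdeal (SGA1.kummerAlg A f n) := by
  rw [maximalIdeal_eq A f n hm hn]
  exact Ideal.mem_sup_left (Ideal.subset_span ⟨i, rfl⟩)

/-- `T_i` is not in the square of the maximal ideal of the Kummer algebra. -/
theorem T_not_mem_sq (hm : ∀ i, f i ∈ maximalIdeal A)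
    (hf : LinearIndependent (ResidueField A)
      (fun i => (maximalIdeal A).toCotangent ⟨f i, hm i⟩))
    (hn : ∀ i, 1 ≤ n i) [IsRegularLocalRing (SGA1.kummerAlg A f n)] (i : Fin r) :
    T A f n i ∉ maximalIdeal (SGA1.kummerAlg A f n) ^ 2 := by
  have : IsDomain A := Groth.Agent.Lib.Helper5.isDomain_of_isRegularLocalRing A
  have := isIntegral A f n hn
  obtain ⟨s, z, hrs, hspan⟩ :=
    Groth.Agent.Lib.Helper5.exists_extension_span_eq_maximalIdeal (fun i => ⟨f i, hm i⟩) hf
  have hdim : ringKrullDim (SGA1.kummerAlg A f n) = ringKrullDim A :=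
    Groth.Agent.Lib.Helper5.ringKrullDim_eq_of_isIntegral_of_injective A _
      (algebraMap_injective A f n hn)
  set φ := algebraMap A (SGA1.kummerAlg A f n) with hφ
  have hgen : maximalIdeal (SGA1.kummerAlg A f n) =
      Ideal.span (Set.range (T A f n) ∪ Set.range (fun j => φ (z j))) := by
    refine le_antisymm ?_ ?_
    · rw [maximalIdeal_eq A f n hm hn, Ideal.span_union]
      refine sup_le le_sup_left ?_
      have hmap : (maximalIdeal A).map φ = (Ideal.span (Set.range fun i => ((z i : A))) ⊔
          Ideal.span (Set.range fun i => f i)).map φ := by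
        exact congrArg (Ideal.map φ) hspan.symm
      rw [hmap, Ideal.map_sup, Ideal.map_span, Ideal.map_span]
      refine sup_le ?_ ?_
      · refine le_sup_of_le_right (Ideal.span_mono ?_)
        rintro _ ⟨_, ⟨j, rfl⟩, rfl⟩
        exact ⟨j, rfl⟩
      · refine le_sup_of_le_left ?_
        rw [Ideal.span_le]
        rintro _ ⟨_, ⟨i, rfl⟩, rfl⟩
        change φ (f i) ∈ _
        rw [hφ, ← T_pow, ← Nat.sub_add_cancel (hn i), pow_succ]
        exact Ideal.mul_mem_left _ _ (Ideal.subset_span ⟨i, rfl⟩)
    · rw [Ideal.span_le, maximalIdeal_eq A f n hm hn]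
      rintro x (⟨i, rfl⟩ | ⟨j, rfl⟩)
      · exact Ideal.mem_sup_left (Ideal.subset_span ⟨i, rfl⟩)
      · exact Ideal.mem_sup_right (Ideal.mem_map_of_mem _ (z j).2)
  have hzm : ∀ j, φ (z j) ∈ maximalIdeal (SGA1.kummerAlg A f n) := by
    intro j
    rw [maximalIdeal_eq A f n hm hn]
    exact Ideal.mem_sup_right (Ideal.mem_map_of_mem _ (z j).2)
  let x : Fin (r + s) → maximalIdeal (SGA1.kummerAlg A f n) :=
    Fin.append (fun i => ⟨T A f n i, T_mem_maximalIdeal A f n hm hn i⟩)
      (fun j => ⟨φ (z j), hzm j⟩)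
  have hx : Ideal.span (Set.range fun k => (x k : SGA1.kummerAlg A f n)) =
      maximalIdeal (SGA1.kummerAlg A f n) := by
    refine Eq.trans ?_ hgen.symm
    congr 1
    have : (fun k => (x k : SGA1.kummerAlg A f n)) =
        Fin.append (fun i => T A f n i) (fun j => φ (z j)) := by
      funext k
      refine Fin.addCases (fun i => ?_) (fun j => ?_) k
      · simp only [x, Fin.append_left]
      · simp only [x, Fin.append_right]
    rw [this, range_append]
  have hd : ringKrullDim (SGA1.kummerAlg A f n) = ((r + s : ℕ) : WithBot ℕ∞) := by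
    rw [hdim, ← IsRegularLocalRing.spanFinrank_maximalIdeal, ← hrs]
  have hli := Groth.Agent.Lib.Helper5.linearIndependent_toCotangent_of_span_eq hd x hx
  have hne := hli.ne_zero (Fin.castAdd s i)
  rw [Ne, Ideal.toCotangent_eq_zero] at hne
  have hxi : (x (Fin.castAdd s i) : SGA1.kummerAlg A f n) = T A f n i := by
    simp only [x, Fin.append_left]
  rw [hxi] at hne
  exact hne

/-- `(T_i)` is a prime ideal of the Kummer algebra. -/
theorem isPrime_span_T (hm : ∀ i, f i ∈ maximalIdeal A)
    (hf : LinearIndependent (ResidueField A)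
      (fun i => (maximalIdeal A).toCotangent ⟨f i, hm i⟩))
    (hn : ∀ i, 1 ≤ n i) (i : Fin r) :
    (Ideal.span {T A f n i} : Ideal (SGA1.kummerAlg A f n)).IsPrime := by
  have hreg : IsRegularLocalRing (SGA1.kummerAlg A f n) := isRegularLocalRing A f n hm hf hn
  have hTm := T_mem_maximalIdeal A f n hm hn i
  have hne : (Ideal.span {T A f n i} : Ideal (SGA1.kummerAlg A f n)) ≠ ⊤ := by
    intro h
    have : Ideal.span {T A f n i} ≤ maximalIdeal (SGA1.kummerAlg A f n) :=
      (Ideal.span_singleton_le_iff_mem _).mpr hTm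
    rw [h] at this
    exact (maximalIdeal.isMaximal _).ne_top (top_le_iff.mp this)
  have hloc : IsLocalRing (SGA1.kummerAlg A f n ⧸ Ideal.span {T A f n i}) :=
    Groth.Agent.Lib.Helper5.isLocalRing_quotient hne
  obtain ⟨hq, -⟩ := Groth.Agent.Lib.Helper5.isRegularLocalRing_quotient_span_singleton hTm
    (T_not_mem_sq A f n hm hf hn i)
  have := Groth.Agent.Lib.Helper5.isDomain_of_isRegularLocalRing
    (SGA1.kummerAlg A f n ⧸ Ideal.span {T A f n i})
  exact (Ideal.Quotient.isDomain_iff_prime _).mp this

theorem f_not_mem_span (hm : ∀ i, f i ∈ maximalIdeal A)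
    (hf : LinearIndependent (ResidueField A)
      (fun i => (maximalIdeal A).toCotangent ⟨f i, hm i⟩))
    {i j : Fin r} (hij : j ≠ i) : f j ∉ Ideal.span {f i} := by
  intro hmem
  obtain ⟨a, ha⟩ := Ideal.mem_span_singleton'.mp hmem
  have h1 := hf.notMem_span_image (s := {i}) (x := j) (by simpa using hij)
  apply h1
  rw [Set.image_singleton, Submodule.mem_span_singleton]
  refine ⟨residue A a, ?_⟩
  have h2 : (⟨f j, hm j⟩ : maximalIdeal A) = a • ⟨f i, hm i⟩ := by
    apply Subtype.ext
    simp only [Submodule.coe_smul, smul_eq_mul]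
    exact ha.symm
  rw [h2, map_smul]
  rfl

theorem kummer_tame [IsDomain A] (hm : ∀ i, f i ∈ maximalIdeal A)
    (hf : LinearIndependent (ResidueField A)
      (fun i => (maximalIdeal A).toCotangent ⟨f i, hm i⟩))
    [∀ i, (Ideal.span {f i}).IsPrime] (hn : ∀ i, 1 ≤ n i)
    (hu : ∀ i, IsUnit ((n i : ℕ) : ResidueField A)) :
    SGA1.IsTameAlong f (algebraMap A (SGA1.kummerAlg A f n)) := by
  intro i q hqp hq
  have hreg : IsRegularLocalRing (SGA1.kummerAlg A f n) := isRegularLocalRing A f n hm hf hn
  have hdom : IsDomain (SGA1.kummerAlg A f n) :=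
    Groth.Agent.Lib.Helper5.isDomain_of_isRegularLocalRing _
  have hint := isIntegral A f n hn
  have hinj := algebraMap_injective A f n hn
  have hq0 : q = ⊥ := Ideal.eq_bot_of_comap_eq_bot hq
  have hunitA : ∀ j, IsUnit ((n j : ℕ) : A) := by
    intro j
    have := hu j
    rw [← map_natCast (residue A)] at this
    exact (isUnit_map_iff (residue A) _).mp this
  have hfi0 : f i ≠ 0 := by
    intro h0
    have := hf.ne_zero i
    apply this
    have : (⟨f i, hm i⟩ : maximalIdeal A) = 0 := Subtype.ext h0
    rw [this, map_zero]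
  have ht0 : T A f n i ≠ 0 := by
    intro h0
    have := T_pow A f n i
    rw [h0, zero_pow (Nat.one_le_iff_ne_zero.mp (hn i))] at this
    exact hfi0 (hinj (this.symm.trans (map_zero _).symm))
  refine tame_core (f i) (T A f n i) (n i) (T_pow A f n i) ht0 (isPrime_span_T A f n hm hf hn i)
    (hunitA i) (T A f n) (adjoin_range_T A f n) ?_ (algebraMap _ q.ResidueField) ?_ ?_ _ ?_
  · intro j
    by_cases hji : j = i
    · left; rw [hji]
    · right
      exact ⟨n j, f j, hunitA j, f_not_mem_span A f hm hf hji, T_pow A f n j⟩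
  · rw [injective_iff_map_eq_zero]
    intro b hb
    have : b ∈ RingHom.ker (algebraMap (SGA1.kummerAlg A f n) q.ResidueField) := hb
    rw [Ideal.ker_algebraMap_residueField, hq0] at this
    exact this
  · intro x
    obtain ⟨⟨b, c⟩, hbc⟩ := IsLocalization.surj (nonZeroDivisors (SGA1.kummerAlg A f n ⧸ q)) x
    obtain ⟨b', rfl⟩ := Ideal.Quotient.mk_surjective b
    obtain ⟨c', hc'⟩ := Ideal.Quotient.mk_surjective (c : SGA1.kummerAlg A f n ⧸ q)
    refine ⟨b', c', ?_, ?_⟩
    · rintro rfl
      rw [map_zero] at hc'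
      exact nonZeroDivisors.coe_ne_zero c hc'.symm
    · simp only at hbc
      rw [← hc'] at hbc
      exact hbc
  · intro a
    exact IsLocalization.lift_eq _ a

end kummer

end Groth.Agent.Lib.Seat12.KummerTame
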