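import Mathlib.AlgebraicGeometry.Modules.Sheaf
import Mathlib.AlgebraicGeometry.IdealSheaf.Subscheme
import Mathlib.Topology.Sheaves.SheafCondition.Sites
import Mathlib.Algebra.Homology.ShortComplex.ExactFunctor
import Mathlib.Algebra.Homology.ShortComplex.Ab
import Groth.Prelude.Def_ClSub2

/-!
# Sections of `O_X`-modules on affine opens (seat 96)

Namespace `Groth.Agent.Lib.Seat96.ModSec`.

* `hom_ext_affine` : two morphisms of `O_X`-modules agreeing on affine opens are equal.
* `isIso_of_bijective_on_affines` : a morphism bijective on sections over affine opens is an isomorphism.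
* `injective_app_of_mono`, `exists_app_eq_of_app_eq_zero` : left exactness of sections (kernels).
* `toSubscheme_app_surjective`, `toSubscheme_app_eq_zero_iff` : `O_X(U) → (O_X/I)(U)` for affine `U`.
* `epi_toSubscheme` : `ClSub.toSubscheme I` is an epimorphism.
-/

set_option autoImplicit false
set_option linter.style.haveILetI false
universe u
open CategoryTheory CategoryTheory.Limits AlgebraicGeometry TopologicalSpace Opposite

namespace Groth.Agent.Lib.Seat96.ModSec

variable {X : Scheme.{u}}

theorem isBasis_range_affine :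
    Opens.IsBasis (Set.range (fun U : X.affineOpens => (U.1 : X.Opens))) := by
  have := X.isBasis_affineOpens
  rwa [← Subtype.range_coe (s := X.affineOpens)] at this

theorem hom_ext_affine {M N : X.Modules} (f g : M ⟶ N)
    (h : ∀ U : X.affineOpens, f.app U.1 = g.app U.1) : f = g := by
  apply (Scheme.Modules.toPresheaf X).map_injective
  exact TopCat.Sheaf.hom_ext (F := M.presheaf) (F' := ⟨N.presheaf, N.isSheaf⟩)
    (B := fun U : X.affineOpens => (U.1 : X.Opens)) isBasis_range_affine (fun U => h U)

theorem isIso_of_bijective_on_affines {M N : X.Modules} (φ : M ⟶ N)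
    (h : ∀ U : X.affineOpens, Function.Bijective (φ.app U.1)) : IsIso φ := by
  let α : (⟨M.presheaf, M.isSheaf⟩ : TopCat.Sheaf Ab X) ⟶ ⟨N.presheaf, N.isSheaf⟩ :=
    ⟨φ.mapPresheaf⟩
  have h1 : IsIso α := TopCat.Sheaf.isIso_iff_isIso_basis
    (B := fun U : X.affineOpens => (U.1 : X.Opens)) isBasis_range_affine fun i =>
    (ConcreteCategory.isIso_iff_bijective _).2 (h i)
  have h2 : IsIso ((Scheme.Modules.toPresheaf X).map φ) := by
    have : IsIso ((TopCat.Sheaf.forget Ab X).map α) := Functor.map_isIso _ α
    exact this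
  exact isIso_of_reflects_iso φ (Scheme.Modules.toPresheaf X)

/-- sections over `V` as a functor to abelian groups -/
noncomputable abbrev secF (V : X.Opens) : X.Modules ⥤ Ab.{u} :=
  Scheme.Modules.toPresheaf X ⋙ (evaluation (Opens X)ᵒᵖ Ab.{u}).obj (op V)

noncomputable instance (V : X.Opens) : PreservesLimits (secF V) := by
  haveI h1 : PreservesLimits (Scheme.Modules.toPresheaf X) := inferInstance
  haveI h2 : PreservesLimits ((evaluation (Opens X)ᵒᵖ Ab.{u}).obj (op V)) := inferInstance
  exact comp_preservesLimits _ _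

theorem injective_app_of_mono {M N : X.Modules} (f : M ⟶ N) [Mono f] (V : X.Opens) :
    Function.Injective (Scheme.Modules.Hom.app f V) := by
  haveI : Mono ((secF V).map f) := inferInstance
  exact (AddCommGrpCat.mono_iff_injective ((secF V).map f)).mp inferInstance

/-- sections of a kernel -/
theorem exists_kernelι_app_eq {M N : X.Modules} (f : M ⟶ N) (V : X.Opens)
    (t : Γ(M, V)) (ht : Scheme.Modules.Hom.app f V t = 0) :
    ∃ r : Γ(kernel f, V), Scheme.Modules.Hom.app (kernel.ι f) V r = t := by
  let E : ShortComplex X.Modules := ShortComplex.mk (kernel.ι f) f (kernel.condition _)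
  have hE : E.Exact := ShortComplex.exact_of_f_is_kernel E (kernelIsKernel f)
  haveI : Mono E.f := inferInstanceAs (Mono (kernel.ι f))
  haveI : (secF (X := X) V).PreservesZeroMorphisms := ⟨fun _ _ => rfl⟩
  have h1 : (E.map (secF V)).Exact :=
    hE.map_of_mono_of_preservesKernel (secF V) inferInstance inferInstance
  rw [ShortComplex.ab_exact_iff] at h1
  exact h1 t ht


section apply
variable {M N K : X.Modules}

theorem comp_app_apply (φ : M ⟶ N) (ψ : N ⟶ K) (U : X.Opens) (x : Γ(M, U)) :
    (φ ≫ ψ).app U x = ψ.app U (φ.app U x) := rfl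

theorem app_congr {φ ψ : M ⟶ N} (h : φ = ψ) (U : X.Opens) (x : Γ(M, U)) :
    φ.app U x = ψ.app U x := by rw [h]

theorem add_app_apply (φ ψ : M ⟶ N) (U : X.Opens) (x : Γ(M, U)) :
    (φ + ψ).app U x = φ.app U x + ψ.app U x := rfl

theorem neg_app_apply (φ : M ⟶ N) (U : X.Opens) (x : Γ(M, U)) :
    (-φ).app U x = -(φ.app U x) := rfl

theorem zero_app_apply (U : X.Opens) (x : Γ(M, U)) :
    (0 : M ⟶ N).app U x = 0 := rfl

theorem id_app_apply (U : X.Opens) (x : Γ(M, U)) :
    (𝟙 M : M ⟶ M).app U x = x := rfl

/-- an element of the sections of a biproduct is determined by its two components -/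
theorem biprod_total_apply (A B : X.Modules) (U : X.Opens) (x : Γ((A ⊞ B : X.Modules), U)) :
    x = (biprod.inl : A ⟶ A ⊞ B).app U ((biprod.fst : A ⊞ B ⟶ A).app U x) +
      (biprod.inr : B ⟶ A ⊞ B).app U ((biprod.snd : A ⊞ B ⟶ B).app U x) := by
  have h := app_congr (biprod.total (X := A) (Y := B)) U x
  rw [add_app_apply, comp_app_apply, comp_app_apply, id_app_apply] at h
  exact h.symm

theorem biprod_ext_apply (A B : X.Modules) (U : X.Opens) (x y : Γ((A ⊞ B : X.Modules), U))
    (h1 : (biprod.fst : A ⊞ B ⟶ A).app U x = (biprod.fst : A ⊞ B ⟶ A).app U y)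
    (h2 : (biprod.snd : A ⊞ B ⟶ B).app U x = (biprod.snd : A ⊞ B ⟶ B).app U y) : x = y := by
  rw [biprod_total_apply A B U x, biprod_total_apply A B U y, h1, h2]

end apply

variable (I : X.IdealSheafData)

theorem toSubscheme_app (V : X.Opens) (a : Γ(X, V)) :
    (ClSub.toSubscheme I).app V (a : Γ(Coh.structureModule X, V)) = (I.subschemeι.app V).hom a := rfl

theorem toSubscheme_app_surjective (U : X.affineOpens) :
    Function.Surjective ((ClSub.toSubscheme I).app U.1) :=
  I.subschemeι_app_surjective U

theorem toSubscheme_app_eq_zero_iff (U : X.affineOpens) (a : Γ(X, U.1)) :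
    (ClSub.toSubscheme I).app U.1 (a : Γ(Coh.structureModule X, U.1)) = 0 ↔ a ∈ I.ideal U := by
  rw [← I.ker_subschemeι_app U, RingHom.mem_ker]
  rfl

instance epi_toSubscheme : Epi (ClSub.toSubscheme I) := by
  refine ⟨fun {T} g h hgh => ?_⟩
  apply hom_ext_affine
  intro U
  ext b
  obtain ⟨a, rfl⟩ := toSubscheme_app_surjective I U b
  have := congr($(congrArg (fun φ => Scheme.Modules.Hom.app φ U.1) hgh) a)
  exact this

end Groth.Agent.Lib.Seat96.ModSec
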