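import Mathlib
import Groth.Prelude.Def_Lef
import Groth.Agent.Lib.Helper20ParaF4
import Groth.Agent.Lib.Seat96ModSec

/-!
# The Lefschetz condition and connectedness (helper12)

`Lef(X, Y)` implies: for an open `U ⊇ Y`, `Y` is connected iff `U` is connected (SGA 2 X 2.x).
-/

set_option autoImplicit false
universe u
open CategoryTheory CategoryTheory.Limits AlgebraicGeometry TopologicalSpace Opposite

namespace Groth.Agent.Lib.Seat12.LefConn

open Groth.Agent.Lib.Helper6 Groth.Agent.Lib.Helper23.SecTw Groth.Agent.Lib.Helper23.GenLocus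
open Groth.Agent.Lib.Helper20.ParaFLib Groth.Agent.Lib.Seat96.ModSec

variable {S : Scheme.{u}}

section glue

variable (M : S.Modules)

/-- separatedness on a cover by two opens -/
theorem eq_of_res_eq₂ {W₁ W₂ V : S.Opens} (h₁ : W₁ ≤ V) (h₂ : W₂ ≤ V) (hcover : V ≤ W₁ ⊔ W₂)
    (s t : Γ(M, V)) (e₁ : res M h₁ s = res M h₁ t) (e₂ : res M h₂ s = res M h₂ t) : s = t :=
  TopCat.Sheaf.eq_of_locally_eq₂ ⟨M.presheaf, M.isSheaf⟩ (homOfLE h₁) (homOfLE h₂) hcover s t e₁ e₂

/-- gluing on a cover by two opens -/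
theorem exists_glue₂ {W₁ W₂ V : S.Opens} (h₁ : W₁ ≤ V) (h₂ : W₂ ≤ V) (hcover : V ≤ W₁ ⊔ W₂)
    (s₁ : Γ(M, W₁)) (s₂ : Γ(M, W₂))
    (h : res M (inf_le_left : W₁ ⊓ W₂ ≤ W₁) s₁ = res M (inf_le_right : W₁ ⊓ W₂ ≤ W₂) s₂) :
    ∃ s : Γ(M, V), res M h₁ s = s₁ ∧ res M h₂ s = s₂ := by
  let Uc : Bool → S.Opens := fun b => if b then W₁ else W₂
  let sf : ∀ b : Bool, Γ(M, Uc b) := fun b => by
    cases b
    · exact s₂
    · exact s₁
  have hle : ∀ b, Uc b ≤ V := by
    intro b; cases b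
    · exact h₂
    · exact h₁
  have hc : V ≤ iSup Uc := by
    refine hcover.trans (sup_le ?_ ?_)
    · exact le_iSup Uc true
    · exact le_iSup Uc false
  have hcompat : TopCat.Presheaf.IsCompatible M.presheaf Uc sf := by
    intro i j
    cases i <;> cases j
    · rfl
    · change res M _ s₂ = res M _ s₁
      have e : W₂ ⊓ W₁ ≤ W₁ ⊓ W₂ := (inf_comm _ _).le
      have h' := congrArg (res M e) h
      rw [res_res, res_res] at h'
      exact h'.symm
    · exact h
    · rfl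
  obtain ⟨s, hs, -⟩ := TopCat.Sheaf.existsUnique_gluing' ⟨M.presheaf, M.isSheaf⟩ Uc V
    (fun b => homOfLE (hle b)) hc sf hcompat
  exact ⟨s, hs true, hs false⟩

end glue

section basic

theorem res_app {M N : S.Modules} (φ : M ⟶ N) {U V : S.Opens} (h : V ≤ U) (x : Γ(M, U)) :
    res N h (φ.app U x) = φ.app V (res M h x) := by
  have := congr($(φ.mapPresheaf.naturality (homOfLE h).op) x)
  exact this.symm

/-- sections of `O/I` over an open missing the support of `I` vanish -/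
theorem subsingleton_quotMod (I : S.IdealSheafData) (W : S.Opens)
    (h : (W : Set S) ∩ I.support = ∅) : Subsingleton Γ(ClSub.quotMod I, W) := by
  have h1 : I.subschemeι ⁻¹ᵁ W = ⊥ := by
    ext x
    simp only [Scheme.Hom.coe_preimage, Set.mem_preimage, SetLike.mem_coe, Opens.coe_bot,
      Set.mem_empty_iff_false, iff_false]
    intro hx
    have : I.subschemeι x ∈ (W : Set S) ∩ I.support := ⟨hx, by
      rw [← I.range_subschemeι]; exact ⟨x, rfl⟩⟩
    rw [h] at this
    exact this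
  show Subsingleton Γ(I.subscheme, I.subschemeι ⁻¹ᵁ W)
  rw [h1]
  infer_instance

/-- if `1` maps to `0` in `Γ(O/I, W)` then `W` misses the support of `I` -/
theorem disjoint_support_of_toSubscheme_one (I : S.IdealSheafData) (W : S.Opens)
    (h : (ClSub.toSubscheme I).app W (toS W 1) = 0) : (W : Set S) ∩ I.support = ∅ := by
  rw [Set.eq_empty_iff_forall_notMem]
  rintro x ⟨hxW, hxI⟩
  obtain ⟨V, hV, hxV, hVW⟩ := Opens.isBasis_iff_nbhd.mp S.isBasis_affineOpens hxW
  have h1 : (ClSub.toSubscheme I).app V (toS V 1) = 0 := by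
    have := congrArg (res (ClSub.quotMod I) hVW) h
    rw [res_app] at this
    rw [res_zero] at this
    convert this using 2
    exact (map_one (S.presheaf.map (homOfLE hVW).op).hom).symm
  have h2 : (1 : Γ(S, V)) ∈ I.ideal ⟨V, hV⟩ :=
    (toSubscheme_app_eq_zero_iff I ⟨V, hV⟩ 1).mp h1
  have h3 : I.ideal ⟨V, hV⟩ = ⊤ := (Ideal.eq_top_iff_one _).mpr h2
  have h4 := (Scheme.IdealSheafData.mem_support_iff_of_mem (I := I) (U := ⟨V, hV⟩) hxV).mp hxI
  rw [h3] at h4
  simp at h4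
  exact h4 hxV

end basic

section quotMap

theorem quotMap_app {I J : S.IdealSheafData} (h : I ≤ J) (U : S.Opens)
    (y : Γ(ClSub.quotMod I, U)) :
    (Lef.quotMap h).app U y =
      ((Scheme.Modules.pushforwardCongr (Scheme.IdealSheafData.inclusion_subschemeι h)).hom.app _).app U
      (((Scheme.Modules.pushforwardComp (Scheme.IdealSheafData.inclusion h) I.subschemeι).hom.app _).app U
      (((Scheme.Modules.pushforward I.subschemeι).map
        (ClSub.unitToPush (Scheme.IdealSheafData.inclusion h))).app U y)) := rfl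

/-- the quotient map `O/I ⟶ O/J` sends the class of `1` to the class of `1` -/
theorem quotMap_app_one {I J : S.IdealSheafData} (h : I ≤ J) (U : S.Opens) :
    (Lef.quotMap h).app U ((ClSub.toSubscheme I).app U (toS U 1)) =
      (ClSub.toSubscheme J).app U (toS U 1) := by
  rw [quotMap_app]
  have h1 : (ClSub.toSubscheme I).app U (toS U 1) = (1 : Γ(I.subscheme, I.subschemeι ⁻¹ᵁ U)) :=
    map_one (I.subschemeι.app U).hom
  have h1' : (ClSub.toSubscheme J).app U (toS U 1) = (1 : Γ(J.subscheme, J.subschemeι ⁻¹ᵁ U)) :=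
    map_one (J.subschemeι.app U).hom
  rw [h1, h1']
  have h2 : ((Scheme.Modules.pushforward I.subschemeι).map
        (ClSub.unitToPush (Scheme.IdealSheafData.inclusion h))).app U
        (1 : Γ(I.subscheme, I.subschemeι ⁻¹ᵁ U)) =
      (1 : Γ(J.subscheme, (Scheme.IdealSheafData.inclusion h) ⁻¹ᵁ (I.subschemeι ⁻¹ᵁ U))) :=
    map_one ((Scheme.IdealSheafData.inclusion h).app (I.subschemeι ⁻¹ᵁ U)).hom
  rw [h2]
  have h3 : ((Scheme.Modules.pushforwardComp (Scheme.IdealSheafData.inclusion h) I.subschemeι).hom.app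
      (Coh.structureModule J.subscheme)).app U
        (1 : Γ(J.subscheme, (Scheme.IdealSheafData.inclusion h) ⁻¹ᵁ (I.subschemeι ⁻¹ᵁ U))) =
      (1 : Γ(J.subscheme, (Scheme.IdealSheafData.inclusion h ≫ I.subschemeι) ⁻¹ᵁ U)) := rfl
  rw [h3]
  have h4 := congr($(Scheme.Modules.pushforwardCongr_hom_app_app (M := Coh.structureModule J.subscheme)
    (Scheme.IdealSheafData.inclusion_subschemeι h) U)
    (1 : Γ(J.subscheme, (Scheme.IdealSheafData.inclusion h ≫ I.subschemeι) ⁻¹ᵁ U)))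
  refine h4.trans ?_
  exact map_one (J.subscheme.presheaf.map _).hom

end quotMap

section lemmaA

variable (𝓙 : S.IdealSheafData)

theorem eq_bot_of_one_eq_zero (W : S.Opens) (h : (1 : Γ(S, W)) = 0) : W = ⊥ := by
  rw [← S.basicOpen_of_isUnit (isUnit_one : IsUnit (1 : Γ(S, W))), h, Scheme.basicOpen_zero]

theorem support_pow_succ_eq (n : ℕ) : ((𝓙 ^ (n + 1)).support : Set S) = 𝓙.support := rfl

/-- **Lemma A**: if `Hom(O, O) → lim Hom(O, O/J^{n+1})` is injective, then a clopen decomposition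
`W₁ ⊔ W₂` of `S` with `Supp(O/J) ⊆ W₁` has `W₂ = ∅`. -/
theorem eq_bot_of_support_le
    (hinj : ∀ φ ψ : Coh.structureModule S ⟶ Coh.structureModule S,
      (∀ n : ℕ, φ ≫ ClSub.toSubscheme (𝓙 ^ (n + 1)) = ψ ≫ ClSub.toSubscheme (𝓙 ^ (n + 1))) → φ = ψ)
    (W₁ W₂ : S.Opens) (hsup : W₁ ⊔ W₂ = ⊤) (hinf : W₁ ⊓ W₂ = ⊥)
    (hsupp : (𝓙.support : Set S) ⊆ W₁) : W₂ = ⊥ := by
  obtain ⟨e, he₁, he₂⟩ := exists_glue₂ (Coh.structureModule S) (le_top : W₁ ≤ ⊤) (le_top : W₂ ≤ ⊤)
    hsup.ge (toS W₁ 0) (toS W₂ 1) (by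
      have hs : Subsingleton Γ(Coh.structureModule S, W₁ ⊓ W₂) := by
        rw [hinf]
        show Subsingleton Γ(S, ⊥)
        infer_instance
      exact Subsingleton.elim _ _)
  have key : secHom (Coh.structureModule S) e = secHom (Coh.structureModule S) 0 := by
    apply hinj
    intro n
    apply hom_ext_of_sv
    rw [sv_comp, sv_comp, sv_top_secHom, sv_top_secHom, map_zero]
    refine eq_of_res_eq₂ _ (le_top : W₁ ≤ ⊤) (le_top : W₂ ≤ ⊤) hsup.ge _ _ ?_ ?_
    · rw [res_app, he₁, res_zero]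
      exact map_zero _
    · have hs : Subsingleton Γ(ClSub.quotMod (𝓙 ^ (n + 1)), W₂) := by
        apply subsingleton_quotMod
        rw [support_pow_succ_eq, Set.eq_empty_iff_forall_notMem]
        rintro x ⟨hx2, hxs⟩
        have : x ∈ W₁ ⊓ W₂ := ⟨hsupp hxs, hx2⟩
        rw [hinf] at this
        exact this
      exact Subsingleton.elim _ _
  have he0 : e = 0 := by
    rw [← sv_top_secHom (Coh.structureModule S) e, key, sv_top_secHom]
  apply eq_bot_of_one_eq_zero
  have : toS W₂ (1 : Γ(S, W₂)) = toS W₂ 0 := by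
    rw [← he₂, he0, res_zero]
    rfl
  exact this

end lemmaA

section lemmaB

variable (𝓙 : S.IdealSheafData)

theorem isUnit_of_basicOpen_eq_top (g : Γ(S, ⊤)) (h : S.basicOpen g = ⊤) : IsUnit g := by
  apply S.toRingedSpace.isUnit_of_isUnit_germ ⊤ g
  intro x hx
  have : x ∈ S.basicOpen g := by rw [h]; trivial
  exact (S.mem_basicOpen g x hx).mp this

/-- an idempotent global function on a scheme without nontrivial clopen decompositions is `0` or
`1` -/
theorem eq_zero_or_one_of_idem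
    (hconn : ∀ W₁ W₂ : S.Opens, W₁ ⊔ W₂ = ⊤ → W₁ ⊓ W₂ = ⊥ → W₁ = ⊥ ∨ W₂ = ⊥)
    (f : Γ(S, ⊤)) (hf : f * f = f) : f = 0 ∨ f = 1 := by
  have hmul : f * (1 - f) = 0 := by rw [mul_sub, mul_one, hf, sub_self]
  have hinf : S.basicOpen f ⊓ S.basicOpen (1 - f) = ⊥ := by
    rw [← Scheme.basicOpen_mul, hmul, Scheme.basicOpen_zero]
  have hsup : S.basicOpen f ⊔ S.basicOpen (1 - f) = ⊤ := by
    rw [eq_top_iff]
    have := S.basicOpen_add_le (f := f) (g := 1 - f)
    rwa [add_sub_cancel, Scheme.basicOpen_one] at this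
  rcases hconn _ _ hsup hinf with h | h
  · left
    rw [h, bot_sup_eq] at hsup
    obtain ⟨u, hu⟩ := isUnit_of_basicOpen_eq_top _ hsup
    have : f * (u : Γ(S, ⊤)) = 0 := by rw [hu]; exact hmul
    calc f = f * u * ↑u⁻¹ := by rw [mul_assoc, Units.mul_inv, mul_one]
      _ = 0 := by rw [this, zero_mul]
  · right
    rw [h, sup_bot_eq] at hsup
    obtain ⟨u, hu⟩ := isUnit_of_basicOpen_eq_top _ hsup
    have h1 : (u : Γ(S, ⊤)) * (1 - f) = 0 := by rw [hu]; exact hmul
    have h2 : 1 - f = 0 := by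
      calc 1 - f = ↑u⁻¹ * (u * (1 - f)) := by rw [← mul_assoc, Units.inv_mul, one_mul]
        _ = 0 := by rw [h1, mul_zero]
    exact (sub_eq_zero.mp h2).symm

/-- **Lemma B**: under the Lefschetz bijectivity for `D = O_S`, if `S` has no nontrivial clopen
decomposition then neither has `Supp(O/J)`. -/
theorem eq_empty_or_eq_empty_of_lef
    (hinj : ∀ φ ψ : Coh.structureModule S ⟶ Coh.structureModule S,
      (∀ n : ℕ, φ ≫ ClSub.toSubscheme (𝓙 ^ (n + 1)) = ψ ≫ ClSub.toSubscheme (𝓙 ^ (n + 1))) → φ = ψ)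
    (hsurj : ∀ y : ∀ n : ℕ, Coh.structureModule S ⟶ ClSub.quotMod (𝓙 ^ (n + 1)),
      Lef.IsFormalHom 𝓙 (Coh.structureModule S) y →
      ∃ φ : Coh.structureModule S ⟶ Coh.structureModule S,
        ∀ n : ℕ, φ ≫ ClSub.toSubscheme (𝓙 ^ (n + 1)) = y n)
    (hconn : ∀ W₁ W₂ : S.Opens, W₁ ⊔ W₂ = ⊤ → W₁ ⊓ W₂ = ⊥ → W₁ = ⊥ ∨ W₂ = ⊥)
    (Y₁ Y₂ : Set S) (hY₁ : IsClosed Y₁) (hY₂ : IsClosed Y₂)
    (hunion : Y₁ ∪ Y₂ = (𝓙.support : Set S)) (hdisj : Y₁ ∩ Y₂ = ∅) :
    Y₁ = ∅ ∨ Y₂ = ∅ := by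
  let W₁ : S.Opens := ⟨Y₂ᶜ, hY₂.isOpen_compl⟩
  let W₂ : S.Opens := ⟨Y₁ᶜ, hY₁.isOpen_compl⟩
  have hcov : (⊤ : S.Opens) ≤ W₁ ⊔ W₂ := by
    intro x _
    by_cases hx : x ∈ Y₂
    · right
      intro hx1
      have : x ∈ Y₁ ∩ Y₂ := ⟨hx1, hx⟩
      rw [hdisj] at this
      exact this
    · left; exact hx
  have hmeet : ∀ n : ℕ, ((W₁ ⊓ W₂ : S.Opens) : Set S) ∩ ((𝓙 ^ (n + 1)).support : Set S) = ∅ := by
    intro n
    rw [support_pow_succ_eq, ← hunion, Set.eq_empty_iff_forall_notMem]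
    rintro x ⟨⟨h1, h2⟩, h3 | h3⟩
    · exact h2 h3
    · exact h1 h3
  have hglue : ∀ n : ℕ, ∃ e : Γ(ClSub.quotMod (𝓙 ^ (n + 1)), ⊤),
      res _ (le_top : W₁ ≤ ⊤) e = (ClSub.toSubscheme (𝓙 ^ (n + 1))).app W₁ (toS W₁ 1) ∧
      res _ (le_top : W₂ ≤ ⊤) e = 0 := by
    intro n
    have hs := subsingleton_quotMod (𝓙 ^ (n + 1)) (W₁ ⊓ W₂) (hmeet n)
    exact exists_glue₂ _ le_top le_top hcov _ _ (Subsingleton.elim _ _)
  choose e he₁ he₂ using hglue
  let y : ∀ n : ℕ, Coh.structureModule S ⟶ ClSub.quotMod (𝓙 ^ (n + 1)) := fun n => secHom _ (e n)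
  have hy : Lef.IsFormalHom 𝓙 (Coh.structureModule S) y := by
    intro n
    apply hom_ext_of_sv
    rw [sv_comp, sv_top_secHom, sv_top_secHom]
    refine eq_of_res_eq₂ _ (le_top : W₁ ≤ ⊤) (le_top : W₂ ≤ ⊤) hcov _ _ ?_ ?_
    · rw [res_app, he₁, he₁]
      exact quotMap_app_one _ W₁
    · rw [res_app, he₂, he₂]
      exact map_zero _
  obtain ⟨φ, hφ⟩ := hsurj y hy
  let f : Γ(S, ⊤) := ofS ⊤ (sv φ ⊤)
  have hfe : ∀ n : ℕ, (ClSub.toSubscheme (𝓙 ^ (n + 1))).app ⊤ (toS ⊤ f) = e n := by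
    intro n
    have := congrArg (fun t => sv t ⊤) (hφ n)
    simp only [sv_comp] at this
    rw [sv_top_secHom] at this
    exact this
  have hsmul : ∀ n : ℕ, f • e n = e n := by
    intro n
    refine eq_of_res_eq₂ _ (le_top : W₁ ≤ ⊤) (le_top : W₂ ≤ ⊤) hcov _ _ ?_ ?_
    · rw [res_smul, he₁, ← Scheme.Modules.Hom.app_smul, smul_toS, mul_one]
      have h1 : toS W₁ (resf (le_top : W₁ ≤ ⊤) f) = res (Coh.structureModule S) le_top (toS ⊤ f) :=
        rfl
      rw [h1, ← res_app, hfe, he₁]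
    · rw [res_smul, he₂, smul_zero]
  have hidem : f * f = f := by
    have key : secHom (Coh.structureModule S) (toS ⊤ (f * f)) =
        secHom (Coh.structureModule S) (toS ⊤ f) := by
      apply hinj
      intro n
      apply hom_ext_of_sv
      rw [sv_comp, sv_comp, sv_top_secHom, sv_top_secHom, ← smul_toS,
        Scheme.Modules.Hom.app_smul, hfe, hsmul]
    have := congrArg (fun t => sv t ⊤) key
    simp only [sv_top_secHom] at this
    exact this
  rcases eq_zero_or_one_of_idem hconn f hidem with hf0 | hf1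
  · left
    have h0 : e 0 = 0 := by
      rw [← hfe, hf0]
      exact map_zero _
    have h1 : (ClSub.toSubscheme (𝓙 ^ (0 + 1))).app W₁ (toS W₁ 1) = 0 := by
      rw [← he₁, h0, res_zero]
    have h2 := disjoint_support_of_toSubscheme_one _ _ h1
    rw [support_pow_succ_eq, ← hunion] at h2
    rw [Set.eq_empty_iff_forall_notMem] at h2 ⊢
    intro x hx
    refine h2 x ⟨?_, Or.inl hx⟩
    intro hx2
    have : x ∈ Y₁ ∩ Y₂ := ⟨hx, hx2⟩
    rw [hdisj] at this
    exact this
  · right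
    have h1 : (ClSub.toSubscheme (𝓙 ^ (0 + 1))).app W₂ (toS W₂ 1) = 0 := by
      have h3 : toS W₂ (1 : Γ(S, W₂)) = res (Coh.structureModule S) le_top (toS ⊤ (1 : Γ(S, ⊤))) :=
        (map_one (S.presheaf.map (homOfLE (le_top : W₂ ≤ ⊤)).op).hom).symm
      rw [h3, ← res_app, ← hf1, hfe, he₂]
    have h2 := disjoint_support_of_toSubscheme_one _ _ h1
    rw [support_pow_succ_eq, ← hunion] at h2
    rw [Set.eq_empty_iff_forall_notMem] at h2 ⊢
    intro x hx
    refine h2 x ⟨?_, Or.inr hx⟩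
    intro hx1
    have : x ∈ Y₁ ∩ Y₂ := ⟨hx1, hx⟩
    rw [hdisj] at this
    exact this

end lemmaB

section final

theorem isFinLocFree_structureModule (S : Scheme.{u}) :
    FlatMod.IsFinLocFree (Coh.structureModule S) := by
  intro x
  exact ⟨⊤, 1, trivial, ⟨Scheme.Modules.restrictUnitIso (⊤ : S.Opens).ι ≪≫
    (Limits.coproductUniqueIso (fun _ : Fin 1 => Coh.structureModule (↑(⊤ : S.Opens) : Scheme.{u}))).symm⟩⟩

/-- connectedness of `S` from connectedness of the support -/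
theorem connectedSpace_of_isConnected_support (𝓙 : S.IdealSheafData)
    (hinj : ∀ φ ψ : Coh.structureModule S ⟶ Coh.structureModule S,
      (∀ n : ℕ, φ ≫ ClSub.toSubscheme (𝓙 ^ (n + 1)) = ψ ≫ ClSub.toSubscheme (𝓙 ^ (n + 1))) → φ = ψ)
    (hZ : _root_.IsConnected (𝓙.support : Set S)) : ConnectedSpace S := by
  obtain ⟨⟨z, hz⟩, hpre⟩ := hZ
  have : PreconnectedSpace S := by
    rw [preconnectedSpace_iff_clopen]
    intro s hs
    let W₁ : S.Opens := ⟨s, hs.isOpen⟩
    let W₂ : S.Opens := ⟨sᶜ, hs.compl.isOpen⟩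
    have hsup : W₁ ⊔ W₂ = ⊤ := by
      ext x
      simp only [Opens.coe_sup, Opens.coe_top, Set.mem_univ, iff_true]
      exact (em (x ∈ s)).elim Or.inl Or.inr
    have hinf : W₁ ⊓ W₂ = ⊥ := by
      ext x
      simp only [Opens.coe_inf, Opens.coe_bot, Set.mem_empty_iff_false, iff_false]
      rintro ⟨h1, h2⟩
      exact h2 h1
    by_cases hne : ((𝓙.support : Set S) ∩ s).Nonempty
    · right
      have hsub : (𝓙.support : Set S) ⊆ s := hpre.subset_isClopen hs hne
      have := eq_bot_of_support_le 𝓙 hinj W₁ W₂ hsup hinf hsub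
      have h2 : sᶜ = ∅ := congrArg (fun W : S.Opens => (W : Set S)) this
      exact Set.compl_empty_iff.mp h2
    · left
      have hsub : (𝓙.support : Set S) ⊆ sᶜ := by
        intro x hx hxs
        exact hne ⟨x, hx, hxs⟩
      have := eq_bot_of_support_le 𝓙 hinj W₂ W₁ (by rw [sup_comm]; exact hsup)
        (by rw [inf_comm]; exact hinf) hsub
      exact congrArg (fun W : S.Opens => (W : Set S)) this
  exact { toPreconnectedSpace := this, toNonempty := ⟨z⟩ }

/-- connectedness of the support from connectedness of `S` -/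
theorem isConnected_support_of_connectedSpace (𝓙 : S.IdealSheafData)
    (hLef : Lef.HomToFormalBijective 𝓙 (Coh.structureModule S)) [ConnectedSpace S] :
    _root_.IsConnected (𝓙.support : Set S) := by
  obtain ⟨hinj, hsurj⟩ := hLef
  have hconn : ∀ W₁ W₂ : S.Opens, W₁ ⊔ W₂ = ⊤ → W₁ ⊓ W₂ = ⊥ → W₁ = ⊥ ∨ W₂ = ⊥ := by
    intro W₁ W₂ hsup hinf
    have hcl : IsClopen (W₁ : Set S) := by
      refine ⟨?_, W₁.isOpen⟩
      have : (W₁ : Set S) = (W₂ : Set S)ᶜ := by
        ext x
        constructor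
        · intro h1 h2
          have : x ∈ W₁ ⊓ W₂ := ⟨h1, h2⟩
          rw [hinf] at this
          exact this
        · intro h2
          have : x ∈ W₁ ⊔ W₂ := by rw [hsup]; trivial
          rcases this with h | h
          · exact h
          · exact absurd h h2
      rw [this]
      exact W₂.isOpen.isClosed_compl
    rcases isClopen_iff.mp hcl with h | h
    · left
      exact Opens.ext h
    · right
      ext x
      simp only [Opens.coe_bot, Set.mem_empty_iff_false, iff_false]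
      intro h2
      have h1 : x ∈ (W₁ : Set S) := by rw [h]; trivial
      have : x ∈ W₁ ⊓ W₂ := ⟨h1, h2⟩
      rw [hinf] at this
      exact this
  constructor
  · by_contra hne
    rw [Set.not_nonempty_iff_eq_empty] at hne
    have := eq_bot_of_support_le 𝓙 hinj ⊥ ⊤ (by simp) (by simp) (by rw [hne]; exact Set.empty_subset _)
    obtain ⟨x⟩ := (inferInstance : Nonempty S)
    have hx : x ∈ (⊤ : S.Opens) := trivial
    rw [this] at hx
    exact hx
  · rw [isPreconnected_closed_iff]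
    intro t t' ht ht' hsub hnt hnt'
    by_contra hne
    rw [Set.not_nonempty_iff_eq_empty] at hne
    have hZc : IsClosed (𝓙.support : Set S) := 𝓙.support.isClosed
    rcases eq_empty_or_eq_empty_of_lef 𝓙 hinj hsurj hconn ((𝓙.support : Set S) ∩ t)
      ((𝓙.support : Set S) ∩ t') (hZc.inter ht) (hZc.inter ht')
      (by rw [← Set.inter_union_distrib_left]; exact Set.inter_eq_left.mpr hsub)
      (by rw [← Set.inter_inter_distrib_left]; exact hne) with h | h
    · exact Set.not_nonempty_iff_eq_empty.mpr h hnt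
    · exact Set.not_nonempty_iff_eq_empty.mpr h hnt'

/-- **SGA 2 X**: under `Lef(X, Y)`, for an open `U ⊇ Y`, `Y` is connected iff `U` is. -/
theorem lef_connected (X : Scheme.{u}) (𝓘 : X.IdealSheafData) (h : Lef.LefCond X 𝓘) (U : X.Opens)
    (hU : (𝓘.support : Set X) ⊆ (U : Set X)) :
    ConnectedSpace (𝓘.support : Set X) ↔ ConnectedSpace U := by
  have hLef := h U hU (Coh.structureModule (↑U : Scheme.{u})) (isFinLocFree_structureModule _)
  set 𝓙 := 𝓘.comap U.ι with h𝓙
  have hsupp : (𝓙.support : Set (↑U : Scheme.{u})) = U.ι ⁻¹' (𝓘.support : Set X) := by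
    rw [h𝓙, Scheme.IdealSheafData.support_comap]; rfl
  have himg : (𝓘.support : Set X) = U.ι '' (𝓙.support : Set (↑U : Scheme.{u})) := by
    rw [hsupp, Set.image_preimage_eq_inter_range, Scheme.Opens.range_ι, Set.inter_eq_left.mpr hU]
  have hind : Topology.IsInducing U.ι := U.ι.isOpenEmbedding.isInducing
  have hiff : _root_.IsConnected (𝓘.support : Set X) ↔
      _root_.IsConnected (𝓙.support : Set (↑U : Scheme.{u})) := by
    rw [himg]
    unfold _root_.IsConnected
    rw [Set.image_nonempty, hind.isPreconnected_image]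
  rw [← isConnected_iff_connectedSpace, hiff]
  constructor
  · intro hZ
    exact connectedSpace_of_isConnected_support 𝓙 hLef.1 hZ
  · intro hS
    have : ConnectedSpace (↑U : Scheme.{u}) := hS
    exact isConnected_support_of_connectedSpace 𝓙 hLef

end final

end Groth.Agent.Lib.Seat12.LefConn
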