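import Mathlib

/-!
# Fibrewise nilpotent Lie algebras (helper12)

* `exists_eq_bot_of_filtration`: a decreasing filtration `D` of a module with a shift property which is, locally
  at every prime `p`, eventually contained in `p L`, is eventually zero (minimal prime over the ideal of eventual
  annihilators).
* `D A L k`: the lower central series as submodules; `D_shift`, `D_fg`.
* `exists_smul_mem_of_tmul_eq_zero`: the kernel of `M → κ(p) ⊗ M`.
* `isNilpotent_of_fibres`: a Lie algebra, finitely generated as a module, with nilpotent fibres is nilpotent.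
* `isNilpotent_of_ad`: the same if every `ad x` is nilpotent (Engel on the fibres).
-/

set_option autoImplicit false
universe u

open Pointwise TensorProduct

namespace Groth.Agent.Lib.Seat12.LieNil

section Filtration

variable {A : Type u} [CommRing A] {L : Type u} [AddCommGroup L] [Module A L]

/-- an element of `p • ⊤` lies in `𝔟 • ⊤` for a finitely generated `𝔟 ≤ p`. -/
theorem exists_fg_le_of_mem_smul_top (p : Ideal A) {y : L} (hy : y ∈ p • (⊤ : Submodule A L)) :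
    ∃ 𝔟 : Ideal A, 𝔟.FG ∧ 𝔟 ≤ p ∧ y ∈ 𝔟 • (⊤ : Submodule A L) := by
  refine Submodule.smul_induction_on hy ?_ ?_
  · intro a ha m _
    refine ⟨Ideal.span {a}, ⟨{a}, by simp⟩, (Ideal.span_singleton_le_iff_mem _).mpr ha, ?_⟩
    exact Submodule.smul_mem_smul (Ideal.mem_span_singleton_self a) Submodule.mem_top
  · rintro x y ⟨𝔟₁, h1, h1', h1''⟩ ⟨𝔟₂, h2, h2', h2''⟩
    refine ⟨𝔟₁ ⊔ 𝔟₂, Submodule.FG.sup h1 h2, sup_le h1' h2', ?_⟩
    exact Submodule.add_mem _ (Submodule.smul_mono_left le_sup_left h1'')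
      (Submodule.smul_mono_left le_sup_right h2'')

/-- uniform version over a finitely generated submodule. -/
theorem exists_uniform_of_fg (p : Ideal A) [hp : p.IsPrime] (S : Submodule A L) (hS : S.FG)
    (h : ∀ x ∈ S, ∃ s : A, s ∉ p ∧ s • x ∈ p • (⊤ : Submodule A L)) :
    ∃ s : A, s ∉ p ∧ ∃ 𝔟 : Ideal A, 𝔟.FG ∧ 𝔟 ≤ p ∧ ∀ x ∈ S, s • x ∈ 𝔟 • (⊤ : Submodule A L) := by
  revert h
  refine Submodule.fg_induction (motive := fun S _ =>
    (∀ x ∈ S, ∃ s : A, s ∉ p ∧ s • x ∈ p • (⊤ : Submodule A L)) →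
    ∃ s : A, s ∉ p ∧ ∃ 𝔟 : Ideal A, 𝔟.FG ∧ 𝔟 ≤ p ∧ ∀ x ∈ S, s • x ∈ 𝔟 • (⊤ : Submodule A L)) ?_ ?_ S hS
  · intro x h
    obtain ⟨s, hs, hsx⟩ := h x (Submodule.mem_span_singleton_self x)
    obtain ⟨𝔟, hfg, hle, hmem⟩ := exists_fg_le_of_mem_smul_top p hsx
    refine ⟨s, hs, 𝔟, hfg, hle, fun y hy => ?_⟩
    obtain ⟨a, rfl⟩ := Submodule.mem_span_singleton.mp hy
    rw [smul_comm]
    exact Submodule.smul_mem _ a hmem
  · intro S₁ S₂ _ _ h1 h2 h
    obtain ⟨s₁, hs₁, 𝔟₁, hfg₁, hle₁, hm₁⟩ := h1 (fun x hx => h x (Submodule.mem_sup_left hx))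
    obtain ⟨s₂, hs₂, 𝔟₂, hfg₂, hle₂, hm₂⟩ := h2 (fun x hx => h x (Submodule.mem_sup_right hx))
    refine ⟨s₁ * s₂, hp.mul_notMem hs₁ hs₂, 𝔟₁ ⊔ 𝔟₂, Submodule.FG.sup hfg₁ hfg₂, sup_le hle₁ hle₂, fun x hx => ?_⟩
    obtain ⟨x₁, hx₁, x₂, hx₂, rfl⟩ := Submodule.mem_sup.mp hx
    rw [smul_add]
    refine Submodule.add_mem _ ?_ ?_
    · rw [mul_comm, mul_smul]
      exact Submodule.smul_mem _ s₂ (Submodule.smul_mono_left le_sup_left (hm₁ x₁ hx₁))
    · rw [mul_smul]
      exact Submodule.smul_mem _ s₁ (Submodule.smul_mono_left le_sup_right (hm₂ x₂ hx₂))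

/-- uniform denominators for a finitely generated ideal whose extension to `A_p` lies in that of `𝔞`. -/
theorem exists_mul_mem_of_map_le {𝔞 p : Ideal A} [hp : p.IsPrime] (𝔠 : Ideal A) (hfg : 𝔠.FG)
    (h : 𝔠.map (algebraMap A (Localization.AtPrime p)) ≤ 𝔞.map (algebraMap A (Localization.AtPrime p))) :
    ∃ s : A, s ∉ p ∧ ∀ c ∈ 𝔠, s * c ∈ 𝔞 := by
  revert h
  refine Submodule.fg_induction (motive := fun (𝔠 : Ideal A) _ =>
    𝔠.map (algebraMap A (Localization.AtPrime p)) ≤ 𝔞.map (algebraMap A (Localization.AtPrime p)) →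
    ∃ s : A, s ∉ p ∧ ∀ c ∈ 𝔠, s * c ∈ 𝔞) ?_ ?_ 𝔠 hfg
  · intro c h
    have hc : algebraMap A (Localization.AtPrime p) c ∈
        𝔞.map (algebraMap A (Localization.AtPrime p)) :=
      h (Ideal.mem_map_of_mem _ (Submodule.mem_span_singleton_self c))
    rw [IsLocalization.mem_map_algebraMap_iff p.primeCompl] at hc
    obtain ⟨⟨⟨a, ha⟩, m⟩, hm⟩ := hc
    simp only at hm
    rw [← map_mul, IsLocalization.eq_iff_exists p.primeCompl] at hm
    obtain ⟨t, ht⟩ := hm
    refine ⟨t * m, hp.mul_notMem t.2 m.2, fun y hy => ?_⟩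
    obtain ⟨b, rfl⟩ := Submodule.mem_span_singleton.mp hy
    have : (t : A) * m * (b • c) = b * (t * a) := by
      rw [smul_eq_mul, ← ht]; ring
    rw [this]
    exact 𝔞.mul_mem_left _ (𝔞.mul_mem_left _ ha)
  · intro S₁ S₂ _ _ h1 h2 h
    obtain ⟨s₁, hs₁, hm₁⟩ := h1 ((Ideal.map_mono le_sup_left).trans h)
    obtain ⟨s₂, hs₂, hm₂⟩ := h2 ((Ideal.map_mono le_sup_right).trans h)
    refine ⟨s₁ * s₂, hp.mul_notMem hs₁ hs₂, fun x hx => ?_⟩
    obtain ⟨x₁, hx₁, x₂, hx₂, rfl⟩ := Submodule.mem_sup.mp hx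
    rw [mul_add]
    refine 𝔞.add_mem ?_ ?_
    · have : s₁ * s₂ * x₁ = s₂ * (s₁ * x₁) := by ring
      rw [this]
      exact 𝔞.mul_mem_left _ (hm₁ x₁ hx₁)
    · rw [mul_assoc]
      exact 𝔞.mul_mem_left _ (hm₂ x₂ hx₂)

/-- a finitely generated ideal inside a minimal prime of `𝔞` has a power landing in `𝔞` up to a denominator. -/
theorem exists_mul_pow_mem_of_mem_minimalPrimes {𝔞 p : Ideal A} (hp : p ∈ 𝔞.minimalPrimes)
    (𝔟 : Ideal A) (hfg : 𝔟.FG) (hle : 𝔟 ≤ p) :
    ∃ s : A, s ∉ p ∧ ∃ r : ℕ, ∀ c ∈ 𝔟 ^ r, s * c ∈ 𝔞 := by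
  have : p.IsPrime := hp.1.1
  have hrad : (𝔞.map (algebraMap A (Localization.AtPrime p))).radical =
      p.map (algebraMap A (Localization.AtPrime p)) :=
    IsLocalization.AtPrime.radical_map_of_mem_minimalPrimes (A := Localization.AtPrime p) p 𝔞 hp
  have h1 : 𝔟.map (algebraMap A (Localization.AtPrime p)) ≤
      (𝔞.map (algebraMap A (Localization.AtPrime p))).radical := by
    rw [hrad]; exact Ideal.map_mono hle
  obtain ⟨r, hr⟩ := Ideal.exists_pow_le_of_le_radical_of_fg h1 (hfg.map _)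
  rw [← Ideal.map_pow] at hr
  obtain ⟨s, hs, hsm⟩ := exists_mul_mem_of_map_le (𝔟 ^ r) (hfg.pow) hr
  exact ⟨s, hs, r, hsm⟩

/-- the ideal of elements killing some term of a decreasing filtration. -/
def annIdeal (D : ℕ → Submodule A L) (hanti : Antitone D) : Ideal A where
  carrier := {t | ∃ k, ∀ x ∈ D k, t • x = 0}
  zero_mem' := ⟨0, fun x _ => zero_smul A x⟩
  add_mem' := by
    rintro a b ⟨k, hk⟩ ⟨l, hl⟩
    refine ⟨max k l, fun x hx => ?_⟩
    rw [add_smul, hk x (hanti (le_max_left k l) hx), hl x (hanti (le_max_right k l) hx), add_zero]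
  smul_mem' := by
    rintro c a ⟨k, hk⟩
    exact ⟨k, fun x hx => by rw [smul_eq_mul, mul_smul, hk x hx, smul_zero]⟩

theorem mem_annIdeal (D : ℕ → Submodule A L) (hanti : Antitone D) (t : A) :
    t ∈ annIdeal D hanti ↔ ∃ k, ∀ x ∈ D k, t • x = 0 := Iff.rfl

/-- a finitely generated ideal inside `annIdeal` kills a single term. -/
theorem exists_uniform_ann (D : ℕ → Submodule A L) (hanti : Antitone D) (𝔠 : Ideal A) (hfg : 𝔠.FG)
    (h : 𝔠 ≤ annIdeal D hanti) : ∃ k, ∀ c ∈ 𝔠, ∀ x ∈ D k, c • x = 0 := by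
  revert h
  refine Submodule.fg_induction (motive := fun (𝔠 : Ideal A) _ =>
    𝔠 ≤ annIdeal D hanti → ∃ k, ∀ c ∈ 𝔠, ∀ x ∈ D k, c • x = 0) ?_ ?_ 𝔠 hfg
  · intro c h
    obtain ⟨k, hk⟩ := h (Submodule.mem_span_singleton_self c)
    refine ⟨k, fun y hy x hx => ?_⟩
    obtain ⟨b, rfl⟩ := Submodule.mem_span_singleton.mp hy
    rw [smul_eq_mul, mul_smul, hk x hx, smul_zero]
  · intro S₁ S₂ _ _ h1 h2 h
    obtain ⟨k, hk⟩ := h1 (le_sup_left.trans h)
    obtain ⟨l, hl⟩ := h2 (le_sup_right.trans h)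
    refine ⟨max k l, fun y hy x hx => ?_⟩
    obtain ⟨y₁, hy₁, y₂, hy₂, rfl⟩ := Submodule.mem_sup.mp hy
    rw [add_smul, hk y₁ hy₁ x (hanti (le_max_left k l) hx),
      hl y₂ hy₂ x (hanti (le_max_right k l) hx), add_zero]

/-- pushing a scalar through `𝔠 • S`. -/
theorem smul_mem_smul_of_forall {S T : Submodule A L} (𝔠 : Ideal A) (s : A)
    (h : ∀ z ∈ S, s • z ∈ T) {y : L} (hy : y ∈ 𝔠 • S) : s • y ∈ 𝔠 • T := by
  refine Submodule.smul_induction_on hy ?_ ?_
  · intro c hc z hz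
    rw [smul_comm]
    exact Submodule.smul_mem_smul hc (h z hz)
  · intro x y hx hy
    rw [smul_add]
    exact Submodule.add_mem _ hx hy

/-- **Filtration lemma.** -/
theorem exists_eq_bot_of_filtration (D : ℕ → Submodule A L) (hanti : Antitone D)
    (hshift : ∀ (j k : ℕ) (t : A) (𝔠 : Ideal A),
      (∀ x ∈ D j, t • x ∈ 𝔠 • (⊤ : Submodule A L)) → ∀ x ∈ D (j + k), t • x ∈ 𝔠 • D k)
    (hloc : ∀ p : Ideal A, p.IsPrime → ∃ N, (D N).FG ∧
      ∀ x ∈ D N, ∃ s : A, s ∉ p ∧ s • x ∈ p • (⊤ : Submodule A L)) :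
    ∃ k, D k = ⊥ := by
  by_cases htop : annIdeal D hanti = ⊤
  · have h1 : (1 : A) ∈ annIdeal D hanti := htop ▸ Submodule.mem_top
    obtain ⟨k, hk⟩ := h1
    refine ⟨k, ?_⟩
    rw [eq_bot_iff]
    intro x hx
    have := hk x hx
    rwa [one_smul] at this
  exfalso
  obtain ⟨p, hpmin⟩ := Ideal.nonempty_minimalPrimes htop
  have hp : p.IsPrime := hpmin.1.1
  have hle : annIdeal D hanti ≤ p := hpmin.1.2
  obtain ⟨N, hNfg, hN⟩ := hloc p hp
  obtain ⟨s, hs, 𝔟, hbfg, hbp, hsb⟩ := exists_uniform_of_fg p (D N) hNfg hN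
  obtain ⟨s', hs', r, hr⟩ := exists_mul_pow_mem_of_mem_minimalPrimes hpmin 𝔟 hbfg hbp
  -- the power trick
  have hpow : ∀ m : ℕ, ∀ x ∈ D (m * N), s ^ m • x ∈ 𝔟 ^ m • (⊤ : Submodule A L) := by
    intro m
    induction m with
    | zero =>
      intro x _
      simp
    | succ m ih =>
      intro x hx
      have hx' : x ∈ D (m * N + N) := by rwa [Nat.succ_mul] at hx
      have h1 := hshift (m * N) N (s ^ m) (𝔟 ^ m) ih x hx'
      have h2 := smul_mem_smul_of_forall (𝔟 ^ m) s hsb h1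
      have e1 : s ^ (m + 1) • x = s • (s ^ m • x) := by rw [pow_succ, mul_comm, mul_smul]
      have e2 : 𝔟 ^ (m + 1) • (⊤ : Submodule A L) = 𝔟 ^ m • (𝔟 • (⊤ : Submodule A L)) := by
        rw [pow_succ, Submodule.mul_smul]
      rw [e1, e2]
      exact h2
  -- the ideal `s' • 𝔟 ^ r`
  let 𝔠 : Ideal A := Ideal.span {s'} * 𝔟 ^ r
  have hcfg : 𝔠.FG := Submodule.FG.mul ⟨{s'}, by simp⟩ (hbfg.pow)
  have hcle : 𝔠 ≤ annIdeal D hanti := by
    rw [Ideal.mul_le]
    intro a ha c hc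
    obtain ⟨b, rfl⟩ := Ideal.mem_span_singleton'.mp ha
    rw [mul_assoc]
    exact Ideal.mul_mem_left _ _ (hr c hc)
  obtain ⟨k, hk⟩ := exists_uniform_ann D hanti 𝔠 hcfg hcle
  have ht : ∀ x ∈ D (r * N), (s' * s ^ r) • x ∈ 𝔠 • (⊤ : Submodule A L) := by
    intro x hx
    have e1 : (s' * s ^ r) • x = s' • (s ^ r • x) := mul_smul _ _ _
    rw [e1]
    have h1 := hpow r x hx
    have h2 : s' • (s ^ r • x) ∈ (Ideal.span {s'} * 𝔟 ^ r) • (⊤ : Submodule A L) := by
      rw [Submodule.mul_smul]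
      exact Submodule.smul_mem_smul (Ideal.mem_span_singleton_self s') h1
    exact h2
  have h3 : s' * s ^ r ∈ annIdeal D hanti := by
    refine ⟨r * N + k, fun x hx => ?_⟩
    have h4 := hshift (r * N) k (s' * s ^ r) 𝔠 ht x hx
    refine Submodule.smul_induction_on h4 ?_ ?_
    · intro c hc d hd
      exact hk c hc d hd
    · intro x y hx hy
      rw [hx, hy, add_zero]
  have h5 : s' * s ^ r ∈ p := hle h3
  rcases hp.mem_or_mem h5 with h | h
  · exact hs' h
  · exact hs (hp.mem_of_pow_mem _ h)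

end Filtration

section Lie

variable {A : Type u} [CommRing A] {L : Type u} [LieRing L] [LieAlgebra A L]

/-- the lower central series as `A`-submodules. -/
noncomputable def D (A : Type u) [CommRing A] (L : Type u) [LieRing L] [LieAlgebra A L] (k : ℕ) :
    Submodule A L :=
  LieSubmodule.toSubmodule (LieModule.lowerCentralSeries A L L k)

theorem D_zero : D A L 0 = ⊤ := by
  simp [D]

theorem D_succ (k : ℕ) : D A L (k + 1) = Submodule.span A {m | ∃ x : L, ∃ d ∈ D A L k, ⁅x, d⁆ = m} := by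
  unfold D
  rw [LieModule.lowerCentralSeries_succ, LieSubmodule.lieIdeal_oper_eq_linear_span']
  congr 1
  ext m
  constructor
  · rintro ⟨x, -, n, hn, rfl⟩
    exact ⟨x, n, hn, rfl⟩
  · rintro ⟨x, n, hn, rfl⟩
    exact ⟨x, LieSubmodule.mem_top x, n, hn, rfl⟩

theorem D_antitone : Antitone (D A L) := fun _ _ h =>
  LieModule.antitone_lowerCentralSeries A L L h

theorem lie_mem_D_succ {k : ℕ} (x : L) {d : L} (hd : d ∈ D A L k) : ⁅x, d⁆ ∈ D A L (k + 1) := by
  rw [D_succ]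
  exact Submodule.subset_span ⟨x, d, hd, rfl⟩

theorem D_shift (j k : ℕ) (t : A) (𝔠 : Ideal A)
    (h : ∀ x ∈ D A L j, t • x ∈ 𝔠 • (⊤ : Submodule A L)) :
    ∀ x ∈ D A L (j + k), t • x ∈ 𝔠 • D A L k := by
  induction k with
  | zero =>
    intro x hx
    rw [D_zero]
    exact h x hx
  | succ k ih =>
    intro x hx
    rw [← add_assoc, D_succ] at hx
    refine Submodule.span_induction (p := fun x _ => t • x ∈ 𝔠 • D A L (k + 1)) ?_ ?_ ?_ ?_ hx
    · rintro m ⟨y, d, hd, rfl⟩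
      have h1 := ih d hd
      rw [← lie_smul]
      refine Submodule.smul_induction_on h1 ?_ ?_
      · intro c hc e he
        rw [lie_smul]
        exact Submodule.smul_mem_smul hc (lie_mem_D_succ y he)
      · intro u v hu hv
        rw [lie_add]
        exact Submodule.add_mem _ hu hv
    · simp
    · intro u v _ _ hu hv
      rw [smul_add]
      exact Submodule.add_mem _ hu hv
    · intro a u _ hu
      rw [smul_comm]
      exact Submodule.smul_mem _ a hu

theorem D_fg [Module.Finite A L] (k : ℕ) : (D A L k).FG := by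
  induction k with
  | zero =>
    rw [D_zero]
    exact Module.Finite.fg_top
  | succ k ih =>
    obtain ⟨X, hX⟩ := (Module.Finite.fg_top : (⊤ : Submodule A L).FG)
    obtain ⟨Y, hY⟩ := ih
    classical
    refine ⟨Finset.image₂ (fun x y => ⁅x, y⁆) X Y, ?_⟩
    apply le_antisymm
    · rw [Submodule.span_le]
      intro m hm
      simp only [Finset.coe_image₂, Set.mem_image2] at hm
      obtain ⟨x, _, y, hy, rfl⟩ := hm
      exact lie_mem_D_succ x (hY ▸ Submodule.subset_span hy)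
    · rw [D_succ, Submodule.span_le]
      rintro m ⟨x, d, hd, rfl⟩
      have hx : x ∈ Submodule.span A (X : Set L) := hX ▸ Submodule.mem_top
      rw [← hY] at hd
      refine Submodule.span_induction (p := fun x _ => ⁅x, d⁆ ∈
        Submodule.span A (↑(Finset.image₂ (fun x y => ⁅x, y⁆) X Y) : Set L)) ?_ ?_ ?_ ?_ hx
      · intro x' hx'
        refine Submodule.span_induction (p := fun d _ => ⁅x', d⁆ ∈
          Submodule.span A (↑(Finset.image₂ (fun x y => ⁅x, y⁆) X Y) : Set L)) ?_ ?_ ?_ ?_ hd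
        · intro y hy
          apply Submodule.subset_span
          simp only [Finset.coe_image₂, Set.mem_image2]
          exact ⟨x', hx', y, hy, rfl⟩
        · simp
        · intro u v _ _ hu hv
          rw [lie_add]; exact Submodule.add_mem _ hu hv
        · intro a u _ hu
          rw [lie_smul]; exact Submodule.smul_mem _ a hu
      · simp
      · intro u v _ _ hu hv
        rw [add_lie]; exact Submodule.add_mem _ hu hv
      · intro a u _ hu
        rw [smul_lie]; exact Submodule.smul_mem _ a hu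

end Lie

section Fibre

variable {A : Type u} [CommRing A]

/-- The kernel of `M → κ(p) ⊗ M`. -/
theorem exists_smul_mem_of_tmul_eq_zero (p : Ideal A) [hp : p.IsPrime] (M : Type u) [AddCommGroup M]
    [Module A M] (x : M) (h : (1 : p.ResidueField) ⊗ₜ[A] x = 0) :
    ∃ s : A, s ∉ p ∧ s • x ∈ p • (⊤ : Submodule A M) := by
  let e := AlgebraTensorModule.cancelBaseChange A (A ⧸ p) p.ResidueField p.ResidueField M
  have h1 : e ((1 : p.ResidueField) ⊗ₜ[A ⧸ p] ((1 : A ⧸ p) ⊗ₜ[A] x)) = 1 ⊗ₜ x := by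
    simp [e]
  have h2 : (1 : p.ResidueField) ⊗ₜ[A ⧸ p] ((1 : A ⧸ p) ⊗ₜ[A] x) = 0 :=
    e.injective (by rw [h1, h, map_zero])
  have h3 := (IsLocalizedModule.eq_zero_iff (nonZeroDivisors (A ⧸ p))
    (TensorProduct.mk (A ⧸ p) p.ResidueField ((A ⧸ p) ⊗[A] M) 1)).mp h2
  obtain ⟨⟨c, hc⟩, hc0⟩ := h3
  obtain ⟨s, rfl⟩ := Ideal.Quotient.mk_surjective c
  refine ⟨s, ?_, ?_⟩
  · intro hs
    have : Ideal.Quotient.mk p s = 0 := Ideal.Quotient.eq_zero_iff_mem.mpr hs
    exact nonZeroDivisors.ne_zero hc this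
  · have h4 : (Ideal.Quotient.mk p s) • ((1 : A ⧸ p) ⊗ₜ[A] x) = 0 := hc0
    rw [TensorProduct.smul_tmul', smul_eq_mul, mul_one] at h4
    have h5 := congrArg (TensorProduct.quotTensorEquivQuotSMul M p) h4
    rw [TensorProduct.quotTensorEquivQuotSMul_mk_tmul, map_zero] at h5
    exact (Submodule.Quotient.mk_eq_zero _).mp h5

end Fibre

section FibreLie

variable {A : Type u} [CommRing A] {L : Type u} [LieRing L] [LieAlgebra A L]

variable (K : Type u) [Field K] [Algebra A K]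

/-- the image of the lower central series of `L` in a fibre lies in the lower central series. -/
theorem tmul_mem_lowerCentralSeries (k : ℕ) :
    ∀ x ∈ D A L k, (1 : K) ⊗ₜ[A] x ∈ LieModule.lowerCentralSeries K (K ⊗[A] L) (K ⊗[A] L) k := by
  induction k with
  | zero => intro x _; simp
  | succ k ih =>
    intro x hx
    rw [D_succ] at hx
    refine Submodule.span_induction (p := fun x _ => (1 : K) ⊗ₜ[A] x ∈
      LieModule.lowerCentralSeries K (K ⊗[A] L) (K ⊗[A] L) (k + 1)) ?_ ?_ ?_ ?_ hx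
    · rintro m ⟨y, d, hd, rfl⟩
      have h1 : (1 : K) ⊗ₜ[A] ⁅y, d⁆ = ⁅(1 : K) ⊗ₜ[A] y, (1 : K) ⊗ₜ[A] d⁆ := by
        rw [LieAlgebra.ExtendScalars.bracket_tmul, mul_one]
      rw [h1, LieModule.lowerCentralSeries_succ]
      exact LieSubmodule.lie_mem_lie (LieSubmodule.mem_top _) (ih d hd)
    · simp
    · intro u v _ _ hu hv
      rw [TensorProduct.tmul_add]
      exact add_mem hu hv
    · intro a u _ hu
      rw [TensorProduct.tmul_smul]
      have : a • ((1 : K) ⊗ₜ[A] u) = (algebraMap A K a) • ((1 : K) ⊗ₜ[A] u) := by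
        rw [algebraMap_smul]
      rw [this]
      exact (LieModule.lowerCentralSeries K (K ⊗[A] L) (K ⊗[A] L) (k + 1)).smul_mem _ hu

end FibreLie

section Engel

variable {A : Type u} [CommRing A]

theorem exists_mul_algebraMap_eq (p : Ideal A) [p.IsPrime] (c : p.ResidueField) :
    ∃ a s : A, algebraMap A p.ResidueField s ≠ 0 ∧
      c * algebraMap A p.ResidueField s = algebraMap A p.ResidueField a := by
  obtain ⟨⟨x, ⟨y, hy⟩⟩, hxy⟩ := IsLocalization.surj (nonZeroDivisors (A ⧸ p)) c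
  obtain ⟨a, rfl⟩ := Ideal.Quotient.mk_surjective x
  obtain ⟨s, rfl⟩ := Ideal.Quotient.mk_surjective y
  simp only at hxy
  refine ⟨a, s, ?_, ?_⟩
  · have : algebraMap A p.ResidueField s =
        algebraMap (A ⧸ p) p.ResidueField (Ideal.Quotient.mk p s) := rfl
    rw [this]
    exact IsLocalization.to_map_ne_zero_of_mem_nonZeroDivisors _ le_rfl hy
  · exact hxy

/-- every element of a fibre `κ(p) ⊗ M` is a pure tensor. -/
theorem exists_eq_tmul (p : Ideal A) [p.IsPrime] (M : Type u) [AddCommGroup M] [Module A M]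
    (y : p.ResidueField ⊗[A] M) : ∃ (c : p.ResidueField) (x : M), y = c ⊗ₜ[A] x := by
  induction y using TensorProduct.induction_on with
  | zero => exact ⟨0, 0, by simp⟩
  | tmul c x => exact ⟨c, x, rfl⟩
  | add y₁ y₂ h₁ h₂ =>
    obtain ⟨c₁, x₁, rfl⟩ := h₁
    obtain ⟨c₂, x₂, rfl⟩ := h₂
    obtain ⟨a₁, s₁, hs₁, e₁⟩ := exists_mul_algebraMap_eq p c₁
    obtain ⟨a₂, s₂, hs₂, e₂⟩ := exists_mul_algebraMap_eq p c₂
    refine ⟨(algebraMap A p.ResidueField s₁ * algebraMap A p.ResidueField s₂)⁻¹,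
      (a₁ * s₂) • x₁ + (a₂ * s₁) • x₂, ?_⟩
    rw [TensorProduct.tmul_add, ← TensorProduct.smul_tmul, ← TensorProduct.smul_tmul,
      Algebra.smul_def, Algebra.smul_def, map_mul, map_mul, ← e₁, ← e₂]
    congr 2
    · field_simp
    · field_simp

variable {L : Type u} [LieRing L] [LieAlgebra A L] (K : Type u) [Field K] [Algebra A K]

theorem ad_tmul (c : K) (x : L) :
    LieAlgebra.ad K (K ⊗[A] L) (c ⊗ₜ[A] x) = c • LinearMap.baseChange K (LieAlgebra.ad A L x) := by
  apply TensorProduct.AlgebraTensorModule.ext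
  intro d z
  rw [LieAlgebra.ad_apply, LieAlgebra.ExtendScalars.bracket_tmul, LinearMap.smul_apply,
    LinearMap.baseChange_tmul, TensorProduct.smul_tmul', smul_eq_mul, LieAlgebra.ad_apply]

theorem isNilpotent_ad_tmul (c : K) (x : L) (h : IsNilpotent (LieAlgebra.ad A L x)) :
    IsNilpotent (LieAlgebra.ad K (K ⊗[A] L) (c ⊗ₜ[A] x)) := by
  rw [ad_tmul]
  have h1 : IsNilpotent (LinearMap.baseChange K (LieAlgebra.ad A L x)) :=
    h.map (Module.End.baseChangeHom A K L)
  obtain ⟨m, hm⟩ := h1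
  refine ⟨m, ?_⟩
  rw [smul_pow, hm, smul_zero]

end Engel

section Main

variable {A : Type u} [CommRing A] {L : Type u} [LieRing L] [LieAlgebra A L]

/-- a Lie algebra which is a finitely generated module and has nilpotent fibres is nilpotent. -/
theorem isNilpotent_of_fibres [Module.Finite A L]
    (h : ∀ p : PrimeSpectrum A, LieRing.IsNilpotent (p.asIdeal.ResidueField ⊗[A] L)) :
    LieRing.IsNilpotent L := by
  obtain ⟨k, hk⟩ := exists_eq_bot_of_filtration (D A L) D_antitone D_shift (fun p hp => by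
    have := hp
    obtain ⟨N, hN⟩ := (LieModule.isNilpotent_iff p.ResidueField (p.ResidueField ⊗[A] L)
      (p.ResidueField ⊗[A] L)).mp (h ⟨p, hp⟩)
    refine ⟨N, D_fg N, fun x hx => exists_smul_mem_of_tmul_eq_zero p L x ?_⟩
    have h1 := tmul_mem_lowerCentralSeries p.ResidueField N x hx
    rw [hN] at h1
    exact (LieSubmodule.mem_bot _).mp h1)
  refine LieModule.IsNilpotent.mk (R := A) (L := L) (M := L) (k := k) ?_
  rw [← LieSubmodule.toSubmodule_inj]
  exact hk

/-- Engel over a base ring: if every `ad x` is nilpotent then `L` is nilpotent. -/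
theorem isNilpotent_of_ad [Module.Finite A L] (h : ∀ x : L, IsNilpotent (LieAlgebra.ad A L x)) :
    LieRing.IsNilpotent L := by
  apply isNilpotent_of_fibres (A := A)
  intro p
  have : IsNoetherian p.asIdeal.ResidueField (p.asIdeal.ResidueField ⊗[A] L) :=
    isNoetherian_of_isNoetherianRing_of_finite _ _
  rw [LieAlgebra.isNilpotent_iff_forall (R := p.asIdeal.ResidueField)]
  intro y
  obtain ⟨c, x, rfl⟩ := exists_eq_tmul p.asIdeal L y
  exact isNilpotent_ad_tmul p.asIdeal.ResidueField c x (h x)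

end Main

end Groth.Agent.Lib.Seat12.LieNil
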