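import Mathlib
import Groth.Prelude.Def_SGA1
import Groth.Agent.Lib.Seat12GalSplit

/-!
# Quotient by a finite group with a section: the comparison `∐_G Y ⟶ X` is an isomorphism

Scheme-level part of S2919, on top of the ring-level `Seat12GalSplit`.
-/

universe u

open CategoryTheory AlgebraicGeometry CategoryTheory.Limits

namespace Groth.Agent.Lib.Seat12.QuotSec

open Groth.Agent.Lib.Seat12.GalSplit

variable {X Y : Scheme.{u}} {G : Type u} [Group G] (ρ : G →* Aut X)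
  (p : X ⟶ Y) (s : Y ⟶ X)

lemma le_sec (hs : s ≫ p = 𝟙 Y) (V : Y.Opens) : V ≤ s ⁻¹ᵁ (p ⁻¹ᵁ V) := by
  rw [← Scheme.Hom.comp_preimage, hs]
  exact le_rfl

lemma appLE_of_eq_id {f : Y ⟶ Y} (hf : f = 𝟙 Y) (V : Y.Opens) (e : V ≤ f ⁻¹ᵁ V) :
    f.appLE V V e = 𝟙 _ := by
  subst hf
  simp only [Scheme.Hom.appLE, Scheme.Hom.id_app]
  exact Y.presheaf.map_id _

lemma appLE_of_eq {X' : Scheme.{u}} {f f' : X' ⟶ Y} (hf : f = f') (V : Y.Opens) (W : X'.Opens)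
    (e : W ≤ f ⁻¹ᵁ V) : f.appLE V W e = f'.appLE V W (hf ▸ e) := by
  subst hf
  rfl

/-- the ring-level datum over an open `V` of `Y`. -/
theorem data (hp : SGA1.IsQuot ρ p) (hs : s ≫ p = 𝟙 Y) (V : Y.Opens) :
    Data (p.app V).hom (s.appLE (p ⁻¹ᵁ V) V (le_sec p s hs V)).hom
      (fun g => ((ρ g).hom.appLE (p ⁻¹ᵁ V) (p ⁻¹ᵁ V)
        (SGA1.preimage_le_of_inv ρ p hp.inv g V)).hom) where
  sec a := by
    have h1 : p.app V ≫ s.appLE (p ⁻¹ᵁ V) V (le_sec p s hs V) = 𝟙 _ := by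
      rw [Scheme.Hom.app_eq_appLE, Scheme.Hom.appLE_comp_appLE]
      exact appLE_of_eq_id hs V _
    exact congr($(h1) a)
  one b := by
    have h1 : (ρ 1).hom.appLE (p ⁻¹ᵁ V) (p ⁻¹ᵁ V)
        (SGA1.preimage_le_of_inv ρ p hp.inv 1 V) = 𝟙 _ := by
      have : (ρ 1).hom = 𝟙 X := by rw [map_one]; rfl
      exact appLE_of_eq_id this _ _
    exact congr($(h1) b)
  mul g h b := by
    have h0 : (ρ (g * h)).hom = (ρ h).hom ≫ (ρ g).hom := by rw [map_mul]; rfl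
    have h1 : (ρ (g * h)).hom.appLE (p ⁻¹ᵁ V) (p ⁻¹ᵁ V)
        (SGA1.preimage_le_of_inv ρ p hp.inv (g * h) V) =
        (ρ g).hom.appLE (p ⁻¹ᵁ V) (p ⁻¹ᵁ V) (SGA1.preimage_le_of_inv ρ p hp.inv g V) ≫
        (ρ h).hom.appLE (p ⁻¹ᵁ V) (p ⁻¹ᵁ V) (SGA1.preimage_le_of_inv ρ p hp.inv h V) := by
      rw [Scheme.Hom.appLE_comp_appLE]
      exact appLE_of_eq h0 _ _ _
    exact congr($(h1) b)
  inv g a := by
    have h1 : p.app V ≫ (ρ g).hom.appLE (p ⁻¹ᵁ V) (p ⁻¹ᵁ V)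
        (SGA1.preimage_le_of_inv ρ p hp.inv g V) = p.app V := by
      rw [Scheme.Hom.app_eq_appLE, Scheme.Hom.appLE_comp_appLE]
      exact appLE_of_eq (hp.inv g) _ _ _
    exact congr($(h1) a)
  range b hb := by
    have := (hp.range_iff V b).mpr hb
    exact this

theorem coprime (hp : SGA1.IsQuot ρ p) (hs : s ≫ p = 𝟙 Y)
    (hfree : ∀ (K : Type u) [Field K] [IsAlgClosed K] (ξ : Spec (CommRingCat.of K) ⟶ X) (g : G),
      ξ ≫ (ρ g).hom = ξ → g = 1)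
    (V : Y.Opens) (hV : IsAffineOpen V) (g : G) (hg : g ≠ 1) :
    RingHom.ker (s.appLE (p ⁻¹ᵁ V) V (le_sec p s hs V)).hom ⊔
      RingHom.ker ((s.appLE (p ⁻¹ᵁ V) V (le_sec p s hs V)).hom.comp
        ((ρ g).hom.appLE (p ⁻¹ᵁ V) (p ⁻¹ᵁ V)
          (SGA1.preimage_le_of_inv ρ p hp.inv g V)).hom) = ⊤ := by
  apply (data ρ p s hp hs V).coprime_of_geometric g _ hg
  intro K _ _ ξ hξ
  have hU : IsAffineOpen (p ⁻¹ᵁ V) := by
    have := hp.affine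
    exact hV.preimage p
  apply hfree K (Spec.map (CommRingCat.ofHom ξ) ≫ hU.fromSpec) g
  rw [Category.assoc, ← IsAffineOpen.SpecMap_appLE_fromSpec (ρ g).hom hU hU
    (SGA1.preimage_le_of_inv ρ p hp.inv g V), ← Spec.map_comp_assoc]
  congr 2
  ext b
  exact hξ b

section Coprod

variable [Finite G]

/-- the comparison morphism. -/
noncomputable abbrev desc : (∐ fun _ : G => Y) ⟶ X :=
  Sigma.desc (fun g : G => s ≫ (ρ g).hom)

lemma ι_preimage (hp : SGA1.IsQuot ρ p) (hs : s ≫ p = 𝟙 Y) (V : Y.Opens) (g : G) :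
    (Sigma.ι (fun _ : G => Y) g) ⁻¹ᵁ ((desc ρ s) ⁻¹ᵁ (p ⁻¹ᵁ V)) = V := by
  rw [← Scheme.Hom.comp_preimage, ← Scheme.Hom.comp_preimage, Sigma.ι_desc,
    Category.assoc, hp.inv g, hs]
  rfl

lemma preimage_eq_iSup (hp : SGA1.IsQuot ρ p) (hs : s ≫ p = 𝟙 Y) (V : Y.Opens) :
    (desc ρ s) ⁻¹ᵁ (p ⁻¹ᵁ V) = ⨆ g : G, (Sigma.ι (fun _ : G => Y) g) ''ᵁ V := by
  set W := (desc ρ s) ⁻¹ᵁ (p ⁻¹ᵁ V) with hW
  have h1 : W = W ⊓ ⨆ g : G, (Sigma.ι (fun _ : G => Y) g).opensRange := by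
    have := (sigmaOpenCover (fun _ : G => Y)).iSup_opensRange
    rw [show (⨆ g : G, (Sigma.ι (fun _ : G => Y) g).opensRange) = ⊤ from this, inf_top_eq]
  rw [h1, inf_iSup_eq]
  refine iSup_congr fun g => ?_
  rw [inf_comm, ← Scheme.Hom.image_preimage_eq_opensRange_inf, ι_preimage ρ p s hp hs V g]

lemma isAffineOpen_preimage (hp : SGA1.IsQuot ρ p) (hs : s ≫ p = 𝟙 Y) (V : Y.Opens)
    (hV : IsAffineOpen V) : IsAffineOpen ((desc ρ s) ⁻¹ᵁ (p ⁻¹ᵁ V)) := by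
  rw [preimage_eq_iSup ρ p s hp hs V]
  apply IsAffineOpen.iSup_of_disjoint
  · intro g
    exact hV.image_of_isOpenImmersion _
  · intro g h hgh
    exact (disjoint_opensRange_sigmaι (fun _ : G => Y) g h hgh).mono
      (Scheme.Hom.image_le_opensRange _ _) (Scheme.Hom.image_le_opensRange _ _)

lemma ι_le (hp : SGA1.IsQuot ρ p) (hs : s ≫ p = 𝟙 Y) (V : Y.Opens) (g : G) :
    V ≤ (Sigma.ι (fun _ : G => Y) g) ⁻¹ᵁ ((desc ρ s) ⁻¹ᵁ (p ⁻¹ᵁ V)) :=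
  (ι_preimage ρ p s hp hs V g).ge

/-- sections over the preimage are detected on the components. -/
lemma eq_of_ι_appLE_eq (hp : SGA1.IsQuot ρ p) (hs : s ≫ p = 𝟙 Y) (V : Y.Opens)
    (t t' : Γ(∐ fun _ : G => Y, (desc ρ s) ⁻¹ᵁ (p ⁻¹ᵁ V)))
    (h : ∀ g : G, ((Sigma.ι (fun _ : G => Y) g).appLE _ V (ι_le ρ p s hp hs V g)).hom t =
      ((Sigma.ι (fun _ : G => Y) g).appLE _ V (ι_le ρ p s hp hs V g)).hom t') : t = t' := by
  refine TopCat.Sheaf.eq_of_locally_eq' (∐ fun _ : G => Y).sheaf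
    (fun g : G => (Sigma.ι (fun _ : G => Y) g) ''ᵁ V) _
    (fun g => homOfLE (by
      rw [preimage_eq_iSup ρ p s hp hs V]
      exact le_iSup (fun g : G => (Sigma.ι (fun _ : G => Y) g) ''ᵁ V) g))
    (by rw [preimage_eq_iSup ρ p s hp hs V]) t t' ?_
  intro g
  have key := Scheme.Hom.appLE_appIso_inv (Sigma.ι (fun _ : G => Y) g) (ι_le ρ p s hp hs V g)
  have h1 := congr($(key) t)
  have h2 := congr($(key) t')
  rw [CommRingCat.comp_apply] at h1 h2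
  exact h1.symm.trans ((congrArg _ (h g)).trans h2)

lemma ι_appLE_app (hp : SGA1.IsQuot ρ p) (hs : s ≫ p = 𝟙 Y) (V : Y.Opens) (g : G)
    (b : Γ(X, p ⁻¹ᵁ V)) :
    ((Sigma.ι (fun _ : G => Y) g).appLE _ V (ι_le ρ p s hp hs V g)).hom
      (((desc ρ s).app (p ⁻¹ᵁ V)).hom b) =
    Psi (s.appLE (p ⁻¹ᵁ V) V (le_sec p s hs V)).hom
      (fun g => ((ρ g).hom.appLE (p ⁻¹ᵁ V) (p ⁻¹ᵁ V)
        (SGA1.preimage_le_of_inv ρ p hp.inv g V)).hom) b g := by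
  have h1 : (desc ρ s).app (p ⁻¹ᵁ V) ≫
      (Sigma.ι (fun _ : G => Y) g).appLE _ V (ι_le ρ p s hp hs V g) =
      (ρ g).hom.appLE (p ⁻¹ᵁ V) (p ⁻¹ᵁ V) (SGA1.preimage_le_of_inv ρ p hp.inv g V) ≫
        s.appLE (p ⁻¹ᵁ V) V (le_sec p s hs V) := by
    rw [Scheme.Hom.app_eq_appLE, Scheme.Hom.appLE_comp_appLE, Scheme.Hom.appLE_comp_appLE]
    exact appLE_of_eq (Sigma.ι_desc _ _) _ _ _
  exact congr($(h1) b)

theorem bijective_app (hp : SGA1.IsQuot ρ p) (hs : s ≫ p = 𝟙 Y)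
    (hfree : ∀ (K : Type u) [Field K] [IsAlgClosed K] (ξ : Spec (CommRingCat.of K) ⟶ X) (g : G),
      ξ ≫ (ρ g).hom = ξ → g = 1)
    (V : Y.Opens) (hV : IsAffineOpen V) :
    Function.Bijective ((desc ρ s).app (p ⁻¹ᵁ V)).hom := by
  have hbij := (data ρ p s hp hs V).bijective (fun g hg => coprime ρ p s hp hs hfree V hV g hg)
  constructor
  · intro b b' hbb
    apply hbij.1
    ext g
    rw [← ι_appLE_app ρ p s hp hs V g b, ← ι_appLE_app ρ p s hp hs V g b', hbb]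
  · intro t
    obtain ⟨b, hb⟩ := hbij.2
      (fun g => ((Sigma.ι (fun _ : G => Y) g).appLE _ V (ι_le ρ p s hp hs V g)).hom t)
    refine ⟨b, ?_⟩
    apply eq_of_ι_appLE_eq ρ p s hp hs V
    intro g
    rw [ι_appLE_app ρ p s hp hs V g b, hb]

lemma isIso_appTop_morphismRestrict_iff {X Y : Scheme.{u}} (f : X ⟶ Y) (U : Y.Opens) :
    IsIso (f ∣_ U).appTop ↔ IsIso (f.app U) := by
  rw [Scheme.Hom.app_eq_appLE]
  simp only [morphismRestrict_app', TopologicalSpace.Opens.map_top]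
  exact f.appLE_congr _ (Scheme.Opens.ι_image_top U) (Scheme.Opens.ι_image_top _)
    (fun φ => IsIso φ)

set_option backward.isDefEq.respectTransparency false in
theorem isIso_desc (hp : SGA1.IsQuot ρ p) (hs : s ≫ p = 𝟙 Y)
    (hfree : ∀ (K : Type u) [Field K] [IsAlgClosed K] (ξ : Spec (CommRingCat.of K) ⟶ X) (g : G),
      ξ ≫ (ρ g).hom = ξ → g = 1) :
    IsIso (desc ρ s) := by
  have haff := hp.affine
  change MorphismProperty.isomorphisms Scheme.{u} (desc ρ s)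
  have hcov : ⨆ V : Y.affineOpens,
      ((⟨p ⁻¹ᵁ V.1, V.2.preimage p⟩ : X.affineOpens) : X.Opens) = ⊤ := by
    have h1 : ⨆ V : Y.affineOpens, (V : Y.Opens) = ⊤ := iSup_affineOpens_eq_top Y
    have h2 : p ⁻¹ᵁ (⨆ V : Y.affineOpens, (V : Y.Opens)) = ⊤ := by rw [h1]; rfl
    rw [← h2, Scheme.Hom.preimage_iSup]
  rw [HasAffineProperty.iff_of_iSup_eq_top (P := MorphismProperty.isomorphisms Scheme.{u})
    (fun V : Y.affineOpens => (⟨p ⁻¹ᵁ V.1, V.2.preimage p⟩ : X.affineOpens)) hcov]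
  intro V
  refine ⟨isAffineOpen_preimage ρ p s hp hs V.1 V.2, ?_⟩
  rw [isIso_appTop_morphismRestrict_iff]
  exact (ConcreteCategory.isIso_iff_bijective _).mpr (bijective_app ρ p s hp hs hfree V.1 V.2)

end Coprod

end Groth.Agent.Lib.Seat12.QuotSec
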