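import Mathlib

universe u

open CategoryTheory AlgebraicGeometry CategoryTheory.Limits

namespace Groth.Agent.Lib.Seat12.SigmaIso

variable {ι : Type u} [Finite ι] {W : ι → Scheme.{u}} {Z : Scheme.{u}} (h : ∀ i, W i ⟶ Z)

section One

variable (T : Z.Opens) (U : ∀ i, (W i).Opens) (hU : ∀ i, (h i) ⁻¹ᵁ T = U i)

include hU

omit [Finite ι] in
lemma ι_preimage (i : ι) : (Sigma.ι W i) ⁻¹ᵁ ((Sigma.desc h) ⁻¹ᵁ T) = U i := by
  rw [← Scheme.Hom.comp_preimage, Sigma.ι_desc]
  exact hU i

omit [Finite ι] in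
lemma preimage_eq_iSup :
    (Sigma.desc h) ⁻¹ᵁ T = ⨆ i : ι, (Sigma.ι W i) ''ᵁ (U i) := by
  set V := (Sigma.desc h) ⁻¹ᵁ T with hV
  have h1 : V = V ⊓ ⨆ i : ι, (Sigma.ι W i).opensRange := by
    have := (sigmaOpenCover W).iSup_opensRange
    rw [show (⨆ i : ι, (Sigma.ι W i).opensRange) = ⊤ from this, inf_top_eq]
  rw [h1, inf_iSup_eq]
  refine iSup_congr fun i => ?_
  rw [inf_comm, ← Scheme.Hom.image_preimage_eq_opensRange_inf, ι_preimage h T U hU i]

lemma isAffineOpen_preimage (haff : ∀ i, IsAffineOpen (U i)) :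
    IsAffineOpen ((Sigma.desc h) ⁻¹ᵁ T) := by
  rw [preimage_eq_iSup h T U hU]
  apply IsAffineOpen.iSup_of_disjoint
  · intro i
    exact (haff i).image_of_isOpenImmersion _
  · intro i j hij
    exact (disjoint_opensRange_sigmaι W i j hij).mono
      (Scheme.Hom.image_le_opensRange _ _) (Scheme.Hom.image_le_opensRange _ _)

omit [Finite ι] in
lemma ι_le (i : ι) : U i ≤ (Sigma.ι W i) ⁻¹ᵁ ((Sigma.desc h) ⁻¹ᵁ T) :=
  (ι_preimage h T U hU i).ge

omit [Finite ι] in
/-- sections over the preimage are detected on the components. -/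
lemma eq_of_ι_appLE_eq (t t' : Γ(∐ W, (Sigma.desc h) ⁻¹ᵁ T))
    (hh : ∀ i : ι, ((Sigma.ι W i).appLE _ (U i) (ι_le h T U hU i)).hom t =
      ((Sigma.ι W i).appLE _ (U i) (ι_le h T U hU i)).hom t') : t = t' := by
  refine TopCat.Sheaf.eq_of_locally_eq' (∐ W).sheaf
    (fun i : ι => (Sigma.ι W i) ''ᵁ (U i)) _
    (fun i => homOfLE (by
      rw [preimage_eq_iSup h T U hU]
      exact le_iSup (fun i : ι => (Sigma.ι W i) ''ᵁ (U i)) i))
    (by rw [preimage_eq_iSup h T U hU]) t t' ?_
  intro i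
  have key := Scheme.Hom.appLE_appIso_inv (Sigma.ι W i) (ι_le h T U hU i)
  have h1 := congr($(key) t)
  have h2 := congr($(key) t')
  rw [CommRingCat.comp_apply] at h1 h2
  exact h1.symm.trans ((congrArg _ (hh i)).trans h2)

omit [Finite ι] in
lemma ι_appLE_app (i : ι) (b : Γ(Z, T)) :
    ((Sigma.ι W i).appLE _ (U i) (ι_le h T U hU i)).hom (((Sigma.desc h).app T).hom b) =
      ((h i).appLE T (U i) (hU i).ge).hom b := by
  have h1 : (Sigma.desc h).app T ≫ (Sigma.ι W i).appLE _ (U i) (ι_le h T U hU i) =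
      (h i).appLE T (U i) (hU i).ge := by
    rw [Scheme.Hom.app_eq_appLE, Scheme.Hom.appLE_comp_appLE]
    have : ∀ (f f' : W i ⟶ Z) (hf : f = f') (e : U i ≤ f ⁻¹ᵁ T),
        f.appLE T (U i) e = f'.appLE T (U i) (hf ▸ e) := by
      intro f f' hf e
      subst hf
      rfl
    exact this _ _ (Sigma.ι_desc _ _) _
  exact congr($(h1) b)

omit [Finite ι] in
theorem bijective_app
    (hbij : Function.Bijective
      (fun t : Γ(Z, T) => fun i => ((h i).appLE T (U i) (hU i).ge).hom t)) :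
    Function.Bijective ((Sigma.desc h).app T).hom := by
  constructor
  · intro b b' hbb
    apply hbij.1
    funext i
    simp only
    rw [← ι_appLE_app h T U hU i b, ← ι_appLE_app h T U hU i b', hbb]
  · intro t
    obtain ⟨b, hb⟩ := hbij.2
      (fun i => ((Sigma.ι W i).appLE _ (U i) (ι_le h T U hU i)).hom t)
    refine ⟨b, ?_⟩
    apply eq_of_ι_appLE_eq h T U hU
    intro i
    rw [ι_appLE_app h T U hU i b]
    exact congrFun hb i

end One

lemma isIso_appTop_morphismRestrict_iff {X Y : Scheme.{u}} (f : X ⟶ Y) (U : Y.Opens) :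
    IsIso (f ∣_ U).appTop ↔ IsIso (f.app U) := by
  rw [Scheme.Hom.app_eq_appLE]
  simp only [morphismRestrict_app', TopologicalSpace.Opens.map_top]
  exact f.appLE_congr _ (Scheme.Opens.ι_image_top U) (Scheme.Opens.ι_image_top _)
    (fun φ => IsIso φ)

set_option backward.isDefEq.respectTransparency false in
/-- A morphism out of a finite coproduct is an isomorphism if over an affine cover of the target the
preimages in the components are affine and sections split as a product. -/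
theorem isIso_sigmaDesc {κ : Type*} (T : κ → Z.affineOpens) (hT : ⨆ k, (T k : Z.Opens) = ⊤)
    (U : ∀ (_ : κ) (i : ι), (W i).Opens) (hU : ∀ k i, (h i) ⁻¹ᵁ (T k).1 = U k i)
    (haff : ∀ k i, IsAffineOpen (U k i))
    (hbij : ∀ k, Function.Bijective
      (fun t : Γ(Z, (T k).1) => fun i => ((h i).appLE (T k).1 (U k i) (hU k i).ge).hom t)) :
    IsIso (Sigma.desc h) := by
  change MorphismProperty.isomorphisms Scheme.{u} (Sigma.desc h)
  rw [HasAffineProperty.iff_of_iSup_eq_top (P := MorphismProperty.isomorphisms Scheme.{u}) T hT]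
  intro k
  refine ⟨isAffineOpen_preimage h (T k).1 (U k) (hU k) (haff k), ?_⟩
  rw [isIso_appTop_morphismRestrict_iff]
  exact (ConcreteCategory.isIso_iff_bijective _).mpr
    (bijective_app h (T k).1 (U k) (hU k) (hbij k))

end Groth.Agent.Lib.Seat12.SigmaIso
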