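import Mathlib
import Groth.Prelude.Def_RegImm
import Groth.Agent.Lib.Helper13KzLiftH

/-!
# Flat base change of regular / Koszul-regular / H₁-regular / quasi-regular sequences (Seat 40)
-/

set_option autoImplicit false
universe u

namespace Groth.Agent.Lib.Seat40.RegSeqFlat

open CategoryTheory CochainComplex CohIII
open Groth.Agent.Helper13Kz Groth.Agent.Helper13KzLift
open scoped TensorProduct

section Koszul

variable {S T : Type u} [CommRing S] [CommRing T] (φ : S →+* T)

/-- restriction of scalars reflects vanishing of Koszul homology -/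
theorem isZero_homology_of_restrict (M : ModuleCat.{u} T) (l : List S) (i : ℤ)
    (h : Limits.IsZero ((koszulCx ((ModuleCat.restrictScalars φ).obj M) l).homology i)) :
    Limits.IsZero ((koszulCx M (l.map φ)).homology i) := by
  have h1 : Limits.IsZero ((((ModuleCat.restrictScalars φ).mapHomologicalComplex
      (ComplexShape.up ℤ)).obj (koszulCx M (l.map φ))).homology i) :=
    Limits.IsZero.of_iso h
      ((HomologicalComplex.homologyFunctor _ _ i).mapIso (restrictIso φ M l))
  rw [← HomologicalComplex.exactAt_iff_isZero_homology] at h1 ⊢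
  exact (ShortComplex.exact_map_iff_of_faithful _ (ModuleCat.restrictScalars φ)).1 h1

theorem koszul_of_flat (hφ : φ.Flat) (l : List S) (h : LCI.IsKoszulRegularSeq S l) :
    LCI.IsKoszulRegularSeq T (l.map φ) := by
  rw [isKoszulRegularSeq_iff] at h ⊢
  intro i hi
  letI : Algebra S T := φ.toAlgebra
  haveI : Module.Flat S T := hφ
  have h1 : Subsingleton (KH l (S ⊗[S] T) i) := subsingleton_KH_tensor_flat S T l i (h i hi)
  have h2 : Subsingleton (KH l T i) := subsingleton_KH_of_equiv l (TensorProduct.lid S T) i h1
  have h3 : Limits.IsZero ((koszulCx ((ModuleCat.restrictScalars φ).obj (ModuleCat.of T T)) l).homology i) :=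
    @ModuleCat.isZero_of_subsingleton _ _ _ h2
  exact ModuleCat.subsingleton_of_isZero (isZero_homology_of_restrict φ (ModuleCat.of T T) l i h3)

end Koszul

section H1

variable {S T : Type u} [CommRing S] [CommRing T] (φ : S →+* T)

/-- `H₁`-regularity under flat base change (function form) -/
theorem h1_of_flat_fun (hφ : φ.Flat) {c : ℕ} (f : Fin c → S) (h : CAlgX.IsH1Regular f) :
    CAlgX.IsH1Regular (fun i => φ (f i)) := by
  classical
  letI : Algebra S T := φ.toAlgebra
  haveI : Module.Flat S T := hφ
  intro b hb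
  obtain ⟨k, a, y, hxy, hfa⟩ := Module.Flat.isTrivialRelation_of_sum_smul_eq_zero
    (R := S) (M := T) (f := f) (x := b) (by
      rw [← hb]
      refine Finset.sum_congr rfl fun i _ => ?_
      rw [Algebra.smul_def, mul_comm]; rfl)
  -- each column of `a` is a relation over `S`
  have hcol : ∀ j : Fin k, (fun i => a i j) ∈
      Submodule.span S {v : Fin c → S | ∃ i j : Fin c, v = Pi.single i (f j) - Pi.single j (f i)} := by
    intro j
    apply h
    rw [← hfa j]
    exact Finset.sum_congr rfl fun i _ => mul_comm _ _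
  -- map to `T`
  let Φ : (Fin c → S) →ₗ[S] (Fin c → T) := (Algebra.linearMap S T).compLeft (Fin c)
  have hΦs : ∀ (i : Fin c) (x : S), Φ (Pi.single i x) = Pi.single i (φ x) := by
    intro i x
    ext m
    change algebraMap S T ((Pi.single i x : Fin c → S) m) = _
    rw [RingHom.algebraMap_toAlgebra]
    by_cases h1 : m = i
    · subst h1; simp
    · simp [Pi.single_eq_of_ne h1]
  have hΦ : ∀ v ∈ Submodule.span S
      {v : Fin c → S | ∃ i j : Fin c, v = Pi.single i (f j) - Pi.single j (f i)},
      Φ v ∈ (Submodule.span T {v : Fin c → T | ∃ i j : Fin c,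
        v = Pi.single i (φ (f j)) - Pi.single j (φ (f i))}).restrictScalars S := by
    intro v hv
    refine Submodule.span_induction ?_ ?_ ?_ ?_ hv
    · rintro _ ⟨i, j, rfl⟩
      apply Submodule.subset_span
      refine ⟨i, j, ?_⟩
      rw [map_sub, hΦs, hΦs]
    · simp
    · intro x y _ _ hx hy
      rw [map_add]; exact Submodule.add_mem _ hx hy
    · intro s x _ hx
      rw [map_smul]; exact Submodule.smul_mem _ _ hx
  have hb' : b = ∑ j, y j • Φ (fun i => a i j) := by
    ext i
    rw [hxy i, Finset.sum_apply]
    refine Finset.sum_congr rfl fun j _ => ?_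
    change a i j • y j = y j * algebraMap S T (a i j)
    rw [Algebra.smul_def, mul_comm]
  rw [hb']
  exact Submodule.sum_mem _ fun j _ => Submodule.smul_mem _ _ (hΦ _ (hcol j))

end H1

section Quasi

open MvPolynomial

variable {S T : Type u} [CommRing S] [CommRing T] (φ : S →+* T)

/-- quasi-regularity under flat base change (function form) -/
theorem quasi_of_flat_fun (hφ : φ.Flat) {c : ℕ} (f : Fin c → S) (h : CAlgX.IsQuasiRegular f) :
    CAlgX.IsQuasiRegular (fun i => φ (f i)) := by
  classical
  letI : Algebra S T := φ.toAlgebra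
  haveI : Module.Flat S T := hφ
  intro n P hP hev d
  set J : Ideal S := Ideal.span (Set.range f) with hJ
  have hJT : Ideal.span (Set.range fun i => φ (f i)) = J.map φ := by
    rw [hJ, Ideal.map_span]
    congr 1
    ext x
    constructor
    · rintro ⟨i, rfl⟩; exact ⟨f i, ⟨i, rfl⟩, rfl⟩
    · rintro ⟨_, ⟨i, rfl⟩, rfl⟩; exact ⟨i, rfl⟩
  rw [hJT] at hev ⊢
  by_cases hd : d ∈ P.support
  swap
  · rw [MvPolynomial.notMem_support_iff.1 hd]; exact zero_mem _
  -- write `eval` as an element of `J^(n+1) T`
  rw [← Ideal.map_pow, Ideal.map, Submodule.mem_span_set'] at hev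
  obtain ⟨K, t, g, hg⟩ := hev
  choose m hm hmg using fun k => (g k).2
  -- the monomial values
  let fd : (Fin c →₀ ℕ) → S := fun e => e.prod fun i k => f i ^ k
  have hfd : ∀ e : Fin c →₀ ℕ, φ (fd e) = e.prod fun i k => φ (f i) ^ k := by
    intro e
    simp only [fd, map_finsuppProd, map_pow]
  have hevP : MvPolynomial.eval (fun i => φ (f i)) P =
      ∑ e : {e // e ∈ P.support}, fd e.1 • P.coeff e.1 := by
    rw [MvPolynomial.eval_eq, ← Finset.sum_coe_sort P.support]
    refine Finset.sum_congr rfl fun e _ => ?_
    rw [Algebra.smul_def, RingHom.algebraMap_toAlgebra, hfd, mul_comm]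
    rfl
  -- the relation over `S`
  let F : ({e // e ∈ P.support} ⊕ Fin K) → S := Sum.elim (fun e => fd e.1) (fun k => - m k)
  let X : ({e // e ∈ P.support} ⊕ Fin K) → T := Sum.elim (fun e => P.coeff e.1) (fun k => t k)
  have hrel : ∑ i, F i • X i = 0 := by
    rw [Fintype.sum_sum_type]
    simp only [F, X, Sum.elim_inl, Sum.elim_inr, neg_smul, Finset.sum_neg_distrib]
    rw [← hevP, ← hg, add_neg_eq_zero]
    refine Finset.sum_congr rfl fun k _ => ?_
    rw [← hmg k]
    change t k * φ (m k) = algebraMap S T (m k) * t k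
    rw [RingHom.algebraMap_toAlgebra, mul_comm]
  obtain ⟨κ, a, y, hxy, hfa⟩ := Module.Flat.isTrivialRelation_of_sum_smul_eq_zero
    (R := S) (M := T) (f := F) (x := X) hrel
  -- the polynomials `Q_j`
  have hcoef : ∀ (j : Fin κ) (e : {e // e ∈ P.support}), a (Sum.inl e) j ∈ J := by
    intro j e
    let Q : MvPolynomial (Fin c) S := ∑ e' : {e // e ∈ P.support}, monomial e'.1 (a (Sum.inl e') j)
    have hQhom : Q.IsHomogeneous n := by
      apply IsHomogeneous.sum
      intro e' _
      apply isHomogeneous_monomial
      have := hP (MvPolynomial.mem_support_iff.1 e'.2)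
      rwa [Finsupp.degree_eq_weight_one]
    have hQev : MvPolynomial.eval f Q ∈ J ^ (n + 1) := by
      have h1 : MvPolynomial.eval f Q = ∑ e' : {e // e ∈ P.support}, fd e'.1 * a (Sum.inl e') j := by
        simp only [Q, map_sum, MvPolynomial.eval_monomial, fd, mul_comm]
      have h2 := hfa j
      rw [Fintype.sum_sum_type] at h2
      simp only [F, Sum.elim_inl, Sum.elim_inr, neg_mul, Finset.sum_neg_distrib,
        add_neg_eq_zero] at h2
      rw [h1, h2]
      exact Ideal.sum_mem _ fun k _ => Ideal.mul_mem_right _ _ (hm k)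
    have h3 := h n Q hQhom hQev e.1
    have h4 : Q.coeff e.1 = a (Sum.inl e) j := by
      simp only [Q, coeff_sum, coeff_monomial]
      rw [Finset.sum_eq_single e]
      · simp
      · intro e' _ hne
        rw [if_neg]
        intro h5; exact hne (Subtype.ext h5)
      · intro h5; exact absurd (Finset.mem_univ _) h5
    rwa [h4] at h3
  have := hxy (Sum.inl ⟨d, hd⟩)
  simp only [X, Sum.elim_inl] at this
  rw [this]
  refine Ideal.sum_mem _ fun j _ => ?_
  rw [Algebra.smul_def, RingHom.algebraMap_toAlgebra]
  exact Ideal.mul_mem_right _ _ (Ideal.mem_map_of_mem φ (hcoef j ⟨d, hd⟩))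

end Quasi

section Dispatch

variable {S T : Type u} [CommRing S] [CommRing T] (φ : S →+* T)

theorem h1_congr {c c' : ℕ} (e : c = c') (f : Fin c → T) (f' : Fin c' → T)
    (hff' : ∀ i, f' (Fin.cast e i) = f i) (h : CAlgX.IsH1Regular f) : CAlgX.IsH1Regular f' := by
  subst e
  have : f' = f := funext fun i => by simpa using hff' i
  subst this
  exact h

theorem quasi_congr {c c' : ℕ} (e : c = c') (f : Fin c → T) (f' : Fin c' → T)
    (hff' : ∀ i, f' (Fin.cast e i) = f i) (h : CAlgX.IsQuasiRegular f) :
    CAlgX.IsQuasiRegular f' := by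
  subst e
  have : f' = f := funext fun i => by simpa using hff' i
  subst this
  exact h

theorem get_map_cast (rs : List S) (i : Fin rs.length) :
    (rs.map φ).get (Fin.cast (List.length_map (as := rs) φ).symm i) = φ (rs.get i) := by
  simp

/-- flat base change of sequences of the four kinds; for the kind `regular` the image must
generate a proper ideal. -/
theorem seq_of_flat (k : RegImm.Kind) (hφ : φ.Flat) (rs : List S) (h : k.Seq S rs)
    (hne : Ideal.ofList (rs.map φ) ≠ ⊤) : k.Seq T (rs.map φ) := by
  cases k with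
  | regular =>
    letI : Algebra S T := φ.toAlgebra
    haveI : Module.Flat S T := hφ
    have h' : RingTheory.Sequence.IsRegular S rs := h
    refine (⟨RingTheory.Sequence.IsWeaklyRegular.of_flat h'.toIsWeaklyRegular, ?_⟩ :
      RingTheory.Sequence.IsRegular T (rs.map φ))
    rw [smul_eq_mul, Ideal.mul_top]
    exact fun h => hne h.symm
  | koszul => exact koszul_of_flat φ hφ rs h
  | h1 =>
    exact h1_congr (List.length_map (as := rs) φ).symm _ _ (get_map_cast φ rs)
      (h1_of_flat_fun φ hφ rs.get h)
  | quasi =>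
    exact quasi_congr (List.length_map (as := rs) φ).symm _ _ (get_map_cast φ rs)
      (quasi_of_flat_fun φ hφ rs.get h)

end Dispatch

end Groth.Agent.Lib.Seat40.RegSeqFlat
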