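import Mathlib
import Groth.Prelude.Def_RegImm
import Groth.Agent.Lib.Seat40RegSeqFlat
import Groth.Agent.Lib.Helper21KoszulDepth
import Groth.Agent.S11917

/-!
# Koszul-regular sequences compose (Seat 40)

If `f` is Koszul-regular in `A`, `α : A → B` is surjective with kernel `(f)` and the images of `L` are
Koszul-regular in `B`, then `L ++ f` is Koszul-regular in `A`.
-/

set_option autoImplicit false
set_option linter.style.haveILetI false
universe u

namespace Groth.Agent.Lib.Seat40.KoszulComp

open CategoryTheory CochainComplex CohIII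
open Groth.Agent.Helper13Kz Groth.Agent.Helper13KzLift
open scoped TensorProduct

variable {A : Type u} [CommRing A]

attribute [local instance] HasDerivedCategory.standard

/-- the mapping cone of `x • 𝟙` preserves quasi-isomorphisms -/
theorem quasiIso_coneMap {K K' : CochainComplex (ModuleCat.{u} A) ℤ} (ψ : K ⟶ K')
    (hψ : QuasiIso ψ) (x : A) :
    QuasiIso (mappingCone.map (x • 𝟙 K) (x • 𝟙 K') ψ ψ (by simp)) := by
  rw [← DerivedCategory.isIso_Q_map_iff_quasiIso]
  let T := DerivedCategory.Q.mapTriangle.map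
    (mappingCone.triangleMap (x • 𝟙 K) (x • 𝟙 K') ψ ψ (by simp))
  have h1 : IsIso T.hom₁ := (DerivedCategory.isIso_Q_map_iff_quasiIso (φ := ψ)).2 hψ
  have h2 : IsIso T.hom₂ := (DerivedCategory.isIso_Q_map_iff_quasiIso (φ := ψ)).2 hψ
  exact Pretriangulated.isIso₃_of_isIso₁₂ T
    (DerivedCategory.mappingCone_triangle_distinguished _)
    (DerivedCategory.mappingCone_triangle_distinguished _) h1 h2

/-- a complex concentrated in degrees `≤ 0` and acyclic in degrees `< 0` is quasi-isomorphic to a
module in degree `0` -/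
theorem exists_quasiIso_single (K : CochainComplex (ModuleCat.{u} A) ℤ) [K.IsStrictlyLE 0]
    [K.IsGE 0] :
    ∃ (M : ModuleCat.{u} A)
      (ψ : K ⟶ (HomologicalComplex.single (ModuleCat.{u} A) (ComplexShape.up ℤ) 0).obj M),
      QuasiIso ψ := by
  obtain ⟨M, ⟨e⟩⟩ := (K.truncGE 0).exists_iso_single 0
  exact ⟨M, K.πTruncGE 0 ≫ e.hom, inferInstance⟩

/-- the comparison map `K(L ++ f; A) ⟶ K(L; M)` induced by `K(f; A) ⟶ M[0]` -/
noncomputable def compMap {f : List A} {M : ModuleCat.{u} A}
    (ψ : koszulCx (ModuleCat.of A A) f ⟶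
      (HomologicalComplex.single (ModuleCat.{u} A) (ComplexShape.up ℤ) 0).obj M) :
    ∀ L : List A, koszulCx (ModuleCat.of A A) (L ++ f) ⟶ koszulCx M L
  | [] => ψ
  | x :: L => mappingCone.map (x • 𝟙 (koszulCx (ModuleCat.of A A) (L ++ f)))
      (x • 𝟙 (koszulCx M L)) (compMap ψ L) (compMap ψ L) (by simp)

theorem quasiIso_compMap {f : List A} {M : ModuleCat.{u} A}
    (ψ : koszulCx (ModuleCat.of A A) f ⟶
      (HomologicalComplex.single (ModuleCat.{u} A) (ComplexShape.up ℤ) 0).obj M)
    (hψ : QuasiIso ψ) : ∀ L : List A, QuasiIso (compMap ψ L)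
  | [] => hψ
  | x :: L => quasiIso_coneMap (compMap ψ L) (quasiIso_compMap ψ hψ L) x

/-- Koszul-regular sequences compose -/
theorem koszul_append {B : Type u} [CommRing B] (α : A →+* B) (hα : Function.Surjective α)
    (f L : List A) (hker : RingHom.ker α = Ideal.ofList f)
    (hf : LCI.IsKoszulRegularSeq A f) (hL : LCI.IsKoszulRegularSeq B (L.map α)) :
    LCI.IsKoszulRegularSeq A (L ++ f) := by
  rw [isKoszulRegularSeq_iff] at hf hL ⊢
  set K := koszulCx (ModuleCat.of A A) f with hK
  haveI : K.IsStrictlyLE 0 := by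
    rw [CochainComplex.isStrictlyLE_iff]
    intro i hi
    exact Groth.Agent.Lib.Helper21.isZero_koszulCx_X_pos _ f i hi
  haveI : K.IsGE 0 := by
    rw [CochainComplex.isGE_iff]
    intro i hi
    rw [HomologicalComplex.exactAt_iff_isZero_homology]
    haveI := hf i (by omega)
    exact ModuleCat.isZero_of_subsingleton _
  obtain ⟨M, ψ, hψ⟩ := exists_quasiIso_single K
  -- `M ≃ K.homology 0 ≃ A ⧸ (f) ≃ B`
  have e1 : K.homology 0 ≅ M :=
    (asIso (HomologicalComplex.homologyMap ψ 0)) ≪≫
      HomologicalComplex.singleObjHomologySelfIso (ComplexShape.up ℤ) 0 M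
  obtain ⟨e2⟩ := Groth.Agent.S11917.main (A := A) A f
  letI : Algebra A B := α.toAlgebra
  have hker' : Ideal.ofList f • (⊤ : Submodule A A) = LinearMap.ker (Algebra.linearMap A B) := by
    rw [smul_eq_mul, Ideal.mul_top, ← hker]
    ext x
    simp [RingHom.mem_ker, RingHom.algebraMap_toAlgebra]
  have hrange : Function.Surjective (Algebra.linearMap A B) := hα
  let e3 : (A ⧸ Ideal.ofList f • (⊤ : Submodule A A)) ≃ₗ[A] B :=
    (Submodule.quotEquivOfEq _ _ hker').trans
      ((Algebra.linearMap A B).quotKerEquivOfSurjective hrange)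
  let e : M ≃ₗ[A] B := (e1.symm.toLinearEquiv.trans e2).trans e3
  intro i hi
  -- transfer along the quasi-isomorphism
  have hq := quasiIso_compMap ψ hψ L
  have e4 : (koszulCx (ModuleCat.of A A) (L ++ f)).homology i ≅ (koszulCx M L).homology i :=
    asIso (HomologicalComplex.homologyMap (compMap ψ L) i)
  have h3 : Limits.IsZero ((koszulCx ((ModuleCat.restrictScalars α).obj (ModuleCat.of B B)) L).homology i) :=
    isZero_homology_restrict α (ModuleCat.of B B) L i
      (@ModuleCat.isZero_of_subsingleton _ _ _ (hL i hi))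
  have h4 : Subsingleton (KH L B i) := ModuleCat.subsingleton_of_isZero h3
  have h5 : Subsingleton (KH L M i) := subsingleton_KH_of_equiv L e.symm i h4
  have h6 : Limits.IsZero ((koszulCx M L).homology i) := @ModuleCat.isZero_of_subsingleton _ _ _ h5
  exact ModuleCat.subsingleton_of_isZero (Limits.IsZero.of_iso h6 e4)

end Groth.Agent.Lib.Seat40.KoszulComp
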