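import Mathlib
import Groth.Prelude.Def_RegImm
import Groth.Agent.Lib.Seat40RegSeqFlat

/-!
# Flat base change of regular immersions of the four kinds (Seat 40)
-/

set_option autoImplicit false
universe u

namespace Groth.Agent.Lib.Seat40.RegImmBC

open CategoryTheory CategoryTheory.Limits AlgebraicGeometry

/-- kernel of the base change of a surjection in a pushout square of commutative rings -/
theorem ker_of_isPushout {A B A' B' : CommRingCat.{u}} (a : A ⟶ B) (b : A ⟶ A') (c : B ⟶ B')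
    (d : A' ⟶ B') (h : IsPushout a b c d) (ha : Function.Surjective a.hom) :
    RingHom.ker d.hom = (RingHom.ker a.hom).map b.hom := by
  apply le_antisymm
  · set I' : Ideal A' := (RingHom.ker a.hom).map b.hom with hI'
    let q : A' ⟶ CommRingCat.of (A' ⧸ I') := CommRingCat.ofHom (Ideal.Quotient.mk I')
    let p0 : A ⧸ RingHom.ker a.hom →+* A' ⧸ I' :=
      Ideal.Quotient.lift (RingHom.ker a.hom) ((Ideal.Quotient.mk I').comp b.hom) (by
        intro x hx
        exact Ideal.Quotient.eq_zero_iff_mem.2 (Ideal.mem_map_of_mem _ hx))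
    let p : B ⟶ CommRingCat.of (A' ⧸ I') :=
      CommRingCat.ofHom (p0.comp (RingHom.quotientKerEquivOfSurjective ha).symm.toRingHom)
    have hpq : a ≫ p = b ≫ q := by
      ext x
      change p0 ((RingHom.quotientKerEquivOfSurjective ha).symm (a.hom x)) = _
      have : (RingHom.quotientKerEquivOfSurjective ha).symm (a.hom x) =
          Ideal.Quotient.mk _ x := by
        rw [RingEquiv.symm_apply_eq]
        rfl
      rw [this]
      rfl
    intro x hx
    have h1 : d ≫ h.desc p q hpq = q := h.inr_desc _ _ _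
    have h2 : q.hom x = 0 := by
      rw [← h1]
      change (h.desc p q hpq).hom (d.hom x) = 0
      rw [RingHom.mem_ker.1 hx, map_zero]
    exact Ideal.Quotient.eq_zero_iff_mem.1 h2
  · rw [Ideal.map_le_iff_le_comap]
    intro x hx
    change d.hom (b.hom x) = 0
    have : d.hom (b.hom x) = c.hom (a.hom x) := by
      have := congrArg (fun k => k.hom x) h.w
      exact this.symm
    rw [this, RingHom.mem_ker.1 hx, map_zero]


variable {X Y X' Y' : Scheme.{u}}

/-- the restricted pullback square -/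
theorem isPullback_resLE (i : Y ⟶ X) (g : X' ⟶ X) (i' : Y' ⟶ X') (g' : Y' ⟶ Y)
    (hsq : IsPullback g' i' i g) (U : X.Opens) (U' : X'.Opens) (hle : U' ≤ g ⁻¹ᵁ U)
    (hle' : i' ⁻¹ᵁ U' ≤ g' ⁻¹ᵁ (i ⁻¹ᵁ U)) :
    IsPullback (g'.resLE (i ⁻¹ᵁ U) (i' ⁻¹ᵁ U') hle') (i' ∣_ U') (i ∣_ U) (g.resLE U U' hle) := by
  have hR : IsPullback (i ⁻¹ᵁ U).ι (i ∣_ U) i U.ι := (isPullback_morphismRestrict i U).flip
  have hL : IsPullback (i' ⁻¹ᵁ U').ι (i' ∣_ U') i' U'.ι := (isPullback_morphismRestrict i' U').flip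
  have hbig := hL.paste_horiz hsq
  have e1 : (i' ⁻¹ᵁ U').ι ≫ g' = g'.resLE (i ⁻¹ᵁ U) (i' ⁻¹ᵁ U') hle' ≫ (i ⁻¹ᵁ U).ι :=
    (Scheme.Hom.resLE_comp_ι g' hle').symm
  have e2 : U'.ι ≫ g = g.resLE U U' hle ≫ U.ι := (Scheme.Hom.resLE_comp_ι g hle).symm
  rw [e1, e2] at hbig
  refine IsPullback.of_right hbig ?_ hR
  rw [← cancel_mono U.ι, Category.assoc, Category.assoc, morphismRestrict_ι,
    Scheme.Hom.resLE_comp_ι, Scheme.Hom.resLE_comp_ι_assoc, morphismRestrict_ι_assoc, hsq.w]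


/-- kernel of the global sections of a restriction -/
theorem ker_morphismRestrict_appTop (f : Y ⟶ X) (U : X.Opens) :
    RingHom.ker (f ∣_ U).appTop.hom =
      (RingHom.ker (f.app U).hom).comap
        (U.topIso.commRingCatIsoToRingEquiv : Γ(U, ⊤) →+* Γ(X, U)) := by
  rw [← Scheme.Hom.resLE_eq_morphismRestrict, Scheme.Hom.appTop, Scheme.Hom.resLE_app_top,
    Scheme.Hom.appLE_eq_app]
  ext x
  simp only [RingHom.mem_ker, Ideal.mem_comap, CommRingCat.hom_comp, RingHom.coe_comp,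
    Function.comp_apply]
  constructor
  · intro h
    have hinj : Function.Injective (f ⁻¹ᵁ U).topIso.inv.hom :=
      (f ⁻¹ᵁ U).topIso.symm.commRingCatIsoToRingEquiv.injective
    exact hinj (h.trans (map_zero _).symm)
  · intro h
    have h' : (f.app U).hom (U.topIso.hom.hom x) = 0 := h
    rw [h', map_zero]

/-- pure algebra: transporting a kernel identity along ring isomorphisms -/
theorem ideal_transport {G G' A A' : Type u} [CommRing G] [CommRing G'] [CommRing A] [CommRing A']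
    (τ : G ≃+* A) (τ' : G' ≃+* A') (φ : A →+* A') (ρ : G →+* G')
    (hρ : ∀ x, τ' (ρ x) = φ (τ x)) (K : Ideal A) (K' : Ideal A')
    (h : K'.comap (τ' : G' →+* A') = (K.comap (τ : G →+* A)).map ρ) : K' = K.map φ := by
  have h1 : K' = (K'.comap (τ' : G' →+* A')).map (τ' : G' →+* A') :=
    (Ideal.map_comap_of_surjective _ τ'.surjective _).symm
  have h2 : K = (K.comap (τ : G →+* A)).map (τ : G →+* A) :=
    (Ideal.map_comap_of_surjective _ τ.surjective _).symm
  rw [h1, h, Ideal.map_map]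
  conv_rhs => rw [h2, Ideal.map_map]
  congr 1
  ext x
  exact hρ x

/-- kernel of sections of the base change over a pair of affine opens -/
theorem ker_app_of_isPullback (i : Y ⟶ X) (g : X' ⟶ X)
    (i' : Y' ⟶ X') (g' : Y' ⟶ Y) (hsq : IsPullback g' i' i g) (U : X.affineOpens)
    (U' : X'.affineOpens) (hle : U'.1 ≤ g ⁻¹ᵁ U.1) (hcl : IsClosedImmersion (i ∣_ U.1)) :
    IsClosedImmersion (i' ∣_ U'.1) ∧
    RingHom.ker (i'.app U'.1).hom =
      (RingHom.ker (i.app U.1).hom).map (g.appLE U.1 U'.1 hle).hom := by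
  have hle' : i' ⁻¹ᵁ U'.1 ≤ g' ⁻¹ᵁ (i ⁻¹ᵁ U.1) := by
    intro y hy
    change i (g' y) ∈ U.1
    rw [← Scheme.Hom.comp_apply, hsq.w, Scheme.Hom.comp_apply]
    exact hle hy
  have hpb := isPullback_resLE i g i' g' hsq U.1 U'.1 hle hle'
  have hcl' : IsClosedImmersion (i' ∣_ U'.1) :=
    MorphismProperty.of_isPullback (P := @IsClosedImmersion) hpb hcl
  refine ⟨hcl', ?_⟩
  haveI : IsAffine U.1 := U.2
  haveI : IsAffine U'.1 := U'.2
  haveI : IsAffine (i ⁻¹ᵁ U.1) := isAffine_of_isAffineHom (i ∣_ U.1)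
  have hpo := isPushout_appTop_of_isPullback hpb
  have hsurj : Function.Surjective (i ∣_ U.1).appTop.hom :=
    (IsClosedImmersion.isAffine_surjective_of_isAffine (i ∣_ U.1)).2
  have hk := ker_of_isPushout _ _ _ _ hpo hsurj
  refine ideal_transport U.1.topIso.commRingCatIsoToRingEquiv
    U'.1.topIso.commRingCatIsoToRingEquiv (g.appLE U.1 U'.1 hle).hom
    (g.resLE U.1 U'.1 hle).appTop.hom ?_ _ _ ?_
  · intro x
    have h3 := Scheme.Hom.resLE_app_top g hle
    have h4 : (g.resLE U.1 U'.1 hle).appTop.hom x =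
        U'.1.topIso.inv.hom ((g.appLE U.1 U'.1 hle).hom (U.1.topIso.hom.hom x)) := by
      change ((g.resLE U.1 U'.1 hle).app ⊤).hom x = _
      rw [h3]
      rfl
    rw [h4]
    exact U'.1.topIso.commRingCatIsoToRingEquiv.apply_symm_apply _
  · rw [← ker_morphismRestrict_appTop, ← ker_morphismRestrict_appTop]
    exact hk

theorem ofList_map {S T : Type u} [CommRing S] [CommRing T] (φ : S →+* T) (rs : List S) :
    Ideal.ofList (rs.map φ) = (Ideal.ofList rs).map φ := by
  unfold Ideal.ofList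
  rw [Ideal.map_span]
  congr 1
  ext x
  simp

theorem isRegularImmersion_of_isPullback (i : Y ⟶ X) (g : X' ⟶ X) [Flat g]
    (i' : Y' ⟶ X') (g' : Y' ⟶ Y) (hsq : IsPullback g' i' i g) (k : RegImm.Kind)
    (hi : RegImm.IsRegularImmersion k i) : RegImm.IsRegularImmersion k i' := by
  obtain ⟨himm, hpt⟩ := hi
  refine ⟨MorphismProperty.of_isPullback (P := @IsImmersion) hsq himm, fun z' => ?_⟩
  obtain ⟨U, hzU, hcl, rs, hrs, hker⟩ := hpt (g' z')
  have hx' : i' z' ∈ g ⁻¹ᵁ U.1 := by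
    change g (i' z') ∈ U.1
    rw [← Scheme.Hom.comp_apply, ← hsq.w, Scheme.Hom.comp_apply]; exact hzU
  obtain ⟨_, ⟨U'', hU'' : IsAffineOpen U'', rfl⟩, hz'U', hle⟩ :=
    X'.isBasis_affineOpens.exists_subset_of_mem_open hx' (g ⁻¹ᵁ U.1).2
  let U' : X'.affineOpens := ⟨U'', hU''⟩
  obtain ⟨hcl', hkey⟩ := ker_app_of_isPullback i g i' g' hsq U U' hle hcl
  set φ : Γ(X, U.1) →+* Γ(X', U'.1) := (g.appLE U.1 U'.1 hle).hom with hφ
  have hflat : φ.Flat :=
    HasRingHomProperty.appLE (P := @Flat) g inferInstance U U' hle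
  refine ⟨U', hz'U', hcl', rs.map φ, ?_, ?_⟩
  · apply RegSeqFlat.seq_of_flat φ k hflat rs hrs
    rw [ofList_map, ← hker, ← hkey]
    intro htop
    have h1 : (1 : Γ(X', U'.1)) ∈ RingHom.ker (i'.app U'.1).hom := by rw [htop]; trivial
    rw [RingHom.mem_ker, map_one] at h1
    haveI hne : Nonempty (i' ⁻¹ᵁ U'.1 : Y'.Opens) := ⟨⟨z', hz'U'⟩⟩
    exact one_ne_zero h1
  · rw [ofList_map, ← hker, hkey]

end Groth.Agent.Lib.Seat40.RegImmBC
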