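import Mathlib
import Groth.Prelude.Def_RegImm
import Groth.Agent.Lib.Seat40RegImmBC
import Groth.Agent.Lib.Seat40KoszulComp

/-!
# Composition of Koszul-regular immersions (Seat 40)
-/

set_option autoImplicit false
set_option linter.style.haveILetI false
universe u

namespace Groth.Agent.Lib.Seat40.RegImmComp

open CategoryTheory CategoryTheory.Limits AlgebraicGeometry
open Groth.Agent.Lib.Seat40

variable {X Y Z : Scheme.{u}}

/-- sections of a morphism over an affine open over which it is a closed immersion are surjective -/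
theorem app_surjective_of_restrict (f : Y ⟶ X) (U : X.Opens) (hU : IsAffineOpen U)
    (hcl : IsClosedImmersion (f ∣_ U)) : Function.Surjective (f.app U).hom := by
  haveI : IsAffine U := hU
  have hsurj : Function.Surjective (f ∣_ U).appTop.hom :=
    (IsClosedImmersion.isAffine_surjective_of_isAffine (f ∣_ U)).2
  rw [← Scheme.Hom.resLE_eq_morphismRestrict, Scheme.Hom.appTop, Scheme.Hom.resLE_app_top,
    Scheme.Hom.appLE_eq_app] at hsurj
  intro y
  obtain ⟨x, hx⟩ := hsurj ((f ⁻¹ᵁ U).topIso.inv.hom y)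
  refine ⟨U.topIso.hom.hom x, ?_⟩
  have hinj : Function.Injective (f ⁻¹ᵁ U).topIso.inv.hom :=
    (f ⁻¹ᵁ U).topIso.symm.commRingCatIsoToRingEquiv.injective
  exact hinj hx

/-- shrinking the affine open in the definition of a regular immersion at a point -/
theorem shrink (i : Y ⟶ X) (k : RegImm.Kind) (U U' : X.affineOpens) (hle : U'.1 ≤ U.1)
    (hcl : IsClosedImmersion (i ∣_ U.1)) (rs : List Γ(X, U.1)) (hrs : k.Seq Γ(X, U.1) rs)
    (hker : RingHom.ker (i.app U.1).hom = Ideal.ofList rs) (y : Y) (hy : i y ∈ U'.1) :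
    IsClosedImmersion (i ∣_ U'.1) ∧ ∃ rs' : List Γ(X, U'.1), rs'.length = rs.length ∧
      k.Seq Γ(X, U'.1) rs' ∧ RingHom.ker (i.app U'.1).hom = Ideal.ofList rs' := by
  have hle' : U'.1 ≤ (𝟙 X) ⁻¹ᵁ U.1 := hle
  obtain ⟨hcl', hkey⟩ := RegImmBC.ker_app_of_isPullback i (𝟙 X) i (𝟙 Y) (IsPullback.id_horiz i)
    U U' hle' hcl
  set φ : Γ(X, U.1) →+* Γ(X, U'.1) := ((𝟙 X : X ⟶ X).appLE U.1 U'.1 hle').hom with hφ
  have hflat : φ.Flat :=
    HasRingHomProperty.appLE (P := @Flat) (𝟙 X) inferInstance U U' hle'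
  refine ⟨hcl', rs.map φ, List.length_map _, ?_, ?_⟩
  · apply RegSeqFlat.seq_of_flat φ k hflat rs hrs
    rw [RegImmBC.ofList_map, ← hker, ← hkey]
    intro htop
    have h1 : (1 : Γ(X, U'.1)) ∈ RingHom.ker (i.app U'.1).hom := by rw [htop]; trivial
    rw [RingHom.mem_ker, map_one] at h1
    haveI hne : Nonempty (i ⁻¹ᵁ U'.1 : Y.Opens) := ⟨⟨y, hy⟩⟩
    exact one_ne_zero h1
  · rw [RegImmBC.ofList_map, ← hker, hkey]

/-- the local statement: composition of Koszul-regular immersions at a point -/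
theorem comp_at (i : Y ⟶ X) (j : Z ⟶ Y) [IsImmersion i] (z : Z)
    (U : X.affineOpens) (hU : i (j z) ∈ U.1) (hcl : IsClosedImmersion (i ∣_ U.1))
    (rs : List Γ(X, U.1)) (hrs : LCI.IsKoszulRegularSeq Γ(X, U.1) rs)
    (hker : RingHom.ker (i.app U.1).hom = Ideal.ofList rs)
    (V : Y.affineOpens) (hV : j z ∈ V.1) (hclV : IsClosedImmersion (j ∣_ V.1))
    (ss : List Γ(Y, V.1)) (hss : LCI.IsKoszulRegularSeq Γ(Y, V.1) ss)
    (hkerV : RingHom.ker (j.app V.1).hom = Ideal.ofList ss) :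
    ∃ W : X.affineOpens, (j ≫ i) z ∈ W.1 ∧ IsClosedImmersion ((j ≫ i) ∣_ W.1) ∧
      ∃ ts : List Γ(X, W.1), ts.length = ss.length + rs.length ∧
        LCI.IsKoszulRegularSeq Γ(X, W.1) ts ∧
        RingHom.ker ((j ≫ i).app W.1).hom = Ideal.ofList ts := by
  -- an open of `X` cutting out `V`
  obtain ⟨W', hW'o, hW'⟩ := i.isEmbedding.isInducing.isOpen_iff.1 V.1.2
  have hxW' : i (j z) ∈ W' := by
    have : j z ∈ i ⁻¹' W' := by rw [hW']; exact hV
    exact this
  obtain ⟨_, ⟨W0, hW0 : IsAffineOpen W0, rfl⟩, hzW, hWle⟩ :=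
    X.isBasis_affineOpens.exists_subset_of_mem_open (⟨hxW', hU⟩ : i (j z) ∈ W' ∩ U.1.1)
      (hW'o.inter U.1.2)
  let W : X.affineOpens := ⟨W0, hW0⟩
  have hWU : W.1 ≤ U.1 := fun x hx => (hWle hx).2
  obtain ⟨hclW, rs', hlen, hrs', hkerW⟩ :=
    shrink i .koszul U W hWU hcl rs hrs hker (j z) hzW
  haveI : IsAffine W.1 := W.2
  have hV'aff : IsAffineOpen (i ⁻¹ᵁ W.1) := isAffine_of_isAffineHom (i ∣_ W.1)
  let V' : Y.affineOpens := ⟨i ⁻¹ᵁ W.1, hV'aff⟩
  have hV'V : V'.1 ≤ V.1 := by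
    intro y hy
    have h1 : i y ∈ W' := (hWle hy).1
    have : y ∈ i ⁻¹' W' := h1
    rw [hW'] at this
    exact this
  obtain ⟨hclV', ss', hlen', hss', hkerV'⟩ :=
    shrink j .koszul V V' hV'V hclV ss hss hkerV z hzW
  refine ⟨W, hzW, ?_, ?_⟩
  · rw [morphismRestrict_comp]
    haveI h1 : IsClosedImmersion (j ∣_ i ⁻¹ᵁ W.1) := hclV'
    haveI h2 : IsClosedImmersion (i ∣_ W.1) := hclW
    exact MorphismProperty.comp_mem (W := @IsClosedImmersion) _ _ h1 h2
  · set α : Γ(X, W.1) →+* Γ(Y, i ⁻¹ᵁ W.1) := (i.app W.1).hom with hα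
    set β : Γ(Y, i ⁻¹ᵁ W.1) →+* Γ(Z, j ⁻¹ᵁ (i ⁻¹ᵁ W.1)) := (j.app (i ⁻¹ᵁ W.1)).hom with hβ
    have hαs : Function.Surjective α := app_surjective_of_restrict i W.1 W.2 hclW
    obtain ⟨ts, hts⟩ := List.map_surjective_iff.2 hαs ss'
    refine ⟨ts ++ rs', ?_, ?_, ?_⟩
    · rw [List.length_append, hlen, ← hlen', ← hts, List.length_map]
    · refine KoszulComp.koszul_append α hαs rs' ts hkerW hrs' ?_
      rw [hts]
      exact hss'
    · have hmem : ∀ x, x ∈ RingHom.ker ((j ≫ i).app W.1).hom ↔ x ∈ (RingHom.ker β).comap α := by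
        intro x
        rw [RingHom.mem_ker, Ideal.mem_comap, RingHom.mem_ker, Scheme.Hom.comp_app]
        rfl
      ext x
      rw [hmem x, hkerV', ← hts, RegImmBC.ofList_map,
        Ideal.comap_map_of_surjective' α hαs, hkerW, Ideal.ofList_append]

end Groth.Agent.Lib.Seat40.RegImmComp
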