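import Mathlib
import Groth.Prelude.Def_CAlgX

/-!
# Seat23TransReg: flatness of the powers of an ideal generated by a transversally regular sequence

* `flat_of_exact_mid`, `flat_of_exact_left`: flatness in short exact sequences.
* `restrictScalarsEquiv`, `flat_restrictScalars`, `flat_of_isLocalizedModule`,
  `flat_restrictScalars_of_isLocalizedModule`: restriction of scalars and localisation.
* `flat_mvPolynomial`.
* for a quasi-regular sequence `f` generating `J` with `B/J` flat over `A`: `flat_quot_pow`
  (`B/J^m` is `A`-flat), `flat_pow_quot` (`J^n/J^m`), `flat_pow` (`J^n`, if moreover `B` is flat).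
-/

set_option autoImplicit false
set_option linter.style.haveILetI false
universe u v w

namespace Groth.Agent.Lib.Seat23.TransReg

open MvPolynomial TensorProduct

section Exact

variable {R : Type*} [CommRing R]

/-- Extension of flat by flat is flat. -/
theorem flat_of_exact_mid {M' M M'' : Type*} [AddCommGroup M'] [AddCommGroup M] [AddCommGroup M'']
    [Module R M'] [Module R M] [Module R M''] [Module.Flat R M'] [Module.Flat R M'']
    (ι : M' →ₗ[R] M) (δ : M →ₗ[R] M'') (hι : Function.Injective ι) (hδ : Function.Surjective δ)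
    (hex : Function.Exact ι δ) : Module.Flat R M := by
  rw [Module.Flat.iff_rTensor_injective']
  intro I
  have hex2 : Function.Exact (ι.lTensor I) (δ.lTensor I) := lTensor_exact I hex hδ
  have h1 : Function.Injective (LinearMap.rTensor M' (Submodule.subtype I)) :=
    Module.Flat.rTensor_preserves_injective_linearMap _ (Submodule.subtype_injective I)
  have h2 : Function.Injective (LinearMap.rTensor M'' (Submodule.subtype I)) :=
    Module.Flat.rTensor_preserves_injective_linearMap _ (Submodule.subtype_injective I)
  have hιR : Function.Injective (ι.lTensor R) :=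
    Module.Flat.lTensor_preserves_injective_linearMap _ hι
  rw [injective_iff_map_eq_zero]
  intro x hx
  have e1 : (LinearMap.rTensor M'' (Submodule.subtype I)) ((δ.lTensor I) x) = 0 := by
    rw [← LinearMap.comp_apply, LinearMap.rTensor_comp_lTensor, ← LinearMap.lTensor_comp_rTensor,
      LinearMap.comp_apply, hx, map_zero]
  have e2 : (δ.lTensor I) x = 0 := h2 (by rw [e1, map_zero])
  obtain ⟨y, rfl⟩ := (hex2 x).mp e2
  have e3 : (ι.lTensor R) ((LinearMap.rTensor M' (Submodule.subtype I)) y) = 0 := by
    rw [← LinearMap.comp_apply, LinearMap.lTensor_comp_rTensor, ← LinearMap.rTensor_comp_lTensor,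
      LinearMap.comp_apply, hx]
  have e4 : y = 0 := h1 (by rw [map_zero]; exact hιR (by rw [e3, map_zero]))
  rw [e4, map_zero]

/-- The kernel of a surjection between flat modules is flat. -/
theorem flat_of_exact_left {M' M M'' : Type*} [AddCommGroup M'] [AddCommGroup M] [AddCommGroup M'']
    [Module R M'] [Module R M] [Module R M''] [Module.Flat R M] [Module.Flat R M'']
    (ι : M' →ₗ[R] M) (δ : M →ₗ[R] M'') (hι : Function.Injective ι) (hδ : Function.Surjective δ)
    (hex : Function.Exact ι δ) : Module.Flat R M' := by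
  rw [Module.Flat.iff_rTensor_injective']
  intro I
  have h1 : Function.Injective (ι.lTensor I) :=
    LinearMap.lTensor_injective_of_exact_of_flat δ hδ ι hι hex I
  have h2 : Function.Injective (LinearMap.rTensor M (Submodule.subtype I)) :=
    Module.Flat.rTensor_preserves_injective_linearMap _ (Submodule.subtype_injective I)
  have h3 : Function.Injective ((LinearMap.rTensor M (Submodule.subtype I)) ∘ₗ (ι.lTensor I)) :=
    h2.comp h1
  rw [LinearMap.rTensor_comp_lTensor, ← LinearMap.lTensor_comp_rTensor] at h3
  exact Function.Injective.of_comp h3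

end Exact

section Restrict

variable (A : Type*) (B : Type*) [CommRing A] [CommRing B] [Algebra A B]

/-- For a module in a scalar tower, restriction of scalars is the module itself. -/
def restrictScalarsEquiv (X : Type*) [AddCommGroup X] [Module A X] [Module B X]
    [IsScalarTower A B X] : RestrictScalars A B X ≃ₗ[A] X where
  __ := RestrictScalars.addEquiv A B X
  map_smul' r x := by
    change RestrictScalars.addEquiv A B X (r • x) = r • RestrictScalars.addEquiv A B X x
    rw [RestrictScalars.addEquiv_map_smul, algebraMap_smul]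

theorem flat_restrictScalars (X : Type*) [AddCommGroup X] [Module A X] [Module B X]
    [IsScalarTower A B X] [Module.Flat A X] : Module.Flat A (RestrictScalars A B X) :=
  Module.Flat.of_linearEquiv (restrictScalarsEquiv A B X)

/-- Localisation of a `B`-module, flat over `A`, at a submonoid of `B` is flat over `A`. -/
theorem flat_of_isLocalizedModule {X Y : Type*} [AddCommGroup X] [Module A X] [Module B X]
    [IsScalarTower A B X] [AddCommGroup Y] [Module A Y] [Module B Y] [IsScalarTower A B Y]
    (S : Submonoid B) (g : X →ₗ[B] Y) [IsLocalizedModule S g] [Module.Flat A X] :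
    Module.Flat A Y := by
  apply Module.Flat.of_forall_isTrivialRelation
  intro l f x hfx
  obtain ⟨b, hb⟩ := IsLocalizedModule.exist_integer_multiples_of_finite S g x
  choose m hm using hb
  have h1 : g (∑ i, f i • m i) = 0 := by
    rw [map_sum]
    have : ∀ i, g (f i • m i) = (b : B) • (f i • x i) := by
      intro i
      rw [← algebraMap_smul B (f i) (m i), map_smul, hm, algebraMap_smul, smul_comm]
    simp_rw [this]
    rw [← Finset.smul_sum, hfx, smul_zero]
  obtain ⟨c, hc⟩ := (IsLocalizedModule.eq_zero_iff S g).mp h1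
  have h2 : ∑ i, f i • ((c : B) • m i) = 0 := by
    have : ∀ i, f i • ((c : B) • m i) = (c : B) • (f i • m i) := fun i => smul_comm _ _ _
    simp_rw [this]
    rw [← Finset.smul_sum]
    exact hc
  obtain ⟨k, a, y, hy1, hy2⟩ := Module.Flat.isTrivialRelation_of_sum_smul_eq_zero h2
  have hu := IsLocalizedModule.map_units g (c * b)
  obtain ⟨u, hu⟩ := hu
  refine ⟨k, a, fun j => (u⁻¹ : (Module.End B Y)ˣ).1 (g (y j)), ?_, hy2⟩
  intro i
  have h3 : (u : Module.End B Y) (x i) = g ((c : B) • m i) := by
    rw [hu, Module.algebraMap_end_apply, map_smul, hm, Submonoid.coe_mul, mul_smul]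
  have h4 : x i = (u⁻¹ : (Module.End B Y)ˣ).1 (g ((c : B) • m i)) := by
    rw [← h3]
    change x i = ((u⁻¹ : (Module.End B Y)ˣ).1 * (u : Module.End B Y)) (x i)
    rw [Units.inv_mul]
    rfl
  have hy1' : (c : B) • m i = ∑ j, a i j • y j := hy1 i
  rw [h4, hy1', map_sum, map_sum]
  refine Finset.sum_congr rfl (fun j _ => ?_)
  rw [← algebraMap_smul B (a i j) (y j), map_smul, map_smul, algebraMap_smul]

/-- Localisation of a `B`-module whose restriction of scalars to `A` is flat has flat restriction
of scalars. -/
theorem flat_restrictScalars_of_isLocalizedModule {X Y : Type*} [AddCommGroup X] [Module B X]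
    [AddCommGroup Y] [Module B Y]
    (S : Submonoid B) (g : X →ₗ[B] Y) [IsLocalizedModule S g]
    (h : Module.Flat A (RestrictScalars A B X)) :
    Module.Flat A (RestrictScalars A B Y) := by
  letI : Module A X := Module.compHom X (algebraMap A B)
  letI : Module A Y := Module.compHom Y (algebraMap A B)
  haveI : IsScalarTower A B X := ⟨fun a b x => by
    rw [Algebra.smul_def, mul_smul]
    rfl⟩
  haveI : IsScalarTower A B Y := ⟨fun a b x => by
    rw [Algebra.smul_def, mul_smul]
    rfl⟩
  haveI : Module.Flat A X := h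
  have key : Module.Flat A Y := flat_of_isLocalizedModule A B S g
  exact key

end Restrict

section FlatPoly

variable (A : Type*) [CommRing A] (S : Type*) [CommRing S] [Algebra A S] (σ : Type*)

theorem flat_finsupp (M : Type*) [AddCommGroup M] [Module A M] [Module.Flat A M] (ι : Type*) :
    Module.Flat A (ι →₀ M) := by
  classical exact Module.Flat.of_linearEquiv (finsuppLEquivDirectSum A M ι)

theorem flat_mvPolynomial [Module.Flat A S] : Module.Flat A (MvPolynomial σ S) := by
  haveI := flat_finsupp A S (σ →₀ ℕ)
  exact Module.Flat.of_linearEquiv (AddMonoidAlgebra.coeffLinearEquiv (M := σ →₀ ℕ) (S := S) A)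

end FlatPoly

section Graded

variable {B : Type u} [CommRing B] {c : ℕ} (f : Fin c → B)

local notation "J" => Ideal.span (Set.range f)

/-- The monomial `f^d` lies in `J^|d|`. -/
theorem prod_pow_mem (d : Fin c →₀ ℕ) :
    (d.prod fun i e => f i ^ e) ∈ J ^ d.degree := by
  rw [Finsupp.prod, Finsupp.degree_apply, ← Finset.prod_pow_eq_pow_sum]
  refine Ideal.prod_mem_prod (fun i _ => ?_)
  exact Ideal.pow_mem_pow (Ideal.subset_span (Set.mem_range_self i)) _

/-- A homogeneous polynomial of degree `k` with coefficients in `J` takes a value in `J^(k+1)` at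
`f`. -/
theorem eval_mem_pow_succ (k : ℕ) (p : MvPolynomial (Fin c) B) (hp : p.IsHomogeneous k)
    (hco : ∀ d, p.coeff d ∈ J) : eval f p ∈ J ^ (k + 1) := by
  rw [eval_eq]
  refine Ideal.sum_mem _ (fun d hd => ?_)
  have hdeg : d.degree = k := by
    rw [Finsupp.degree_eq_weight_one]
    exact hp (mem_support_iff.mp hd)
  rw [pow_succ']
  have h1 := prod_pow_mem f d
  rw [hdeg] at h1
  have h2 : (∏ i ∈ d.support, f i ^ d i) = d.prod fun i e => f i ^ e := rfl
  rw [h2]
  exact Ideal.mul_mem_mul (hco d) h1

/-- Evaluation at `f` on homogeneous polynomials of degree `k`, modulo `J^(k+1)`. -/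
noncomputable def psi (k : ℕ) :
    ↥(homogeneousSubmodule (Fin c) B k) →ₗ[B] B ⧸ (J ^ (k + 1)) :=
  (Submodule.mkQ (J ^ (k + 1))) ∘ₗ (aeval f).toLinearMap ∘ₗ
    (homogeneousSubmodule (Fin c) B k).subtype

/-- Reduction of the coefficients modulo `J` on homogeneous polynomials of degree `k`. -/
noncomputable def cm (k : ℕ) :
    ↥(homogeneousSubmodule (Fin c) B k) →ₗ[B] MvPolynomial (Fin c) (B ⧸ J) :=
  (mapAlgHom (Ideal.Quotient.mkₐ B J)).toLinearMap ∘ₗ
    (homogeneousSubmodule (Fin c) B k).subtype

theorem psi_apply (k : ℕ) (p : ↥(homogeneousSubmodule (Fin c) B k)) :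
    psi f k p = Submodule.Quotient.mk (eval f p.1) := rfl

theorem cm_apply (k : ℕ) (p : ↥(homogeneousSubmodule (Fin c) B k)) :
    cm f k p = map (Ideal.Quotient.mk J) p.1 := rfl

theorem mem_ker_cm_iff (k : ℕ) (p : ↥(homogeneousSubmodule (Fin c) B k)) :
    p ∈ LinearMap.ker (cm f k) ↔ ∀ d, p.1.coeff d ∈ J := by
  rw [LinearMap.mem_ker, cm_apply]
  constructor
  · intro h d
    have := congrArg (coeff d) h
    rwa [coeff_map, coeff_zero, Ideal.Quotient.eq_zero_iff_mem] at this
  · intro h
    ext d
    rw [coeff_map, coeff_zero, Ideal.Quotient.eq_zero_iff_mem]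
    exact h d

theorem ker_psi_eq_ker_cm (hq : CAlgX.IsQuasiRegular f) (k : ℕ) :
    LinearMap.ker (psi f k) = LinearMap.ker (cm f k) := by
  ext p
  rw [mem_ker_cm_iff, LinearMap.mem_ker, psi_apply, Submodule.Quotient.mk_eq_zero]
  constructor
  · intro h
    exact hq k p.1 p.2 h
  · intro h
    exact eval_mem_pow_succ f k p.1 p.2 h

theorem range_psi (k : ℕ) :
    LinearMap.range (psi f k) =
      LinearMap.ker (Submodule.factor (Ideal.pow_le_pow_right (I := J) (Nat.le_succ k))) := by
  ext y
  obtain ⟨x, rfl⟩ := Submodule.Quotient.mk_surjective _ y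
  have hfac : Submodule.factor (Ideal.pow_le_pow_right (I := J) (Nat.le_succ k))
      (Submodule.Quotient.mk x) = Submodule.Quotient.mk x := Submodule.factor_mk _ x
  rw [LinearMap.mem_ker, hfac, Submodule.Quotient.mk_eq_zero,
    Ideal.mem_span_pow_iff_exists_isHomogeneous]
  constructor
  · rintro ⟨p, hp⟩
    rw [psi_apply, Submodule.Quotient.eq] at hp
    have h1 : eval f p.1 ∈ J ^ k :=
      (Ideal.mem_span_pow_iff_exists_isHomogeneous f _).mpr ⟨p.1, p.2, rfl⟩
    have h2 : eval f p.1 - x ∈ J ^ k := Ideal.pow_le_pow_right (Nat.le_succ k) hp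
    have h3 : x ∈ J ^ k := by
      have := Ideal.sub_mem _ h1 h2
      simpa using this
    exact (Ideal.mem_span_pow_iff_exists_isHomogeneous f _).mp h3
  · rintro ⟨p, hp, rfl⟩
    exact ⟨⟨p, hp⟩, rfl⟩

end Graded


section GradedFlat

variable (A : Type u) [CommRing A] {B : Type u} [CommRing B] [Algebra A B] {c : ℕ} (f : Fin c → B)

local notation "J" => Ideal.span (Set.range f)

theorem flat_range_cm [Module.Flat A (B ⧸ J)] (k : ℕ) :
    Module.Flat A ↥(LinearMap.range ((cm f k).restrictScalars A)) := by
  haveI : Module.Flat A (MvPolynomial (Fin c) (B ⧸ J)) := flat_mvPolynomial A (B ⧸ J) (Fin c)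
  have hmem : ∀ q : MvPolynomial (Fin c) (B ⧸ J),
      ((homogeneousComponent k).restrictScalars A) q ∈
        LinearMap.range ((cm f k).restrictScalars A) := by
    intro q
    obtain ⟨p, rfl⟩ := map_surjective (Ideal.Quotient.mk J) Ideal.Quotient.mk_surjective q
    refine ⟨⟨homogeneousComponent k p, homogeneousComponent_mem k p⟩, ?_⟩
    change cm f k ⟨homogeneousComponent k p, _⟩ = homogeneousComponent k (map (Ideal.Quotient.mk J) p)
    rw [cm_apply]
    ext d
    simp only [coeff_map, coeff_homogeneousComponent]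
    split_ifs <;> simp
  refine Module.Flat.of_retract (LinearMap.range ((cm f k).restrictScalars A)).subtype
    (LinearMap.codRestrict _ ((homogeneousComponent k).restrictScalars A) hmem) ?_
  apply LinearMap.ext
  rintro ⟨q, p, rfl⟩
  apply Subtype.ext
  change homogeneousComponent k (cm f k p) = cm f k p
  rw [cm_apply]
  exact homogeneousComponent_eq_self (p.2.map _)

theorem flat_quot_ker_psi (hq : CAlgX.IsQuasiRegular f) [Module.Flat A (B ⧸ J)] (k : ℕ) :
    Module.Flat A (↥(homogeneousSubmodule (Fin c) B k) ⧸ LinearMap.ker (psi f k)) := by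
  have e1 := Submodule.Quotient.restrictScalarsEquiv A (LinearMap.ker (psi f k))
  have heq : (LinearMap.ker (psi f k)).restrictScalars A =
      LinearMap.ker ((cm f k).restrictScalars A) := by
    rw [ker_psi_eq_ker_cm f hq k]
    ext x
    simp
  have e2 := Submodule.quotEquivOfEq _ _ heq
  have e3 := LinearMap.quotKerEquivRange ((cm f k).restrictScalars A)
  haveI := flat_range_cm A f k
  exact Module.Flat.of_linearEquiv (e1.symm.trans (e2.trans e3))

theorem flat_quot_pow (hq : CAlgX.IsQuasiRegular f) [Module.Flat A (B ⧸ J)] :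
    ∀ m : ℕ, Module.Flat A (B ⧸ J ^ m)
  | 0 => by
    haveI : Subsingleton (B ⧸ J ^ 0) := by
      rw [pow_zero, Ideal.one_eq_top]
      exact Ideal.Quotient.subsingleton_iff.mpr rfl
    infer_instance
  | m + 1 => by
    haveI := flat_quot_pow hq m
    haveI := flat_quot_ker_psi A f hq m
    refine flat_of_exact_mid
      (((LinearMap.ker (psi f m)).liftQ (psi f m) le_rfl).restrictScalars A)
      ((Submodule.factor (Ideal.pow_le_pow_right (I := J) (Nat.le_succ m))).restrictScalars A)
      ?_ ?_ ?_
    · rw [LinearMap.coe_restrictScalars, ← LinearMap.ker_eq_bot]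
      exact Submodule.ker_liftQ_eq_bot _ _ _ le_rfl
    · rw [LinearMap.coe_restrictScalars]
      exact Submodule.factor_surjective _
    · rw [LinearMap.coe_restrictScalars, LinearMap.coe_restrictScalars, LinearMap.exact_iff,
        Submodule.range_liftQ, range_psi]

end GradedFlat


section Final

variable (A : Type u) [CommRing A] {B : Type u} [CommRing B] [Algebra A B] {c : ℕ} (f : Fin c → B)

local notation "J" => Ideal.span (Set.range f)

/-- `J^n/J^m` is flat over `A`. -/
theorem flat_pow_quot (hq : CAlgX.IsQuasiRegular f) [Module.Flat A (B ⧸ J)] (n m : ℕ) (hnm : n ≤ m) :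
    Module.Flat A (↥(J ^ n) ⧸ (Submodule.comap (J ^ n).subtype (J ^ m))) := by
  haveI := flat_quot_pow A f hq n
  haveI := flat_quot_pow A f hq m
  have hle : Submodule.comap (J ^ n).subtype (J ^ m) ≤
      LinearMap.ker ((Submodule.mkQ (J ^ m)) ∘ₗ (J ^ n).subtype) := by
    rw [LinearMap.ker_comp, Submodule.ker_mkQ]
  refine flat_of_exact_left
    (((Submodule.comap (J ^ n).subtype (J ^ m)).liftQ
      ((Submodule.mkQ (J ^ m)) ∘ₗ (J ^ n).subtype) hle).restrictScalars A)
    ((Submodule.factor (Ideal.pow_le_pow_right (I := J) hnm)).restrictScalars A) ?_ ?_ ?_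
  · rw [LinearMap.coe_restrictScalars, ← LinearMap.ker_eq_bot]
    apply Submodule.ker_liftQ_eq_bot
    rw [LinearMap.ker_comp, Submodule.ker_mkQ]
  · rw [LinearMap.coe_restrictScalars]
    exact Submodule.factor_surjective _
  · rw [LinearMap.coe_restrictScalars, LinearMap.coe_restrictScalars, LinearMap.exact_iff,
      Submodule.range_liftQ]
    ext y
    obtain ⟨x, rfl⟩ := Submodule.Quotient.mk_surjective _ y
    have hfac : Submodule.factor (Ideal.pow_le_pow_right (I := J) hnm)
        (Submodule.Quotient.mk x) = Submodule.Quotient.mk x := Submodule.factor_mk _ x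
    rw [LinearMap.mem_ker, hfac, Submodule.Quotient.mk_eq_zero]
    constructor
    · intro hx
      exact ⟨⟨x, hx⟩, rfl⟩
    · rintro ⟨⟨z, hz⟩, hzx⟩
      change Submodule.Quotient.mk z = Submodule.Quotient.mk x at hzx
      rw [Submodule.Quotient.eq] at hzx
      have h2 : z - x ∈ J ^ n := Ideal.pow_le_pow_right hnm hzx
      have := Ideal.sub_mem _ hz h2
      simpa using this

/-- `J^n` is flat over `A`. -/
theorem flat_pow (hq : CAlgX.IsQuasiRegular f) [Module.Flat A B] [Module.Flat A (B ⧸ J)] (n : ℕ) :
    Module.Flat A ↥(J ^ n) := by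
  haveI := flat_quot_pow A f hq n
  refine flat_of_exact_left ((J ^ n).subtype.restrictScalars A)
    ((Submodule.mkQ (J ^ n)).restrictScalars A) ?_ ?_ ?_
  · rw [LinearMap.coe_restrictScalars]
    exact Submodule.subtype_injective _
  · rw [LinearMap.coe_restrictScalars]
    exact Submodule.mkQ_surjective _
  · rw [LinearMap.coe_restrictScalars, LinearMap.coe_restrictScalars]
    exact LinearMap.exact_subtype_mkQ _

end Final

end Groth.Agent.Lib.Seat23.TransReg
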