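import Mathlib
import Groth.Prelude.Def_RegImm
import Groth.Agent.Lib.Seat23TransReg

/-!
# Base change of relative `H₁`-regular and quasi-regular sequences (Seat 40)

Let `B` be an `R`-algebra, `f` a finite sequence in `B` which is `H₁`-regular (resp. quasi-regular) and
such that `B ⧸ (f)` is flat over `R`.  Then for every `R`-algebra `R'` the sequence `1 ⊗ f` in
`R' ⊗[R] B` is `H₁`-regular (resp. quasi-regular).
-/

set_option autoImplicit false
set_option linter.style.haveILetI false
universe u

namespace Groth.Agent.Lib.Seat40.RelRegBC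

open TensorProduct

variable {R B : Type u} [CommRing R] [CommRing B] [Algebra R B] (R' : Type u) [CommRing R']
  [Algebra R R'] {c : ℕ} (f : Fin c → B)

local notation "J" => Ideal.span (Set.range f)

/-- the relation map `a ↦ Σ a_i f_i` -/
noncomputable def rel : (Fin c → B) →ₗ[B] B where
  toFun a := ∑ i, a i * f i
  map_add' a b := by simp [add_mul, Finset.sum_add_distrib]
  map_smul' r a := by simp [Finset.mul_sum, mul_assoc]

lemma rel_apply (a : Fin c → B) : rel f a = ∑ i, a i * f i := rfl

lemma rel_mem (a : Fin c → B) : rel f a ∈ J := by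
  rw [rel_apply]
  exact Ideal.sum_mem _ fun i _ => Ideal.mul_mem_left _ _ (Ideal.subset_span ⟨i, rfl⟩)

/-- the relation map with values in the ideal -/
noncomputable def relJ : (Fin c → B) →ₗ[B] J :=
  LinearMap.codRestrict _ (rel f) (rel_mem f)

lemma relJ_surjective : Function.Surjective (relJ f) := by
  rintro ⟨x, hx⟩
  obtain ⟨a, ha⟩ := (Ideal.mem_span_range_iff_exists_fun).1 hx
  refine ⟨a, Subtype.ext ?_⟩
  change ∑ i, a i * f i = x
  exact ha

/-- the trivial relations -/
def triv : Submodule B (Fin c → B) :=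
  Submodule.span B {v : Fin c → B | ∃ i j : Fin c, v = Pi.single i (f j) - Pi.single j (f i)}

lemma ker_relJ (h : CAlgX.IsH1Regular f) : LinearMap.ker (relJ f) ≤ triv f := by
  intro a ha
  apply h a
  have := congrArg Subtype.val (LinearMap.mem_ker.1 ha)
  exact this

/-- trivial relations are mapped to trivial relations -/
lemma piRight_mem_triv (t : Fin c → B) (ht : t ∈ triv f) (r : R') :
    (fun i => (r ⊗ₜ[R] t i : R' ⊗[R] B)) ∈
      Submodule.span (R' ⊗[R] B) {v : Fin c → R' ⊗[R] B | ∃ i j : Fin c,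
        v = Pi.single i ((1 : R') ⊗ₜ[R] f j) - Pi.single j ((1 : R') ⊗ₜ[R] f i)} := by
  classical
  unfold triv at ht
  induction ht using Submodule.span_induction with
  | mem t ht =>
    obtain ⟨i, j, rfl⟩ := ht
    have : (fun m => (r ⊗ₜ[R] (Pi.single i (f j) - Pi.single j (f i) : Fin c → B) m : R' ⊗[R] B)) =
        (r ⊗ₜ[R] (1 : B)) • (Pi.single i ((1 : R') ⊗ₜ[R] f j) - Pi.single j ((1 : R') ⊗ₜ[R] f i)) := by
      ext m
      simp only [Pi.sub_apply, Pi.smul_apply, smul_eq_mul, mul_sub]
      rw [TensorProduct.tmul_sub]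
      congr 1
      · by_cases hm : m = i
        · subst hm; simp
        · simp [Pi.single_eq_of_ne hm]
      · by_cases hm : m = j
        · subst hm; simp
        · simp [Pi.single_eq_of_ne hm]
    rw [this]
    exact Submodule.smul_mem _ _ (Submodule.subset_span ⟨i, j, rfl⟩)
  | zero =>
    have : (fun i => (r ⊗ₜ[R] (0 : Fin c → B) i : R' ⊗[R] B)) = 0 := by
      ext i; simp
    rw [this]; exact Submodule.zero_mem _
  | add x y _ _ hx hy =>
    have : (fun i => (r ⊗ₜ[R] (x + y) i : R' ⊗[R] B)) =
        (fun i => (r ⊗ₜ[R] x i : R' ⊗[R] B)) + (fun i => (r ⊗ₜ[R] y i : R' ⊗[R] B)) := by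
      ext i; simp [TensorProduct.tmul_add]
    rw [this]; exact Submodule.add_mem _ hx hy
  | smul b x _ hx =>
    have : (fun i => (r ⊗ₜ[R] (b • x) i : R' ⊗[R] B)) =
        ((1 : R') ⊗ₜ[R] b) • (fun i => (r ⊗ₜ[R] x i : R' ⊗[R] B)) := by
      ext i; simp
    rw [this]; exact Submodule.smul_mem _ _ hx

/-- base change of a relative `H₁`-regular sequence -/
theorem h1_baseChange (h : CAlgX.IsH1Regular f) [Module.Flat R (B ⧸ J)] :
    CAlgX.IsH1Regular (fun i => ((1 : R') ⊗ₜ[R] f i : R' ⊗[R] B)) := by
  classical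
  intro a' ha'
  let E := TensorProduct.piRight R R R' (fun _ : Fin c => B)
  obtain ⟨ξ, rfl⟩ := E.surjective a'
  -- compatibility of the relation maps
  have hcomp : ∀ ξ : R' ⊗[R] (Fin c → B), ∑ i, E ξ i * ((1 : R') ⊗ₜ[R] f i) =
      ((rel f).restrictScalars R).lTensor R' ξ := by
    intro ξ
    induction ξ using TensorProduct.induction_on with
    | zero => simp
    | tmul r a =>
      simp only [E, TensorProduct.piRight_apply, TensorProduct.piRightHom_tmul,
        LinearMap.lTensor_tmul, LinearMap.coe_restrictScalars, rel_apply,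
        Algebra.TensorProduct.tmul_mul_tmul, mul_one, TensorProduct.tmul_sum]
    | add x y hx hy =>
      simp only [map_add, Pi.add_apply, add_mul, Finset.sum_add_distrib, hx, hy]
  -- injectivity of `R' ⊗ J → R' ⊗ B`
  have hinj : Function.Injective (((Submodule.subtype J).restrictScalars R).lTensor R') := by
    refine LinearMap.lTensor_injective_of_exact_of_flat ((Submodule.mkQ J).restrictScalars R) ?_
      ((Submodule.subtype J).restrictScalars R) ?_ ?_ R'
    · rw [LinearMap.coe_restrictScalars]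
      exact Submodule.mkQ_surjective _
    · rw [LinearMap.coe_restrictScalars]
      exact Submodule.subtype_injective _
    · rw [LinearMap.coe_restrictScalars, LinearMap.coe_restrictScalars]
      exact LinearMap.exact_subtype_mkQ _
  have hfac : ((rel f).restrictScalars R).lTensor R' =
      (((Submodule.subtype J).restrictScalars R).lTensor R') ∘ₗ (((relJ f).restrictScalars R).lTensor R') := by
    rw [← LinearMap.lTensor_comp]
    rfl
  have hz : (((relJ f).restrictScalars R).lTensor R') ξ = 0 := by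
    apply hinj
    rw [map_zero, ← LinearMap.comp_apply, ← hfac, ← hcomp]
    exact ha'
  -- exactness
  have hex : Function.Exact (((LinearMap.ker (relJ f)).subtype.restrictScalars R).lTensor R')
      (((relJ f).restrictScalars R).lTensor R') := by
    refine lTensor_exact (R := R) R' ?_ ?_
    · rw [LinearMap.coe_restrictScalars, LinearMap.coe_restrictScalars]
      exact LinearMap.exact_subtype_ker_map (relJ f)
    · rw [LinearMap.coe_restrictScalars]
      exact relJ_surjective f
  obtain ⟨η, rfl⟩ := (hex ξ).1 hz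
  -- conclude by induction on `η`
  have key : ∀ η : R' ⊗[R] ↥(LinearMap.ker (relJ f)),
      E ((((LinearMap.ker (relJ f)).subtype.restrictScalars R).lTensor R') η) ∈
      Submodule.span (R' ⊗[R] B) {v : Fin c → R' ⊗[R] B | ∃ i j : Fin c,
        v = Pi.single i ((1 : R') ⊗ₜ[R] f j) - Pi.single j ((1 : R') ⊗ₜ[R] f i)} := by
    intro η
    induction η using TensorProduct.induction_on with
    | zero => simp
    | tmul r t =>
      exact piRight_mem_triv R' f t.1 (ker_relJ f h t.2) r
    | add x y hx hy =>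
      rw [map_add, map_add]
      exact Submodule.add_mem _ hx hy
  exact key η

section Quasi

open MvPolynomial Groth.Agent.Lib.Seat23.TransReg

/-- the inclusion `B → R' ⊗[R] B` on polynomials -/
noncomputable abbrev pmap : MvPolynomial (Fin c) B →ₐ[R] MvPolynomial (Fin c) (R' ⊗[R] B) :=
  MvPolynomial.mapAlgHom (Algebra.TensorProduct.includeRight : B →ₐ[R] R' ⊗[R] B)

lemma coeff_pmap (p : MvPolynomial (Fin c) B) (d : Fin c →₀ ℕ) :
    (pmap (R := R) R' p).coeff d = (1 : R') ⊗ₜ[R] p.coeff d := by
  simp [pmap, MvPolynomial.coeff_map]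

/-- the comparison map `R' ⊗ B[X]_n → (R' ⊗ B)[X]` -/
noncomputable def polyMap (n : ℕ) :
    R' ⊗[R] ↥(homogeneousSubmodule (Fin c) B n) →ₗ[R] MvPolynomial (Fin c) (R' ⊗[R] B) :=
  TensorProduct.lift (LinearMap.mk₂ R
    (fun (r : R') (p : ↥(homogeneousSubmodule (Fin c) B n)) => r • pmap (R := R) R' p.1)
    (by intro r r' p; rw [add_smul])
    (by intro a r p; rw [smul_assoc])
    (by intro r p q; simp only [Submodule.coe_add, map_add, smul_add])
    (by
      intro a r p
      have : ((a • p : ↥(homogeneousSubmodule (Fin c) B n)) : MvPolynomial (Fin c) B) = a • p.1 := rfl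
      rw [this, map_smul, smul_comm]))

lemma polyMap_tmul (n : ℕ) (r : R') (p : ↥(homogeneousSubmodule (Fin c) B n)) :
    polyMap (R := R) R' n (r ⊗ₜ[R] p) = r • pmap (R := R) R' p.1 := rfl

lemma coeff_polyMap_tmul (n : ℕ) (r : R') (p : ↥(homogeneousSubmodule (Fin c) B n))
    (d : Fin c →₀ ℕ) :
    (polyMap (R := R) R' n (r ⊗ₜ[R] p)).coeff d = r ⊗ₜ[R] p.1.coeff d := by
  rw [polyMap_tmul, MvPolynomial.coeff_smul, coeff_pmap, TensorProduct.smul_tmul', smul_eq_mul,
    mul_one]

/-- monomials of degree `n` lie in the range of the comparison map -/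
lemma monomial_mem_range (n : ℕ) (d : Fin c →₀ ℕ) (hd : d.degree = n) (t : R' ⊗[R] B) :
    MvPolynomial.monomial d t ∈ LinearMap.range (polyMap (R := R) (B := B) (c := c) R' n) := by
  induction t using TensorProduct.induction_on with
  | zero => rw [map_zero]; exact Submodule.zero_mem _
  | tmul r b =>
    have hmem : MvPolynomial.monomial d b ∈ homogeneousSubmodule (Fin c) B n := by
      rw [mem_homogeneousSubmodule]
      exact MvPolynomial.isHomogeneous_monomial (R := B) (n := n) b hd
    refine ⟨r ⊗ₜ[R] ⟨MvPolynomial.monomial d b, hmem⟩, ?_⟩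
    ext e
    rw [coeff_polyMap_tmul, MvPolynomial.coeff_monomial, MvPolynomial.coeff_monomial]
    split_ifs
    · rfl
    · rw [TensorProduct.tmul_zero]
  | add x y hx hy =>
    rw [map_add]; exact Submodule.add_mem _ hx hy

lemma mem_range_polyMap (n : ℕ) (P : MvPolynomial (Fin c) (R' ⊗[R] B)) (hP : P.IsHomogeneous n) :
    P ∈ LinearMap.range (polyMap (R := R) (B := B) (c := c) R' n) := by
  rw [← MvPolynomial.support_sum_monomial_coeff P]
  refine Submodule.sum_mem _ fun d hd => ?_
  apply monomial_mem_range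
  rw [Finsupp.degree_eq_weight_one]
  exact hP (MvPolynomial.mem_support_iff.1 hd)

/-- the base-changed sequence -/
noncomputable abbrev bc : Fin c → R' ⊗[R] B := fun i => (1 : R') ⊗ₜ[R] f i

lemma span_bc : Ideal.span (Set.range (bc R' f)) =
    (J).map (Algebra.TensorProduct.includeRight : B →ₐ[R] R' ⊗[R] B).toRingHom := by
  rw [Ideal.map_span]
  congr 1
  ext x
  constructor
  · rintro ⟨i, rfl⟩; exact ⟨f i, ⟨i, rfl⟩, rfl⟩
  · rintro ⟨_, ⟨i, rfl⟩, rfl⟩; exact ⟨i, rfl⟩

/-- reduction modulo `J^(n+1)` after base change -/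
noncomputable abbrev theta (n : ℕ) : R' ⊗[R] B →ₐ[R] R' ⊗[R] (B ⧸ J ^ (n + 1)) :=
  Algebra.TensorProduct.map (AlgHom.id R R') (Ideal.Quotient.mkₐ R (J ^ (n + 1)))

lemma theta_eq_zero (n : ℕ) (x : R' ⊗[R] B)
    (hx : x ∈ Ideal.span (Set.range (bc R' f)) ^ (n + 1)) : theta R' f n x = 0 := by
  rw [span_bc, ← Ideal.map_pow] at hx
  have hle : (J ^ (n + 1)).map
      (Algebra.TensorProduct.includeRight : B →ₐ[R] R' ⊗[R] B).toRingHom ≤
      RingHom.ker (theta (R := R) R' f n).toRingHom := by
    rw [Ideal.map_le_iff_le_comap]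
    intro j hj
    rw [Ideal.mem_comap, RingHom.mem_ker]
    change theta R' f n ((1 : R') ⊗ₜ[R] j) = 0
    rw [Algebra.TensorProduct.map_tmul]
    have : (Ideal.Quotient.mkₐ R (J ^ (n + 1))) j = 0 := Ideal.Quotient.eq_zero_iff_mem.2 hj
    rw [this, TensorProduct.tmul_zero]
  exact hle hx

lemma eval_pmap (p : MvPolynomial (Fin c) B) :
    MvPolynomial.eval (bc R' f) (pmap (R := R) R' p) = (1 : R') ⊗ₜ[R] MvPolynomial.eval f p := by
  induction p using MvPolynomial.induction_on with
  | C a => simp [pmap]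
  | add p q hp hq => rw [map_add, map_add, hp, hq, map_add, TensorProduct.tmul_add]
  | mul_X p i hp =>
    rw [map_mul, map_mul, hp, map_mul]
    simp [pmap, bc]

lemma theta_eval_polyMap (n : ℕ) (ξ : R' ⊗[R] ↥(homogeneousSubmodule (Fin c) B n)) :
    theta R' f n (MvPolynomial.eval (bc R' f) (polyMap (R := R) R' n ξ)) =
      ((psi f n).restrictScalars R).lTensor R' ξ := by
  induction ξ using TensorProduct.induction_on with
  | zero => simp
  | tmul r p =>
    rw [polyMap_tmul, LinearMap.lTensor_tmul]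
    have h1 : r • pmap (R := R) R' p.1 = (r ⊗ₜ[R] (1 : B) : R' ⊗[R] B) • pmap (R := R) R' p.1 := by
      ext d
      rw [MvPolynomial.coeff_smul, MvPolynomial.coeff_smul, coeff_pmap, TensorProduct.smul_tmul',
        smul_eq_mul, smul_eq_mul, Algebra.TensorProduct.tmul_mul_tmul, mul_one, one_mul]
    rw [h1, MvPolynomial.smul_eval, eval_pmap, Algebra.TensorProduct.tmul_mul_tmul, mul_one, one_mul,
      Algebra.TensorProduct.map_tmul]
    rfl
  | add x y hx hy => rw [map_add, map_add, map_add, hx, hy, map_add]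

/-- coefficients of the image of `R' ⊗ ker ψ` lie in the extended ideal -/
lemma coeff_polyMap_ker (hq : CAlgX.IsQuasiRegular f) (n : ℕ)
    (η : R' ⊗[R] ↥(LinearMap.ker (psi f n))) (d : Fin c →₀ ℕ) :
    (polyMap (R := R) R' n
      ((((LinearMap.ker (psi f n)).subtype.restrictScalars R).lTensor R') η)).coeff d ∈
      Ideal.span (Set.range (bc R' f)) := by
  induction η using TensorProduct.induction_on with
  | zero => simp
  | tmul r p =>
    rw [LinearMap.lTensor_tmul, LinearMap.coe_restrictScalars, Submodule.subtype_apply,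
      coeff_polyMap_tmul]
    have hp : p.1 ∈ LinearMap.ker (cm f n) := by
      rw [← ker_psi_eq_ker_cm f hq n]; exact p.2
    have hJ : p.1.1.coeff d ∈ J := (mem_ker_cm_iff f n p.1).1 hp d
    have : (r ⊗ₜ[R] p.1.1.coeff d : R' ⊗[R] B) =
        (r ⊗ₜ[R] (1 : B)) * ((1 : R') ⊗ₜ[R] p.1.1.coeff d) := by
      rw [Algebra.TensorProduct.tmul_mul_tmul, mul_one, one_mul]
    rw [this, span_bc]
    exact Ideal.mul_mem_left _ _ (Ideal.mem_map_of_mem _ hJ)
  | add x y hx hy =>
    rw [map_add, map_add, MvPolynomial.coeff_add]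
    exact Ideal.add_mem _ hx hy

lemma exact_lTensor_sub (n : ℕ) (K : Submodule B ↥(homogeneousSubmodule (Fin c) B n)) :
    Function.Exact ((K.subtype.restrictScalars R).lTensor R')
      ((K.mkQ.restrictScalars R).lTensor R') := by
  have h1 : Function.Exact (K.subtype.restrictScalars R) (K.mkQ.restrictScalars R) := by
    rw [LinearMap.coe_restrictScalars, LinearMap.coe_restrictScalars]
    exact LinearMap.exact_subtype_mkQ K
  have h2 : Function.Surjective (K.mkQ.restrictScalars R) := by
    rw [LinearMap.coe_restrictScalars]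
    exact Submodule.mkQ_surjective K
  have := @lTensor_exact R ↥K ↥(homogeneousSubmodule (Fin c) B n)
    (↥(homogeneousSubmodule (Fin c) B n) ⧸ K) _ _ _ _ _ _ _ (K.subtype.restrictScalars R)
    (K.mkQ.restrictScalars R) R' _ _ h1 h2
  exact this

/-- base change of a relative quasi-regular sequence -/
theorem quasi_baseChange (hq : CAlgX.IsQuasiRegular f) [Module.Flat R (B ⧸ J)] :
    CAlgX.IsQuasiRegular (fun i => ((1 : R') ⊗ₜ[R] f i : R' ⊗[R] B)) := by
  classical
  intro n P hP hev d
  obtain ⟨ξ, rfl⟩ := mem_range_polyMap R' n P hP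
  have h0 : ((psi f n).restrictScalars R).lTensor R' ξ = 0 := by
    rw [← theta_eval_polyMap]
    exact theta_eq_zero R' f n _ hev
  -- factor `ψ` through its image
  set K := LinearMap.ker (psi f n) with hK
  let ι₀ : (↥(homogeneousSubmodule (Fin c) B n) ⧸ K) →ₗ[B] B ⧸ J ^ (n + 1) :=
    K.liftQ (psi f n) le_rfl
  let δ : (B ⧸ J ^ (n + 1)) →ₗ[B] B ⧸ J ^ n :=
    Submodule.factor (Ideal.pow_le_pow_right (I := J) (Nat.le_succ n))
  haveI : Module.Flat R (B ⧸ J ^ n) := flat_quot_pow R f hq n
  have hinj : Function.Injective ((ι₀.restrictScalars R).lTensor R') := by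
    refine LinearMap.lTensor_injective_of_exact_of_flat (δ.restrictScalars R) ?_
      (ι₀.restrictScalars R) ?_ ?_ R'
    · rw [LinearMap.coe_restrictScalars]
      exact Submodule.factor_surjective _
    · rw [LinearMap.coe_restrictScalars, ← LinearMap.ker_eq_bot]
      exact Submodule.ker_liftQ_eq_bot _ _ _ le_rfl
    · rw [LinearMap.coe_restrictScalars, LinearMap.coe_restrictScalars, LinearMap.exact_iff,
        Submodule.range_liftQ, range_psi]
  have hfac : ((psi f n).restrictScalars R).lTensor R' =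
      ((ι₀.restrictScalars R).lTensor R') ∘ₗ ((K.mkQ.restrictScalars R).lTensor R') := by
    rw [← LinearMap.lTensor_comp]
    rfl
  have hz : ((K.mkQ.restrictScalars R).lTensor R') ξ = 0 := by
    apply hinj
    rw [map_zero, ← LinearMap.comp_apply, ← hfac]
    exact h0
  have hex := exact_lTensor_sub (R := R) R' n K
  obtain ⟨η, rfl⟩ := (hex ξ).1 hz
  exact coeff_polyMap_ker R' f hq n η d

end Quasi

end Groth.Agent.Lib.Seat40.RelRegBC
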