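import Mathlib
import Groth.Prelude.Def_RegImm
import Groth.Agent.Lib.Seat40RelRegBC
import Groth.Agent.Lib.Seat40RegSeqFlat

/-!
# Base change of relative `H₁`-regular and quasi-regular sequences along a pushout square (Seat 40)
-/

set_option autoImplicit false
set_option linter.style.haveILetI false
universe u

namespace Groth.Agent.Lib.Seat40.RelRegPush

open CategoryTheory CategoryTheory.Limits TensorProduct
open Groth.Agent.Lib.Seat40

theorem range_get_eq {α : Type u} (rs : List α) : Set.range rs.get = {x | x ∈ rs} := by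
  ext x
  simp only [Set.mem_range, Set.mem_ofPred_eq]
  constructor
  · rintro ⟨i, rfl⟩; exact List.get_mem rs i
  · intro h
    obtain ⟨i, hi⟩ := List.get_of_mem h
    exact ⟨i, hi⟩

/-- flatness of the quotient, from flatness of a surjection with the given kernel -/
theorem flat_quot_of_surjective {R₀ B₀ C : Type u} [CommRing R₀] [CommRing B₀] [CommRing C]
    [Algebra R₀ B₀] (α : B₀ →+* C) (hα : Function.Surjective α) (rs : List B₀)
    (hker : RingHom.ker α = Ideal.ofList rs) (hflat : (α.comp (algebraMap R₀ B₀)).Flat) :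
    Module.Flat R₀ (B₀ ⧸ Ideal.span (Set.range rs.get)) := by
  letI : Algebra R₀ C := (α.comp (algebraMap R₀ B₀)).toAlgebra
  haveI : Module.Flat R₀ C := hflat
  let α' : B₀ →ₐ[R₀] C := { α with commutes' := fun r => rfl }
  have hα' : Function.Surjective α' := hα
  have e1 : (B₀ ⧸ RingHom.ker α') ≃ₐ[R₀] C := Ideal.quotientKerAlgEquivOfSurjective hα'
  have hk : Ideal.span (Set.range rs.get) = RingHom.ker α' := by
    rw [range_get_eq]
    exact hker.symm
  have e2 : (B₀ ⧸ Ideal.span (Set.range rs.get)) ≃ₐ[R₀] (B₀ ⧸ RingHom.ker α') :=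
    Ideal.quotientEquivAlgOfEq R₀ hk
  exact Module.Flat.of_linearEquiv (e2.trans e1).toLinearEquiv

/-- base change of relative `H₁`-regular / quasi-regular sequences along a pushout square of
commutative rings -/
theorem seq_of_isPushout {R₀ B₀ R₁ B₁ : CommRingCat.{u}} (a : R₀ ⟶ B₀) (b : R₀ ⟶ R₁) (φ : B₀ ⟶ B₁)
    (d : R₁ ⟶ B₁) (h : IsPushout a b φ d) (k : RegImm.Kind)
    (hk : k = RegImm.Kind.h1 ∨ k = RegImm.Kind.quasi) (rs : List B₀) (hrs : k.Seq B₀ rs)
    {C : Type u} [CommRing C] (α : B₀ →+* C) (hα : Function.Surjective α)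
    (hker : RingHom.ker α = Ideal.ofList rs) (hflat : (α.comp a.hom).Flat) :
    k.Seq B₁ (rs.map φ.hom) := by
  letI : Algebra R₀ B₀ := a.hom.toAlgebra
  letI : Algebra R₀ R₁ := b.hom.toAlgebra
  haveI := flat_quot_of_surjective (R₀ := R₀) α hα rs hker hflat
  have H' : IsPushout (CommRingCat.ofHom (algebraMap R₀ R₁))
      (CommRingCat.ofHom (algebraMap R₀ B₀)) d φ := h.flip
  let e : R₁ ⊗[R₀] B₀ ≃+* B₁ :=
    ((CommRingCat.isPushout_tensorProduct R₀ R₁ B₀).isoIsPushout _ _ H').commRingCatIsoToRingEquiv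
  have he : ∀ x : B₀, e ((1 : R₁) ⊗ₜ[R₀] x) = φ.hom x := by
    intro x
    have := (CommRingCat.isPushout_tensorProduct R₀ R₁ B₀).inr_isoIsPushout_hom _ _ H'
    exact congrArg (fun m => m.hom x) this
  have hef : (e : R₁ ⊗[R₀] B₀ →+* B₁).Flat := RingHom.Flat.of_bijective e.bijective
  rcases hk with rfl | rfl
  · have H1 := RelRegBC.h1_baseChange (R := R₀) R₁ rs.get hrs
    have H2 := RegSeqFlat.h1_of_flat_fun (e : R₁ ⊗[R₀] B₀ →+* B₁) hef _ H1
    refine RegSeqFlat.h1_congr (List.length_map (as := rs) φ.hom).symm _ _ ?_ H2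
    intro i
    rw [RegSeqFlat.get_map_cast]
    exact (he _).symm
  · have H1 := RelRegBC.quasi_baseChange (R := R₀) R₁ rs.get hrs
    have H2 := RegSeqFlat.quasi_of_flat_fun (e : R₁ ⊗[R₀] B₀ →+* B₁) hef _ H1
    refine RegSeqFlat.quasi_congr (List.length_map (as := rs) φ.hom).symm _ _ ?_ H2
    intro i
    rw [RegSeqFlat.get_map_cast]
    exact (he _).symm

end Groth.Agent.Lib.Seat40.RelRegPush
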