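import Mathlib
import Groth.Prelude.Def_RegImm
import Groth.Agent.Lib.Seat40RelRegPush
import Groth.Agent.Lib.Seat40RegImmComp

/-!
# Base change of relative `H₁`-regular and quasi-regular immersions (Seat 40)
-/

set_option autoImplicit false
set_option linter.style.haveILetI false
universe u

namespace Groth.Agent.Lib.Seat40.RelRegGeom

open CategoryTheory CategoryTheory.Limits AlgebraicGeometry
open Groth.Agent.Lib.Seat40

variable {X S S' : Scheme.{u}}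

/-- the restriction of a fibre product to opens is the fibre product of the restrictions -/
theorem isPullback_resLE_inf (f : X ⟶ S) (g : S' ⟶ S) (U : X.Opens) (V : S.Opens)
    (V' : S'.Opens) (hU : U ≤ f ⁻¹ᵁ V) (hV' : V' ≤ g ⁻¹ᵁ V) :
    IsPullback
      ((pullback.fst f g).resLE U (pullback.fst f g ⁻¹ᵁ U ⊓ pullback.snd f g ⁻¹ᵁ V') inf_le_left)
      ((pullback.snd f g).resLE V' (pullback.fst f g ⁻¹ᵁ U ⊓ pullback.snd f g ⁻¹ᵁ V') inf_le_right)
      (f.resLE V U hU) (g.resLE V V' hV') := by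
  set fU := f.resLE V U hU with hfU
  set gV := g.resLE V V' hV' with hgV
  set U' := pullback.fst f g ⁻¹ᵁ U ⊓ pullback.snd f g ⁻¹ᵁ V' with hU'
  let m := pullback.map fU gV f g U.ι V'.ι V.ι (by simp [fU]) (by simp [gV])
  have hr : Set.range m = Set.range U'.ι := by
    rw [Scheme.Pullback.range_map, Scheme.Opens.range_ι, Scheme.Opens.range_ι,
      Scheme.Opens.range_ι]
    rfl
  let e := IsOpenImmersion.isoOfRangeEq m U'.ι hr
  have he : e.hom ≫ U'.ι = m := IsOpenImmersion.isoOfRangeEq_hom_fac _ _ _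
  refine IsPullback.of_iso (IsPullback.of_hasPullback fU gV) e (Iso.refl _) (Iso.refl _)
    (Iso.refl _) ?_ ?_ ?_ ?_
  · rw [← cancel_mono U.ι]
    simp only [Iso.refl_hom, Category.comp_id, Category.assoc, Scheme.Hom.resLE_comp_ι]
    rw [← Category.assoc, he]
    exact (pullback.lift_fst _ _ _).symm
  · rw [← cancel_mono V'.ι]
    simp only [Iso.refl_hom, Category.comp_id, Category.assoc, Scheme.Hom.resLE_comp_ι]
    rw [← Category.assoc, he]
    exact (pullback.lift_snd _ _ _).symm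
  · simp
  · simp

/-- sections of a fibre product over an affine piece form a pushout of rings -/
theorem isPushout_appLE (f : X ⟶ S) (g : S' ⟶ S) (U : X.Opens) (V : S.Opens)
    (V' : S'.Opens) (hU : U ≤ f ⁻¹ᵁ V) (hV' : V' ≤ g ⁻¹ᵁ V) (hUa : IsAffineOpen U)
    (hVa : IsAffineOpen V) (hV'a : IsAffineOpen V') :
    IsPushout (f.appLE V U hU) (g.appLE V V' hV')
      ((pullback.fst f g).appLE U (pullback.fst f g ⁻¹ᵁ U ⊓ pullback.snd f g ⁻¹ᵁ V') inf_le_left)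
      ((pullback.snd f g).appLE V' (pullback.fst f g ⁻¹ᵁ U ⊓ pullback.snd f g ⁻¹ᵁ V')
        inf_le_right) := by
  haveI : IsAffine U := hUa
  haveI : IsAffine V := hVa
  haveI : IsAffine V' := hV'a
  have h0 := isPushout_appTop_of_isPullback (isPullback_resLE_inf f g U V V' hU hV')
  refine IsPushout.of_iso h0 V.topIso U.topIso V'.topIso
    (pullback.fst f g ⁻¹ᵁ U ⊓ pullback.snd f g ⁻¹ᵁ V').topIso ?_ ?_ ?_ ?_
  all_goals
    rw [Scheme.Hom.appTop, Scheme.Hom.resLE_app_top, Category.assoc, Category.assoc,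
      Iso.inv_hom_id, Category.comp_id]

variable {Z : Scheme.{u}}

/-- base change of a relative `H₁`-regular / quasi-regular immersion -/
theorem relRegular_baseChange (f : X ⟶ S) (i : Z ⟶ X) (k : RegImm.Kind)
    (hk : k = RegImm.Kind.h1 ∨ k = RegImm.Kind.quasi) (hi : RegImm.IsRelRegularImmersion k f i)
    (g : S' ⟶ S) :
    RegImm.IsRelRegularImmersion k (pullback.snd f g) (pullback.snd i (pullback.fst f g)) := by
  obtain ⟨⟨himm, hpt⟩, hflat⟩ := hi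
  set p1 := pullback.fst f g with hp1
  set p2 := pullback.snd f g with hp2
  set q1 := pullback.fst i p1 with hq1
  set i' := pullback.snd i p1 with hi'
  have hsq : IsPullback q1 i' i p1 := IsPullback.of_hasPullback i p1
  have hbig : IsPullback q1 (i' ≫ p2) (i ≫ f) g := hsq.paste_vert (IsPullback.of_hasPullback f g)
  refine ⟨⟨MorphismProperty.of_isPullback (P := @IsImmersion) hsq himm, fun z' => ?_⟩,
    MorphismProperty.of_isPullback (P := @Flat) hbig hflat⟩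
  -- the points
  have hx : p1 (i' z') = i (q1 z') := by
    rw [← Scheme.Hom.comp_apply, ← Scheme.Hom.comp_apply, hsq.w]
  have hs : g (p2 (i' z')) = f (p1 (i' z')) := by
    have hc : p2 ≫ g = p1 ≫ f := pullback.condition.symm
    rw [← Scheme.Hom.comp_apply p2 g, hc, Scheme.Hom.comp_apply]
  obtain ⟨U, hxU, hcl, rs, hrs, hker⟩ := hpt (q1 z')
  obtain ⟨_, ⟨V0, hV0 : IsAffineOpen V0, rfl⟩, hsV, -⟩ :=
    S.isBasis_affineOpens.exists_subset_of_mem_open (Set.mem_univ (f (i (q1 z')))) isOpen_univ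
  obtain ⟨_, ⟨U0, hU0 : IsAffineOpen U0, rfl⟩, hxU0, hU0le⟩ :=
    X.isBasis_affineOpens.exists_subset_of_mem_open
      (⟨hxU, hsV⟩ : i (q1 z') ∈ (U.1 ⊓ f ⁻¹ᵁ V0 : X.Opens)) (U.1 ⊓ f ⁻¹ᵁ V0).2
  let U₁ : X.affineOpens := ⟨U0, hU0⟩
  have hU₁U : U₁.1 ≤ U.1 := fun x hx => (hU0le hx).1
  have hU₁V : U₁.1 ≤ f ⁻¹ᵁ V0 := fun x hx => (hU0le hx).2
  obtain ⟨hcl₁, rs₁, -, hrs₁, hker₁⟩ :=
    RegImmComp.shrink i k U U₁ hU₁U hcl rs hrs hker (q1 z') hxU0
  have hs' : p2 (i' z') ∈ g ⁻¹ᵁ V0 := by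
    change g (p2 (i' z')) ∈ V0
    rw [hs, hx]; exact hsV
  obtain ⟨_, ⟨V0', hV0' : IsAffineOpen V0', rfl⟩, hsV', hV'le⟩ :=
    S'.isBasis_affineOpens.exists_subset_of_mem_open hs' (g ⁻¹ᵁ V0).2
  -- the affine open of the fibre product
  set U' : (pullback f g).Opens := p1 ⁻¹ᵁ U₁.1 ⊓ p2 ⁻¹ᵁ V0' with hU'
  have hpb := isPullback_resLE_inf f g U₁.1 V0 V0' hU₁V hV'le
  haveI : IsAffine U₁.1 := U₁.2
  haveI : IsAffine V0 := hV0
  haveI : IsAffine V0' := hV0'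
  have hU'aff : IsAffineOpen U' := IsAffine.of_isPullback hpb
  let U'' : (pullback f g).affineOpens := ⟨U', hU'aff⟩
  have hz'U' : i' z' ∈ U' := ⟨by change p1 (i' z') ∈ U₁.1; rw [hx]; exact hxU0, hsV'⟩
  have hle : U''.1 ≤ p1 ⁻¹ᵁ U₁.1 := inf_le_left
  obtain ⟨hcl', hkey⟩ := RegImmBC.ker_app_of_isPullback i p1 i' q1 hsq U₁ U'' hle hcl₁
  refine ⟨U'', hz'U', hcl', rs₁.map (p1.appLE U₁.1 U' hle).hom, ?_, ?_⟩
  · have hpush := isPushout_appLE f g U₁.1 V0 V0' hU₁V hV'le U₁.2 hV0 hV0'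
    refine RelRegPush.seq_of_isPushout _ _ _ _ hpush k hk rs₁ hrs₁ (i.app U₁.1).hom
      (RegImmComp.app_surjective_of_restrict i U₁.1 U₁.2 hcl₁) hker₁ ?_
    haveI : IsAffine (i ⁻¹ᵁ U₁.1) := isAffine_of_isAffineHom (i ∣_ U₁.1)
    have hW : IsAffineOpen (i ⁻¹ᵁ U₁.1) := this
    have hle2 : i ⁻¹ᵁ U₁.1 ≤ (i ≫ f) ⁻¹ᵁ V0 := fun z hz => hU₁V hz
    have h1 : ((i ≫ f).appLE V0 (i ⁻¹ᵁ U₁.1) hle2).hom.Flat :=
      HasRingHomProperty.appLE (P := @Flat) (i ≫ f) hflat ⟨V0, hV0⟩ ⟨i ⁻¹ᵁ U₁.1, hW⟩ hle2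
    have h2 : (i ≫ f).appLE V0 (i ⁻¹ᵁ U₁.1) hle2 = f.appLE V0 U₁.1 hU₁V ≫ i.app U₁.1 := by
      rw [← Scheme.Hom.appLE_eq_app, Scheme.Hom.appLE_comp_appLE]
    rw [h2] at h1
    exact h1
  · rw [RegImmBC.ofList_map, ← hker₁]
    exact hkey

end Groth.Agent.Lib.Seat40.RelRegGeom
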