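import Mathlib
import Groth.Prelude.Def_SGA1
import Groth.Agent.Lib.Seat12GalTorsorCat
import Groth.Agent.Lib.Seat12SigmaIso
import Groth.Agent.Lib.Seat12QuotSec
import Groth.Agent.Lib.Seat40RelRegGeom

/-!
# Free quotient by a finite group: pseudo-torsor property, flatness, surjectivity (S2920)

Scheme-level part, on top of the ring-level `Seat12GalTorsor`, `Seat12GalTorsorCat` and the general
criterion `Seat12SigmaIso`.
-/

universe u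

open CategoryTheory AlgebraicGeometry CategoryTheory.Limits

namespace Groth.Agent.Lib.Seat12.QuotTorsor

open Groth.Agent.Lib.Seat12.QuotSec

variable {X Y : Scheme.{u}} {G : Type u} [Group G] (ρ : G →* Aut X) (p : X ⟶ Y)

/-- ring-level freeness from freeness on geometric points. -/
theorem span_eq_top (hp : SGA1.IsQuot ρ p)
    (hfree : ∀ (K : Type u) [Field K] [IsAlgClosed K] (ξ : Spec (CommRingCat.of K) ⟶ X) (g : G),
      ξ ≫ (ρ g).hom = ξ → g = 1)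
    (V : Y.Opens) (hV : IsAffineOpen V) (g : G) (hg : g ≠ 1) :
    Ideal.span (Set.range fun b : Γ(X, p ⁻¹ᵁ V) =>
      ((ρ g).hom.appLE (p ⁻¹ᵁ V) (p ⁻¹ᵁ V)
        (SGA1.preimage_le_of_inv ρ p hp.inv g V)).hom b - b) = ⊤ := by
  by_contra hne
  obtain ⟨𝔪, hmax, hle⟩ := Ideal.exists_le_maximal _ hne
  apply hg
  have hU : IsAffineOpen (p ⁻¹ᵁ V) := by
    have := hp.affine
    exact hV.preimage p
  let _ : Field (Γ(X, p ⁻¹ᵁ V) ⧸ 𝔪) := Ideal.Quotient.field 𝔪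
  let K := AlgebraicClosure (Γ(X, p ⁻¹ᵁ V) ⧸ 𝔪)
  let ξ : Γ(X, p ⁻¹ᵁ V) →+* K := (algebraMap (Γ(X, p ⁻¹ᵁ V) ⧸ 𝔪) K).comp (Ideal.Quotient.mk 𝔪)
  have hξ : ∀ b, ξ (((ρ g).hom.appLE (p ⁻¹ᵁ V) (p ⁻¹ᵁ V)
        (SGA1.preimage_le_of_inv ρ p hp.inv g V)).hom b) = ξ b := by
    intro b
    rw [← sub_eq_zero, ← map_sub]
    show algebraMap (Γ(X, p ⁻¹ᵁ V) ⧸ 𝔪) K (Ideal.Quotient.mk 𝔪 _) = 0
    rw [Ideal.Quotient.eq_zero_iff_mem.mpr, map_zero]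
    exact hle (Ideal.subset_span ⟨b, rfl⟩)
  apply hfree K (Spec.map (CommRingCat.ofHom ξ) ≫ hU.fromSpec) g
  rw [Category.assoc, ← IsAffineOpen.SpecMap_appLE_fromSpec (ρ g).hom hU hU
    (SGA1.preimage_le_of_inv ρ p hp.inv g V), ← Spec.map_comp_assoc]
  congr 2
  ext b
  exact hξ b

/-- the `g`-th component `(id, g) : X ⟶ X ×_Y X`. -/
noncomputable abbrev comp (hp : SGA1.IsQuot ρ p) (g : G) : X ⟶ pullback p p :=
  pullback.lift (𝟙 X) (ρ g).hom ((Category.id_comp p).trans (hp.inv g).symm)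

/-- the affine open of `X ×_Y X` over the affine open `V` of `Y`. -/
noncomputable abbrev TT (V : Y.Opens) : (pullback p p).Opens :=
  pullback.fst p p ⁻¹ᵁ (p ⁻¹ᵁ V) ⊓ pullback.snd p p ⁻¹ᵁ (p ⁻¹ᵁ V)

lemma TT_eq (V : Y.Opens) : TT p V = (pullback.fst p p ≫ p) ⁻¹ᵁ V := by
  have h1 : pullback.snd p p ⁻¹ᵁ (p ⁻¹ᵁ V) = pullback.fst p p ⁻¹ᵁ (p ⁻¹ᵁ V) := by
    rw [← Scheme.Hom.comp_preimage, ← Scheme.Hom.comp_preimage, pullback.condition]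
  rw [TT, h1, inf_idem, ← Scheme.Hom.comp_preimage]

lemma isAffineOpen_TT [IsAffineHom p] (V : Y.Opens) (hV : IsAffineOpen V) :
    IsAffineOpen (TT p V) := by
  have hU : IsAffineOpen (p ⁻¹ᵁ V) := hV.preimage p
  have hpb := Groth.Agent.Lib.Seat40.RelRegGeom.isPullback_resLE_inf p p (p ⁻¹ᵁ V) V (p ⁻¹ᵁ V)
    le_rfl le_rfl
  have : IsAffine (p ⁻¹ᵁ V).toScheme := hU
  have : IsAffine V.toScheme := hV
  exact IsAffine.of_isIso hpb.isoPullback.hom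

lemma iSup_TT : ⨆ V : Y.affineOpens, TT p V.1 = ⊤ := by
  simp_rw [TT_eq]
  rw [← Scheme.Hom.preimage_iSup, iSup_affineOpens_eq_top Y]
  rfl

lemma comp_preimage_TT (hp : SGA1.IsQuot ρ p) (V : Y.Opens) (g : G) :
    (comp ρ p hp g) ⁻¹ᵁ (TT p V) = p ⁻¹ᵁ V := by
  have e1 : (comp ρ p hp g) ⁻¹ᵁ (pullback.fst p p ⁻¹ᵁ (p ⁻¹ᵁ V)) = p ⁻¹ᵁ V := by
    rw [← Scheme.Hom.comp_preimage, pullback.lift_fst]
    rfl
  have e2 : (comp ρ p hp g) ⁻¹ᵁ (pullback.snd p p ⁻¹ᵁ (p ⁻¹ᵁ V)) = (ρ g).hom ⁻¹ᵁ (p ⁻¹ᵁ V) := by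
    rw [← Scheme.Hom.comp_preimage, pullback.lift_snd]
  rw [TT, Scheme.Hom.preimage_inf, e1, e2]
  apply le_antisymm inf_le_left
  exact le_inf le_rfl (SGA1.preimage_le_of_inv ρ p hp.inv g V)

variable [Finite G]

/-- the ring-level package over an affine open `V` of `Y`. -/
theorem ring_main (hp : SGA1.IsQuot ρ p)
    (hfree : ∀ (K : Type u) [Field K] [IsAlgClosed K] (ξ : Spec (CommRingCat.of K) ⟶ X) (g : G),
      ξ ≫ (ρ g).hom = ξ → g = 1)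
    (V : Y.Opens) (hV : IsAffineOpen V) :
    Function.Bijective (fun t : Γ(pullback p p, TT p V) => fun g : G =>
      ((comp ρ p hp g).appLE (TT p V) (p ⁻¹ᵁ V) (comp_preimage_TT ρ p hp V g).ge).hom t) ∧
    (p.app V).hom.Flat ∧ (p.app V).hom.Finite := by
  have haff := hp.affine
  have hU : IsAffineOpen (p ⁻¹ᵁ V) := hV.preimage p
  have hpo := Groth.Agent.Lib.Seat40.RelRegGeom.isPushout_appLE p p (p ⁻¹ᵁ V) V (p ⁻¹ᵁ V)
    le_rfl le_rfl hU hV hU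
  rw [Scheme.Hom.appLE_eq_app] at hpo
  refine Groth.Agent.Lib.Seat12.GalTorsorCat.main (p.app V) _ _ hpo
    (fun g => (ρ g).hom.appLE (p ⁻¹ᵁ V) (p ⁻¹ᵁ V) (SGA1.preimage_le_of_inv ρ p hp.inv g V))
    (fun g => (comp ρ p hp g).appLE (TT p V) (p ⁻¹ᵁ V) (comp_preimage_TT ρ p hp V g).ge)
    ?_ ?_ (hp.injective V) ?_ ?_ ?_ ?_ (span_eq_top ρ p hp hfree V hV)
  · intro g
    rw [Scheme.Hom.appLE_comp_appLE]
    exact appLE_of_eq_id (pullback.lift_fst _ _ _) _ _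
  · intro g
    rw [Scheme.Hom.appLE_comp_appLE]
    exact appLE_of_eq (pullback.lift_snd _ _ _) _ _ _
  · intro b
    have h1 : (ρ 1).hom.appLE (p ⁻¹ᵁ V) (p ⁻¹ᵁ V)
        (SGA1.preimage_le_of_inv ρ p hp.inv 1 V) = 𝟙 _ := by
      have : (ρ 1).hom = 𝟙 X := by rw [map_one]; rfl
      exact appLE_of_eq_id this _ _
    exact congr($(h1) b)
  · intro g h b
    have h0 : (ρ (g * h)).hom = (ρ h).hom ≫ (ρ g).hom := by rw [map_mul]; rfl
    have h1 : (ρ (g * h)).hom.appLE (p ⁻¹ᵁ V) (p ⁻¹ᵁ V)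
        (SGA1.preimage_le_of_inv ρ p hp.inv (g * h) V) =
        (ρ g).hom.appLE (p ⁻¹ᵁ V) (p ⁻¹ᵁ V) (SGA1.preimage_le_of_inv ρ p hp.inv g V) ≫
        (ρ h).hom.appLE (p ⁻¹ᵁ V) (p ⁻¹ᵁ V) (SGA1.preimage_le_of_inv ρ p hp.inv h V) := by
      rw [Scheme.Hom.appLE_comp_appLE]
      exact appLE_of_eq h0 _ _ _
    exact congr($(h1) b)
  · intro g a
    have h1 : p.app V ≫ (ρ g).hom.appLE (p ⁻¹ᵁ V) (p ⁻¹ᵁ V)
        (SGA1.preimage_le_of_inv ρ p hp.inv g V) = p.app V := by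
      rw [Scheme.Hom.app_eq_appLE, Scheme.Hom.appLE_comp_appLE]
      exact appLE_of_eq (hp.inv g) _ _ _
    exact congr($(h1) a)
  · intro b hb
    exact (hp.range_iff V b).mpr hb

theorem isIso_desc (hp : SGA1.IsQuot ρ p)
    (hfree : ∀ (K : Type u) [Field K] [IsAlgClosed K] (ξ : Spec (CommRingCat.of K) ⟶ X) (g : G),
      ξ ≫ (ρ g).hom = ξ → g = 1) :
    IsIso (Sigma.desc (fun g : G => comp ρ p hp g)) := by
  have haff := hp.affine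
  exact Groth.Agent.Lib.Seat12.SigmaIso.isIso_sigmaDesc (fun g => comp ρ p hp g)
    (fun V : Y.affineOpens => ⟨TT p V.1, isAffineOpen_TT p V.1 V.2⟩) (iSup_TT p)
    (fun V _ => p ⁻¹ᵁ V.1) (fun V g => comp_preimage_TT ρ p hp V.1 g)
    (fun V _ => V.2.preimage p) (fun V => (ring_main ρ p hp hfree V.1 V.2).1)

theorem flat (hp : SGA1.IsQuot ρ p)
    (hfree : ∀ (K : Type u) [Field K] [IsAlgClosed K] (ξ : Spec (CommRingCat.of K) ⟶ X) (g : G),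
      ξ ≫ (ρ g).hom = ξ → g = 1) : Flat p := by
  have haff := hp.affine
  rw [HasRingHomProperty.iff_exists_appLE (P := @Flat)
    (RingHom.Flat.stableUnderComposition.stableUnderCompositionWithLocalizationAway
      RingHom.Flat.holdsForLocalizationAway).1]
  intro x
  obtain ⟨V, hV, hxV, -⟩ := TopologicalSpace.Opens.isBasis_iff_nbhd.mp Y.isBasis_affineOpens
    (TopologicalSpace.Opens.mem_top (p x))
  refine ⟨⟨V, hV⟩, ⟨p ⁻¹ᵁ V, hV.preimage p⟩, hxV, le_rfl, ?_⟩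
  rw [Scheme.Hom.appLE_eq_app]
  exact (ring_main ρ p hp hfree V hV).2.1

theorem surjective (hp : SGA1.IsQuot ρ p)
    (hfree : ∀ (K : Type u) [Field K] [IsAlgClosed K] (ξ : Spec (CommRingCat.of K) ⟶ X) (g : G),
      ξ ≫ (ρ g).hom = ξ → g = 1) : Surjective p := by
  have haff := hp.affine
  refine ⟨fun y => ?_⟩
  obtain ⟨V, hV, hyV, -⟩ := TopologicalSpace.Opens.isBasis_iff_nbhd.mp Y.isBasis_affineOpens
    (TopologicalSpace.Opens.mem_top y)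
  have hU : IsAffineOpen (p ⁻¹ᵁ V) := hV.preimage p
  have hfin := (ring_main ρ p hp hfree V hV).2.2
  have hinj := hp.injective V
  algebraize [(p.app V).hom]
  have hint : Algebra.IsIntegral Γ(Y, V) Γ(X, p ⁻¹ᵁ V) := inferInstance
  let 𝔭 := hV.primeIdealOf ⟨y, hyV⟩
  obtain ⟨Q, -, hQp, hQ⟩ := Ideal.exists_ideal_over_prime_of_isIntegral 𝔭.asIdeal
    (⊥ : Ideal Γ(X, p ⁻¹ᵁ V)) (by
      rw [Ideal.comap_bot_of_injective (algebraMap _ _) hinj]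
      exact bot_le)
  let 𝔮 : ↥(Spec Γ(X, p ⁻¹ᵁ V)) := ⟨Q, hQp⟩
  refine ⟨hU.fromSpec 𝔮, ?_⟩
  have h1 := IsAffineOpen.SpecMap_appLE_fromSpec p hV hU le_rfl
  have h2 : (p (hU.fromSpec 𝔮)) = hV.fromSpec ((Spec.map (p.appLE V (p ⁻¹ᵁ V) le_rfl)) 𝔮) := by
    have := congr($(h1) 𝔮)
    rw [Scheme.Hom.comp_apply, Scheme.Hom.comp_apply] at this
    exact this.symm
  rw [h2]
  have h3 : (Spec.map (p.appLE V (p ⁻¹ᵁ V) le_rfl)) 𝔮 = 𝔭 := by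
    apply PrimeSpectrum.ext
    rw [Scheme.Hom.appLE_eq_app]
    exact hQ
  rw [h3]
  exact hV.fromSpec_primeIdealOf ⟨y, hyV⟩

end Groth.Agent.Lib.Seat12.QuotTorsor
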