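import Mathlib.Algebra.Homology.ShortComplex.Ab
import Mathlib.Algebra.Homology.ShortComplex.HomologicalComplex
import Mathlib.Algebra.Homology.HomologicalComplexAbelian
import Mathlib.Algebra.Category.Grp.EpiMono
import Mathlib.Algebra.Category.Grp.Zero

/-!
# Elementwise description of homology classes of complexes of abelian groups (helper13)
-/

set_option autoImplicit false
set_option backward.defeqAttrib.useBackward true
set_option backward.isDefEq.respectTransparency false

namespace Groth.Agent.Lib.Seat13.CKEltAb

open CategoryTheory CategoryTheory.Limits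

universe u

variable {ι : Type*} {c : ComplexShape ι}
  (K L : HomologicalComplex AddCommGrpCat.{u} c)

/-- every homology class is the class of a cycle -/
lemma exists_cycle (i : ι) (ξ : K.homology i) :
    ∃ z : K.cycles i, (K.homologyπ i) z = ξ :=
  (AddCommGrpCat.epi_iff_surjective (K.homologyπ i)).1 inferInstance ξ

lemma d_iCycles (i j : ι) (z : K.cycles i) : (K.d i j) ((K.iCycles i) z) = 0 := by
  have := K.iCycles_d i j
  exact congr($(this) z)

lemma iCycles_injective (i : ι) : Function.Injective (K.iCycles i) :=
  (AddCommGrpCat.mono_iff_injective (K.iCycles i)).1 inferInstance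

/-- a cocycle lifts to the cycles -/
lemma exists_cycles_of_d_eq_zero (i j : ι) (hj : c.next i = j) (x : K.X i)
    (hx : (K.d i j) x = 0) : ∃ z : K.cycles i, (K.iCycles i) z = x := by
  have hex : (ShortComplex.mk (K.iCycles i) (K.d i j) (K.iCycles_d i j)).Exact :=
    ShortComplex.exact_of_f_is_kernel _ (K.cyclesIsKernel i j hj)
  rw [ShortComplex.ab_exact_iff] at hex
  exact hex x hx

variable {K L}

lemma iCycles_cyclesMap (φ : K ⟶ L) (i : ι) (z : K.cycles i) :
    (L.iCycles i) ((HomologicalComplex.cyclesMap φ i) z) =
      (φ.f i) ((K.iCycles i) z) := by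
  have := HomologicalComplex.cyclesMap_i φ i
  exact congr($(this) z)

lemma homologyMap_homologyπ (φ : K ⟶ L) (i : ι) (z : K.cycles i) :
    (HomologicalComplex.homologyMap φ i) ((K.homologyπ i) z) =
      (L.homologyπ i) ((HomologicalComplex.cyclesMap φ i) z) := by
  have := HomologicalComplex.homologyπ_naturality φ i
  exact congr($(this) z)

variable (L) in
/-- the class of a coboundary is zero -/
lemma homologyπ_eq_zero_of_boundary (i j : ι) (z : L.cycles j) (w : L.X i)
    (hw : (L.d i j) w = (L.iCycles j) z) : (L.homologyπ j) z = 0 := by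
  have h1 : (L.toCycles i j) w = z := by
    apply iCycles_injective L j
    have := L.toCycles_i i j
    rw [← hw]
    exact congr($(this) w)
  rw [← h1]
  have := L.toCycles_comp_homologyπ i j
  exact congr($(this) w)

variable (K) in
/-- a complex is acyclic in degree `i` when every cocycle is a coboundary -/
lemma isZero_homology_of_forall (i' i j : ι)
    (h : ∀ z : K.X i, (K.d i j) z = 0 → ∃ w : K.X i', (K.d i' i) w = z) :
    IsZero (K.homology i) := by
  have : Subsingleton (K.homology i) := by
    refine ⟨fun a b => ?_⟩
    have key : ∀ ξ : K.homology i, ξ = 0 := by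
      intro ξ
      obtain ⟨z, rfl⟩ := exists_cycle K i ξ
      obtain ⟨w, hw⟩ := h _ (d_iCycles K i j z)
      exact homologyπ_eq_zero_of_boundary K i' i z w hw
    rw [key a, key b]
  exact AddCommGrpCat.isZero_of_subsingleton _

end Groth.Agent.Lib.Seat13.CKEltAb
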