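import Mathlib
import Groth.Agent.Lib.Helper16CechLow
import Groth.Agent.Lib.Seat13CKEltAb

/-!
# Cech cochains of a presheaf on a topological space, evaluated on arbitrary small opens (helper13)

For a family `U : ι → Opens X` and a presheaf of abelian groups `R`, a Cech cochain `c` of degree `n`
has, for every tuple `x : Fin (n+1) → ι` and every open `W` contained in all `U (x a)`, a value
`ev c x W ∈ R(W)`.  The differential is the alternating sum (`ev_d`), cochains are determined by
their values (`ext_ev`) and can be prescribed (`ev_mk`).  We also define the augmented Cech complex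
`Caug` with `R(⊤)` in degree `0`.
-/

set_option autoImplicit false
set_option backward.defeqAttrib.useBackward true
set_option backward.isDefEq.respectTransparency false

namespace Groth.Agent.Lib.Seat13.CKCech1

open CategoryTheory CategoryTheory.Limits Opposite TopologicalSpace
open Groth.Agent.Lib.Helper16.CechLow

universe u

variable {X : TopCat.{u}} {ι : Type u} (U : ι → Opens X) (R : (Opens X)ᵒᵖ ⥤ AddCommGrpCat.{u})

/-- restriction maps of a presheaf on opens -/
noncomputable def res {V W : Opens X} (h : W ≤ V) : R.obj (op V) ⟶ R.obj (op W) :=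
  R.map (homOfLE h).op

lemma res_res {V W W' : Opens X} (h : W ≤ V) (h' : W' ≤ W) (s : R.obj (op V)) :
    res R h' (res R h s) = res R (h'.trans h) s := by
  unfold res
  rw [← ConcreteCategory.comp_apply, ← R.map_comp]
  rfl

lemma res_self {V : Opens X} (s : R.obj (op V)) : res R (le_refl V) s = s := by
  unfold res
  have : (homOfLE (le_refl V)).op = 𝟙 (op V) := rfl
  rw [this, R.map_id]
  rfl

lemma map_eq_res {V W : Opens X} (g : op V ⟶ op W) (s : R.obj (op V)) :
    R.map g s = res R (leOfHom g.unop) s := by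
  unfold res
  have : g = (homOfLE (leOfHom g.unop)).op := by
    apply Quiver.Hom.unop_inj
    exact Subsingleton.elim _ _
  rw [← this]

lemma Ux_le {n : ℕ} (x : Fin (n + 1) → ι) (a : Fin (n + 1)) : Ux U x ≤ U (x a) :=
  leOfHom (Pi.π (U ∘ x) a)

lemma le_Ux {n : ℕ} (x : Fin (n + 1) → ι) (W : Opens X) (h : ∀ a, W ≤ U (x a)) : W ≤ Ux U x :=
  leOfHom (Pi.lift (fun a => homOfLE (h a)))

/-- the value of a cochain on a small open -/
noncomputable def ev {n : ℕ} (c : (CK U R).X n) (x : Fin (n + 1) → ι) (W : Opens X)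
    (h : ∀ a, W ≤ U (x a)) : R.obj (op W) :=
  res R (le_Ux U x W h) (pr U R n x c)

lemma ev_res {n : ℕ} (c : (CK U R).X n) (x : Fin (n + 1) → ι) (W W' : Opens X)
    (h : ∀ a, W ≤ U (x a)) (hW : W' ≤ W) :
    res R hW (ev U R c x W h) = ev U R c x W' (fun a => hW.trans (h a)) := by
  unfold ev
  rw [res_res]

lemma ev_congr {n : ℕ} (c : (CK U R).X n) {x y : Fin (n + 1) → ι} (hxy : x = y) (W : Opens X)
    (h : ∀ a, W ≤ U (x a)) :
    ev U R c x W h = ev U R c y W (fun a => hxy ▸ h a) := by
  subst hxy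
  rfl

lemma ev_add {n : ℕ} (c c' : (CK U R).X n) (x : Fin (n + 1) → ι) (W : Opens X)
    (h : ∀ a, W ≤ U (x a)) : ev U R (c + c') x W h = ev U R c x W h + ev U R c' x W h := by
  unfold ev
  rw [map_add, map_add]

lemma ev_zero {n : ℕ} (x : Fin (n + 1) → ι) (W : Opens X)
    (h : ∀ a, W ≤ U (x a)) : ev U R (0 : (CK U R).X n) x W h = 0 := by
  unfold ev
  rw [map_zero, map_zero]

/-- the differential in terms of values -/
lemma ev_d {n : ℕ} (c : (CK U R).X n) (x : Fin (n + 2) → ι) (W : Opens X)
    (h : ∀ a, W ≤ U (x a)) :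
    ev U R ((CK U R).d n (n + 1) c) x W h =
      ∑ i : Fin (n + 2), (-1 : ℤ) ^ (i : ℕ) • ev U R c (x ∘ Fin.succAbove i) W (fun a => h _) := by
  unfold ev
  rw [d_pr_apply, map_sum]
  refine Finset.sum_congr rfl (fun i _ => ?_)
  rw [map_zsmul, map_eq_res, res_res]

/-- cochains are determined by their values -/
lemma ext_ev {n : ℕ} (c c' : (CK U R).X n)
    (h : ∀ x : Fin (n + 1) → ι, ev U R c x (Ux U x) (Ux_le U x) = ev U R c' x (Ux U x) (Ux_le U x)) :
    c = c' := by
  apply elt_ext
  intro x
  have h1 := h x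
  unfold ev at h1
  rwa [res_self, res_self] at h1

/-- a cochain with prescribed values -/
noncomputable def mk {n : ℕ} (f : ∀ x : Fin (n + 1) → ι, R.obj (op (Ux U x))) : (CK U R).X n :=
  mkElt U R n f

lemma ev_mk {n : ℕ} (f : ∀ x : Fin (n + 1) → ι, R.obj (op (Ux U x))) (x : Fin (n + 1) → ι)
    (W : Opens X) (h : ∀ a, W ≤ U (x a)) :
    ev U R (mk U R f) x W h = res R (le_Ux U x W h) (f x) := by
  unfold ev mk
  rw [pr_mkElt]

section Aug

/-- the augmentation `R(⊤) → Č⁰` -/
noncomputable def eps : R.obj (op ⊤) ⟶ (CK U R).X 0 :=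
  Pi.lift (fun x : Fin 1 → ι => R.map (homOfLE (le_top : Ux U x ≤ ⊤)).op)

lemma pr_eps (x : Fin 1 → ι) (s : R.obj (op ⊤)) :
    pr U R 0 x (eps U R s) = res R le_top s := by
  have : eps U R ≫ pr U R 0 x = R.map (homOfLE (le_top : Ux U x ≤ ⊤)).op :=
    limit.lift_π _ _
  exact congr($(this) s)

lemma ev_eps (s : R.obj (op ⊤)) (x : Fin 1 → ι) (W : Opens X) (h : ∀ a, W ≤ U (x a)) :
    ev U R (eps U R s) x W h = res R le_top s := by
  unfold ev
  rw [pr_eps, res_res]

lemma eps_d : eps U R ≫ (CK U R).d 0 1 = 0 := by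
  ext s
  apply ext_ev
  intro x
  rw [ConcreteCategory.comp_apply, ev_d, Fin.sum_univ_two]
  simp only [Fin.val_zero, pow_zero, one_smul, Fin.val_one, pow_one, neg_smul]
  rw [ev_eps, ev_eps]
  show _ + -_ = ev U R 0 x _ _
  rw [ev_zero, add_neg_cancel]

/-- the augmented Cech complex: `R(⊤)` in degree `0`, `Č^n` in degree `n + 1` -/
noncomputable def Caug : CochainComplex AddCommGrpCat.{u} ℕ :=
  (CK U R).augment (eps U R) (eps_d U R)

end Aug

section Functoriality

variable {R} {R' R'' : (Opens X)ᵒᵖ ⥤ AddCommGrpCat.{u}}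

/-- functoriality of the Cech complex -/
noncomputable def Cmap (φ : R ⟶ R') : CK U R ⟶ CK U R' := (cechComplexFunctor U).map φ

lemma pr_Cmap (φ : R ⟶ R') (n : ℕ) (x : Fin (n + 1) → ι) (c : (CK U R).X n) :
    pr U R' n x ((Cmap U φ).f n c) = φ.app (op (Ux U x)) (pr U R n x c) := by
  have h : (Cmap U φ).f n =
      Limits.Pi.map (fun (x : Fin (n + 1) → ι) => φ.app (op (Ux U x))) := rfl
  have h2 : (Cmap U φ).f n ≫ pr U R' n x = pr U R n x ≫ φ.app (op (Ux U x)) := by
    rw [h]
    exact Limits.Pi.map_π _ _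
  exact congr($(h2) c)

lemma app_res (φ : R ⟶ R') {V W : Opens X} (h : W ≤ V) (s : R.obj (op V)) :
    φ.app (op W) (res R h s) = res R' h (φ.app (op V) s) := by
  unfold res
  exact congr($(φ.naturality (homOfLE h).op) s)

lemma ev_Cmap (φ : R ⟶ R') {n : ℕ} (c : (CK U R).X n) (x : Fin (n + 1) → ι) (W : Opens X)
    (h : ∀ a, W ≤ U (x a)) :
    ev U R' ((Cmap U φ).f n c) x W h = φ.app (op W) (ev U R c x W h) := by
  unfold ev
  rw [pr_Cmap, app_res]

/-- functoriality of the augmented Cech complex -/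
noncomputable def CaugMap (φ : R ⟶ R') : Caug U R ⟶ Caug U R' where
  f
    | 0 => φ.app (op ⊤)
    | n + 1 => (Cmap U φ).f n
  comm' i j hij := by
    obtain rfl : i + 1 = j := hij
    cases i with
    | zero =>
      show φ.app (op ⊤) ≫ eps U R' = eps U R ≫ (Cmap U φ).f 0
      ext s
      apply ext_ev
      intro x
      rw [ConcreteCategory.comp_apply, ConcreteCategory.comp_apply, ev_eps, ev_Cmap, ev_eps,
        app_res]
    | succ n => exact (Cmap U φ).comm (n) (n + 1)

lemma CaugMap_f_zero (φ : R ⟶ R') : (CaugMap U φ).f 0 = φ.app (op ⊤) := rfl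

lemma CaugMap_f_succ (φ : R ⟶ R') (n : ℕ) : (CaugMap U φ).f (n + 1) = (Cmap U φ).f n := rfl

variable (α : R ⟶ R') (β : R' ⟶ R'')

lemma Cmap_f_injective (n : ℕ) (hα : ∀ V : Opens X, Function.Injective (α.app (op V))) :
    Function.Injective ((Cmap U α).f n) := by
  intro c c' hcc'
  apply elt_ext
  intro x
  apply hα
  rw [← pr_Cmap, ← pr_Cmap, hcc']

lemma Cmap_f_surjective (n : ℕ) (hα : ∀ V : Opens X, Function.Surjective (α.app (op V))) :
    Function.Surjective ((Cmap U α).f n) := by
  intro c'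
  choose f hf using fun x : Fin (n + 1) → ι => hα (Ux U x) (pr U R' n x c')
  refine ⟨mkElt U R n f, ?_⟩
  apply elt_ext
  intro x
  rw [pr_Cmap, pr_mkElt, hf]

lemma Cmap_f_exact (n : ℕ)
    (h : ∀ V : Opens X, Function.Exact (α.app (op V)) (β.app (op V))) :
    Function.Exact ((Cmap U α).f n) ((Cmap U β).f n) := by
  intro c'
  constructor
  · intro hc'
    have h1 : ∀ x : Fin (n + 1) → ι, ∃ s, α.app (op (Ux U x)) s = pr U R' n x c' := by
      intro x
      apply (h (Ux U x) _).1
      rw [← pr_Cmap, hc', map_zero]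
    choose f hf using h1
    refine ⟨mkElt U R n f, ?_⟩
    apply elt_ext
    intro x
    rw [pr_Cmap, pr_mkElt, hf]
  · rintro ⟨c, rfl⟩
    apply elt_ext
    intro x
    rw [pr_Cmap, pr_Cmap, map_zero]
    exact (h (Ux U x)).apply_apply_eq_zero _

/-- a sectionwise short exact sequence of presheaves gives a short exact sequence of augmented
Cech complexes -/
theorem shortExact_Caug (w : α ≫ β = 0)
    (hα : ∀ V : Opens X, Function.Injective (α.app (op V)))
    (hβ : ∀ V : Opens X, Function.Surjective (β.app (op V)))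
    (h : ∀ V : Opens X, Function.Exact (α.app (op V)) (β.app (op V))) :
    (ShortComplex.mk (CaugMap U α) (CaugMap U β) (by
      ext n : 1
      cases n with
      | zero => exact congr($(w).app (op ⊤))
      | succ n =>
        show (Cmap U α).f n ≫ (Cmap U β).f n = 0
        ext c
        exact (Cmap_f_exact U α β n h).apply_apply_eq_zero c)).ShortExact := by
  apply HomologicalComplex.shortExact_of_degreewise_shortExact
  intro n
  cases n with
  | zero =>
    refine ShortComplex.ShortExact.mk' ?_ ?_ ?_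
    · rw [ShortComplex.ab_exact_iff_function_exact]
      exact h ⊤
    · exact (AddCommGrpCat.mono_iff_injective _).2 (hα ⊤)
    · exact (AddCommGrpCat.epi_iff_surjective _).2 (hβ ⊤)
  | succ n =>
    refine ShortComplex.ShortExact.mk' ?_ ?_ ?_
    · rw [ShortComplex.ab_exact_iff_function_exact]
      exact Cmap_f_exact U α β n h
    · exact (AddCommGrpCat.mono_iff_injective _).2 (Cmap_f_injective U α n hα)
    · exact (AddCommGrpCat.epi_iff_surjective _).2 (Cmap_f_surjective U β n hβ)

end Functoriality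

end Groth.Agent.Lib.Seat13.CKCech1
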