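import Mathlib.Algebra.Colimit.Module
import Mathlib.Algebra.Exact.Basic

/-!
# Direct limits of modules are exact (helper13)
-/

set_option autoImplicit false

namespace Groth.Agent.Lib.Seat13.CKDirLim

open Module

universe u v w

variable {R : Type u} [Ring R] {ι : Type v} [Preorder ι] [DecidableEq ι] [Nonempty ι]
  [IsDirectedOrder ι]
  {G₁ G₂ G₃ : ι → Type w}
  [∀ i, AddCommGroup (G₁ i)] [∀ i, Module R (G₁ i)]
  [∀ i, AddCommGroup (G₂ i)] [∀ i, Module R (G₂ i)]
  [∀ i, AddCommGroup (G₃ i)] [∀ i, Module R (G₃ i)]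
  (f₁ : ∀ i j, i ≤ j → G₁ i →ₗ[R] G₁ j) (f₂ : ∀ i j, i ≤ j → G₂ i →ₗ[R] G₂ j)
  (f₃ : ∀ i j, i ≤ j → G₃ i →ₗ[R] G₃ j)

/-- A direct limit of exact sequences is exact. -/
theorem exact_map [DirectedSystem G₃ (f₃ · · ·)]
    (a : ∀ i, G₁ i →ₗ[R] G₂ i) (b : ∀ i, G₂ i →ₗ[R] G₃ i)
    (ha : ∀ i j h, a j ∘ₗ f₁ i j h = f₂ i j h ∘ₗ a i)
    (hb : ∀ i j h, b j ∘ₗ f₂ i j h = f₃ i j h ∘ₗ b i)
    (hex : ∀ i, Function.Exact (a i) (b i)) :
    Function.Exact (Module.DirectLimit.map a ha) (Module.DirectLimit.map b hb) := by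
  intro y
  constructor
  · intro hy
    obtain ⟨i, yi, rfl⟩ := Module.DirectLimit.exists_of y
    rw [Module.DirectLimit.map_apply_of] at hy
    obtain ⟨j, hij, hj⟩ := Module.DirectLimit.of.zero_exact hy
    have h1 : b j (f₂ i j hij yi) = 0 := by
      have := LinearMap.congr_fun (hb i j hij) yi
      simp only [LinearMap.comp_apply] at this
      rw [this, hj]
    obtain ⟨x, hx⟩ := (hex j _).1 h1
    refine ⟨Module.DirectLimit.of R ι G₁ f₁ j x, ?_⟩
    rw [Module.DirectLimit.map_apply_of, hx, Module.DirectLimit.of_f]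
  · rintro ⟨x, rfl⟩
    obtain ⟨i, xi, rfl⟩ := Module.DirectLimit.exists_of x
    rw [Module.DirectLimit.map_apply_of, Module.DirectLimit.map_apply_of, (hex i).apply_apply_eq_zero,
      map_zero]

/-- A direct limit of zero modules is zero. -/
theorem subsingleton_of_forall (h : ∀ i, Subsingleton (G₁ i)) :
    Subsingleton (Module.DirectLimit G₁ f₁) := by
  refine ⟨fun x y => ?_⟩
  obtain ⟨i, xi, rfl⟩ := Module.DirectLimit.exists_of x
  obtain ⟨j, yj, rfl⟩ := Module.DirectLimit.exists_of y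
  rw [Subsingleton.elim xi 0, Subsingleton.elim yj 0, map_zero, map_zero]

/-- An element of the direct limit is zero as soon as every element is killed by some transition
map. -/
theorem subsingleton_of_forall_exists
    (h : ∀ i (x : G₁ i), ∃ j, ∃ hij : i ≤ j, f₁ i j hij x = 0) :
    Subsingleton (Module.DirectLimit G₁ f₁) := by
  refine ⟨fun x y => ?_⟩
  have key : ∀ z : Module.DirectLimit G₁ f₁, z = 0 := by
    intro z
    obtain ⟨i, zi, rfl⟩ := Module.DirectLimit.exists_of z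
    obtain ⟨j, hij, hj⟩ := h i zi
    rw [← Module.DirectLimit.of_f (hij := hij), hj, map_zero]
  rw [key x, key y]

end Groth.Agent.Lib.Seat13.CKDirLim
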