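import Mathlib.Algebra.Homology.ShortComplex.ModuleCat
import Mathlib.Algebra.Homology.ShortComplex.HomologicalComplex
import Mathlib.Algebra.Homology.HomologicalComplexAbelian

/-!
# Elementwise description of homology classes of complexes of modules (helper13)
-/

set_option autoImplicit false
set_option backward.defeqAttrib.useBackward true
set_option backward.isDefEq.respectTransparency false

namespace Groth.Agent.Lib.Seat13.CKElt

open CategoryTheory CategoryTheory.Limits

universe u v

variable {A : Type u} [Ring A] {ι : Type*} {c : ComplexShape ι}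
  (K L : HomologicalComplex (ModuleCat.{v} A) c)

/-- every homology class is the class of a cycle -/
lemma exists_cycle (i : ι) (ξ : K.homology i) :
    ∃ z : K.cycles i, (K.homologyπ i).hom z = ξ :=
  (ModuleCat.epi_iff_surjective (K.homologyπ i)).1 inferInstance ξ

lemma d_iCycles (i j : ι) (z : K.cycles i) : (K.d i j).hom ((K.iCycles i).hom z) = 0 := by
  have := K.iCycles_d i j
  exact congr($(this).hom z)

lemma iCycles_injective (i : ι) : Function.Injective (K.iCycles i).hom :=
  (ModuleCat.mono_iff_injective (K.iCycles i)).1 inferInstance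

/-- a cocycle lifts to the cycles -/
lemma exists_cycles_of_d_eq_zero (i j : ι) (hj : c.next i = j) (x : K.X i)
    (hx : (K.d i j).hom x = 0) : ∃ z : K.cycles i, (K.iCycles i).hom z = x := by
  have hex : (ShortComplex.mk (K.iCycles i) (K.d i j) (K.iCycles_d i j)).Exact :=
    ShortComplex.exact_of_f_is_kernel _ (K.cyclesIsKernel i j hj)
  rw [ShortComplex.moduleCat_exact_iff] at hex
  exact hex x hx

variable {K L}

lemma iCycles_cyclesMap (φ : K ⟶ L) (i : ι) (z : K.cycles i) :
    (L.iCycles i).hom ((HomologicalComplex.cyclesMap φ i).hom z) =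
      (φ.f i).hom ((K.iCycles i).hom z) := by
  have := HomologicalComplex.cyclesMap_i φ i
  exact congr($(this).hom z)

lemma homologyMap_homologyπ (φ : K ⟶ L) (i : ι) (z : K.cycles i) :
    (HomologicalComplex.homologyMap φ i).hom ((K.homologyπ i).hom z) =
      (L.homologyπ i).hom ((HomologicalComplex.cyclesMap φ i).hom z) := by
  have := HomologicalComplex.homologyπ_naturality φ i
  exact congr($(this).hom z)

variable (L) in
/-- the class of a coboundary is zero -/
lemma homologyπ_eq_zero_of_boundary (i j : ι) (z : L.cycles j) (w : L.X i)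
    (hw : (L.d i j).hom w = (L.iCycles j).hom z) : (L.homologyπ j).hom z = 0 := by
  have h1 : (L.toCycles i j).hom w = z := by
    apply iCycles_injective L j
    have := L.toCycles_i i j
    rw [← hw]
    exact congr($(this).hom w)
  rw [← h1]
  have := L.toCycles_comp_homologyπ i j
  exact congr($(this).hom w)

/-- `homologyMap φ = 0` when `φ` sends cocycles to coboundaries -/
lemma homologyMap_eq_zero (φ : K ⟶ L) (i' i j : ι)
    (h : ∀ z : K.X i, (K.d i j).hom z = 0 → ∃ w : L.X i', (L.d i' i).hom w = (φ.f i).hom z) :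
    HomologicalComplex.homologyMap φ i = 0 := by
  apply ModuleCat.hom_ext
  refine LinearMap.ext fun ξ => ?_
  obtain ⟨z, rfl⟩ := exists_cycle K i ξ
  rw [homologyMap_homologyπ]
  obtain ⟨w, hw⟩ := h _ (d_iCycles K i j z)
  exact homologyπ_eq_zero_of_boundary L i' i _ w (by rw [hw, iCycles_cyclesMap])

/-- the class of a cycle whose underlying cocycle lifts to a cocycle along `φ` lies in the image
of `homologyMap φ` -/
lemma exists_homologyMap_eq_homologyπ (φ : K ⟶ L) (i j : ι) (hj : c.next i = j) (z : L.cycles i)
    (z' : K.X i) (hz' : (K.d i j).hom z' = 0) (hφ : (φ.f i).hom z' = (L.iCycles i).hom z) :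
    ∃ ξ' : K.homology i, (HomologicalComplex.homologyMap φ i).hom ξ' = (L.homologyπ i).hom z := by
  obtain ⟨y, hy⟩ := exists_cycles_of_d_eq_zero K i j hj z' hz'
  refine ⟨(K.homologyπ i).hom y, ?_⟩
  rw [homologyMap_homologyπ]
  congr 1
  apply iCycles_injective L i
  rw [iCycles_cyclesMap, hy, hφ]

/-- a class lies in the image of `homologyMap φ` when its cocycles lift to cocycles -/
lemma exists_homologyMap_eq (φ : K ⟶ L) (i j : ι) (hj : c.next i = j) (ξ : L.homology i)
    (h : ∀ z : L.X i, (L.d i j).hom z = 0 →
      ∃ z' : K.X i, (K.d i j).hom z' = 0 ∧ (φ.f i).hom z' = z) :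
    ∃ ξ' : K.homology i, (HomologicalComplex.homologyMap φ i).hom ξ' = ξ := by
  obtain ⟨z, rfl⟩ := exists_cycle L i ξ
  obtain ⟨z', hz', hφ⟩ := h _ (d_iCycles L i j z)
  obtain ⟨y, hy⟩ := exists_cycles_of_d_eq_zero K i j hj z' hz'
  refine ⟨(K.homologyπ i).hom y, ?_⟩
  rw [homologyMap_homologyπ]
  congr 1
  apply iCycles_injective L i
  rw [iCycles_cyclesMap, hy, hφ]

end Groth.Agent.Lib.Seat13.CKElt
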