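import Groth.Agent.Lib.Helper21KoszulFun

/-!
# Functoriality of the iterated-cone Koszul complex and of the transition maps (helper13)

`koszulMap` (helper21) is functorial and additive in the module; the transition maps
`CohIII.koszulTrans` form a directed system and are natural in the module.
-/

set_option autoImplicit false
set_option backward.defeqAttrib.useBackward true
set_option backward.isDefEq.respectTransparency false

namespace Groth.Agent.Lib.Seat13.CKKz1

open CategoryTheory CategoryTheory.Limits CochainComplex HomComplex CohIII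
open Groth.Agent.Lib.Helper21

universe u

variable {A : Type u} [CommRing A]

section ConeMap

variable {K₁ L₁ K₂ L₂ : CochainComplex (ModuleCat.{u} A) ℤ} (φ₁ : K₁ ⟶ L₁) (φ₂ : K₂ ⟶ L₂)

lemma coneMap_congr {a a' : K₁ ⟶ K₂} {b b' : L₁ ⟶ L₂} (ha : a = a') (hb : b = b')
    (comm : φ₁ ≫ b = a ≫ φ₂) :
    mappingCone.map φ₁ φ₂ a b comm = mappingCone.map φ₁ φ₂ a' b' (by rw [← ha, ← hb]; exact comm) := by
  subst ha hb
  rfl

lemma coneMap_add (a a' : K₁ ⟶ K₂) (b b' : L₁ ⟶ L₂)
    (comm : φ₁ ≫ b = a ≫ φ₂) (comm' : φ₁ ≫ b' = a' ≫ φ₂) :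
    mappingCone.map φ₁ φ₂ (a + a') (b + b')
      (by rw [Preadditive.comp_add, Preadditive.add_comp, comm, comm']) =
      mappingCone.map φ₁ φ₂ a b comm + mappingCone.map φ₁ φ₂ a' b' comm' := by
  refine HomologicalComplex.hom_ext _ _ (fun n => ?_)
  simp [mappingCone.ext_from_iff _ (n + 1) n rfl, mappingCone.map]

lemma coneMap_zero :
    mappingCone.map φ₁ φ₂ (0 : K₁ ⟶ K₂) (0 : L₁ ⟶ L₂) (by simp) = 0 := by
  refine HomologicalComplex.hom_ext _ _ (fun n => ?_)
  simp [mappingCone.ext_from_iff _ (n + 1) n rfl, mappingCone.map]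

end ConeMap

section KoszulMap

lemma koszulMap_id (M : ModuleCat.{u} A) : ∀ fs : List A, koszulMap (𝟙 M) fs = 𝟙 _
  | [] => (HomologicalComplex.single (ModuleCat.{u} A) (ComplexShape.up ℤ) 0).map_id M
  | f :: fs => by
    show mappingCone.map _ _ (koszulMap (𝟙 M) fs) (koszulMap (𝟙 M) fs) _ = 𝟙 _
    rw [coneMap_congr _ _ (koszulMap_id M fs) (koszulMap_id M fs)]
    exact mappingCone.map_id _

lemma koszulMap_comp {M N P : ModuleCat.{u} A} (g : M ⟶ N) (h : N ⟶ P) :
    ∀ fs : List A, koszulMap (g ≫ h) fs = koszulMap g fs ≫ koszulMap h fs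
  | [] => (HomologicalComplex.single (ModuleCat.{u} A) (ComplexShape.up ℤ) 0).map_comp g h
  | f :: fs => by
    show mappingCone.map _ _ (koszulMap (g ≫ h) fs) (koszulMap (g ≫ h) fs) _ =
      mappingCone.map _ _ (koszulMap g fs) (koszulMap g fs) _ ≫
        mappingCone.map _ _ (koszulMap h fs) (koszulMap h fs) _
    rw [coneMap_congr _ _ (koszulMap_comp g h fs) (koszulMap_comp g h fs)]
    exact mappingCone.map_comp _ _ _ _ _ _ _ _ _

lemma koszulMap_add {M N : ModuleCat.{u} A} (g g' : M ⟶ N) :
    ∀ fs : List A, koszulMap (g + g') fs = koszulMap g fs + koszulMap g' fs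
  | [] => (HomologicalComplex.single (ModuleCat.{u} A) (ComplexShape.up ℤ) 0).map_add
  | f :: fs => by
    show mappingCone.map _ _ (koszulMap (g + g') fs) (koszulMap (g + g') fs) _ =
      mappingCone.map _ _ (koszulMap g fs) (koszulMap g fs) _ +
        mappingCone.map _ _ (koszulMap g' fs) (koszulMap g' fs) _
    rw [coneMap_congr _ _ (koszulMap_add g g' fs) (koszulMap_add g g' fs)]
    exact coneMap_add _ _ _ _ _ _ _ _

lemma koszulMap_zero (M N : ModuleCat.{u} A) :
    ∀ fs : List A, koszulMap (0 : M ⟶ N) fs = 0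
  | [] => (HomologicalComplex.single (ModuleCat.{u} A) (ComplexShape.up ℤ) 0).map_zero _ _
  | f :: fs => by
    show mappingCone.map _ _ (koszulMap (0 : M ⟶ N) fs) (koszulMap (0 : M ⟶ N) fs) _ = 0
    rw [coneMap_congr _ _ (koszulMap_zero M N fs) (koszulMap_zero M N fs)]
    exact coneMap_zero _ _

lemma koszulMap_sum {M N : ModuleCat.{u} A} {ι : Type*} (s : Finset ι) (g : ι → (M ⟶ N))
    (fs : List A) : koszulMap (∑ i ∈ s, g i) fs = ∑ i ∈ s, koszulMap (g i) fs := by
  classical
  induction s using Finset.induction_on with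
  | empty => simpa using koszulMap_zero M N fs
  | insert a s ha ih => rw [Finset.sum_insert ha, Finset.sum_insert ha, koszulMap_add, ih]

end KoszulMap

section Trans

lemma koszulTrans_self (M : ModuleCat.{u} A) (n : ℕ) :
    ∀ fs : List A, koszulTrans M n n le_rfl fs = 𝟙 _
  | [] => rfl
  | f :: fs => by
    show mappingCone.map _ _ (koszulTrans M n n le_rfl fs)
      (f ^ (n - n) • koszulTrans M n n le_rfl fs) _ = 𝟙 _
    rw [coneMap_congr _ _ (koszulTrans_self M n fs)
      (show f ^ (n - n) • koszulTrans M n n le_rfl fs = 𝟙 _ by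
        rw [koszulTrans_self M n fs, Nat.sub_self, pow_zero, one_smul])]
    exact mappingCone.map_id _

lemma koszulTrans_comp (M : ModuleCat.{u} A) (n m k : ℕ) (h1 : n ≤ m) (h2 : m ≤ k) :
    ∀ fs : List A, koszulTrans M n m h1 fs ≫ koszulTrans M m k h2 fs =
      koszulTrans M n k (h1.trans h2) fs
  | [] => Category.id_comp _
  | f :: fs => by
    show mappingCone.map _ _ (koszulTrans M n m h1 fs) (f ^ (m - n) • koszulTrans M n m h1 fs) _ ≫
      mappingCone.map _ _ (koszulTrans M m k h2 fs) (f ^ (k - m) • koszulTrans M m k h2 fs) _ =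
      mappingCone.map _ _ (koszulTrans M n k (h1.trans h2) fs)
        (f ^ (k - n) • koszulTrans M n k (h1.trans h2) fs) _
    rw [← mappingCone.map_comp]
    apply coneMap_congr
    · exact koszulTrans_comp M n m k h1 h2 fs
    · rw [Linear.smul_comp, Linear.comp_smul, smul_smul, koszulTrans_comp M n m k h1 h2 fs,
        ← pow_add]
      congr 2
      omega

lemma koszulTrans_naturality {M N : ModuleCat.{u} A} (g : M ⟶ N) (n m : ℕ) (h : n ≤ m) :
    ∀ fs : List A, koszulMap g (fs.map (· ^ n)) ≫ koszulTrans N n m h fs =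
      koszulTrans M n m h fs ≫ koszulMap g (fs.map (· ^ m))
  | [] => by
    show koszulMap g [] ≫ 𝟙 _ = 𝟙 _ ≫ koszulMap g []
    rw [Category.comp_id, Category.id_comp]
  | f :: fs => by
    show mappingCone.map _ _ (koszulMap g (fs.map (· ^ n))) (koszulMap g (fs.map (· ^ n))) _ ≫
      mappingCone.map _ _ (koszulTrans N n m h fs) (f ^ (m - n) • koszulTrans N n m h fs) _ =
      mappingCone.map _ _ (koszulTrans M n m h fs) (f ^ (m - n) • koszulTrans M n m h fs) _ ≫
        mappingCone.map _ _ (koszulMap g (fs.map (· ^ m))) (koszulMap g (fs.map (· ^ m))) _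
    rw [← mappingCone.map_comp, ← mappingCone.map_comp]
    apply coneMap_congr
    · exact koszulTrans_naturality g n m h fs
    · rw [Linear.comp_smul, Linear.smul_comp, koszulTrans_naturality g n m h fs]

end Trans

end Groth.Agent.Lib.Seat13.CKKz1
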