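import Groth.Agent.Lib.Seat13CKKz1
import Groth.Agent.Lib.Seat13CKDirLim
import Mathlib.Algebra.Homology.HomologySequenceLemmas

/-!
# The direct limit of Koszul cohomology as a cohomological functor (helper13)

`L fs M d = colim_n H^d(K(fs^n; M))` (so that `CohIII.koszulHLim fs M p = L fs M (p - fs.length)`),
its functoriality `Lmap` and the long exact sequence of a short exact sequence of modules.
-/

set_option autoImplicit false
set_option backward.defeqAttrib.useBackward true
set_option backward.isDefEq.respectTransparency false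

namespace Groth.Agent.Lib.Seat13.CKKz2

open CategoryTheory CategoryTheory.Limits CochainComplex HomComplex CohIII
open Groth.Agent.Lib.Helper21 Groth.Agent.Lib.Seat13.CKKz1 Groth.Agent.Lib.Seat13.CKDirLim

universe u

variable {A : Type u} [CommRing A] (fs : List A)

/-- level `n` Koszul cohomology in degree `d` -/
noncomputable abbrev Hn (M : ModuleCat.{u} A) (d : ℤ) (n : ℕ) : ModuleCat.{u} A :=
  (koszulCx M (fs.map (· ^ n))).homology d

/-- transition maps -/
noncomputable def tr (M : ModuleCat.{u} A) (d : ℤ) (n m : ℕ) (h : n ≤ m) :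
    Hn fs M d n →ₗ[A] Hn fs M d m :=
  (HomologicalComplex.homologyMap (koszulTrans M n m h fs) d).hom

instance (M : ModuleCat.{u} A) (d : ℤ) :
    DirectedSystem (fun n => Hn fs M d n) (fun n m h => tr fs M d n m h) where
  map_self n x := by
    unfold tr
    rw [koszulTrans_self, HomologicalComplex.homologyMap_id]
    rfl
  map_map k j i hij hjk x := by
    unfold tr
    rw [← koszulTrans_comp M i j k hij hjk fs, HomologicalComplex.homologyMap_comp]
    rfl

/-- the direct limit of Koszul cohomology -/
noncomputable abbrev L (M : ModuleCat.{u} A) (d : ℤ) : Type u :=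
  Module.DirectLimit (fun n => Hn fs M d n) (tr fs M d)

theorem koszulHLim_eq (M : ModuleCat.{u} A) (p : ℕ) :
    koszulHLim fs M p = L fs M ((p : ℤ) - fs.length) := rfl

/-- level `n` functoriality -/
noncomputable def hmap {M N : ModuleCat.{u} A} (g : M ⟶ N) (d : ℤ) (n : ℕ) :
    Hn fs M d n →ₗ[A] Hn fs N d n :=
  (HomologicalComplex.homologyMap (koszulMap g (fs.map (· ^ n))) d).hom

lemma hmap_tr {M N : ModuleCat.{u} A} (g : M ⟶ N) (d : ℤ) (n m : ℕ) (h : n ≤ m) :
    hmap fs g d m ∘ₗ tr fs M d n m h = tr fs N d n m h ∘ₗ hmap fs g d n := by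
  unfold hmap tr
  rw [← ModuleCat.hom_comp, ← ModuleCat.hom_comp, ← HomologicalComplex.homologyMap_comp,
    ← HomologicalComplex.homologyMap_comp, koszulTrans_naturality]

/-- functoriality of the limit -/
noncomputable def Lmap {M N : ModuleCat.{u} A} (g : M ⟶ N) (d : ℤ) : L fs M d →ₗ[A] L fs N d :=
  Module.DirectLimit.map (fun n => hmap fs g d n) (fun n m h => hmap_tr fs g d n m h)

section LES

variable {M₁ M₂ M₃ : ModuleCat.{u} A} (g : M₁ ⟶ M₂) (h : M₂ ⟶ M₃)
  (hg : Function.Injective g.hom) (hh : Function.Surjective h.hom)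
  (hgh : Function.Exact g.hom h.hom)

include hg hh hgh

theorem L_exact (d : ℤ) : Function.Exact (Lmap fs g d) (Lmap fs h d) := by
  apply exact_map
  intro n
  have hS := koszul_shortExact g h hg hh hgh (fs.map (· ^ n))
  have h2 := hS.homology_exact₂ d
  rw [ShortComplex.ShortExact.moduleCat_exact_iff_function_exact] at h2
  exact h2

theorem exists_δ (d e : ℤ) (hde : d + 1 = e) :
    ∃ δ : L fs M₃ d →ₗ[A] L fs M₁ e,
      Function.Exact (Lmap fs h d) δ ∧ Function.Exact δ (Lmap fs g e) := by
  have hS := fun n : ℕ => koszul_shortExact g h hg hh hgh (fs.map (· ^ n))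
  -- the level-wise connecting maps
  let δn : ∀ n : ℕ, Hn fs M₃ d n →ₗ[A] Hn fs M₁ e n := fun n => ((hS n).δ d e hde).hom
  have hδ : ∀ n m (hnm : n ≤ m), δn m ∘ₗ tr fs M₃ d n m hnm = tr fs M₁ e n m hnm ∘ₗ δn n := by
    intro n m hnm
    let φ : ShortComplex.mk (koszulMap g (fs.map (· ^ n))) (koszulMap h (fs.map (· ^ n)))
        (koszulMap_comp_eq_zero g h hgh _) ⟶
        ShortComplex.mk (koszulMap g (fs.map (· ^ m))) (koszulMap h (fs.map (· ^ m)))
        (koszulMap_comp_eq_zero g h hgh _) :=
      { τ₁ := koszulTrans M₁ n m hnm fs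
        τ₂ := koszulTrans M₂ n m hnm fs
        τ₃ := koszulTrans M₃ n m hnm fs
        comm₁₂ := (koszulTrans_naturality g n m hnm fs).symm
        comm₂₃ := (koszulTrans_naturality h n m hnm fs).symm }
    have := HomologicalComplex.HomologySequence.δ_naturality φ (hS n) (hS m) d e hde
    have h' := congrArg ModuleCat.Hom.hom this
    rw [ModuleCat.hom_comp, ModuleCat.hom_comp] at h'
    exact h'.symm
  refine ⟨Module.DirectLimit.map δn hδ, ?_, ?_⟩
  · apply exact_map
    intro n
    have h3 := (hS n).homology_exact₃ d e hde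
    rw [ShortComplex.ShortExact.moduleCat_exact_iff_function_exact] at h3
    exact h3
  · apply exact_map
    intro n
    have h1 := (hS n).homology_exact₁ d e hde
    rw [ShortComplex.ShortExact.moduleCat_exact_iff_function_exact] at h1
    exact h1

end LES

end Groth.Agent.Lib.Seat13.CKKz2
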