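import Groth.Agent.Lib.Seat13CKKz2
import Groth.Agent.Lib.Helper21KoszulDepth
import Groth.Agent.S14433

/-!
# Vanishing of Koszul cohomology when an element of the sequence acts bijectively (helper13)
-/

set_option autoImplicit false
set_option backward.defeqAttrib.useBackward true
set_option backward.isDefEq.respectTransparency false

namespace Groth.Agent.Lib.Seat13.CKKz3

open CategoryTheory CategoryTheory.Limits CochainComplex HomComplex CohIII
open Groth.Agent.Lib.Helper21 Groth.Agent.Lib.Seat13.CKKz1 Groth.Agent.Lib.Seat13.CKKz2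
  Groth.Agent.Lib.Seat13.CKDirLim

universe u

variable {A : Type u} [CommRing A]

/-- If `g ∈ gs` acts bijectively on `N` then the Koszul cohomology of `N` vanishes. -/
theorem isZero_homology_of_bijective (N : ModuleCat.{u} A) (gs : List A) (g : A) (hg : g ∈ gs)
    (hb : Function.Bijective (fun x : N => g • x)) (d : ℤ) :
    IsZero ((koszulCx N gs).homology d) := by
  let e : N ≃ₗ[A] N := LinearEquiv.ofBijective (g • LinearMap.id) hb
  let u : N ⟶ N := ModuleCat.ofHom e.symm.toLinearMap
  have hu : (g • 𝟙 N) ≫ u = 𝟙 N := by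
    ext x
    exact e.symm_apply_apply x
  have h1 : koszulMap (g • 𝟙 N) gs ≫ koszulMap u gs = 𝟙 _ := by
    rw [← koszulMap_comp, hu, koszulMap_id]
  have h2 : HomologicalComplex.homologyMap (g • 𝟙 (koszulCx N gs)) d = 0 :=
    smul_homology_eq_zero N gs g (Groth.Agent.S14433.key N gs g hg) d
  rw [koszulMap_smul_id] at h1
  have h3 := congrArg (fun φ => HomologicalComplex.homologyMap φ d) h1
  simp only [HomologicalComplex.homologyMap_comp, HomologicalComplex.homologyMap_id] at h3
  rw [h2, zero_comp] at h3
  exact (IsZero.iff_id_eq_zero _).2 h3.symm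

/-- Vanishing of Koszul cohomology passes to finite products. -/
theorem isZero_homology_pi {ι : Type u} [Fintype ι] [DecidableEq ι] (N : ι → ModuleCat.{u} A)
    (gs : List A) (d : ℤ) (h : ∀ i, IsZero ((koszulCx (N i) gs).homology d)) :
    IsZero ((koszulCx (ModuleCat.of A (∀ i, N i)) gs).homology d) := by
  let p : ∀ i, ModuleCat.of A (∀ i, N i) ⟶ N i := fun i => ModuleCat.ofHom (LinearMap.proj i)
  let s : ∀ i, N i ⟶ ModuleCat.of A (∀ i, N i) := fun i =>
    ModuleCat.ofHom (LinearMap.single A (fun i => N i) i)
  have hsum : ∑ i, p i ≫ s i = 𝟙 (ModuleCat.of A (∀ i, N i)) := by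
    apply ModuleCat.hom_ext
    refine LinearMap.ext fun x => funext fun j => ?_
    rw [ModuleCat.hom_sum]
    simp only [LinearMap.sum_apply, Finset.sum_apply]
    show ∑ i, (Pi.single i (x i) : ∀ i, N i) j = x j
    simp
  have h1 : ∑ i, koszulMap (p i) gs ≫ koszulMap (s i) gs = 𝟙 _ := by
    simp only [← koszulMap_comp]
    rw [← koszulMap_sum, hsum, koszulMap_id]
  have h2 := congrArg (fun φ => HomologicalComplex.homologyMap φ d) h1
  simp only [HomologicalComplex.homologyMap_id] at h2
  rw [IsZero.iff_id_eq_zero, ← h2]
  have hadd : ∀ (t : Finset ι) (φ : ι → (koszulCx (ModuleCat.of A (∀ i, N i)) gs ⟶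
      koszulCx (ModuleCat.of A (∀ i, N i)) gs)),
      HomologicalComplex.homologyMap (∑ i ∈ t, φ i) d =
        ∑ i ∈ t, HomologicalComplex.homologyMap (φ i) d := by
    intro t φ
    induction t using Finset.induction_on with
    | empty => simp
    | insert a t ha ih =>
      rw [Finset.sum_insert ha, Finset.sum_insert ha, HomologicalComplex.homologyMap_add, ih]
  rw [hadd]
  apply Finset.sum_eq_zero
  intro i _
  rw [HomologicalComplex.homologyMap_comp]
  rw [(h i).eq_of_tgt (HomologicalComplex.homologyMap (koszulMap (p i) gs) d) 0, zero_comp]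

lemma bijective_pow_smul {N : Type*} [AddCommGroup N] [Module A N] (g : A)
    (hb : Function.Bijective (fun x : N => g • x)) (n : ℕ) :
    Function.Bijective (fun x : N => g ^ n • x) := by
  induction n with
  | zero =>
    have : (fun x : N => g ^ 0 • x) = id := by
      funext x
      simp
    rw [this]
    exact Function.bijective_id
  | succ n ih =>
    have : (fun x : N => g ^ (n + 1) • x) = (fun x => g ^ n • x) ∘ (fun x => g • x) := by
      funext x
      simp [pow_succ, mul_smul]
    rw [this]
    exact ih.comp hb

/-- The limit Koszul cohomology of a finite product of modules, on each of which some member of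
the sequence acts bijectively, vanishes. -/
theorem subsingleton_L_pi (fs : List A) {ι : Type u} [Fintype ι] [DecidableEq ι]
    (N : ι → ModuleCat.{u} A) (f : ι → A) (hf : ∀ i, f i ∈ fs)
    (hb : ∀ i, Function.Bijective (fun x : N i => f i • x)) (d : ℤ) :
    Subsingleton (L fs (ModuleCat.of A (∀ i, N i)) d) := by
  apply subsingleton_of_forall
  intro n
  apply ModuleCat.subsingleton_of_isZero
  apply isZero_homology_pi
  intro i
  exact isZero_homology_of_bijective (N i) (fs.map (· ^ n)) (f i ^ n)
    (List.mem_map.2 ⟨f i, hf i, rfl⟩) (bijective_pow_smul (f i) (hb i) n) d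

end Groth.Agent.Lib.Seat13.CKKz3
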