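import Groth.Agent.Lib.Seat13KzSwap
import Groth.Agent.Lib.Helper21ConeLES2

/-!
# Cones of the zero map and Koszul complexes of sequences acting by zero (seat 13)

* `nonempty_cone_zero_homology_equiv`: `H^n(cone 0) ≃ H^n(L) × H^{n+1}(K)`;
* `smul_id_eq_zero`: a scalar killing `M` kills `K(l; M)`;
* `nonempty_homology_equiv_append`: if `f` kills `M` and `H^n(K(g; M)) ≃ T^{b0 n}` then
  `H^n(K(f ++ g; M)) ≃ T^{beta b0 f n}`; `beta_neg`: binomial coefficients.
-/

set_option autoImplicit false
set_option backward.defeqAttrib.useBackward true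
set_option backward.isDefEq.respectTransparency false

universe u

open CategoryTheory Limits CochainComplex HomComplex CohIII

namespace Groth.Agent.Lib.Seat13.KzZero

open Groth.Agent.Lib.Seat13.KzH1 Groth.Agent.Lib.Helper21

variable {A : Type u} [CommRing A]

section Split

variable {X Y Z : Type*} [AddCommGroup X] [Module A X] [AddCommGroup Y] [Module A Y]
  [AddCommGroup Z] [Module A Z]

theorem nonempty_equiv_prod_of_split (i : X →ₗ[A] Y) (q : Y →ₗ[A] Z) (r : Y →ₗ[A] X)
    (hri : ∀ x, r (i x) = x) (hq : Function.Surjective q) (hex : Function.Exact i q) :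
    Nonempty (Y ≃ₗ[A] X × Z) := by
  have hqi : ∀ x, q (i x) = 0 := fun x => (hex (i x)).mpr ⟨x, rfl⟩
  refine ⟨LinearEquiv.ofBijective (r.prod q) ⟨?_, ?_⟩⟩
  · rw [← LinearMap.ker_eq_bot, LinearMap.ker_eq_bot']
    intro y hy
    have h1 : r y = 0 := congrArg Prod.fst hy
    have h2 : q y = 0 := congrArg Prod.snd hy
    obtain ⟨x, rfl⟩ := (hex y).mp h2
    rw [hri] at h1
    rw [h1, map_zero]
  · rintro ⟨x, z⟩
    obtain ⟨y0, rfl⟩ := hq z
    refine ⟨y0 - i (r y0) + i x, ?_⟩
    show (r.prod q) (y0 - i (r y0) + i x) = (x, q y0)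
    rw [LinearMap.prod_apply]
    refine Prod.ext ?_ ?_
    · show r (y0 - i (r y0) + i x) = x
      rw [map_add, map_sub, hri, hri, sub_self, zero_add]
    · show q (y0 - i (r y0) + i x) = q y0
      rw [map_add, map_sub, hqi, hqi, sub_zero, add_zero]

end Split

section ConeZero

variable {K L : CochainComplex (ModuleCat.{u} A) ℤ} (φ : K ⟶ L)

/-- the homology of the cone of the zero map splits -/
theorem nonempty_cone_zero_homology_equiv (hφ : φ = 0) (n n1 : ℤ) (h : n + 1 = n1) :
    Nonempty ((mappingCone φ).homology n ≃ₗ[A] (L.homology n × K.homology n1)) := by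
  have heq : δ (-1) 0 (0 : Cochain K L (-1)) = Cochain.ofHom (φ ≫ 𝟙 L) := by
    rw [hφ]
    simp
  let p : mappingCone φ ⟶ L := mappingCone.desc φ 0 (𝟙 L) heq
  have hp : mappingCone.inr φ ≫ p = 𝟙 L := mappingCone.inr_desc _ _ _ _
  have hH : HomologicalComplex.homologyMap φ n = 0 := by
    rw [hφ, HomologicalComplex.homologyMap_zero]
  have hH1 : HomologicalComplex.homologyMap φ n1 = 0 := by
    rw [hφ, HomologicalComplex.homologyMap_zero]
  have e2 := (ShortComplex.ShortExact.moduleCat_exact_iff_function_exact _).mp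
    (cone_homology_exact₂ φ n)
  have e3 := (ShortComplex.ShortExact.moduleCat_exact_iff_function_exact _).mp
    (cone_homology_exact₃ φ n n1 h)
  have e1 := (ShortComplex.ShortExact.moduleCat_exact_iff_function_exact _).mp
    (cone_homology_exact₁ φ n n1 h)
  refine nonempty_equiv_prod_of_split
    (HomologicalComplex.homologyMap (mappingCone.inr φ) n).hom
    (coneδ φ n n1 h).hom
    (HomologicalComplex.homologyMap p n).hom ?_ ?_ e3
  · intro x
    have := congrArg (fun f => HomologicalComplex.homologyMap f n) hp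
    simp only [HomologicalComplex.homologyMap_comp, HomologicalComplex.homologyMap_id] at this
    exact congr($(this).hom x)
  · intro z
    have hz : (HomologicalComplex.homologyMap φ n1).hom z = 0 := by
      rw [hH1]
      rfl
    exact (e1 z).mp hz

end ConeZero

section Kill

/-- an element killing `M` kills every term of the Koszul complex of `M` -/
theorem smul_X_eq_zero (M : ModuleCat.{u} A) (x : A) (hx : ∀ m : M, x • m = 0) :
    ∀ (l : List A) (n : ℤ) (z : (koszulCx M l).X n), x • z = 0
  | [], n, z => by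
    by_cases hn : n = 0
    · subst hn
      let e := (HomologicalComplex.singleObjXSelf (ComplexShape.up ℤ) 0 M).toLinearEquiv
      apply e.injective
      rw [map_smul, hx, map_zero]
    · have : Subsingleton ((koszulCx M ([] : List A)).X n) :=
        ModuleCat.subsingleton_of_isZero
          (HomologicalComplex.isZero_single_obj_X (ComplexShape.up ℤ) 0 M n hn)
      exact Subsingleton.elim _ _
  | f :: l, n, z => by
    have ih := smul_X_eq_zero M x hx l
    have h := decomp (f • 𝟙 (koszulCx M l)) n (n + 1) rfl z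
    have hz : x • z = inlL (f • 𝟙 (koszulCx M l)) n (n + 1) rfl
        (x • fstL (f • 𝟙 (koszulCx M l)) n (n + 1) rfl z) +
        inrL (f • 𝟙 (koszulCx M l)) n (x • sndL (f • 𝟙 (koszulCx M l)) n z) := by
      rw [map_smul, map_smul, ← smul_add, h]
    rw [hz, ih, ih, map_zero, map_zero, add_zero]

theorem smul_id_eq_zero (M : ModuleCat.{u} A) (x : A) (hx : ∀ m : M, x • m = 0) (l : List A) :
    x • 𝟙 (koszulCx M l) = 0 := by
  ext n z
  exact smul_X_eq_zero M x hx l n z

end Kill

section Iter

/-- the multiplicities `β f n`: `β [] = b0`, `β (x :: f) n = β f n + β f (n + 1)` -/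
def beta (b0 : ℤ → ℕ) : List A → ℤ → ℕ
  | [], n => b0 n
  | _ :: f, n => beta b0 f n + beta b0 f (n + 1)

variable (M : ModuleCat.{u} A) (T : Type u) [AddCommGroup T] [Module A T]

theorem nonempty_homology_equiv_append (g : List A) (b0 : ℤ → ℕ)
    (hbase : ∀ n : ℤ, Nonempty ((koszulCx M g).homology n ≃ₗ[A] (Fin (b0 n) → T))) :
    ∀ (f : List A), (∀ x ∈ f, ∀ m : M, x • m = 0) → ∀ n : ℤ,
      Nonempty ((koszulCx M (f ++ g)).homology n ≃ₗ[A] (Fin (beta b0 f n) → T))
  | [], _, n => hbase n
  | x :: f, hf, n => by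
    have ih := nonempty_homology_equiv_append g b0 hbase f
      (fun y hy => hf y (List.mem_cons_of_mem x hy))
    obtain ⟨e1⟩ := ih n
    obtain ⟨e2⟩ := ih (n + 1)
    have hzero := smul_id_eq_zero M x (hf x (List.mem_cons_self)) (f ++ g)
    obtain ⟨e⟩ := nonempty_cone_zero_homology_equiv (x • 𝟙 (koszulCx M (f ++ g))) hzero n (n + 1) rfl
    exact ⟨e ≪≫ₗ (LinearEquiv.prodCongr e1 e2) ≪≫ₗ
      (LinearEquiv.sumArrowLequivProdArrow (Fin (beta b0 f n)) (Fin (beta b0 f (n + 1))) A T).symm ≪≫ₗ
      (LinearEquiv.funCongrLeft A T finSumFinEquiv.symm)⟩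

end Iter

section Beta

/-- the base multiplicities: one copy in degree `0` -/
def b0 : ℤ → ℕ := fun n => if n = 0 then 1 else 0

omit [CommRing A] in
theorem beta_pos : ∀ (f : List A) (n : ℤ), 0 < n → beta b0 f n = 0
  | [], n, hn => by
    show (if n = 0 then 1 else 0) = 0
    rw [if_neg (by omega)]
  | _ :: f, n, hn => by
    show beta b0 f n + beta b0 f (n + 1) = 0
    rw [beta_pos f n hn, beta_pos f (n + 1) (by omega)]

omit [CommRing A] in
theorem beta_neg : ∀ (f : List A) (k : ℕ), beta b0 f (-(k : ℤ)) = f.length.choose k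
  | [], k => by
    show (if -(k : ℤ) = 0 then 1 else 0) = Nat.choose 0 k
    cases k with
    | zero => simp
    | succ k =>
      rw [if_neg (by push_cast; omega), Nat.choose_zero_succ]
  | _ :: f, k => by
    show beta b0 f (-(k : ℤ)) + beta b0 f (-(k : ℤ) + 1) = (f.length + 1).choose k
    cases k with
    | zero =>
      rw [beta_neg f 0, beta_pos f _ (by norm_num)]
      simp
    | succ k =>
      have h1 : -((k + 1 : ℕ) : ℤ) + 1 = -(k : ℤ) := by push_cast; ring
      rw [h1, beta_neg f (k + 1), beta_neg f k, Nat.choose_succ_succ, add_comm]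

end Beta

end Groth.Agent.Lib.Seat13.KzZero
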