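import Groth.Agent.Lib.Seat13CKKz2
import Groth.Agent.Lib.Seat13CKElt
import Groth.Agent.Lib.Seat13KzZero

/-!
# Torsion modules have no higher limit Koszul cohomology (helper13)
-/

set_option autoImplicit false
set_option backward.defeqAttrib.useBackward true
set_option backward.isDefEq.respectTransparency false

namespace Groth.Agent.Lib.Seat13.CKKz4

open CategoryTheory CategoryTheory.Limits CochainComplex HomComplex CohIII
open Groth.Agent.Lib.Helper21 Groth.Agent.Lib.Seat13.CKKz1 Groth.Agent.Lib.Seat13.CKKz2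
  Groth.Agent.Lib.Seat13.CKDirLim Groth.Agent.Lib.Seat13.KzH1 Groth.Agent.Lib.Seat13.KzZero
  Groth.Agent.Lib.Seat13.CKElt

universe u

variable {A : Type u} [CommRing A]

lemma cone_ext' {K L : CochainComplex (ModuleCat.{u} A) ℤ} (φ : K ⟶ L) (i j : ℤ) (h : i + 1 = j)
    {x y : (mappingCone φ).X i} (h1 : fstL φ i j h x = fstL φ i j h y)
    (h2 : sndL φ i x = sndL φ i y) : x = y := by
  rw [← decomp φ i j h x, ← decomp φ i j h y, h1, h2]

lemma fstL_map {K₁ L₁ K₂ L₂ : CochainComplex (ModuleCat.{u} A) ℤ} (φ₁ : K₁ ⟶ L₁) (φ₂ : K₂ ⟶ L₂)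
    (a : K₁ ⟶ K₂) (b : L₁ ⟶ L₂) (comm : φ₁ ≫ b = a ≫ φ₂) (i j : ℤ) (h : i + 1 = j)
    (x : (mappingCone φ₁).X i) :
    fstL φ₂ i j h (((mappingCone.map φ₁ φ₂ a b comm).f i).hom x) = (a.f j).hom (fstL φ₁ i j h x) := by
  subst h
  exact cfst_map φ₁ φ₂ a b comm i x

lemma sndL_map {K₁ L₁ K₂ L₂ : CochainComplex (ModuleCat.{u} A) ℤ} (φ₁ : K₁ ⟶ L₁) (φ₂ : K₂ ⟶ L₂)
    (a : K₁ ⟶ K₂) (b : L₁ ⟶ L₂) (comm : φ₁ ≫ b = a ≫ φ₂) (i : ℤ)
    (x : (mappingCone φ₁).X i) :
    sndL φ₂ i (((mappingCone.map φ₁ φ₂ a b comm).f i).hom x) = (b.f i).hom (sndL φ₁ i x) :=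
  csnd_map φ₁ φ₂ a b comm i x

/-- Bounded torsion: if `g ^ N` kills `T` for all `g ∈ fs`, the transition map from level `n` to
level `n + N` sends cocycles to coboundaries outside the bottom degree. -/
theorem trans_coboundary (T : ModuleCat.{u} A) (N : ℕ) :
    ∀ (fs : List A), (∀ g ∈ fs, ∀ x : T, g ^ N • x = 0) → ∀ (n : ℕ) (e d d' : ℤ)
      (_ : e + 1 = d) (_ : d + 1 = d'), d ≠ -(fs.length : ℤ) →
      ∀ z : (koszulCx T (fs.map (· ^ n))).X d,
        ((koszulCx T (fs.map (· ^ n))).d d d').hom z = 0 →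
        ∃ w : (koszulCx T (fs.map (· ^ (n + N)))).X e,
          ((koszulCx T (fs.map (· ^ (n + N)))).d e d).hom w =
            ((koszulTrans T n (n + N) (Nat.le_add_right n N) fs).f d).hom z
  | [], _, n, e, d, d', _, _, hd, z, _ => by
    have hd0 : d ≠ 0 := by simpa using hd
    have : Subsingleton ((koszulCx T (([] : List A).map (· ^ n))).X d) :=
      ModuleCat.subsingleton_of_isZero
        (HomologicalComplex.isZero_single_obj_X (ComplexShape.up ℤ) 0 T d hd0)
    refine ⟨0, ?_⟩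
    rw [Subsingleton.elim z 0, map_zero, map_zero]
  | g :: fs, hT, n, e, d, d', hed, hdd', hd, z, hz => by
    have hT' : ∀ g' ∈ fs, ∀ x : T, g' ^ N • x = 0 := fun g' hg' => hT g' (List.mem_cons_of_mem _ hg')
    have hg : ∀ x : T, g ^ N • x = 0 := hT g List.mem_cons_self
    -- notation
    let K' := koszulCx T (fs.map (· ^ n))
    let K'' := koszulCx T (fs.map (· ^ (n + N)))
    let t : K' ⟶ K'' := koszulTrans T n (n + N) (Nat.le_add_right n N) fs
    let φ : K' ⟶ K' := g ^ n • 𝟙 K'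
    let ψ : K'' ⟶ K'' := g ^ (n + N) • 𝟙 K''
    have hcomm : φ ≫ (g ^ (n + N - n) • t) = t ≫ ψ := by
      simp only [φ, ψ, Linear.smul_comp, Linear.comp_smul, Category.id_comp, Category.comp_id,
        smul_smul, ← pow_add, Nat.sub_add_cancel (Nat.le_add_right n N)]
    have key : ∀ (z : (mappingCone φ).X d), ((mappingCone φ).d d d').hom z = 0 →
        ∃ w : (mappingCone ψ).X e, ((mappingCone ψ).d e d).hom w =
          ((mappingCone.map φ ψ t (g ^ (n + N - n) • t) hcomm).f d).hom z := by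
      intro z hz
      have ha : (K'.d d' (d' + 1)).hom (fstL φ d d' hdd' z) = 0 := by
        have h1 := fstL_d φ d d' (d' + 1) hdd' rfl z
        rw [hz, map_zero] at h1
        exact neg_eq_zero.1 h1.symm
      have hd' : d' ≠ -(fs.length : ℤ) := by
        simp only [List.length_cons, Nat.cast_add, Nat.cast_one] at hd
        omega
      obtain ⟨c, hc⟩ := trans_coboundary T N fs hT' n d d' (d' + 1) hdd' rfl hd'
        (fstL φ d d' hdd' z) ha
      refine ⟨inlL ψ e d hed (-c), ?_⟩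
      apply cone_ext' ψ d d' hdd'
      · rw [fstL_d ψ e d d' hed hdd', fstL_inlL, fstL_map, map_neg, neg_neg]
        exact hc
      · rw [sndL_d ψ e d hed, fstL_inlL, sndL_inlL, map_zero, add_zero, sndL_map]
        have h1 : (ψ.f d).hom (-c) = 0 := by
          have : (ψ.f d).hom (-c) = g ^ (n + N) • (-c) := rfl
          rw [this]
          exact smul_X_eq_zero T (g ^ (n + N))
            (fun m => by rw [pow_add, mul_smul, hg, smul_zero]) _ d (-c)
        have h2 : ((g ^ (n + N - n) • t).f d).hom (sndL φ d z) = 0 := by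
          have : ((g ^ (n + N - n) • t).f d).hom (sndL φ d z) =
              g ^ (n + N - n) • (t.f d).hom (sndL φ d z) := rfl
          rw [this]
          exact smul_X_eq_zero T (g ^ (n + N - n))
            (fun m => by rw [Nat.add_sub_cancel_left]; exact hg m) _ d _
        rw [h1, h2]
    exact key z hz

/-- bounded torsion: the transition maps `n → n + N` vanish on cohomology outside the bottom
degree -/
theorem homologyMap_trans_eq_zero (T : ModuleCat.{u} A) (N : ℕ) (fs : List A)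
    (hT : ∀ g ∈ fs, ∀ x : T, g ^ N • x = 0) (n : ℕ) (d : ℤ) (hd : d ≠ -(fs.length : ℤ)) :
    HomologicalComplex.homologyMap (koszulTrans T n (n + N) (Nat.le_add_right n N) fs) d = 0 := by
  apply homologyMap_eq_zero _ (d - 1) d (d + 1)
  intro z hz
  exact trans_coboundary T N fs hT n (d - 1) d (d + 1) (by omega) rfl hd z hz

section Tors

variable (T : ModuleCat.{u} A) (fs : List A)

/-- elements killed by the `N`-th powers of the members of `fs` -/
def torsN (N : ℕ) : Submodule A T where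
  carrier := {x | ∀ g ∈ fs, g ^ N • x = 0}
  add_mem' {x y} hx hy g hg := by rw [smul_add, hx g hg, hy g hg, add_zero]
  zero_mem' g _ := smul_zero _
  smul_mem' c x hx g hg := by rw [smul_comm, hx g hg, smul_zero]

lemma torsN_mono {N N' : ℕ} (h : N ≤ N') : torsN T fs N ≤ torsN T fs N' := by
  intro x hx g hg
  obtain ⟨k, rfl⟩ := Nat.exists_eq_add_of_le h
  rw [pow_add, mul_comm, mul_smul, hx g hg, smul_zero]

/-- the inclusion of `torsN` -/
noncomputable def inclN (N : ℕ) : ModuleCat.of A (torsN T fs N) ⟶ T :=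
  ModuleCat.ofHom (torsN T fs N).subtype

lemma exists_mem_torsN_aux (x : T) : ∀ l : List A, (∀ g ∈ l, ∃ k : ℕ, g ^ k • x = 0) →
    ∃ N : ℕ, ∀ g ∈ l, g ^ N • x = 0
  | [], _ => ⟨0, fun g hg => by simp at hg⟩
  | a :: l, h => by
    obtain ⟨N, hN⟩ := exists_mem_torsN_aux x l (fun g hg => h g (List.mem_cons_of_mem _ hg))
    obtain ⟨k, hk⟩ := h a List.mem_cons_self
    refine ⟨max N k, fun g hg => ?_⟩
    rcases List.mem_cons.1 hg with rfl | hg'
    · obtain ⟨j, hj⟩ := Nat.exists_eq_add_of_le (le_max_right N k)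
      rw [hj, pow_add, mul_comm, mul_smul, hk, smul_zero]
    · obtain ⟨j, hj⟩ := Nat.exists_eq_add_of_le (le_max_left N k)
      rw [hj, pow_add, mul_comm, mul_smul, hN g hg', smul_zero]

variable {T fs}

lemma exists_mem_torsN (hT : ∀ g ∈ fs, ∀ x : T, ∃ k : ℕ, g ^ k • x = 0) (x : T) :
    ∃ N, x ∈ torsN T fs N :=
  exists_mem_torsN_aux T x fs (fun g hg => hT g hg x)

variable (T fs)

lemma range_mono (gs : List A) (d : ℤ) {N N' : ℕ} (h : N ≤ N') :
    LinearMap.range ((koszulMap (inclN T fs N) gs).f d).hom ≤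
      LinearMap.range ((koszulMap (inclN T fs N') gs).f d).hom := by
  let j : ModuleCat.of A (torsN T fs N) ⟶ ModuleCat.of A (torsN T fs N') :=
    ModuleCat.ofHom (Submodule.inclusion (torsN_mono T fs h))
  have hj : inclN T fs N = j ≫ inclN T fs N' := rfl
  rintro _ ⟨y, rfl⟩
  refine ⟨((koszulMap j gs).f d).hom y, ?_⟩
  rw [hj, koszulMap_comp]
  rfl

variable {T fs}

lemma exists_mem_range (hT : ∀ g ∈ fs, ∀ x : T, ∃ k : ℕ, g ^ k • x = 0) :
    ∀ (gs : List A) (d : ℤ) (z : (koszulCx T gs).X d),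
      ∃ N, z ∈ LinearMap.range ((koszulMap (inclN T fs N) gs).f d).hom
  | [], d, z => by
    by_cases hd : d = 0
    · subst hd
      let e := HomologicalComplex.singleObjXSelf (ComplexShape.up ℤ) 0 T
      obtain ⟨N, hN⟩ := exists_mem_torsN hT (e.hom.hom z)
      refine ⟨N, ?_⟩
      let e' := HomologicalComplex.singleObjXSelf (ComplexShape.up ℤ) 0
        (ModuleCat.of A (torsN T fs N))
      refine ⟨e'.inv.hom ⟨e.hom.hom z, hN⟩, ?_⟩
      show (((HomologicalComplex.single (ModuleCat.{u} A) (ComplexShape.up ℤ) 0).map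
        (inclN T fs N)).f 0).hom _ = z
      rw [HomologicalComplex.single_map_f_self]
      have h1 : e'.hom.hom (e'.inv.hom ⟨e.hom.hom z, hN⟩) = ⟨e.hom.hom z, hN⟩ :=
        congr($(e'.inv_hom_id).hom _)
      have h2 : e.inv.hom (e.hom.hom z) = z := congr($(e.hom_inv_id).hom z)
      show e.inv.hom ((inclN T fs N).hom (e'.hom.hom (e'.inv.hom ⟨e.hom.hom z, hN⟩))) = z
      rw [h1]
      exact h2
    · have : Subsingleton ((koszulCx T ([] : List A)).X d) :=
        ModuleCat.subsingleton_of_isZero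
          (HomologicalComplex.isZero_single_obj_X (ComplexShape.up ℤ) 0 T d hd)
      exact ⟨0, 0, Subsingleton.elim _ _⟩
  | g :: gs, d, z => by
    let φ : koszulCx T gs ⟶ koszulCx T gs := g • 𝟙 _
    have hz := decomp φ d (d + 1) rfl z
    obtain ⟨N₁, a', ha'⟩ := exists_mem_range hT gs (d + 1) (fstL φ d (d + 1) rfl z)
    obtain ⟨N₂, b', hb'⟩ := exists_mem_range hT gs d (sndL φ d z)
    obtain ⟨a, ha⟩ := range_mono T fs gs (d + 1) (le_max_left N₁ N₂) ⟨a', ha'⟩
    obtain ⟨b, hb⟩ := range_mono T fs gs d (le_max_right N₁ N₂) ⟨b', hb'⟩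
    refine ⟨max N₁ N₂, ?_⟩
    let ι := inclN T fs (max N₁ N₂)
    let φ' : koszulCx (ModuleCat.of A (torsN T fs (max N₁ N₂))) gs ⟶ _ := g • 𝟙 _
    refine ⟨inlL φ' d (d + 1) rfl a + inrL φ' d b, ?_⟩
    show ((mappingCone.map φ' φ (koszulMap ι gs) (koszulMap ι gs) _).f d).hom _ = z
    apply cone_ext' φ d (d + 1) rfl
    · rw [fstL_map, map_add, fstL_inlL, fstL_inrL, add_zero]
      exact ha
    · rw [sndL_map, map_add, sndL_inlL, sndL_inrL, zero_add]
      exact hb

end Tors

/-- **Torsion vanishing.**  If every element of `T` is killed by a power of each member of `fs`,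
the limit Koszul cohomology of `T` vanishes outside the bottom degree. -/
theorem subsingleton_L_of_torsion (fs : List A) (T : ModuleCat.{u} A)
    (hT : ∀ g ∈ fs, ∀ x : T, ∃ k : ℕ, g ^ k • x = 0) (d : ℤ) (hd : d ≠ -(fs.length : ℤ)) :
    Subsingleton (L fs T d) := by
  apply subsingleton_of_forall_exists
  intro n ξ
  obtain ⟨z, rfl⟩ := exists_cycle (koszulCx T (fs.map (· ^ n))) d ξ
  obtain ⟨N, z', hz'⟩ := exists_mem_range (fs := fs) hT (fs.map (· ^ n)) d
    (((koszulCx T (fs.map (· ^ n))).iCycles d).hom z)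
  let TN := ModuleCat.of A (torsN T fs N)
  have hinj : Function.Injective ((koszulMap (inclN T fs N) (fs.map (· ^ n))).f (d + 1)).hom :=
    koszulMap_f_injective _ (Subtype.val_injective) _ _
  have hdz' : ((koszulCx TN (fs.map (· ^ n))).d d (d + 1)).hom z' = 0 := by
    apply hinj
    rw [map_zero]
    have h1 := congr($((koszulMap (inclN T fs N) (fs.map (· ^ n))).comm d (d + 1)).hom z')
    simp only [ModuleCat.hom_comp, LinearMap.comp_apply] at h1
    rw [← h1, hz', d_iCycles]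
  obtain ⟨ξ', hξ'⟩ := exists_homologyMap_eq_homologyπ (koszulMap (inclN T fs N) (fs.map (· ^ n)))
    d (d + 1) (by simp) z z' hdz' hz'
  refine ⟨n + N, Nat.le_add_right n N, ?_⟩
  have h2 := LinearMap.congr_fun (hmap_tr fs (inclN T fs N) d n (n + N) (Nat.le_add_right n N)) ξ'
  simp only [LinearMap.comp_apply] at h2
  have h3 : tr fs TN d n (n + N) (Nat.le_add_right n N) ξ' = 0 := by
    unfold tr
    rw [homologyMap_trans_eq_zero TN N fs (fun g hg x => Subtype.ext (x.2 g hg)) n d hd]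
    rfl
  show tr fs T d n (n + N) _ _ = 0
  rw [← hξ']
  show tr fs T d n (n + N) _ (hmap fs (inclN T fs N) d n ξ') = 0
  rw [← h2, h3, map_zero]

end Groth.Agent.Lib.Seat13.CKKz4
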