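import Groth.Agent.Lib.Seat13CKKz4

/-!
# The bottom limit Koszul cohomology is the torsion submodule (helper13)
-/

set_option autoImplicit false
set_option backward.defeqAttrib.useBackward true
set_option backward.isDefEq.respectTransparency false

namespace Groth.Agent.Lib.Seat13.CKKz5

open CategoryTheory CategoryTheory.Limits CochainComplex HomComplex CohIII
open Groth.Agent.Lib.Helper21 Groth.Agent.Lib.Seat13.CKKz1 Groth.Agent.Lib.Seat13.CKKz2
  Groth.Agent.Lib.Seat13.CKDirLim Groth.Agent.Lib.Seat13.KzH1 Groth.Agent.Lib.Seat13.KzZero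
  Groth.Agent.Lib.Seat13.CKElt Groth.Agent.Lib.Seat13.CKKz4

universe u

variable {A : Type u} [CommRing A] (M : ModuleCat.{u} A)

/-- the elements killed by a power of every member of `fs` -/
def gammaF (fs : List A) : Submodule A M where
  carrier := {x | ∃ N, x ∈ torsN M fs N}
  add_mem' := by
    rintro x y ⟨N₁, h₁⟩ ⟨N₂, h₂⟩
    exact ⟨max N₁ N₂, (torsN M fs _).add_mem (torsN_mono M fs (le_max_left _ _) h₁)
      (torsN_mono M fs (le_max_right _ _) h₂)⟩
  zero_mem' := ⟨0, (torsN M fs 0).zero_mem⟩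
  smul_mem' := by
    rintro c x ⟨N, h⟩
    exact ⟨N, (torsN M fs N).smul_mem c h⟩

lemma mem_gammaF_iff (fs : List A) (x : M) :
    x ∈ gammaF M fs ↔ ∀ g ∈ fs, ∃ k : ℕ, g ^ k • x = 0 := by
  constructor
  · rintro ⟨N, h⟩ g hg
    exact ⟨N, h g hg⟩
  · intro h
    obtain ⟨N, hN⟩ := exists_mem_torsN_aux M x fs h
    exact ⟨N, hN⟩

/-- the projection of the bottom term of the Koszul complex to `M` -/
noncomputable def botProj : ∀ (gs : List A) (d : ℤ), d = -(gs.length : ℤ) →
    ((koszulCx M gs).X d →ₗ[A] M)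
  | [], d, hd => (HomologicalComplex.singleObjXIsoOfEq (ComplexShape.up ℤ) 0 M d
      (by simpa using hd)).hom.hom
  | g :: gs, d, hd => botProj gs (d + 1) (by
      simp only [List.length_cons, Nat.cast_add, Nat.cast_one] at hd; omega) ∘ₗ
        fstL (g • 𝟙 (koszulCx M gs)) d (d + 1) rfl

lemma botProj_injective : ∀ (gs : List A) (d : ℤ) (hd : d = -(gs.length : ℤ)),
    Function.Injective (botProj M gs d hd)
  | [], d, hd => by
    unfold botProj
    exact (ModuleCat.mono_iff_injective _).1 inferInstance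
  | g :: gs, d, hd => by
    have hd' : d + 1 = -(gs.length : ℤ) := by
      simp only [List.length_cons, Nat.cast_add, Nat.cast_one] at hd; omega
    have hsub : Subsingleton ((koszulCx M gs).X d) :=
      ModuleCat.subsingleton_of_isZero (isZero_koszulCx_X_neg M gs d (by omega))
    intro x y hxy
    apply cone_ext' (g • 𝟙 (koszulCx M gs)) d (d + 1) rfl
    · exact botProj_injective gs (d + 1) hd' hxy
    · exact Subsingleton.elim _ _

lemma botProj_surjective : ∀ (gs : List A) (d : ℤ) (hd : d = -(gs.length : ℤ)),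
    Function.Surjective (botProj M gs d hd)
  | [], d, hd => by
    unfold botProj
    exact (ModuleCat.epi_iff_surjective _).1 inferInstance
  | g :: gs, d, hd => by
    have hd' : d + 1 = -(gs.length : ℤ) := by
      simp only [List.length_cons, Nat.cast_add, Nat.cast_one] at hd; omega
    intro x
    obtain ⟨a, ha⟩ := botProj_surjective gs (d + 1) hd' x
    refine ⟨inlL (g • 𝟙 (koszulCx M gs)) d (d + 1) rfl a, ?_⟩
    show botProj M gs (d + 1) _ (fstL _ d (d + 1) rfl (inlL _ d (d + 1) rfl a)) = x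
    rw [fstL_inlL]
    exact ha

/-- a bottom cochain is a cocycle iff its projection is killed by `gs` -/
lemma d_eq_zero_iff : ∀ (gs : List A) (d d' : ℤ) (hd : d = -(gs.length : ℤ)) (_ : d + 1 = d')
    (z : (koszulCx M gs).X d),
    ((koszulCx M gs).d d d').hom z = 0 ↔ ∀ g ∈ gs, g • botProj M gs d hd z = 0
  | [], d, d', hd, hdd', z => by
    have hd0 : d' ≠ 0 := by simp at hd; omega
    have : Subsingleton ((koszulCx M ([] : List A)).X d') :=
      ModuleCat.subsingleton_of_isZero
        (HomologicalComplex.isZero_single_obj_X (ComplexShape.up ℤ) 0 M d' hd0)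
    constructor
    · intro _ g hg
      simp at hg
    · intro _
      exact Subsingleton.elim _ _
  | g :: gs, d, d', hd, hdd', z => by
    have hd' : d' = -(gs.length : ℤ) := by
      simp only [List.length_cons, Nat.cast_add, Nat.cast_one] at hd; omega
    subst hdd'
    let φ : koszulCx M gs ⟶ koszulCx M gs := g • 𝟙 _
    have hsub : Subsingleton ((koszulCx M gs).X d) :=
      ModuleCat.subsingleton_of_isZero (isZero_koszulCx_X_neg M gs d (by omega))
    have key : ∀ z : (mappingCone φ).X d, ((mappingCone φ).d d (d + 1)).hom z = 0 ↔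
        ∀ g' ∈ g :: gs, g' • botProj M gs (d + 1) hd' (fstL φ d (d + 1) rfl z) = 0 := by
      intro z
      have hs : sndL φ d z = 0 := Subsingleton.elim _ _
      have h1 := fstL_d φ d (d + 1) (d + 1 + 1) rfl rfl z
      have h2 := sndL_d φ d (d + 1) rfl z
      rw [hs, map_zero, add_zero] at h2
      have ih := d_eq_zero_iff gs (d + 1) (d + 1 + 1) hd' rfl (fstL φ d (d + 1) rfl z)
      have hφ : (φ.f (d + 1)).hom (fstL φ d (d + 1) rfl z) = g • fstL φ d (d + 1) rfl z := rfl
      constructor
      · intro hz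
        rw [hz, map_zero] at h1 h2
        have ha : ((koszulCx M gs).d (d + 1) (d + 1 + 1)).hom (fstL φ d (d + 1) rfl z) = 0 :=
          neg_eq_zero.1 h1.symm
        intro g' hg'
        rcases List.mem_cons.1 hg' with rfl | hg''
        · rw [← map_smul, ← hφ, ← h2, map_zero]
        · exact (ih.1 ha) g' hg''
      · intro h
        have ha : ((koszulCx M gs).d (d + 1) (d + 1 + 1)).hom (fstL φ d (d + 1) rfl z) = 0 :=
          ih.2 (fun g' hg' => h g' (List.mem_cons_of_mem _ hg'))
        have hg : g • fstL φ d (d + 1) rfl z = 0 := by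
          apply botProj_injective M gs (d + 1) hd'
          rw [map_smul, h g List.mem_cons_self, map_zero]
        apply cone_ext' φ (d + 1) (d + 1 + 1) rfl
        · rw [h1, ha, neg_zero, map_zero]
        · rw [h2, hφ, hg, map_zero]
    exact key z

lemma botProj_trans (n m : ℕ) (h : n ≤ m) : ∀ (fs : List A) (d : ℤ)
    (hn : d = -((fs.map (· ^ n)).length : ℤ)) (hm : d = -((fs.map (· ^ m)).length : ℤ))
    (z : (koszulCx M (fs.map (· ^ n))).X d),
    botProj M (fs.map (· ^ m)) d hm (((koszulTrans M n m h fs).f d).hom z) =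
      botProj M (fs.map (· ^ n)) d hn z
  | [], d, hn, hm, z => rfl
  | f :: fs, d, hn, hm, z => by
    have hn' : d + 1 = -((fs.map (· ^ n)).length : ℤ) := by
      simp only [List.map_cons, List.length_cons, Nat.cast_add, Nat.cast_one] at hn; omega
    have hm' : d + 1 = -((fs.map (· ^ m)).length : ℤ) := by
      simp only [List.map_cons, List.length_cons, Nat.cast_add, Nat.cast_one] at hm; omega
    let φn : koszulCx M (fs.map (· ^ n)) ⟶ _ := f ^ n • 𝟙 _
    let φm : koszulCx M (fs.map (· ^ m)) ⟶ _ := f ^ m • 𝟙 _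
    have key : ∀ (comm : φn ≫ (f ^ (m - n) • koszulTrans M n m h fs) =
        koszulTrans M n m h fs ≫ φm) (z : (mappingCone φn).X d),
        botProj M (fs.map (· ^ m)) (d + 1) hm' (fstL φm d (d + 1) rfl
          (((mappingCone.map φn φm (koszulTrans M n m h fs)
            (f ^ (m - n) • koszulTrans M n m h fs) comm).f d).hom z)) =
        botProj M (fs.map (· ^ n)) (d + 1) hn' (fstL φn d (d + 1) rfl z) := by
      intro comm z
      rw [fstL_map]
      exact botProj_trans n m h fs (d + 1) hn' hm' _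
    exact key _ z

/-- the map from level `n` bottom cohomology to `M` -/
noncomputable def psi (fs : List A) (d : ℤ) (hd : d = -(fs.length : ℤ)) (n : ℕ) :
    Hn fs M d n →ₗ[A] M :=
  botProj M (fs.map (· ^ n)) d (by rw [List.length_map]; exact hd) ∘ₗ
    ((koszulCx M (fs.map (· ^ n))).iCycles d).hom ∘ₗ
    ((koszulCx M (fs.map (· ^ n))).isoHomologyπ (d - 1) d (by simp)
      ((isZero_koszulCx_X_neg M _ (d - 1) (by rw [List.length_map]; omega)).eq_of_src _ _)).inv.hom

lemma psi_homologyπ (fs : List A) (d : ℤ) (hd : d = -(fs.length : ℤ)) (n : ℕ)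
    (z : (koszulCx M (fs.map (· ^ n))).cycles d) :
    psi M fs d hd n (((koszulCx M (fs.map (· ^ n))).homologyπ d).hom z) =
      botProj M (fs.map (· ^ n)) d (by rw [List.length_map]; exact hd)
        (((koszulCx M (fs.map (· ^ n))).iCycles d).hom z) := by
  unfold psi
  simp only [LinearMap.comp_apply]
  congr 2
  exact congr($((koszulCx M (fs.map (· ^ n))).isoHomologyπ_hom_inv_id (d - 1) d (by simp)
      ((isZero_koszulCx_X_neg M _ (d - 1) (by rw [List.length_map]; omega)).eq_of_src _ _)).hom z)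

lemma psi_injective (fs : List A) (d : ℤ) (hd : d = -(fs.length : ℤ)) (n : ℕ) :
    Function.Injective (psi M fs d hd n) := by
  unfold psi
  refine (botProj_injective M _ d _).comp ((iCycles_injective _ d).comp ?_)
  exact (ModuleCat.mono_iff_injective _).1 inferInstance

lemma psi_tr (fs : List A) (d : ℤ) (hd : d = -(fs.length : ℤ)) (n m : ℕ) (h : n ≤ m)
    (ξ : Hn fs M d n) : psi M fs d hd m (tr fs M d n m h ξ) = psi M fs d hd n ξ := by
  obtain ⟨z, rfl⟩ := exists_cycle _ d ξ
  unfold tr
  rw [homologyMap_homologyπ, psi_homologyπ, psi_homologyπ, iCycles_cyclesMap]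
  exact botProj_trans M n m h fs d _ _ _

lemma psi_mem (fs : List A) (d : ℤ) (hd : d = -(fs.length : ℤ)) (n : ℕ) (ξ : Hn fs M d n) :
    psi M fs d hd n ξ ∈ torsN M fs n := by
  obtain ⟨z, rfl⟩ := exists_cycle _ d ξ
  rw [psi_homologyπ]
  intro g hg
  have h1 := (d_eq_zero_iff M (fs.map (· ^ n)) d (d + 1) (by rw [List.length_map]; exact hd) rfl
    (((koszulCx M (fs.map (· ^ n))).iCycles d).hom z)).1 (d_iCycles _ d (d + 1) z)
  exact h1 (g ^ n) (List.mem_map.2 ⟨g, hg, rfl⟩)

lemma exists_psi_eq (fs : List A) (d : ℤ) (hd : d = -(fs.length : ℤ)) (n : ℕ) (x : M)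
    (hx : x ∈ torsN M fs n) : ∃ ξ : Hn fs M d n, psi M fs d hd n ξ = x := by
  have hd' : d = -((fs.map (· ^ n)).length : ℤ) := by rw [List.length_map]; exact hd
  obtain ⟨z, hz⟩ := botProj_surjective M (fs.map (· ^ n)) d hd' x
  have hdz : ((koszulCx M (fs.map (· ^ n))).d d (d + 1)).hom z = 0 := by
    rw [d_eq_zero_iff M (fs.map (· ^ n)) d (d + 1) hd' rfl z, hz]
    intro g hg
    obtain ⟨g₀, hg₀, rfl⟩ := List.mem_map.1 hg
    exact hx g₀ hg₀
  obtain ⟨y, hy⟩ := exists_cycles_of_d_eq_zero _ d (d + 1) (by simp) z hdz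
  refine ⟨((koszulCx M (fs.map (· ^ n))).homologyπ d).hom y, ?_⟩
  rw [psi_homologyπ, hy, hz]

/-- **Bottom degree.**  The limit Koszul cohomology in the bottom degree is the submodule of
elements killed by powers of all members of `fs`. -/
theorem nonempty_L_bot_equiv (fs : List A) (d : ℤ) (hd : d = -(fs.length : ℤ)) :
    Nonempty (L fs M d ≃ₗ[A] gammaF M fs) := by
  let Ψ : L fs M d →ₗ[A] M := Module.DirectLimit.lift A ℕ _ (tr fs M d) (psi M fs d hd)
    (fun n m h ξ => psi_tr M fs d hd n m h ξ)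
  have hinj : Function.Injective Ψ :=
    Module.DirectLimit.lift_injective _ _ (fun n => psi_injective M fs d hd n)
  have hrange : LinearMap.range Ψ = gammaF M fs := by
    ext x
    constructor
    · rintro ⟨ξ, rfl⟩
      obtain ⟨n, ξn, rfl⟩ := Module.DirectLimit.exists_of ξ
      exact ⟨n, by rw [Module.DirectLimit.lift_of]; exact psi_mem M fs d hd n ξn⟩
    · rintro ⟨n, hn⟩
      obtain ⟨ξ, hξ⟩ := exists_psi_eq M fs d hd n x hn
      exact ⟨Module.DirectLimit.of A ℕ _ (tr fs M d) n ξ, by
        rw [Module.DirectLimit.lift_of]; exact hξ⟩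
  exact ⟨(LinearEquiv.ofInjective Ψ hinj).trans (LinearEquiv.ofEq _ _ hrange)⟩

end Groth.Agent.Lib.Seat13.CKKz5
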