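import Groth.Agent.Lib.Seat13CKKz5
import Groth.Agent.Lib.Seat13CKKz3

/-!
# Dimension shifting for the limit Koszul cohomology (helper13)
-/

set_option autoImplicit false
set_option backward.defeqAttrib.useBackward true
set_option backward.isDefEq.respectTransparency false

namespace Groth.Agent.Lib.Seat13.CKKz6

open CategoryTheory CategoryTheory.Limits CohIII
open Groth.Agent.Lib.Seat13.CKKz2

universe u

variable {A : Type u} [CommRing A] (fs : List A)

/-- a linear equivalence from a bijective linear map, as a `Nonempty` statement -/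
lemma nonempty_equiv_of_bijective {X Y : Type*} [AddCommGroup X] [AddCommGroup Y] [Module A X]
    [Module A Y] (f : X →ₗ[A] Y) (hf : Function.Bijective f) : Nonempty (X ≃ₗ[A] Y) :=
  ⟨LinearEquiv.ofBijective f hf⟩

/-- **Dimension shifting.**  From exact sequences `0 → T → M → M' → 0` and `0 → M' → N → Q → 0`
with `L(T)` vanishing in degrees `d', d' + 1` and `L(N)` vanishing in degrees `d, d'` we get
`L^{d'}(M) ≅ L^d(Q)`. -/
theorem nonempty_L_shift {T M M' N Q : ModuleCat.{u} A}
    (a : T ⟶ M) (b : M ⟶ M') (c : M' ⟶ N) (e : N ⟶ Q)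
    (ha : Function.Injective a.hom) (hab : Function.Exact a.hom b.hom)
    (hb : Function.Surjective b.hom)
    (hc : Function.Injective c.hom) (hce : Function.Exact c.hom e.hom)
    (he : Function.Surjective e.hom)
    (d d' : ℤ) (hdd' : d + 1 = d')
    (hT1 : Subsingleton (L fs T d')) (hT2 : Subsingleton (L fs T (d' + 1)))
    (hN1 : Subsingleton (L fs N d)) (hN2 : Subsingleton (L fs N d')) :
    Nonempty (L fs M d' ≃ₗ[A] L fs Q d) := by
  -- first step
  have h1 : Function.Bijective (Lmap fs b d') := by
    constructor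
    · rw [← LinearMap.ker_eq_bot, LinearMap.ker_eq_bot']
      intro x hx
      obtain ⟨y, rfl⟩ := (L_exact fs a b ha hb hab d' x).1 hx
      rw [Subsingleton.elim y 0, map_zero]
    · obtain ⟨δ, hδ, -⟩ := exists_δ fs a b ha hb hab d' (d' + 1) rfl
      intro y
      exact (hδ y).1 (Subsingleton.elim _ _)
  obtain ⟨δ', hδ1, hδ2⟩ := exists_δ fs c e hc he hce d d' hdd'
  have h2 : Function.Bijective δ' := by
    constructor
    · rw [← LinearMap.ker_eq_bot, LinearMap.ker_eq_bot']
      intro y hy
      obtain ⟨x, rfl⟩ := (hδ1 y).1 hy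
      rw [Subsingleton.elim x 0, map_zero]
    · intro z
      exact (hδ2 z).1 (Subsingleton.elim _ _)
  exact ⟨(LinearEquiv.ofBijective _ h1).trans (LinearEquiv.ofBijective _ h2).symm⟩

end Groth.Agent.Lib.Seat13.CKKz6
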