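import Groth.Agent.Lib.Seat13CKSpec
import Groth.Agent.Lib.Helper16Restr

/-!
# Cohomology of the punctured spectrum is limit Koszul cohomology (helper13)
-/

set_option autoImplicit false
set_option backward.defeqAttrib.useBackward true
set_option backward.isDefEq.respectTransparency false

namespace Groth.Agent.Lib.Seat13.CKPunct

open CategoryTheory CategoryTheory.Limits Opposite TopologicalSpace CohIII AlgebraicGeometry
open Groth.Agent.Lib.Helper16.CechLow Groth.Agent.Lib.Seat13.CKCech1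
  Groth.Agent.Lib.Seat13.CKCech2 Groth.Agent.Lib.Seat13.CKCech3 Groth.Agent.Lib.Seat13.CKMain
  Groth.Agent.Lib.Seat13.CKKz2 Groth.Agent.Lib.Seat13.CKGeom Groth.Agent.Lib.Seat13.CKGeom2
  Groth.Agent.Lib.Seat13.CKGeom3 Groth.Agent.Lib.Seat13.CKSpec

universe u

/-- cohomology of an open computed on the ambient scheme or on the open subscheme -/
theorem nonempty_HU_equiv_HHon (X : Scheme.{u}) (F : X.Modules) (U : X.Opens) (n : ℕ) :
    Nonempty (CohTop.HU (Coh.toAb F) n U ≃+ Coh.HHon X F U n) := by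
  obtain ⟨e⟩ := Groth.Agent.Lib.Helper16.Restr.nonempty_HU_equiv (X := X.carrier) U (Coh.toAb F) n
  exact ⟨e⟩

/-- Cech cohomology of a cover by opens with vanishing higher cohomology on finite intersections -/
theorem nonempty_cechH_equiv_HU (X : Scheme.{u}) (F : X.Modules) [Coh.IsQCoh F] {ι : Type u}
    (U : ι → X.Opens)
    (haff : ∀ (p : ℕ) (a : Fin (p + 1) → ι), IsAffineOpen (iInf fun k => U (a k)))
    (W : X.Opens) (hW : iSup U = W) (q : ℕ) :
    Nonempty (↑(CohB1.cechH U F q) ≃+ CohTop.HU (Coh.toAb F) q W) := by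
  subst hW
  have h : ∀ (p : ℕ) (a : Fin (p + 1) → ι) (q : ℕ),
      Subsingleton (CohTop.HU (Groth.Agent.Lib.Helper23.AffVanish.ab' F) (q + 1)
        (iInf fun k => U (a k))) := fun p a q =>
    Groth.Agent.Lib.Helper23.AffVanish.subsingleton_HE_of_isAffineOpen (haff p a) F q
  obtain ⟨e2⟩ := Groth.Agent.S0464.result (Groth.Agent.Lib.Helper23.AffVanish.ab' F) U h q
  exact ⟨e2⟩

variable (A : Type u) [CommRing A] (fs : List A) (M : Type u) [AddCommGroup M] [Module A M]

theorem nonempty_HHon_equiv_koszulHLim (p : ℕ) (hp : 1 ≤ p) :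
    Nonempty (Coh.HHon (Spec (CommRingCat.of A)) (Fs A M)
      (LocCoh.puncturedOpen A (Ideal.span {a | a ∈ fs})) p ≃+
        koszulHLim fs (ModuleCat.of A M) (p + 1)) := by
  obtain ⟨q, rfl⟩ : ∃ q, p = q + 1 := ⟨p - 1, by omega⟩
  obtain ⟨e0⟩ := nonempty_Caug_equiv_spec A fs M (q + 2)
  obtain ⟨e1⟩ := nonempty_cechH_equiv (Spec (CommRingCat.of A)) (Fs A M)
    (fun i => φs A (fA A fs i)) (q + 1) (by omega)
  obtain ⟨e2⟩ := nonempty_cechH_equiv_HU (Spec (CommRingCat.of A)) (Fs A M) (Us A fs)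
    (fun p a => IsAffineOpen.iInf (fun k =>
      (isAffineOpen_top (Spec (CommRingCat.of A))).basicOpen (φs A (fA A fs (a k)))))
    _ (iSup_Us A fs) (q + 1)
  obtain ⟨e3⟩ := nonempty_HU_equiv_HHon (Spec (CommRingCat.of A)) (Fs A M)
    (LocCoh.puncturedOpen A (Ideal.span {a | a ∈ fs})) (q + 1)
  have e1' : ↑(CohB1.cechH (Us A fs) (Fs A M) (q + 1)) ≃+
      (Caug (Us A fs) (ab (PF (Spec (CommRingCat.of A)) (Fs A M)))).homology (q + 2) := e1
  exact ⟨e3.symm.trans (e2.symm.trans (e1'.trans e0))⟩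

end Groth.Agent.Lib.Seat13.CKPunct
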