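import Mathlib
import Groth.Prelude.Def_LocCohZ

/-!
# Cohomology with supports in degree one as a cokernel (helper13)

For an abelian sheaf `F` on a space with `H¹(X, F) = 0` and an open `U`:
`H¹_Z(X, F) ≃ F(U) / im(F(X) → F(U))`, `Z = X ∖ U`.
-/

set_option autoImplicit false

namespace Groth.Agent.Lib.Seat13.CKSupp

open CategoryTheory CategoryTheory.Limits Opposite TopologicalSpace LocCohZ

universe u

variable {X : TopCat.{u}} (F : CohTop.Ab X)

/-- `H⁰(V, F) = F(V)` -/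
noncomputable def h0Equiv (V : Opens X) :
    Abelian.Ext.{u} (CohCx.freeSheaf (Opens.grothendieckTopology X) V) F 0 ≃+ F.obj.obj (op V) :=
  Abelian.Ext.addEquiv₀.trans (CohFree.homEquivSect (Opens.grothendieckTopology X) V F)

lemma h0Equiv_precomp {W V : Opens X} (h : W ≤ V)
    (y : Abelian.Ext.{u} (CohCx.freeSheaf (Opens.grothendieckTopology X) V) F 0) :
    h0Equiv F W ((Abelian.Ext.mk₀ (CohCx.freeSheafMap (Opens.grothendieckTopology X)
      (homOfLE h))).comp y (zero_add 0)) = (F.obj.map (homOfLE h).op).hom (h0Equiv F V y) := by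
  obtain ⟨m, rfl⟩ := Abelian.Ext.addEquiv₀.symm.surjective y
  show CohFree.evalGen _ W F (Abelian.Ext.addEquiv₀ _) =
    (F.obj.map (homOfLE h).op).hom (CohFree.evalGen _ V F (Abelian.Ext.addEquiv₀ _))
  rw [AddEquiv.apply_symm_apply]
  have : (Abelian.Ext.mk₀ (CohCx.freeSheafMap (Opens.grothendieckTopology X) (homOfLE h))).comp
      (Abelian.Ext.addEquiv₀.symm m) (zero_add 0) =
      Abelian.Ext.addEquiv₀.symm (CohCx.freeSheafMap (Opens.grothendieckTopology X) (homOfLE h) ≫ m) :=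
    Abelian.Ext.mk₀_comp_mk₀ _ _
  rw [this, AddEquiv.apply_symm_apply, CohFree.evalGen_freeSheafMap_comp]

/-- `H¹_Z(X, F)` is the cokernel of the restriction `F(X) → F(U)` when `H¹(X, F) = 0` -/
theorem nonempty_HZc_one_equiv (U : Opens X)
    (hvan : Subsingleton (CohTop.HU F 1 (⊤ : Opens X))) :
    Nonempty (HZc F 1 U ≃+
      (F.obj.obj (op U) ⧸ (F.obj.map (homOfLE (le_top : U ≤ ⊤)).op).hom.range)) := by
  have hS := zqSeq_shortExact (X := X) (le_top : U ≤ ⊤)
  let δ : Abelian.Ext.{u} (CohCx.freeSheaf (Opens.grothendieckTopology X) U) F 0 →+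
      Abelian.Ext.{u} (zq (le_top : U ≤ ⊤)) F 1 := delta F 0 (le_top : U ≤ ⊤)
  let r : Abelian.Ext.{u} (CohCx.freeSheaf (Opens.grothendieckTopology X) (⊤ : Opens X)) F 0 →+
      Abelian.Ext.{u} (CohCx.freeSheaf (Opens.grothendieckTopology X) U) F 0 :=
    (Abelian.Ext.mk₀ (CohCx.freeSheafMap (Opens.grothendieckTopology X)
      (homOfLE (le_top : U ≤ ⊤)))).precomp F (zero_add 0)
  have hsurj : Function.Surjective δ := by
    intro x₃
    obtain ⟨x₁, hx₁⟩ := Abelian.Ext.contravariant_sequence_exact₃ hS F x₃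
      (Subsingleton.elim (α := CohTop.HU F 1 (⊤ : Opens X)) _ _) (add_comm 1 0)
    exact ⟨x₁, hx₁⟩
  have hker : δ.ker = r.range := by
    ext x₁
    constructor
    · intro hx₁
      obtain ⟨x₂, hx₂⟩ := Abelian.Ext.contravariant_sequence_exact₁ hS F x₁ (add_comm 1 0) hx₁
      exact ⟨x₂, hx₂⟩
    · rintro ⟨x₂, rfl⟩
      exact hS.extClass_comp_assoc (h := by omega) x₂
  let e1 : (Abelian.Ext.{u} (CohCx.freeSheaf (Opens.grothendieckTopology X) U) F 0 ⧸ δ.ker) ≃+
      HZc F 1 U := QuotientAddGroup.quotientKerEquivOfSurjective δ hsurj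
  have he : (δ.ker).map (h0Equiv F U).toAddMonoidHom =
      (F.obj.map (homOfLE (le_top : U ≤ ⊤)).op).hom.range := by
    rw [hker]
    ext s
    constructor
    · rintro ⟨_, ⟨y, rfl⟩, rfl⟩
      exact ⟨h0Equiv F ⊤ y, (h0Equiv_precomp F le_top y).symm⟩
    · rintro ⟨t, rfl⟩
      refine ⟨r ((h0Equiv F ⊤).symm t), ⟨_, rfl⟩, ?_⟩
      have := h0Equiv_precomp F (le_top : U ≤ ⊤) ((h0Equiv F ⊤).symm t)
      rw [AddEquiv.apply_symm_apply] at this
      exact this
  exact ⟨e1.symm.trans (QuotientAddGroup.congr _ _ (h0Equiv F U) he)⟩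

end Groth.Agent.Lib.Seat13.CKSupp
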