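import Groth.Agent.Lib.Seat13CKGeom3
import Groth.Agent.Lib.Seat13CKSupp
import Groth.Agent.S6031
import Groth.Agent.S0464
import Groth.Agent.Lib.Helper23AffOpen2

/-!
# Limit Koszul cohomology is cohomology with supports on `Spec A` (helper13)
-/

set_option autoImplicit false
set_option backward.defeqAttrib.useBackward true
set_option backward.isDefEq.respectTransparency false

namespace Groth.Agent.Lib.Seat13.CKSpec

open CategoryTheory CategoryTheory.Limits Opposite TopologicalSpace CohIII AlgebraicGeometry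
open Groth.Agent.Lib.Helper16.CechLow Groth.Agent.Lib.Seat13.CKCech1
  Groth.Agent.Lib.Seat13.CKCech2 Groth.Agent.Lib.Seat13.CKCech3 Groth.Agent.Lib.Seat13.CKMain
  Groth.Agent.Lib.Seat13.CKKz2 Groth.Agent.Lib.Seat13.CKGeom Groth.Agent.Lib.Seat13.CKGeom2
  Groth.Agent.Lib.Seat13.CKGeom3

universe u

variable (A : Type u) [CommRing A] (fs : List A) (M : Type u) [AddCommGroup M] [Module A M]

/-- the module `M~` -/
noncomputable abbrev Fs : (Spec (CommRingCat.of A)).Modules :=
  AlgebraicGeometry.tilde (R := CommRingCat.of A) (ModuleCat.of A M)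

/-- `A → Γ(Spec A, O)` -/
noncomputable def φs : A →+* Γ(Spec (CommRingCat.of A), ⊤) :=
  (Scheme.ΓSpecIso (CommRingCat.of A)).inv.hom

/-- the family of elements -/
def fA (i : ULift.{u} (Fin fs.length)) : A := fs.get i.down

/-- global sections of `M~` are `M`, as `A`-modules -/
noncomputable def secIsoA :
    (PFA (Spec (CommRingCat.of A)) (Fs A M) (φs A)).obj (op ⊤) ≅ ModuleCat.of A M := by
  let N : ModuleCat.{u} A := (modulesSpecToSheaf.obj (Fs A M)).presheaf.obj (op ⊤)
  let i1 : ModuleCat.of A M ≅ N := tilde.isoTop (R := CommRingCat.of A) (ModuleCat.of A M)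
  let i2 : (PFA (Spec (CommRingCat.of A)) (Fs A M) (φs A)).obj (op ⊤) ≅ N :=
    { hom := ModuleCat.ofHom (X := (PFA (Spec (CommRingCat.of A)) (Fs A M) (φs A)).obj (op ⊤))
        (Y := N)
        { toFun := fun s => s
          map_add' := fun _ _ => rfl
          map_smul' := fun _ _ => rfl }
      inv := ModuleCat.ofHom (X := N)
        (Y := (PFA (Spec (CommRingCat.of A)) (Fs A M) (φs A)).obj (op ⊤))
        { toFun := fun s => s
          map_add' := fun _ _ => rfl
          map_smul' := fun _ _ => rfl }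
      hom_inv_id := by
        ext s
        rfl
      inv_hom_id := by
        ext s
        rfl }
  exact i2 ≪≫ i1.symm

/-- the cover by the `D(f_i)` -/
noncomputable abbrev Us : ULift.{u} (Fin fs.length) → (Spec (CommRingCat.of A)).Opens :=
  coverG (Spec (CommRingCat.of A)) (fun i => φs A (fA A fs i))

lemma Us_eq (i : ULift.{u} (Fin fs.length)) :
    Us A fs i = PrimeSpectrum.basicOpen (fs.get i.down) :=
  basicOpen_eq_of_affine (R := CommRingCat.of A) (fs.get i.down)

lemma Us_le (i : ULift.{u} (Fin fs.length)) :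
    Us A fs i ≤ LocCoh.puncturedOpen A (Ideal.span {a | a ∈ fs}) := by
  rw [Us_eq]
  intro x hx hx'
  have h1 : fs.get i.down ∈ x.asIdeal :=
    hx' (Ideal.subset_span (List.get_mem fs i.down))
  exact hx h1

lemma le_iSup_Us :
    LocCoh.puncturedOpen A (Ideal.span {a | a ∈ fs}) ≤ ⨆ i, Us A fs i := by
  intro x hx
  have h1 : ¬ ({a | a ∈ fs} ⊆ (x.asIdeal : Set A)) := by
    intro h
    apply hx
    show x ∈ PrimeSpectrum.zeroLocus ((Ideal.span {a | a ∈ fs} : Ideal A) : Set A)
    rw [PrimeSpectrum.zeroLocus_span]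
    exact h
  rw [Set.not_subset] at h1
  obtain ⟨a, ha, hax⟩ := h1
  obtain ⟨n, rfl⟩ := List.get_of_mem ha
  have h2 : x ∈ Us A fs ⟨n⟩ := by
    rw [Us_eq]
    exact hax
  exact (le_iSup (Us A fs) ⟨n⟩) h2

lemma iSup_Us : ⨆ i, Us A fs i = LocCoh.puncturedOpen A (Ideal.span {a | a ∈ fs}) :=
  le_antisymm (iSup_le (Us_le A fs)) (le_iSup_Us A fs)

/-- augmented Cech cohomology is the limit Koszul cohomology of `M` -/
theorem nonempty_Caug_equiv_spec (q : ℕ) :
    Nonempty ((Caug (Us A fs) (ab (PF (Spec (CommRingCat.of A)) (Fs A M)))).homology q ≃+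
      koszulHLim fs (ModuleCat.of A M) q) :=
  nonempty_Caug_equiv_A (Spec (CommRingCat.of A)) (Fs A M) (φs A) (fA A fs) fs
    (fun i => List.get_mem _ _) (fun a ha => by
      obtain ⟨n, rfl⟩ := List.get_of_mem ha
      exact ⟨⟨n⟩, rfl⟩) (ModuleCat.of A M) (secIsoA A M) q

/-- **Limit Koszul cohomology is cohomology with supports** -/
theorem nonempty_koszulHLim_equiv_HZM (i : ℕ) :
    Nonempty (koszulHLim fs (ModuleCat.of A M) i ≃+
      LocCohZ.HZM (Spec (CommRingCat.of A)) (Fs A M) i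
        (LocCoh.puncturedOpen A (Ideal.span {a | a ∈ fs}))) := by
  obtain ⟨e0⟩ := nonempty_Caug_equiv_spec A fs M i
  rcases i with _ | _ | q
  · -- degree 0
    obtain ⟨e1⟩ := nonempty_ker_equiv_gen (Spec (CommRingCat.of A)) (Fs A M)
      (fun i => φs A (fA A fs i)) _ (Us_le A fs) (le_iSup_Us A fs)
    let e2 := LocCohZ.sect0Equiv (X := (Spec (CommRingCat.of A)).carrier) (Coh.toAb (Fs A M))
      (le_top : LocCoh.puncturedOpen A (Ideal.span {a | a ∈ fs}) ≤ ⊤)
    exact ⟨e0.symm.trans (e1.symm.trans e2.symm)⟩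
  · -- degree 1
    obtain ⟨e1⟩ := nonempty_coker_equiv_gen (Spec (CommRingCat.of A)) (Fs A M)
      (fun i => φs A (fA A fs i)) _ (Us_le A fs) (le_iSup_Us A fs)
    have hvan : Subsingleton (CohTop.HU (Coh.toAb (Fs A M)) 1
        (⊤ : Opens (Spec (CommRingCat.of A)).carrier)) :=
      Groth.Agent.Lib.Helper23.AffVanish.subsingleton_HE_of_isAffineOpen
        (isAffineOpen_top (Spec (CommRingCat.of A))) (Fs A M) 0
    obtain ⟨e2⟩ := CKSupp.nonempty_HZc_one_equiv (X := (Spec (CommRingCat.of A)).carrier)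
      (Coh.toAb (Fs A M)) (LocCoh.puncturedOpen A (Ideal.span {a | a ∈ fs})) hvan
    exact ⟨e0.symm.trans (e1.symm.trans e2.symm)⟩
  · -- degree q + 2
    obtain ⟨e1⟩ := nonempty_cechH_equiv (Spec (CommRingCat.of A)) (Fs A M)
      (fun i => φs A (fA A fs i)) (q + 1) (by omega)
    have h : ∀ (p : ℕ) (a : Fin (p + 1) → ULift.{u} (Fin fs.length)) (q : ℕ),
        Subsingleton (CohTop.HU (Groth.Agent.Lib.Helper23.AffVanish.ab' (Fs A M)) (q + 1)
          (iInf fun k => Us A fs (a k))) := by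
      intro p a q
      have haff' : IsAffineOpen (iInf fun k => Us A fs (a k)) :=
        IsAffineOpen.iInf (fun k =>
          (isAffineOpen_top (Spec (CommRingCat.of A))).basicOpen (φs A (fA A fs (a k))))
      exact Groth.Agent.Lib.Helper23.AffVanish.subsingleton_HE_of_isAffineOpen haff' (Fs A M) q
    obtain ⟨e2⟩ := Groth.Agent.S0464.result (Groth.Agent.Lib.Helper23.AffVanish.ab' (Fs A M))
      (Us A fs) h (q + 1)
    rw [iSup_Us] at e2
    have hbij := (Groth.Agent.S6031.result (Spec (CommRingCat.of A)) (Fs A M) inferInstance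
      (LocCoh.puncturedOpen A (Ideal.span {a | a ∈ fs}))).2 (q + 1) (by omega)
    let e3 := AddEquiv.ofBijective _ hbij
    have e1' : ↑(CohB1.cechH (Us A fs) (Fs A M) (q + 1)) ≃+
        (Caug (Us A fs) (ab (PF (Spec (CommRingCat.of A)) (Fs A M)))).homology (q + 2) := e1
    have e2' : ↑(CohB1.cechH (Us A fs) (Fs A M) (q + 1)) ≃+
        CohTop.HU (Coh.toAb (Fs A M)) (q + 1)
          (LocCoh.puncturedOpen A (Ideal.span {a | a ∈ fs})) := e2
    exact ⟨e0.symm.trans (e1'.symm.trans (e2'.trans e3))⟩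

end Groth.Agent.Lib.Seat13.CKSpec
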