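import Mathlib.CategoryTheory.Limits.FormalCoproducts.Cech
import Mathlib.AlgebraicTopology.SimplicialObject.Homotopy
import Mathlib.AlgebraicTopology.SimplicialObject.ChainHomotopy
import Mathlib.AlgebraicTopology.AlternatingFaceMapComplex
import Mathlib.Algebra.Homology.Opposite
import Mathlib.Order.Fin.Basic
import Mathlib.Tactic

/-!
# Refinement maps of Cech complexes are homotopic (helper13)
-/

set_option autoImplicit false
set_option linter.unusedSimpArgs false
set_option linter.unusedSectionVars false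

universe w v u v' u'

open CategoryTheory Limits Opposite Simplicial AlgebraicTopology

namespace Groth.Agent.Lib.Seat13.CechHtpy

section FinLemmas

theorem pa_val {n : ℕ} (p : Fin n) (i : Fin (n + 1)) :
    (Fin.predAbove p i).val = if p.val < i.val then i.val - 1 else i.val := by
  unfold Fin.predAbove
  split_ifs with h1 h2 h2
  · simp
  · exact absurd h1 h2
  · exact absurd h2 h1
  · simp

theorem sa_val {n : ℕ} (p : Fin (n + 1)) (i : Fin n) :
    (Fin.succAbove p i).val = if i.val < p.val then i.val else i.val + 1 := by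
  unfold Fin.succAbove
  split_ifs with h1 h2 h2
  · simp
  · exact absurd h1 h2
  · exact absurd h2 h1
  · simp

theorem t1 {n : ℕ} (b : Fin (n+1)) : Fin.predAbove (0 : Fin (n+1)) (Fin.succAbove (0 : Fin (n+2)) b) = b := by
  ext
  simp only [pa_val, sa_val, Fin.val_zero]
  split_ifs <;> omega

theorem c1 {n : ℕ} (b : Fin (n+1)) : decide (Fin.succAbove (0 : Fin (n+2)) b ≤ Fin.castSucc (0 : Fin (n+1))) = false := by
  simp only [decide_eq_false_iff_not, Fin.le_def, sa_val, Fin.val_castSucc, Fin.val_zero]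
  split_ifs <;> omega

theorem t2 {n : ℕ} (b : Fin (n+1)) : Fin.predAbove (Fin.last n) (Fin.succAbove (Fin.last (n+1)) b) = b := by
  ext
  simp only [pa_val, sa_val, Fin.val_last]
  split_ifs <;> omega

theorem c2 {n : ℕ} (b : Fin (n+1)) : decide (Fin.succAbove (Fin.last (n+1)) b ≤ Fin.castSucc (Fin.last n)) = true := by
  simp only [decide_eq_true_eq, Fin.le_def, sa_val, Fin.val_castSucc, Fin.val_last]
  split_ifs <;> omega

theorem t3 {n : ℕ} (i : Fin (n+2)) (j : Fin (n+1)) (hij : i ≤ j.castSucc) (a : Fin (n+2)) :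
    Fin.predAbove j.succ (Fin.succAbove i.castSucc a) = Fin.succAbove i (Fin.predAbove j a) := by
  ext
  simp only [Fin.le_def, Fin.val_castSucc] at hij
  simp only [pa_val, sa_val, Fin.val_castSucc, Fin.val_succ]
  split_ifs <;> omega

theorem c3 {n : ℕ} (i : Fin (n+2)) (j : Fin (n+1)) (hij : i ≤ j.castSucc) (a : Fin (n+2)) :
    decide (Fin.succAbove i.castSucc a ≤ Fin.castSucc j.succ) = decide (a ≤ Fin.castSucc j) := by
  simp only [Fin.le_def, Fin.val_castSucc] at hij
  simp only [decide_eq_decide, Fin.le_def, sa_val, Fin.val_castSucc, Fin.val_succ]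
  split_ifs <;> omega

theorem t4 {n : ℕ} (j : Fin (n+1)) (a : Fin (n+2)) :
    Fin.predAbove j.succ (Fin.succAbove j.castSucc.succ a) =
      Fin.predAbove j.castSucc (Fin.succAbove j.castSucc.succ a) := by
  ext
  simp only [pa_val, sa_val, Fin.val_castSucc, Fin.val_succ]
  split_ifs <;> omega

theorem c4 {n : ℕ} (j : Fin (n+1)) (a : Fin (n+2)) :
    decide (Fin.succAbove j.castSucc.succ a ≤ Fin.castSucc j.succ) =
      decide (Fin.succAbove j.castSucc.succ a ≤ Fin.castSucc j.castSucc) := by
  simp only [decide_eq_decide, Fin.le_def, sa_val, Fin.val_castSucc, Fin.val_succ]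
  split_ifs <;> omega

theorem t5 {n : ℕ} (i : Fin (n+2)) (j : Fin (n+1)) (hji : j.castSucc < i) (a : Fin (n+2)) :
    Fin.predAbove j.castSucc (Fin.succAbove i.succ a) = Fin.succAbove i (Fin.predAbove j a) := by
  ext
  simp only [Fin.lt_def, Fin.val_castSucc] at hji
  simp only [pa_val, sa_val, Fin.val_castSucc, Fin.val_succ]
  split_ifs <;> omega

theorem c5 {n : ℕ} (i : Fin (n+2)) (j : Fin (n+1)) (hji : j.castSucc < i) (a : Fin (n+2)) :
    decide (Fin.succAbove i.succ a ≤ Fin.castSucc j.castSucc) = decide (a ≤ Fin.castSucc j) := by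
  simp only [Fin.lt_def, Fin.val_castSucc] at hji
  simp only [decide_eq_decide, Fin.le_def, sa_val, Fin.val_castSucc, Fin.val_succ]
  split_ifs <;> omega

theorem t6 {n : ℕ} (i j : Fin (n+1)) (hij : i ≤ j) (a : Fin (n+3)) :
    Fin.predAbove j (Fin.predAbove i.castSucc a) = Fin.predAbove i (Fin.predAbove j.succ a) := by
  ext
  simp only [Fin.le_def] at hij
  simp only [pa_val, sa_val, Fin.val_castSucc, Fin.val_succ]
  split_ifs <;> omega

theorem c6 {n : ℕ} (i j : Fin (n+1)) (hij : i ≤ j) (a : Fin (n+3)) :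
    decide (Fin.predAbove i.castSucc a ≤ Fin.castSucc j) = decide (a ≤ Fin.castSucc j.succ) := by
  simp only [Fin.le_def] at hij
  simp only [decide_eq_decide, Fin.le_def, pa_val, Fin.val_castSucc, Fin.val_succ]
  split_ifs <;> omega

theorem t7 {n : ℕ} (i j : Fin (n+1)) (hji : j ≤ i) (a : Fin (n+3)) :
    Fin.predAbove j (Fin.predAbove i.succ a) = Fin.predAbove i (Fin.predAbove j.castSucc a) := by
  ext
  simp only [Fin.le_def] at hji
  simp only [pa_val, sa_val, Fin.val_castSucc, Fin.val_succ]
  split_ifs <;> omega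

theorem c7 {n : ℕ} (i j : Fin (n+1)) (hji : j ≤ i) (a : Fin (n+3)) :
    decide (Fin.predAbove i.succ a ≤ Fin.castSucc j) = decide (a ≤ Fin.castSucc j.castSucc) := by
  simp only [Fin.le_def] at hji
  simp only [decide_eq_decide, Fin.le_def, pa_val, Fin.val_castSucc, Fin.val_succ]
  split_ifs <;> omega


end FinLemmas

section Cech

set_option backward.defeqAttrib.useBackward true
set_option backward.isDefEq.respectTransparency false

variable {C : Type u} [Category.{v} C] [HasFiniteProducts C]
variable {U V : FormalCoproduct.{w} C} (f g : U ⟶ V)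

/-- The "mixed" map `U^α ⟶ V^β` whose `b`-th component is `f` or `g` applied to the
`θ b`-th component. -/
noncomputable def mix {α β : Type} [Finite α] [Finite β] (θ : β → α) (c : β → Bool) :
    U.power α ⟶ V.power β :=
  Fan.IsLimit.lift (V.isLimitPowerFan β) (fun b => U.powerπ (θ b) ≫ (if c b then f else g))

@[reassoc (attr := simp)]
theorem mix_π {α β : Type} [Finite α] [Finite β] (θ : β → α) (c : β → Bool) (b : β) :
    mix f g θ c ≫ V.powerπ b = U.powerπ (θ b) ≫ (if c b then f else g) :=
  Fan.IsLimit.fac (V.isLimitPowerFan β) _ b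

theorem hom_ext_power {X : FormalCoproduct.{w} C} {β : Type} [Finite β] {p q : X ⟶ V.power β}
    (h : ∀ b, p ≫ V.powerπ b = q ≫ V.powerπ b) : p = q :=
  Fan.IsLimit.hom_ext (V.isLimitPowerFan β) _ _ h

theorem mix_mapPower {α β γ : Type} [Finite α] [Finite β] [Finite γ] (θ : β → α) (c : β → Bool)
    (ρ : γ → β) : mix f g θ c ≫ V.mapPower ρ = mix f g (θ ∘ ρ) (c ∘ ρ) := by
  apply hom_ext_power
  intro b
  simp

theorem mapPower_mix {α α' β : Type} [Finite α] [Finite α'] [Finite β] (θ : β → α) (c : β → Bool)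
    (ρ : α → α') : U.mapPower ρ ≫ mix f g θ c = mix f g (ρ ∘ θ) c := by
  apply hom_ext_power
  intro b
  simp

theorem powerMap_π {α : Type} [Finite α] (b : α) :
    FormalCoproduct.powerMap f α ≫ V.powerπ b = U.powerπ b ≫ f := by
  ext i
  · rfl
  · simp

theorem powerMap_eq_mix_true {α : Type} [Finite α] :
    FormalCoproduct.powerMap f α = mix f g id (fun _ => true) := by
  apply hom_ext_power
  intro b
  simp [powerMap_π]

theorem powerMap_eq_mix_false {α : Type} [Finite α] :
    FormalCoproduct.powerMap g α = mix f g id (fun _ => false) := by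
  apply hom_ext_power
  intro b
  simp [powerMap_π]


theorem mix_congr {α β : Type} [Finite α] [Finite β] {θ θ' : β → α} {c c' : β → Bool}
    (hθ : ∀ b, θ b = θ' b) (hc : ∀ b, c b = c' b) : mix f g θ c = mix f g θ' c' := by
  obtain rfl : θ = θ' := funext hθ
  obtain rfl : c = c' := funext hc
  rfl

/-- The components of the simplicial homotopy. -/
noncomputable def hmap (n : ℕ) (i : Fin (n + 1)) : U.cech _⦋n⦌ ⟶ V.cech _⦋n + 1⦌ :=
  mix f g (α := Fin (n + 1)) (β := Fin (n + 2)) (Fin.predAbove i)
    (fun a => decide (a ≤ i.castSucc))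

theorem cech_δ (W : FormalCoproduct.{w} C) {n : ℕ} (i : Fin (n + 2)) :
    W.cech.δ i = W.mapPower (α := Fin (n + 1)) (β := Fin (n + 2)) (Fin.succAbove i) := rfl

theorem cech_σ (W : FormalCoproduct.{w} C) {n : ℕ} (i : Fin (n + 1)) :
    W.cech.σ i = W.mapPower (α := Fin (n + 2)) (β := Fin (n + 1)) (Fin.predAbove i) := rfl




theorem h1 (n : ℕ) : hmap f g n 0 ≫ V.cech.δ 0 = FormalCoproduct.powerMap g (Fin (n + 1)) := by
  rw [cech_δ, powerMap_eq_mix_false f g, hmap, mix_mapPower]
  exact mix_congr f g (fun b => t1 b) (fun b => c1 b)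

theorem h2 (n : ℕ) : hmap f g n (Fin.last n) ≫ V.cech.δ (Fin.last (n + 1)) =
    FormalCoproduct.powerMap f (Fin (n + 1)) := by
  rw [cech_δ, powerMap_eq_mix_true f g, hmap, mix_mapPower]
  exact mix_congr f g (fun b => t2 b) (fun b => c2 b)

theorem h3 {n : ℕ} (i : Fin (n + 2)) (j : Fin (n + 1)) (hij : i ≤ j.castSucc) :
    hmap f g (n + 1) j.succ ≫ V.cech.δ i.castSucc = U.cech.δ i ≫ hmap f g n j := by
  rw [cech_δ, cech_δ, hmap, hmap, mix_mapPower, mapPower_mix]
  exact mix_congr f g (fun a => t3 i j hij a) (fun a => c3 i j hij a)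

theorem h4 {n : ℕ} (j : Fin (n + 1)) :
    hmap f g (n + 1) j.succ ≫ V.cech.δ j.castSucc.succ =
      hmap f g (n + 1) j.castSucc ≫ V.cech.δ j.castSucc.succ := by
  rw [cech_δ, hmap, hmap, mix_mapPower, mix_mapPower]
  exact mix_congr f g (fun a => t4 j a) (fun a => c4 j a)

theorem h5 {n : ℕ} (i : Fin (n + 2)) (j : Fin (n + 1)) (hji : j.castSucc < i) :
    hmap f g (n + 1) j.castSucc ≫ V.cech.δ i.succ = U.cech.δ i ≫ hmap f g n j := by
  rw [cech_δ, cech_δ, hmap, hmap, mix_mapPower, mapPower_mix]
  exact mix_congr f g (fun a => t5 i j hji a) (fun a => c5 i j hji a)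

theorem h6 {n : ℕ} (i j : Fin (n + 1)) (hij : i ≤ j) :
    hmap f g n j ≫ V.cech.σ i.castSucc = U.cech.σ i ≫ hmap f g (n + 1) j.succ := by
  rw [cech_σ, cech_σ, hmap, hmap, mix_mapPower, mapPower_mix]
  exact mix_congr f g (fun a => t6 i j hij a) (fun a => c6 i j hij a)

theorem h7 {n : ℕ} (i j : Fin (n + 1)) (hji : j ≤ i) :
    hmap f g n j ≫ V.cech.σ i.succ = U.cech.σ i ≫ hmap f g (n + 1) j.castSucc := by
  rw [cech_σ, cech_σ, hmap, hmap, mix_mapPower, mapPower_mix]
  exact mix_congr f g (fun a => t7 i j hji a) (fun a => c7 i j hji a)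

/-- Any two morphisms of formal coproducts induce simplicially homotopic maps on Cech objects. -/
noncomputable def cechHomotopy :
    SimplicialObject.Homotopy (FormalCoproduct.cechFunctor.map f)
      (FormalCoproduct.cechFunctor.map g) where
  h {n} i := hmap f g n i
  h_zero_comp_δ_zero n := h1 f g n
  h_last_comp_δ_last n := h2 f g n
  h_succ_comp_δ_castSucc_of_lt i j hij := h3 f g i j hij
  h_succ_comp_δ_castSucc_succ j := h4 f g j
  h_castSucc_comp_δ_succ_of_lt i j hji := h5 f g i j hji
  h_comp_σ_castSucc_of_le i j hij := h6 f g i j hij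
  h_comp_σ_succ_of_lt i j hji := h7 f g i j hji

end Cech


set_option backward.defeqAttrib.useBackward true
set_option backward.isDefEq.respectTransparency false

section Coface

variable {V : Type u} [Category.{v} V] [Preadditive V]

/-- The alternating coface map complex of `X` is the `unop` of the alternating face map complex
of `X.op`. -/
noncomputable def cofaceIsoUnop (X : CosimplicialObject V) :
    (alternatingCofaceMapComplex V).obj X ≅
      ((alternatingFaceMapComplex Vᵒᵖ).obj X.op).unop :=
  HomologicalComplex.Hom.isoOfComponents (fun n => Iso.refl _) (by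
    intro i j hij
    obtain rfl : i + 1 = j := hij
    simp
    have hd : (AlternatingCofaceMapComplex.obj X).d i (i + 1) =
        AlternatingCofaceMapComplex.objD X i := by
      unfold AlternatingCofaceMapComplex.obj
      exact CochainComplex.of_d (α := ℕ) (fun n => X.obj ⦋n⦌) (AlternatingCofaceMapComplex.objD X) i
    rw [hd]
    rfl)


theorem cofaceMap_eq {X Y : CosimplicialObject V} (a : X ⟶ Y) :
    (alternatingCofaceMapComplex V).map a =
      (cofaceIsoUnop X).hom ≫
        (HomologicalComplex.unopFunctor V (ComplexShape.down ℕ)).map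
          ((alternatingFaceMapComplex Vᵒᵖ).map (NatTrans.op a)).op ≫ (cofaceIsoUnop Y).inv := by
  ext n
  simp [cofaceIsoUnop]
  exact (Category.comp_id _).symm


theorem homologyMap_coface_eq [CategoryWithHomology V] {X Y : CosimplicialObject V} (a b : X ⟶ Y)
    (H : SimplicialObject.Homotopy (NatTrans.op a) (NatTrans.op b)) (q : ℕ) :
    HomologicalComplex.homologyMap ((alternatingCofaceMapComplex V).map a) q =
      HomologicalComplex.homologyMap ((alternatingCofaceMapComplex V).map b) q := by
  rw [cofaceMap_eq a, cofaceMap_eq b, HomologicalComplex.homologyMap_comp,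
    HomologicalComplex.homologyMap_comp, HomologicalComplex.homologyMap_comp,
    HomologicalComplex.homologyMap_comp]
  congr 2
  exact (H.toChainHomotopy.unop).homologyMap_eq q

end Coface


end Groth.Agent.Lib.Seat13.CechHtpy
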