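import Mathlib
import Groth.Prelude.Def_CAlg

/-!
# Transport of depth along semilinear isomorphisms and localizations (helper13)
-/

set_option autoImplicit false

namespace Groth.Agent.Lib.Seat13.DepthTransport

open RingTheory.Sequence

universe u v u' v'

section Semilinear

variable {R : Type u} {R' : Type u'} [CommRing R] [CommRing R'] {M : Type v} {M' : Type v'}
  [AddCommGroup M] [AddCommGroup M'] [Module R M] [Module R' M']

lemma map_mem_smul_top (σ : R →+* R') (e : M →+ M') (he : ∀ r m, e (r • m) = σ r • e m)
    (I : Ideal R) (I' : Ideal R') (hI : ∀ r ∈ I, σ r ∈ I') (m : M)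
    (hm : m ∈ I • (⊤ : Submodule R M)) : e m ∈ I' • (⊤ : Submodule R' M') := by
  refine Submodule.smul_induction_on (p := fun m => e m ∈ I' • (⊤ : Submodule R' M')) hm ?_ ?_
  · intro r hr n _
    rw [he]
    exact Submodule.smul_mem_smul (hI r hr) Submodule.mem_top
  · intro x y hx hy
    rw [map_add]
    exact Submodule.add_mem _ hx hy

/-- the `I`-depth is invariant under semilinear isomorphisms -/
theorem idealDepth_eq_of_semilinear (σ : R ≃+* R') (e : M ≃+ M')
    (he : ∀ r m, e (r • m) = σ r • e m) (I : Ideal R) (I' : Ideal R')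
    (hI : ∀ r, r ∈ I ↔ σ r ∈ I') : LocCoh.idealDepth I M = LocCoh.idealDepth I' M' := by
  classical
  have he' : ∀ r' m', e.symm (r' • m') = σ.symm r' • e.symm m' := by
    intro r' m'
    apply e.injective
    rw [he, AddEquiv.apply_symm_apply, RingEquiv.apply_symm_apply, AddEquiv.apply_symm_apply]
  have hI' : ∀ r' ∈ I', σ.symm r' ∈ I := by
    intro r' hr'
    rw [hI, RingEquiv.apply_symm_apply]
    exact hr'
  have htop : I • (⊤ : Submodule R M) = ⊤ ↔ I' • (⊤ : Submodule R' M') = ⊤ := by
    constructor
    · intro h
      rw [eq_top_iff]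
      intro m' _
      have h1 : e.symm m' ∈ I • (⊤ : Submodule R M) := by rw [h]; exact Submodule.mem_top
      have h2 := map_mem_smul_top (σ : R →+* R') (e : M →+ M') he I I'
        (fun r hr => (hI r).1 hr) _ h1
      simpa using h2
    · intro h
      rw [eq_top_iff]
      intro m _
      have h1 : e m ∈ I' • (⊤ : Submodule R' M') := by rw [h]; exact Submodule.mem_top
      have h2 := map_mem_smul_top (σ.symm : R' →+* R) (e.symm : M' →+ M) he' I' I hI' _ h1
      simpa using h2
  unfold LocCoh.idealDepth
  by_cases h : I • (⊤ : Submodule R M) = ⊤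
  · rw [if_pos h, if_pos (htop.1 h)]
  · rw [if_neg h, if_neg (fun h' => h (htop.2 h'))]
    apply le_antisymm
    · refine iSup_le fun rs => iSup_le fun hrs => ?_
      refine le_iSup_of_le (rs.map σ) (le_iSup_of_le ⟨?_, ?_⟩ ?_)
      · exact (e.isWeaklyRegular_congr (List.forall₂_map_right_iff.mpr
          (List.forall₂_same.mpr fun r _ x => he r x))).1 hrs.1
      · intro r' hr'
        obtain ⟨r, hr, rfl⟩ := List.mem_map.1 hr'
        exact (hI r).1 (hrs.2 r hr)
      · rw [List.length_map]
    · refine iSup_le fun rs => iSup_le fun hrs => ?_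
      refine le_iSup_of_le (rs.map σ.symm) (le_iSup_of_le ⟨?_, ?_⟩ ?_)
      · exact (e.symm.isWeaklyRegular_congr (List.forall₂_map_right_iff.mpr
          (List.forall₂_same.mpr fun r _ x => he' r x))).1 hrs.1
      · intro r hr
        obtain ⟨r', hr', rfl⟩ := List.mem_map.1 hr
        exact hI' r' (hrs.2 r' hr')
      · rw [List.length_map]

/-- depth over local rings is invariant under semilinear isomorphisms -/
theorem depth_eq_of_semilinear [IsLocalRing R] [IsLocalRing R'] (σ : R ≃+* R') (e : M ≃+ M')
    (he : ∀ r m, e (r • m) = σ r • e m) : LocCoh.depth R M = LocCoh.depth R' M' := by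
  unfold LocCoh.depth
  refine idealDepth_eq_of_semilinear σ e he _ _ (fun r => ?_)
  rw [IsLocalRing.mem_maximalIdeal, IsLocalRing.mem_maximalIdeal, mem_nonunits_iff,
    mem_nonunits_iff]
  exact not_congr (isUnit_map_iff σ r).symm

end Semilinear

section Localization

variable {A : Type u} [CommRing A] (p : Ideal A) [p.IsPrime] (N : Type v) [AddCommGroup N]
  [Module A N] (R' : Type u') [CommRing R'] [IsLocalRing R'] [Algebra A R']
  [IsLocalization.AtPrime R' p] (N' : Type v') [AddCommGroup N'] [Module A N'] [Module R' N']
  [IsScalarTower A R' N']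

/-- depth of a localization, computed with any models of the localized ring and module -/
theorem depth_localization_eq (g : N →ₗ[A] N') [IsLocalizedModule p.primeCompl g] :
    LocCoh.depth (Localization.AtPrime p) (LocalizedModule p.primeCompl N) =
      LocCoh.depth R' N' := by
  let σ : Localization.AtPrime p ≃ₐ[A] R' :=
    IsLocalization.algEquiv p.primeCompl (Localization.AtPrime p) R'
  let _ : Module (Localization.AtPrime p) N' :=
    Module.compHom N' (σ : Localization.AtPrime p →+* R')
  have : IsScalarTower A (Localization.AtPrime p) N' := by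
    refine ⟨fun a l n => ?_⟩
    change σ (a • l) • n = a • (σ l • n)
    rw [map_smul, smul_assoc]
  let e : LocalizedModule p.primeCompl N ≃ₗ[A] N' := IsLocalizedModule.iso p.primeCompl g
  let e' : LocalizedModule p.primeCompl N ≃ₗ[Localization.AtPrime p] N' :=
    e.extendScalarsOfIsLocalization p.primeCompl (Localization.AtPrime p)
  refine depth_eq_of_semilinear σ.toRingEquiv e'.toAddEquiv (fun l m => ?_)
  exact e'.map_smul l m

end Localization

end Groth.Agent.Lib.Seat13.DepthTransport
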