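import Mathlib.LinearAlgebra.Matrix.SchurComplement
import Mathlib.LinearAlgebra.Determinant
import Mathlib.LinearAlgebra.FreeModule.Finite.Basic
import Mathlib.LinearAlgebra.Matrix.ToLin
import Mathlib.Algebra.BigOperators.Finprod
import Mathlib.Algebra.Group.Int.Even
import Mathlib.Order.Interval.Finset.Defs
import Mathlib.Order.Interval.Set.Basic
import Mathlib.Data.Int.Interval
import Mathlib.Order.Interval.Finset.Basic

set_option autoImplicit false
set_option linter.unusedSectionVars false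

namespace Groth.Agent.Lib.Seat13.Sylvester

section Two

variable {R : Type*} [CommRing R] {M N : Type*} [AddCommGroup M] [Module R M] [AddCommGroup N]
  [Module R N] [Module.Free R M] [Module.Finite R M] [Module.Free R N] [Module.Finite R N]

/-- Sylvester's determinant identity for linear maps between finite free modules. -/
theorem det_one_sub_comp_comm (a : M →ₗ[R] N) (b : N →ₗ[R] M) :
    LinearMap.det (LinearMap.id - b ∘ₗ a) = LinearMap.det (LinearMap.id - a ∘ₗ b) := by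
  classical
  let bM := Module.Free.chooseBasis R M
  let bN := Module.Free.chooseBasis R N
  rw [← LinearMap.det_toMatrix bM, ← LinearMap.det_toMatrix bN]
  simp only [map_sub, LinearMap.toMatrix_id, LinearMap.toMatrix_comp bM bN bM,
    LinearMap.toMatrix_comp bN bM bN]
  exact Matrix.det_one_sub_mul_comm _ _

end Two

section Three

variable {R : Type*} [CommRing R] {M₀ M₁ M₂ : Type*}
  [AddCommGroup M₀] [Module R M₀] [AddCommGroup M₁] [Module R M₁] [AddCommGroup M₂] [Module R M₂]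
  [Module.Free R M₁] [Module.Finite R M₁] [Module.Free R M₂] [Module.Finite R M₂]

/-- The key factorization for a contractible complex with an endomorphism. -/
theorem det_one_sub_eq_mul (d₀ : M₀ →ₗ[R] M₁) (d₁ : M₁ →ₗ[R] M₂) (h₁ : M₁ →ₗ[R] M₀)
    (h₂ : M₂ →ₗ[R] M₁) (W₁ : M₁ →ₗ[R] M₁) (W₂ : M₂ →ₗ[R] M₂)
    (r1 : ∀ x, d₀ (h₁ x) + h₂ (d₁ x) = x) (r2 : ∀ x, d₁ (d₀ x) = 0)
    (r3 : ∀ x, d₁ (W₁ x) = W₂ (d₁ x)) :
    LinearMap.det (LinearMap.id - W₁) =
      LinearMap.det (LinearMap.id - (d₀ ∘ₗ h₁) ∘ₗ W₁) *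
        LinearMap.det (LinearMap.id - (d₁ ∘ₗ h₂) ∘ₗ W₂) := by
  -- factorization
  have hfac : LinearMap.id - W₁ =
      (LinearMap.id - (h₂ ∘ₗ d₁) ∘ₗ W₁ ∘ₗ (h₂ ∘ₗ d₁)) ∘ₗ (LinearMap.id - (d₀ ∘ₗ h₁) ∘ₗ W₁) := by
    ext x
    simp only [LinearMap.sub_apply, LinearMap.comp_apply, LinearMap.id_apply, map_sub]
    simp only [r2, map_zero, sub_zero]
    have e1 : W₁ x = d₀ (h₁ (W₁ x)) + h₂ (d₁ (W₁ x)) := (r1 _).symm
    have e2 : h₂ (d₁ (W₁ x)) = h₂ (d₁ (W₁ (h₂ (d₁ x)))) := by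
      have : W₁ x = W₁ (d₀ (h₁ x)) + W₁ (h₂ (d₁ x)) := by rw [← map_add, r1]
      rw [this, map_add, map_add, r3 (d₀ (h₁ x)), r2, map_zero, map_zero, zero_add]
    rw [← e2]
    nth_rewrite 1 [e1]
    abel
  rw [hfac, LinearMap.det_comp, mul_comm]
  congr 1
  -- second factor
  have hp2 : ∀ z, d₁ (h₂ (d₁ (h₂ z))) = d₁ (h₂ z) := by
    intro z
    have : h₂ (d₁ (h₂ z)) = h₂ z - d₀ (h₁ (h₂ z)) := by
      rw [eq_sub_iff_add_eq, add_comm]; exact r1 (h₂ z)
    rw [this, map_sub, r2, sub_zero]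
  calc LinearMap.det (LinearMap.id - (h₂ ∘ₗ d₁) ∘ₗ W₁ ∘ₗ (h₂ ∘ₗ d₁))
      = LinearMap.det (LinearMap.id - h₂ ∘ₗ (d₁ ∘ₗ W₁ ∘ₗ (h₂ ∘ₗ d₁))) := by
        simp only [LinearMap.comp_assoc]
    _ = LinearMap.det (LinearMap.id - (d₁ ∘ₗ W₁ ∘ₗ (h₂ ∘ₗ d₁)) ∘ₗ h₂) := det_one_sub_comp_comm _ _
    _ = LinearMap.det (LinearMap.id - W₂ ∘ₗ (d₁ ∘ₗ h₂)) := by
        congr 2
        ext z
        simp only [LinearMap.comp_apply]
        rw [r3, hp2]
    _ = LinearMap.det (LinearMap.id - (d₁ ∘ₗ h₂) ∘ₗ W₂) := det_one_sub_comp_comm _ _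

end Three


section SplitExact

variable {R : Type*} [CommRing R] {N M Q : Type*}
  [AddCommGroup N] [Module R N] [AddCommGroup M] [Module R M] [AddCommGroup Q] [Module R Q]
  [Module.Free R N] [Module.Finite R N] [Module.Free R M] [Module.Finite R M]
  [Module.Free R Q] [Module.Finite R Q]

/-- Multiplicativity of `det(1 - W)` in split short exact sequences `0 → N → M → Q → 0` of finite
free modules with compatible endomorphisms. -/
theorem det_one_sub_of_split (i : N →ₗ[R] M) (r : M →ₗ[R] N) (σ : Q →ₗ[R] M) (π : M →ₗ[R] Q)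
    (WN : N →ₗ[R] N) (WM : M →ₗ[R] M) (WQ : Q →ₗ[R] Q)
    (hri : ∀ x, r (i x) = x) (hπσ : ∀ x, π (σ x) = x) (hsum : ∀ x, i (r x) + σ (π x) = x)
    (hπi : ∀ x, π (i x) = 0) (hWi : ∀ x, WM (i x) = i (WN x)) (hπW : ∀ x, π (WM x) = WQ (π x)) :
    LinearMap.det (LinearMap.id - WM) =
      LinearMap.det (LinearMap.id - WN) * LinearMap.det (LinearMap.id - WQ) := by
  have hfac : LinearMap.id - WM =
      (LinearMap.id - (σ ∘ₗ π) ∘ₗ WM ∘ₗ (σ ∘ₗ π)) ∘ₗ (LinearMap.id - (i ∘ₗ r) ∘ₗ WM) := by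
    ext x
    simp only [LinearMap.sub_apply, LinearMap.comp_apply, LinearMap.id_apply, map_sub]
    simp only [hπi, map_zero, sub_zero]
    have e1 : WM x = i (r (WM x)) + σ (π (WM x)) := (hsum _).symm
    have e2 : σ (π (WM x)) = σ (π (WM (σ (π x)))) := by
      have : WM x = WM (i (r x)) + WM (σ (π x)) := by rw [← map_add, hsum]
      rw [this, map_add, map_add, hWi, hπi, map_zero, zero_add]
    rw [← e2]
    nth_rewrite 1 [e1]
    abel
  rw [hfac, LinearMap.det_comp, mul_comm]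
  congr 1
  · calc LinearMap.det (LinearMap.id - (i ∘ₗ r) ∘ₗ WM)
        = LinearMap.det (LinearMap.id - i ∘ₗ (r ∘ₗ WM)) := by simp only [LinearMap.comp_assoc]
      _ = LinearMap.det (LinearMap.id - (r ∘ₗ WM) ∘ₗ i) := det_one_sub_comp_comm _ _
      _ = LinearMap.det (LinearMap.id - WN) := by
          congr 2
          ext z
          simp only [LinearMap.comp_apply]
          rw [hWi, hri]
  · calc LinearMap.det (LinearMap.id - (σ ∘ₗ π) ∘ₗ WM ∘ₗ (σ ∘ₗ π))
        = LinearMap.det (LinearMap.id - σ ∘ₗ (π ∘ₗ WM ∘ₗ (σ ∘ₗ π))) := by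
          simp only [LinearMap.comp_assoc]
      _ = LinearMap.det (LinearMap.id - (π ∘ₗ WM ∘ₗ (σ ∘ₗ π)) ∘ₗ σ) := det_one_sub_comp_comm _ _
      _ = LinearMap.det (LinearMap.id - WQ) := by
          congr 2
          ext z
          simp only [LinearMap.comp_apply]
          rw [hπW, hπσ, hπσ]

end SplitExact

section Finprod

theorem finprod_even_eq_odd {S : Type*} [CommMonoid S] (a : ℤ → S)
    (ha : (Function.mulSupport a).Finite) :
    ∏ᶠ i : {i : ℤ // Even i}, (a i.1 * a (i.1 + 1)) =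
      ∏ᶠ i : {i : ℤ // Odd i}, (a i.1 * a (i.1 + 1)) := by
  have hE : (Function.mulSupport fun i : {i : ℤ // Even i} => a i.1).Finite :=
    ha.preimage (Set.injOn_of_injective Subtype.val_injective)
  have hE' : (Function.mulSupport fun i : {i : ℤ // Even i} => a (i.1 + 1)).Finite :=
    ha.preimage (Set.injOn_of_injective (f := fun i : {i : ℤ // Even i} => i.1 + 1)
      (fun x y hxy => Subtype.ext (by simpa using hxy)))
  have hO : (Function.mulSupport fun i : {i : ℤ // Odd i} => a i.1).Finite :=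
    ha.preimage (Set.injOn_of_injective Subtype.val_injective)
  have hO' : (Function.mulSupport fun i : {i : ℤ // Odd i} => a (i.1 + 1)).Finite :=
    ha.preimage (Set.injOn_of_injective (f := fun i : {i : ℤ // Odd i} => i.1 + 1)
      (fun x y hxy => Subtype.ext (by simpa using hxy)))
  rw [finprod_mul_distrib hE hE', finprod_mul_distrib hO hO']
  let e : {i : ℤ // Even i} ≃ {j : ℤ // Odd j} :=
    { toFun := fun i => ⟨i.1 + 1, i.2.add_one⟩
      invFun := fun j => ⟨j.1 - 1, j.2.sub_odd odd_one⟩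
      left_inv := fun i => Subtype.ext (by simp)
      right_inv := fun j => Subtype.ext (by simp) }
  let e' : {i : ℤ // Odd i} ≃ {j : ℤ // Even j} :=
    { toFun := fun i => ⟨i.1 + 1, i.2.add_one⟩
      invFun := fun j => ⟨j.1 - 1, j.2.sub_odd odd_one⟩
      left_inv := fun i => Subtype.ext (by simp)
      right_inv := fun j => Subtype.ext (by simp) }
  have h1 : ∏ᶠ i : {i : ℤ // Even i}, a (i.1 + 1) = ∏ᶠ j : {j : ℤ // Odd j}, a j.1 :=
    finprod_comp_equiv e (f := fun j : {j : ℤ // Odd j} => a j.1)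
  have h2 : ∏ᶠ i : {i : ℤ // Odd i}, a (i.1 + 1) = ∏ᶠ j : {j : ℤ // Even j}, a j.1 :=
    finprod_comp_equiv e' (f := fun j : {j : ℤ // Even j} => a j.1)
  rw [h1, h2, mul_comm]

end Finprod

section Family

universe uM

variable {R : Type*} [CommRing R] (M : ℤ → Type uM) [∀ i, AddCommGroup (M i)]
  [∀ i, Module R (M i)] [∀ i, Module.Free R (M i)] [∀ i, Module.Finite R (M i)]
  (d h : ∀ i j, M i →ₗ[R] M j) (W : ∀ i, M i →ₗ[R] M i)

/-- The auxiliary determinants `det(1 - p_i W_i)`. -/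
noncomputable def aux (i : ℤ) : R :=
  LinearMap.det (LinearMap.id - (d (i - 1) i ∘ₗ h i (i - 1)) ∘ₗ W i)

theorem aux_succ (i : ℤ) : aux M d h W (i + 1) =
    LinearMap.det (LinearMap.id - (d i (i + 1) ∘ₗ h (i + 1) i) ∘ₗ W (i + 1)) := by
  have hi : i + 1 - 1 = i := by omega
  unfold aux
  rw [hi]

theorem aux_eq_one_of_subsingleton (i : ℤ) [Subsingleton (M i)] : aux M d h W i = 1 := by
  unfold aux
  rw [Subsingleton.elim (LinearMap.id - (d (i - 1) i ∘ₗ h i (i - 1)) ∘ₗ W i) LinearMap.id,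
    LinearMap.det_id]

variable (hd : ∀ i j k (x : M i), d j k (d i j x) = 0)
  (hW : ∀ i j (x : M i), d i j (W i x) = W j (d i j x))
  (hh : ∀ i (x : M i), d (i - 1) i (h i (i - 1) x) + h (i + 1) i (d i (i + 1) x) = x)

include hd hW hh in
theorem det_one_sub_W (i : ℤ) :
    LinearMap.det (LinearMap.id - W i) = aux M d h W i * aux M d h W (i + 1) := by
  rw [aux_succ]
  exact det_one_sub_eq_mul (d (i - 1) i) (d i (i + 1)) (h i (i - 1)) (h (i + 1) i) (W i) (W (i + 1))
    (hh i) (hd _ _ _) (hW _ _)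

include hd hW hh in
/-- For a bounded contractible complex of finite free modules with an endomorphism `W`, the
products of `det(1 - W_i)` over even and odd `i` coincide. -/
theorem finprod_det_even_eq_odd (lo hi : ℤ) (hb : ∀ i, (i < lo ∨ hi < i) → Subsingleton (M i)) :
    ∏ᶠ i : {i : ℤ // Even i}, LinearMap.det (LinearMap.id - W i.1) =
      ∏ᶠ i : {i : ℤ // Odd i}, LinearMap.det (LinearMap.id - W i.1) := by
  simp only [det_one_sub_W M d h W hd hW hh]
  apply finprod_even_eq_odd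
  apply (Set.finite_Icc lo hi).subset
  intro i hi'
  rw [Function.mem_mulSupport] at hi'
  by_contra hcon
  rw [Set.mem_Icc, not_and_or, not_le, not_le] at hcon
  have := hb i hcon
  exact hi' (aux_eq_one_of_subsingleton M d h W i)

end Family

end Groth.Agent.Lib.Seat13.Sylvester
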