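import Groth.Agent.Lib.Helper21KoszulFun
import Groth.Agent.Lib.Seat13Sylvester
import Mathlib.Algebra.Homology.DerivedCategory.KProjective
import Mathlib.Algebra.Homology.HomotopyCategory.Pretriangulated
import Mathlib.Algebra.Homology.HomotopyCategory.Triangulated
import Mathlib.Algebra.Homology.DerivedCategory.Basic
import Mathlib.LinearAlgebra.TensorProduct.Tower
import Mathlib.RingTheory.TensorProduct.Finite
import Mathlib.RingTheory.TensorProduct.Free
import Mathlib.Algebra.Polynomial.AlgebraMap

/-!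
# Determinants `det(1 - t u)` on bounded complexes of finite free modules (seat 13)

* `polyDet M w = det(1 - t w)` computed on `A[t] ⊗ M`, multiplicative in split exact sequences and
  with equal even/odd products on bounded contractible complexes;
* `exists_data`: an isomorphism in the derived category between K-projective complexes intertwining
  two endomorphisms is induced by a chain map `f`, with a homotopy `f ≫ u' ∼ u ≫ f` and a contraction
  of the cone of `f`;
* `main`: the even/odd cross-multiplied identity for `(K, u)` and `(K', u')`.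
-/

set_option autoImplicit false
set_option backward.defeqAttrib.useBackward true
set_option backward.isDefEq.respectTransparency false

universe w v u

open CategoryTheory Limits CochainComplex HomComplex DerivedCategory Pretriangulated
open Polynomial TensorProduct
open Groth.Agent.Lib.Helper21

namespace Groth.Agent.Lib.Seat13.DetCone

open Groth.Agent.Lib.Seat13.Sylvester

section PolyDet

variable {A : Type*} [CommRing A]

/-- `det(1 - t w)` computed on the base change to `A[t]`. -/
noncomputable def polyDet (M : Type*) [AddCommGroup M] [Module A M] (w : M →ₗ[A] M) : A[X] :=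
  LinearMap.det (LinearMap.id - (X : A[X]) • w.baseChange A[X])

theorem polyDet_eq_one_of_subsingleton (M : Type*) [AddCommGroup M] [Module A M]
    [Subsingleton M] (w : M →ₗ[A] M) : polyDet M w = 1 := by
  unfold polyDet
  rw [Subsingleton.elim (LinearMap.id - (X : A[X]) • w.baseChange A[X]) LinearMap.id,
    LinearMap.det_id]

variable {N M Q : Type*}
  [AddCommGroup N] [Module A N] [AddCommGroup M] [Module A M] [AddCommGroup Q] [Module A Q]
  [Module.Free A N] [Module.Finite A N] [Module.Free A M] [Module.Finite A M]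
  [Module.Free A Q] [Module.Finite A Q]

theorem polyDet_of_split (i : N →ₗ[A] M) (r : M →ₗ[A] N) (σ : Q →ₗ[A] M) (π : M →ₗ[A] Q)
    (WN : N →ₗ[A] N) (WM : M →ₗ[A] M) (WQ : Q →ₗ[A] Q)
    (hri : r ∘ₗ i = LinearMap.id) (hπσ : π ∘ₗ σ = LinearMap.id)
    (hsum : i ∘ₗ r + σ ∘ₗ π = LinearMap.id)
    (hπi : π ∘ₗ i = 0) (hWi : WM ∘ₗ i = i ∘ₗ WN) (hπW : π ∘ₗ WM = WQ ∘ₗ π) :
    polyDet M WM = polyDet N WN * polyDet Q WQ := by
  unfold polyDet
  apply det_one_sub_of_split (i.baseChange A[X]) (r.baseChange A[X]) (σ.baseChange A[X])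
    (π.baseChange A[X])
  · intro x
    rw [← LinearMap.comp_apply, ← LinearMap.baseChange_comp, hri, LinearMap.baseChange_id]
    rfl
  · intro x
    rw [← LinearMap.comp_apply, ← LinearMap.baseChange_comp, hπσ, LinearMap.baseChange_id]
    rfl
  · intro x
    rw [← LinearMap.comp_apply, ← LinearMap.comp_apply, ← LinearMap.add_apply,
      ← LinearMap.baseChange_comp, ← LinearMap.baseChange_comp, ← LinearMap.baseChange_add, hsum,
      LinearMap.baseChange_id]
    rfl
  · intro x
    rw [← LinearMap.comp_apply, ← LinearMap.baseChange_comp, hπi, LinearMap.baseChange_zero]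
    rfl
  · intro x
    rw [LinearMap.smul_apply, LinearMap.smul_apply, map_smul]
    congr 1
    rw [← LinearMap.comp_apply, ← LinearMap.baseChange_comp, hWi, LinearMap.baseChange_comp]
    rfl
  · intro x
    rw [LinearMap.smul_apply, LinearMap.smul_apply, map_smul]
    congr 1
    rw [← LinearMap.comp_apply, ← LinearMap.baseChange_comp, hπW, LinearMap.baseChange_comp]
    rfl

end PolyDet

section Family

universe uM

variable {A : Type*} [CommRing A] (M : ℤ → Type uM) [∀ i, AddCommGroup (M i)]
  [∀ i, Module A (M i)] [∀ i, Module.Free A (M i)] [∀ i, Module.Finite A (M i)]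
  (d h : ∀ i j, M i →ₗ[A] M j) (W : ∀ i, M i →ₗ[A] M i)

theorem finprod_polyDet_even_eq_odd
    (hd : ∀ i j k, d j k ∘ₗ d i j = 0)
    (hW : ∀ i j, d i j ∘ₗ W i = W j ∘ₗ d i j)
    (hh : ∀ i, d (i - 1) i ∘ₗ h i (i - 1) + h (i + 1) i ∘ₗ d i (i + 1) = LinearMap.id)
    (lo hi : ℤ) (hb : ∀ i, (i < lo ∨ hi < i) → Subsingleton (M i)) :
    ∏ᶠ i : {i : ℤ // Even i}, polyDet (M i.1) (W i.1) =
      ∏ᶠ i : {i : ℤ // Odd i}, polyDet (M i.1) (W i.1) := by
  unfold polyDet
  apply finprod_det_even_eq_odd (fun i => A[X] ⊗[A] M i)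
    (fun i j => (d i j).baseChange A[X]) (fun i j => (h i j).baseChange A[X])
    (fun i => (X : A[X]) • (W i).baseChange A[X]) _ _ _ lo hi
  · intro i hi'
    have := hb i hi'
    infer_instance
  · intro i j k x
    rw [← LinearMap.comp_apply, ← LinearMap.baseChange_comp, hd, LinearMap.baseChange_zero]
    rfl
  · intro i j x
    rw [LinearMap.smul_apply, LinearMap.smul_apply, map_smul]
    congr 1
    rw [← LinearMap.comp_apply, ← LinearMap.baseChange_comp, hW, LinearMap.baseChange_comp]
    rfl
  · intro i x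
    rw [← LinearMap.comp_apply, ← LinearMap.comp_apply, ← LinearMap.add_apply,
      ← LinearMap.baseChange_comp, ← LinearMap.baseChange_comp, ← LinearMap.baseChange_add, hh,
      LinearMap.baseChange_id]
    rfl

end Family

section Finprod

variable {S : Type*} [CommMonoid S]

theorem finprod_even_shift (y : ℤ → S) :
    ∏ᶠ i : {i : ℤ // Even i}, y (i.1 + 1) = ∏ᶠ j : {j : ℤ // Odd j}, y j.1 := by
  let e : {i : ℤ // Even i} ≃ {j : ℤ // Odd j} :=
    { toFun := fun i => ⟨i.1 + 1, i.2.add_one⟩
      invFun := fun j => ⟨j.1 - 1, j.2.sub_odd odd_one⟩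
      left_inv := fun i => Subtype.ext (by simp)
      right_inv := fun j => Subtype.ext (by simp) }
  exact finprod_comp_equiv e (f := fun j : {j : ℤ // Odd j} => y j.1)

theorem finprod_odd_shift (y : ℤ → S) :
    ∏ᶠ i : {i : ℤ // Odd i}, y (i.1 + 1) = ∏ᶠ j : {j : ℤ // Even j}, y j.1 := by
  let e' : {i : ℤ // Odd i} ≃ {j : ℤ // Even j} :=
    { toFun := fun i => ⟨i.1 + 1, i.2.add_one⟩
      invFun := fun j => ⟨j.1 - 1, j.2.sub_odd odd_one⟩
      left_inv := fun i => Subtype.ext (by simp)
      right_inv := fun j => Subtype.ext (by simp) }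
  exact finprod_comp_equiv e' (f := fun j : {j : ℤ // Even j} => y j.1)

theorem finprod_subtype_mul (p : ℤ → Prop) (x y : ℤ → S)
    (hx : (Function.mulSupport x).Finite) (hy : (Function.mulSupport y).Finite) :
    ∏ᶠ i : {i : ℤ // p i}, (x i.1 * y (i.1 + 1)) =
      (∏ᶠ i : {i : ℤ // p i}, x i.1) * ∏ᶠ i : {i : ℤ // p i}, y (i.1 + 1) := by
  apply finprod_mul_distrib
  · exact hx.preimage (Set.injOn_of_injective Subtype.val_injective)
  · exact hy.preimage (Set.injOn_of_injective (f := fun i : {i : ℤ // p i} => i.1 + 1)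
      (fun x y hxy => Subtype.ext (by simpa using hxy)))

end Finprod

section Derived

variable {C : Type u} [Category.{v} C] [Abelian C] [HasDerivedCategory.{w} C]

/-- From an isomorphism in the derived category between K-projective complexes, intertwining
endomorphisms, extract a chain map, a homotopy for the intertwining, and a contraction of the
cone. -/
theorem exists_data (K K' : CochainComplex C ℤ) [K.IsKProjective] [K'.IsKProjective]
    (u : K ⟶ K) (u' : K' ⟶ K') (φ : Q.obj K ≅ Q.obj K')
    (hφ : Q.map u ≫ φ.hom = φ.hom ≫ Q.map u') :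
    ∃ f : K ⟶ K', Nonempty (Homotopy (f ≫ u') (u ≫ f)) ∧
      Nonempty (Homotopy (𝟙 (mappingCone f)) 0) := by
  have hbij := IsKProjective.Qh_map_bijective K ((HomotopyCategory.quotient C (.up ℤ)).obj K')
  obtain ⟨g, hg⟩ := hbij.surjective
    ((quotientCompQhIso C).hom.app K ≫ φ.hom ≫ (quotientCompQhIso C).inv.app K')
  obtain ⟨f, rfl⟩ := (HomotopyCategory.quotient C (.up ℤ)).map_surjective g
  have hQf : Q.map f = φ.hom := by
    have := quotientCompQhIso_hom_naturality f
    rw [hg] at this
    simpa using this.symm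
  refine ⟨f, ?_, ?_⟩
  · refine ⟨HomotopyCategory.homotopyOfEq _ _ (hbij.injective ?_)⟩
    rw [← cancel_mono ((quotientCompQhIso C).hom.app K'), quotientCompQhIso_hom_naturality,
      quotientCompQhIso_hom_naturality, Functor.map_comp, Functor.map_comp, hQf, hφ]
  · have hqis : QuasiIso f := by
      rw [← isIso_Q_map_iff_quasiIso, hQf]
      infer_instance
    have hhe := (IsKProjective.quasiIso_iff f).mp hqis
    have hiso : IsIso ((HomotopyCategory.quotient C (.up ℤ)).map f) :=
      HomotopyCategory.quotient_inverts_homotopyEquivalences _ _ _ hhe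
    have hT := HomotopyCategory.mappingCone_triangleh_distinguished f
    have hZ := Triangle.isZero₃_of_isIso₁ _ hT hiso
    exact (HomotopyCategory.isZero_quotient_obj_iff _).mp hZ

end Derived

section ConeEndo

variable {A : Type u} [CommRing A] {K K' : CochainComplex (ModuleCat.{u} A) ℤ} {f : K ⟶ K'}
  {u : K ⟶ K} {u' : K' ⟶ K'} (H : Homotopy (f ≫ u') (u ≫ f))

theorem w_cinr (n : ℤ) (y : K'.X n) :
    ((mappingCone.mapOfHomotopy H).f n).hom (cinr f n y) = cinr f n ((u'.f n).hom y) := by
  have := mappingCone.triangleMapOfHomotopy_comm₂ H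
  have h2 := congrArg (fun φ : K' ⟶ mappingCone f => (ModuleCat.Hom.hom (φ.f n)) y) this
  simpa [cinr] using h2

theorem cfst_w_cinl (n : ℤ) (x : K.X (n + 1)) :
    cfst f n (((mappingCone.mapOfHomotopy H).f n).hom (cinl f n x)) = (u.f (n + 1)).hom x := by
  have h1 : (mappingCone.inl f).v (n + 1) n (by omega) ≫ (mappingCone.mapOfHomotopy H).f n ≫
      (mappingCone.fst f).1.v n (n + 1) rfl = u.f (n + 1) := by
    rw [mappingCone.mapOfHomotopy, mappingCone.inl_v_desc_f_assoc]
    simp
  have h2 := congrArg (fun φ => (ModuleCat.Hom.hom φ) x) h1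
  simpa [cinl, cfst] using h2

theorem cfst_w (n : ℤ) (z : (mappingCone f).X n) :
    cfst f n (((mappingCone.mapOfHomotopy H).f n).hom z) = (u.f (n + 1)).hom (cfst f n z) := by
  conv_lhs => rw [cone_decomp f n z]
  rw [map_add, map_add, w_cinr, cfst_cinr, add_zero, cfst_w_cinl]

variable (f) in
/-- The components of the cone as a product. -/
noncomputable def coneEquiv (n : ℤ) : (mappingCone f).X n ≃ₗ[A] (K.X (n + 1) × K'.X n) where
  toFun z := (cfst f n z, csnd f n z)
  map_add' x y := by simp
  map_smul' c x := by simp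
  invFun p := cinl f n p.1 + cinr f n p.2
  left_inv z := (cone_decomp f n z).symm
  right_inv p := by
    ext
    · simp [cfst_cinl, cfst_cinr]
    · simp [csnd_cinl, csnd_cinr]

theorem free_cone (n : ℤ) [Module.Free A (K.X (n + 1))] [Module.Free A (K'.X n)] :
    Module.Free A ((mappingCone f).X n) :=
  Module.Free.of_equiv (coneEquiv f n).symm

theorem finite_cone (n : ℤ) [Module.Finite A (K.X (n + 1))] [Module.Finite A (K'.X n)] :
    Module.Finite A ((mappingCone f).X n) :=
  Module.Finite.equiv (coneEquiv f n).symm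

theorem subsingleton_cone (n : ℤ) [Subsingleton (K.X (n + 1))] [Subsingleton (K'.X n)] :
    Subsingleton ((mappingCone f).X n) :=
  (coneEquiv f n).toEquiv.subsingleton

theorem polyDet_cone (n : ℤ) [Module.Free A (K.X (n + 1))] [Module.Finite A (K.X (n + 1))]
    [Module.Free A (K'.X n)] [Module.Finite A (K'.X n)] :
    polyDet ((mappingCone f).X n) ((mappingCone.mapOfHomotopy H).f n).hom =
      polyDet (K'.X n) (u'.f n).hom * polyDet (K.X (n + 1)) (u.f (n + 1)).hom := by
  have := free_cone (f := f) n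
  have := finite_cone (f := f) n
  apply polyDet_of_split (cinr f n) (csnd f n) (cinl f n) (cfst f n)
  · ext y
    simp [csnd_cinr]
  · ext y
    simp [cfst_cinl]
  · ext z
    simp only [LinearMap.add_apply, LinearMap.comp_apply, LinearMap.id_apply]
    rw [add_comm]
    exact (cone_decomp f n z).symm
  · ext y
    simp [cfst_cinr]
  · ext y
    simp [w_cinr]
  · ext z
    simp [cfst_w]

end ConeEndo

section Contractible

variable {A : Type u} [CommRing A]

theorem finprod_polyDet_of_contractible (C : CochainComplex (ModuleCat.{u} A) ℤ)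
    (hc : Homotopy (𝟙 C) 0) (w : C ⟶ C)
    [∀ i, Module.Free A (C.X i)] [∀ i, Module.Finite A (C.X i)] (lo hi : ℤ)
    (hb : ∀ i, (i < lo ∨ hi < i) → Subsingleton (C.X i)) :
    ∏ᶠ i : {i : ℤ // Even i}, polyDet (C.X i.1) (w.f i.1).hom =
      ∏ᶠ i : {i : ℤ // Odd i}, polyDet (C.X i.1) (w.f i.1).hom := by
  apply finprod_polyDet_even_eq_odd (fun i => C.X i) (fun i j => (C.d i j).hom)
    (fun i j => (hc.hom i j).hom) (fun i => (w.f i).hom) _ _ _ lo hi hb
  · intro i j k
    rw [← ModuleCat.hom_comp, C.d_comp_d]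
    rfl
  · intro i j
    rw [← ModuleCat.hom_comp, ← ModuleCat.hom_comp, w.comm]
  · intro i
    have h1 := hc.comm i
    rw [dNext_eq hc.hom (show (ComplexShape.up ℤ).Rel i (i + 1) from rfl),
      prevD_eq hc.hom (show (ComplexShape.up ℤ).Rel (i - 1) i by simp)] at h1
    simp only [HomologicalComplex.id_f, HomologicalComplex.zero_f, add_zero] at h1
    have h2 := congrArg ModuleCat.Hom.hom h1
    simp only [ModuleCat.hom_id, ModuleCat.hom_add, ModuleCat.hom_comp] at h2
    rw [add_comm]
    exact h2.symm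

end Contractible

section Main

variable {A : Type u} [CommRing A]

theorem main_of_data (K K' : CochainComplex (ModuleCat.{u} A) ℤ) (a b : ℤ)
    [K.IsStrictlyGE a] [K.IsStrictlyLE b] [K'.IsStrictlyGE a] [K'.IsStrictlyLE b]
    (hK : ∀ i : ℤ, Module.Finite A (K.X i) ∧ Module.Free A (K.X i))
    (hK' : ∀ i : ℤ, Module.Finite A (K'.X i) ∧ Module.Free A (K'.X i))
    (u : K ⟶ K) (u' : K' ⟶ K') (f : K ⟶ K') (H : Homotopy (f ≫ u') (u ≫ f))
    (hc : Homotopy (𝟙 (mappingCone f)) 0) :
    (∏ᶠ i : {i : ℤ // Even i}, polyDet (K.X i.1) (u.f i.1).hom) *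
        (∏ᶠ i : {i : ℤ // Odd i}, polyDet (K'.X i.1) (u'.f i.1).hom) =
      (∏ᶠ i : {i : ℤ // Odd i}, polyDet (K.X i.1) (u.f i.1).hom) *
        (∏ᶠ i : {i : ℤ // Even i}, polyDet (K'.X i.1) (u'.f i.1).hom) := by
  have iK1 : ∀ i, Module.Finite A (K.X i) := fun i => (hK i).1
  have iK2 : ∀ i, Module.Free A (K.X i) := fun i => (hK i).2
  have iK'1 : ∀ i, Module.Finite A (K'.X i) := fun i => (hK' i).1
  have iK'2 : ∀ i, Module.Free A (K'.X i) := fun i => (hK' i).2
  have iC1 : ∀ i, Module.Finite A ((mappingCone f).X i) := fun i => finite_cone i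
  have iC2 : ∀ i, Module.Free A ((mappingCone f).X i) := fun i => free_cone i
  have hsK : ∀ i, (i < a ∨ b < i) → Subsingleton (K.X i) := by
    intro i hi
    apply ModuleCat.subsingleton_of_isZero
    rcases hi with hi | hi
    · exact K.isZero_of_isStrictlyGE a i hi
    · exact K.isZero_of_isStrictlyLE b i hi
  have hsK' : ∀ i, (i < a ∨ b < i) → Subsingleton (K'.X i) := by
    intro i hi
    apply ModuleCat.subsingleton_of_isZero
    rcases hi with hi | hi
    · exact K'.isZero_of_isStrictlyGE a i hi
    · exact K'.isZero_of_isStrictlyLE b i hi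
  have hsC : ∀ i, (i < a - 1 ∨ b < i) → Subsingleton ((mappingCone f).X i) := by
    intro i hi
    have h1 : Subsingleton (K.X (i + 1)) := hsK (i + 1) (by omega)
    have h2 : Subsingleton (K'.X i) := hsK' i (by omega)
    exact subsingleton_cone i
  have key := finprod_polyDet_of_contractible (mappingCone f) hc (mappingCone.mapOfHomotopy H)
    (a - 1) b hsC
  simp only [polyDet_cone H] at key
  have hfinK : (Function.mulSupport fun i : ℤ => polyDet (K.X i) (u.f i).hom).Finite := by
    apply (Set.finite_Icc a b).subset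
    intro i hi
    rw [Function.mem_mulSupport] at hi
    by_contra hcon
    rw [Set.mem_Icc, not_and_or, not_le, not_le] at hcon
    have := hsK i hcon
    exact hi (polyDet_eq_one_of_subsingleton _ _)
  have hfinK' : (Function.mulSupport fun i : ℤ => polyDet (K'.X i) (u'.f i).hom).Finite := by
    apply (Set.finite_Icc a b).subset
    intro i hi
    rw [Function.mem_mulSupport] at hi
    by_contra hcon
    rw [Set.mem_Icc, not_and_or, not_le, not_le] at hcon
    have := hsK' i hcon
    exact hi (polyDet_eq_one_of_subsingleton _ _)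
  rw [finprod_subtype_mul (fun i => Even i) (fun i : ℤ => polyDet (K'.X i) (u'.f i).hom)
      (fun i : ℤ => polyDet (K.X i) (u.f i).hom) hfinK' hfinK,
    finprod_subtype_mul (fun i => Odd i) (fun i : ℤ => polyDet (K'.X i) (u'.f i).hom)
      (fun i : ℤ => polyDet (K.X i) (u.f i).hom) hfinK' hfinK,
    finprod_even_shift (fun i : ℤ => polyDet (K.X i) (u.f i).hom),
    finprod_odd_shift (fun i : ℤ => polyDet (K.X i) (u.f i).hom)] at key
  rw [mul_comm, ← key, mul_comm]

theorem main [HasDerivedCategory.{w} (ModuleCat.{u} A)] (K K' : CochainComplex (ModuleCat.{u} A) ℤ)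
    (a b : ℤ) [K.IsStrictlyGE a] [K.IsStrictlyLE b] [K'.IsStrictlyGE a] [K'.IsStrictlyLE b]
    (hK : ∀ i : ℤ, Module.Finite A (K.X i) ∧ Module.Free A (K.X i))
    (hK' : ∀ i : ℤ, Module.Finite A (K'.X i) ∧ Module.Free A (K'.X i))
    (u : K ⟶ K) (u' : K' ⟶ K') (φ : DerivedCategory.Q.obj K ≅ DerivedCategory.Q.obj K')
    (hφ : DerivedCategory.Q.map u ≫ φ.hom = φ.hom ≫ DerivedCategory.Q.map u') :
    (∏ᶠ i : {i : ℤ // Even i}, polyDet (K.X i.1) (u.f i.1).hom) *
        (∏ᶠ i : {i : ℤ // Odd i}, polyDet (K'.X i.1) (u'.f i.1).hom) =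
      (∏ᶠ i : {i : ℤ // Odd i}, polyDet (K.X i.1) (u.f i.1).hom) *
        (∏ᶠ i : {i : ℤ // Even i}, polyDet (K'.X i.1) (u'.f i.1).hom) := by
  have pK : ∀ n, Projective (K.X n) := fun n => by
    have := (hK n).2
    exact ModuleCat.projective_of_free (Module.Free.chooseBasis A (K.X n))
  have pK' : ∀ n, Projective (K'.X n) := fun n => by
    have := (hK' n).2
    exact ModuleCat.projective_of_free (Module.Free.chooseBasis A (K'.X n))
  have kK : K.IsKProjective := isKProjective_of_projective K b
  have kK' : K'.IsKProjective := isKProjective_of_projective K' b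
  obtain ⟨f, ⟨H⟩, ⟨hc⟩⟩ := exists_data K K' u u' φ hφ
  exact main_of_data K K' a b hK hK' u u' f H hc

end Main

end Groth.Agent.Lib.Seat13.DetCone
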