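import Mathlib.LinearAlgebra.ExteriorPower.Basis
import Mathlib.LinearAlgebra.Quotient.Pi
import Mathlib.RingTheory.Ideal.Quotient.Basic
import Mathlib.LinearAlgebra.StdBasis
import Mathlib.LinearAlgebra.Pi

/-!
# Exterior powers over `A` of `(A/𝔞)^r` (seat 13)

`nonempty_equiv_fin`: for `i ≥ 1`, `⋀_A^i ((A/𝔞)^r) ≃ (A/𝔞)^{C(r,i)}` as `A`-modules.
-/

set_option autoImplicit false

universe u

open exteriorPower Set

namespace Groth.Agent.Lib.Seat13.ExtQuot

variable {A : Type u} [CommRing A] (𝔞 : Ideal A) (r i : ℕ)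

/-- the standard generators of `(A/𝔞)^r` -/
noncomputable def v : Fin r → (Fin r → A ⧸ 𝔞) := fun j => Pi.single j 1

lemma span_v : Submodule.span A (Set.range (v 𝔞 r)) = ⊤ := by
  rw [eq_top_iff]
  intro n _
  have hn : n = ∑ j, (Quotient.out (n j) : A) • v 𝔞 r j := by
    funext k
    simp only [Finset.sum_apply, Pi.smul_apply, v]
    rw [Finset.sum_eq_single k]
    · simp only [Pi.single_eq_same]
      rw [Algebra.smul_def, mul_one]
      exact (Ideal.Quotient.mk_out (n k)).symm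
    · intro b _ hb
      simp [hb.symm]
    · intro h
      exact absurd (Finset.mem_univ k) h
  rw [hn]
  exact Submodule.sum_mem _ fun j _ =>
    Submodule.smul_mem _ _ (Submodule.subset_span (Set.mem_range_self j))

/-- restriction of scalars of the universal alternating map over `A/𝔞` -/
noncomputable def altA : (Fin r → A ⧸ 𝔞) [⋀^Fin i]→ₗ[A] ⋀[A ⧸ 𝔞]^i (Fin r → A ⧸ 𝔞) :=
  { (ιMulti (A ⧸ 𝔞) i (M := Fin r → A ⧸ 𝔞)).toMultilinearMap.restrictScalars A with
    map_eq_zero_of_eq' := (ιMulti (A ⧸ 𝔞) i (M := Fin r → A ⧸ 𝔞)).map_eq_zero_of_eq' }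

/-- the comparison map `⋀_A^i N → ⋀_{A/𝔞}^i N` -/
noncomputable def psi : ⋀[A]^i (Fin r → A ⧸ 𝔞) →ₗ[A] ⋀[A ⧸ 𝔞]^i (Fin r → A ⧸ 𝔞) :=
  alternatingMapLinearEquiv (altA 𝔞 r i)

lemma psi_ιMulti (m : Fin i → (Fin r → A ⧸ 𝔞)) :
    psi 𝔞 r i (ιMulti A i m) = ιMulti (A ⧸ 𝔞) i m := by
  unfold psi
  rw [alternatingMapLinearEquiv_apply_ιMulti]
  rfl

/-- `c ↦ Σ c_s • e_s` -/
noncomputable def phi : (powersetCard (Fin r) i → A) →ₗ[A] ⋀[A]^i (Fin r → A ⧸ 𝔞) :=
  Fintype.linearCombination A (ιMulti_family A i (v 𝔞 r))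

lemma phi_surjective : Function.Surjective (phi 𝔞 r i) := by
  rw [← LinearMap.range_eq_top, phi, Fintype.range_linearCombination]
  exact ιMulti_family_span_of_span A (span_v 𝔞 r)

lemma smul_eq_zero_of_mem (hi : 1 ≤ i) (a : A) (ha : a ∈ 𝔞) (x : ⋀[A]^i (Fin r → A ⧸ 𝔞)) :
    a • x = 0 := by
  have hx : x ∈ Submodule.span A (Set.range (ιMulti A i (M := Fin r → A ⧸ 𝔞))) := by
    rw [ιMulti_span]
    trivial
  induction hx using Submodule.span_induction with
  | mem y hy =>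
    obtain ⟨m, rfl⟩ := hy
    have h0 : (⟨0, by omega⟩ : Fin i) = ⟨0, by omega⟩ := rfl
    have h1 : a • ιMulti A i m = ιMulti A i (Function.update m ⟨0, by omega⟩ (a • m ⟨0, by omega⟩)) := by
      rw [AlternatingMap.map_update_smul, Function.update_eq_self]
    have h2 : a • m ⟨0, by omega⟩ = 0 := by
      funext k
      rw [Pi.smul_apply, Algebra.smul_def, Pi.zero_apply]
      have : algebraMap A (A ⧸ 𝔞) a = 0 := Ideal.Quotient.eq_zero_iff_mem.mpr ha
      rw [this, zero_mul]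
    rw [h1, h2]
    exact AlternatingMap.map_coord_zero _ ⟨0, by omega⟩ (Function.update_self _ _ _)
  | zero => rw [smul_zero]
  | add y z _ _ hy hz => rw [smul_add, hy, hz, add_zero]
  | smul c y _ hy => rw [smul_comm, hy, smul_zero]

lemma psi_phi (c : powersetCard (Fin r) i → A) :
    psi 𝔞 r i (phi 𝔞 r i c) =
      ∑ s, (Ideal.Quotient.mk 𝔞 (c s)) • ((Pi.basisFun (A ⧸ 𝔞) (Fin r)).exteriorPower i) s := by
  unfold phi
  rw [Fintype.linearCombination_apply, map_sum]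
  refine Finset.sum_congr rfl fun s _ => ?_
  rw [map_smul, basis_apply]
  have h1 : psi 𝔞 r i (ιMulti_family A i (v 𝔞 r) s) =
      ιMulti_family (A ⧸ 𝔞) i (v 𝔞 r) s := psi_ιMulti 𝔞 r i _
  have h2 : (⇑(Pi.basisFun (A ⧸ 𝔞) (Fin r)) : Fin r → (Fin r → A ⧸ 𝔞)) = v 𝔞 r := by
    funext j
    rw [Pi.basisFun_apply]
    rfl
  rw [h1, h2]
  rfl

theorem ker_phi (hi : 1 ≤ i) : LinearMap.ker (phi 𝔞 r i) =
    Submodule.pi Set.univ (fun _ : powersetCard (Fin r) i => (𝔞 : Submodule A A)) := by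
  ext c
  rw [LinearMap.mem_ker, Submodule.mem_pi]
  constructor
  · intro h s _
    have h1 := psi_phi 𝔞 r i c
    rw [h, map_zero] at h1
    have h2 := Fintype.linearIndependent_iff.mp
      ((Pi.basisFun (A ⧸ 𝔞) (Fin r)).exteriorPower i).linearIndependent
      (fun s => Ideal.Quotient.mk 𝔞 (c s)) h1.symm s
    exact Ideal.Quotient.eq_zero_iff_mem.mp h2
  · intro h
    unfold phi
    rw [Fintype.linearCombination_apply]
    exact Finset.sum_eq_zero fun s _ => smul_eq_zero_of_mem 𝔞 r i hi _ (h s (Set.mem_univ s)) _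

/-- For `i ≥ 1`, the `i`-th exterior power over `A` of `(A/𝔞)^r` is a finite product of copies of
`A/𝔞` indexed by the `i`-element subsets of `Fin r`. -/
theorem nonempty_equiv (hi : 1 ≤ i) :
    Nonempty (⋀[A]^i (Fin r → A ⧸ 𝔞) ≃ₗ[A] (powersetCard (Fin r) i → A ⧸ 𝔞)) := by
  classical
  exact ⟨(LinearMap.quotKerEquivOfSurjective (phi 𝔞 r i) (phi_surjective 𝔞 r i)).symm ≪≫ₗ
    Submodule.quotEquivOfEq _ _ (ker_phi 𝔞 r i hi) ≪≫ₗ
    Submodule.quotientPi (fun _ : powersetCard (Fin r) i => (𝔞 : Submodule A A))⟩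

/-- the same with `Fin (r.choose i)` as index type -/
theorem nonempty_equiv_fin (hi : 1 ≤ i) :
    Nonempty (⋀[A]^i (Fin r → A ⧸ 𝔞) ≃ₗ[A] (Fin (r.choose i) → A ⧸ 𝔞)) := by
  obtain ⟨e⟩ := nonempty_equiv 𝔞 r i hi
  have hc : Nat.card (powersetCard (Fin r) i) = r.choose i := by
    rw [Set.powersetCard.card, Nat.card_eq_fintype_card, Fintype.card_fin]
  exact ⟨e ≪≫ₗ LinearEquiv.funCongrLeft A (A ⧸ 𝔞) (Finite.equivFinOfCardEq hc).symm⟩

/-- exterior powers of linearly equivalent modules -/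
noncomputable def extPowEquiv {X X' : Type*} [AddCommGroup X] [Module A X] [AddCommGroup X']
    [Module A X'] (e : X ≃ₗ[A] X') : ⋀[A]^i X ≃ₗ[A] ⋀[A]^i X' :=
  LinearEquiv.ofLinearMap (exteriorPower.map i e.toLinearMap) (exteriorPower.map i e.symm.toLinearMap)
    (by rw [← exteriorPower.map_comp]; simp [exteriorPower.map_id])
    (by rw [← exteriorPower.map_comp]; simp [exteriorPower.map_id])

end Groth.Agent.Lib.Seat13.ExtQuot
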