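import Mathlib
import Groth.Prelude.Def_CAlg

/-!
# Depth of a flat module is at least the depth of the ring (helper13)
-/

set_option autoImplicit false

namespace Groth.Agent.Lib.Seat13.FlatDepth

universe u v

open RingTheory.Sequence TensorProduct

/-- a regular sequence on the ring stays (weakly) regular on every flat module, so the depth of a
flat module is at least the depth of the ring -/
theorem idealDepth_le_of_flat {R : Type u} [CommRing R] (I : Ideal R) (hI : I ≠ ⊤) (N : Type v)
    [AddCommGroup N] [Module R N] [Module.Flat R N] :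
    LocCoh.idealDepth I R ≤ LocCoh.idealDepth I N := by
  classical
  unfold LocCoh.idealDepth
  have h1 : ¬ (I • (⊤ : Submodule R R) = ⊤) := by
    rw [smul_eq_mul, Ideal.mul_top]; exact hI
  rw [if_neg h1]
  split_ifs with h2
  · exact le_top
  · refine iSup₂_le fun rs hrs => ?_
    have h3 : IsWeaklyRegular (N ⊗[R] R) rs := hrs.1.isWeaklyRegular_lTensor (M₂ := N)
    have h4 : IsWeaklyRegular N rs := ((TensorProduct.rid R N).isWeaklyRegular_congr rs).1 h3
    exact le_iSup₂ (f := fun (rs : List R) (_ : IsWeaklyRegular N rs ∧ ∀ r ∈ rs, r ∈ I) =>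
      (rs.length : ℕ∞)) rs ⟨h4, hrs.2⟩

theorem depth_le_of_flat (R : Type u) [CommRing R] [IsLocalRing R] (N : Type v)
    [AddCommGroup N] [Module R N] [Module.Flat R N] :
    LocCoh.depth R R ≤ LocCoh.depth R N :=
  idealDepth_le_of_flat _ (IsLocalRing.maximalIdeal.isMaximal R).ne_top N

end Groth.Agent.Lib.Seat13.FlatDepth
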