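import Mathlib.NumberTheory.GaussSum
import Mathlib.FieldTheory.Finite.Basic
open BigOperators

namespace Groth.Agent.Lib.Seat13.GaussJacobi

theorem addChar_sum {F R ι : Type} [Field F] [CommRing R] (Ψ : AddChar F R) (s : Finset ι) (f : ι → F) :
    Ψ (∑ i ∈ s, f i) = ∏ i ∈ s, Ψ (f i) := by
  classical
  induction s using Finset.induction_on with
  | empty => simp
  | insert a s ha ih => rw [Finset.sum_insert ha, Finset.prod_insert ha, AddChar.map_add_eq_mul, ih]

theorem mulChar_prod_apply {F R ι : Type} [Field F] [CommRing R] (s : Finset ι) (η : ι → MulChar F R)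
    (a : F) (ha : a ≠ 0) :
    (∏ i ∈ s, η i) a = ∏ i ∈ s, η i a := by
  classical
  induction s using Finset.induction_on with
  | empty => simp [MulChar.one_apply (isUnit_iff_ne_zero.mpr ha)]
  | insert b s hb ih => rw [Finset.prod_insert hb, Finset.prod_insert hb, MulChar.mul_apply, ih]

variable {F : Type} [Field F] [Fintype F] [DecidableEq F] {R : Type} [CommRing R] [IsDomain R]

/-- sum over nonzero `a` of `Ψ (a * c)`. -/
theorem sum_ne_zero_mulShift (Ψ : AddChar F R) (hΨ : Ψ ≠ 1) (c : F) :
    ∑ a ∈ (Finset.univ : Finset F).filter (fun a => a ≠ 0), Ψ (a * c) =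
      (if c = 0 then (Fintype.card F : R) else 0) - 1 := by
  have h1 := AddChar.sum_mulShift (R' := R) c (AddChar.IsPrimitive.of_ne_one hΨ)
  have h2 : ∑ a : F, Ψ (a * c) =
      ∑ a ∈ (Finset.univ : Finset F).filter (fun a => a ≠ 0), Ψ (a * c) + 1 := by
    rw [← Finset.sum_filter_add_sum_filter_not Finset.univ (fun a : F => a ≠ 0)]
    congr 1
    have : (Finset.univ : Finset F).filter (fun a => ¬ a ≠ 0) = {0} := by
      ext a; simp
    rw [this]; simp
  rw [h2] at h1
  rw [eq_sub_iff_add_eq, h1]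
  split_ifs <;> simp

/-- The main computation: product of `N+1` Gauss sums of characters with trivial product. -/
theorem prod_gaussSum (N : ℕ) (η : Fin (N + 1) → MulChar F R) (hprod : ∏ i, η i = 1)
    (hnt : ∃ i, η i ≠ 1) (Ψ : AddChar F R) (hΨ : Ψ ≠ 1) :
    ∏ i : Fin (N + 1), (∑ y : F, η i y * Ψ y) =
      (Fintype.card F : R) *
        ∑ y ∈ (Finset.univ : Finset (Fin N → F)).filter (fun y => ∑ i, y i = -1),
          ∏ i : Fin N, η i.succ (y i) := by
  classical
  -- some η (i.succ) is nontrivial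
  have hnt' : ∃ i : Fin N, η i.succ ≠ 1 := by
    by_contra hcon
    push Not at hcon
    obtain ⟨i, hi⟩ := hnt
    have h0 : η 0 = 1 := by
      rw [Fin.prod_univ_succ] at hprod
      simpa [hcon] using hprod
    refine hi ?_
    induction i using Fin.cases with
    | zero => exact h0
    | succ j => exact hcon j
  have hzero : ∏ i : Fin N, ∑ y : F, η i.succ y = 0 := by
    obtain ⟨i, hi⟩ := hnt'
    exact Finset.prod_eq_zero (Finset.mem_univ i) (MulChar.sum_eq_zero_of_ne_one hi)
  rw [Fin.prod_univ_succ, Fintype.prod_sum, Finset.sum_mul_sum]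
  -- restrict to a ≠ 0
  have step1 : ∀ a : F, a ≠ 0 →
      ∑ x : Fin N → F, η 0 a * Ψ a * ∏ i, (η i.succ (x i) * Ψ (x i)) =
      ∑ y : Fin N → F, (∏ i, η i.succ (y i)) * Ψ (a * (1 + ∑ i, y i)) := by
    intro a ha
    have hbij : Function.Bijective (fun y : Fin N → F => fun i => a * y i) := by
      refine ⟨fun y y' h => ?_, fun x => ⟨fun i => a⁻¹ * x i, ?_⟩⟩
      · funext i; exact mul_left_cancel₀ ha (congrFun h i)
      · funext i; simp [ha]
    rw [← (Equiv.ofBijective _ hbij).sum_comp]
    refine Finset.sum_congr rfl fun y _ => ?_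
    simp only [Equiv.ofBijective_apply]
    have h1 : η 0 a * ∏ i : Fin N, η i.succ a = 1 := by
      have := congrArg (fun χ : MulChar F R => χ a) hprod
      rw [mulChar_prod_apply _ _ _ ha, MulChar.one_apply (isUnit_iff_ne_zero.mpr ha),
        Fin.prod_univ_succ] at this
      exact this
    simp only [map_mul, Finset.prod_mul_distrib]
    rw [mul_add, mul_one, Finset.mul_sum, AddChar.map_add_eq_mul, addChar_sum]
    calc η 0 a * Ψ a * (((∏ i : Fin N, η i.succ a) * ∏ i : Fin N, η i.succ (y i)) * ∏ i : Fin N, Ψ (a * y i))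
        = (η 0 a * ∏ i : Fin N, η i.succ a) *
            ((∏ i : Fin N, η i.succ (y i)) * (Ψ a * ∏ i : Fin N, Ψ (a * y i))) := by ring
      _ = _ := by rw [h1, one_mul]
  have step2 : ∑ a : F, ∑ x : Fin N → F, η 0 a * Ψ a * ∏ i, (η i.succ (x i) * Ψ (x i)) =
      ∑ a ∈ (Finset.univ : Finset F).filter (fun a => a ≠ 0),
        ∑ y : Fin N → F, (∏ i, η i.succ (y i)) * Ψ (a * (1 + ∑ i, y i)) := by
    rw [Finset.sum_filter]
    refine Finset.sum_congr rfl fun a _ => ?_
    split_ifs with ha
    · exact step1 a ha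
    · push Not at ha
      subst ha
      simp [MulChar.map_zero]
  rw [step2, Finset.sum_comm]
  simp_rw [← Finset.mul_sum, sum_ne_zero_mulShift Ψ hΨ]
  simp_rw [mul_sub, mul_one, Finset.sum_sub_distrib]
  rw [← Fintype.prod_sum, hzero, sub_zero, Finset.mul_sum, Finset.sum_filter]
  refine Finset.sum_congr rfl fun y _ => ?_
  have : (1 + ∑ i, y i = 0) ↔ (∑ i, y i = -1) := by
    constructor
    · intro h; linear_combination h
    · intro h; rw [h]; ring
  simp only [this]
  split_ifs <;> ring


/-- Sums over `Fin N → Fˣ` versus sums over `Fin N → F` for products of multiplicative characters. -/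
theorem sum_units_eq (N : ℕ) (η : Fin N → MulChar F R) (c : F) :
    ∑ x ∈ (Finset.univ : Finset (Fin N → Fˣ)).filter (fun x => ∑ i, ((x i : Fˣ) : F) = c),
        ∏ i : Fin N, η i ((x i : Fˣ) : F) =
      ∑ y ∈ (Finset.univ : Finset (Fin N → F)).filter (fun y => ∑ i, y i = c),
        ∏ i : Fin N, η i (y i) := by
  classical
  refine Finset.sum_bij_ne_zero (fun x _ _ => fun j => ((x j : Fˣ) : F)) ?_ ?_ ?_ ?_
  · intro x hx _
    simp only [Finset.mem_filter, Finset.mem_univ, true_and] at hx ⊢
    exact hx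
  · intro x _ _ x' _ _ h
    funext j
    exact Units.ext (congrFun h j)
  · intro y hy hne
    simp only [Finset.mem_filter, Finset.mem_univ, true_and] at hy
    have hy0 : ∀ j, y j ≠ 0 := by
      intro j hj
      refine hne (Finset.prod_eq_zero (Finset.mem_univ j) ?_)
      rw [hj, MulChar.map_zero]
    refine ⟨fun j => Units.mk0 (y j) (hy0 j), ?_, ?_, ?_⟩
    · simp only [Finset.mem_filter, Finset.mem_univ, true_and, Units.val_mk0]
      exact hy
    · simpa using hne
    · funext j; simp
  · intro x _ _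
    rfl

end Groth.Agent.Lib.Seat13.GaussJacobi
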