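import Groth.Agent.Lib.Seat13CKPunct
import Groth.Agent.Lib.Seat13CKLC

/-!
# Cohomology with supports on an affine scheme is limit Koszul cohomology / local cohomology
(helper13)
-/

set_option autoImplicit false
set_option backward.defeqAttrib.useBackward true
set_option backward.isDefEq.respectTransparency false

namespace Groth.Agent.Lib.Seat13.HZAff

open CategoryTheory CategoryTheory.Limits Opposite TopologicalSpace CohIII AlgebraicGeometry
open Groth.Agent.Lib.Helper16.CechLow Groth.Agent.Lib.Seat13.CKCech1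
  Groth.Agent.Lib.Seat13.CKCech2 Groth.Agent.Lib.Seat13.CKCech3 Groth.Agent.Lib.Seat13.CKMain
  Groth.Agent.Lib.Seat13.CKKz2 Groth.Agent.Lib.Seat13.CKGeom Groth.Agent.Lib.Seat13.CKGeom2
  Groth.Agent.Lib.Seat13.CKGeom3 Groth.Agent.Lib.Seat13.CKPunct

universe u

variable (Y : Scheme.{u}) [IsAffine Y] (F : Y.Modules) [F.IsQuasicoherent] (fs : List Γ(Y, ⊤))

/-- **Limit Koszul cohomology is cohomology with supports**, on any affine scheme. -/
theorem nonempty_koszulHLim_equiv_HZM (i : ℕ) :
    Nonempty (koszulHLim fs (Msec Y F) i ≃+ LocCohZ.HZM Y F i (unionOpen Y fs)) := by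
  rcases i with _ | _ | q
  · -- degree 0
    obtain ⟨e1⟩ := nonempty_ker_equiv Y F fs
    let e2 := LocCohZ.sect0Equiv (X := Y.carrier) (Coh.toAb F)
      (le_top : unionOpen Y fs ≤ ⊤)
    exact ⟨e1.symm.trans e2.symm⟩
  · -- degree 1
    obtain ⟨e1⟩ := nonempty_coker_equiv Y F fs
    have hvan : Subsingleton (CohTop.HU (Coh.toAb F) 1 (⊤ : Opens Y.carrier)) :=
      Groth.Agent.Lib.Helper23.AffVanish.subsingleton_HE_of_isAffineOpen
        (isAffineOpen_top Y) F 0
    obtain ⟨e2⟩ := CKSupp.nonempty_HZc_one_equiv (X := Y.carrier)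
      (Coh.toAb F) (unionOpen Y fs) hvan
    exact ⟨e1.symm.trans e2.symm⟩
  · -- degree q + 2
    obtain ⟨e0⟩ := nonempty_Caug_equiv Y F fs (q + 2)
    obtain ⟨e1⟩ := nonempty_cechH_equiv Y F
      (fun i : ULift.{u} (Fin fs.length) => fs.get i.down) (q + 1) (by omega)
    obtain ⟨e2⟩ := nonempty_cechH_equiv_HU Y F
      (coverG Y (fun i : ULift.{u} (Fin fs.length) => fs.get i.down))
      (fun p a => IsAffineOpen.iInf (fun k => (isAffineOpen_top Y).basicOpen (fs.get (a k).down)))
      (unionOpen Y fs)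
      (le_antisymm (iSup_le (cover_le Y fs)) (unionOpen_le Y fs)) (q + 1)
    have hbij := (Groth.Agent.S6031.result Y F inferInstance (unionOpen Y fs)).2 (q + 1)
      (by omega)
    let e3 := AddEquiv.ofBijective _ hbij
    have e1' : ↑(CohB1.cechH (coverG Y (fun i : ULift.{u} (Fin fs.length) => fs.get i.down)) F
        (q + 1)) ≃+ (Caug (cover Y fs) (ab (PF Y F))).homology (q + 2) := e1
    exact ⟨e0.symm.trans (e1'.symm.trans (e2.trans e3))⟩

end Groth.Agent.Lib.Seat13.HZAff
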