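import Groth.Agent.Lib.Helper16LocCohShift

/-!
# Vanishing of the local cohomology sheaves can be tested on a basis (helper13)
-/

set_option autoImplicit false
set_option linter.style.haveILetI false
set_option linter.unusedSectionVars false

universe u

open CategoryTheory CategoryTheory.Limits TopologicalSpace Opposite
open LocCohZ

namespace Groth.Agent.Lib.Seat13.HZBasis

open Groth.Agent.Lib.Helper16.LocCohShift Groth.Agent.Lib.Helper16.SectSupp
  Groth.Agent.Lib.Helper16.ClosedEmb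

variable {X : TopCat.{u}} (F : CohTop.Ab X) (U : Opens X)

/-- degree zero on a basis -/
theorem HZsh_zero_of_basis (ℬ : Set (Opens X)) (hℬ : Opens.IsBasis ℬ)
    (h : ∀ W ∈ ℬ, Subsingleton (LocCohZ.HZ F 0 (inf_le_left : W ⊓ U ≤ W))) :
    IsZero ((LocCohZ.HZsh U 0).obj F) := by
  rw [HZsh_zero_iff]
  intro V
  rw [(LocCohZ.sect0Equiv F (inf_le_left : V ⊓ U ≤ V)).toEquiv.subsingleton_congr]
  refine ⟨fun a b => ?_⟩
  have h0 : ∀ c : LocCohZ.sectZ F (inf_le_left : V ⊓ U ≤ V), c = 0 := by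
    intro c
    apply Subtype.ext
    -- cover `V` by members of the basis
    let ι : Type u := {W : Opens X // W ∈ ℬ ∧ W ≤ V}
    have hcov : V ≤ ⨆ i : ι, i.1 := by
      intro x hx
      obtain ⟨W, hW, hxW, hWV⟩ := Opens.isBasis_iff_nbhd.1 hℬ hx
      exact Opens.mem_iSup.2 ⟨⟨W, hW, hWV⟩, hxW⟩
    refine TopCat.Sheaf.eq_of_locally_eq' F (fun i : ι => i.1) V (fun i => homOfLE i.2.2) hcov
      c.1 0 (fun i => ?_)
    rw [map_zero]
    obtain ⟨W, hW, hWV⟩ := i
    have hs := h W hW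
    rw [(LocCohZ.sect0Equiv F (inf_le_left : W ⊓ U ≤ W)).toEquiv.subsingleton_congr] at hs
    have hmem : F.obj.map (homOfLE hWV).op c.1 ∈ LocCohZ.sectZ F (inf_le_left : W ⊓ U ≤ W) := by
      rw [AddMonoidHom.mem_ker]
      have hc := c.2
      rw [AddMonoidHom.mem_ker] at hc
      have hle : W ⊓ U ≤ V ⊓ U := inf_le_inf_right U hWV
      have e1 : (F.obj.map (homOfLE (inf_le_left : W ⊓ U ≤ W)).op).hom
          (F.obj.map (homOfLE hWV).op c.1) =
          (F.obj.map (homOfLE hle).op).hom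
            ((F.obj.map (homOfLE (inf_le_left : V ⊓ U ≤ V)).op).hom c.1) := by
        rw [← ConcreteCategory.comp_apply, ← ConcreteCategory.comp_apply, ← F.obj.map_comp,
          ← F.obj.map_comp]
        rfl
      rw [e1, hc, map_zero]
    exact congrArg Subtype.val (Subsingleton.elim (⟨_, hmem⟩ :
      LocCohZ.sectZ F (inf_le_left : W ⊓ U ≤ W)) 0)
  rw [h0 a, h0 b]

/-- positive degrees on a basis -/
theorem HZsh_succ_of_basis (ℬ : Set (Opens X)) (hℬ : Opens.IsBasis ℬ) (k : ℕ)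
    (h : ∀ W ∈ ℬ, Subsingleton (LocCohZ.HZ F (k + 1) (inf_le_left : W ⊓ U ≤ W))) :
    IsZero ((LocCohZ.HZsh U (k + 1)).obj F) := by
  rw [HZsh_succ_iff, locSurj_iff]
  intro V t x hx
  obtain ⟨W, hW, hxW, hWV⟩ := Opens.isBasis_iff_nbhd.1 hℬ hx
  have hsurj := (secSurj_iff U ((DD F).g k) W).2 ((homSurj_iff U _ W).1
    ((HZ_succ_iff U F k W).1 (h W hW)))
  obtain ⟨s, hs⟩ := hsurj (((LocCohZ.sectSuppF U).obj ((DD F).Z (k + 1))).obj.map
    (homOfLE hWV).op t)
  exact ⟨W, hWV, ⟨s, hs⟩, hxW⟩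

/-- **Vanishing of `ℋ^i_Z(F)` for `i < n` can be tested on a basis of opens.** -/
theorem HZsh_isZero_iff_HZ_basis (ℬ : Set (Opens X)) (hℬ : Opens.IsBasis ℬ) (n : ℕ) :
    (∀ i : ℕ, i < n → IsZero ((LocCohZ.HZsh U i).obj F)) ↔
      ∀ W ∈ ℬ, ∀ i : ℕ, i < n → Subsingleton (LocCohZ.HZ F i (inf_le_left : W ⊓ U ≤ W)) := by
  constructor
  · intro h W _ i hi
    exact (HZsh_isZero_iff_HZ F U n).1 h W i hi
  · intro h i hi
    cases i with
    | zero => exact HZsh_zero_of_basis F U ℬ hℬ (fun W hW => h W hW 0 hi)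
    | succ k => exact HZsh_succ_of_basis F U ℬ hℬ k (fun W hW => h W hW (k + 1) hi)

end Groth.Agent.Lib.Seat13.HZBasis
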