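import Groth.Agent.Lib.Seat13CKLC
import Groth.Agent.Lib.Helper8LCDepth
import Groth.Agent.S5152

/-!
# Vanishing of local cohomology below `n` and depth of the localizations (helper13)
-/

set_option autoImplicit false

namespace Groth.Agent.Lib.Seat13.HZDepth

open CategoryTheory CategoryTheory.Limits CohIII
open Groth.Agent.Lib.Helper8.LC

universe u

variable {A : Type u} [CommRing A]

/-- if `I N = N` for a finite module `N`, its local cohomology with supports in `I` vanishes -/
theorem H_eq_zero_of_smul_top_eq_top (I : Ideal A) (N : Type u) [AddCommGroup N] [Module A N]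
    [Module.Finite A N] (hIN : I • (⊤ : Submodule A N) = ⊤) (i : ℕ)
    (y : (localCohomology I i).obj (ModuleCat.of A N)) : y = 0 := by
  obtain ⟨r, hr, hrN⟩ := Submodule.exists_sub_one_mem_and_smul_eq_zero_of_fg_of_le_smul I
    (⊤ : Submodule A N) Module.Finite.fg_top (le_of_eq hIN.symm)
  -- `r` kills `N`, hence the local cohomology
  have h1 : r • y = 0 := by
    rw [← H_map_lsmul I i N r y]
    have h0 : ModuleCat.ofHom (LinearMap.lsmul A N r) = 0 := by
      apply ModuleCat.hom_ext
      apply LinearMap.ext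
      intro m
      exact hrN m Submodule.mem_top
    rw [h0]
    have := Groth.Agent.Lib.Helper9.LCDelta.additive_lc I i
    rw [Functor.map_zero]
    rfl
  obtain ⟨k, hk⟩ := isPowerTorsion_H I i (ModuleCat.of A N) y
  have h2 : (r - 1) ^ k • y = 0 := hk _ (Ideal.pow_mem_pow hr k)
  -- `(r - 1) • y = - y`
  have h3 : (r - 1) • y = -y := by rw [sub_smul, h1, one_smul, zero_sub]
  have h4 : ∀ m : ℕ, (r - 1) ^ m • y = (-1 : A) ^ m • y := by
    intro m
    induction m with
    | zero => simp
    | succ m ih =>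
      rw [pow_succ, mul_smul, h3, smul_neg, ih, pow_succ, mul_smul, neg_smul, one_smul, smul_neg]
  rw [h4] at h2
  have h5 : ((-1 : A) ^ k * (-1 : A) ^ k) • y = 0 := by rw [mul_smul, h2, smul_zero]
  rw [← mul_pow, neg_mul_neg, one_mul, one_pow, one_smul] at h5
  exact h5

variable [IsNoetherianRing A]

/-- **Depth and local cohomology**: `H^i_I(N) = 0` for `i < n` iff `depth N_p ≥ n` for all primes
`p ⊇ I`. -/
theorem H_subsingleton_iff_depth (I : Ideal A) (N : Type u) [AddCommGroup N] [Module A N]
    [Module.Finite A N] (n : ℕ) :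
    (∀ i : ℕ, i < n → Subsingleton (LocCoh.H I i N)) ↔
      ∀ p : PrimeSpectrum A, I ≤ p.asIdeal → (n : ℕ∞) ≤
        LocCoh.depth (Localization.AtPrime p.asIdeal) (LocalizedModule p.asIdeal.primeCompl N) := by
  have hdep := Groth.Agent.S5152.result A I N
  have hiff : (∀ p : PrimeSpectrum A, I ≤ p.asIdeal → (n : ℕ∞) ≤
      LocCoh.depth (Localization.AtPrime p.asIdeal) (LocalizedModule p.asIdeal.primeCompl N)) ↔
      (n : ℕ∞) ≤ LocCoh.idealDepth I N := by
    rw [hdep]
    simp only [le_iInf_iff]
  rw [hiff]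
  by_cases hIN : I • (⊤ : Submodule A N) = ⊤
  · have htop : LocCoh.idealDepth I N = ⊤ := by
      unfold LocCoh.idealDepth
      rw [if_pos hIN]
    rw [htop]
    refine ⟨fun _ => le_top, fun _ i _ => ?_⟩
    exact ⟨fun a b => (H_eq_zero_of_smul_top_eq_top I N hIN i a).trans
      (H_eq_zero_of_smul_top_eq_top I N hIN i b).symm⟩
  · constructor
    · intro h
      by_contra hlt
      rw [not_le] at hlt
      obtain ⟨d, hd⟩ := ENat.ne_top_iff_exists.1 (ne_top_of_lt hlt)
      rw [← hd] at hlt
      have hdn : d < n := by exact_mod_cast hlt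
      obtain ⟨y, hy⟩ := H_ne_zero_of_depth_eq I d N hIN hd.symm
      have := h d hdn
      exact hy (Subsingleton.elim _ _)
    · intro h i hi
      exact ⟨fun a b => (H_eq_zero_of_lt_depth I n N hIN h i hi a).trans
        (H_eq_zero_of_lt_depth I n N hIN h i hi b).symm⟩

/-- the Koszul form -/
theorem koszulHLim_subsingleton_iff_depth (fs : List A) (N : Type u) [AddCommGroup N]
    [Module A N] [Module.Finite A N] (n : ℕ) :
    (∀ i : ℕ, i < n → Subsingleton (koszulHLim fs (ModuleCat.of A N) i)) ↔
      ∀ p : PrimeSpectrum A, (∀ a ∈ fs, a ∈ p.asIdeal) → (n : ℕ∞) ≤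
        LocCoh.depth (Localization.AtPrime p.asIdeal) (LocalizedModule p.asIdeal.primeCompl N) := by
  have h1 := H_subsingleton_iff_depth (Ideal.span {a | a ∈ fs}) N n
  have h2 : ∀ i : ℕ, Subsingleton (koszulHLim fs (ModuleCat.of A N) i) ↔
      Subsingleton (LocCoh.H (Ideal.span {a | a ∈ fs}) i N) := by
    intro i
    obtain ⟨e⟩ := Groth.Agent.Lib.Seat13.CKLC.nonempty_LC_equiv_L fs i _ rfl (ModuleCat.of A N)
    exact e.symm.toEquiv.subsingleton_congr
  simp only [h2]
  rw [h1]
  refine forall_congr' fun p => ?_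
  rw [Ideal.span_le]
  rfl

end Groth.Agent.Lib.Seat13.HZDepth
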