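import Groth.Agent.Lib.Seat13HZMain
import Groth.Agent.Lib.Helper8LC3
import Groth.Agent.S0325
import Groth.Agent.S11618

/-!
# Cohomology with supports on an affine open as limit Koszul cohomology; local Grothendieck
vanishing (helper13)
-/

set_option autoImplicit false
set_option backward.defeqAttrib.useBackward true
set_option backward.isDefEq.respectTransparency false
set_option linter.style.haveILetI false

namespace Groth.Agent.Lib.Seat13.HZKoszul

open CategoryTheory CategoryTheory.Limits Opposite TopologicalSpace CohIII AlgebraicGeometry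
open Groth.Agent.Lib.Seat13.CKGeom Groth.Agent.Lib.Seat13.CKGeom2 Groth.Agent.Lib.Seat13.CKMain
open Groth.Agent.Lib.Seat13.HZStalk Groth.Agent.Lib.Seat13.HZAff Groth.Agent.Lib.Seat13.HZDepth
open Groth.Agent.Lib.Seat13.HZMain
open Groth.Agent.Lib.Helper8.LC

universe u

section Algebra

variable {A : Type u} [CommRing A]

/-- local cohomology with supports in the unit ideal vanishes -/
theorem H_subsingleton_of_eq_top (I : Ideal A) (hI : I = ⊤) (i : ℕ) (N : Type u) [AddCommGroup N]
    [Module A N] : Subsingleton (LocCoh.H I i N) := by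
  refine ⟨fun a b => ?_⟩
  have h0 : ∀ y : LocCoh.H I i N, y = 0 := by
    intro y
    obtain ⟨k, hk⟩ := isPowerTorsion_H I i (ModuleCat.of A N) y
    have h1 := hk 1 (by rw [hI, Ideal.top_pow]; exact Submodule.mem_top)
    rwa [one_smul] at h1
  rw [h0 a, h0 b]

variable [IsNoetherianRing A]

/-- **Local Grothendieck vanishing**: `H^i_I(N) = 0` as soon as `dim A_p < i` for all primes
`p ⊇ I`. -/
theorem H_subsingleton_of_dim_localization_lt (I : Ideal A) (N : Type u) [AddCommGroup N]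
    [Module A N] (i : ℕ)
    (h : ∀ p : PrimeSpectrum A, I ≤ p.asIdeal →
      ringKrullDim (Localization.AtPrime p.asIdeal) < (i : WithBot ℕ∞)) :
    Subsingleton (LocCoh.H I i N) := by
  refine Module.subsingleton_of_localization_maximal
    (R := A) (M := LocCoh.H I i N)
    (fun (P : Ideal A) _ => LocalizedModule P.primeCompl (LocCoh.H I i N))
    (fun (P : Ideal A) _ => LocalizedModule.mkLinearMap P.primeCompl (LocCoh.H I i N))
    (fun P hP => ?_)
  have : P.IsPrime := hP.isPrime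
  obtain ⟨e⟩ := Groth.Agent.S11618.result A I P.primeCompl N i
  rw [e.toEquiv.subsingleton_congr]
  by_cases hIP : I ≤ P
  · have hdim := h ⟨P, inferInstance⟩ hIP
    have hi : 0 < i := by
      by_contra h0
      have h00 : i = 0 := by omega
      rw [h00] at hdim
      have : (0 : WithBot ℕ∞) ≤ ringKrullDim (Localization.AtPrime P) :=
        ringKrullDim_nonneg_of_nontrivial
      exact absurd (lt_of_le_of_lt this hdim) (lt_irrefl _)
    have hle : ringKrullDim (Localization.AtPrime P) ≤ ((i - 1 : ℕ) : WithBot ℕ∞) := by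
      generalize ringKrullDim (Localization.AtPrime P) = d at hdim
      induction d using WithBot.recBotCoe with
      | bot => exact bot_le
      | coe e =>
        have h1 : e < (i : ℕ∞) := by exact_mod_cast hdim
        have h2 : e ≤ ((i - 1 : ℕ) : ℕ∞) := by
          obtain ⟨m, rfl⟩ := ENat.ne_top_iff_exists.1 (ne_top_of_lt h1)
          have : m < i := by exact_mod_cast h1
          exact_mod_cast (by omega : m ≤ i - 1)
        exact WithBot.coe_le_coe.2 h2
    exact Groth.Agent.S0325.result (Localization.AtPrime P) _ (i - 1) hle _ i (by omega)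
  · apply H_subsingleton_of_eq_top
    obtain ⟨a, haI, haP⟩ := Set.not_subset.1 hIP
    exact Ideal.eq_top_of_isUnit_mem _ (Ideal.mem_map_of_mem _ haI)
      (IsLocalization.map_units (Localization.AtPrime P) (⟨a, haP⟩ : P.primeCompl))

end Algebra

section Geometry

variable {X : Scheme.{u}} (M : X.Modules) (U W : X.Opens)

/-- **Cohomology with supports on an affine open of a locally Noetherian scheme is limit Koszul
cohomology**, together with the dictionary between the points of `W - U` and the primes containing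
the chosen generators. -/
theorem exists_list_HZ_equiv_koszul [IsLocallyNoetherian X] [M.IsQuasicoherent]
    (hW : IsAffineOpen W) (hW' : IsAffineOpen (W.ι ''ᵁ ⊤)) :
    ∃ fs : List Γ(X, W.ι ''ᵁ ⊤),
      (∀ (x : X) (hx' : x ∈ W.ι ''ᵁ ⊤),
        (∀ a ∈ fs, a ∈ (hW'.primeIdealOf ⟨x, hx'⟩).asIdeal) ↔ x ∉ U) ∧
      ∀ i : ℕ, Nonempty (LocCohZ.HZ (Coh.toAb M) i (inf_le_left : W ⊓ U ≤ W) ≃+
        koszulHLim (A := Γ(X, W.ι ''ᵁ ⊤)) fs
          (ModuleCat.of Γ(X, W.ι ''ᵁ ⊤) Γ(M, W.ι ''ᵁ ⊤)) i) := by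
  haveI : IsAffine (W : Scheme.{u}) := hW
  have hWW' : W.ι ''ᵁ ⊤ = W := Scheme.Opens.ι_image_top W
  haveI hN : IsNoetherianRing Γ(X, W.ι ''ᵁ ⊤) :=
    IsLocallyNoetherian.component_noetherian ⟨_, hW'⟩
  haveI : IsNoetherianRing Γ((W : Scheme.{u}), ⊤) := hN
  haveI : NoetherianSpace (W : Scheme.{u}) := noetherianSpace_of_isAffine
  obtain ⟨fs, hfs⟩ := exists_list_unionOpen_eq (W : Scheme.{u}) (W.ι ⁻¹ᵁ U)
    (NoetherianSpace.isCompact _)
  refine ⟨fs, ?_, ?_⟩
  · intro x hx'
    have hxW : x ∈ W := hWW'.le hx'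
    have hyU : (⟨x, hxW⟩ : W) ∈ unionOpen (W : Scheme.{u}) fs ↔ x ∈ U := by
      rw [hfs]; rfl
    rw [← hyU, mem_unionOpen_iff]
    constructor
    · rintro h ⟨a, ha, hy⟩
      have h2 := h a ha
      rw [Scheme.Opens.mem_basicOpen_toScheme] at hy
      exact ((Groth.Agent.Lib.Helper3.EtGUSch.mem_basicOpen_iff_notMem_primeIdealOf
        hW' hx' a).1 hy) h2
    · intro h a ha
      by_contra hna
      refine h ⟨a, ha, ?_⟩
      rw [Scheme.Opens.mem_basicOpen_toScheme]
      exact (Groth.Agent.Lib.Helper3.EtGUSch.mem_basicOpen_iff_notMem_primeIdealOf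
        hW' hx' a).2 hna
  · intro i
    obtain ⟨e1⟩ := nonempty_HZ_equiv_HZM M U W i
    obtain ⟨e2⟩ := nonempty_koszulHLim_equiv_HZM (W : Scheme.{u}) (M.restrict W.ι) fs i
    obtain ⟨e3⟩ := nonempty_koszul_restrict M W fs i
    rw [hfs] at e2
    exact ⟨e1.trans (e2.symm.trans e3.symm)⟩

/-- the dimension of the local ring at a point of an affine open -/
theorem ringKrullDim_stalk_eq {W : X.Opens} (hW : IsAffineOpen W) (x : X) (hx : x ∈ W) :
    ringKrullDim (Localization.AtPrime (hW.primeIdealOf ⟨x, hx⟩).asIdeal) =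
      ringKrullDim (X.presheaf.stalk x) := by
  letI := X.presheaf.algebra_section_stalk ⟨x, hx⟩
  haveI := hW.isLocalization_stalk ⟨x, hx⟩
  exact ringKrullDim_eq_of_ringEquiv
    (IsLocalization.algEquiv (hW.primeIdealOf ⟨x, hx⟩).asIdeal.primeCompl
      (Localization.AtPrime (hW.primeIdealOf ⟨x, hx⟩).asIdeal) (X.presheaf.stalk x)).toRingEquiv

/-- **Affine-local Grothendieck vanishing for cohomology with supports.** -/
theorem HZ_subsingleton_of_dim_lt_affine [IsLocallyNoetherian X] [M.IsQuasicoherent]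
    (hW : IsAffineOpen W) (i : ℕ)
    (hi : ∀ x : X, x ∈ W → x ∉ U → ringKrullDim (X.presheaf.stalk x) < (i : WithBot ℕ∞)) :
    Subsingleton (LocCohZ.HZ (Coh.toAb M) i (inf_le_left : W ⊓ U ≤ W)) := by
  have hWW' : W.ι ''ᵁ ⊤ = W := Scheme.Opens.ι_image_top W
  have hW' : IsAffineOpen (W.ι ''ᵁ ⊤) := by rw [hWW']; exact hW
  haveI hN : IsNoetherianRing Γ(X, W.ι ''ᵁ ⊤) :=
    IsLocallyNoetherian.component_noetherian ⟨_, hW'⟩
  obtain ⟨fs, key, he⟩ := exists_list_HZ_equiv_koszul M U W hW hW'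
  obtain ⟨e⟩ := he i
  obtain ⟨e2⟩ := Groth.Agent.Lib.Seat13.CKLC.nonempty_LC_equiv_L fs i _ rfl
    (ModuleCat.of Γ(X, W.ι ''ᵁ ⊤) Γ(M, W.ι ''ᵁ ⊤))
  have hH : Subsingleton (LocCoh.H (Ideal.span {a | a ∈ fs}) i Γ(M, W.ι ''ᵁ ⊤)) := by
    apply H_subsingleton_of_dim_localization_lt
    intro p hp
    rw [Ideal.span_le] at hp
    have hmem : (hW'.fromSpec p : X) ∈ W.ι ''ᵁ ⊤ := by
      have : (hW'.fromSpec p : X) ∈ Set.range hW'.fromSpec := ⟨p, rfl⟩
      rwa [hW'.range_fromSpec] at this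
    have hp' : hW'.primeIdealOf ⟨hW'.fromSpec p, hmem⟩ = p :=
      hW'.fromSpec.isOpenEmbedding.injective (hW'.fromSpec_primeIdealOf ⟨hW'.fromSpec p, hmem⟩)
    have hxU : (hW'.fromSpec p : X) ∉ U :=
      (key _ hmem).1 (by rw [hp']; exact fun a ha => hp ha)
    have hxW : (hW'.fromSpec p : X) ∈ W := hWW'.le hmem
    have h3 := hi _ hxW hxU
    rw [← ringKrullDim_stalk_eq hW' _ hmem, hp'] at h3
    exact h3
  exact (e.trans e2.symm.toAddEquiv).toEquiv.subsingleton_congr.2 hH

end Geometry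

end Groth.Agent.Lib.Seat13.HZKoszul
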