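import Groth.Agent.Lib.Seat13HZStalk
import Groth.Agent.Lib.Seat13HZBasis

/-!
# Cohomology with supports and depth of the stalks: the affine-local statement (helper13)
-/

set_option autoImplicit false
set_option backward.defeqAttrib.useBackward true
set_option backward.isDefEq.respectTransparency false
set_option linter.style.haveILetI false

namespace Groth.Agent.Lib.Seat13.HZMain

open CategoryTheory CategoryTheory.Limits Opposite TopologicalSpace CohIII AlgebraicGeometry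
open Groth.Agent.Lib.Seat13.CKGeom Groth.Agent.Lib.Seat13.CKGeom2 Groth.Agent.Lib.Seat13.CKMain
open Groth.Agent.Lib.Seat13.HZStalk Groth.Agent.Lib.Seat13.HZAff Groth.Agent.Lib.Seat13.HZDepth

universe u

variable {X : Scheme.{u}} (M : X.Modules) (U W : X.Opens)

/-- cohomology with supports on an open `W`, computed on the open subscheme `W` -/
theorem nonempty_HZ_equiv_HZM (i : ℕ) :
    Nonempty (LocCohZ.HZ (Coh.toAb M) i (inf_le_left : W ⊓ U ≤ W) ≃+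
      LocCohZ.HZM (W : Scheme.{u}) (M.restrict W.ι) i (W.ι ⁻¹ᵁ U)) := by
  obtain ⟨e, -⟩ := Groth.Agent.S6026.result (X := X.carrier) (inf_le_left : W ⊓ U ≤ W) i
  have e1 := e (Coh.toAb M)
  have hU : W.ι ⁻¹ᵁ U = (Opens.map (CohCx.incl W)).obj (W ⊓ U) := by
    ext x
    exact ⟨fun hx => ⟨x.2, hx⟩, fun hx => hx.2⟩
  rw [hU]
  exact ⟨e1⟩

/-- the module structure on the sections of the restriction -/
lemma smul_restrict (r : Γ(X, W.ι ''ᵁ ⊤)) (s : Γ(M, W.ι ''ᵁ ⊤)) :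
    ((show Γ((W : Scheme.{u}), ⊤) from r) •
      (show (M.restrict W.ι).val.obj (op ⊤) from s) : (M.restrict W.ι).val.obj (op ⊤)) =
      (show (M.restrict W.ι).val.obj (op ⊤) from r • s) := by
  have h1 : ((show Γ((W : Scheme.{u}), ⊤) from r) •
      (show (M.restrict W.ι).val.obj (op ⊤) from s) : (M.restrict W.ι).val.obj (op ⊤)) =
      (show (M.restrict W.ι).val.obj (op ⊤) from ((W.ι.appIso ⊤).inv r) • s) := rfl
  rw [h1, Scheme.Opens.ι_appIso]
  rfl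

/-- the sections of the restriction to an open subscheme -/
noncomputable def secRestrictIso :
    ModuleCat.of Γ(X, W.ι ''ᵁ ⊤) Γ(M, W.ι ''ᵁ ⊤) ≅
      (Msec (W : Scheme.{u}) (M.restrict W.ι) : ModuleCat.{u} Γ(X, W.ι ''ᵁ ⊤)) where
  hom := ModuleCat.ofHom (R := Γ(X, W.ι ''ᵁ ⊤)) (X := ModuleCat.of Γ(X, W.ι ''ᵁ ⊤) Γ(M, W.ι ''ᵁ ⊤))
    (Y := (Msec (W : Scheme.{u}) (M.restrict W.ι) : ModuleCat.{u} Γ(X, W.ι ''ᵁ ⊤)))
    { toFun := fun s => s
      map_add' := fun _ _ => rfl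
      map_smul' := fun r s => (smul_restrict M W r s).symm }
  inv := ModuleCat.ofHom (R := Γ(X, W.ι ''ᵁ ⊤)) (Y := ModuleCat.of Γ(X, W.ι ''ᵁ ⊤) Γ(M, W.ι ''ᵁ ⊤))
    (X := (Msec (W : Scheme.{u}) (M.restrict W.ι) : ModuleCat.{u} Γ(X, W.ι ''ᵁ ⊤)))
    { toFun := fun s => s
      map_add' := fun _ _ => rfl
      map_smul' := fun r s => smul_restrict M W r s }
  hom_inv_id := by
    ext s
    rfl
  inv_hom_id := by
    ext s
    rfl

theorem nonempty_koszul_restrict (fs : List Γ(X, W.ι ''ᵁ ⊤)) (i : ℕ) :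
    Nonempty (koszulHLim fs (ModuleCat.of Γ(X, W.ι ''ᵁ ⊤) Γ(M, W.ι ''ᵁ ⊤)) i ≃+
      koszulHLim (A := Γ((W : Scheme.{u}), ⊤)) fs (Msec (W : Scheme.{u}) (M.restrict W.ι)) i) := by
  obtain ⟨e⟩ := nonempty_L_equiv_of_iso fs (secRestrictIso M W) ((i : ℤ) - fs.length)
  exact ⟨e.toAddEquiv⟩

omit M in
lemma mem_unionOpen_iff (Y : Scheme.{u}) (fs : List Γ(Y, ⊤)) (y : Y) :
    y ∈ unionOpen Y fs ↔ ∃ a ∈ fs, y ∈ Y.basicOpen a := by
  unfold unionOpen
  rw [Opens.mem_iSup]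
  constructor
  · rintro ⟨i, hi⟩
    exact ⟨fs.get i, List.get_mem fs i, hi⟩
  · rintro ⟨a, ha, hy⟩
    obtain ⟨i, hi⟩ := List.get_of_mem ha
    exact ⟨i, by rw [hi]; exact hy⟩

/-- **The affine-local form**: for an affine open `W` of a locally Noetherian scheme and a coherent
module `M`, `H^i_{W - U}(W, M) = 0` for `i < n` iff `depth M_x ≥ n` at all `x ∈ W - U`. -/
theorem HZ_subsingleton_iff_depth_affine [IsLocallyNoetherian X] [M.IsQuasicoherent]
    [hft : SheafOfModules.IsFiniteType (R := X.ringCatSheaf) M] (hW : IsAffineOpen W) (n : ℕ) :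
    (∀ i : ℕ, i < n → Subsingleton (LocCohZ.HZ (Coh.toAb M) i (inf_le_left : W ⊓ U ≤ W))) ↔
      ∀ x : X, x ∈ W → x ∉ U →
        (n : ℕ∞) ≤ LocCoh.depth (X.presheaf.stalk x) (M.presheaf.stalk x) := by
  haveI : IsAffine (W : Scheme.{u}) := hW
  have hWW' : W.ι ''ᵁ ⊤ = W := Scheme.Opens.ι_image_top W
  have hW' : IsAffineOpen (W.ι ''ᵁ ⊤) := by rw [hWW']; exact hW
  haveI hN : IsNoetherianRing Γ(X, W.ι ''ᵁ ⊤) :=
    IsLocallyNoetherian.component_noetherian ⟨_, hW'⟩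
  haveI : IsNoetherianRing Γ((W : Scheme.{u}), ⊤) := hN
  haveI : NoetherianSpace (W : Scheme.{u}) := noetherianSpace_of_isAffine
  obtain ⟨fs, hfs⟩ := exists_list_unionOpen_eq (W : Scheme.{u}) (W.ι ⁻¹ᵁ U)
    (NoetherianSpace.isCompact _)
  haveI : Module.Finite Γ(X, W.ι ''ᵁ ⊤) Γ(M, W.ι ''ᵁ ⊤) :=
    Groth.Agent.Lib.Helper23.FinType.finite_of_isFiniteType M hW'
  have h1 : ∀ i : ℕ, Subsingleton (LocCohZ.HZ (Coh.toAb M) i (inf_le_left : W ⊓ U ≤ W)) ↔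
      Subsingleton (koszulHLim (A := Γ(X, W.ι ''ᵁ ⊤)) fs
        (ModuleCat.of Γ(X, W.ι ''ᵁ ⊤) Γ(M, W.ι ''ᵁ ⊤)) i) := by
    intro i
    obtain ⟨e1⟩ := nonempty_HZ_equiv_HZM M U W i
    obtain ⟨e2⟩ := nonempty_koszulHLim_equiv_HZM (W : Scheme.{u}) (M.restrict W.ι) fs i
    obtain ⟨e3⟩ := nonempty_koszul_restrict M W fs i
    rw [hfs] at e2
    exact (e1.trans (e2.symm.trans e3.symm)).toEquiv.subsingleton_congr
  simp only [h1]
  rw [koszulHLim_subsingleton_iff_depth (A := Γ(X, W.ι ''ᵁ ⊤)) fs Γ(M, W.ι ''ᵁ ⊤) n]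
  -- the dictionary between points of `W - U` and primes containing `fs`
  have key : ∀ (x : X) (hx' : x ∈ W.ι ''ᵁ ⊤),
      (∀ a ∈ fs, a ∈ (hW'.primeIdealOf ⟨x, hx'⟩).asIdeal) ↔ x ∉ U := by
    intro x hx'
    have hxW : x ∈ W := by rw [← hWW']; exact hx'
    have hyU : (⟨x, hxW⟩ : W) ∈ unionOpen (W : Scheme.{u}) fs ↔ x ∈ U := by
      rw [hfs]; rfl
    rw [← hyU, mem_unionOpen_iff]
    constructor
    · rintro h ⟨a, ha, hy⟩
      have h2 := h a ha
      rw [Scheme.Opens.mem_basicOpen_toScheme] at hy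
      exact ((Groth.Agent.Lib.Helper3.EtGUSch.mem_basicOpen_iff_notMem_primeIdealOf hW' hx' a).1 hy) h2
    · intro h a ha
      by_contra hna
      refine h ⟨a, ha, ?_⟩
      rw [Scheme.Opens.mem_basicOpen_toScheme]
      exact (Groth.Agent.Lib.Helper3.EtGUSch.mem_basicOpen_iff_notMem_primeIdealOf hW' hx' a).2 hna
  constructor
  · intro h x hxW hxU
    have hx' : x ∈ W.ι ''ᵁ ⊤ := by rw [hWW']; exact hxW
    rw [← depth_stalk_eq M hW' x hx']
    exact h _ ((key x hx').2 hxU)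
  · intro h p hp
    have hmem : (hW'.fromSpec p : X) ∈ W.ι ''ᵁ ⊤ := by
      have : (hW'.fromSpec p : X) ∈ Set.range hW'.fromSpec := ⟨p, rfl⟩
      rwa [hW'.range_fromSpec] at this
    have hp' : hW'.primeIdealOf ⟨hW'.fromSpec p, hmem⟩ = p :=
      hW'.fromSpec.isOpenEmbedding.injective (hW'.fromSpec_primeIdealOf ⟨hW'.fromSpec p, hmem⟩)
    have hxU : (hW'.fromSpec p : X) ∉ U := (key _ hmem).1 (by rw [hp']; exact hp)
    have hxW : (hW'.fromSpec p : X) ∈ W := hWW'.le hmem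
    have h3 := h _ hxW hxU
    rw [← depth_stalk_eq M hW' _ hmem, hp'] at h3
    exact h3

end Groth.Agent.Lib.Seat13.HZMain
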