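import Groth.Agent.Lib.Helper16LocCohShift

/-!
# Sections of the first non-vanishing local cohomology sheaf (helper13)

If `ℋ^i_Z(F) = 0` for `i < d` then `Γ(V, ℋ^d_Z(F)) = H^d_{Z ∩ V}(V, F)` (the edge map of the
local-to-global spectral sequence, obtained here by dimension shifting and flasqueness).
-/

set_option autoImplicit false
set_option linter.style.haveILetI false
set_option linter.unusedSectionVars false
universe u
open CategoryTheory CategoryTheory.Limits TopologicalSpace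
open LocCohZ

namespace Groth.Agent.Lib.Seat13.HZSect
open Opposite Abelian
open Groth.Agent.Lib.Helper16.SectSupp Groth.Agent.Lib.Helper16.ClosedEmb
  Groth.Agent.Lib.Helper16.DimShift Groth.Agent.Lib.Helper16.Flasque Groth.Agent.Lib.Helper23LocSS
  Groth.Agent.Lib.Helper16.LocCohShift

variable {X : TopCat.{u}} (U : Opens X)

section SectEquiv

variable (G : CohTop.Ab X) (V : Opens X)

/-- sections of `Γ_Z G` over `V` are the sections of `G` over `V` vanishing on `V ⊓ U` -/
noncomputable def sectSuppEquiv :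
    ((LocCohZ.sectSuppF U).obj G).obj.obj (op V) ≃+
      LocCohZ.sectZ G (inf_le_left : V ⊓ U ≤ V) :=
  AddEquiv.ofBijective
    (((ιΓ U G).hom.app (op V)).hom.codRestrict (LocCohZ.sectZ G (inf_le_left : V ⊓ U ≤ V))
      (fun t => (exists_sectSupp_iff U G V _).1 ⟨t, rfl⟩))
    ⟨fun a b h => ιΓ_injective U G V (congrArg Subtype.val h),
     fun s => by
      obtain ⟨t, ht⟩ := (exists_sectSupp_iff U G V s.1).2 s.2
      exact ⟨t, Subtype.ext ht⟩⟩

lemma sectSuppEquiv_coe (t : ((LocCohZ.sectSuppF U).obj G).obj.obj (op V)) :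
    ((sectSuppEquiv U G V t : LocCohZ.sectZ G (inf_le_left : V ⊓ U ≤ V)) : G.obj.obj (op V)) =
      (ιΓ U G).hom.app (op V) t := rfl

/-- `Hom(ℤ_V/ℤ_{V ⊓ U}, G) = Γ(V, Γ_Z G)` -/
noncomputable def homZqSectEquiv :
    (LocCohZ.zq (inf_le_left : V ⊓ U ≤ V) ⟶ G) ≃+ ((LocCohZ.sectSuppF U).obj G).obj.obj (op V) :=
  (homZqEquiv G (inf_le_left : V ⊓ U ≤ V)).trans (sectSuppEquiv U G V).symm

lemma ιΓ_homZqSectEquiv (φ : LocCohZ.zq (inf_le_left : V ⊓ U ≤ V) ⟶ G) :
    (ιΓ U G).hom.app (op V) (homZqSectEquiv U G V φ) =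
      ((homZqEquiv G (inf_le_left : V ⊓ U ≤ V) φ : LocCohZ.sectZ G _) : G.obj.obj (op V)) := by
  rw [← sectSuppEquiv_coe]
  unfold homZqSectEquiv
  rw [AddEquiv.trans_apply, AddEquiv.apply_symm_apply]

variable {G} in
/-- naturality of `homZqSectEquiv` -/
lemma homZqSectEquiv_comp {G' : CohTop.Ab X} (g : G ⟶ G')
    (φ : LocCohZ.zq (inf_le_left : V ⊓ U ≤ V) ⟶ G) :
    homZqSectEquiv U G' V (φ ≫ g) =
      ((LocCohZ.sectSuppF U).map g).hom.app (op V) (homZqSectEquiv U G V φ) := by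
  apply ιΓ_injective U G' V
  have nat : ∀ t : ((LocCohZ.sectSuppF U).obj G).obj.obj (op V),
      (ιΓ U G').hom.app (op V) (((LocCohZ.sectSuppF U).map g).hom.app (op V) t) =
        g.hom.app (op V) ((ιΓ U G).hom.app (op V) t) := fun t =>
    congrArg (fun m => m.hom.app (op V) t) (ιΓ_nat U g)
  rw [nat, ιΓ_homZqSectEquiv, ιΓ_homZqSectEquiv, homZqEquiv_comp]

end SectEquiv

section FourTerm

/-- **Four-term lemma**: if `0 → K → A → B` is exact with `K`, `A` flasque, then on sections over any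
open, `A(V) → B(V) → coker(V) → 0` is exact. -/
theorem sections_cokernel_exact {K A B : CohTop.Ab X} (i : K ⟶ A) (f : A ⟶ B) (w : i ≫ f = 0)
    [Mono i] (hex : (ShortComplex.mk i f w).Exact)
    [TopCat.Sheaf.IsFlasque K] [TopCat.Sheaf.IsFlasque A] (V : Opens X) :
    Function.Surjective ((cokernel.π f).hom.app (op V)) ∧
      ∀ b : B.obj.obj (op V), (cokernel.π f).hom.app (op V) b = 0 →
        ∃ a : A.obj.obj (op V), f.hom.app (op V) a = b := by
  -- the image factorisation
  have w1 : i ≫ Abelian.factorThruImage f = 0 := by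
    apply (cancel_mono (Abelian.image.ι f)).1
    rw [Category.assoc, Abelian.image.fac, w, zero_comp]
  let S1 : ShortComplex (CohTop.Ab X) := ShortComplex.mk i (Abelian.factorThruImage f) w1
  let S2 : ShortComplex (CohTop.Ab X) :=
    ShortComplex.mk (Abelian.image.ι f) (cokernel.π f) (kernel.condition _)
  have hS2 : S2.ShortExact :=
    { exact := ShortComplex.exact_of_f_is_kernel _ (kernelIsKernel _)
      mono_f := inferInstanceAs (Mono (Abelian.image.ι f))
      epi_g := inferInstanceAs (Epi (cokernel.π f)) }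
  have hS1 : S1.ShortExact := by
    let φ : S1 ⟶ ShortComplex.mk i f w :=
      { τ₁ := 𝟙 _
        τ₂ := 𝟙 _
        τ₃ := Abelian.image.ι f
        comm₁₂ := by simp [S1]
        comm₂₃ := by
          change 𝟙 _ ≫ f = Abelian.factorThruImage f ≫ Abelian.image.ι f
          rw [Abelian.image.fac, Category.id_comp] }
    haveI : Epi φ.τ₁ := inferInstanceAs (Epi (𝟙 _))
    haveI : IsIso φ.τ₂ := inferInstanceAs (IsIso (𝟙 _))
    haveI : Mono φ.τ₃ := inferInstanceAs (Mono (Abelian.image.ι f))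
    exact
      { exact := (ShortComplex.exact_iff_of_epi_of_isIso_of_mono φ).2 hex
        mono_f := inferInstanceAs (Mono i)
        epi_g := inferInstanceAs (Epi (Abelian.factorThruImage f)) }
  haveI : TopCat.Sheaf.IsFlasque S1.X₁ := inferInstanceAs (TopCat.Sheaf.IsFlasque K)
  haveI : TopCat.Sheaf.IsFlasque S1.X₂ := inferInstanceAs (TopCat.Sheaf.IsFlasque A)
  haveI hI : TopCat.Sheaf.IsFlasque S2.X₁ := TopCat.Sheaf.IsFlasque.of_shortExact_of_isFlasque₁₂ hS1
  have h1 : Epi (S1.g.1.app (op V)) := TopCat.Sheaf.IsFlasque.epi_of_shortExact hS1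
  have h2 : Epi (S2.g.1.app (op V)) := TopCat.Sheaf.IsFlasque.epi_of_shortExact hS2
  rw [AddCommGrpCat.epi_iff_surjective] at h1 h2
  refine ⟨h2, fun b hb => ?_⟩
  obtain ⟨c, hc⟩ := exists_of_isKernel S2 hS2 V b hb
  obtain ⟨a, ha⟩ := h1 c
  refine ⟨a, ?_⟩
  rw [← hc, ← ha]
  exact (congrArg (fun m => m.hom.app (op V) a) (Abelian.image.fac f)).symm

end FourTerm

section Main

/-- an isomorphism of sheaves gives an isomorphism on sections -/
noncomputable def sectionsEquivOfIso {G G' : CohTop.Ab X} (e : G ≅ G') (V : Opens X) :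
    G.obj.obj (op V) ≃+ G'.obj.obj (op V) where
  toFun := e.hom.hom.app (op V)
  invFun := e.inv.hom.app (op V)
  left_inv t := congrArg (fun m => m.hom.app (op V) t) e.hom_inv_id
  right_inv t := congrArg (fun m => m.hom.app (op V) t) e.inv_hom_id
  map_add' := map_add _

variable (F : CohTop.Ab X)

/-- degree zero: `Γ(V, ℋ^0_Z F) = H^0_{Z ∩ V}(V, F)` -/
theorem nonempty_sections_HZsh_zero_equiv (V : Opens X) :
    Nonempty (((LocCohZ.HZsh U 0).obj F).obj.obj (op V) ≃+
      LocCohZ.HZ F 0 (inf_le_left : V ⊓ U ≤ V)) := by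
  haveI := sectSuppF_preservesFiniteLimits U
  exact ⟨(sectionsEquivOfIso ((LocCohZ.sectSuppF U).rightDerivedZeroIsoSelf.app F) V).trans
    ((sectSuppEquiv U F V).trans (LocCohZ.sect0Equiv F (inf_le_left : V ⊓ U ≤ V)).symm)⟩

attribute [local instance] Ext.subsingleton_of_injective in
/-- **Sections of the first non-vanishing local cohomology sheaf**: if `ℋ^i_Z F = 0` for `i ≤ k`
then `Γ(V, ℋ^{k+1}_Z F) = H^{k+1}_{Z ∩ V}(V, F)`. -/
theorem nonempty_sections_HZsh_succ_equiv (k : ℕ)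
    (h : ∀ i : ℕ, i < k + 1 → IsZero ((LocCohZ.HZsh U i).obj F)) (V : Opens X) :
    Nonempty (((LocCohZ.HZsh U (k + 1)).obj F).obj.obj (op V) ≃+
      LocCohZ.HZ F (k + 1) (inf_le_left : V ⊓ U ≤ V)) := by
  haveI := sectSuppF_preservesFiniteLimits U
  set A := zq (inf_le_left : V ⊓ U ≤ V) with hA
  obtain ⟨e⟩ := ds.{u} A k (DD F) (fun j q => by
    haveI : Injective ((DD F).J j) := (injectiveResolution F).injective j
    infer_instance)
  let e1 := sectionsEquivOfIso
    (rightDerivedSuccIso (LocCohZ.sectSuppF U) (injectiveResolution F) k) V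
  haveI := ((DD F).hS k).mono_f
  haveI : Mono ((LocCohZ.sectSuppF U).map ((DD F).f k)) := inferInstance
  have w : (LocCohZ.sectSuppF U).map ((DD F).f k) ≫ (LocCohZ.sectSuppF U).map ((DD F).g k) = 0 := by
    rw [← Functor.map_comp, (DD F).w k, Functor.map_zero]
  have hex : (ShortComplex.mk _ _ w).Exact :=
    ((DD F).hS k).exact.map_of_mono_of_preservesKernel (LocCohZ.sectSuppF U)
      ((DD F).hS k).mono_f inferInstance
  haveI : TopCat.Sheaf.IsFlasque ((LocCohZ.sectSuppF U).obj ((DD F).Z k)) :=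
    flasque_Z U F (k + 1) h k (by omega)
  haveI : TopCat.Sheaf.IsFlasque ((LocCohZ.sectSuppF U).obj ((DD F).J k)) :=
    isFlasque_sectSupp_J U F k
  obtain ⟨hsurj, hker⟩ := sections_cokernel_exact _ _ w hex V
  let Φ : (A ⟶ (DD F).Z (k + 1)) →+
      (cokernel ((LocCohZ.sectSuppF U).map ((DD F).g k))).obj.obj (op V) :=
    ((cokernel.π ((LocCohZ.sectSuppF U).map ((DD F).g k))).hom.app (op V)).hom.comp
      (homZqSectEquiv U ((DD F).Z (k + 1)) V).toAddMonoidHom
  have hΦsurj : Function.Surjective Φ :=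
    hsurj.comp (homZqSectEquiv U ((DD F).Z (k + 1)) V).surjective
  have hΦker : Φ.ker = (Preadditive.rightComp A ((DD F).g k)).range := by
    ext φ
    rw [AddMonoidHom.mem_ker, AddMonoidHom.mem_range]
    constructor
    · intro hφ
      obtain ⟨a, ha⟩ := hker _ hφ
      refine ⟨(homZqSectEquiv U ((DD F).J k) V).symm a, ?_⟩
      apply (homZqSectEquiv U _ V).injective
      change homZqSectEquiv U _ V (_ ≫ (DD F).g k) = _
      rw [homZqSectEquiv_comp, AddEquiv.apply_symm_apply, ha]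
      rfl
    · rintro ⟨ψ, rfl⟩
      change (cokernel.π ((LocCohZ.sectSuppF U).map ((DD F).g k))).hom.app (op V)
        (homZqSectEquiv U _ V (ψ ≫ (DD F).g k)) = 0
      rw [homZqSectEquiv_comp]
      exact congrArg (fun m : (LocCohZ.sectSuppF U).obj ((DD F).J k) ⟶
          cokernel ((LocCohZ.sectSuppF U).map ((DD F).g k)) =>
        m.hom.app (op V) (homZqSectEquiv U _ V ψ))
        (cokernel.condition ((LocCohZ.sectSuppF U).map ((DD F).g k)))
  let e2 : (DD F).Q A k ≃+
      (cokernel ((LocCohZ.sectSuppF U).map ((DD F).g k))).obj.obj (op V) :=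
    (QuotientAddGroup.quotientAddEquivOfEq hΦker.symm).trans
      (QuotientAddGroup.quotientKerEquivOfSurjective Φ hΦsurj)
  exact ⟨e1.trans (e2.symm.trans e.symm)⟩

/-- the closed-support form on the whole space -/
theorem nonempty_sections_HZsh_equiv_HZc (d : ℕ)
    (h : ∀ i : ℕ, i < d → IsZero ((LocCohZ.HZsh U i).obj F)) :
    Nonempty (((LocCohZ.HZsh U d).obj F).obj.obj (op ⊤) ≃+ LocCohZ.HZc F d U) := by
  have key : ∀ (W : Opens X) (hW : W = U) (hle : W ≤ ⊤),
      Nonempty (LocCohZ.HZ F d hle ≃+ LocCohZ.HZc F d U) := by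
    intro W hW hle
    subst hW
    exact ⟨AddEquiv.refl _⟩
  obtain ⟨e2⟩ := key (⊤ ⊓ U) (top_inf_eq U) inf_le_left
  rcases d with _ | k
  · obtain ⟨e1⟩ := nonempty_sections_HZsh_zero_equiv U F ⊤
    exact ⟨e1.trans e2⟩
  · obtain ⟨e1⟩ := nonempty_sections_HZsh_succ_equiv U F k h ⊤
    exact ⟨e1.trans e2⟩

end Main

end Groth.Agent.Lib.Seat13.HZSect
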