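import Groth.Agent.Lib.Seat13HZAff
import Groth.Agent.Lib.Seat13HZDepth
import Groth.Agent.Lib.Seat13DepthTransport
import Groth.Agent.Lib.Helper2FlatOver
import Groth.Agent.Lib.Helper23FinType2
import Groth.Agent.Lib.Helper3EtGUSchC
import Groth.Agent.Lib.Helper28DepthMore
import Groth.Agent.S6026

/-!
# Cohomology with supports on an affine open of a locally Noetherian scheme and depth of the
stalks (helper13)
-/

set_option autoImplicit false
set_option backward.defeqAttrib.useBackward true
set_option backward.isDefEq.respectTransparency false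

namespace Groth.Agent.Lib.Seat13.HZStalk

open CategoryTheory CategoryTheory.Limits Opposite TopologicalSpace CohIII AlgebraicGeometry
open Groth.Agent.Lib.Seat13.CKGeom Groth.Agent.Lib.Seat13.CKGeom2
open Groth.Agent.Lib.Helper2.FlatOver

universe u

section List

variable (Y : Scheme.{u}) [IsAffine Y]

/-- every quasi-compact open of an affine scheme is a finite union of basic opens -/
theorem exists_list_unionOpen_eq (V : Y.Opens) (hV : IsCompact (V : Set Y)) :
    ∃ fs : List Γ(Y, ⊤), unionOpen Y fs = V := by
  classical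
  obtain ⟨κ, hκ, a, ha⟩ := (isBasis_basicOpen Y).exists_iSup_eq_of_isCompact V hV
  haveI := Fintype.ofFinite κ
  refine ⟨(Finset.univ : Finset κ).toList.map a, ?_⟩
  rw [ha]
  apply le_antisymm
  · refine iSup_le fun i => ?_
    have hmem := List.get_mem ((Finset.univ : Finset κ).toList.map a) i
    obtain ⟨k, -, hk⟩ := List.mem_map.1 hmem
    rw [← hk]
    exact le_iSup (fun k => Y.basicOpen (a k)) k
  · refine iSup_le fun k => ?_
    have hmem : a k ∈ (Finset.univ : Finset κ).toList.map a :=
      List.mem_map.2 ⟨k, Finset.mem_toList.2 (Finset.mem_univ k), rfl⟩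
    obtain ⟨i, hi⟩ := List.get_of_mem hmem
    rw [← hi]
    exact le_iSup (fun i : Fin ((Finset.univ : Finset κ).toList.map a).length =>
      Y.basicOpen (((Finset.univ : Finset κ).toList.map a).get i)) i

end List

section Stalk

variable {X : Scheme.{u}} (M : X.Modules) [M.IsQuasicoherent]

/-- depth of the stalk at a point of an affine open, computed on the sections -/
theorem depth_stalk_eq {W : X.Opens} (hW : IsAffineOpen W) (x : X) (hx : x ∈ W) :
    LocCoh.depth (Localization.AtPrime (hW.primeIdealOf ⟨x, hx⟩).asIdeal)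
      (LocalizedModule (hW.primeIdealOf ⟨x, hx⟩).asIdeal.primeCompl Γ(M, W)) =
    LocCoh.depth (X.presheaf.stalk x) (M.presheaf.stalk x) := by
  letI := X.presheaf.algebra_section_stalk ⟨x, hx⟩
  haveI := hW.isLocalization_stalk ⟨x, hx⟩
  letI := moduleStalkSections M W x hx
  haveI : IsScalarTower Γ(X, W) (X.presheaf.stalk x) (M.presheaf.stalk x) :=
    ⟨fun a b y => by
      change (X.presheaf.germ W x hx a * b) • y = X.presheaf.germ W x hx a • (b • y)
      rw [mul_smul]⟩
  haveI := isLocalizedModule_germ hW M x hx
  exact Groth.Agent.Lib.Seat13.DepthTransport.depth_localization_eq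
    (hW.primeIdealOf ⟨x, hx⟩).asIdeal Γ(M, W) (X.presheaf.stalk x) (M.presheaf.stalk x)
    (germₗ M W x hx)

end Stalk

end Groth.Agent.Lib.Seat13.HZStalk
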