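import Groth.Agent.Lib.Seat13KzSwap
import Groth.Agent.Lib.Helper13KzTor
import Groth.Agent.S11917
import Mathlib.Algebra.Homology.DerivedCategory.TStructure
import Mathlib.Algebra.Homology.DerivedCategory.Linear

/-!
# Koszul complexes in the derived category (seat 13)

* `nonempty_Q_cone_iso`: cones of a scalar on isomorphic objects of `D(A)` are isomorphic;
* `nonempty_Q_koszulCx_iso_single`: for `m` Koszul-regular, `K(m; A) ≅ A/(m)[0]` in `D(A)`;
* `isZero_homology_koszulCx_quot`: `H^i(K(g ++ m; A)) = 0` implies `H^i(K(g; A/(m))) = 0`.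
-/

set_option autoImplicit false
set_option backward.defeqAttrib.useBackward true
set_option backward.isDefEq.respectTransparency false

universe w u

open CategoryTheory Limits CochainComplex HomComplex CohIII DerivedCategory Pretriangulated

namespace Groth.Agent.Lib.Seat13.KzDer

variable {A : Type u} [CommRing A] [HasDerivedCategory.{w} (ModuleCat.{u} A)]

/-- cones of a scalar on quasi-isomorphic complexes are quasi-isomorphic (in the derived
category) -/
theorem nonempty_Q_cone_iso {K K' : CochainComplex (ModuleCat.{u} A) ℤ}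
    (e : Q.obj K ≅ Q.obj K') (a : A) :
    Nonempty (Q.obj (mappingCone (a • 𝟙 K)) ≅ Q.obj (mappingCone (a • 𝟙 K'))) := by
  have hT := mappingCone_triangle_distinguished (a • 𝟙 K)
  have hT' := mappingCone_triangle_distinguished (a • 𝟙 K')
  have comm : (Q.mapTriangle.obj (mappingCone.triangle (a • 𝟙 K))).mor₁ ≫ e.hom =
      e.hom ≫ (Q.mapTriangle.obj (mappingCone.triangle (a • 𝟙 K'))).mor₁ := by
    show Q.map (a • 𝟙 K) ≫ e.hom = e.hom ≫ Q.map (a • 𝟙 K')
    rw [Functor.map_smul, Functor.map_smul, CategoryTheory.Functor.map_id,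
      CategoryTheory.Functor.map_id, Linear.smul_comp,
      Linear.comp_smul, Category.id_comp, Category.comp_id]
  exact ⟨Triangle.π₃.mapIso (isoTriangleOfIso₁₂ _ _ hT hT' e e comm)⟩

theorem nonempty_Q_koszulCx_append_iso {M M' : ModuleCat.{u} A} {m m' : List A}
    (e : Q.obj (koszulCx M m) ≅ Q.obj (koszulCx M' m')) :
    ∀ g : List A, Nonempty (Q.obj (koszulCx M (g ++ m)) ≅ Q.obj (koszulCx M' (g ++ m')))
  | [] => ⟨e⟩
  | x :: g => by
    obtain ⟨e'⟩ := nonempty_Q_koszulCx_append_iso e g
    exact nonempty_Q_cone_iso e' x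

/-- a Koszul-regular sequence: the Koszul complex is a resolution of the quotient, in the derived
category -/
theorem nonempty_Q_koszulCx_iso_single (m : List A)
    (hm : ∀ i : ℤ, i ≠ 0 → IsZero ((koszulCx (ModuleCat.of A A) m).homology i)) :
    Nonempty (Q.obj (koszulCx (ModuleCat.of A A) m) ≅
      Q.obj (koszulCx (ModuleCat.of A (A ⧸ Ideal.ofList m)) [])) := by
  have hGE : (koszulCx (ModuleCat.of A A) m).IsGE 0 := by
    rw [CochainComplex.isGE_iff]
    intro i hi
    rw [HomologicalComplex.exactAt_iff_isZero_homology]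
    exact hm i (by omega)
  have hLE : (koszulCx (ModuleCat.of A A) m).IsLE 0 := by
    rw [CochainComplex.isLE_iff]
    intro i hi
    rw [HomologicalComplex.exactAt_iff_isZero_homology]
    exact hm i (by omega)
  obtain ⟨Y, ⟨e⟩⟩ := exists_iso_singleFunctor_obj_of_isGE_of_isLE
    (Q.obj (koszulCx (ModuleCat.of A A) m)) 0
  obtain ⟨e5⟩ := Groth.Agent.S11917.main (A := A) A m
  have h0 : Ideal.ofList m • (⊤ : Submodule A A) = Ideal.ofList m := by simp
  have eY : Y ≅ ModuleCat.of A (A ⧸ Ideal.ofList m) :=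
    (HomologicalComplex.singleObjHomologySelfIso (ComplexShape.up ℤ) 0 Y).symm ≪≫
      ((homologyFunctorFactors (ModuleCat.{u} A) 0).app
        ((HomologicalComplex.single _ (ComplexShape.up ℤ) 0).obj Y)).symm ≪≫
      ((homologyFunctor (ModuleCat.{u} A) 0).mapIso e).symm ≪≫
      (homologyFunctorFactors (ModuleCat.{u} A) 0).app (koszulCx (ModuleCat.of A A) m) ≪≫
      (e5.trans (Submodule.quotEquivOfEq _ _ h0)).toModuleIso
  exact ⟨e ≪≫ (DerivedCategory.singleFunctor (ModuleCat.{u} A) 0).mapIso eY⟩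

/-- If `m` and `g ++ m` are Koszul-regular then `g` is Koszul-regular on `A/(m)`. -/
theorem isZero_homology_koszulCx_quot (g m : List A)
    (hm : ∀ i : ℤ, i ≠ 0 → IsZero ((koszulCx (ModuleCat.of A A) m).homology i))
    (i : ℤ) (hgm : IsZero ((koszulCx (ModuleCat.of A A) (g ++ m)).homology i)) :
    IsZero ((koszulCx (ModuleCat.of A (A ⧸ Ideal.ofList m)) g).homology i) := by
  obtain ⟨e⟩ := nonempty_Q_koszulCx_iso_single m hm
  obtain ⟨e'⟩ := nonempty_Q_koszulCx_append_iso e g
  rw [List.append_nil] at e'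
  have e'' := ((homologyFunctorFactors (ModuleCat.{u} A) i).app
      (koszulCx (ModuleCat.of A A) (g ++ m))).symm ≪≫
    (homologyFunctor (ModuleCat.{u} A) i).mapIso e' ≪≫
    (homologyFunctorFactors (ModuleCat.{u} A) i).app
      (koszulCx (ModuleCat.of A (A ⧸ Ideal.ofList m)) g)
  exact IsZero.of_iso hgm e''.symm

end Groth.Agent.Lib.Seat13.KzDer
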