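import Groth.Agent.Lib.Helper21KoszulDepth
import Groth.Prelude.Def_CAlgX

/-!
# Koszul complex (iterated cones) in degrees `-2, -1, 0` and `H_1`-regularity (seat 13)

`h1Regular_of_exact`: if the iterated-cone Koszul complex `CohIII.koszulCx A l` is exact in degree
`-1`, then `l.get` is `H_1`-regular in the explicit sense `CAlgX.IsH1Regular`.
-/

set_option autoImplicit false
set_option backward.defeqAttrib.useBackward true
set_option backward.isDefEq.respectTransparency false

universe u

open CategoryTheory Limits CochainComplex HomComplex CohIII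

namespace Groth.Agent.Lib.Seat13.KzH1

variable {A : Type u} [CommRing A]

section Cone

variable {K L : CochainComplex (ModuleCat.{u} A) ℤ} (φ : K ⟶ L)

/-- first component with flexible indices -/
noncomputable def fstL (i j : ℤ) (h : i + 1 = j) : (mappingCone φ).X i →ₗ[A] K.X j :=
  ((mappingCone.fst φ).1.v i j h).hom

/-- second component -/
noncomputable def sndL (i : ℤ) : (mappingCone φ).X i →ₗ[A] L.X i :=
  ((mappingCone.snd φ).v i i (add_zero i)).hom

/-- first inclusion with flexible indices -/
noncomputable def inlL (i j : ℤ) (h : i + 1 = j) : K.X j →ₗ[A] (mappingCone φ).X i :=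
  ((mappingCone.inl φ).v j i (by omega)).hom

/-- second inclusion -/
noncomputable def inrL (i : ℤ) : L.X i →ₗ[A] (mappingCone φ).X i :=
  ((mappingCone.inr φ).f i).hom

lemma fstL_inlL (i j : ℤ) (h : i + 1 = j) (x : K.X j) : fstL φ i j h (inlL φ i j h x) = x := by
  have := mappingCone.inl_v_fst_v φ j i (by omega)
  exact congr($(this).hom x)

lemma fstL_inrL (i j : ℤ) (h : i + 1 = j) (y : L.X i) : fstL φ i j h (inrL φ i y) = 0 := by
  have := mappingCone.inr_f_fst_v φ i j h
  exact congr($(this).hom y)

lemma sndL_inlL (i j : ℤ) (h : i + 1 = j) (x : K.X j) : sndL φ i (inlL φ i j h x) = 0 := by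
  have := mappingCone.inl_v_snd_v φ j i (by omega)
  exact congr($(this).hom x)

lemma sndL_inrL (i : ℤ) (y : L.X i) : sndL φ i (inrL φ i y) = y := by
  have := mappingCone.inr_f_snd_v φ i
  exact congr($(this).hom y)

lemma decomp (i j : ℤ) (h : i + 1 = j) (z : (mappingCone φ).X i) :
    inlL φ i j h (fstL φ i j h z) + inrL φ i (sndL φ i z) = z := by
  have := mappingCone.id_X φ i j h
  exact congr($(this).hom z)

lemma fstL_d (i j k : ℤ) (hij : i + 1 = j) (hjk : j + 1 = k) (z : (mappingCone φ).X i) :
    fstL φ j k hjk (((mappingCone φ).d i j).hom z) = -(K.d j k).hom (fstL φ i j hij z) := by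
  have := mappingCone.d_fst_v φ i j k hij hjk
  have h2 := congr($(this).hom z)
  simpa [fstL] using h2

lemma sndL_d (i j : ℤ) (hij : i + 1 = j) (z : (mappingCone φ).X i) :
    sndL φ j (((mappingCone φ).d i j).hom z) =
      (φ.f j).hom (fstL φ i j hij z) + (L.d i j).hom (sndL φ i z) := by
  have := mappingCone.d_snd_v φ i j hij
  have h2 := congr($(this).hom z)
  simpa [fstL, sndL] using h2

end Cone

section Triv

/-- the submodule of trivial relations, as in `CAlgX.IsH1Regular` -/
def triv {c : ℕ} (f : Fin c → A) : Submodule A (Fin c → A) :=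
  Submodule.span A {v : Fin c → A | ∃ i j : Fin c, v = Pi.single i (f j) - Pi.single j (f i)}

/-- prepend a zero coordinate -/
def consZero (c : ℕ) : (Fin c → A) →ₗ[A] (Fin (c + 1) → A) where
  toFun t := Fin.cons 0 t
  map_add' a b := by
    funext i
    refine Fin.cases ?_ (fun k => ?_) i <;> simp
  map_smul' r a := by
    funext i
    refine Fin.cases ?_ (fun k => ?_) i <;> simp

lemma consZero_single (c : ℕ) (i : Fin c) (a : A) :
    consZero c (Pi.single i a) = Pi.single i.succ a := by
  funext k
  refine Fin.cases ?_ (fun k => ?_) k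
  · simp [consZero]
  · simp only [consZero, LinearMap.coe_mk, AddHom.coe_mk, Fin.cons_succ, Pi.single_apply,
      Fin.succ_inj]

lemma consZero_mem_triv {c : ℕ} (a : A) (f : Fin c → A) (t : Fin c → A) (ht : t ∈ triv f) :
    consZero c t ∈ triv (Fin.cons a f : Fin (c + 1) → A) := by
  have : Submodule.map (consZero c) (triv f) ≤ triv (Fin.cons a f : Fin (c + 1) → A) := by
    unfold triv
    rw [Submodule.map_span]
    apply Submodule.span_mono
    rintro _ ⟨v, ⟨i, j, rfl⟩, rfl⟩
    refine ⟨i.succ, j.succ, ?_⟩
    rw [map_sub, consZero_single, consZero_single, Fin.cons_succ, Fin.cons_succ]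
  exact this ⟨t, ht, rfl⟩

lemma key_mem_triv {c : ℕ} (a : A) (f : Fin c → A) (x t : Fin c → A) (ht : t ∈ triv f) :
    (Fin.cons (-(∑ i, x i * f i)) (a • x + t) : Fin (c + 1) → A) ∈
      triv (Fin.cons a f : Fin (c + 1) → A) := by
  have h1 : (Fin.cons (-(∑ i, x i * f i)) (a • x + t) : Fin (c + 1) → A) =
      ∑ i, x i • (Pi.single i.succ a - Pi.single 0 (f i) : Fin (c + 1) → A) + consZero c t := by
    funext k
    refine Fin.cases ?_ (fun k => ?_) k
    · simp [consZero, Finset.sum_apply, Fin.succ_ne_zero]
    · simp only [Fin.cons_succ, Pi.add_apply, Pi.smul_apply, smul_eq_mul, consZero,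
        LinearMap.coe_mk, AddHom.coe_mk, Finset.sum_apply, Pi.sub_apply, Pi.single_apply,
        Fin.succ_inj]
      rw [Finset.sum_eq_single k]
      · simp [Fin.succ_ne_zero, mul_comm]
      · intro b _ hb
        simp [Fin.succ_ne_zero, hb.symm]
      · intro h
        exact absurd (Finset.mem_univ k) h
  rw [h1]
  refine Submodule.add_mem _ (Submodule.sum_mem _ fun i _ => Submodule.smul_mem _ _ ?_)
    (consZero_mem_triv a f t ht)
  refine Submodule.subset_span ⟨i.succ, 0, ?_⟩
  rw [Fin.cons_zero, Fin.cons_succ]

end Triv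

section Low

/-- Explicit description of the Koszul complex in degrees `0` and `-1`, with the image of the
differential from degree `-2` consisting of trivial relations. -/
structure LowData (l : List A) where
  /-- degree `0` is `A` -/
  e0 : (koszulCx (ModuleCat.of A A) l).X 0 ≃ₗ[A] A
  /-- degree `-1` is `A^n` -/
  e1 : (koszulCx (ModuleCat.of A A) l).X (-1) ≃ₗ[A] (Fin l.length → A)
  hd : ∀ y, e0 (((koszulCx (ModuleCat.of A A) l).d (-1) 0).hom y) = ∑ i, e1 y i * l.get i
  htriv : ∀ z, e1 (((koszulCx (ModuleCat.of A A) l).d (-2) (-1)).hom z) ∈ triv l.get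

omit [CommRing A] in
lemma get_cons_eq (f : A) (fs : List A) :
    (f :: fs).get = (Fin.cons f fs.get : Fin (fs.length + 1) → A) := by
  funext i
  refine Fin.cases ?_ (fun k => ?_) i
  · rfl
  · rfl

theorem nonempty_lowData : ∀ l : List A, Nonempty (LowData l)
  | [] => by
    have h1 : Subsingleton ((koszulCx (ModuleCat.of A A) ([] : List A)).X (-1)) :=
      ModuleCat.subsingleton_of_isZero
        (HomologicalComplex.isZero_single_obj_X (ComplexShape.up ℤ) 0 _ (-1) (by decide))
    have h2 : Subsingleton (Fin ([] : List A).length → A) := by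
      simp only [List.length_nil]
      infer_instance
    refine ⟨{
      e0 := (HomologicalComplex.singleObjXSelf (ComplexShape.up ℤ) 0
        (ModuleCat.of A A)).toLinearEquiv
      e1 := { toFun := fun _ => 0
              map_add' := fun _ _ => Subsingleton.elim _ _
              map_smul' := fun _ _ => Subsingleton.elim _ _
              invFun := fun _ => 0
              left_inv := fun x => Subsingleton.elim _ _
              right_inv := fun x => Subsingleton.elim _ _ }
      hd := ?_
      htriv := ?_ }⟩
    · intro y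
      rw [Subsingleton.elim y 0]
      simp
    · intro z
      exact Submodule.zero_mem _
  | f :: fs => by
    obtain ⟨D⟩ := nonempty_lowData fs
    let K := koszulCx (ModuleCat.of A A) fs
    let φ : K ⟶ K := f • 𝟙 K
    have hφ : ∀ (j : ℤ) (x : K.X j), (φ.f j).hom x = f • x := fun j x => rfl
    have hX1 : Subsingleton (K.X 1) :=
      ModuleCat.subsingleton_of_isZero (Groth.Agent.Lib.Helper21.isZero_koszulCx_X_pos _ fs 1
        (by decide))
    have h01 : (0 : ℤ) + 1 = 1 := by decide
    have h10 : (-1 : ℤ) + 1 = 0 := by decide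
    have h21 : (-2 : ℤ) + 1 = -1 := by decide
    let e0' : (mappingCone φ).X 0 ≃ₗ[A] A :=
      { toFun := fun z => D.e0 (sndL φ 0 z)
        map_add' := fun a b => by simp
        map_smul' := fun r a => by simp
        invFun := fun a => inrL φ 0 (D.e0.symm a)
        left_inv := fun z => by
          show inrL φ 0 (D.e0.symm (D.e0 (sndL φ 0 z))) = z
          rw [LinearEquiv.symm_apply_apply]
          have h := decomp φ 0 1 h01 z
          rw [Subsingleton.elim (fstL φ 0 1 h01 z) 0, map_zero, zero_add] at h
          exact h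
        right_inv := fun a => by
          show D.e0 (sndL φ 0 (inrL φ 0 (D.e0.symm a))) = a
          rw [sndL_inrL, LinearEquiv.apply_symm_apply] }
    let e1' : (mappingCone φ).X (-1) ≃ₗ[A] (Fin (fs.length + 1) → A) :=
      { toFun := fun z => Fin.cons (D.e0 (fstL φ (-1) 0 h10 z)) (D.e1 (sndL φ (-1) z))
        map_add' := fun a b => by
          funext i
          refine Fin.cases ?_ (fun k => ?_) i <;> simp
        map_smul' := fun r a => by
          funext i
          refine Fin.cases ?_ (fun k => ?_) i <;> simp
        invFun := fun v => inlL φ (-1) 0 h10 (D.e0.symm (v 0)) + inrL φ (-1) (D.e1.symm (Fin.tail v))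
        left_inv := fun z => by
          simp only [Fin.cons_zero, Fin.tail_cons, LinearEquiv.symm_apply_apply]
          exact decomp φ (-1) 0 h10 z
        right_inv := fun v => by
          simp only [map_add, fstL_inlL, fstL_inrL, sndL_inlL, sndL_inrL, add_zero, zero_add,
            LinearEquiv.apply_symm_apply]
          exact Fin.cons_self_tail v }
    refine ⟨{ e0 := e0', e1 := e1', hd := ?_, htriv := ?_ }⟩
    · intro y
      show D.e0 (sndL φ 0 (((mappingCone φ).d (-1) 0).hom y)) = _
      rw [sndL_d φ (-1) 0 h10, hφ, map_add, map_smul, D.hd, get_cons_eq]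
      show _ = ∑ i : Fin (fs.length + 1), e1' y i * (Fin.cons f fs.get : Fin (fs.length + 1) → A) i
      rw [Fin.sum_univ_succ]
      simp only [Fin.cons_zero, Fin.cons_succ, smul_eq_mul]
      congr 1
      · show f * _ = (Fin.cons (D.e0 (fstL φ (-1) 0 h10 y)) (D.e1 (sndL φ (-1) y)) :
          Fin (fs.length + 1) → A) 0 * f
        rw [Fin.cons_zero, mul_comm]
    · intro z
      show (Fin.cons (D.e0 (fstL φ (-1) 0 h10 (((mappingCone φ).d (-2) (-1)).hom z)))
        (D.e1 (sndL φ (-1) (((mappingCone φ).d (-2) (-1)).hom z))) : Fin (fs.length + 1) → A) ∈ _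
      rw [fstL_d φ (-2) (-1) 0 h21 h10, sndL_d φ (-2) (-1) h21, hφ, map_neg, D.hd, map_add,
        map_smul, get_cons_eq]
      exact key_mem_triv f fs.get _ _ (D.htriv _)

/-- Exactness of the Koszul complex in degree `-1` gives `H_1`-regularity. -/
theorem h1Regular_of_isZero_homology (l : List A)
    (h : IsZero ((koszulCx (ModuleCat.of A A) l).homology (-1))) : CAlgX.IsH1Regular l.get := by
  obtain ⟨D⟩ := nonempty_lowData l
  intro a ha
  rw [← HomologicalComplex.exactAt_iff_isZero_homology] at h
  have hex := (HomologicalComplex.exactAt_iff' _ (-2) (-1) 0 (by simp) (by simp)).mp h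
  rw [ShortComplex.moduleCat_exact_iff] at hex
  have hy : ((koszulCx (ModuleCat.of A A) l).d (-1) 0).hom (D.e1.symm a) = 0 := by
    apply D.e0.injective
    rw [D.hd, LinearEquiv.apply_symm_apply, map_zero]
    exact ha
  obtain ⟨z, hz⟩ := hex (D.e1.symm a) hy
  have := D.htriv z
  have hz' : ((koszulCx (ModuleCat.of A A) l).d (-2) (-1)).hom z = D.e1.symm a := hz
  rw [hz', LinearEquiv.apply_symm_apply] at this
  exact this

end Low

end Groth.Agent.Lib.Seat13.KzH1
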