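import Groth.Agent.Lib.Seat13KzH1
import Groth.Agent.Lib.Helper13Kz

/-!
# Swapping two cones, and permutation invariance of the iterated-cone Koszul complex (seat 13)

* `swapIso K a b : cone(a | cone(b | K)) ≅ cone(b | cone(a | K))`;
* `koszulCx_perm_iso`: `koszulCx M l ≅ koszulCx M l'` for `l ~ l'`.
-/

set_option autoImplicit false
set_option backward.defeqAttrib.useBackward true
set_option backward.isDefEq.respectTransparency false

universe u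

open CategoryTheory Limits CochainComplex HomComplex CohIII

namespace Groth.Agent.Lib.Seat13.KzSwap

open Groth.Agent.Lib.Seat13.KzH1

variable {A : Type u} [CommRing A]

section Swap

variable (K : CochainComplex (ModuleCat.{u} A) ℤ) (a b : A)

/-- the inner cone -/
noncomputable abbrev C1 : CochainComplex (ModuleCat.{u} A) ℤ := mappingCone (b • 𝟙 K)

/-- the double cone `cone(a | cone(b | K))` -/
noncomputable abbrev C2 : CochainComplex (ModuleCat.{u} A) ℤ := mappingCone (a • 𝟙 (C1 K b))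

variable {K a b}

lemma smul_f_apply (L : CochainComplex (ModuleCat.{u} A) ℤ) (c : A) (j : ℤ) (x : L.X j) :
    ((c • 𝟙 L : L ⟶ L).f j).hom x = c • x := rfl

/-- coordinate in `K^{n+2}` -/
noncomputable def P1 (n n1 n2 : ℤ) (h1 : n + 1 = n1) (h2 : n1 + 1 = n2) :
    (C2 K a b).X n →ₗ[A] K.X n2 :=
  fstL (b • 𝟙 K) n1 n2 h2 ∘ₗ fstL (a • 𝟙 (C1 K b)) n n1 h1

/-- coordinate in `K^{n+1}` (outer first, inner second) -/
noncomputable def P2 (n n1 : ℤ) (h1 : n + 1 = n1) : (C2 K a b).X n →ₗ[A] K.X n1 :=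
  sndL (b • 𝟙 K) n1 ∘ₗ fstL (a • 𝟙 (C1 K b)) n n1 h1

/-- coordinate in `K^{n+1}` (outer second, inner first) -/
noncomputable def P3 (n n1 : ℤ) (h1 : n + 1 = n1) : (C2 K a b).X n →ₗ[A] K.X n1 :=
  fstL (b • 𝟙 K) n n1 h1 ∘ₗ sndL (a • 𝟙 (C1 K b)) n

/-- coordinate in `K^n` -/
noncomputable def P4 (n : ℤ) : (C2 K a b).X n →ₗ[A] K.X n :=
  sndL (b • 𝟙 K) n ∘ₗ sndL (a • 𝟙 (C1 K b)) n

/-- assemble an element from its coordinates -/
noncomputable def Q (n n1 n2 : ℤ) (h1 : n + 1 = n1) (h2 : n1 + 1 = n2)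
    (x1 : K.X n2) (y1 : K.X n1) (x2 : K.X n1) (y2 : K.X n) : (C2 K a b).X n :=
  inlL (a • 𝟙 (C1 K b)) n n1 h1 (inlL (b • 𝟙 K) n1 n2 h2 x1 + inrL (b • 𝟙 K) n1 y1) +
    inrL (a • 𝟙 (C1 K b)) n (inlL (b • 𝟙 K) n n1 h1 x2 + inrL (b • 𝟙 K) n y2)

section coords

variable (n n1 n2 : ℤ) (h1 : n + 1 = n1) (h2 : n1 + 1 = n2)
  (x1 : K.X n2) (y1 : K.X n1) (x2 : K.X n1) (y2 : K.X n)

lemma P1_Q : P1 n n1 n2 h1 h2 (Q (a := a) (b := b) n n1 n2 h1 h2 x1 y1 x2 y2) = x1 := by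
  simp [P1, Q, fstL_inlL, fstL_inrL]

lemma P2_Q : P2 n n1 h1 (Q (a := a) (b := b) n n1 n2 h1 h2 x1 y1 x2 y2) = y1 := by
  simp [P2, Q, fstL_inlL, fstL_inrL, sndL_inlL, sndL_inrL]

lemma P3_Q : P3 n n1 h1 (Q (a := a) (b := b) n n1 n2 h1 h2 x1 y1 x2 y2) = x2 := by
  simp [P3, Q, fstL_inlL, fstL_inrL, sndL_inlL, sndL_inrL]

lemma P4_Q : P4 n (Q (a := a) (b := b) n n1 n2 h1 h2 x1 y1 x2 y2) = y2 := by
  simp [P4, Q, sndL_inlL, sndL_inrL]

lemma Q_P (z : (C2 K a b).X n) :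
    Q n n1 n2 h1 h2 (P1 n n1 n2 h1 h2 z) (P2 n n1 h1 z) (P3 n n1 h1 z) (P4 n z) = z := by
  simp only [Q, P1, P2, P3, P4, LinearMap.comp_apply]
  rw [decomp (b • 𝟙 K) n1 n2 h2, decomp (b • 𝟙 K) n n1 h1, decomp (a • 𝟙 (C1 K b)) n n1 h1]

lemma ext4 {z z' : (C2 K a b).X n} (e1 : P1 n n1 n2 h1 h2 z = P1 n n1 n2 h1 h2 z')
    (e2 : P2 n n1 h1 z = P2 n n1 h1 z') (e3 : P3 n n1 h1 z = P3 n n1 h1 z')
    (e4 : P4 n z = P4 n z') : z = z' := by
  rw [← Q_P n n1 n2 h1 h2 z, ← Q_P n n1 n2 h1 h2 z', e1, e2, e3, e4]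

end coords

section diff

variable (n n1 n2 n3 : ℤ) (h1 : n + 1 = n1) (h2 : n1 + 1 = n2) (h3 : n2 + 1 = n3)
  (z : (C2 K a b).X n)

lemma P1_d : P1 n1 n2 n3 h2 h3 (((C2 K a b).d n n1).hom z) =
    (K.d n2 n3).hom (P1 n n1 n2 h1 h2 z) := by
  simp only [P1, LinearMap.comp_apply]
  rw [fstL_d (a • 𝟙 (C1 K b)) n n1 n2 h1 h2, map_neg, fstL_d (b • 𝟙 K) n1 n2 n3 h2 h3, neg_neg]

lemma P2_d : P2 n1 n2 h2 (((C2 K a b).d n n1).hom z) =
    -(b • P1 n n1 n2 h1 h2 z + (K.d n1 n2).hom (P2 n n1 h1 z)) := by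
  simp only [P1, P2, LinearMap.comp_apply]
  rw [fstL_d (a • 𝟙 (C1 K b)) n n1 n2 h1 h2, map_neg, sndL_d (b • 𝟙 K) n1 n2 h2, smul_f_apply]

lemma P3_d : P3 n1 n2 h2 (((C2 K a b).d n n1).hom z) =
    a • P1 n n1 n2 h1 h2 z - (K.d n1 n2).hom (P3 n n1 h1 z) := by
  simp only [P1, P3, LinearMap.comp_apply]
  rw [sndL_d (a • 𝟙 (C1 K b)) n n1 h1, map_add, smul_f_apply, map_smul,
    fstL_d (b • 𝟙 K) n n1 n2 h1 h2, sub_eq_add_neg]

lemma P4_d : P4 n1 (((C2 K a b).d n n1).hom z) =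
    a • P2 n n1 h1 z + b • P3 n n1 h1 z + (K.d n n1).hom (P4 n z) := by
  simp only [P2, P3, P4, LinearMap.comp_apply]
  rw [sndL_d (a • 𝟙 (C1 K b)) n n1 h1, map_add, smul_f_apply, map_smul,
    sndL_d (b • 𝟙 K) n n1 h1, smul_f_apply, add_assoc]

end diff

/-- the swap in degree `n` -/
noncomputable def swapL (n : ℤ) : (C2 K a b).X n →ₗ[A] (C2 K b a).X n where
  toFun z := Q n (n + 1) (n + 1 + 1) rfl rfl (-(P1 n (n + 1) (n + 1 + 1) rfl rfl z))
    (P3 n (n + 1) rfl z) (P2 n (n + 1) rfl z) (P4 n z)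
  map_add' z z' := by
    apply ext4 n (n + 1) (n + 1 + 1) rfl rfl <;>
      simp only [map_add, P1_Q, P2_Q, P3_Q, P4_Q, neg_add]
  map_smul' r z := by
    apply ext4 n (n + 1) (n + 1 + 1) rfl rfl <;>
      simp only [map_smul, P1_Q, P2_Q, P3_Q, P4_Q, smul_neg, RingHom.id_apply]

section swapcoords

variable (n n1 n2 : ℤ) (h1 : n + 1 = n1) (h2 : n1 + 1 = n2) (z : (C2 K a b).X n)

lemma P1_swapL : P1 n n1 n2 h1 h2 (swapL n z) = -(P1 n n1 n2 h1 h2 z) := by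
  subst h1 h2
  simp only [swapL, LinearMap.coe_mk, AddHom.coe_mk, P1_Q]

lemma P2_swapL : P2 n n1 h1 (swapL n z) = P3 n n1 h1 z := by
  subst h1
  simp only [swapL, LinearMap.coe_mk, AddHom.coe_mk, P2_Q]

lemma P3_swapL : P3 n n1 h1 (swapL n z) = P2 n n1 h1 z := by
  subst h1
  simp only [swapL, LinearMap.coe_mk, AddHom.coe_mk, P3_Q]

lemma P4_swapL : P4 n (swapL n z) = P4 n z := by
  simp only [swapL, LinearMap.coe_mk, AddHom.coe_mk, P4_Q]

end swapcoords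

variable (K a b) in
/-- the swap as a chain map -/
noncomputable def swapHom : C2 K a b ⟶ C2 K b a where
  f n := ModuleCat.ofHom (swapL n)
  comm' i j hij := by
    have hij' : i + 1 = j := hij
    subst hij'
    ext z
    show ((C2 K b a).d i (i + 1)).hom (swapL i z) =
      swapL (i + 1) (((C2 K a b).d i (i + 1)).hom z)
    symm
    apply ext4 (i + 1) (i + 1 + 1) (i + 1 + 1 + 1) rfl rfl
    · rw [P1_swapL, P1_d i (i + 1) (i + 1 + 1) (i + 1 + 1 + 1) rfl rfl rfl,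
        P1_d i (i + 1) (i + 1 + 1) (i + 1 + 1 + 1) rfl rfl rfl, P1_swapL, map_neg]
    · rw [P2_swapL, P3_d i (i + 1) (i + 1 + 1) rfl rfl,
        P2_d i (i + 1) (i + 1 + 1) rfl rfl, P1_swapL, P2_swapL]
      simp only [smul_neg, neg_add, neg_neg]
      abel
    · rw [P3_swapL, P2_d i (i + 1) (i + 1 + 1) rfl rfl,
        P3_d i (i + 1) (i + 1 + 1) rfl rfl, P1_swapL, P3_swapL]
      simp only [smul_neg, neg_add]
      abel
    · rw [P4_swapL, P4_d i (i + 1) rfl, P4_d i (i + 1) rfl, P2_swapL, P3_swapL, P4_swapL]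
      abel

lemma swapHom_comp : swapHom K a b ≫ swapHom K b a = 𝟙 _ := by
  ext n z
  show swapL n (swapL n z) = z
  apply ext4 n (n + 1) (n + 1 + 1) rfl rfl
  · rw [P1_swapL, P1_swapL, neg_neg]
  · rw [P2_swapL, P3_swapL]
  · rw [P3_swapL, P2_swapL]
  · rw [P4_swapL, P4_swapL]

variable (K a b) in
/-- `cone(a | cone(b | K)) ≅ cone(b | cone(a | K))` -/
noncomputable def swapIso : C2 K a b ≅ C2 K b a where
  hom := swapHom K a b
  inv := swapHom K b a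
  hom_inv_id := swapHom_comp
  inv_hom_id := swapHom_comp

end Swap

section Perm

open Groth.Agent.Helper13Kz

/-- the iterated-cone Koszul complex does not depend on the order of the sequence, up to
isomorphism -/
theorem nonempty_koszulCx_iso_of_perm (M : ModuleCat.{u} A) {l l' : List A} (h : l.Perm l') :
    Nonempty (koszulCx M l ≅ koszulCx M l') := by
  induction h with
  | nil => exact ⟨Iso.refl _⟩
  | cons x _ ih =>
    obtain ⟨e⟩ := ih
    exact ⟨coneIso e x⟩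
  | swap x y l => exact ⟨swapIso (koszulCx M l) y x⟩
  | trans _ _ ih1 ih2 =>
    obtain ⟨e1⟩ := ih1
    obtain ⟨e2⟩ := ih2
    exact ⟨e1 ≪≫ e2⟩

theorem isZero_homology_of_perm (M : ModuleCat.{u} A) {l l' : List A} (h : l.Perm l') (i : ℤ)
    (hz : IsZero ((koszulCx M l).homology i)) : IsZero ((koszulCx M l').homology i) := by
  obtain ⟨e⟩ := nonempty_koszulCx_iso_of_perm M h
  exact IsZero.of_iso hz ((HomologicalComplex.homologyFunctor _ _ i).mapIso e).symm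

end Perm

end Groth.Agent.Lib.Seat13.KzSwap
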