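import Groth.Prelude.Def_CAlgX
import Mathlib.RingTheory.MvPolynomial.Homogeneous
import Mathlib.LinearAlgebra.Quotient.Pi
import Mathlib.Algebra.Order.Antidiag.Finsupp

/-!
# Graded pieces of the ideal of a quasi-regular sequence are free over the quotient (seat 13)

`nonempty_gr_equiv`: for a quasi-regular sequence `f` generating `J`, the `A`-module `Jⁿ/Jⁿ⁺¹` is
a finite product of copies of `A/J`.
-/

set_option autoImplicit false

universe u

open MvPolynomial

namespace Groth.Agent.Lib.Seat13.QRegGr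

variable {A : Type u} [CommRing A] {c : ℕ} (f : Fin c → A)

/-- exponent vectors of total degree `n` -/
abbrev D (c n : ℕ) : Type :=
  {d : Fin c →₀ ℕ // d ∈ Finset.finsuppAntidiag (Finset.univ : Finset (Fin c)) n}

lemma degree_of_mem {n : ℕ} (d : D c n) : d.1.degree = n := by
  have := d.2
  rw [Finset.mem_finsuppAntidiag] at this
  rw [Finsupp.degree_eq_sum]
  exact this.1

lemma mem_of_degree {n : ℕ} (d : Fin c →₀ ℕ) (hd : d.degree = n) :
    d ∈ Finset.finsuppAntidiag (Finset.univ : Finset (Fin c)) n := by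
  rw [Finset.mem_finsuppAntidiag]
  rw [Finsupp.degree_eq_sum] at hd
  exact ⟨hd, Finset.subset_univ _⟩

/-- the homogeneous polynomial with prescribed coefficients -/
noncomputable def polyOfL (n : ℕ) : (D c n → A) →ₗ[A] MvPolynomial (Fin c) A :=
  ∑ d : D c n, (monomial d.1 : A →ₗ[A] MvPolynomial (Fin c) A) ∘ₗ LinearMap.proj d

lemma polyOfL_apply {n : ℕ} (v : D c n → A) : polyOfL n v = ∑ d : D c n, monomial d.1 (v d) := by
  simp [polyOfL]

lemma polyOfL_homog {n : ℕ} (v : D c n → A) : (polyOfL n v).IsHomogeneous n := by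
  rw [polyOfL_apply]
  exact IsHomogeneous.sum _ _ _ fun d _ => isHomogeneous_monomial _ (degree_of_mem d)

lemma coeff_polyOfL {n : ℕ} (v : D c n → A) (d' : Fin c →₀ ℕ) :
    coeff d' (polyOfL n v) =
      if h : d' ∈ Finset.finsuppAntidiag (Finset.univ : Finset (Fin c)) n then v ⟨d', h⟩ else 0 := by
  classical
  rw [polyOfL_apply, coeff_sum]
  simp only [coeff_monomial]
  split_ifs with h
  · rw [Finset.sum_eq_single ⟨d', h⟩]
    · simp
    · intro b _ hb
      rw [if_neg]
      intro hbd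
      exact hb (Subtype.ext hbd)
    · intro h'
      exact absurd (Finset.mem_univ _) h'
  · apply Finset.sum_eq_zero
    intro b _
    rw [if_neg]
    intro hbd
    exact h (hbd ▸ b.2)

lemma polyOfL_coeff {n : ℕ} (P : MvPolynomial (Fin c) A) (hP : P.IsHomogeneous n) :
    polyOfL n (fun d : D c n => coeff d.1 P) = P := by
  ext d'
  rw [coeff_polyOfL]
  split_ifs with h
  · rfl
  · symm
    apply hP.coeff_eq_zero
    intro hd
    exact h (mem_of_degree d' hd)

lemma eval_polyOfL_mem {n : ℕ} (v : D c n → A) :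
    eval f (polyOfL n v) ∈ Ideal.span (Set.range f) ^ n :=
  (Ideal.mem_span_pow_iff_exists_isHomogeneous f _).mpr ⟨_, polyOfL_homog v, rfl⟩

/-- `v ↦ Σ v_d f^d` as a map to `Jⁿ` -/
noncomputable def Psi (n : ℕ) : (D c n → A) →ₗ[A] ↥(Ideal.span (Set.range f) ^ n) :=
  LinearMap.codRestrict (Ideal.span (Set.range f) ^ n)
    ((aeval f : MvPolynomial (Fin c) A →ₐ[A] A).toLinearMap ∘ₗ polyOfL n)
    (fun v => eval_polyOfL_mem f v)

lemma Psi_coe {n : ℕ} (v : D c n → A) : ((Psi f n v : ↥(Ideal.span (Set.range f) ^ n)) : A) =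
    eval f (polyOfL n v) := rfl

lemma Psi_surjective (n : ℕ) : Function.Surjective (Psi f n) := by
  rintro ⟨x, hx⟩
  obtain ⟨P, hP, rfl⟩ := (Ideal.mem_span_pow_iff_exists_isHomogeneous f x).mp hx
  refine ⟨fun d => coeff d.1 P, ?_⟩
  apply Subtype.ext
  rw [Psi_coe, polyOfL_coeff P hP]

/-- `v ↦ [Σ v_d f^d]` as a map to `Jⁿ/Jⁿ⁺¹` -/
noncomputable def Phi (n : ℕ) : (D c n → A) →ₗ[A]
    (↥(Ideal.span (Set.range f) ^ n) ⧸ Submodule.comap (Ideal.span (Set.range f) ^ n).subtype
      (Ideal.span (Set.range f) ^ (n + 1))) :=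
  (Submodule.mkQ _) ∘ₗ Psi f n

lemma Phi_surjective (n : ℕ) : Function.Surjective (Phi f n) :=
  (Submodule.mkQ_surjective _).comp (Psi_surjective f n)

lemma Phi_eq_zero_iff {n : ℕ} (v : D c n → A) :
    Phi f n v = 0 ↔ eval f (polyOfL n v) ∈ Ideal.span (Set.range f) ^ (n + 1) := by
  unfold Phi
  rw [LinearMap.comp_apply, Submodule.mkQ_apply, Submodule.Quotient.mk_eq_zero,
    Submodule.mem_comap]
  rfl

lemma monomial_eval_mem {n : ℕ} (d : D c n) :
    eval f (monomial d.1 (1 : A)) ∈ Ideal.span (Set.range f) ^ n :=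
  (Ideal.mem_span_pow_iff_exists_isHomogeneous f _).mpr
    ⟨_, isHomogeneous_monomial _ (degree_of_mem d), rfl⟩

theorem ker_Phi (hf : CAlgX.IsQuasiRegular f) (n : ℕ) :
    LinearMap.ker (Phi f n) =
      Submodule.pi Set.univ (fun _ : D c n => (Ideal.span (Set.range f) : Submodule A A)) := by
  ext v
  rw [LinearMap.mem_ker, Phi_eq_zero_iff, Submodule.mem_pi]
  constructor
  · intro h d _
    have := hf n (polyOfL n v) (polyOfL_homog v) h d.1
    rw [coeff_polyOfL, dif_pos d.2] at this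
    exact this
  · intro h
    rw [polyOfL_apply, map_sum, pow_succ']
    refine Ideal.sum_mem _ fun d _ => ?_
    have h1 : monomial d.1 (v d) = C (v d) * monomial d.1 (1 : A) := by
      rw [C_mul_monomial, mul_one]
    rw [h1, map_mul, eval_C]
    exact Ideal.mul_mem_mul (h d (Set.mem_univ d)) (monomial_eval_mem f d)

/-- For a quasi-regular sequence, `Jⁿ/Jⁿ⁺¹` is a finite product of copies of `A/J`. -/
theorem nonempty_gr_equiv (hf : CAlgX.IsQuasiRegular f) (n : ℕ) :
    Nonempty ((↥(Ideal.span (Set.range f) ^ n) ⧸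
        Submodule.comap (Ideal.span (Set.range f) ^ n).subtype
          (Ideal.span (Set.range f) ^ (n + 1))) ≃ₗ[A]
      (D c n → A ⧸ Ideal.span (Set.range f))) := by
  classical
  exact ⟨(LinearMap.quotKerEquivOfSurjective (Phi f n) (Phi_surjective f n)).symm ≪≫ₗ
    Submodule.quotEquivOfEq _ _ (ker_Phi f hf n) ≪≫ₗ
    Submodule.quotientPi (fun _ : D c n => (Ideal.span (Set.range f) : Submodule A A))⟩

end Groth.Agent.Lib.Seat13.QRegGr

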