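import Groth.Agent.Lib.Helper13KzTor
import Groth.Agent.Lib.Helper13KzLiftH
import Groth.Agent.Lib.Seat13KzH1
import Groth.Agent.Lib.Seat13QRegGr
import Groth.Agent.S2103

/-!
# Tor of powers of a Koszul-regular ideal against a Koszul-regular base change (seat 13)

* `TorVan N X`: `Tor_i(X, N) = 0` for `i ≥ 1`, with closure properties;
* `nonempty_tor_iso_KH_of_acyclic`: `Tor_n(A/(l), M) ≅ H^{-n}(K(l; M))` for `l` Koszul-regular;
* `torVan_pow`, `torVan_gr`: for `l` Koszul-regular in `A` with Koszul-regular image in `A'`,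
  `Tor_i(Jⁿ, A') = 0 = Tor_i(Jⁿ/Jⁿ⁺¹, A')` for `i ≥ 1`.
-/

set_option autoImplicit false

universe u

open CategoryTheory CategoryTheory.Limits

namespace Groth.Agent.Lib.Seat13.KzTorReg

open Groth.Agent.Helper13Tor Groth.Agent.Helper13Kz Groth.Agent.Helper13KzLift CohIII
open Groth.Agent.Lib.Helper21

variable {A : Type u} [CommRing A]

section TorVan

/-- vanishing of `Tor_i(X, N)` for all `i ≥ 1` -/
def TorVan (N : ModuleCat.{u} A) (X : Type u) [AddCommGroup X] [Module A X] : Prop :=
  ∀ i : ℕ, 1 ≤ i → IsZero (((Tor (ModuleCat.{u} A) i).obj (ModuleCat.of A X)).obj N)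

variable {N : ModuleCat.{u} A} {X X' X'' : Type u} [AddCommGroup X] [Module A X]
  [AddCommGroup X'] [Module A X'] [AddCommGroup X''] [Module A X'']

theorem TorVan.of_equiv (e : X ≃ₗ[A] X') (h : TorVan N X) : TorVan N X' := fun i hi =>
  IsZero.of_iso (h i hi) (((Tor (ModuleCat.{u} A) i).mapIso e.toModuleIso).app N).symm

theorem TorVan.of_flat [Module.Flat A X] : TorVan N X := fun i hi =>
  isZero_tor_of_flat N (ModuleCat.of A X) i (by omega)

section ses

variable (f : X' →ₗ[A] X) (g : X →ₗ[A] X'') (hf : Function.Injective f)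
  (hg : Function.Surjective g) (hfg : Function.Exact f g)
include hf hg hfg

theorem shortExact_of :
    (ModuleCat.shortComplexOfCompEqZero f g hfg.linearMap_comp_eq_zero).ShortExact :=
  ModuleCat.shortComplex_shortExact _ hfg hf hg

theorem TorVan.mid (h' : TorVan N X') (h'' : TorVan N X'') : TorVan N X := fun i hi =>
  isZero_tor_X₂ _ (shortExact_of f g hf hg hfg) N i (h' i hi) (h'' i hi)

theorem TorVan.ker (h : TorVan N X) (h'' : TorVan N X'') : TorVan N X' := fun i hi =>
  isZero_tor_X₁ _ (shortExact_of f g hf hg hfg) N i (h'' (i + 1) (by omega)) (h i hi)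

end ses

theorem TorVan.of_subsingleton [Subsingleton X] : TorVan N X := by
  have : Module.Flat A X := inferInstance
  exact TorVan.of_flat

theorem TorVan.pi_fin (h : TorVan N X) : ∀ n : ℕ, TorVan N (Fin n → X)
  | 0 => TorVan.of_subsingleton
  | n + 1 => by
    have ih := TorVan.pi_fin h n
    let f : X →ₗ[A] (Fin (n + 1) → X) := LinearMap.single A (fun _ : Fin (n + 1) => X) 0
    let g : (Fin (n + 1) → X) →ₗ[A] (Fin n → X) :=
      LinearMap.pi fun k => LinearMap.proj k.succ
    refine TorVan.mid f g ?_ ?_ ?_ h ih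
    · intro a b hab
      have := congrFun hab 0
      simpa [f] using this
    · intro v
      refine ⟨Fin.cons 0 v, ?_⟩
      funext k
      simp [g]
    · intro v
      constructor
      · intro hv
        refine ⟨v 0, ?_⟩
        funext k
        refine Fin.cases ?_ (fun k => ?_) k
        · simp [f]
        · have := congrFun hv k
          simp only [g, LinearMap.pi_apply, LinearMap.proj_apply] at this
          simp [f, this, Fin.succ_ne_zero]
      · rintro ⟨x, rfl⟩
        funext k
        simp [f, g, Fin.succ_ne_zero]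

theorem TorVan.pi_fintype (h : TorVan N X) (ι : Type) [Fintype ι] : TorVan N (ι → X) := by
  have e := Fintype.equivFin ι
  exact TorVan.of_equiv (LinearEquiv.funCongrLeft A X e) (TorVan.pi_fin h _)

end TorVan


section KoszulTor

theorem isEffDelta_TK_of_acyclic (l : List A) (hl : ∀ i : ℤ, i ≠ 0 → Subsingleton (KH l A i)) :
    Helper13Delta.IsEffDelta (TK l) where
  exists_δ S hS n := by
    have hf : Function.Injective S.f.hom := (ModuleCat.mono_iff_injective _).mp hS.mono_f
    have hg : Function.Surjective S.g.hom := (ModuleCat.epi_iff_surjective _).mp hS.epi_g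
    have hfg : Function.Exact S.f.hom S.g.hom :=
      (ShortComplex.ShortExact.moduleCat_exact_iff_function_exact S).mp hS.exact
    have hK := koszul_shortExact S.f S.g hf hg hfg l
    have hij : (ComplexShape.up ℤ).Rel (-((n + 1 : ℕ) : ℤ)) (-(n : ℤ)) := by
      show -((n + 1 : ℕ) : ℤ) + 1 = -(n : ℤ)
      push_cast
      ring
    exact ⟨hK.δ _ _ hij, hK.comp_δ _ _ hij, hK.δ_comp _ _ hij, hK.homology_exact₃ _ _ hij,
      hK.homology_exact₁ _ _ hij⟩
  isZero_of_projective X _ n := by
    have : Module.Flat A X := inferInstance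
    have h1 : Subsingleton (KH l (TensorProduct A A X) (-((n + 1 : ℕ) : ℤ))) :=
      subsingleton_KH_tensor_flat A X l _ (hl _ (by push_cast; omega))
    have h2 : Subsingleton (KH l X (-((n + 1 : ℕ) : ℤ))) :=
      subsingleton_KH_of_equiv l (TensorProduct.lid A X) _ h1
    have h3 : Subsingleton ((TK l (n + 1)).obj X) := h2
    exact ModuleCat.isZero_of_subsingleton _

/-- Koszul homology of a Koszul-regular sequence computes `Tor(A/(l), -)`. -/
theorem nonempty_tor_iso_KH_of_acyclic (l : List A)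
    (hl : ∀ i : ℤ, i ≠ 0 → Subsingleton (KH l A i)) (M : ModuleCat.{u} A) (n : ℕ) :
    Nonempty (((Tor (ModuleCat.{u} A) n).obj (ModuleCat.of A (A ⧸ Ideal.ofList l))).obj M ≅
      (koszulCx M l).homology (-(n : ℤ))) := by
  obtain ⟨e⟩ := nonempty_TK_zero_iso (A := A) l
  let P : ProjectiveResolution M := ProjectiveResolution.of M
  obtain ⟨e2⟩ := Helper13Delta.nonempty_iso (isEffDelta_TK_of_acyclic l hl) _ e P n
  exact ⟨torIso P _ n ≪≫ e2.symm⟩

end KoszulTor


theorem isZero_KH_algebra (A' : Type u) [CommRing A'] [Algebra A A'] (l : List A)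
    (hl' : LCI.IsKoszulRegularSeq A' (l.map (algebraMap A A'))) (i : ℤ) (hi : i ≠ 0) :
    IsZero ((koszulCx (ModuleCat.of A A') l).homology i) := by
  have h1 : Subsingleton (KH (l.map (algebraMap A A')) A' i) :=
    (isKoszulRegularSeq_iff A' _).mp hl' i hi
  have h2 := isZero_homology_restrict (algebraMap A A') (ModuleCat.of A' A') l i
    (ModuleCat.isZero_of_subsingleton _)
  let e : ((ModuleCat.restrictScalars (algebraMap A A')).obj (ModuleCat.of A' A')) ≃ₗ[A] A' :=
    { toFun := fun x => x
      invFun := fun x => x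
      left_inv := fun _ => rfl
      right_inv := fun _ => rfl
      map_add' := fun _ _ => rfl
      map_smul' := fun a x => (Algebra.smul_def (A := A') a x).symm }
  have h3 : Subsingleton (KH l ((ModuleCat.restrictScalars (algebraMap A A')).obj
      (ModuleCat.of A' A')) i) := ModuleCat.subsingleton_of_isZero h2
  have h4 := subsingleton_KH_of_equiv l e i h3
  exact ModuleCat.isZero_of_subsingleton _


section Main

variable (A' : Type u) [CommRing A'] [Algebra A A'] (l : List A)

theorem torVan_quot (hl : LCI.IsKoszulRegularSeq A l)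
    (hl' : LCI.IsKoszulRegularSeq A' (l.map (algebraMap A A'))) :
    TorVan (ModuleCat.of A A') (A ⧸ Ideal.ofList l) := by
  intro i hi
  obtain ⟨e⟩ := nonempty_tor_iso_KH_of_acyclic l ((isKoszulRegularSeq_iff A l).mp hl)
    (ModuleCat.of A A') i
  exact IsZero.of_iso (isZero_KH_algebra A' l hl' _ (by omega)) e

theorem quasiRegular_of_koszulRegular (hl : LCI.IsKoszulRegularSeq A l) :
    CAlgX.IsQuasiRegular l.get := by
  apply Groth.Agent.S2103.result
  apply Groth.Agent.Lib.Seat13.KzH1.h1Regular_of_isZero_homology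
  exact (isZero_congr (koszul_eq A l) (-1)).mp (hl (-1) (by decide))

theorem span_eq : Ideal.span {x | x ∈ l} = Ideal.span (Set.range l.get) := by
  rw [Set.range_list_get]

/-- `Tor_i(Jⁿ/Jⁿ⁺¹, A') = 0` for `i ≥ 1` -/
theorem torVan_gr (hl : LCI.IsKoszulRegularSeq A l)
    (hl' : LCI.IsKoszulRegularSeq A' (l.map (algebraMap A A'))) (n : ℕ) :
    TorVan (ModuleCat.of A A') (↥(Ideal.span {x | x ∈ l} ^ n) ⧸
      Submodule.comap (Ideal.span {x | x ∈ l} ^ n).subtype (Ideal.span {x | x ∈ l} ^ (n + 1))) := by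
  have hq := torVan_quot A' l hl hl'
  have hQR := quasiRegular_of_koszulRegular l hl
  obtain ⟨e⟩ := Groth.Agent.Lib.Seat13.QRegGr.nonempty_gr_equiv l.get hQR n
  rw [← span_eq] at e
  exact TorVan.of_equiv e.symm (TorVan.pi_fintype hq _)

/-- `Tor_i(Jⁿ, A') = 0` for `i ≥ 1` -/
theorem torVan_pow (hl : LCI.IsKoszulRegularSeq A l)
    (hl' : LCI.IsKoszulRegularSeq A' (l.map (algebraMap A A'))) :
    ∀ n : ℕ, TorVan (ModuleCat.of A A') ↥(Ideal.span {x | x ∈ l} ^ n)
  | 0 => by
    have e : ↥(Ideal.span {x | x ∈ l} ^ 0) ≃ₗ[A] A :=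
      LinearEquiv.ofEq _ _ (by rw [pow_zero, Ideal.one_eq_top]) ≪≫ₗ Submodule.topEquiv
    exact TorVan.of_equiv e.symm TorVan.of_flat
  | n + 1 => by
    have ih := torVan_pow hl hl' n
    have hg := torVan_gr A' l hl hl' n
    have hle : Ideal.span {x | x ∈ l} ^ (n + 1) ≤ Ideal.span {x | x ∈ l} ^ n :=
      Ideal.pow_le_pow_right (Nat.le_succ n)
    refine TorVan.ker (Submodule.inclusion hle) (Submodule.mkQ _)
      (Submodule.inclusion_injective hle) (Submodule.mkQ_surjective _) ?_ ih hg
    intro y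
    rw [Submodule.mkQ_apply, Submodule.Quotient.mk_eq_zero, Submodule.mem_comap]
    constructor
    · intro hy
      exact ⟨⟨y.1, hy⟩, rfl⟩
    · rintro ⟨x, rfl⟩
      exact x.2

end Main

end Groth.Agent.Lib.Seat13.KzTorReg
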