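import Mathlib

/-!
# Sites with a "point-like" terminal object (helper13)

Let `C` be a site with a terminal object `T` such that every covering sieve of `T` contains `𝟙 T`
and such that, for every object `X`, the family of all sections `T ⟶ X` covers `X`.  Then the
global sections functor `F ↦ F(T)` from sheaves of sets to sets is an equivalence of categories
(`sections_isEquivalence`).  The quasi-inverse sends a set `E` to `X ↦ ((T ⟶ X) → E)`.
-/

set_option autoImplicit false
set_option backward.defeqAttrib.useBackward true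
set_option backward.isDefEq.respectTransparency false
open CategoryTheory CategoryTheory.Limits Opposite
universe u

namespace Groth.Agent.Lib.Seat13.PointSite

variable {C : Type (u + 1)} [Category.{u} C]

/-- `T` is point-like for the topology `J`: every covering sieve of `T` is maximal and the
sections `T ⟶ X` cover every object `X`. -/
structure IsPointLike (J : GrothendieckTopology C) (T : C) : Prop where
  top_mem : ∀ R : Sieve T, R ∈ J T → R (𝟙 T)
  cover : ∀ X : C, Sieve.ofArrows (fun _ : T ⟶ X => T) (fun x => x) ∈ J X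

variable {J : GrothendieckTopology C} {T : C}

lemma IsPointLike.mem_of_mem (h : IsPointLike J T) {X : C} {R : Sieve X} (hR : R ∈ J X)
    (x : T ⟶ X) : R x := by
  have := h.top_mem _ (J.pullback_stable x hR)
  simpa using this

/-- restriction of a section over `X` to all `T`-points of `X` -/
def res (T : C) (F : Cᵒᵖ ⥤ Type (u + 1)) (X : C) (s : F.obj (op X)) (x : T ⟶ X) :
    F.obj (op T) :=
  F.map x.op s

lemma isSheafFor_sections (h : IsPointLike J T) {F : Cᵒᵖ ⥤ Type (u + 1)}
    (hF : Presieve.IsSheaf J F) (X : C) :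
    (Presieve.ofArrows (fun _ : T ⟶ X => T) (fun x => x)).IsSheafFor F :=
  (Presieve.isSheafFor_iff_generate _).2 (hF _ (h.cover X))

lemma res_injective (h : IsPointLike J T) {F : Cᵒᵖ ⥤ Type (u + 1)}
    (hF : Presieve.IsSheaf J F) (X : C) : Function.Injective (res T F X) := by
  intro s t hst
  have hinj := ((Presieve.isSheafFor_ofArrows_iff_bijective_toCompabible
    (P := F) (X := fun _ : T ⟶ X => T) (π := fun x => x)).1 (isSheafFor_sections h hF X)).1
  apply hinj
  ext x
  exact congrFun hst x

lemma compatible (hT : IsTerminal T) (h : IsPointLike J T) {F : Cᵒᵖ ⥤ Type (u + 1)}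
    (hF : Presieve.IsSheaf J F) (X : C) (a : (T ⟶ X) → F.obj (op T)) :
    Presieve.Arrows.Compatible F (fun x : T ⟶ X => x) a := by
  intro x y Z gx gy hxy
  obtain rfl : gx = gy := hT.hom_ext _ _
  by_cases hxy' : x = y
  · subst hxy'; rfl
  · have hempty : IsEmpty (T ⟶ Z) := ⟨fun z => hxy' (by
      have h1 : z ≫ gx = 𝟙 T := hT.hom_ext _ _
      calc x = (z ≫ gx) ≫ x := by rw [h1, Category.id_comp]
        _ = (z ≫ gx) ≫ y := by rw [Category.assoc, hxy, Category.assoc]
        _ = y := by rw [h1, Category.id_comp])⟩
    apply res_injective h hF Z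
    funext z
    exact (hempty.false z).elim

lemma res_bijective (hT : IsTerminal T) (h : IsPointLike J T) {F : Cᵒᵖ ⥤ Type (u + 1)}
    (hF : Presieve.IsSheaf J F) (X : C) : Function.Bijective (res T F X) := by
  refine ⟨res_injective h hF X, fun a => ?_⟩
  obtain ⟨t, ht, -⟩ := (Presieve.isSheafFor_arrows_iff (P := F) (X := fun _ : T ⟶ X => T)
    (π := fun x => x)).1 (isSheafFor_sections h hF X) a (compatible hT h hF X a)
  exact ⟨t, funext ht⟩

lemma res_apply (F : Cᵒᵖ ⥤ Type (u + 1)) (X : C) (s : F.obj (op X)) (x : T ⟶ X) :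
    res T F X s x = F.map x.op s := rfl

/-- the inverse of `res` -/
noncomputable def glue (hT : IsTerminal T) (h : IsPointLike J T) {F : Cᵒᵖ ⥤ Type (u + 1)}
    (hF : Presieve.IsSheaf J F) (X : C) (a : (T ⟶ X) → F.obj (op T)) : F.obj (op X) :=
  ((res_bijective hT h hF X).2 a).choose

lemma map_glue (hT : IsTerminal T) (h : IsPointLike J T) {F : Cᵒᵖ ⥤ Type (u + 1)}
    (hF : Presieve.IsSheaf J F) (X : C) (a : (T ⟶ X) → F.obj (op T)) (x : T ⟶ X) :
    F.map x.op (glue hT h hF X a) = a x :=
  congrFun ((res_bijective hT h hF X).2 a).choose_spec x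

lemma ext_of_sections (h : IsPointLike J T) {F : Cᵒᵖ ⥤ Type (u + 1)}
    (hF : Presieve.IsSheaf J F) (X : C) {s t : F.obj (op X)}
    (hst : ∀ x : T ⟶ X, F.map x.op s = F.map x.op t) : s = t :=
  res_injective h hF X (funext hst)

/-- the global sections functor -/
noncomputable abbrev Γ (J : GrothendieckTopology C) (T : C) : Sheaf J (Type (u + 1)) ⥤ Type (u + 1) :=
  (sheafSections J (Type (u + 1))).obj (op T)

lemma sheafT (F : Sheaf J (Type (u + 1))) : Presieve.IsSheaf J F.obj :=
  (isSheaf_iff_isSheaf_of_type _ _).1 F.property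

lemma faithful (h : IsPointLike J T) : (Γ J T).Faithful where
  map_injective {F G φ ψ} hφψ := by
    apply Sheaf.hom_ext
    ext ⟨X⟩ s
    change φ.hom.app (op X) s = ψ.hom.app (op X) s
    apply ext_of_sections h (sheafT G) X
    intro x
    rw [← NatTrans.naturality_apply, ← NatTrans.naturality_apply]
    exact types_congr_hom hφψ _

lemma full (hT : IsTerminal T) (h : IsPointLike J T) : (Γ J T).Full where
  map_surjective {F G} a := by
    have hG := sheafT G
    let α : F.obj ⟶ G.obj :=
      { app := fun X => ↾fun s => glue hT h hG X.unop (fun x => a (F.obj.map x.op s))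
        naturality := by
          intro X Y f
          ext s
          change glue hT h hG Y.unop (fun x => a (F.obj.map x.op (F.obj.map f s))) =
            G.obj.map f (glue hT h hG X.unop (fun x => a (F.obj.map x.op s)))
          apply ext_of_sections h hG Y.unop
          intro y
          have : f ≫ y.op = (y ≫ f.unop).op := by simp
          rw [map_glue, ← Functor.map_comp_apply, ← Functor.map_comp_apply, this, map_glue] }
    refine ⟨ObjectProperty.homMk α, ?_⟩
    ext s
    change glue hT h hG T (fun x => a (F.obj.map x.op s)) = a s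
    apply ext_of_sections h hG T
    intro x
    obtain rfl : x = 𝟙 T := hT.hom_ext _ _
    rw [map_glue]
    simp

/-- the presheaf `X ↦ ((T ⟶ X) → E)` -/
def constPre (T : C) (E : Type (u + 1)) : Cᵒᵖ ⥤ Type (u + 1) where
  obj X := (T ⟶ X.unop) → E
  map f := ↾fun φ y => φ (y ≫ f.unop)
  map_id X := by
    ext φ y
    simp
  map_comp f g := by
    ext φ y
    simp

lemma constPre_map_apply (E : Type (u + 1)) {X Y : C} (f : Y ⟶ X) (φ : (T ⟶ X) → E)
    (y : T ⟶ Y) : (constPre T E).map f.op φ y = φ (y ≫ f) := rfl

lemma constPre_isSheaf (h : IsPointLike J T) (E : Type (u + 1)) :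
    Presieve.IsSheaf J (constPre T E) := by
  intro X R hR φ hφ
  refine ⟨fun x => φ x (h.mem_of_mem hR x) (𝟙 T), ?_, ?_⟩
  · intro Y f hf
    funext y
    have h1 := hφ y (𝟙 T) hf (h.mem_of_mem hR (y ≫ f)) (by simp)
    have h2 := congrFun h1 (𝟙 T)
    rw [constPre_map_apply, constPre_map_apply] at h2
    rw [constPre_map_apply]
    simpa using h2.symm
  · intro ψ hψ
    funext x
    have h1 := congrFun (hψ x (h.mem_of_mem hR x)) (𝟙 T)
    rw [constPre_map_apply] at h1
    simpa using h1

lemma essSurj (hT : IsTerminal T) (h : IsPointLike J T) : (Γ J T).EssSurj where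
  mem_essImage E := by
    have : Unique (T ⟶ T) := ⟨⟨𝟙 T⟩, fun _ => hT.hom_ext _ _⟩
    exact ⟨⟨constPre T E, (isSheaf_iff_isSheaf_of_type _ _).2 (constPre_isSheaf h E)⟩,
      ⟨Equiv.toIso (Equiv.funUnique (T ⟶ T) E)⟩⟩

/-- **Main theorem.**  If `T` is a point-like terminal object of the site `(C, J)` then the
global sections functor on sheaves of sets is an equivalence. -/
theorem sections_isEquivalence (hT : IsTerminal T) (h : IsPointLike J T) :
    ((sheafSections J (Type (u + 1))).obj (op T)).IsEquivalence :=
  { faithful := faithful h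
    full := full hT h
    essSurj := essSurj hT h }

end Groth.Agent.Lib.Seat13.PointSite
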