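import Mathlib
import Groth.Prelude.Def_EtCore
import Groth.Agent.Lib.Seat13PointSite
import Groth.Agent.Lib.Helper16SmallEtale

/-!
# The small étale site of the spectrum of a separably closed field (helper13)

For `k` separably closed and `S = Spec k`, the terminal object of `S.Etale` is point-like
(`Seat13.PointSite.IsPointLike`): every point of an étale `S`-scheme is the image of a section,
so every étale covering of `S` splits and the sections of `X` cover `X`.  Consequently global
sections is an equivalence from sheaves of sets on `S_et` to sets.
-/

set_option autoImplicit false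
set_option backward.defeqAttrib.useBackward true
set_option backward.isDefEq.respectTransparency false
open CategoryTheory CategoryTheory.Limits AlgebraicGeometry Opposite
universe u

namespace Groth.Agent.Lib.Seat13.SepClosedSite

open Groth.Agent.Lib.Seat13.PointSite

variable (k : Type u) [Field k] [IsSepClosed k]

/-- every point of an étale `Spec k`-scheme is hit by a section (`k` separably closed) -/
lemma exists_section (X : (Spec (CommRingCat.of k)).Etale) (ξ : X.left) :
    ∃ x : EtCoh.top (Spec (CommRingCat.of k)) ⟶ X,
      x.left (default : Spec (CommRingCat.of k)) = ξ := by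
  obtain ⟨l, hl, hl'⟩ := Scheme.exists_fac_of_etale_of_isSepClosed X.hom
    (𝟙 (Spec (CommRingCat.of k))) ξ (Subsingleton.elim (α := Spec (CommRingCat.of k)) _ _)
  exact ⟨MorphismProperty.Over.homMk l (by simpa using hl), hl'⟩

lemma isPointLike :
    IsPointLike (Spec (CommRingCat.of k)).smallEtaleTopology
      (EtCoh.top (Spec (CommRingCat.of k))) where
  top_mem R hR := by
    obtain ⟨W, g, y, hg, -⟩ :=
      (Groth.Agent.Lib.Helper16.SmallEtale.mem_smallEtale_iff _ R).1 hR
        (default : Spec (CommRingCat.of k))
    obtain ⟨w, -⟩ := exists_section k W y
    have : w ≫ g = 𝟙 _ := (EtCore.topIsTerminal _).hom_ext _ _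
    rw [← this]
    exact R.downward_closed hg w
  cover X := by
    rw [Scheme.ofArrows_mem_smallEtaleTopology_iff]
    ext ξ
    simp only [Set.mem_iUnion, Set.mem_range, Set.mem_univ, iff_true]
    obtain ⟨x, hx⟩ := exists_section k X ξ
    exact ⟨x, (default : Spec (CommRingCat.of k)), hx⟩

theorem sections_isEquivalence :
    ((sheafSections (Spec (CommRingCat.of k)).smallEtaleTopology (Type (u + 1))).obj
      (op (EtCoh.top (Spec (CommRingCat.of k))))).IsEquivalence :=
  PointSite.sections_isEquivalence (EtCore.topIsTerminal _) (isPointLike k)

end Groth.Agent.Lib.Seat13.SepClosedSite
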