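import Groth.Agent.Lib.Seat13KzTorReg
import Groth.Agent.Lib.Seat13KzSwap
import Groth.Agent.Lib.Seat13KzDer
import Groth.Agent.Lib.Seat13KzZero
import Groth.Agent.Lib.Seat13ExtQuot

/-!
# `Tor_i(A/(f,g), A/(f,h)) ≅ ⋀^i Tor_1` for Koszul-regular `f ++ g`, `f ++ h`, `f ++ g ++ h` (seat 13)
-/

set_option autoImplicit false

universe u

open CategoryTheory CategoryTheory.Limits CohIII

namespace Groth.Agent.Lib.Seat13.TorExt

open Groth.Agent.Helper13Tor Groth.Agent.Helper13Kz Groth.Agent.Helper13KzLift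
open Groth.Agent.Lib.Seat13.KzTorReg Groth.Agent.Lib.Seat13.KzSwap Groth.Agent.Lib.Seat13.KzDer
open Groth.Agent.Lib.Seat13.KzZero Groth.Agent.Lib.Seat13.ExtQuot

variable {A : Type u} [CommRing A]

theorem acyc_of_koszulRegular {l : List A} (hl : LCI.IsKoszulRegularSeq A l) (i : ℤ) (hi : i ≠ 0) :
    IsZero ((koszulCx (ModuleCat.of A A) l).homology i) :=
  (isZero_congr (koszul_eq A l) i).mp (hl i hi)

/-- `Tor_n(A/(f,g), A/(f,h))` is a free `A/𝔞`-module of rank `C(|f|, n)` for a suitable ideal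
`𝔞`. -/
theorem exists_tor_equiv (f g h : List A) (hfg : LCI.IsKoszulRegularSeq A (f ++ g))
    (hfh : LCI.IsKoszulRegularSeq A (f ++ h)) (hfgh : LCI.IsKoszulRegularSeq A (f ++ g ++ h)) :
    ∃ 𝔞 : Ideal A, ∀ n : ℕ, Nonempty
      (((Tor (ModuleCat.{u} A) n).obj (ModuleCat.of A (A ⧸ Ideal.ofList (f ++ g)))).obj
        (ModuleCat.of A (A ⧸ Ideal.ofList (f ++ h))) ≃ₗ[A] (Fin (f.length.choose n) → A ⧸ 𝔞)) := by
  let _ := HasDerivedCategory.standard (ModuleCat.{u} A)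
  set M : ModuleCat.{u} A := ModuleCat.of A (A ⧸ Ideal.ofList (f ++ h)) with hM
  -- vanishing of `H^n(K(g; A/J))` for `n ≠ 0`
  have hperm : (f ++ g ++ h).Perm (g ++ (f ++ h)) := by
    rw [← List.append_assoc]
    exact List.Perm.append_right h List.perm_append_comm
  have hvan : ∀ n : ℤ, n ≠ 0 → IsZero ((koszulCx M g).homology n) := fun n hn =>
    isZero_homology_koszulCx_quot g (f ++ h) (acyc_of_koszulRegular hfh) n
      (isZero_homology_of_perm _ hperm n (acyc_of_koszulRegular hfgh n hn))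
  -- `H^0` is cyclic
  let π : A →ₗ[A] (koszulCx M g).homology 0 :=
    (aug M g).hom ∘ₗ (Submodule.mkQ (Ideal.ofList (f ++ h)))
  have hπ : Function.Surjective π :=
    (aug_surjective M g).comp (Submodule.mkQ_surjective _)
  refine ⟨LinearMap.ker π, fun n => ?_⟩
  have e0 : (koszulCx M g).homology 0 ≃ₗ[A] (A ⧸ LinearMap.ker π) :=
    (LinearMap.quotKerEquivOfSurjective π hπ).symm
  have hbase : ∀ n : ℤ, Nonempty ((koszulCx M g).homology n ≃ₗ[A]
      (Fin (b0 n) → A ⧸ LinearMap.ker π)) := by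
    intro n
    by_cases hn : n = 0
    · subst hn
      exact ⟨e0 ≪≫ₗ (LinearEquiv.funUnique (Fin 1) A (A ⧸ LinearMap.ker π)).symm⟩
    · have h1 : Subsingleton ((koszulCx M g).homology n) :=
        ModuleCat.subsingleton_of_isZero (hvan n hn)
      have h2 : b0 n = 0 := if_neg hn
      rw [h2]
      exact ⟨LinearEquiv.ofSubsingleton _ _⟩
  have hkill : ∀ x ∈ f, ∀ m : M, x • m = 0 := by
    intro x hx m
    obtain ⟨a, rfl⟩ := Submodule.Quotient.mk_surjective _ m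
    rw [← Submodule.Quotient.mk_smul, Submodule.Quotient.mk_eq_zero]
    exact Ideal.mul_mem_right a _ (Ideal.subset_span (List.mem_append_left h hx))
  obtain ⟨e1⟩ := nonempty_homology_equiv_append M (A ⧸ LinearMap.ker π) g b0 hbase f hkill
    (-(n : ℤ))
  obtain ⟨e2⟩ := nonempty_tor_iso_KH_of_acyclic (f ++ g) ((isKoszulRegularSeq_iff A _).mp hfg) M n
  rw [beta_neg] at e1
  exact ⟨e2.toLinearEquiv ≪≫ₗ e1⟩

open exteriorPower in
/-- `Tor_i(A/(f,g), A/(f,h)) ≅ ⋀^i Tor_1(A/(f,g), A/(f,h))` for `i ≥ 1`. -/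
theorem main (f g h : List A) (hfg : LCI.IsKoszulRegularSeq A (f ++ g))
    (hfh : LCI.IsKoszulRegularSeq A (f ++ h)) (hfgh : LCI.IsKoszulRegularSeq A (f ++ g ++ h))
    (i : ℕ) (hi : 1 ≤ i) :
    Nonempty (((Tor (ModuleCat.{u} A) i).obj (ModuleCat.of A (A ⧸ Ideal.ofList (f ++ g)))).obj
        (ModuleCat.of A (A ⧸ Ideal.ofList (f ++ h))) ≅
      ModuleCat.of A (⋀[A]^i (((Tor (ModuleCat.{u} A) 1).obj
        (ModuleCat.of A (A ⧸ Ideal.ofList (f ++ g)))).obj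
        (ModuleCat.of A (A ⧸ Ideal.ofList (f ++ h)))))) := by
  obtain ⟨𝔞, H⟩ := exists_tor_equiv f g h hfg hfh hfgh
  obtain ⟨ei⟩ := H i
  obtain ⟨e1⟩ := H 1
  rw [Nat.choose_one_right] at e1
  obtain ⟨ew⟩ := nonempty_equiv_fin 𝔞 f.length i hi
  exact ⟨(ei ≪≫ₗ ew.symm ≪≫ₗ (extPowEquiv i e1).symm).toModuleIso⟩

end Groth.Agent.Lib.Seat13.TorExt
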