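import Groth.Agent.Lib.Seat14SerreSplit
import Mathlib.RingTheory.Spectrum.Prime.FreeLocus
import Mathlib.RingTheory.Spectrum.Prime.Noetherian
import Mathlib.RingTheory.KrullDimension.Basic
import Mathlib.RingTheory.LocalRing.Module
import Mathlib.Algebra.Module.Projective

/-!
# Serre's splitting theorem for projective modules of large rank (seat 14)
-/

set_option autoImplicit false
universe u

open TopologicalSpace

namespace Groth.Agent.Lib.Seat14.SerreProj

open Groth.Agent.Lib.Seat14.SerreSplit

variable {R : Type u} [CommRing R]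

instance noetherianSpace_maximalSpectrum [IsNoetherianRing R] :
    NoetherianSpace (MaximalSpectrum R) :=
  Topology.IsInducing.noetherianSpace (i := MaximalSpectrum.toPrimeSpectrum) ⟨rfl⟩

theorem topologicalKrullDim_maximalSpectrum_le :
    topologicalKrullDim (MaximalSpectrum R) ≤ ringKrullDim R := by
  rw [← PrimeSpectrum.topologicalKrullDim_eq_ringKrullDim]
  exact Topology.IsInducing.topologicalKrullDim_le (f := MaximalSpectrum.toPrimeSpectrum) ⟨rfl⟩

/-- A finitely generated projective module all of whose local ranks exceed the dimension has a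
unimodular element. -/
theorem exists_unimodular [IsNoetherianRing R] (d : ℕ) (hdim : ringKrullDim R ≤ d)
    (P : Type u) [AddCommGroup P] [Module R P] [Module.Finite R P] [Module.Projective R P]
    (hrk : ∀ p : PrimeSpectrum R, d + 1 ≤ Module.rankAtStalk (R := R) P p) :
    ∃ (s : P) (φ : P →ₗ[R] R), φ s = 1 := by
  have : Module.FinitePresentation R P := Module.finitePresentation_of_projective R P
  refine serre_splitting R d (topologicalKrullDim_maximalSpectrum_le.trans hdim) P ?_
  intro m hm
  let Rm := Localization.AtPrime m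
  let Pm := LocalizedModule m.primeCompl P
  have : Module.Free Rm Pm := Module.free_of_flat_of_isLocalRing
  have hfr : d + 1 ≤ Module.finrank Rm Pm := hrk ⟨m, hm.isPrime⟩
  let b := Module.finBasis Rm Pm
  let ι : Fin (d + 1) → Fin (Module.finrank Rm Pm) := Fin.castLE hfr
  have hι : Function.Injective ι := Fin.castLE_injective hfr
  refine ⟨Fintype.linearCombination Rm (fun j => b (ι j)),
    (LinearMap.funLeft Rm Rm ι) ∘ₗ b.equivFun.toLinearMap, ?_⟩
  apply LinearMap.ext
  intro v
  funext j
  simp only [LinearMap.coe_comp, LinearEquiv.coe_coe, Function.comp_apply, LinearMap.funLeft_apply,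
    Module.Basis.equivFun_apply, Fintype.linearCombination_apply, map_sum, map_smul,
    Module.Basis.repr_self, Finset.sum_apply, Pi.smul_apply,
    smul_eq_mul, LinearMap.id_coe, id_eq]
  rw [Finset.sum_eq_single j]
  · simp
  · intro l _ hl
    rw [Finsupp.single_apply, if_neg (fun h => hl (hι h)), mul_zero]
  · intro h; exact absurd (Finset.mem_univ j) h

/-- A unimodular element splits off a free summand of rank one. -/
noncomputable def splitEquiv {P : Type u} [AddCommGroup P] [Module R P] (s : P) (φ : P →ₗ[R] R)
    (h : φ s = 1) : P ≃ₗ[R] (LinearMap.ker φ × R) where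
  toFun x := (⟨x - φ x • s, by simp [h]⟩, φ x)
  map_add' x y := by
    ext
    · simp only [map_add, add_smul, Prod.mk_add_mk, Submodule.coe_add]
      abel
    · simp
  map_smul' a x := by
    ext
    · simp only [map_smul, smul_eq_mul, RingHom.id_apply, Prod.smul_mk, Submodule.coe_smul, smul_sub,
        mul_smul]
    · simp
  invFun y := (y.1 : P) + y.2 • s
  left_inv x := by simp
  right_inv y := by
    obtain ⟨⟨k, hk⟩, a⟩ := y
    have hk' : φ k = 0 := hk
    ext
    · simp [hk', h]
    · simp [hk', h]

/-- Iterated splitting. -/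
theorem exists_equiv_prod [IsNoetherianRing R] (d : ℕ) (hdim : ringKrullDim R ≤ d) (j : ℕ) :
    ∀ (P : Type u) [AddCommGroup P] [Module R P] [Module.Finite R P] [Module.Projective R P] (n : ℕ),
      (∀ p : PrimeSpectrum R, Module.rankAtStalk (R := R) P p = n) → d + j ≤ n →
      ∃ (P₀ : Type u) (_ : AddCommGroup P₀) (_ : Module R P₀), Nonempty (P ≃ₗ[R] (P₀ × (Fin j → R))) := by
  induction j with
  | zero =>
    intro P _ _ _ _ n _ _
    exact ⟨P, inferInstance, inferInstance, ⟨(LinearEquiv.prodUnique (R := R) (M := P)
      (M₂ := Fin 0 → R)).symm⟩⟩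
  | succ j ih =>
    intro P _ _ _ _ n hrk hn
    obtain ⟨s, φ, hφ⟩ := exists_unimodular d hdim P (fun p => by rw [hrk p]; omega)
    let e := splitEquiv s φ hφ
    let K := LinearMap.ker φ
    let toK : P →ₗ[R] K := (LinearMap.fst R K R) ∘ₗ e.toLinearMap
    have htoK : toK ∘ₗ K.subtype = LinearMap.id := by
      ext ⟨k, hk⟩
      have hk' : φ k = 0 := hk
      simp [toK, e, splitEquiv, hk']
    have : Module.Projective R K := Module.Projective.of_split K.subtype toK htoK
    have : Module.Finite R K := Module.Finite.of_surjective toK (fun k => ⟨k.1, by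
      have := LinearMap.congr_fun htoK k
      simpa using this⟩)
    have hrkK : ∀ p : PrimeSpectrum R, Module.rankAtStalk (R := R) K p = n - 1 := by
      intro p
      have := p.nontrivial
      have h1 := congrFun (Module.rankAtStalk_eq_of_equiv e) p
      rw [Module.rankAtStalk_prod, hrk p] at h1
      simp only [Pi.add_apply, Module.rankAtStalk_self, Pi.one_apply] at h1
      change Module.rankAtStalk (R := R) (LinearMap.ker φ) p = n - 1
      omega
    obtain ⟨K₀, _, _, ⟨eK⟩⟩ := ih K (n - 1) hrkK (by omega)
    refine ⟨K₀, inferInstance, inferInstance, ⟨?_⟩⟩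
    exact e ≪≫ₗ (eK.prodCongr (LinearEquiv.refl R R)) ≪≫ₗ (LinearEquiv.prodAssoc R K₀ (Fin j → R) R) ≪≫ₗ
      ((LinearEquiv.refl R K₀).prodCongr ((LinearEquiv.prodComm R (Fin j → R) R) ≪≫ₗ
        (Fin.consLinearEquiv R (fun _ : Fin (j + 1) => R))))

/-- Serre: a projective module of constant rank `n > d = dim R` is `P₀ ⊕ R^(n-d)`. -/
theorem exists_isCompl_free [IsNoetherianRing R] (d n : ℕ) (hdim : ringKrullDim R = d)
    (P : Type u) [AddCommGroup P] [Module R P] [Module.Finite R P] [Module.Projective R P]
    (hrk : ∀ p : PrimeSpectrum R, Module.rankAtStalk (R := R) P p = n) (hnd : d < n) :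
    ∃ (P₀ Q : Submodule R P), IsCompl P₀ Q ∧ Nonempty (Q ≃ₗ[R] (Fin (n - d) → R)) := by
  obtain ⟨P₀', _, _, ⟨e⟩⟩ := exists_equiv_prod d hdim.le (n - d) P n hrk (by omega)
  refine ⟨LinearMap.ker ((LinearMap.snd R P₀' (Fin (n - d) → R)) ∘ₗ e.toLinearMap),
    LinearMap.ker ((LinearMap.fst R P₀' (Fin (n - d) → R)) ∘ₗ e.toLinearMap), ?_, ⟨?_⟩⟩
  · constructor
    · rw [disjoint_iff]
      ext x
      simp only [Submodule.mem_inf, LinearMap.mem_ker, LinearMap.coe_comp, LinearEquiv.coe_coe,
        Function.comp_apply, LinearMap.snd_apply, LinearMap.fst_apply, Submodule.mem_bot]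
      constructor
      · rintro ⟨h1, h2⟩
        apply e.injective
        rw [map_zero]
        exact Prod.ext h2 h1
      · rintro rfl
        simp
    · rw [codisjoint_iff, eq_top_iff]
      intro x _
      rw [Submodule.mem_sup]
      refine ⟨e.symm ((e x).1, 0), by simp, e.symm (0, (e x).2), by simp, ?_⟩
      rw [← map_add]
      simp
  · exact
      { toFun := fun q => (e q.1).2
        map_add' := fun a b => by simp
        map_smul' := fun a b => by simp
        invFun := fun w => ⟨e.symm (0, w), by simp⟩
        left_inv := fun q => by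
          obtain ⟨q, hq⟩ := q
          have hq' : (e q).1 = 0 := hq
          ext
          simp only
          apply e.injective
          rw [LinearEquiv.apply_symm_apply]
          exact Prod.ext hq'.symm rfl
        right_inv := fun w => by simp }

end Groth.Agent.Lib.Seat14.SerreProj
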