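import Groth.Agent.Lib.Seat14SerreAffine
import Groth.Agent.Lib.Seat14SerreProj

/-!
# Bass' cancellation theorem (seat 14)

Over a Noetherian ring of dimension `≤ d`, a finitely generated projective module all of whose local
ranks are `> d` can be cancelled from `P ⊕ X ≅ P' ⊕ X`, `X` finite free.
-/

set_option autoImplicit false
universe u

open TopologicalSpace

namespace Groth.Agent.Lib.Seat14.BassCancel

open Groth.Agent.Lib.Seat14.SerreV Groth.Agent.Lib.Seat14.SerreAux Groth.Agent.Lib.Seat14.SerreMain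
open Groth.Agent.Lib.Seat14.SerreSplit Groth.Agent.Lib.Seat14.SerreProj
open Groth.Agent.Lib.Seat14.SerreAffine

variable {R : Type u} [CommRing R]

theorem eq_empty_of_codimGE {α : Type*} [TopologicalSpace α] [T1Space α] (d : ℕ)
    (hdim : topologicalKrullDim α ≤ d) {F : Set α} (hc : CodimGE F (d + 1)) : F = ∅ := by
  by_contra hne
  obtain ⟨x, hx⟩ := Set.nonempty_iff_ne_empty.mpr hne
  let Z : IrreducibleCloseds α := ⟨{x}, isIrreducible_singleton, isClosed_singleton⟩
  have h1 : ((d + 1 : ℕ) : ℕ∞) ≤ Order.coheight Z := hc Z (Set.singleton_subset_iff.mpr hx)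
  have h2 : (Order.coheight Z : WithBot ℕ∞) ≤ topologicalKrullDim α := Order.coheight_le_krullDim Z
  have h3 : (((d + 1 : ℕ) : ℕ∞) : WithBot ℕ∞) ≤ ((d : ℕ∞) : WithBot ℕ∞) :=
    (WithBot.coe_le_coe.mpr h1).trans (h2.trans hdim)
  have h4 := WithBot.coe_le_coe.mp h3
  have h5 : (d + 1 : ℕ) ≤ d := by exact_mod_cast h4
  omega

theorem exists_form_eq_one {M : Type u} [AddCommGroup M] [Module R M] (t : M)
    (h : ∀ x : MaximalSpectrum R, img R M x t ≠ 0) : ∃ φ : M →ₗ[R] R, φ t = 1 := by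
  let I : Ideal R := LinearMap.range (LinearMap.applyₗ t : (M →ₗ[R] R) →ₗ[R] R)
  have hI : I = ⊤ := by
    by_contra hIne
    obtain ⟨m, hm, hIm⟩ := Ideal.exists_le_maximal I hIne
    apply h ⟨m, hm⟩
    rw [img_eq_zero_iff]
    intro φ
    exact hIm ⟨φ, rfl⟩
  have h1 : (1 : R) ∈ I := by rw [hI]; trivial
  obtain ⟨φ, hφ⟩ := h1
  exact ⟨φ, hφ⟩

theorem le_finrank_of_rank (P : Type u) [AddCommGroup P] [Module R P] [Module.Finite R P]
    [Module.Projective R P] (x : MaximalSpectrum R) (r : ℕ)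
    (hr : r ≤ Module.rankAtStalk (R := R) P ⟨x.asIdeal, x.isMaximal.isPrime⟩) :
    r ≤ Module.finrank (R ⧸ x.asIdeal) ((P ⧸ (x.asIdeal • ⊤ : Submodule R P)) ⧸ Bq R P x) := by
  have : Module.FinitePresentation R P := Module.finitePresentation_of_projective R P
  have hm := x.isMaximal
  let m := x.asIdeal
  let Rm := Localization.AtPrime m
  let Pm := LocalizedModule m.primeCompl P
  have : Module.Free Rm Pm := Module.free_of_flat_of_isLocalRing
  have hfr : r ≤ Module.finrank Rm Pm := hr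
  let b := Module.finBasis Rm Pm
  let ι : Fin r → Fin (Module.finrank Rm Pm) := Fin.castLE hfr
  have hι : Function.Injective ι := Fin.castLE_injective hfr
  refine le_finrank_of_local_summand m r (Fintype.linearCombination Rm (fun j => b (ι j)))
    ((LinearMap.funLeft Rm Rm ι) ∘ₗ b.equivFun.toLinearMap) ?_
  apply LinearMap.ext
  intro v
  funext j
  simp only [LinearMap.coe_comp, LinearEquiv.coe_coe, Function.comp_apply, LinearMap.funLeft_apply,
    Module.Basis.equivFun_apply, Fintype.linearCombination_apply, map_sum, map_smul,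
    Module.Basis.repr_self, Finset.sum_apply, Pi.smul_apply,
    smul_eq_mul, LinearMap.id_coe, id_eq]
  rw [Finset.sum_eq_single j]
  · simp
  · intro l _ hl
    rw [Finsupp.single_apply, if_neg (fun h => hl (hι h)), mul_zero]
  · intro h; exact absurd (Finset.mem_univ j) h

/-- Bass: a unimodular element `(p, a)` of `P ⊕ R` can be moved to `(p + a q, a)` with `p + a q`
unimodular in `P`, when the local ranks of `P` exceed the dimension. -/
theorem exists_unimodular_shift [IsNoetherianRing R] (d : ℕ) (hdim : ringKrullDim R ≤ d)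
    (P : Type u) [AddCommGroup P] [Module R P] [Module.Finite R P] [Module.Projective R P]
    (hrk : ∀ p : PrimeSpectrum R, d + 1 ≤ Module.rankAtStalk (R := R) P p)
    (p : P) (a : R) (φ : P →ₗ[R] R) (r : R) (hu : φ p + r * a = 1) :
    ∃ (q : P) (ψ : P →ₗ[R] R), ψ (p + a • q) = 1 := by
  have hA : IsClosed {x : MaximalSpectrum R | a ∈ x.asIdeal} := by
    have : {x : MaximalSpectrum R | a ∈ x.asIdeal} =
        MaximalSpectrum.toPrimeSpectrum ⁻¹' (PrimeSpectrum.zeroLocus {a}) := by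
      ext x
      rw [Set.mem_preimage, PrimeSpectrum.mem_zeroLocus, Set.singleton_subset_iff]
      rfl
    rw [this]
    exact (PrimeSpectrum.isClosed_zeroLocus _).preimage MaximalSpectrum.toPrimeSpectrum_continuous
  obtain ⟨q, F', -, hb, hc⟩ := affine' (R := R) (M := P) p a (d + 1) 0 Fin.elim0
    {x : MaximalSpectrum R | a ∈ x.asIdeal} hA
    (fun x => by
      rw [zero_add]
      exact le_finrank_of_rank P x (d + 1) (hrk _))
    (fun x hx => absurd linearIndependent_empty_type hx)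
    (fun x hx => hx)
  have hF' : F' = ∅ :=
    eq_empty_of_codimGE d (topologicalKrullDim_maximalSpectrum_le.trans hdim) hc
  obtain ⟨ψ, hψ⟩ := exists_form_eq_one (R := R) (M := P) (p + a • q) (by
    intro (x : MaximalSpectrum R) h0
    have := x.isMaximal
    let _ : Field (R ⧸ x.asIdeal) := Ideal.Quotient.field x.asIdeal
    have hx := hb x (fun hli => by
      have := hli.ne_zero (Fin.last 0)
      rw [Fin.snoc_last] at this
      exact this h0)
    rw [hF', Set.union_empty] at hx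
    have hxa : a ∈ x.asIdeal := hx
    rw [img_add_smul_of_mem x p q a hxa, img_eq_zero_iff] at h0
    have h1 := h0 φ
    have h2 : (1 : R) ∈ x.asIdeal := by
      rw [← hu]
      exact x.asIdeal.add_mem h1 (x.asIdeal.mul_mem_left r hxa)
    exact x.isMaximal.ne_top ((Ideal.eq_top_iff_one _).mpr h2))
  exact ⟨q, ψ, hψ⟩


section Shear

variable {P P' : Type*} [AddCommGroup P] [Module R P] [AddCommGroup P'] [Module R P']

theorem map_last_aux (ρ : (P × R) ≃ₗ[R] (P' × R)) (h : ρ (0, 1) = (0, 1)) (x : P) :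
    (ρ.symm ((ρ (x, 0)).1, 0)).1 = x := by
  have key : ρ (x, -(ρ (x, 0)).2) = ((ρ (x, 0)).1, 0) := by
    have : (x, -(ρ (x, 0)).2) = (x, (0 : R)) - (ρ (x, 0)).2 • ((0 : P), (1 : R)) := by
      ext <;> simp
    rw [this, map_sub, map_smul, h]
    ext <;> simp
  rw [← key, LinearEquiv.symm_apply_apply]

/-- If `ρ : P × R ≃ P' × R` fixes `(0, 1)`, then `P ≃ P'`. -/
def equivOfMapLast (ρ : (P × R) ≃ₗ[R] (P' × R)) (h : ρ (0, 1) = (0, 1)) : P ≃ₗ[R] P' :=
  LinearEquiv.ofLinearMap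
    (LinearMap.fst R P' R ∘ₗ ρ.toLinearMap ∘ₗ LinearMap.inl R P R)
    (LinearMap.fst R P R ∘ₗ ρ.symm.toLinearMap ∘ₗ LinearMap.inl R P' R)
    (by
      ext x
      have h' : ρ.symm (0, 1) = (0, 1) := by rw [← h, LinearEquiv.symm_apply_apply]
      simpa using map_last_aux ρ.symm h' x)
    (by
      ext x
      simpa using map_last_aux ρ h x)

/-- `(x, r) ↦ (x + r • q, r)`. -/
def shearFst (q : P) : (P × R) ≃ₗ[R] (P × R) :=
  (LinearEquiv.prodComm R P R) ≪≫ₗ
    (LinearEquiv.skewProd (LinearEquiv.refl R R) (LinearEquiv.refl R P)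
      (LinearMap.toSpanSingleton R P q)) ≪≫ₗ
    (LinearEquiv.prodComm R R P)

theorem shearFst_apply (q : P) (x : P) (r : R) : shearFst q (x, r) = (x + r • q, r) := by
  simp [shearFst]

/-- `(x, r) ↦ (x, r + ψ x)`. -/
def shearSnd (ψ : P →ₗ[R] R) : (P × R) ≃ₗ[R] (P × R) :=
  LinearEquiv.skewProd (LinearEquiv.refl R P) (LinearEquiv.refl R R) ψ

theorem shearSnd_apply (ψ : P →ₗ[R] R) (x : P) (r : R) : shearSnd ψ (x, r) = (x, r + ψ x) := by
  simp [shearSnd]

end Shear

/-- Cancellation of one free summand of rank one. -/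
theorem cancel_one [IsNoetherianRing R] (d : ℕ) (hdim : ringKrullDim R ≤ d)
    (P P' : Type u) [AddCommGroup P] [Module R P] [Module.Finite R P] [Module.Projective R P]
    [AddCommGroup P'] [Module R P']
    (hrk : ∀ p : PrimeSpectrum R, d + 1 ≤ Module.rankAtStalk (R := R) P p)
    (σ : (P × R) ≃ₗ[R] (P' × R)) : Nonempty (P ≃ₗ[R] P') := by
  obtain ⟨p, a, hpa⟩ : ∃ p a, σ.symm (0, 1) = (p, a) := ⟨_, _, rfl⟩
  let Λ : P × R →ₗ[R] R := LinearMap.snd R P' R ∘ₗ σ.toLinearMap
  have hσ : σ (p, a) = (0, 1) := by rw [← hpa, LinearEquiv.apply_symm_apply]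
  have hΛ : Λ (p, a) = 1 := by simp [Λ, hσ]
  have hu : (Λ ∘ₗ LinearMap.inl R P R) p + Λ (0, 1) * a = 1 := by
    have h0 : (p, a) = (p, (0 : R)) + a • ((0 : P), (1 : R)) := by ext <;> simp
    have h2 : Λ (p, a) = (Λ ∘ₗ LinearMap.inl R P R) p + Λ (0, 1) * a := by
      conv_lhs => rw [h0]
      rw [map_add, map_smul, smul_eq_mul, mul_comm]
      rfl
    rw [← h2]
    exact hΛ
  obtain ⟨q, ψ, hψ⟩ := exists_unimodular_shift d hdim P hrk p a _ _ hu
  let τ : (P × R) ≃ₗ[R] (P × R) :=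
    shearFst q ≪≫ₗ shearSnd ((1 - a) • ψ) ≪≫ₗ shearFst (-(p + a • q))
  have hτ : τ (p, a) = (0, 1) := by
    simp only [τ, LinearEquiv.trans_apply, shearFst_apply, shearSnd_apply, LinearMap.smul_apply, hψ]
    ext <;> simp
  refine ⟨equivOfMapLast (τ.symm ≪≫ₗ σ) ?_⟩
  rw [LinearEquiv.trans_apply, ← hτ, LinearEquiv.symm_apply_apply, hσ]

/-- Cancellation of `Rᵐ`. -/
theorem cancel_fin [IsNoetherianRing R] (d : ℕ) (hdim : ringKrullDim R ≤ d) (m : ℕ) :
    ∀ (P P' : Type u) [AddCommGroup P] [Module R P] [Module.Finite R P] [Module.Projective R P]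
    [AddCommGroup P'] [Module R P'],
    (∀ p : PrimeSpectrum R, d + 1 ≤ Module.rankAtStalk (R := R) P p) →
    ((P × (Fin m → R)) ≃ₗ[R] (P' × (Fin m → R))) → Nonempty (P ≃ₗ[R] P') := by
  induction m with
  | zero =>
    intro P P' _ _ _ _ _ _ _ e
    exact ⟨(LinearEquiv.prodUnique (R := R) (M := P) (M₂ := Fin 0 → R)).symm ≪≫ₗ e ≪≫ₗ
      LinearEquiv.prodUnique⟩
  | succ m ih =>
    intro P P' _ _ _ _ _ _ hrk e
    let c : (R × (Fin m → R)) ≃ₗ[R] (Fin (m + 1) → R) :=
      Fin.consLinearEquiv R (fun _ : Fin (m + 1) => R)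
    let f : ∀ (Q : Type u) [AddCommGroup Q] [Module R Q],
        ((Q × (Fin m → R)) × R) ≃ₗ[R] (Q × (Fin (m + 1) → R)) := fun Q _ _ =>
      (LinearEquiv.prodAssoc R Q (Fin m → R) R) ≪≫ₗ
        (LinearEquiv.prodCongr (LinearEquiv.refl R Q)
          ((LinearEquiv.prodComm R (Fin m → R) R) ≪≫ₗ c))
    have e1 : ((P × (Fin m → R)) × R) ≃ₗ[R] ((P' × (Fin m → R)) × R) :=
      f P ≪≫ₗ e ≪≫ₗ (f P').symm
    obtain ⟨e2⟩ := cancel_one d hdim (P × (Fin m → R)) (P' × (Fin m → R)) (fun p => by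
      rw [Module.rankAtStalk_prod]
      exact (hrk p).trans (Nat.le_add_right _ _)) e1
    exact ih P P' hrk e2

/-- `(ι → A × B) ≃ (ι → A) × (ι → B)`. -/
def piProdEquiv (ι : Type*) (A B : Type*) [AddCommGroup A] [Module R A] [AddCommGroup B]
    [Module R B] : (ι → A × B) ≃ₗ[R] (ι → A) × (ι → B) where
  toFun f := (fun i => (f i).1, fun i => (f i).2)
  invFun g i := (g.1 i, g.2 i)
  map_add' _ _ := rfl
  map_smul' _ _ := rfl
  left_inv _ := rfl
  right_inv _ := rfl

/-- Stably isomorphic projective modules of positive constant rank `n` have isomorphic `N`-th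
powers as soon as `N * n > dim R`. -/
theorem pow_equiv [IsNoetherianRing R] (d : ℕ) (hdim : ringKrullDim R ≤ d) (N : ℕ)
    (P Q : Type u) [AddCommGroup P] [Module R P] [Module.Finite R P] [Module.Projective R P]
    [AddCommGroup Q] [Module R Q]
    (hrk : ∀ p : PrimeSpectrum R, d + 1 ≤ N * Module.rankAtStalk (R := R) P p)
    (m : ℕ) (e : (P × (Fin m → R)) ≃ₗ[R] (Q × (Fin m → R))) :
    Nonempty ((Fin N → P) ≃ₗ[R] (Fin N → Q)) := by
  let c : (Fin N → (Fin m → R)) ≃ₗ[R] (Fin (N * m) → R) :=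
    (LinearEquiv.curry R R (Fin N) (Fin m)).symm ≪≫ₗ
      LinearEquiv.funCongrLeft R R finProdFinEquiv.symm
  let g : ∀ (A : Type u) [AddCommGroup A] [Module R A],
      (Fin N → (A × (Fin m → R))) ≃ₗ[R] ((Fin N → A) × (Fin (N * m) → R)) := fun A _ _ =>
    (piProdEquiv (R := R) (Fin N) A (Fin m → R)) ≪≫ₗ
      LinearEquiv.prodCongr (LinearEquiv.refl R (Fin N → A)) c
  have e1 : ((Fin N → P) × (Fin (N * m) → R)) ≃ₗ[R] ((Fin N → Q) × (Fin (N * m) → R)) :=
    (g P).symm ≪≫ₗ LinearEquiv.piCongrRight (fun _ => e) ≪≫ₗ g Q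
  have : Module.Projective R (Fin N → P) :=
    Module.Projective.of_equiv' (DFinsupp.linearEquivFunOnFintype (R := R) (ι := Fin N)
      (M := fun _ => P))
  refine cancel_fin d hdim (N * m) (Fin N → P) (Fin N → Q) (fun p => ?_) e1
  rw [Module.rankAtStalk_pi (fun _ : Fin N => P) p, finsum_eq_sum_of_fintype, Finset.sum_const,
    Finset.card_univ, Fintype.card_fin, smul_eq_mul]
  exact hrk p

end Groth.Agent.Lib.Seat14.BassCancel
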