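import Groth.Agent.Lib.Helper14LocalFree2
import Mathlib

/-!
# Bass: big projective modules (seat 14)

Let `R` be a commutative ring with `R / rad R` Noetherian and `P` a projective module of infinite
rank at every maximal ideal.  We prove

* `exists_unimodular_add`: if `R s + M = P` there is `m ∈ M` with `s + m` unimodular;
* `exists_free_summand`: every element lies in a finite free direct summand;
* `free_of_countablyGenerated`: if `P` is countably generated then it is free.
-/

set_option autoImplicit false
universe u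

namespace Groth.Agent.Lib.Seat14.BigProj

variable {R : Type u} [CommRing R]

/-! ### An ascending chain argument modulo the Jacobson radical -/

/-- If a family of ideals can always be enlarged modulo the Jacobson radical past any maximal ideal
containing a member, then some member is the unit ideal. -/
theorem exists_eq_top [IsNoetherianRing (R ⧸ (⊥ : Ideal R).jacobson)]
    {α : Type*} [Nonempty α] (I : α → Ideal R)
    (step : ∀ a, ∀ x : Ideal R, x.IsMaximal → I a ≤ x →
      ∃ b, I a ≤ I b ⊔ (⊥ : Ideal R).jacobson ∧ ∃ z ∈ I b, z ∉ x) :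
    ∃ a, I a = ⊤ := by
  set J : Ideal R := (⊥ : Ideal R).jacobson with hJ
  let q := Ideal.Quotient.mk J
  have hwf : WellFounded ((· > ·) : Ideal (R ⧸ J) → Ideal (R ⧸ J) → Prop) :=
    wellFounded_gt
  obtain ⟨_, ⟨a, rfl⟩, hmax⟩ := hwf.has_min (Set.range fun a => (I a).map q)
    (Set.range_nonempty _)
  refine ⟨a, ?_⟩
  by_contra hne
  obtain ⟨x, hx, hIx⟩ := Ideal.exists_le_maximal (I a) hne
  have hJx : J ≤ x := sInf_le ⟨bot_le, hx⟩
  obtain ⟨b, hab, z, hzb, hzx⟩ := step a x hx hIx
  apply hmax ((I b).map q) ⟨b, rfl⟩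
  have hle : (I a).map q ≤ (I b).map q := by
    calc (I a).map q ≤ (I b ⊔ J).map q := Ideal.map_mono hab
      _ = (I b).map q := by
        rw [Ideal.map_sup, Ideal.map_quotient_self, sup_bot_eq]
  refine lt_of_le_of_ne hle ?_
  intro heq
  have h1 : q z ∈ (I b).map q := Ideal.mem_map_of_mem q hzb
  rw [← heq, Ideal.mem_quotient_iff_mem_sup] at h1
  exact hzx (sup_le hIx hJx h1)

/-! ### Bigness -/

/-- `P` is *big* if it is not finitely generated modulo any maximal ideal. -/
def Big (R : Type u) [CommRing R] (P : Type u) [AddCommGroup P] [Module R P] : Prop :=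
  ∀ x : Ideal R, x.IsMaximal → ∀ N : Submodule R P, N.FG → N ⊔ x • (⊤ : Submodule R P) ≠ ⊤

variable {P : Type u} [AddCommGroup P] [Module R P]

/-- Bigness passes to a complement of a finitely generated submodule. -/
theorem Big.of_sup_eq_top (hbig : Big R P) (S Q : Submodule R P) (hS : S.FG)
    (hsup : S ⊔ Q = ⊤) : Big R Q := by
  intro x hx N' hN' htop
  apply hbig x hx (S ⊔ N'.map Q.subtype) (hS.sup (hN'.map _))
  rw [eq_top_iff]
  intro y0 _
  have hy0 : y0 ∈ S ⊔ Q := by rw [hsup]; trivial
  obtain ⟨a, ha, y, hy, rfl⟩ := Submodule.mem_sup.mp hy0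
  refine Submodule.add_mem _ (Submodule.mem_sup_left (Submodule.mem_sup_left ha)) ?_
  have h1 : (⟨y, hy⟩ : Q) ∈ N' ⊔ x • (⊤ : Submodule R Q) := by rw [htop]; trivial
  have h2 : y ∈ (N' ⊔ x • (⊤ : Submodule R Q)).map Q.subtype := ⟨⟨y, hy⟩, h1, rfl⟩
  rw [Submodule.map_sup, Submodule.map_smul''] at h2
  have h3 : N'.map Q.subtype ⊔ x • (⊤ : Submodule R Q).map Q.subtype ≤
      (S ⊔ N'.map Q.subtype) ⊔ x • (⊤ : Submodule R P) :=
    sup_le_sup le_sup_right (Submodule.smul_mono le_rfl le_top)
  exact h3 h2

/-! ### Coordinates on a projective module -/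

section Coord

variable (i : P →ₗ[R] (P →₀ R)) (hi : Finsupp.linearCombination R id ∘ₗ i = LinearMap.id)
include hi

theorem expansion (y : P) : y = ∑ j ∈ (i y).support, (i y j) • j := by
  have := LinearMap.congr_fun hi y
  simp only [LinearMap.coe_comp, Function.comp_apply, LinearMap.id_coe, id_eq,
    Finsupp.linearCombination_apply, Finsupp.sum] at this
  exact this.symm

theorem map_eq_sum {N : Type*} [AddCommGroup N] [Module R N] (f : P →ₗ[R] N) (y : P) :
    f y = ∑ j ∈ (i y).support, (i y j) • f j := by
  conv_lhs => rw [expansion i hi y]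
  rw [map_sum]
  simp only [map_smul]

/-- If all coordinates of `y` lie in `x` then `y ∈ x P`. -/
theorem mem_smul_top_of_coord (x : Ideal R) (y : P) (h : ∀ j, i y j ∈ x) :
    y ∈ x • (⊤ : Submodule R P) := by
  rw [expansion i hi y]
  exact Submodule.sum_mem _ fun j _ => Submodule.smul_mem_smul (h j) trivial

/-- If all coordinates outside a finite set `B` lie in `x`, then `P = span B + x P`. -/
theorem span_sup_smul_eq_top (x : Ideal R) (B : Finset P)
    (h : ∀ y : P, ∀ j, j ∉ B → i y j ∈ x) :
    Submodule.span R (B : Set P) ⊔ x • (⊤ : Submodule R P) = ⊤ := by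
  rw [eq_top_iff]
  intro y _
  rw [expansion i hi y]
  refine Submodule.sum_mem _ fun j _ => ?_
  by_cases hj : j ∈ B
  · exact Submodule.mem_sup_left (Submodule.smul_mem _ _ (Submodule.subset_span hj))
  · exact Submodule.mem_sup_right (Submodule.smul_mem_smul (h y j hj) trivial)

end Coord

/-! ### Bigness from the localizations (uses Kaplansky's theorem) -/

theorem big_of_localization [Module.Projective R P]
    (hP : ∀ (m : Ideal R) [m.IsMaximal],
      ¬ Module.Finite (Localization.AtPrime m) (LocalizedModule m.primeCompl P)) : Big R P := by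
  classical
  intro x hx N hN htop
  apply hP x
  let A := Localization.AtPrime x
  let Q := LocalizedModule x.primeCompl P
  have hfree : Module.Free A Q := Groth.Agent.Lib.Helper14.LocalFree.free_of_projective
  let b := Module.Free.chooseBasis A Q
  obtain ⟨S, hS⟩ := hN
  let mkQ : P →ₗ[R] Q := LocalizedModule.mkLinearMap x.primeCompl P
  let B : Finset (Module.Free.ChooseBasisIndex A Q) :=
    S.biUnion fun y => (b.repr (mkQ y)).support
  have key : ∀ j, j ∈ B := by
    intro j
    by_contra hj
    let lam : P →ₗ[R] A := (b.coord j).restrictScalars R ∘ₗ mkQ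
    have hlamS : ∀ y ∈ S, lam y = 0 := by
      intro y hy
      have : j ∉ (b.repr (mkQ y)).support := fun h => hj (Finset.mem_biUnion.mpr ⟨y, hy, h⟩)
      simpa [lam, Module.Basis.coord_apply] using Finsupp.notMem_support_iff.mp this
    let mA : Submodule R A := (IsLocalRing.maximalIdeal A).restrictScalars R
    have hle : (⊤ : Submodule R P) ≤ mA.comap lam := by
      rw [← htop]
      refine sup_le ?_ ?_
      · rw [← hS, Submodule.span_le]
        intro y hy
        show lam y ∈ mA
        rw [hlamS y hy]
        exact mA.zero_mem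
      · rw [Submodule.smul_le]
        intro r hr n _
        show lam (r • n) ∈ mA
        rw [map_smul, Algebra.smul_def]
        refine Ideal.mul_mem_right _ _ ?_
        exact (IsLocalization.AtPrime.to_map_mem_maximal_iff A x r).mpr hr
    have hall : ∀ z : Q, b.coord j z ∈ IsLocalRing.maximalIdeal A := by
      intro z
      induction z using LocalizedModule.induction_on with
      | h y t =>
        have h1 : LocalizedModule.mk y t = (Localization.mk 1 t : A) • mkQ y := by
          rw [LocalizedModule.mkLinearMap_apply, LocalizedModule.mk_smul_mk, one_smul, mul_one]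
        rw [h1, map_smul, smul_eq_mul]
        refine Ideal.mul_mem_left _ _ ?_
        exact hle (Submodule.mem_top : y ∈ ⊤)
    have h1 := hall (b j)
    rw [Module.Basis.coord_apply, Module.Basis.repr_self, Finsupp.single_eq_same] at h1
    exact (Ideal.ne_top_iff_one _).mp (IsLocalRing.maximalIdeal.isMaximal A).ne_top h1
  have : Finite (Module.Free.ChooseBasisIndex A Q) :=
    Finite.of_injective (fun j => (⟨j, key j⟩ : B)) (fun j j' h => congrArg Subtype.val h)
  exact Module.Finite.of_basis b

/-! ### The content ideal -/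

/-- The ideal of values of linear forms at `t`. -/
def content (t : P) : Ideal R :=
  LinearMap.range (LinearMap.applyₗ t : (P →ₗ[R] R) →ₗ[R] R)

theorem mem_content {t : P} {a : R} : a ∈ content t ↔ ∃ φ : P →ₗ[R] R, φ t = a := Iff.rfl

theorem apply_mem_content (φ : P →ₗ[R] R) (t : P) : φ t ∈ content t := ⟨φ, rfl⟩

/-- the coordinate forms -/
noncomputable def coord (i : P →ₗ[R] (P →₀ R)) (j : P) : P →ₗ[R] R := Finsupp.lapply j ∘ₗ i

@[simp] theorem coord_apply (i : P →ₗ[R] (P →₀ R)) (j y : P) : coord i j y = i y j := rfl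

/-- The content ideal is contained in any ideal containing the coordinates. -/
theorem content_le_of_coord (i : P →ₗ[R] (P →₀ R))
    (hi : Finsupp.linearCombination R id ∘ₗ i = LinearMap.id) (t : P) (K : Ideal R)
    (h : ∀ j ∈ (i t).support, i t j ∈ K) : content t ≤ K := by
  rintro _ ⟨φ, rfl⟩
  show φ t ∈ K
  rw [map_eq_sum i hi φ t]
  exact K.sum_mem fun j hj => K.mul_mem_right _ (h j hj)

/-! ### The primal general position lemma -/

theorem exists_unimodular_add [IsNoetherianRing (R ⧸ (⊥ : Ideal R).jacobson)]
    [Module.Projective R P] (hbig : Big R P) (s : P) (M : Submodule R P)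
    (hM : Submodule.span R {s} ⊔ M = ⊤) :
    ∃ m ∈ M, ∃ φ : P →ₗ[R] R, φ (s + m) = 1 := by
  classical
  obtain ⟨i, hi⟩ := Module.projective_def'.mp (inferInstance : Module.Projective R P)
  set J : Ideal R := (⊥ : Ideal R).jacobson with hJ
  have hne : Nonempty M := ⟨0⟩
  obtain ⟨m₀, hm₀⟩ := exists_eq_top (R := R) (fun m : M => content (s + (m : P))) (by
    intro m₀ x hx hcx
    obtain ⟨t, ht⟩ : ∃ t : P, t = s + (m₀ : P) := ⟨_, rfl⟩
    have hcx' : content t ≤ x := by rw [ht]; exact hcx
    let A : Finset P := (i t).support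
    -- the key claim
    have claim : ∃ m' ∈ M, (∀ a ∈ A, i m' a ∈ J) ∧ ∃ j, i m' j ∉ x := by
      by_contra hcon
      push Not at hcon
      let q : R →ₗ[R] (R ⧸ J) := Submodule.mkQ J
      let ρ : P →ₗ[R] (A → R ⧸ J) := LinearMap.pi fun a => q ∘ₗ coord i (a : P)
      have hfg : (Submodule.span (R ⧸ J) (ρ '' (M : Set P))).FG := IsNoetherian.noetherian _
      obtain ⟨T', hT'sub, hT'⟩ := (Submodule.fg_span_iff_fg_span_finset_subset _).mp hfg
      choose! g hgM hgρ using fun w (hw : w ∈ (T' : Set (A → R ⧸ J))) => hT'sub hw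
      let N : Submodule R P := Submodule.span R (insert s (T'.image g : Finset P) : Set P)
      have hNfg : N.FG := ⟨insert s (T'.image g), by simp [N]⟩
      have hMle : ∀ m ∈ M, m ∈ N ⊔ x • (⊤ : Submodule R P) := by
        intro m hm
        have h1 : ρ m ∈ Submodule.span (R ⧸ J) (T' : Set (A → R ⧸ J)) := by
          rw [← hT']
          exact Submodule.subset_span ⟨m, hm, rfl⟩
        obtain ⟨f, hf⟩ := Submodule.mem_span_finset'.mp h1
        choose r hr using fun w : T' => Ideal.Quotient.mk_surjective (f w)
        let m' : P := m - ∑ w : T', r w • g w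
        have hm'M : m' ∈ M := by
          refine M.sub_mem hm (M.sum_mem fun w _ => M.smul_mem _ (hgM _ w.2))
        have hρm' : ρ m' = 0 := by
          simp only [m', map_sub, map_sum, map_smul]
          rw [← hf, sub_eq_zero]
          refine Finset.sum_congr rfl fun w _ => ?_
          rw [hgρ _ w.2, ← hr w]
          rfl
        have hcoord : ∀ a ∈ A, i m' a ∈ J := by
          intro a ha
          have := congrFun hρm' ⟨a, ha⟩
          have h0 : (Ideal.Quotient.mk J) (i m' a) = 0 := this
          exact Ideal.Quotient.eq_zero_iff_mem.mp h0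
        have hm'x : m' ∈ x • (⊤ : Submodule R P) :=
          mem_smul_top_of_coord i hi x m' (hcon m' hm'M hcoord)
        have : m = (∑ w : T', r w • g w) + m' := by simp [m']
        rw [this]
        refine Submodule.add_mem _ (Submodule.mem_sup_left ?_) (Submodule.mem_sup_right hm'x)
        refine Submodule.sum_mem _ fun w _ => Submodule.smul_mem _ _ (Submodule.subset_span ?_)
        refine Set.mem_insert_of_mem _ ?_
        exact Finset.mem_coe.mpr (Finset.mem_image.mpr ⟨w.1, w.2, rfl⟩)
      apply hbig x hx N hNfg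
      have hle : Submodule.span R {s} ⊔ M ≤ N ⊔ x • (⊤ : Submodule R P) := by
        refine sup_le ?_ ?_
        · rw [Submodule.span_le, Set.singleton_subset_iff]
          exact Submodule.mem_sup_left (Submodule.subset_span (Set.mem_insert _ _))
        · intro m hm
          exact hMle m hm
      rw [eq_top_iff]
      exact hM ▸ hle
    obtain ⟨m', hm'M, hm'A, j, hj⟩ := claim
    have e : s + ((m₀ : P) + m') = t + m' := by rw [ht, add_assoc]
    refine ⟨⟨(m₀ : P) + m', M.add_mem m₀.2 hm'M⟩, ?_, ?_⟩
    · -- content t ≤ content t' ⊔ J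
      show content (s + (m₀ : P)) ≤ content (s + ((m₀ : P) + m')) ⊔ J
      rw [e, ← ht]
      apply content_le_of_coord i hi
      intro a ha
      have : i t a = i (t + m') a - i m' a := by
        rw [map_add, Finsupp.add_apply, add_sub_cancel_right]
      rw [this]
      exact Ideal.sub_mem _ (Ideal.mem_sup_left (apply_mem_content (coord i a) _))
        (Ideal.mem_sup_right (hm'A a ha))
    · show ∃ z ∈ content (s + ((m₀ : P) + m')), z ∉ x
      rw [e]
      refine ⟨i (t + m') j, apply_mem_content (coord i j) _, ?_⟩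
      rw [map_add, Finsupp.add_apply]
      intro h
      apply hj
      have h2 : i t j ∈ x := hcx' (apply_mem_content (coord i j) t)
      have := x.sub_mem h h2
      rwa [add_sub_cancel_left] at this)
  have h1 : (1 : R) ∈ content (s + (m₀ : P)) := by rw [hm₀]; trivial
  obtain ⟨φ, hφ⟩ := h1
  exact ⟨m₀, m₀.2, φ, hφ⟩

end Groth.Agent.Lib.Seat14.BigProj
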