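import Groth.Agent.Lib.Seat14BigProj

/-!
# Bass: big projective modules, part 2 (seat 14)

Dual general position: linear forms can be corrected (keeping their values on finitely many given
elements) to become a split surjection `P → Rⁿ`.  Consequently every element of a big projective
module lies in a finite free direct summand, and countably generated big projective modules are
free.
-/

set_option autoImplicit false
universe u

namespace Groth.Agent.Lib.Seat14.BigProj

variable {R : Type u} [CommRing R]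

/-- Dual general position, rank one. -/
theorem exists_functional [IsNoetherianRing (R ⧸ (⊥ : Ideal R).jacobson)]
    {P : Type u} [AddCommGroup P] [Module R P]
    [Module.Projective R P] (hbig : Big R P) (ψ : P →ₗ[R] R) (T : Finset P) :
    ∃ θ : P →ₗ[R] R, (∀ y ∈ T, θ y = 0) ∧ ∃ u, (ψ + θ) u = 1 := by
  classical
  obtain ⟨i, hi⟩ := Module.projective_def'.mp (inferInstance : Module.Projective R P)
  set J : Ideal R := (⊥ : Ideal R).jacobson with hJ
  let Θ := {θ : P →ₗ[R] R // ∀ y ∈ T, θ y = 0}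
  have hne : Nonempty Θ := ⟨⟨0, fun _ _ => rfl⟩⟩
  obtain ⟨θ₀, hθ₀⟩ := exists_eq_top (R := R)
    (fun θ : Θ => (LinearMap.range (ψ + θ.1) : Ideal R)) (by
    intro θ₀ x hx hcx
    let φ₀ : P →ₗ[R] R := ψ + θ₀.1
    let q := Ideal.Quotient.mk J
    have hfg : (Ideal.map q (LinearMap.range φ₀ : Ideal R)).FG := IsNoetherian.noetherian _
    obtain ⟨G, hG⟩ := hfg
    have hGmem : ∀ g ∈ G, ∃ y : P, q (φ₀ y) = g := by
      intro g hg
      have h1 : g ∈ Ideal.map q (LinearMap.range φ₀ : Ideal R) := by
        rw [← hG]; exact Submodule.subset_span hg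
      obtain ⟨z, ⟨y, rfl⟩, hz⟩ :=
        (Ideal.mem_map_iff_of_surjective q Ideal.Quotient.mk_surjective).mp h1
      exact ⟨y, hz⟩
    choose! yg hyg using hGmem
    let T₂ : Finset P := T ∪ G.image yg
    let B : Finset P := T₂.biUnion fun y => (i y).support
    have hB : ∃ y₁ : P, ∃ j, j ∉ B ∧ i y₁ j ∉ x := by
      by_contra hcon
      push Not at hcon
      exact hbig x hx (Submodule.span R (B : Set P)) ⟨B, rfl⟩
        (span_sup_smul_eq_top i hi x B hcon)
    obtain ⟨y₁, j, hjB, hjx⟩ := hB
    have hkill : ∀ y ∈ T₂, coord i j y = 0 := by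
      intro y hy
      have : j ∉ (i y).support := fun h => hjB (Finset.mem_biUnion.mpr ⟨y, hy, h⟩)
      exact Finsupp.notMem_support_iff.mp this
    refine ⟨⟨θ₀.1 + coord i j, ?_⟩, ?_, ?_⟩
    · intro y hy
      rw [LinearMap.add_apply, θ₀.2 y hy, hkill y (Finset.mem_union_left _ hy), add_zero]
    · -- range φ₀ ≤ range φ₁ ⊔ J
      show (LinearMap.range φ₀ : Ideal R) ≤
        (LinearMap.range (ψ + (θ₀.1 + coord i j)) : Ideal R) ⊔ J
      intro z hz
      have h1 : q z ∈ Ideal.map q (LinearMap.range φ₀ : Ideal R) := Ideal.mem_map_of_mem q hz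
      have h2 : Ideal.map q (LinearMap.range φ₀ : Ideal R) ≤
          Ideal.map q (LinearMap.range (ψ + (θ₀.1 + coord i j)) : Ideal R) := by
        rw [← hG, Ideal.span_le]
        intro g hg
        rw [← hyg g hg]
        refine Ideal.mem_map_of_mem q ⟨yg g, ?_⟩
        rw [LinearMap.add_apply, LinearMap.add_apply,
          hkill (yg g) (Finset.mem_union_right _ (Finset.mem_image_of_mem _ hg)), add_zero]
        rfl
      exact Ideal.mem_quotient_iff_mem_sup.mp (h2 h1)
    · refine ⟨(ψ + (θ₀.1 + coord i j)) y₁, ⟨y₁, rfl⟩, ?_⟩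
      intro h
      apply hjx
      have h2 : φ₀ y₁ ∈ x := hcx ⟨y₁, rfl⟩
      have h3 : (ψ + (θ₀.1 + coord i j)) y₁ = φ₀ y₁ + i y₁ j := by
        simp only [LinearMap.add_apply, coord_apply, φ₀]
        ring
      rw [h3] at h
      have := x.sub_mem h h2
      rwa [add_sub_cancel_left] at this)
  have h1 : (1 : R) ∈ (LinearMap.range (ψ + θ₀.1) : Ideal R) := by rw [hθ₀]; trivial
  obtain ⟨u, hu⟩ := h1
  exact ⟨θ₀.1, θ₀.2, u, hu⟩

/-- Dual general position, rank `n`: finitely many forms can be corrected, without changing their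
values on a given finite set, to a split surjection onto `Rⁿ`. -/
theorem exists_surj [IsNoetherianRing (R ⧸ (⊥ : Ideal R).jacobson)] (n : ℕ) :
    ∀ (P : Type u) [AddCommGroup P] [Module R P] [Module.Projective R P], Big R P →
    ∀ (ψ : Fin n → (P →ₗ[R] R)) (T : Finset P),
    ∃ θ : Fin n → (P →ₗ[R] R), (∀ k, ∀ y ∈ T, θ k y = 0) ∧
      ∃ σ : (Fin n → R) →ₗ[R] P, ∀ v k, (ψ k + θ k) (σ v) = v k := by
  classical
  induction n with
  | zero =>
    intro P _ _ _ _ ψ T
    exact ⟨fun k => k.elim0, fun k => k.elim0, 0, fun v k => k.elim0⟩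
  | succ n ih =>
    intro P _ _ _ hbig ψ T
    obtain ⟨θ₀, hθ₀, u, hu⟩ := exists_functional hbig (ψ 0) T
    let φ₀ : P →ₗ[R] R := ψ 0 + θ₀
    let P' : Submodule R P := LinearMap.ker φ₀
    -- projection onto `P'`
    let pr0 : P →ₗ[R] P := LinearMap.id - (LinearMap.toSpanSingleton R P u) ∘ₗ φ₀
    have hpr0 : ∀ y, pr0 y = y - φ₀ y • u := fun y => rfl
    have hpr0mem : ∀ y, pr0 y ∈ P' := by
      intro y
      show φ₀ (pr0 y) = 0
      rw [hpr0, map_sub, map_smul, hu, smul_eq_mul, mul_one, sub_self]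
    let pr : P →ₗ[R] P' := LinearMap.codRestrict P' pr0 hpr0mem
    have hpr_sub : ∀ z : P', pr (z : P) = z := by
      intro z
      apply Subtype.ext
      show pr0 (z : P) = z
      have hz : φ₀ (z : P) = 0 := z.2
      rw [hpr0, hz, zero_smul, sub_zero]
    have hproj : Module.Projective R P' :=
      Module.Projective.of_split P'.subtype pr (LinearMap.ext hpr_sub)
    have hsup : Submodule.span R {u} ⊔ P' = ⊤ := by
      rw [eq_top_iff]
      intro y _
      have : y = φ₀ y • u + pr0 y := by rw [hpr0]; abel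
      rw [this]
      exact Submodule.add_mem _
        (Submodule.mem_sup_left (Submodule.smul_mem _ _ (Submodule.mem_span_singleton_self u)))
        (Submodule.mem_sup_right (hpr0mem y))
    have hbig' : Big R P' := hbig.of_sup_eq_top _ P' (Submodule.fg_span_singleton u) hsup
    obtain ⟨θ', hθ', σ', hσ'⟩ := ih P' hbig' (fun k => (ψ k.succ) ∘ₗ P'.subtype) (T.image pr)
    -- the corrected forms
    let θ : Fin (n + 1) → (P →ₗ[R] R) := Fin.cons θ₀ (fun k => θ' k ∘ₗ pr)
    let d : Fin n → R := fun k => (ψ k.succ + θ' k ∘ₗ pr) u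
    let L : (Fin (n + 1) → R) →ₗ[R] (Fin n → R) :=
      LinearMap.pi fun k => LinearMap.proj k.succ - d k • LinearMap.proj 0
    let σ : (Fin (n + 1) → R) →ₗ[R] P :=
      (LinearMap.toSpanSingleton R P u) ∘ₗ (LinearMap.proj 0) + P'.subtype ∘ₗ σ' ∘ₗ L
    have hσ : ∀ v, σ v = v 0 • u + ((σ' (L v) : P') : P) := fun v => rfl
    refine ⟨θ, ?_, σ, ?_⟩
    · intro k
      refine Fin.cases ?_ (fun k => ?_) k
      · intro y hy
        exact hθ₀ y hy
      · intro y hy
        show θ' k (pr y) = 0
        exact hθ' k (pr y) (Finset.mem_image_of_mem _ hy)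
    · intro v k
      refine Fin.cases ?_ (fun k => ?_) k
      · show φ₀ (σ v) = v 0
        rw [hσ, map_add, map_smul, hu, smul_eq_mul, mul_one]
        have : φ₀ ((σ' (L v) : P') : P) = 0 := (σ' (L v)).2
        rw [this, add_zero]
      · show (ψ k.succ + θ' k ∘ₗ pr) (σ v) = v k.succ
        rw [hσ, map_add, map_smul]
        have h1 : (ψ k.succ + θ' k ∘ₗ pr) ((σ' (L v) : P') : P) = (L v) k := by
          rw [← hσ' (L v) k]
          simp only [LinearMap.add_apply, LinearMap.comp_apply, Submodule.subtype_apply, hpr_sub]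
        rw [h1]
        show v 0 • d k + (v k.succ - d k • v 0) = v k.succ
        simp only [smul_eq_mul]
        ring

/-- Every element of a big projective module lies in a finite free direct summand: there are
`σ : Rⁿ → P` and a retraction `Φ` with `s` in the range of `σ`. -/
theorem exists_free_summand [IsNoetherianRing (R ⧸ (⊥ : Ideal R).jacobson)]
    {P : Type u} [AddCommGroup P] [Module R P] [Module.Projective R P] (hbig : Big R P) (s : P) :
    ∃ (n : ℕ) (σ : (Fin n → R) →ₗ[R] P) (Φ : P →ₗ[R] (Fin n → R)),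
      Φ ∘ₗ σ = LinearMap.id ∧ ∃ w, σ w = s := by
  classical
  obtain ⟨i, hi⟩ := Module.projective_def'.mp (inferInstance : Module.Projective R P)
  let A : Finset P := (i s).support
  let n := A.card
  let e : Fin n ≃ A := A.equivFin.symm
  obtain ⟨θ, hθ, σ₀, hσ₀⟩ := exists_surj n P hbig (fun k => coord i (e k : P)) {s}
  let Φ : P →ₗ[R] (Fin n → R) := LinearMap.pi fun k => coord i (e k : P) + θ k
  have hΦσ₀ : ∀ v, Φ (σ₀ v) = v := fun v => funext fun k => hσ₀ v k
  let ε : P →ₗ[R] P := LinearMap.id - σ₀ ∘ₗ Φ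
  have hε : ∀ y, ε y = y - σ₀ (Φ y) := fun y => rfl
  have hΦε : ∀ y, Φ (ε y) = 0 := by
    intro y
    rw [hε, map_sub, hΦσ₀, sub_self]
  let σ : (Fin n → R) →ₗ[R] P :=
    σ₀ + ∑ k, (LinearMap.toSpanSingleton R P (ε (e k : P))) ∘ₗ (LinearMap.proj k)
  have hσ : ∀ v, σ v = σ₀ v + ∑ k, v k • ε (e k : P) := by
    intro v
    simp only [σ, LinearMap.add_apply, LinearMap.sum_apply, LinearMap.comp_apply,
      LinearMap.proj_apply, LinearMap.toSpanSingleton_apply]
  refine ⟨n, σ, Φ, ?_, Φ s, ?_⟩
  · apply LinearMap.ext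
    intro v
    rw [LinearMap.comp_apply, hσ, map_add, hΦσ₀, map_sum]
    simp only [map_smul, hΦε, smul_zero, Finset.sum_const_zero, add_zero, LinearMap.id_apply]
  · rw [hσ]
    have h1 : ∀ k, (Φ s) k = i s (e k : P) := by
      intro k
      show (coord i (e k : P) + θ k) s = i s (e k : P)
      rw [LinearMap.add_apply, hθ k s (Finset.mem_singleton_self s), add_zero, coord_apply]
    have h2 : ∑ k, (Φ s) k • ε (e k : P) = ε s := by
      conv_rhs => rw [map_eq_sum i hi ε s]
      simp only [h1]
      rw [← Finset.sum_coe_sort (i s).support (fun j => (i s j) • ε j)]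
      exact Fintype.sum_equiv e _ _ (fun k => rfl)
    rw [h2, hε]
    abel

/-- A split injection gives complementary submodules. -/
theorem isCompl_range_ker {N P : Type*} [AddCommGroup N] [Module R N] [AddCommGroup P]
    [Module R P] (σ : N →ₗ[R] P) (Φ : P →ₗ[R] N) (h : Φ ∘ₗ σ = LinearMap.id) :
    IsCompl (LinearMap.range σ) (LinearMap.ker Φ) := by
  have h' : ∀ v, Φ (σ v) = v := fun v => LinearMap.congr_fun h v
  constructor
  · rw [Submodule.disjoint_def]
    rintro _ ⟨v, rfl⟩ hv
    have : v = 0 := by rw [← h' v]; exact hv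
    rw [this, map_zero]
  · rw [codisjoint_iff, eq_top_iff]
    intro y _
    have : y = σ (Φ y) + (y - σ (Φ y)) := by abel
    rw [this]
    refine Submodule.add_mem _ (Submodule.mem_sup_left ⟨_, rfl⟩) (Submodule.mem_sup_right ?_)
    show Φ (y - σ (Φ y)) = 0
    rw [map_sub, h', sub_self]

/-- Every element of a big projective module lies in a finite free direct summand. -/
theorem exists_isCompl_free [IsNoetherianRing (R ⧸ (⊥ : Ideal R).jacobson)]
    {P : Type u} [AddCommGroup P] [Module R P] [Module.Projective R P] (hbig : Big R P) (s : P) :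
    ∃ K K' : Submodule R P, IsCompl K K' ∧ Module.Finite R K ∧ Module.Free R K ∧ s ∈ K := by
  obtain ⟨n, σ, Φ, h, w, hw⟩ := exists_free_summand hbig s
  have hinj : Function.Injective σ :=
    Function.LeftInverse.injective (g := Φ) (fun v => LinearMap.congr_fun h v)
  exact ⟨LinearMap.range σ, LinearMap.ker Φ, isCompl_range_ker σ Φ h, inferInstance,
    Module.Free.of_equiv (LinearEquiv.ofInjective σ hinj), ⟨w, hw⟩⟩

end Groth.Agent.Lib.Seat14.BigProj
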