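import Groth.Agent.Lib.Seat14BigProj2

/-!
# Bass: countably generated big projective modules are free (seat 14)
-/

set_option autoImplicit false
universe u

namespace Groth.Agent.Lib.Seat14.BigProj

open Groth.Agent.Lib.Helper14.Kaplansky

variable {R : Type u} [CommRing R] {P : Type u} [AddCommGroup P] [Module R P]

/-- One step: enlarge an independent family of free submodules (whose sum is a finitely generated
direct summand) so that it contains a given element. -/
theorem exists_step [IsNoetherianRing (R ⧸ (⊥ : Ideal R).jacobson)] [Module.Projective R P]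
    (hbig : Big R P) (𝒞 : Set (Submodule R P)) (Q : Submodule R P)
    (hind : sSupIndep 𝒞) (hfree : ∀ C ∈ 𝒞, Module.Free R C) (hfg : (sSup 𝒞).FG)
    (hc : IsCompl (sSup 𝒞) Q) (x : P) :
    ∃ (𝒞' : Set (Submodule R P)) (Q' : Submodule R P), 𝒞 ⊆ 𝒞' ∧ sSupIndep 𝒞' ∧
      (∀ C ∈ 𝒞', Module.Free R C) ∧ (sSup 𝒞').FG ∧ IsCompl (sSup 𝒞') Q' ∧ x ∈ sSup 𝒞' := by
  classical
  have hQproj : Module.Projective R Q :=
    Module.Projective.of_split Q.subtype (Q.projectionOnto _ hc.symm)
      (Submodule.projectionOnto_comp_subtype hc.symm)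
  have hQbig : Big R Q := hbig.of_sup_eq_top _ Q hfg hc.sup_eq_top
  obtain ⟨a, ha, q, hq, rfl⟩ : ∃ a ∈ sSup 𝒞, ∃ q ∈ Q, a + q = x := by
    have : x ∈ sSup 𝒞 ⊔ Q := by rw [hc.sup_eq_top]; trivial
    exact Submodule.mem_sup.mp this
  obtain ⟨n, c, ρ, hρc, hqc⟩ := exists_free_summand hQbig (⟨q, hq⟩ : Q)
  have hcinj : Function.Injective c := by
    apply Function.LeftInverse.injective (g := ρ)
    intro w
    exact LinearMap.congr_fun hρc w
  let P' : Submodule R P := LinearMap.range (Q.subtype ∘ₗ c)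
  let Q' : Submodule R P := (LinearMap.ker ρ).map Q.subtype
  have hP'Q : P' ≤ Q := by
    rintro _ ⟨w, rfl⟩
    exact (c w).2
  have hQ'Q : Q' ≤ Q := by
    rintro _ ⟨z, _, rfl⟩
    exact z.2
  have hP'free : Module.Free R P' := by
    have hinj : Function.Injective (Q.subtype ∘ₗ c) := Q.injective_subtype.comp hcinj
    exact Module.Free.of_equiv (LinearEquiv.ofInjective (Q.subtype ∘ₗ c) hinj)
  have hP'fg : P'.FG := by
    show (LinearMap.range (Q.subtype ∘ₗ c)).FG
    rw [LinearMap.range_eq_map]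
    exact Submodule.FG.map _ (Module.Finite.fg_top)
  have hdisj1 : Disjoint P' Q' := by
    rw [Submodule.disjoint_def]
    rintro _ ⟨w, rfl⟩ ⟨z, hz, hzw⟩
    have h1 : z = c w := Subtype.ext hzw
    replace hz : ρ z = 0 := hz
    rw [h1] at hz
    have h2 : w = 0 := by
      have := LinearMap.congr_fun hρc w
      simp only [LinearMap.coe_comp, Function.comp_apply, LinearMap.id_apply] at this
      rw [← this, hz]
    rw [h2, map_zero]
  have hsup1 : P' ⊔ Q' = Q := by
    apply le_antisymm (sup_le hP'Q hQ'Q)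
    intro z hz
    let z' : Q := ⟨z, hz⟩
    have h1 : z' - c (ρ z') ∈ LinearMap.ker ρ := by
      rw [LinearMap.mem_ker, map_sub]
      have := LinearMap.congr_fun hρc (ρ z')
      simp only [LinearMap.coe_comp, Function.comp_apply, LinearMap.id_apply] at this
      rw [this, sub_self]
    have h2 : z = ((c (ρ z') : Q) : P) + ((z' - c (ρ z') : Q) : P) := by
      simp [z']
    rw [h2]
    exact Submodule.add_mem _ (Submodule.mem_sup_left ⟨ρ z', rfl⟩)
      (Submodule.mem_sup_right ⟨_, h1, rfl⟩)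
  have hdisjA : Disjoint P' (sSup 𝒞) := (hc.disjoint.mono_right hP'Q).symm
  refine ⟨insert P' 𝒞, Q', Set.subset_insert _ _, sSupIndep_insert hind hdisjA, ?_, ?_, ?_, ?_⟩
  · intro C hC
    rcases hC with rfl | hC
    · exact hP'free
    · exact hfree C hC
  · rw [sSup_insert]
    exact hP'fg.sup hfg
  · rw [sSup_insert, sup_comm]
    constructor
    · apply Disjoint.disjoint_sup_left_of_disjoint_sup_right hdisj1
      rw [hsup1]
      exact hc.disjoint
    · rw [codisjoint_iff, sup_assoc, hsup1]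
      exact hc.sup_eq_top
  · rw [sSup_insert]
    apply Submodule.add_mem
    · exact Submodule.mem_sup_right ha
    · apply Submodule.mem_sup_left
      obtain ⟨w, hw⟩ := hqc
      exact ⟨w, by rw [LinearMap.comp_apply, hw]; rfl⟩

/-- A module which is the internal direct sum of free submodules is free. -/
theorem free_of_sSupIndep (𝒞 : Set (Submodule R P)) (hind : sSupIndep 𝒞)
    (hfree : ∀ C ∈ 𝒞, Module.Free R C) (htop : sSup 𝒞 = ⊤) : Module.Free R P := by
  classical
  have key := (DirectSum.isInternal_submodule_iff_iSupIndep_and_iSup_eq_top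
    (fun C : 𝒞 => C.1)).mpr ⟨(sSupIndep_iff 𝒞).mp hind, by rw [← sSup_eq_iSup']; exact htop⟩
  have : ∀ C : 𝒞, Module.Free R C.1 := fun C => hfree C.1 C.2
  have hfr : Module.Free R (DirectSum 𝒞 fun C => C.1) :=
    inferInstanceAs (Module.Free R (Π₀ C : 𝒞, C.1))
  exact Module.Free.of_equiv (LinearEquiv.ofBijective (DirectSum.coeLinearMap _) key)

/-- **Bass**: a countably generated big projective module over a ring with Noetherian quotient by
its Jacobson radical is free. -/
theorem free_of_countablyGenerated [IsNoetherianRing (R ⧸ (⊥ : Ideal R).jacobson)]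
    [Module.Projective R P] (hbig : Big R P)
    (hcg : CAlg.IsCountablyGenerated R P) : Module.Free R P := by
  classical
  obtain ⟨s, hs, hspan⟩ := hcg
  have hs' : (s ∪ {0}).Countable := hs.union (Set.countable_singleton 0)
  obtain ⟨x, hx⟩ := hs'.exists_eq_range ⟨0, Or.inr rfl⟩
  have hxspan : Submodule.span R (Set.range x) = ⊤ := by
    rw [← hx, eq_top_iff, ← hspan]
    exact Submodule.span_mono Set.subset_union_left
  -- stages
  let St : Type u := {p : Set (Submodule R P) × Submodule R P //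
    sSupIndep p.1 ∧ (∀ C ∈ p.1, Module.Free R C) ∧ (sSup p.1).FG ∧ IsCompl (sSup p.1) p.2}
  have hstep : ∀ (p : St) (y : P), ∃ p' : St, p.1.1 ⊆ p'.1.1 ∧ y ∈ sSup p'.1.1 := by
    intro p y
    obtain ⟨𝒞', Q', h1, h2, h3, h3', h4, h5⟩ :=
      exists_step hbig p.1.1 p.1.2 p.2.1 p.2.2.1 p.2.2.2.1 p.2.2.2.2 y
    exact ⟨⟨(𝒞', Q'), h2, h3, h3', h4⟩, h1, h5⟩
  choose next hnext1 hnext2 using hstep
  let p₀ : St := ⟨(∅, ⊤), by
    refine ⟨?_, ?_, ?_, ?_⟩
    · intro a ha; exact absurd ha (Set.notMem_empty a)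
    · intro C hC; exact absurd hC (Set.notMem_empty C)
    · rw [sSup_empty]; exact Submodule.fg_bot
    · rw [sSup_empty]; exact isCompl_bot_top⟩
  let st : ℕ → St := fun n => Nat.rec (motive := fun _ => St) p₀ (fun n p => next p (x n)) n
  have hst1 : ∀ n : ℕ, (st n).1.1 ⊆ (st (n + 1)).1.1 := fun n => hnext1 _ _
  have hst2 : ∀ n : ℕ, x n ∈ sSup (st (n + 1)).1.1 := fun n => hnext2 _ _
  have hmono : Monotone fun n : ℕ => (st n).1.1 := monotone_nat_of_le_succ hst1
  apply free_of_sSupIndep (⋃ n, (st n).1.1)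
  · apply sSupIndep_iUnion_of_directed hmono.directed_le
    exact fun n => (st n).2.1
  · intro C hC
    obtain ⟨n, hn⟩ := Set.mem_iUnion.mp hC
    exact (st n).2.2.1 C hn
  · rw [eq_top_iff, ← hxspan, Submodule.span_le]
    rintro _ ⟨n, rfl⟩
    exact sSup_le_sSup (Set.subset_iUnion (fun n => (st n).1.1) (n + 1)) (hst2 n)

end Groth.Agent.Lib.Seat14.BigProj
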