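import Mathlib.RingTheory.Henselian
import Mathlib.RingTheory.Polynomial.Cyclotomic.Basic
import Mathlib.RingTheory.Polynomial.Cyclotomic.Roots
import Mathlib.FieldTheory.IsSepClosed
import Mathlib.RingTheory.LocalRing.ResidueField.Basic

/-!
# Roots of cyclotomic polynomials in strictly henselian local rings (seat 14)
-/

set_option autoImplicit false
universe u

open Polynomial IsLocalRing

namespace Groth.Agent.Lib.Seat14.CycloHensel

/-- A henselian local ring with separably closed residue field in which `n ≥ 1` is invertible contains a
root of the `n`-th cyclotomic polynomial. -/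
theorem exists_cyclotomic_root (A : Type u) [CommRing A] [HenselianLocalRing A]
    [IsSepClosed (ResidueField A)] (n : ℕ) (hn : 1 ≤ n) (hu : IsUnit (n : A)) :
    ∃ ζ : A, (cyclotomic n A).IsRoot ζ := by
  let k := ResidueField A
  let π : A →+* k := residue A
  have : NeZero (n : k) := by
    constructor
    have h1 := hu.map π
    rw [map_natCast] at h1
    exact h1.ne_zero
  have hsep : (cyclotomic n k).Separable := separable_cyclotomic n k
  have hdeg : (cyclotomic n k).degree ≠ 0 := by
    rw [degree_cyclotomic]
    have : 0 < Nat.totient n := Nat.totient_pos.mpr (by omega)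
    exact_mod_cast this.ne'
  obtain ⟨z, hz⟩ := IsSepClosed.exists_root (cyclotomic n k) hdeg hsep
  obtain ⟨a₀, ha₀⟩ := residue_surjective z
  have hmap : (cyclotomic n A).map π = cyclotomic n k := map_cyclotomic n π
  have h1 : (cyclotomic n A).eval a₀ ∈ maximalIdeal A := by
    rw [← residue_eq_zero_iff]
    change π _ = 0
    rw [← eval_map_apply, hmap]
    rw [show π a₀ = z from ha₀]
    exact hz
  have h2 : IsUnit ((derivative (cyclotomic n A)).eval a₀) := by
    rw [← residue_ne_zero_iff_isUnit]
    change π _ ≠ 0
    rw [← eval_map_apply, ← derivative_map, hmap, show π a₀ = z from ha₀]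
    have := hsep.eval₂_derivative_ne_zero (RingHom.id k) (x := z) (by rw [eval₂_id]; exact hz)
    rwa [eval₂_id] at this
  obtain ⟨a, ha, -⟩ := HenselianLocalRing.is_henselian (cyclotomic n A) (cyclotomic.monic n A) a₀ h1 h2
  exact ⟨a, ha⟩

end Groth.Agent.Lib.Seat14.CycloHensel
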