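import Mathlib

/-!
# Delocalizing a standard smooth factorization, part A (helper14)

Clearing denominators in `MvPolynomial σ Rₛ` for a localization `Rₛ` of `R`, and rescaling the
variables of a presentation by units.
-/

set_option autoImplicit false
set_option linter.style.haveILetI false
universe u v

namespace Groth.Agent.Lib.Seat14.Deloc

open MvPolynomial

section Clear

variable {R : Type u} [CommRing R] (S : Submonoid R) {Rₛ : Type u} [CommRing Rₛ] [Algebra R Rₛ]
  [IsLocalization S Rₛ] {σ : Type v}

attribute [local instance] MvPolynomial.algebraMvPolynomial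

theorem exists_clear {κ : Type*} [Finite κ] (p : κ → MvPolynomial σ Rₛ) :
    ∃ d ∈ S, ∃ P : κ → MvPolynomial σ R, ∀ k,
      MvPolynomial.map (algebraMap R Rₛ) (P k) = C (algebraMap R Rₛ d) * p k := by
  classical
  cases nonempty_fintype κ
  obtain ⟨⟨b, hb⟩, hb'⟩ := IsLocalization.exist_integer_multiples (S.map (C (σ := σ)))
    (S := MvPolynomial σ Rₛ) Finset.univ p
  obtain ⟨d, hd, rfl⟩ := hb
  have h : ∀ k, ∃ P : MvPolynomial σ R,
      MvPolynomial.map (algebraMap R Rₛ) P = C (algebraMap R Rₛ d) * p k := by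
    intro k
    obtain ⟨P, hP⟩ := hb' k (Finset.mem_univ k)
    refine ⟨P, ?_⟩
    have h1 : MvPolynomial.map (algebraMap R Rₛ) P =
        algebraMap (MvPolynomial σ R) (MvPolynomial σ Rₛ) P := rfl
    have h2 : (C (algebraMap R Rₛ d) : MvPolynomial σ Rₛ) =
        algebraMap (MvPolynomial σ R) (MvPolynomial σ Rₛ) (C d) := by
      show _ = MvPolynomial.map (algebraMap R Rₛ) (C d)
      rw [MvPolynomial.map_C]
    rw [h1, h2, hP, Algebra.smul_def]
  choose P hP using h
  exact ⟨d, hd, P, hP⟩

theorem exists_mul_eq_of_map_eq {P Q : MvPolynomial σ R}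
    (h : MvPolynomial.map (algebraMap R Rₛ) P = MvPolynomial.map (algebraMap R Rₛ) Q) :
    ∃ s ∈ S, C s * P = C s * Q := by
  have h' : algebraMap (MvPolynomial σ R) (MvPolynomial σ Rₛ) P =
      algebraMap (MvPolynomial σ R) (MvPolynomial σ Rₛ) Q := h
  obtain ⟨⟨_, s, hs, rfl⟩, hc⟩ := (IsLocalization.eq_iff_exists (S.map (C (σ := σ)))
    (MvPolynomial σ Rₛ)).mp h'
  exact ⟨s, hs, hc⟩

end Clear

section Rescale

variable {K : Type u} [CommRing K] {B : Type u} [CommRing B] [Algebra K B] {N c : ℕ}

/-- the substitution `X v ↦ a v * X v` -/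
noncomputable def scaleHom (a : Fin N → K) : MvPolynomial (Fin N) K →ₐ[K] MvPolynomial (Fin N) K :=
  aeval (fun v => C (a v) * X v)

theorem scaleHom_X (a : Fin N → K) (v : Fin N) : scaleHom a (X v) = C (a v) * X v := by
  simp [scaleHom]

theorem scaleHom_C (a : Fin N → K) (r : K) : scaleHom a (C r) = C r := by
  simp [scaleHom]

theorem scaleHom_comp (a b : Fin N → K) (hab : ∀ v, a v * b v = 1) (p : MvPolynomial (Fin N) K) :
    scaleHom a (scaleHom b p) = p := by
  have : (scaleHom a).comp (scaleHom b) = AlgHom.id K _ := by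
    apply MvPolynomial.algHom_ext
    intro v
    rw [AlgHom.comp_apply, scaleHom_X, map_mul, scaleHom_X, scaleHom_C,
      ← mul_assoc, ← C_mul, mul_comm (b v), hab, C_1, one_mul]
    rfl
  exact AlgHom.congr_fun this p

theorem pderiv_scaleHom (a : Fin N → K) (v : Fin N) (p : MvPolynomial (Fin N) K) :
    pderiv v (scaleHom a p) = C (a v) * scaleHom a (pderiv v p) := by
  classical
  induction p using MvPolynomial.induction_on with
  | C r =>
    rw [scaleHom_C, pderiv_C, map_zero, mul_zero]
  | add p q hp hq => rw [map_add, map_add, hp, hq, map_add, map_add, mul_add]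
  | mul_X p j hp =>
    rw [map_mul, scaleHom_X, Derivation.leibniz, hp, Derivation.leibniz (pderiv v) p,
      Derivation.leibniz (pderiv v) (C (a j)), pderiv_C, pderiv_X]
    simp only [smul_eq_mul, map_add, map_mul, scaleHom_X, mul_zero, add_zero]
    by_cases h : j = v
    · subst h
      simp only [Pi.single_eq_same, map_one]
      ring
    · rw [Pi.single_eq_of_ne h, map_zero]
      ring

theorem rescale (ev : MvPolynomial (Fin N) K →ₐ[K] B) (hev : Function.Surjective ev)
    (rel : Fin c → MvPolynomial (Fin N) K) (hker : RingHom.ker ev = Ideal.span (Set.range rel))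
    (cols : Fin c → Fin N)
    (hJ : IsUnit (ev (Matrix.det (Matrix.of fun i j => pderiv (cols i) (rel j)))))
    (u : Fin N → Kˣ) :
    ∃ (ev' : MvPolynomial (Fin N) K →ₐ[K] B) (rel' : Fin c → MvPolynomial (Fin N) K),
      Function.Surjective ev' ∧ RingHom.ker ev' = Ideal.span (Set.range rel') ∧
      IsUnit (ev' (Matrix.det (Matrix.of fun i j => pderiv (cols i) (rel' j)))) ∧
      ∀ v, ev' (X v) = (u v : K) • ev (X v) := by
  classical
  set a : Fin N → K := fun v => ((u v)⁻¹ : Kˣ) with ha
  set b : Fin N → K := fun v => (u v : K) with hb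
  have hab : ∀ v, a v * b v = 1 := fun v => by simp [ha, hb]
  have hba : ∀ v, b v * a v = 1 := fun v => by simp [ha, hb]
  refine ⟨ev.comp (scaleHom b), fun j => scaleHom a (rel j), ?_, ?_, ?_, ?_⟩
  · intro y
    obtain ⟨p, rfl⟩ := hev y
    exact ⟨scaleHom a p, by rw [AlgHom.comp_apply, scaleHom_comp b a hba]⟩
  · apply le_antisymm
    · intro p hp
      have h1 : scaleHom b p ∈ Ideal.span (Set.range rel) := by
        rw [← hker]
        exact hp
      have h2 : scaleHom a (scaleHom b p) ∈
          (Ideal.span (Set.range rel)).map (scaleHom a : _ →+* MvPolynomial (Fin N) K) :=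
        Ideal.mem_map_of_mem _ h1
      rw [scaleHom_comp a b hab, Ideal.map_span, ← Set.range_comp] at h2
      exact h2
    · rw [Ideal.span_le]
      rintro _ ⟨j, rfl⟩
      show ev (scaleHom b (scaleHom a (rel j))) = 0
      rw [scaleHom_comp b a hba]
      have : rel j ∈ RingHom.ker ev := by
        rw [hker]
        exact Ideal.subset_span ⟨j, rfl⟩
      exact this
  · have h1 : (Matrix.of fun i j => pderiv (cols i) (scaleHom a (rel j))) =
        Matrix.of fun i j => C (a (cols i)) *
          ((scaleHom a : _ →+* MvPolynomial (Fin N) K).mapMatrix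
            (Matrix.of fun i j => pderiv (cols i) (rel j))) i j := by
      ext i j
      simp only [Matrix.of_apply, pderiv_scaleHom, RingHom.mapMatrix_apply, Matrix.map_apply,
        RingHom.coe_coe]
    rw [h1, Matrix.det_mul_column, ← RingHom.map_det, map_mul, AlgHom.comp_apply,
      AlgHom.comp_apply, RingHom.coe_coe, scaleHom_comp b a hba, ← map_prod, scaleHom_C,
      ← MvPolynomial.algebraMap_eq, AlgHom.commutes]
    refine IsUnit.mul (IsUnit.map _ ?_) hJ
    have : ∏ i, a (cols i) = ((∏ i, (u (cols i))⁻¹ : Kˣ) : K) := by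
      rw [Units.coe_prod]
    rw [this]
    exact Units.isUnit _
  · intro v
    rw [AlgHom.comp_apply, scaleHom_X, map_mul, ← MvPolynomial.algebraMap_eq, AlgHom.commutes,
      Algebra.smul_def]

end Rescale

end Groth.Agent.Lib.Seat14.Deloc
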