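import Groth.Agent.Lib.Seat14DelocA
import Groth.Agent.Lib.Seat10StdSmC

/-!
# Delocalizing a standard smooth factorization, part B (helper14)

Core of Stacks, Lemma 16.8.1: from a standard smooth presentation over `Rₛ = S⁻¹R` compatible with
integral data, build an `R`-algebra `R[x]/(s'_j F_j, Ĝ_k)` in which an element of `S` is
elementary standard.
-/

set_option autoImplicit false
set_option linter.style.haveILetI false
universe u

namespace Groth.Agent.Lib.Seat14.Deloc

open MvPolynomial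

theorem core {R Rₛ B'' Λ Λₛ : Type u} [CommRing R] (S : Submonoid R) [CommRing Rₛ] [Algebra R Rₛ]
    [IsLocalization S Rₛ] [CommRing B''] [Algebra Rₛ B''] [CommRing Λ] [Algebra R Λ] [CommRing Λₛ]
    [Algebra R Λₛ] [Algebra Rₛ Λₛ] [IsScalarTower R Rₛ Λₛ]
    (ιΛ : Λ →ₐ[R] Λₛ) (hL2 : ∀ x : Λ, ιΛ x = 0 → ∃ s ∈ S, s • x = 0)
    {N c t : ℕ}
    (ev : MvPolynomial (Fin N) Rₛ →ₐ[Rₛ] B'') (hev : Function.Surjective ev)
    (rel : Fin c → MvPolynomial (Fin N) Rₛ) (hker : RingHom.ker ev = Ideal.span (Set.range rel))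
    (cols : Fin c ↪ Fin N)
    (hJ : IsUnit (ev (Matrix.det (Matrix.of fun i j => pderiv (cols i) (rel j)))))
    (h'' : B'' →ₐ[Rₛ] Λₛ) (lam : Fin N → Λ) (hlam : ∀ v, h'' (ev (X v)) = ιΛ (lam v))
    (Ghat : Fin t → MvPolynomial (Fin N) R)
    (hG : ∀ k, ev (MvPolynomial.map (algebraMap R Rₛ) (Ghat k)) = 0)
    (hGlam : ∀ k, aeval lam (Ghat k) = 0) :
    ∃ (m : ℕ) (f : Fin m → MvPolynomial (Fin N) R),
      (∀ l, aeval lam (f l) = 0) ∧ (∀ k, Ghat k ∈ Ideal.span (Set.range f)) ∧
      ∃ s ∈ S, Smoothing.IsElementaryStandard R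
        (MvPolynomial (Fin N) R ⧸ Ideal.span (Set.range f))
        (algebraMap R (MvPolynomial (Fin N) R ⧸ Ideal.span (Set.range f)) s) := by
  classical
  set ψ : MvPolynomial (Fin N) R →+* MvPolynomial (Fin N) Rₛ :=
    MvPolynomial.map (algebraMap R Rₛ) with hψ
  set J' : MvPolynomial (Fin N) Rₛ :=
    Matrix.det (Matrix.of fun i j => pderiv (cols i) (rel j)) with hJ'
  have hrelker : ∀ j, ev (rel j) = 0 := fun j => by
    have : rel j ∈ RingHom.ker ev := by
      rw [hker]
      exact Ideal.subset_span ⟨j, rfl⟩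
    exact this
  -- (I1)
  obtain ⟨a0, ha0⟩ : ∃ a0, ev a0 * ev J' = 1 := by
    obtain ⟨w, hw⟩ := hJ.exists_left_inv
    obtain ⟨a0, rfl⟩ := hev w
    exact ⟨a0, hw⟩
  have h1mem : 1 - a0 * J' ∈ Ideal.span (Set.range rel) := by
    rw [← hker, RingHom.mem_ker, map_sub, map_one, map_mul, ha0, sub_self]
  obtain ⟨aj, haj⟩ := Ideal.mem_span_range_iff_exists_fun.mp h1mem
  -- (I2)
  have h2mem : ∀ k, ψ (Ghat k) ∈ Ideal.span (Set.range rel) := fun k => by
    rw [← hker]
    exact hG k
  choose bkj hbkj using fun k => Ideal.mem_span_range_iff_exists_fun.mp (h2mem k)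
  -- clearing denominators
  obtain ⟨d1, hd1, F, hF⟩ := exists_clear S rel
  obtain ⟨d2, hd2, Aa, hAa⟩ := exists_clear S (fun o : Option (Fin c) => o.elim a0 aj)
  obtain ⟨d3, hd3, Bb, hBb⟩ := exists_clear S (fun kj : Fin t × Fin c => bkj kj.1 kj.2)
  have hAa0 : ψ (Aa none) = C (algebraMap R Rₛ d2) * a0 := hAa none
  have hAaj : ∀ j, ψ (Aa (some j)) = C (algebraMap R Rₛ d2) * aj j := fun j => hAa (some j)
  have hψC : ∀ r, ψ (C r) = C (algebraMap R Rₛ r) := fun r => MvPolynomial.map_C _ r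
  have hF' : ∀ j, ψ (F j) = C (algebraMap R Rₛ d1) * rel j := hF
  set JF : MvPolynomial (Fin N) R :=
    Matrix.det (Matrix.of fun i j => pderiv (cols i) (F j)) with hJFdef
  have hJF : ψ JF = C (algebraMap R Rₛ d1) ^ c * J' := by
    rw [hJFdef, RingHom.map_det]
    have : ψ.mapMatrix (Matrix.of fun i j => pderiv (cols i) (F j)) =
        (C (algebraMap R Rₛ d1) : MvPolynomial (Fin N) Rₛ) •
          Matrix.of fun i j => pderiv (cols i) (rel j) := by
      ext i j
      rw [RingHom.mapMatrix_apply, Matrix.map_apply, Matrix.of_apply, Matrix.smul_apply,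
        Matrix.of_apply, smul_eq_mul, hψ, ← pderiv_map, ← hψ, hF, pderiv_C_mul]
    rw [this, Matrix.det_smul, Fintype.card_fin]
  -- (★1)
  obtain ⟨s0, hs0, A0, Aj, hstar1⟩ : ∃ s0 ∈ S, ∃ (A0 : MvPolynomial (Fin N) R)
      (Aj : Fin c → MvPolynomial (Fin N) R), C s0 = A0 * JF + ∑ j, Aj j * F j := by
    have h1 : ψ (C d1 * Aa none * JF + C d1 ^ c * ∑ j, Aa (some j) * F j) =
        ψ (C (d1 ^ (c + 1) * d2)) := by
      simp only [map_add, map_mul, map_sum, map_pow, hAa0, hAaj, hF', hJF, hψC]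
      have h2 : ∑ j, C (algebraMap R Rₛ d2) * aj j * (C (algebraMap R Rₛ d1) * rel j) =
          C (algebraMap R Rₛ d2) * C (algebraMap R Rₛ d1) * ∑ j, aj j * rel j := by
        rw [Finset.mul_sum]
        exact Finset.sum_congr rfl fun j _ => by ring
      rw [h2, haj]
      ring
    obtain ⟨s1, hs1, h3⟩ := exists_mul_eq_of_map_eq S h1
    refine ⟨s1 * (d1 ^ (c + 1) * d2), S.mul_mem hs1 (S.mul_mem (S.pow_mem hd1 _) hd2),
      C s1 * C d1 * Aa none, fun j => C s1 * C d1 ^ c * Aa (some j), ?_⟩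
    rw [C_mul, ← h3, mul_add, Finset.mul_sum, Finset.mul_sum]
    congr 1
    · ring
    · exact Finset.sum_congr rfl fun j _ => by ring
  -- (★2)
  have hstar2 : ∀ k, ∃ e ∈ S, C e * Ghat k ∈ Ideal.span (Set.range F) := by
    intro k
    have h1 : ψ (C (d3 * d1) * Ghat k) = ψ (∑ j, Bb (k, j) * F j) := by
      have h2 : ∀ j, ψ (Bb (k, j)) = C (algebraMap R Rₛ d3) * bkj k j := fun j => hBb (k, j)
      simp only [map_mul, map_sum, hψC, hF', h2]
      rw [← hbkj k, Finset.mul_sum]
      exact Finset.sum_congr rfl fun j _ => by ring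
    obtain ⟨s, hs, h3⟩ := exists_mul_eq_of_map_eq S h1
    refine ⟨s * (d3 * d1), S.mul_mem hs (S.mul_mem hd3 hd1), ?_⟩
    rw [C_mul, mul_assoc, h3]
    exact Ideal.mul_mem_left _ _ (Ideal.sum_mem _ fun j _ =>
      Ideal.mul_mem_left _ _ (Ideal.subset_span ⟨j, rfl⟩))
  choose e he heG using hstar2
  -- (★3)
  have hβψ : ∀ P : MvPolynomial (Fin N) R, ιΛ (aeval lam P) = h'' (ev (ψ P)) := by
    intro P
    have : (ιΛ : Λ →+* Λₛ).comp (aeval lam : MvPolynomial (Fin N) R →ₐ[R] Λ).toRingHom =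
        ((h'' : B'' →+* Λₛ).comp (ev : MvPolynomial (Fin N) Rₛ →+* B'')).comp ψ := by
      apply MvPolynomial.ringHom_ext
      · intro r
        simp only [RingHom.comp_apply, AlgHom.toRingHom_eq_coe, RingHom.coe_coe, hψC]
        rw [← MvPolynomial.algebraMap_eq, ← MvPolynomial.algebraMap_eq, AlgHom.commutes,
          AlgHom.commutes, AlgHom.commutes, AlgHom.commutes,
          ← IsScalarTower.algebraMap_apply]
      · intro v
        simp only [RingHom.comp_apply, AlgHom.toRingHom_eq_coe, RingHom.coe_coe, hψ,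
          MvPolynomial.map_X, aeval_X, hlam]
    exact RingHom.congr_fun this P
  have hstar3 : ∀ j, ∃ s' ∈ S, s' • aeval lam (F j) = 0 := by
    intro j
    apply hL2
    rw [hβψ, hF, map_mul, hrelker, mul_zero, map_zero]
  choose s' hs' hs'F using hstar3
  -- the relations of the new algebra
  set Pp : R := ∏ j, s' j with hPdef
  have hPS : Pp ∈ S := S.prod_mem fun j _ => hs' j
  set E : R := ∏ k, e k with hE
  have hES : E ∈ S := S.prod_mem fun k _ => he k
  set f : Fin (c + t) → MvPolynomial (Fin N) R :=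
    Fin.append (fun j => C (s' j) * F j) Ghat with hf
  have hfl : ∀ j, f (Fin.castAdd t j) = C (s' j) * F j := fun j => Fin.append_left _ _ j
  have hfr : ∀ k, f (Fin.natAdd c k) = Ghat k := fun k => Fin.append_right _ _ k
  set IB : Ideal (MvPolynomial (Fin N) R) := Ideal.span (Set.range f) with hIB
  set rows : Fin c ↪ Fin (c + t) := Fin.castAddEmb t with hrows
  set IL : Ideal (MvPolynomial (Fin N) R) := Ideal.span (Set.range (f ∘ rows)) with hIL
  have hILB : IL ≤ IB := Ideal.span_mono (Set.range_comp_subset_range _ _)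
  have hIL_gen : ∀ j, C (s' j) * F j ∈ IL := fun j => by
    refine Ideal.subset_span ⟨j, ?_⟩
    rw [Function.comp_apply, hrows, Fin.coe_castAddEmb, hfl]
  -- (H1)
  have hH1 : ∀ j, C Pp * F j ∈ IL := by
    intro j
    have : C Pp * F j = C (∏ l ∈ Finset.univ.erase j, s' l) * (C (s' j) * F j) := by
      rw [hPdef, ← Finset.mul_prod_erase Finset.univ s' (Finset.mem_univ j), C_mul]
      ring
    rw [this]
    exact Ideal.mul_mem_left _ _ (hIL_gen j)
  have hH2 : ∀ x ∈ Ideal.span (Set.range F), C Pp * x ∈ IL := by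
    intro x hx
    obtain ⟨cf, rfl⟩ := Ideal.mem_span_range_iff_exists_fun.mp hx
    rw [Finset.mul_sum]
    refine Ideal.sum_mem _ fun j _ => ?_
    have : C Pp * (cf j * F j) = cf j * (C Pp * F j) := by ring
    rw [this]
    exact Ideal.mul_mem_left _ _ (hH1 j)
  refine ⟨c + t, f, ?_, ?_, ?_⟩
  · intro l
    refine Fin.addCases (fun j => ?_) (fun k => ?_) l
    · rw [hfl, map_mul, ← MvPolynomial.algebraMap_eq, AlgHom.commutes, ← Algebra.smul_def]
      exact hs'F j
    · rw [hfr]
      exact hGlam k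
  · intro k
    exact Ideal.subset_span ⟨Fin.natAdd c k, hfr k⟩
  · refine ⟨s0 * Pp * E, S.mul_mem (S.mul_mem hs0 hPS) hES, ?_⟩
    set φB : MvPolynomial (Fin N) R →ₐ[R] (MvPolynomial (Fin N) R ⧸ IB) :=
      Ideal.Quotient.mkₐ R IB with hφBdef
    have hφB : Function.Surjective φB := Ideal.Quotient.mkₐ_surjective R IB
    have hkerB : RingHom.ker φB.toRingHom = Ideal.span (Set.range f) :=
      Ideal.Quotient.mkₐ_ker R IB
    have hφBC : ∀ r : R, algebraMap R (MvPolynomial (Fin N) R ⧸ IB) r = φB (C r) := by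
      intro r
      rw [← MvPolynomial.algebraMap_eq, AlgHom.commutes]
    have hφB0 : ∀ x, x ∈ IB → φB x = 0 := fun x hx => Ideal.Quotient.eq_zero_iff_mem.mpr hx
    -- the minor
    have hminor : Smoothing.jacobianMinor f rows cols = C Pp * JF := by
      unfold Smoothing.jacobianMinor
      have h1 : (Matrix.of fun j k : Fin c => pderiv (cols k) (f (rows j))) =
          Matrix.of fun j k => C (s' j) *
            (Matrix.of fun i j => pderiv (cols i) (F j)).transpose j k := by
        ext j k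
        simp only [Matrix.of_apply, Matrix.transpose_apply]
        rw [show f (rows j) = C (s' j) * F j from hfl j, pderiv_C_mul]
      rw [h1, Matrix.det_mul_column, Matrix.det_transpose, hPdef, map_prod]
    refine Groth.Agent.Lib.Seat10.StdSm.isElementaryStandard_of_rows_cols f φB hφB hkerB rows cols
      _ (φB (C E * A0)) ?_ ?_
    · rw [hminor, ← map_mul, hφBC, ← sub_eq_zero, ← map_sub]
      apply hφB0
      have hs : ∑ j, Aj j * (C Pp * F j) = (∑ j, Aj j * F j) * C Pp := by
        rw [Finset.sum_mul]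
        exact Finset.sum_congr rfl fun j _ => by ring
      have : C (s0 * Pp * E) - C E * A0 * (C Pp * JF) = C E * ∑ j, Aj j * (C Pp * F j) := by
        rw [hs, C_mul, C_mul, hstar1]
        ring
      rw [this]
      exact Ideal.mul_mem_left _ _ (Ideal.sum_mem _ fun j _ =>
        Ideal.mul_mem_left _ _ (hILB (hH1 j)))
    · intro a₁ ha₁ ℓ
      have hdiff : a₁ - C (s0 * Pp * E) ∈ IB := by
        rw [hφBC] at ha₁
        have : φB (a₁ - C (s0 * Pp * E)) = 0 := by rw [map_sub, ha₁, sub_self]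
        exact Ideal.Quotient.eq_zero_iff_mem.mp this
      have h1 : (a₁ - C (s0 * Pp * E)) * f ℓ ∈ IB ^ 2 := by
        rw [pow_two]
        exact Ideal.mul_mem_mul hdiff (Ideal.subset_span ⟨ℓ, rfl⟩)
      have h2 : C (s0 * Pp * E) * f ℓ ∈ IL := by
        refine Fin.addCases (fun j => ?_) (fun k => ?_) ℓ
        · rw [hfl]
          exact Ideal.mul_mem_left _ _ (hIL_gen j)
        · rw [hfr]
          have : C (s0 * Pp * E) * Ghat k =
              C (s0 * ∏ l ∈ Finset.univ.erase k, e l) * (C Pp * (C (e k) * Ghat k)) := by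
            rw [hE, ← Finset.mul_prod_erase Finset.univ e (Finset.mem_univ k)]
            simp only [C_mul]
            ring
          rw [this]
          exact Ideal.mul_mem_left _ _ (hH2 _ (heG k))
      have : a₁ * f ℓ = C (s0 * Pp * E) * f ℓ + (a₁ - C (s0 * Pp * E)) * f ℓ := by ring
      rw [this]
      exact Submodule.add_mem_sup h2 h1

end Groth.Agent.Lib.Seat14.Deloc
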