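import Groth.Agent.Lib.Seat14DelocB
import Groth.Agent.S6860
import Groth.Agent.S2025

/-!
# Delocalizing a standard smooth factorization, part C (helper14)

Bridging Mathlib's submersive presentations to raw `Fin`-indexed data, and the assembly of
Stacks, Lemma 16.8.1.
-/

set_option autoImplicit false
set_option linter.style.haveILetI false
universe u

namespace Groth.Agent.Lib.Seat14.Deloc

open MvPolynomial TensorProduct

theorem exists_raw {K B'' : Type u} [CommRing K] [CommRing B''] [Algebra K B'']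
    [Algebra.IsStandardSmooth K B''] {n : ℕ} (ee : Fin n → B'') :
    ∃ (N c : ℕ) (ev : MvPolynomial (Fin N) K →ₐ[K] B'') (rel : Fin c → MvPolynomial (Fin N) K)
      (cols : Fin c ↪ Fin N) (w : Fin n ↪ Fin N),
      Function.Surjective ev ∧ RingHom.ker ev = Ideal.span (Set.range rel) ∧
      IsUnit (ev (Matrix.det (Matrix.of fun i j => pderiv (cols i) (rel j)))) ∧
      ∀ i, ev (X (w i)) = ee i := by
  classical
  obtain ⟨ι, σ, hσ, hι, ⟨P₀⟩⟩ := Algebra.IsStandardSmooth.out (R := K) (S := B'')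
  let P : Algebra.SubmersivePresentation K B'' (Fin n ⊕ ι) (Fin n ⊕ σ) :=
    (Groth.Agent.S6860.Qpres ee).comp P₀
  let eι : Fin (Nat.card (Fin n ⊕ ι)) ≃ Fin n ⊕ ι := (Finite.equivFin _).symm
  let eσ : Fin (Nat.card (Fin n ⊕ σ)) ≃ Fin n ⊕ σ := (Finite.equivFin _).symm
  let Q : Algebra.SubmersivePresentation K B'' (Fin (Nat.card (Fin n ⊕ ι)))
    (Fin (Nat.card (Fin n ⊕ σ))) := P.reindex eι eσ
  refine ⟨_, _, aeval Q.val, Q.relation, ⟨Q.map, Q.map_inj⟩,
    ⟨fun i => eι.symm (Sum.inl i), fun i j hij => ?_⟩, ?_, ?_, ?_, ?_⟩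
  · exact Sum.inl_injective (eι.symm.injective hij)
  · intro y
    obtain ⟨p, hp⟩ := Q.algebraMap_surjective y
    exact ⟨p, by rw [← hp, Algebra.Generators.algebraMap_apply]⟩
  · rw [Q.span_range_relation_eq_ker, Algebra.Generators.ker_eq_ker_aeval_val]
  · have h1 := Q.jacobian_isUnit
    rw [Algebra.PreSubmersivePresentation.jacobian_eq_jacobiMatrix_det,
      Algebra.Generators.algebraMap_apply] at h1
    have h2 : Q.jacobiMatrix = Matrix.of fun i j => pderiv (Q.map i) (Q.relation j) := by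
      ext i j
      rw [Algebra.PreSubmersivePresentation.jacobiMatrix_apply, Matrix.of_apply]
    rw [h2] at h1
    exact h1
  · intro i
    rw [aeval_X]
    show P.val (eι (eι.symm (Sum.inl i))) = ee i
    rw [Equiv.apply_symm_apply]
    have h2 : P.val (Sum.inl i) = (Groth.Agent.S6860.Qpres ee).val i := rfl
    rw [h2, Groth.Agent.S6860.Qpres_val]

/-- Stacks, Lemma 16.8.1. -/
theorem delocalize_base {R A Λ Rₛ B' : Type u} [CommRing R] [CommRing A] [Algebra R A]
    [Algebra.FinitePresentation R A] [CommRing Λ] [Algebra R Λ] (φ : A →ₐ[R] Λ) (S : Submonoid R)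
    [CommRing Rₛ] [Algebra R Rₛ] [IsLocalization S Rₛ] [CommRing B'] [Algebra Rₛ B']
    [Algebra.Smooth Rₛ B'] (g : Rₛ ⊗[R] A →ₐ[Rₛ] B') (h : B' →ₐ[Rₛ] Rₛ ⊗[R] Λ)
    (hgh : h.comp g = Algebra.TensorProduct.map (AlgHom.id Rₛ Rₛ) φ) :
    ∃ (B : Type u) (_ : CommRing B) (_ : Algebra R B) (α : A →ₐ[R] B) (β : B →ₐ[R] Λ),
      β.comp α = φ ∧ ∃ s ∈ S, Smoothing.IsElementaryStandard R B (algebraMap R B s) := by
  classical
  -- (W1) pass to a standard smooth algebra
  obtain ⟨B'', _, _, _, _, -, ⟨ρ⟩, hstd⟩ := Groth.Agent.S2025.result (R := Rₛ) (A := B')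
  let g'' : Rₛ ⊗[R] A →ₐ[Rₛ] B'' := (IsScalarTower.toAlgHom Rₛ B' B'').comp g
  let h'' : B'' →ₐ[Rₛ] Rₛ ⊗[R] Λ := h.comp (ρ.restrictScalars Rₛ)
  have hh'' : ∀ x, h'' (g'' x) = Algebra.TensorProduct.map (AlgHom.id Rₛ Rₛ) φ x := by
    intro x
    show h (ρ (algebraMap B' B'' (g x))) = _
    rw [ρ.commutes]
    exact AlgHom.congr_fun hgh x
  -- (W2) a presentation of `A`
  obtain ⟨n, πA, hπA, hfgA⟩ := Algebra.FinitePresentation.out (R := R) (A := A)
  obtain ⟨t, G, hG⟩ := Submodule.fg_iff_exists_fin_generating_family.mp hfgA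
  set a : Fin n → A := fun i => πA (X i) with ha
  have hπA_eq : ∀ p, πA p = aeval a p := by
    intro p
    have : πA = aeval a := by
      apply MvPolynomial.algHom_ext
      intro i
      rw [aeval_X]
    rw [this]
  have hGker : ∀ k, πA (G k) = 0 := by
    intro k
    have : G k ∈ RingHom.ker πA.toRingHom := by
      rw [← hG]
      exact Submodule.subset_span ⟨k, rfl⟩
    exact this
  -- (W3) raw data
  obtain ⟨N, c, ev, rel, cols, w, hev, hker, hJ, hw⟩ :=
    exists_raw (K := Rₛ) (B'' := B'') (fun i : Fin n => g'' (1 ⊗ₜ a i))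
  -- (W4) `Rₛ ⊗ Λ` is the localization of `Λ`
  haveI hloc : IsLocalizedModule S (TensorProduct.mk R Rₛ Λ 1) :=
    (isLocalizedModule_iff_isBaseChange S Rₛ _).mpr (TensorProduct.isBaseChange R Λ Rₛ)
  let ιΛ : Λ →ₐ[R] Rₛ ⊗[R] Λ := Algebra.TensorProduct.includeRight
  have hιΛ : ∀ x : Λ, ιΛ x = TensorProduct.mk R Rₛ Λ 1 x := fun x => rfl
  have hL2 : ∀ x : Λ, ιΛ x = 0 → ∃ s ∈ S, s • x = 0 := by
    intro x hx
    rw [hιΛ] at hx
    obtain ⟨s, hs⟩ := (IsLocalizedModule.eq_zero_iff S (TensorProduct.mk R Rₛ Λ 1)).mp hx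
    exact ⟨s, s.2, hs⟩
  have hL1 : ∀ y : Rₛ ⊗[R] Λ, ∃ x : Λ × S, x.2 • y = ιΛ x.1 := fun y =>
    IsLocalizedModule.surj S (TensorProduct.mk R Rₛ Λ 1) y
  -- values of the variables in `Λ`
  have hex : ∀ v : Fin N, ∃ x : Λ × S, x.2 • h'' (ev (X v)) = ιΛ x.1 ∧
      ∀ i, v = w i → x = (φ (a i), 1) := by
    intro v
    by_cases hv : ∃ i, v = w i
    · obtain ⟨i, rfl⟩ := hv
      refine ⟨(φ (a i), 1), ?_, fun i' hi' => ?_⟩
      · rw [one_smul, hw, hh'']
        simp [ιΛ]
      · rw [w.injective hi']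
    · obtain ⟨x, hx⟩ := hL1 (h'' (ev (X v)))
      exact ⟨x, hx, fun i hi => absurd ⟨i, hi⟩ hv⟩
  choose ld hld hldw using hex
  -- (W5) rescale the variables
  obtain ⟨ev', rel', hev', hker', hJ', hev'X⟩ := rescale ev hev rel hker cols hJ
    (fun v => (IsLocalization.map_units Rₛ (ld v).2).unit)
  set lam : Fin N → Λ := fun v => (ld v).1 with hlamdef
  have hlam : ∀ v, h'' (ev' (X v)) = ιΛ (lam v) := by
    intro v
    rw [hev'X, map_smul, IsUnit.unit_spec, algebraMap_smul, ← hld v]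
    rfl
  have hev'w : ∀ i, ev' (X (w i)) = g'' (1 ⊗ₜ a i) := by
    intro i
    rw [hev'X, IsUnit.unit_spec, hldw (w i) i rfl, hw]
    simp
  have hlamw : ∀ i, lam (w i) = φ (a i) := by
    intro i
    rw [hlamdef]
    simp only
    rw [hldw (w i) i rfl]
  -- (W6) the relations of `A`
  have hlamφ : ∀ p : MvPolynomial (Fin n) R, aeval lam (rename w p) = φ (πA p) := by
    intro p
    rw [aeval_rename, hπA_eq, ← AlgHom.comp_apply, comp_aeval]
    have : lam ∘ w = fun i => φ (a i) := funext fun i => hlamw i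
    rw [this]
  have hevg : ∀ p : MvPolynomial (Fin n) R,
      ev' (MvPolynomial.map (algebraMap R Rₛ) (rename w p)) = g'' (1 ⊗ₜ πA p) := by
    intro p
    have : ((ev' : MvPolynomial (Fin N) Rₛ →+* B'').comp
        ((MvPolynomial.map (algebraMap R Rₛ)).comp
          (rename w : MvPolynomial (Fin n) R →ₐ[R] MvPolynomial (Fin N) R).toRingHom)) =
        ((g'' : Rₛ ⊗[R] A →+* B'').comp
          ((Algebra.TensorProduct.includeRight : A →ₐ[R] Rₛ ⊗[R] A) : A →+* Rₛ ⊗[R] A)).comp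
          (πA : MvPolynomial (Fin n) R →+* A) := by
      apply MvPolynomial.ringHom_ext
      · intro r
        simp only [RingHom.comp_apply, AlgHom.toRingHom_eq_coe, RingHom.coe_coe, rename_C,
          MvPolynomial.map_C, Algebra.TensorProduct.includeRight_apply]
        rw [← MvPolynomial.algebraMap_eq, AlgHom.commutes, ← MvPolynomial.algebraMap_eq,
          AlgHom.commutes]
        have : (1 : Rₛ) ⊗ₜ[R] (algebraMap R A r) =
            algebraMap Rₛ (Rₛ ⊗[R] A) (algebraMap R Rₛ r) := by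
          rw [Algebra.TensorProduct.algebraMap_apply, Algebra.algebraMap_eq_smul_one r,
            TensorProduct.tmul_smul, TensorProduct.smul_tmul', Algebra.algebraMap_eq_smul_one r]
          rfl
        rw [this, AlgHom.commutes]
      · intro i
        simp only [RingHom.comp_apply, AlgHom.toRingHom_eq_coe, RingHom.coe_coe, rename_X,
          MvPolynomial.map_X, Algebra.TensorProduct.includeRight_apply]
        exact hev'w i
    exact RingHom.congr_fun this p
  have hG' : ∀ k, ev' (MvPolynomial.map (algebraMap R Rₛ) (rename w (G k))) = 0 := by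
    intro k
    rw [hevg, hGker, TensorProduct.tmul_zero, map_zero]
  have hGlam : ∀ k, aeval lam (rename w (G k)) = 0 := by
    intro k
    rw [hlamφ, hGker, map_zero]
  -- (W7) the core
  obtain ⟨m, f, hflam, hGmem, s, hs, hstdB⟩ := core S ιΛ hL2 ev' hev' rel' hker' cols hJ' h'' lam hlam
    (fun k => rename w (G k)) hG' hGlam
  set IB : Ideal (MvPolynomial (Fin N) R) := Ideal.span (Set.range f) with hIB
  have hβ₀ : ∀ x ∈ IB, (aeval lam : MvPolynomial (Fin N) R →ₐ[R] Λ) x = 0 := by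
    intro x hx
    refine Submodule.span_induction (p := fun x _ => (aeval lam) x = 0) ?_ ?_ ?_ ?_ hx
    · rintro _ ⟨l, rfl⟩
      exact hflam l
    · exact map_zero _
    · intro x y _ _ hx hy
      rw [map_add, hx, hy, add_zero]
    · intro r x _ hx
      rw [smul_eq_mul, map_mul, hx, mul_zero]
  let β : (MvPolynomial (Fin N) R ⧸ IB) →ₐ[R] Λ := Ideal.Quotient.liftₐ IB (aeval lam) hβ₀
  let α₀ : MvPolynomial (Fin n) R →ₐ[R] (MvPolynomial (Fin N) R ⧸ IB) :=
    (Ideal.Quotient.mkₐ R IB).comp (rename w)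
  have hα₀ : ∀ x ∈ RingHom.ker πA, α₀ x = 0 := by
    intro x hx
    have hx' : x ∈ Ideal.span (Set.range G) := by
      have : Ideal.span (Set.range G) = RingHom.ker πA.toRingHom := hG
      rw [this]
      exact hx
    refine Submodule.span_induction (p := fun x _ => α₀ x = 0) ?_ ?_ ?_ ?_ hx'
    · rintro _ ⟨k, rfl⟩
      exact Ideal.Quotient.eq_zero_iff_mem.mpr (hGmem k)
    · exact map_zero _
    · intro x y _ _ hx hy
      rw [map_add, hx, hy, add_zero]
    · intro r x _ hx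
      rw [smul_eq_mul, map_mul, hx, mul_zero]
  let α : A →ₐ[R] (MvPolynomial (Fin N) R ⧸ IB) :=
    (Ideal.Quotient.liftₐ (RingHom.ker πA) α₀ hα₀).comp
      (Ideal.quotientKerAlgEquivOfSurjective hπA).symm.toAlgHom
  have hα : ∀ p, α (πA p) = α₀ p := by
    intro p
    show (Ideal.Quotient.liftₐ (RingHom.ker πA) α₀ hα₀)
      ((Ideal.quotientKerAlgEquivOfSurjective hπA).symm (πA p)) = α₀ p
    have : (Ideal.quotientKerAlgEquivOfSurjective hπA).symm (πA p) =
        Ideal.Quotient.mk (RingHom.ker πA) p := by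
      rw [AlgEquiv.symm_apply_eq]
      rfl
    rw [this]
    rfl
  refine ⟨MvPolynomial (Fin N) R ⧸ IB, inferInstance, inferInstance, α, β, ?_, s, hs, hstdB⟩
  ext x
  obtain ⟨p, rfl⟩ := hπA x
  rw [AlgHom.comp_apply, hα]
  show (aeval lam) (rename w p) = φ (πA p)
  exact hlamφ p

end Groth.Agent.Lib.Seat14.Deloc
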