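import Groth.Agent.Lib.Seat14DelocC

/-!
# Delocalizing a standard smooth factorization, part D (helper14)

A variant of Stacks, Lemma 16.8.1 in which the localized target is an arbitrary `Rₛ`-algebra `Λₛ`
which is a localization of `Λ` (as a module), and the source map is given on `A` itself.  The
output algebra is moreover recorded to be finitely presented.
-/

set_option autoImplicit false
set_option linter.style.haveILetI false
universe u

namespace Groth.Agent.Lib.Seat14.Deloc

open MvPolynomial TensorProduct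

theorem finitePresentation_of_isElementaryStandard {R B : Type u} [CommRing R] [CommRing B]
    [Algebra R B] {b : B} (hb : Smoothing.IsElementaryStandard R B b) :
    Algebra.FinitePresentation R B := by
  obtain ⟨P, -, -⟩ := hb
  refine Algebra.FinitePresentation.of_surjective (f := P.hom) P.surj ?_
  rw [P.ker_eq]
  exact ⟨(Set.finite_range P.rel).toFinset, by simp⟩

/-- Stacks, Lemma 16.8.1, with a general model of the localized target. -/
theorem delocalize_base' {R A Λ Rₛ B' Λₛ : Type u} [CommRing R] [CommRing A] [Algebra R A]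
    [Algebra.FinitePresentation R A] [CommRing Λ] [Algebra R Λ] (φ : A →ₐ[R] Λ) (S : Submonoid R)
    [CommRing Rₛ] [Algebra R Rₛ] [IsLocalization S Rₛ] [CommRing B'] [Algebra Rₛ B'] [Algebra R B']
    [IsScalarTower R Rₛ B'] [Algebra.Smooth Rₛ B']
    [CommRing Λₛ] [Algebra R Λₛ] [Algebra Rₛ Λₛ] [IsScalarTower R Rₛ Λₛ]
    (ιΛ : Λ →ₐ[R] Λₛ) (hL1 : ∀ y : Λₛ, ∃ x : Λ × S, x.2 • y = ιΛ x.1)
    (hL2 : ∀ x : Λ, ιΛ x = 0 → ∃ s ∈ S, s • x = 0)
    (g : A →ₐ[R] B') (h : B' →ₐ[Rₛ] Λₛ) (hgh : ∀ a, h (g a) = ιΛ (φ a)) :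
    ∃ (B : Type u) (_ : CommRing B) (_ : Algebra R B) (α : A →ₐ[R] B) (β : B →ₐ[R] Λ),
      β.comp α = φ ∧ ∃ s ∈ S, Smoothing.IsElementaryStandard R B (algebraMap R B s) := by
  classical
  -- (W1) pass to a standard smooth algebra
  obtain ⟨B'', _, _, _, _, -, ⟨ρ⟩, hstd⟩ := Groth.Agent.S2025.result (R := Rₛ) (A := B')
  let g'' : A → B'' := fun a => algebraMap B' B'' (g a)
  let h'' : B'' →ₐ[Rₛ] Λₛ := h.comp (ρ.restrictScalars Rₛ)
  have hh'' : ∀ a, h'' (g'' a) = ιΛ (φ a) := by
    intro a
    show h (ρ (algebraMap B' B'' (g a))) = _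
    rw [ρ.commutes]
    exact hgh a
  -- (W2) a presentation of `A`
  obtain ⟨n, πA, hπA, hfgA⟩ := Algebra.FinitePresentation.out (R := R) (A := A)
  obtain ⟨t, G, hG⟩ := Submodule.fg_iff_exists_fin_generating_family.mp hfgA
  set a : Fin n → A := fun i => πA (X i) with ha
  have hπA_eq : ∀ p, πA p = aeval a p := by
    intro p
    have : πA = aeval a := by
      apply MvPolynomial.algHom_ext
      intro i
      rw [aeval_X]
    rw [this]
  have hGker : ∀ k, πA (G k) = 0 := by
    intro k
    have : G k ∈ RingHom.ker πA.toRingHom := by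
      rw [← hG]
      exact Submodule.subset_span ⟨k, rfl⟩
    exact this
  -- (W3) raw data
  obtain ⟨N, c, ev, rel, cols, w, hev, hker, hJ, hw⟩ :=
    exists_raw (K := Rₛ) (B'' := B'') (fun i : Fin n => g'' (a i))
  -- values of the variables in `Λ`
  have hex : ∀ v : Fin N, ∃ x : Λ × S, x.2 • h'' (ev (X v)) = ιΛ x.1 ∧
      ∀ i, v = w i → x = (φ (a i), 1) := by
    intro v
    by_cases hv : ∃ i, v = w i
    · obtain ⟨i, rfl⟩ := hv
      refine ⟨(φ (a i), 1), ?_, fun i' hi' => ?_⟩
      · rw [one_smul, hw, hh'']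
      · rw [w.injective hi']
    · obtain ⟨x, hx⟩ := hL1 (h'' (ev (X v)))
      exact ⟨x, hx, fun i hi => absurd ⟨i, hi⟩ hv⟩
  choose ld hld hldw using hex
  -- (W5) rescale the variables
  obtain ⟨ev', rel', hev', hker', hJ', hev'X⟩ := rescale ev hev rel hker cols hJ
    (fun v => (IsLocalization.map_units Rₛ (ld v).2).unit)
  set lam : Fin N → Λ := fun v => (ld v).1 with hlamdef
  have hlam : ∀ v, h'' (ev' (X v)) = ιΛ (lam v) := by
    intro v
    rw [hev'X, map_smul, IsUnit.unit_spec, algebraMap_smul, ← hld v]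
    rfl
  have hev'w : ∀ i, ev' (X (w i)) = g'' (a i) := by
    intro i
    rw [hev'X, IsUnit.unit_spec, hldw (w i) i rfl, hw]
    simp
  have hlamw : ∀ i, lam (w i) = φ (a i) := by
    intro i
    rw [hlamdef]
    simp only
    rw [hldw (w i) i rfl]
  -- (W6) the relations of `A`
  have hlamφ : ∀ p : MvPolynomial (Fin n) R, aeval lam (rename w p) = φ (πA p) := by
    intro p
    rw [aeval_rename, hπA_eq, ← AlgHom.comp_apply, comp_aeval]
    have : lam ∘ w = fun i => φ (a i) := funext fun i => hlamw i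
    rw [this]
  have hevg : ∀ p : MvPolynomial (Fin n) R,
      ev' (MvPolynomial.map (algebraMap R Rₛ) (rename w p)) = g'' (πA p) := by
    intro p
    have : ((ev' : MvPolynomial (Fin N) Rₛ →+* B'').comp
        ((MvPolynomial.map (algebraMap R Rₛ)).comp
          (rename w : MvPolynomial (Fin n) R →ₐ[R] MvPolynomial (Fin N) R).toRingHom)) =
        ((algebraMap B' B'').comp (g : A →+* B')).comp
          (πA : MvPolynomial (Fin n) R →+* A) := by
      apply MvPolynomial.ringHom_ext
      · intro r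
        simp only [RingHom.comp_apply, AlgHom.toRingHom_eq_coe, RingHom.coe_coe, rename_C,
          MvPolynomial.map_C]
        rw [← MvPolynomial.algebraMap_eq, AlgHom.commutes, ← MvPolynomial.algebraMap_eq,
          AlgHom.commutes, AlgHom.commutes, IsScalarTower.algebraMap_apply R Rₛ B',
          ← IsScalarTower.algebraMap_apply Rₛ B' B'']
      · intro i
        simp only [RingHom.comp_apply, AlgHom.toRingHom_eq_coe, RingHom.coe_coe, rename_X,
          MvPolynomial.map_X]
        exact hev'w i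
    exact RingHom.congr_fun this p
  have hG' : ∀ k, ev' (MvPolynomial.map (algebraMap R Rₛ) (rename w (G k))) = 0 := by
    intro k
    rw [hevg, hGker]
    show algebraMap B' B'' (g 0) = 0
    rw [map_zero, map_zero]
  have hGlam : ∀ k, aeval lam (rename w (G k)) = 0 := by
    intro k
    rw [hlamφ, hGker, map_zero]
  -- (W7) the core
  obtain ⟨m, f, hflam, hGmem, s, hs, hstdB⟩ := core S ιΛ hL2 ev' hev' rel' hker' cols hJ' h'' lam hlam
    (fun k => rename w (G k)) hG' hGlam
  set IB : Ideal (MvPolynomial (Fin N) R) := Ideal.span (Set.range f) with hIB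
  have hβ₀ : ∀ x ∈ IB, (aeval lam : MvPolynomial (Fin N) R →ₐ[R] Λ) x = 0 := by
    intro x hx
    refine Submodule.span_induction (p := fun x _ => (aeval lam) x = 0) ?_ ?_ ?_ ?_ hx
    · rintro _ ⟨l, rfl⟩
      exact hflam l
    · exact map_zero _
    · intro x y _ _ hx hy
      rw [map_add, hx, hy, add_zero]
    · intro r x _ hx
      rw [smul_eq_mul, map_mul, hx, mul_zero]
  let β : (MvPolynomial (Fin N) R ⧸ IB) →ₐ[R] Λ := Ideal.Quotient.liftₐ IB (aeval lam) hβ₀
  let α₀ : MvPolynomial (Fin n) R →ₐ[R] (MvPolynomial (Fin N) R ⧸ IB) :=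
    (Ideal.Quotient.mkₐ R IB).comp (rename w)
  have hα₀ : ∀ x ∈ RingHom.ker πA, α₀ x = 0 := by
    intro x hx
    have hx' : x ∈ Ideal.span (Set.range G) := by
      have : Ideal.span (Set.range G) = RingHom.ker πA.toRingHom := hG
      rw [this]
      exact hx
    refine Submodule.span_induction (p := fun x _ => α₀ x = 0) ?_ ?_ ?_ ?_ hx'
    · rintro _ ⟨k, rfl⟩
      exact Ideal.Quotient.eq_zero_iff_mem.mpr (hGmem k)
    · exact map_zero _
    · intro x y _ _ hx hy
      rw [map_add, hx, hy, add_zero]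
    · intro r x _ hx
      rw [smul_eq_mul, map_mul, hx, mul_zero]
  let α : A →ₐ[R] (MvPolynomial (Fin N) R ⧸ IB) :=
    (Ideal.Quotient.liftₐ (RingHom.ker πA) α₀ hα₀).comp
      (Ideal.quotientKerAlgEquivOfSurjective hπA).symm.toAlgHom
  have hα : ∀ p, α (πA p) = α₀ p := by
    intro p
    show (Ideal.Quotient.liftₐ (RingHom.ker πA) α₀ hα₀)
      ((Ideal.quotientKerAlgEquivOfSurjective hπA).symm (πA p)) = α₀ p
    have : (Ideal.quotientKerAlgEquivOfSurjective hπA).symm (πA p) =
        Ideal.Quotient.mk (RingHom.ker πA) p := by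
      rw [AlgEquiv.symm_apply_eq]
      rfl
    rw [this]
    rfl
  refine ⟨MvPolynomial (Fin N) R ⧸ IB, inferInstance, inferInstance, α, β, ?_, s, hs, hstdB⟩
  ext x
  obtain ⟨p, rfl⟩ := hπA x
  rw [AlgHom.comp_apply, hα]
  show (aeval lam) (rename w p) = φ (πA p)
  exact hlamφ p

end Groth.Agent.Lib.Seat14.Deloc
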