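import Groth.Agent.Lib.Seat14DelocD
import Groth.Agent.Lib.Seat10StdSmD

/-!
# Delocalizing the target (helper14)

If `A → Λ_μ` factors through a smooth `R`-algebra, then `A → Λ` factors through a finitely
presented `R`-algebra `C` with an element of its singular ideal mapping to a power of `μ`.
The proof applies Stacks, Lemma 16.8.1 over the base `R[y]` (with `y ↦ μ`) and the multiplicative
set of powers of `y`; smoothness over `R[y]` gives smoothness over `R`.
-/

set_option autoImplicit false
set_option linter.style.haveILetI false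
universe u

namespace Groth.Agent.Lib.Seat14.Deloc

open Polynomial TensorProduct

/-- An element which is elementary standard over a polynomial ring `R[X]` lies in the singular
ideal over `R`. -/
theorem mem_singularIdeal_of_isElementaryStandard_polynomial {R C : Type u} [CommRing R]
    [CommRing C] [Algebra R C] [Algebra R[X] C] [IsScalarTower R R[X] C] (c : C)
    (hc : Smoothing.IsElementaryStandard R[X] C c) : c ∈ Smoothing.singularIdeal R C := by
  change c ∈ PrimeSpectrum.vanishingIdeal (Algebra.smoothLocus R C)ᶜ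
  rw [PrimeSpectrum.mem_vanishingIdeal]
  intro x hx
  by_contra hax
  apply hx
  have h1 : Algebra.IsSmoothAt R[X] x.asIdeal :=
    Groth.Agent.Lib.Seat10.StdSm.isSmoothAt_of_isStrictlyStandard c
      (Groth.Agent.Lib.Seat10.StdSm.isStrictlyStandard_of_isElementaryStandard c hc) x.asIdeal hax
  change Algebra.FormallySmooth R (Localization.AtPrime x.asIdeal)
  have h2 : Algebra.FormallySmooth R[X] (Localization.AtPrime x.asIdeal) := h1
  exact Algebra.FormallySmooth.comp R R[X] (Localization.AtPrime x.asIdeal)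

/-- Target delocalization: a factorization `A → B' → Λ_μ` through a smooth `R`-algebra gives a
factorization `A → C → Λ` through a finitely presented `R`-algebra having an element of the
singular ideal mapping to a power of `μ`. -/
theorem delocalize_target {R A Λ B' Λ' : Type u} [CommRing R] [CommRing A] [Algebra R A]
    [Algebra.FinitePresentation R A] [CommRing Λ] [Algebra R Λ] (φ : A →ₐ[R] Λ)
    [CommRing B'] [Algebra R B'] [Algebra.Smooth R B'] (g : A →ₐ[R] B') (μ : Λ)
    [CommRing Λ'] [Algebra Λ Λ'] [Algebra R Λ'] [IsScalarTower R Λ Λ'] [IsLocalization.Away μ Λ']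
    (h : B' →ₐ[R] Λ') (hgh : ∀ a, h (g a) = algebraMap Λ Λ' (φ a)) :
    ∃ (C : Type u) (_ : CommRing C) (_ : Algebra R C), Algebra.FinitePresentation R C ∧
      ∃ (g' : A →ₐ[R] C) (h' : C →ₐ[R] Λ), h'.comp g' = φ ∧
        ∃ c ∈ Smoothing.singularIdeal R C, ∃ k : ℕ, h' c = μ ^ k := by
  classical
  -- the polynomial ring `Q = R[y]` acts on `Λ` through `y ↦ μ`
  letI algQΛ : Algebra R[X] Λ := (Polynomial.aeval μ : R[X] →ₐ[R] Λ).toRingHom.toAlgebra
  have hQΛ : ∀ q : R[X], algebraMap R[X] Λ q = Polynomial.aeval μ q := fun q => rfl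
  haveI : IsScalarTower R R[X] Λ := IsScalarTower.of_algebraMap_eq fun r => by
    rw [hQΛ, Polynomial.algebraMap_apply, Polynomial.aeval_C, Algebra.algebraMap_self_apply]
  letI algQΛ' : Algebra R[X] Λ' := ((algebraMap Λ Λ').comp (algebraMap R[X] Λ)).toAlgebra
  haveI : IsScalarTower R[X] Λ Λ' := IsScalarTower.of_algebraMap_eq fun q => rfl
  haveI : IsScalarTower R R[X] Λ' := IsScalarTower.of_algebraMap_eq fun r => by
    rw [IsScalarTower.algebraMap_apply R[X] Λ Λ', ← IsScalarTower.algebraMap_apply R R[X] Λ,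
      ← IsScalarTower.algebraMap_apply R Λ Λ']
  -- the localization `L = R[y, y⁻¹]`
  have hunit : IsUnit (algebraMap R[X] Λ' (X : R[X])) := by
    rw [IsScalarTower.algebraMap_apply R[X] Λ Λ', hQΛ, Polynomial.aeval_X]
    exact IsLocalization.Away.algebraMap_isUnit μ
  letI algLΛ' : Algebra (Localization.Away (X : R[X])) Λ' :=
    (IsLocalization.Away.lift (X : R[X]) hunit).toAlgebra
  haveI : IsScalarTower R[X] (Localization.Away (X : R[X])) Λ' :=
    IsScalarTower.of_algebraMap_eq fun q => (IsLocalization.Away.lift_eq (X : R[X]) hunit q).symm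
  haveI : IsScalarTower R (Localization.Away (X : R[X])) Λ' :=
    IsScalarTower.of_algebraMap_eq fun r => by
      rw [IsScalarTower.algebraMap_apply R R[X] (Localization.Away (X : R[X])),
        ← IsScalarTower.algebraMap_apply R[X] (Localization.Away (X : R[X])) Λ',
        ← IsScalarTower.algebraMap_apply R R[X] Λ']
  -- notation
  set L := Localization.Away (X : R[X]) with hLdef
  -- the `Q`-algebra `A_Q`
  let φQ : R[X] ⊗[R] A →ₐ[R[X]] Λ :=
    Algebra.TensorProduct.lift (Algebra.ofId R[X] Λ) φ (fun _ _ => Commute.all _ _)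
  have hφQ : ∀ (q : R[X]) (a : A), φQ (q ⊗ₜ a) = algebraMap R[X] Λ q * φ a := fun q a => by
    simp [φQ, Algebra.ofId_apply]
  -- the smooth `L`-algebra
  let gQ : R[X] ⊗[R] A →ₐ[R[X]] L ⊗[R] B' :=
    Algebra.TensorProduct.map (Algebra.ofId R[X] L) g
  let hQ : L ⊗[R] B' →ₐ[L] Λ' :=
    Algebra.TensorProduct.lift (Algebra.ofId L Λ') h (fun _ _ => Commute.all _ _)
  let ιΛ : Λ →ₐ[R[X]] Λ' := IsScalarTower.toAlgHom R[X] Λ Λ'
  have hcompat : ∀ x : R[X] ⊗[R] A, hQ (gQ x) = ιΛ (φQ x) := by
    intro x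
    induction x using TensorProduct.induction_on with
    | zero => simp
    | tmul q a =>
      rw [hφQ]
      simp only [gQ, hQ, ιΛ, Algebra.TensorProduct.map_tmul, Algebra.TensorProduct.lift_tmul,
        Algebra.ofId_apply, hgh, map_mul, IsScalarTower.coe_toAlgHom']
      rw [← IsScalarTower.algebraMap_apply R[X] L Λ', IsScalarTower.algebraMap_apply R[X] Λ Λ']
    | add x y hx hy => rw [map_add, map_add, hx, hy, map_add, map_add]
  have hsmul : ∀ (k : ℕ) (x : Λ), (X ^ k : R[X]) • x = μ ^ k * x := fun k x => by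
    rw [Algebra.smul_def, hQΛ, map_pow, Polynomial.aeval_X]
  have hL1 : ∀ y : Λ', ∃ x : Λ × Submonoid.powers (X : R[X]), x.2 • y = ιΛ x.1 := by
    intro y
    obtain ⟨⟨x, ⟨_, k, rfl⟩⟩, hx⟩ := IsLocalization.surj (Submonoid.powers μ) y
    refine ⟨(x, ⟨X ^ k, k, rfl⟩), ?_⟩
    show (X ^ k : R[X]) • y = algebraMap Λ Λ' x
    rw [← hx, Algebra.smul_def, IsScalarTower.algebraMap_apply R[X] Λ Λ', hQΛ, map_pow,
      Polynomial.aeval_X, mul_comm]
  have hL2 : ∀ x : Λ, ιΛ x = 0 → ∃ s ∈ Submonoid.powers (X : R[X]), s • x = 0 := by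
    intro x hx
    have hx' : algebraMap Λ Λ' x = 0 := hx
    obtain ⟨⟨_, k, rfl⟩, hk⟩ := (IsLocalization.map_eq_zero_iff (Submonoid.powers μ) Λ' x).mp hx'
    exact ⟨X ^ k, ⟨k, rfl⟩, by rw [hsmul]; exact hk⟩
  obtain ⟨C, _, _, α', β', hαβ, s', hs', hstd⟩ :=
    delocalize_base' (R := R[X]) (Rₛ := L) φQ (Submonoid.powers (X : R[X])) ιΛ hL1 hL2 gQ hQ hcompat
  haveI hfpQ : Algebra.FinitePresentation R[X] C := finitePresentation_of_isElementaryStandard hstd
  letI algRC : Algebra R C := ((algebraMap R[X] C).comp (algebraMap R R[X])).toAlgebra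
  haveI : IsScalarTower R R[X] C := IsScalarTower.of_algebraMap_eq fun r => rfl
  obtain ⟨k, rfl⟩ := hs'
  refine ⟨C, inferInstance, algRC, Algebra.FinitePresentation.trans R R[X] C,
    (α'.restrictScalars R).comp (Algebra.TensorProduct.includeRight : A →ₐ[R] R[X] ⊗[R] A),
    β'.restrictScalars R, ?_, algebraMap R[X] C (X ^ k),
    mem_singularIdeal_of_isElementaryStandard_polynomial _ hstd, k, ?_⟩
  · ext a
    simp only [AlgHom.comp_apply, AlgHom.restrictScalars_apply,
      Algebra.TensorProduct.includeRight_apply]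
    rw [← AlgHom.comp_apply, hαβ, hφQ, map_one, one_mul]
  · rw [AlgHom.restrictScalars_apply, AlgHom.commutes, hQΛ, map_pow, Polynomial.aeval_X]

end Groth.Agent.Lib.Seat14.Deloc
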