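import Groth.Agent.Lib.Seat14DelocE
import Groth.Agent.Lib.Helper22SpreadIso

/-!
# Delocalizing a weak resolution (helper14)

Stacks, Lemma 16.10.2: if the localized problem `R_𝔭 → R_𝔭 ⊗ A → Λ_𝔮 ⊇ 𝔮Λ_𝔮` can be resolved, then
`A → Λ` factors through a finitely presented `R`-algebra `C` with `H_{C/R} Λ ⊄ 𝔮`.

Proof: localize the resolution to a smooth `R_𝔭`-algebra, delocalize the base (Lemma 16.8.1 with
target `Λ_𝔮`) to get `A → B₃ → Λ_𝔮` with `s ∈ R ∖ 𝔭` elementary standard in `B₃`; then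
`B₄ = (B₃)_s` is smooth over `R`, the map `B₄ → Λ_𝔮` factors through `Λ_μ` with `μ ∉ 𝔮`
(compactness), and `delocalize_target` finishes.
-/

set_option autoImplicit false
set_option linter.style.haveILetI false
universe u

namespace Groth.Agent.Lib.Seat14.Deloc

open TensorProduct

/-- Compactness: a map from a finitely presented `R`-algebra `B` under `A` to a localization of
`Λ` factors, compatibly with `A`, through a localization at one element. -/
theorem exists_factor_away {R A B Λ Λq : Type u} [CommRing R] [CommRing A] [Algebra R A]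
    [Algebra.FiniteType R A] [CommRing B] [Algebra R B] [Algebra.FinitePresentation R B]
    (α : A →ₐ[R] B) [CommRing Λ] [Algebra R Λ] (φ : A →ₐ[R] Λ) (M : Submonoid Λ)
    [CommRing Λq] [Algebra Λ Λq] [Algebra R Λq] [IsScalarTower R Λ Λq] [IsLocalization M Λq]
    (β : B →ₐ[R] Λq) (hβ : ∀ a, β (α a) = algebraMap Λ Λq (φ a)) :
    ∃ μ ∈ M, ∃ β' : B →ₐ[R] Localization.Away μ,
      ∀ a, β' (α a) = algebraMap Λ (Localization.Away μ) (φ a) := by
  letI : Algebra A B := α.toRingHom.toAlgebra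
  letI : Algebra A Λ := φ.toRingHom.toAlgebra
  letI : Algebra A Λq := ((algebraMap Λ Λq).comp φ.toRingHom).toAlgebra
  haveI : IsScalarTower R A B := IsScalarTower.of_algebraMap_eq fun r => (α.commutes r).symm
  haveI : IsScalarTower R A Λ := IsScalarTower.of_algebraMap_eq fun r => (φ.commutes r).symm
  haveI : IsScalarTower A Λ Λq := IsScalarTower.of_algebraMap_eq fun a => rfl
  haveI : Algebra.FinitePresentation A B :=
    Algebra.FinitePresentation.of_restrict_scalars_finitePresentation R A B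
  let βA : B →ₐ[A] Λq := { β.toRingHom with commutes' := fun a => hβ a }
  obtain ⟨t, ht, φ', -⟩ := Groth.Agent.Lib.Helper22.SpreadIso.exists_lift_away
    (R := A) (S := B) (T := Λ) (L := Λq) M βA
  have h1 : ∀ a : A, φ' (α a) = algebraMap Λ (Localization.Away t) (φ a) := by
    intro a
    have := φ'.commutes a
    rw [IsScalarTower.algebraMap_apply A Λ (Localization.Away t)] at this
    exact this
  refine ⟨t, ht, { φ'.toRingHom with commutes' := fun r => ?_ }, h1⟩
  show φ' (algebraMap R B r) = _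
  rw [← α.commutes, h1, φ.commutes, ← IsScalarTower.algebraMap_apply]

theorem smooth_away_of_mem_singularIdeal {K B : Type u} [CommRing K] [CommRing B] [Algebra K B]
    [Algebra.FinitePresentation K B] {b : B} (hb : b ∈ Smoothing.singularIdeal K B) :
    Algebra.Smooth K (Localization.Away b) := by
  rw [← Algebra.basicOpen_subset_smoothLocus_iff_smooth]
  intro x hx
  by_contra hns
  have hb' : b ∈ PrimeSpectrum.vanishingIdeal (Algebra.smoothLocus K B)ᶜ := hb
  rw [PrimeSpectrum.mem_vanishingIdeal] at hb'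
  exact hx (hb' x hns)

open TensorProduct in
/-- Stacks, Lemma 16.10.2 (the hypothesis of minimality and the Noetherian hypothesis are not
needed). -/
theorem delocalize_weak {R A Λ Rₚ Λq : Type u} [CommRing R] [CommRing A]
    [Algebra R A] [Algebra.FinitePresentation R A] [CommRing Λ] [Algebra R Λ] (φ : A →ₐ[R] Λ)
    (𝔮 : Ideal Λ) [𝔮.IsPrime]
    [CommRing Rₚ] [Algebra R Rₚ] [IsLocalization.AtPrime Rₚ (𝔮.comap (algebraMap R Λ))]
    [CommRing Λq] [Algebra Λ Λq] [IsLocalization.AtPrime Λq 𝔮] [Algebra R Λq] [IsScalarTower R Λ Λq]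
    [Algebra Rₚ Λq] [IsScalarTower R Rₚ Λq]
    (hres : Smoothing.Resolvable Rₚ
      (Algebra.TensorProduct.lift (Algebra.ofId Rₚ Λq) ((IsScalarTower.toAlgHom R Λ Λq).comp φ)
        (fun _ _ => Commute.all _ _) : Rₚ ⊗[R] A →ₐ[Rₚ] Λq) (𝔮.map (algebraMap Λ Λq))) :
    ∃ (C : Type u) (_ : CommRing C) (_ : Algebra R C), Algebra.FinitePresentation R C ∧
      ∃ (g : A →ₐ[R] C) (h : C →ₐ[R] Λ), h.comp g = φ ∧
        ¬ (Smoothing.singularIdeal R C).map h ≤ 𝔮 := by
  classical
  obtain ⟨B, _, _, hfpB, g, h, hgh, -, hnot⟩ := hres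
  haveI := hfpB
  haveI : IsLocalRing Λq := IsLocalization.AtPrime.isLocalRing Λq 𝔮
  -- an element of the singular ideal mapping to a unit
  have hmax : 𝔮.map (algebraMap Λ Λq) = IsLocalRing.maximalIdeal Λq :=
    IsLocalization.AtPrime.map_eq_maximalIdeal 𝔮 Λq
  obtain ⟨b, hb, hbu⟩ : ∃ b ∈ Smoothing.singularIdeal Rₚ B, IsUnit (h b) := by
    by_contra hcon
    push Not at hcon
    apply hnot
    rw [hmax]
    unfold Smoothing.singRad
    rw [(IsLocalRing.maximalIdeal.isMaximal Λq).isPrime.radical_le_iff, Ideal.map_le_iff_le_comap]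
    intro b hb
    exact (IsLocalRing.mem_maximalIdeal _).mpr (hcon b hb)
  -- `B₂ = B_b` is smooth over `Rₚ`
  haveI hsm2 : Algebra.Smooth Rₚ (Localization.Away b) := smooth_away_of_mem_singularIdeal hb
  letI algRB : Algebra R B := ((algebraMap Rₚ B).comp (algebraMap R Rₚ)).toAlgebra
  haveI : IsScalarTower R Rₚ B := IsScalarTower.of_algebraMap_eq fun r => rfl
  haveI : IsScalarTower R Rₚ (Localization.Away b) := IsScalarTower.of_algebraMap_eq fun r => by
    rw [IsScalarTower.algebraMap_apply R B (Localization.Away b),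
      IsScalarTower.algebraMap_apply Rₚ B (Localization.Away b),
      IsScalarTower.algebraMap_apply R Rₚ B]
  let g₂ : A →ₐ[R] Localization.Away b :=
    (((IsScalarTower.toAlgHom Rₚ B (Localization.Away b)).comp g).restrictScalars R).comp
      (Algebra.TensorProduct.includeRight : A →ₐ[R] Rₚ ⊗[R] A)
  let h₂ : Localization.Away b →ₐ[Rₚ] Λq :=
    IsLocalization.liftAlgHom (M := Submonoid.powers b) (f := h) (by
      rintro ⟨_, k, rfl⟩
      simpa using hbu.pow k)
  let φq : A →ₐ[R] Λq := (IsScalarTower.toAlgHom R Λ Λq).comp φ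
  have h₂g₂ : ∀ a, h₂ (g₂ a) = (AlgHom.id R Λq) (φq a) := by
    intro a
    show IsLocalization.lift _ (algebraMap B (Localization.Away b) (g (1 ⊗ₜ a))) = _
    rw [IsLocalization.lift_eq]
    have := AlgHom.congr_fun hgh (1 ⊗ₜ a)
    rw [AlgHom.comp_apply] at this
    show h (g (1 ⊗ₜ a)) = _
    rw [this]
    simp [φq]
  -- first delocalization: from `Rₚ` to `R`
  obtain ⟨B₃, _, _, α, β, hαβ, s, hs, hstd⟩ :=
    delocalize_base' (Rₛ := Rₚ) φq (𝔮.comap (algebraMap R Λ)).primeCompl (AlgHom.id R Λq)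
      (fun y => ⟨(y, 1), one_smul _ _⟩) (fun x hx => ⟨1, Submonoid.one_mem _, by simpa using hx⟩)
      g₂ h₂ h₂g₂
  haveI hfp3 : Algebra.FinitePresentation R B₃ := finitePresentation_of_isElementaryStandard hstd
  have hs3 : algebraMap R B₃ s ∈ Smoothing.singularIdeal R B₃ :=
    Groth.Agent.Lib.Seat10.StdSm.span_isStrictlyStandard_le_singularIdeal (Ideal.subset_span
      (Groth.Agent.Lib.Seat10.StdSm.isStrictlyStandard_of_isElementaryStandard _ hstd))
  haveI hsm4 : Algebra.Smooth R (Localization.Away (algebraMap R B₃ s)) :=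
    smooth_away_of_mem_singularIdeal hs3
  -- the map `B₄ → Λq`
  have hsu : IsUnit (algebraMap R Λq s) := by
    rw [IsScalarTower.algebraMap_apply R Λ Λq]
    exact IsLocalization.map_units Λq (⟨algebraMap R Λ s, hs⟩ : 𝔮.primeCompl)
  let β₄ : Localization.Away (algebraMap R B₃ s) →ₐ[R] Λq :=
    IsLocalization.liftAlgHom (M := Submonoid.powers (algebraMap R B₃ s)) (f := β) (by
      rintro ⟨_, k, rfl⟩
      simpa using hsu.pow k)
  let g₄ : A →ₐ[R] Localization.Away (algebraMap R B₃ s) :=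
    (IsScalarTower.toAlgHom R B₃ (Localization.Away (algebraMap R B₃ s))).comp α
  have hβ₄ : ∀ a, β₄ (g₄ a) = algebraMap Λ Λq (φ a) := by
    intro a
    show IsLocalization.lift _ (algebraMap B₃ _ (α a)) = _
    rw [IsLocalization.lift_eq]
    exact AlgHom.congr_fun hαβ a
  -- compactness
  obtain ⟨μ, hμ, β', hβ'⟩ := exists_factor_away g₄ φ 𝔮.primeCompl β₄ hβ₄
  -- second delocalization: from `Λ_μ` to `Λ`
  obtain ⟨C, _, _, hfpC, g', h', hg'h', c, hc, k, hck⟩ := delocalize_target φ g₄ μ β' hβ'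
  refine ⟨C, inferInstance, inferInstance, hfpC, g', h', hg'h', fun hle => ?_⟩
  have h1 : h' c ∈ 𝔮 := hle (Ideal.mem_map_of_mem _ hc)
  rw [hck] at h1
  exact hμ (Ideal.IsPrime.mem_of_pow_mem inferInstance k h1)

end Groth.Agent.Lib.Seat14.Deloc
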