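import Mathlib

/-!
# Desingularization lemma (Stacks 16.7.2), part A: generic polynomial lemmas (seat 14)

* `aeval_sub_aeval_mem`: values of a polynomial at two points congruent modulo an ideal are
  congruent.
* `taylor_one`: first order Taylor expansion `p(a + t y) = p(a) + t ∑ ∂_i p(a) y_i + t² q`.
* `exists_mul_eq_smul_one`: a `c × n` matrix `M` with `d = ∑ coef_I det M_I` has a "right inverse
  up to `d`".
-/

set_option autoImplicit false
universe u

namespace Groth.Agent.Lib.Seat14.Desing

open MvPolynomial

section Poly

variable {R S : Type*} [CommRing R] [CommRing S] [Algebra R S] {σ : Type*}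

theorem aeval_sub_aeval_mem (J : Ideal S) (a b : σ → S) (hab : ∀ i, a i - b i ∈ J)
    (p : MvPolynomial σ R) : aeval a p - aeval b p ∈ J := by
  induction p using MvPolynomial.induction_on with
  | C r => simp
  | add p q hp hq =>
    have : aeval a (p + q) - aeval b (p + q) = (aeval a p - aeval b p) + (aeval a q - aeval b q) := by
      rw [map_add, map_add]; ring
    rw [this]
    exact J.add_mem hp hq
  | mul_X p i hp =>
    have : aeval a (p * X i) - aeval b (p * X i) =
        (aeval a p - aeval b p) * a i + aeval b p * (a i - b i) := by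
      rw [map_mul, map_mul, aeval_X, aeval_X]; ring
    rw [this]
    exact J.add_mem (J.mul_mem_right _ hp) (J.mul_mem_left _ (hab i))

theorem taylor_one [Fintype σ] [DecidableEq σ] (a y : σ → S) (t : S) (p : MvPolynomial σ R) :
    ∃ q : S, aeval (fun i => a i + t * y i) p =
      aeval a p + t * ∑ i, aeval a (pderiv i p) * y i + t ^ 2 * q := by
  induction p using MvPolynomial.induction_on with
  | C r => exact ⟨0, by simp⟩
  | add p q hp hq =>
    obtain ⟨q₁, h₁⟩ := hp
    obtain ⟨q₂, h₂⟩ := hq
    refine ⟨q₁ + q₂, ?_⟩
    rw [map_add, h₁, h₂, map_add]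
    simp only [map_add, add_mul, Finset.sum_add_distrib]
    ring
  | mul_X p j hp =>
    obtain ⟨q, h⟩ := hp
    refine ⟨y j * ∑ i, aeval a (pderiv i p) * y i + q * a j + t * q * y j, ?_⟩
    have hsum : ∑ i, aeval a (pderiv i (p * X j)) * y i =
        a j * ∑ i, aeval a (pderiv i p) * y i + aeval a p * y j := by
      have : ∀ i, aeval a (pderiv i (p * X j)) * y i =
          a j * (aeval a (pderiv i p) * y i) + (if i = j then aeval a p * y j else 0) := by
        intro i
        rw [Derivation.leibniz, pderiv_X, smul_eq_mul, smul_eq_mul, map_add, map_mul, map_mul,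
          aeval_X]
        by_cases hij : i = j
        · subst hij
          simp only [Pi.single_eq_same, map_one, mul_one, if_true]
          ring
        · rw [Pi.single_eq_of_ne' hij, map_zero, mul_zero, if_neg hij]
          ring
      rw [Finset.sum_congr rfl fun i _ => this i, Finset.sum_add_distrib, ← Finset.mul_sum,
        Finset.sum_ite_eq' Finset.univ j, if_pos (Finset.mem_univ j)]
    rw [map_mul, aeval_X, h, map_mul, aeval_X, hsum]
    ring

end Poly

section Mat

open Matrix

variable {R : Type*} [CommRing R]

theorem exists_mul_eq_smul_one {c n : ℕ} (Mx : Matrix (Fin c) (Fin n) R) (d : R)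
    (coef : (Fin c → Fin n) → R)
    (h : d = ∑ cols : Fin c → Fin n, coef cols * (Mx.submatrix id cols).det) :
    ∃ Q : Matrix (Fin n) (Fin c) R, Mx * Q = d • (1 : Matrix (Fin c) (Fin c) R) := by
  classical
  refine ⟨∑ cols : Fin c → Fin n, coef cols •
    ((1 : Matrix (Fin n) (Fin n) R).submatrix id cols * (Mx.submatrix id cols).adjugate), ?_⟩
  rw [Matrix.mul_sum]
  have h2 : ∀ cols : Fin c → Fin n, Mx * (coef cols •
      ((1 : Matrix (Fin n) (Fin n) R).submatrix id cols * (Mx.submatrix id cols).adjugate)) =
      (coef cols * (Mx.submatrix id cols).det) • (1 : Matrix (Fin c) (Fin c) R) := by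
    intro cols
    have h3 : Mx * (1 : Matrix (Fin n) (Fin n) R).submatrix id cols = Mx.submatrix id cols := by
      ext i k
      simp [Matrix.mul_apply, Matrix.one_apply]
    rw [Matrix.mul_smul, ← Matrix.mul_assoc, h3, Matrix.mul_adjugate, smul_smul]
  rw [Finset.sum_congr rfl (fun cols _ => h2 cols), ← Finset.sum_smul, ← h]

end Mat

end Groth.Agent.Lib.Seat14.Desing
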