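import Groth.Agent.Lib.Seat10StdSmD

/-!
# Jacobian criteria with arbitrary finite index types (helper14)

Versions of helper10's `isSmoothAt_of_minor_notMem` and `exists_standard_element` for polynomial
rings with variables and relations indexed by arbitrary finite types (so that sum types can be
used), together with block-triangular and diagonal computations of Jacobian minors.
-/

set_option autoImplicit false
set_option linter.style.haveILetI false
set_option linter.unusedSectionVars false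
universe u

namespace Groth.Agent.Lib.Seat14.DimZero

open MvPolynomial

section transport

variable {R : Type u} [CommRing R] {σ τ κ : Type} [Fintype σ] [Fintype τ] [Fintype κ]
  [DecidableEq σ] [DecidableEq τ] [DecidableEq κ]

/-- The Jacobian minor of a family of relations with respect to chosen rows and columns
(arbitrary finite index types). -/
noncomputable def minor (f : τ → MvPolynomial σ R) (rows : κ → τ) (cols : κ → σ) :
    MvPolynomial σ R :=
  Matrix.det (Matrix.of fun j k : κ => pderiv (cols k) (f (rows j)))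

/-- The ideal `(f ∘ rows) + (f)²`. -/
noncomputable def lead (f : τ → MvPolynomial σ R) (rows : κ → τ) : Ideal (MvPolynomial σ R) :=
  Ideal.span (Set.range (f ∘ rows)) ⊔ Ideal.span (Set.range f) ^ 2

theorem map_lead {σ' : Type} (ρ : MvPolynomial σ R →ₐ[R] MvPolynomial σ' R)
    (f : τ → MvPolynomial σ R) (rows : κ → τ) :
    (lead f rows).map ρ = lead (fun j => ρ (f j)) rows := by
  unfold lead
  rw [Ideal.map_sup, Ideal.map_pow, Ideal.map_span, Ideal.map_span, ← Set.range_comp,
    ← Set.range_comp]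
  rfl

theorem minor_rename {σ' : Type} [Fintype σ'] [DecidableEq σ'] (e : σ → σ')
    (he : Function.Injective e) (f : τ → MvPolynomial σ R) (rows : κ → τ) (cols : κ → σ) :
    minor (fun j => rename e (f j)) rows (e ∘ cols) = rename e (minor f rows cols) := by
  unfold minor
  rw [AlgHom.map_det]
  congr 1
  ext j k
  simp only [Matrix.of_apply, Function.comp_apply, AlgHom.mapMatrix_apply, Matrix.map_apply]
  rw [pderiv_rename he]

theorem minor_reindex {κ' τ' : Type} [Fintype κ'] [DecidableEq κ'] [Fintype τ'] [DecidableEq τ']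
    (eκ : κ' ≃ κ) (eτ : τ' ≃ τ) (f : τ → MvPolynomial σ R) (rows : κ → τ) (cols : κ → σ) :
    minor (f ∘ eτ) (eτ.symm ∘ rows ∘ eκ) (cols ∘ eκ) = minor f rows cols := by
  unfold minor
  have : (Matrix.of fun j k : κ' => pderiv ((cols ∘ eκ) k) ((f ∘ eτ) ((eτ.symm ∘ rows ∘ eκ) j))) =
      (Matrix.of fun j k : κ => pderiv (cols k) (f (rows j))).submatrix eκ eκ := by
    ext j k
    simp
  rw [this, Matrix.det_submatrix_equiv_self]

theorem lead_reindex {κ' τ' : Type} (eκ : κ' ≃ κ) (eτ : τ' ≃ τ) (f : τ → MvPolynomial σ R)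
    (rows : κ → τ) : lead (f ∘ eτ) (eτ.symm ∘ rows ∘ eκ) = lead f rows := by
  unfold lead
  have h1 : Set.range ((f ∘ eτ) ∘ (eτ.symm ∘ rows ∘ eκ)) = Set.range (f ∘ rows) := by
    have : (f ∘ eτ) ∘ (eτ.symm ∘ rows ∘ eκ) = (f ∘ rows) ∘ eκ := by
      ext x
      simp
    rw [this, eκ.surjective.range_comp]
  rw [h1, eτ.surjective.range_comp]

theorem pderiv_rename_of_notMem_range {σ' : Type} [DecidableEq σ'] (e : σ → σ') (x : σ')
    (hx : x ∉ Set.range e) (p : MvPolynomial σ R) : pderiv x (rename e p) = 0 := by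
  apply pderiv_eq_zero_of_notMem_vars
  intro hmem
  have := vars_rename e p hmem
  rw [Finset.mem_image] at this
  obtain ⟨y, -, rfl⟩ := this
  exact hx ⟨y, rfl⟩

theorem minor_sumElim₁₂ {κ₁ κ₂ : Type} [Fintype κ₁] [Fintype κ₂] [DecidableEq κ₁] [DecidableEq κ₂]
    (f : τ → MvPolynomial σ R) (r₁ : κ₁ → τ) (r₂ : κ₂ → τ) (c₁ : κ₁ → σ) (c₂ : κ₂ → σ)
    (h : ∀ i j, pderiv (c₂ j) (f (r₁ i)) = 0) :
    minor f (Sum.elim r₁ r₂) (Sum.elim c₁ c₂) = minor f r₁ c₁ * minor f r₂ c₂ := by
  unfold minor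
  set Mx : Matrix (κ₁ ⊕ κ₂) (κ₁ ⊕ κ₂) (MvPolynomial σ R) :=
    Matrix.of fun j k => pderiv (Sum.elim c₁ c₂ k) (f (Sum.elim r₁ r₂ j)) with hM
  have h12 : Mx.toBlocks₁₂ = 0 := by
    refine Matrix.ext fun i j => ?_
    exact h i j
  rw [← Matrix.fromBlocks_toBlocks Mx, h12, Matrix.det_fromBlocks_zero₁₂]
  rfl

theorem minor_sumElim₂₁ {κ₁ κ₂ : Type} [Fintype κ₁] [Fintype κ₂] [DecidableEq κ₁] [DecidableEq κ₂]
    (f : τ → MvPolynomial σ R) (r₁ : κ₁ → τ) (r₂ : κ₂ → τ) (c₁ : κ₁ → σ) (c₂ : κ₂ → σ)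
    (h : ∀ i j, pderiv (c₁ j) (f (r₂ i)) = 0) :
    minor f (Sum.elim r₁ r₂) (Sum.elim c₁ c₂) = minor f r₁ c₁ * minor f r₂ c₂ := by
  unfold minor
  set Mx : Matrix (κ₁ ⊕ κ₂) (κ₁ ⊕ κ₂) (MvPolynomial σ R) :=
    Matrix.of fun j k => pderiv (Sum.elim c₁ c₂ k) (f (Sum.elim r₁ r₂ j)) with hM
  have h21 : Mx.toBlocks₂₁ = 0 := by
    refine Matrix.ext fun i j => ?_
    exact h i j
  rw [← Matrix.fromBlocks_toBlocks Mx, h21, Matrix.det_fromBlocks_zero₂₁]
  rfl

theorem minor_diagonal (f : τ → MvPolynomial σ R) (rows : κ → τ) (cols : κ → σ)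
    (d : MvPolynomial σ R)
    (h : ∀ j k, pderiv (cols k) (f (rows j)) = if j = k then d else 0) :
    minor f rows cols = d ^ Fintype.card κ := by
  unfold minor
  have : (Matrix.of fun j k : κ => pderiv (cols k) (f (rows j))) =
      Matrix.diagonal fun _ => d := by
    ext j k
    rw [Matrix.of_apply, h, Matrix.diagonal_apply]
  rw [this, Matrix.det_diagonal, Finset.prod_const, Finset.card_univ]

theorem lead_mono {κ' τ' : Type} (e : τ' → τ) (f : τ → MvPolynomial σ R) (rows' : κ' → τ')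
    (rows : κ → τ) (h : ∀ k', ∃ k, rows k = e (rows' k')) :
    lead (f ∘ e) rows' ≤ lead f rows := by
  unfold lead
  refine sup_le_sup (Ideal.span_mono ?_) (Ideal.pow_right_mono (Ideal.span_mono ?_) 2)
  · rintro _ ⟨k', rfl⟩
    obtain ⟨k, hk⟩ := h k'
    exact ⟨k, by simp [hk]⟩
  · rintro _ ⟨j, rfl⟩
    exact ⟨e j, rfl⟩

theorem mem_lead_of_row (f : τ → MvPolynomial σ R) (rows : κ → τ) (k : κ) :
    f (rows k) ∈ lead f rows :=
  Ideal.mem_sup_left (Ideal.subset_span ⟨k, rfl⟩)

end transport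

section criteria

variable {R A : Type u} [CommRing R] [CommRing A] [Algebra R A]
  {σ τ : Type} [Fintype σ] [Fintype τ] [DecidableEq σ] [DecidableEq τ]

theorem ker_transport {n : ℕ} (e : σ ≃ Fin n) (f : τ → MvPolynomial σ R)
    (φ : MvPolynomial σ R →ₐ[R] A)
    (hker : RingHom.ker φ.toRingHom = Ideal.span (Set.range f)) :
    RingHom.ker (φ.comp (rename e.symm : MvPolynomial (Fin n) R →ₐ[R] MvPolynomial σ R)).toRingHom =
      Ideal.span (Set.range fun j => rename e (f j)) := by
  have hrr : ∀ p : MvPolynomial σ R, rename e.symm (rename e p) = p := by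
    intro p
    rw [rename_rename, e.symm_comp_self, rename_id_apply]
  have hrr' : ∀ p : MvPolynomial (Fin n) R, rename e (rename e.symm p) = p := by
    intro p
    rw [rename_rename, e.self_comp_symm, rename_id_apply]
  have hmem : ∀ p : MvPolynomial σ R, p ∈ Ideal.span (Set.range f) ↔ φ p = 0 := by
    intro p
    rw [← hker, RingHom.mem_ker]
    rfl
  have hmap : (Ideal.span (Set.range f)).map (rename e : MvPolynomial σ R →ₐ[R] _) =
      Ideal.span (Set.range fun j => rename e (f j)) := by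
    rw [Ideal.map_span, ← Set.range_comp]
    rfl
  rw [← hmap]
  ext p
  rw [RingHom.mem_ker]
  constructor
  · intro hp
    have h1 : rename e.symm p ∈ Ideal.span (Set.range f) := (hmem _).mpr hp
    have h2 := Ideal.mem_map_of_mem (rename e : MvPolynomial σ R →ₐ[R] _) h1
    rwa [hrr'] at h2
  · intro hp
    have h1 : ∀ x ∈ (Ideal.span (Set.range f)).map (rename e : MvPolynomial σ R →ₐ[R] _),
        φ (rename e.symm x) = 0 := by
      intro x hx
      refine Submodule.span_induction (p := fun x _ => φ (rename e.symm x) = 0) ?_ ?_ ?_ ?_ hx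
      · rintro _ ⟨y, hy, rfl⟩
        show φ (rename e.symm (rename e y)) = 0
        rw [hrr]
        exact (hmem y).mp hy
      · simp
      · intro x y _ _ hx hy
        rw [map_add, map_add, hx, hy, add_zero]
      · intro r x _ hx
        rw [smul_eq_mul, map_mul, map_mul, hx, mul_zero]
    exact h1 p hp

variable {κ : Type} [Fintype κ] [DecidableEq κ]

/-- Jacobian criterion for smoothness at a prime (finite index types). -/
theorem isSmoothAt_of_minor_notMem' (f : τ → MvPolynomial σ R) (φ : MvPolynomial σ R →ₐ[R] A)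
    (hφ : Function.Surjective φ)
    (hker : RingHom.ker φ.toRingHom = Ideal.span (Set.range f))
    (rows : κ → τ) (cols : κ → σ) (q : Ideal A) [q.IsPrime]
    (hminor : φ (minor f rows cols) ∉ q)
    (s : MvPolynomial σ R) (hs : φ s ∉ q) (hkill : ∀ ℓ, s * f ℓ ∈ lead f rows) :
    Algebra.IsSmoothAt R q := by
  classical
  set eσ : σ ≃ Fin (Fintype.card σ) := Fintype.equivFin σ
  set eτ : τ ≃ Fin (Fintype.card τ) := Fintype.equivFin τ
  set eκ : κ ≃ Fin (Fintype.card κ) := Fintype.equivFin κ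
  have hrr : ∀ p : MvPolynomial σ R, rename eσ.symm (rename eσ p) = p := by
    intro p
    rw [rename_rename, eσ.symm_comp_self, rename_id_apply]
  set F : τ → MvPolynomial (Fin (Fintype.card σ)) R := fun j => rename eσ (f j) with hF
  have hkerF := ker_transport eσ f φ hker
  have hminorF : minor (F ∘ eτ.symm) (eτ.symm.symm ∘ rows ∘ eκ.symm) ((eσ ∘ cols) ∘ eκ.symm) =
      rename eσ (minor f rows cols) := by
    rw [minor_reindex eκ.symm eτ.symm F rows (eσ ∘ cols), hF, minor_rename eσ eσ.injective]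
  have hleadF : lead (F ∘ eτ.symm) (eτ.symm.symm ∘ rows ∘ eκ.symm) =
      (lead f rows).map (rename eσ : MvPolynomial σ R →ₐ[R] _) := by
    rw [lead_reindex eκ.symm eτ.symm F rows, hF]
    exact (map_lead (rename eσ : MvPolynomial σ R →ₐ[R] _) f rows).symm
  refine Groth.Agent.Lib.Seat10.StdSm.isSmoothAt_of_minor_notMem (F ∘ eτ.symm)
    (φ.comp (rename eσ.symm : MvPolynomial (Fin (Fintype.card σ)) R →ₐ[R] MvPolynomial σ R))
    ?_ ?_ (eτ.symm.symm ∘ rows ∘ eκ.symm) ((eσ ∘ cols) ∘ eκ.symm) q ?_ (rename eσ s) ?_ ?_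
  · intro y
    obtain ⟨p, rfl⟩ := hφ y
    exact ⟨rename eσ p, by rw [AlgHom.comp_apply, hrr]⟩
  · rw [hkerF, eτ.symm.surjective.range_comp]
  · have : Smoothing.jacobianMinor (F ∘ eτ.symm) (eτ.symm.symm ∘ rows ∘ eκ.symm)
        ((eσ ∘ cols) ∘ eκ.symm) = rename eσ (minor f rows cols) := hminorF
    rw [this, AlgHom.comp_apply, hrr]
    exact hminor
  · rw [AlgHom.comp_apply, hrr]
    exact hs
  · intro ℓ
    have h1 : rename eσ s * (F ∘ eτ.symm) ℓ ∈ lead (F ∘ eτ.symm) (eτ.symm.symm ∘ rows ∘ eκ.symm) := by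
      rw [hleadF]
      have := Ideal.mem_map_of_mem (rename eσ : MvPolynomial σ R →ₐ[R] _) (hkill (eτ.symm ℓ))
      rwa [map_mul] at this
    exact h1

/-- Existence of a standard element at a smooth prime (finite index types). -/
theorem exists_standard_element' (f : τ → MvPolynomial σ R) (φ : MvPolynomial σ R →ₐ[R] A)
    (hφ : Function.Surjective φ)
    (hker : RingHom.ker φ.toRingHom = Ideal.span (Set.range f)) (q : Ideal A) [q.IsPrime]
    [hq : Algebra.IsSmoothAt R q] :
    ∃ a : A, a ∉ q ∧ ∃ (c : ℕ) (rows : Fin c → τ) (cols : Fin c → σ) (a' : A),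
      a = a' * φ (minor f rows cols) ∧
      ∀ a₁ : MvPolynomial σ R, φ a₁ = a → ∀ ℓ, a₁ * f ℓ ∈ lead f rows := by
  classical
  set eσ : σ ≃ Fin (Fintype.card σ) := Fintype.equivFin σ
  set eτ : τ ≃ Fin (Fintype.card τ) := Fintype.equivFin τ
  have hrr : ∀ p : MvPolynomial σ R, rename eσ.symm (rename eσ p) = p := by
    intro p
    rw [rename_rename, eσ.symm_comp_self, rename_id_apply]
  set F : τ → MvPolynomial (Fin (Fintype.card σ)) R := fun j => rename eσ (f j) with hF
  have hkerF := ker_transport eσ f φ hker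
  set φ' : MvPolynomial (Fin (Fintype.card σ)) R →ₐ[R] A :=
    φ.comp (rename eσ.symm : MvPolynomial (Fin (Fintype.card σ)) R →ₐ[R] MvPolynomial σ R)
  have hφ' : Function.Surjective φ' := by
    intro y
    obtain ⟨p, rfl⟩ := hφ y
    exact ⟨rename eσ p, by rw [AlgHom.comp_apply, hrr]⟩
  have hker' : RingHom.ker φ'.toRingHom = Ideal.span (Set.range (F ∘ eτ.symm)) := by
    rw [hkerF, eτ.symm.surjective.range_comp]
  obtain ⟨a, haq, c, rows', cols', a', haa', hkill'⟩ :=
    Groth.Agent.Lib.Seat10.StdElem.exists_standard_element (F ∘ eτ.symm) φ' hφ' hker' q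
  have key : ∀ (rows : Fin c → τ) (cols : Fin c → σ),
      minor (F ∘ eτ.symm) (eτ ∘ rows) (eσ ∘ cols) = rename eσ (minor f rows cols) := by
    intro rows cols
    have h := minor_reindex (Equiv.refl (Fin c)) eτ.symm F rows (eσ ∘ cols)
    simp only [Equiv.symm_symm, Equiv.coe_refl, Function.comp_id] at h
    rw [h, hF, minor_rename eσ eσ.injective]
  have keyL : ∀ (rows : Fin c → τ),
      lead (F ∘ eτ.symm) (eτ ∘ rows) =
        (lead f rows).map (rename eσ : MvPolynomial σ R →ₐ[R] _) := by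
    intro rows
    have h := lead_reindex (Equiv.refl (Fin c)) eτ.symm F rows
    simp only [Equiv.symm_symm, Equiv.coe_refl, Function.comp_id] at h
    rw [h, hF]
    exact (map_lead (rename eσ : MvPolynomial σ R →ₐ[R] _) f _).symm
  have e1 : (rows' : Fin c → Fin (Fintype.card τ)) = eτ ∘ (eτ.symm ∘ rows') := by
    funext x
    simp
  have e2 : (cols' : Fin c → Fin (Fintype.card σ)) = eσ ∘ (eσ.symm ∘ cols') := by
    funext x
    simp
  have hminorF : Smoothing.jacobianMinor (F ∘ eτ.symm) rows' cols' =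
      rename eσ (minor f (eτ.symm ∘ rows') (eσ.symm ∘ cols')) := by
    calc Smoothing.jacobianMinor (F ∘ eτ.symm) rows' cols'
        = minor (F ∘ eτ.symm) (eτ ∘ (eτ.symm ∘ rows')) (eσ ∘ (eσ.symm ∘ cols')) := by
          rw [← e1, ← e2]
          rfl
      _ = _ := key _ _
  have hleadF : lead (F ∘ eτ.symm) rows' =
      (lead f (eτ.symm ∘ rows')).map (rename eσ : MvPolynomial σ R →ₐ[R] _) := by
    calc lead (F ∘ eτ.symm) rows' = lead (F ∘ eτ.symm) (eτ ∘ (eτ.symm ∘ rows')) := by rw [← e1]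
      _ = _ := keyL _
  refine ⟨a, haq, c, eτ.symm ∘ rows', eσ.symm ∘ cols', a', ?_, ?_⟩
  · rw [haa', hminorF]
    show a' * φ (rename eσ.symm (rename eσ _)) = _
    rw [hrr]
  · intro a₁ ha₁ ℓ
    have h1 : φ' (rename eσ a₁) = a := by
      show φ (rename eσ.symm (rename eσ a₁)) = a
      rw [hrr, ha₁]
    have h2 : rename eσ a₁ * (F ∘ eτ.symm) (eτ ℓ) ∈
        Ideal.span (Set.range ((F ∘ eτ.symm) ∘ rows')) ⊔
          Ideal.span (Set.range (F ∘ eτ.symm)) ^ 2 := hkill' _ h1 (eτ ℓ)
    have h3 : rename eσ (a₁ * f ℓ) ∈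
        (lead f (eτ.symm ∘ rows')).map (rename eσ : MvPolynomial σ R →ₐ[R] _) := by
      rw [← hleadF, map_mul]
      have : (F ∘ eτ.symm) (eτ ℓ) = rename eσ (f ℓ) := by simp [hF]
      rw [← this]
      exact h2
    have h4 : ∀ x ∈ (lead f (eτ.symm ∘ rows')).map (rename eσ : MvPolynomial σ R →ₐ[R] _),
        rename eσ.symm x ∈ lead f (eτ.symm ∘ rows') := by
      intro x hx
      refine Submodule.span_induction
        (p := fun x _ => rename eσ.symm x ∈ lead f (eτ.symm ∘ rows')) ?_ ?_ ?_ ?_ hx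
      · rintro _ ⟨y, hy, rfl⟩
        show rename eσ.symm (rename eσ y) ∈ _
        rw [hrr]
        exact hy
      · simp
      · intro x y _ _ hx hy
        rw [map_add]
        exact add_mem hx hy
      · intro r x _ hx
        rw [smul_eq_mul, map_mul]
        exact Ideal.mul_mem_left _ _ hx
    have h5 := h4 _ h3
    rwa [hrr] at h5

end criteria

end Groth.Agent.Lib.Seat14.DimZero
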