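import Mathlib
import Groth.Prelude.Def_Smoothing
import Groth.Agent.Lib.Seat14DimZeroA
import Groth.Agent.Lib.Seat14DesingA

/-!
# Desingularization lemma (Stacks 16.7.2), part B: the algebra `B` (seat 14)

Notation of the Stacks proof: `x_i = r_i + π² (∑ s_ik v_k + π w_i)`; `f_j(sub) = π² G_j`, `G_j = π g_j` for the
leading relations. `relB` lists the relations `f_j(x)`, `h_i = x_i - sub_i`, `g_k` of `B`.
-/

set_option autoImplicit false
set_option linter.style.haveILetI false
set_option linter.unusedSectionVars false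
universe u

namespace Groth.Agent.Lib.Seat14.Desing

open MvPolynomial
open Groth.Agent.Lib.Seat14.DimZero

section Constr

variable {R : Type u} [CommRing R] {n m c : ℕ} (hcm : c ≤ m)
  (f : Fin m → MvPolynomial (Fin n) R) (π : R) (r : Fin n → R)
  (s : Matrix (Fin n) (Fin c) R) (u : R) (t : Fin m → R)
  (q' : Fin m → MvPolynomial (Fin c ⊕ Fin n) R)

/-- `y_i = ∑_k s_ik v_k + π w_i`. -/
noncomputable def yy (i : Fin n) : MvPolynomial (Fin c ⊕ Fin n) R :=
  ∑ k, C (s i k) * X (Sum.inl k) + C π * X (Sum.inr i)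

/-- The substitution `x_i = r_i + π² y_i`. -/
noncomputable def sub (i : Fin n) : MvPolynomial (Fin c ⊕ Fin n) R :=
  C (r i) + C (π ^ 2) * yy π s i

/-- `r_{ji} = (∂_i f_j)(r)`. -/
noncomputable def rr (j : Fin m) (i : Fin n) : R := eval r (pderiv i (f j))

/-- `G_j` with `f_j(sub) = π² G_j`. -/
noncomputable def GG (j : Fin m) : MvPolynomial (Fin c ⊕ Fin n) R :=
  C (π ^ 2) * C (t j) + ∑ i, C (rr f r j i) * yy π s i + C (π ^ 2) * q' j

/-- `g_k` with `G_k = π g_k` for the leading relations. -/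
noncomputable def gg (k : Fin c) : MvPolynomial (Fin c ⊕ Fin n) R :=
  C u * X (Sum.inl k) + ∑ i, C (rr f r (Fin.castLE hcm k) i) * X (Sum.inr i) +
    C π * (C (t (Fin.castLE hcm k)) + q' (Fin.castLE hcm k))

theorem GG_castLE
    (hM : ∀ j k : Fin c, ∑ i, rr f r (Fin.castLE hcm j) i * s i k = if j = k then u * π else 0)
    (k : Fin c) : GG f π r s t q' (Fin.castLE hcm k) = C π * gg hcm f π r u t q' k := by
  classical
  unfold GG gg
  have h1 : ∑ i, C (rr f r (Fin.castLE hcm k) i) * yy π s i =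
      C (u * π) * X (Sum.inl k) + C π * ∑ i, C (rr f r (Fin.castLE hcm k) i) * X (Sum.inr i) := by
    unfold yy
    simp only [mul_add, Finset.sum_add_distrib, Finset.mul_sum]
    congr 1
    · rw [Finset.sum_comm]
      have : ∀ k' : Fin c, ∑ i, C (rr f r (Fin.castLE hcm k) i) * (C (s i k') * X (Sum.inl k')) =
          C (∑ i, rr f r (Fin.castLE hcm k) i * s i k') *
            (X (Sum.inl k') : MvPolynomial (Fin c ⊕ Fin n) R) := by
        intro k'
        rw [map_sum, Finset.sum_mul]
        refine Finset.sum_congr rfl fun i _ => ?_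
        rw [map_mul]
        ring
      rw [Finset.sum_congr rfl fun k' _ => this k']
      simp only [hM]
      rw [Finset.sum_eq_single k]
      · rw [if_pos rfl]
      · intro k' _ hk'
        rw [if_neg (Ne.symm hk'), map_zero, zero_mul]
      · intro h
        exact absurd (Finset.mem_univ k) h
    · refine Finset.sum_congr rfl fun i _ => ?_
      ring
  rw [h1]
  simp only [map_mul, map_pow]
  ring

/-- The relations of `B`: `f_j(x)`, `h_i = x_i - sub_i(v,w)`, `g_k(v,w)`. -/
noncomputable def relB : Fin m ⊕ (Fin n ⊕ Fin c) → MvPolynomial (Fin n ⊕ (Fin c ⊕ Fin n)) R :=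
  Sum.elim (fun j => rename Sum.inl (f j))
    (Sum.elim (fun i => X (Sum.inl i) - rename Sum.inr (sub π r s i))
      (fun k => rename Sum.inr (gg hcm f π r u t q' k)))

theorem rename_sub_mem (p : MvPolynomial (Fin n) R) :
    (rename Sum.inl p : MvPolynomial (Fin n ⊕ (Fin c ⊕ Fin n)) R) -
      rename Sum.inr (aeval (sub π r s) p) ∈
      Ideal.span (Set.range fun i : Fin n =>
        (X (Sum.inl i) - rename Sum.inr (sub π r s i) :
          MvPolynomial (Fin n ⊕ (Fin c ⊕ Fin n)) R)) := by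
  have h1 : (rename Sum.inl p : MvPolynomial (Fin n ⊕ (Fin c ⊕ Fin n)) R) =
      aeval (fun i => (X (Sum.inl i) : MvPolynomial (Fin n ⊕ (Fin c ⊕ Fin n)) R)) p := by
    have h0 : (rename Sum.inl : MvPolynomial (Fin n) R →ₐ[R] _) =
        aeval (fun i => (X (Sum.inl i) : MvPolynomial (Fin n ⊕ (Fin c ⊕ Fin n)) R)) := by
      apply MvPolynomial.algHom_ext
      intro i
      simp
    exact AlgHom.congr_fun h0 p
  have h2 : (rename Sum.inr (aeval (sub π r s) p) : MvPolynomial (Fin n ⊕ (Fin c ⊕ Fin n)) R) =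
      aeval (fun i => (rename Sum.inr (sub π r s i) :
        MvPolynomial (Fin n ⊕ (Fin c ⊕ Fin n)) R)) p := by
    have := MvPolynomial.comp_aeval (R := R) (sub π r s)
      (rename Sum.inr : MvPolynomial (Fin c ⊕ Fin n) R →ₐ[R] MvPolynomial (Fin n ⊕ (Fin c ⊕ Fin n)) R)
    exact AlgHom.congr_fun this p
  rw [h1, h2]
  refine aeval_sub_aeval_mem _ _ _ (fun i => ?_) p
  exact Ideal.subset_span ⟨i, rfl⟩

end Constr

end Groth.Agent.Lib.Seat14.Desing
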