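import Mathlib
import Groth.Prelude.Def_Smoothing
import Groth.Agent.Lib.Seat14DimZeroA
import Groth.Agent.Lib.Seat14DesingA
import Groth.Agent.Lib.Seat14DesingB

/-!
# Desingularization lemma (Stacks 16.7.2), part C: the determinant trick (seat 14)

`exists_det_mul_mem`: with `Z_j = π G_j`, the tail condition gives `r₀² Z ≡ M Z` modulo `(g_k)` with
`M` having entries in `(π)`, hence `det(r₀² - M) π² G_j ∈ (g_k)`.
-/

set_option autoImplicit false
set_option linter.style.haveILetI false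
set_option linter.unusedSectionVars false
universe u

namespace Groth.Agent.Lib.Seat14.Desing

open MvPolynomial
open Groth.Agent.Lib.Seat14.DimZero

section ZArg

variable {R : Type u} [CommRing R] {n m c : ℕ} (hcm : c ≤ m)
  (f : Fin m → MvPolynomial (Fin n) R) (π : R) (r : Fin n → R)
  (s : Matrix (Fin n) (Fin c) R) (u : R) (t : Fin m → R)
  (q' : Fin m → MvPolynomial (Fin c ⊕ Fin n) R)

/-- Annihilators: `π³ ν = 0` coefficientwise gives `π r₀² ν = 0`. -/
theorem C_mul_eq_zero_of {σ : Type*} (r₀ : R) (hr₀ : ∀ x : R, π ^ 3 * x = 0 → π * (r₀ ^ 2 * x) = 0)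
    (ν : MvPolynomial σ R) (hν : C (π ^ 3) * ν = 0) : C π * (C (r₀ ^ 2) * ν) = 0 := by
  ext d
  rw [coeff_C_mul, coeff_C_mul, coeff_zero]
  apply hr₀
  have := congrArg (coeff d) hν
  rwa [coeff_C_mul, coeff_zero] at this

open Matrix in
/-- The determinant trick of the Stacks proof: the tail relations `π² G_j` are killed, modulo the
`g_k`, by a determinant which is `r₀^(2m)` modulo `π`. -/
theorem exists_det_mul_mem
    (hT : ∀ j, aeval (sub π r s) (f j) = C (π ^ 2) * GG f π r s t q' j)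
    (hG : ∀ k : Fin c, GG f π r s t q' (Fin.castLE hcm k) = C π * gg hcm f π r u t q' k)
    (hkill : ∀ j : Fin m, c ≤ (j : ℕ) → C π * f j ∈
      Ideal.span (f '' {j' : Fin m | (j' : ℕ) < c}) ⊔ Ideal.span (Set.range f) ^ 2)
    (r₀ : R) (hr₀ : ∀ x : R, π ^ 3 * x = 0 → π * (r₀ ^ 2 * x) = 0) :
    ∃ Mz : Matrix (Fin m) (Fin m) (MvPolynomial (Fin c ⊕ Fin n) R),
      (∀ a b, Mz a b ∈ Ideal.span {(C π : MvPolynomial (Fin c ⊕ Fin n) R)}) ∧
      ∀ j : Fin m, ((C (r₀ ^ 2) : MvPolynomial (Fin c ⊕ Fin n) R) • (1 : Matrix (Fin m) (Fin m) (MvPolynomial (Fin c ⊕ Fin n) R)) - Mz).det *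
          (C (π ^ 2) * GG f π r s t q' j) ∈ Ideal.span (Set.range (gg hcm f π r u t q')) := by
  classical
  set 𝔤 : Ideal (MvPolynomial (Fin c ⊕ Fin n) R) := Ideal.span (Set.range (gg hcm f π r u t q'))
    with h𝔤
  set G := GG f π r s t q' with hGdef
  set 𝔊 : Ideal (MvPolynomial (Fin c ⊕ Fin n) R) := Ideal.span (Set.range G) with h𝔊
  set Z : Fin m → MvPolynomial (Fin c ⊕ Fin n) R := fun j => C π * G j with hZ
  set 𝒵 : Ideal (MvPolynomial (Fin c ⊕ Fin n) R) := Ideal.span (Set.range Z) with h𝒵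
  have hgmem : ∀ k, gg hcm f π r u t q' k ∈ 𝔤 := fun k => Ideal.subset_span ⟨k, rfl⟩
  -- `π 𝔊 ⊆ 𝒵`
  have hπ𝔊 : ∀ x ∈ 𝔊, C π * x ∈ 𝒵 := by
    intro x hx
    induction hx using Submodule.span_induction with
    | mem x hx =>
      obtain ⟨j, rfl⟩ := hx
      exact Ideal.subset_span ⟨j, rfl⟩
    | zero => rw [mul_zero]; exact 𝒵.zero_mem
    | add x y _ _ hx hy => rw [mul_add]; exact 𝒵.add_mem hx hy
    | smul a x _ hx =>
      rw [smul_eq_mul, mul_left_comm]
      exact 𝒵.mul_mem_left _ hx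
  have hπ𝔊2 : ∀ x ∈ 𝔊 ^ 2, C (π ^ 2) * x ∈ 𝒵 ^ 2 := by
    intro x hx
    rw [pow_two] at hx ⊢
    refine Submodule.mul_induction_on hx ?_ ?_
    · intro a ha b hb
      have : C (π ^ 2) * (a * b) = (C π * a) * (C π * b) := by
        rw [map_pow]; ring
      rw [this]
      exact Ideal.mul_mem_mul (hπ𝔊 a ha) (hπ𝔊 b hb)
    · intro a b ha hb
      rw [mul_add]
      exact Ideal.add_mem _ ha hb
  have h𝒵π : 𝒵 ≤ Ideal.span {(C π : MvPolynomial (Fin c ⊕ Fin n) R)} := by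
    rw [h𝒵, Ideal.span_le]
    rintro _ ⟨j, rfl⟩
    exact Ideal.mem_span_singleton.mpr ⟨G j, rfl⟩
  -- Step 1-4
  have hmain : ∀ j : Fin m, C (r₀ ^ 2) * Z j ∈ 𝔤 ⊔ 𝒵 ^ 2 := by
    intro j
    by_cases hj : (j : ℕ) < c
    · obtain ⟨k, rfl⟩ : ∃ k : Fin c, j = Fin.castLE hcm k := ⟨⟨j, hj⟩, Fin.ext rfl⟩
      refine Ideal.mem_sup_left ?_
      have : Z (Fin.castLE hcm k) = C π * C π * gg hcm f π r u t q' k := by
        show C π * G (Fin.castLE hcm k) = _
        rw [hG k]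
        ring
      rw [this]
      exact 𝔤.mul_mem_left _ (𝔤.mul_mem_left _ (hgmem _))
    · have hj' : c ≤ (j : ℕ) := not_lt.mp hj
      have h1 := Ideal.mem_map_of_mem (aeval (sub π r s) :
        MvPolynomial (Fin n) R →ₐ[R] MvPolynomial (Fin c ⊕ Fin n) R) (hkill j hj')
      rw [Ideal.map_sup, Ideal.map_pow, Ideal.map_span, Ideal.map_span] at h1
      have hle1 : Ideal.span ((aeval (sub π r s) :
          MvPolynomial (Fin n) R →ₐ[R] MvPolynomial (Fin c ⊕ Fin n) R) ''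
            (f '' {j' : Fin m | (j' : ℕ) < c})) ≤ Ideal.span {C (π ^ 3)} * 𝔤 := by
        rw [Ideal.span_le]
        rintro _ ⟨_, ⟨j', hj'c, rfl⟩, rfl⟩
        obtain ⟨k, rfl⟩ : ∃ k : Fin c, j' = Fin.castLE hcm k := ⟨⟨j', hj'c⟩, Fin.ext rfl⟩
        have : aeval (sub π r s) (f (Fin.castLE hcm k)) = C (π ^ 3) * gg hcm f π r u t q' k := by
          rw [hT, hG k, ← mul_assoc, ← map_mul]
          congr 2
          ring
        show (aeval (sub π r s)) (f (Fin.castLE hcm k)) ∈ _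
        rw [this]
        exact Ideal.mul_mem_mul (Ideal.mem_span_singleton_self _) (hgmem _)
      have hle2 : Ideal.span ((aeval (sub π r s) :
          MvPolynomial (Fin n) R →ₐ[R] MvPolynomial (Fin c ⊕ Fin n) R) '' Set.range f) ≤
            Ideal.span {C (π ^ 2)} * 𝔊 := by
        rw [Ideal.span_le]
        rintro _ ⟨_, ⟨j', rfl⟩, rfl⟩
        show (aeval (sub π r s)) (f j') ∈ _
        rw [hT]
        exact Ideal.mul_mem_mul (Ideal.mem_span_singleton_self _) (Ideal.subset_span ⟨j', rfl⟩)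
      have h2 : C (π ^ 3) * G j ∈ Ideal.span {C (π ^ 3)} * 𝔤 ⊔ Ideal.span {C (π ^ 4)} * 𝔊 ^ 2 := by
        have h3 := (sup_le_sup hle1 (Ideal.pow_right_mono hle2 2)) h1
        have h4 : (Ideal.span {(C (π ^ 2) : MvPolynomial (Fin c ⊕ Fin n) R)} * 𝔊) ^ 2 =
            Ideal.span {C (π ^ 4)} * 𝔊 ^ 2 := by
          rw [mul_pow, Ideal.span_singleton_pow, ← map_pow, ← pow_mul]
        rw [h4] at h3
        have h5 : (aeval (sub π r s)) (C π * f j) = C (π ^ 3) * G j := by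
          rw [map_mul, hT, aeval_C, ← mul_assoc]
          congr 1
          rw [algebraMap_eq, ← map_mul]
          congr 1
          ring
        rw [← h5]
        exact h3
      obtain ⟨x₁, hx₁, x₂, hx₂, hx⟩ := Submodule.mem_sup.mp h2
      obtain ⟨e₁, he₁, rfl⟩ := Ideal.mem_span_singleton_mul.mp hx₁
      obtain ⟨e₂, he₂, rfl⟩ := Ideal.mem_span_singleton_mul.mp hx₂
      set ν := G j - e₁ - C π * e₂ with hν
      have hν0 : C (π ^ 3) * ν = 0 := by
        rw [hν, mul_sub, mul_sub, ← hx]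
        have : C (π ^ 3) * (C π * e₂) = C (π ^ 4) * e₂ := by
          rw [← mul_assoc, ← map_mul]
          congr 2
          ring
        rw [this]
        ring
      have hν1 := C_mul_eq_zero_of π r₀ hr₀ ν hν0
      have hZj : C (r₀ ^ 2) * Z j = C (r₀ ^ 2) * C π * e₁ + C (r₀ ^ 2) * (C (π ^ 2) * e₂) := by
        have : G j = e₁ + C π * e₂ + ν := by rw [hν]; ring
        show C (r₀ ^ 2) * (C π * G j) = _
        rw [this]
        have h6 : C (r₀ ^ 2) * (C π * (e₁ + C π * e₂ + ν)) =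
            C (r₀ ^ 2) * C π * e₁ + C (r₀ ^ 2) * (C π * C π * e₂) + C π * (C (r₀ ^ 2) * ν) := by
          ring
        rw [h6, hν1, add_zero]
        congr 3
        rw [map_pow, pow_two]
      rw [hZj]
      exact Submodule.add_mem_sup (𝔤.mul_mem_left _ he₁) (Ideal.mul_mem_left _ _ (hπ𝔊2 e₂ he₂))
  -- Step 5: express through a matrix with entries in `𝒵`
  have hexp : ∀ j : Fin m, ∃ (e : MvPolynomial (Fin c ⊕ Fin n) R)
      (Mrow : Fin m → MvPolynomial (Fin c ⊕ Fin n) R), e ∈ 𝔤 ∧ (∀ a, Mrow a ∈ 𝒵) ∧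
        C (r₀ ^ 2) * Z j = e + ∑ a, Mrow a * Z a := by
    intro j
    obtain ⟨e, he, z, hz, hsum⟩ := Submodule.mem_sup.mp (hmain j)
    rw [pow_two] at hz
    have hz' : z ∈ 𝒵 • Submodule.span (MvPolynomial (Fin c ⊕ Fin n) R) (Set.range Z) := hz
    obtain ⟨a, ha, hsum'⟩ := (Submodule.mem_ideal_smul_span_iff_exists_sum 𝒵 Z z).mp hz'
    refine ⟨e, fun i => a i, he, ha, ?_⟩
    rw [← hsum, ← hsum', Finsupp.sum_fintype _ _ (fun i => by rw [zero_smul])]
    rfl
  choose e Mz he hMz hsum using hexp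
  refine ⟨Matrix.of Mz, fun a b => h𝒵π (hMz a b), fun j => ?_⟩
  set T : Matrix (Fin m) (Fin m) (MvPolynomial (Fin c ⊕ Fin n) R) :=
    (C (r₀ ^ 2) : MvPolynomial (Fin c ⊕ Fin n) R) • (1 : Matrix (Fin m) (Fin m) _) - Matrix.of Mz
    with hTdef
  have hTZ : T *ᵥ Z = e := by
    funext j
    rw [hTdef, Matrix.sub_mulVec, Matrix.smul_mulVec, Matrix.one_mulVec]
    simp only [Pi.sub_apply, Pi.smul_apply, smul_eq_mul, Matrix.mulVec, dotProduct, Matrix.of_apply]
    rw [hsum j]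
    ring
  have hdet : T.det • Z = T.adjugate *ᵥ e := by
    rw [← hTZ, Matrix.mulVec_mulVec, Matrix.adjugate_mul, Matrix.smul_mulVec, Matrix.one_mulVec]
  have hdetj : T.det * Z j ∈ 𝔤 := by
    have := congrFun hdet j
    rw [Pi.smul_apply, smul_eq_mul] at this
    rw [this]
    simp only [Matrix.mulVec, dotProduct]
    exact Ideal.sum_mem _ fun a _ => 𝔤.mul_mem_left _ (he a)
  have : T.det * (C (π ^ 2) * G j) = C π * (T.det * Z j) := by
    show _ = C π * (T.det * (C π * G j))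
    rw [map_pow]
    ring
  rw [this]
  exact 𝔤.mul_mem_left _ hdetj

end ZArg

end Groth.Agent.Lib.Seat14.Desing
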