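import Mathlib
import Groth.Prelude.Def_Smoothing
import Groth.Agent.Lib.Seat14DimZeroA
import Groth.Agent.Lib.Seat14DesingA
import Groth.Agent.Lib.Seat14DesingB
import Groth.Agent.Lib.Seat14DesingC

/-!
# Desingularization lemma (Stacks 16.7.2), part D: smoothness of `B` (seat 14)

`isSmoothAt_of_notMem`: `B` is smooth at primes not containing `π` at which a leading Jacobian minor of
`A` is a unit. `isSmoothAt_of_mem`: `B` is smooth at primes containing `π` but not `r₀`.
-/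

set_option autoImplicit false
set_option linter.style.haveILetI false
set_option linter.unusedSectionVars false
universe u

namespace Groth.Agent.Lib.Seat14.Desing

open MvPolynomial
open Groth.Agent.Lib.Seat14.DimZero

section Deriv

variable {R : Type u} [CommRing R] {n m c : ℕ} (hcm : c ≤ m)
  (f : Fin m → MvPolynomial (Fin n) R) (π : R) (r : Fin n → R)
  (s : Matrix (Fin n) (Fin c) R) (u : R) (t : Fin m → R)
  (q' : Fin m → MvPolynomial (Fin c ⊕ Fin n) R)

theorem pderiv_inr_yy (j k : Fin n) :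
    pderiv (Sum.inr k) (yy π s j) = if j = k then (C π : MvPolynomial (Fin c ⊕ Fin n) R) else 0 := by
  classical
  unfold yy
  rw [map_add, map_sum]
  have h1 : ∀ k' : Fin c, pderiv (Sum.inr k)
      (C (s j k') * X (Sum.inl k') : MvPolynomial (Fin c ⊕ Fin n) R) = 0 := by
    intro k'
    rw [Derivation.leibniz, pderiv_C, pderiv_X, Pi.single_eq_of_ne (by simp)]
    simp
  rw [Finset.sum_congr rfl fun k' _ => h1 k', Finset.sum_const_zero, zero_add,
    Derivation.leibniz, pderiv_C, pderiv_X]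
  by_cases hjk : j = k
  · subst hjk
    simp
  · rw [if_neg hjk, Pi.single_eq_of_ne (by
      intro h
      exact hjk (Sum.inr_injective h))]
    simp

theorem pderiv_inr_sub (j k : Fin n) :
    pderiv (Sum.inr k) (sub π r s j) =
      if j = k then (C (π ^ 3) : MvPolynomial (Fin c ⊕ Fin n) R) else 0 := by
  unfold sub
  rw [map_add, pderiv_C, zero_add, Derivation.leibniz, pderiv_C, pderiv_inr_yy]
  by_cases hjk : j = k
  · rw [if_pos hjk, if_pos hjk, smul_zero, add_zero, smul_eq_mul, ← map_mul]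
    congr 1
    ring
  · rw [if_neg hjk, if_neg hjk]
    simp

theorem pderiv_inl_gg (k k' : Fin c) :
    pderiv (Sum.inl k') (gg hcm f π r u t q' k) =
      C u * (if k = k' then 1 else 0) +
        C π * pderiv (Sum.inl k') (C (t (Fin.castLE hcm k)) + q' (Fin.castLE hcm k)) := by
  classical
  unfold gg
  rw [map_add, map_add, map_sum]
  have h1 : ∀ i : Fin n, pderiv (Sum.inl k')
      (C (rr f r (Fin.castLE hcm k) i) * X (Sum.inr i) : MvPolynomial (Fin c ⊕ Fin n) R) = 0 := by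
    intro i
    rw [Derivation.leibniz, pderiv_C, pderiv_X, Pi.single_eq_of_ne (by simp)]
    simp
  rw [Finset.sum_congr rfl fun i _ => h1 i, Finset.sum_const_zero, add_zero]
  congr 1
  · rw [Derivation.leibniz, pderiv_C, pderiv_X, smul_zero, add_zero, smul_eq_mul]
    by_cases hkk : k = k'
    · subst hkk
      simp
    · rw [if_neg hkk, Pi.single_eq_of_ne (by
        intro h
        exact hkk (Sum.inl_injective h))]
  · rw [Derivation.leibniz, pderiv_C, smul_zero, add_zero, smul_eq_mul]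

end Deriv

section Smooth

variable {R : Type u} [CommRing R] {n m c : ℕ} (hcm : c ≤ m)
  (f : Fin m → MvPolynomial (Fin n) R) (π : R) (r : Fin n → R)
  (s : Matrix (Fin n) (Fin c) R) (u : R) (t : Fin m → R)
  (q' : Fin m → MvPolynomial (Fin c ⊕ Fin n) R)
  {B : Type u} [CommRing B] [Algebra R B]
  (πB : MvPolynomial (Fin n ⊕ (Fin c ⊕ Fin n)) R →ₐ[R] B) (hsurj : Function.Surjective πB)
  (hker : RingHom.ker πB.toRingHom = Ideal.span (Set.range (relB hcm f π r s u t q')))
  (hT : ∀ j, aeval (sub π r s) (f j) = C (π ^ 2) * GG f π r s t q' j)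
  (hG : ∀ k : Fin c, GG f π r s t q' (Fin.castLE hcm k) = C π * gg hcm f π r u t q' k)
  (hkill : ∀ j : Fin m, c ≤ (j : ℕ) → C π * f j ∈
    Ideal.span (f '' {j' : Fin m | (j' : ℕ) < c}) ⊔ Ideal.span (Set.range f) ^ 2)

theorem pderiv_inr_inr_hh (j k : Fin n) :
    pderiv (Sum.inr (Sum.inr k))
      (X (Sum.inl j) - rename Sum.inr (sub π r s j) : MvPolynomial (Fin n ⊕ (Fin c ⊕ Fin n)) R) =
      if j = k then -C (π ^ 3) else 0 := by
  classical
  rw [map_sub, pderiv_X, Pi.single_eq_of_ne (by simp), zero_sub,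
    pderiv_rename Sum.inr_injective, pderiv_inr_sub]
  by_cases hjk : j = k
  · rw [if_pos hjk, if_pos hjk, rename_C]
  · rw [if_neg hjk, if_neg hjk, map_zero, neg_zero]

theorem pderiv_inl_hh (j k : Fin n) :
    pderiv (Sum.inl k)
      (X (Sum.inl j) - rename Sum.inr (sub π r s j) : MvPolynomial (Fin n ⊕ (Fin c ⊕ Fin n)) R) =
      if j = k then 1 else 0 := by
  classical
  rw [map_sub, pderiv_X, pderiv_rename_of_notMem_range Sum.inr (Sum.inl k) (by simp), sub_zero]
  by_cases hjk : j = k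
  · subst hjk
    simp
  · rw [if_neg hjk, Pi.single_eq_of_ne (by
      intro h
      exact hjk (Sum.inl_injective h))]

include hT in
/-- `f_j(x) ≡ π² G_j(v,w)` modulo the `h_i`. -/
theorem rename_sub_GG_mem (j : Fin m) :
    (rename Sum.inl (f j) : MvPolynomial (Fin n ⊕ (Fin c ⊕ Fin n)) R) -
      rename Sum.inr (C (π ^ 2) * GG f π r s t q' j) ∈
      Ideal.span (Set.range fun i : Fin n =>
        (X (Sum.inl i) - rename Sum.inr (sub π r s i) :
          MvPolynomial (Fin n ⊕ (Fin c ⊕ Fin n)) R)) := by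
  rw [← hT]
  exact rename_sub_mem π r s (f j)

include hsurj hker hT hG hkill in
/-- Smoothness of `B` at the primes not containing `π`. -/
theorem isSmoothAt_of_notMem (cols₀ : Fin c → Fin n) (𝔮 : Ideal B) [𝔮.IsPrime]
    (hπ : algebraMap R B π ∉ 𝔮)
    (hminor : πB (rename Sum.inl (Smoothing.jacobianMinor f (Fin.castLE hcm) cols₀)) ∉ 𝔮) :
    Algebra.IsSmoothAt R 𝔮 := by
  classical
  set rel := relB hcm f π r s u t q' with hrel
  set r₁ : Fin c → Fin m ⊕ (Fin n ⊕ Fin c) := fun k => Sum.inl (Fin.castLE hcm k) with hr₁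
  set r₂ : Fin n → Fin m ⊕ (Fin n ⊕ Fin c) := fun i => Sum.inr (Sum.inl i) with hr₂
  set c₁ : Fin c → Fin n ⊕ (Fin c ⊕ Fin n) := fun k => Sum.inl (cols₀ k) with hc₁
  set c₂ : Fin n → Fin n ⊕ (Fin c ⊕ Fin n) := fun i => Sum.inr (Sum.inr i) with hc₂
  have hm12 : minor rel (Sum.elim r₁ r₂) (Sum.elim c₁ c₂) = minor rel r₁ c₁ * minor rel r₂ c₂ := by
    refine minor_sumElim₁₂ rel r₁ r₂ c₁ c₂ ?_
    intro i j
    exact pderiv_rename_of_notMem_range Sum.inl _ (by simp [hc₂]) _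
  have hm1 : minor rel r₁ c₁ =
      rename Sum.inl (Smoothing.jacobianMinor f (Fin.castLE hcm) cols₀) := by
    have := minor_rename (R := R) Sum.inl (Sum.inl_injective (β := Fin c ⊕ Fin n)) f
      (Fin.castLE hcm) cols₀
    exact this
  have hm2 : minor rel r₂ c₂ = (-C (π ^ 3)) ^ Fintype.card (Fin n) := by
    refine minor_diagonal rel r₂ c₂ _ ?_
    intro j k
    exact pderiv_inr_inr_hh π r s j k
  have hCπ : ∀ x : R, πB (C x) = algebraMap R B x := fun x => by
    rw [← algebraMap_eq, AlgHom.commutes]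
  refine isSmoothAt_of_minor_notMem' rel πB hsurj hker (Sum.elim r₁ r₂) (Sum.elim c₁ c₂) 𝔮 ?_
    (C (π ^ 3)) ?_ ?_
  · rw [hm12, hm1, hm2, map_mul, map_pow, map_neg, hCπ]
    intro hmem
    rcases Ideal.IsPrime.mem_or_mem inferInstance hmem with h | h
    · exact hminor h
    · have h2 := Ideal.IsPrime.mem_of_pow_mem inferInstance _ h
      rw [Ideal.neg_mem_iff, map_pow] at h2
      exact hπ (Ideal.IsPrime.mem_of_pow_mem inferInstance _ h2)
  · rw [hCπ, map_pow]
    intro h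
    exact hπ (Ideal.IsPrime.mem_of_pow_mem inferInstance _ h)
  · -- kill conditions
    have hrow1 : ∀ k : Fin c, rel (Sum.inl (Fin.castLE hcm k)) ∈ lead rel (Sum.elim r₁ r₂) :=
      fun k => mem_lead_of_row rel (Sum.elim r₁ r₂) (Sum.inl k)
    have hrow2 : ∀ i : Fin n, rel (Sum.inr (Sum.inl i)) ∈ lead rel (Sum.elim r₁ r₂) :=
      fun i => mem_lead_of_row rel (Sum.elim r₁ r₂) (Sum.inr i)
    have hhle : Ideal.span (Set.range fun i : Fin n =>
        (X (Sum.inl i) - rename Sum.inr (sub π r s i) :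
          MvPolynomial (Fin n ⊕ (Fin c ⊕ Fin n)) R)) ≤ lead rel (Sum.elim r₁ r₂) := by
      rw [Ideal.span_le]
      rintro _ ⟨i, rfl⟩
      exact hrow2 i
    rintro (j | i | k)
    · by_cases hj : (j : ℕ) < c
      · obtain ⟨k, rfl⟩ : ∃ k : Fin c, j = Fin.castLE hcm k := ⟨⟨j, hj⟩, Fin.ext rfl⟩
        exact Ideal.mul_mem_left _ _ (hrow1 k)
      · have hj' : c ≤ (j : ℕ) := not_lt.mp hj
        have h1 := Ideal.mem_map_of_mem (rename Sum.inl :
          MvPolynomial (Fin n) R →ₐ[R] MvPolynomial (Fin n ⊕ (Fin c ⊕ Fin n)) R) (hkill j hj')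
        rw [Ideal.map_sup, Ideal.map_pow, Ideal.map_span, Ideal.map_span] at h1
        have hle : Ideal.span ((rename Sum.inl :
            MvPolynomial (Fin n) R →ₐ[R] MvPolynomial (Fin n ⊕ (Fin c ⊕ Fin n)) R) ''
              (f '' {j' : Fin m | (j' : ℕ) < c})) ⊔
            Ideal.span ((rename Sum.inl :
              MvPolynomial (Fin n) R →ₐ[R] MvPolynomial (Fin n ⊕ (Fin c ⊕ Fin n)) R) ''
                Set.range f) ^ 2 ≤ lead rel (Sum.elim r₁ r₂) := by
          refine sup_le_sup (Ideal.span_mono ?_) (Ideal.pow_right_mono (Ideal.span_mono ?_) 2)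
          · rintro _ ⟨_, ⟨j', hj'c, rfl⟩, rfl⟩
            exact ⟨Sum.inl ⟨j', hj'c⟩, rfl⟩
          · rintro _ ⟨_, ⟨j', rfl⟩, rfl⟩
            exact ⟨Sum.inl j', rfl⟩
        have h2 := hle h1
        have h3 : C (π ^ 3) * rel (Sum.inl j) = C (π ^ 2) *
            (rename Sum.inl : MvPolynomial (Fin n) R →ₐ[R]
              MvPolynomial (Fin n ⊕ (Fin c ⊕ Fin n)) R) (C π * f j) := by
          rw [map_mul, rename_C, ← mul_assoc, ← map_mul, show π ^ 2 * π = π ^ 3 by ring]
          rfl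
        rw [h3]
        exact Ideal.mul_mem_left _ _ h2
    · exact Ideal.mul_mem_left _ _ (hrow2 i)
    · -- `π³ g_k = f_j(sub) ≡ f_j(x)` modulo the `h_i`
      have h1 := rename_sub_GG_mem f π r s t q' hT (Fin.castLE hcm k)
      have h2 : C (π ^ 3) * rel (Sum.inr (Sum.inr k)) =
          rename Sum.inr (C (π ^ 2) * GG f π r s t q' (Fin.castLE hcm k)) := by
        rw [hG k, ← mul_assoc, ← map_mul, map_mul, rename_C]
        congr 2
        ring
      rw [h2]
      have hrow1' : (rename Sum.inl (f (Fin.castLE hcm k)) :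
          MvPolynomial (Fin n ⊕ (Fin c ⊕ Fin n)) R) ∈ lead rel (Sum.elim r₁ r₂) := hrow1 k
      have h3 := (lead rel (Sum.elim r₁ r₂)).sub_mem hrow1' (hhle h1)
      rwa [sub_sub_cancel] at h3

include hsurj hker hT hG hkill in
/-- Smoothness of `B` at the primes containing `π` but not `r₀`. -/
theorem isSmoothAt_of_mem (t₀ : R) (hu : u = 1 + π ^ 3 * t₀) (r₀ : R)
    (hr₀ : ∀ x : R, π ^ 3 * x = 0 → π * (r₀ ^ 2 * x) = 0)
    (𝔮 : Ideal B) [𝔮.IsPrime] (hπ : algebraMap R B π ∈ 𝔮) (hr₀𝔮 : algebraMap R B r₀ ∉ 𝔮) :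
    Algebra.IsSmoothAt R 𝔮 := by
  classical
  set rel := relB hcm f π r s u t q' with hrel
  set r₁ : Fin n → Fin m ⊕ (Fin n ⊕ Fin c) := fun i => Sum.inr (Sum.inl i) with hr₁
  set r₂ : Fin c → Fin m ⊕ (Fin n ⊕ Fin c) := fun k => Sum.inr (Sum.inr k) with hr₂
  set c₁ : Fin n → Fin n ⊕ (Fin c ⊕ Fin n) := fun i => Sum.inl i with hc₁
  set c₂ : Fin c → Fin n ⊕ (Fin c ⊕ Fin n) := fun k => Sum.inr (Sum.inl k) with hc₂
  have hm21 : minor rel (Sum.elim r₁ r₂) (Sum.elim c₁ c₂) = minor rel r₁ c₁ * minor rel r₂ c₂ := by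
    refine minor_sumElim₂₁ rel r₁ r₂ c₁ c₂ ?_
    intro i j
    exact pderiv_rename_of_notMem_range Sum.inr _ (by simp [hc₁]) _
  have hm1 : minor rel r₁ c₁ = 1 ^ Fintype.card (Fin n) := by
    refine minor_diagonal rel r₁ c₁ _ ?_
    intro j k
    exact pderiv_inl_hh π r s j k
  set Mx : Matrix (Fin c) (Fin c) (MvPolynomial (Fin c ⊕ Fin n) R) :=
    Matrix.of fun j k => pderiv (Sum.inl k) (gg hcm f π r u t q' j) with hMx
  have hm2 : minor rel r₂ c₂ = rename Sum.inr Mx.det := by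
    have := minor_rename (R := R) Sum.inr (Sum.inr_injective (α := Fin n))
      (gg hcm f π r u t q') (id : Fin c → Fin c) (Sum.inl : Fin c → Fin c ⊕ Fin n)
    exact this
  -- the ring hom to the residue domain
  let ψ : MvPolynomial (Fin c ⊕ Fin n) R →+* B ⧸ 𝔮 :=
    (Ideal.Quotient.mk 𝔮).comp (πB.toRingHom.comp
      (rename Sum.inr : MvPolynomial (Fin c ⊕ Fin n) R →ₐ[R]
        MvPolynomial (Fin n ⊕ (Fin c ⊕ Fin n)) R).toRingHom)
  have hψ : ∀ p, ψ p = Ideal.Quotient.mk 𝔮 (πB (rename Sum.inr p)) := fun p => rfl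
  have hψC : ∀ x : R, ψ (C x) = Ideal.Quotient.mk 𝔮 (algebraMap R B x) := by
    intro x
    rw [hψ, rename_C, ← algebraMap_eq, AlgHom.commutes]
  have hψπ : ψ (C π) = 0 := by
    rw [hψC]
    exact Ideal.Quotient.eq_zero_iff_mem.mpr hπ
  have hψu : ψ (C u) = 1 := by
    rw [hu, map_add, map_mul, map_pow, map_add, map_one, map_mul, map_pow, hψπ]
    simp
  have hψmem : ∀ p, ψ p ≠ 0 → πB (rename Sum.inr p) ∉ 𝔮 := by
    intro p hp hmem
    exact hp (Ideal.Quotient.eq_zero_iff_mem.mpr hmem)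
  have hdetMx : ψ Mx.det = 1 := by
    rw [RingHom.map_det]
    have : ψ.mapMatrix Mx = 1 := by
      ext j k
      simp only [RingHom.mapMatrix_apply, Matrix.map_apply, hMx, Matrix.of_apply]
      rw [pderiv_inl_gg, map_add, map_mul, map_mul, hψπ, zero_mul, add_zero, hψu, one_mul,
        Matrix.one_apply]
      split_ifs <;> simp
    rw [this, Matrix.det_one]
  obtain ⟨Mz, hMzπ, hMz⟩ := exists_det_mul_mem hcm f π r s u t q' hT hG hkill r₀ hr₀
  set s' := ((C (r₀ ^ 2) : MvPolynomial (Fin c ⊕ Fin n) R) •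
    (1 : Matrix (Fin m) (Fin m) (MvPolynomial (Fin c ⊕ Fin n) R)) - Mz).det with hs'def
  have hψMz : ∀ a b, ψ (Mz a b) = 0 := by
    intro a b
    obtain ⟨z, hz⟩ := Ideal.mem_span_singleton.mp (hMzπ a b)
    rw [hz, map_mul, hψπ, zero_mul]
  have hs' : ψ s' = (Ideal.Quotient.mk 𝔮 (algebraMap R B r₀)) ^ (2 * m) := by
    rw [hs'def, RingHom.map_det]
    have : ψ.mapMatrix ((C (r₀ ^ 2) : MvPolynomial (Fin c ⊕ Fin n) R) •
        (1 : Matrix (Fin m) (Fin m) (MvPolynomial (Fin c ⊕ Fin n) R)) - Mz) =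
        (ψ (C (r₀ ^ 2))) • (1 : Matrix (Fin m) (Fin m) (B ⧸ 𝔮)) := by
      ext a b
      simp only [RingHom.mapMatrix_apply, Matrix.map_apply, Matrix.sub_apply, Matrix.smul_apply,
        map_sub, smul_eq_mul, map_mul, hψMz, sub_zero, Matrix.one_apply]
      split_ifs <;> simp
    rw [this, Matrix.det_smul, Matrix.det_one, mul_one, Fintype.card_fin, hψC, map_pow, map_pow,
      ← pow_mul]
  have hr₀ne : Ideal.Quotient.mk 𝔮 (algebraMap R B r₀) ≠ 0 := by
    intro h
    exact hr₀𝔮 (Ideal.Quotient.eq_zero_iff_mem.mp h)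
  refine isSmoothAt_of_minor_notMem' rel πB hsurj hker (Sum.elim r₁ r₂) (Sum.elim c₁ c₂) 𝔮 ?_
    (rename Sum.inr s') ?_ ?_
  · rw [hm21, hm1, one_pow, one_mul, hm2]
    refine hψmem _ ?_
    rw [hdetMx]
    exact one_ne_zero
  · refine hψmem _ ?_
    rw [hs']
    exact pow_ne_zero _ hr₀ne
  · -- kill conditions
    have hrow1 : ∀ i : Fin n, rel (Sum.inr (Sum.inl i)) ∈ lead rel (Sum.elim r₁ r₂) :=
      fun i => mem_lead_of_row rel (Sum.elim r₁ r₂) (Sum.inl i)
    have hrow2 : ∀ k : Fin c, rel (Sum.inr (Sum.inr k)) ∈ lead rel (Sum.elim r₁ r₂) :=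
      fun k => mem_lead_of_row rel (Sum.elim r₁ r₂) (Sum.inr k)
    have hhle : Ideal.span (Set.range fun i : Fin n =>
        (X (Sum.inl i) - rename Sum.inr (sub π r s i) :
          MvPolynomial (Fin n ⊕ (Fin c ⊕ Fin n)) R)) ≤ lead rel (Sum.elim r₁ r₂) := by
      rw [Ideal.span_le]
      rintro _ ⟨i, rfl⟩
      exact hrow1 i
    have hgle : (Ideal.span (Set.range (gg hcm f π r u t q'))).map
        (rename Sum.inr : MvPolynomial (Fin c ⊕ Fin n) R →ₐ[R]
          MvPolynomial (Fin n ⊕ (Fin c ⊕ Fin n)) R) ≤ lead rel (Sum.elim r₁ r₂) := by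
      rw [Ideal.map_span, Ideal.span_le]
      rintro _ ⟨_, ⟨k, rfl⟩, rfl⟩
      exact hrow2 k
    rintro (j | i | k)
    · have h1 := hhle (rename_sub_GG_mem f π r s t q' hT j)
      have h2 : (rename Sum.inr (s' * (C (π ^ 2) * GG f π r s t q' j)) :
          MvPolynomial (Fin n ⊕ (Fin c ⊕ Fin n)) R) ∈ lead rel (Sum.elim r₁ r₂) :=
        hgle (Ideal.mem_map_of_mem _ (hMz j))
      have h3 : rename Sum.inr s' * rel (Sum.inl j) =
          rename Sum.inr s' * ((rename Sum.inl (f j) : MvPolynomial (Fin n ⊕ (Fin c ⊕ Fin n)) R) -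
            rename Sum.inr (C (π ^ 2) * GG f π r s t q' j)) +
          rename Sum.inr (s' * (C (π ^ 2) * GG f π r s t q' j)) := by
        rw [map_mul (rename Sum.inr) s']
        show rename Sum.inr s' * rename Sum.inl (f j) = _
        ring
      rw [h3]
      exact Ideal.add_mem _ (Ideal.mul_mem_left _ _ h1) h2
    · exact Ideal.mul_mem_left _ _ (hrow1 i)
    · exact Ideal.mul_mem_left _ _ (hrow2 k)

end Smooth

end Groth.Agent.Lib.Seat14.Desing
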