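import Groth.Agent.Lib.Seat14DimZeroA

/-!
# The algebra of Stacks, Lemma 16.10.3 (helper14)

Given `A → C → Λ`, presentations `A = R[v]/(G)`, `C = R[v,x]/(K)`, elements `a_ℓ ∈ H_{A/R}`,
`c ∈ H_{C/R}` and `λ ∈ Λ` with `λ a_ℓ^N = 0`, the algebra
`B = R[v,x,y,z,t]/(G, z y_i, K_j - ∑ y_i t_ij)` maps to `Λ` (`y_i ↦ a_i^N`, `z ↦ λ`, `t ↦ 0`) and
`a_ℓ y_ℓ`, `z c` lie in `H_{B/R}` (Jacobian criteria with explicit rows and columns).
-/

set_option autoImplicit false
set_option linter.style.haveILetI false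
set_option linter.unusedSectionVars false
universe u

namespace Groth.Agent.Lib.Seat14.DimZero

open MvPolynomial

section construction

variable {R : Type u} [CommRing R] {p n r mA M : ℕ}

/-- The variables `v, x, y, z, t` of the algebra `B`. -/
abbrev Var (p n r M : ℕ) : Type := (Fin p ⊕ Fin n) ⊕ (Fin r ⊕ (Unit ⊕ (Fin r × Fin M)))

/-- The relations `G, z y, g` of the algebra `B`. -/
abbrev Rel (mA r M : ℕ) : Type := Fin mA ⊕ (Fin r ⊕ Fin M)

/-- The variable `v_i`. -/
def vv (n r M : ℕ) (i : Fin p) : Var p n r M := Sum.inl (Sum.inl i)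
/-- The variable `y_i`. -/
def yv (p n M : ℕ) (i : Fin r) : Var p n r M := Sum.inr (Sum.inl i)
/-- The variable `z`. -/
def zv (p n r M : ℕ) : Var p n r M := Sum.inr (Sum.inr (Sum.inl ()))
/-- The variable `t_{ij}`. -/
def tv (p n : ℕ) (i : Fin r) (j : Fin M) : Var p n r M := Sum.inr (Sum.inr (Sum.inr (i, j)))

/-- The relations of `B`. -/
noncomputable def rel (r : ℕ) (G : Fin mA → MvPolynomial (Fin p) R)
    (K : Fin M → MvPolynomial (Fin p ⊕ Fin n) R) : Rel mA r M → MvPolynomial (Var p n r M) R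
  | Sum.inl k => rename (vv n r M) (G k)
  | Sum.inr (Sum.inl i) => X (zv p n r M) * X (yv p n M i)
  | Sum.inr (Sum.inr j) => rename Sum.inl (K j) - ∑ i : Fin r, X (yv p n M i) * X (tv p n i j)

variable (G : Fin mA → MvPolynomial (Fin p) R) (K : Fin M → MvPolynomial (Fin p ⊕ Fin n) R)

theorem vv_injective : Function.Injective (vv n r M : Fin p → Var p n r M) :=
  fun _ _ h => Sum.inl_injective (Sum.inl_injective h)

theorem pderiv_X_mul_X {σ : Type} [DecidableEq σ] (x a b : σ) :
    pderiv x (X a * X b : MvPolynomial σ R) =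
      (if x = a then X b else 0) + (if x = b then X a else 0) := by
  rw [Derivation.leibniz, pderiv_X, pderiv_X]
  simp only [Pi.single_apply, smul_eq_mul]
  by_cases h1 : x = a <;> by_cases h2 : x = b
  · subst h1; subst h2; simp
  · subst h1; simp [h2, Ne.symm h2]
  · subst h2; simp [h1, Ne.symm h1]
  · simp [h1, h2, Ne.symm h1, Ne.symm h2]

theorem tv_injective (i i' : Fin r) (j j' : Fin M) :
    (tv p n i j : Var p n r M) = tv p n i' j' ↔ i = i' ∧ j = j' := by
  simp [tv]

theorem pderiv_sum_yt_tv (ℓ : Fin r) (k j : Fin M) :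
    pderiv (tv p n ℓ k) (∑ i : Fin r, X (yv p n M i) * X (tv p n i j) :
      MvPolynomial (Var p n r M) R) = if j = k then X (yv p n M ℓ) else 0 := by
  classical
  rw [map_sum]
  simp_rw [pderiv_X_mul_X]
  have h1 : ∀ i : Fin r, (tv p n ℓ k : Var p n r M) ≠ yv p n M i := by
    intro i
    simp [tv, yv]
  simp only [h1, if_false, zero_add, tv_injective]
  by_cases hjk : j = k
  · subst hjk
    simp
  · have : ∀ i : Fin r, ¬ (ℓ = i ∧ k = j) := fun i h => hjk h.2.symm
    simp [this, hjk]

theorem pderiv_sum_yt_zv (j : Fin M) :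
    pderiv (zv p n r M) (∑ i : Fin r, X (yv p n M i) * X (tv p n i j) :
      MvPolynomial (Var p n r M) R) = 0 := by
  classical
  rw [map_sum]
  simp_rw [pderiv_X_mul_X]
  have h1 : ∀ i : Fin r, (zv p n r M : Var p n r M) ≠ yv p n M i := by
    intro i
    simp [zv, yv]
  have h2 : ∀ i : Fin r, (zv p n r M : Var p n r M) ≠ tv p n i j := by
    intro i
    simp [zv, tv]
  simp [h1, h2]

theorem pderiv_sum_yt_inl (u : Fin p ⊕ Fin n) (j : Fin M) :
    pderiv (Sum.inl u) (∑ i : Fin r, X (yv p n M i) * X (tv p n i j) :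
      MvPolynomial (Var p n r M) R) = 0 := by
  classical
  rw [map_sum]
  simp_rw [pderiv_X_mul_X]
  have h1 : ∀ i : Fin r, (Sum.inl u : Var p n r M) ≠ yv p n M i := by
    intro i
    simp [yv]
  have h2 : ∀ i : Fin r, (Sum.inl u : Var p n r M) ≠ tv p n i j := by
    intro i
    simp [tv]
  simp [h1, h2]

theorem minor_y (ℓ : Fin r) {c : ℕ} (rowsA : Fin c → Fin mA) (colsA : Fin c → Fin p) :
    minor (rel r G K)
      (Sum.elim (fun j => Sum.inl (rowsA j))
        (Sum.elim (fun j : Fin M => Sum.inr (Sum.inr j)) (fun _ : Unit => Sum.inr (Sum.inl ℓ))))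
      (Sum.elim (fun k => vv n r M (colsA k))
        (Sum.elim (fun j : Fin M => tv p n ℓ j) (fun _ : Unit => zv p n r M))) =
    rename (vv n r M) (minor G rowsA colsA) *
      ((-X (yv p n M ℓ)) ^ Fintype.card (Fin M) * X (yv p n M ℓ) ^ Fintype.card Unit) := by
  classical
  rw [minor_sumElim₁₂]
  · congr 1
    · exact minor_rename (vv n r M) vv_injective G rowsA colsA
    · rw [minor_sumElim₁₂]
      · congr 1
        · apply minor_diagonal
          intro j k
          show pderiv (tv p n ℓ k) (rename Sum.inl (K j) -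
            ∑ i : Fin r, X (yv p n M i) * X (tv p n i j)) = _
          rw [map_sub, pderiv_rename_of_notMem_range _ _ (by simp [tv]), pderiv_sum_yt_tv, zero_sub]
          split_ifs <;> simp
        · apply minor_diagonal
          intro j k
          show pderiv (zv p n r M) (X (zv p n r M) * X (yv p n M ℓ)) = _
          rw [pderiv_X_mul_X]
          simp [zv, yv]
      · intro i j
        show pderiv (zv p n r M) (rename Sum.inl (K i) -
            ∑ i' : Fin r, X (yv p n M i') * X (tv p n i' i)) = 0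
        rw [map_sub, pderiv_rename_of_notMem_range _ _ (by simp [zv]), pderiv_sum_yt_zv, sub_zero]
  · intro i j
    show pderiv _ (rename (vv n r M) (G (rowsA i))) = 0
    apply pderiv_rename_of_notMem_range
    rcases j with j | j
    · simp [tv, vv]
    · simp [zv, vv]

theorem minor_z {c : ℕ} (rowsC : Fin c → Fin M) (colsC : Fin c → Fin p ⊕ Fin n) :
    minor (rel r G K)
      (Sum.elim (fun j => Sum.inr (Sum.inr (rowsC j))) (fun i : Fin r => Sum.inr (Sum.inl i)))
      (Sum.elim (fun k => Sum.inl (colsC k)) (fun i : Fin r => yv p n M i)) =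
    rename Sum.inl (minor K rowsC colsC) * X (zv p n r M) ^ Fintype.card (Fin r) := by
  classical
  rw [minor_sumElim₂₁]
  · congr 1
    · unfold minor
      rw [AlgHom.map_det]
      congr 1
      refine Matrix.ext fun j k => ?_
      simp only [Matrix.of_apply, AlgHom.mapMatrix_apply, Matrix.map_apply]
      show pderiv (Sum.inl (colsC k)) (rename Sum.inl (K (rowsC j)) -
        ∑ i : Fin r, X (yv p n M i) * X (tv p n i (rowsC j))) = _
      rw [map_sub, pderiv_rename Sum.inl_injective, pderiv_sum_yt_inl, sub_zero]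
    · apply minor_diagonal
      intro j k
      show pderiv (yv p n M k) (X (zv p n r M) * X (yv p n M j)) = _
      rw [pderiv_X_mul_X]
      have h1 : (yv p n M k : Var p n r M) ≠ zv p n r M := by simp [yv, zv]
      have h2 : (yv p n M k : Var p n r M) = yv p n M j ↔ j = k := by
        simp [yv, eq_comm]
      simp [h1, h2]
  · intro i j
    show pderiv (Sum.inl (colsC j)) (X (zv p n r M) * X (yv p n M i)) = 0
    rw [pderiv_X_mul_X]
    simp [zv, yv]

/-- The leading rows in the `y`-part. -/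
def rowsY (M : ℕ) (ℓ : Fin r) {c : ℕ} (rowsA : Fin c → Fin mA) :
    Fin c ⊕ (Fin M ⊕ Unit) → Rel mA r M :=
  Sum.elim (fun j => Sum.inl (rowsA j))
    (Sum.elim (fun j : Fin M => Sum.inr (Sum.inr j)) (fun _ : Unit => Sum.inr (Sum.inl ℓ)))

/-- The leading rows in the `z`-part. -/
def rowsZ (mA r : ℕ) {c : ℕ} (rowsC : Fin c → Fin M) : Fin c ⊕ Fin r → Rel mA r M :=
  Sum.elim (fun j => Sum.inr (Sum.inr (rowsC j))) (fun i : Fin r => Sum.inr (Sum.inl i))

theorem kill_y (ℓ : Fin r) {c : ℕ} (rowsA : Fin c → Fin mA) (aA : MvPolynomial (Fin p) R)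
    (hk : ∀ k, aA * G k ∈ lead G rowsA) (ℓ' : Rel mA r M) :
    (rename (vv n r M) aA * X (yv p n M ℓ)) * rel r G K ℓ' ∈
      lead (rel r G K) (rowsY M ℓ rowsA) := by
  rcases ℓ' with k | i | j
  · have h1 : rename (vv n r M) (aA * G k) ∈ lead (rel r G K) (rowsY M ℓ rowsA) := by
      have h2 := Ideal.mem_map_of_mem
        (rename (vv n r M) : MvPolynomial (Fin p) R →ₐ[R] MvPolynomial (Var p n r M) R) (hk k)
      rw [map_lead] at h2
      refine lead_mono (Sum.inl : Fin mA → Rel mA r M) (rel r G K) rowsA (rowsY M ℓ rowsA)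
        (fun k' => ⟨Sum.inl k', rfl⟩) ?_
      exact h2
    have h3 : (rename (vv n r M) aA * X (yv p n M ℓ)) * rel r G K (Sum.inl k) =
        X (yv p n M ℓ) * rename (vv n r M) (aA * G k) := by
      show (rename (vv n r M) aA * X (yv p n M ℓ)) * rename (vv n r M) (G k) = _
      rw [map_mul]
      ring
    rw [h3]
    exact Ideal.mul_mem_left _ _ h1
  · have h3 : (rename (vv n r M) aA * X (yv p n M ℓ)) * rel r G K (Sum.inr (Sum.inl i)) =
        (rename (vv n r M) aA * X (yv p n M i)) *
          rel r G K (rowsY M ℓ rowsA (Sum.inr (Sum.inr ()))) := by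
      show (rename (vv n r M) aA * X (yv p n M ℓ)) * (X (zv p n r M) * X (yv p n M i)) =
        (rename (vv n r M) aA * X (yv p n M i)) * (X (zv p n r M) * X (yv p n M ℓ))
      ring
    rw [h3]
    exact Ideal.mul_mem_left _ _ (mem_lead_of_row _ _ _)
  · exact Ideal.mul_mem_left _ _
      (mem_lead_of_row (rel r G K) (rowsY M ℓ rowsA) (Sum.inr (Sum.inl j)))

theorem z_mul_mem (u : MvPolynomial (Fin p ⊕ Fin n) R) (hu : u ∈ Ideal.span (Set.range K)) :
    X (zv p n r M) * rename Sum.inl u ∈ Ideal.span (Set.range (rel r G K)) := by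
  refine Submodule.span_induction (p := fun u _ => X (zv p n r M) * rename Sum.inl u ∈
    Ideal.span (Set.range (rel r G K))) ?_ ?_ ?_ ?_ hu
  · rintro _ ⟨j, rfl⟩
    have h1 : X (zv p n r M) * rename Sum.inl (K j) =
        X (zv p n r M) * rel r G K (Sum.inr (Sum.inr j)) +
          ∑ i : Fin r, X (tv p n i j) * rel r G K (Sum.inr (Sum.inl i)) := by
      show _ = X (zv p n r M) * (rename Sum.inl (K j) -
        ∑ i : Fin r, X (yv p n M i) * X (tv p n i j)) +
          ∑ i : Fin r, X (tv p n i j) * (X (zv p n r M) * X (yv p n M i))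
      rw [mul_sub, Finset.mul_sum]
      have : ∑ i : Fin r, X (tv p n i j) * (X (zv p n r M) * X (yv p n M i)) =
          ∑ i : Fin r, X (zv p n r M) * (X (yv p n M i) * X (tv p n i j) :
            MvPolynomial (Var p n r M) R) :=
        Finset.sum_congr rfl fun i _ => by ring
      rw [this]
      ring
    rw [h1]
    refine Ideal.add_mem _ (Ideal.mul_mem_left _ _ (Ideal.subset_span ⟨_, rfl⟩))
      (Ideal.sum_mem _ fun i _ => Ideal.mul_mem_left _ _ (Ideal.subset_span ⟨_, rfl⟩))
  · simp
  · intro x y _ _ hx hy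
    rw [map_add, mul_add]
    exact Ideal.add_mem _ hx hy
  · intro a x _ hx
    rw [smul_eq_mul, map_mul, mul_left_comm]
    exact Ideal.mul_mem_left _ _ hx

theorem z_mul_mem_rows {c : ℕ} (rowsC : Fin c → Fin M) (w : MvPolynomial (Fin p ⊕ Fin n) R)
    (hw : w ∈ Ideal.span (Set.range (K ∘ rowsC))) :
    X (zv p n r M) * rename Sum.inl w ∈
      Ideal.span (Set.range (rel r G K ∘ rowsZ mA r rowsC)) := by
  refine Submodule.span_induction (p := fun w _ => X (zv p n r M) * rename Sum.inl w ∈
    Ideal.span (Set.range (rel r G K ∘ rowsZ mA r rowsC))) ?_ ?_ ?_ ?_ hw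
  · rintro _ ⟨j, rfl⟩
    show X (zv p n r M) * rename Sum.inl (K (rowsC j)) ∈ _
    have h1 : X (zv p n r M) * rename Sum.inl (K (rowsC j)) =
        X (zv p n r M) * (rel r G K ∘ rowsZ mA r rowsC) (Sum.inl j) +
          ∑ i : Fin r, X (tv p n i (rowsC j)) * (rel r G K ∘ rowsZ mA r rowsC) (Sum.inr i) := by
      show _ = X (zv p n r M) * (rename Sum.inl (K (rowsC j)) -
        ∑ i : Fin r, X (yv p n M i) * X (tv p n i (rowsC j))) +
          ∑ i : Fin r, X (tv p n i (rowsC j)) * (X (zv p n r M) * X (yv p n M i))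
      rw [mul_sub, Finset.mul_sum]
      have : ∑ i : Fin r, X (tv p n i (rowsC j)) * (X (zv p n r M) * X (yv p n M i)) =
          ∑ i : Fin r, X (zv p n r M) * (X (yv p n M i) * X (tv p n i (rowsC j)) :
            MvPolynomial (Var p n r M) R) :=
        Finset.sum_congr rfl fun i _ => by ring
      rw [this]
      ring
    rw [h1]
    refine Ideal.add_mem _ (Ideal.mul_mem_left _ _ (Ideal.subset_span ⟨_, rfl⟩))
      (Ideal.sum_mem _ fun i _ => Ideal.mul_mem_left _ _ (Ideal.subset_span ⟨_, rfl⟩))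
  · simp
  · intro x y _ _ hx hy
    rw [map_add, mul_add]
    exact Ideal.add_mem _ hx hy
  · intro a x _ hx
    rw [smul_eq_mul, map_mul, mul_left_comm]
    exact Ideal.mul_mem_left _ _ hx

theorem z_sq_mul_mem_lead {c : ℕ} (rowsC : Fin c → Fin M) (w : MvPolynomial (Fin p ⊕ Fin n) R)
    (hw : w ∈ lead K rowsC) :
    X (zv p n r M) ^ 2 * rename Sum.inl w ∈ lead (rel r G K) (rowsZ mA r rowsC) := by
  unfold lead at hw
  obtain ⟨w₁, hw₁, w₂, hw₂, rfl⟩ := Submodule.mem_sup.mp hw
  rw [map_add, mul_add]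
  refine Ideal.add_mem _ ?_ ?_
  · have h1 : X (zv p n r M) ^ 2 * rename Sum.inl w₁ =
        X (zv p n r M) * (X (zv p n r M) * rename Sum.inl w₁ :
          MvPolynomial (Var p n r M) R) := by ring
    rw [h1]
    exact Ideal.mem_sup_left (Ideal.mul_mem_left _ _ (z_mul_mem_rows G K rowsC w₁ hw₁))
  · refine Ideal.mem_sup_right ?_
    rw [pow_two] at hw₂
    rw [pow_two (Ideal.span (Set.range (rel r G K)))]
    refine Submodule.mul_induction_on hw₂ ?_ ?_
    · intro u hu v hv
      have h1 : X (zv p n r M) ^ 2 * rename Sum.inl (u * v) =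
          (X (zv p n r M) * rename Sum.inl u) * (X (zv p n r M) * rename Sum.inl v :
            MvPolynomial (Var p n r M) R) := by
        rw [map_mul]
        ring
      rw [h1]
      exact Ideal.mul_mem_mul (z_mul_mem G K u hu) (z_mul_mem G K v hv)
    · intro x y hx hy
      rw [map_add, mul_add]
      exact Ideal.add_mem _ hx hy

theorem kill_z {c : ℕ} (rowsC : Fin c → Fin M) (aC : MvPolynomial (Fin p ⊕ Fin n) R)
    (hk : ∀ j, aC * K j ∈ lead K rowsC)
    (hG : ∀ k, rename Sum.inl (G k) ∈ Ideal.span (Set.range K)) (ℓ' : Rel mA r M) :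
    (X (zv p n r M) ^ 2 * rename Sum.inl aC) * rel r G K ℓ' ∈
      lead (rel r G K) (rowsZ mA r rowsC) := by
  have hk' : ∀ x ∈ Ideal.span (Set.range K), aC * x ∈ lead K rowsC := by
    intro x hx
    refine Submodule.span_induction (p := fun x _ => aC * x ∈ lead K rowsC) ?_ ?_ ?_ ?_ hx
    · rintro _ ⟨j, rfl⟩
      exact hk j
    · simp
    · intro x y _ _ hx hy
      rw [mul_add]
      exact Ideal.add_mem _ hx hy
    · intro a x _ hx
      rw [smul_eq_mul, mul_left_comm]
      exact Ideal.mul_mem_left _ _ hx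
  rcases ℓ' with k | i | j
  · have h1 : (X (zv p n r M) ^ 2 * rename Sum.inl aC) * rel r G K (Sum.inl k) =
        X (zv p n r M) ^ 2 * rename Sum.inl (aC * rename Sum.inl (G k)) := by
      show (X (zv p n r M) ^ 2 * rename Sum.inl aC) * rename (vv n r M) (G k) = _
      have : rename (vv n r M) (G k) =
          rename (Sum.inl : Fin p ⊕ Fin n → Var p n r M) (rename Sum.inl (G k)) := by
        rw [rename_rename]
        rfl
      rw [this, map_mul]
      ring
    rw [h1]
    exact z_sq_mul_mem_lead G K rowsC _ (hk' _ (hG k))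
  · exact Ideal.mul_mem_left _ _
      (mem_lead_of_row (rel r G K) (rowsZ mA r rowsC) (Sum.inr i))
  · have h1 : (X (zv p n r M) ^ 2 * rename Sum.inl aC) * rel r G K (Sum.inr (Sum.inr j)) =
        X (zv p n r M) ^ 2 * rename Sum.inl (aC * K j) -
          ∑ i : Fin r, (X (zv p n r M) * rename Sum.inl aC * X (tv p n i j)) *
            rel r G K (rowsZ mA r rowsC (Sum.inr i)) := by
      show (X (zv p n r M) ^ 2 * rename Sum.inl aC) * (rename Sum.inl (K j) -
        ∑ i : Fin r, X (yv p n M i) * X (tv p n i j)) =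
        X (zv p n r M) ^ 2 * rename Sum.inl (aC * K j) -
          ∑ i : Fin r, (X (zv p n r M) * rename Sum.inl aC * X (tv p n i j)) *
            (X (zv p n r M) * X (yv p n M i))
      rw [mul_sub, Finset.mul_sum]
      refine congrArg₂ (· - ·) ?_ ?_
      · rw [map_mul]
        ring
      · exact Finset.sum_congr rfl fun i _ => by ring
    rw [h1]
    refine Ideal.sub_mem _ (z_sq_mul_mem_lead G K rowsC _ (hk j))
      (Ideal.sum_mem _ fun i _ => Ideal.mul_mem_left _ _ (mem_lead_of_row _ _ _))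

end construction

section core

variable {R A C Λ : Type u} [CommRing R] [CommRing A] [Algebra R A] [CommRing C] [Algebra R C]
  [CommRing Λ] [Algebra R Λ]

theorem isSmoothAt_of_mem_singularIdeal {R A : Type u} [CommRing R] [CommRing A] [Algebra R A]
    {a : A} (ha : a ∈ Smoothing.singularIdeal R A) (q : Ideal A) [q.IsPrime] (haq : a ∉ q) :
    Algebra.IsSmoothAt R q := by
  by_contra hns
  have ha' : a ∈ PrimeSpectrum.vanishingIdeal (Algebra.smoothLocus R A)ᶜ := ha
  rw [PrimeSpectrum.mem_vanishingIdeal] at ha'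
  exact haq (ha' ⟨q, inferInstance⟩ hns)

theorem mem_singularIdeal_of_forall {R A : Type u} [CommRing R] [CommRing A] [Algebra R A]
    {a : A} (ha : ∀ (q : Ideal A) [q.IsPrime], a ∉ q → Algebra.IsSmoothAt R q) :
    a ∈ Smoothing.singularIdeal R A := by
  change a ∈ PrimeSpectrum.vanishingIdeal (Algebra.smoothLocus R A)ᶜ
  rw [PrimeSpectrum.mem_vanishingIdeal]
  intro x hx
  by_contra hax
  exact hx (ha x.asIdeal hax)

theorem core (ι : A →ₐ[R] C) (h : C →ₐ[R] Λ) {p n r mA M : ℕ}
    (πA : MvPolynomial (Fin p) R →ₐ[R] A) (hπA : Function.Surjective πA)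
    (G : Fin mA → MvPolynomial (Fin p) R)
    (hG : RingHom.ker πA.toRingHom = Ideal.span (Set.range G))
    (πC : MvPolynomial (Fin p ⊕ Fin n) R →ₐ[R] C) (hπC : Function.Surjective πC)
    (K : Fin M → MvPolynomial (Fin p ⊕ Fin n) R)
    (hK : RingHom.ker πC.toRingHom = Ideal.span (Set.range K))
    (hιπ : ∀ i, πC (X (Sum.inl i)) = ι (πA (X i)))
    (at' : Fin r → MvPolynomial (Fin p) R)
    (hat : ∀ ℓ, πA (at' ℓ) ∈ Smoothing.singularIdeal R A)
    (N : ℕ) (lamb : Λ) (hlamb : ∀ ℓ, lamb * (h (ι (πA (at' ℓ)))) ^ N = 0)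
    (ct : MvPolynomial (Fin p ⊕ Fin n) R) (hct : πC ct ∈ Smoothing.singularIdeal R C) :
    ∃ (B : Type u) (_ : CommRing B) (_ : Algebra R B), Algebra.FinitePresentation R B ∧
      ∃ (α : A →ₐ[R] B) (β : B →ₐ[R] Λ), β.comp α = h.comp ι ∧
        (∀ ℓ, ∃ b ∈ Smoothing.singularIdeal R B, β b = h (ι (πA (at' ℓ))) ^ (N + 1)) ∧
        ∃ b ∈ Smoothing.singularIdeal R B, β b = lamb * h (πC ct) := by
  classical
  set I : Ideal (MvPolynomial (Var p n r M) R) := Ideal.span (Set.range (rel r G K)) with hI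
  set πB : MvPolynomial (Var p n r M) R →ₐ[R] (MvPolynomial (Var p n r M) R ⧸ I) :=
    Ideal.Quotient.mkₐ R I with hπBdef
  have hπB : Function.Surjective πB := Ideal.Quotient.mkₐ_surjective R I
  have hkerB : RingHom.ker πB.toRingHom = Ideal.span (Set.range (rel r G K)) :=
    Ideal.Quotient.mkₐ_ker R I
  have hπB0 : ∀ x, x ∈ I → πB x = 0 := fun x hx => Ideal.Quotient.eq_zero_iff_mem.mpr hx
  -- compatibility of the presentations
  have hιπ' : ∀ q : MvPolynomial (Fin p) R, πC (rename Sum.inl q) = ι (πA q) := by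
    intro q
    have : (πC.comp (rename Sum.inl : MvPolynomial (Fin p) R →ₐ[R] _)) = ι.comp πA := by
      apply MvPolynomial.algHom_ext
      intro i
      simp [hιπ]
    exact AlgHom.congr_fun this q
  have hGK : ∀ k, rename Sum.inl (G k) ∈ Ideal.span (Set.range K) := by
    intro k
    rw [← hK, RingHom.mem_ker]
    show πC (rename Sum.inl (G k)) = 0
    rw [hιπ']
    have : G k ∈ RingHom.ker πA.toRingHom := by
      rw [hG]
      exact Ideal.subset_span ⟨k, rfl⟩
    have h0 : πA (G k) = 0 := this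
    rw [h0, map_zero]
  -- the map to `Λ`
  set val : Var p n r M → Λ := Sum.elim (fun u => h (πC (X u)))
    (Sum.elim (fun i => (h (ι (πA (at' i)))) ^ N) (Sum.elim (fun _ => lamb) (fun _ => 0)))
    with hval
  have hval_inl : ∀ q : MvPolynomial (Fin p ⊕ Fin n) R,
      aeval val (rename Sum.inl q) = h (πC q) := by
    intro q
    rw [aeval_rename]
    have : (aeval (val ∘ Sum.inl) : MvPolynomial (Fin p ⊕ Fin n) R →ₐ[R] Λ) = h.comp πC := by
      apply MvPolynomial.algHom_ext
      intro u
      simp [hval]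
    rw [this]
    rfl
  have hval_vv : ∀ q : MvPolynomial (Fin p) R,
      aeval val (rename (vv n r M) q) = h (ι (πA q)) := by
    intro q
    have : rename (vv n r M) q =
        rename (Sum.inl : Fin p ⊕ Fin n → Var p n r M) (rename Sum.inl q) := by
      rw [rename_rename]
      rfl
    rw [this, hval_inl, hιπ']
  have hval_y : ∀ i, aeval val (X (yv p n M i) : MvPolynomial (Var p n r M) R) =
      (h (ι (πA (at' i)))) ^ N := by
    intro i
    rw [aeval_X]
    rfl
  have hval_z : aeval val (X (zv p n r M) : MvPolynomial (Var p n r M) R) = lamb := by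
    rw [aeval_X]
    rfl
  have hval_t : ∀ i j, aeval val (X (tv p n i j) : MvPolynomial (Var p n r M) R) = 0 := by
    intro i j
    rw [aeval_X]
    rfl
  have hβ₀ : ∀ x ∈ I, (aeval val : MvPolynomial (Var p n r M) R →ₐ[R] Λ) x = 0 := by
    intro x hx
    refine Submodule.span_induction (p := fun x _ => (aeval val) x = 0) ?_ ?_ ?_ ?_ hx
    · rintro _ ⟨(k | i | j), rfl⟩
      · show aeval val (rename (vv n r M) (G k)) = 0
        rw [hval_vv]
        have : G k ∈ RingHom.ker πA.toRingHom := by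
          rw [hG]
          exact Ideal.subset_span ⟨k, rfl⟩
        have h0 : πA (G k) = 0 := this
        rw [h0, map_zero, map_zero]
      · show aeval val (X (zv p n r M) * X (yv p n M i)) = 0
        rw [map_mul, hval_z, hval_y]
        exact hlamb i
      · show aeval val (rename Sum.inl (K j) - ∑ i : Fin r, X (yv p n M i) * X (tv p n i j)) = 0
        rw [map_sub, hval_inl, map_sum]
        have : K j ∈ RingHom.ker πC.toRingHom := by
          rw [hK]
          exact Ideal.subset_span ⟨j, rfl⟩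
        have h0 : πC (K j) = 0 := this
        rw [h0, map_zero, zero_sub, neg_eq_zero]
        refine Finset.sum_eq_zero fun i _ => ?_
        rw [map_mul, hval_t, mul_zero]
    · exact map_zero _
    · intro x y _ _ hx hy
      rw [map_add, hx, hy, add_zero]
    · intro a x _ hx
      rw [smul_eq_mul, map_mul, hx, mul_zero]
  let β : (MvPolynomial (Var p n r M) R ⧸ I) →ₐ[R] Λ := Ideal.Quotient.liftₐ I (aeval val) hβ₀
  have hβ : ∀ x, β (πB x) = aeval val x := fun x => rfl
  -- the map from `A`
  let α₀ : MvPolynomial (Fin p) R →ₐ[R] (MvPolynomial (Var p n r M) R ⧸ I) :=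
    πB.comp (rename (vv n r M))
  have hα₀ : ∀ x ∈ RingHom.ker πA, α₀ x = 0 := by
    intro x hx
    have hx' : x ∈ Ideal.span (Set.range G) := by
      rw [← hG]
      exact hx
    refine Submodule.span_induction (p := fun x _ => α₀ x = 0) ?_ ?_ ?_ ?_ hx'
    · rintro _ ⟨k, rfl⟩
      exact hπB0 _ (Ideal.subset_span ⟨Sum.inl k, rfl⟩)
    · exact map_zero _
    · intro x y _ _ hx hy
      rw [map_add, hx, hy, add_zero]
    · intro a x _ hx
      rw [smul_eq_mul, map_mul, hx, mul_zero]
  let α : A →ₐ[R] (MvPolynomial (Var p n r M) R ⧸ I) :=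
    (Ideal.Quotient.liftₐ (RingHom.ker πA) α₀ hα₀).comp
      (Ideal.quotientKerAlgEquivOfSurjective hπA).symm.toAlgHom
  have hα : ∀ q, α (πA q) = πB (rename (vv n r M) q) := by
    intro q
    show (Ideal.Quotient.liftₐ (RingHom.ker πA) α₀ hα₀)
      ((Ideal.quotientKerAlgEquivOfSurjective hπA).symm (πA q)) = α₀ q
    have : (Ideal.quotientKerAlgEquivOfSurjective hπA).symm (πA q) =
        Ideal.Quotient.mk (RingHom.ker πA) q := by
      rw [AlgEquiv.symm_apply_eq]
      rfl
    rw [this]
    rfl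
  have hαβ : β.comp α = h.comp ι := by
    ext x
    obtain ⟨q, rfl⟩ := hπA x
    rw [AlgHom.comp_apply, hα, hβ, hval_vv]
    rfl
  have hfp : Algebra.FinitePresentation R (MvPolynomial (Var p n r M) R ⧸ I) := by
    apply Algebra.FinitePresentation.quotient
    exact ⟨(Set.finite_range (rel r G K)).toFinset, by simp [hI]⟩
  refine ⟨MvPolynomial (Var p n r M) R ⧸ I, inferInstance, inferInstance, hfp, α, β, hαβ, ?_, ?_⟩
  · -- the `y`-part
    intro ℓ
    refine ⟨πB (rename (vv n r M) (at' ℓ) * X (yv p n M ℓ)), ?_, ?_⟩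
    · apply mem_singularIdeal_of_forall
      intro Q hQ hbQ
      have hyQ : πB (X (yv p n M ℓ)) ∉ Q := fun hc => hbQ (by
        rw [map_mul]
        exact Ideal.mul_mem_left _ _ hc)
      have haQ : πB (rename (vv n r M) (at' ℓ)) ∉ Q := fun hc => hbQ (by
        rw [map_mul]
        exact Ideal.mul_mem_right _ _ hc)
      haveI h𝔭 : (Q.comap α).IsPrime := Ideal.comap_isPrime α Q
      have hat𝔭 : πA (at' ℓ) ∉ Q.comap α := by
        rw [Ideal.mem_comap, hα]
        exact haQ
      haveI hsm : Algebra.IsSmoothAt R (Q.comap α) :=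
        isSmoothAt_of_mem_singularIdeal (hat ℓ) (Q.comap α) hat𝔭
      obtain ⟨aA, haA, c, rowsA, colsA, a', haa', hkillA⟩ :=
        exists_standard_element' G πA hπA hG (Q.comap α)
      obtain ⟨aAt, haAt⟩ := hπA aA
      have haA' : πB (rename (vv n r M) aAt) ∉ Q := by
        rw [← hα, haAt]
        exact haA
      have hminA : πB (rename (vv n r M) (minor G rowsA colsA)) ∉ Q := by
        rw [← hα]
        intro hc
        apply haA
        rw [haa']
        exact Ideal.mul_mem_left _ _ hc
      refine isSmoothAt_of_minor_notMem' (rel r G K) πB hπB hkerB (rowsY M ℓ rowsA)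
        (Sum.elim (fun k => vv n r M (colsA k))
          (Sum.elim (fun j : Fin M => tv p n ℓ j) (fun _ : Unit => zv p n r M))) Q ?_
        (rename (vv n r M) aAt * X (yv p n M ℓ)) ?_
        (kill_y G K ℓ rowsA aAt (hkillA aAt haAt))
      · have := minor_y G K ℓ rowsA colsA
        unfold rowsY
        rw [this, map_mul, map_mul, map_pow, map_pow, map_neg]
        intro hc
        rcases (Ideal.IsPrime.mul_mem_iff_mem_or_mem hQ).mp hc with h1 | h1
        · exact hminA h1
        · rcases (Ideal.IsPrime.mul_mem_iff_mem_or_mem hQ).mp h1 with h2 | h2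
          · exact hyQ (neg_mem_iff.mp (hQ.mem_of_pow_mem _ h2))
          · exact hyQ (hQ.mem_of_pow_mem _ h2)
      · rw [map_mul]
        intro hc
        rcases (Ideal.IsPrime.mul_mem_iff_mem_or_mem hQ).mp hc with h1 | h1
        · exact haA' h1
        · exact hyQ h1
    · rw [hβ, map_mul, hval_vv, hval_y, pow_succ']
  · -- the `z`-part
    refine ⟨πB (X (zv p n r M) * rename Sum.inl ct), ?_, ?_⟩
    · apply mem_singularIdeal_of_forall
      intro Q hQ hbQ
      have hzQ : πB (X (zv p n r M)) ∉ Q := fun hc => hbQ (by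
        rw [map_mul]
        exact Ideal.mul_mem_right _ _ hc)
      have hcQ : πB (rename Sum.inl ct) ∉ Q := fun hc => hbQ (by
        rw [map_mul]
        exact Ideal.mul_mem_left _ _ hc)
      set ψ : MvPolynomial (Fin p ⊕ Fin n) R →ₐ[R] (MvPolynomial (Var p n r M) R ⧸ I) :=
        πB.comp (rename Sum.inl) with hψ
      have hψa : ∀ q, ψ q = πB (rename Sum.inl q) := fun q => rfl
      haveI h𝔓 : (Q.comap ψ).IsPrime := Ideal.comap_isPrime ψ Q
      have hker𝔓 : RingHom.ker πC ≤ Q.comap ψ := by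
        intro x hx
        have hx' : x ∈ Ideal.span (Set.range K) := by
          rw [← hK]
          exact hx
        have h1 := hπB0 _ (z_mul_mem G K x hx')
        rw [map_mul] at h1
        rw [Ideal.mem_comap, hψa]
        have h2 : πB (X (zv p n r M)) * πB (rename Sum.inl x) ∈ Q := by
          rw [h1]
          exact Q.zero_mem
        exact ((Ideal.IsPrime.mul_mem_iff_mem_or_mem hQ).mp h2).resolve_left hzQ
      haveI h𝔯 : ((Q.comap ψ).map πC).IsPrime :=
        Ideal.map_isPrime_of_surjective hπC hker𝔓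
      have hmem : ∀ q, πC q ∈ (Q.comap ψ).map πC → q ∈ Q.comap ψ := by
        intro q hq
        obtain ⟨y, hy, hyq⟩ := (Ideal.mem_map_iff_of_surjective πC hπC).mp hq
        have h1 : q - y ∈ RingHom.ker πC := by
          rw [RingHom.mem_ker, map_sub, hyq, sub_self]
        have h2 := Ideal.add_mem _ (hker𝔓 h1) hy
        rwa [sub_add_cancel] at h2
      have hct𝔯 : πC ct ∉ (Q.comap ψ).map πC := fun hc => hcQ (hmem ct hc)
      haveI hsm : Algebra.IsSmoothAt R ((Q.comap ψ).map πC) :=
        isSmoothAt_of_mem_singularIdeal hct _ hct𝔯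
      obtain ⟨aC, haC, c, rowsC, colsC, a', haa', hkillC⟩ :=
        exists_standard_element' K πC hπC hK ((Q.comap ψ).map πC)
      obtain ⟨aCt, haCt⟩ := hπC aC
      have haC' : πB (rename Sum.inl aCt) ∉ Q := by
        intro hc
        apply haC
        rw [← haCt]
        exact Ideal.mem_map_of_mem πC (show aCt ∈ Q.comap ψ from hc)
      have hminC : πB (rename Sum.inl (minor K rowsC colsC)) ∉ Q := by
        intro hc
        apply haC
        rw [haa']
        exact Ideal.mul_mem_left _ _
          (Ideal.mem_map_of_mem πC (show minor K rowsC colsC ∈ Q.comap ψ from hc))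
      refine isSmoothAt_of_minor_notMem' (rel r G K) πB hπB hkerB (rowsZ mA r rowsC)
        (Sum.elim (fun k => Sum.inl (colsC k)) (fun i : Fin r => yv p n M i)) Q ?_
        (X (zv p n r M) ^ 2 * rename Sum.inl aCt) ?_
        (kill_z G K rowsC aCt (hkillC aCt haCt) hGK)
      · have := minor_z (r := r) G K rowsC colsC
        unfold rowsZ
        rw [this, map_mul, map_pow]
        intro hc
        rcases (Ideal.IsPrime.mul_mem_iff_mem_or_mem hQ).mp hc with h1 | h1
        · exact hminC h1
        · exact hzQ (hQ.mem_of_pow_mem _ h1)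
      · rw [map_mul, map_pow]
        intro hc
        rcases (Ideal.IsPrime.mul_mem_iff_mem_or_mem hQ).mp hc with h1 | h1
        · exact hzQ (hQ.mem_of_pow_mem _ h1)
        · exact haC' h1
    · rw [hβ, map_mul, hval_z, hval_inl]

end core

end Groth.Agent.Lib.Seat14.DimZero
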