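import Mathlib
import Groth.Prelude.Def_Smoothing
import Groth.Agent.Lib.Seat14DimZeroA
import Groth.Agent.Lib.Seat14DimZeroB
import Groth.Agent.Lib.Seat14DesingA
import Groth.Agent.Lib.Seat14DesingB
import Groth.Agent.Lib.Seat14DesingC
import Groth.Agent.Lib.Seat14DesingD

/-!
# Desingularization lemma (Stacks 16.7.2), part E: assembly (seat 14)

* `exists_lift`, `exists_t`, `exists_s`, `exists_q'`: extraction of the data `r_i`, `t_j`, `s`, `q'_j` from a strictly
  standard presentation and the map `A → R/π⁴`.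
* `pt`, `aeval_pt_relB`: the point of `Λ` defining `β : B → Λ`.
* `desingularize`: the lemma.
-/

set_option autoImplicit false
set_option linter.style.haveILetI false
set_option linter.unusedSectionVars false
universe u

namespace Groth.Agent.Lib.Seat14.Desing

open MvPolynomial
open Groth.Agent.Lib.Seat14.DimZero

section Data

variable {R : Type u} [CommRing R] {A : Type u} [CommRing A] [Algebra R A] (π : R)
  (P : Smoothing.MarkedPresentation R A) (ρ : A →ₐ[R] R ⧸ Ideal.span {π ^ 4})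

theorem exists_lift :
    ∃ r : Fin P.n → R, ∀ p : MvPolynomial (Fin P.n) R,
      ρ (P.hom p) = Ideal.Quotient.mk (Ideal.span {π ^ 4}) (eval r p) := by
  have h : ∀ i, ∃ ri : R, Ideal.Quotient.mk (Ideal.span {π ^ 4}) ri = ρ (P.hom (X i)) :=
    fun i => Ideal.Quotient.mk_surjective _
  choose r hr using h
  refine ⟨r, fun p => ?_⟩
  have h2 : ρ.comp P.hom = (Ideal.Quotient.mkₐ R (Ideal.span {π ^ 4})).comp (aeval r) := by
    apply MvPolynomial.algHom_ext
    intro i
    simp [hr]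
  have := AlgHom.congr_fun h2 p
  simpa [coe_aeval_eq_eval] using this

theorem rel_mem_ker (j : Fin P.m) : P.hom (P.rel j) = 0 := by
  have : P.rel j ∈ RingHom.ker P.hom.toRingHom := by
    rw [P.ker_eq]
    exact Ideal.subset_span ⟨j, rfl⟩
  exact this

theorem exists_t (r : Fin P.n → R) (hr : ∀ p : MvPolynomial (Fin P.n) R,
      ρ (P.hom p) = Ideal.Quotient.mk (Ideal.span {π ^ 4}) (eval r p)) :
    ∃ t : Fin P.m → R, ∀ j, eval r (P.rel j) = π ^ 4 * t j := by
  have h : ∀ j, ∃ tj, eval r (P.rel j) = π ^ 4 * tj := by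
    intro j
    have h2 := hr (P.rel j)
    rw [rel_mem_ker, map_zero] at h2
    have h3 := Ideal.Quotient.eq_zero_iff_mem.mp h2.symm
    obtain ⟨tj, htj⟩ := Ideal.mem_span_singleton'.mp h3
    exact ⟨tj, by rw [← htj]; ring⟩
  choose t ht using h
  exact ⟨t, ht⟩

theorem exists_s (r : Fin P.n → R) (hr : ∀ p : MvPolynomial (Fin P.n) R,
      ρ (P.hom p) = Ideal.Quotient.mk (Ideal.span {π ^ 4}) (eval r p))
    (hspan : algebraMap R A π ∈ Ideal.span (Set.range fun cols : Fin P.c → Fin P.n =>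
        P.hom (Smoothing.jacobianMinor P.rel (Fin.castLE P.hcm) cols))) :
    ∃ (t₀ : R) (s : Matrix (Fin P.n) (Fin P.c) R), ∀ j k : Fin P.c,
      ∑ i, rr P.rel r (Fin.castLE P.hcm j) i * s i k =
        if j = k then (1 + π ^ 3 * t₀) * π else 0 := by
  classical
  obtain ⟨coefA, hcoefA⟩ := (Ideal.mem_span_range_iff_exists_fun).mp hspan
  have h : ∀ cols, ∃ x : R, Ideal.Quotient.mk (Ideal.span {π ^ 4}) x = ρ (coefA cols) :=
    fun _ => Ideal.Quotient.mk_surjective _
  choose coef hcoef using h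
  set M : Matrix (Fin P.c) (Fin P.n) R :=
    Matrix.of fun j i => rr P.rel r (Fin.castLE P.hcm j) i with hMdef
  have hminor : ∀ cols : Fin P.c → Fin P.n,
      eval r (Smoothing.jacobianMinor P.rel (Fin.castLE P.hcm) cols) =
        (M.submatrix id cols).det := by
    intro cols
    unfold Smoothing.jacobianMinor
    rw [RingHom.map_det]
    congr 1
  have h1 : Ideal.Quotient.mk (Ideal.span {π ^ 4})
      (∑ cols, coef cols * (M.submatrix id cols).det) =
      Ideal.Quotient.mk (Ideal.span {π ^ 4}) π := by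
    have h2 := congrArg ρ hcoefA
    rw [map_sum, AlgHom.commutes] at h2
    rw [map_sum]
    have h4 : Ideal.Quotient.mk (Ideal.span {π ^ 4}) π =
        algebraMap R (R ⧸ Ideal.span {π ^ 4}) π := rfl
    rw [h4, ← h2]
    refine Finset.sum_congr rfl fun cols _ => ?_
    rw [map_mul, map_mul, hr, hminor, hcoef]
  obtain ⟨t₀, ht₀⟩ : ∃ t₀, (1 + π ^ 3 * t₀) * π =
      ∑ cols, coef cols * (M.submatrix id cols).det := by
    have h3 := Ideal.Quotient.eq.mp h1
    obtain ⟨z, hz⟩ := Ideal.mem_span_singleton'.mp h3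
    exact ⟨z, by linear_combination hz⟩
  obtain ⟨s, hs⟩ := exists_mul_eq_smul_one M ((1 + π ^ 3 * t₀) * π) coef ht₀
  refine ⟨t₀, s, fun j k => ?_⟩
  have := congrFun (congrFun hs j) k
  simp only [Matrix.mul_apply, Matrix.smul_apply, Matrix.one_apply, hMdef, Matrix.of_apply] at this
  rw [this]
  split_ifs <;> simp

end Data

section Taylor

variable {R : Type u} [CommRing R] {n m c : ℕ}
  (f : Fin m → MvPolynomial (Fin n) R) (π : R) (r : Fin n → R)
  (s : Matrix (Fin n) (Fin c) R) (t : Fin m → R)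

theorem aeval_C_comp (p : MvPolynomial (Fin n) R) :
    aeval (fun i => (C (r i) : MvPolynomial (Fin c ⊕ Fin n) R)) p = C (eval r p) := by
  induction p using MvPolynomial.induction_on with
  | C a => simp
  | add p q hp hq => rw [map_add, hp, hq, map_add, map_add]
  | mul_X p i hp => rw [map_mul, hp, aeval_X, map_mul, eval_X, map_mul]

theorem exists_q' (ht : ∀ j, eval r (f j) = π ^ 4 * t j) :
    ∃ q' : Fin m → MvPolynomial (Fin c ⊕ Fin n) R,
      ∀ j, aeval (sub π r s) (f j) = C (π ^ 2) * GG f π r s t q' j := by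
  classical
  have h : ∀ j, ∃ q : MvPolynomial (Fin c ⊕ Fin n) R, aeval (sub π r s) (f j) =
      C (π ^ 2) * (C (π ^ 2) * C (t j) + ∑ i, C (rr f r j i) * yy π s i + C (π ^ 2) * q) := by
    intro j
    obtain ⟨q, hq⟩ := taylor_one (R := R)
      (fun i => (C (r i) : MvPolynomial (Fin c ⊕ Fin n) R)) (yy π s) (C (π ^ 2)) (f j)
    refine ⟨q, ?_⟩
    have hsub : sub π r s = fun i => C (r i) + C (π ^ 2) * yy π s i := rfl
    rw [hsub, hq, aeval_C_comp, ht]
    simp only [aeval_C_comp, rr]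
    rw [map_mul, show (4 : ℕ) = 2 + 2 from rfl, pow_add, map_mul]
    ring
  choose q' hq' using h
  exact ⟨q', hq'⟩

end Taylor

section Point

variable {R : Type u} [CommRing R] {Λ : Type u} [CommRing Λ] [Algebra R Λ] {n m c : ℕ} (hcm : c ≤ m)
  (f : Fin m → MvPolynomial (Fin n) R) (π : R) (r : Fin n → R)
  (s : Matrix (Fin n) (Fin c) R) (u : R) (t : Fin m → R)
  (q' : Fin m → MvPolynomial (Fin c ⊕ Fin n) R)
  (ξ lam : Fin n → Λ)

/-- The auxiliary point `v = 0`, `w = π λ`. -/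
noncomputable def pt₀ : Fin c ⊕ Fin n → Λ :=
  Sum.elim (fun _ => 0) (fun i => algebraMap R Λ π * lam i)

/-- The values `γ_k = g_k(0, π λ)`. -/
noncomputable def gam (k : Fin c) : Λ := aeval (pt₀ (c := c) π lam) (gg hcm f π r u t q' k)

/-- The point `v = -γ`, `w = π λ`. -/
noncomputable def ptvw : Fin c ⊕ Fin n → Λ :=
  Sum.elim (fun k => - gam hcm f π r u t q' lam k) (fun i => algebraMap R Λ π * lam i)

/-- The point of `Λ` defining `β`. -/
noncomputable def pt : Fin n ⊕ (Fin c ⊕ Fin n) → Λ :=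
  Sum.elim ξ (ptvw hcm f π r u t q' lam)

variable (hΛ : ∀ x : Λ, π ^ 2 • x = 0 → π • x = 0)
  (t₀ : R) (hu : u = 1 + π ^ 3 * t₀)
  (hT : ∀ j, aeval (sub π r s) (f j) = C (π ^ 2) * GG f π r s t q' j)
  (hG : ∀ k : Fin c, GG f π r s t q' (Fin.castLE hcm k) = C π * gg hcm f π r u t q' k)
  (hξ : ∀ i, ξ i = algebraMap R Λ (r i) + algebraMap R Λ (π ^ 4) * lam i)
  (hfξ : ∀ j, aeval ξ (f j) = 0)

include hξ in
theorem aeval_pt₀_sub (i : Fin n) : aeval (pt₀ (c := c) π lam) (sub π r s i) = ξ i := by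
  unfold sub yy
  rw [map_add, map_mul, map_add, map_sum, aeval_C, aeval_C, map_mul, aeval_C, aeval_X]
  simp only [map_mul, aeval_C, aeval_X, pt₀, Sum.elim_inl, Sum.elim_inr, mul_zero,
    Finset.sum_const_zero, zero_add]
  rw [hξ, map_pow, map_pow]
  ring

include hΛ hT hG hξ hfξ in
theorem smul_gam (k : Fin c) : algebraMap R Λ π * gam hcm f π r u t q' lam k = 0 := by
  have h1 := congrArg (aeval (pt₀ (c := c) π lam)) (hT (Fin.castLE hcm k))
  have h2 : aeval (pt₀ (c := c) π lam) (aeval (sub π r s) (f (Fin.castLE hcm k))) =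
      aeval (fun i => aeval (pt₀ (c := c) π lam) (sub π r s i)) (f (Fin.castLE hcm k)) := by
    have := MvPolynomial.comp_aeval (R := R) (sub π r s) (aeval (pt₀ (c := c) π lam))
    exact AlgHom.congr_fun this _
  rw [h2] at h1
  simp only [aeval_pt₀_sub π r s ξ lam hξ] at h1
  rw [hfξ, hG, map_mul, map_mul, aeval_C, aeval_C] at h1
  change 0 = _ * (_ * gam hcm f π r u t q' lam k) at h1
  have h3 : π ^ 2 • (algebraMap R Λ π * gam hcm f π r u t q' lam k) = 0 := by
    rw [Algebra.smul_def, ← h1]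
  have h4 := hΛ _ h3
  have h5 : π ^ 2 • gam hcm f π r u t q' lam k = 0 := by
    rw [Algebra.smul_def, map_pow, pow_two, mul_assoc, ← Algebra.smul_def π]
    exact h4
  have h6 := hΛ _ h5
  rwa [Algebra.smul_def] at h6

include hΛ hT hG hξ hfξ in
theorem smul_mem_span_gam (x : Λ)
    (hx : x ∈ Ideal.span (Set.range (gam hcm f π r u t q' lam))) :
    algebraMap R Λ π * x = 0 := by
  induction hx using Submodule.span_induction with
  | mem x hx =>
    obtain ⟨k, rfl⟩ := hx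
    exact smul_gam hcm f π r s u t q' ξ lam hΛ hT hG hξ hfξ k
  | zero => rw [mul_zero]
  | add x y _ _ hx hy => rw [mul_add, hx, hy, add_zero]
  | smul a x _ hx => rw [smul_eq_mul, mul_left_comm, hx, mul_zero]

theorem ptvw_sub_pt₀_mem (x : Fin c ⊕ Fin n) :
    ptvw hcm f π r u t q' lam x - pt₀ (c := c) π lam x ∈
      Ideal.span (Set.range (gam hcm f π r u t q' lam)) := by
  rcases x with k | i
  · simp only [ptvw, pt₀, Sum.elim_inl, sub_zero]
    exact Ideal.neg_mem_iff _ |>.mpr (Ideal.subset_span ⟨k, rfl⟩)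
  · simp only [ptvw, pt₀, Sum.elim_inr, sub_self]
    exact Ideal.zero_mem _

include hΛ hT hG hξ hfξ in
theorem aeval_ptvw_sub (i : Fin n) :
    aeval (ptvw hcm f π r u t q' lam) (sub π r s i) = ξ i := by
  have h1 := aeval_sub_aeval_mem (R := R) _ _ _ (ptvw_sub_pt₀_mem hcm f π r u t q' lam)
    (yy π s i)
  have h2 := smul_mem_span_gam hcm f π r s u t q' ξ lam hΛ hT hG hξ hfξ _ h1
  rw [← aeval_pt₀_sub (c := c) π r s ξ lam hξ i]
  unfold sub
  simp only [map_add, map_mul, aeval_C, map_pow]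
  linear_combination (algebraMap R Λ π) * h2

include hΛ hu hT hG hξ hfξ in
theorem aeval_ptvw_gg (k : Fin c) :
    aeval (ptvw hcm f π r u t q' lam) (gg hcm f π r u t q' k) = 0 := by
  have hγ := smul_gam hcm f π r s u t q' ξ lam hΛ hT hG hξ hfξ k
  have h1 := aeval_sub_aeval_mem (R := R) _ _ _ (ptvw_sub_pt₀_mem hcm f π r u t q' lam)
    (q' (Fin.castLE hcm k))
  have h2 := smul_mem_span_gam hcm f π r s u t q' ξ lam hΛ hT hG hξ hfξ _ h1
  have h3 : gam hcm f π r u t q' lam k =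
      aeval (pt₀ (c := c) π lam) (gg hcm f π r u t q' k) := rfl
  have h4 : aeval (ptvw hcm f π r u t q' lam) (gg hcm f π r u t q' k) -
      aeval (pt₀ (c := c) π lam) (gg hcm f π r u t q' k) =
      - (algebraMap R Λ u * gam hcm f π r u t q' lam k) +
        algebraMap R Λ π * (aeval (ptvw hcm f π r u t q' lam) (q' (Fin.castLE hcm k)) -
          aeval (pt₀ (c := c) π lam) (q' (Fin.castLE hcm k))) := by
    unfold gg
    simp only [map_add, map_mul, map_sum, aeval_C, aeval_X]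
    simp only [ptvw, pt₀, Sum.elim_inl, Sum.elim_inr]
    ring
  rw [h2, add_zero, ← h3] at h4
  have h5 : algebraMap R Λ u = 1 + (algebraMap R Λ π) ^ 3 * algebraMap R Λ t₀ := by
    rw [hu, map_add, map_one, map_mul, map_pow]
  rw [h5] at h4
  linear_combination h4 - (algebraMap R Λ π) ^ 2 * (algebraMap R Λ t₀) * hγ

include hΛ hu hT hG hξ hfξ in
theorem aeval_pt_relB (x : Fin m ⊕ (Fin n ⊕ Fin c)) :
    aeval (pt hcm f π r u t q' ξ lam) (relB hcm f π r s u t q' x) = 0 := by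
  have hinl : ∀ p : MvPolynomial (Fin n) R,
      aeval (pt hcm f π r u t q' ξ lam) (rename Sum.inl p) = aeval ξ p := by
    intro p
    rw [aeval_rename]
    rfl
  have hinr : ∀ p : MvPolynomial (Fin c ⊕ Fin n) R,
      aeval (pt hcm f π r u t q' ξ lam) (rename Sum.inr p) =
        aeval (ptvw hcm f π r u t q' lam) p := by
    intro p
    rw [aeval_rename]
    rfl
  rcases x with j | i | k
  · show aeval _ (rename Sum.inl (f j)) = 0
    rw [hinl, hfξ]
  · show aeval _ (X (Sum.inl i) - rename Sum.inr (sub π r s i)) = 0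
    rw [map_sub, aeval_X, hinr, aeval_ptvw_sub hcm f π r s u t q' ξ lam hΛ hT hG hξ hfξ]
    exact sub_self _
  · show aeval _ (rename Sum.inr (gg hcm f π r u t q' k)) = 0
    rw [hinr, aeval_ptvw_gg hcm f π r s u t q' ξ lam hΛ t₀ hu hT hG hξ hfξ]

end Point

section Main

/-- Stacks 16.7.2 (the desingularization lemma): the algebra `B = R[x,v,w]/(f_j(x), h_i, g_k)`. -/
theorem desingularize {R Λ A : Type u} [CommRing R] [CommRing Λ]
    [Algebra R Λ] (π : R) (hΛ : ∀ x : Λ, π ^ 2 • x = 0 → π • x = 0) [CommRing A] [Algebra R A]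
    (φ : A →ₐ[R] Λ)
    (hπ : Smoothing.IsStrictlyStandard R A (algebraMap R A π))
    (ρ : A →ₐ[R] R ⧸ Ideal.span {π ^ 4})
    (hρ : ∀ (a : A) (r : R), Ideal.Quotient.mk (Ideal.span {π ^ 4}) r = ρ a →
      algebraMap R Λ r - φ a ∈ Ideal.span {algebraMap R Λ (π ^ 4)}) :
    ∃ (B : Type u) (_ : CommRing B) (_ : Algebra R B), Algebra.FinitePresentation R B ∧
      ∃ (α : A →ₐ[R] B) (β : B →ₐ[R] Λ), β.comp α = φ ∧
        ∀ r : R, (∀ x : R, π ^ 2 * x = 0 → π * (r * x) = 0) →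
          algebraMap R B r ∈ Smoothing.singularIdeal R B := by
  classical
  obtain ⟨P, hspan, hkillP⟩ := hπ
  obtain ⟨r, hr⟩ := exists_lift π P ρ
  obtain ⟨t, ht⟩ := exists_t π P ρ r hr
  obtain ⟨t₀, s, hM⟩ := exists_s π P ρ r hr hspan
  obtain ⟨q', hT⟩ := exists_q' (c := P.c) P.rel π r s t ht
  obtain ⟨u, hu⟩ : ∃ u, u = 1 + π ^ 3 * t₀ := ⟨_, rfl⟩
  rw [← hu] at hM
  have hG := GG_castLE P.hcm P.rel π r s u t q' hM
  have hkill : ∀ j : Fin P.m, P.c ≤ (j : ℕ) → C π * P.rel j ∈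
      Ideal.span (P.rel '' {j' : Fin P.m | (j' : ℕ) < P.c}) ⊔
        Ideal.span (Set.range P.rel) ^ 2 := by
    intro j hj
    exact hkillP (C π) (by rw [← algebraMap_eq, AlgHom.commutes]) j hj
  -- the `λ`'s
  have hlam : ∀ i, ∃ l : Λ, φ (P.hom (X i)) =
      algebraMap R Λ (r i) + algebraMap R Λ (π ^ 4) * l := by
    intro i
    have h1 := hρ (P.hom (X i)) (r i) (by rw [hr, eval_X])
    obtain ⟨l, hl⟩ := Ideal.mem_span_singleton'.mp h1
    exact ⟨-l, by linear_combination hl⟩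
  choose lam hlam using hlam
  obtain ⟨ξ, hξdef⟩ : ∃ ξ : Fin P.n → Λ, ξ = fun i => φ (P.hom (X i)) := ⟨_, rfl⟩
  have hξ : ∀ i, ξ i = algebraMap R Λ (r i) + algebraMap R Λ (π ^ 4) * lam i := by
    intro i
    rw [hξdef]
    exact hlam i
  have hξp : ∀ p : MvPolynomial (Fin P.n) R, aeval ξ p = φ (P.hom p) := by
    intro p
    have : aeval ξ = φ.comp P.hom := by
      apply MvPolynomial.algHom_ext
      intro i
      simp [hξdef]
    rw [this]
    rfl
  have hfξ : ∀ j, aeval ξ (P.rel j) = 0 := by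
    intro j
    rw [hξp, rel_mem_ker, map_zero]
  -- the algebra `B`
  obtain ⟨I, hI⟩ : ∃ I : Ideal (MvPolynomial (Fin P.n ⊕ (Fin P.c ⊕ Fin P.n)) R),
      I = Ideal.span (Set.range (relB P.hcm P.rel π r s u t q')) := ⟨_, rfl⟩
  refine ⟨MvPolynomial (Fin P.n ⊕ (Fin P.c ⊕ Fin P.n)) R ⧸ I, inferInstance, inferInstance,
    ?_, ?_⟩
  · rw [hI]
    exact Algebra.FinitePresentation.quotient (Submodule.fg_span (Set.finite_range _))
  obtain ⟨πB, hπB⟩ : ∃ πB : MvPolynomial (Fin P.n ⊕ (Fin P.c ⊕ Fin P.n)) R →ₐ[R]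
      MvPolynomial (Fin P.n ⊕ (Fin P.c ⊕ Fin P.n)) R ⧸ I, πB = Ideal.Quotient.mkₐ R I := ⟨_, rfl⟩
  have hsurj : Function.Surjective πB := by
    rw [hπB]
    exact Ideal.Quotient.mkₐ_surjective R I
  have hker : RingHom.ker πB.toRingHom =
      Ideal.span (Set.range (relB P.hcm P.rel π r s u t q')) := by
    rw [hπB, ← hI]
    ext x
    simp
  have hrelmem : ∀ x, πB (relB P.hcm P.rel π r s u t q' x) = 0 := by
    intro x
    have : relB P.hcm P.rel π r s u t q' x ∈ RingHom.ker πB.toRingHom := by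
      rw [hker]
      exact Ideal.subset_span ⟨x, rfl⟩
    exact this
  -- the map `α`
  have H : RingHom.ker P.hom.toRingHom ≤
      RingHom.ker (πB.comp (rename Sum.inl : MvPolynomial (Fin P.n) R →ₐ[R]
        MvPolynomial (Fin P.n ⊕ (Fin P.c ⊕ Fin P.n)) R)).toRingHom := by
    rw [P.ker_eq, Ideal.span_le]
    rintro _ ⟨j, rfl⟩
    exact hrelmem (Sum.inl j)
  obtain ⟨α, hα⟩ : ∃ α : A →ₐ[R] MvPolynomial (Fin P.n ⊕ (Fin P.c ⊕ Fin P.n)) R ⧸ I,
      ∀ p, α (P.hom p) = πB (rename Sum.inl p) :=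
    ⟨AlgHom.liftOfSurjective P.hom P.surj _ H,
      fun p => AlgHom.liftOfSurjective_apply P.hom P.surj _ H p⟩
  -- the map `β`
  have hβ0 : ∀ a ∈ I, aeval (pt P.hcm P.rel π r u t q' ξ lam) a = 0 := by
    have : I ≤ RingHom.ker (aeval (pt P.hcm P.rel π r u t q' ξ lam) :
        MvPolynomial (Fin P.n ⊕ (Fin P.c ⊕ Fin P.n)) R →ₐ[R] Λ).toRingHom := by
      rw [hI, Ideal.span_le]
      rintro _ ⟨x, rfl⟩
      exact aeval_pt_relB P.hcm P.rel π r s u t q' ξ lam hΛ t₀ hu hT hG hξ hfξ x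
    exact fun a ha => this ha
  obtain ⟨β, hβ⟩ : ∃ β : (MvPolynomial (Fin P.n ⊕ (Fin P.c ⊕ Fin P.n)) R ⧸ I) →ₐ[R] Λ,
      ∀ p, β (πB p) = aeval (pt P.hcm P.rel π r u t q' ξ lam) p := by
    refine ⟨Ideal.Quotient.liftₐ I _ hβ0, fun p => ?_⟩
    rw [hπB]
    rfl
  refine ⟨α, β, ?_, ?_⟩
  · rw [← AlgHom.cancel_right P.surj]
    apply MvPolynomial.algHom_ext
    intro i
    rw [AlgHom.comp_apply, AlgHom.comp_apply, hα, rename_X, hβ, aeval_X, AlgHom.comp_apply]
    show ξ i = _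
    rw [hξdef]
  · intro r₀ hr₀'
    have hr₀ : ∀ x : R, π ^ 3 * x = 0 → π * (r₀ ^ 2 * x) = 0 := by
      intro x hx
      have h1 : π ^ 2 * (π * x) = 0 := by rw [← hx]; ring
      have h2 := hr₀' _ h1
      have h3 : π ^ 2 * (r₀ * x) = 0 := by rw [← h2]; ring
      have h4 := hr₀' _ h3
      rw [← h4]
      ring
    apply mem_singularIdeal_of_forall
    intro 𝔮 h𝔮 hr₀𝔮
    by_cases hπ𝔮 : algebraMap R (MvPolynomial (Fin P.n ⊕ (Fin P.c ⊕ Fin P.n)) R ⧸ I) π ∈ 𝔮
    · exact isSmoothAt_of_mem P.hcm P.rel π r s u t q' πB hsurj hker hT hG hkill t₀ hu r₀ hr₀ 𝔮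
        hπ𝔮 hr₀𝔮
    · obtain ⟨coefA, hcoefA⟩ := (Ideal.mem_span_range_iff_exists_fun).mp hspan
      have hex : ∃ cols₀ : Fin P.c → Fin P.n,
          πB (rename Sum.inl (Smoothing.jacobianMinor P.rel (Fin.castLE P.hcm) cols₀)) ∉ 𝔮 := by
        by_contra hall
        push Not at hall
        apply hπ𝔮
        have h1 := congrArg α hcoefA
        rw [map_sum, AlgHom.commutes] at h1
        rw [← h1]
        refine Ideal.sum_mem _ fun cols _ => ?_
        rw [map_mul, hα]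
        exact Ideal.mul_mem_left _ _ (hall cols)
      obtain ⟨cols₀, hcols₀⟩ := hex
      exact isSmoothAt_of_notMem P.hcm P.rel π r s u t q' πB hsurj hker hT hG hkill cols₀ 𝔮
        hπ𝔮 hcols₀

end Main

end Groth.Agent.Lib.Seat14.Desing
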