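import Mathlib
import Groth.Prelude.Def_Smoothing
import Groth.Agent.Lib.Seat14DimZeroB
import Groth.Agent.Lib.Seat14DesingE
import Groth.Agent.S6829

/-!
# Desingularization over a base `D` (Stacks 16.7.3) (seat 14)

* `smul_eq_zero_of_flat`: over a flat module, `Ann(π²) = Ann(π)` is inherited from the ring.
* `exists_notMem_forall_ann`: at a prime `𝔮` of `D` where `R → D` is smooth there is `a ∉ 𝔮` with
  `a · Ann_D(π²) ⊆ Ann_D(π)`.
* `isSmoothAt_comp`: smoothness at primes composes.
* `desingularize_strictly_standard`: Stacks 16.7.3, by applying `desingularize` to `D → D ⊗ A → Λ`.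
-/

set_option autoImplicit false
set_option linter.style.haveILetI false
set_option linter.unusedSectionVars false
universe u

namespace Groth.Agent.Lib.Seat14.Desing

open MvPolynomial TensorProduct
open Groth.Agent.Lib.Seat14.DimZero

theorem smul_eq_zero_of_flat {R M : Type*} [CommRing R] [AddCommGroup M] [Module R M]
    [Module.Flat R M] (π : R) (hR : ∀ r : R, π ^ 2 * r = 0 → π * r = 0) (y : M)
    (hy : π ^ 2 • y = 0) : π • y = 0 := by
  have h : ∑ i : Fin 1, (fun _ => π ^ 2 : Fin 1 → R) i • (fun _ => y : Fin 1 → M) i = 0 := by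
    simpa using hy
  obtain ⟨k, a, z, hz, ha⟩ := Module.Flat.isTrivialRelation_of_sum_smul_eq_zero h
  have h0 := hz 0
  simp only at h0
  rw [h0, Finset.smul_sum]
  refine Finset.sum_eq_zero fun j _ => ?_
  rw [smul_smul, hR (a 0 j) (by simpa using ha j), zero_smul]

theorem exists_notMem_forall_ann {R D : Type u} [CommRing R] [IsNoetherianRing R] [CommRing D]
    [Algebra R D] [Algebra.FinitePresentation R D] (π : R)
    (hR : ∀ r : R, π ^ 2 * r = 0 → π * r = 0)
    (𝔮 : Ideal D) [𝔮.IsPrime] (h𝔮 : Algebra.IsSmoothAt R 𝔮) :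
    ∃ a ∉ 𝔮, ∀ x : D, (algebraMap R D π) ^ 2 * x = 0 → algebraMap R D π * (a * x) = 0 := by
  classical
  obtain ⟨g, hg, hsm⟩ := Algebra.IsSmoothAt.exists_notMem_smooth R 𝔮
  have hflat : Module.Flat R (Localization.Away g) := inferInstance
  have hD : IsNoetherianRing D := Algebra.FiniteType.isNoetherianRing R D
  have hx : ∀ x : D, (algebraMap R D π) ^ 2 * x = 0 →
      ∃ k : ℕ, g ^ k * (algebraMap R D π * x) = 0 := by
    intro x hx
    have h1 : π ^ 2 • algebraMap D (Localization.Away g) x = 0 := by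
      rw [Algebra.smul_def, IsScalarTower.algebraMap_apply R D (Localization.Away g), ← map_mul,
        map_pow, hx, map_zero]
    have h2 := smul_eq_zero_of_flat π hR _ h1
    have h3 : algebraMap D (Localization.Away g) (algebraMap R D π * x) = 0 := by
      rw [map_mul, ← IsScalarTower.algebraMap_apply, ← Algebra.smul_def]
      exact h2
    obtain ⟨⟨_, k, rfl⟩, hk⟩ := (IsLocalization.map_eq_zero_iff (Submonoid.powers g) _ _).mp h3
    exact ⟨k, hk⟩
  choose! k hk using hx
  obtain ⟨N, hN⟩ : ∃ N : Ideal D, ∀ x, x ∈ N ↔ (algebraMap R D π) ^ 2 * x = 0 :=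
    ⟨LinearMap.ker (LinearMap.mulLeft D ((algebraMap R D π) ^ 2)), fun x => by simp⟩
  obtain ⟨S, hS⟩ := (IsNoetherian.noetherian N : N.FG)
  refine ⟨g ^ (S.sup k), fun h => hg (Ideal.IsPrime.mem_of_pow_mem inferInstance _ h), ?_⟩
  have key : ∀ x ∈ Submodule.span D (S : Set D),
      algebraMap R D π * (g ^ (S.sup k) * x) = 0 := by
    intro x hx
    induction hx using Submodule.span_induction with
    | mem x hxS =>
      have hxN : x ∈ N := by
        rw [← hS]
        exact Submodule.subset_span hxS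
      have h1 := hk x ((hN x).mp hxN)
      obtain ⟨e, he⟩ := Nat.exists_eq_add_of_le (Finset.le_sup hxS : k x ≤ S.sup k)
      rw [he, pow_add]
      linear_combination (g ^ e) * h1
    | zero => simp
    | add x y _ _ hx hy =>
      rw [mul_add, mul_add, hx, hy, add_zero]
    | smul a x _ hx =>
      rw [smul_eq_mul]
      linear_combination a * hx
  intro x hx
  refine key x ?_
  rw [hS]
  exact (hN x).mpr hx


/-- Composition of smoothness at primes. -/
theorem isSmoothAt_comp {R D B : Type u} [CommRing R] [CommRing D] [Algebra R D] [CommRing B]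
    [Algebra R B] [Algebra D B] [IsScalarTower R D B] (𝔮' : Ideal B) [𝔮'.IsPrime]
    (h1 : Algebra.IsSmoothAt D 𝔮') (h2 : Algebra.IsSmoothAt R (𝔮'.under D)) :
    Algebra.IsSmoothAt R 𝔮' := by
  letI := Localization.AtPrime.algebraOfLiesOver (𝔮'.under D) 𝔮'
  have h3 : Algebra.FormallySmooth (Localization.AtPrime (𝔮'.under D)) (Localization.AtPrime 𝔮') :=
    Algebra.FormallySmooth.localization_base (R := D) (𝔮'.under D).primeCompl
  exact Algebra.FormallySmooth.comp R (Localization.AtPrime (𝔮'.under D)) (Localization.AtPrime 𝔮')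


section BaseD

variable {R Λ A D : Type u} [CommRing R] [CommRing Λ] [Algebra R Λ] [CommRing A] [Algebra R A]
  [CommRing D] [Algebra R D] [Algebra D Λ] [IsScalarTower R D Λ]

/-- The compatibility of the induced section `D ⊗ A → D/π⁴` with the maps to `Λ`. -/
theorem hρ_baseChange (φ : A →ₐ[R] Λ) (πD : D) (J : Ideal Λ)
    (hJ : algebraMap D Λ (πD ^ 4) ∈ J)
    (ψ : A →ₐ[R] D ⧸ Ideal.span {πD ^ 4})
    (hψ : ∀ (a : A) (d : D), Ideal.Quotient.mk (Ideal.span {πD ^ 4}) d = ψ a →
      algebraMap D Λ d - φ a ∈ J)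
    (x : D ⊗[R] A) (d : D)
    (hd : Ideal.Quotient.mk (Ideal.span {πD ^ 4}) d =
      Algebra.TensorProduct.lift (Algebra.ofId D (D ⧸ Ideal.span {πD ^ 4})) ψ
        (fun _ _ => Commute.all _ _) x) :
    algebraMap D Λ d - Algebra.TensorProduct.lift (Algebra.ofId D Λ) φ
        (fun _ _ => Commute.all _ _) x ∈ J := by
  have hex : ∀ x : D ⊗[R] A, ∃ d₀ : D, Ideal.Quotient.mk (Ideal.span {πD ^ 4}) d₀ =
      Algebra.TensorProduct.lift (Algebra.ofId D (D ⧸ Ideal.span {πD ^ 4})) ψ
        (fun _ _ => Commute.all _ _) x ∧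
      algebraMap D Λ d₀ - Algebra.TensorProduct.lift (Algebra.ofId D Λ) φ
        (fun _ _ => Commute.all _ _) x ∈ J := by
    intro x
    induction x using TensorProduct.induction_on with
    | zero => exact ⟨0, by simp, by simp⟩
    | tmul d₁ a =>
      obtain ⟨d', hd'⟩ := Ideal.Quotient.mk_surjective (ψ a)
      refine ⟨d₁ * d', ?_, ?_⟩
      · rw [Algebra.TensorProduct.lift_tmul, map_mul, hd']
        rfl
      · rw [Algebra.TensorProduct.lift_tmul, map_mul]
        have := J.mul_mem_left (algebraMap D Λ d₁) (hψ a d' hd')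
        rw [mul_sub] at this
        exact this
    | add x y hx hy =>
      obtain ⟨dx, hdx, hdx'⟩ := hx
      obtain ⟨dy, hdy, hdy'⟩ := hy
      refine ⟨dx + dy, ?_, ?_⟩
      · rw [map_add, map_add, hdx, hdy]
      · rw [map_add, map_add]
        have := J.add_mem hdx' hdy'
        convert this using 1
        ring
  obtain ⟨d₀, hd₀, hd₀'⟩ := hex x
  have h1 : d - d₀ ∈ Ideal.span {πD ^ 4} := by
    rw [← Ideal.Quotient.eq, hd, hd₀]
  obtain ⟨z, hz⟩ := Ideal.mem_span_singleton'.mp h1
  have h2 : algebraMap D Λ (d - d₀) ∈ J := by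
    rw [← hz, map_mul]
    exact J.mul_mem_left _ hJ
  have := J.add_mem h2 hd₀'
  convert this using 1
  rw [map_sub]
  ring

end BaseD


/-- Stacks 16.7.3, with the quotient of `D` written as `D ⧸ (p4)` for `p4 = π⁴`. -/
theorem desingularize_strictly_standard {R Λ A D : Type u} [CommRing R] [IsNoetherianRing R]
    [CommRing Λ] [Algebra R Λ] (π : R) (hR : ∀ r : R, π ^ 2 * r = 0 → π * r = 0)
    (hΛ : ∀ x : Λ, π ^ 2 • x = 0 → π • x = 0) [CommRing A] [Algebra R A]
    [Algebra.FinitePresentation R A] [CommRing D] [Algebra R D] [Algebra.FinitePresentation R D]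
    (φ : A →ₐ[R] Λ) (δ : D →ₐ[R] Λ) (hπ : Smoothing.IsStrictlyStandard R A (algebraMap R A π))
    (p4 : D) (hp4 : p4 = (algebraMap R D π) ^ 4)
    (ψ : A →ₐ[R] D ⧸ Ideal.span {p4})
    (hψ : ∀ (a : A) (d : D), Ideal.Quotient.mk (Ideal.span {p4}) d = ψ a →
      δ d - φ a ∈ Ideal.span {algebraMap R Λ (π ^ 4)}) :
    ∃ (B : Type u) (_ : CommRing B) (_ : Algebra R B) (_ : Algebra D B) (_ : IsScalarTower R D B),
      Algebra.FinitePresentation R B ∧
      ∃ (α : A →ₐ[R] B) (β : B →ₐ[R] Λ), β.comp α = φ ∧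
        β.comp (IsScalarTower.toAlgHom R D B) = δ ∧
        (Smoothing.singularIdeal R D).map (algebraMap D B) ≤ Smoothing.singularIdeal D B ∧
        (Smoothing.singularIdeal R D).map (algebraMap D B) ≤ Smoothing.singularIdeal R B := by
  classical
  subst hp4
  letI algΛ : Algebra D Λ := δ.toRingHom.toAlgebra
  haveI towΛ : IsScalarTower R D Λ := IsScalarTower.of_algebraMap_eq fun r => (δ.commutes r).symm
  have hδ : ∀ d : D, algebraMap D Λ d = δ d := fun _ => rfl
  have hΛD : ∀ x : Λ, (algebraMap R D π) ^ 2 • x = 0 → algebraMap R D π • x = 0 := by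
    intro x hx
    rw [← map_pow, algebraMap_smul] at hx
    rw [algebraMap_smul]
    exact hΛ x hx
  have hπD : Smoothing.IsStrictlyStandard D (D ⊗[R] A)
      (algebraMap D (D ⊗[R] A) (algebraMap R D π)) := by
    have h1 := (Groth.Agent.S6829.result (R := R) (A := A) (R' := D) (algebraMap R A π)).2 hπ
    have h2 : algebraMap D (D ⊗[R] A) (algebraMap R D π) = (1 : D) ⊗ₜ[R] algebraMap R A π := by
      rw [Algebra.TensorProduct.algebraMap_apply, Algebra.algebraMap_self_apply,
        Algebra.algebraMap_eq_smul_one, Algebra.algebraMap_eq_smul_one (A := A),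
        TensorProduct.smul_tmul]
    rw [h2]
    exact h1
  have hJ : algebraMap D Λ ((algebraMap R D π) ^ 4) ∈ Ideal.span {algebraMap R Λ (π ^ 4)} := by
    rw [hδ, ← map_pow, δ.commutes]
    exact Ideal.subset_span rfl
  have hJ' : Ideal.span {algebraMap D Λ ((algebraMap R D π) ^ 4)} =
      Ideal.span {algebraMap R Λ (π ^ 4)} := by
    rw [hδ, ← map_pow, δ.commutes]
  obtain ⟨B, instB, algDB, hfp, αD, βD, hβα, hsing⟩ :=
    desingularize (R := D) (Λ := Λ) (A := D ⊗[R] A) (algebraMap R D π) hΛD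
      (Algebra.TensorProduct.lift (Algebra.ofId D Λ) φ (fun _ _ => Commute.all _ _)) hπD
      (Algebra.TensorProduct.lift (Algebra.ofId D (D ⧸ Ideal.span {(algebraMap R D π) ^ 4})) ψ
        (fun _ _ => Commute.all _ _))
      (by
        intro x d hd
        rw [hJ']
        exact hρ_baseChange φ (algebraMap R D π) _ hJ ψ hψ x d hd)
  letI algRB : Algebra R B := Algebra.compHom B (algebraMap R D)
  haveI towB : IsScalarTower R D B := IsScalarTower.of_algebraMap_eq fun _ => rfl
  have hD : IsNoetherianRing D := Algebra.FiniteType.isNoetherianRing R D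
  -- smoothness of `B` over `D` at primes where `D` is smooth over `R`
  have hsmD : ∀ (𝔮' : Ideal B) [𝔮'.IsPrime], Algebra.IsSmoothAt R (𝔮'.under D) →
      Algebra.IsSmoothAt D 𝔮' := by
    intro 𝔮' _ hsm
    obtain ⟨a, ha, hann⟩ := exists_notMem_forall_ann π hR (𝔮'.under D) hsm
    exact isSmoothAt_of_mem_singularIdeal (hsing a hann) 𝔮' ha
  refine ⟨B, instB, algRB, algDB, towB, Algebra.FinitePresentation.trans R D B,
    (αD.restrictScalars R).comp Algebra.TensorProduct.includeRight, βD.restrictScalars R,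
    ?_, ?_, ?_, ?_⟩
  · ext a
    have := AlgHom.congr_fun hβα ((1 : D) ⊗ₜ[R] a)
    simpa using this
  · ext d
    show βD (algebraMap D B d) = δ d
    rw [AlgHom.commutes, hδ]
  · rw [Ideal.map_le_iff_le_comap]
    intro d hd
    refine mem_singularIdeal_of_forall (a := algebraMap D B d) ?_
    intro 𝔮' _ hd𝔮'
    exact hsmD 𝔮' (isSmoothAt_of_mem_singularIdeal hd (𝔮'.under D) hd𝔮')
  · rw [Ideal.map_le_iff_le_comap]
    intro d hd
    refine mem_singularIdeal_of_forall (a := algebraMap D B d) ?_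
    intro 𝔮' _ hd𝔮'
    have h2 := isSmoothAt_of_mem_singularIdeal hd (𝔮'.under D) hd𝔮'
    exact isSmoothAt_comp 𝔮' (hsmD 𝔮' h2) h2

end Groth.Agent.Lib.Seat14.Desing
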