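import Groth.Agent.Lib.Seat14DimZeroB
import Groth.Agent.Lib.Seat14DelocF

/-!
# Resolving a problem whose local ring has dimension zero (helper14)

Stacks, Lemma 16.10.3: if `𝔮` is minimal over `h_A Λ`, `dim Λ_𝔮 = 0` and the localized problem can
be resolved, then the problem `R → A → Λ ⊇ 𝔮` can be resolved.  Uses `delocalize_weak`
(Lemma 16.10.2) and the explicit algebra `B` of `Seat14DimZeroB.core`.
-/

set_option autoImplicit false
set_option linter.style.haveILetI false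
universe u

namespace Groth.Agent.Lib.Seat14.DimZero

open MvPolynomial TensorProduct

/-- Stacks, Lemma 16.10.3. -/
theorem resolvable_of_dim_zero {R A Λ Rₚ Λq : Type u} [CommRing R] [IsNoetherianRing R]
    [CommRing A] [Algebra R A] [Algebra.FinitePresentation R A] [CommRing Λ] [Algebra R Λ]
    (φ : A →ₐ[R] Λ) (𝔮 : Ideal Λ) [𝔮.IsPrime]
    (hmin : 𝔮 ∈ (Smoothing.singRad R φ).minimalPrimes)
    [CommRing Rₚ] [Algebra R Rₚ] [IsLocalization.AtPrime Rₚ (𝔮.comap (algebraMap R Λ))]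
    [CommRing Λq] [Algebra Λ Λq] [IsLocalization.AtPrime Λq 𝔮] [Algebra R Λq] [IsScalarTower R Λ Λq]
    [Algebra Rₚ Λq] [IsScalarTower R Rₚ Λq] (hdim : ringKrullDim Λq = 0)
    (hres : Smoothing.Resolvable Rₚ
      (Algebra.TensorProduct.lift (Algebra.ofId Rₚ Λq) ((IsScalarTower.toAlgHom R Λ Λq).comp φ)
        (fun _ _ => Commute.all _ _) : Rₚ ⊗[R] A →ₐ[Rₚ] Λq) (𝔮.map (algebraMap Λ Λq))) :
    Smoothing.Resolvable R φ 𝔮 := by
  classical
  obtain ⟨C, _, _, hfpC, ι, h, hιh, hnot⟩ := Groth.Agent.Lib.Seat14.Deloc.delocalize_weak φ 𝔮 hres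
  haveI := hfpC
  -- an element of the singular ideal of `C` mapping outside `𝔮`
  obtain ⟨c, hc, hc𝔮⟩ : ∃ c ∈ Smoothing.singularIdeal R C, h c ∉ 𝔮 := by
    by_contra hcon
    push Not at hcon
    apply hnot
    rw [Ideal.map_le_iff_le_comap]
    intro c hc
    exact hcon c hc
  -- generators of the singular ideal of `A`
  haveI : IsNoetherianRing A := Algebra.FiniteType.isNoetherianRing R A
  obtain ⟨r, a, ha⟩ := Submodule.fg_iff_exists_fin_generating_family.mp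
    ((isNoetherianRing_iff_ideal_fg A).mp inferInstance (Smoothing.singularIdeal R A))
  have haH : ∀ ℓ, a ℓ ∈ Smoothing.singularIdeal R A := fun ℓ => by
    rw [← ha]
    exact Submodule.subset_span ⟨ℓ, rfl⟩
  -- nilpotence in `Λq`
  haveI : IsLocalRing Λq := IsLocalization.AtPrime.isLocalRing Λq 𝔮
  haveI : Ring.KrullDimLE 0 Λq := (Ring.krullDimLE_iff (n := 0)).mpr (by simp [hdim])
  have hle : Smoothing.singRad R φ ≤ 𝔮 := hmin.1.2
  have hφa𝔮 : ∀ ℓ, φ (a ℓ) ∈ 𝔮 := fun ℓ =>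
    hle (Ideal.le_radical (Ideal.mem_map_of_mem φ (haH ℓ)))
  have hnil : ∀ ℓ, ∃ (N : ℕ) (l : Λ), l ∉ 𝔮 ∧ l * φ (a ℓ) ^ N = 0 := by
    intro ℓ
    have h1 : algebraMap Λ Λq (φ (a ℓ)) ∈ IsLocalRing.maximalIdeal Λq := by
      rw [← IsLocalization.AtPrime.map_eq_maximalIdeal 𝔮 Λq]
      exact Ideal.mem_map_of_mem _ (hφa𝔮 ℓ)
    obtain ⟨N, hN⟩ := Ring.KrullDimLE.isNilpotent_iff_mem_maximalIdeal.mpr h1
    rw [← map_pow] at hN
    obtain ⟨⟨l, hl⟩, hl0⟩ := (IsLocalization.map_eq_zero_iff 𝔮.primeCompl Λq _).mp hN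
    exact ⟨N, l, hl, hl0⟩
  choose Nℓ lℓ hlℓ hlℓ0 using hnil
  set N : ℕ := Finset.univ.sup Nℓ with hN
  set lamb : Λ := ∏ ℓ, lℓ ℓ with hlamb
  have hlamb𝔮 : lamb ∉ 𝔮 := by
    intro hc
    obtain ⟨ℓ, -, hℓ⟩ := (Ideal.IsPrime.prod_mem_iff (hp := inferInstance)).mp hc
    exact hlℓ ℓ hℓ
  have hlamb0 : ∀ ℓ, lamb * φ (a ℓ) ^ N = 0 := by
    intro ℓ
    have h1 : Nℓ ℓ ≤ N := Finset.le_sup (Finset.mem_univ ℓ)
    obtain ⟨k, hk⟩ := Nat.exists_eq_add_of_le h1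
    rw [hlamb, ← Finset.mul_prod_erase Finset.univ lℓ (Finset.mem_univ ℓ), hk, pow_add]
    calc (lℓ ℓ * ∏ x ∈ Finset.univ.erase ℓ, lℓ x) * (φ (a ℓ) ^ Nℓ ℓ * φ (a ℓ) ^ k)
        = (lℓ ℓ * φ (a ℓ) ^ Nℓ ℓ) * ((∏ x ∈ Finset.univ.erase ℓ, lℓ x) * φ (a ℓ) ^ k) := by ring
      _ = 0 := by rw [hlℓ0, zero_mul]
  -- presentations
  obtain ⟨p, πA, hπA, hfgA⟩ := Algebra.FinitePresentation.out (R := R) (A := A)
  obtain ⟨mA, G, hG⟩ := Submodule.fg_iff_exists_fin_generating_family.mp hfgA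
  obtain ⟨n, π₀, hπ₀, -⟩ := Algebra.FinitePresentation.out (R := R) (A := C)
  set πC : MvPolynomial (Fin p ⊕ Fin n) R →ₐ[R] C :=
    aeval (Sum.elim (fun i => ι (πA (X i))) (fun j => π₀ (X j))) with hπCdef
  have hπC : Function.Surjective πC := by
    intro y
    obtain ⟨q, rfl⟩ := hπ₀ y
    refine ⟨rename Sum.inr q, ?_⟩
    rw [hπCdef, aeval_rename]
    have : (aeval ((Sum.elim (fun i => ι (πA (X i))) (fun j => π₀ (X j))) ∘ Sum.inr) :
        MvPolynomial (Fin n) R →ₐ[R] C) = π₀ := by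
      apply MvPolynomial.algHom_ext
      intro j
      simp
    rw [this]
  obtain ⟨M, K, hK⟩ := Submodule.fg_iff_exists_fin_generating_family.mp
    (Algebra.FinitePresentation.ker_fG_of_surjective πC hπC)
  have hιπ : ∀ i, πC (X (Sum.inl i)) = ι (πA (X i)) := by
    intro i
    rw [hπCdef, aeval_X]
    rfl
  choose at' hat' using fun ℓ => hπA (a ℓ)
  obtain ⟨ct, hct⟩ := hπC c
  have hφ : ∀ x, φ x = h (ι x) := fun x => (AlgHom.congr_fun hιh x).symm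
  obtain ⟨B, _, _, hfpB, α, β, hαβ, hy, b₀, hb₀, hβb₀⟩ :=
    core ι h πA hπA G hG.symm πC hπC K hK.symm hιπ at'
      (fun ℓ => by rw [hat']; exact haH ℓ) N lamb
      (fun ℓ => by rw [hat', ← hφ]; exact hlamb0 ℓ) ct (by rw [hct]; exact hc)
  refine ⟨B, inferInstance, inferInstance, hfpB, α, β, hαβ.trans hιh, ?_, ?_⟩
  · unfold Smoothing.singRad
    rw [Ideal.radical_le_radical_iff, ← ha]
    have : Submodule.span A (Set.range a) = Ideal.span (Set.range a) := rfl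
    rw [this, Ideal.map_span, Ideal.span_le]
    rintro _ ⟨_, ⟨ℓ, rfl⟩, rfl⟩
    obtain ⟨b, hb, hβb⟩ := hy ℓ
    refine ⟨N + 1, ?_⟩
    show φ (a ℓ) ^ (N + 1) ∈ _
    rw [hφ, ← hat', ← hβb]
    exact Ideal.mem_map_of_mem β hb
  · intro hle'
    have h1 : β b₀ ∈ 𝔮 := hle' (Ideal.le_radical (Ideal.mem_map_of_mem β hb₀))
    rw [hβb₀, hct] at h1
    rcases (Ideal.IsPrime.mul_mem_iff_mem_or_mem inferInstance).mp h1 with h2 | h2
    · exact hlamb𝔮 h2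
    · exact hc𝔮 h2

end Groth.Agent.Lib.Seat14.DimZero
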