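import Mathlib.RingTheory.Etale.StandardEtale
import Mathlib.RingTheory.Etale.Basic
import Mathlib.FieldTheory.IsAlgClosed.AlgebraicClosure
import Mathlib.RingTheory.Spectrum.Prime.RingHom
import Mathlib.RingTheory.Spectrum.Prime.Topology
import Mathlib.RingTheory.Spectrum.Prime.Chevalley
import Mathlib.RingTheory.LocalRing.ResidueField.Ideal
import Mathlib.RingTheory.Flat.FaithfullyFlat.Basic
import Mathlib.RingTheory.Smooth.Flat

/-!
# Étale neighbourhoods of a prime of a ring (seat 14)

`EtNbhd A p`: an étale `A`-algebra `B` with a chosen prime `q` over `p`.  Composition, Zariski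
localization, adjoining a root of a monic polynomial with invertible derivative, and the
quasi-compactness argument turning pointwise étale-local statements into finite étale coverings.
-/

set_option autoImplicit false
universe u

open Polynomial

set_option linter.dupNamespace false

namespace Groth.Agent.Lib.Seat14.EtLoc

/-- An étale neighbourhood of the prime `p` of `A`. -/
structure EtNbhd (A : Type u) [CommRing A] (p : PrimeSpectrum A) where
  /-- the étale algebra -/
  B : Type u
  [cr : CommRing B]
  [alg : Algebra A B]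
  etale : Algebra.Etale A B
  /-- the chosen prime over `p` -/
  q : PrimeSpectrum B
  hq : PrimeSpectrum.comap (algebraMap A B) q = p

attribute [instance] EtNbhd.cr EtNbhd.alg

namespace EtNbhd

variable {A : Type u} [CommRing A] {p : PrimeSpectrum A}

/-- The structure map of an étale neighbourhood. -/
def map (N : EtNbhd A p) : A →+* N.B := algebraMap A N.B

theorem notMem_of_notMem (N : EtNbhd A p) {a : A} (ha : a ∉ p.asIdeal) : N.map a ∉ N.q.asIdeal := by
  intro h
  apply ha
  have := N.hq
  rw [← this]
  exact h

theorem mem_of_mem (N : EtNbhd A p) {a : A} (ha : a ∈ p.asIdeal) : N.map a ∈ N.q.asIdeal := by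
  have := N.hq
  rw [← this] at ha
  exact ha

/-- The trivial neighbourhood. -/
def refl (A : Type u) [CommRing A] (p : PrimeSpectrum A) : EtNbhd A p where
  B := A
  etale := inferInstance
  q := p
  hq := by ext x; simp

/-- Composition of étale neighbourhoods. -/
def trans (N : EtNbhd A p) (N' : EtNbhd N.B N.q) : EtNbhd A p :=
  letI : Algebra A N'.B := ((algebraMap N.B N'.B).comp (algebraMap A N.B)).toAlgebra
  haveI : IsScalarTower A N.B N'.B := IsScalarTower.of_algebraMap_eq (fun _ => rfl)
  haveI := N.etale
  haveI := N'.etale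
  { B := N'.B
    etale := Algebra.Etale.comp A N.B N'.B
    q := N'.q
    hq := by
      have h1 := N'.hq
      have h2 := N.hq
      change PrimeSpectrum.comap ((algebraMap N.B N'.B).comp (algebraMap A N.B)) N'.q = p
      rw [PrimeSpectrum.comap_comp_apply, h1, h2] }

@[simp] theorem trans_B (N : EtNbhd A p) (N' : EtNbhd N.B N.q) : (N.trans N').B = N'.B := rfl

theorem trans_map (N : EtNbhd A p) (N' : EtNbhd N.B N.q) :
    (N.trans N').map = N'.map.comp N.map := rfl

@[simp] theorem trans_q (N : EtNbhd A p) (N' : EtNbhd N.B N.q) : (N.trans N').q = N'.q := rfl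

/-- A property of the composite of two étale neighbourhoods gives an étale neighbourhood with the
property. -/
theorem exists_of_trans (N : EtNbhd A p) (N' : EtNbhd N.B N.q)
    (P : ∀ (C : Type u) [CommRing C], (A →+* C) → Prop) (h : P N'.B (N'.map.comp N.map)) :
    ∃ M : EtNbhd A p, P M.B M.map := ⟨N.trans N', h⟩

/-- Zariski localization away from an element not in `p`. -/
noncomputable def away (s : A) (hs : s ∉ p.asIdeal) : EtNbhd A p :=
  have h : p ∈ Set.range (PrimeSpectrum.comap (algebraMap A (Localization.Away s))) := by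
    rw [PrimeSpectrum.localization_away_comap_range (Localization.Away s) s]
    exact hs
  { B := Localization.Away s
    etale := Algebra.Etale.of_isLocalizationAway s
    q := h.choose
    hq := h.choose_spec }

theorem away_isUnit (s : A) (hs : s ∉ p.asIdeal) : IsUnit ((away s hs).map s) := by
  change IsUnit (algebraMap A (Localization.Away s) s)
  exact IsLocalization.Away.algebraMap_isUnit s

end EtNbhd

section Monic

variable {A : Type u} [CommRing A]

/-- The standard étale pair `(f, 1)` for a monic `f` whose derivative is invertible modulo `f`. -/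
noncomputable def monicPair (f : A[X]) (hf : f.Monic)
    (hcond : ∃ p₁ p₂ : A[X], derivative f * p₁ + f * p₂ = 1) : StandardEtalePair A where
  f := f
  monic_f := hf
  g := 1
  cond := by
    obtain ⟨p₁, p₂, h⟩ := hcond
    exact ⟨p₁, p₂, 0, by rw [h, pow_zero]⟩

variable (f : A[X]) (hf : f.Monic) (hcond : ∃ p₁ p₂ : A[X], derivative f * p₁ + f * p₂ = 1)

theorem monicPair_aeval_X : aeval (monicPair f hf hcond).X f = 0 :=
  ((monicPair f hf hcond).hasMap_X).1

theorem monicPair_comap_surjective (hdeg : f.natDegree ≠ 0) :
    Function.Surjective (PrimeSpectrum.comap (algebraMap A (monicPair f hf hcond).Ring)) := by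
  intro p
  let κ := p.asIdeal.ResidueField
  let Ω := AlgebraicClosure κ
  let φ : A →+* Ω := (algebraMap κ Ω).comp (algebraMap A κ)
  let _ : Algebra A Ω := φ.toAlgebra
  have hdeg' : (f.map φ).degree ≠ 0 := by
    rw [hf.degree_map φ]
    intro h
    apply hdeg
    exact natDegree_eq_of_degree_eq_some h
  obtain ⟨x, hx⟩ := IsAlgClosed.exists_root (f.map φ) hdeg'
  have hmap : (monicPair f hf hcond).HasMap x := by
    refine ⟨?_, ?_⟩
    · change aeval x f = 0
      rw [aeval_def]
      rwa [IsRoot.def, eval_map] at hx
    · change IsUnit (aeval x (1 : A[X]))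
      simp
  let ψ : (monicPair f hf hcond).Ring →ₐ[A] Ω := (monicPair f hf hcond).lift x hmap
  refine ⟨⟨RingHom.ker ψ.toRingHom, RingHom.ker_isPrime _⟩, ?_⟩
  ext a
  simp only [PrimeSpectrum.comap_asIdeal, Ideal.mem_comap, RingHom.mem_ker]
  change ψ (algebraMap A _ a) = 0 ↔ _
  rw [ψ.commutes]
  change (algebraMap κ Ω) (algebraMap A κ a) = 0 ↔ _
  rw [map_eq_zero_iff _ (algebraMap κ Ω).injective, Ideal.algebraMap_residueField_eq_zero]

/-- Adjoining a root of a monic polynomial with derivative invertible modulo it is an étale neighbourhood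
of every prime. -/
noncomputable def EtNbhd.ofMonic (p : PrimeSpectrum A) (hdeg : f.natDegree ≠ 0) : EtNbhd A p where
  B := (monicPair f hf hcond).Ring
  etale := inferInstance
  q := (monicPair_comap_surjective f hf hcond hdeg p).choose
  hq := (monicPair_comap_surjective f hf hcond hdeg p).choose_spec

/-- The adjoined root. -/
noncomputable def EtNbhd.ofMonicRoot (p : PrimeSpectrum A) (hdeg : f.natDegree ≠ 0) :
    (EtNbhd.ofMonic f hf hcond p hdeg).B := (monicPair f hf hcond).X

theorem EtNbhd.ofMonic_eval (p : PrimeSpectrum A) (hdeg : f.natDegree ≠ 0) :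
    eval₂ (EtNbhd.ofMonic f hf hcond p hdeg).map (EtNbhd.ofMonicRoot f hf hcond p hdeg) f = 0 := by
  have h := monicPair_aeval_X f hf hcond
  rwa [aeval_def] at h

end Monic

section Global

variable {A : Type u} [CommRing A]

theorem isOpen_range_comap (B : Type u) [CommRing B] [Algebra A B] [Algebra.Etale A B] :
    IsOpen (Set.range (PrimeSpectrum.comap (algebraMap A B))) := by
  have : Algebra.Smooth A B := inferInstance
  have : Module.Flat A B := inferInstance
  have : Algebra.FinitePresentation A B := inferInstance
  exact (PrimeSpectrum.isOpenMap_comap_of_hasGoingDown_of_finitePresentation (R := A) (S := B)).isOpen_range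

/-- Quasi-compactness of `Spec A`: a pointwise étale-local property holds on a finite étale covering. -/
theorem exists_finite_family
    (P : ∀ (B : Type u) [CommRing B] [Algebra A B], Prop)
    (h : ∀ p : PrimeSpectrum A, ∃ N : EtNbhd A p, P N.B) :
    ∃ (n : ℕ) (B : Fin n → Type u) (_ : ∀ t, CommRing (B t)) (_ : ∀ t, Algebra A (B t)),
      (∀ t, Algebra.Etale A (B t)) ∧
      (∀ p : PrimeSpectrum A, ∃ (t : Fin n) (q : PrimeSpectrum (B t)),
        q.asIdeal.comap (algebraMap A (B t)) = p.asIdeal) ∧
      ∀ t, P (B t) := by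
  classical
  choose N hN using h
  let U : PrimeSpectrum A → Set (PrimeSpectrum A) :=
    fun p => Set.range (PrimeSpectrum.comap (algebraMap A (N p).B))
  have hU : ∀ p, IsOpen (U p) := fun p => by
    have := (N p).etale
    exact isOpen_range_comap (N p).B
  have hcov : (Set.univ : Set (PrimeSpectrum A)) ⊆ ⋃ p, U p := by
    intro p _
    exact Set.mem_iUnion.mpr ⟨p, (N p).q, (N p).hq⟩
  obtain ⟨s, hs⟩ := isCompact_univ.elim_finite_subcover U hU hcov
  let e : s ≃ Fin s.card := s.equivFin
  refine ⟨s.card, fun t => (N (e.symm t).1).B, fun t => inferInstance, fun t => inferInstance,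
    fun t => (N (e.symm t).1).etale, ?_, fun t => hN _⟩
  intro p
  have hp := hs (Set.mem_univ p)
  simp only [Set.mem_iUnion] at hp
  obtain ⟨p₀, hp₀, q, hq⟩ := hp
  refine ⟨e ⟨p₀, hp₀⟩, ?_⟩
  have he : (e.symm (e ⟨p₀, hp₀⟩)).1 = p₀ := by simp
  have key : ∀ (p₁ : PrimeSpectrum A), p₁ = p₀ → ∃ q' : PrimeSpectrum (N p₁).B,
      q'.asIdeal.comap (algebraMap A (N p₁).B) = p.asIdeal := by
    rintro p₁ rfl
    exact ⟨q, by rw [← hq]; rfl⟩
  exact key _ he

end Global

end Groth.Agent.Lib.Seat14.EtLoc
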