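import Mathlib
import Groth.Prelude.Def_Wider

/-!
# Fully faithful linear endofunctors of the category of finite length modules (seat 14)

Over a Noetherian local ring `A`, every additive `A`-linear fully faithful endofunctor `Φ` of the category of
`A`-modules of finite length is isomorphic to the identity functor (`nonempty_iso_id`).

The proof chooses compatible generators `q n` of `Φ (A/𝔪ⁿ⁺¹)` and defines `M → Φ M`,
`x ↦ Φ(x̂)(q n)` where `x̂ : A/𝔪ⁿ⁺¹ → M` is the map `1 ↦ x` (for `n` large).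
-/

set_option autoImplicit false
set_option linter.unusedSectionVars false
universe u

open CategoryTheory IsLocalRing

namespace Groth.Agent.Lib.Seat14.FinLenEquiv

section Mod

variable {A : Type u} [CommRing A] [IsLocalRing A] [IsNoetherianRing A]

/-- A module of finite length over a Noetherian local ring is killed by a power of the maximal ideal. -/
theorem exists_pow_smul_eq_zero (M : Type u) [AddCommGroup M] [Module A M]
    (hM : IsFiniteLength A M) :
    ∃ n : ℕ, ∀ a ∈ maximalIdeal A ^ (n + 1), ∀ x : M, a • x = 0 := by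
  obtain ⟨hN, hArt⟩ := isFiniteLength_iff_isNoetherian_isArtinian.mp hM
  let f : ℕ →o (Submodule A M)ᵒᵈ :=
    ⟨fun n => OrderDual.toDual (maximalIdeal A ^ n • (⊤ : Submodule A M)), by
      intro n k hnk
      change maximalIdeal A ^ k • (⊤ : Submodule A M) ≤ maximalIdeal A ^ n • ⊤
      exact Submodule.smul_mono_left (Ideal.pow_le_pow_right hnk)⟩
  obtain ⟨n, hn⟩ := IsArtinian.monotone_stabilizes f
  have h1 : maximalIdeal A ^ n • (⊤ : Submodule A M) = maximalIdeal A ^ (n + 1) • ⊤ :=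
    congrArg OrderDual.ofDual (hn (n + 1) (Nat.le_succ n))
  have h2 : maximalIdeal A ^ n • (⊤ : Submodule A M) = ⊥ := by
    apply Submodule.eq_bot_of_le_smul_of_le_jacobson_bot (maximalIdeal A) _
      (IsNoetherian.noetherian _)
    · conv_lhs => rw [h1]
      rw [pow_succ', mul_smul]
    · rw [jacobson_eq_maximalIdeal ⊥ bot_ne_top]
  refine ⟨n, fun a ha x => ?_⟩
  have h3 : a • x ∈ maximalIdeal A ^ n • (⊤ : Submodule A M) :=
    Submodule.smul_mem_smul (Ideal.pow_le_pow_right (Nat.le_succ n) ha) Submodule.mem_top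
  rw [h2] at h3
  exact (Submodule.mem_bot A).mp h3

/-- Between a proper quotient of a module of finite length and a nonzero module of finite length there is a
nonzero linear map. -/
theorem exists_ne_zero_map {Q N : Type u} [AddCommGroup Q] [Module A Q] [AddCommGroup N]
    [Module A N] (hQ : IsFiniteLength A Q) (hN : IsFiniteLength A N) [Nontrivial N]
    (Q' : Submodule A Q) (hQ' : Q' ≠ ⊤) :
    ∃ s : Q →ₗ[A] N, s ≠ 0 ∧ ∀ x ∈ Q', s x = 0 := by
  obtain ⟨hQN, -⟩ := isFiniteLength_iff_isNoetherian_isArtinian.mp hQ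
  obtain ⟨-, hNA⟩ := isFiniteLength_iff_isNoetherian_isArtinian.mp hN
  obtain ⟨C, hC, hle⟩ := (eq_top_or_exists_le_coatom Q').resolve_left hQ'
  obtain ⟨S, hS, -⟩ := (eq_bot_or_exists_atom_le (⊤ : Submodule A N)).resolve_left top_ne_bot
  have h1 : IsSimpleModule A (Q ⧸ C) := isSimpleModule_iff_isCoatom.mpr hC
  have h2 : IsSimpleModule A S := isSimpleModule_iff_isAtom.mpr hS
  obtain ⟨I1, hI1, ⟨e1⟩⟩ := isSimpleModule_iff_quot_maximal.mp h1
  obtain ⟨I2, hI2, ⟨e2⟩⟩ := isSimpleModule_iff_quot_maximal.mp h2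
  have h12 : I1 = I2 := (eq_maximalIdeal hI1).trans (eq_maximalIdeal hI2).symm
  subst h12
  refine ⟨S.subtype ∘ₗ e2.symm.toLinearMap ∘ₗ e1.toLinearMap ∘ₗ C.mkQ, ?_, ?_⟩
  · intro h0
    obtain ⟨y, hy⟩ := (Submodule.nonzero_mem_of_bot_lt (bot_lt_iff_ne_bot.mpr hS.1))
    obtain ⟨z, hz⟩ := C.mkQ_surjective (e1.symm (e2 y))
    have := LinearMap.congr_fun h0 z
    simp only [LinearMap.coe_comp, LinearEquiv.coe_coe, Function.comp_apply, hz,
      LinearEquiv.apply_symm_apply, LinearEquiv.symm_apply_apply, Submodule.subtype_apply,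
      LinearMap.zero_apply] at this
    exact hy (Subtype.ext this)
  · intro x hx
    have : C.mkQ x = 0 := (Submodule.Quotient.mk_eq_zero C).mpr (hle hx)
    simp [this]

end Mod

section Cat

variable {A : Type u} [CommRing A] [IsLocalRing A] [IsNoetherianRing A]

/-- The underlying linear map of a morphism of finite length modules. -/
def ev {X Y : Dual.FinLen A} (f : X ⟶ Y) : X.obj →ₗ[A] Y.obj := f.hom.hom

/-- The morphism of finite length modules given by a linear map. -/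
def mkHom {X Y : Dual.FinLen A} (g : X.obj →ₗ[A] Y.obj) : X ⟶ Y :=
  ObjectProperty.homMk (ModuleCat.ofHom g)

@[simp] theorem ev_mkHom {X Y : Dual.FinLen A} (g : X.obj →ₗ[A] Y.obj) : ev (mkHom g) = g := rfl

@[simp] theorem mkHom_ev {X Y : Dual.FinLen A} (f : X ⟶ Y) : mkHom (ev f) = f := rfl

theorem ev_injective {X Y : Dual.FinLen A} : Function.Injective (ev : (X ⟶ Y) → _) := by
  intro f g h
  rw [← mkHom_ev f, ← mkHom_ev g, h]

@[simp] theorem ev_id (X : Dual.FinLen A) : ev (𝟙 X) = LinearMap.id := rfl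

@[simp] theorem ev_comp {X Y Z : Dual.FinLen A} (f : X ⟶ Y) (g : Y ⟶ Z) :
    ev (f ≫ g) = ev g ∘ₗ ev f := rfl

@[simp] theorem ev_add {X Y : Dual.FinLen A} (f g : X ⟶ Y) : ev (f + g) = ev f + ev g := rfl

@[simp] theorem ev_zero {X Y : Dual.FinLen A} : ev (0 : X ⟶ Y) = 0 := rfl

@[simp] theorem ev_smul {X Y : Dual.FinLen A} (a : A) (f : X ⟶ Y) : ev (a • f) = a • ev f := rfl

/-- A finite module killed by a power of the maximal ideal has finite length
(as in `Seat14CanonUnique`). -/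
theorem isFiniteLength_of_finite_of_pow_smul (F : Type u) [AddCommGroup F] [Module A F]
    [Module.Finite A F] (k : ℕ) (hk : ∀ a ∈ maximalIdeal A ^ k, ∀ x : F, a • x = 0) :
    IsFiniteLength A F := by
  by_cases hF : Subsingleton F
  · exact IsFiniteLength.of_subsingleton
  have hk0 : k ≠ 0 := by
    rintro rfl
    apply hF
    refine ⟨fun x y => ?_⟩
    have h1 := hk 1 (by simp) x
    have h2 := hk 1 (by simp) y
    rw [one_smul] at h1 h2
    rw [h1, h2]
  have hp : maximalIdeal A ∈ (maximalIdeal A ^ k).minimalPrimes := by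
    refine ⟨⟨inferInstance, Ideal.pow_le_self hk0⟩, fun q hq _ => ?_⟩
    exact hq.1.le_of_pow_le hq.2
  have hart : IsArtinianRing (A ⧸ maximalIdeal A ^ k) :=
    IsLocalRing.quotient_artinian_of_mem_minimalPrimes_of_isLocalRing _ hp
  have hM : Module.IsTorsionBySet A F (maximalIdeal A ^ k : Ideal A) := fun x a => hk a.1 a.2 x
  let _ : Module (A ⧸ maximalIdeal A ^ k) F := hM.module
  have : IsScalarTower A (A ⧸ maximalIdeal A ^ k) F := hM.isScalarTower
  have : Module.Finite (A ⧸ maximalIdeal A ^ k) F := Module.Finite.of_restrictScalars_finite A _ F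
  have : IsArtinian (A ⧸ maximalIdeal A ^ k) F := inferInstance
  have hA : IsArtinian A F :=
    isArtinian_of_surjective_algebraMap (R := A ⧸ maximalIdeal A ^ k) Ideal.Quotient.mk_surjective
  have hN : IsNoetherian A F := isNoetherian_of_isNoetherianRing_of_finite A F
  exact isFiniteLength_iff_isNoetherian_isArtinian.mpr ⟨hN, hA⟩

variable (A) in
/-- `A ⧸ 𝔪ⁿ⁺¹` has finite length. -/
theorem isFiniteLength_quot (n : ℕ) : IsFiniteLength A (A ⧸ maximalIdeal A ^ (n + 1)) := by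
  apply isFiniteLength_of_finite_of_pow_smul _ (n + 1)
  intro a ha x
  obtain ⟨b, rfl⟩ := Ideal.Quotient.mk_surjective x
  rw [Algebra.smul_def, Ideal.Quotient.algebraMap_eq, ← map_mul, Ideal.Quotient.eq_zero_iff_mem]
  exact Ideal.mul_mem_right _ _ ha

variable (A) in
/-- The object `A ⧸ 𝔪ⁿ⁺¹` of the category of finite length modules. -/
noncomputable def P (n : ℕ) : Dual.FinLen A :=
  ⟨ModuleCat.of A (A ⧸ maximalIdeal A ^ (n + 1)), isFiniteLength_quot A n⟩

variable (A) in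
/-- The class of `1` in `A ⧸ 𝔪ⁿ⁺¹`. -/
noncomputable def one (n : ℕ) : (P A n).obj := (Ideal.Quotient.mk (maximalIdeal A ^ (n + 1)) 1 :)

/-- `𝔪ⁿ⁺¹` kills the module `M`. -/
def Kills (n : ℕ) (M : Dual.FinLen A) : Prop :=
  ∀ a ∈ maximalIdeal A ^ (n + 1), ∀ x : M.obj, a • x = 0

theorem Kills.mono {n n' : ℕ} (h : n ≤ n') {M : Dual.FinLen A} (hM : Kills n M) : Kills n' M :=
  fun a ha x => hM a (Ideal.pow_le_pow_right (Nat.succ_le_succ h) ha) x

theorem exists_kills (M : Dual.FinLen A) : ∃ n, Kills n M :=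
  exists_pow_smul_eq_zero M.obj M.property

theorem kills_P {k n : ℕ} (h : k ≤ n) : Kills n (P A k) := by
  intro a ha x
  obtain ⟨b, rfl⟩ := Ideal.Quotient.mk_surjective (I := maximalIdeal A ^ (k + 1)) x
  change a • (Ideal.Quotient.mk (maximalIdeal A ^ (k + 1)) b) = 0
  rw [Algebra.smul_def, Ideal.Quotient.algebraMap_eq, ← map_mul, Ideal.Quotient.eq_zero_iff_mem]
  exact Ideal.mul_mem_right _ _ (Ideal.pow_le_pow_right (Nat.succ_le_succ h) ha)

theorem smul_one_eq_zero_iff (n : ℕ) (a : A) : a • one A n = 0 ↔ a ∈ maximalIdeal A ^ (n + 1) := by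
  change a • (Ideal.Quotient.mk (maximalIdeal A ^ (n + 1)) 1) = 0 ↔ _
  rw [Algebra.smul_def, Ideal.Quotient.algebraMap_eq, ← map_mul, Ideal.Quotient.eq_zero_iff_mem,
    mul_one]

theorem exists_smul_one (n : ℕ) (x : (P A n).obj) : ∃ a : A, a • one A n = x := by
  obtain ⟨b, rfl⟩ := Ideal.Quotient.mk_surjective (I := maximalIdeal A ^ (n + 1)) x
  refine ⟨b, ?_⟩
  change b • (Ideal.Quotient.mk (maximalIdeal A ^ (n + 1)) 1) = _
  rw [Algebra.smul_def, Ideal.Quotient.algebraMap_eq, ← map_mul, mul_one]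

/-- The morphism `A ⧸ 𝔪ⁿ⁺¹ ⟶ M`, `1 ↦ x` (for `M` killed by `𝔪ⁿ⁺¹`). -/
noncomputable def hat (n : ℕ) (M : Dual.FinLen A) (h : Kills n M) (x : M.obj) : P A n ⟶ M :=
  mkHom (Submodule.liftQ (maximalIdeal A ^ (n + 1)) (LinearMap.toSpanSingleton A M.obj x)
    (fun a ha => by simpa using h a ha x))

theorem ev_hat_smul_one (n : ℕ) (M : Dual.FinLen A) (h : Kills n M) (x : M.obj) (a : A) :
    ev (hat n M h x) (a • one A n) = a • x := by
  rw [map_smul]
  congr 1
  exact (Submodule.liftQ_apply (maximalIdeal A ^ (n + 1))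
    (LinearMap.toSpanSingleton A M.obj x) (1 : A)).trans (by simp)

theorem ev_hat_one (n : ℕ) (M : Dual.FinLen A) (h : Kills n M) (x : M.obj) :
    ev (hat n M h x) (one A n) = x := by
  simpa using ev_hat_smul_one n M h x 1

theorem hom_ext_one {n : ℕ} {M : Dual.FinLen A} {f g : P A n ⟶ M}
    (h : ev f (one A n) = ev g (one A n)) : f = g := by
  apply ev_injective
  ext x
  obtain ⟨a, rfl⟩ := exists_smul_one n x
  rw [map_smul, map_smul, h]

theorem eq_hat {n : ℕ} {M : Dual.FinLen A} (h : Kills n M) (f : P A n ⟶ M) :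
    f = hat n M h (ev f (one A n)) :=
  hom_ext_one (ev_hat_one n M h _).symm

theorem hat_add (n : ℕ) (M : Dual.FinLen A) (h : Kills n M) (x y : M.obj) :
    hat n M h (x + y) = hat n M h x + hat n M h y :=
  hom_ext_one (by simp [ev_hat_one])

theorem hat_smul (n : ℕ) (M : Dual.FinLen A) (h : Kills n M) (a : A) (x : M.obj) :
    hat n M h (a • x) = a • hat n M h x :=
  hom_ext_one (by simp [ev_hat_one])

theorem hat_comp (n : ℕ) {M M' : Dual.FinLen A} (h : Kills n M) (h' : Kills n M') (x : M.obj)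
    (f : M ⟶ M') : hat n M h x ≫ f = hat n M' h' (ev f x) :=
  hom_ext_one (by simp [ev_hat_one])

/-- The projection `A ⧸ 𝔪ⁿ⁺² ⟶ A ⧸ 𝔪ⁿ⁺¹`. -/
noncomputable def π (n : ℕ) : P A (n + 1) ⟶ P A n :=
  hat (n + 1) (P A n) (kills_P (Nat.le_succ n)) (one A n)

/-- The projection `A ⧸ 𝔪ⁿ⁺¹ ⟶ A ⧸ 𝔪`. -/
noncomputable def ρ (n : ℕ) : P A n ⟶ P A 0 :=
  hat n (P A 0) (kills_P (Nat.zero_le n)) (one A 0)

theorem π_comp_ρ (n : ℕ) : (π n ≫ ρ n : P A (n + 1) ⟶ P A 0) = ρ (n + 1) :=
  hom_ext_one (by simp [π, ρ, ev_hat_one])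

theorem π_comp_hat (n : ℕ) (M : Dual.FinLen A) (h : Kills n M) (x : M.obj) :
    π n ≫ hat n M h x = hat (n + 1) M (h.mono (Nat.le_succ n)) x :=
  hom_ext_one (by simp [π, ev_hat_one])

theorem one_ne_zero' (n : ℕ) : one A n ≠ 0 := by
  intro h
  have h1 : (1 : A) • one A n = 0 := by rw [one_smul, h]
  rw [smul_one_eq_zero_iff] at h1
  exact (Ideal.ne_top_iff_one _).mp
    (ne_top_of_le_ne_top (maximalIdeal.isMaximal A).ne_top (Ideal.pow_le_self (Nat.succ_ne_zero n))) h1

end Cat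

section Functor

variable {A : Type u} [CommRing A] [IsLocalRing A] [IsNoetherianRing A]
  (Φ : Dual.FinLen A ⥤ Dual.FinLen A) [Φ.Additive] [Φ.Linear A] [Φ.Full] [Φ.Faithful]

theorem smul_id_eq_zero_iff (n : ℕ) (M : Dual.FinLen A) :
    Kills n M ↔ ∀ a ∈ maximalIdeal A ^ (n + 1), a • 𝟙 M = 0 := by
  constructor
  · intro h a ha
    apply ev_injective
    ext x
    simpa using h a ha x
  · intro h a ha x
    have := LinearMap.congr_fun (congrArg ev (h a ha)) x
    simpa using this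

theorem kills_map {n : ℕ} {M : Dual.FinLen A} (h : Kills n M) : Kills n (Φ.obj M) := by
  rw [smul_id_eq_zero_iff] at h ⊢
  intro a ha
  rw [← Φ.map_id, ← Φ.map_smul, h a ha, Φ.map_zero]

theorem kills_of_map {n : ℕ} {M : Dual.FinLen A} (h : Kills n (Φ.obj M)) : Kills n M := by
  rw [smul_id_eq_zero_iff] at h ⊢
  intro a ha
  apply Φ.map_injective
  rw [Φ.map_smul, Φ.map_id, h a ha, Φ.map_zero]

/-- The map `Φ(A ⧸ 𝔪ⁿ⁺¹) → Φ(A ⧸ 𝔪)` induced by the projection. -/
noncomputable def t (n : ℕ) : (Φ.obj (P A n)).obj →ₗ[A] (Φ.obj (P A 0)).obj := ev (Φ.map (ρ n))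

theorem t_succ (n : ℕ) (q : (Φ.obj (P A (n + 1))).obj) :
    t Φ (n + 1) q = t Φ n (ev (Φ.map (π n)) q) := by
  unfold t
  rw [← π_comp_ρ, Φ.map_comp, ev_comp]
  rfl

theorem exists_t_ne_zero (n : ℕ) : ∃ q, t Φ n q ≠ 0 := by
  by_contra hcon
  push Not at hcon
  have h1 : Φ.map (ρ n : P A n ⟶ P A 0) = 0 := by
    apply ev_injective
    ext q
    exact hcon q
  have h2 : (ρ n : P A n ⟶ P A 0) = 0 := Φ.map_injective (by rw [h1, Φ.map_zero])
  have h3 := LinearMap.congr_fun (congrArg ev h2) (one A n)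
  rw [ρ, ev_hat_one] at h3
  exact one_ne_zero' 0 h3

/-- An element of `Φ(A ⧸ 𝔪ⁿ⁺¹)` not killed by `t` generates. -/
theorem gen_of_ne (n : ℕ) (q : (Φ.obj (P A n)).obj) (hq : t Φ n q ≠ 0)
    (y : (Φ.obj (P A n)).obj) : ∃ a : A, a • q = y := by
  by_contra hcon
  have hne : Submodule.span A {q} ≠ ⊤ := by
    intro htop
    have hy : y ∈ Submodule.span A {q} := htop ▸ Submodule.mem_top
    obtain ⟨a, ha⟩ := Submodule.mem_span_singleton.mp hy
    exact hcon ⟨a, ha⟩
  have : Nontrivial (Φ.obj (P A 0)).obj := ⟨⟨_, 0, hq⟩⟩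
  obtain ⟨s, hs0, hs⟩ := exists_ne_zero_map (Φ.obj (P A n)).property (Φ.obj (P A 0)).property
    (Submodule.span A {q}) hne
  obtain ⟨s', hs'⟩ := Φ.map_surjective (mkHom s)
  obtain ⟨a, ha⟩ := exists_smul_one 0 (ev s' (one A n))
  have hs'a : s' = a • ρ n := by
    rw [eq_hat (kills_P (Nat.zero_le n)) s', ← ha, hat_smul]
    rfl
  have hsa : s = a • t Φ n := by
    have := congrArg ev hs'
    rw [ev_mkHom, hs'a, Φ.map_smul, ev_smul] at this
    exact this.symm
  have hsq : s q = 0 := hs q (Submodule.mem_span_singleton_self q)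
  rw [hsa, LinearMap.smul_apply] at hsq
  have ham : a ∈ maximalIdeal A := by
    by_contra hnot
    have hu : IsUnit a := by
      by_contra hnu
      exact hnot ((mem_maximalIdeal a).mpr hnu)
    obtain ⟨u, rfl⟩ := hu
    apply hq
    have := congrArg (fun z => (↑u⁻¹ : A) • z) hsq
    simpa [smul_smul] using this
  apply hs0
  rw [hsa]
  have h0 : a • (ρ n : P A n ⟶ P A 0) = 0 := by
    apply ev_injective
    ext x
    rw [ev_smul, LinearMap.smul_apply, ev_zero, LinearMap.zero_apply]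
    exact kills_P (le_refl 0) a (by simpa using ham) _
  unfold t
  rw [← ev_smul, ← Φ.map_smul, h0, Φ.map_zero, ev_zero]

theorem exists_lift (n : ℕ) (q : (Φ.obj (P A n)).obj) (hq : t Φ n q ≠ 0) :
    ∃ q' : (Φ.obj (P A (n + 1))).obj, t Φ (n + 1) q' ≠ 0 ∧ ev (Φ.map (π n)) q' = q := by
  obtain ⟨q'', hq''⟩ := exists_t_ne_zero Φ (n + 1)
  rw [t_succ] at hq''
  obtain ⟨a, ha⟩ := gen_of_ne Φ n _ hq'' q
  refine ⟨a • q'', ?_, by rw [map_smul, ha]⟩
  rw [t_succ, map_smul, ha]
  exact hq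

/-- A compatible sequence of generators of the modules `Φ(A ⧸ 𝔪ⁿ⁺¹)`. -/
noncomputable def seq : ∀ n : ℕ, {q : (Φ.obj (P A n)).obj // t Φ n q ≠ 0}
  | 0 => ⟨(exists_t_ne_zero Φ 0).choose, (exists_t_ne_zero Φ 0).choose_spec⟩
  | n + 1 => ⟨(exists_lift Φ n (seq n).1 (seq n).2).choose,
      (exists_lift Φ n (seq n).1 (seq n).2).choose_spec.1⟩

theorem seq_succ (n : ℕ) : ev (Φ.map (π n)) (seq Φ (n + 1)).1 = (seq Φ n).1 :=
  (exists_lift Φ n (seq Φ n).1 (seq Φ n).2).choose_spec.2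

theorem seq_gen (n : ℕ) (y : (Φ.obj (P A n)).obj) : ∃ a : A, a • (seq Φ n).1 = y :=
  gen_of_ne Φ n _ (seq Φ n).2 y

theorem seq_smul_eq_zero (n : ℕ) (a : A) (h : a • (seq Φ n).1 = 0) :
    a ∈ maximalIdeal A ^ (n + 1) := by
  rw [← smul_one_eq_zero_iff]
  have h1 : a • 𝟙 (Φ.obj (P A n)) = 0 := by
    apply ev_injective
    ext y
    obtain ⟨b, rfl⟩ := seq_gen Φ n y
    rw [ev_smul, LinearMap.smul_apply, ev_id, LinearMap.id_apply, smul_comm, h, smul_zero]
    rfl
  have h2 : a • 𝟙 (P A n) = 0 := by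
    apply Φ.map_injective
    rw [Φ.map_smul, Φ.map_id, h1, Φ.map_zero]
  have := LinearMap.congr_fun (congrArg ev h2) (one A n)
  simpa using this

/-- The comparison map `M → Φ M`, `x ↦ Φ(x̂)(qₙ)`. -/
noncomputable def η (n : ℕ) (M : Dual.FinLen A) (h : Kills n M) : M.obj →ₗ[A] (Φ.obj M).obj where
  toFun x := ev (Φ.map (hat n M h x)) (seq Φ n).1
  map_add' x y := by rw [hat_add, Φ.map_add, ev_add, LinearMap.add_apply]
  map_smul' a x := by rw [hat_smul, Φ.map_smul, ev_smul, LinearMap.smul_apply, RingHom.id_apply]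

theorem η_apply (n : ℕ) (M : Dual.FinLen A) (h : Kills n M) (x : M.obj) :
    η Φ n M h x = ev (Φ.map (hat n M h x)) (seq Φ n).1 := rfl

theorem η_succ (n : ℕ) (M : Dual.FinLen A) (h : Kills n M) :
    η Φ (n + 1) M (h.mono (Nat.le_succ n)) = η Φ n M h := by
  ext x
  rw [η_apply, η_apply, ← π_comp_hat n M h, Φ.map_comp, ev_comp, LinearMap.comp_apply, seq_succ]

theorem η_of_le {n n' : ℕ} (hn : n ≤ n') (M : Dual.FinLen A) (h : Kills n M) :
    η Φ n' M (h.mono hn) = η Φ n M h := by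
  induction n', hn using Nat.le_induction with
  | base => rfl
  | succ k hk ih => rw [← ih, ← η_succ Φ k M (h.mono hk)]

theorem η_natural (n : ℕ) {M M' : Dual.FinLen A} (h : Kills n M) (h' : Kills n M') (f : M ⟶ M')
    (x : M.obj) : ev (Φ.map f) (η Φ n M h x) = η Φ n M' h' (ev f x) := by
  rw [η_apply, η_apply, ← hat_comp n h h' x f, Φ.map_comp, ev_comp, LinearMap.comp_apply]

theorem η_injective (n : ℕ) (M : Dual.FinLen A) (h : Kills n M) :
    Function.Injective (η Φ n M h) := by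
  rw [← LinearMap.ker_eq_bot, LinearMap.ker_eq_bot']
  intro x hx
  rw [η_apply] at hx
  have h1 : Φ.map (hat n M h x) = 0 := by
    apply ev_injective
    ext y
    obtain ⟨b, rfl⟩ := seq_gen Φ n y
    rw [map_smul, hx, smul_zero]
    rfl
  have h2 : hat n M h x = 0 := Φ.map_injective (by rw [h1, Φ.map_zero])
  have := LinearMap.congr_fun (congrArg ev h2) (one A n)
  rwa [ev_hat_one] at this

theorem η_surjective (n : ℕ) (M : Dual.FinLen A) (h : Kills n M) :
    Function.Surjective (η Φ n M h) := by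
  intro y
  -- the isomorphism `A ⧸ 𝔪ⁿ⁺¹ ≃ Φ(A ⧸ 𝔪ⁿ⁺¹)`, `1 ↦ qₙ`
  let ψ : (P A n).obj →ₗ[A] (Φ.obj (P A n)).obj :=
    ev (hat n (Φ.obj (P A n)) (kills_map Φ (kills_P le_rfl)) (seq Φ n).1)
  have hψ : Function.Bijective ψ := by
    constructor
    · rw [← LinearMap.ker_eq_bot, LinearMap.ker_eq_bot']
      intro z hz
      obtain ⟨a, rfl⟩ := exists_smul_one n z
      rw [ev_hat_smul_one] at hz
      exact (smul_one_eq_zero_iff n a).mpr (seq_smul_eq_zero Φ n a hz)
    · intro z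
      obtain ⟨a, rfl⟩ := seq_gen Φ n z
      exact ⟨a • one A n, ev_hat_smul_one _ _ _ _ _⟩
  let e := LinearEquiv.ofBijective ψ hψ
  have he : e.symm (seq Φ n).1 = one A n := by
    rw [LinearEquiv.symm_apply_eq]
    exact (ev_hat_one n (Φ.obj (P A n)) (kills_map Φ (kills_P le_rfl)) (seq Φ n).1).symm
  let g : (Φ.obj (P A n)).obj →ₗ[A] (Φ.obj M).obj :=
    ev (hat n (Φ.obj M) (kills_map Φ h) y) ∘ₗ e.symm.toLinearMap
  obtain ⟨h', hh'⟩ := Φ.map_surjective (mkHom g)
  refine ⟨ev h' (one A n), ?_⟩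
  rw [η_apply, ← eq_hat h h', hh', ev_mkHom]
  change ev (hat n (Φ.obj M) (kills_map Φ h) y) (e.symm (seq Φ n).1) = y
  rw [he, ev_hat_one]

/-- An exponent `n` with `𝔪ⁿ⁺¹ M = 0`. -/
noncomputable def expo (M : Dual.FinLen A) : ℕ := (exists_kills M).choose

theorem kills_expo (M : Dual.FinLen A) : Kills (expo M) M := (exists_kills M).choose_spec

/-- The comparison map as a linear equivalence. -/
noncomputable def ηEquiv (M : Dual.FinLen A) : M.obj ≃ₗ[A] (Φ.obj M).obj :=
  LinearEquiv.ofBijective (η Φ (expo M) M (kills_expo M))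
    ⟨η_injective Φ _ M _, η_surjective Φ _ M _⟩

theorem ηEquiv_apply (M : Dual.FinLen A) {n : ℕ} (hn : expo M ≤ n) (x : M.obj) :
    ηEquiv Φ M x = η Φ n M ((kills_expo M).mono hn) x := by
  rw [η_of_le Φ hn M (kills_expo M)]
  rfl

/-- The comparison isomorphism `M ≅ Φ M`. -/
noncomputable def isoM (M : Dual.FinLen A) : M ≅ Φ.obj M where
  hom := mkHom (ηEquiv Φ M).toLinearMap
  inv := mkHom (ηEquiv Φ M).symm.toLinearMap
  hom_inv_id := by
    apply ev_injective
    ext x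
    simp
  inv_hom_id := by
    apply ev_injective
    ext x
    simp

/-- A fully faithful additive `A`-linear endofunctor of the category of finite length modules over a Noetherian
local ring `A` is isomorphic to the identity functor. -/
theorem nonempty_iso_id : Nonempty (Φ ≅ 𝟭 (Dual.FinLen A)) := by
  refine ⟨(NatIso.ofComponents (fun M => isoM Φ M) ?_).symm⟩
  intro M M' f
  apply ev_injective
  ext x
  change ηEquiv Φ M' (ev f x) = ev (Φ.map f) (ηEquiv Φ M x)
  rw [ηEquiv_apply Φ M' (le_max_right (expo M) (expo M')),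
    ηEquiv_apply Φ M (le_max_left (expo M) (expo M')), η_natural]

end Functor

end Groth.Agent.Lib.Seat14.FinLenEquiv
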