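import Mathlib
import Groth.Agent.Lib.Helper2GenFree

/-!
# Generic freeness over a reduced base (Gröbner argument with ACC on monomial ideals)

For a reduced ring `R`, an ideal `I` of a polynomial ring over `R` and a non-nilpotent `g₀`, we find
a non-nilpotent multiple `f` of `g₀` and a finite `G ⊆ I` such that, after inverting `f`, `G` is a
Gröbner basis of `I` with invertible leading coefficients.
-/

set_option autoImplicit false
universe u v

namespace Groth.Agent.Lib.Seat14.GenFreeRed

open MvPolynomial MonomialOrder TrivSqZeroExt TensorProduct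
open scoped MonomialOrder
open Groth.Agent.Lib.Helper24GB Groth.Agent.Lib.Helper2.GenFree

section core
variable {σ : Type*} [Finite σ] (m : MonomialOrder σ) {R : Type*} [CommRing R]

/-- The monomial ideal (over `ℚ`) generated by the leading monomials of a finite set. -/
noncomputable def mu (G : Finset (MvPolynomial σ R)) : Ideal (MvPolynomial σ ℚ) :=
  Ideal.span ((fun d => monomial d (1 : ℚ)) '' ((fun g => m.degree g) '' (G : Set (MvPolynomial σ R))))

omit [Finite σ] in
theorem mu_lt_insert (G : Finset (MvPolynomial σ R)) (r' : MvPolynomial σ R) [DecidableEq (MvPolynomial σ R)]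
    (h : ∀ g ∈ G, ¬ m.degree g ≤ m.degree r') : mu m G < mu m (insert r' G) := by
  classical
  refine lt_of_le_of_ne ?_ ?_
  · apply Ideal.span_mono
    apply Set.image_mono
    apply Set.image_mono
    intro g hg
    exact Finset.mem_coe.mpr (Finset.mem_insert_of_mem (Finset.mem_coe.mp hg))
  · intro heq
    have h1 : monomial (m.degree r') (1 : ℚ) ∈ mu m (insert r' G) := by
      apply Ideal.subset_span
      exact ⟨m.degree r', ⟨r', Finset.mem_coe.mpr (Finset.mem_insert_self _ _), rfl⟩, rfl⟩
    rw [← heq, mu, MvPolynomial.mem_ideal_span_monomial_image] at h1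
    obtain ⟨si, ⟨g, hg, rfl⟩, hle⟩ := h1 (m.degree r') (by
      rw [MvPolynomial.mem_support_iff, coeff_monomial, if_pos rfl]; exact one_ne_zero)
    exact h g (Finset.mem_coe.mp hg) hle

variable [IsReduced R]

theorem exists_good (I : Ideal (MvPolynomial σ R)) :
    ∀ (J : Ideal (MvPolynomial σ ℚ)) (h : R) (G : Finset (MvPolynomial σ R)), mu m G = J →
      ¬ IsNilpotent h → (∀ g ∈ G, g ∈ I ∧ m.leadingCoeff g ∣ h) →
      ∃ (h' : R) (G' : Finset (MvPolynomial σ R)), h ∣ h' ∧ ¬ IsNilpotent h' ∧
        (∀ g ∈ G', g ∈ I ∧ m.leadingCoeff g ∣ h') ∧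
        ∀ r ∈ I, Reduced m (G' : Set (MvPolynomial σ R)) r → ∀ d, ∃ k : ℕ, h' ^ k * r.coeff d = 0 := by
  classical
  intro J
  induction J using WellFoundedGT.induction with
  | ind J ih =>
  intro h G hJ hh hG
  by_cases hgood : ∀ r ∈ I, Reduced m (G : Set (MvPolynomial σ R)) r →
      ∀ d, ∃ k : ℕ, h ^ k * r.coeff d = 0
  · exact ⟨h, G, dvd_rfl, hh, hG, hgood⟩
  push Not at hgood
  obtain ⟨r, hrI, hred, d₁, hd₁⟩ := hgood
  -- the bad exponents
  set D : Finset (σ →₀ ℕ) := r.support.filter (fun d => ∀ k : ℕ, h ^ k * r.coeff d ≠ 0) with hD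
  have hd₁D : d₁ ∈ D := by
    rw [hD, Finset.mem_filter]
    refine ⟨?_, hd₁⟩
    rw [MvPolynomial.mem_support_iff]
    intro h0
    exact hd₁ 0 (by rw [h0, mul_zero])
  obtain ⟨d₀, hd₀D, hmax⟩ := Finset.exists_max_image D m.toSyn ⟨d₁, hd₁D⟩
  have hd₀ : d₀ ∈ r.support ∧ ∀ k : ℕ, h ^ k * r.coeff d₀ ≠ 0 := by
    rw [hD, Finset.mem_filter] at hd₀D; exact hd₀D
  -- a uniform exponent killing the good coefficients
  have hK : ∃ K : ℕ, ∀ e, e ∉ D → h ^ K * r.coeff e = 0 := by
    have hch : ∀ e : σ →₀ ℕ, ∃ k : ℕ, e ∉ D → h ^ k * r.coeff e = 0 := by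
      intro e
      by_cases he : e ∈ r.support
      · by_cases heD : e ∈ D
        · exact ⟨0, fun h' => absurd heD h'⟩
        · have : ¬ ∀ k : ℕ, h ^ k * r.coeff e ≠ 0 := by
            intro hall
            exact heD (by rw [hD, Finset.mem_filter]; exact ⟨he, hall⟩)
          push Not at this
          obtain ⟨k, hk⟩ := this
          exact ⟨k, fun _ => hk⟩
      · refine ⟨0, fun _ => ?_⟩
        rw [MvPolynomial.notMem_support_iff.mp he, mul_zero]
    choose k hk using hch
    refine ⟨r.support.sup k, fun e heD => ?_⟩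
    by_cases he : e ∈ r.support
    · obtain ⟨q, hq⟩ := pow_dvd_pow h (Finset.le_sup (f := k) he)
      rw [hq, mul_right_comm, hk e heD, zero_mul]
    · rw [MvPolynomial.notMem_support_iff.mp he, mul_zero]
  obtain ⟨K, hK⟩ := hK
  set c := r.coeff d₀ with hc
  set c' := h ^ K * c with hc'
  set r' : MvPolynomial σ R := h ^ K • r with hr'
  have hcoeff : ∀ e, r'.coeff e = h ^ K * r.coeff e := fun e => by
    rw [hr', coeff_smul, smul_eq_mul]
  have hc'0 : c' ≠ 0 := hd₀.2 K
  have hdeg : m.degree r' = d₀ := by
    apply m.toSyn.injective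
    apply le_antisymm
    · rw [m.degree_le_iff]
      intro e he
      rw [MvPolynomial.mem_support_iff, hcoeff] at he
      have heD : e ∈ D := by
        by_contra hne
        exact he (hK e hne)
      exact hmax e heD
    · apply m.le_degree
      rw [MvPolynomial.mem_support_iff, hcoeff]
      exact hc'0
  have hlc : m.leadingCoeff r' = c' := by
    rw [MonomialOrder.leadingCoeff, hdeg, hcoeff]
  have hr'I : r' ∈ I := by
    rw [hr', smul_eq_C_mul]
    exact I.mul_mem_left _ hrI
  have hnil : ¬ IsNilpotent (h * c') := by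
    intro hn
    have h0 : h * c' = 0 := isNilpotent_iff_eq_zero.mp hn
    apply hd₀.2 (K + 1)
    rw [pow_succ', mul_assoc]
    exact h0
  have hlt : mu m G < mu m (insert r' G) := by
    apply mu_lt_insert
    intro g hg
    rw [hdeg]
    exact hred d₀ hd₀.1 g (Finset.mem_coe.mpr hg)
  obtain ⟨h'', G'', hdvd, hnil'', hG'', hgood''⟩ :=
    ih (mu m (insert r' G)) (by rw [← hJ]; exact hlt) (h * c') (insert r' G) rfl hnil (by
      intro g hg
      rcases Finset.mem_insert.mp hg with rfl | hg
      · exact ⟨hr'I, by rw [hlc]; exact dvd_mul_left _ _⟩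
      · exact ⟨(hG g hg).1, dvd_mul_of_dvd_left (hG g hg).2 _⟩)
  exact ⟨h'', G'', dvd_trans (dvd_mul_right _ _) hdvd, hnil'', hG'', hgood''⟩

/-- Gröbner data for a ring homomorphism out of a polynomial ring over a reduced ring: after
inverting one non-nilpotent multiple `f` of `g₀`, the standard monomials form a basis of the image
and the kernel is generated by the finite set `G`. -/
theorem exists_data' {T : Type*} [CommRing T] [Module R T]
    (φ : MvPolynomial σ R →+* T) (hlin : ∀ (c : R) (p : MvPolynomial σ R), φ (c • p) = c • φ p)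
    (g₀ : R) (hg₀ : ¬ IsNilpotent g₀) :
    ∃ (f : R) (G : Finset (MvPolynomial σ R)), ¬ IsNilpotent f ∧ g₀ ∣ f ∧ (∀ g ∈ G, φ g = 0) ∧
      (∀ l : Std m (G : Set (MvPolynomial σ R)) →₀ R,
        Finsupp.linearCombination R
          (fun b : Std m (G : Set (MvPolynomial σ R)) => φ (monomial b.1 1)) l = 0 →
        ∀ b, ∃ k : ℕ, f ^ k * l b = 0) ∧
      (∀ p, ∃ n : ℕ, f ^ n • φ p ∈ Submodule.span R
        (Set.range fun b : Std m (G : Set (MvPolynomial σ R)) => φ (monomial b.1 1))) ∧
      (∀ p, φ p = 0 → ∃ n : ℕ, f ^ n • p ∈ Ideal.span (G : Set (MvPolynomial σ R))) := by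
  classical
  obtain ⟨f, G, hdvd, hf, hG, hgood⟩ := exists_good m (RingHom.ker φ) (mu m (∅ : Finset _)) g₀ ∅ rfl
    hg₀ (fun g hg => absurd hg (Finset.notMem_empty g))
  let φL : MvPolynomial σ R →ₗ[R] T :=
    { toFun := φ, map_add' := map_add φ, map_smul' := fun c p => hlin c p }
  have hspanle : Ideal.span (G : Set (MvPolynomial σ R)) ≤ RingHom.ker φ :=
    Ideal.span_le.mpr fun g hg => (hG g hg).1
  have hdiv : ∀ p, ∃ (n : ℕ) (r : MvPolynomial σ R), Reduced m (G : Set (MvPolynomial σ R)) r ∧
      f ^ n • p - r ∈ Ideal.span (G : Set (MvPolynomial σ R)) :=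
    exists_pseudo_reduced m _ f (fun g hg => (hG g hg).2)
  -- a reduced element of the kernel is killed by a power of `f`
  have hkill : ∀ r ∈ RingHom.ker φ, Reduced m (G : Set (MvPolynomial σ R)) r →
      ∃ K : ℕ, f ^ K • r = 0 := by
    intro r hr hred
    choose k hk using hgood r hr hred
    refine ⟨r.support.sup k, ?_⟩
    ext e
    rw [coeff_smul, smul_eq_mul, coeff_zero]
    by_cases he : e ∈ r.support
    · obtain ⟨q, hq⟩ := pow_dvd_pow f (Finset.le_sup (f := k) he)
      rw [hq, mul_right_comm, hk e, zero_mul]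
    · rw [MvPolynomial.notMem_support_iff.mp he, mul_zero]
  refine ⟨f, G, hf, hdvd, fun g hg => (RingHom.mem_ker).mp (hG g hg).1, ?_, ?_, ?_⟩
  · intro l hl b
    set r : MvPolynomial σ R :=
      Finsupp.linearCombination R (fun b : Std m (G : Set (MvPolynomial σ R)) =>
        monomial b.1 (1 : R)) l with hr
    have hφr : φ r = 0 := by
      have : φL r = 0 := by
        rw [hr, Finsupp.apply_linearCombination]
        exact hl
      exact this
    have hred : Reduced m (G : Set (MvPolynomial σ R)) r := by
      intro e he g hg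
      rw [hr, Finsupp.linearCombination_apply, Finsupp.sum] at he
      obtain ⟨b, -, hb⟩ := Finset.mem_biUnion.mp (MvPolynomial.support_sum he)
      have hb' := MvPolynomial.support_smul hb
      have : e = b.1 := by
        have := support_monomial_subset hb'
        simpa using this
      subst this
      exact b.2 g hg
    have hcoef : r.coeff b.1 = l b := by
      rw [hr, Finsupp.linearCombination_apply, Finsupp.sum, coeff_sum]
      rw [Finset.sum_eq_single b]
      · rw [coeff_smul, coeff_monomial, if_pos rfl, smul_eq_mul, mul_one]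
      · intro b' _ hne
        rw [coeff_smul, coeff_monomial, if_neg (fun h => hne (Subtype.ext h)), smul_zero]
      · intro hb
        rw [Finsupp.notMem_support_iff.mp hb, zero_smul, coeff_zero]
    obtain ⟨k, hk⟩ := hgood r ((RingHom.mem_ker).mpr hφr) hred b.1
    exact ⟨k, by rw [← hcoef]; exact hk⟩
  · intro p
    obtain ⟨n, r, hr, hmem⟩ := hdiv p
    refine ⟨n, ?_⟩
    have h0 : φ (f ^ n • p - r) = 0 := (RingHom.mem_ker).mp (hspanle hmem)
    rw [map_sub, sub_eq_zero, hlin] at h0
    rw [h0]
    exact reduced_mem_span m φL hr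
  · intro p hp
    obtain ⟨n, r, hr, hmem⟩ := hdiv p
    have hrI : r ∈ RingHom.ker φ := by
      have h0 : φ (f ^ n • p - r) = 0 := (RingHom.mem_ker).mp (hspanle hmem)
      rw [map_sub, hlin, hp, smul_zero, zero_sub, neg_eq_zero] at h0
      exact (RingHom.mem_ker).mpr h0
    obtain ⟨K, hK⟩ := hkill r hrI hr
    refine ⟨K + n, ?_⟩
    have : f ^ (K + n) • p = f ^ K • (f ^ n • p - r) := by
      rw [smul_sub, hK, sub_zero, pow_add, mul_smul]
    rw [this, smul_eq_C_mul]
    exact Ideal.mul_mem_left _ _ hmem

end core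

section freeAway
variable (R : Type*) [CommRing R]

/-- `M` becomes free after inverting `f`, witnessed by a family of elements of `M` which is
linearly independent up to `f`-power torsion and spans `M` up to powers of `f`. -/
def FreeAway' (f : R) (M : Type*) [AddCommGroup M] [Module R M] : Prop :=
  ∃ (ι : Type) (v : ι → M),
    (∀ l : ι →₀ R, Finsupp.linearCombination R v l = 0 → ∀ b, ∃ k : ℕ, f ^ k * l b = 0) ∧
    ∀ x : M, ∃ n : ℕ, f ^ n • x ∈ Submodule.span R (Set.range v)

variable {R} {M : Type*} [AddCommGroup M] [Module R M]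

theorem FreeAway'.of_dvd {f f' : R} (h : FreeAway' R f M) (hd : f ∣ f') : FreeAway' R f' M := by
  obtain ⟨ι, v, hv, hs⟩ := h
  obtain ⟨c, rfl⟩ := hd
  refine ⟨ι, v, fun l hl b => ?_, fun x => ?_⟩
  · obtain ⟨k, hk⟩ := hv l hl b
    exact ⟨k, by rw [mul_pow, mul_right_comm, hk, zero_mul]⟩
  · obtain ⟨n, hn⟩ := hs x
    refine ⟨n, ?_⟩
    rw [mul_pow, mul_comm, mul_smul]
    exact Submodule.smul_mem _ _ hn

/-- A module which is free away from `f` becomes free over `R_f` after localization. -/
theorem FreeAway'.free {f : R} (h : FreeAway' R f M) (A : Type*) [CommRing A] [Algebra R A]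
    [IsLocalization.Away f A] {M' : Type*} [AddCommGroup M'] [Module R M'] [Module A M']
    [IsScalarTower R A M'] (g : M →ₗ[R] M') [IsLocalizedModule (Submonoid.powers f) g] :
    Module.Free A M' := by
  classical
  obtain ⟨ι, v, hv, hs⟩ := h
  have hunit : ∀ n : ℕ, IsUnit (algebraMap R A (f ^ n)) := fun n =>
    IsLocalization.map_units A (⟨f ^ n, n, rfl⟩ : Submonoid.powers f)
  have hli : LinearIndependent A (g ∘ v) := by
    rw [linearIndependent_iff']
    intro s a ha i hi
    obtain ⟨b, hb⟩ := IsLocalization.exist_integer_multiples (Submonoid.powers f) s a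
    choose! c hc using hb
    have hc' : ∀ j ∈ s, algebraMap R A (c j) = algebraMap R A (b : R) * a j := by
      intro j hj
      rw [hc j hj, Algebra.smul_def]
    set l : ι →₀ R := ∑ j ∈ s, Finsupp.single j (c j) with hl
    have hlapp : ∀ j ∈ s, l j = c j := by
      intro j hj
      rw [hl, Finsupp.finsetSum_apply, Finset.sum_eq_single j]
      · exact Finsupp.single_eq_same
      · intro j' _ hne
        exact Finsupp.single_eq_of_ne hne.symm
      · intro h; exact absurd hj h
    have hg0 : g (Finsupp.linearCombination R v l) = 0 := by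
      rw [hl, map_sum, map_sum]
      have : ∀ j ∈ s, g (Finsupp.linearCombination R v (Finsupp.single j (c j))) =
          algebraMap R A (b : R) • (a j • (g ∘ v) j) := by
        intro j hj
        rw [Finsupp.linearCombination_single, map_smul, ← algebraMap_smul A (c j), hc' j hj,
          mul_smul]
        rfl
      rw [Finset.sum_congr rfl this, ← Finset.smul_sum, ha, smul_zero]
    obtain ⟨⟨_, j₀, rfl⟩, hj₀⟩ := (IsLocalizedModule.eq_zero_iff (Submonoid.powers f) g).mp hg0
    rw [Submonoid.smul_def] at hj₀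
    have hj₀' : Finsupp.linearCombination R v (f ^ j₀ • l) = 0 := by
      rw [map_smul]; exact hj₀
    obtain ⟨k, hk⟩ := hv _ hj₀' i
    rw [Finsupp.smul_apply, smul_eq_mul, hlapp i hi, ← mul_assoc, ← pow_add] at hk
    have h1 : algebraMap R A (f ^ (k + j₀)) * algebraMap R A (c i) = 0 := by
      rw [← map_mul, hk, map_zero]
    have h2 : algebraMap R A (c i) = 0 := (hunit _).mul_right_eq_zero.mp h1
    rw [hc' i hi] at h2
    exact (IsLocalization.map_units A b).mul_right_eq_zero.mp h2
  have hspan : ⊤ ≤ Submodule.span A (Set.range (g ∘ v)) := by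
    intro x' _
    obtain ⟨⟨x, s⟩, hxs⟩ := IsLocalizedModule.surj (Submonoid.powers f) g x'
    obtain ⟨n, hn⟩ := hs x
    have h1 : g (f ^ n • x) ∈ Submodule.span A (Set.range (g ∘ v)) := by
      have : g (f ^ n • x) ∈ (Submodule.span R (Set.range v)).map g := Submodule.mem_map_of_mem hn
      rw [Submodule.map_span] at this
      have hle : Submodule.span R (g '' Set.range v) ≤
          (Submodule.span A (Set.range (g ∘ v))).restrictScalars R := by
        rw [Submodule.span_le]
        rintro _ ⟨_, ⟨b, rfl⟩, rfl⟩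
        exact Submodule.subset_span ⟨b, rfl⟩
      exact hle this
    have hu : IsUnit (algebraMap R A (f ^ n * (s : R))) := by
      rw [map_mul]
      exact (hunit n).mul (IsLocalization.map_units A s)
    have h2 : algebraMap R A (f ^ n * (s : R)) • x' = g (f ^ n • x) := by
      rw [algebraMap_smul, mul_smul, map_smul, ← hxs]
      rfl
    rw [← h2] at h1
    have := Submodule.smul_mem _ (↑hu.unit⁻¹ : A) h1
    rwa [smul_smul, IsUnit.val_inv_mul, one_smul] at this
  exact Module.Free.of_basis (Module.Basis.mk hli hspan)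

/-- Splitting lemma: if `T` is free away from `f` via a family each of whose members lies in the
image of `i` or is killed by the retraction `π`, then `Q` is free away from `f`. -/
theorem FreeAway'.of_retract {f : R} {T Q : Type*} [AddCommGroup T] [Module R T] [AddCommGroup Q]
    [Module R Q] {ι : Type} (v : ι → T)
    (hv : ∀ l : ι →₀ R, Finsupp.linearCombination R v l = 0 → ∀ b, ∃ k : ℕ, f ^ k * l b = 0)
    (hs : ∀ x : T, ∃ n : ℕ, f ^ n • x ∈ Submodule.span R (Set.range v))
    (i : Q →ₗ[R] T) (π : T →ₗ[R] Q) (hπi : ∀ q, π (i q) = q)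
    (hcase : ∀ b, v b ∈ Set.range i ∨ π (v b) = 0) : FreeAway' R f Q := by
  classical
  refine ⟨{b : ι // v b ∈ Set.range i}, fun b => π (v b.1), ?_, ?_⟩
  · intro l hl b
    have hiw : ∀ b : {b : ι // v b ∈ Set.range i}, i (π (v b.1)) = v b.1 := by
      rintro ⟨b, q, hq⟩
      rw [← hq, hπi]
    have h1 : Finsupp.linearCombination R v (Finsupp.mapDomain Subtype.val l) = 0 := by
      rw [Finsupp.linearCombination_mapDomain]
      have : (v ∘ Subtype.val : {b : ι // v b ∈ Set.range i} → T) =
          i ∘ (fun b => π (v b.1)) := funext fun b => (hiw b).symm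
      rw [this, ← Finsupp.apply_linearCombination, hl, map_zero]
    obtain ⟨k, hk⟩ := hv _ h1 b.1
    rw [Finsupp.mapDomain_apply Subtype.val_injective] at hk
    exact ⟨k, hk⟩
  · intro x
    obtain ⟨n, hn⟩ := hs (i x)
    refine ⟨n, ?_⟩
    have h1 : π (f ^ n • i x) ∈ (Submodule.span R (Set.range v)).map π :=
      Submodule.mem_map_of_mem hn
    rw [map_smul, hπi, Submodule.map_span] at h1
    refine (Submodule.span_le.mpr ?_) h1
    rintro _ ⟨_, ⟨b, rfl⟩, rfl⟩
    rcases hcase b with hq | h0
    · exact Submodule.subset_span ⟨⟨b, hq⟩, rfl⟩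
    · rw [h0]; exact Submodule.zero_mem _

end freeAway

section module

variable {R : Type*} [CommRing R] [IsReduced R] {S : Type*} [CommRing S] [Algebra R S]
  {M : Type*} [AddCommGroup M] [Module S M] [Module R M] [IsScalarTower R S M]
  [Module Sᵐᵒᵖ M] [IsCentralScalar S M]

theorem exists_module_data' {n r : ℕ} (φS : MvPolynomial (Fin n) R →ₐ[R] S)
    (hφS : Function.Surjective φS) (mgen : Fin r → M)
    (hgen : Submodule.span S (Set.range mgen) = ⊤) (g₀ : R) (hg₀ : ¬ IsNilpotent g₀) :
    ∃ f : R, ¬ IsNilpotent f ∧ g₀ ∣ f ∧ FreeAway' R f S ∧ FreeAway' R f M ∧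
      ∃ V : Finset (Fin r → S), (∀ a ∈ V, ∑ j, a j • mgen j = 0) ∧
        ∀ a : Fin r → S, ∑ j, a j • mgen j = 0 →
          ∃ k : ℕ, f ^ k • a ∈ Submodule.span S (V : Set (Fin r → S)) := by
  classical
  -- the universal and the actual trivial square zero extensions
  let π : (Fin r → S) →ₗ[S] M := Fintype.linearCombination S mgen
  have hπ : ∀ a, π a = ∑ j, a j • mgen j := fun a => Fintype.linearCombination_apply S mgen a
  have hπsurj : Function.Surjective π := by
    rw [← LinearMap.range_eq_top, Fintype.range_linearCombination, hgen]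
  let ρ : TrivSqZeroExt S (Fin r → S) →ₐ[S] TrivSqZeroExt S M := TrivSqZeroExt.map π
  let c₀ : R →+* TrivSqZeroExt S (Fin r → S) := (inlHom S (Fin r → S)).comp (algebraMap R S)
  let gens : Fin (n + r) → TrivSqZeroExt S (Fin r → S) :=
    Fin.addCases (fun i => inl (φS (X i))) (fun j => inr (Pi.single j 1))
  let φu : MvPolynomial (Fin (n + r)) R →+* TrivSqZeroExt S (Fin r → S) := eval₂Hom c₀ gens
  let φ' : MvPolynomial (Fin (n + r)) R →+* TrivSqZeroExt S M := (ρ : _ →+* _).comp φu
  have hφuC : ∀ c : R, φu (C c) = inl (algebraMap R S c) := fun c => by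
    simp [φu, c₀]
  have hφuXl : ∀ i : Fin n, φu (X (Fin.castAdd r i)) = inl (φS (X i)) := fun i => by
    simp [φu, gens]
  have hφuXr : ∀ j : Fin r, φu (X (Fin.natAdd n j)) = inr (Pi.single j 1) := fun j => by
    simp [φu, gens]
  have hlinu : ∀ (c : R) (p : MvPolynomial (Fin (n + r)) R), φu (c • p) = c • φu p := by
    intro c p
    rw [smul_eq_C_mul, map_mul, hφuC, inl_mul_eq_smul, tsze_algebraMap_smul]
  have hρlin : ∀ (c : R) (z : TrivSqZeroExt S (Fin r → S)), ρ (c • z) = c • ρ z := by
    intro c z
    rw [← tsze_algebraMap_smul, map_smul, tsze_algebraMap_smul]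
  have hlin' : ∀ (c : R) (p : MvPolynomial (Fin (n + r)) R), φ' (c • p) = c • φ' p := by
    intro c p
    change ρ (φu (c • p)) = c • ρ (φu p)
    rw [hlinu, hρlin]
  -- `φu` restricted to the first block of variables
  have h_inl : ∀ p : MvPolynomial (Fin n) R, φu (rename (Fin.castAdd r) p) = inl (φS p) := by
    intro p
    have : (φu.comp (rename (Fin.castAdd r) : MvPolynomial (Fin n) R →ₐ[R] _).toRingHom) =
        (inlHom S (Fin r → S)).comp φS.toRingHom := by
      apply MvPolynomial.ringHom_ext
      · intro c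
        simp only [RingHom.coe_comp, Function.comp_apply, AlgHom.toRingHom_eq_coe, RingHom.coe_coe,
          rename_C, hφuC, inlHom_apply]
        rw [← MvPolynomial.algebraMap_eq, AlgHom.commutes]
      · intro i
        simp only [RingHom.coe_comp, Function.comp_apply, AlgHom.toRingHom_eq_coe, RingHom.coe_coe,
          rename_X, hφuXl, inlHom_apply]
    exact congrArg (fun h => h p) this
  have hφusurj : Function.Surjective φu := by
    intro z
    obtain ⟨p, hp⟩ := hφS z.fst
    choose q hq using fun j => hφS (z.snd j)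
    refine ⟨rename (Fin.castAdd r) p + ∑ j, rename (Fin.castAdd r) (q j) * X (Fin.natAdd n j), ?_⟩
    rw [map_add, map_sum, h_inl, hp]
    have : ∀ j, φu (rename (Fin.castAdd r) (q j) * X (Fin.natAdd n j)) =
        inr (Pi.single j (z.snd j)) := by
      intro j
      rw [map_mul, h_inl, hφuXr, hq, inl_mul_inr]
      congr 1
      ext k
      simp [Pi.single_apply]
    simp_rw [this]
    rw [← inr_sum]
    apply TrivSqZeroExt.ext
    · simp
    · simp only [snd_add, snd_inl, snd_inr, zero_add]
      ext k
      simp [Finset.sum_apply, Pi.single_apply]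
  have hρsurj : Function.Surjective ρ := by
    intro z
    obtain ⟨a, ha⟩ := hπsurj z.snd
    refine ⟨inl z.fst + inr a, ?_⟩
    apply TrivSqZeroExt.ext
    · simp [ρ]
    · simp [ρ, ha]
  have hφ'surj : Function.Surjective φ' := hρsurj.comp hφusurj
  -- Gröbner data
  obtain ⟨f, G, hf, hdvd, hG0, hLI, hspan, hker⟩ :=
    exists_data' (MonomialOrder.lex) φ' hlin' g₀ hg₀
  -- each standard monomial lands in `inl S` or `inr M`
  have hcases : ∀ b : Fin (n + r) →₀ ℕ, (∃ s : S, φ' (monomial b 1) = inl s) ∨
      (∃ x : M, φ' (monomial b 1) = inr x) := by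
    intro b
    by_cases h : ∃ j : Fin r, b (Fin.natAdd n j) ≠ 0
    · right
      obtain ⟨j, hj⟩ := h
      have hle : Finsupp.single (Fin.natAdd n j) 1 ≤ b := by
        rw [Finsupp.single_le_iff]
        exact Nat.one_le_iff_ne_zero.mpr hj
      have hb : b = Finsupp.single (Fin.natAdd n j) 1 + (b - Finsupp.single (Fin.natAdd n j) 1) :=
        (add_tsub_cancel_of_le hle).symm
      rw [hb, monomial_single_add, pow_one, map_mul]
      change ∃ x, ρ (φu (X (Fin.natAdd n j))) * _ = inr x
      rw [hφuXr]
      simp only [ρ, map_inr]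
      rw [tsze_inr_mul]
      exact ⟨_, rfl⟩
    · left
      push Not at h
      have hmem : φ' (monomial b 1) ∈ (inlHom S M).range := by
        rw [monomial_eq, map_mul, map_finsuppProd]
        refine Subring.mul_mem _ ?_ (Subring.prod_mem _ fun k _ => ?_)
        · rw [C_1, map_one]; exact Subring.one_mem _
        · change φ' (X k ^ b k) ∈ _
          refine Fin.addCases (fun i => ?_) (fun j => ?_) k
          · rw [map_pow]
            refine Subring.pow_mem _ ?_ _
            refine ⟨φS (X i), ?_⟩
            change _ = ρ (φu (X (Fin.castAdd r i)))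
            rw [hφuXl]
            simp [ρ, map_inl]
          · rw [h j, pow_zero, map_one]
            exact Subring.one_mem _
      obtain ⟨s, hs⟩ := hmem
      exact ⟨s, hs.symm⟩
  have hsT : ∀ x : TrivSqZeroExt S M, ∃ k : ℕ, f ^ k • x ∈ Submodule.span R
      (Set.range fun b : Std MonomialOrder.lex (G : Set (MvPolynomial (Fin (n + r)) R)) =>
        φ' (monomial b.1 1)) := by
    intro x
    obtain ⟨p, rfl⟩ := hφ'surj x
    exact hspan p
  -- linear maps in and out of the extension
  let iS : S →ₗ[R] TrivSqZeroExt S M :=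
    { toFun := inl, map_add' := inl_add M, map_smul' := fun c s => inl_smul M c s }
  let pS : TrivSqZeroExt S M →ₗ[R] S :=
    { toFun := fst, map_add' := fst_add, map_smul' := fun c z => fst_smul c z }
  let iM : M →ₗ[R] TrivSqZeroExt S M :=
    { toFun := inr, map_add' := inr_add S, map_smul' := fun c x => inr_smul S c x }
  let pM : TrivSqZeroExt S M →ₗ[R] M :=
    { toFun := snd, map_add' := snd_add, map_smul' := fun c z => snd_smul c z }
  have hFS : FreeAway' R f S := by
    refine FreeAway'.of_retract _ hLI hsT iS pS (fun s => fst_inl M s) fun b => ?_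
    rcases hcases b.1 with ⟨s, hs⟩ | ⟨x, hx⟩
    · exact Or.inl ⟨s, hs.symm⟩
    · right
      change (φ' (monomial b.1 1)).fst = 0
      rw [hx, fst_inr]
  have hFM : FreeAway' R f M := by
    refine FreeAway'.of_retract _ hLI hsT iM pM (fun x => snd_inr S x) fun b => ?_
    rcases hcases b.1 with ⟨s, hs⟩ | ⟨x, hx⟩
    · right
      change (φ' (monomial b.1 1)).snd = 0
      rw [hs, snd_inl]
    · exact Or.inl ⟨x, hx.symm⟩
  refine ⟨f, hf, hdvd, hFS, hFM, G.image (fun g => (φu g).snd), ?_, ?_⟩
  · intro a ha
    obtain ⟨g, hg, rfl⟩ := Finset.mem_image.mp ha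
    have h0 : ρ (φu g) = 0 := hG0 g hg
    have := congrArg snd h0
    rw [snd_map, snd_zero, hπ] at this
    exact this
  · intro a ha
    obtain ⟨y, hy⟩ := hφusurj (inr a)
    have hy' : φ' y = 0 := by
      change ρ (φu y) = 0
      rw [hy]
      simp only [ρ, map_inr]
      rw [hπ, ha, inr_zero]
    obtain ⟨k, hk⟩ := hker y hy'
    refine ⟨k, ?_⟩
    -- the set of polynomials with `fst = 0` and `snd` in the span of `V`
    have key : ∀ p ∈ Ideal.span (G : Set (MvPolynomial (Fin (n + r)) R)),
        (φu p).fst = 0 ∧ (φu p).snd ∈ Submodule.span S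
          ((G.image (fun g => (φu g).snd) : Finset (Fin r → S)) : Set (Fin r → S)) := by
      intro p hp
      induction hp using Submodule.span_induction with
      | mem g hg =>
        refine ⟨?_, Submodule.subset_span (Finset.mem_coe.mpr (Finset.mem_image_of_mem _ hg))⟩
        have h0 : ρ (φu g) = 0 := hG0 g hg
        have := congrArg fst h0
        rwa [fst_map, fst_zero] at this
      | zero => simp
      | add p q _ _ hp hq =>
        refine ⟨by rw [map_add, fst_add, hp.1, hq.1, add_zero], ?_⟩
        rw [map_add, snd_add]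
        exact Submodule.add_mem _ hp.2 hq.2
      | smul q p _ hp =>
        rw [smul_eq_mul, map_mul]
        refine ⟨by rw [fst_mul, hp.1, mul_zero], ?_⟩
        rw [tsze_snd_mul, hp.1, zero_smul, add_zero]
        exact Submodule.smul_mem _ _ hp.2
    have := (key _ hk).2
    rwa [hlinu, snd_smul, hy, snd_inr] at this

end module

section wrap

/-- **Generic freeness over a reduced ring** (witness form): for a reduced ring `R`, a finite type
`R`-algebra `S`, a finite `S`-module `M` and a non-nilpotent `g₀ : R` there is a non-nilpotent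
multiple `f` of `g₀` such that `S` and `M` are free away from `f`; moreover the kernel of a
presentation of `S` (resp. of `M`) is finitely generated up to powers of `f`. -/
theorem exists_freeAway' (R : Type*) [CommRing R] [IsReduced R] (S : Type*) [CommRing S]
    [Algebra R S] [Algebra.FiniteType R S] (M : Type*) [AddCommGroup M] [Module S M] [Module R M]
    [IsScalarTower R S M] [Module.Finite S M] (g₀ : R) (hg₀ : ¬ IsNilpotent g₀) :
    ∃ f : R, ¬ IsNilpotent f ∧ g₀ ∣ f ∧ FreeAway' R f S ∧ FreeAway' R f M ∧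
      (∃ (n : ℕ) (φ : MvPolynomial (Fin n) R →ₐ[R] S) (G : Finset (MvPolynomial (Fin n) R)),
        Function.Surjective φ ∧ (∀ g ∈ G, φ g = 0) ∧
        ∀ p, φ p = 0 → ∃ k : ℕ, f ^ k • p ∈ Ideal.span (G : Set (MvPolynomial (Fin n) R))) ∧
      (∃ (r : ℕ) (mgen : Fin r → M) (V : Finset (Fin r → S)),
        Submodule.span S (Set.range mgen) = ⊤ ∧ (∀ a ∈ V, ∑ j, a j • mgen j = 0) ∧
        ∀ a : Fin r → S, ∑ j, a j • mgen j = 0 →
          ∃ k : ℕ, f ^ k • a ∈ Submodule.span S (V : Set (Fin r → S))) := by
  classical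
  letI : Module Sᵐᵒᵖ M := Module.compHom M ((RingHom.id S).fromOpposite fun _ _ => mul_comm _ _)
  haveI : IsCentralScalar S M := ⟨fun s m => rfl⟩
  obtain ⟨n, φ, hφ⟩ := Algebra.FiniteType.iff_quotient_mvPolynomial''.mp
    (inferInstance : Algebra.FiniteType R S)
  obtain ⟨r, mgen, hgen⟩ := Module.Finite.exists_fin (R := S) (M := M)
  obtain ⟨f₁, G, hf₁, hd₁, hG0, -, -, hker⟩ := exists_data' (MonomialOrder.lex) φ.toRingHom
    (fun c p => map_smul φ c p) g₀ hg₀
  obtain ⟨f₂, hf₂, hd₂, hS, hM, V, hV0, hV⟩ := exists_module_data' φ hφ mgen hgen f₁ hf₁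
  refine ⟨f₂, hf₂, dvd_trans hd₁ hd₂, hS, hM,
    ⟨n, φ, G, hφ, hG0, fun p hp => ?_⟩, ⟨r, mgen, V, hgen, hV0, hV⟩⟩
  obtain ⟨k, hk⟩ := hker p hp
  obtain ⟨c, rfl⟩ := hd₂
  refine ⟨k, ?_⟩
  rw [mul_pow, mul_comm, mul_smul]
  rw [smul_eq_C_mul (a := c ^ k)]
  exact Ideal.mul_mem_left _ _ hk

end wrap

section pack

attribute [local instance] Algebra.TensorProduct.rightAlgebra in
/-- Finite presentation of `R_f → S_f` from finite presentation of `R_f ⊗ S` over `R_f`. -/
theorem awayMap_finitePresentation {R S : Type u} [CommRing R] [CommRing S] [Algebra R S] (f : R)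
    (h : Algebra.FinitePresentation (Localization.Away f) (Localization.Away f ⊗[R] S)) :
    (Localization.awayMap (algebraMap R S) f).FinitePresentation := by
  have h1 : (algebraMap (Localization.Away f) (Localization.Away f ⊗[R] S)).FinitePresentation :=
    RingHom.finitePresentation_algebraMap.mpr h
  have h2 : Localization.awayMap (algebraMap R S) f =
      ((IsLocalization.Away.tensorRightEquiv S f (Localization.Away f)) : _ →+* _).comp
        (algebraMap (Localization.Away f) (Localization.Away f ⊗[R] S)) := by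
    apply IsLocalization.ringHom_ext (Submonoid.powers f)
    ext x
    simp only [Localization.awayMap, IsLocalization.Away.map, RingHom.coe_comp,
      Function.comp_apply, IsLocalization.map_eq, Algebra.TensorProduct.algebraMap_apply,
      Algebra.algebraMap_self, RingHom.id_apply, Algebra.TensorProduct.tmul_one_eq_one_tmul]
    have h3 : (1 : Localization.Away f) ⊗ₜ[R] (algebraMap R S x) =
        algebraMap S (Localization.Away f ⊗[R] S) (algebraMap R S x) := rfl
    rw [h3]
    change _ = IsLocalization.algEquiv (Submonoid.powers (algebraMap R S f)) _ _ _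
    rw [AlgEquiv.commutes]
  rw [h2]
  exact RingHom.finitePresentation_respectsIso.1 _
    (IsLocalization.Away.tensorRightEquiv S f (Localization.Away f)).toRingEquiv h1

/-- The four conclusions of generic freeness over `D(f)`. -/
def Good (R S : Type u) [CommRing R] [CommRing S] [Algebra R S] (M : Type u) [AddCommGroup M]
    [Module S M] [Module R M] [IsScalarTower R S M] (f : R) : Prop :=
  Module.Free (Localization.Away f) (LocalizedModule (Submonoid.powers f) M) ∧
    Module.Free (Localization.Away f) (LocalizedModule (Submonoid.powers f) S) ∧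
    (Localization.awayMap (algebraMap R S) f).FinitePresentation ∧
    Module.FinitePresentation (Localization.Away (algebraMap R S f))
      (LocalizedModule (Submonoid.powers (algebraMap R S f)) M)

/-- Generic freeness over a reduced ring, localized form: every non-nilpotent `g₀` has a
non-nilpotent multiple `f` with the four conclusions over `D(f)`. -/
theorem exists_good_multiple (R S : Type u) [CommRing R] [IsReduced R] [CommRing S]
    [Algebra R S] [Algebra.FiniteType R S] (M : Type u) [AddCommGroup M] [Module S M] [Module R M]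
    [IsScalarTower R S M] [Module.Finite S M] (g₀ : R) (hg₀ : ¬ IsNilpotent g₀) :
    ∃ f : R, ¬ IsNilpotent f ∧ g₀ ∣ f ∧ Good R S M f := by
  obtain ⟨f, hf, hdvd, hS, hM, ⟨n, φ, G, hφ, hG0, hker⟩, ⟨r, mgen, V, hgen, hV0, hV⟩⟩ :=
    exists_freeAway' R S M g₀ hg₀
  refine ⟨f, hf, hdvd, ?_, ?_, ?_, ?_⟩
  · exact hM.free (Localization.Away f) (LocalizedModule.mkLinearMap (Submonoid.powers f) M)
  · exact hS.free (Localization.Away f) (LocalizedModule.mkLinearMap (Submonoid.powers f) S)
  · exact awayMap_finitePresentation f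
      (finitePresentation_tensor φ hφ f G hG0 hker (Localization.Away f))
  · refine finitePresentation_localizedModule (algebraMap R S f) mgen hgen V hV0 fun a ha => ?_
    obtain ⟨k, hk⟩ := hV a ha
    refine ⟨k, ?_⟩
    rw [← map_pow, algebraMap_smul]
    exact hk

end pack

end Groth.Agent.Lib.Seat14.GenFreeRed
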