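import Mathlib
import Groth.Agent.Lib.Seat14GenFreeRed

/-!
# Generic flatness over a reduced base scheme

Ring-level transfer of the generic freeness data to arbitrary models of the localizations, a
chaining lemma over finitely many algebras, and the scheme-level packaging.
-/

set_option autoImplicit false
universe u v

namespace Groth.Agent.Lib.Seat14.GenFlatRed

open TensorProduct
open Groth.Agent.Lib.Helper2.GenFree Groth.Agent.Lib.Seat14.GenFreeRed

section ring

/-- Witness data for "`S` is free and finitely presented over `R` after inverting `f`". -/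
def Data (R S : Type u) [CommRing R] [CommRing S] [Algebra R S] (f : R) : Prop :=
  FreeAway' R f S ∧
    ∃ (n : ℕ) (φ : MvPolynomial (Fin n) R →ₐ[R] S) (G : Finset (MvPolynomial (Fin n) R)),
      Function.Surjective φ ∧ (∀ g ∈ G, φ g = 0) ∧
      ∀ p, φ p = 0 → ∃ k : ℕ, f ^ k • p ∈ Ideal.span (G : Set (MvPolynomial (Fin n) R))

theorem Data.of_dvd {R S : Type u} [CommRing R] [CommRing S] [Algebra R S] {f f' : R}
    (h : Data R S f) (hd : f ∣ f') : Data R S f' := by
  obtain ⟨hfree, n, φ, G, hφ, hG, hker⟩ := h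
  refine ⟨hfree.of_dvd hd, n, φ, G, hφ, hG, fun p hp => ?_⟩
  obtain ⟨k, hk⟩ := hker p hp
  obtain ⟨c, rfl⟩ := hd
  refine ⟨k, ?_⟩
  rw [mul_pow, mul_comm, mul_smul]
  rw [MvPolynomial.smul_eq_C_mul (a := c ^ k)]
  exact Ideal.mul_mem_left _ _ hk

theorem exists_data_multiple (R S : Type u) [CommRing R] [IsReduced R] [CommRing S] [Algebra R S]
    [Algebra.FiniteType R S] (g₀ : R) (hg₀ : ¬ IsNilpotent g₀) :
    ∃ f : R, ¬ IsNilpotent f ∧ g₀ ∣ f ∧ Data R S f := by
  obtain ⟨f, hf, hdvd, hS, -, hfp, -⟩ := exists_freeAway' R S S g₀ hg₀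
  exact ⟨f, hf, hdvd, hS, hfp⟩

attribute [local instance] Algebra.TensorProduct.rightAlgebra in
/-- From the witness data to flatness and finite presentation of the localized ring map, for
arbitrary models of the localizations. -/
theorem Data.flat_fp {R S : Type u} [CommRing R] [CommRing S] [Algebra R S] {f : R}
    (h : Data R S f) (A B : Type u) [CommRing A] [CommRing B] [Algebra R A]
    [IsLocalization.Away f A] [Algebra S B] [IsLocalization.Away (algebraMap R S f) B] :
    (IsLocalization.Away.map A B (algebraMap R S) f).Flat ∧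
      (IsLocalization.Away.map A B (algebraMap R S) f).FinitePresentation := by
  obtain ⟨hfree, n, φ, G, hφ, hG, hker⟩ := h
  set ψ : A →+* B := IsLocalization.Away.map A B (algebraMap R S) f with hψ
  have hψR : ∀ r : R, ψ (algebraMap R A r) = algebraMap S B (algebraMap R S r) := fun r => by
    rw [hψ, IsLocalization.Away.map, IsLocalization.map_eq]
  constructor
  · letI : Algebra A B := ψ.toAlgebra
    letI : Algebra R B := ((algebraMap S B).comp (algebraMap R S)).toAlgebra
    haveI : IsScalarTower R S B := IsScalarTower.of_algebraMap_eq fun _ => rfl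
    haveI : IsScalarTower R A B := IsScalarTower.of_algebraMap_eq fun r => (hψR r).symm
    haveI : IsLocalizedModule (Submonoid.powers f) (IsScalarTower.toAlgHom R S B).toLinearMap := by
      rw [isLocalizedModule_iff_isLocalization, Algebra.algebraMapSubmonoid_powers]
      infer_instance
    haveI : Module.Free A B := hfree.free A (IsScalarTower.toAlgHom R S B).toLinearMap
    change Module.Flat A B
    infer_instance
  · have h0 : Algebra.FinitePresentation A (A ⊗[R] S) :=
      finitePresentation_tensor φ hφ f G hG hker A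
    have h1 : (algebraMap A (A ⊗[R] S)).FinitePresentation :=
      RingHom.finitePresentation_algebraMap.mpr h0
    let e : A ⊗[R] S ≃ₐ[S] B :=
      IsLocalization.algEquiv (Submonoid.powers (algebraMap R S f)) (A ⊗[R] S) B
    have h2 : ψ = (e : A ⊗[R] S →+* B).comp (algebraMap A (A ⊗[R] S)) := by
      apply IsLocalization.ringHom_ext (Submonoid.powers f)
      ext x
      simp only [RingHom.coe_comp, Function.comp_apply, hψR,
        Algebra.TensorProduct.algebraMap_apply, Algebra.algebraMap_self, RingHom.id_apply,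
        Algebra.TensorProduct.tmul_one_eq_one_tmul]
      have h3 : (1 : A) ⊗ₜ[R] (algebraMap R S x) = algebraMap S (A ⊗[R] S) (algebraMap R S x) := rfl
      rw [h3]
      change _ = e _
      rw [AlgEquiv.commutes]
    rw [h2]
    exact RingHom.finitePresentation_respectsIso.1 _ e.toRingEquiv h1

/-- Chaining finitely many "generic" conditions over a reduced ring. -/
theorem exists_common_multiple {R : Type*} [CommRing R] {ι : Type*} (s : Finset ι)
    (D : ι → R → Prop) (hmono : ∀ i f f', D i f → f ∣ f' → D i f')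
    (hex : ∀ i ∈ s, ∀ g, ¬ IsNilpotent g → ∃ f, ¬ IsNilpotent f ∧ g ∣ f ∧ D i f)
    (g₀ : R) (hg₀ : ¬ IsNilpotent g₀) :
    ∃ f, ¬ IsNilpotent f ∧ g₀ ∣ f ∧ ∀ i ∈ s, D i f := by
  classical
  induction s using Finset.induction_on with
  | empty => exact ⟨g₀, hg₀, dvd_rfl, fun i hi => absurd hi (Finset.notMem_empty i)⟩
  | insert a s _ ih =>
    obtain ⟨f₁, hf₁, hd₁, hD₁⟩ := ih fun i hi => hex i (Finset.mem_insert_of_mem hi)
    obtain ⟨f₂, hf₂, hd₂, hD₂⟩ := hex a (Finset.mem_insert_self a s) f₁ hf₁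
    refine ⟨f₂, hf₂, dvd_trans hd₁ hd₂, fun i hi => ?_⟩
    rcases Finset.mem_insert.mp hi with rfl | hi
    · exact hD₂
    · exact hmono i f₁ f₂ (hD₁ i hi) hd₂

end ring

section scheme
open AlgebraicGeometry CategoryTheory

/-- A property `P` with `HasRingHomProperty P Q` holds for the restriction `f ∣_ U` as soon as `Q`
holds on suitable affine charts inside `U` around every point of `f ⁻¹ U`. -/
theorem restrict_of_exists_appLE {P : MorphismProperty Scheme.{u}}
    {Q : ∀ {R S : Type u} [CommRing R] [CommRing S], (R →+* S) → Prop} [HasRingHomProperty P Q]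
    (hQ : RingHom.StableUnderCompositionWithLocalizationAwaySource Q)
    {X S : Scheme.{u}} (f : X ⟶ S) (U : S.Opens)
    (H : ∀ x : X, f x ∈ U → ∃ (A : S.affineOpens) (B : X.affineOpens), A.1 ≤ U ∧ x ∈ B.1 ∧
       ∃ e : B.1 ≤ f ⁻¹ᵁ A.1, Q (f.appLE A.1 B.1 e).hom) : P (f ∣_ U) := by
  rw [HasRingHomProperty.iff_exists_appLE (P := P) hQ]
  intro x
  obtain ⟨A, B, hAU, hxB, e, hq⟩ := H x.1 x.2
  have hBU : B.1 ≤ f ⁻¹ᵁ U := e.trans (f.preimage_mono hAU)
  have e' : (f ⁻¹ᵁ U).ι ⁻¹ᵁ B.1 ≤ (f ∣_ U) ⁻¹ᵁ (U.ι ⁻¹ᵁ A.1) := by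
    rw [← Scheme.Hom.comp_preimage, morphismRestrict_ι, Scheme.Hom.comp_preimage]
    exact Scheme.Hom.preimage_mono _ e
  have h1 : U.ι ''ᵁ (U.ι ⁻¹ᵁ A.1) = A.1 := by
    rw [Scheme.Hom.image_preimage_eq_opensRange_inf, Scheme.Opens.opensRange_ι]
    exact inf_eq_right.mpr hAU
  have h2 : (f ⁻¹ᵁ U).ι ''ᵁ ((f ⁻¹ᵁ U).ι ⁻¹ᵁ B.1) = B.1 := by
    rw [Scheme.Hom.image_preimage_eq_opensRange_inf, Scheme.Opens.opensRange_ι]
    exact inf_eq_right.mpr hBU
  refine ⟨⟨U.ι ⁻¹ᵁ A.1, A.2.preimage_of_isOpenImmersion U.ι (by simpa using hAU)⟩,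
    ⟨(f ⁻¹ᵁ U).ι ⁻¹ᵁ B.1, B.2.preimage_of_isOpenImmersion _ (by simpa using hBU)⟩, hxB, e', ?_⟩
  rw [morphismRestrict_appLE]
  exact (Scheme.Hom.appLE_congr f _ h1 h2 (fun φ => Q φ.hom)).mpr hq

/-- Affine-local generic flatness over a reduced base: for an affine open `V` of `S` and a
non-nilpotent section `g₀`, some non-nilpotent multiple `f'` of `g₀` has the property that `f` is
flat and of finite presentation over `D(f')`, witnessed on affine charts. -/
theorem affine_claim {X S : Scheme.{u}} (f : X ⟶ S) [IsReduced S] [LocallyOfFiniteType f]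
    [QuasiCompact f] (V : S.Opens) (hV : IsAffineOpen V) (g₀ : Γ(S, V)) (hg₀ : ¬ IsNilpotent g₀) :
    ∃ f' : Γ(S, V), ¬ IsNilpotent f' ∧ g₀ ∣ f' ∧ ∀ x : X, f x ∈ S.basicOpen f' →
      ∃ B : X.affineOpens, x ∈ B.1 ∧ ∃ e : B.1 ≤ f ⁻¹ᵁ (S.basicOpen f'),
        (f.appLE (S.basicOpen f') B.1 e).hom.Flat ∧
          (f.appLE (S.basicOpen f') B.1 e).hom.FinitePresentation := by
  classical
  have hc : IsCompact ((f ⁻¹ᵁ V : X.Opens) : Set X) := f.isCompact_preimage hV.isCompact
  obtain ⟨s, hs, hU⟩ := isCompact_iff_finite_and_eq_biUnion_affineOpens.mp hc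
  have hle : ∀ i ∈ s, (i : X.Opens) ≤ f ⁻¹ᵁ V := by
    intro i hi
    rw [hU]
    exact le_iSup₂ (f := fun i (_ : i ∈ s) => (i : X.Opens)) i hi
  let D : X.affineOpens → Γ(S, V) → Prop := fun i f' =>
    ∀ e : (i : X.Opens) ≤ f ⁻¹ᵁ V,
      @Data Γ(S, V) Γ(X, (i : X.Opens)) _ _ (f.appLE V i e).hom.toAlgebra f'
  obtain ⟨f', hf', hdvd, hD⟩ := exists_common_multiple hs.toFinset D
    (fun i f₁ f₂ h hd e => by
      letI := (f.appLE V i e).hom.toAlgebra
      exact (h e).of_dvd hd)
    (fun i hi g hg => by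
      have e := hle i (hs.mem_toFinset.mp hi)
      letI := (f.appLE V i e).hom.toAlgebra
      haveI : Algebra.FiniteType Γ(S, V) Γ(X, (i : X.Opens)) :=
        HasRingHomProperty.appLE (P := @LocallyOfFiniteType) f inferInstance ⟨V, hV⟩ i e
      obtain ⟨f₁, hf₁, hd₁, hdata⟩ := exists_data_multiple Γ(S, V) Γ(X, (i : X.Opens)) g hg
      exact ⟨f₁, hf₁, hd₁, fun _ => hdata⟩) g₀ hg₀
  refine ⟨f', hf', hdvd, fun x hx => ?_⟩
  have hxV : x ∈ f ⁻¹ᵁ V := S.basicOpen_le f' hx
  rw [hU] at hxV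
  obtain ⟨i, hi, hxi⟩ : ∃ i ∈ s, x ∈ (i : X.Opens) := by simpa using hxV
  have e := hle i hi
  have e' : X.basicOpen ((f.appLE V i e) f') ≤ f ⁻¹ᵁ S.basicOpen f' := by
    simp [Scheme.Hom.appLE]
  refine ⟨⟨X.basicOpen ((f.appLE V i e) f'), i.2.basicOpen _⟩, ?_, e', ?_⟩
  · have : X.basicOpen ((f.appLE V i e) f') = (i : X.Opens) ⊓ f ⁻¹ᵁ S.basicOpen f' := by
      simp [Scheme.Hom.appLE]
    change x ∈ X.basicOpen ((f.appLE V i e) f')
    rw [this]
    exact ⟨hxi, hx⟩
  · have h1 := hV.appLE_eq_away_map f i.2 e f'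
    letI := (f.appLE V i e).hom.toAlgebra
    haveI := hV.isLocalization_basicOpen f'
    haveI : IsLocalization.Away (algebraMap Γ(S, V) Γ(X, (i : X.Opens)) f')
        Γ(X, X.basicOpen ((f.appLE V i e) f')) := i.2.isLocalization_basicOpen ((f.appLE V i e) f')
    have h2 := (hD i (hs.mem_toFinset.mpr hi) e).flat_fp Γ(S, S.basicOpen f')
      Γ(X, X.basicOpen ((f.appLE V i e) f'))
    dsimp only at h1
    rw [h1, CommRingCat.hom_ofHom]
    exact h2

/-- **Generic flatness over a reduced base**: a quasi-compact morphism locally of finite type to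
a reduced scheme is flat and locally of finite presentation over a dense open of the base. -/
theorem generic_flatness {X S : Scheme.{u}} (f : X ⟶ S) [IsReduced S] [LocallyOfFiniteType f]
    [QuasiCompact f] :
    ∃ U : S.Opens, Dense (U : Set ↑S) ∧ Flat (f ∣_ U) ∧ LocallyOfFinitePresentation (f ∣_ U) := by
  classical
  -- the good basic opens
  let GoodS : (V : S.affineOpens) → Γ(S, V.1) → Prop := fun V f' =>
    ∀ x : X, f x ∈ S.basicOpen f' →
      ∃ B : X.affineOpens, x ∈ B.1 ∧ ∃ e : B.1 ≤ f ⁻¹ᵁ (S.basicOpen f'),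
        (f.appLE (S.basicOpen f') B.1 e).hom.Flat ∧
          (f.appLE (S.basicOpen f') B.1 e).hom.FinitePresentation
  let U : S.Opens := ⨆ (V : S.affineOpens) (f' : {f' : Γ(S, V.1) // GoodS V f'}),
    S.basicOpen f'.1
  have hmemU : ∀ y : S, y ∈ U → ∃ (V : S.affineOpens) (f' : Γ(S, V.1)), GoodS V f' ∧
      y ∈ S.basicOpen f' := by
    intro y hy
    simp only [U, TopologicalSpace.Opens.mem_iSup] at hy
    obtain ⟨V, f', hy⟩ := hy
    exact ⟨V, f'.1, f'.2, hy⟩
  have hleU : ∀ (V : S.affineOpens) (f' : Γ(S, V.1)), GoodS V f' → S.basicOpen f' ≤ U := by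
    intro V f' hgood
    exact le_iSup₂_of_le V ⟨f', hgood⟩ le_rfl
  have hkey : ∀ x : X, f x ∈ U → ∃ (A : S.affineOpens) (B : X.affineOpens), A.1 ≤ U ∧ x ∈ B.1 ∧
      ∃ e : B.1 ≤ f ⁻¹ᵁ A.1, (f.appLE A.1 B.1 e).hom.Flat ∧
        (f.appLE A.1 B.1 e).hom.FinitePresentation := by
    intro x hx
    obtain ⟨V, f', hgood, hxf'⟩ := hmemU _ hx
    obtain ⟨B, hxB, e, h1, h2⟩ := hgood x hxf'
    exact ⟨⟨S.basicOpen f', V.2.basicOpen f'⟩, B, hleU V f' hgood, hxB, e, h1, h2⟩
  refine ⟨U, ?_, ?_, ?_⟩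
  · rw [dense_iff_inter_open]
    rintro W hW ⟨y, hy⟩
    obtain ⟨V, hV, hyV, hVW⟩ := TopologicalSpace.Opens.isBasis_iff_nbhd.mp S.isBasis_affineOpens
      (show y ∈ (⟨W, hW⟩ : S.Opens) from hy)
    have h1 : ¬ IsNilpotent (1 : Γ(S, V)) := by
      intro hn
      have h10 : (1 : Γ(S, V)) = 0 := by
        obtain ⟨n, hn⟩ := hn
        rwa [one_pow] at hn
      have : S.basicOpen (1 : Γ(S, V)) = ⊥ := by rw [h10, Scheme.basicOpen_zero]
      rw [Scheme.basicOpen_of_isUnit _ isUnit_one] at this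
      rw [this] at hyV
      exact hyV
    obtain ⟨f', hf', -, hgood⟩ := affine_claim f V hV 1 h1
    have hne : S.basicOpen f' ≠ ⊥ := by
      rw [Ne, basicOpen_eq_bot_iff]
      rintro rfl
      exact hf' IsNilpotent.zero
    obtain ⟨z, hz⟩ : ∃ z, z ∈ S.basicOpen f' := by
      by_contra hcon
      push Not at hcon
      exact hne (TopologicalSpace.Opens.ext (Set.eq_empty_of_forall_notMem hcon))
    exact ⟨z, hVW (S.basicOpen_le f' hz), hleU ⟨V, hV⟩ f' hgood hz⟩
  · apply restrict_of_exists_appLE (P := @Flat) (Q := RingHom.Flat)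
      (RingHom.Flat.stableUnderComposition.stableUnderCompositionWithLocalizationAway
        RingHom.Flat.holdsForLocalizationAway).left
    intro x hx
    obtain ⟨A, B, hAU, hxB, e, h1, -⟩ := hkey x hx
    exact ⟨A, B, hAU, hxB, e, h1⟩
  · apply restrict_of_exists_appLE (P := @LocallyOfFinitePresentation)
      (Q := RingHom.FinitePresentation)
      (RingHom.finitePresentation_stableUnderComposition.stableUnderCompositionWithLocalizationAway
        RingHom.finitePresentation_holdsForLocalizationAway).left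
    intro x hx
    obtain ⟨A, B, hAU, hxB, e, -, h2⟩ := hkey x hx
    exact ⟨A, B, hAU, hxB, e, h2⟩

end scheme

end Groth.Agent.Lib.Seat14.GenFlatRed
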