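import Groth.Agent.Lib.Seat14KZero

/-!
# Schanuel's lemma and a key stable isomorphism (seat 14)

`key`: if `f : F → P` is injective with cokernel killed by `δ` and `Q`, `Q'` are projective modules
which become isomorphic modulo `δ`, then `(P ⊗ Q) × (F ⊗ Q') ≃ (P ⊗ Q') × (F ⊗ Q)`.
-/

set_option autoImplicit false
universe u

open TensorProduct

namespace Groth.Agent.Lib.Seat14.Schanuel

open Groth.Agent.Lib.Seat14.KZero

variable {R : Type u} [CommRing R]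

section Schanuel

variable {P₁ P₂ M : Type*} [AddCommGroup P₁] [Module R P₁] [AddCommGroup P₂] [Module R P₂]
  [AddCommGroup M] [Module R M]

/-- the fibre product of two maps -/
def fib (π₁ : P₁ →ₗ[R] M) (π₂ : P₂ →ₗ[R] M) : Submodule R (P₁ × P₂) :=
  LinearMap.ker (π₁ ∘ₗ LinearMap.fst R P₁ P₂ - π₂ ∘ₗ LinearMap.snd R P₁ P₂)

theorem mem_fib {π₁ : P₁ →ₗ[R] M} {π₂ : P₂ →ₗ[R] M} {x : P₁ × P₂} :
    x ∈ fib π₁ π₂ ↔ π₁ x.1 = π₂ x.2 := by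
  simp [fib, sub_eq_zero]

/-- The kernel of the first projection of the fibre product is `ker π₂`. -/
def kerFstEquiv (π₁ : P₁ →ₗ[R] M) (π₂ : P₂ →ₗ[R] M) :
    LinearMap.ker ((LinearMap.fst R P₁ P₂) ∘ₗ (fib π₁ π₂).subtype) ≃ₗ[R] LinearMap.ker π₂ where
  toFun x := ⟨(x : fib π₁ π₂).1.2, by
    have h1 : ((x : fib π₁ π₂) : P₁ × P₂).1 = 0 := x.2
    have h2 := mem_fib.mp (x : fib π₁ π₂).2
    rw [h1, map_zero] at h2
    exact h2.symm⟩
  map_add' x y := rfl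
  map_smul' a x := rfl
  invFun b := ⟨⟨(0, (b : P₂)), mem_fib.mpr (by rw [map_zero]; exact b.2.symm)⟩, rfl⟩
  left_inv x := by
    have h1 : ((x : fib π₁ π₂) : P₁ × P₂).1 = 0 := x.2
    apply Subtype.ext
    apply Subtype.ext
    exact Prod.ext h1.symm rfl
  right_inv b := rfl

/-- The kernel of the second projection of the fibre product is `ker π₁`. -/
def kerSndEquiv (π₁ : P₁ →ₗ[R] M) (π₂ : P₂ →ₗ[R] M) :
    LinearMap.ker ((LinearMap.snd R P₁ P₂) ∘ₗ (fib π₁ π₂).subtype) ≃ₗ[R] LinearMap.ker π₁ where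
  toFun x := ⟨(x : fib π₁ π₂).1.1, by
    have h1 : ((x : fib π₁ π₂) : P₁ × P₂).2 = 0 := x.2
    have h2 := mem_fib.mp (x : fib π₁ π₂).2
    rw [h1, map_zero] at h2
    exact h2⟩
  map_add' x y := rfl
  map_smul' a x := rfl
  invFun b := ⟨⟨((b : P₁), 0), mem_fib.mpr (by rw [map_zero]; exact b.2)⟩, rfl⟩
  left_inv x := by
    have h1 : ((x : fib π₁ π₂) : P₁ × P₂).2 = 0 := x.2
    apply Subtype.ext
    apply Subtype.ext
    exact Prod.ext rfl h1.symm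
  right_inv b := rfl

/-- **Schanuel's lemma.** -/
theorem schanuel [Module.Projective R P₁] [Module.Projective R P₂]
    (π₁ : P₁ →ₗ[R] M) (π₂ : P₂ →ₗ[R] M)
    (h₁ : Function.Surjective π₁) (h₂ : Function.Surjective π₂) :
    Nonempty ((LinearMap.ker π₁ × P₂) ≃ₗ[R] (LinearMap.ker π₂ × P₁)) := by
  let g₁ : fib π₁ π₂ →ₗ[R] P₁ := (LinearMap.fst R P₁ P₂) ∘ₗ (fib π₁ π₂).subtype
  let g₂ : fib π₁ π₂ →ₗ[R] P₂ := (LinearMap.snd R P₁ P₂) ∘ₗ (fib π₁ π₂).subtype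
  have hg₁ : Function.Surjective g₁ := by
    intro a
    obtain ⟨b, hb⟩ := h₂ (π₁ a)
    exact ⟨⟨(a, b), mem_fib.mpr hb.symm⟩, rfl⟩
  have hg₂ : Function.Surjective g₂ := by
    intro b
    obtain ⟨a, ha⟩ := h₁ (π₂ b)
    exact ⟨⟨(a, b), mem_fib.mpr ha⟩, rfl⟩
  obtain ⟨s₁, hs₁⟩ := Module.projective_lifting_property g₁ LinearMap.id hg₁
  obtain ⟨s₂, hs₂⟩ := Module.projective_lifting_property g₂ LinearMap.id hg₂
  let e₁ : fib π₁ π₂ ≃ₗ[R] (P₁ × LinearMap.ker g₁) := equivProdKer g₁ s₁ hs₁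
  let e₂ : fib π₁ π₂ ≃ₗ[R] (P₂ × LinearMap.ker g₂) := equivProdKer g₂ s₂ hs₂
  exact ⟨(LinearEquiv.prodCongr (kerSndEquiv π₁ π₂).symm (LinearEquiv.refl R P₂)) ≪≫ₗ
    (LinearEquiv.prodComm R _ _) ≪≫ₗ e₂.symm ≪≫ₗ e₁ ≪≫ₗ (LinearEquiv.prodComm R _ _) ≪≫ₗ
    (LinearEquiv.prodCongr (kerFstEquiv π₁ π₂) (LinearEquiv.refl R P₁))⟩

end Schanuel

section Key

variable {F P Q Q' : Type u} [AddCommGroup F] [Module R F] [AddCommGroup P] [Module R P]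
  [AddCommGroup Q] [Module R Q] [AddCommGroup Q'] [Module R Q']

/-- If `δ` kills `T`, then `T ⊗ Q` only depends on `Q` modulo `δ`. -/
theorem nonempty_tensor_equiv_of_smul_eq_zero (T : Type u) [AddCommGroup T] [Module R T]
    (δ : R) (hδ : ∀ x : T, δ • x = 0)
    (e : ((R ⧸ Ideal.span {δ}) ⊗[R] Q) ≃ₗ[R] ((R ⧸ Ideal.span {δ}) ⊗[R] Q')) :
    Nonempty ((T ⊗[R] Q) ≃ₗ[R] (T ⊗[R] Q')) := by
  have hbot : (Ideal.span {δ}) • (⊤ : Submodule R T) = ⊥ := by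
    rw [eq_bot_iff, Submodule.smul_le]
    intro r hr n _
    obtain ⟨a, rfl⟩ := Ideal.mem_span_singleton'.mp hr
    rw [Submodule.mem_bot, mul_smul, hδ, smul_zero]
  let a : (T ⊗[R] (R ⧸ Ideal.span {δ})) ≃ₗ[R] T :=
    (TensorProduct.tensorQuotEquivQuotSMul T (Ideal.span {δ})) ≪≫ₗ
      (Submodule.quotEquivOfEqBot _ hbot)
  let b : ∀ (X : Type u) [AddCommGroup X] [Module R X],
      (T ⊗[R] X) ≃ₗ[R] (T ⊗[R] ((R ⧸ Ideal.span {δ}) ⊗[R] X)) := fun X _ _ =>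
    (TensorProduct.congr a.symm (LinearEquiv.refl R X)) ≪≫ₗ (TensorProduct.assoc R T _ X)
  exact ⟨b Q ≪≫ₗ (TensorProduct.congr (LinearEquiv.refl R T) e) ≪≫ₗ (b Q').symm⟩

/-- The kernel of `P ⊗ Q → (P / f F) ⊗ Q` is `F ⊗ Q` for injective `f` and flat `Q`. -/
theorem nonempty_ker_rTensor_mkQ_equiv [Module.Flat R Q] (f : F →ₗ[R] P)
    (hf : Function.Injective f) :
    Nonempty (LinearMap.ker ((LinearMap.range f).mkQ.rTensor Q) ≃ₗ[R] (F ⊗[R] Q)) := by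
  have hinj : Function.Injective (f.rTensor Q) :=
    Module.Flat.rTensor_preserves_injective_linearMap f hf
  have hex : Function.Exact (f.rTensor Q) ((LinearMap.range f).mkQ.rTensor Q) :=
    rTensor_exact Q (LinearMap.exact_map_mkQ_range f) (Submodule.mkQ_surjective _)
  have hker : LinearMap.ker ((LinearMap.range f).mkQ.rTensor Q) = LinearMap.range (f.rTensor Q) :=
    hex.linearMap_ker_eq
  exact ⟨(LinearEquiv.ofEq _ _ hker) ≪≫ₗ (LinearEquiv.ofInjective (f.rTensor Q) hinj).symm⟩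

/-- The key stable isomorphism. -/
theorem key [Module.Projective R P] [Module.Projective R Q] [Module.Projective R Q']
    (f : F →ₗ[R] P) (hf : Function.Injective f) (δ : R)
    (hδ : ∀ y : P, δ • y ∈ LinearMap.range f)
    (e : ((R ⧸ Ideal.span {δ}) ⊗[R] Q) ≃ₗ[R] ((R ⧸ Ideal.span {δ}) ⊗[R] Q')) :
    Nonempty (((P ⊗[R] Q) × (F ⊗[R] Q')) ≃ₗ[R] ((P ⊗[R] Q') × (F ⊗[R] Q))) := by
  let T := P ⧸ LinearMap.range f
  have hT : ∀ x : T, δ • x = 0 := by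
    intro x
    obtain ⟨y, rfl⟩ := Submodule.mkQ_surjective _ x
    rw [← map_smul, Submodule.mkQ_apply, Submodule.Quotient.mk_eq_zero]
    exact hδ y
  obtain ⟨θ⟩ := nonempty_tensor_equiv_of_smul_eq_zero (Q := Q) (Q' := Q') T δ hT e
  let πQ : (P ⊗[R] Q) →ₗ[R] (T ⊗[R] Q) := (LinearMap.range f).mkQ.rTensor Q
  let πQ' : (P ⊗[R] Q') →ₗ[R] (T ⊗[R] Q') := (LinearMap.range f).mkQ.rTensor Q'
  have hπQ : Function.Surjective πQ := LinearMap.rTensor_surjective Q (Submodule.mkQ_surjective _)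
  have hπQ' : Function.Surjective πQ' :=
    LinearMap.rTensor_surjective Q' (Submodule.mkQ_surjective _)
  let π₁ : (P ⊗[R] Q) →ₗ[R] (T ⊗[R] Q') := θ.toLinearMap ∘ₗ πQ
  have hπ₁ : Function.Surjective π₁ := θ.surjective.comp hπQ
  have hker₁ : LinearMap.ker π₁ = LinearMap.ker πQ := by
    ext x
    simp only [π₁, LinearMap.mem_ker, LinearMap.coe_comp, LinearEquiv.coe_coe, Function.comp_apply,
      LinearEquiv.map_eq_zero_iff]
  obtain ⟨k₁⟩ := nonempty_ker_rTensor_mkQ_equiv (Q := Q) f hf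
  obtain ⟨k₂⟩ := nonempty_ker_rTensor_mkQ_equiv (Q := Q') f hf
  obtain ⟨σ⟩ := schanuel π₁ πQ' hπ₁ hπQ'
  -- σ : ker π₁ × (P ⊗ Q') ≃ ker πQ' × (P ⊗ Q)
  let c₁ : LinearMap.ker π₁ ≃ₗ[R] (F ⊗[R] Q) := (LinearEquiv.ofEq _ _ hker₁) ≪≫ₗ k₁
  exact ⟨(LinearEquiv.prodComm R _ _) ≪≫ₗ
    (LinearEquiv.prodCongr k₂.symm (LinearEquiv.refl R _)) ≪≫ₗ σ.symm ≪≫ₗ
    (LinearEquiv.prodCongr c₁ (LinearEquiv.refl R _)) ≪≫ₗ (LinearEquiv.prodComm R _ _)⟩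

end Key

end Groth.Agent.Lib.Seat14.Schanuel
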