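import Groth.Agent.Lib.Helper2SemiLocFree
import Groth.Agent.Lib.Seat14Schanuel

/-!
# A generically bijective map from a free module (seat 14)

For a finitely generated projective module `P` of constant rank `r` over a Noetherian ring there is
an injective map `Rʳ → P` whose cokernel is killed by a nonzerodivisor.
-/

set_option autoImplicit false
universe u

open TensorProduct

namespace Groth.Agent.Lib.Seat14.GenFree

variable {R : Type u} [CommRing R]

theorem exists_injective_map [IsNoetherianRing R]
    (P : Type u) [AddCommGroup P] [Module R P] [Module.Finite R P] [Module.Projective R P]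
    (r : ℕ) (hrk : ∀ p : PrimeSpectrum R, Module.rankAtStalk (R := R) P p = r) :
    ∃ (f : (Fin r → R) →ₗ[R] P) (δ : R), δ ∈ nonZeroDivisors R ∧ Function.Injective f ∧
      ∀ y : P, δ • y ∈ LinearMap.range f := by
  classical
  have : Module.FinitePresentation R P := Module.finitePresentation_of_projective R P
  -- the associated primes
  have hfin : {q : PrimeSpectrum R | q.asIdeal ∈ associatedPrimes R R}.Finite := by
    refine Set.Finite.of_finite_image (f := PrimeSpectrum.asIdeal)
      ((associatedPrimes.finite R R).subset ?_) (fun a _ b _ h => PrimeSpectrum.ext h)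
    rintro _ ⟨q, hq, rfl⟩
    exact hq
  obtain ⟨g, hg, ⟨b⟩⟩ := Groth.Agent.Lib.Helper2.SemiLocFree.exists_basis_away P hfin.toFinset r
    (fun q _ => hrk q)
  have hgreg : ∀ n : ℕ, g ^ n ∈ nonZeroDivisors R := by
    intro n
    apply pow_mem
    by_contra hcon
    have h1 : g ∈ (⋃ p ∈ associatedPrimes R R, (p : Set R)) := by
      rw [biUnion_associatedPrimes_eq_compl_nonZeroDivisors]
      exact hcon
    simp only [Set.mem_iUnion] at h1
    obtain ⟨p, hp, hgp⟩ := h1
    have hp' : p.IsPrime := hp.isPrime
    exact hg ⟨p, hp'⟩ (hfin.mem_toFinset.mpr hp) hgp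
  let S : Submonoid R := Submonoid.powers g
  have hSreg : ∀ s : S, (s : R) ∈ nonZeroDivisors R := by
    rintro ⟨_, n, rfl⟩
    exact hgreg n
  let mk : P →ₗ[R] LocalizedModule S P := LocalizedModule.mkLinearMap S P
  have hsurj : ∀ j, ∃ x : P × S, x.2 • b j = mk x.1 := fun j => IsLocalizedModule.surj S mk (b j)
  choose x hx using hsurj
  let f : (Fin r → R) →ₗ[R] P := Fintype.linearCombination R (fun j => (x j).1)
  have hf_apply : ∀ a, f a = ∑ j, a j • (x j).1 := fun a => Fintype.linearCombination_apply R _ a
  -- injectivity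
  have hinj : Function.Injective f := by
    rw [injective_iff_map_eq_zero]
    intro a ha
    have h1 : ∑ j, (algebraMap R (Localization S) (a j * ((x j).2 : R))) • b j = 0 := by
      have := congrArg mk ha
      rw [hf_apply, map_sum, map_zero] at this
      rw [← this]
      refine Finset.sum_congr rfl fun j _ => ?_
      rw [map_smul, ← hx j, algebraMap_smul, mul_smul]
      rfl
    have h2 := Fintype.linearIndependent_iff.mp b.linearIndependent _ h1
    funext j
    have h3 := h2 j
    obtain ⟨u, hu⟩ := (IsLocalization.map_eq_zero_iff S (Localization S) _).mp h3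
    have h4 : a j * (((x j).2 : R) * (u : R)) = 0 := by
      rw [← mul_assoc, mul_comm]; exact hu
    have h5 : ((x j).2 : R) * (u : R) ∈ nonZeroDivisors R := mul_mem (hSreg _) (hSreg _)
    exact (mul_right_mem_nonZeroDivisors_eq_zero_iff h5).mp h4
  -- the cokernel is killed by a power of g
  let N : Submodule R P := LinearMap.range f
  have hxN : ∀ j, (x j).1 ∈ N := by
    intro j
    refine ⟨Pi.single j 1, ?_⟩
    rw [hf_apply, Finset.sum_eq_single j]
    · simp
    · intro i _ hij; simp [hij]
    · intro h; exact absurd (Finset.mem_univ j) h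
  let mk' : (P ⧸ N) →ₗ[R] LocalizedModule S (P ⧸ N) := LocalizedModule.mkLinearMap S (P ⧸ N)
  let m : LocalizedModule S P →ₗ[R] LocalizedModule S (P ⧸ N) :=
    IsLocalizedModule.map S mk mk' N.mkQ
  let m' : LocalizedModule S P →ₗ[Localization S] LocalizedModule S (P ⧸ N) :=
    LinearMap.extendScalarsOfIsLocalization S (Localization S) m
  have hm'b : ∀ j, m' (b j) = 0 := by
    intro j
    have h1 : m (((x j).2 : R) • b j) = 0 := by
      have hx' : ((x j).2 : R) • b j = mk (x j).1 := hx j
      rw [hx', IsLocalizedModule.map_apply, Submodule.mkQ_apply,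
        (Submodule.Quotient.mk_eq_zero N).mpr (hxN j), map_zero]
    rw [map_smul] at h1
    have h2 := (Module.End.isUnit_iff _).mp (IsLocalizedModule.map_units mk' (x j).2)
    apply h2.1
    rw [Module.algebraMap_end_apply, Module.algebraMap_end_apply, smul_zero]
    exact h1
  have hm'0 : m' = 0 := b.ext (fun j => by rw [hm'b j]; rfl)
  have hsub : Subsingleton (LocalizedModule S (P ⧸ N)) := by
    refine ⟨fun z z' => ?_⟩
    obtain ⟨w, rfl⟩ := IsLocalizedModule.map_surjective S mk mk' N.mkQ N.mkQ_surjective z
    obtain ⟨w', rfl⟩ := IsLocalizedModule.map_surjective S mk mk' N.mkQ N.mkQ_surjective z'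
    have e1 : m w = m' w := rfl
    have e2 : m w' = m' w' := rfl
    show m w = m w'
    rw [e1, e2, hm'0]
    rfl
  have hkill : ∀ y : P, ∃ n : ℕ, g ^ n • y ∈ N := by
    intro y
    obtain ⟨t, ⟨n, rfl⟩, ht⟩ := LocalizedModule.subsingleton_iff.mp hsub (N.mkQ y)
    refine ⟨n, ?_⟩
    rw [← Submodule.Quotient.mk_eq_zero N]
    exact ht
  -- uniform exponent
  obtain ⟨G, hG⟩ := (Module.Finite.fg_top : (⊤ : Submodule R P).FG)
  choose e he using hkill
  let n₀ := G.sup e
  refine ⟨f, g ^ n₀, hgreg n₀, hinj, ?_⟩
  intro y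
  have hy : y ∈ Submodule.span R (G : Set P) := by rw [hG]; trivial
  induction hy using Submodule.span_induction with
  | mem y hy =>
    have hle : e y ≤ n₀ := Finset.le_sup (f := e) hy
    obtain ⟨k, hk⟩ := Nat.exists_eq_add_of_le hle
    rw [hk, pow_add, mul_comm, mul_smul]
    exact N.smul_mem _ (he y)
  | zero => rw [smul_zero]; exact N.zero_mem
  | add a b _ _ ha hb => rw [smul_add]; exact N.add_mem ha hb
  | smul c a _ ha => rw [smul_comm]; exact N.smul_mem _ ha

end Groth.Agent.Lib.Seat14.GenFree
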