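import Groth.Agent.Lib.Seat14Kummer

/-!
# ℓ-primary torsion in the cohomology of `G_m` (seat 14)
-/

set_option autoImplicit false
universe u
open CategoryTheory CategoryTheory.Limits AlgebraicGeometry Opposite

namespace Groth.Agent.Lib.Seat14.GmTorsion

open Groth.Agent.Lib.Seat14.Kummer

/-- A sheaf killed by `ℓ^k` is `ℓ`-primary torsion. -/
theorem isPrimaryTorsion_of_nsmul_id_eq_zero {X : Scheme.{u}} (ℓ k : ℕ) (F : EtCoh.Ab X)
    (h : (ℓ ^ k) • 𝟙 F = 0) : Dix.IsPrimaryTorsion ℓ F := by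
  intro U s x
  refine ⟨U, 𝟙 U, ⟨x, rfl⟩, k, ?_⟩
  have h1 := nsmul_hom_app (𝟙 F) (ℓ ^ k) (op U) s
  rw [h] at h1
  have h2 : F.obj.map (𝟙 U).op s = s := by
    rw [op_id, F.obj.map_id]; rfl
  rw [h2]
  exact h1.symm

variable {X : Scheme.{u}}

/-- If `S` is short exact and `H^i(S.X₁) = 0` then `H^i(S.g)` is injective. -/
theorem H_map_g_injective {S : ShortComplex (EtCoh.Ab X)} (hS : S.ShortExact) (i : ℕ)
    (h : Subsingleton (EtCoh.H X S.X₁ i)) : Function.Injective (Sheaf.H.map S.g i) := by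
  rw [injective_iff_map_eq_zero]
  intro ξ hξ
  obtain ⟨η, hη⟩ := CategoryTheory.Abelian.Ext.covariant_sequence_exact₂ _ hS ξ hξ
  rw [← hη, Subsingleton.elim η 0]
  simp

/-- If `S` is short exact and `H^i(S.X₃) = 0` then `H^{i+1}(S.f)` is injective. -/
theorem H_map_f_injective {S : ShortComplex (EtCoh.Ab X)} (hS : S.ShortExact) (i : ℕ)
    (h : Subsingleton (EtCoh.H X S.X₃ i)) : Function.Injective (Sheaf.H.map S.f (i + 1)) := by
  rw [injective_iff_map_eq_zero]
  intro ξ hξ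
  obtain ⟨η, hη⟩ := CategoryTheory.Abelian.Ext.covariant_sequence_exact₁ _ hS ξ hξ rfl
  rw [← hη, Subsingleton.elim η 0]
  simp

/-- For an endomorphism `φ` of `G` in an abelian category of sheaves, with `H^i(ker φ) = 0` and
`H^{i-1}(coker φ) = 0`, the map `H^i(φ)` is injective. -/
theorem H_map_injective_of_ker_coker {G : EtCoh.Ab X} (φ : G ⟶ G) (i : ℕ)
    (hK : Subsingleton (EtCoh.H X (kernel φ) (i + 1)))
    (hQ : Subsingleton (EtCoh.H X (cokernel φ) i)) :
    Function.Injective (Sheaf.H.map φ (i + 1)) := by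
  -- the two short exact sequences
  let S₁ : ShortComplex (EtCoh.Ab X) :=
    ShortComplex.mk (kernel.ι φ) (Abelian.factorThruImage φ) (by
      rw [← cancel_mono (Abelian.image.ι φ), Category.assoc, Abelian.image.fac, kernel.condition,
        zero_comp])
  let S₂ : ShortComplex (EtCoh.Ab X) :=
    ShortComplex.mk (Abelian.image.ι φ) (cokernel.π φ) (by
      rw [← cancel_epi (Abelian.factorThruImage φ), ← Category.assoc, Abelian.image.fac,
        cokernel.condition, comp_zero])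
  have hS₁ : S₁.ShortExact := by
    have : Mono S₁.f := by change Mono (kernel.ι φ); exact equalizer.ι_mono
    have : Epi S₁.g := by change Epi (Abelian.factorThruImage φ); infer_instance
    refine ShortComplex.ShortExact.mk ?_
    refine ShortComplex.exact_of_f_is_kernel _ ?_
    refine KernelFork.IsLimit.ofι _ _ (fun {W} g hg => kernel.lift φ g ?_) (fun g hg => ?_)
      (fun g hg m hm => ?_)
    · change g ≫ Abelian.factorThruImage φ = 0 at hg
      rw [← Abelian.image.fac φ, ← Category.assoc, hg, zero_comp]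
    · exact kernel.lift_ι _ _ _
    · rw [← cancel_mono (kernel.ι φ), kernel.lift_ι]; exact hm
  have hS₂ : S₂.ShortExact := by
    have : Mono S₂.f := by change Mono (Abelian.image.ι φ); infer_instance
    have : Epi S₂.g := by change Epi (cokernel.π φ); exact coequalizer.π_epi
    refine ShortComplex.ShortExact.mk ?_
    exact ShortComplex.exact_of_f_is_kernel _ (kernelIsKernel (cokernel.π φ))
  have h1 := H_map_g_injective hS₁ (i + 1) hK
  have h2 := H_map_f_injective hS₂ i hQ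
  have h3 : Sheaf.H.map φ (i + 1) = (Sheaf.H.map (Abelian.image.ι φ) (i + 1)).comp
      (Sheaf.H.map (Abelian.factorThruImage φ) (i + 1)) := by
    ext ξ
    rw [AddMonoidHom.comp_apply, ← Sheaf.H.map_comp_apply, Abelian.image.fac]
  rw [h3]
  exact h2.comp h1

theorem nsmul_id_kernel_eq_zero {G : EtCoh.Ab X} (m : ℕ) :
    m • 𝟙 (kernel (m • 𝟙 G)) = 0 := by
  rw [← cancel_mono (kernel.ι (m • 𝟙 G)), zero_comp, Preadditive.nsmul_comp, Category.id_comp]
  have h := kernel.condition (m • 𝟙 G)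
  rwa [Preadditive.comp_nsmul, Category.comp_id] at h

theorem nsmul_id_cokernel_eq_zero {G : EtCoh.Ab X} (m : ℕ) :
    m • 𝟙 (cokernel (m • 𝟙 G)) = 0 := by
  rw [← cancel_epi (cokernel.π (m • 𝟙 G)), comp_zero, Preadditive.comp_nsmul, Category.comp_id]
  have h := cokernel.condition (m • 𝟙 G)
  rwa [Preadditive.nsmul_comp, Category.id_comp] at h

/-- If `cd_ℓ(X) ≤ n` then `ℓ^k` is injective on `H^i(X, G_m)` for `i > n + 1`. -/
theorem pow_smul_injective_of_cohDim (X : Scheme.{u}) (ℓ n : ℕ) (hcd : Dix.CohDimLEAt X ℓ n)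
    (k i : ℕ) (hi : n + 1 < i) (ξ : EtCoh.H X (EtCoh.Gm X) i) (hξ : ℓ ^ k • ξ = 0) : ξ = 0 := by
  obtain ⟨j, rfl⟩ : ∃ j, i = j + 1 := ⟨i - 1, by omega⟩
  have hK : Subsingleton (EtCoh.H X (kernel ((ℓ ^ k) • 𝟙 (EtCoh.Gm X))) (j + 1)) :=
    hcd _ (isPrimaryTorsion_of_nsmul_id_eq_zero ℓ k _ (nsmul_id_kernel_eq_zero _)) _ (by omega)
  have hQ : Subsingleton (EtCoh.H X (cokernel ((ℓ ^ k) • 𝟙 (EtCoh.Gm X))) j) :=
    hcd _ (isPrimaryTorsion_of_nsmul_id_eq_zero ℓ k _ (nsmul_id_cokernel_eq_zero _)) _ (by omega)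
  have hinj := H_map_injective_of_ker_coker ((ℓ ^ k) • 𝟙 (EtCoh.Gm X)) j hK hQ
  apply hinj
  rw [H_map_nsmul, Sheaf.H.map_id_apply, hξ, map_zero]

/-- If `cd_ℓ(X) ≤ n` and `ℓ` is invertible on `X` then `ℓ^k` is injective on `H^i(X, G_m)` for `i > n`. -/
theorem pow_smul_injective_of_cohDim_of_invertible (X : Scheme.{u}) (ℓ : ℕ) (hℓ : ℓ.Prime) (n : ℕ)
    (hcd : Dix.CohDimLEAt X ℓ n) (hinv : Dix.InvertibleOn X ℓ)
    (k i : ℕ) (hi : n < i) (ξ : EtCoh.H X (EtCoh.Gm X) i) (hξ : ℓ ^ k • ξ = 0) : ξ = 0 := by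
  have hinv' : Dix.InvertibleOn X (ℓ ^ k) := by
    intro x
    rw [Nat.cast_pow]
    exact pow_ne_zero _ (hinv x)
  have hS := kummerSC_shortExact X (ℓ ^ k) (pow_pos hℓ.pos _) hinv'
  have hK : Subsingleton (EtCoh.H X (kummerSC X (ℓ ^ k)).X₁ i) :=
    hcd _ (isPrimaryTorsion_of_nsmul_id_eq_zero ℓ k _ (nsmul_id_kernel_eq_zero _)) _ hi
  have hinj := H_map_g_injective hS i hK
  apply hinj
  change Sheaf.H.map (EtCoh.powMap X (ℓ ^ k)) i ξ = Sheaf.H.map (EtCoh.powMap X (ℓ ^ k)) i 0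
  rw [H_map_powMap, hξ, map_zero]

end Groth.Agent.Lib.Seat14.GmTorsion
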