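import Mathlib

/-!
# Polynomial-like functions `ℕ → G` with values in an abelian group

`IsPolyLike j f`: the `j`-th forward difference of `f` is eventually zero.  Such an `f` is
eventually an integer combination of binomial coefficients `n.choose i`, `i < j`.
-/

set_option autoImplicit false

namespace Groth.Agent.Lib.Seat14.KPoly

variable {G : Type*} [AddCommGroup G]

/-- Forward difference. -/
def Δ (f : ℕ → G) : ℕ → G := fun n => f (n + 1) - f n

omit [AddCommGroup G] in
/-- Shift. -/
def σ (f : ℕ → G) : ℕ → G := fun n => f (n + 1)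

@[simp] theorem Δ_apply (f : ℕ → G) (n : ℕ) : Δ f n = f (n + 1) - f n := rfl
omit [AddCommGroup G] in
@[simp] theorem σ_apply (f : ℕ → G) (n : ℕ) : σ f n = f (n + 1) := rfl

theorem Δ_sub (f g : ℕ → G) : Δ (f - g) = Δ f - Δ g := by
  funext n; simp only [Δ_apply, Pi.sub_apply]; abel

theorem Δ_σ (f : ℕ → G) : Δ (σ f) = σ (Δ f) := rfl

/-- Eventually zero. -/
def EvZero (f : ℕ → G) : Prop := ∃ N, ∀ n, N ≤ n → f n = 0

theorem EvZero.sub {f g : ℕ → G} (hf : EvZero f) (hg : EvZero g) : EvZero (f - g) := by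
  obtain ⟨N, hN⟩ := hf
  obtain ⟨N', hN'⟩ := hg
  refine ⟨max N N', fun n hn => ?_⟩
  rw [Pi.sub_apply, hN n (le_trans (le_max_left _ _) hn), hN' n (le_trans (le_max_right _ _) hn),
    sub_zero]

theorem EvZero.shift {f : ℕ → G} (hf : EvZero f) : EvZero (σ f) := by
  obtain ⟨N, hN⟩ := hf
  exact ⟨N, fun n hn => hN (n + 1) (by omega)⟩

/-- `f` is eventually polynomial of degree `< j`. -/
def IsPolyLike : ℕ → (ℕ → G) → Prop
  | 0, f => EvZero f
  | (j + 1), f => IsPolyLike j (Δ f)

@[simp] theorem isPolyLike_zero_iff (f : ℕ → G) : IsPolyLike 0 f ↔ EvZero f := Iff.rfl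

@[simp] theorem isPolyLike_succ_iff (j : ℕ) (f : ℕ → G) :
    IsPolyLike (j + 1) f ↔ IsPolyLike j (Δ f) := Iff.rfl

theorem IsPolyLike.sub {j : ℕ} {f g : ℕ → G} (hf : IsPolyLike j f) (hg : IsPolyLike j g) :
    IsPolyLike j (f - g) := by
  induction j generalizing f g with
  | zero => exact EvZero.sub hf hg
  | succ j ih =>
    rw [isPolyLike_succ_iff, Δ_sub]
    exact ih hf hg

theorem IsPolyLike.shift {j : ℕ} {f : ℕ → G} (hf : IsPolyLike j f) : IsPolyLike j (σ f) := by
  induction j generalizing f with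
  | zero => exact EvZero.shift hf
  | succ j ih =>
    rw [isPolyLike_succ_iff, Δ_σ]
    exact ih hf

/-- A polynomial-like function is eventually an integer combination of binomial coefficients. -/
theorem IsPolyLike.exists_choose {j : ℕ} {f : ℕ → G} (hf : IsPolyLike j f) :
    ∃ (a : Fin j → G) (N : ℕ), ∀ n, N ≤ n → f n = ∑ i : Fin j, ((n.choose (i : ℕ) : ℕ) : ℤ) • a i := by
  induction j generalizing f with
  | zero =>
    obtain ⟨N, hN⟩ := hf
    exact ⟨fun _ => 0, N, fun n hn => by rw [hN n hn]; simp⟩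
  | succ j ih =>
    obtain ⟨a, N, ha⟩ := ih (f := Δ f) hf
    -- the candidate coefficients
    set b₀ : G := f N - ∑ i : Fin j, ((N.choose ((i : ℕ) + 1) : ℕ) : ℤ) • a i with hb₀
    refine ⟨Fin.cons b₀ a, N, fun n hn => ?_⟩
    rw [Fin.sum_univ_succ]
    simp only [Fin.cons_zero, Fin.val_zero, Nat.choose_zero_right, Nat.cast_one, one_smul,
      Fin.cons_succ, Fin.val_succ]
    induction n, hn using Nat.le_induction with
    | base => rw [hb₀]; abel
    | succ n hn ihn =>
      have h1 : f (n + 1) = f n + Δ f n := by rw [Δ_apply]; abel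
      rw [h1, ihn, ha n hn, add_assoc, ← Finset.sum_add_distrib]
      congr 1
      refine Finset.sum_congr rfl fun i _ => ?_
      rw [← add_smul]
      congr 1
      rw [Nat.choose_succ_succ' n (i : ℕ)]
      push_cast
      ring

end Groth.Agent.Lib.Seat14.KPoly
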