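import Mathlib
import Groth.Agent.Lib.Helper5HilbertSerre
import Groth.Agent.Lib.Helper17K0a
import Groth.Agent.Lib.Seat14KPoly

/-!
# Hilbert–Serre with values in `K'₀` (adaptation of helper5's `HilbertSerre`)

`S` a commutative `A₀`-algebra, `x_1, …, x_d ∈ S` such that `S = A₀ + (x_1, …, x_d)`, `M` a
Noetherian `S`-module with a decomposition `M = ⊕ ℳ n` into `A₀`-submodules with
`x_i ℳ n ⊆ ℳ (n+1)`.  Then every `ℳ n` is a finite `A₀`-module and `n ↦ [ℳ n] ∈ K'₀(A₀)` is
eventually polynomial of degree `< d`.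
-/

set_option autoImplicit false
universe u v

namespace Groth.Agent.Lib.Seat14.KHilb

open CategoryTheory Groth.Agent.Lib.Helper5.HilbertSerre Groth.Agent.Lib.Seat14.KPoly

section cls

variable (A₀ : Type u) [CommRing A₀]

/-- The object property "finite module". -/
def FinP : ObjectProperty (ModuleCat.{u} A₀) := fun X => Module.Finite A₀ X

instance : (FinP A₀).IsClosedUnderIsomorphisms where
  of_iso {X Y} e hX := by
    haveI : Module.Finite A₀ X := hX
    exact Module.Finite.equiv e.toLinearEquiv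

instance : (FinP A₀).ContainsZero where
  exists_zero := ⟨ModuleCat.of A₀ PUnit.{u + 1}, ModuleCat.isZero_of_subsingleton _,
    (inferInstance : Module.Finite A₀ PUnit.{u + 1})⟩

/-- The class in `K'₀(A₀)` of an `A₀`-module. -/
noncomputable def cls (N : Type u) [AddCommGroup N] [Module A₀ N] : KZero.K0sub (FinP A₀) :=
  KZero.clSub (FinP A₀) (ModuleCat.of A₀ N)

variable {A₀}

theorem cls_add {N₁ N₂ N₃ : Type u} [AddCommGroup N₁] [Module A₀ N₁] [AddCommGroup N₂]
    [Module A₀ N₂] [AddCommGroup N₃] [Module A₀ N₃] [Module.Finite A₀ N₁] [Module.Finite A₀ N₂]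
    [Module.Finite A₀ N₃] (f : N₁ →ₗ[A₀] N₂) (g : N₂ →ₗ[A₀] N₃) (hf : Function.Injective f)
    (hg : Function.Surjective g) (hfg : Function.Exact f g) :
    cls A₀ N₂ = cls A₀ N₁ + cls A₀ N₃ := by
  let T : ShortComplex (ModuleCat.{u} A₀) :=
    ShortComplex.mk (ModuleCat.ofHom f) (ModuleCat.ofHom g) (by
      ext a
      exact hfg.apply_apply_eq_zero a)
  have hT : T.ShortExact :=
    { exact := (ShortComplex.ShortExact.moduleCat_exact_iff_function_exact T).2 hfg
      mono_f := (ModuleCat.mono_iff_injective _).2 hf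
      epi_g := (ModuleCat.epi_iff_surjective _).2 hg }
  exact Groth.Agent.Lib.Helper17.K0a.clSub_shortExact (FinP A₀) T hT
    (inferInstanceAs (Module.Finite A₀ N₁)) (inferInstanceAs (Module.Finite A₀ N₂))
    (inferInstanceAs (Module.Finite A₀ N₃))

theorem cls_of_subsingleton (N : Type u) [AddCommGroup N] [Module A₀ N] [Subsingleton N] :
    cls A₀ N = 0 :=
  Groth.Agent.Lib.Helper17.K0a.clSub_of_isZero (FinP A₀) (ModuleCat.isZero_of_subsingleton _)

theorem cls_of_equiv {N N' : Type u} [AddCommGroup N] [Module A₀ N] [AddCommGroup N']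
    [Module A₀ N'] [Module.Finite A₀ N] (e : N ≃ₗ[A₀] N') : cls A₀ N = cls A₀ N' :=
  Groth.Agent.Lib.Helper17.K0a.clSub_of_iso (FinP A₀) e.toModuleIso
    (inferInstanceAs (Module.Finite A₀ N))

end cls

section main

variable (A₀ : Type u) [CommRing A₀] (S : Type v) [CommRing S] [Algebra A₀ S] {d : ℕ}
  (x : Fin d → S)

/-- Hypotheses on a graded module killed by the variables of index `≥ j`. -/
structure GrHyp' (M : Type u) [AddCommGroup M] [Module S M] [Module A₀ M]
    (ℳ : ℕ → Submodule A₀ M) (j : ℕ) : Prop where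
  smul_mem : ∀ (i : Fin d) (n : ℕ) (v : M), v ∈ ℳ n → x i • v ∈ ℳ (n + 1)
  indep : iSupIndep ℳ
  top : (⨆ n, ℳ n) = ⊤
  kill : ∀ i : Fin d, j ≤ i.val → ∀ v : M, x i • v = 0

variable {A₀ S x}

theorem range_proj {M : Type u} [AddCommGroup M] [Module A₀ M] {ℳ : ℕ → Submodule A₀ M}
    {π : ℕ → M →ₗ[A₀] M} (hπ : IsProj ℳ π) (n : ℕ) : LinearMap.range (π n) = ℳ n := by
  apply le_antisymm
  · rintro _ ⟨v, rfl⟩
    exact hπ.mem n v
  · intro v hv
    exact ⟨v, hπ.same n v hv⟩

theorem base (hS : ∀ s : S, ∃ a : A₀, s - algebraMap A₀ S a ∈ Ideal.span (Set.range x))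
    (M : Type u) [AddCommGroup M] [Module S M] [Module A₀ M] [IsScalarTower A₀ S M]
    [IsNoetherian S M] (ℳ : ℕ → Submodule A₀ M) (h : GrHyp' A₀ S x M ℳ 0) :
    (∀ n, Module.Finite A₀ (ℳ n)) ∧ IsPolyLike 0 (fun n => cls A₀ (ℳ n)) := by
  classical
  have hkill : ∀ t ∈ Ideal.span (Set.range x), ∀ m : M, t • m = 0 := by
    intro t ht m
    induction ht using Submodule.span_induction with
    | mem y hy =>
      obtain ⟨i, rfl⟩ := hy
      exact h.kill i (Nat.zero_le _) m
    | zero => exact zero_smul _ _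
    | add y z _ _ hy hz => rw [add_smul, hy, hz, add_zero]
    | smul c y _ hy => rw [smul_eq_mul, mul_smul, hy, smul_zero]
  have hact : ∀ s : S, ∃ a : A₀, ∀ m : M, s • m = a • m := by
    intro s
    obtain ⟨a, ha⟩ := hS s
    refine ⟨a, fun m => ?_⟩
    have := hkill _ ha m
    rw [sub_smul, sub_eq_zero, algebraMap_smul] at this
    exact this
  have hfin : Module.Finite A₀ M := by
    obtain ⟨F, hF⟩ := (Module.finite_def.1 (inferInstance : Module.Finite S M))
    refine ⟨⟨F, ?_⟩⟩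
    rw [eq_top_iff]
    intro m hm0
    clear hm0
    have hm : m ∈ Submodule.span S (F : Set M) := by rw [hF]; trivial
    induction hm using Submodule.span_induction with
    | mem y hy => exact Submodule.subset_span hy
    | zero => exact Submodule.zero_mem _
    | add y z _ _ hy hz => exact Submodule.add_mem _ hy hz
    | smul s y _ hy =>
      obtain ⟨a, ha⟩ := hact s
      rw [ha]
      exact Submodule.smul_mem _ _ hy
  obtain ⟨π, hπ⟩ := exists_proj ℳ h.indep h.top
  have hfinn : ∀ n, Module.Finite A₀ (ℳ n) := by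
    intro n
    rw [← range_proj hπ n]
    infer_instance
  refine ⟨hfinn, ?_⟩
  rw [isPolyLike_zero_iff]
  obtain ⟨F, hF⟩ := (Module.finite_def.1 hfin)
  choose sv hsv using hπ.sum
  refine ⟨(F.sup fun v => (sv v).sup id) + 1, fun n hn => ?_⟩
  have hzero : ∀ v ∈ F, π n v = 0 := by
    intro v hv
    rw [hsv v, map_sum]
    apply Finset.sum_eq_zero
    intro k hk
    apply hπ.ne n k _ (hπ.mem k v)
    have h1 : k ≤ (sv v).sup id := Finset.le_sup (f := id) hk
    have h2 : (sv v).sup id ≤ F.sup fun v => (sv v).sup id :=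
      Finset.le_sup (f := fun v => (sv v).sup id) hv
    omega
  have hπn : π n = 0 := by
    apply LinearMap.ext_on hF
    intro v hv
    rw [LinearMap.zero_apply]
    exact hzero v hv
  have hbot : ℳ n = ⊥ := by
    rw [← range_proj hπ n, hπn, LinearMap.range_zero]
  haveI : Subsingleton ↥(ℳ n) := by rw [hbot]; infer_instance
  exact cls_of_subsingleton _

section step

variable {M : Type u} [AddCommGroup M] [Module S M] [Module A₀ M] [IsScalarTower A₀ S M]
  {ℳ : ℕ → Submodule A₀ M} {j : ℕ} (h : GrHyp' A₀ S x M ℳ (j + 1))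
  {π : ℕ → M →ₗ[A₀] M} (hπ : IsProj ℳ π)
  (i₀ : Fin d) (hi₀ : i₀.val = j) (φ : M →ₗ[S] M) (hφ : ∀ v, φ v = x i₀ • v)

include h hφ in
theorem phi_mem (n : ℕ) (v : M) (hv : v ∈ ℳ n) : (φ.restrictScalars A₀) v ∈ ℳ (n + 1) := by
  change φ v ∈ ℳ (n + 1)
  rw [hφ]
  exact h.smul_mem i₀ n v hv

include h hπ hφ in
theorem proj_mem_range (u : M) (hu : u ∈ LinearMap.range φ) (n : ℕ) :
    π n u ∈ LinearMap.range φ := by
  obtain ⟨t, rfl⟩ := hu
  have := proj_map_succ hπ (φ.restrictScalars A₀) (phi_mem h i₀ φ hφ) t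
  cases n with
  | zero =>
    rw [show π 0 (φ t) = 0 from this.2]
    exact Submodule.zero_mem _
  | succ n =>
    rw [show π (n + 1) (φ t) = φ (π n t) from this.1 n]
    exact ⟨_, rfl⟩

include h hπ hi₀ hφ in
theorem grHyp_ker :
    GrHyp' A₀ S x ↥(LinearMap.ker φ)
      (fun n => (ℳ n).comap ((LinearMap.ker φ).subtype.restrictScalars A₀)) j where
  smul_mem := by
    intro i n v hv
    exact h.smul_mem i n _ hv
  indep := by
    rw [iSupIndep_def]
    intro n
    rw [Submodule.disjoint_def]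
    intro v hv1 hv2
    have h1 : (v : M) ∈ ℳ n := hv1
    have h2 : (v : M) ∈ ⨆ (m : ℕ) (_ : m ≠ n), ℳ m := by
      have hm := Submodule.mem_map_of_mem
        (f := (LinearMap.ker φ).subtype.restrictScalars A₀) hv2
      simp_rw [Submodule.map_iSup] at hm
      exact (iSup₂_mono fun m _ => Submodule.map_comap_le _ _) hm
    have := Submodule.disjoint_def.1 ((iSupIndep_def.1 h.indep) n) (v : M) h1 h2
    exact Subtype.ext this
  top := by
    rw [eq_top_iff]
    intro v _
    obtain ⟨s, hs⟩ := hπ.sum (v : M)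
    have hker : ∀ n, π n (v : M) ∈ LinearMap.ker φ := by
      intro n
      rw [LinearMap.mem_ker]
      have := (proj_map_succ hπ (φ.restrictScalars A₀) (phi_mem h i₀ φ hφ) (v : M)).1 n
      have h0 : (φ.restrictScalars A₀) (v : M) = 0 := LinearMap.mem_ker.1 v.2
      rw [h0, map_zero] at this
      exact this.symm
    have hv : v = ∑ n ∈ s, (⟨π n (v : M), hker n⟩ : LinearMap.ker φ) := by
      apply Subtype.ext
      rw [Submodule.coe_sum]
      exact hs
    have hmem : (∑ n ∈ s, (⟨π n (v : M), hker n⟩ : LinearMap.ker φ)) ∈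
        ⨆ n, (ℳ n).comap ((LinearMap.ker φ).subtype.restrictScalars A₀) := by
      refine Submodule.sum_mem _ (fun n _ => ?_)
      refine Submodule.mem_iSup_of_mem n ?_
      exact hπ.mem n _
    rwa [← hv] at hmem
  kill := by
    intro i hji v
    apply Subtype.ext
    change x i • (v : M) = 0
    by_cases hi : i = i₀
    · rw [hi, ← hφ]
      exact LinearMap.mem_ker.1 v.2
    · have hne : i.val ≠ j := fun h' => hi (Fin.ext (h'.trans hi₀.symm))
      exact h.kill i (by omega) _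

include h hπ hi₀ hφ in
theorem grHyp_coker :
    GrHyp' A₀ S x (M ⧸ LinearMap.range φ)
      (fun n => (ℳ n).map ((LinearMap.range φ).mkQ.restrictScalars A₀)) j where
  smul_mem := by
    intro i n y hy
    obtain ⟨v, hv, rfl⟩ := hy
    exact ⟨x i • v, h.smul_mem i n v hv, rfl⟩
  indep := by
    rw [iSupIndep_def]
    intro n
    rw [Submodule.disjoint_def]
    intro y hy1 hy2
    obtain ⟨v, hv, rfl⟩ := hy1
    have hy2' : ((LinearMap.range φ).mkQ.restrictScalars A₀) v ∈
        (⨆ (m : ℕ) (_ : m ≠ n), ℳ m).map ((LinearMap.range φ).mkQ.restrictScalars A₀) := by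
      simp_rw [Submodule.map_iSup]
      exact hy2
    obtain ⟨w, hw, hwv⟩ := hy2'
    have hπw : π n w = 0 := by
      have hle : (⨆ (m : ℕ) (_ : m ≠ n), ℳ m) ≤ LinearMap.ker (π n) :=
        iSup₂_le fun m hm u hu => LinearMap.mem_ker.2 (hπ.ne n m u hu hm)
      exact LinearMap.mem_ker.1 (hle hw)
    have hsub : v - w ∈ LinearMap.range φ := by
      rw [← Submodule.Quotient.eq]
      exact hwv.symm
    have h3 : π n (v - w) ∈ LinearMap.range φ := proj_mem_range h hπ i₀ φ hφ _ hsub n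
    rw [map_sub, hπw, sub_zero, hπ.same n v hv] at h3
    exact (Submodule.Quotient.mk_eq_zero _).2 h3
  top := by
    rw [eq_top_iff]
    intro y hy0
    clear hy0
    obtain ⟨v, rfl⟩ := Submodule.mkQ_surjective _ y
    have hv : v ∈ ⨆ n, ℳ n := by rw [h.top]; trivial
    have := Submodule.mem_map_of_mem (f := (LinearMap.range φ).mkQ.restrictScalars A₀) hv
    rw [Submodule.map_iSup] at this
    exact this
  kill := by
    intro i hji y
    obtain ⟨v, rfl⟩ := Submodule.mkQ_surjective _ y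
    by_cases hi : i = i₀
    · rw [← map_smul, hi, ← hφ]
      exact (Submodule.Quotient.mk_eq_zero _).2 ⟨v, rfl⟩
    · have hne : i.val ≠ j := fun h' => hi (Fin.ext (h'.trans hi₀.symm))
      rw [← map_smul, h.kill i (by omega) v, map_zero]

include h hπ hφ in
/-- The exact sequences relating the graded pieces of `M`, `ker φ` and `coker φ`. -/
theorem exists_rel (n : ℕ) :
    ∃ (R : Submodule A₀ ↥(ℳ (n + 1)))
      (α : ↥((ℳ n).comap ((LinearMap.ker φ).subtype.restrictScalars A₀)) →ₗ[A₀] ↥(ℳ n))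
      (β : ↥(ℳ n) →ₗ[A₀] ↥R)
      (γ : ↥(ℳ (n + 1)) →ₗ[A₀] ↥((ℳ (n + 1)).map ((LinearMap.range φ).mkQ.restrictScalars A₀))),
      Function.Injective α ∧ Function.Surjective β ∧ Function.Exact α β ∧
        Function.Surjective γ ∧ Function.Exact R.subtype γ := by
  have hφ' := phi_mem h i₀ φ hφ
  obtain ⟨ψ, hψ⟩ : ∃ ψ : ∀ n, ↥(ℳ n) →ₗ[A₀] ↥(ℳ (n + 1)),
      ∀ n (v : ↥(ℳ n)), ((ψ n v : ↥(ℳ (n + 1))) : M) = φ (v : M) :=
    ⟨fun n => (φ.restrictScalars A₀).restrict (hφ' n), fun n v => rfl⟩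
  obtain ⟨γ, hγ⟩ : ∃ γ : ∀ n, ↥(ℳ n) →ₗ[A₀]
      ↥((ℳ n).map ((LinearMap.range φ).mkQ.restrictScalars A₀)),
      ∀ n (v : ↥(ℳ n)), ((γ n v : ↥((ℳ n).map ((LinearMap.range φ).mkQ.restrictScalars A₀))) :
        M ⧸ LinearMap.range φ) = (LinearMap.range φ).mkQ (v : M) :=
    ⟨fun n => ((LinearMap.range φ).mkQ.restrictScalars A₀).restrict
      (fun v hv => Submodule.mem_map_of_mem hv), fun n v => rfl⟩
  have hγsurj : ∀ n, Function.Surjective (γ n) := by
    intro n
    rintro ⟨y, v, hv, rfl⟩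
    exact ⟨⟨v, hv⟩, Subtype.ext (hγ n _)⟩
  obtain ⟨α, hα⟩ : ∃ α : ↥((ℳ n).comap ((LinearMap.ker φ).subtype.restrictScalars A₀)) →ₗ[A₀]
      ↥(ℳ n), ∀ v, ((α v : ↥(ℳ n)) : M) = ((v : LinearMap.ker φ) : M) :=
    ⟨LinearMap.codRestrict (ℳ n) (((LinearMap.ker φ).subtype.restrictScalars A₀) ∘ₗ
      ((ℳ n).comap ((LinearMap.ker φ).subtype.restrictScalars A₀)).subtype) (fun v => v.2),
      fun v => rfl⟩
  refine ⟨LinearMap.range (ψ n), α, (ψ n).rangeRestrict, γ (n + 1), ?_,
    LinearMap.surjective_rangeRestrict _, ?_, hγsurj (n + 1), ?_⟩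
  · intro a b hab
    have : ((a : LinearMap.ker φ) : M) = ((b : LinearMap.ker φ) : M) := by
      rw [← hα a, ← hα b, hab]
    exact Subtype.ext (Subtype.ext this)
  · intro y
    constructor
    · intro hy
      have h1 : φ (y : M) = 0 := by
        rw [← hψ n y]
        have h2 : (ψ n y) = 0 := by
          have := congrArg Subtype.val hy
          exact this
        rw [h2]
        rfl
      refine ⟨⟨⟨(y : M), LinearMap.mem_ker.2 h1⟩, y.2⟩, Subtype.ext ?_⟩
      rw [hα]
    · rintro ⟨v, rfl⟩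
      apply Subtype.ext
      apply Subtype.ext
      change ((ψ n (α v) : ↥(ℳ (n + 1))) : M) = 0
      rw [hψ, hα]
      exact LinearMap.mem_ker.1 (v : LinearMap.ker φ).2
  · intro y
    constructor
    · intro hy
      have h1 : (y : M) ∈ LinearMap.range φ := by
        have := congrArg Subtype.val hy
        rw [hγ] at this
        exact (Submodule.Quotient.mk_eq_zero _).1 this
      obtain ⟨t, ht⟩ := h1
      have h2 := (proj_map_succ hπ (φ.restrictScalars A₀) hφ' t).1 n
      have h3 : (y : M) = φ (π n t) := by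
        rw [← hπ.same (n + 1) (y : M) y.2, ← ht]
        exact h2
      refine ⟨⟨ψ n ⟨π n t, hπ.mem n t⟩, ⟨_, rfl⟩⟩, Subtype.ext ?_⟩
      change ((ψ n ⟨π n t, hπ.mem n t⟩ : ↥(ℳ (n + 1))) : M) = (y : M)
      rw [hψ, h3]
    · rintro ⟨⟨_, ⟨t, rfl⟩⟩, rfl⟩
      apply Subtype.ext
      rw [hγ]
      change (LinearMap.range φ).mkQ ((ψ n t : ↥(ℳ (n + 1))) : M) = 0
      rw [hψ]
      exact (Submodule.Quotient.mk_eq_zero _).2 ⟨(t : M), rfl⟩

include h hπ hφ in
/-- In degree zero the graded piece of `M` maps isomorphically onto that of `coker φ`. -/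
theorem exists_equiv_zero :
    Nonempty (↥(ℳ 0) ≃ₗ[A₀] ↥((ℳ 0).map ((LinearMap.range φ).mkQ.restrictScalars A₀))) := by
  have hφ' := phi_mem h i₀ φ hφ
  obtain ⟨γ, hγ⟩ : ∃ γ : ↥(ℳ 0) →ₗ[A₀]
      ↥((ℳ 0).map ((LinearMap.range φ).mkQ.restrictScalars A₀)),
      ∀ (v : ↥(ℳ 0)), ((γ v : ↥((ℳ 0).map ((LinearMap.range φ).mkQ.restrictScalars A₀))) :
        M ⧸ LinearMap.range φ) = (LinearMap.range φ).mkQ (v : M) :=
    ⟨((LinearMap.range φ).mkQ.restrictScalars A₀).restrict
      (fun v hv => Submodule.mem_map_of_mem hv), fun v => rfl⟩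
  have hγsurj : Function.Surjective γ := by
    rintro ⟨y, v, hv, rfl⟩
    exact ⟨⟨v, hv⟩, Subtype.ext (hγ _)⟩
  have hinj : Function.Injective γ := by
    rw [injective_iff_map_eq_zero]
    intro y hy
    have h1 : (y : M) ∈ LinearMap.range φ := by
      have := congrArg Subtype.val hy
      rw [hγ] at this
      exact (Submodule.Quotient.mk_eq_zero _).1 this
    obtain ⟨t, ht⟩ := h1
    have h2 := (proj_map_succ hπ (φ.restrictScalars A₀) hφ' t).2
    apply Subtype.ext
    rw [← hπ.same 0 (y : M) y.2, ← ht]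
    exact h2
  exact ⟨LinearEquiv.ofBijective γ ⟨hinj, hγsurj⟩⟩

end step

theorem step (j : ℕ) (hj : j < d)
    (IH : ∀ (M : Type u) [AddCommGroup M] [Module S M] [Module A₀ M] [IsScalarTower A₀ S M]
      [IsNoetherian S M] (ℳ : ℕ → Submodule A₀ M), GrHyp' A₀ S x M ℳ j →
      (∀ n, Module.Finite A₀ (ℳ n)) ∧ IsPolyLike j (fun n => cls A₀ (ℳ n)))
    (M : Type u) [AddCommGroup M] [Module S M] [Module A₀ M] [IsScalarTower A₀ S M]
    [IsNoetherian S M] (ℳ : ℕ → Submodule A₀ M) (h : GrHyp' A₀ S x M ℳ (j + 1)) :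
    (∀ n, Module.Finite A₀ (ℳ n)) ∧ IsPolyLike (j + 1) (fun n => cls A₀ (ℳ n)) := by
  obtain ⟨π, hπ⟩ := exists_proj ℳ h.indep h.top
  obtain ⟨φ, hφ⟩ : ∃ φ : M →ₗ[S] M, ∀ v, φ v = x ⟨j, hj⟩ • v :=
    ⟨LinearMap.lsmul S M (x ⟨j, hj⟩), fun v => rfl⟩
  have hK := grHyp_ker h hπ ⟨j, hj⟩ rfl φ hφ
  have hC := grHyp_coker h hπ ⟨j, hj⟩ rfl φ hφ
  obtain ⟨finK, polyK⟩ := IH ↥(LinearMap.ker φ) _ hK
  obtain ⟨finC, polyC⟩ := IH (M ⧸ LinearMap.range φ) _ hC
  have fin : ∀ n, Module.Finite A₀ (ℳ n) := by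
    intro n
    induction n with
    | zero =>
      obtain ⟨e⟩ := exists_equiv_zero h hπ ⟨j, hj⟩ φ hφ
      haveI := finC 0
      exact Module.Finite.equiv e.symm
    | succ n ih =>
      obtain ⟨R, α, β, γ, -, hβ, -, hγ, hex⟩ := exists_rel h hπ ⟨j, hj⟩ φ hφ n
      haveI := ih
      haveI := finC (n + 1)
      haveI : Module.Finite A₀ ↥R := Module.Finite.of_surjective β hβ
      have hker : LinearMap.ker γ = R := by
        rw [(LinearMap.exact_iff.mp hex), Submodule.range_subtype]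
      haveI : Module.Finite A₀ ↥(LinearMap.ker γ) := by rw [hker]; infer_instance
      haveI : Module.Finite A₀ (↥(ℳ (n + 1)) ⧸ LinearMap.ker γ) :=
        Module.Finite.equiv (LinearMap.quotKerEquivOfSurjective γ hγ).symm
      exact Module.Finite.of_submodule_quotient (LinearMap.ker γ)
  refine ⟨fin, ?_⟩
  rw [isPolyLike_succ_iff]
  have hΔ : Δ (fun n => cls A₀ (ℳ n)) =
      σ (fun n => cls A₀ ↥((ℳ n).map ((LinearMap.range φ).mkQ.restrictScalars A₀))) -
      (fun n => cls A₀ ↥((ℳ n).comap ((LinearMap.ker φ).subtype.restrictScalars A₀))) := by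
    funext n
    simp only [Δ_apply, σ_apply, Pi.sub_apply]
    obtain ⟨R, α, β, γ, hα, hβ, hαβ, hγ, hex⟩ := exists_rel h hπ ⟨j, hj⟩ φ hφ n
    haveI := fin n
    haveI := fin (n + 1)
    haveI := finC (n + 1)
    haveI := finK n
    haveI : Module.Finite A₀ ↥R := Module.Finite.of_surjective β hβ
    have e1 := cls_add α β hα hβ hαβ
    have e2 := cls_add R.subtype γ (Submodule.subtype_injective _) hγ hex
    rw [e1, e2]
    abel
  rw [hΔ]
  exact polyC.shift.sub polyK

/-- **Hilbert–Serre with values in `K'₀(A₀)`.** -/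
theorem main (hS : ∀ s : S, ∃ a : A₀, s - algebraMap A₀ S a ∈ Ideal.span (Set.range x)) :
    ∀ j, j ≤ d → ∀ (M : Type u) [AddCommGroup M] [Module S M] [Module A₀ M]
      [IsScalarTower A₀ S M] [IsNoetherian S M] (ℳ : ℕ → Submodule A₀ M),
      GrHyp' A₀ S x M ℳ j →
      (∀ n, Module.Finite A₀ (ℳ n)) ∧ IsPolyLike j (fun n => cls A₀ (ℳ n)) := by
  intro j
  induction j with
  | zero =>
    intro _ M _ _ _ _ _ ℳ h
    exact base hS M ℳ h
  | succ j ih =>
    intro hj M _ _ _ _ _ ℳ h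
    exact step j (by omega) (fun M' _ _ _ _ _ ℳ' h' => ih (by omega) M' ℳ' h') M ℳ h

end main

end Groth.Agent.Lib.Seat14.KHilb
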