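import Mathlib

/-!
# The Grothendieck group of finitely generated projective modules (seat 14)

A bookkeeping device: `K0 R` is the group completion of the monoid of isomorphism classes of finitely
generated projective `R`-modules in `Type u` under direct sum.  `cl A = cl B` iff `A` and `B` are
stably isomorphic.
-/

set_option autoImplicit false
universe u

open TensorProduct

namespace Groth.Agent.Lib.Seat14.KZero

variable (R : Type u) [CommRing R]

/-- Bundled finitely generated projective modules. -/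
structure FGP where
  carrier : Type u
  [acg : AddCommGroup carrier]
  [mod : Module R carrier]
  [fin : Module.Finite R carrier]
  [proj : Module.Projective R carrier]

attribute [instance] FGP.acg FGP.mod FGP.fin FGP.proj

instance : CoeSort (FGP R) (Type u) := ⟨FGP.carrier⟩

/-- bundling -/
def FGP.of (A : Type u) [AddCommGroup A] [Module R A] [Module.Finite R A] [Module.Projective R A] :
    FGP R := ⟨A⟩

instance fgpSetoid : Setoid (FGP R) where
  r A B := Nonempty (A ≃ₗ[R] B)
  iseqv := ⟨fun _ => ⟨LinearEquiv.refl R _⟩, fun ⟨e⟩ => ⟨e.symm⟩, fun ⟨e⟩ ⟨e'⟩ => ⟨e.trans e'⟩⟩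

/-- Isomorphism classes. -/
def Iso : Type (u + 1) := Quotient (fgpSetoid R)

variable {R}

/-- the class of a bundled module -/
def Iso.mk (A : FGP R) : Iso R := Quotient.mk (fgpSetoid R) A

theorem Iso.mk_eq_iff {A B : FGP R} : Iso.mk A = Iso.mk B ↔ Nonempty (A ≃ₗ[R] B) :=
  Quotient.eq (r := fgpSetoid R)

theorem Iso.ind {p : Iso R → Prop} (h : ∀ A, p (Iso.mk A)) : ∀ a, p a := Quotient.ind h

/-- direct sum -/
def FGP.prod (A B : FGP R) : FGP R := ⟨A × B⟩

instance : Add (Iso R) :=
  ⟨Quotient.map₂ FGP.prod (fun _ _ ⟨e⟩ _ _ ⟨e'⟩ => ⟨LinearEquiv.prodCongr e e'⟩)⟩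

instance : Zero (Iso R) := ⟨Iso.mk ⟨PUnit⟩⟩

theorem Iso.mk_add (A B : FGP R) : Iso.mk A + Iso.mk B = Iso.mk (A.prod B) := rfl

theorem Iso.zero_def : (0 : Iso R) = Iso.mk ⟨PUnit⟩ := rfl

instance : AddCommMonoid (Iso R) where
  add_assoc a b c := by
    induction a using Iso.ind
    induction b using Iso.ind
    induction c using Iso.ind
    simp only [Iso.mk_add]
    exact Iso.mk_eq_iff.mpr ⟨LinearEquiv.prodAssoc R _ _ _⟩
  zero_add a := by
    induction a using Iso.ind
    rw [Iso.zero_def, Iso.mk_add]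
    exact Iso.mk_eq_iff.mpr ⟨LinearEquiv.uniqueProd⟩
  add_zero a := by
    induction a using Iso.ind
    rw [Iso.zero_def, Iso.mk_add]
    exact Iso.mk_eq_iff.mpr ⟨LinearEquiv.prodUnique⟩
  add_comm a b := by
    induction a using Iso.ind
    induction b using Iso.ind
    simp only [Iso.mk_add]
    exact Iso.mk_eq_iff.mpr ⟨LinearEquiv.prodComm R _ _⟩
  nsmul := nsmulRec
  nsmul_zero _ := rfl
  nsmul_succ _ _ := rfl

variable (R)

/-- The Grothendieck group. -/
abbrev K0 : Type (u + 1) := Algebra.GrothendieckAddGroup (Iso R)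

variable {R}

/-- The class of a module. -/
noncomputable def cl (A : Type u) [AddCommGroup A] [Module R A] [Module.Finite R A]
    [Module.Projective R A] : K0 R :=
  Algebra.GrothendieckAddGroup.of (Iso.mk (FGP.of R A))

section

variable (A B : Type u) [AddCommGroup A] [Module R A] [Module.Finite R A] [Module.Projective R A]
  [AddCommGroup B] [Module R B] [Module.Finite R B] [Module.Projective R B]

theorem cl_prod : cl (R := R) (A × B) = cl A + cl B := by
  unfold cl
  rw [← map_add, Iso.mk_add]
  rfl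

variable {A B}

theorem cl_equiv (e : A ≃ₗ[R] B) : cl (R := R) A = cl B := by
  unfold cl
  congr 1
  exact Iso.mk_eq_iff.mpr ⟨e⟩

variable (A B)

theorem cl_eq_iff : cl (R := R) A = cl B ↔
    ∃ (W : Type u) (_ : AddCommGroup W) (_ : Module R W) (_ : Module.Finite R W)
      (_ : Module.Projective R W), Nonempty ((W × A) ≃ₗ[R] (W × B)) := by
  unfold cl
  show (AddLocalization.addMonoidOf (⊤ : AddSubmonoid (Iso R))) _ =
    (AddLocalization.addMonoidOf (⊤ : AddSubmonoid (Iso R))) _ ↔ _
  rw [(AddLocalization.addMonoidOf (⊤ : AddSubmonoid (Iso R))).eq_iff_exists]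
  constructor
  · rintro ⟨⟨c, hc0⟩, hc⟩
    revert hc hc0
    refine Iso.ind (p := fun c => ∀ (hc0 : c ∈ (⊤ : AddSubmonoid (Iso R))),
      ((⟨c, hc0⟩ : (⊤ : AddSubmonoid (Iso R))) : Iso R) + Iso.mk (FGP.of R A) =
        ((⟨c, hc0⟩ : (⊤ : AddSubmonoid (Iso R))) : Iso R) + Iso.mk (FGP.of R B) → _) ?_ c
    intro W _ hc
    rw [Iso.mk_add, Iso.mk_add] at hc
    obtain ⟨e⟩ := Iso.mk_eq_iff.mp hc
    exact ⟨W, inferInstance, inferInstance, inferInstance, inferInstance, ⟨e⟩⟩
  · rintro ⟨W, _, _, _, _, ⟨e⟩⟩
    refine ⟨⟨Iso.mk (FGP.of R W), trivial⟩, ?_⟩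
    show Iso.mk (FGP.of R W) + _ = Iso.mk (FGP.of R W) + _
    rw [Iso.mk_add, Iso.mk_add]
    exact Iso.mk_eq_iff.mpr ⟨e⟩

theorem cl_of_subsingleton [Subsingleton A] : cl (R := R) A = 0 := by
  have : cl (R := R) A = cl (R := R) PUnit.{u + 1} :=
    cl_equiv (LinearEquiv.ofSubsingleton A PUnit.{u + 1})
  rw [this]
  unfold cl
  exact map_zero _

end

/-- Finite powers of projective modules are projective. -/
instance projective_pi_fin (n : ℕ) (A : Type u) [AddCommGroup A] [Module R A]
    [Module.Projective R A] : Module.Projective R (Fin n → A) :=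
  Module.Projective.of_equiv' (DFinsupp.linearEquivFunOnFintype (R := R) (ι := Fin n)
    (M := fun _ => A))

theorem cl_pi (n : ℕ) (A : Type u) [AddCommGroup A] [Module R A] [Module.Finite R A]
    [Module.Projective R A] : cl (R := R) (Fin n → A) = n • cl A := by
  induction n with
  | zero => rw [zero_smul]; exact cl_of_subsingleton _
  | succ n ih =>
    rw [succ_nsmul, ← ih, ← cl_prod]
    refine cl_equiv ?_
    exact ((Fin.consLinearEquiv R (fun _ : Fin (n + 1) => A)).symm).trans
      (LinearEquiv.prodComm R A (Fin n → A))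

/-! ### Tensoring with a fixed module -/

section Tensor

variable (P : Type u) [AddCommGroup P] [Module R P] [Module.Finite R P] [Module.Projective R P]

omit [Module.Finite R P] [Module.Projective R P] in
theorem subsingleton_tensor_of_right (A : Type*) [AddCommGroup A] [Module R A] [Subsingleton A] :
    Subsingleton (P ⊗[R] A) := by
  refine ⟨fun x y => ?_⟩
  have h0 : ∀ z : P ⊗[R] A, z = 0 := by
    intro z
    induction z using TensorProduct.induction_on with
    | zero => rfl
    | tmul p a => rw [Subsingleton.elim a 0, TensorProduct.tmul_zero]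
    | add a b ha hb => rw [ha, hb, add_zero]
  rw [h0 x, h0 y]

/-- tensoring with `P` on bundled modules -/
def FGP.tensor (A : FGP R) : FGP R := ⟨P ⊗[R] A⟩

/-- tensoring with `P` on isomorphism classes -/
noncomputable def isoTensor : Iso R →+ Iso R where
  toFun := Quotient.map (FGP.tensor P)
    (fun _ _ ⟨e⟩ => ⟨TensorProduct.congr (LinearEquiv.refl R P) e⟩)
  map_zero' := by
    have : Subsingleton (P ⊗[R] PUnit.{u + 1}) := subsingleton_tensor_of_right P _
    exact Iso.mk_eq_iff.mpr ⟨LinearEquiv.ofSubsingleton (P ⊗[R] PUnit.{u + 1}) PUnit.{u + 1}⟩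
  map_add' a b := by
    induction a using Iso.ind
    induction b using Iso.ind
    exact Iso.mk_eq_iff.mpr ⟨TensorProduct.prodRight R R P _ _⟩

/-- tensoring with `P` on the Grothendieck group -/
noncomputable def tensorHom : K0 R →+ K0 R :=
  Algebra.GrothendieckAddGroup.lift
    ((Algebra.GrothendieckAddGroup.of (M := Iso R)).comp (isoTensor P))

theorem tensorHom_cl (A : Type u) [AddCommGroup A] [Module R A] [Module.Finite R A]
    [Module.Projective R A] : tensorHom P (cl (R := R) A) = cl (R := R) (P ⊗[R] A) := by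
  unfold tensorHom cl
  simp only [Algebra.GrothendieckAddGroup.lift, Equiv.coe_fn_mk]
  erw [AddSubmonoid.LocalizationMap.lift_eq]
  rfl

end Tensor

theorem cl_pi_tensor (r : ℕ) (A : Type u) [AddCommGroup A] [Module R A] [Module.Finite R A]
    [Module.Projective R A] : cl (R := R) ((Fin r → R) ⊗[R] A) = r • cl A := by
  rw [← cl_pi]
  exact cl_equiv ((TensorProduct.comm R _ _).trans (TensorProduct.piScalarRight R R A (Fin r)))

/-! ### From classes back to stable isomorphisms -/

/-- A split surjection `f : X → W` gives `X ≃ W × ker f`. -/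
def equivProdKer {X W : Type*} [AddCommGroup X] [Module R X] [AddCommGroup W] [Module R W]
    (f : X →ₗ[R] W) (s : W →ₗ[R] X) (h : f ∘ₗ s = LinearMap.id) :
    X ≃ₗ[R] (W × LinearMap.ker f) where
  toFun x := (f x, ⟨x - s (f x), by
    have := LinearMap.congr_fun h (f x)
    simp only [LinearMap.coe_comp, Function.comp_apply, LinearMap.id_apply] at this
    rw [LinearMap.mem_ker, map_sub, this, sub_self]⟩)
  map_add' x y := by
    ext
    · simp
    · simp only [map_add, Prod.mk_add_mk, Submodule.coe_add]; abel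
  map_smul' a x := by
    ext
    · simp
    · simp [smul_sub]
  invFun p := s p.1 + p.2
  left_inv x := by simp
  right_inv p := by
    have h1 := LinearMap.congr_fun h p.1
    simp only [LinearMap.coe_comp, Function.comp_apply, LinearMap.id_apply] at h1
    have h2 : f (p.2 : X) = 0 := p.2.2
    ext
    · simp [h1, h2]
    · simp [h1, h2]

theorem exists_equiv_of_cl_eq (A B : Type u) [AddCommGroup A] [Module R A] [Module.Finite R A]
    [Module.Projective R A] [AddCommGroup B] [Module R B] [Module.Finite R B]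
    [Module.Projective R B] (h : cl (R := R) A = cl B) :
    ∃ t : ℕ, Nonempty ((A × (Fin t → R)) ≃ₗ[R] (B × (Fin t → R))) := by
  obtain ⟨W, _, _, _, _, ⟨e⟩⟩ := (cl_eq_iff A B).mp h
  obtain ⟨n, f, hf⟩ := Module.Finite.exists_fin' R W
  obtain ⟨s, hs⟩ := Module.projective_lifting_property f LinearMap.id hf
  let c : (Fin n → R) ≃ₗ[R] (W × LinearMap.ker f) := equivProdKer f s hs
  refine ⟨n, ⟨?_⟩⟩
  let g : ∀ (C : Type u) [AddCommGroup C] [Module R C],
      (C × (Fin n → R)) ≃ₗ[R] ((W × C) × LinearMap.ker f) := fun C _ _ =>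
    (LinearEquiv.prodCongr (LinearEquiv.refl R C) c) ≪≫ₗ
      (LinearEquiv.prodAssoc R C W (LinearMap.ker f)).symm ≪≫ₗ
      (LinearEquiv.prodCongr (LinearEquiv.prodComm R C W) (LinearEquiv.refl R _))
  exact g A ≪≫ₗ (LinearEquiv.prodCongr e (LinearEquiv.refl R _)) ≪≫ₗ (g B).symm

end Groth.Agent.Lib.Seat14.KZero
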