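import Mathlib.RingTheory.Etale.StandardEtale
import Mathlib.FieldTheory.IsAlgClosed.AlgebraicClosure
import Mathlib.RingTheory.Spectrum.Prime.RingHom
import Mathlib.RingTheory.LocalRing.ResidueField.Ideal

/-!
# Kummer coverings, algebraic part (seat 14)

For a commutative ring `A`, a unit `u` and `n ≥ 1` invertible in `A`, the algebra
`A[T]/(T^n - u)` is (standard) étale over `A`, `T` is a unit in it with `T^n = u`, and
`Spec` of it surjects onto `Spec A`.
-/

set_option autoImplicit false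
universe u

open Polynomial

namespace Groth.Agent.Lib.Seat14.KummerAlg

variable {A : Type u} [CommRing A]

/-- The standard étale pair `(T^n - u, 1)`. -/
noncomputable def pair (n : ℕ) (hn : 0 < n) (u : Aˣ) (hnA : IsUnit (n : A)) :
    StandardEtalePair A where
  f := X ^ n - C (u : A)
  monic_f := monic_X_pow_sub_C _ hn.ne'
  g := 1
  cond := by
    obtain ⟨v, hv⟩ := hnA
    refine ⟨C ((↑v⁻¹ : A) * (↑u⁻¹ : A)) * X, - C (↑u⁻¹ : A), 1, ?_⟩
    obtain ⟨m, rfl⟩ : ∃ m, n = m + 1 := ⟨n - 1, by omega⟩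
    have h1 : (C (v : A) : A[X]) * C (↑v⁻¹ : A) = 1 := by
      rw [← C_mul]; simp
    have h2 : (C (u : A) : A[X]) * C (↑u⁻¹ : A) = 1 := by
      rw [← C_mul]; simp
    simp only [derivative_sub, derivative_X_pow, derivative_C, sub_zero, pow_one, C_mul,
      Nat.add_sub_cancel]
    rw [← hv]
    linear_combination (X ^ (m + 1) * C (↑u⁻¹ : A)) * h1 + h2

variable (n : ℕ) (hn : 0 < n) (u : Aˣ) (hnA : IsUnit (n : A))

/-- The class of `T` in `A[T]/(T^n - u)` satisfies `T^n = u`. -/
theorem X_pow : (pair n hn u hnA).X ^ n = algebraMap A (pair n hn u hnA).Ring (u : A) := by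
  have h : aeval (pair n hn u hnA).X (X ^ n - C (u : A)) = 0 := ((pair n hn u hnA).hasMap_X).1
  simp only [map_sub, map_pow, aeval_X, aeval_C] at h
  exact sub_eq_zero.mp h

/-- The class of `T` is a unit. -/
theorem isUnit_X : IsUnit (pair n hn u hnA).X := by
  have h : IsUnit ((pair n hn u hnA).X ^ n) := by
    rw [X_pow]
    exact (u.isUnit).map _
  exact (isUnit_pow_iff hn.ne').mp h

/-- `Spec A[T]/(T^n - u) → Spec A` is surjective. -/
theorem comap_surjective :
    Function.Surjective (PrimeSpectrum.comap (algebraMap A (pair n hn u hnA).Ring)) := by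
  intro p
  let κ := p.asIdeal.ResidueField
  let Ω := AlgebraicClosure κ
  let φ : A →+* Ω := (algebraMap κ Ω).comp (algebraMap A κ)
  let _ : Algebra A Ω := φ.toAlgebra
  obtain ⟨x, hx⟩ := IsAlgClosed.exists_pow_nat_eq (φ (u : A)) hn
  have hmap : (pair n hn u hnA).HasMap x := by
    refine ⟨?_, ?_⟩
    · change aeval x (X ^ n - C (u : A)) = 0
      simp only [map_sub, map_pow, aeval_X, aeval_C]
      rw [hx]
      exact sub_self _
    · change IsUnit (aeval x (1 : A[X]))
      simp
  let ψ : (pair n hn u hnA).Ring →ₐ[A] Ω := (pair n hn u hnA).lift x hmap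
  refine ⟨⟨RingHom.ker ψ.toRingHom, RingHom.ker_isPrime _⟩, ?_⟩
  ext a
  simp only [PrimeSpectrum.comap_asIdeal, Ideal.mem_comap, RingHom.mem_ker]
  change ψ (algebraMap A _ a) = 0 ↔ _
  rw [ψ.commutes]
  change (algebraMap κ Ω) (algebraMap A κ a) = 0 ↔ _
  rw [map_eq_zero_iff _ (algebraMap κ Ω).injective, Ideal.algebraMap_residueField_eq_zero]

end Groth.Agent.Lib.Seat14.KummerAlg
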