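import Groth.Prelude.Def_Dix
import Groth.Agent.Lib.Seat14KummerAlg
import Mathlib.CategoryTheory.Sites.LocallySurjective

/-!
# The Kummer sequence on the small étale site (seat 14)

`powMap_epi`: if `n > 0` is invertible on `X` then the `n`-th power map `G_m → G_m` is an epimorphism
of étale sheaves.
-/

set_option autoImplicit false
universe u
open CategoryTheory CategoryTheory.Limits AlgebraicGeometry Opposite

namespace Groth.Agent.Lib.Seat14.Kummer

set_option backward.isDefEq.respectTransparency.types false in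
/-- pointwise criterion for covering sieves of the small etale site -/
lemma mem_smallEtale_iff {X : Scheme.{u}} (U : X.Etale) (R : Sieve U) :
    R ∈ X.smallEtaleTopology U ↔
      ∀ x : U.left, ∃ (W : X.Etale) (g : W ⟶ U) (y : W.left), R g ∧ g.left y = x := by
  have eX : X.smallEtaleTopology =
      (X.smallPretopology (P := EtCoh.etaleMP) (Q := EtCoh.etaleMP)).toGrothendieck :=
    Scheme.smallGrothendieckTopology_eq_toGrothendieck_smallPretopology X le_rfl
  rw [eX]
  constructor
  · intro h x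
    obtain ⟨W, g, y, h1, -, h3⟩ := (Scheme.mem_toGrothendieck_smallPretopology U R).1 h x
    exact ⟨W, g, y, h1, h3⟩
  · intro h
    refine (Scheme.mem_toGrothendieck_smallPretopology U R).2 ?_
    intro x
    obtain ⟨W, g, y, h1, h3⟩ := h x
    exact ⟨W, g, y, h1, inferInstance, h3⟩

/-- If `n` is invertible on `X` (nonzero in all residue fields), then `n` is a unit in the ring of
global functions of any scheme mapping to `X`. -/
theorem isUnit_natCast_of_invertibleOn {X V : Scheme.{u}} (h : V ⟶ X) (n : ℕ)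
    (hX : Dix.InvertibleOn X n) : IsUnit ((n : ℕ) : Γ(V, ⊤)) := by
  apply V.toRingedSpace.isUnit_of_isUnit_germ
  intro v hv
  have h1 : v ∈ V.basicOpen ((n : ℕ) : Γ(V, ⊤)) := by
    rw [← V.evaluation_ne_zero_iff_mem_basicOpen v (show v ∈ (⊤ : V.Opens) from trivial)]
    rw [map_natCast]
    intro h0
    apply hX (h v)
    have : (h.residueFieldMap v).hom ((n : ℕ) : X.residueField (h v)) = 0 := by
      rw [map_natCast]; exact h0
    exact (map_eq_zero_iff _ (h.residueFieldMap v).hom.injective).mp this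
  exact (V.mem_basicOpen _ v hv).mp h1

/-- `n` invertible on `X` implies `n` is a unit in `R` for any `Spec R ⟶ X`. -/
theorem isUnit_natCast_ring_of_invertibleOn {X : Scheme.{u}} {R : CommRingCat.{u}} (h : Spec R ⟶ X)
    (n : ℕ) (hX : Dix.InvertibleOn X n) : IsUnit ((n : ℕ) : R) := by
  have h1 := (isUnit_natCast_of_invertibleOn h n hX).map (Scheme.ΓSpecIso R).hom.hom
  rwa [map_natCast] at h1

/-- Evaluation of `n • f` on sections. -/
theorem nsmul_hom_app {X : Scheme.{u}} {F G : EtCoh.Ab X} (f : F ⟶ G) (n : ℕ) (U : (X.Etale)ᵒᵖ)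
    (s : F.obj.obj U) : (n • f).hom.app U s = n • (f.hom.app U s) := by
  induction n with
  | zero => simp
  | succ k ih =>
    rw [succ_nsmul, succ_nsmul, Sheaf.Hom.add_app]
    change (k • f).hom.app U s + f.hom.app U s = _
    rw [ih]

set_option backward.isDefEq.respectTransparency.types false in
/-- The `n`-th power map on `G_m` is locally surjective for the étale topology when `n` is
invertible on `X`. -/
theorem powMap_isLocallySurjective (X : Scheme.{u}) (n : ℕ) (hn : 0 < n)
    (hX : Dix.InvertibleOn X n) : Sheaf.IsLocallySurjective (EtCoh.powMap X n) := by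
  constructor
  intro U s
  rw [mem_smallEtale_iff]
  intro x
  -- an affine open neighbourhood of `x`
  let 𝒰 := U.left.affineOpenCover
  obtain ⟨y, hy⟩ := 𝒰.covers x
  let R : CommRingCat.{u} := 𝒰.X (𝒰.idx x)
  let j : Spec R ⟶ U.left := 𝒰.f (𝒰.idx x)
  let u : (Γ(U.left, ⊤))ˣ := Additive.toMul (ULift.down s)
  let uR : (R : Type u)ˣ := Units.map ((j.appTop ≫ (Scheme.ΓSpecIso R).hom).hom : Γ(U.left, ⊤) →* R) u
  have hnR : IsUnit ((n : ℕ) : R) := isUnit_natCast_ring_of_invertibleOn (j ≫ U.hom) n hX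
  let P := KummerAlg.pair n hn uR hnR
  let B : CommRingCat.{u} := CommRingCat.of P.Ring
  let φ : R ⟶ B := CommRingCat.ofHom (algebraMap R P.Ring)
  have : Etale (Spec.map φ) := by
    rw [HasRingHomProperty.Spec_iff (P := @Etale)]
    exact RingHom.etale_algebraMap.mpr inferInstance
  let g₀ : Spec B ⟶ U.left := Spec.map φ ≫ j
  let W : X.Etale := Scheme.Etale.mk (g₀ ≫ U.hom)
  let g : W ⟶ U := MorphismProperty.Over.homMk g₀ rfl trivial
  obtain ⟨q, hq⟩ := KummerAlg.comap_surjective n hn uR hnR y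
  refine ⟨W, g, q, ?_, ?_⟩
  · -- the class of `T` gives a preimage
    let tB : (Γ(Spec B, ⊤))ˣ :=
      Units.map ((Scheme.ΓSpecIso B).inv.hom : B →* Γ(Spec B, ⊤)) (KummerAlg.isUnit_X n hn uR hnR).unit
    refine ⟨ULift.up (Additive.ofMul tB), ?_⟩
    change (n • 𝟙 (EtCoh.Gm X)).hom.app (op W) _ = _
    rw [nsmul_hom_app]
    change n • (ULift.up (Additive.ofMul tB) : ULift.{u+1} (Additive (Γ(Spec B, ⊤))ˣ)) =
      ULift.up (Additive.ofMul (Units.map (g₀.appTop).hom.toMonoidHom u))
    apply ULift.ext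
    change n • Additive.ofMul tB = Additive.ofMul (Units.map (g₀.appTop).hom.toMonoidHom u)
    rw [← ofMul_pow]
    congr 1
    apply Units.ext
    change ((Scheme.ΓSpecIso B).inv.hom P.X) ^ n = g₀.appTop.hom (u : Γ(U.left, ⊤))
    rw [← map_pow, KummerAlg.X_pow]
    change ((Scheme.ΓSpecIso B).inv.hom (φ.hom ((Scheme.ΓSpecIso R).hom.hom (j.appTop.hom u)))) = _
    have h1 : g₀.appTop = j.appTop ≫ (Spec.map φ).appTop := by
      simp [g₀]
    have h2 := Scheme.ΓSpecIso_naturality φ
    have h3 : (Spec.map φ).appTop = (Scheme.ΓSpecIso R).hom ≫ φ ≫ (Scheme.ΓSpecIso B).inv := by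
      rw [← Category.assoc, ← h2, Category.assoc, Iso.hom_inv_id, Category.comp_id]
    rw [h1, h3]
    rfl
  · change (Spec.map φ ≫ j) q = x
    rw [Scheme.Hom.comp_apply]
    have : (Spec.map φ) q = y := hq
    rw [this, hy]

/-- The Kummer map `G_m → G_m`, `x ↦ x^n`, is an epimorphism of étale sheaves when `n` is invertible on `X`. -/
theorem powMap_epi (X : Scheme.{u}) (n : ℕ) (hn : 0 < n) (hX : Dix.InvertibleOn X n) :
    Epi (EtCoh.powMap X n) := by
  have := powMap_isLocallySurjective X n hn hX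
  exact Sheaf.epi_of_isLocallySurjective _

/-- The Kummer short complex `μ_n → G_m → G_m`. -/
noncomputable def kummerSC (X : Scheme.{u}) (n : ℕ) : ShortComplex (EtCoh.Ab X) :=
  ShortComplex.mk (EtCoh.muι X n) (EtCoh.powMap X n) (kernel.condition _)

/-- The Kummer sequence `0 → μ_n → G_m → G_m → 0` is short exact when `n` is invertible on `X`. -/
theorem kummerSC_shortExact (X : Scheme.{u}) (n : ℕ) (hn : 0 < n) (hX : Dix.InvertibleOn X n) :
    (kummerSC X n).ShortExact := by
  have : Epi (kummerSC X n).g := powMap_epi X n hn hX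
  have : Mono (kummerSC X n).f := by
    change Mono (EtCoh.muι X n)
    unfold EtCoh.muι
    exact equalizer.ι_mono
  refine ShortComplex.ShortExact.mk ?_
  exact ShortComplex.exact_of_f_is_kernel _ (kernelIsKernel _)

/-- The map induced on cohomology by `n • f`. -/
theorem H_map_nsmul {X : Scheme.{u}} {F G : EtCoh.Ab X} (f : F ⟶ G) (n i : ℕ) (ξ : EtCoh.H X F i) :
    Sheaf.H.map (n • f) i ξ = n • Sheaf.H.map f i ξ := by
  induction n with
  | zero => simp [Sheaf.H.map_apply]
  | succ k ih => rw [succ_nsmul, succ_nsmul, Sheaf.H.map_add_apply, ih]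

/-- The power map induces multiplication by `n` on cohomology. -/
theorem H_map_powMap (X : Scheme.{u}) (n i : ℕ) (ξ : EtCoh.H X (EtCoh.Gm X) i) :
    Sheaf.H.map (EtCoh.powMap X n) i ξ = n • ξ := by
  rw [EtCoh.powMap, H_map_nsmul, Sheaf.H.map_id_apply]

/-- Kummer theory at finite level: the image of `H^i(μ_n) → H^i(G_m)` is the `n`-torsion. -/
theorem range_H_map_muι (X : Scheme.{u}) (n : ℕ) (hn : 0 < n) (hX : Dix.InvertibleOn X n) (i : ℕ) :
    Set.range (Sheaf.H.map (EtCoh.muι X n) i) = {ξ : EtCoh.H X (EtCoh.Gm X) i | n • ξ = 0} := by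
  have hS := kummerSC_shortExact X n hn hX
  ext ξ
  simp only [Set.mem_range, Set.mem_ofPred_eq]
  constructor
  · rintro ⟨η, rfl⟩
    rw [← H_map_powMap, ← Sheaf.H.map_comp_apply]
    have h0 : EtCoh.muι X n ≫ EtCoh.powMap X n = 0 := (kummerSC X n).zero
    rw [h0]
    simp [Sheaf.H.map_apply]
  · intro h
    rw [← H_map_powMap] at h
    obtain ⟨η, hη⟩ := CategoryTheory.Abelian.Ext.covariant_sequence_exact₂ _ hS ξ h
    exact ⟨η, hη⟩

end Groth.Agent.Lib.Seat14.Kummer
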