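import Mathlib
import Groth.Prelude.Def_Smoothing
import Groth.Agent.Lib.Seat14DimZeroA

/-!
# The lifting lemma (Stacks 16.5.1), part A: charts and the algebra `D` (seat 14)

`C = R[x]/(f, π²)`. A chart consists of rows `E`, columns, an element `a` (a multiple of the Jacobian
minor) with `a f_ℓ = ∑_{j ∈ E} H_{ℓ j} f_j + π² G_ℓ`. The algebra
`D = R[x, z]/(f_j - π z_j, p_{k,ℓ})`, `p_{k,ℓ} = a_k z_ℓ - ∑_j H_{ℓ j} z_j - π G_ℓ`.
-/

set_option autoImplicit false
set_option linter.style.haveILetI false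
set_option linter.unusedSectionVars false
universe u

namespace Groth.Agent.Lib.Seat14.LiftLem

open MvPolynomial
open Groth.Agent.Lib.Seat14.DimZero

variable {R : Type u} [CommRing R] {n m : ℕ}

/-- A chart for the relations `f` modulo `π²`. -/
structure Chart (f : Fin m → MvPolynomial (Fin n) R) (π : R) where
  /-- number of leading relations -/
  c : ℕ
  /-- the leading relations -/
  rows : Fin c → Fin m
  /-- the chosen columns -/
  cols : Fin c → Fin n
  inj : Function.Injective rows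
  /-- the element of the chart -/
  a : MvPolynomial (Fin n) R
  /-- the cofactor -/
  a' : MvPolynomial (Fin n) R
  ha : a = a' * minor f rows cols
  /-- the coefficients -/
  H : Fin m → Fin c → MvPolynomial (Fin n) R
  /-- the `π²`-parts -/
  G : Fin m → MvPolynomial (Fin n) R
  eq : ∀ ℓ, a * f ℓ = ∑ j, H ℓ j * f (rows j) + C (π ^ 2) * G ℓ
  H_rows : ∀ j₀ j, H (rows j₀) j = if j₀ = j then a else 0
  G_rows : ∀ j₀, G (rows j₀) = 0

variable (f : Fin m → MvPolynomial (Fin n) R) (π : R)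

/-- `f_j - π z_j`. -/
noncomputable def xf (j : Fin m) : MvPolynomial (Fin n ⊕ Fin m) R :=
  rename Sum.inl (f j) - C π * X (Sum.inr j)

variable {f π}

/-- `p_{k,ℓ} = a_k z_ℓ - ∑_j H_{ℓ j} z_{rows j} - π G_ℓ`. -/
noncomputable def pp (ch : Chart f π) (ℓ : Fin m) : MvPolynomial (Fin n ⊕ Fin m) R :=
  rename Sum.inl ch.a * X (Sum.inr ℓ) -
    ∑ j, rename Sum.inl (ch.H ℓ j) * X (Sum.inr (ch.rows j)) - C π * rename Sum.inl (ch.G ℓ)

/-- The relations of `D`. -/
noncomputable def relD {r : ℕ} (ch : Fin r → Chart f π) :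
    Fin m ⊕ (Fin r × Fin m) → MvPolynomial (Fin n ⊕ Fin m) R :=
  Sum.elim (xf f π) (fun kl => pp (ch kl.1) kl.2)

/-- The relations of the chart algebra `D_k`. -/
noncomputable def relK (ch : Chart f π) : Fin ch.c ⊕ Fin m → MvPolynomial (Fin n ⊕ Fin m) R :=
  Sum.elim (fun j => xf f π (ch.rows j)) (pp ch)

theorem C_mul_pp (ch : Chart f π) (ℓ : Fin m) :
    C π * pp ch ℓ = - rename Sum.inl ch.a * xf f π ℓ +
      ∑ j, rename Sum.inl (ch.H ℓ j) * xf f π (ch.rows j) := by
  have h := congrArg (rename Sum.inl : MvPolynomial (Fin n) R → MvPolynomial (Fin n ⊕ Fin m) R)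
    (ch.eq ℓ)
  simp only [map_mul, map_add, map_sum, rename_C, map_pow] at h
  have hs : ∑ j, rename Sum.inl (ch.H ℓ j) * xf f π (ch.rows j) =
      ∑ j, rename Sum.inl (ch.H ℓ j) * rename Sum.inl (f (ch.rows j)) -
        C π * ∑ j, rename Sum.inl (ch.H ℓ j) * X (Sum.inr (ch.rows j)) := by
    rw [Finset.mul_sum, ← Finset.sum_sub_distrib]
    refine Finset.sum_congr rfl fun j _ => ?_
    unfold xf
    ring
  rw [hs]
  unfold pp xf
  linear_combination h

theorem pp_rows (ch : Chart f π) (j₀ : Fin ch.c) : pp ch (ch.rows j₀) = 0 := by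
  classical
  unfold pp
  have h1 : ∀ j, rename Sum.inl (ch.H (ch.rows j₀) j) * X (Sum.inr (ch.rows j)) =
      if j₀ = j then (rename Sum.inl ch.a * X (Sum.inr (ch.rows j₀)) :
        MvPolynomial (Fin n ⊕ Fin m) R) else 0 := by
    intro j
    rw [ch.H_rows]
    split_ifs with h
    · subst h
      rfl
    · simp
  simp only [h1, Finset.sum_ite_eq, Finset.mem_univ, if_true, ch.G_rows, map_zero, mul_zero,
    sub_self]

/-- `π` times a relation `p_{k,ℓ}` lies in the ideal of the `f_j - π z_j`. -/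
theorem C_mul_pp_mem (ch : Chart f π) (ℓ : Fin m) :
    C π * pp ch ℓ ∈ Ideal.span (Set.range (xf f π)) := by
  rw [C_mul_pp]
  refine Ideal.add_mem _ (Ideal.mul_mem_left _ _ (Ideal.subset_span ⟨ℓ, rfl⟩))
    (Ideal.sum_mem _ fun j _ => Ideal.mul_mem_left _ _ (Ideal.subset_span ⟨_, rfl⟩))

/-- `a_k (f_ℓ - π z_ℓ)` lies in the ideal of the chart relations. -/
theorem a_mul_xf_mem (ch : Chart f π) (ℓ : Fin m) :
    rename Sum.inl ch.a * xf f π ℓ ∈ Ideal.span (Set.range (relK ch)) := by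
  have h := C_mul_pp ch ℓ
  have h2 : rename Sum.inl ch.a * xf f π ℓ =
      ∑ j, rename Sum.inl (ch.H ℓ j) * xf f π (ch.rows j) - C π * pp ch ℓ := by
    rw [h]
    ring
  rw [h2]
  refine Ideal.sub_mem _ (Ideal.sum_mem _ fun j _ => Ideal.mul_mem_left _ _
    (Ideal.subset_span ⟨Sum.inl j, rfl⟩)) (Ideal.mul_mem_left _ _ (Ideal.subset_span ⟨Sum.inr ℓ, rfl⟩))

section Deriv

theorem pderiv_inr_xf (j k : Fin m) :
    pderiv (Sum.inr k) (xf f π j) = if j = k then -C π else 0 := by
  classical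
  unfold xf
  rw [map_sub, pderiv_rename_of_notMem_range Sum.inl (Sum.inr k) (by simp), zero_sub,
    Derivation.leibniz, pderiv_C, pderiv_X, smul_zero, add_zero]
  by_cases hjk : j = k
  · subst hjk
    simp
  · rw [if_neg hjk, Pi.single_eq_of_ne (by
      intro h
      exact hjk (Sum.inr_injective h))]
    simp

theorem pderiv_inl_xf (i : Fin n) (j : Fin m) :
    pderiv (Sum.inl i) (xf f π j) = rename Sum.inl (pderiv i (f j)) := by
  classical
  unfold xf
  rw [map_sub, pderiv_rename Sum.inl_injective, Derivation.leibniz, pderiv_C, pderiv_X,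
    Pi.single_eq_of_ne (by simp)]
  simp

theorem pderiv_inr_pp (ch : Chart f π) (ℓ ℓ' : Fin m) (hℓ' : ℓ' ∉ Set.range ch.rows) :
    pderiv (Sum.inr ℓ') (pp ch ℓ) = if ℓ = ℓ' then rename Sum.inl ch.a else 0 := by
  classical
  unfold pp
  have h0 : ∀ p : MvPolynomial (Fin n) R,
      pderiv (Sum.inr ℓ') (rename Sum.inl p : MvPolynomial (Fin n ⊕ Fin m) R) = 0 :=
    fun p => pderiv_rename_of_notMem_range Sum.inl (Sum.inr ℓ') (by simp) p
  rw [map_sub, map_sub, map_sum]
  have h1 : ∀ j, pderiv (Sum.inr ℓ')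
      (rename Sum.inl (ch.H ℓ j) * X (Sum.inr (ch.rows j)) : MvPolynomial (Fin n ⊕ Fin m) R) = 0 := by
    intro j
    rw [Derivation.leibniz, h0, pderiv_X, Pi.single_eq_of_ne (by
      intro h
      exact hℓ' ⟨j, Sum.inr_injective h⟩)]
    simp
  have h2 : pderiv (Sum.inr ℓ')
      (C π * rename Sum.inl (ch.G ℓ) : MvPolynomial (Fin n ⊕ Fin m) R) = 0 := by
    rw [Derivation.leibniz, pderiv_C, h0]
    simp
  rw [Finset.sum_congr rfl fun j _ => h1 j, Finset.sum_const_zero, sub_zero, h2, sub_zero,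
    Derivation.leibniz, h0, pderiv_X]
  by_cases h : ℓ = ℓ'
  · subst h
    simp
  · rw [if_neg h, Pi.single_eq_of_ne (by
      intro h'
      exact h (Sum.inr_injective h'))]
    simp

end Deriv

end Groth.Agent.Lib.Seat14.LiftLem
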