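import Mathlib
import Groth.Prelude.Def_Smoothing
import Groth.Agent.Lib.Seat14DimZeroA
import Groth.Agent.Lib.Seat14LiftLemA

/-!
# The lifting lemma (Stacks 16.5.1), part B: Jacobian computations (seat 14)
-/

set_option autoImplicit false
set_option linter.style.haveILetI false
set_option linter.unusedSectionVars false
universe u

namespace Groth.Agent.Lib.Seat14.LiftLem

open MvPolynomial
open Groth.Agent.Lib.Seat14.DimZero

variable {R : Type u} [CommRing R] {n m : ℕ} {f : Fin m → MvPolynomial (Fin n) R} {π : R}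

theorem minor_congr {σ τ τ' κ : Type} [Fintype σ] [Fintype τ] [Fintype τ'] [Fintype κ]
    [DecidableEq σ] [DecidableEq τ] [DecidableEq τ'] [DecidableEq κ]
    (g : τ → MvPolynomial σ R) (g' : τ' → MvPolynomial σ R) (rows : κ → τ) (rows' : κ → τ')
    (cols : κ → σ) (h : ∀ j, g (rows j) = g' (rows' j)) :
    minor g rows cols = minor g' rows' cols := by
  unfold minor
  congr 1
  refine Matrix.ext fun j k => ?_
  simp only [Matrix.of_apply, h]

section PiNotMem

variable {B : Type u} [CommRing B] [Algebra R B] {r : ℕ} (ch : Fin r → Chart f π)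
  (πB : MvPolynomial (Fin n ⊕ Fin m) R →ₐ[R] B) (hsurj : Function.Surjective πB)
  (hker : RingHom.ker πB.toRingHom = Ideal.span (Set.range (relD ch)))

include hsurj hker in
/-- `D` is smooth over `R` at the primes not containing `π`. -/
theorem isSmoothAt_of_pi_notMem (𝔮 : Ideal B) [𝔮.IsPrime] (hπ : algebraMap R B π ∉ 𝔮) :
    Algebra.IsSmoothAt R 𝔮 := by
  classical
  have hCπ : ∀ x : R, πB (C x) = algebraMap R B x := fun x => by
    rw [← algebraMap_eq, AlgHom.commutes]
  have hm : minor (relD ch) (Sum.inl : Fin m → Fin m ⊕ (Fin r × Fin m))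
      (Sum.inr : Fin m → Fin n ⊕ Fin m) = (-C π) ^ Fintype.card (Fin m) := by
    refine minor_diagonal _ _ _ _ ?_
    intro j k
    exact pderiv_inr_xf j k
  refine isSmoothAt_of_minor_notMem' (relD ch) πB hsurj hker Sum.inl Sum.inr 𝔮 ?_ (C π) ?_ ?_
  · rw [hm, map_pow, map_neg, hCπ]
    intro h
    have h2 := Ideal.IsPrime.mem_of_pow_mem inferInstance _ h
    rw [Ideal.neg_mem_iff] at h2
    exact hπ h2
  · rw [hCπ]
    exact hπ
  · have hle : Ideal.span (Set.range (xf f π)) ≤ lead (relD ch) (Sum.inl : Fin m → _) := by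
      rw [Ideal.span_le]
      rintro _ ⟨j, rfl⟩
      exact mem_lead_of_row (relD ch) Sum.inl j
    rintro (j | ⟨k, ℓ⟩)
    · exact Ideal.mul_mem_left _ _ (mem_lead_of_row (relD ch) Sum.inl j)
    · exact hle (C_mul_pp_mem (ch k) ℓ)

end PiNotMem

section ChartMinor

variable (ch : Chart f π)

/-- The rows of the Jacobian minor of a chart. -/
noncomputable def rowFam : Fin ch.c ⊕ {ℓ : Fin m // ℓ ∉ Set.range ch.rows} →
    MvPolynomial (Fin n ⊕ Fin m) R :=
  Sum.elim (fun j => xf f π (ch.rows j)) (fun ℓ => pp ch ℓ.1)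

/-- The columns of the Jacobian minor of a chart. -/
def colFam : Fin ch.c ⊕ {ℓ : Fin m // ℓ ∉ Set.range ch.rows} → Fin n ⊕ Fin m :=
  Sum.elim (fun j => Sum.inl (ch.cols j)) (fun ℓ => Sum.inr ℓ.1)

open Classical in
theorem minor_rowFam :
    minor (rowFam ch) id (colFam ch) =
      rename Sum.inl (minor f ch.rows ch.cols) *
        (rename Sum.inl ch.a) ^ Fintype.card {ℓ : Fin m // ℓ ∉ Set.range ch.rows} := by
  have h12 := minor_sumElim₁₂ (rowFam ch) (Sum.inl : Fin ch.c → _)
    (Sum.inr : {ℓ : Fin m // ℓ ∉ Set.range ch.rows} → _)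
    (fun j => Sum.inl (ch.cols j)) (fun ℓ => Sum.inr ℓ.1) (by
      intro i ℓ
      show pderiv (Sum.inr ℓ.1) (xf f π (ch.rows i)) = 0
      rw [pderiv_inr_xf, if_neg]
      intro h
      exact ℓ.2 ⟨i, h⟩)
  have hid : (id : Fin ch.c ⊕ {ℓ : Fin m // ℓ ∉ Set.range ch.rows} → _) =
      Sum.elim Sum.inl Sum.inr := by
    funext x
    rcases x with x | x <;> rfl
  have hcol : colFam ch = Sum.elim (fun j => Sum.inl (ch.cols j)) (fun ℓ => Sum.inr ℓ.1) := rfl
  rw [hid, hcol, h12]
  congr 1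
  · -- the `x`-block
    have h1 : minor (rowFam ch) (Sum.inl : Fin ch.c → _) (fun j => Sum.inl (ch.cols j)) =
        minor (fun j => rename Sum.inl (f j) : Fin m → MvPolynomial (Fin n ⊕ Fin m) R) ch.rows
          (Sum.inl ∘ ch.cols) := by
      unfold minor
      congr 1
      refine Matrix.ext fun j k => ?_
      simp only [Matrix.of_apply, Function.comp_apply]
      show pderiv (Sum.inl (ch.cols k)) (xf f π (ch.rows j)) = _
      rw [pderiv_inl_xf, pderiv_rename Sum.inl_injective]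
    rw [h1]
    exact minor_rename (R := R) Sum.inl (Sum.inl_injective (β := Fin m)) f ch.rows ch.cols
  · refine minor_diagonal _ _ _ _ ?_
    intro ℓ ℓ'
    show pderiv (Sum.inr ℓ'.1) (pp ch ℓ.1) = _
    rw [pderiv_inr_pp ch ℓ.1 ℓ'.1 ℓ'.2]
    by_cases h : ℓ = ℓ'
    · rw [if_pos h, if_pos (congrArg Subtype.val h)]
    · rw [if_neg h, if_neg (fun h' => h (Subtype.ext h'))]

end ChartMinor

section ChartSmooth

variable {B : Type u} [CommRing B] [Algebra R B]
  (πB : MvPolynomial (Fin n ⊕ Fin m) R →ₐ[R] B) (hsurj : Function.Surjective πB)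

include hsurj in
/-- The chart algebra `D_k` is smooth at the primes not containing `a_k`. -/
theorem isSmoothAt_chart (ch : Chart f π)
    (hker : RingHom.ker πB.toRingHom = Ideal.span (Set.range (relK ch)))
    (𝔮 : Ideal B) [𝔮.IsPrime] (ha : πB (rename Sum.inl ch.a) ∉ 𝔮) : Algebra.IsSmoothAt R 𝔮 := by
  classical
  set rowsK : Fin ch.c ⊕ {ℓ : Fin m // ℓ ∉ Set.range ch.rows} → Fin ch.c ⊕ Fin m :=
    Sum.elim Sum.inl (fun ℓ => Sum.inr ℓ.1) with hrowsK
  have hm : minor (relK ch) rowsK (colFam ch) = minor (rowFam ch) id (colFam ch) :=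
    minor_congr _ _ _ _ _ (by rintro (j | ℓ) <;> rfl)
  refine isSmoothAt_of_minor_notMem' (relK ch) πB hsurj hker rowsK (colFam ch) 𝔮 ?_ 1 ?_ ?_
  · rw [hm, minor_rowFam, map_mul, map_pow]
    intro h
    rcases Ideal.IsPrime.mem_or_mem inferInstance h with h | h
    · apply ha
      rw [ch.ha, map_mul, map_mul]
      exact Ideal.mul_mem_left _ _ h
    · exact ha (Ideal.IsPrime.mem_of_pow_mem inferInstance _ h)
  · rw [map_one]
    exact Ideal.IsPrime.one_notMem inferInstance
  · rintro (j | ℓ)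
    · rw [one_mul]
      exact mem_lead_of_row (relK ch) rowsK (Sum.inl j)
    · rw [one_mul]
      by_cases hℓ : ℓ ∈ Set.range ch.rows
      · obtain ⟨j₀, rfl⟩ := hℓ
        show pp ch (ch.rows j₀) ∈ _
        rw [pp_rows]
        exact Ideal.zero_mem _
      · exact mem_lead_of_row (relK ch) rowsK (Sum.inr ⟨ℓ, hℓ⟩)

include hsurj in
/-- `D` is smooth at a prime not containing `a_k` as soon as the other relations `p_{k',ℓ}` are killed
by some `s` outside the prime modulo the relations of `D_k`. -/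
theorem isSmoothAt_D_of_chart {r : ℕ} (ch : Fin r → Chart f π)
    (hker : RingHom.ker πB.toRingHom = Ideal.span (Set.range (relD ch))) (k : Fin r)
    (𝔮 : Ideal B) [𝔮.IsPrime] (ha : πB (rename Sum.inl (ch k).a) ∉ 𝔮)
    (s : MvPolynomial (Fin n ⊕ Fin m) R) (hs : πB s ∉ 𝔮)
    (hkill : ∀ k' ℓ, s * pp (ch k') ℓ ∈ Ideal.span (Set.range (relK (ch k)))) :
    Algebra.IsSmoothAt R 𝔮 := by
  classical
  set rowsD : Fin (ch k).c ⊕ {ℓ : Fin m // ℓ ∉ Set.range (ch k).rows} →
      Fin m ⊕ (Fin r × Fin m) :=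
    Sum.elim (fun j => Sum.inl ((ch k).rows j)) (fun ℓ => Sum.inr (k, ℓ.1)) with hrowsD
  have hm : minor (relD ch) rowsD (colFam (ch k)) =
      minor (rowFam (ch k)) id (colFam (ch k)) :=
    minor_congr _ _ _ _ _ (by rintro (j | ℓ) <;> rfl)
  have hle : Ideal.span (Set.range (relK (ch k))) ≤ lead (relD ch) rowsD := by
    rw [Ideal.span_le]
    rintro _ ⟨(j | ℓ), rfl⟩
    · exact mem_lead_of_row (relD ch) rowsD (Sum.inl j)
    · by_cases hℓ : ℓ ∈ Set.range (ch k).rows
      · obtain ⟨j₀, rfl⟩ := hℓ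
        show pp (ch k) ((ch k).rows j₀) ∈ _
        rw [pp_rows]
        exact Ideal.zero_mem _
      · exact mem_lead_of_row (relD ch) rowsD (Sum.inr ⟨ℓ, hℓ⟩)
  refine isSmoothAt_of_minor_notMem' (relD ch) πB hsurj hker rowsD (colFam (ch k)) 𝔮 ?_
    (rename Sum.inl (ch k).a * s) ?_ ?_
  · rw [hm, minor_rowFam, map_mul, map_pow]
    intro h
    rcases Ideal.IsPrime.mem_or_mem inferInstance h with h | h
    · apply ha
      rw [(ch k).ha, map_mul, map_mul]
      exact Ideal.mul_mem_left _ _ h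
    · exact ha (Ideal.IsPrime.mem_of_pow_mem inferInstance _ h)
  · rw [map_mul]
    intro h
    rcases Ideal.IsPrime.mem_or_mem inferInstance h with h | h
    · exact ha h
    · exact hs h
  · rintro (j | ⟨k', ℓ⟩)
    · have := hle (a_mul_xf_mem (ch k) j)
      show rename Sum.inl (ch k).a * s * xf f π j ∈ _
      rw [mul_right_comm]
      exact Ideal.mul_mem_right _ _ this
    · show rename Sum.inl (ch k).a * s * pp (ch k') ℓ ∈ _
      rw [mul_assoc]
      exact Ideal.mul_mem_left _ _ (hle (hkill k' ℓ))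

end ChartSmooth

end Groth.Agent.Lib.Seat14.LiftLem
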