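import Mathlib
import Groth.Prelude.Def_Smoothing
import Groth.Agent.Lib.Seat14DimZeroA
import Groth.Agent.Lib.Seat14LiftLemA
import Groth.Agent.Lib.Seat14LiftLemB

/-!
# The lifting lemma (Stacks 16.5.1), part C: comparison of two charts (seat 14)
-/

set_option autoImplicit false
set_option linter.style.haveILetI false
set_option linter.unusedSectionVars false
universe u

namespace Groth.Agent.Lib.Seat14.LiftLem

open MvPolynomial
open Groth.Agent.Lib.Seat14.DimZero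

variable {R : Type u} [CommRing R] {n m : ℕ}

open Matrix in
/-- If `∑ W_j f'_j ∈ (p)` then the Jacobian minor times each `W_j` lies in `(f') + (p)`. -/
theorem minor_mul_mem {c : ℕ} (f' : Fin c → MvPolynomial (Fin n) R) (cols : Fin c → Fin n)
    (W : Fin c → MvPolynomial (Fin n) R) (p : R)
    (hW : ∑ j, W j * f' j ∈ Ideal.span {(C p : MvPolynomial (Fin n) R)}) (j : Fin c) :
    minor f' id cols * W j ∈ Ideal.span (Set.range f') ⊔ Ideal.span {(C p : MvPolynomial (Fin n) R)} := by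
  classical
  set 𝔠 : Ideal (MvPolynomial (Fin n) R) :=
    Ideal.span (Set.range f') ⊔ Ideal.span {(C p : MvPolynomial (Fin n) R)} with h𝔠
  set M : Matrix (Fin c) (Fin c) (MvPolynomial (Fin n) R) :=
    Matrix.of fun j k => pderiv (cols k) (f' j) with hM
  have hdet : minor f' id cols = M.det := rfl
  -- `W ᵥ* M` has entries in `𝔠`
  have h1 : ∀ i, (W ᵥ* M) i ∈ 𝔠 := by
    intro i
    obtain ⟨T, hT⟩ := Ideal.mem_span_singleton'.mp hW
    have h2 := congrArg (pderiv (cols i)) hT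
    rw [Derivation.leibniz, pderiv_C, smul_zero, zero_add, map_sum] at h2
    have h3 : ∀ j, pderiv (cols i) (W j * f' j) =
        W j * M j i + f' j * pderiv (cols i) (W j) := by
      intro j
      rw [Derivation.leibniz, hM, Matrix.of_apply, smul_eq_mul, smul_eq_mul]
    rw [Finset.sum_congr rfl fun j _ => h3 j, Finset.sum_add_distrib] at h2
    have h4 : (W ᵥ* M) i = (C p : MvPolynomial (Fin n) R) * pderiv (cols i) T -
        ∑ j, f' j * pderiv (cols i) (W j) := by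
      rw [← smul_eq_mul, h2]
      simp only [Matrix.vecMul, dotProduct]
      ring
    rw [h4]
    refine Ideal.sub_mem _ ?_ (Ideal.sum_mem _ fun j _ => ?_)
    · exact Ideal.mem_sup_right (Ideal.mul_mem_right _ _ (Ideal.subset_span rfl))
    · exact Ideal.mem_sup_left (Ideal.mul_mem_right _ _ (Ideal.subset_span ⟨j, rfl⟩))
  have h5 : (W ᵥ* M) ᵥ* M.adjugate = M.det • W := by
    rw [Matrix.vecMul_vecMul, Matrix.mul_adjugate, Matrix.vecMul_smul, Matrix.vecMul_one]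
  have h6 := congrFun h5 j
  rw [Pi.smul_apply, smul_eq_mul] at h6
  rw [hdet, ← h6]
  simp only [Matrix.vecMul, dotProduct]
  exact Ideal.sum_mem _ fun i _ => Ideal.mul_mem_right _ _ (h1 i)

variable {f : Fin m → MvPolynomial (Fin n) R} {π : R}

/-- `E_ℓ = a z_ℓ - ∑_j H_{ℓ j} z_{rows j}`, which is `p_ℓ + π G_ℓ`. -/
noncomputable def EE (ch : Chart f π) (ℓ : Fin m) : MvPolynomial (Fin n ⊕ Fin m) R :=
  rename Sum.inl ch.a * X (Sum.inr ℓ) -
    ∑ j, rename Sum.inl (ch.H ℓ j) * X (Sum.inr (ch.rows j))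

theorem EE_mem (ch : Chart f π) (ℓ : Fin m) :
    EE ch ℓ ∈ Ideal.span {(C π : MvPolynomial (Fin n ⊕ Fin m) R)} ⊔
      Ideal.span (Set.range (relK ch)) := by
  have h : EE ch ℓ = pp ch ℓ + C π * rename Sum.inl (ch.G ℓ) := by
    unfold EE pp
    ring
  rw [h]
  exact Ideal.add_mem _ (Ideal.mem_sup_right (Ideal.subset_span ⟨Sum.inr ℓ, rfl⟩))
    (Ideal.mem_sup_left (Ideal.mul_mem_right _ _ (Ideal.subset_span rfl)))

/-- The coefficients `W_j = a' H_{ℓ j} - ∑_{j'} H'_{ℓ j'} H_{rows' j', j}`. -/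
noncomputable def WW (ch ch' : Chart f π) (ℓ : Fin m) (j : Fin ch.c) : MvPolynomial (Fin n) R :=
  ch'.a * ch.H ℓ j - ∑ j', ch'.H ℓ j' * ch.H (ch'.rows j') j

theorem sum_WW_mul_mem (ch ch' : Chart f π) (ℓ : Fin m) :
    ∑ j, WW ch ch' ℓ j * f (ch.rows j) ∈
      Ideal.span {(C (π ^ 2) : MvPolynomial (Fin n) R)} := by
  have hA : ∑ j, ch'.a * ch.H ℓ j * f (ch.rows j) = ch'.a * ∑ j, ch.H ℓ j * f (ch.rows j) := by
    rw [Finset.mul_sum]
    exact Finset.sum_congr rfl fun j _ => by ring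
  have hB : ∑ j, (∑ j', ch'.H ℓ j' * ch.H (ch'.rows j') j) * f (ch.rows j) =
      ∑ j', ch'.H ℓ j' * ∑ j, ch.H (ch'.rows j') j * f (ch.rows j) := by
    simp only [Finset.mul_sum, Finset.sum_mul]
    rw [Finset.sum_comm]
    exact Finset.sum_congr rfl fun j' _ => Finset.sum_congr rfl fun j _ => by ring
  have hsum : ∑ j, WW ch ch' ℓ j * f (ch.rows j) =
      ch'.a * ∑ j, ch.H ℓ j * f (ch.rows j) -
        ∑ j', ch'.H ℓ j' * ∑ j, ch.H (ch'.rows j') j * f (ch.rows j) := by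
    rw [← hA, ← hB, ← Finset.sum_sub_distrib]
    exact Finset.sum_congr rfl fun j _ => by
      unfold WW
      ring
  have e1 : ∀ ℓ₁, ∑ j, ch.H ℓ₁ j * f (ch.rows j) = ch.a * f ℓ₁ - C (π ^ 2) * ch.G ℓ₁ := by
    intro ℓ₁
    rw [ch.eq ℓ₁]
    ring
  have e3 : ∑ j', ch'.H ℓ j' * f (ch'.rows j') = ch'.a * f ℓ - C (π ^ 2) * ch'.G ℓ := by
    rw [ch'.eq ℓ]
    ring
  have e2 : ∑ j', ch'.H ℓ j' * ∑ j, ch.H (ch'.rows j') j * f (ch.rows j) =
      ch.a * ∑ j', ch'.H ℓ j' * f (ch'.rows j') -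
        C (π ^ 2) * ∑ j', ch'.H ℓ j' * ch.G (ch'.rows j') := by
    rw [Finset.mul_sum, Finset.mul_sum, ← Finset.sum_sub_distrib]
    exact Finset.sum_congr rfl fun j' _ => by
      rw [e1]
      ring
  rw [hsum, e1, e2, e3]
  refine Ideal.mem_span_singleton'.mpr
    ⟨- (ch'.a * ch.G ℓ) + ch.a * ch'.G ℓ + ∑ j', ch'.H ℓ j' * ch.G (ch'.rows j'), ?_⟩
  generalize ∑ j', ch'.H ℓ j' * ch.G (ch'.rows j') = S
  ring

theorem a_mul_pp_sub (ch ch' : Chart f π) (ℓ : Fin m) :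
    rename Sum.inl ch.a * pp ch' ℓ -
        ∑ j, rename Sum.inl (WW ch ch' ℓ j) * X (Sum.inr (ch.rows j)) =
      rename Sum.inl ch'.a * EE ch ℓ - ∑ j', rename Sum.inl (ch'.H ℓ j') * EE ch (ch'.rows j') -
        C π * (rename Sum.inl ch.a * rename Sum.inl (ch'.G ℓ)) := by
  have hA : ∑ j, (rename Sum.inl ch'.a * rename Sum.inl (ch.H ℓ j) * X (Sum.inr (ch.rows j)) :
      MvPolynomial (Fin n ⊕ Fin m) R) =
      rename Sum.inl ch'.a * ∑ j, rename Sum.inl (ch.H ℓ j) * X (Sum.inr (ch.rows j)) := by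
    rw [Finset.mul_sum]
    exact Finset.sum_congr rfl fun j _ => by ring
  have hB : ∑ j, ((∑ j', rename Sum.inl (ch'.H ℓ j') * rename Sum.inl (ch.H (ch'.rows j') j)) *
      X (Sum.inr (ch.rows j)) : MvPolynomial (Fin n ⊕ Fin m) R) =
      ∑ j', rename Sum.inl (ch'.H ℓ j') *
        ∑ j, rename Sum.inl (ch.H (ch'.rows j') j) * X (Sum.inr (ch.rows j)) := by
    simp only [Finset.mul_sum, Finset.sum_mul]
    rw [Finset.sum_comm]
    exact Finset.sum_congr rfl fun j' _ => Finset.sum_congr rfl fun j _ => by ring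
  have h1 : ∑ j, (rename Sum.inl (WW ch ch' ℓ j) * X (Sum.inr (ch.rows j)) :
      MvPolynomial (Fin n ⊕ Fin m) R) =
      rename Sum.inl ch'.a * ∑ j, rename Sum.inl (ch.H ℓ j) * X (Sum.inr (ch.rows j)) -
        ∑ j', rename Sum.inl (ch'.H ℓ j') *
          ∑ j, rename Sum.inl (ch.H (ch'.rows j') j) * X (Sum.inr (ch.rows j)) := by
    rw [← hA, ← hB, ← Finset.sum_sub_distrib]
    exact Finset.sum_congr rfl fun j _ => by
      unfold WW
      rw [map_sub, map_mul, map_sum]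
      simp only [map_mul]
      ring
  have h2 : ∑ j', rename Sum.inl (ch'.H ℓ j') * EE ch (ch'.rows j') =
      rename Sum.inl ch.a * ∑ j', rename Sum.inl (ch'.H ℓ j') * X (Sum.inr (ch'.rows j')) -
        ∑ j', rename Sum.inl (ch'.H ℓ j') *
          ∑ j, rename Sum.inl (ch.H (ch'.rows j') j) * X (Sum.inr (ch.rows j)) := by
    rw [Finset.mul_sum, ← Finset.sum_sub_distrib]
    exact Finset.sum_congr rfl fun j' _ => by
      unfold EE
      ring
  rw [h1, h2]
  unfold pp EE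
  generalize ∑ j, rename Sum.inl (ch.H ℓ j) * X (Sum.inr (ch.rows j)) = S1
  generalize ∑ j', rename Sum.inl (ch'.H ℓ j') *
    ∑ j, rename Sum.inl (ch.H (ch'.rows j') j) * X (Sum.inr (ch.rows j)) = S2
  generalize ∑ j', rename Sum.inl (ch'.H ℓ j') * X (Sum.inr (ch'.rows j')) = S3
  ring

theorem cross_mem (ch ch' : Chart f π) (ℓ : Fin m) :
    rename Sum.inl (minor f ch.rows ch.cols) * (rename Sum.inl ch.a * pp ch' ℓ) ∈
      Ideal.span {(C π : MvPolynomial (Fin n ⊕ Fin m) R)} ⊔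
        Ideal.span (Set.range (relK ch)) := by
  classical
  set 𝔟 : Ideal (MvPolynomial (Fin n ⊕ Fin m) R) :=
    Ideal.span {(C π : MvPolynomial (Fin n ⊕ Fin m) R)} ⊔ Ideal.span (Set.range (relK ch))
    with h𝔟
  have hCπ : (C π : MvPolynomial (Fin n ⊕ Fin m) R) ∈ 𝔟 :=
    Ideal.mem_sup_left (Ideal.subset_span rfl)
  -- (iii)
  have h3 : rename Sum.inl ch.a * pp ch' ℓ -
      ∑ j, rename Sum.inl (WW ch ch' ℓ j) * X (Sum.inr (ch.rows j)) ∈ 𝔟 := by
    rw [a_mul_pp_sub]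
    refine Ideal.sub_mem _ (Ideal.sub_mem _ (Ideal.mul_mem_left _ _ (EE_mem ch ℓ))
      (Ideal.sum_mem _ fun j' _ => Ideal.mul_mem_left _ _ (EE_mem ch _)))
      (Ideal.mul_mem_right _ _ hCπ)
  -- (iv)
  have h4 : ∀ j, (rename Sum.inl (minor f ch.rows ch.cols * WW ch ch' ℓ j) :
      MvPolynomial (Fin n ⊕ Fin m) R) ∈ 𝔟 := by
    intro j
    have hmm := minor_mul_mem (f ∘ ch.rows) ch.cols (WW ch ch' ℓ) (π ^ 2)
      (sum_WW_mul_mem ch ch' ℓ) j
    have hmin : minor (f ∘ ch.rows) id ch.cols = minor f ch.rows ch.cols := rfl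
    rw [hmin] at hmm
    have hle : (Ideal.span (Set.range (f ∘ ch.rows)) ⊔
        Ideal.span {(C (π ^ 2) : MvPolynomial (Fin n) R)}).map
        (rename Sum.inl : MvPolynomial (Fin n) R →ₐ[R] MvPolynomial (Fin n ⊕ Fin m) R) ≤ 𝔟 := by
      rw [Ideal.map_sup, Ideal.map_span, Ideal.map_span]
      refine sup_le (Ideal.span_le.mpr ?_) (Ideal.span_le.mpr ?_)
      · rintro _ ⟨_, ⟨j, rfl⟩, rfl⟩
        have : (rename Sum.inl (f (ch.rows j)) : MvPolynomial (Fin n ⊕ Fin m) R) =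
            xf f π (ch.rows j) + C π * X (Sum.inr (ch.rows j)) := by
          unfold xf
          ring
        show (rename Sum.inl (f (ch.rows j)) : MvPolynomial (Fin n ⊕ Fin m) R) ∈ 𝔟
        rw [this]
        exact Ideal.add_mem _ (Ideal.mem_sup_right (Ideal.subset_span ⟨Sum.inl j, rfl⟩))
          (Ideal.mul_mem_right _ _ hCπ)
      · rintro _ ⟨_, rfl, rfl⟩
        show (rename Sum.inl (C (π ^ 2)) : MvPolynomial (Fin n ⊕ Fin m) R) ∈ 𝔟
        rw [rename_C, pow_two, map_mul]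
        exact Ideal.mul_mem_left _ _ hCπ
    exact hle (Ideal.mem_map_of_mem _ hmm)
  have h5 : rename Sum.inl (minor f ch.rows ch.cols) * (rename Sum.inl ch.a * pp ch' ℓ) =
      rename Sum.inl (minor f ch.rows ch.cols) * (rename Sum.inl ch.a * pp ch' ℓ -
        ∑ j, rename Sum.inl (WW ch ch' ℓ j) * X (Sum.inr (ch.rows j))) +
      ∑ j, rename Sum.inl (minor f ch.rows ch.cols * WW ch ch' ℓ j) * X (Sum.inr (ch.rows j)) := by
    simp only [map_mul, mul_sub, Finset.mul_sum]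
    rw [sub_add_eq_add_sub, eq_sub_iff_add_eq]
    congr 1
    exact Finset.sum_congr rfl fun j _ => by ring
  rw [h5]
  exact Ideal.add_mem _ (Ideal.mul_mem_left _ _ h3)
    (Ideal.sum_mem _ fun j _ => Ideal.mul_mem_right _ _ (h4 j))

end Groth.Agent.Lib.Seat14.LiftLem
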