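import Mathlib
import Groth.Prelude.Def_Smoothing
import Groth.Agent.Lib.Seat14DimZeroA
import Groth.Agent.Lib.Seat14LiftLemA
import Groth.Agent.Lib.Seat14LiftLemB
import Groth.Agent.Lib.Seat14LiftLemC

/-!
# The lifting lemma (Stacks 16.5.1), part D: killing the other charts by flatness (seat 14)
-/

set_option autoImplicit false
set_option linter.style.haveILetI false
set_option linter.unusedSectionVars false
universe u

namespace Groth.Agent.Lib.Seat14.LiftLem

open MvPolynomial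
open Groth.Agent.Lib.Seat14.DimZero

theorem smul_eq_zero_of_flat' {R M : Type*} [CommRing R] [AddCommGroup M] [Module R M]
    [Module.Flat R M] (π : R) (hR : ∀ r : R, π ^ 2 * r = 0 → π * r = 0) (y : M)
    (hy : π ^ 2 • y = 0) : π • y = 0 := by
  have h : ∑ i : Fin 1, (fun _ => π ^ 2 : Fin 1 → R) i • (fun _ => y : Fin 1 → M) i = 0 := by
    simpa using hy
  obtain ⟨k, a, z, hz, ha⟩ := Module.Flat.isTrivialRelation_of_sum_smul_eq_zero h
  have h0 := hz 0
  simp only at h0
  rw [h0, Finset.smul_sum]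
  refine Finset.sum_eq_zero fun j _ => ?_
  rw [smul_smul, hR (a 0 j) (by simpa using ha j), zero_smul]

theorem exists_pow_mul_eq_zero {R B : Type*} [CommRing R] [CommRing B] [Algebra R B] (g : B)
    [Module.Flat R (Localization.Away g)] (π : R) (hR : ∀ r : R, π ^ 2 * r = 0 → π * r = 0)
    (y : B) (hy : (algebraMap R B π) ^ 2 * y = 0) :
    ∃ N : ℕ, g ^ N * (algebraMap R B π * y) = 0 := by
  have h1 : π ^ 2 • algebraMap B (Localization.Away g) y = 0 := by
    rw [Algebra.smul_def, IsScalarTower.algebraMap_apply R B (Localization.Away g), ← map_mul,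
      map_pow, hy, map_zero]
  have h2 := smul_eq_zero_of_flat' π hR _ h1
  have h3 : algebraMap B (Localization.Away g) (algebraMap R B π * y) = 0 := by
    rw [map_mul, ← IsScalarTower.algebraMap_apply, ← Algebra.smul_def]
    exact h2
  obtain ⟨⟨_, k, rfl⟩, hk⟩ := (IsLocalization.map_eq_zero_iff (Submonoid.powers g) _ _).mp h3
  exact ⟨k, hk⟩

variable {R : Type u} [CommRing R] {n m : ℕ} {f : Fin m → MvPolynomial (Fin n) R} {π : R}

theorem a_mul_mem_of_mem_span_xf (ch : Chart f π) (x : MvPolynomial (Fin n ⊕ Fin m) R)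
    (hx : x ∈ Ideal.span (Set.range (xf f π))) :
    rename Sum.inl ch.a * x ∈ Ideal.span (Set.range (relK ch)) := by
  induction hx using Submodule.span_induction with
  | mem x hx =>
    obtain ⟨ℓ, rfl⟩ := hx
    exact a_mul_xf_mem ch ℓ
  | zero => rw [mul_zero]; exact Ideal.zero_mem _
  | add x y _ _ hx hy => rw [mul_add]; exact Ideal.add_mem _ hx hy
  | smul c x _ hx =>
    rw [smul_eq_mul, mul_left_comm]
    exact Ideal.mul_mem_left _ _ hx

theorem relK_le_relD {r : ℕ} (ch : Fin r → Chart f π) (k : Fin r) :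
    Ideal.span (Set.range (relK (ch k))) ≤ Ideal.span (Set.range (relD ch)) := by
  rw [Ideal.span_le]
  rintro _ ⟨(j | ℓ), rfl⟩
  · exact Ideal.subset_span ⟨Sum.inl ((ch k).rows j), rfl⟩
  · exact Ideal.subset_span ⟨Sum.inr (k, ℓ), rfl⟩

theorem exists_kill [IsNoetherianRing R] (hR : ∀ r : R, π ^ 2 * r = 0 → π * r = 0) {r : ℕ}
    (ch : Fin r → Chart f π) {D : Type u} [CommRing D] [Algebra R D]
    (πD : MvPolynomial (Fin n ⊕ Fin m) R →ₐ[R] D)
    (hker : RingHom.ker πD.toRingHom = Ideal.span (Set.range (relD ch))) (k : Fin r)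
    (𝔮 : Ideal D) [𝔮.IsPrime] (ha : πD (rename Sum.inl (ch k).a) ∉ 𝔮) :
    ∃ s : MvPolynomial (Fin n ⊕ Fin m) R, πD s ∉ 𝔮 ∧
      ∀ k' ℓ, s * pp (ch k') ℓ ∈ Ideal.span (Set.range (relK (ch k))) := by
  classical
  obtain ⟨J, hJ⟩ : ∃ J : Ideal (MvPolynomial (Fin n ⊕ Fin m) R),
      J = Ideal.span (Set.range (relK (ch k))) := ⟨_, rfl⟩
  have hJle : ∀ x ∈ J, πD x = 0 := by
    intro x hx
    have : x ∈ RingHom.ker πD.toRingHom := by
      rw [hker]
      rw [hJ] at hx
      exact relK_le_relD ch k hx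
    exact this
  have hfp : Algebra.FinitePresentation R (MvPolynomial (Fin n ⊕ Fin m) R ⧸ J) := by
    rw [hJ]
    exact Algebra.FinitePresentation.quotient (Submodule.fg_span (Set.finite_range _))
  obtain ⟨mkB, hmkB⟩ : ∃ mkB : MvPolynomial (Fin n ⊕ Fin m) R →ₐ[R]
      MvPolynomial (Fin n ⊕ Fin m) R ⧸ J, mkB = Ideal.Quotient.mkₐ R J := ⟨_, rfl⟩
  have hmk_surj : Function.Surjective mkB := by
    rw [hmkB]
    exact Ideal.Quotient.mkₐ_surjective R J
  have hmk_ker : RingHom.ker mkB.toRingHom = Ideal.span (Set.range (relK (ch k))) := by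
    rw [hmkB, ← hJ]
    ext x
    simp
  have hmk_zero : ∀ x, mkB x = 0 ↔ x ∈ J := by
    intro x
    rw [hmkB]
    exact Ideal.Quotient.eq_zero_iff_mem
  obtain ⟨θ, hθ⟩ : ∃ θ : (MvPolynomial (Fin n ⊕ Fin m) R ⧸ J) →ₐ[R] D,
      ∀ x, θ (mkB x) = πD x := by
    refine ⟨Ideal.Quotient.liftₐ J πD hJle, fun x => ?_⟩
    rw [hmkB]
    rfl
  have hC : ∀ x : R, mkB (C x) = algebraMap R _ x := fun x => by
    rw [← algebraMap_eq, AlgHom.commutes]
  have ha' : mkB (rename Sum.inl (ch k).a) ∉ 𝔮.comap θ := by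
    rw [Ideal.mem_comap, hθ]
    exact ha
  haveI hsm : Algebra.IsSmoothAt R (𝔮.comap θ) :=
    isSmoothAt_chart mkB hmk_surj (ch k) hmk_ker (𝔮.comap θ) ha'
  obtain ⟨g, hg, hsmg⟩ := Algebra.IsSmoothAt.exists_notMem_smooth R (𝔮.comap θ)
  haveI hflat : Module.Flat R (Localization.Away g) := inferInstance
  obtain ⟨g', rfl⟩ := hmk_surj g
  -- the exponents
  have hN : ∀ (k' : Fin r) (ℓ : Fin m), ∃ N : ℕ,
      g' ^ N * (rename Sum.inl (ch k).a * (rename Sum.inl (minor f (ch k).rows (ch k).cols) *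
        (rename Sum.inl (ch k).a * pp (ch k') ℓ))) ∈ J := by
    intro k' ℓ
    have hc := cross_mem (ch k) (ch k') ℓ
    rw [← hJ] at hc
    obtain ⟨u, hu, v, hv, huv⟩ := Submodule.mem_sup.mp hc
    obtain ⟨w, rfl⟩ := Ideal.mem_span_singleton'.mp hu
    have h1 : mkB (rename Sum.inl (minor f (ch k).rows (ch k).cols) *
        (rename Sum.inl (ch k).a * pp (ch k') ℓ)) = algebraMap R _ π * mkB w := by
      rw [← huv, map_add, map_mul, hC, (hmk_zero v).mpr hv, add_zero, mul_comm]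
    have h2 : mkB (rename Sum.inl (ch k).a * (C π * pp (ch k') ℓ)) = 0 := by
      rw [hmk_zero, hJ]
      exact a_mul_mem_of_mem_span_xf (ch k) _ (C_mul_pp_mem (ch k') ℓ)
    have h3 : (algebraMap R (MvPolynomial (Fin n ⊕ Fin m) R ⧸ J) π) ^ 2 *
        (mkB (rename Sum.inl (ch k).a) * mkB w) = 0 := by
      have : (algebraMap R (MvPolynomial (Fin n ⊕ Fin m) R ⧸ J) π) ^ 2 *
          (mkB (rename Sum.inl (ch k).a) * mkB w) =
          mkB (rename Sum.inl (minor f (ch k).rows (ch k).cols)) *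
            (mkB (rename Sum.inl (ch k).a) *
              mkB (rename Sum.inl (ch k).a * (C π * pp (ch k') ℓ))) := by
        have h1' := h1
        rw [map_mul, map_mul] at h1'
        rw [map_mul, map_mul, hC]
        linear_combination (algebraMap R (MvPolynomial (Fin n ⊕ Fin m) R ⧸ J) π *
          mkB (rename Sum.inl (ch k).a)) * (-h1')
      rw [this, h2, mul_zero, mul_zero]
    obtain ⟨N, hN⟩ := exists_pow_mul_eq_zero (mkB g') π hR _ h3
    refine ⟨N, ?_⟩
    rw [← hmk_zero, map_mul, map_pow, map_mul, h1]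
    linear_combination hN
  choose N hN using hN
  obtain ⟨N₀, hN₀⟩ : ∃ N₀ : ℕ, ∀ k' ℓ, N k' ℓ ≤ N₀ :=
    ⟨Finset.univ.sup fun kl : Fin r × Fin m => N kl.1 kl.2,
      fun k' ℓ => Finset.le_sup (f := fun kl : Fin r × Fin m => N kl.1 kl.2)
        (Finset.mem_univ (k', ℓ))⟩
  refine ⟨g' ^ N₀ * (rename Sum.inl (ch k).a *
    (rename Sum.inl (minor f (ch k).rows (ch k).cols) * rename Sum.inl (ch k).a)), ?_, ?_⟩
  · have hgD : πD g' ∉ 𝔮 := by
      intro h
      apply hg
      rw [Ideal.mem_comap, hθ]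
      exact h
    have hΔ : πD (rename Sum.inl (minor f (ch k).rows (ch k).cols)) ∉ 𝔮 := by
      intro h
      apply ha
      rw [(ch k).ha, map_mul, map_mul]
      exact Ideal.mul_mem_left _ _ h
    rw [map_mul, map_pow, map_mul, map_mul]
    intro h
    rcases Ideal.IsPrime.mem_or_mem inferInstance h with h | h
    · exact hgD (Ideal.IsPrime.mem_of_pow_mem inferInstance _ h)
    · rcases Ideal.IsPrime.mem_or_mem inferInstance h with h | h
      · exact ha h
      · rcases Ideal.IsPrime.mem_or_mem inferInstance h with h | h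
        · exact hΔ h
        · exact ha h
  · intro k' ℓ
    obtain ⟨e, he⟩ := Nat.exists_eq_add_of_le (hN₀ k' ℓ)
    have := Ideal.mul_mem_left J (g' ^ e) (hN k' ℓ)
    rw [hJ] at this
    convert this using 1
    rw [he, pow_add]
    ring

end Groth.Agent.Lib.Seat14.LiftLem
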