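import Mathlib
import Groth.Prelude.Def_Smoothing
import Groth.Agent.Lib.Seat14DimZeroA
import Groth.Agent.Lib.Seat14LiftLemA

/-!
# The lifting lemma (Stacks 16.5.1), part E: existence of charts (seat 14)
-/

set_option autoImplicit false
set_option linter.style.haveILetI false
set_option linter.unusedSectionVars false
universe u

namespace Groth.Agent.Lib.Seat14.LiftLem

open MvPolynomial
open Groth.Agent.Lib.Seat14.DimZero

/-- Determinant trick: if `a f_ℓ ∈ K + I²` for all generators `f_ℓ` of `I`, then some `a^m + b`,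
`b ∈ I`, multiplies all `f_ℓ` into `K`. -/
theorem det_trick {A : Type*} [CommRing A] {m : ℕ} (f : Fin m → A) (K : Ideal A) (a : A)
    (h : ∀ ℓ, a * f ℓ ∈ K ⊔ Ideal.span (Set.range f) ^ 2) :
    ∃ b ∈ Ideal.span (Set.range f), ∀ ℓ, (a ^ m + b) * f ℓ ∈ K := by
  classical
  set I : Ideal A := Ideal.span (Set.range f) with hI
  have hexp : ∀ ℓ : Fin m, ∃ (e : A) (Mrow : Fin m → A), e ∈ K ∧ (∀ j, Mrow j ∈ I) ∧
      a * f ℓ = e + ∑ j, Mrow j * f j := by
    intro ℓ
    obtain ⟨e, he, z, hz, hsum⟩ := Submodule.mem_sup.mp (h ℓ)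
    rw [pow_two] at hz
    have hz' : z ∈ I • Submodule.span A (Set.range f) := hz
    obtain ⟨c, hc, hsum'⟩ := (Submodule.mem_ideal_smul_span_iff_exists_sum I f z).mp hz'
    refine ⟨e, fun i => c i, he, hc, ?_⟩
    rw [← hsum, ← hsum', Finsupp.sum_fintype _ _ (fun i => by rw [zero_smul])]
    rfl
  choose e Mz he hMz hsum using hexp
  set T : Matrix (Fin m) (Fin m) A := a • (1 : Matrix (Fin m) (Fin m) A) - Matrix.of Mz with hT
  have hTZ : T.mulVec f = e := by
    funext j
    rw [hT, Matrix.sub_mulVec, Matrix.smul_mulVec, Matrix.one_mulVec]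
    simp only [Pi.sub_apply, Pi.smul_apply, smul_eq_mul, Matrix.mulVec, dotProduct, Matrix.of_apply]
    rw [hsum j]
    ring
  have hdet : T.det • f = T.adjugate.mulVec e := by
    rw [← hTZ, Matrix.mulVec_mulVec, Matrix.adjugate_mul, Matrix.smul_mulVec, Matrix.one_mulVec]
  have hdetmod : T.det - a ^ m ∈ I := by
    rw [← Ideal.Quotient.eq, RingHom.map_det]
    have : (Ideal.Quotient.mk I).mapMatrix T =
        (Ideal.Quotient.mk I a) • (1 : Matrix (Fin m) (Fin m) (A ⧸ I)) := by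
      ext i j
      simp only [hT, RingHom.mapMatrix_apply, Matrix.map_apply, Matrix.sub_apply, Matrix.smul_apply,
        Matrix.of_apply, map_sub, smul_eq_mul, map_mul, Matrix.one_apply]
      rw [Ideal.Quotient.eq_zero_iff_mem.mpr (hMz i j), sub_zero]
      split_ifs <;> simp
    rw [this, Matrix.det_smul, Matrix.det_one, mul_one, Fintype.card_fin, map_pow]
  refine ⟨T.det - a ^ m, hdetmod, fun ℓ => ?_⟩
  have := congrFun hdet ℓ
  rw [Pi.smul_apply, smul_eq_mul] at this
  rw [add_sub_cancel, this]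
  simp only [Matrix.mulVec, dotProduct]
  exact Ideal.sum_mem _ fun j _ => K.mul_mem_left _ (he j)

theorem map_minor {R S : Type*} [CommRing R] [CommRing S] (g : R →+* S) {n m c : ℕ}
    (f : Fin m → MvPolynomial (Fin n) R) (rows : Fin c → Fin m) (cols : Fin c → Fin n) :
    MvPolynomial.map g (minor f rows cols) =
      minor (fun j => MvPolynomial.map g (f j)) rows cols := by
  unfold minor
  rw [RingHom.map_det]
  congr 1
  refine Matrix.ext fun j k => ?_
  simp only [RingHom.mapMatrix_apply, Matrix.map_apply, Matrix.of_apply]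
  rw [pderiv_map]

theorem minor_eq_zero_of_not_injective {R : Type*} [CommRing R] {n m c : ℕ}
    (f : Fin m → MvPolynomial (Fin n) R) (rows : Fin c → Fin m) (cols : Fin c → Fin n)
    (h : ¬ Function.Injective rows) : minor f rows cols = 0 := by
  unfold minor
  rw [Function.Injective] at h
  push Not at h
  obtain ⟨j₁, j₂, h12, hne⟩ := h
  refine Matrix.det_zero_of_row_eq hne ?_
  funext k
  simp only [Matrix.of_apply, h12]

section Exists

variable {R : Type u} [CommRing R] (π : R) {Cb : Type u} [CommRing Cb]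
  [Algebra (R ⧸ Ideal.span {π ^ 2}) Cb]
  {n m : ℕ} (f : Fin m → MvPolynomial (Fin n) R)
  (φb : MvPolynomial (Fin n) (R ⧸ Ideal.span {π ^ 2}) →ₐ[R ⧸ Ideal.span {π ^ 2}] Cb)
  (hφb : Function.Surjective φb)
  (hker : RingHom.ker φb.toRingHom = Ideal.span (Set.range fun j =>
    MvPolynomial.map (Ideal.Quotient.mk (Ideal.span {π ^ 2})) (f j)))

theorem ker_map_mk :
    RingHom.ker (MvPolynomial.map (Ideal.Quotient.mk (Ideal.span {π ^ 2})) :
      MvPolynomial (Fin n) R →+* MvPolynomial (Fin n) (R ⧸ Ideal.span {π ^ 2})) =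
      Ideal.span {(C (π ^ 2) : MvPolynomial (Fin n) R)} := by
  rw [MvPolynomial.ker_map, Ideal.mk_ker, Ideal.map_span, Set.image_singleton]

include hφb hker in
theorem exists_chart (𝔭 : Ideal Cb) [𝔭.IsPrime]
    (hsm : Algebra.IsSmoothAt (R ⧸ Ideal.span {π ^ 2}) 𝔭) :
    ∃ ch : Chart f π,
      φb (MvPolynomial.map (Ideal.Quotient.mk (Ideal.span {π ^ 2})) ch.a) ∉ 𝔭 := by
  classical
  set mk2 := Ideal.Quotient.mk (Ideal.span {π ^ 2}) with hmk2
  set fb : Fin m → MvPolynomial (Fin n) (R ⧸ Ideal.span {π ^ 2}) :=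
    fun j => MvPolynomial.map mk2 (f j) with hfb
  haveI := hsm
  obtain ⟨ab, hab, c, rows, cols, a'C, habeq, hlead⟩ :=
    exists_standard_element' fb φb hφb hker 𝔭
  have hmapsurj : Function.Surjective (MvPolynomial.map mk2 :
      MvPolynomial (Fin n) R → MvPolynomial (Fin n) (R ⧸ Ideal.span {π ^ 2})) :=
    MvPolynomial.map_surjective _ Ideal.Quotient.mk_surjective
  obtain ⟨a'₀, ha'₀⟩ := hφb a'C
  obtain ⟨a't, ha't⟩ := hmapsurj a'₀
  have hΔ : MvPolynomial.map mk2 (minor f rows cols) = minor fb rows cols :=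
    map_minor mk2 f rows cols
  obtain ⟨a₁, ha₁def⟩ : ∃ a₁, a₁ = a't * minor f rows cols := ⟨_, rfl⟩
  have ha₁ : φb (MvPolynomial.map mk2 a₁) = ab := by
    rw [ha₁def, map_mul, map_mul, ha't, ha'₀, hΔ, habeq]
  -- injectivity of the rows
  have hinj : Function.Injective rows := by
    by_contra hinj
    apply hab
    rw [habeq, minor_eq_zero_of_not_injective fb rows cols hinj, map_zero, mul_zero]
    exact Ideal.zero_mem _
  -- membership modulo the square
  have hmem : ∀ ℓ, a₁ * f ℓ ∈ (Ideal.span (Set.range (f ∘ rows)) ⊔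
      Ideal.span {(C (π ^ 2) : MvPolynomial (Fin n) R)}) ⊔ Ideal.span (Set.range f) ^ 2 := by
    intro ℓ
    have h1 := hlead (MvPolynomial.map mk2 a₁) ha₁ ℓ
    have h2 : lead fb rows = Ideal.map (MvPolynomial.map mk2) (lead f rows) := by
      unfold lead
      rw [Ideal.map_sup, Ideal.map_pow, Ideal.map_span, Ideal.map_span, ← Set.range_comp,
        ← Set.range_comp]
      rfl
    have h1' : MvPolynomial.map mk2 (a₁ * f ℓ) ∈
        Ideal.map (MvPolynomial.map mk2) (lead f rows) := by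
      rw [map_mul, ← h2]
      exact h1
    have h3 : a₁ * f ℓ ∈ Ideal.comap (MvPolynomial.map mk2)
        (Ideal.map (MvPolynomial.map mk2) (lead f rows)) := Ideal.mem_comap.mpr h1'
    rw [Ideal.comap_map_of_surjective _ hmapsurj, ← RingHom.ker_eq_comap_bot, ker_map_mk] at h3
    unfold lead at h3
    rw [sup_right_comm]
    exact h3
  obtain ⟨b, hb, hdet⟩ := det_trick f _ a₁ hmem
  obtain ⟨a, hadef⟩ : ∃ a, a = (a₁ ^ m + b) * a₁ := ⟨_, rfl⟩
  have hbzero : φb (MvPolynomial.map mk2 b) = 0 := by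
    have : MvPolynomial.map mk2 b ∈ RingHom.ker φb.toRingHom := by
      rw [hker]
      have h1 := Ideal.mem_map_of_mem (MvPolynomial.map mk2) hb
      rw [Ideal.map_span, ← Set.range_comp] at h1
      exact h1
    exact this
  have haK : ∀ ℓ, a * f ℓ ∈ Ideal.span (Set.range (f ∘ rows)) ⊔
      Ideal.span {(C (π ^ 2) : MvPolynomial (Fin n) R)} := by
    intro ℓ
    have : a * f ℓ = a₁ * ((a₁ ^ m + b) * f ℓ) := by rw [hadef]; ring
    rw [this]
    exact Ideal.mul_mem_left _ _ (hdet ℓ)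
  have key : ∀ ℓ, ∃ (Hl : Fin c → MvPolynomial (Fin n) R) (Gl : MvPolynomial (Fin n) R),
      a * f ℓ = ∑ j, Hl j * f (rows j) + C (π ^ 2) * Gl ∧
      ∀ j₀, rows j₀ = ℓ → (∀ j, Hl j = if j₀ = j then a else 0) ∧ Gl = 0 := by
    intro ℓ
    by_cases hℓ : ∃ j₀, rows j₀ = ℓ
    · obtain ⟨j₀, rfl⟩ := hℓ
      refine ⟨fun j => if j₀ = j then a else 0, 0, ?_, ?_⟩
      · simp [ite_mul, Finset.sum_ite_eq]
      · intro j₁ hj₁
        have := hinj hj₁
        subst this
        exact ⟨fun j => rfl, rfl⟩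
    · obtain ⟨u, hu, v, hv, huv⟩ := Submodule.mem_sup.mp (haK ℓ)
      obtain ⟨Hl, hHl⟩ := (Ideal.mem_span_range_iff_exists_fun).mp hu
      obtain ⟨Gl, hGl⟩ := Ideal.mem_span_singleton'.mp hv
      refine ⟨Hl, Gl, ?_, fun j₀ hj₀ => absurd ⟨j₀, hj₀⟩ hℓ⟩
      rw [← huv, ← hHl, ← hGl, mul_comm Gl]
      rfl
  choose H G hHG hrows using key
  refine ⟨{ c := c, rows := rows, cols := cols, inj := hinj, a := a,
            a' := (a₁ ^ m + b) * a't,
            ha := by rw [hadef, ha₁def]; ring,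
            H := H, G := G, eq := hHG,
            H_rows := fun j₀ j => (hrows (rows j₀) j₀ rfl).1 j,
            G_rows := fun j₀ => (hrows (rows j₀) j₀ rfl).2 }, ?_⟩
  show φb (MvPolynomial.map mk2 a) ∉ 𝔭
  rw [hadef, map_mul, map_mul, map_add, map_add, hbzero, add_zero, map_pow, map_pow, ha₁,
    ← pow_succ]
  intro h
  exact hab (Ideal.IsPrime.mem_of_pow_mem inferInstance _ h)

end Exists

end Groth.Agent.Lib.Seat14.LiftLem
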