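import Mathlib
import Groth.Prelude.Def_Smoothing
import Groth.Agent.Lib.Seat14DimZeroA
import Groth.Agent.Lib.Seat14LiftLemA
import Groth.Agent.Lib.Seat14LiftLemB
import Groth.Agent.Lib.Seat14LiftLemC
import Groth.Agent.Lib.Seat14LiftLemD
import Groth.Agent.Lib.Seat14LiftLemE

/-!
# The lifting lemma (Stacks 16.5.1), part F: assembly (seat 14)

* `exists_presentation`: `C = R[x]/(f, π²)` with finitely many charts covering the smooth locus of `C`
  over `R/π²` (Noetherianity of `R[x]` replaces quasi-compactness).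
* `ptD`, `aeval_ptD_xf`, `aeval_ptD_pp`: the point of `Λ` defining `δ : D → Λ`.
* `lifting_lemma`: Stacks 16.5.1 (a), (b), (c).
-/

set_option autoImplicit false
set_option linter.style.haveILetI false
set_option linter.unusedSectionVars false
universe u

namespace Groth.Agent.Lib.Seat14.LiftLem

open MvPolynomial
open Groth.Agent.Lib.Seat14.DimZero

section Pres

variable {R : Type u} [CommRing R] (π : R) {Cb : Type u} [CommRing Cb] [Algebra R Cb]
  [Algebra (R ⧸ Ideal.span {π ^ 2}) Cb] [IsScalarTower R (R ⧸ Ideal.span {π ^ 2}) Cb]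

/-- A presentation `Cb = R[x]/(f, π²)` with a finite family of charts covering the smooth locus. -/
theorem exists_presentation [IsNoetherianRing R]
    [Algebra.FinitePresentation (R ⧸ Ideal.span {π ^ 2}) Cb] :
    ∃ (n m : ℕ) (f : Fin m → MvPolynomial (Fin n) R) (φ : MvPolynomial (Fin n) R →ₐ[R] Cb),
      Function.Surjective φ ∧
      (∀ p, φ p = 0 ↔ p ∈ Ideal.span (Set.range f) ⊔
        Ideal.span {(C (π ^ 2) : MvPolynomial (Fin n) R)}) ∧
      ∃ (r : ℕ) (ch : Fin r → Chart f π), ∀ (𝔭 : Ideal Cb) [𝔭.IsPrime],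
        Algebra.IsSmoothAt (R ⧸ Ideal.span {π ^ 2}) 𝔭 → ∃ k, φ (ch k).a ∉ 𝔭 := by
  classical
  obtain ⟨n, φb, hφb, hfg⟩ :=
    Algebra.FinitePresentation.out (R := R ⧸ Ideal.span {π ^ 2}) (A := Cb)
  obtain ⟨m, fb, hfb⟩ := Submodule.fg_iff_exists_fin_generating_family.mp hfg
  set mk2 := Ideal.Quotient.mk (Ideal.span {π ^ 2}) with hmk2
  have hmapsurj : Function.Surjective (MvPolynomial.map mk2 :
      MvPolynomial (Fin n) R → MvPolynomial (Fin n) (R ⧸ Ideal.span {π ^ 2})) :=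
    MvPolynomial.map_surjective _ Ideal.Quotient.mk_surjective
  choose f hf using fun j => hmapsurj (fb j)
  have hker : RingHom.ker φb.toRingHom = Ideal.span (Set.range fun j =>
      MvPolynomial.map mk2 (f j)) := by
    rw [← hfb]
    congr 2
    funext j
    exact (hf j).symm
  -- the map `φ`
  obtain ⟨φ, hφdef⟩ : ∃ φ : MvPolynomial (Fin n) R →ₐ[R] Cb, φ = aeval (fun i => φb (X i)) :=
    ⟨_, rfl⟩
  have hφ : ∀ p, φ p = φb (MvPolynomial.map mk2 p) := by
    intro p
    rw [hφdef]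
    induction p using MvPolynomial.induction_on with
    | C a =>
      rw [aeval_C, map_C, ← algebraMap_eq, AlgHom.commutes]
      exact IsScalarTower.algebraMap_apply R (R ⧸ Ideal.span {π ^ 2}) Cb a
    | add p q hp hq => rw [map_add, hp, hq, map_add, map_add]
    | mul_X p i hp => rw [map_mul, hp, aeval_X, map_mul, map_X, map_mul]
  have hφsurj : Function.Surjective φ := by
    intro y
    obtain ⟨q, rfl⟩ := hφb y
    obtain ⟨p, rfl⟩ := hmapsurj q
    exact ⟨p, hφ p⟩
  have hφker : ∀ p, φ p = 0 ↔ p ∈ Ideal.span (Set.range f) ⊔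
      Ideal.span {(C (π ^ 2) : MvPolynomial (Fin n) R)} := by
    intro p
    rw [hφ]
    have h1 : φb (MvPolynomial.map mk2 p) = 0 ↔
        MvPolynomial.map mk2 p ∈ RingHom.ker φb.toRingHom := Iff.rfl
    have h2 : Ideal.span (Set.range fun j => MvPolynomial.map mk2 (f j)) =
        Ideal.map (MvPolynomial.map mk2) (Ideal.span (Set.range f)) := by
      rw [Ideal.map_span, ← Set.range_comp]
      rfl
    rw [h1, hker, h2, ← Ideal.mem_comap, Ideal.comap_map_of_surjective _ hmapsurj,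
      ← RingHom.ker_eq_comap_bot, ker_map_mk]
  refine ⟨n, m, f, φ, hφsurj, hφker, ?_⟩
  -- finitely many charts
  have hfgA : (Ideal.span (Set.range (Chart.a : Chart f π → MvPolynomial (Fin n) R))).FG :=
    IsNoetherian.noetherian _
  obtain ⟨S', hS'sub, hS'span⟩ := (Submodule.fg_span_iff_fg_span_finset_subset _).mp hfgA
  have hS'ch : ∀ i : Fin S'.card, ∃ ch : Chart f π, ch.a = (S'.equivFin.symm i).1 := by
    intro i
    obtain ⟨ch, hch⟩ := hS'sub (S'.equivFin.symm i).2
    exact ⟨ch, hch⟩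
  choose ch hch using hS'ch
  refine ⟨S'.card, ch, ?_⟩
  intro 𝔭 _ hsm
  obtain ⟨ch₀, hch₀⟩ := exists_chart π f φb hφb hker 𝔭 hsm
  rw [← hφ] at hch₀
  by_contra hall
  push Not at hall
  apply hch₀
  have hle : Ideal.span (S' : Set (MvPolynomial (Fin n) R)) ≤ Ideal.comap φ 𝔭 := by
    rw [Ideal.span_le]
    intro x hx
    have h1 := hall (S'.equivFin ⟨x, hx⟩)
    rw [hch, Equiv.symm_apply_apply] at h1
    exact h1
  have h2 : ch₀.a ∈ Ideal.span (Set.range (Chart.a : Chart f π → MvPolynomial (Fin n) R)) :=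
    Ideal.subset_span ⟨ch₀, rfl⟩
  have h3 : ch₀.a ∈ Ideal.span (S' : Set (MvPolynomial (Fin n) R)) := by
    have := hS'span
    change Ideal.span _ = Ideal.span _ at this
    rw [← this]
    exact h2
  exact hle h3

end Pres


section Point

variable {R : Type u} [CommRing R] {Λ : Type u} [CommRing Λ] [Algebra R Λ] {n m : ℕ}
  {f : Fin m → MvPolynomial (Fin n) R} {π : R}
  (lam : Fin n → Λ) (μ : Fin m → Λ)

/-- The point of `Λ` defining `δ`: `x_i ↦ λ_i`, `z_j ↦ π μ_j`. -/
noncomputable def ptD : Fin n ⊕ Fin m → Λ :=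
  Sum.elim lam (fun j => algebraMap R Λ π * μ j)

theorem aeval_ptD_rename (p : MvPolynomial (Fin n) R) :
    aeval (ptD (R := R) (π := π) lam μ) (rename Sum.inl p) = aeval lam p := by
  rw [aeval_rename]
  rfl

variable (hμ : ∀ j, aeval lam (f j) = algebraMap R Λ (π ^ 2) * μ j)

include hμ in
theorem aeval_ptD_xf (j : Fin m) : aeval (ptD (R := R) (π := π) lam μ) (xf f π j) = 0 := by
  unfold xf
  rw [map_sub, aeval_ptD_rename, map_mul, aeval_C, aeval_X, hμ, map_pow]
  show _ - _ * (algebraMap R Λ π * μ j) = 0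
  ring

include hμ in
theorem aeval_ptD_pp (hΛ : ∀ x : Λ, π ^ 2 • x = 0 → π • x = 0) (ch : Chart f π) (ℓ : Fin m) :
    aeval (ptD (R := R) (π := π) lam μ) (pp ch ℓ) = 0 := by
  set T : Λ := aeval lam ch.a * μ ℓ - ∑ j, aeval lam (ch.H ℓ j) * μ (ch.rows j) -
    aeval lam (ch.G ℓ) with hT
  have h1 : aeval (ptD (R := R) (π := π) lam μ) (pp ch ℓ) = algebraMap R Λ π * T := by
    unfold pp
    rw [map_sub, map_sub, map_mul, map_sum, map_mul, aeval_C, aeval_X, aeval_ptD_rename,
      aeval_ptD_rename, hT, mul_sub, mul_sub, Finset.mul_sum]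
    congr 2
    · show _ * (algebraMap R Λ π * μ ℓ) = _
      ring
    · refine Finset.sum_congr rfl fun j _ => ?_
      rw [map_mul, aeval_X, aeval_ptD_rename]
      show _ * (algebraMap R Λ π * μ (ch.rows j)) = _
      ring
  have h2 : π ^ 2 • T = 0 := by
    have h3 := congrArg (aeval lam) (ch.eq ℓ)
    rw [map_mul, map_add, map_sum, map_mul, aeval_C, hμ] at h3
    have h4 : ∀ j, aeval lam (ch.H ℓ j * f (ch.rows j)) =
        algebraMap R Λ (π ^ 2) * (aeval lam (ch.H ℓ j) * μ (ch.rows j)) := by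
      intro j
      rw [map_mul, hμ]
      ring
    rw [Finset.sum_congr rfl fun j _ => h4 j, ← Finset.mul_sum] at h3
    rw [Algebra.smul_def, hT, mul_sub, mul_sub]
    linear_combination h3
  have h5 := hΛ T h2
  rw [h1, ← Algebra.smul_def]
  exact h5

end Point


section Main

/-- Descending a map along a surjection, into a quotient by a principal ideal. -/
theorem exists_psi {R A B D : Type*} [CommRing R] [CommRing A] [CommRing B] [CommRing D]
    [Algebra R A] [Algebra R B] [Algebra R D] (φ : A →ₐ[R] B) (hφ : Function.Surjective φ)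
    (θ : A →ₐ[R] D) (x : D) (H : ∀ p, φ p = 0 → θ p ∈ Ideal.span {x}) :
    ∃ ψ : B →ₐ[R] D ⧸ Ideal.span {x}, ∀ p, ψ (φ p) = Ideal.Quotient.mk (Ideal.span {x}) (θ p) := by
  have H' : RingHom.ker φ.toRingHom ≤
      RingHom.ker ((Ideal.Quotient.mkₐ R (Ideal.span {x})).comp θ).toRingHom := by
    intro p hp
    exact Ideal.Quotient.eq_zero_iff_mem.mpr (H p hp)
  exact ⟨AlgHom.liftOfSurjective φ hφ _ H', fun p => AlgHom.liftOfSurjective_apply φ hφ _ H' p⟩

/-- The lifting lemma for a given presentation of `D`. -/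
theorem lifting_lemma_aux {R Λ Cb D : Type u} [CommRing R] [IsNoetherianRing R] [CommRing Λ]
    [Algebra R Λ] (π : R) (hR : ∀ r : R, π ^ 2 * r = 0 → π * r = 0)
    (hΛ : ∀ x : Λ, π ^ 2 • x = 0 → π • x = 0) [CommRing Cb] [Algebra R Cb]
    [Algebra (R ⧸ Ideal.span {π ^ 2}) Cb]
    (g : Cb →ₐ[R] Λ ⧸ Ideal.span {algebraMap R Λ (π ^ 2)})
    {n m : ℕ} (f : Fin m → MvPolynomial (Fin n) R) (φ : MvPolynomial (Fin n) R →ₐ[R] Cb)
    (hφsurj : Function.Surjective φ)
    (hφker : ∀ p, φ p = 0 ↔ p ∈ Ideal.span (Set.range f) ⊔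
        Ideal.span {(C (π ^ 2) : MvPolynomial (Fin n) R)})
    {r : ℕ} (ch : Fin r → Chart f π)
    (hcover : ∀ (𝔭 : Ideal Cb) [𝔭.IsPrime],
        Algebra.IsSmoothAt (R ⧸ Ideal.span {π ^ 2}) 𝔭 → ∃ k, φ (ch k).a ∉ 𝔭)
    [CommRing D] [Algebra R D] (πD : MvPolynomial (Fin n ⊕ Fin m) R →ₐ[R] D)
    (hsurj : Function.Surjective πD)
    (hker : RingHom.ker πD.toRingHom = Ideal.span (Set.range (relD ch))) :
    ∃ (δ : D →ₐ[R] Λ) (ψ : Cb →ₐ[R] D ⧸ Ideal.span {algebraMap R D π}),
        (∀ (c : Cb) (d : D) (l : Λ), Ideal.Quotient.mk (Ideal.span {algebraMap R D π}) d = ψ c →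
          Ideal.Quotient.mk (Ideal.span {algebraMap R Λ (π ^ 2)}) l = g c →
            δ d - l ∈ Ideal.span {algebraMap R Λ π}) ∧
        (∀ (Q : Ideal D) [Q.IsPrime], algebraMap R D π ∉ Q → Algebra.IsSmoothAt R Q) ∧
        (∀ (Q : Ideal (D ⧸ Ideal.span {algebraMap R D π})) [Q.IsPrime],
          Algebra.IsSmoothAt (R ⧸ Ideal.span {π ^ 2}) (Q.comap ψ) →
            Algebra.IsSmoothAt R (Q.comap (Ideal.Quotient.mk (Ideal.span {algebraMap R D π})))) := by
  classical
  -- the point of `Λ`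
  have hlam : ∀ i, ∃ l : Λ, Ideal.Quotient.mk (Ideal.span {algebraMap R Λ (π ^ 2)}) l =
      g (φ (X i)) := fun i => Ideal.Quotient.mk_surjective _
  choose lam hlam using hlam
  have hg : ∀ p, g (φ p) = Ideal.Quotient.mk (Ideal.span {algebraMap R Λ (π ^ 2)})
      (aeval lam p) := by
    intro p
    have h2 : g.comp φ = (Ideal.Quotient.mkₐ R (Ideal.span {algebraMap R Λ (π ^ 2)})).comp
        (aeval lam) := by
      apply MvPolynomial.algHom_ext
      intro i
      simp [hlam]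
    exact AlgHom.congr_fun h2 p
  have hfmem : ∀ j, f j ∈ Ideal.span (Set.range f) ⊔
      Ideal.span {(C (π ^ 2) : MvPolynomial (Fin n) R)} :=
    fun j => Ideal.mem_sup_left (Ideal.subset_span ⟨j, rfl⟩)
  have hμ : ∀ j, ∃ μj : Λ, aeval lam (f j) = algebraMap R Λ (π ^ 2) * μj := by
    intro j
    have h1 := hg (f j)
    rw [(hφker (f j)).mpr (hfmem j), map_zero] at h1
    obtain ⟨μj, hμj⟩ := Ideal.mem_span_singleton'.mp (Ideal.Quotient.eq_zero_iff_mem.mp h1.symm)
    exact ⟨μj, by rw [← hμj, mul_comm]⟩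
  choose μ hμ using hμ
  have hrelmem : ∀ x, πD (relD ch x) = 0 := by
    intro x
    have : relD ch x ∈ RingHom.ker πD.toRingHom := by
      rw [hker]
      exact Ideal.subset_span ⟨x, rfl⟩
    exact this
  have hCD : ∀ x : R, πD (C x) = algebraMap R D x := fun x => by
    rw [← algebraMap_eq, AlgHom.commutes]
  -- the map `δ`
  have Hδ : RingHom.ker πD.toRingHom ≤ RingHom.ker (aeval (ptD (R := R) (π := π) lam μ) :
      MvPolynomial (Fin n ⊕ Fin m) R →ₐ[R] Λ).toRingHom := by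
    rw [hker, Ideal.span_le]
    rintro _ ⟨(j | ⟨k, ℓ⟩), rfl⟩
    · exact aeval_ptD_xf lam μ hμ j
    · exact aeval_ptD_pp lam μ hμ hΛ (ch k) ℓ
  obtain ⟨δ, hδ⟩ : ∃ δ : D →ₐ[R] Λ,
      ∀ p, δ (πD p) = aeval (ptD (R := R) (π := π) lam μ) p :=
    ⟨AlgHom.liftOfSurjective πD hsurj _ Hδ, fun p => AlgHom.liftOfSurjective_apply πD hsurj _ Hδ p⟩
  -- the map `ψ`
  have hπJ : algebraMap R D π ∈ Ideal.span {algebraMap R D π} := Ideal.subset_span rfl
  have Hψ : ∀ p, φ p = 0 → (πD.comp (rename Sum.inl :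
      MvPolynomial (Fin n) R →ₐ[R] MvPolynomial (Fin n ⊕ Fin m) R)) p ∈
      Ideal.span {algebraMap R D π} := by
    intro p hp
    have hp' := (hφker p).mp hp
    have hle : Ideal.span (Set.range f) ⊔ Ideal.span {(C (π ^ 2) : MvPolynomial (Fin n) R)} ≤
        Ideal.comap (πD.comp (rename Sum.inl :
          MvPolynomial (Fin n) R →ₐ[R] MvPolynomial (Fin n ⊕ Fin m) R))
          (Ideal.span {algebraMap R D π}) := by
      refine sup_le (Ideal.span_le.mpr ?_) (Ideal.span_le.mpr ?_)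
      · rintro _ ⟨j, rfl⟩
        show πD (rename Sum.inl (f j)) ∈ Ideal.span {algebraMap R D π}
        have : (rename Sum.inl (f j) : MvPolynomial (Fin n ⊕ Fin m) R) =
            xf f π j + C π * X (Sum.inr j) := by
          unfold xf
          ring
        rw [this, map_add, map_mul, hCD]
        have h0 : πD (xf f π j) = 0 := hrelmem (Sum.inl j)
        rw [h0, zero_add]
        exact Ideal.mul_mem_right _ _ hπJ
      · rintro _ rfl
        show πD (rename Sum.inl (C (π ^ 2))) ∈ Ideal.span {algebraMap R D π}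
        rw [rename_C, hCD, pow_two, map_mul]
        exact Ideal.mul_mem_right _ _ hπJ
    exact hle hp'
  obtain ⟨ψ, hψ⟩ := exists_psi φ hφsurj (πD.comp (rename Sum.inl :
      MvPolynomial (Fin n) R →ₐ[R] MvPolynomial (Fin n ⊕ Fin m) R)) (algebraMap R D π) Hψ
  refine ⟨δ, ψ, ?_, ?_, ?_⟩
  · -- compatibility
    intro c d l hd hl
    obtain ⟨p, rfl⟩ := hφsurj c
    rw [hψ] at hd
    rw [hg] at hl
    have h1 : d - πD (rename Sum.inl p) ∈ Ideal.span {algebraMap R D π} :=
      Ideal.Quotient.eq.mp hd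
    obtain ⟨z, hz⟩ := Ideal.mem_span_singleton'.mp h1
    have h2 : δ d - aeval lam p = δ z * algebraMap R Λ π := by
      have := congrArg δ hz
      rw [map_mul, AlgHom.commutes, map_sub, hδ, aeval_ptD_rename] at this
      exact this.symm
    have h3 : l - aeval lam p ∈ Ideal.span {algebraMap R Λ (π ^ 2)} := Ideal.Quotient.eq.mp hl
    obtain ⟨w, hw⟩ := Ideal.mem_span_singleton'.mp h3
    have h4 : δ d - l = (δ z - w * algebraMap R Λ π) * algebraMap R Λ π := by
      rw [map_pow] at hw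
      linear_combination h2 + hw
    rw [h4]
    exact Ideal.mul_mem_left _ _ (Ideal.subset_span rfl)
  · intro Q _ hQ
    exact isSmoothAt_of_pi_notMem ch πD hsurj hker Q hQ
  · intro Q _ hsm
    obtain ⟨k, hk⟩ := hcover (Q.comap ψ) hsm
    have ha : πD (rename Sum.inl (ch k).a) ∉
        Q.comap (Ideal.Quotient.mk (Ideal.span {algebraMap R D π})) := by
      intro h
      apply hk
      rw [Ideal.mem_comap, hψ]
      exact h
    obtain ⟨s, hs, hkill⟩ := exists_kill hR ch πD hker k _ ha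
    exact isSmoothAt_D_of_chart πD hsurj ch hker k _ ha s hs hkill

/-- The lifting lemma, Stacks 16.5.1 (a), (b), (c). -/
theorem lifting_lemma {R Λ Cb : Type u} [CommRing R] [IsNoetherianRing R] [CommRing Λ]
    [Algebra R Λ] (π : R) (hR : ∀ r : R, π ^ 2 * r = 0 → π * r = 0)
    (hΛ : ∀ x : Λ, π ^ 2 • x = 0 → π • x = 0) [CommRing Cb] [Algebra R Cb]
    [Algebra (R ⧸ Ideal.span {π ^ 2}) Cb] [IsScalarTower R (R ⧸ Ideal.span {π ^ 2}) Cb]
    [Algebra.FinitePresentation (R ⧸ Ideal.span {π ^ 2}) Cb]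
    (g : Cb →ₐ[R] Λ ⧸ Ideal.span {algebraMap R Λ (π ^ 2)}) :
    ∃ (D : Type u) (_ : CommRing D) (_ : Algebra R D), Algebra.FinitePresentation R D ∧
      ∃ (δ : D →ₐ[R] Λ) (ψ : Cb →ₐ[R] D ⧸ Ideal.span {algebraMap R D π}),
        (∀ (c : Cb) (d : D) (l : Λ), Ideal.Quotient.mk (Ideal.span {algebraMap R D π}) d = ψ c →
          Ideal.Quotient.mk (Ideal.span {algebraMap R Λ (π ^ 2)}) l = g c →
            δ d - l ∈ Ideal.span {algebraMap R Λ π}) ∧
        (∀ (Q : Ideal D) [Q.IsPrime], algebraMap R D π ∉ Q → Algebra.IsSmoothAt R Q) ∧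
        (∀ (Q : Ideal (D ⧸ Ideal.span {algebraMap R D π})) [Q.IsPrime],
          Algebra.IsSmoothAt (R ⧸ Ideal.span {π ^ 2}) (Q.comap ψ) →
            Algebra.IsSmoothAt R (Q.comap (Ideal.Quotient.mk (Ideal.span {algebraMap R D π})))) := by
  classical
  obtain ⟨n, m, f, φ, hφsurj, hφker, r, ch, hcover⟩ := exists_presentation (R := R) π (Cb := Cb)
  obtain ⟨I, hI⟩ : ∃ I : Ideal (MvPolynomial (Fin n ⊕ Fin m) R),
      I = Ideal.span (Set.range (relD ch)) := ⟨_, rfl⟩
  refine ⟨MvPolynomial (Fin n ⊕ Fin m) R ⧸ I, inferInstance, inferInstance, ?_, ?_⟩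
  · rw [hI]
    exact Algebra.FinitePresentation.quotient (Submodule.fg_span (Set.finite_range _))
  have hsurj : Function.Surjective (Ideal.Quotient.mkₐ R I) := Ideal.Quotient.mkₐ_surjective R I
  have hker : RingHom.ker (Ideal.Quotient.mkₐ R I).toRingHom =
      Ideal.span (Set.range (relD ch)) := by
    rw [← hI]
    ext x
    simp
  exact lifting_lemma_aux π hR hΛ g f φ hφsurj hφker ch hcover (Ideal.Quotient.mkₐ R I) hsurj hker

end Main

end Groth.Agent.Lib.Seat14.LiftLem
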