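import Mathlib
import Groth.Prelude.Def_Smoothing
import Groth.Agent.Lib.Seat14DimZeroB
import Groth.Agent.Lib.Seat14DesingF
import Groth.Agent.Lib.Seat14LiftLemF

/-!
# Stacks 16.8.1: lifting lemma + desingularization (seat 14)
-/

set_option autoImplicit false
set_option linter.style.haveILetI false
set_option linter.unusedSectionVars false
universe u

namespace Groth.Agent.Lib.Seat14.LiftApply

open Groth.Agent.Lib.Seat14.DimZero
open Groth.Agent.Lib.Seat14.Desing
open Groth.Agent.Lib.Seat14.LiftLem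

/-- The lifting lemma with the square of `π` written as `p2`. -/
theorem lifting_lemma' {R Λ Cb : Type u} [CommRing R] [IsNoetherianRing R] [CommRing Λ]
    [Algebra R Λ] (π p2 : R) (hp2 : p2 = π ^ 2) (hR : ∀ r : R, π ^ 2 * r = 0 → π * r = 0)
    (hΛ : ∀ x : Λ, π ^ 2 • x = 0 → π • x = 0) [CommRing Cb] [Algebra R Cb]
    [Algebra (R ⧸ Ideal.span {p2}) Cb] [IsScalarTower R (R ⧸ Ideal.span {p2}) Cb]
    [Algebra.FinitePresentation (R ⧸ Ideal.span {p2}) Cb]
    (g : Cb →ₐ[R] Λ ⧸ Ideal.span {algebraMap R Λ p2}) :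
    ∃ (D : Type u) (_ : CommRing D) (_ : Algebra R D), Algebra.FinitePresentation R D ∧
      ∃ (δ : D →ₐ[R] Λ) (ψ : Cb →ₐ[R] D ⧸ Ideal.span {algebraMap R D π}),
        (∀ (c : Cb) (d : D) (l : Λ), Ideal.Quotient.mk (Ideal.span {algebraMap R D π}) d = ψ c →
          Ideal.Quotient.mk (Ideal.span {algebraMap R Λ p2}) l = g c →
            δ d - l ∈ Ideal.span {algebraMap R Λ π}) ∧
        (∀ (Q : Ideal D) [Q.IsPrime], algebraMap R D π ∉ Q → Algebra.IsSmoothAt R Q) ∧
        (∀ (Q : Ideal (D ⧸ Ideal.span {algebraMap R D π})) [Q.IsPrime],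
          Algebra.IsSmoothAt (R ⧸ Ideal.span {p2}) (Q.comap ψ) →
            Algebra.IsSmoothAt R (Q.comap (Ideal.Quotient.mk (Ideal.span {algebraMap R D π})))) := by
  subst hp2
  exact lifting_lemma π hR hΛ g

theorem isSmoothAt_congr {R A : Type*} [CommRing R] [CommRing A] [Algebra R A] {I J : Ideal A}
    [I.IsPrime] [hJ : J.IsPrime] (h : I = J) (hs : Algebra.IsSmoothAt R I) :
    Algebra.IsSmoothAt R J := by
  subst h
  exact hs

/-- At a smooth prime of a finitely presented algebra, some element of the singular ideal is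
outside the prime. -/
theorem exists_mem_singularIdeal_notMem {R A : Type u} [CommRing R] [CommRing A] [Algebra R A]
    [Algebra.FinitePresentation R A] (q : Ideal A) [q.IsPrime] (hq : Algebra.IsSmoothAt R q) :
    ∃ d ∈ Smoothing.singularIdeal R A, d ∉ q := by
  by_contra hall
  push Not at hall
  have hle : Smoothing.singularIdeal R A ≤ q := hall
  have hclosed : IsClosed (Algebra.smoothLocus R A)ᶜ :=
    (Algebra.isOpen_smoothLocus (R := R) (A := A)).isClosed_compl
  have h1 : (⟨q, inferInstance⟩ : PrimeSpectrum A) ∈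
      PrimeSpectrum.zeroLocus ((PrimeSpectrum.vanishingIdeal (Algebra.smoothLocus R A)ᶜ : Ideal A) :
        Set A) := by
    rw [PrimeSpectrum.mem_zeroLocus]
    exact hle
  rw [PrimeSpectrum.zeroLocus_vanishingIdeal_eq_closure, hclosed.closure_eq] at h1
  exact h1 hq

theorem pow4_mul {R : Type*} [CommRing R] (π : R) (hR : ∀ r : R, π ^ 2 * r = 0 → π * r = 0) :
    ∀ r : R, (π ^ 4) ^ 2 * r = 0 → π ^ 4 * r = 0 := by
  have step : ∀ (j : ℕ) (x : R), π ^ (j + 2) * x = 0 → π ^ (j + 1) * x = 0 := by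
    intro j x hx
    have h1 : π ^ 2 * (π ^ j * x) = 0 := by
      rw [← hx]
      ring
    have h2 := hR _ h1
    rw [← h2]
    ring
  intro r hr
  have h8 : π ^ (6 + 2) * r = 0 := by rw [← hr]; ring
  exact step 3 r (step 4 r (step 5 r (step 6 r h8)))

theorem pow4_smul {R Λ : Type*} [CommRing R] [CommRing Λ] [Algebra R Λ] (π : R)
    (hΛ : ∀ x : Λ, π ^ 2 • x = 0 → π • x = 0) :
    ∀ x : Λ, (π ^ 4) ^ 2 • x = 0 → π ^ 4 • x = 0 := by
  have step : ∀ (j : ℕ) (x : Λ), π ^ (j + 2) • x = 0 → π ^ (j + 1) • x = 0 := by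
    intro j x hx
    have h1 : π ^ 2 • (π ^ j • x) = 0 := by
      rw [smul_smul, ← pow_add, add_comm]
      exact hx
    have h2 := hΛ _ h1
    rw [smul_smul, ← pow_succ'] at h2
    exact h2
  intro x hx
  have h8 : π ^ (6 + 2) • x = 0 := by
    rw [← pow_mul] at hx
    exact hx
  exact step 3 x (step 4 x (step 5 x (step 6 x h8)))

/-- Stacks 16.8.1. -/
theorem desingularize_lifting_apply {R Λ A Cb : Type u} [CommRing R] [IsNoetherianRing R]
    [CommRing Λ] [Algebra R Λ] (π : R) (hR : ∀ r : R, π ^ 2 * r = 0 → π * r = 0)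
    (hΛ : ∀ x : Λ, π ^ 2 • x = 0 → π • x = 0) [CommRing A] [Algebra R A]
    [Algebra.FinitePresentation R A] (φ : A →ₐ[R] Λ)
    (hπ : Smoothing.IsStrictlyStandard R A (algebraMap R A π))
    [CommRing Cb] [Algebra R Cb] [Algebra (R ⧸ Ideal.span {π ^ 8}) Cb]
    [IsScalarTower R (R ⧸ Ideal.span {π ^ 8}) Cb]
    [Algebra.FinitePresentation (R ⧸ Ideal.span {π ^ 8}) Cb]
    (γ : A →ₐ[R] Cb) (g : Cb →ₐ[R] Λ ⧸ Ideal.span {algebraMap R Λ (π ^ 8)})
    (hfac : ∀ a : A, g (γ a) = Ideal.Quotient.mk (Ideal.span {algebraMap R Λ (π ^ 8)}) (φ a)) :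
    ∃ (B : Type u) (_ : CommRing B) (_ : Algebra R B), Algebra.FinitePresentation R B ∧
      ∃ (α : A →ₐ[R] B) (β : B →ₐ[R] Λ), β.comp α = φ ∧
        (∀ (Q : Ideal B) [Q.IsPrime], algebraMap R B π ∉ Q → Algebra.IsSmoothAt R Q) ∧
        (Smoothing.singularIdeal (R ⧸ Ideal.span {π ^ 8}) Cb).map g ≤
          ((Smoothing.singularIdeal R B).map β).radical.map
            (Ideal.Quotient.mk (Ideal.span {algebraMap R Λ (π ^ 8)})) := by
  classical
  obtain ⟨D, instD, algD, hfpD, δ, ψ, hcompat, hsmD, hsmC⟩ :=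
    lifting_lemma' (π ^ 4) (π ^ 8) (by ring) (pow4_mul π hR) (pow4_smul π hΛ) g
  have hψ' : ∀ (a : A) (d : D),
      Ideal.Quotient.mk (Ideal.span {algebraMap R D (π ^ 4)}) d = (ψ.comp γ) a →
        δ d - φ a ∈ Ideal.span {algebraMap R Λ (π ^ 4)} := by
    intro a d hd
    exact hcompat (γ a) d (φ a) hd (hfac a).symm
  obtain ⟨B, instB, algRB, algDB, towB, hfpB, α, β, hβα, hβδ, hDB, hRB⟩ :=
    desingularize_strictly_standard π hR hΛ φ δ hπ (algebraMap R D (π ^ 4)) (map_pow _ _ _)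
      (ψ.comp γ) hψ'
  -- `π⁴` lies in the singular ideal of `D`, hence of `B`
  have hπD : algebraMap R D (π ^ 4) ∈ Smoothing.singularIdeal R D :=
    mem_singularIdeal_of_forall fun Q _ hQ => hsmD Q hQ
  have hπB : algebraMap R B (π ^ 4) ∈ Smoothing.singularIdeal R B := by
    have := hRB (Ideal.mem_map_of_mem (algebraMap D B) hπD)
    rwa [← IsScalarTower.algebraMap_apply] at this
  refine ⟨B, instB, algRB, hfpB, α, β, hβα, ?_, ?_⟩
  · intro Q _ hQ
    refine isSmoothAt_of_mem_singularIdeal hπB Q ?_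
    rw [map_pow]
    intro h
    exact hQ (Ideal.IsPrime.mem_of_pow_mem inferInstance _ h)
  · have hδβ : ∀ d : D, β (algebraMap D B d) = δ d := fun d => AlgHom.congr_fun hβδ d
    rw [Ideal.map_le_iff_le_comap]
    intro h hh
    obtain ⟨l, hl⟩ := Ideal.Quotient.mk_surjective (g h)
    rw [Ideal.mem_comap, ← hl]
    refine Ideal.mem_map_of_mem _ ?_
    rw [Ideal.radical_eq_sInf, Ideal.mem_sInf]
    rintro 𝔮 ⟨h𝔮le, h𝔮prime⟩
    haveI := h𝔮prime
    -- `π ∈ 𝔮`
    have hπ4𝔮 : algebraMap R Λ (π ^ 4) ∈ 𝔮 := by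
      have := h𝔮le (Ideal.mem_map_of_mem β hπB)
      rwa [AlgHom.commutes] at this
    -- `D` is not smooth at `𝔮_D`
    have hns : ¬ Algebra.IsSmoothAt R (𝔮.comap δ) := by
      intro hsm
      obtain ⟨d, hd, hdq⟩ := exists_mem_singularIdeal_notMem (𝔮.comap δ) hsm
      apply hdq
      rw [Ideal.mem_comap, ← hδβ]
      exact h𝔮le (Ideal.mem_map_of_mem β (hRB (Ideal.mem_map_of_mem (algebraMap D B) hd)))
    -- the prime `Q` of `D/π⁴`
    have hJle : RingHom.ker (Ideal.Quotient.mk (Ideal.span {algebraMap R D (π ^ 4)})) ≤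
        𝔮.comap δ := by
      rw [Ideal.mk_ker, Ideal.span_le]
      rintro _ rfl
      show δ (algebraMap R D (π ^ 4)) ∈ 𝔮
      rw [AlgHom.commutes]
      exact hπ4𝔮
    haveI hQprime : ((𝔮.comap δ).map
        (Ideal.Quotient.mk (Ideal.span {algebraMap R D (π ^ 4)}))).IsPrime :=
      Ideal.map_isPrime_of_surjective Ideal.Quotient.mk_surjective hJle
    have hQcomap : ((𝔮.comap δ).map
        (Ideal.Quotient.mk (Ideal.span {algebraMap R D (π ^ 4)}))).comap
        (Ideal.Quotient.mk (Ideal.span {algebraMap R D (π ^ 4)})) = 𝔮.comap δ := by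
      rw [Ideal.comap_map_of_surjective _ Ideal.Quotient.mk_surjective, ← RingHom.ker_eq_comap_bot]
      exact sup_eq_left.mpr hJle
    have hnsC : ¬ Algebra.IsSmoothAt (R ⧸ Ideal.span {π ^ 8})
        (((𝔮.comap δ).map
          (Ideal.Quotient.mk (Ideal.span {algebraMap R D (π ^ 4)}))).comap ψ) := by
      intro hsm
      exact hns (isSmoothAt_congr hQcomap (hsmC _ hsm))
    have hhQ : h ∈ ((𝔮.comap δ).map
        (Ideal.Quotient.mk (Ideal.span {algebraMap R D (π ^ 4)}))).comap ψ := by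
      by_contra hnot
      exact hnsC (isSmoothAt_of_mem_singularIdeal hh _ hnot)
    rw [Ideal.mem_comap] at hhQ
    obtain ⟨d, hd𝔮, hdψ⟩ := (Ideal.mem_map_iff_of_surjective _ Ideal.Quotient.mk_surjective).mp hhQ
    have h1 := hcompat h d l hdψ hl
    have h2 : δ d - l ∈ 𝔮 := by
      have hle : Ideal.span {algebraMap R Λ (π ^ 4)} ≤ 𝔮 := by
        rw [Ideal.span_le]
        rintro _ rfl
        exact hπ4𝔮
      exact hle h1
    have h3 : δ d ∈ 𝔮 := hd𝔮
    have h4 := 𝔮.sub_mem h3 h2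
    rwa [sub_sub_cancel] at h4

end Groth.Agent.Lib.Seat14.LiftApply
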