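import Mathlib

/-!
# Relative lengths of nested submodules (seat 9)

`rl P Q = length (Q / (P ⊓ Q))`, with additivity in towers, the second isomorphism theorem,
invariance under maps, and a four-term exact sequence formula.
-/

set_option autoImplicit false
universe u v

namespace Groth.Agent.Lib.Seat9.RelLen

variable {R : Type u} [CommRing R] {M : Type v} [AddCommGroup M] [Module R M]

/-- relative length: the length of `Q / (P ⊓ Q)`. -/
noncomputable def rl (P Q : Submodule R M) : ℕ∞ := Module.length R (↥Q ⧸ P.submoduleOf Q)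

/-- transport principle for lengths of quotients. -/
theorem length_quot_eq_of_comap {X : Type*} {Y : Type*} [AddCommGroup X] [Module R X]
    [AddCommGroup Y] [Module R Y]
    (g : X →ₗ[R] Y) (N : Submodule R X) (N' : Submodule R Y) (h1 : N = N'.comap g)
    (h2 : N' ⊔ LinearMap.range g = ⊤) : Module.length R (X ⧸ N) = Module.length R (Y ⧸ N') := by
  subst h1
  have hsurj : Function.Surjective (N'.mkQ ∘ₗ g) := by
    intro y
    obtain ⟨y, rfl⟩ := N'.mkQ_surjective y
    have : y ∈ N' ⊔ LinearMap.range g := h2 ▸ Submodule.mem_top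
    obtain ⟨n, hn, _, ⟨x, rfl⟩, rfl⟩ := Submodule.mem_sup.mp this
    refine ⟨x, ?_⟩
    simp only [LinearMap.coe_comp, Function.comp_apply, Submodule.mkQ_apply, map_add]
    rw [(Submodule.Quotient.mk_eq_zero N').mpr hn, zero_add]
  have hker : LinearMap.ker (N'.mkQ ∘ₗ g) = N'.comap g := by
    rw [LinearMap.ker_comp, Submodule.ker_mkQ]
  exact ((Submodule.quotEquivOfEq _ _ hker.symm).trans
    (LinearMap.quotKerEquivOfSurjective _ hsurj)).length_eq

theorem rl_add (P P' Q : Submodule R M) (h1 : P ≤ P') (h2 : P' ≤ Q) :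
    rl P Q = rl P P' + rl P' Q := by
  unfold rl
  refine Module.length_eq_add_of_exact
    (Submodule.mapQ (P.submoduleOf P') (P.submoduleOf Q) (Submodule.inclusion h2) ?_)
    (Submodule.mapQ (P.submoduleOf Q) (P'.submoduleOf Q) LinearMap.id ?_) ?_ ?_ ?_
  · intro x hx
    exact hx
  · intro x hx
    exact h1 hx
  · rw [← LinearMap.ker_eq_bot, LinearMap.ker_eq_bot']
    intro x hx
    obtain ⟨x, rfl⟩ := Submodule.mkQ_surjective _ x
    simp only [Submodule.mkQ_apply, Submodule.mapQ_apply] at hx ⊢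
    rw [Submodule.Quotient.mk_eq_zero] at hx ⊢
    exact hx
  · intro x
    obtain ⟨x, rfl⟩ := Submodule.mkQ_surjective _ x
    exact ⟨Submodule.Quotient.mk x, by simp⟩
  · intro x
    obtain ⟨x, rfl⟩ := Submodule.mkQ_surjective _ x
    simp only [Submodule.mkQ_apply, Submodule.mapQ_apply, LinearMap.id_coe, id_eq, Set.mem_range]
    rw [Submodule.Quotient.mk_eq_zero]
    constructor
    · intro hx
      refine ⟨Submodule.Quotient.mk ⟨x.1, hx⟩, ?_⟩
      simp only [Submodule.mapQ_apply]
      rfl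
    · rintro ⟨y, hy⟩
      obtain ⟨y, rfl⟩ := Submodule.mkQ_surjective _ y
      simp only [Submodule.mkQ_apply, Submodule.mapQ_apply] at hy
      rw [Submodule.Quotient.eq] at hy
      have : (Submodule.inclusion h2 y - x : ↥Q) ∈ P'.submoduleOf Q := h1 hy
      have hy' : (Submodule.inclusion h2 y : ↥Q) ∈ P'.submoduleOf Q := y.2
      have := Submodule.sub_mem _ hy' this
      simpa using this


theorem rl_inf (P Q : Submodule R M) : rl (P ⊓ Q) Q = rl P Q := by
  unfold rl
  have : (P ⊓ Q).submoduleOf Q = P.submoduleOf Q := by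
    ext x
    simp only [Submodule.submoduleOf, Submodule.mem_comap, Submodule.subtype_apply,
      Submodule.mem_inf, and_iff_left_iff_imp]
    exact fun _ => x.2
  rw [this]

theorem rl_sup (P Q : Submodule R M) : rl P (P ⊔ Q) = rl P Q := by
  unfold rl
  symm
  refine length_quot_eq_of_comap (Submodule.inclusion (le_sup_right : Q ≤ P ⊔ Q)) _ _ ?_ ?_
  · ext x
    simp [Submodule.submoduleOf]
  · rw [eq_top_iff]
    rintro ⟨x, hx⟩ -
    obtain ⟨p, hp, q, hq, rfl⟩ := Submodule.mem_sup.mp hx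
    refine Submodule.mem_sup.mpr ⟨⟨p, le_sup_left (b := Q) hp⟩, ?_, ⟨q, le_sup_right (a := P) hq⟩,
      ⟨⟨q, hq⟩, rfl⟩, rfl⟩
    simpa [Submodule.submoduleOf] using hp

theorem rl_self (P : Submodule R M) : rl P P = 0 := by
  unfold rl
  rw [Module.length_eq_zero_iff]
  refine ⟨fun a b => ?_⟩
  obtain ⟨a, rfl⟩ := Submodule.mkQ_surjective _ a
  obtain ⟨b, rfl⟩ := Submodule.mkQ_surjective _ b
  simp only [Submodule.mkQ_apply]
  rw [Submodule.Quotient.eq]
  exact (a - b).2

theorem rl_of_le (P Q : Submodule R M) (h : Q ≤ P) : rl P Q = 0 := by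
  rw [← rl_inf, inf_eq_right.mpr h, rl_self]

theorem rl_anti_left (P P' Q : Submodule R M) (h : P ≤ P') : rl P' Q ≤ rl P Q := by
  rw [← rl_inf P' Q, ← rl_inf P Q,
    rl_add (P ⊓ Q) (P' ⊓ Q) Q (inf_le_inf_right Q h) inf_le_right]
  exact le_add_self

theorem rl_map {M' : Type*} [AddCommGroup M'] [Module R M'] (f : M →ₗ[R] M')
    (P Q : Submodule R M) (hPQ : P ≤ Q) (h : LinearMap.ker f ⊓ Q ≤ P) :
    rl (P.map f) (Q.map f) = rl P Q := by
  unfold rl
  symm
  refine length_quot_eq_of_comap (f.submoduleMap Q) _ _ ?_ ?_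
  · ext ⟨x, hx⟩
    simp only [Submodule.submoduleOf, Submodule.mem_comap, Submodule.subtype_apply,
      LinearMap.submoduleMap_coe_apply, Submodule.mem_map]
    constructor
    · intro hxP
      exact ⟨x, hxP, rfl⟩
    · rintro ⟨p, hp, hpx⟩
      have : x - p ∈ LinearMap.ker f ⊓ Q :=
        ⟨by simp [hpx], Q.sub_mem hx (hPQ hp)⟩
      have := P.add_mem (h this) hp
      simpa using this
  · rw [LinearMap.range_eq_top.mpr (f.submoduleMap_surjective Q), sup_top_eq]

/-- The four term exact sequence `0 → A''/A' → A/A' → B/B' → B/(B' + f A) → 0`. -/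
theorem rl_four {M' : Type*} [AddCommGroup M'] [Module R M'] (f : M →ₗ[R] M')
    (A' A : Submodule R M) (B' B : Submodule R M') (hA : A' ≤ A) (hB : B' ≤ B)
    (hfA : A.map f ≤ B) (hfA' : A'.map f ≤ B') :
    rl A' A + rl (B' ⊔ A.map f) B = rl A' (A ⊓ B'.comap f) + rl B' B := by
  have hA'' : A' ≤ A ⊓ B'.comap f := le_inf hA (Submodule.map_le_iff_le_comap.mp hfA')
  rw [rl_add A' (A ⊓ B'.comap f) A hA'' inf_le_left,
    rl_add B' (B' ⊔ A.map f) B le_sup_left (sup_le hB hfA)]
  have h1 : rl (A ⊓ B'.comap f) A = rl B' (B' ⊔ A.map f) := by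
    rw [← rl_map f (A ⊓ B'.comap f) A inf_le_left ?_]
    · have : (A ⊓ B'.comap f).map f = B' ⊓ A.map f := by
        ext y
        simp only [Submodule.mem_map, Submodule.mem_inf, Submodule.mem_comap]
        constructor
        · rintro ⟨x, ⟨hxA, hxB⟩, rfl⟩
          exact ⟨hxB, x, hxA, rfl⟩
        · rintro ⟨hy, x, hxA, rfl⟩
          exact ⟨x, ⟨hxA, hy⟩, rfl⟩
      rw [this, rl_inf, rl_sup]
    · intro x hx
      refine ⟨hx.2, ?_⟩
      have : f x = 0 := hx.1
      simp [this]
  rw [h1]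
  ac_rfl

end Groth.Agent.Lib.Seat9.RelLen
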