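import Mathlib

/-!
# Finite extensions of one-dimensional Noetherian local rings making a two-generated ideal principal

Ingredients for Stacks 02Q0-type statements:
* `exists_mem_span_lt`: in a module of length `≤ n`, among `n+1` elements one lies in the span of
  the earlier ones.
* `exists_unit_relation`: in a one-dimensional Noetherian local ring, `ord a + 1` elements
  generating an ideal containing a power of the nonzerodivisor `a ∈ 𝔪` satisfy a linear relation
  with a unit coefficient.
* `stab N`: the subalgebra of elements stabilising a submodule `N` of an algebra.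
* `mul_aeval_iterate_divX_mem_stab`: the Horner partial sums of a polynomial relation, times `x`,
  stabilise `span {1, x, …, x^(n-1)}`.
* `exists_factor_of_finite_maximal`: in a semilocal ring, elements `u v w y` with
  `a u = b w`, `a y = b v`, `v - u` a unit, force `(a, b)` to be principal with unimodular cofactors.
-/

namespace Groth.Agent.Lib.Seat35.FinExt

open Polynomial Pointwise

section Chain

variable {R : Type*} [Ring R] {Q : Type*} [AddCommGroup Q] [Module R Q]

/-- In a module of length at most `n`, any family of `n+1` elements contains a member lying in the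
span of the earlier members. -/
theorem exists_mem_span_lt (n : ℕ) (hlen : Module.length R Q ≤ n) (q : Fin (n + 1) → Q) :
    ∃ j : Fin (n + 1), q j ∈ Submodule.span R (q '' {l | l < j}) := by
  by_contra h
  push Not at h
  let F : Fin (n + 1 + 1) → Submodule R Q :=
    fun k => Submodule.span R (q '' {l | (l : ℕ) < (k : ℕ)})
  have hmono : StrictMono F := by
    apply Fin.strictMono_iff_lt_succ.mpr
    intro k
    refine lt_of_le_of_ne (Submodule.span_mono (Set.image_mono ?_)) ?_
    · intro l hl
      simp only [Set.mem_ofPred_eq, Fin.val_castSucc, Fin.val_succ] at hl ⊢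
      omega
    · intro heq
      apply h k
      have hk : q k ∈ F k.succ :=
        Submodule.subset_span ⟨k, by simp, rfl⟩
      rw [← heq] at hk
      have hset : {l : Fin (n + 1) | l < k} =
          {l : Fin (n + 1) | (l : ℕ) < ((k.castSucc : Fin (n + 1 + 1)) : ℕ)} := by
        ext l
        simp only [Set.mem_ofPred_eq, Fin.val_castSucc, Fin.lt_def]
      rw [hset]
      exact hk
  have h1 := Order.LTSeries.length_le_krullDim (LTSeries.mk (n + 1) F hmono)
  rw [← Module.coe_length] at h1
  have h2 : ((n + 1 : ℕ) : ℕ∞) ≤ Module.length R Q := by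
    have : (((n + 1 : ℕ) : ℕ∞) : WithBot ℕ∞) ≤ (Module.length R Q : WithBot ℕ∞) := by
      simpa using h1
    exact_mod_cast this
  have h3 : ((n + 1 : ℕ) : ℕ∞) ≤ (n : ℕ∞) := h2.trans hlen
  have : n + 1 ≤ n := by exact_mod_cast h3
  omega

end Chain

section Relation

variable {R : Type*} [CommRing R] [IsNoetherianRing R] [Ring.KrullDimLE 1 R]

/-- The kernel of `R ⧸ a • M → R ⧸ M` has length `ord a`, when `M` contains a power of the
nonzerodivisor `a`. -/
theorem length_ker_factor {a : R} (ha : a ∈ nonZeroDivisors R) (M : Ideal R) (N : ℕ)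
    (hN : a ^ N ∈ M) (hle : a • M ≤ M) :
    Module.length R (LinearMap.ker (Submodule.factor hle)) = Ring.ord R a := by
  have h1 : Module.length R (R ⧸ a • M) = Module.length R (R ⧸ M) + Ring.ord R a :=
    Module.length_eq_add_of_exact (Ideal.mulQuot a M) (Ideal.quotOfMul a M)
      (Ideal.mulQuot_injective M ha) (Ideal.quotOfMul_surjective M)
      (Ideal.exact_mulQuot_quotOfMul M)
  have h2 : Module.length R (R ⧸ a • M) =
      Module.length R (LinearMap.ker (Submodule.factor hle)) + Module.length R (R ⧸ M) :=
    Module.length_eq_add_of_exact (LinearMap.ker (Submodule.factor hle)).subtype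
      (Submodule.factor hle) (Submodule.subtype_injective _) (Submodule.factor_surjective hle)
      (LinearMap.exact_subtype_ker_map _)
  have hfin : Module.length R (R ⧸ M) ≠ ⊤ := by
    have hle' : Ideal.span {a ^ N} ≤ M := (Ideal.span_singleton_le_iff_mem _).mpr hN
    have h3 : Module.length R (R ⧸ M) ≤ Module.length R (R ⧸ Ideal.span {a ^ N}) :=
      Module.length_le_of_surjective (Submodule.factor hle') (Submodule.factor_surjective hle')
    have h4 : Module.length R (R ⧸ Ideal.span {a ^ N}) ≠ ⊤ := Ring.ord_ne_top (pow_mem ha N)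
    exact ne_top_of_le_ne_top h4 h3
  rw [h1, add_comm] at h2
  exact ((WithTop.add_right_inj hfin).mp h2).symm

variable [IsLocalRing R]

/-- In a one-dimensional Noetherian local ring with a nonzerodivisor `a ∈ 𝔪`, any `n+1 > ord a`
elements `g₀, …, gₙ` generating an ideal that contains a power of `a` satisfy a linear relation
`∑ cₗ gₗ = 0` with some coefficient a unit. -/
theorem exists_unit_relation {a : R} (ha : a ∈ nonZeroDivisors R)
    (ham : a ∈ IsLocalRing.maximalIdeal R) (n : ℕ) (hn : Ring.ord R a ≤ n)
    (g : Fin (n + 1) → R) (N : ℕ) (hN : a ^ N ∈ Ideal.span (Set.range g)) :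
    ∃ (c : Fin (n + 1) → R) (j : Fin (n + 1)), IsUnit (c j) ∧ ∑ l, c l * g l = 0 := by
  classical
  set M : Ideal R := Ideal.span (Set.range g) with hM
  have hle : a • M ≤ M := by
    intro z hz
    obtain ⟨m, hm, rfl⟩ := (Submodule.mem_smul_pointwise_iff_exists _ _ _).mp hz
    exact M.smul_mem a hm
  have hlen := length_ker_factor ha M N hN hle
  have hgM : ∀ l, g l ∈ M := fun l => Ideal.subset_span ⟨l, rfl⟩
  let q : Fin (n + 1) → LinearMap.ker (Submodule.factor hle) := fun l =>
    ⟨Submodule.mkQ (a • M) (g l), by
      rw [LinearMap.mem_ker, Submodule.factor_mk]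
      exact (Submodule.Quotient.mk_eq_zero _).mpr (hgM l)⟩
  obtain ⟨j, hj⟩ := exists_mem_span_lt (R := R) n (hlen ▸ hn) q
  -- push to the quotient `R ⧸ a • M`
  have hj2 : (Submodule.mkQ (a • M)) (g j) ∈
      Submodule.map (Submodule.mkQ (a • M)) (Submodule.span R (g '' {l | l < j})) := by
    have h5 := Submodule.mem_map_of_mem (f := (LinearMap.ker (Submodule.factor hle)).subtype) hj
    rw [Submodule.map_span, ← Set.image_comp] at h5
    rw [Submodule.map_span, ← Set.image_comp]
    exact h5
  obtain ⟨z, hz, hzj⟩ := hj2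
  have hdiff : g j - z ∈ a • M := by
    rw [← Submodule.Quotient.eq]
    exact hzj.symm
  obtain ⟨l₀, hl₀, rfl⟩ := (Finsupp.mem_span_image_iff_linearCombination R).mp hz
  obtain ⟨m', hm', hm'eq⟩ := (Submodule.mem_smul_pointwise_iff_exists _ _ _).mp hdiff
  obtain ⟨s, hs⟩ := (Submodule.mem_span_range_iff_exists_fun R).mp hm'
  refine ⟨fun l => (if l = j then 1 else 0) - l₀ l - a * s l, j, ?_, ?_⟩
  · have h0 : l₀ j = 0 := by
      have := (Finsupp.mem_supported' R l₀).mp hl₀ j (by simp)
      exact this
    simp only [if_true, h0, sub_zero]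
    apply IsLocalRing.isUnit_one_sub_self_of_mem_nonunits
    exact Ideal.mul_mem_right _ _ ham
  · have e1 : (Finsupp.linearCombination R g) l₀ = ∑ l, l₀ l * g l := by
      rw [Finsupp.linearCombination_apply, Finsupp.sum_fintype _ _ (by simp)]
      simp
    have e2 : a * m' = g j - ∑ l, l₀ l * g l := by
      rw [← e1, ← hm'eq, smul_eq_mul]
    have e3 : m' = ∑ l, s l * g l := by
      rw [← hs]; simp
    calc ∑ l, ((if l = j then 1 else 0) - l₀ l - a * s l) * g l
        = g j - ∑ l, l₀ l * g l - a * ∑ l, s l * g l := by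
          simp only [sub_mul, Finset.sum_sub_distrib, Finset.mul_sum, ite_mul, one_mul, zero_mul,
            Finset.sum_ite_eq', Finset.mem_univ, if_true, mul_assoc]
      _ = 0 := by rw [← e3, ← e2]; ring

end Relation

section Stab

variable {R : Type*} [CommRing R] {K : Type*} [CommRing K] [Algebra R K]

/-- The `R`-span of `1, x, …, x^(n-1)`. -/
def powSpan (x : K) (n : ℕ) : Submodule R K :=
  Submodule.span R (Set.range fun i : Fin n => x ^ (i : ℕ))

theorem powSpan_fg (x : K) (n : ℕ) : (powSpan (R := R) x n).FG :=
  Submodule.fg_span (Set.finite_range _)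

theorem pow_mem_powSpan (x : K) {n i : ℕ} (hi : i < n) : x ^ i ∈ powSpan (R := R) x n :=
  Submodule.subset_span ⟨⟨i, hi⟩, rfl⟩

theorem aeval_mem_powSpan (x : K) (n : ℕ) (f : R[X]) (hf : ∀ k, n ≤ k → f.coeff k = 0) :
    aeval x f ∈ powSpan (R := R) x n := by
  rw [aeval_def, eval₂_eq_sum, Polynomial.sum]
  refine Submodule.sum_mem _ fun i hi => ?_
  have hin : i < n := by
    by_contra hcon
    exact (mem_support_iff.mp hi) (hf i (not_lt.mp hcon))
  rw [← Algebra.smul_def]
  exact Submodule.smul_mem _ _ (pow_mem_powSpan x hin)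

/-- The subalgebra of elements `z` with `z N ⊆ N`. -/
def stab (N : Submodule R K) : Subalgebra R K where
  carrier := {z | ∀ m ∈ N, z * m ∈ N}
  mul_mem' := fun {z w} hz hw m hm => by
    rw [mul_assoc]; exact hz _ (hw _ hm)
  add_mem' := fun {z w} hz hw m hm => by
    rw [add_mul]; exact N.add_mem (hz _ hm) (hw _ hm)
  one_mem' := fun m hm => by rwa [one_mul]
  zero_mem' := fun m _ => by rw [zero_mul]; exact N.zero_mem
  algebraMap_mem' := fun r m hm => by
    rw [← Algebra.smul_def]; exact N.smul_mem r hm

theorem mem_stab {N : Submodule R K} {z : K} : z ∈ stab N ↔ ∀ m ∈ N, z * m ∈ N := Iff.rfl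

theorem stab_le_of_one_mem {N : Submodule R K} (h1 : (1 : K) ∈ N) :
    Subalgebra.toSubmodule (stab N) ≤ N := by
  intro z hz
  have := hz 1 h1
  rwa [mul_one] at this

theorem coeff_iterate_divX (P : R[X]) (m k : ℕ) : (divX^[m] P).coeff k = P.coeff (k + m) := by
  induction m generalizing k with
  | zero => simp
  | succ m ih =>
    rw [Function.iterate_succ_apply', coeff_divX, ih]
    congr 1
    omega

theorem iterate_divX_succ (P : R[X]) (m : ℕ) :
    divX^[m] P = divX^[m + 1] P * X + C (P.coeff m) := by
  have h := divX_mul_X_add (divX^[m] P)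
  rw [coeff_iterate_divX, zero_add] at h
  rw [Function.iterate_succ_apply']
  exact h.symm

/-- Given a polynomial relation `P(x) = 0` of degree `≤ n`, the elements `x · (P div X^m)(x)`
stabilise `span {1, …, x^(n-1)}`. -/
theorem mul_aeval_iterate_divX_mem_stab (x : K) (n : ℕ) (P : R[X])
    (hP : ∀ k, n < k → P.coeff k = 0) (hx : aeval x P = 0) (m : ℕ) :
    x * aeval x (divX^[m] P) ∈ stab (powSpan (R := R) x n) := by
  rw [mem_stab]
  intro z hz
  induction hz using Submodule.span_induction with
  | mem z hz =>
    obtain ⟨⟨i, hi⟩, rfl⟩ := hz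
    simp only
    by_cases him : i + 1 < m
    · have e : x * aeval x (divX^[m] P) * x ^ i = aeval x (X ^ (i + 1) * divX^[m] P) := by
        simp only [map_mul, map_pow, aeval_X]; ring
      rw [e]
      apply aeval_mem_powSpan
      intro k hk
      rw [coeff_X_pow_mul']
      split_ifs with h
      · rw [coeff_iterate_divX]
        apply hP
        omega
      · rfl
    · have e : x * aeval x (divX^[m] P) * x ^ i =
          aeval x (X ^ (i + 1 - m) * (X ^ m * divX^[m] P - P)) := by
        have hpow : x ^ (i + 1) = x ^ (i + 1 - m) * x ^ m := by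
          rw [← pow_add]; congr 1; omega
        simp only [map_mul, map_pow, aeval_X, map_sub, hx, sub_zero]
        rw [← mul_assoc, ← hpow]; ring
      rw [e]
      apply aeval_mem_powSpan
      intro k hk
      rw [coeff_X_pow_mul']
      split_ifs with h
      · rw [coeff_sub, coeff_X_pow_mul', if_pos (by omega), coeff_iterate_divX]
        have : k - (i + 1 - m) - m + m = k - (i + 1 - m) := by omega
        rw [this, sub_self]
      · rfl
  | zero => rw [mul_zero]; exact Submodule.zero_mem _
  | add z w _ _ hz hw => rw [mul_add]; exact Submodule.add_mem _ hz hw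
  | smul r z _ hz => rw [mul_smul_comm]; exact Submodule.smul_mem _ _ hz

end Stab

section Semilocal

variable {S : Type*} [CommRing S]

/-- In a ring with finitely many maximal ideals, if `a u = b w`, `a y = b v` and `v - u` is a unit,
then `a = t a'`, `b = t b'` with `(a', b')` the unit ideal. -/
theorem exists_factor_of_finite_maximal (hfin : {P : Ideal S | P.IsMaximal}.Finite)
    (a b u v w y : S) (h1 : a * u = b * w) (h2 : a * y = b * v) (hu : IsUnit (v - u)) :
    ∃ t a' b' : S, a = t * a' ∧ b = t * b' ∧ Ideal.span {a', b'} = ⊤ := by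
  classical
  have : Finite {P : Ideal S // P.IsMaximal} := hfin.to_subtype
  have hcop : Pairwise (Function.onFun IsCoprime
      (fun P : {P : Ideal S // P.IsMaximal} => (P : Ideal S))) := by
    intro P Q hPQ
    have := P.2
    have := Q.2
    exact Ideal.isCoprime_of_isMaximal (fun h => hPQ (Subtype.ext h))
  obtain ⟨e, he⟩ := Ideal.exists_forall_sub_mem_ideal hcop
    (fun P => if v ∈ (P : Ideal S) then 0 else 1)
  have he0 : ∀ P : Ideal S, P.IsMaximal → v ∈ P → e ∈ P := by
    intro P hP hv
    have := he ⟨P, hP⟩
    simpa [hv] using this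
  have he1 : ∀ P : Ideal S, P.IsMaximal → v ∉ P → 1 - e ∈ P := by
    intro P hP hv
    have := he ⟨P, hP⟩
    simp only [hv, if_false] at this
    have h3 : 1 - e = -(e - 1) := by ring
    rw [h3]
    exact P.neg_mem this
  have htop : Ideal.span {e * v + (1 - e) * y, e * w + (1 - e) * u} = (⊤ : Ideal S) := by
    by_contra hne
    obtain ⟨P, hP, hle⟩ := Ideal.exists_le_maximal _ hne
    have hE1 : e * v + (1 - e) * y ∈ P := hle (Ideal.subset_span (by simp))
    have hE2 : e * w + (1 - e) * u ∈ P := hle (Ideal.subset_span (by simp))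
    have hone : (1 : S) ∉ P := fun h => hP.ne_top ((Ideal.eq_top_iff_one _).mpr h)
    by_cases hv : v ∈ P
    · have hein := he0 P hP hv
      have hunot : u ∉ P := by
        intro huP
        have : v - u ∈ P := P.sub_mem hv huP
        exact hP.ne_top (Ideal.eq_top_of_isUnit_mem _ this hu)
      have h3 : (1 - e) * u ∈ P := by
        have : (1 - e) * u = (e * w + (1 - e) * u) - e * w := by ring
        rw [this]
        exact P.sub_mem hE2 (P.mul_mem_right _ hein)
      rcases hP.isPrime.mem_or_mem h3 with h4 | h4
      · apply hone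
        have : (1 : S) = (1 - e) + e := by ring
        rw [this]
        exact P.add_mem h4 hein
      · exact hunot h4
    · have h1e := he1 P hP hv
      have h3 : e * v ∈ P := by
        have : e * v = (e * v + (1 - e) * y) - (1 - e) * y := by ring
        rw [this]
        exact P.sub_mem hE1 (P.mul_mem_right _ h1e)
      rcases hP.isPrime.mem_or_mem h3 with h4 | h4
      · apply hone
        have : (1 : S) = (1 - e) + e := by ring
        rw [this]
        exact P.add_mem h1e h4
      · exact hv h4
  have hone : (1 : S) ∈ Ideal.span {e * v + (1 - e) * y, e * w + (1 - e) * u} := by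
    rw [htop]; trivial
  obtain ⟨lam, mu, hlm⟩ := Ideal.mem_span_pair.mp hone
  refine ⟨e * a + (1 - e) * b, lam * v + mu * w, lam * y + mu * u, ?_, ?_, ?_⟩
  · linear_combination (-a) * hlm + (lam * (1 - e)) * h2 + (mu * (1 - e)) * h1
  · linear_combination (-b) * hlm - (lam * e) * h2 - (mu * e) * h1
  · rw [Ideal.eq_top_iff_one, Ideal.mem_span_pair]
    exact ⟨e, 1 - e, by linear_combination hlm⟩

end Semilocal

section Main

universe u

variable (R : Type u) [CommRing R] [IsLocalRing R]

/-- Every element of the maximal ideal of a one-dimensional Noetherian local ring lies in the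
radical of the ideal generated by a nonzerodivisor. -/
theorem maximalIdeal_le_radical_span (hR : ringKrullDim R = 1) {d : R}
    (hd : d ∈ nonZeroDivisors R) :
    IsLocalRing.maximalIdeal R ≤ (Ideal.span {d}).radical := by
  intro c hc
  rw [Ideal.radical_eq_sInf, Ideal.mem_sInf]
  rintro J ⟨hdJ, hJ⟩
  have h1 : (1 : ℕ∞) ≤ J.height :=
    (Ideal.one_le_height_span_singleton_of_mem_nonZeroDivisors hd).trans (Ideal.height_mono hdJ)
  by_contra hcJ
  have hlt : J < IsLocalRing.maximalIdeal R := by
    refine lt_of_le_of_ne (IsLocalRing.le_maximalIdeal hJ.ne_top) ?_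
    rintro rfl
    exact hcJ hc
  have h2 := Ideal.height_add_one_le_of_lt_of_isPrime hlt
  have h3 : ((IsLocalRing.maximalIdeal R).height : WithBot ℕ∞) = 1 := by
    rw [IsLocalRing.maximalIdeal_height_eq_ringKrullDim, hR]
  have h4 : (IsLocalRing.maximalIdeal R).height = 1 := by exact_mod_cast h3
  rw [h4] at h2
  have h5 : (1 : ℕ∞) + 1 ≤ 1 := (add_le_add_left h1 1).trans h2
  exact absurd h5 (by decide)

/-- A module-finite algebra over a local ring has finitely many maximal ideals. -/
theorem finite_maximal_of_finite (S : Type*) [CommRing S] [Algebra R S] [Module.Finite R S] :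
    {P : Ideal S | P.IsMaximal}.Finite := by
  refine (Algebra.QuasiFinite.finite_primesOver (S := S) (IsLocalRing.maximalIdeal R)).subset ?_
  intro P hP
  have hP' : P.IsMaximal := hP
  have : Algebra.IsIntegral R S := Algebra.IsIntegral.of_finite R S
  have hcm : (P.comap (algebraMap R S)).IsMaximal :=
    Ideal.isMaximal_comap_of_isIntegral_of_isMaximal P
  refine ⟨hP'.isPrime, ⟨?_⟩⟩
  exact (IsLocalRing.eq_maximalIdeal hcm).symm

variable [IsNoetherianRing R]

/-- Core of Stacks 02Q0 for `a` in the maximal ideal: a finite subalgebra of the total ring of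
fractions in which `(a, b)` becomes principal with unimodular cofactors. -/
theorem exists_subalgebra_common_factor (hR : ringKrullDim R = 1) (a b : R)
    (ha : a ∈ nonZeroDivisors R) (ham : a ∈ IsLocalRing.maximalIdeal R) :
    ∃ S : Subalgebra R (FractionRing R), Module.Finite R S ∧
      (∃ n : ℕ, ∀ r ∈ IsLocalRing.maximalIdeal R ^ n, ∀ z : S,
        r • z ∈ (algebraMap R S).range) ∧
      ∃ t a' b' : S, algebraMap R S a = t * a' ∧ algebraMap R S b = t * b' ∧
        Ideal.span {a', b'} = ⊤ := by
  classical
  have : Ring.KrullDimLE 1 R := Ring.krullDimLE_iff.mpr (by rw [hR]; exact_mod_cast le_rfl)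
  set K := FractionRing R with hK
  -- the relation
  obtain ⟨n, hn⟩ : ∃ n : ℕ, Ring.ord R a = n := ENat.ne_top_iff_exists.mp (Ring.ord_ne_top ha) |>.imp
    fun n h => h.symm
  let g : Fin (n + 1) → R := fun l => a ^ (n - (l : ℕ)) * b ^ (l : ℕ)
  have hg0 : a ^ n ∈ Ideal.span (Set.range g) := by
    refine Ideal.subset_span ⟨0, ?_⟩
    simp [g]
  obtain ⟨c, j, hcj, hrel⟩ := exists_unit_relation ha ham n hn.le g n hg0
  -- the fraction x = b / a
  set A : K := algebraMap R K a with hA
  set B : K := algebraMap R K b with hB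
  have hAu : IsUnit A := IsLocalization.map_units K (⟨a, ha⟩ : nonZeroDivisors R)
  set x : K := IsLocalization.mk' K b (⟨a, ha⟩ : nonZeroDivisors R) with hx
  have hxA : x * A = B := IsLocalization.mk'_spec K b (⟨a, ha⟩ : nonZeroDivisors R)
  -- the polynomial
  set P : R[X] := ∑ l : Fin (n + 1), C (c l) * X ^ (l : ℕ) with hP
  have hPcoeff : ∀ k, P.coeff k = if h : k < n + 1 then c ⟨k, h⟩ else 0 := by
    intro k
    rw [hP, finsetSum_coeff]
    simp only [coeff_C_mul, coeff_X_pow]
    split_ifs with h
    · rw [Finset.sum_eq_single (⟨k, h⟩ : Fin (n + 1))]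
      · simp
      · intro l _ hl
        have : k ≠ (l : ℕ) := fun e => hl (Fin.ext e.symm)
        simp [this]
      · intro h'; exact absurd (Finset.mem_univ _) h'
    · apply Finset.sum_eq_zero
      intro l _
      have : k ≠ (l : ℕ) := fun e => h (e ▸ l.2)
      simp [this]
  have hPvan : ∀ k, n < k → P.coeff k = 0 := by
    intro k hk
    rw [hPcoeff, dif_neg (by omega)]
  have hPj : P.coeff (j : ℕ) = c j := by
    rw [hPcoeff, dif_pos j.2]
  have hPx : aeval x P = 0 := by
    have h1 : aeval x P * A ^ n = 0 := by
      rw [hP, map_sum, Finset.sum_mul]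
      have h2 : ∀ l : Fin (n + 1), aeval x (C (c l) * X ^ (l : ℕ)) * A ^ n =
          algebraMap R K (c l * g l) := by
        intro l
        have hpow : A ^ n = A ^ (n - (l : ℕ)) * A ^ (l : ℕ) := by
          rw [← pow_add]; congr 1; have := l.2; omega
        simp only [map_mul, map_pow, aeval_X, aeval_C, g]
        rw [hpow, ← hB, ← hA, ← hxA]
        ring
      rw [Finset.sum_congr rfl fun l _ => h2 l, ← map_sum, hrel, map_zero]
    exact (hAu.pow n).mul_left_eq_zero.mp h1
  -- the ring
  set Nn : Submodule R K := powSpan (R := R) x n with hNn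
  set S : Subalgebra R K := stab Nn with hS
  have hnpos : 0 < n := by
    rcases Nat.eq_zero_or_pos n with h0 | h0
    · exfalso
      rw [h0] at hn
      have : Ring.ord R a = 0 := by exact_mod_cast hn
      rw [Ring.ord, Module.length_eq_zero_iff, Submodule.Quotient.subsingleton_iff] at this
      have h1 : (1 : R) ∈ Ideal.span {a} := by rw [this]; trivial
      exact (IsLocalRing.maximalIdeal.isMaximal R).ne_top
        ((Ideal.eq_top_iff_one _).mpr
          ((Ideal.span_singleton_le_iff_mem _).mpr ham h1))
    · exact h0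
  have h1N : (1 : K) ∈ Nn := by
    have := pow_mem_powSpan (R := R) x hnpos
    rwa [pow_zero] at this
  have hSle : Subalgebra.toSubmodule S ≤ Nn := stab_le_of_one_mem h1N
  have hfinS : Module.Finite R S := by
    have hN : IsNoetherian R Nn := isNoetherian_of_fg_of_noetherian Nn (powSpan_fg x n)
    have : IsNoetherian R (Subalgebra.toSubmodule S) := isNoetherian_of_le hSle
    exact Module.IsNoetherian.finite R (Subalgebra.toSubmodule S)
  -- conductor
  have hcond : ∀ z ∈ Nn, ∃ r : R, algebraMap R K r = A ^ n * z := by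
    intro z hz
    induction hz using Submodule.span_induction with
    | mem z hz =>
      obtain ⟨⟨i, hi⟩, rfl⟩ := hz
      refine ⟨a ^ (n - i) * b ^ i, ?_⟩
      have hpow : A ^ n = A ^ (n - i) * A ^ i := by
        rw [← pow_add]; congr 1; omega
      simp only [map_mul, map_pow]
      rw [hpow, ← hB, ← hA, ← hxA]
      ring
    | zero => exact ⟨0, by simp⟩
    | add z w _ _ hz hw =>
      obtain ⟨r, hr⟩ := hz
      obtain ⟨r', hr'⟩ := hw
      exact ⟨r + r', by rw [map_add, hr, hr', mul_add]⟩
    | smul s z _ hz =>
      obtain ⟨r, hr⟩ := hz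
      exact ⟨s * r, by rw [map_mul, hr, Algebra.smul_def]; ring⟩
  obtain ⟨N', hN'⟩ := Ideal.exists_pow_le_of_le_radical_of_fg
    (maximalIdeal_le_radical_span R hR (pow_mem ha n)) (IsNoetherian.noetherian _)
  refine ⟨S, hfinS, ⟨N', ?_⟩, ?_⟩
  · intro r hr z
    obtain ⟨s, hs⟩ := Ideal.mem_span_singleton'.mp (hN' hr)
    obtain ⟨r', hr'⟩ := hcond z.1 (hSle z.2)
    refine ⟨s * r', ?_⟩
    apply Subtype.ext
    change algebraMap R K (s * r') = r • (z : K)
    rw [map_mul, hr', ← hs, Algebra.smul_def, map_mul, map_pow]
    ring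
  · -- the elements
    set d : ℕ := (j : ℕ) with hd
    have hmem : ∀ m, x * aeval x (divX^[m] P) ∈ S :=
      fun m => mul_aeval_iterate_divX_mem_stab x n P hPvan hPx m
    set wK : K := aeval x (divX^[d + 1] P) with hwK
    set vK : K := aeval x (divX^[d] P) with hvK
    have hv_eq : vK = wK * x + algebraMap R K (c j) := by
      rw [hvK, iterate_divX_succ P d, hPj]
      simp [hwK]
    have hw_eq : wK = aeval x (divX^[d + 2] P) * x + algebraMap R K (P.coeff (d + 1)) := by
      rw [hwK, iterate_divX_succ P (d + 1)]
      simp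
    have huS : x * wK ∈ S := hmem (d + 1)
    have hyS : x * vK ∈ S := hmem d
    have hwS : wK ∈ S := by
      rw [hw_eq]
      refine S.add_mem ?_ (S.algebraMap_mem _)
      rw [mul_comm]
      exact hmem (d + 2)
    have hvS : vK ∈ S := by
      rw [hv_eq]
      refine S.add_mem ?_ (S.algebraMap_mem _)
      rw [mul_comm]
      exact huS
    have hfinmax := finite_maximal_of_finite R S
    obtain ⟨t, a', b', hta, htb, htop⟩ := exists_factor_of_finite_maximal hfinmax
      (algebraMap R S a) (algebraMap R S b) ⟨x * wK, huS⟩ ⟨vK, hvS⟩ ⟨wK, hwS⟩ ⟨x * vK, hyS⟩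
      (by
        apply Subtype.ext
        change A * (x * wK) = B * wK
        rw [← hxA]; ring)
      (by
        apply Subtype.ext
        change A * (x * vK) = B * vK
        rw [← hxA]; ring)
      (by
        have : (⟨vK, hvS⟩ - ⟨x * wK, huS⟩ : S) = algebraMap R S (c j) := by
          apply Subtype.ext
          change vK - x * wK = algebraMap R K (c j)
          rw [hv_eq]; ring
        rw [this]
        exact hcj.map _)
    exact ⟨t, a', b', hta, htb, htop⟩

end Main

end Groth.Agent.Lib.Seat35.FinExt
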