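import Mathlib
import Groth.Agent.Lib.Seat10GluePairD

/-!
# Glueing at finitely many maximal ideals, part A (Seat 9)

`A` a commutative ring, `m : Fin r → Ideal A` pairwise distinct maximal ideals,
`S = ∏ A_{m_i}`, `I = ⨅ m_i`.  Then `A → S` is flat and `A/I → S/IS` is bijective.
-/

set_option autoImplicit false

universe u

open TensorProduct

namespace Groth.Agent.Lib.Seat9.GlueMax

variable {A : Type u} [CommRing A] {r : ℕ} (m : Fin r → Ideal A) [hm : ∀ i, (m i).IsMaximal]

/-- the product of the localizations -/
abbrev SS : Type u := ∀ i, Localization.AtPrime (m i)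

/-- the intersection of the maximal ideals -/
abbrev II : Ideal A := ⨅ i, m i

instance flat_SS : Module.Flat A (SS m) :=
  Module.Flat.of_linearEquiv
    (DirectSum.linearEquivFunOnFintype A (Fin r) (fun i => Localization.AtPrime (m i))).symm

/-- the element of `S` with `x` at `i` and `0` elsewhere -/
noncomputable def single (i : Fin r) (x : Localization.AtPrime (m i)) : SS m :=
  Pi.single i x

omit hm in
theorem II_le (i : Fin r) : II m ≤ m i := iInf_le _ i

theorem pairwise_coprime (hinj : Function.Injective m) :
    Pairwise (Function.onFun IsCoprime m) := by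
  intro i j hij
  rw [Function.onFun, Ideal.isCoprime_iff_sup_eq]
  exact Ideal.IsMaximal.coprime_of_ne (hm i) (hm j) (fun h => hij (hinj h))

/-- for `i`, an element of all the other maximal ideals, not in `m i` -/
theorem exists_sigma (hinj : Function.Injective m) (i : Fin r) :
    ∃ σ : A, σ ∉ m i ∧ ∀ l, l ≠ i → σ ∈ m l := by
  classical
  obtain ⟨σ, hσ⟩ := Ideal.exists_forall_sub_mem_ideal (pairwise_coprime m hinj)
    (fun l => if l = i then (1 : A) else 0)
  refine ⟨σ, ?_, ?_⟩
  · intro h
    have h1 := hσ i
    rw [if_pos rfl] at h1
    have : (1 : A) ∈ m i := by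
      have := (m i).sub_mem h h1
      simpa using this
    exact (hm i).ne_top ((Ideal.eq_top_iff_one _).mpr this)
  · intro l hl
    have h1 := hσ l
    rw [if_neg hl, sub_zero] at h1
    exact h1

theorem mul_sigma_mem (i : Fin r) (σ : A) (hσ : ∀ l, l ≠ i → σ ∈ m l) (y : A) (hy : y ∈ m i) :
    y * σ ∈ II m := by
  rw [Ideal.mem_iInf]
  intro l
  by_cases hl : l = i
  · subst hl
    exact Ideal.mul_mem_right _ _ hy
  · exact Ideal.mul_mem_left _ _ (hσ l hl)

/-- an element of `S` all of whose components lie in the maximal ideals lies in `I S` -/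
theorem mem_map_of_forall_mem (hinj : Function.Injective m) (z : SS m)
    (hz : ∀ i, z i ∈ Ideal.map (algebraMap A (Localization.AtPrime (m i))) (m i)) :
    z ∈ Ideal.map (algebraMap A (SS m)) (II m) := by
  classical
  have hsum : z = ∑ i, single m i (z i) := by
    funext l
    simp [single, Finset.sum_apply, Pi.single_apply]
  rw [hsum]
  refine Ideal.sum_mem _ (fun i _ => ?_)
  obtain ⟨σ, hσ1, hσ2⟩ := exists_sigma m hinj i
  -- `σ` is a unit in `A_{m i}`
  have hunit : IsUnit (algebraMap A (Localization.AtPrime (m i)) σ) :=
    IsLocalization.map_units (Localization.AtPrime (m i)) (⟨σ, hσ1⟩ : (m i).primeCompl)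
  obtain ⟨τ, hτ⟩ := hunit.exists_right_inv
  have key : ∀ x ∈ Ideal.map (algebraMap A (Localization.AtPrime (m i))) (m i),
      single m i x ∈ Ideal.map (algebraMap A (SS m)) (II m) := by
    intro x hx
    rw [Ideal.map] at hx
    induction hx using Submodule.span_induction with
    | mem x hx =>
      obtain ⟨y, hy, rfl⟩ := hx
      have h1 : single m i (algebraMap A (Localization.AtPrime (m i)) y) =
          algebraMap A (SS m) (y * σ) * single m i τ := by
        funext l
        by_cases hl : l = i
        · subst hl
          simp only [single, Pi.single_eq_same, Pi.mul_apply, Pi.algebraMap_apply, map_mul]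
          rw [mul_assoc, hτ, mul_one]
        · simp [single, Pi.single_eq_of_ne hl]
      rw [h1]
      exact Ideal.mul_mem_right _ _ (Ideal.mem_map_of_mem _ (mul_sigma_mem m i σ hσ2 y hy))
    | zero =>
      have : single m i (0 : Localization.AtPrime (m i)) = 0 := by
        funext l
        by_cases hl : l = i
        · subst hl
          simp [single]
        · simp [single, Pi.single_eq_of_ne hl]
      rw [this]
      exact Ideal.zero_mem _
    | add x y _ _ hx hy =>
      have : single m i (x + y) = single m i x + single m i y := by
        funext l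
        by_cases hl : l = i
        · subst hl
          simp [single]
        · simp [single, Pi.single_eq_of_ne hl]
      rw [this]
      exact Ideal.add_mem _ hx hy
    | smul c x _ hx =>
      have : single m i (c • x) = single m i c * single m i x := by
        rw [smul_eq_mul]
        funext l
        by_cases hl : l = i
        · subst hl
          simp [single]
        · simp [single, Pi.single_eq_of_ne hl]
      rw [this]
      exact Ideal.mul_mem_left _ _ hx
  exact key _ (hz i)

/-- components of elements of `I S` lie in `I A_i` -/
theorem apply_mem_of_mem_map (z : SS m) (hz : z ∈ Ideal.map (algebraMap A (SS m)) (II m))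
    (i : Fin r) : z i ∈ Ideal.map (algebraMap A (Localization.AtPrime (m i))) (II m) := by
  have h1 := Ideal.mem_map_of_mem (Pi.evalRingHom (fun i => Localization.AtPrime (m i)) i) hz
  rw [Ideal.map_map] at h1
  exact h1

theorem apply_mem_of_mem_map' (z : SS m) (hz : z ∈ Ideal.map (algebraMap A (SS m)) (II m))
    (i : Fin r) : z i ∈ Ideal.map (algebraMap A (Localization.AtPrime (m i))) (m i) :=
  Ideal.map_mono (II_le m i) (apply_mem_of_mem_map m z hz i)

/-- every element of `A_{m i}` is congruent to an element of `A` modulo the maximal ideal -/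
theorem exists_sub_mem (i : Fin r) (x : Localization.AtPrime (m i)) :
    ∃ b : A, x - algebraMap A _ b ∈ Ideal.map (algebraMap A (Localization.AtPrime (m i))) (m i) := by
  obtain ⟨b, s, rfl⟩ := IsLocalization.exists_mk'_eq (m i).primeCompl x
  have hs : (s : A) ∉ m i := s.2
  obtain ⟨t, u, hu, htu⟩ := Ideal.IsMaximal.exists_inv (hm i) hs
  -- t * s + u = 1, u ∈ m i
  refine ⟨b * t, ?_⟩
  have h1 : IsLocalization.mk' (Localization.AtPrime (m i)) b s - algebraMap A _ (b * t) =
      algebraMap A _ (b * u) * IsLocalization.mk' (Localization.AtPrime (m i)) 1 s := by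
    have e1 : IsLocalization.mk' (Localization.AtPrime (m i)) (1 : A) s *
        algebraMap A (Localization.AtPrime (m i)) (s : A) = 1 := by
      rw [IsLocalization.mk'_spec, map_one]
    have e2 : IsLocalization.mk' (Localization.AtPrime (m i)) b s =
        algebraMap A _ b * IsLocalization.mk' (Localization.AtPrime (m i)) 1 s :=
      IsLocalization.mk'_eq_mul_mk'_one b s
    have e3 : algebraMap A (Localization.AtPrime (m i)) u =
        1 - algebraMap A _ t * algebraMap A _ (s : A) := by
      rw [← map_mul, ← map_one (algebraMap A (Localization.AtPrime (m i))), ← map_sub]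
      congr 1
      rw [← htu]; ring
    rw [e2, map_mul, map_mul, e3]
    calc algebraMap A (Localization.AtPrime (m i)) b *
          IsLocalization.mk' (Localization.AtPrime (m i)) 1 s -
          algebraMap A _ b * algebraMap A _ t
        = algebraMap A (Localization.AtPrime (m i)) b *
          IsLocalization.mk' (Localization.AtPrime (m i)) 1 s -
          algebraMap A _ b * algebraMap A _ t *
          (IsLocalization.mk' (Localization.AtPrime (m i)) (1 : A) s *
            algebraMap A (Localization.AtPrime (m i)) (s : A)) := by rw [e1, mul_one]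
      _ = _ := by ring
  rw [h1]
  exact Ideal.mul_mem_right _ _ (Ideal.mem_map_of_mem _ (Ideal.mul_mem_left _ _ hu))

theorem hq_bijective (hinj : Function.Injective m) :
    Function.Bijective (Ideal.quotientMap ((II m).map (algebraMap A (SS m))) (algebraMap A (SS m))
      Ideal.le_comap_map) := by
  constructor
  · apply Ideal.quotientMap_injective'
    intro a ha
    rw [Ideal.mem_comap] at ha
    rw [Ideal.mem_iInf]
    intro i
    have h1 := apply_mem_of_mem_map' m _ ha i
    rw [Localization.AtPrime.map_eq_maximalIdeal] at h1
    exact (IsLocalization.AtPrime.to_map_mem_maximal_iff (Localization.AtPrime (m i)) (m i) a).mp h1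
  · intro x
    obtain ⟨z, rfl⟩ := Ideal.Quotient.mk_surjective x
    choose b hb using fun i => exists_sub_mem m i (z i)
    obtain ⟨a, ha⟩ := Ideal.exists_forall_sub_mem_ideal (pairwise_coprime m hinj) b
    refine ⟨Ideal.Quotient.mk _ a, ?_⟩
    rw [Ideal.quotientMap_mk, Ideal.Quotient.eq]
    apply mem_map_of_forall_mem m hinj
    intro i
    have h1 : (algebraMap A (SS m) a - z) i =
        algebraMap A (Localization.AtPrime (m i)) (a - b i) - (z i - algebraMap A _ (b i)) := by
      simp only [Pi.sub_apply, Pi.algebraMap_apply, map_sub]
      ring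
    rw [h1]
    exact Ideal.sub_mem _ (Ideal.mem_map_of_mem _ (ha i)) (hb i)

end Groth.Agent.Lib.Seat9.GlueMax
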