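import Mathlib
import Groth.Agent.Lib.Seat10GluePairD

/-!
# Glueing pairs: the glued module as an algebra, and its three basic properties (Seat 9)

Reworks the proof of `Seat10.GluePair.exists_extension_lift` so that the glued module
`extMod` is visible, and shows that it is a subalgebra when `N` is an algebra and `i'` an
algebra map.
-/

set_option autoImplicit false

universe u

open TensorProduct

namespace Groth.Agent.Lib.Seat9.GlueMax

open Groth.Agent.Lib.Seat10.GluePair

section general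

variable (R S : Type u) [CommRing R] [CommRing S] [Algebra R S] [Module.Flat R S] (I : Ideal R)
  (hq : Function.Bijective
    (Ideal.quotientMap (I.map (algebraMap R S)) (algebraMap R S) Ideal.le_comap_map))
  {ι : Type u} [Fintype ι] [DecidableEq ι] (f : ι → R) (hf : Ideal.span (Set.range f) = I)
  (N : Type u) [AddCommGroup N] [Module R N]
  (E' : Type u) [AddCommGroup E'] [Module S E'] [Module R E'] [IsScalarTower R S E']
  (i' : S ⊗[R] N →ₗ[S] E') (hi' : Function.Injective i')

include hq hf hi'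

theorem smul_i' (a : R) (y : S ⊗[R] N) : a • i' y = i' (a • y) := by
  rw [← algebraMap_smul S a (i' y), ← map_smul, algebraMap_smul]

theorem iE_injective : Function.Injective (iE R S f N E' i') := by
  rw [injective_iff_map_eq_zero]
  intro ν hν
  have h1 : i' ((1 : S) ⊗ₜ[R] ν) = 0 :=
    congrArg (fun e : extMod R S f N E' i' => e.1.1) hν
  have h2 : (1 : S) ⊗ₜ[R] ν = 0 := hi' (by rw [h1, map_zero])
  have h3 : ∀ i : ι, LocalizedModule.mkLinearMap (Submonoid.powers (f i)) N ν = 0 :=
    fun i => congrFun (congrArg (fun e : extMod R S f N E' i' => e.1.2) hν) i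
  have h4 : IsTors R I ν := by
    apply isTors_of_forall_exists_pow_smul R I f hf
    intro i
    obtain ⟨⟨c, l, rfl⟩, hc⟩ := (IsLocalizedModule.eq_zero_iff (Submonoid.powers (f i))
      (LocalizedModule.mkLinearMap (Submonoid.powers (f i)) N)).mp (h3 i)
    exact ⟨l, hc⟩
  exact eq_zero_of_tmul_eq_zero R S I hq N ν h4 h2

theorem exists_mem_extMod (e₀ : E') (k : ℕ)
    (hk : ∀ i, f i ^ k • e₀ ∈ LinearMap.range i') :
    ∃ (c : extMod R S f N E' i') (y₀ : S ⊗[R] N), gE R S f N E' i' c = e₀ - i' y₀ := by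
  choose y hy using hk
  have hycoc : ∀ i j, f i ^ k • y j = f j ^ k • y i := by
    intro i j
    apply hi'
    rw [← smul_i' R S I hq f hf N E' i' hi', ← smul_i' R S I hq f hf N E' i' hi', hy, hy,
      smul_comm]
  obtain ⟨n₀, hn₀⟩ := exists_pow_le_span_pow R I f hf k
  obtain ⟨x, y₀, hx, hxy⟩ := exists_tmul_add_smul R S I hq (fun i => f i ^ k) hn₀ N y hycoc
  let pw : ∀ i : ι, Submonoid.powers (f i) := fun i => ⟨f i ^ k, ⟨k, rfl⟩⟩
  let ξ : ∀ i : ι, LocalizedModule (Submonoid.powers (f i)) N :=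
    fun i => LocalizedModule.mk (x i) (pw i)
  have hmem : (e₀ - i' y₀, ξ) ∈ extMod R S f N E' i' := by
    refine ⟨k, x, hx, fun i => ?_, fun i => ?_⟩
    · show f i ^ k • (e₀ - i' y₀) = i' ((1 : S) ⊗ₜ[R] x i)
      rw [smul_sub, ← hy i, hxy i, smul_i' R S I hq f hf N E' i' hi', map_add]
      abel
    · show f i ^ k • LocalizedModule.mk (x i) (pw i) = _
      rw [LocalizedModule.mkLinearMap_apply, LocalizedModule.smul'_mk]
      exact LocalizedModule.mk_cancel (pw i) (x i)
  exact ⟨⟨_, hmem⟩, y₀, rfl⟩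

theorem mem_range_iE (c : extMod R S f N E' i')
    (hc : gE R S f N E' i' c ∈ LinearMap.range i') :
    c ∈ LinearMap.range (iE R S f N E' i') := by
  obtain ⟨⟨e, ξ⟩, n, x, hx1, hx2, hx3⟩ := c
  obtain ⟨y, hy⟩ := hc
  have hy' : i' y = e := hy
  subst hy'
  have h3 : ∀ i : ι, (1 : S) ⊗ₜ[R] x i = f i ^ n • y := by
    intro i
    apply hi'
    rw [← smul_i' R S I hq f hf N E' i' hi']
    exact (hx2 i).symm
  obtain ⟨n₀, hn₀⟩ := exists_pow_le_span_pow R I f hf n
  obtain ⟨ν₀, hν₀⟩ := exists_eq_smul_of_tmul R S I hq (fun i => f i ^ n) hn₀ N x hx1 y h3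
  have h4 : IsTors R I (y - (1 : S) ⊗ₜ[R] ν₀) := by
    apply isTors_of_forall_pow_smul R I f hf _ n
    intro i
    rw [smul_sub, ← h3 i, hν₀ i, TensorProduct.tmul_smul, sub_self]
  have hIfg : I.FG := by
    rw [← hf]
    exact ⟨(Set.finite_range f).toFinset, by rw [Set.Finite.coe_toFinset]⟩
  obtain ⟨ν₁, hν₁, hν₁'⟩ := exists_tmul_eq_of_isTors R S I hq hIfg N _ h4
  refine ⟨ν₀ + ν₁, ?_⟩
  apply Subtype.ext
  refine Prod.ext ?_ ?_
  · show i' ((1 : S) ⊗ₜ[R] (ν₀ + ν₁)) = i' y
    rw [TensorProduct.tmul_add, hν₁']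
    congr 1
    abel
  · funext i
    show LocalizedModule.mkLinearMap (Submonoid.powers (f i)) N (ν₀ + ν₁) = ξ i
    have h5 : LocalizedModule.mkLinearMap (Submonoid.powers (f i)) N ν₁ = 0 := by
      rw [IsLocalizedModule.eq_zero_iff (Submonoid.powers (f i))]
      obtain ⟨l, hl⟩ := hν₁
      exact ⟨⟨f i ^ l, ⟨l, rfl⟩⟩, hl _ (pow_mem_pow R I f hf i l)⟩
    rw [map_add, h5, add_zero]
    apply IsLocalizedModule.smul_injective
      (LocalizedModule.mkLinearMap (Submonoid.powers (f i)) N)
      (⟨f i ^ n, ⟨n, rfl⟩⟩ : Submonoid.powers (f i))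
    show f i ^ n • _ = f i ^ n • ξ i
    rw [hx3 i, ← map_smul, ← hν₀ i]

end general

section alg

variable (R S : Type u) [CommRing R] [CommRing S] [Algebra R S]
  {ι : Type u} (f : ι → R)
  (N : Type u) [CommRing N] [Algebra R N]
  (E' : Type u) [CommRing E'] [Algebra S E'] [Algebra R E'] [IsScalarTower R S E']
  (i'a : S ⊗[R] N →ₐ[S] E')

/-- the glued module as a subalgebra -/
def glueAlg : Subalgebra R (E' × (∀ i, LocalizedModule (Submonoid.powers (f i)) N)) where
  carrier := {p | ∃ n x, IsWit R S f N E' i'a.toLinearMap p n x}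
  zero_mem' := (extMod R S f N E' i'a.toLinearMap).zero_mem
  add_mem' := fun ha hb => (extMod R S f N E' i'a.toLinearMap).add_mem ha hb
  one_mem' := by
    refine ⟨0, fun _ => 1, fun i j => by simp, fun i => ?_, fun i => ?_⟩
    · simp only [pow_zero, one_smul, iotaN_apply, Prod.fst_one]
      rw [← Algebra.TensorProduct.one_def, AlgHom.toLinearMap_apply, map_one]
    · simp only [pow_zero, one_smul, Prod.snd_one, Pi.one_apply,
        LocalizedModule.mkLinearMap_apply]
      exact OreLocalization.one_def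
  mul_mem' := by
    rintro p q ⟨n, x, hx1, hx2, hx3⟩ ⟨k, y, hy1, hy2, hy3⟩
    refine ⟨n + k, fun i => x i * y i, fun i j => ?_, fun i => ?_, fun i => ?_⟩
    · show f i ^ (n + k) • (x j * y j) = f j ^ (n + k) • (x i * y i)
      rw [pow_add, pow_add, ← smul_mul_smul_comm, ← smul_mul_smul_comm, hx1 i j, hy1 i j]
    · show f i ^ (n + k) • (p.1 * q.1) = _
      rw [pow_add, ← smul_mul_smul_comm, hx2 i, hy2 i]
      simp only [iotaN_apply, AlgHom.toLinearMap_apply]
      rw [← map_mul, Algebra.TensorProduct.tmul_mul_tmul, one_mul]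
    · show f i ^ (n + k) • (p.2 i * q.2 i) = _
      rw [pow_add, ← smul_mul_smul_comm, hx3 i, hy3 i]
      simp only [LocalizedModule.mkLinearMap_apply]
      rw [LocalizedModule.mk_mul_mk, one_mul]
  algebraMap_mem' := by
    intro a
    refine ⟨0, fun _ => algebraMap R N a, fun i j => by simp, fun i => ?_, fun i => ?_⟩
    · simp only [pow_zero, one_smul, iotaN_apply, AlgHom.toLinearMap_apply]
      show algebraMap R E' a = _
      rw [Algebra.algebraMap_eq_smul_one (A := N), TensorProduct.tmul_smul,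
        ← Algebra.TensorProduct.one_def, ← algebraMap_smul S a (1 : S ⊗[R] N), map_smul, map_one,
        algebraMap_smul, Algebra.algebraMap_eq_smul_one]
    · simp only [pow_zero, one_smul, LocalizedModule.mkLinearMap_apply]
      rfl

theorem glueAlg_toSubmodule :
    Subalgebra.toSubmodule (glueAlg R S f N E' i'a) = extMod R S f N E' i'a.toLinearMap := rfl

end alg

end Groth.Agent.Lib.Seat9.GlueMax
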