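import Mathlib
import Groth.Agent.Lib.Seat9GlueMaxA
import Groth.Agent.Lib.Seat9GlueMaxB

/-!
# Glueing at finitely many maximal ideals, part C: the concrete data (Seat 9)
-/

set_option autoImplicit false

universe u

open TensorProduct

namespace Groth.Agent.Lib.Seat9.GlueMax

open Groth.Agent.Lib.Seat10.GluePair

variable {A : Type u} [CommRing A] {r : ℕ} (m : Fin r → Ideal A) [hm : ∀ i, (m i).IsMaximal]
  (B : Fin r → Type u) [∀ i, CommRing (B i)] [∀ i, Algebra (Localization.AtPrime (m i)) (B i)]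
  [∀ i, Algebra A (B i)] [∀ i, IsScalarTower A (Localization.AtPrime (m i)) (B i)]

/-- the product map `φ' : ∏ A_i → ∏ B_i` -/
abbrev phi' : SS m →+* (∀ i, B i) := algebraMap (SS m) (∀ i, B i)

omit [∀ i, Algebra A (B i)] [∀ i, IsScalarTower A (Localization.AtPrime (m i)) (B i)] in
@[simp] theorem phi'_apply (s : SS m) (i : Fin r) :
    phi' m B s i = algebraMap (Localization.AtPrime (m i)) (B i) (s i) := rfl

instance towerSE : IsScalarTower A (SS m) (∀ i, B i) :=
  IsScalarTower.of_algebraMap_eq (fun a => by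
    funext i
    exact IsScalarTower.algebraMap_apply A (Localization.AtPrime (m i)) (B i) a)

omit [∀ i, Algebra A (B i)] [∀ i, IsScalarTower A (Localization.AtPrime (m i)) (B i)] in
theorem smul_SE_apply (s : SS m) (e : ∀ i, B i) (i : Fin r) :
    (s • e) i = algebraMap (Localization.AtPrime (m i)) (B i) (s i) * e i := by
  rw [Pi.smul_apply', Algebra.smul_def]

/-- the ideal `J`: torsion elements of `A` dying in `∏ B i` -/
def JJ : Ideal A := torsionSub A (II m) A ⊓ RingHom.ker (algebraMap A (∀ i, B i))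

theorem mem_JJ (a : A) : a ∈ JJ m B ↔ IsTors A (II m) a ∧ algebraMap A (∀ i, B i) a = 0 := by
  rw [JJ, Ideal.mem_inf, RingHom.mem_ker]
  rfl

/-- the algebra map `S ⊗ A/J → ∏ B i` -/
noncomputable def i'a : SS m ⊗[A] (A ⧸ JJ m B) →ₐ[SS m] (∀ i, B i) :=
  Algebra.TensorProduct.lift (Algebra.ofId (SS m) (∀ i, B i))
    (Ideal.Quotient.liftₐ (JJ m B) (Algebra.ofId A (∀ i, B i))
      (fun a ha => ((mem_JJ m B a).mp ha).2))
    (fun _ _ => Commute.all _ _)

theorem i'a_tmul (s : SS m) (a : A) :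
    i'a m B (s ⊗ₜ[A] (Ideal.Quotient.mk (JJ m B) a)) =
      phi' m B s * algebraMap A (∀ i, B i) a := by
  rw [i'a, Algebra.TensorProduct.lift_tmul]
  rfl

theorem i'a_tmul_one (s : SS m) : i'a m B (s ⊗ₜ[A] (1 : A ⧸ JJ m B)) = phi' m B s := by
  rw [← map_one (Ideal.Quotient.mk (JJ m B)), i'a_tmul, map_one, mul_one]

theorem tmul_eq_tmul_one (s : SS m) (a : A) :
    s ⊗ₜ[A] (Ideal.Quotient.mk (JJ m B) a) =
      (a • s) ⊗ₜ[A] (1 : A ⧸ JJ m B) := by
  rw [TensorProduct.smul_tmul, ← Algebra.algebraMap_eq_smul_one]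
  rfl

theorem exists_eq_tmul_one (z : SS m ⊗[A] (A ⧸ JJ m B)) :
    ∃ s : SS m, z = s ⊗ₜ[A] (1 : A ⧸ JJ m B) := by
  induction z using TensorProduct.induction_on with
  | zero => exact ⟨0, by rw [TensorProduct.zero_tmul]⟩
  | tmul s x =>
    obtain ⟨a, rfl⟩ := Ideal.Quotient.mk_surjective x
    exact ⟨a • s, tmul_eq_tmul_one m B s a⟩
  | add x y hx hy =>
    obtain ⟨s, rfl⟩ := hx
    obtain ⟨t, rfl⟩ := hy
    exact ⟨s + t, by rw [TensorProduct.add_tmul]⟩

theorem range_i'a : LinearMap.range (i'a m B).toLinearMap =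
    LinearMap.range (Algebra.linearMap (SS m) (∀ i, B i)) := by
  apply le_antisymm
  · rintro _ ⟨z, rfl⟩
    obtain ⟨s, rfl⟩ := exists_eq_tmul_one m B z
    exact ⟨s, (i'a_tmul_one m B s).symm⟩
  · rintro _ ⟨s, rfl⟩
    exact ⟨s ⊗ₜ 1, i'a_tmul_one m B s⟩

/-- elements of `J S` die in `S ⊗ A/J` -/
theorem tmul_one_eq_zero_of_mem (s : SS m)
    (hs : s ∈ Ideal.map (algebraMap A (SS m)) (JJ m B)) :
    s ⊗ₜ[A] (1 : A ⧸ JJ m B) = 0 := by
  rw [Ideal.map] at hs
  induction hs using Submodule.span_induction with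
  | mem x hx =>
    obtain ⟨j, hj, rfl⟩ := hx
    rw [Algebra.algebraMap_eq_smul_one, TensorProduct.smul_tmul, ← Algebra.algebraMap_eq_smul_one]
    have : algebraMap A (A ⧸ JJ m B) j = 0 := Ideal.Quotient.eq_zero_iff_mem.mpr hj
    rw [this, TensorProduct.tmul_zero]
  | zero => rw [TensorProduct.zero_tmul]
  | add x y _ _ hx hy => rw [TensorProduct.add_tmul, hx, hy, add_zero]
  | smul c x _ hx =>
    have : (c • x) ⊗ₜ[A] (1 : A ⧸ JJ m B) = c • (x ⊗ₜ[A] (1 : A ⧸ JJ m B)) := by
      rw [TensorProduct.smul_tmul']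
    rw [this, hx, smul_zero]

section hyps

variable [IsNoetherianRing A] (hinj : Function.Injective m)
  (hker : ∀ i, ∃ n : ℕ, ∀ x ∈ RingHom.ker (algebraMap (Localization.AtPrime (m i)) (B i)),
    ∀ y ∈ Ideal.map (algebraMap A (Localization.AtPrime (m i))) (m i) ^ n, y * x = 0)

include hinj hker

/-- if `a/1` dies in `B i`, some multiple `t a`, `t ∉ m i`, lies in `J` -/
theorem exists_mul_mem_JJ (i : Fin r) (a : A)
    (ha : algebraMap (Localization.AtPrime (m i)) (B i)
      (algebraMap A (Localization.AtPrime (m i)) a) = 0) :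
    ∃ t : A, t ∉ m i ∧ t * a ∈ JJ m B := by
  classical
  obtain ⟨n, hn⟩ := hker i
  have h1 : ∀ y ∈ (m i) ^ n, ∃ t : (m i).primeCompl, (t : A) * (y * a) = 0 := by
    intro y hy
    have hy' : algebraMap A (Localization.AtPrime (m i)) y ∈
        Ideal.map (algebraMap A (Localization.AtPrime (m i))) (m i) ^ n := by
      rw [← Ideal.map_pow]
      exact Ideal.mem_map_of_mem _ hy
    have h2 := hn _ (RingHom.mem_ker.mpr ha) _ hy'
    rw [← map_mul] at h2
    exact (IsLocalization.map_eq_zero_iff (m i).primeCompl (Localization.AtPrime (m i)) _).mp h2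
  obtain ⟨G, hG⟩ := (isNoetherianRing_iff_ideal_fg A).mp inferInstance ((m i) ^ n)
  have hGmem : ∀ y ∈ G, y ∈ (m i) ^ n := fun y hy => hG ▸ Ideal.subset_span hy
  choose! t ht using h1
  let T : (m i).primeCompl := ∏ y ∈ G, t y
  have hT : ∀ y ∈ (m i) ^ n, (T : A) * (y * a) = 0 := by
    intro y hy
    rw [← hG] at hy
    induction hy using Submodule.span_induction with
    | mem y hy =>
      have hdvd : (t y : A) ∣ (T : A) := by
        have : t y ∣ T := Finset.dvd_prod_of_mem _ hy
        obtain ⟨c, hc⟩ := this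
        exact ⟨c, by rw [hc]; rfl⟩
      obtain ⟨c, hc⟩ := hdvd
      rw [hc, mul_comm (t y : A) c, mul_assoc, ht y (hGmem y hy), mul_zero]
    | zero => simp
    | add x y _ _ hx hy => rw [add_mul, mul_add, hx, hy, add_zero]
    | smul c x _ hx =>
      rw [smul_eq_mul, mul_assoc, mul_left_comm, hx, mul_zero]
  refine ⟨T, T.2, ?_⟩
  rw [mem_JJ]
  constructor
  · refine ⟨n, fun y hy => ?_⟩
    have hy' : y ∈ (m i) ^ n := Ideal.pow_right_mono (II_le m i) n hy
    rw [smul_eq_mul, mul_left_comm]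
    exact hT y hy'
  · funext l
    rw [Pi.algebraMap_apply, Pi.zero_apply,
      IsScalarTower.algebraMap_apply A (Localization.AtPrime (m l)) (B l)]
    by_cases hl : l = i
    · subst hl
      rw [map_mul, map_mul, ha, mul_zero]
    · -- `(T a)/1 = 0` in `A_l`
      have hne : m i ≠ m l := fun h => hl (hinj h).symm
      have hnle : ¬ m i ≤ m l := fun hle => hne ((hm i).eq_of_le (hm l).ne_top hle)
      obtain ⟨y₀, hy₀i, hy₀l⟩ := Set.not_subset.mp hnle
      have h3 := hT (y₀ ^ n) (Ideal.pow_mem_pow hy₀i n)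
      have h4 : algebraMap A (Localization.AtPrime (m l)) ((T : A) * a) = 0 := by
        rw [IsLocalization.map_eq_zero_iff (m l).primeCompl]
        refine ⟨⟨y₀ ^ n, ?_⟩, ?_⟩
        · exact fun h => hy₀l ((hm l).isPrime.mem_of_pow_mem n h)
        · show y₀ ^ n * ((T : A) * a) = 0
          rw [mul_left_comm]
          exact h3
      rw [h4, map_zero]

theorem i'a_injective : Function.Injective (i'a m B) := by
  classical
  rw [injective_iff_map_eq_zero]
  intro z hz
  obtain ⟨s, rfl⟩ := exists_eq_tmul_one m B z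
  rw [i'a_tmul_one] at hz
  apply tmul_one_eq_zero_of_mem
  have hsum : s = ∑ i, single m i (s i) := by
    funext l
    simp [single, Finset.sum_apply]
  rw [hsum]
  refine Ideal.sum_mem _ (fun i _ => ?_)
  obtain ⟨a, t, hat⟩ := IsLocalization.exists_mk'_eq (m i).primeCompl (s i)
  have hsi : algebraMap (Localization.AtPrime (m i)) (B i) (s i) = 0 := by
    have := congrFun hz i
    rwa [phi'_apply] at this
  have ha : algebraMap (Localization.AtPrime (m i)) (B i)
      (algebraMap A (Localization.AtPrime (m i)) a) = 0 := by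
    have h1 : algebraMap A (Localization.AtPrime (m i)) a =
        s i * algebraMap A (Localization.AtPrime (m i)) (t : A) := by
      rw [← hat, IsLocalization.mk'_spec]
    rw [h1, map_mul, hsi, zero_mul]
  obtain ⟨t', ht', hJ⟩ := exists_mul_mem_JJ m B hinj hker i a ha
  have h2 : single m i (s i) = algebraMap A (SS m) (t' * a) *
      single m i (IsLocalization.mk' (Localization.AtPrime (m i)) (1 : A)
        (t * ⟨t', ht'⟩ : (m i).primeCompl)) := by
    funext l
    by_cases hl : l = i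
    · subst hl
      simp only [single, Pi.single_eq_same, Pi.mul_apply, Pi.algebraMap_apply]
      rw [← hat, ← IsLocalization.mk'_eq_mul_mk'_one, IsLocalization.mk'_eq_iff_eq]
      simp only [Submonoid.coe_mul]
      ring_nf
    · simp [single, Pi.single_eq_of_ne hl]
  rw [h2]
  exact Ideal.mul_mem_right _ _ (Ideal.mem_map_of_mem _ hJ)

end hyps

omit [∀ i, Algebra A (B i)] [∀ i, IsScalarTower A (Localization.AtPrime (m i)) (B i)] in
/-- the cokernel hypothesis, uniformly -/
theorem exists_uniform_coker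
    (hcoker : ∀ i, ∃ n : ℕ, ∀ y ∈ Ideal.map (algebraMap A (Localization.AtPrime (m i))) (m i) ^ n,
      ∀ b : B i, y • b ∈ (algebraMap (Localization.AtPrime (m i)) (B i)).range) :
    ∃ n : ℕ, ∀ i, ∀ y ∈ Ideal.map (algebraMap A (Localization.AtPrime (m i))) (m i) ^ n,
      ∀ b : B i, y • b ∈ (algebraMap (Localization.AtPrime (m i)) (B i)).range := by
  choose k hk using hcoker
  refine ⟨Finset.univ.sup k, fun i y hy b => hk i y ?_ b⟩
  exact Ideal.pow_le_pow_right (Finset.le_sup (Finset.mem_univ i)) hy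

end Groth.Agent.Lib.Seat9.GlueMax
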