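import Mathlib
import Groth.Agent.Lib.Seat9GlueMaxC

/-!
# Glueing at finitely many maximal ideals, part D: the glued algebra (Seat 9)
-/

set_option autoImplicit false

universe u

open TensorProduct

namespace Groth.Agent.Lib.Seat9.GlueMax

open Groth.Agent.Lib.Seat10.GluePair

variable {A : Type u} [CommRing A] [IsNoetherianRing A] {r : ℕ} (m : Fin r → Ideal A)
  [hm : ∀ i, (m i).IsMaximal]
  (B : Fin r → Type u) [∀ i, CommRing (B i)] [∀ i, Algebra (Localization.AtPrime (m i)) (B i)]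
  [∀ i, Algebra A (B i)] [∀ i, IsScalarTower A (Localization.AtPrime (m i)) (B i)]

omit hm in
theorem II_fg : (II m).FG := (isNoetherianRing_iff_ideal_fg A).mp inferInstance (II m)

/-- generators of `I` -/
noncomputable def gens : Finset A := (II_fg m).choose

omit hm in
theorem span_gens : Ideal.span (gens m : Set A) = II m := (II_fg m).choose_spec

/-- the index type of the generators -/
abbrev Idx : Type u := ↥(gens m)

/-- the generators as a family -/
def ff : Idx m → A := Subtype.val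

omit hm in
theorem span_range_ff : Ideal.span (Set.range (ff m)) = II m := by
  rw [ff, Subtype.range_coe]
  exact span_gens m

omit hm in
theorem ff_mem (j : Idx m) : ff m j ∈ II m := by
  rw [← span_gens m]
  exact Ideal.subset_span j.2

/-- the glued algebra -/
noncomputable abbrev CC : Subalgebra A ((∀ i, B i) × (∀ j : Idx m, LocalizedModule (Submonoid.powers (ff m j))
    (A ⧸ JJ m B))) :=
  glueAlg A (SS m) (ff m) (A ⧸ JJ m B) (∀ i, B i) (i'a m B)

/-- the map to `∏ B i` -/
noncomputable def gC : CC m B →ₐ[A] (∀ i, B i) :=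
  (AlgHom.fst A _ _).comp (CC m B).val

theorem algebraMap_CC_eq (a : A) :
    ((algebraMap A (CC m B) a : CC m B) : (∀ i, B i) × (∀ j : Idx m,
      LocalizedModule (Submonoid.powers (ff m j)) (A ⧸ JJ m B))) =
    ((iE A (SS m) (ff m) (A ⧸ JJ m B) (∀ i, B i) (i'a m B).toLinearMap
      (Ideal.Quotient.mk (JJ m B) a) : extMod A (SS m) (ff m) (A ⧸ JJ m B) (∀ i, B i)
        (i'a m B).toLinearMap) : (∀ i, B i) × _) := by
  refine Prod.ext ?_ ?_
  · show algebraMap A (∀ i, B i) a = (i'a m B) ((1 : SS m) ⊗ₜ[A] (Ideal.Quotient.mk (JJ m B) a))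
    rw [i'a_tmul, map_one, one_mul]
  · rfl

section facts

variable (hinj : Function.Injective m)
  (hker : ∀ i, ∃ n : ℕ, ∀ x ∈ RingHom.ker (algebraMap (Localization.AtPrime (m i)) (B i)),
    ∀ y ∈ Ideal.map (algebraMap A (Localization.AtPrime (m i))) (m i) ^ n, y * x = 0)

include hinj hker

theorem algebraMap_CC_eq_zero_iff (a : A) : algebraMap A (CC m B) a = 0 ↔ a ∈ JJ m B := by
  classical
  constructor
  · intro h
    have h1 : (iE A (SS m) (ff m) (A ⧸ JJ m B) (∀ i, B i) (i'a m B).toLinearMap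
        (Ideal.Quotient.mk (JJ m B) a)).1 = 0 := by
      have := algebraMap_CC_eq m B a
      rw [h] at this
      exact this.symm
    have h2 : iE A (SS m) (ff m) (A ⧸ JJ m B) (∀ i, B i) (i'a m B).toLinearMap
        (Ideal.Quotient.mk (JJ m B) a) = 0 := Subtype.ext h1
    have h3 := iE_injective A (SS m) (II m) (hq_bijective m hinj) (ff m) (span_range_ff m)
      (A ⧸ JJ m B) (∀ i, B i) (i'a m B).toLinearMap (i'a_injective m B hinj hker)
      (h2.trans (map_zero _).symm)
    exact Ideal.Quotient.eq_zero_iff_mem.mp h3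
  · intro h
    apply Subtype.ext
    rw [algebraMap_CC_eq, Ideal.Quotient.eq_zero_iff_mem.mpr h, map_zero]
    rfl

theorem exists_gC_eq
    (hcoker : ∃ n : ℕ, ∀ i, ∀ y ∈ Ideal.map (algebraMap A (Localization.AtPrime (m i))) (m i) ^ n,
      ∀ b : B i, y • b ∈ (algebraMap (Localization.AtPrime (m i)) (B i)).range)
    (e₀ : ∀ i, B i) : ∃ (c : CC m B) (s : SS m), gC m B c = e₀ - phi' m B s := by
  classical
  obtain ⟨n, hn⟩ := hcoker
  have hk : ∀ j : Idx m, ff m j ^ n • e₀ ∈ LinearMap.range (i'a m B).toLinearMap := by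
    intro j
    rw [range_i'a]
    have h1 : ∀ l, ∃ x : Localization.AtPrime (m l),
        algebraMap (Localization.AtPrime (m l)) (B l) x = (ff m j ^ n • e₀) l := by
      intro l
      have h2 : algebraMap A (Localization.AtPrime (m l)) (ff m j ^ n) ∈
          Ideal.map (algebraMap A (Localization.AtPrime (m l))) (m l) ^ n := by
        rw [← Ideal.map_pow]
        exact Ideal.mem_map_of_mem _ (Ideal.pow_mem_pow (II_le m l (ff_mem m j)) n)
      obtain ⟨x, hx⟩ := hn l _ h2 (e₀ l)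
      refine ⟨x, ?_⟩
      rw [hx, Pi.smul_apply, algebraMap_smul]
    choose s hs using h1
    exact ⟨s, funext hs⟩
  obtain ⟨c, y₀, hc⟩ := exists_mem_extMod A (SS m) (II m) (hq_bijective m hinj) (ff m)
    (span_range_ff m) (A ⧸ JJ m B) (∀ i, B i) (i'a m B).toLinearMap
    (i'a_injective m B hinj hker) e₀ n hk
  have h3 : (i'a m B).toLinearMap y₀ ∈ LinearMap.range (Algebra.linearMap (SS m) (∀ i, B i)) := by
    rw [← range_i'a]
    exact ⟨y₀, rfl⟩
  obtain ⟨s, hs⟩ := h3
  refine ⟨⟨c.1, c.2⟩, s, ?_⟩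
  show gE A (SS m) (ff m) (A ⧸ JJ m B) (∀ i, B i) (i'a m B).toLinearMap c = _
  rw [hc, ← hs]
  rfl

theorem exists_eq_algebraMap (c : CC m B) (hc : ∃ s : SS m, gC m B c = phi' m B s) :
    ∃ a : A, c = algebraMap A (CC m B) a := by
  classical
  obtain ⟨s, hs⟩ := hc
  have h1 : gE A (SS m) (ff m) (A ⧸ JJ m B) (∀ i, B i) (i'a m B).toLinearMap ⟨c.1, c.2⟩ ∈
      LinearMap.range (i'a m B).toLinearMap := by
    rw [range_i'a]
    exact ⟨s, hs.symm⟩
  obtain ⟨ν, hν⟩ := mem_range_iE A (SS m) (II m) (hq_bijective m hinj) (ff m)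
    (span_range_ff m) (A ⧸ JJ m B) (∀ i, B i) (i'a m B).toLinearMap
    (i'a_injective m B hinj hker) ⟨c.1, c.2⟩ h1
  obtain ⟨a, rfl⟩ := Ideal.Quotient.mk_surjective ν
  refine ⟨a, Subtype.ext ?_⟩
  rw [algebraMap_CC_eq, hν]

omit hinj hker in
theorem exists_uniform_JJ : ∃ n : ℕ, ∀ x ∈ JJ m B, ∀ y ∈ (II m) ^ n, y * x = 0 := by
  classical
  obtain ⟨G, hG⟩ := (isNoetherianRing_iff_ideal_fg A).mp inferInstance (JJ m B)
  have h1 : ∀ g ∈ G, ∃ n : ℕ, ∀ y ∈ (II m) ^ n, y * g = 0 := by
    intro g hg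
    have : g ∈ JJ m B := hG ▸ Ideal.subset_span hg
    exact ((mem_JJ m B g).mp this).1
  choose! k hk using h1
  refine ⟨G.sup k, fun x hx y hy => ?_⟩
  rw [← hG] at hx
  induction hx using Submodule.span_induction with
  | mem g hg => exact hk g hg y (Ideal.pow_le_pow_right (Finset.le_sup hg) hy)
  | zero => rw [mul_zero]
  | add a b _ _ ha hb => rw [mul_add, ha, hb, add_zero]
  | smul c a _ ha => rw [smul_eq_mul, mul_left_comm, ha, mul_zero]

theorem ker_torsion : ∃ n : ℕ, ∀ x ∈ RingHom.ker (algebraMap A (CC m B)),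
    ∀ y ∈ (II m) ^ n, y * x = 0 := by
  obtain ⟨n, hn⟩ := exists_uniform_JJ m B
  refine ⟨n, fun x hx y hy => hn x ?_ y hy⟩
  exact (algebraMap_CC_eq_zero_iff m B hinj hker x).mp (RingHom.mem_ker.mp hx)

theorem coker_torsion
    (hcoker : ∃ n : ℕ, ∀ i, ∀ y ∈ Ideal.map (algebraMap A (Localization.AtPrime (m i))) (m i) ^ n,
      ∀ b : B i, y • b ∈ (algebraMap (Localization.AtPrime (m i)) (B i)).range) :
    ∃ n : ℕ, ∀ y ∈ (II m) ^ n, ∀ c : CC m B, y • c ∈ (algebraMap A (CC m B)).range := by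
  obtain ⟨n, hn⟩ := hcoker
  refine ⟨n, fun y hy c => ?_⟩
  have h1 : ∀ l, ∃ x : Localization.AtPrime (m l),
      algebraMap (Localization.AtPrime (m l)) (B l) x = (gC m B (y • c)) l := by
    intro l
    have h2 : algebraMap A (Localization.AtPrime (m l)) y ∈
        Ideal.map (algebraMap A (Localization.AtPrime (m l))) (m l) ^ n := by
      rw [← Ideal.map_pow]
      exact Ideal.mem_map_of_mem _ (Ideal.pow_right_mono (II_le m l) n hy)
    obtain ⟨x, hx⟩ := hn l _ h2 (gC m B c l)
    refine ⟨x, ?_⟩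
    rw [hx, map_smul, Pi.smul_apply, algebraMap_smul]
  choose s hs using h1
  obtain ⟨a, ha⟩ := exists_eq_algebraMap m B hinj hker (y • c) ⟨s, (funext hs).symm⟩
  exact ⟨a, ha.symm⟩

theorem injective_of_injective
    (h : ∀ i, Function.Injective (algebraMap (Localization.AtPrime (m i)) (B i))) :
    Function.Injective (algebraMap A (CC m B)) := by
  rw [injective_iff_map_eq_zero]
  intro a ha
  have haJ := (algebraMap_CC_eq_zero_iff m B hinj hker a).mp ha
  obtain ⟨htors, h0⟩ := (mem_JJ m B a).mp haJ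
  have h1 : algebraMap A (SS m) a = 0 := by
    funext i
    apply h i
    rw [Pi.algebraMap_apply, ← IsScalarTower.algebraMap_apply, Pi.zero_apply, map_zero]
    exact congrFun h0 i
  apply eq_zero_of_tmul_eq_zero A (SS m) (II m) (hq_bijective m hinj) A a htors
  have h2 : (1 : SS m) ⊗ₜ[A] a = (algebraMap A (SS m) a) ⊗ₜ[A] (1 : A) := by
    rw [Algebra.algebraMap_eq_smul_one, TensorProduct.smul_tmul, smul_eq_mul, mul_one]
  rw [h2, h1, TensorProduct.zero_tmul]

theorem surjective_of_surjective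
    (h : ∀ i, Function.Surjective (algebraMap (Localization.AtPrime (m i)) (B i))) :
    Function.Surjective (algebraMap A (CC m B)) := by
  intro c
  have h1 : ∀ l, ∃ x : Localization.AtPrime (m l),
      algebraMap (Localization.AtPrime (m l)) (B l) x = (gC m B c) l := fun l => h l _
  choose s hs using h1
  obtain ⟨a, ha⟩ := exists_eq_algebraMap m B hinj hker c ⟨s, (funext hs).symm⟩
  exact ⟨a, ha.symm⟩

end facts

end Groth.Agent.Lib.Seat9.GlueMax
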