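import Mathlib
import Groth.Agent.Lib.Seat9GlueMaxD

/-!
# Glueing at finitely many maximal ideals, part E: localizations and finiteness (Seat 9)
-/

set_option autoImplicit false

universe u

open TensorProduct

namespace Groth.Agent.Lib.Seat9.GlueMax

open Groth.Agent.Lib.Seat10.GluePair

variable {A : Type u} [CommRing A] [IsNoetherianRing A] {r : ℕ} (m : Fin r → Ideal A)
  [hm : ∀ i, (m i).IsMaximal]
  (B : Fin r → Type u) [∀ i, CommRing (B i)] [∀ i, Algebra (Localization.AtPrime (m i)) (B i)]
  [∀ i, Algebra A (B i)] [∀ i, IsScalarTower A (Localization.AtPrime (m i)) (B i)]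

omit [IsNoetherianRing A] in
/-- every element of `A_{m i}` is congruent to an element of `A` modulo any power of the maximal
ideal -/
theorem exists_sub_mem_pow (i : Fin r) (n : ℕ) (x : Localization.AtPrime (m i)) :
    ∃ b : A, x - algebraMap A _ b ∈
      Ideal.map (algebraMap A (Localization.AtPrime (m i))) (m i) ^ n := by
  obtain ⟨b, s, rfl⟩ := IsLocalization.exists_mk'_eq (m i).primeCompl x
  have hs : (s : A) ∉ m i := s.2
  obtain ⟨t₀, u₀, hu₀, htu₀⟩ := Ideal.IsMaximal.exists_inv (hm i) hs
  have htop : Ideal.span {(s : A)} ⊔ m i = ⊤ := by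
    rw [Ideal.eq_top_iff_one, ← htu₀]
    exact Ideal.add_mem _ (Ideal.mem_sup_left (Ideal.mem_span_singleton'.mpr ⟨t₀, rfl⟩))
      (Ideal.mem_sup_right hu₀)
  have htop' : Ideal.span {(s : A)} ⊔ (m i) ^ n = ⊤ := Ideal.sup_pow_eq_top htop
  have h1' : (1 : A) ∈ Ideal.span {(s : A)} ⊔ (m i) ^ n := by rw [htop']; trivial
  obtain ⟨v, hv, u, hu, htu⟩ := Submodule.mem_sup.mp h1'
  obtain ⟨t, rfl⟩ := Ideal.mem_span_singleton'.mp hv
  refine ⟨b * t, ?_⟩
  have h1 : IsLocalization.mk' (Localization.AtPrime (m i)) b s - algebraMap A _ (b * t) =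
      algebraMap A _ (b * u) * IsLocalization.mk' (Localization.AtPrime (m i)) 1 s := by
    have e1 : IsLocalization.mk' (Localization.AtPrime (m i)) (1 : A) s *
        algebraMap A (Localization.AtPrime (m i)) (s : A) = 1 := by
      rw [IsLocalization.mk'_spec, map_one]
    have e2 : IsLocalization.mk' (Localization.AtPrime (m i)) b s =
        algebraMap A _ b * IsLocalization.mk' (Localization.AtPrime (m i)) 1 s :=
      IsLocalization.mk'_eq_mul_mk'_one b s
    have e3 : algebraMap A (Localization.AtPrime (m i)) u =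
        1 - algebraMap A _ t * algebraMap A _ (s : A) := by
      rw [← map_mul, ← map_one (algebraMap A (Localization.AtPrime (m i))), ← map_sub]
      congr 1
      rw [← htu]; ring
    rw [e2, map_mul, map_mul, e3]
    calc algebraMap A (Localization.AtPrime (m i)) b *
          IsLocalization.mk' (Localization.AtPrime (m i)) 1 s -
          algebraMap A _ b * algebraMap A _ t
        = algebraMap A (Localization.AtPrime (m i)) b *
          IsLocalization.mk' (Localization.AtPrime (m i)) 1 s -
          algebraMap A _ b * algebraMap A _ t *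
          (IsLocalization.mk' (Localization.AtPrime (m i)) (1 : A) s *
            algebraMap A (Localization.AtPrime (m i)) (s : A)) := by rw [e1, mul_one]
      _ = _ := by ring
  rw [h1, ← Ideal.map_pow]
  exact Ideal.mul_mem_right _ _ (Ideal.mem_map_of_mem _ (Ideal.mul_mem_left _ _ hu))

/-- the image of `A_i` in `B i` as an `A`-submodule -/
def PP (i : Fin r) : Submodule A (B i) :=
  LinearMap.range (IsScalarTower.toAlgHom A (Localization.AtPrime (m i)) (B i)).toLinearMap

omit [IsNoetherianRing A] in
theorem mem_PP (i : Fin r) (b : B i) :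
    b ∈ PP m B i ↔ ∃ x, algebraMap (Localization.AtPrime (m i)) (B i) x = b := Iff.rfl

omit [IsNoetherianRing A] in
theorem finite_quot
    (hcoker : ∃ n : ℕ, ∀ i, ∀ y ∈ Ideal.map (algebraMap A (Localization.AtPrime (m i))) (m i) ^ n,
      ∀ b : B i, y • b ∈ (algebraMap (Localization.AtPrime (m i)) (B i)).range)
    (i : Fin r) [Module.Finite (Localization.AtPrime (m i)) (B i)] :
    Module.Finite A (B i ⧸ PP m B i) := by
  classical
  obtain ⟨n, hn⟩ := hcoker
  obtain ⟨G, hG⟩ := (Module.finite_def (R := Localization.AtPrime (m i)) (M := B i)).mp inferInstance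
  let T : Submodule A (B i) := PP m B i ⊔ Submodule.span A (G : Set (B i))
  have hT : ∀ b : B i, b ∈ T := by
    intro b
    have hb : b ∈ Submodule.span (Localization.AtPrime (m i)) (G : Set (B i)) := by
      rw [hG]; trivial
    induction hb using Submodule.span_induction with
    | mem g hg => exact Submodule.mem_sup_right (Submodule.subset_span hg)
    | zero => exact T.zero_mem
    | add x y _ _ hx hy => exact T.add_mem hx hy
    | smul x b _ hb =>
      obtain ⟨a, ha⟩ := exists_sub_mem_pow m i n x
      have h1 : x • b = (x - algebraMap A _ a) • b + a • b := by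
        rw [sub_smul, algebraMap_smul]; abel
      rw [h1]
      refine T.add_mem (Submodule.mem_sup_left ?_) (T.smul_mem a hb)
      obtain ⟨w, hw⟩ := hn i _ ha b
      exact ⟨w, hw⟩
  have htop : (⊤ : Submodule A (B i ⧸ PP m B i)) =
      Submodule.map (PP m B i).mkQ (Submodule.span A (G : Set (B i))) := by
    apply le_antisymm
    · rintro q -
      obtain ⟨b, rfl⟩ := Submodule.mkQ_surjective _ q
      obtain ⟨p, hp, g, hg, rfl⟩ := Submodule.mem_sup.mp (hT b)
      refine ⟨g, hg, ?_⟩
      have hp0 : (PP m B i).mkQ p = 0 := (Submodule.Quotient.mk_eq_zero _).mpr hp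
      rw [map_add, hp0, zero_add]
    · exact le_top
  rw [Module.finite_def, htop]
  exact (Submodule.fg_span (Finset.finite_toSet G)).map _

section finite

variable (hinj : Function.Injective m)
  (hker : ∀ i, ∃ n : ℕ, ∀ x ∈ RingHom.ker (algebraMap (Localization.AtPrime (m i)) (B i)),
    ∀ y ∈ Ideal.map (algebraMap A (Localization.AtPrime (m i))) (m i) ^ n, y * x = 0)

/-- the ambient module of the glued algebra -/
abbrev WW : Type u := (∀ i, B i) × (∀ j : Idx m, LocalizedModule (Submonoid.powers (ff m j))
    (A ⧸ JJ m B))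

/-- the map `W → ∏ B_i / A_i` -/
noncomputable def psiW : WW m B →ₗ[A] (∀ i, B i ⧸ PP m B i) :=
  LinearMap.pi (fun i => (PP m B i).mkQ ∘ₗ (LinearMap.proj i) ∘ₗ
    (LinearMap.fst A (∀ i, B i) (∀ j : Idx m, LocalizedModule (Submonoid.powers (ff m j))
    (A ⧸ JJ m B))))

theorem psiW_apply (w : WW m B) (i : Fin r) :
    psiW m B w i = Submodule.Quotient.mk (w.1 i) := rfl

include hinj hker in
theorem inf_ker_psiW : Subalgebra.toSubmodule (CC m B) ⊓ LinearMap.ker (psiW m B) =
    Submodule.span A {(1 : WW m B)} := by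
  apply le_antisymm
  · rintro c ⟨hcC, hc⟩
    rw [SetLike.mem_coe, LinearMap.mem_ker] at hc
    have h1 : ∀ l, ∃ x : Localization.AtPrime (m l),
        algebraMap (Localization.AtPrime (m l)) (B l) x = (gC m B ⟨c, hcC⟩) l := by
      intro l
      have := congrFun hc l
      rw [psiW_apply, Pi.zero_apply, Submodule.Quotient.mk_eq_zero] at this
      exact this
    choose s hs using h1
    obtain ⟨a, ha⟩ := exists_eq_algebraMap m B hinj hker ⟨c, hcC⟩ ⟨s, (funext hs).symm⟩
    have ha' : c = algebraMap A (WW m B) a := congrArg Subtype.val ha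
    rw [ha', Algebra.algebraMap_eq_smul_one]
    exact Submodule.smul_mem _ _ (Submodule.subset_span rfl)
  · rw [Submodule.span_le, Set.singleton_subset_iff]
    refine ⟨(CC m B).one_mem, ?_⟩
    rw [SetLike.mem_coe, LinearMap.mem_ker]
    funext l
    rw [psiW_apply, Pi.zero_apply, Submodule.Quotient.mk_eq_zero]
    exact (mem_PP m B l _).mpr ⟨1, map_one _⟩

include hinj hker in
theorem finite_CC
    (hcoker : ∃ n : ℕ, ∀ i, ∀ y ∈ Ideal.map (algebraMap A (Localization.AtPrime (m i))) (m i) ^ n,
      ∀ b : B i, y • b ∈ (algebraMap (Localization.AtPrime (m i)) (B i)).range)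
    (hfin : ∀ i, Module.Finite (Localization.AtPrime (m i)) (B i)) :
    Module.Finite A (CC m B) := by
  haveI : ∀ i, Module.Finite A (B i ⧸ PP m B i) := fun i => finite_quot m B hcoker i
  haveI : Module.Finite A (∀ i, B i ⧸ PP m B i) := Module.Finite.pi
  haveI : IsNoetherian A (∀ i, B i ⧸ PP m B i) := isNoetherian_of_isNoetherianRing_of_finite A _
  have hfg : (Subalgebra.toSubmodule (CC m B)).FG := by
    apply Submodule.fg_of_fg_map_of_fg_inf_ker (psiW m B)
    · exact IsNoetherian.noetherian _
    · rw [inf_ker_psiW m B hinj hker]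
      exact Submodule.fg_span (Set.finite_singleton _)
  exact Module.Finite.iff_fg.mpr hfg

end finite

end Groth.Agent.Lib.Seat9.GlueMax
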