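import Mathlib
import Groth.Agent.Lib.Seat9GlueMaxE

/-!
# Glueing at finitely many maximal ideals, part F: the localizations of the glued algebra (Seat 9)
-/

set_option autoImplicit false

universe u

open TensorProduct

namespace Groth.Agent.Lib.Seat9.GlueMax

open Groth.Agent.Lib.Seat10.GluePair

variable {A : Type u} [CommRing A] [IsNoetherianRing A] {r : ℕ} (m : Fin r → Ideal A)
  [hm : ∀ i, (m i).IsMaximal]
  (B : Fin r → Type u) [∀ i, CommRing (B i)] [∀ i, Algebra (Localization.AtPrime (m i)) (B i)]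
  [∀ i, Algebra A (B i)] [∀ i, IsScalarTower A (Localization.AtPrime (m i)) (B i)]

/-- the map `C → B i` -/
noncomputable def psiI (i : Fin r) : CC m B →ₐ[A] B i :=
  (Pi.evalAlgHom A B i).comp (gC m B)

theorem psiI_apply (i : Fin r) (c : CC m B) : psiI m B i c = gC m B c i := rfl

/-- the comparison map `A_i ⊗ C → B i` -/
noncomputable def PhiI (i : Fin r) :
    Localization.AtPrime (m i) ⊗[A] (CC m B) →ₐ[Localization.AtPrime (m i)] B i :=
  Algebra.TensorProduct.lift (Algebra.ofId (Localization.AtPrime (m i)) (B i)) (psiI m B i)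
    (fun _ _ => Commute.all _ _)

theorem PhiI_tmul (i : Fin r) (x : Localization.AtPrime (m i)) (c : CC m B) :
    PhiI m B i (x ⊗ₜ[A] c) = algebraMap _ (B i) x * gC m B c i := by
  rw [PhiI, Algebra.TensorProduct.lift_tmul]
  rfl

section

variable (hinj : Function.Injective m)
  (hker : ∀ i, ∃ n : ℕ, ∀ x ∈ RingHom.ker (algebraMap (Localization.AtPrime (m i)) (B i)),
    ∀ y ∈ Ideal.map (algebraMap A (Localization.AtPrime (m i))) (m i) ^ n, y * x = 0)
  (hcoker : ∃ n : ℕ, ∀ i, ∀ y ∈ Ideal.map (algebraMap A (Localization.AtPrime (m i))) (m i) ^ n,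
      ∀ b : B i, y • b ∈ (algebraMap (Localization.AtPrime (m i)) (B i)).range)

include hinj hker hcoker

theorem PhiI_surjective (i : Fin r) : Function.Surjective (PhiI m B i) := by
  classical
  intro b
  obtain ⟨c, s, hc⟩ := exists_gC_eq m B hinj hker hcoker (Pi.single i b)
  refine ⟨(1 : Localization.AtPrime (m i)) ⊗ₜ[A] c + (s i) ⊗ₜ[A] (1 : CC m B), ?_⟩
  rw [map_add, PhiI_tmul, PhiI_tmul, map_one, one_mul, hc, map_one, Pi.sub_apply,
    Pi.single_eq_same, phi'_apply, Pi.one_apply, mul_one, sub_add_cancel]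

theorem exists_smul_eq_zero (i : Fin r) (c : CC m B) (hc : gC m B c i = 0) :
    ∃ t : A, t ∉ m i ∧ t • c = 0 := by
  classical
  obtain ⟨n, hn⟩ := hcoker
  obtain ⟨σ, hσ1, hσ2⟩ := exists_sigma m hinj i
  have h1 : ∀ l, ∃ x : Localization.AtPrime (m l),
      algebraMap (Localization.AtPrime (m l)) (B l) x = (gC m B (σ ^ n • c)) l := by
    intro l
    by_cases hl : l = i
    · subst hl
      refine ⟨0, ?_⟩
      rw [map_zero, map_smul, Pi.smul_apply, hc, smul_zero]
    · have h2 : algebraMap A (Localization.AtPrime (m l)) (σ ^ n) ∈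
          Ideal.map (algebraMap A (Localization.AtPrime (m l))) (m l) ^ n := by
        rw [← Ideal.map_pow]
        exact Ideal.mem_map_of_mem _ (Ideal.pow_mem_pow (hσ2 l hl) n)
      obtain ⟨x, hx⟩ := hn l _ h2 (gC m B c l)
      refine ⟨x, ?_⟩
      rw [hx, map_smul, Pi.smul_apply, algebraMap_smul]
  choose s hs using h1
  obtain ⟨a, ha⟩ := exists_eq_algebraMap m B hinj hker (σ ^ n • c) ⟨s, (funext hs).symm⟩
  have h3 : algebraMap (Localization.AtPrime (m i)) (B i)
      (algebraMap A (Localization.AtPrime (m i)) a) = 0 := by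
    have h4 : gC m B (σ ^ n • c) i = 0 := by
      rw [map_smul, Pi.smul_apply, hc, smul_zero]
    rw [ha, AlgHom.commutes, Pi.algebraMap_apply,
      IsScalarTower.algebraMap_apply A (Localization.AtPrime (m i)) (B i)] at h4
    exact h4
  obtain ⟨t₂, ht₂, hJ⟩ := exists_mul_mem_JJ m B hinj hker i a h3
  refine ⟨t₂ * σ ^ n, ?_, ?_⟩
  · intro h
    rcases (hm i).isPrime.mem_or_mem h with h | h
    · exact ht₂ h
    · exact hσ1 ((hm i).isPrime.mem_of_pow_mem n h)
  · rw [mul_smul, ha, Algebra.smul_def, ← map_mul]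
    exact (algebraMap_CC_eq_zero_iff m B hinj hker _).mpr hJ

theorem PhiI_injective (i : Fin r) : Function.Injective (PhiI m B i) := by
  rw [injective_iff_map_eq_zero]
  intro z hz
  obtain ⟨⟨c, t⟩, hct⟩ := IsLocalizedModule.surj (m i).primeCompl
    (TensorProduct.mk A (Localization.AtPrime (m i)) (CC m B) 1) z
  have hct' : t • z = (1 : Localization.AtPrime (m i)) ⊗ₜ[A] c := hct
  have h1 : gC m B c i = 0 := by
    have h2 : PhiI m B i (t • z) = 0 := by
      have : t • z = (t : A) • z := rfl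
      rw [this, ← algebraMap_smul (Localization.AtPrime (m i)) (t : A) z, map_smul, hz, smul_zero]
    rw [hct', PhiI_tmul, map_one, one_mul] at h2
    exact h2
  obtain ⟨t', ht', htc⟩ := exists_smul_eq_zero m B hinj hker hcoker i c h1
  have h3 : (1 : Localization.AtPrime (m i)) ⊗ₜ[A] c = 0 := by
    have := (IsLocalizedModule.eq_zero_iff (m i).primeCompl
      (TensorProduct.mk A (Localization.AtPrime (m i)) (CC m B) 1) (m := c)).mpr
      ⟨⟨t', ht'⟩, htc⟩
    exact this
  rw [h3] at hct'
  exact IsLocalizedModule.smul_injective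
    (TensorProduct.mk A (Localization.AtPrime (m i)) (CC m B) 1) t
    (hct'.trans (smul_zero t).symm)

/-- the localization of the glued algebra at `m i` is `B i` -/
noncomputable def equivI (i : Fin r) :
    Localization.AtPrime (m i) ⊗[A] (CC m B) ≃ₐ[Localization.AtPrime (m i)] B i :=
  AlgEquiv.ofBijective (PhiI m B i)
    ⟨PhiI_injective m B hinj hker hcoker i, PhiI_surjective m B hinj hker hcoker i⟩

end

end Groth.Agent.Lib.Seat9.GlueMax
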