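import Mathlib
import Groth.Agent.Lib.Seat14NFlatA

/-!
# A flatness criterion "modulo a regular sequence + at the associated primes" (helper14)

Let `B` be a Noetherian ring, `rs` a sequence in the Jacobson radical which is weakly regular on
`B`, `I = (rs)`, and `E` a finite `B`-module.  If `E / I E` is flat over `B / I` and `E_p` is flat
over `B_p` for every associated prime `p` of `B / I`, then `E` is flat over `B`.
-/

set_option autoImplicit false
universe u v

namespace Groth.Agent.Lib.Seat14.NFlat

open RingTheory.Sequence Pointwise Submodule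

section AssPrime

variable {B : Type u} [CommRing B] [IsNoetherianRing B]

/-- Every associated prime of `N` is contained in an associated prime of `N / a N`, for `a` in the
Jacobson radical regular on the finite module `N`. -/
theorem exists_assPrime_quotSMulTop_ge (N : Type v) [AddCommGroup N] [Module B N]
    [Module.Finite B N] (a : B) (ha : a ∈ (⊥ : Ideal B).jacobson) (hreg : IsSMulRegular N a)
    (q : Ideal B) (hq : q ∈ associatedPrimes B N) :
    ∃ p ∈ associatedPrimes B (QuotSMulTop a N), q ≤ p := by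
  obtain ⟨hqp, x, hx⟩ := (isAssociatedPrime_iff.mp hq)
  have hx0 : x ≠ 0 := by
    rintro rfl
    apply hqp.ne_top
    rw [hx]
    ext r
    simp [mem_colon_singleton]
  -- Krull intersection
  have hkrull : (⨅ i : ℕ, (Ideal.span {a}) ^ i • ⊤ : Submodule B N) = ⊥ :=
    Ideal.iInf_pow_smul_eq_bot_of_le_jacobson _
      ((Ideal.span_singleton_le_iff_mem _).mpr ha)
  have hpow : ∀ i : ℕ, ((Ideal.span {a}) ^ i • ⊤ : Submodule B N) = (a ^ i) • (⊤ : Submodule B N) := by
    intro i
    rw [Ideal.span_singleton_pow, Submodule.ideal_span_singleton_smul]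
  have hex : ∃ i : ℕ, x ∉ ((a ^ i) • (⊤ : Submodule B N)) := by
    by_contra hcon
    push Not at hcon
    apply hx0
    have : x ∈ (⨅ i : ℕ, (Ideal.span {a}) ^ i • ⊤ : Submodule B N) := by
      rw [Submodule.mem_iInf]
      intro i
      rw [hpow]
      exact hcon i
    rw [hkrull] at this
    exact (Submodule.mem_bot B).mp this
  classical
  set s := Nat.find hex with hs
  have hs1 : x ∉ ((a ^ s) • (⊤ : Submodule B N)) := Nat.find_spec hex
  have hs0 : s ≠ 0 := by
    intro h0
    apply hs1
    rw [h0, pow_zero, one_smul]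
    exact Submodule.mem_top
  obtain ⟨t, ht⟩ : ∃ t, s = t + 1 := Nat.exists_eq_succ_of_ne_zero hs0
  have hs2 : x ∈ ((a ^ t) • (⊤ : Submodule B N)) := by
    by_contra hcon
    have := Nat.find_min' hex hcon
    omega
  obtain ⟨y, -, rfl⟩ := (Submodule.mem_smul_pointwise_iff_exists _ _ _).mp hs2
  have hy : y ∉ (a • (⊤ : Submodule B N)) := by
    intro hy
    obtain ⟨y', -, rfl⟩ := (Submodule.mem_smul_pointwise_iff_exists _ _ _).mp hy
    apply hs1
    rw [ht, smul_smul, ← pow_succ]
    exact Submodule.smul_mem_pointwise_smul _ _ _ Submodule.mem_top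
  have hregt : IsSMulRegular N (a ^ t) := hreg.pow t
  set ybar : QuotSMulTop a N := Submodule.Quotient.mk y with hybar
  have hybar0 : ybar ≠ 0 := by
    rw [hybar, Ne, Submodule.Quotient.mk_eq_zero]
    exact hy
  obtain ⟨p, hp, hle⟩ := exists_le_isAssociatedPrime_of_isNoetherianRing B ybar hybar0
  refine ⟨p, hp, le_trans ?_ hle⟩
  intro b hb
  rw [hx, mem_colon_singleton, Submodule.mem_bot] at hb
  rw [mem_colon_singleton, Submodule.mem_bot, hybar, ← Submodule.Quotient.mk_smul,
    Submodule.Quotient.mk_eq_zero]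
  have : b • y = 0 := by
    apply hregt
    show a ^ t • b • y = a ^ t • 0
    rw [smul_zero, smul_comm]
    exact hb
  rw [this]
  exact zero_mem _

/-- List version. -/
theorem exists_assPrime_quot_ofList_ge (rs : List B) (hrs : ∀ r ∈ rs, r ∈ (⊥ : Ideal B).jacobson) :
    ∀ (N : Type v) [AddCommGroup N] [Module B N] [Module.Finite B N], IsWeaklyRegular N rs →
      ∀ q ∈ associatedPrimes B N,
        ∃ p ∈ associatedPrimes B (N ⧸ (Ideal.ofList rs • ⊤ : Submodule B N)), q ≤ p := by
  induction rs with
  | nil =>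
    intro N _ _ _ _ q hq
    refine ⟨q, ?_, le_rfl⟩
    have e : N ≃ₗ[B] (N ⧸ (Ideal.ofList ([] : List B) • ⊤ : Submodule B N)) :=
      (Submodule.quotEquivOfEqBot _ (by rw [Ideal.ofList_nil, Submodule.bot_smul])).symm
    exact (LinearEquiv.isAssociatedPrime_iff e).mp hq
  | cons r rs ih =>
    intro N _ _ _ hreg q hq
    rw [isWeaklyRegular_cons_iff] at hreg
    obtain ⟨p₁, hp₁, hqp₁⟩ := exists_assPrime_quotSMulTop_ge N r
      (hrs r (List.mem_cons_self)) hreg.1 q hq
    obtain ⟨p, hp, hp₁p⟩ := ih (fun r' hr' => hrs r' (List.mem_cons_of_mem _ hr'))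
      (QuotSMulTop r N) hreg.2 p₁ hp₁
    refine ⟨p, ?_, hqp₁.trans hp₁p⟩
    exact (LinearEquiv.isAssociatedPrime_iff
      (Submodule.quotOfListConsSMulTopEquivQuotSMulTopInner N r rs)).mpr hp

end AssPrime

section LocKer

variable {B : Type u} [CommRing B] [IsNoetherianRing B]

/-- If `π : F → E` is surjective with `ker π ≤ I F`, `I ≤ p` and `E_p` is projective, then the
kernel of `π` dies at `p`. -/
theorem exists_smul_eq_zero_of_mem_ker {F E : Type u} [AddCommGroup F] [Module B F]
    [Module.Finite B F] [AddCommGroup E] [Module B E]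
    (π : F →ₗ[B] E) (hπ : Function.Surjective π) (I : Ideal B) (p : Ideal B) [p.IsPrime]
    (hIp : I ≤ p) (hker : LinearMap.ker π ≤ (I • ⊤ : Submodule B F))
    [hproj : Module.Projective (Localization.AtPrime p) (LocalizedModule p.primeCompl E)]
    (c : F) (hc : π c = 0) : ∃ s : B, s ∉ p ∧ s • c = 0 := by
  set S := p.primeCompl with hS
  set Bp := Localization.AtPrime p with hBp
  set πp : LocalizedModule S F →ₗ[Bp] LocalizedModule S E := LocalizedModule.map S π with hπp
  have hπp_surj : Function.Surjective πp := LocalizedModule.map_surjective S π hπ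
  obtain ⟨σ, hσ⟩ := Module.projective_lifting_property πp LinearMap.id hπp_surj
  set pr : LocalizedModule S F →ₗ[Bp] LocalizedModule S F := LinearMap.id - σ ∘ₗ πp with hpr
  set K' := LinearMap.ker πp with hK'
  have hpr_mem : ∀ w, pr w ∈ K' := by
    intro w
    rw [hK', LinearMap.mem_ker, hpr, LinearMap.sub_apply, map_sub, LinearMap.id_apply,
      LinearMap.comp_apply]
    have := LinearMap.congr_fun hσ (πp w)
    rw [LinearMap.comp_apply, LinearMap.id_apply] at this
    rw [this, sub_self]
  have hpr_id : ∀ z ∈ K', pr z = z := by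
    intro z hz
    rw [hK', LinearMap.mem_ker] at hz
    rw [hpr, LinearMap.sub_apply, LinearMap.id_apply, LinearMap.comp_apply, hz, map_zero, sub_zero]
  set Ip : Ideal Bp := I.map (algebraMap B Bp) with hIp'
  -- elements `mk m s` with `m ∈ I F` lie in `Ip • ⊤`
  have hmk1 : ∀ (m : F), m ∈ (I • ⊤ : Submodule B F) →
      LocalizedModule.mkLinearMap S F m ∈ (Ip • ⊤ : Submodule Bp (LocalizedModule S F)) := by
    intro m hm
    refine Submodule.smul_induction_on hm ?_ ?_
    · intro b hb m₀ _
      rw [map_smul, ← algebraMap_smul Bp b]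
      exact Submodule.smul_mem_smul (Ideal.mem_map_of_mem _ hb) Submodule.mem_top
    · intro m₁ m₂ h₁ h₂
      rw [map_add]
      exact add_mem h₁ h₂
  have hmk : ∀ (s : S) (m : F), m ∈ (I • ⊤ : Submodule B F) →
      LocalizedModule.mk m s ∈ (Ip • ⊤ : Submodule Bp (LocalizedModule S F)) := by
    intro s m hm
    have h1 : LocalizedModule.mk m s = (Localization.mk 1 s : Bp) • LocalizedModule.mk m (1 : S) := by
      rw [LocalizedModule.mk_smul_mk, one_smul, mul_one]
    rw [h1]
    exact Submodule.smul_mem _ _ (hmk1 m hm)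
  have hK'le : K' ≤ Ip • K' := by
    intro z hz
    have hz' : z ∈ (Ip • ⊤ : Submodule Bp (LocalizedModule S F)) := by
      induction z using LocalizedModule.induction_on with
      | h m s =>
        rw [hK', LinearMap.mem_ker, hπp, LocalizedModule.map_mk] at hz
        obtain ⟨u, hu⟩ := (IsLocalizedModule.mk'_eq_zero' (LocalizedModule.mkLinearMap S E) s).mp
          (by rw [← IsLocalizedModule.mk_eq_mk']; exact hz)
        have hum : (u : B) • m ∈ LinearMap.ker π := by
          rw [LinearMap.mem_ker, map_smul]; exact hu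
        have h1 : LocalizedModule.mk m s = LocalizedModule.mk ((u : B) • m) (u * s) :=
          (LocalizedModule.mk_cancel_common_left u s m).symm
        rw [h1]
        exact hmk _ _ (hker hum)
    have h2 : pr z ∈ (Ip • ⊤ : Submodule Bp (LocalizedModule S F)).map pr := ⟨z, hz', rfl⟩
    rw [Submodule.map_smul''] at h2
    rw [hpr_id z hz] at h2
    refine Submodule.smul_mono le_rfl ?_ h2
    rintro _ ⟨w, -, rfl⟩
    exact hpr_mem w
  have hK'bot : K' = ⊥ := by
    apply Submodule.eq_bot_of_le_smul_of_le_jacobson_bot Ip K' (IsNoetherian.noetherian K') hK'le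
    rw [IsLocalRing.jacobson_eq_maximalIdeal ⊥ bot_ne_top, ← Localization.AtPrime.map_eq_maximalIdeal]
    exact Ideal.map_mono hIp
  have hc' : LocalizedModule.mk c (1 : S) ∈ K' := by
    rw [hK', LinearMap.mem_ker, hπp, LocalizedModule.map_mk, hc, LocalizedModule.zero_mk]
  rw [hK'bot, Submodule.mem_bot] at hc'
  obtain ⟨u, hu⟩ := (IsLocalizedModule.mk'_eq_zero' (LocalizedModule.mkLinearMap S F) (1 : S)).mp
    (by rw [← IsLocalizedModule.mk_eq_mk']; exact hc')
  exact ⟨u, u.2, hu⟩

end LocKer

section Local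

variable {B : Type u} [CommRing B] [IsNoetherianRing B] [IsLocalRing B]

theorem ofList_le_of_mem_assPrimes {B : Type u} [CommRing B] [IsNoetherianRing B]
    (I : Ideal B) (p : Ideal B)
    (hp : p ∈ associatedPrimes B (B ⧸ (I • ⊤ : Submodule B B))) : I ≤ p := by
  obtain ⟨-, x, hx⟩ := isAssociatedPrime_iff.mp hp
  obtain ⟨x, rfl⟩ := Submodule.Quotient.mk_surjective _ x
  intro b hb
  rw [hx, mem_colon_singleton, Submodule.mem_bot, ← Submodule.Quotient.mk_smul,
    Submodule.Quotient.mk_eq_zero]
  exact Submodule.smul_mem_smul hb Submodule.mem_top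

/-- Local case of the criterion. -/
theorem flat_of_FM_of_assPrimes_local (rs : List B)
    (hrs : ∀ r ∈ rs, r ∈ IsLocalRing.maximalIdeal B) (hreg : IsWeaklyRegular B rs)
    (E : Type u) [AddCommGroup E] [Module B E] [Module.Finite B E]
    (hflat : FM (Ideal.ofList rs) E)
    (hass : ∀ (p : Ideal B) [p.IsPrime],
      p ∈ associatedPrimes B (B ⧸ (Ideal.ofList rs • ⊤ : Submodule B B)) →
        Module.Projective (Localization.AtPrime p) (LocalizedModule p.primeCompl E)) :
    Module.Flat B E := by
  classical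
  set I := Ideal.ofList rs with hI
  have hIm : I ≤ IsLocalRing.maximalIdeal B := Ideal.span_le.mpr (fun r hr => hrs r hr)
  have hIne : I ≠ ⊤ := fun h => (IsLocalRing.maximalIdeal.isMaximal B).ne_top (top_le_iff.mp (h ▸ hIm))
  have hjac : ∀ r ∈ rs, r ∈ (⊥ : Ideal B).jacobson := fun r hr =>
    IsLocalRing.maximalIdeal_le_jacobson ⊥ (hrs r hr)
  have hIjac : I ≤ (⊥ : Ideal B).jacobson := hIm.trans (IsLocalRing.maximalIdeal_le_jacobson ⊥)
  have : Nontrivial (B ⧸ I) := Ideal.Quotient.nontrivial_iff.mpr hIne
  have : IsLocalRing (B ⧸ I) :=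
    IsLocalRing.of_surjective' (Ideal.Quotient.mk I) Ideal.Quotient.mk_surjective
  unfold FM at hflat
  have : Module.Finite (B ⧸ I) (E ⧸ (I • ⊤ : Submodule B E)) :=
    Module.Finite.of_restrictScalars_finite B (B ⧸ I) _
  have : Module.Free (B ⧸ I) (E ⧸ (I • ⊤ : Submodule B E)) := Module.free_of_flat_of_isLocalRing
  set ι := Module.Free.ChooseBasisIndex (B ⧸ I) (E ⧸ (I • ⊤ : Submodule B E)) with hι
  set b := Module.Free.chooseBasis (B ⧸ I) (E ⧸ (I • ⊤ : Submodule B E)) with hb
  have hex : ∀ i : ι, ∃ e : E, Submodule.Quotient.mk e = b i :=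
    fun i => Submodule.Quotient.mk_surjective _ (b i)
  choose e he using hex
  set π : (ι → B) →ₗ[B] E := Fintype.linearCombination B e with hπ
  have hπ_apply : ∀ c : ι → B, π c = ∑ i, c i • e i := fun c => Fintype.linearCombination_apply B e c
  have hmkπ : ∀ c : ι → B, (Submodule.Quotient.mk (π c) : E ⧸ (I • ⊤ : Submodule B E)) =
      ∑ i, (Ideal.Quotient.mk I (c i)) • b i := by
    intro c
    rw [hπ_apply, ← Submodule.mkQ_apply, map_sum]
    refine Finset.sum_congr rfl (fun i _ => ?_)
    rw [map_smul, Submodule.mkQ_apply, he]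
    exact (algebraMap_smul (B ⧸ I) (c i) (b i)).symm
  -- surjectivity
  have hsurj : Function.Surjective π := by
    rw [← LinearMap.range_eq_top, eq_top_iff]
    apply Submodule.le_of_le_smul_of_le_jacobson_bot (Module.Finite.fg_top) hIjac
    intro y _
    have hc : ∀ i : ι, ∃ c : B, Ideal.Quotient.mk I c = b.repr (Submodule.Quotient.mk y) i :=
      fun i => Ideal.Quotient.mk_surjective _
    choose c hc using hc
    have h1 : y - π c ∈ (I • ⊤ : Submodule B E) := by
      rw [← Submodule.Quotient.mk_eq_zero, Submodule.Quotient.mk_sub, hmkπ]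
      simp only [hc]
      rw [b.sum_repr, sub_self]
    have : y = π c + (y - π c) := by abel
    rw [this]
    exact Submodule.add_mem_sup (LinearMap.mem_range_self π c) h1
  -- the kernel is inside `I F`
  have hker : LinearMap.ker π ≤ (I • ⊤ : Submodule B (ι → B)) := by
    intro c hc
    rw [LinearMap.mem_ker] at hc
    have h1 : ∑ i, (Ideal.Quotient.mk I (c i)) • b i = 0 := by
      rw [← hmkπ, hc, Submodule.Quotient.mk_zero]
    have h2 := Fintype.linearIndependent_iff.mp b.linearIndependent _ h1
    have h3 : ∀ i, c i ∈ I := fun i => Ideal.Quotient.eq_zero_iff_mem.mp (h2 i)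
    rw [pi_eq_sum_univ c]
    refine Submodule.sum_mem _ (fun i _ => ?_)
    exact Submodule.smul_mem_smul (h3 i) Submodule.mem_top
  -- the kernel vanishes
  have hinj : Function.Injective π := by
    rw [← LinearMap.ker_eq_bot, LinearMap.ker_eq_bot']
    intro c hc
    by_contra hc0
    obtain ⟨i₀, hi₀⟩ : ∃ i₀, c i₀ ≠ 0 := by
      by_contra hcon
      push Not at hcon
      exact hc0 (funext hcon)
    obtain ⟨q, hq, hqle⟩ := exists_le_isAssociatedPrime_of_isNoetherianRing B (c i₀) hi₀
    obtain ⟨p, hp, hqp⟩ := exists_assPrime_quot_ofList_ge rs hjac B hreg q hq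
    have : p.IsPrime := IsAssociatedPrime.isPrime hp
    have := hass p hp
    obtain ⟨s, hs, hsc⟩ := exists_smul_eq_zero_of_mem_ker π hsurj I p
      (ofList_le_of_mem_assPrimes I p hp) hker c hc
    apply hs
    apply hqp
    apply hqle
    rw [mem_colon_singleton, Submodule.mem_bot]
    have := congrFun hsc i₀
    simpa using this
  have eqv : (ι → B) ≃ₗ[B] E := LinearEquiv.ofBijective π ⟨hinj, hsurj⟩
  exact Module.Flat.of_linearEquiv eqv.symm

end Local

section Global

open TensorProduct

variable {B : Type u} [CommRing B] [IsNoetherianRing B]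

omit [IsNoetherianRing B] in
/-- Base change of `FM` to a localization. -/
theorem FM_localizedModule (S : Submonoid B) (I : Ideal B) (E : Type u) [AddCommGroup E]
    [Module B E] (h : FM I E) :
    FM (I.map (algebraMap B (Localization S))) (LocalizedModule S E) := by
  rw [FM_iff_tensor] at h ⊢
  set B' := Localization S with hB'
  set I' := I.map (algebraMap B B') with hI'
  let φ : B ⧸ I →+* B' ⧸ I' := Ideal.quotientMap I' (algebraMap B B') Ideal.le_comap_map
  let _ : Algebra (B ⧸ I) (B' ⧸ I') := φ.toAlgebra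
  have : IsScalarTower B (B ⧸ I) (B' ⧸ I') := IsScalarTower.of_algebraMap_eq' rfl
  have h1 : Module.Flat (B' ⧸ I') ((B' ⧸ I') ⊗[B ⧸ I] ((B ⧸ I) ⊗[B] E)) := inferInstance
  let e3 := TensorProduct.AlgebraTensorModule.cancelBaseChange B (B ⧸ I) (B' ⧸ I') (B' ⧸ I') E
  let e2 := TensorProduct.AlgebraTensorModule.cancelBaseChange B B' (B' ⧸ I') (B' ⧸ I') E
  let e1 : (B' ⧸ I') ⊗[B'] (LocalizedModule S E) ≃ₗ[B' ⧸ I'] (B' ⧸ I') ⊗[B'] (B' ⊗[B] E) :=
    TensorProduct.AlgebraTensorModule.congr (LinearEquiv.refl (B' ⧸ I') (B' ⧸ I'))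
      (LocalizedModule.equivTensorProduct S E)
  exact (Module.Flat.equiv_iff ((e1.trans e2).trans e3.symm)).mpr h1

/-- Global form of the criterion: `B` Noetherian, `rs` in the Jacobson radical and weakly regular
on `B`, `E` finite with `E / (rs) E` flat over `B / (rs)` and `E_p` flat for the associated primes
`p` of `B / (rs)`.  Then `E` is flat. -/
theorem flat_of_FM_of_assPrimes (rs : List B)
    (hrs : ∀ r ∈ rs, r ∈ (⊥ : Ideal B).jacobson) (hreg : IsWeaklyRegular B rs)
    (E : Type u) [AddCommGroup E] [Module B E] [Module.Finite B E]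
    (hflat : FM (Ideal.ofList rs) E)
    (hass : ∀ (p : Ideal B) [p.IsPrime],
      p ∈ associatedPrimes B (B ⧸ (Ideal.ofList rs • ⊤ : Submodule B B)) →
        Module.Flat (Localization.AtPrime p) (LocalizedModule p.primeCompl E)) :
    Module.Flat B E := by
  apply Module.flat_of_localized_maximal
  intro 𝔪 h𝔪
  set S := 𝔪.primeCompl with hS
  set B' := Localization.AtPrime 𝔪 with hB'
  set E' := LocalizedModule S E with hE'
  set I := Ideal.ofList rs with hI
  suffices hloc : Module.Flat B' E' from Module.Flat.trans B B' E'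
  have hrs' : ∀ r ∈ rs.map (algebraMap B B'), r ∈ IsLocalRing.maximalIdeal B' := by
    intro r' hr'
    obtain ⟨r, hr, rfl⟩ := List.mem_map.mp hr'
    rw [IsLocalization.AtPrime.to_map_mem_maximal_iff B' 𝔪]
    have : (⊥ : Ideal B).jacobson ≤ 𝔪 := sInf_le ⟨bot_le, h𝔪⟩
    exact this (hrs r hr)
  have hreg' : IsWeaklyRegular B' (rs.map (algebraMap B B')) :=
    IsWeaklyRegular.of_flat hreg
  have hIeq : Ideal.ofList (rs.map (algebraMap B B')) = I.map (algebraMap B B') :=
    (Ideal.map_ofList (algebraMap B B') rs).symm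
  refine flat_of_FM_of_assPrimes_local (rs.map (algebraMap B B')) hrs' hreg' E' ?_ ?_
  · rw [hIeq]
    exact FM_localizedModule S I E hflat
  · intro p' hp' hp'ass
    rw [hIeq] at hp'ass
    -- transfer the associated prime to `B`
    set J' : Submodule B' B' :=
      (I • ⊤ : Submodule B B).localized' B' S (Algebra.linearMap B B') with hJ'
    have hJ'eq : J' = ((I.map (algebraMap B B')) • ⊤ : Submodule B' B') := by
      rw [hJ']
      have h1 : (I • ⊤ : Submodule B B) = I := by
        rw [smul_eq_mul, Ideal.mul_top]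
      rw [h1, Ideal.localized'_eq_map, smul_eq_mul, Ideal.mul_top]
    have hp'J : p' ∈ associatedPrimes B' (B' ⧸ J') :=
      (LinearEquiv.isAssociatedPrime_iff (Submodule.quotEquivOfEq _ _ hJ'eq)).mpr hp'ass
    have hcomap : p'.comap (algebraMap B B') ∈
        associatedPrimes B (B ⧸ (I • ⊤ : Submodule B B)) :=
      Module.associatedPrimes.comap_mem_associatedPrimes_of_mem_associatedPrimes_of_isLocalizedModule_of_fg
        S ((I • ⊤ : Submodule B B).toLocalizedQuotient' B' S (Algebra.linearMap B B')) p' hp'J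
        ((isNoetherianRing_iff_ideal_fg B).mp inferInstance _)
    have hprime : (p'.comap (algebraMap B B')).IsPrime := Ideal.comap_isPrime _ _
    have hfl := hass (p'.comap (algebraMap B B')) hcomap
    have hfree : Module.Free (Localization.AtPrime (p'.comap (algebraMap B B')))
        (LocalizedModule (p'.comap (algebraMap B B')).primeCompl E) :=
      Module.free_of_flat_of_isLocalRing
    have hmem : (⟨p'.comap (algebraMap B B'), hprime⟩ : PrimeSpectrum B) ∈ Module.freeLocus B E :=
      Module.mem_freeLocus.mpr hfree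
    have hmem' : (⟨p', hp'⟩ : PrimeSpectrum B') ∈ Module.freeLocus B' E' := by
      have h2 := Module.freeLocus_localization (R := B) (M := E) S
      have h3 : (⟨p', hp'⟩ : PrimeSpectrum (Localization S)) ∈
          PrimeSpectrum.comap (algebraMap B (Localization S)) ⁻¹' Module.freeLocus B E := hmem
      rw [← h2] at h3
      exact h3
    have := Module.mem_freeLocus.mp hmem'
    infer_instance

end Global

end Groth.Agent.Lib.Seat14.NFlat
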