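import Mathlib
import Groth.Agent.Lib.Seat14NFlatC
import Groth.Agent.Lib.Seat14NFlatD

/-!
# Hironaka's criterion for normal flatness, assembled (helper14)

`normallyFlat_iff`: for `A` Noetherian, `rs` in the Jacobson radical weakly regular on `A / R`,
`Q = R + (rs)` and `M` finite: every `R^k M / R^(k+1) M` is flat over `A / R` iff every
`Q^k M / Q^(k+1) M` is flat over `A / Q` and the pieces `R^k M / R^(k+1) M` are flat at the associated
primes of `(A/R) / (rs)`.
-/

set_option autoImplicit false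
universe u

namespace Groth.Agent.Lib.Seat14.NFlat

open RingTheory.Sequence Submodule

variable {A : Type u} [CommRing A]

/-- Transport of flatness along a ring isomorphism and a compatible additive isomorphism. -/
theorem flat_of_ringEquiv_of_addEquiv' {S S' : Type*} [CommRing S] [CommRing S'] (e : S ≃+* S')
    {M M' : Type*} [AddCommGroup M] [Module S M] [AddCommGroup M'] [Module S' M']
    (φ : M ≃+ M') (hφ : ∀ (s : S) (m : M), φ (s • m) = e s • φ m) (h : Module.Flat S M) :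
    Module.Flat S' M' := by
  let _ : Algebra S S' := e.toRingHom.toAlgebra
  let _ : Module S M' := Module.compHom M' e.toRingHom
  have : IsScalarTower S S' M' := ⟨fun s s' m => by
    show (e s * s') • m = e s • (s' • m)
    rw [mul_smul]⟩
  let φ' : M ≃ₗ[S] M' := { φ with map_smul' := fun s m => hφ s m }
  have h1 : Module.Flat S M' := Module.Flat.of_linearEquiv φ'.symm
  have hloc : IsLocalization (⊥ : Submonoid S) S' := by
    apply IsLocalization.of_le_isUnit_of_bijective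
    · rintro _ ⟨x, hx, rfl⟩
      have hx' : x = 1 := Submonoid.mem_bot.mp hx
      subst hx'
      simp
    · exact e.bijective
  exact (Module.flat_iff_of_isLocalization S' (⊥ : Submonoid S) M').mpr h1

/-- From `X / (R + J) X` flat over `A / (R + J)` to `(X / R X) / J̄ (X / R X)` flat over
`(A / R) / J̄`. -/
theorem FM_quotient_ring (R J : Ideal A) (X : Type u) [AddCommGroup X] [Module A X]
    (h : FM (R ⊔ J) X) :
    FM (J.map (Ideal.Quotient.mk R)) (X ⧸ (R • ⊤ : Submodule A X)) := by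
  set Y := X ⧸ (R • ⊤ : Submodule A X) with hY
  set Jbar := J.map (Ideal.Quotient.mk R) with hJbar
  have hkill : ∀ (r : A), r ∈ R → ∀ y : Y, r • y = 0 := by
    intro r hr y
    rw [← algebraMap_smul (A ⧸ R) r y]
    have : algebraMap A (A ⧸ R) r = 0 := Ideal.Quotient.eq_zero_iff_mem.mpr hr
    rw [this, zero_smul]
  have hsub : (Jbar • ⊤ : Submodule (A ⧸ R) Y).restrictScalars A =
      ((R ⊔ J) • ⊤ : Submodule A Y) := by
    apply le_antisymm
    · intro y hy
      rw [Submodule.restrictScalars_mem] at hy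
      refine Submodule.smul_induction_on hy ?_ ?_
      · intro s' hs' y _
        obtain ⟨a, ha, rfl⟩ := (Ideal.mem_map_iff_of_surjective _
          Ideal.Quotient.mk_surjective).mp hs'
        have : (Ideal.Quotient.mk R a) • y = a • y := algebraMap_smul (A ⧸ R) a y
        rw [this]
        exact Submodule.smul_mem_smul (Ideal.mem_sup_right ha) Submodule.mem_top
      · intro y₁ y₂ h₁ h₂
        exact add_mem h₁ h₂
    · rw [Submodule.smul_le]
      intro a ha y _
      rw [Submodule.restrictScalars_mem]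
      obtain ⟨r, hr, s, hs, rfl⟩ := Submodule.mem_sup.mp ha
      rw [add_smul, hkill r hr y, zero_add]
      have : s • y = (Ideal.Quotient.mk R s) • y := (algebraMap_smul (A ⧸ R) s y).symm
      rw [this]
      exact Submodule.smul_mem_smul (Ideal.mem_map_of_mem _ hs) Submodule.mem_top
  -- the additive isomorphism
  let φ₁ : (X ⧸ ((R ⊔ J) • ⊤ : Submodule A X)) ≃ₗ[A] (Y ⧸ ((R ⊔ J) • ⊤ : Submodule A Y)) :=
    (QIso.mkQ (X := X) (I := R) (J := R ⊔ J) le_sup_left).equiv
  let φ₂ : (Y ⧸ ((R ⊔ J) • ⊤ : Submodule A Y)) ≃ₗ[A]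
      (Y ⧸ (Jbar • ⊤ : Submodule (A ⧸ R) Y).restrictScalars A) :=
    Submodule.quotEquivOfEq _ _ hsub.symm
  let φ₃ : (Y ⧸ (Jbar • ⊤ : Submodule (A ⧸ R) Y).restrictScalars A) ≃ₗ[A]
      (Y ⧸ (Jbar • ⊤ : Submodule (A ⧸ R) Y)) :=
    Submodule.Quotient.restrictScalarsEquiv A (Jbar • ⊤ : Submodule (A ⧸ R) Y)
  let φ : (X ⧸ ((R ⊔ J) • ⊤ : Submodule A X)) ≃+ (Y ⧸ (Jbar • ⊤ : Submodule (A ⧸ R) Y)) :=
    ((φ₁.trans φ₂).trans φ₃).toAddEquiv
  have hφ1 : ∀ x : X, φ (Submodule.Quotient.mk x) =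
      Submodule.Quotient.mk (Submodule.Quotient.mk x : Y) := fun x => rfl
  let e : (A ⧸ (R ⊔ J)) ≃+* ((A ⧸ R) ⧸ Jbar) := (DoubleQuot.quotQuotEquivQuotSup R J).symm
  have he : ∀ a : A, e (Ideal.Quotient.mk (R ⊔ J) a) =
      Ideal.Quotient.mk Jbar (Ideal.Quotient.mk R a) := fun a => rfl
  unfold FM at h ⊢
  refine flat_of_ringEquiv_of_addEquiv' e φ ?_ h
  intro s m
  obtain ⟨a, rfl⟩ := Ideal.Quotient.mk_surjective s
  obtain ⟨x, rfl⟩ := Submodule.Quotient.mk_surjective _ m
  rw [he, hφ1]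
  have h1 : (Ideal.Quotient.mk (R ⊔ J) a) • (Submodule.Quotient.mk x :
      X ⧸ ((R ⊔ J) • ⊤ : Submodule A X)) = Submodule.Quotient.mk (a • x) := by
    rw [Submodule.Quotient.mk_smul]
    exact algebraMap_smul (A ⧸ (R ⊔ J)) a _
  rw [h1, hφ1]
  have h2 : (Ideal.Quotient.mk Jbar (Ideal.Quotient.mk R a)) •
      (Submodule.Quotient.mk (Submodule.Quotient.mk x : Y) :
        Y ⧸ (Jbar • ⊤ : Submodule (A ⧸ R) Y)) =
      Submodule.Quotient.mk ((Ideal.Quotient.mk R a) • (Submodule.Quotient.mk x : Y)) := by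
    rw [Submodule.Quotient.mk_smul]
    exact algebraMap_smul ((A ⧸ R) ⧸ Jbar) (Ideal.Quotient.mk R a) _
  rw [h2]
  congr 1

section Main

variable [IsNoetherianRing A]

omit [IsNoetherianRing A] in
theorem mem_jacobson_bot_map (R : Ideal A) (a : A) (ha : a ∈ (⊥ : Ideal A).jacobson) :
    algebraMap A (A ⧸ R) a ∈ (⊥ : Ideal (A ⧸ R)).jacobson := by
  rw [Ideal.mem_jacobson_bot]
  intro y
  obtain ⟨y, rfl⟩ := Ideal.Quotient.mk_surjective y
  have h1 := (Ideal.mem_jacobson_bot.mp ha) y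
  have h2 := h1.map (Ideal.Quotient.mk R)
  simpa using h2

/-- Direction "d ⟹ a", one degree. -/
theorem FM_of_FM_sup_of_assPrimes (R : Ideal A) (rs : List A)
    (hrad : ∀ r ∈ rs, r ∈ (⊥ : Ideal A).jacobson) (hreg : IsWeaklyRegular (A ⧸ R) rs)
    (X : Type u) [AddCommGroup X] [Module A X] [Module.Finite A X]
    (hQ : FM (R ⊔ Ideal.ofList rs) X)
    (hass : ∀ (p : Ideal (A ⧸ R)) [p.IsPrime],
      p ∈ associatedPrimes (A ⧸ R)
        ((A ⧸ R) ⧸ ((Ideal.ofList rs).map (Ideal.Quotient.mk R) • ⊤ : Submodule (A ⧸ R) (A ⧸ R))) →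
        Module.Flat (Localization.AtPrime p)
          (LocalizedModule p.primeCompl (X ⧸ (R • ⊤ : Submodule A X)))) :
    FM R X := by
  unfold FM
  have hfin : Module.Finite (A ⧸ R) (X ⧸ (R • ⊤ : Submodule A X)) :=
    Module.Finite.of_restrictScalars_finite A (A ⧸ R) _
  have hmap : Ideal.ofList (rs.map (algebraMap A (A ⧸ R))) =
      (Ideal.ofList rs).map (Ideal.Quotient.mk R) :=
    (Ideal.map_ofList (algebraMap A (A ⧸ R)) rs).symm
  refine flat_of_FM_of_assPrimes (rs.map (algebraMap A (A ⧸ R))) ?_ ?_ _ ?_ ?_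
  · intro r' hr'
    obtain ⟨r, hr, rfl⟩ := List.mem_map.mp hr'
    exact mem_jacobson_bot_map R r (hrad r hr)
  · exact (isWeaklyRegular_map_algebraMap_iff (A ⧸ R) (A ⧸ R) rs).mpr hreg
  · rw [hmap]
    exact FM_quotient_ring R (Ideal.ofList rs) X hQ
  · intro p hp hpass
    rw [hmap] at hpass
    exact hass p hpass

/-- Hironaka's criterion ("a ⟺ d"). -/
theorem normallyFlat_iff (R : Ideal A) (rs : List A)
    (hrad : ∀ r ∈ rs, r ∈ (⊥ : Ideal A).jacobson) (hreg : IsWeaklyRegular (A ⧸ R) rs)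
    (M : Type u) [AddCommGroup M] [Module A M] [Module.Finite A M] :
    (∀ k : ℕ, FM R ↥(R ^ k • (⊤ : Submodule A M))) ↔
      (∀ k : ℕ, FM (R ⊔ Ideal.ofList rs) ↥((R ⊔ Ideal.ofList rs) ^ k • (⊤ : Submodule A M))) ∧
      ∀ (p : Ideal (A ⧸ R)) [p.IsPrime],
        p ∈ associatedPrimes (A ⧸ R)
          ((A ⧸ R) ⧸ ((Ideal.ofList rs).map (Ideal.Quotient.mk R) • ⊤ :
            Submodule (A ⧸ R) (A ⧸ R))) →
        ∀ k : ℕ, Module.Flat (Localization.AtPrime p)
          (LocalizedModule p.primeCompl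
            (↥(R ^ k • (⊤ : Submodule A M)) ⧸
              (R • (⊤ : Submodule A ↥(R ^ k • (⊤ : Submodule A M)))))) := by
  constructor
  · intro h
    refine ⟨fun k => FM_sup_ofList rs R hreg k (fun j _ => h j) k le_rfl, ?_⟩
    intro p _ _ k
    have : Module.Flat (A ⧸ R) (↥(R ^ k • (⊤ : Submodule A M)) ⧸
        (R • (⊤ : Submodule A ↥(R ^ k • (⊤ : Submodule A M))))) := h k
    infer_instance
  · rintro ⟨hQ, hloc⟩ k
    induction k using Nat.strong_induction_on with
    | _ k ih =>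
      have h1 : FM (R ⊔ Ideal.ofList rs) ↥(R ^ k • (⊤ : Submodule A M)) :=
        FM_pow_of_FM_sup_ofList rs R hreg k ih (hQ k)
      exact FM_of_FM_sup_of_assPrimes R rs hrad hreg _ h1 (fun p _ hp => hloc p hp k)

end Main

end Groth.Agent.Lib.Seat14.NFlat
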