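import Mathlib
import Groth.Prelude.Def_EGA4b

/-!
# Normal flatness localizes (helper14)

`isNormallyFlat_localizedModule`: if `M` is normally flat along `I` then `S⁻¹M` is normally flat
along `I · S⁻¹A`.  Also `isNormallyFlat_quotient_self`: `A ⧸ I` is normally flat along `I`.
-/

set_option autoImplicit false
set_option linter.style.haveILetI false
universe u

namespace Groth.Agent.Lib.Seat14.NFlatLoc

variable {A : Type u} [CommRing A] (S : Submonoid A) (M : Type u) [AddCommGroup M] [Module A M]

/-- elements of `(J · S⁻¹A) · S⁻¹M` are the fractions `p / s` with `p ∈ J M`. -/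
theorem mem_map_smul_top_iff (J : Ideal A) (y : LocalizedModule S M) :
    y ∈ (J.map (algebraMap A (Localization S))) •
        (⊤ : Submodule (Localization S) (LocalizedModule S M)) ↔
      ∃ p ∈ J • (⊤ : Submodule A M), ∃ s : S, y = LocalizedModule.mk p s := by
  constructor
  · intro hy
    refine Submodule.smul_induction_on hy ?_ ?_
    · intro a' ha' m' _
      obtain ⟨⟨⟨a, ha⟩, s⟩, has⟩ := (IsLocalization.mem_map_algebraMap_iff S (Localization S)).mp ha'
      have ha'eq : a' = Localization.mk a s := by
        rw [Localization.mk_eq_mk']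
        exact (IsLocalization.eq_mk'_iff_mul_eq).mpr has
      induction m' using LocalizedModule.induction_on with
      | h m t =>
        refine ⟨a • m, Submodule.smul_mem_smul ha Submodule.mem_top, s * t, ?_⟩
        rw [ha'eq, LocalizedModule.mk_smul_mk]
    · rintro x y ⟨p, hp, s, rfl⟩ ⟨q, hq, t, rfl⟩
      refine ⟨t • p + s • q, ?_, s * t, ?_⟩
      · exact Submodule.add_mem _ (Submodule.smul_mem _ _ hp) (Submodule.smul_mem _ _ hq)
      · rw [LocalizedModule.mk_add_mk]
  · rintro ⟨p, hp, s, rfl⟩
    have h1 : LocalizedModule.mk p (1 : S) ∈ (J.map (algebraMap A (Localization S))) •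
        (⊤ : Submodule (Localization S) (LocalizedModule S M)) := by
      refine Submodule.smul_induction_on hp ?_ ?_
      · intro a ha m _
        have : LocalizedModule.mk (a • m) (1 : S) =
            algebraMap A (Localization S) a • LocalizedModule.mk m (1 : S) := by
          rw [algebraMap_smul, LocalizedModule.smul'_mk]
        rw [this]
        exact Submodule.smul_mem_smul (Ideal.mem_map_of_mem _ ha) Submodule.mem_top
      · intro x y hx hy
        have : LocalizedModule.mk (x + y) (1 : S) =
            LocalizedModule.mk x (1 : S) + LocalizedModule.mk y (1 : S) := by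
          rw [LocalizedModule.mk_add_mk]
          simp
        rw [this]
        exact Submodule.add_mem _ hx hy
    have h2 : LocalizedModule.mk p s =
        Localization.mk (1 : A) s • LocalizedModule.mk p (1 : S) := by
      rw [LocalizedModule.mk_smul_mk, one_smul, mul_one]
    rw [h2]
    exact Submodule.smul_mem _ _ h1

section main

variable (I : Ideal A)

theorem mem_piece_iff {B : Type u} [CommRing B] (K : Ideal B) {N : Type u} [AddCommGroup N]
    [Module B N] (n : ℕ) (x : ↥(K ^ n • (⊤ : Submodule B N))) :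
    x ∈ K • (⊤ : Submodule B ↥(K ^ n • (⊤ : Submodule B N))) ↔
      (x : N) ∈ K ^ (n + 1) • (⊤ : Submodule B N) := by
  rw [Submodule.mem_smul_top_iff, ← Submodule.mul_smul, ← pow_succ']

/-- fractions in `(I S⁻¹A)^n S⁻¹M` -/
theorem mem_pow_iff (n : ℕ) (y : LocalizedModule S M) :
    y ∈ (I.map (algebraMap A (Localization S))) ^ n •
        (⊤ : Submodule (Localization S) (LocalizedModule S M)) ↔
      ∃ p ∈ I ^ n • (⊤ : Submodule A M), ∃ s : S, y = LocalizedModule.mk p s := by
  rw [← Ideal.map_pow, mem_map_smul_top_iff]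

/-- the localization map on the `n`-th power pieces -/
noncomputable def toPiece (n : ℕ) :
    ↥(I ^ n • (⊤ : Submodule A M)) →ₗ[A]
      ↥((I.map (algebraMap A (Localization S))) ^ n •
        (⊤ : Submodule (Localization S) (LocalizedModule S M))) where
  toFun x := ⟨LocalizedModule.mkLinearMap S M x.1, by
    rw [mem_pow_iff, LocalizedModule.mkLinearMap_apply]
    exact ⟨x.1, x.2, 1, rfl⟩⟩
  map_add' x y := by
    apply Subtype.ext
    simp
  map_smul' a x := by
    apply Subtype.ext
    simp

theorem toPiece_coe (n : ℕ) (x : ↥(I ^ n • (⊤ : Submodule A M))) :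
    ((toPiece S M I n x : ↥((I.map (algebraMap A (Localization S))) ^ n •
        (⊤ : Submodule (Localization S) (LocalizedModule S M)))) : LocalizedModule S M) =
      LocalizedModule.mk x.1 1 := rfl

theorem toPiece_mem_iff (n : ℕ) (x : ↥(I ^ n • (⊤ : Submodule A M))) :
    toPiece S M I n x ∈ (I.map (algebraMap A (Localization S))) •
        (⊤ : Submodule (Localization S) ↥((I.map (algebraMap A (Localization S))) ^ n •
          (⊤ : Submodule (Localization S) (LocalizedModule S M)))) ↔
      ∃ c : S, c • x ∈ I • (⊤ : Submodule A ↥(I ^ n • (⊤ : Submodule A M))) := by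
  rw [mem_piece_iff, toPiece_coe, mem_pow_iff]
  constructor
  · rintro ⟨q, hq, t, hqt⟩
    obtain ⟨u, hu⟩ := LocalizedModule.mk_eq.mp hqt
    refine ⟨u * t, ?_⟩
    rw [mem_piece_iff]
    have : ((u * t) • x : ↥(I ^ n • (⊤ : Submodule A M))).1 = u • q := by
      rw [one_smul] at hu
      rw [← hu, mul_smul]
      rfl
    rw [this]
    exact Submodule.smul_mem _ _ hq
  · rintro ⟨c, hc⟩
    rw [mem_piece_iff] at hc
    refine ⟨_, hc, c, ?_⟩
    rw [LocalizedModule.mk_eq]
    exact ⟨1, by simp [Submonoid.smul_def]⟩

/-- the `n`-th graded piece in the form of `EGA4.IsNormallyFlat` -/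
abbrev Gr {B : Type u} [CommRing B] (K : Ideal B) (N : Type u) [AddCommGroup N] [Module B N]
    (n : ℕ) : Type u :=
  ↥(K ^ n • (⊤ : Submodule B N)) ⧸ (K • (⊤ : Submodule B ↥(K ^ n • (⊤ : Submodule B N))))

/-- the localization map on graded pieces -/
noncomputable def grMap (n : ℕ) :
    Gr I M n →ₗ[A] Gr (I.map (algebraMap A (Localization S))) (LocalizedModule S M) n :=
  Submodule.liftQ _
    (((I.map (algebraMap A (Localization S))) •
        (⊤ : Submodule (Localization S) ↥((I.map (algebraMap A (Localization S))) ^ n •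
          (⊤ : Submodule (Localization S) (LocalizedModule S M))))).mkQ.restrictScalars A ∘ₗ
      toPiece S M I n)
    (by
      intro x hx
      rw [LinearMap.mem_ker, LinearMap.comp_apply, LinearMap.restrictScalars_apply,
        Submodule.mkQ_apply, Submodule.Quotient.mk_eq_zero, toPiece_mem_iff]
      exact ⟨1, by simpa using hx⟩)

theorem grMap_mk (n : ℕ) (x : ↥(I ^ n • (⊤ : Submodule A M))) :
    grMap S M I n (Submodule.Quotient.mk x) = Submodule.Quotient.mk (toPiece S M I n x) := rfl

instance grMap_isLocalizedModule (n : ℕ) : IsLocalizedModule S (grMap S M I n) where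
  map_units s := by
    haveI := isLocalizedModule_id S
      (Gr (I.map (algebraMap A (Localization S))) (LocalizedModule S M) n) (Localization S)
    exact IsLocalizedModule.map_units (S := S) (LinearMap.id (R := A)
      (M := Gr (I.map (algebraMap A (Localization S))) (LocalizedModule S M) n)) s
  surj y := by
    obtain ⟨p', rfl⟩ := Submodule.Quotient.mk_surjective _ y
    obtain ⟨p, hp, s, hps⟩ := (mem_pow_iff S M I n p'.1).mp p'.2
    refine ⟨⟨Submodule.Quotient.mk ⟨p, hp⟩, s⟩, ?_⟩
    rw [grMap_mk, ← Submodule.Quotient.mk_smul]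
    congr 1
    apply Subtype.ext
    show s • (p' : LocalizedModule S M) = LocalizedModule.mk p 1
    rw [hps, Submonoid.smul_def, LocalizedModule.smul'_mk, ← Submonoid.smul_def,
      LocalizedModule.mk_cancel]
  exists_of_eq {x₁ x₂} h := by
    obtain ⟨p₁, rfl⟩ := Submodule.Quotient.mk_surjective _ x₁
    obtain ⟨p₂, rfl⟩ := Submodule.Quotient.mk_surjective _ x₂
    rw [grMap_mk, grMap_mk, Submodule.Quotient.eq, ← map_sub, toPiece_mem_iff] at h
    obtain ⟨c, hc⟩ := h
    refine ⟨c, ?_⟩
    rw [← Submodule.Quotient.mk_smul, ← Submodule.Quotient.mk_smul, Submodule.Quotient.eq,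
      ← smul_sub]
    exact hc

/-- **Normal flatness localizes.** -/
theorem isNormallyFlat_localizedModule (h : EGA4.IsNormallyFlat I M) :
    EGA4.IsNormallyFlat (I.map (algebraMap A (Localization S))) (LocalizedModule S M) := by
  intro n
  letI : Module (A ⧸ I) (Gr (I.map (algebraMap A (Localization S))) (LocalizedModule S M) n) :=
    Module.compHom _ (algebraMap (A ⧸ I) (Localization S ⧸ I.map (algebraMap A (Localization S))))
  haveI : IsScalarTower (A ⧸ I) (Localization S ⧸ I.map (algebraMap A (Localization S)))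
      (Gr (I.map (algebraMap A (Localization S))) (LocalizedModule S M) n) :=
    IsScalarTower.of_algebraMap_smul fun r x => rfl
  haveI : IsScalarTower A (A ⧸ I) (Gr I M n) :=
    Module.IsTorsionBySet.isScalarTower (Module.isTorsionBySet_quotient_ideal_smul _ I)
  haveI : IsScalarTower A (A ⧸ I)
      (Gr (I.map (algebraMap A (Localization S))) (LocalizedModule S M) n) := by
    refine ⟨fun a b x => ?_⟩
    obtain ⟨b, rfl⟩ := Ideal.Quotient.mk_surjective b
    obtain ⟨x, rfl⟩ := Submodule.Quotient.mk_surjective
      ((I.map (algebraMap A (Localization S))) •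
        (⊤ : Submodule (Localization S) ↥((I.map (algebraMap A (Localization S))) ^ n •
          (⊤ : Submodule (Localization S) (LocalizedModule S M))))) x
    show (algebraMap (A ⧸ I) (Localization S ⧸ I.map (algebraMap A (Localization S)))
        (a • Ideal.Quotient.mk I b)) • (Submodule.Quotient.mk x :
          Gr (I.map (algebraMap A (Localization S))) (LocalizedModule S M) n) =
      a • ((algebraMap (A ⧸ I) (Localization S ⧸ I.map (algebraMap A (Localization S)))
        (Ideal.Quotient.mk I b)) • (Submodule.Quotient.mk x :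
          Gr (I.map (algebraMap A (Localization S))) (LocalizedModule S M) n))
    have hab : a • Ideal.Quotient.mk I b = Ideal.Quotient.mk I (a * b) := rfl
    rw [hab, Ideal.Quotient.algebraMap_quotient_map_quotient,
      Ideal.Quotient.algebraMap_quotient_map_quotient, Module.Quotient.mk_smul_mk,
      Module.Quotient.mk_smul_mk, ← Submodule.Quotient.mk_smul, map_mul, mul_smul, algebraMap_smul]
  let φ : Gr I M n →ₗ[A ⧸ I] Gr (I.map (algebraMap A (Localization S))) (LocalizedModule S M) n :=
    LinearMap.extendScalarsOfSurjective Ideal.Quotient.mk_surjective (grMap S M I n)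
  haveI : IsLocalizedModule S (φ.restrictScalars A) := by
    show IsLocalizedModule S (grMap S M I n)
    infer_instance
  haveI := IsLocalizedModule.of_restrictScalars S φ
  haveI := h n
  exact Module.Flat.of_isLocalizedModule (Localization S ⧸ I.map (algebraMap A (Localization S)))
    (Algebra.algebraMapSubmonoid (A ⧸ I) S) φ

theorem pow_smul_top_quotient_self {n : ℕ} (hn : n ≠ 0) :
    I ^ n • (⊤ : Submodule A (A ⧸ I)) = ⊥ := by
  rw [eq_bot_iff]
  refine (Submodule.smul_mono_left (Ideal.pow_le_self hn)).trans ?_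
  rw [Submodule.smul_le]
  intro a ha x _
  obtain ⟨x, rfl⟩ := Ideal.Quotient.mk_surjective x
  rw [Submodule.mem_bot]
  show Ideal.Quotient.mk I (a * x) = 0
  exact Ideal.Quotient.eq_zero_iff_mem.mpr (I.mul_mem_right _ ha)

/-- `A ⧸ I` is normally flat along `I`. -/
theorem isNormallyFlat_quotient_self : EGA4.IsNormallyFlat I (A ⧸ I) := by
  intro n
  rcases Nat.eq_zero_or_pos n with rfl | hn
  · haveI : IsScalarTower A (A ⧸ I) (Gr I (A ⧸ I) 0) :=
      Module.IsTorsionBySet.isScalarTower (Module.isTorsionBySet_quotient_ideal_smul _ I)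
    have hmem : ∀ b : A ⧸ I, b ∈ I ^ 0 • (⊤ : Submodule A (A ⧸ I)) := by
      intro b
      rw [pow_zero, Ideal.one_eq_top, Submodule.top_smul]
      trivial
    let ψ₀ : (A ⧸ I) →ₗ[A] Gr I (A ⧸ I) 0 :=
      (Submodule.mkQ _) ∘ₗ
        (LinearMap.codRestrict (I ^ 0 • (⊤ : Submodule A (A ⧸ I))) LinearMap.id hmem)
    let ψ : (A ⧸ I) →ₗ[A ⧸ I] Gr I (A ⧸ I) 0 :=
      LinearMap.extendScalarsOfSurjective Ideal.Quotient.mk_surjective ψ₀
    have hinj : Function.Injective ψ := by
      rw [← LinearMap.ker_eq_bot, LinearMap.ker_eq_bot']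
      intro b hb
      have h1 : (⟨b, hmem b⟩ : ↥(I ^ 0 • (⊤ : Submodule A (A ⧸ I)))) ∈
          I • (⊤ : Submodule A ↥(I ^ 0 • (⊤ : Submodule A (A ⧸ I)))) :=
        (Submodule.Quotient.mk_eq_zero _).mp hb
      rw [mem_piece_iff, pow_smul_top_quotient_self I (by omega)] at h1
      exact h1
    have hsurj : Function.Surjective ψ := by
      intro y
      obtain ⟨⟨b, hb⟩, rfl⟩ := Submodule.Quotient.mk_surjective _ y
      exact ⟨b, rfl⟩
    exact Module.Flat.of_linearEquiv (LinearEquiv.ofBijective ψ ⟨hinj, hsurj⟩).symm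
  · haveI : Subsingleton ↥(I ^ n • (⊤ : Submodule A (A ⧸ I))) := by
      rw [pow_smul_top_quotient_self I hn.ne']
      infer_instance
    haveI : Subsingleton (Gr I (A ⧸ I) n) := Quotient.instSubsingletonQuotient _
    infer_instance

end main

end Groth.Agent.Lib.Seat14.NFlatLoc
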