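import Mathlib
import Groth.Prelude.Def_EGA4b
import Groth.Agent.Lib.Helper5NormFlatDepth
import Groth.Agent.Lib.Seat14NFlatLoc

/-!
# Dimension and depth of localizations of normally flat modules along a nilpotent ideal (helper14)
-/

set_option autoImplicit false
set_option linter.style.haveILetI false
universe u

namespace Groth.Agent.Lib.Seat14.NFlatSk

open Groth.Agent.Lib.Seat14.NFlatLoc

variable {A : Type u} [CommRing A]

/-- full support localizes -/
theorem support_localizedModule_eq_univ (S : Submonoid A) (M : Type u) [AddCommGroup M]
    [Module A M] (h : Module.support A M = Set.univ) :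
    Module.support (Localization S) (LocalizedModule S M) = Set.univ := by
  rw [Set.eq_univ_iff_forall]
  intro q'
  have hq : PrimeSpectrum.comap (algebraMap A (Localization S)) q' ∈ Module.support A M := by
    rw [h]; trivial
  rw [Module.mem_support_iff'] at hq ⊢
  obtain ⟨m, hm⟩ := hq
  refine ⟨LocalizedModule.mk m 1, ?_⟩
  intro r' hr' h0
  induction r' using Localization.induction_on with
  | H x =>
    obtain ⟨a, s⟩ := x
    rw [LocalizedModule.mk_smul_mk, ← LocalizedModule.zero_mk (s * 1),
      LocalizedModule.mk_eq] at h0
    obtain ⟨u, hu⟩ := h0
    rw [smul_zero, smul_zero] at hu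
    have hu' : ((u : A) * ((s * 1 : S) : A) * a) • m = 0 := by
      rw [mul_smul, mul_smul]
      exact hu
    refine hm _ ?_ hu'
    have hunit : ∀ t : S, (t : A) ∉ (PrimeSpectrum.comap (algebraMap A (Localization S)) q').asIdeal := by
      intro t ht
      exact q'.2.ne_top (Ideal.eq_top_of_isUnit_mem _ ht (IsLocalization.map_units _ t))
    have ha : a ∉ (PrimeSpectrum.comap (algebraMap A (Localization S)) q').asIdeal := by
      intro ha
      apply hr'
      have : Localization.mk a s = Localization.mk 1 s * algebraMap A (Localization S) a := by
        rw [← Localization.mk_one_eq_algebraMap, Localization.mk_mul, one_mul, mul_one]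
      rw [this]
      exact q'.asIdeal.mul_mem_left _ ha
    intro hmem
    rcases (PrimeSpectrum.comap (algebraMap A (Localization S)) q').2.mem_or_mem hmem with h1 | h1
    · rcases (PrimeSpectrum.comap (algebraMap A (Localization S)) q').2.mem_or_mem h1 with h2 | h2
      · exact hunit u h2
      · exact hunit (s * 1) h2
    · exact ha h1

theorem isNilpotent_map {I : Ideal A} (hI : IsNilpotent I) (S : Submonoid A) :
    IsNilpotent (I.map (algebraMap A (Localization S))) := by
  obtain ⟨k, hk⟩ := hI
  exact ⟨k, by rw [← Ideal.map_pow, hk, Ideal.zero_eq_bot, Ideal.map_bot]; rfl⟩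

variable [IsNoetherianRing A]

/-- Two finite modules with full support, both normally flat along the same nilpotent ideal, have
the same dimension and depth at every prime. -/
theorem dim_depth_localization_eq (I : Ideal A) (hI : IsNilpotent I)
    (M N : Type u) [AddCommGroup M] [Module A M] [Module.Finite A M]
    [AddCommGroup N] [Module A N] [Module.Finite A N]
    (hsM : Module.support A M = Set.univ) (hsN : Module.support A N = Set.univ)
    (hM : EGA4.IsNormallyFlat I M) (hN : EGA4.IsNormallyFlat I N) (p : Ideal A) [p.IsPrime] :
    Module.supportDim (Localization.AtPrime p) (LocalizedModule p.primeCompl M) =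
      Module.supportDim (Localization.AtPrime p) (LocalizedModule p.primeCompl N) ∧
    LocCoh.depth (Localization.AtPrime p) (LocalizedModule p.primeCompl M) =
      LocCoh.depth (Localization.AtPrime p) (LocalizedModule p.primeCompl N) := by
  have hI' := isNilpotent_map hI p.primeCompl
  haveI : Nontrivial (LocalizedModule p.primeCompl M) := by
    have : (⟨p, inferInstance⟩ : PrimeSpectrum A) ∈ Module.support A M := by rw [hsM]; trivial
    exact Module.mem_support_iff.mp this
  haveI : Nontrivial (LocalizedModule p.primeCompl N) := by
    have : (⟨p, inferInstance⟩ : PrimeSpectrum A) ∈ Module.support A N := by rw [hsN]; trivial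
    exact Module.mem_support_iff.mp this
  obtain ⟨h1, h2⟩ := Groth.Agent.Lib.Helper5.NormFlatDepth.main (Localization.AtPrime p)
    (I.map (algebraMap A (Localization.AtPrime p))) (LocalizedModule p.primeCompl M) hI'
    (isNormallyFlat_localizedModule p.primeCompl M I hM)
  obtain ⟨h3, h4⟩ := Groth.Agent.Lib.Helper5.NormFlatDepth.main (Localization.AtPrime p)
    (I.map (algebraMap A (Localization.AtPrime p))) (LocalizedModule p.primeCompl N) hI'
    (isNormallyFlat_localizedModule p.primeCompl N I hN)
  exact ⟨h1.trans h3.symm, h2.trans h4.symm⟩

/-- the `(S_n)` statement and the codepth statement -/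
theorem hasSkAt_iff_and_codepth (n : ℕ) (I : Ideal A) (hI : IsNilpotent I)
    (M N : Type u) [AddCommGroup M] [Module A M] [Module.Finite A M]
    [AddCommGroup N] [Module A N] [Module.Finite A N]
    (hsM : Module.support A M = Set.univ) (hsN : Module.support A N = Set.univ)
    (hM : EGA4.IsNormallyFlat I M) (hN : EGA4.IsNormallyFlat I N) (p : Ideal A) [p.IsPrime] :
    (EGA4.HasSkAt n A M p ↔ EGA4.HasSkAt n A N p) ∧
      (Module.supportDim (Localization.AtPrime p) (LocalizedModule p.primeCompl M) ≤
          ((LocCoh.depth (Localization.AtPrime p) (LocalizedModule p.primeCompl M) : ℕ∞) :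
            WithBot ℕ∞) + n ↔
        Module.supportDim (Localization.AtPrime p) (LocalizedModule p.primeCompl N) ≤
          ((LocCoh.depth (Localization.AtPrime p) (LocalizedModule p.primeCompl N) : ℕ∞) :
            WithBot ℕ∞) + n) := by
  constructor
  · have key : ∀ (q' : Ideal (Localization.AtPrime p)) [q'.IsPrime],
        Module.supportDim (Localization.AtPrime q')
            (LocalizedModule q'.primeCompl (LocalizedModule p.primeCompl M)) =
          Module.supportDim (Localization.AtPrime q')
            (LocalizedModule q'.primeCompl (LocalizedModule p.primeCompl N)) ∧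
        LocCoh.depth (Localization.AtPrime q')
            (LocalizedModule q'.primeCompl (LocalizedModule p.primeCompl M)) =
          LocCoh.depth (Localization.AtPrime q')
            (LocalizedModule q'.primeCompl (LocalizedModule p.primeCompl N)) := by
      intro q' _
      exact dim_depth_localization_eq (A := Localization.AtPrime p)
        (I.map (algebraMap A (Localization.AtPrime p))) (isNilpotent_map hI p.primeCompl)
        (LocalizedModule p.primeCompl M) (LocalizedModule p.primeCompl N)
        (support_localizedModule_eq_univ p.primeCompl M hsM)
        (support_localizedModule_eq_univ p.primeCompl N hsN)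
        (isNormallyFlat_localizedModule p.primeCompl M I hM)
        (isNormallyFlat_localizedModule p.primeCompl N I hN) q'
    unfold EGA4.HasSkAt LocCoh.HasSk
    constructor
    · intro h q' _
      rw [← (key q').1, ← (key q').2]
      exact h q'
    · intro h q' _
      rw [(key q').1, (key q').2]
      exact h q'
  · obtain ⟨h1, h2⟩ := dim_depth_localization_eq I hI M N hsM hsN hM hN p
    rw [h1, h2]

end Groth.Agent.Lib.Seat14.NFlatSk
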