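import Groth.Agent.Lib.Seat14QuadMat

/-!
# Splitting off a hyperbolic plane (seat 14)

Given a matrix quadratic form with a hyperbolic pair `(e_i, e_j)` among the standard basis vectors,
the orthogonal complement is again given by a matrix on `{k // k ≠ i ∧ k ≠ j}`, nondegenerate at
the same primes.
-/

set_option autoImplicit false
set_option linter.unusedSectionVars false
universe u v

open Matrix QuadraticMap

namespace Groth.Agent.Lib.Seat14.QuadStep

open Groth.Agent.Lib.Seat14.QuadMat

variable {B : Type u} [CommRing B] {n : Type v} [Fintype n] [DecidableEq n]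

/-- The index type of the complement. -/
abbrev Compl (i j : n) : Type v := {k : n // k ≠ i ∧ k ≠ j}

theorem card_compl (i j : n) (hij : i ≠ j) : Fintype.card (Compl i j) + 2 = Fintype.card n := by
  classical
  have h1 : Fintype.card (Compl i j) = ((Finset.univ.erase i).erase j).card := by
    rw [Fintype.card_subtype]
    congr 1
    ext k
    simp [and_comm]
  rw [h1, Finset.card_erase_of_mem, Finset.card_erase_of_mem (Finset.mem_univ i), Finset.card_univ]
  · have : 2 ≤ Fintype.card n := by
      have := Fintype.card_le_of_injective (fun b : Bool => if b then i else j) (by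
        intro a b h
        cases a <;> cases b <;> simp_all [eq_comm])
      simpa using this
    omega
  · simp [hij.symm]

/-- The vectors `e_k - M_kj e_i - M_ki e_j`, `k ≠ i, j`, as the columns of a matrix. -/
def complMat (c : Matrix n n B) (i j : n) : Matrix n (Compl i j) B :=
  Matrix.of fun a k => (if a = k.1 then 1 else 0) - (if a = i then c k.1 j + c j k.1 else 0)
    - (if a = j then c k.1 i + c i k.1 else 0)

theorem complMat_mulVec_single (c : Matrix n n B) (i j : n) (k : Compl i j) :
    complMat c i j *ᵥ Pi.single k 1 = Pi.single k.1 1 - (c k.1 j + c j k.1) • Pi.single i 1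
      - (c k.1 i + c i k.1) • Pi.single j 1 := by
  rw [Matrix.mulVec_single_one]
  funext a
  simp [complMat, Pi.single_apply]

variable (c : Matrix n n B) (i j : n) (hij : i ≠ j) (hci : c i i = 0) (hcj : c j j = 0)
  (h1 : c i j + c j i = 1)

/-- A linear functional on `k → B` vanishing on the standard basis vectors vanishes. -/
theorem eq_zero_of_single {k : Type*} [Fintype k] [DecidableEq k] (L : (k → B) →ₗ[B] B)
    (h : ∀ a, L (Pi.single a 1) = 0) (y : k → B) : L y = 0 := by
  have : L = 0 := by
    apply LinearMap.pi_ext'
    intro a
    ext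
    simpa using h a
  rw [this]; rfl

include hij hci h1 in
theorem pol_complMat_single_i (k : Compl i j) :
    pol c (complMat c i j *ᵥ Pi.single k 1) (Pi.single i 1) = 0 := by
  rw [complMat_mulVec_single, pol_sub_left, pol_sub_left, pol_smul_left, pol_smul_left,
    pol_single_single, pol_single_single, pol_single_single, hci]
  linear_combination (-(c k.1 i + c i k.1)) * h1

include hij hcj h1 in
theorem pol_complMat_single_j (k : Compl i j) :
    pol c (complMat c i j *ᵥ Pi.single k 1) (Pi.single j 1) = 0 := by
  rw [complMat_mulVec_single, pol_sub_left, pol_sub_left, pol_smul_left, pol_smul_left,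
    pol_single_single, pol_single_single, pol_single_single, hcj]
  linear_combination (-(c k.1 j + c j k.1)) * h1

include hij hci h1 in
/-- The complement is orthogonal to `e_i`. -/
theorem pol_complMat_i (y : Compl i j → B) :
    pol c (complMat c i j *ᵥ y) (Pi.single i 1) = 0 := by
  let L : (Compl i j → B) →ₗ[B] B :=
    ((Qm c).polarBilin.flip (Pi.single i 1)) ∘ₗ (complMat c i j).mulVecLin
  exact eq_zero_of_single L (fun k => pol_complMat_single_i c i j hij hci h1 k) y

include hij hcj h1 in
/-- The complement is orthogonal to `e_j`. -/
theorem pol_complMat_j (y : Compl i j → B) :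
    pol c (complMat c i j *ᵥ y) (Pi.single j 1) = 0 := by
  let L : (Compl i j → B) →ₗ[B] B :=
    ((Qm c).polarBilin.flip (Pi.single j 1)) ∘ₗ (complMat c i j).mulVecLin
  exact eq_zero_of_single L (fun k => pol_complMat_single_j c i j hij hcj h1 k) y

/-- The matrix of the complement. -/
def complForm : Matrix (Compl i j) (Compl i j) B := (complMat c i j)ᵀ * c * complMat c i j

theorem complMat_mulVec_apply (y : Compl i j → B) (k : Compl i j) :
    (complMat c i j *ᵥ y) k.1 = y k := by
  simp only [Matrix.mulVec, dotProduct, complMat, Matrix.of_apply, if_neg k.2.1, if_neg k.2.2,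
    sub_zero]
  rw [Finset.sum_eq_single k]
  · simp
  · intro l _ hl
    rw [if_neg, zero_mul]
    intro h
    exact hl (Subtype.ext h.symm)
  · intro h; exact absurd (Finset.mem_univ k) h

include hij hci hcj h1 in
/-- The complement is nondegenerate at the primes where the form is. -/
theorem det_complForm_notMem (q : Ideal B) [q.IsPrime] (hdet : (c + cᵀ).det ∉ q) :
    (complForm c i j + (complForm c i j)ᵀ).det ∉ q := by
  apply det_notMem_of_nondeg
  intro x' hx' k'
  rw [← complMat_mulVec_apply c i j x' k']
  apply mem_of_forall_pol_mem c q hdet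
  intro k
  by_cases hki : k = i
  · rw [hki, pol_complMat_i c i j hij hci h1]; exact zero_mem _
  by_cases hkj : k = j
  · rw [hkj, pol_complMat_j c i j hij hcj h1]; exact zero_mem _
  let k'' : Compl i j := ⟨k, hki, hkj⟩
  have hk : (Pi.single k 1 : n → B) = complMat c i j *ᵥ Pi.single k'' 1 +
      (c k j + c j k) • Pi.single i 1 + (c k i + c i k) • Pi.single j 1 := by
    rw [complMat_mulVec_single]; abel
  rw [hk, pol_add_right, pol_add_right, pol_smul_right, pol_smul_right,
    pol_complMat_i c i j hij hci h1, pol_complMat_j c i j hij hcj h1, mul_zero, mul_zero, add_zero,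
    add_zero, pol_mulVec]
  exact hx' k''

include hij hci hcj h1 in
/-- A hyperbolic system of the complement extends by the pair `(e_i, e_j)`. -/
theorem hypSystem_extend {m : ℕ} {e' f' : Fin m → Compl i j → B}
    (h : HypSystem (complForm c i j) e' f') :
    HypSystem c (Fin.cons (Pi.single i 1) (fun r => complMat c i j *ᵥ e' r) : Fin (m + 1) → n → B)
      (Fin.cons (Pi.single j 1) (fun r => complMat c i j *ᵥ f' r)) := by
  refine (HypSystem.of_mulVec (complMat c i j) h).cons _ _ ?_ ?_ ?_ ?_ ?_ ?_ ?_
  · rw [Qm_single, hci]
  · rw [Qm_single, hcj]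
  · rw [pol_single_single, h1]
  · intro r; exact pol_complMat_i c i j hij hci h1 _
  · intro r; exact pol_complMat_j c i j hij hcj h1 _
  · intro r; exact pol_complMat_i c i j hij hci h1 _
  · intro r; exact pol_complMat_j c i j hij hcj h1 _

omit hij hci hcj h1 in
theorem complMat_map {B' : Type*} [CommRing B'] (φ : B →+* B') (c : Matrix n n B) (i j : n) :
    complMat (c.map φ) i j = (complMat c i j).map φ := by
  ext a k
  simp only [complMat, Matrix.of_apply, Matrix.map_apply, map_sub, apply_ite φ, map_one, map_zero,
    map_add]

omit hij hci hcj h1 in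
theorem complForm_map {B' : Type*} [CommRing B'] (φ : B →+* B') (c : Matrix n n B) (i j : n) :
    complForm (c.map φ) i j = (complForm c i j).map φ := by
  simp only [complForm, complMat_map, Matrix.map_mul, Matrix.transpose_map]

end Groth.Agent.Lib.Seat14.QuadStep
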