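import Groth.Agent.Lib.Seat14QuadPivot
import Groth.Agent.Lib.Seat14QuadStep
import Groth.Agent.Lib.Seat14EtNbhd

/-!
# Étale-local hyperbolic pairs and splitting of ordinary quadratic forms (seat 14)
-/

set_option autoImplicit false
set_option linter.unusedSectionVars false
universe u v

open Matrix QuadraticMap Polynomial

namespace Groth.Agent.Lib.Seat14.QuadHyp

open Groth.Agent.Lib.Seat14.QuadMat Groth.Agent.Lib.Seat14.QuadPivot Groth.Agent.Lib.Seat14.QuadStep
open Groth.Agent.Lib.Seat14.EtLoc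

/-- Étale-locally near a prime `q` with `α ∉ q` and `β² - 4αγ ∉ q`, the binary form
`α t² + β t + γ` has a root `t` at which its derivative is invertible. -/
theorem exists_root_nbhd {B : Type u} [CommRing B] (q : PrimeSpectrum B) (α β γ : B)
    (hα : α ∉ q.asIdeal) (hD : β ^ 2 - 4 * α * γ ∉ q.asIdeal) :
    ∃ (N : EtNbhd B q) (t μ : N.B), N.map α * t ^ 2 + N.map β * t + N.map γ = 0 ∧
      μ * (2 * N.map α * t + N.map β) = 1 := by
  have hs : α * (β ^ 2 - 4 * α * γ) ∉ q.asIdeal := fun h =>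
    (q.isPrime.mem_or_mem h).elim hα hD
  let N₁ := EtNbhd.away (α * (β ^ 2 - 4 * α * γ)) hs
  have hu : IsUnit (N₁.map (α * (β ^ 2 - 4 * α * γ))) := EtNbhd.away_isUnit _ hs
  rw [map_mul] at hu
  obtain ⟨ai, hai⟩ : ∃ x, N₁.map α * x = 1 := (isUnit_of_mul_isUnit_left hu).exists_right_inv
  obtain ⟨Di, hDi⟩ : ∃ x, N₁.map (β ^ 2 - 4 * α * γ) * x = 1 :=
    (isUnit_of_mul_isUnit_right hu).exists_right_inv
  rw [map_sub, map_pow, map_mul, map_mul, map_ofNat] at hDi
  set a₁ := N₁.map α with ha₁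
  set b₁ := N₁.map β with hb₁
  set g₁ := N₁.map γ with hg₁
  let r : N₁.B[X] := C b₁ * X + C (a₁ * g₁)
  have hr : r.degree < ((2 : ℕ) : WithBot ℕ) := lt_of_le_of_lt (degree_linear_le) (by norm_num)
  let f : N₁.B[X] := X ^ 2 + r
  have hf : f.Monic := monic_X_pow_add hr
  have : Nontrivial N₁.B := N₁.q.nontrivial
  have hdeg : f.natDegree ≠ 0 := by
    have : f.natDegree = 2 := by
      rw [natDegree_add_eq_left_of_degree_lt (by rw [degree_X_pow]; exact hr), natDegree_X_pow]
    rw [this]; norm_num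
  have hder : derivative f = 2 * X + C b₁ := by
    simp [f, r]
    ring
  have hcond : ∃ p₁ p₂ : N₁.B[X], derivative f * p₁ + f * p₂ = 1 := by
    refine ⟨C Di * (2 * X + C b₁), - 4 * C Di, ?_⟩
    rw [hder]
    have hC := congrArg C hDi
    simp only [map_sub, map_mul, map_pow, map_one, map_ofNat] at hC
    simp only [f, r, map_mul]
    linear_combination hC
  let N₂ := EtNbhd.ofMonic f hf hcond N₁.q hdeg
  let s : N₂.B := EtNbhd.ofMonicRoot f hf hcond N₁.q hdeg
  have hroot : eval₂ N₂.map s f = 0 := EtNbhd.ofMonic_eval f hf hcond N₁.q hdeg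
  simp only [f, r, eval₂_add, eval₂_pow, eval₂_X, eval₂_mul, eval₂_C, map_mul] at hroot
  have hai' := congrArg N₂.map hai
  have hDi' := congrArg N₂.map hDi
  simp only [map_sub, map_mul, map_pow, map_one, map_ofNat] at hai' hDi'
  have key := EtNbhd.exists_of_trans N₁ N₂
    (fun C _ φ => ∃ t μ : C, φ α * t ^ 2 + φ β * t + φ γ = 0 ∧ μ * (2 * φ α * t + φ β) = 1)
    ⟨N₂.map ai * s, (2 * N₂.map a₁ * (N₂.map ai * s) + N₂.map b₁) * N₂.map Di, ?_, ?_⟩
  · exact key
  · change N₂.map a₁ * (N₂.map ai * s) ^ 2 + N₂.map b₁ * (N₂.map ai * s) + N₂.map g₁ = 0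
    linear_combination (N₂.map ai) * hroot + (N₂.map ai * s ^ 2 - N₂.map g₁) * hai'
  · change (2 * N₂.map a₁ * (N₂.map ai * s) + N₂.map b₁) * N₂.map Di *
      (2 * N₂.map a₁ * (N₂.map ai * s) + N₂.map b₁) = 1
    linear_combination (4 * N₂.map Di) * hroot + hDi' +
      (N₂.map Di * (4 * s ^ 2 * (N₂.map a₁ * N₂.map ai + 1) + 4 * s * N₂.map b₁)) * hai'

section Alg

variable {C : Type u} [CommRing C] {n : Type v} [Fintype n] [DecidableEq n]

theorem diag_entry (c T : Matrix n n C) (i : n) : (Tᵀ * c * T) i i = Qm c (T *ᵥ Pi.single i 1) := by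
  rw [← Qm_single (Tᵀ * c * T) i, ← Qm_mulVec]

theorem symm_entry (c T : Matrix n n C) (i j : n) :
    (Tᵀ * c * T) i j + (Tᵀ * c * T) j i = pol c (T *ᵥ Pi.single i 1) (T *ᵥ Pi.single j 1) := by
  rw [← pol_single_single (Tᵀ * c * T) i j, ← pol_mulVec]

/-- From a root of the binary form on the plane `⟨e_i, e_j⟩` with invertible derivative, an invertible
substitution making `(e_i, e_j)` a hyperbolic pair. -/
theorem exists_subst (c : Matrix n n C) (i j : n) (hij : i ≠ j) (t μ : C)
    (h1 : c i i * t ^ 2 + (c i j + c j i) * t + c j j = 0)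
    (h2 : μ * (2 * c i i * t + (c i j + c j i)) = 1) :
    ∃ T : Matrix n n C, IsUnit T.det ∧ (Tᵀ * c * T) i i = 0 ∧ (Tᵀ * c * T) j j = 0 ∧
      (Tᵀ * c * T) i j + (Tᵀ * c * T) j i = 1 := by
  have hμ : IsUnit μ := IsUnit.of_mul_eq_one _ h2
  set s : C := -(c i i) * μ with hs
  let d : n → C := fun l => if l = i then μ else 1
  let T : Matrix n n C := Matrix.transvection i j t * Matrix.transvection j i s * Matrix.diagonal d
  have hdet : T.det = μ := by
    simp only [T, Matrix.det_mul, Matrix.det_transvection_of_ne _ _ hij,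
      Matrix.det_transvection_of_ne _ _ hij.symm, Matrix.det_diagonal, one_mul, d]
    simp
  have hTj : T *ᵥ Pi.single j 1 = Pi.single j 1 + t • Pi.single i 1 := by
    simp only [T, ← Matrix.mulVec_mulVec, Matrix.diagonal_mulVec_single, d, if_neg hij.symm, mul_one]
    rw [transvection_mulVec_single, if_neg hij.symm, add_zero, transvection_mulVec_single, if_pos rfl]
  have hTi : T *ᵥ Pi.single i 1 = μ • (Pi.single i 1 + s • (Pi.single j 1 + t • Pi.single i 1)) := by
    simp only [T, ← Matrix.mulVec_mulVec, Matrix.diagonal_mulVec_single, d, if_pos, mul_one]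
    have : (Pi.single i μ : n → C) = μ • Pi.single i 1 := by
      ext l; simp [Pi.single_apply]
    rw [this, Matrix.mulVec_smul, Matrix.mulVec_smul, transvection_mulVec_single, if_pos rfl,
      Matrix.mulVec_add, Matrix.mulVec_smul, transvection_mulVec_single, if_neg hij,
      add_zero, transvection_mulVec_single, if_pos rfl]
  have hQE : Qm c (Pi.single j 1 + t • Pi.single i 1) = 0 := by
    rw [Qm_add, Qm_smul, pol_smul_right, Qm_single, Qm_single, pol_single_single]
    linear_combination h1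
  have hδ : pol c (Pi.single i 1) (Pi.single j 1 + t • Pi.single i 1) =
      2 * c i i * t + (c i j + c j i) := by
    rw [pol_add_right, pol_smul_right, pol_single_single, pol_single_single]
    ring
  refine ⟨T, by rw [hdet]; exact hμ, ?_, ?_, ?_⟩
  · rw [diag_entry, hTi, Qm_smul, Qm_add, Qm_smul, hQE, pol_smul_right, hδ, Qm_single]
    linear_combination (-(μ * μ * c i i)) * h2
  · rw [diag_entry, hTj, hQE]
  · rw [symm_entry, hTi, hTj, pol_smul_left, pol_add_left, pol_smul_left, pol_self, hQE, hδ]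
    linear_combination h2

end Alg

section Main

theorem map_polar_matrix {B : Type u} [CommRing B] {C : Type*} [CommRing C] {n : Type v} [Fintype n]
    [DecidableEq n] (φ : B →+* C) (c : Matrix n n B) :
    (c.map φ + (c.map φ)ᵀ).det = φ (c + cᵀ).det := by
  have : c.map φ + (c.map φ)ᵀ = φ.mapMatrix (c + cᵀ) := by
    ext a b
    simp
  rw [this, ← RingHom.map_det]

/-- Étale-locally near a prime where the form is nondegenerate, there is a hyperbolic pair which is
part of a basis. -/
theorem exists_hyperbolic_pair {B : Type u} [CommRing B] (q : PrimeSpectrum B) {n : Type v}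
    [Fintype n] [DecidableEq n] (c : Matrix n n B) (hdet : (c + cᵀ).det ∉ q.asIdeal) (i₀ j₀ : n)
    (h0 : i₀ ≠ j₀) :
    ∃ (N : EtNbhd B q) (G : Matrix n n N.B) (i j : n), IsUnit G.det ∧ i ≠ j ∧
      (Gᵀ * c.map N.map * G) i i = 0 ∧ (Gᵀ * c.map N.map * G) j j = 0 ∧
      (Gᵀ * c.map N.map * G) i j + (Gᵀ * c.map N.map * G) j i = 1 := by
  obtain ⟨G₀, hG₀, i, j, hij, hα, hD⟩ := hasPivot c q.asIdeal hdet i₀ j₀ h0
  rw [disc] at hD
  obtain ⟨N, t, μ, h1, h2⟩ := exists_root_nbhd q _ _ _ hα hD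
  have e1 : ((G₀ᵀ * c * G₀).map N.map) i i = N.map (Qm c (G₀ *ᵥ Pi.single i 1)) := by
    rw [Matrix.map_apply, diag_entry]
  have e2 : ((G₀ᵀ * c * G₀).map N.map) j j = N.map (Qm c (G₀ *ᵥ Pi.single j 1)) := by
    rw [Matrix.map_apply, diag_entry]
  have e3 : ((G₀ᵀ * c * G₀).map N.map) i j + ((G₀ᵀ * c * G₀).map N.map) j i =
      N.map (pol c (G₀ *ᵥ Pi.single i 1) (G₀ *ᵥ Pi.single j 1)) := by
    rw [Matrix.map_apply, Matrix.map_apply, ← map_add, symm_entry]
  obtain ⟨T, hT, t1, t2, t3⟩ := exists_subst ((G₀ᵀ * c * G₀).map N.map) i j hij t μ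
    (by rw [e1, e2, e3]; exact h1) (by rw [e1, e3]; exact h2)
  have hconj : (G₀.map N.map * T)ᵀ * c.map N.map * (G₀.map N.map * T) =
      Tᵀ * (G₀ᵀ * c * G₀).map N.map * T := by
    simp only [Matrix.map_mul, Matrix.transpose_mul, Matrix.transpose_map, Matrix.mul_assoc]
  refine ⟨N, G₀.map N.map * T, i, j, ?_, hij, ?_, ?_, ?_⟩
  · rw [Matrix.det_mul]
    refine IsUnit.mul ?_ hT
    have : (G₀.map N.map).det = N.map G₀.det := by
      rw [RingHom.map_det]; rfl
    rw [this]
    exact hG₀.map _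
  · rw [hconj]; exact t1
  · rw [hconj]; exact t2
  · rw [hconj]; exact t3

/-- An ordinary quadratic form in `2m` variables has, étale-locally near every prime where it is
nondegenerate, a hyperbolic system of `m` pairs. -/
theorem exists_hypSystem (m : ℕ) : ∀ (B : Type u) [CommRing B] (q : PrimeSpectrum B) (n : Type v)
    [Fintype n] [DecidableEq n] (c : Matrix n n B), Fintype.card n = 2 * m →
    (c + cᵀ).det ∉ q.asIdeal →
    ∃ (N : EtNbhd B q) (e f : Fin m → n → N.B), HypSystem (c.map N.map) e f := by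
  induction m with
  | zero =>
    intro B _ q n _ _ c _ _
    exact ⟨EtNbhd.refl B q, Fin.elim0, Fin.elim0, ⟨fun r => r.elim0, fun r => r.elim0,
      fun r => r.elim0, fun r => r.elim0, fun r => r.elim0⟩⟩
  | succ m ih =>
    intro B _ q n _ _ c hcard hdet
    obtain ⟨i₀, j₀, h0⟩ : ∃ i₀ j₀ : n, i₀ ≠ j₀ := by
      have : 1 < Fintype.card n := by omega
      exact Fintype.exists_pair_of_one_lt_card this
    obtain ⟨N, G, i, j, hG, hij, hii, hjj, hsym⟩ := exists_hyperbolic_pair q c hdet i₀ j₀ h0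
    have hdet' : (c.map N.map + (c.map N.map)ᵀ).det ∉ N.q.asIdeal := by
      rw [map_polar_matrix]
      exact N.notMem_of_notMem hdet
    have hdet'' := det_conj_notMem (c.map N.map) N.q.asIdeal G hG hdet'
    have hdet3 := det_complForm_notMem _ i j hij hii hjj hsym N.q.asIdeal hdet''
    have hcard' : Fintype.card (Compl i j) = 2 * m := by
      have := card_compl i j hij
      omega
    obtain ⟨N', e', f', hS⟩ := ih N.B N.q (Compl i j) (complForm (Gᵀ * c.map N.map * G) i j)
      hcard' hdet3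
    rw [← complForm_map] at hS
    have hext := hypSystem_extend ((Gᵀ * c.map N.map * G).map N'.map) i j hij
      (by rw [Matrix.map_apply, hii, map_zero]) (by rw [Matrix.map_apply, hjj, map_zero])
      (by rw [Matrix.map_apply, Matrix.map_apply, ← map_add, hsym, map_one]) hS
    have hc : (Gᵀ * c.map N.map * G).map N'.map =
        (G.map N'.map)ᵀ * c.map (N'.map.comp N.map) * G.map N'.map := by
      simp only [Matrix.map_mul, Matrix.transpose_map, Matrix.map_map, RingHom.coe_comp]
    rw [hc] at hext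
    have hfin := HypSystem.of_mulVec (G.map N'.map) hext
    exact EtNbhd.exists_of_trans N N'
      (fun C _ ψ => ∃ e f : Fin (m + 1) → n → C, HypSystem (c.map ψ) e f) ⟨_, _, hfin⟩

end Main

end Groth.Agent.Lib.Seat14.QuadHyp
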