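import Mathlib.LinearAlgebra.QuadraticForm.Basic
import Mathlib.LinearAlgebra.Matrix.SesquilinearForm
import Mathlib.LinearAlgebra.Matrix.Transvection
import Mathlib.LinearAlgebra.Matrix.ToLinearEquiv
import Mathlib.LinearAlgebra.Matrix.NonsingularInverse
import Mathlib.RingTheory.Ideal.Quotient.Basic
import Mathlib.RingTheory.Spectrum.Prime.Defs
import Mathlib.Tactic.LinearCombination
import Mathlib.Tactic.Ring
import Mathlib.Tactic.Abel

/-!
# Quadratic forms given by matrices (seat 14)

`Qm c` is the quadratic form `x ↦ xᵀ c x` on `n → B`, `pol c` its polar form (matrix `c + cᵀ`).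
Change of variables, base change, nondegeneracy at a prime, hyperbolic systems.
-/

set_option autoImplicit false
set_option linter.unusedSectionVars false
universe u v

open Matrix QuadraticMap

namespace Groth.Agent.Lib.Seat14.QuadMat

variable {B : Type u} [CommRing B] {n : Type v} [Fintype n] [DecidableEq n]

/-- The quadratic form `x ↦ xᵀ c x`. -/
noncomputable def Qm (c : Matrix n n B) : QuadraticForm B (n → B) :=
  LinearMap.BilinMap.toQuadraticMap (Matrix.toLinearMap₂' B c)

theorem Qm_apply (c : Matrix n n B) (x : n → B) : Qm c x = x ⬝ᵥ (c *ᵥ x) := by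
  rw [Qm, LinearMap.BilinMap.toQuadraticMap_apply, Matrix.toLinearMap₂'_apply']

/-- The polar form of `Qm c`. -/
noncomputable def pol (c : Matrix n n B) (x y : n → B) : B := polar (Qm c) x y

theorem pol_apply (c : Matrix n n B) (x y : n → B) : pol c x y = x ⬝ᵥ ((c + cᵀ) *ᵥ y) := by
  rw [pol, Qm, LinearMap.BilinMap.polar_toQuadraticMap, Matrix.toLinearMap₂'_apply',
    Matrix.toLinearMap₂'_apply', Matrix.add_mulVec, dotProduct_add]
  congr 1
  rw [Matrix.mulVec_transpose, dotProduct_comm, dotProduct_comm (c *ᵥ x) y,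
    Matrix.dotProduct_mulVec, dotProduct_comm]

theorem pol_comm (c : Matrix n n B) (x y : n → B) : pol c x y = pol c y x := polar_comm _ _ _

theorem pol_self (c : Matrix n n B) (x : n → B) : pol c x x = 2 * Qm c x := by
  rw [pol, polar_self]; simp [two_mul]

theorem Qm_add (c : Matrix n n B) (x y : n → B) : Qm c (x + y) = Qm c x + Qm c y + pol c x y :=
  QuadraticMap.map_add _ _ _

theorem Qm_smul (c : Matrix n n B) (a : B) (x : n → B) : Qm c (a • x) = a * a * Qm c x := by
  rw [QuadraticMap.map_smul]; rfl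

theorem pol_add_left (c : Matrix n n B) (x x' y : n → B) :
    pol c (x + x') y = pol c x y + pol c x' y := polar_add_left _ _ _ _

theorem pol_add_right (c : Matrix n n B) (x y y' : n → B) :
    pol c x (y + y') = pol c x y + pol c x y' := polar_add_right _ _ _ _

theorem pol_smul_left (c : Matrix n n B) (a : B) (x y : n → B) :
    pol c (a • x) y = a * pol c x y := by
  rw [pol, polar_smul_left]; rfl

theorem pol_smul_right (c : Matrix n n B) (a : B) (x y : n → B) :
    pol c x (a • y) = a * pol c x y := by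
  rw [pol, polar_smul_right]; rfl

theorem pol_sum_right {ι : Type*} (c : Matrix n n B) (x : n → B) (s : Finset ι) (y : ι → n → B) :
    pol c x (∑ k ∈ s, y k) = ∑ k ∈ s, pol c x (y k) := by
  change (Qm c).polarBilin x (∑ k ∈ s, y k) = ∑ k ∈ s, (Qm c).polarBilin x (y k)
  rw [map_sum]

theorem pol_zero_right (c : Matrix n n B) (x : n → B) : pol c x 0 = 0 := by
  change (Qm c).polarBilin x 0 = 0
  rw [map_zero]

theorem pol_sub_left (c : Matrix n n B) (x x' y : n → B) :
    pol c (x - x') y = pol c x y - pol c x' y := by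
  change (Qm c).polarBilin (x - x') y = (Qm c).polarBilin x y - (Qm c).polarBilin x' y
  rw [map_sub, LinearMap.sub_apply]

/-- Change of variables. -/
theorem Qm_mulVec {k : Type*} [Fintype k] [DecidableEq k] (c : Matrix n n B) (g : Matrix n k B)
    (x : k → B) : Qm c (g *ᵥ x) = Qm (gᵀ * c * g) x := by
  rw [Qm_apply, Qm_apply, ← Matrix.mulVec_mulVec, ← Matrix.mulVec_mulVec,
    Matrix.dotProduct_mulVec x gᵀ, Matrix.vecMul_transpose]

theorem pol_mulVec {k : Type*} [Fintype k] [DecidableEq k] (c : Matrix n n B) (g : Matrix n k B)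
    (x y : k → B) : pol c (g *ᵥ x) (g *ᵥ y) = pol (gᵀ * c * g) x y := by
  rw [pol, pol, polar, polar, ← Matrix.mulVec_add, Qm_mulVec, Qm_mulVec, Qm_mulVec]

/-- Base change. -/
theorem Qm_map {B' : Type*} [CommRing B'] (φ : B →+* B') (c : Matrix n n B) (x : n → B) :
    Qm (c.map φ) (φ ∘ x) = φ (Qm c x) := by
  rw [Qm_apply, Qm_apply, RingHom.map_dotProduct]
  congr 1
  funext i
  rw [Function.comp_apply, RingHom.map_mulVec]

theorem pol_map {B' : Type*} [CommRing B'] (φ : B →+* B') (c : Matrix n n B) (x y : n → B) :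
    pol (c.map φ) (φ ∘ x) (φ ∘ y) = φ (pol c x y) := by
  have h : (φ ∘ x) + (φ ∘ y) = φ ∘ (x + y) := by ext i; simp
  rw [pol, pol, polar, polar, h, Qm_map, Qm_map, Qm_map, map_sub, map_sub]

theorem Qm_single (c : Matrix n n B) (i : n) : Qm c (Pi.single i 1) = c i i := by
  rw [Qm_apply]
  simp

theorem pol_single_single (c : Matrix n n B) (i j : n) :
    pol c (Pi.single i 1) (Pi.single j 1) = c i j + c j i := by
  rw [pol_apply]
  simp

theorem pol_single_right (c : Matrix n n B) (x : n → B) (j : n) :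
    pol c x (Pi.single j 1) = (x ᵥ* (c + cᵀ)) j := by
  rw [pol_apply, Matrix.dotProduct_mulVec]
  simp

/-- Nondegeneracy at a prime from the determinant. -/
theorem mem_of_forall_pol_mem (c : Matrix n n B) (q : Ideal B) [q.IsPrime]
    (hdet : (c + cᵀ).det ∉ q) (x : n → B) (hx : ∀ k, pol c x (Pi.single k 1) ∈ q) (k : n) :
    x k ∈ q := by
  have h1 : ∀ k, (x ᵥ* (c + cᵀ)) k ∈ q := fun k => by rw [← pol_single_right]; exact hx k
  have h2 : (x ᵥ* (c + cᵀ)) ᵥ* (c + cᵀ).adjugate = (c + cᵀ).det • x := by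
    rw [Matrix.vecMul_vecMul, Matrix.mul_adjugate, Matrix.vecMul_smul, Matrix.vecMul_one]
  have h3 : ((c + cᵀ).det • x) k ∈ q := by
    rw [← h2]
    change (∑ i, (x ᵥ* (c + cᵀ)) i * (c + cᵀ).adjugate i k) ∈ q
    exact Submodule.sum_mem _ fun i _ => Ideal.mul_mem_right _ _ (h1 i)
  rw [Pi.smul_apply, smul_eq_mul] at h3
  exact (Ideal.IsPrime.mem_or_mem inferInstance h3).resolve_left hdet

/-- Conversely, nondegeneracy at a prime implies that the determinant is not in the prime. -/
theorem det_notMem_of_nondeg (c : Matrix n n B) (q : Ideal B) [q.IsPrime]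
    (h : ∀ x : n → B, (∀ k, pol c x (Pi.single k 1) ∈ q) → ∀ k, x k ∈ q) :
    (c + cᵀ).det ∉ q := by
  intro hdet
  let π := Ideal.Quotient.mk q
  have h0 : ((c + cᵀ).map π).det = 0 := by
    rw [← RingHom.mapMatrix_apply, ← RingHom.map_det]
    exact Ideal.Quotient.eq_zero_iff_mem.mpr hdet
  obtain ⟨v, hv0, hv⟩ := Matrix.exists_vecMul_eq_zero_iff.mpr h0
  have hsurj : Function.Surjective π := Ideal.Quotient.mk_surjective
  choose x hx using fun k => hsurj (v k)
  have hx' : π ∘ x = v := funext hx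
  have h1 : ∀ k, pol c x (Pi.single k 1) ∈ q := by
    intro k
    rw [pol_single_right, ← Ideal.Quotient.eq_zero_iff_mem]
    have : π ((x ᵥ* (c + cᵀ)) k) = ((π ∘ x) ᵥ* (c + cᵀ).map π) k := by
      rw [RingHom.map_vecMul]
    rw [this, hx', hv]
    rfl
  apply hv0
  funext k
  rw [← hx k]
  exact Ideal.Quotient.eq_zero_iff_mem.mpr (h x h1 k)

/-- An alternating matrix (zero diagonal, skew-symmetric) defines the zero quadratic form. -/
theorem Qm_eq_zero_of_alt (K : Matrix n n B) (hd : ∀ a, K a a = 0) (hs : ∀ a b, K a b + K b a = 0)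
    (x : n → B) : Qm K x = 0 := by
  rw [Qm_apply]
  simp only [dotProduct, Matrix.mulVec, Finset.mul_sum]
  rw [← Finset.sum_product']
  refine Finset.sum_involution (fun p _ => p.swap) ?_ ?_ ?_ ?_
  · rintro ⟨a, b⟩ _
    simp only [Prod.swap_prod_mk]
    have := hs a b
    linear_combination (x a * x b) * this
  · rintro ⟨a, b⟩ _ hne heq
    simp only [Prod.swap_prod_mk, Prod.mk.injEq] at heq
    obtain ⟨rfl, -⟩ := heq
    apply hne
    simp [hd]
  · intro p _
    exact Finset.mem_univ _
  · intro p _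
    exact Prod.swap_swap p

theorem Qm_add_matrix (c c' : Matrix n n B) (x : n → B) : Qm (c + c') x = Qm c x + Qm c' x := by
  rw [Qm_apply, Qm_apply, Qm_apply, Matrix.add_mulVec, dotProduct_add]

/-- Two matrices with the same diagonal and the same symmetrization define the same quadratic form. -/
theorem Qm_eq_of_diag_of_symm (c c' : Matrix n n B) (hd : ∀ a, c a a = c' a a)
    (hs : ∀ a b, c a b + c b a = c' a b + c' b a) (x : n → B) : Qm c x = Qm c' x := by
  have h : c = c' + (c - c') := by abel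
  rw [h, Qm_add_matrix, Qm_eq_zero_of_alt (c - c'), add_zero]
  · intro a; simp [hd a]
  · intro a b
    simp only [Matrix.sub_apply]
    linear_combination hs a b

/-- A hyperbolic system: `m` mutually orthogonal hyperbolic pairs `(e r, f r)`. -/
structure HypSystem (c : Matrix n n B) {m : ℕ} (e f : Fin m → n → B) : Prop where
  qe : ∀ r, Qm c (e r) = 0
  qf : ∀ r, Qm c (f r) = 0
  ef : ∀ r s, pol c (e r) (f s) = if r = s then 1 else 0
  ee : ∀ r s, pol c (e r) (e s) = 0
  ff : ∀ r s, pol c (f r) (f s) = 0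

namespace HypSystem

variable {c : Matrix n n B} {m : ℕ} {e f : Fin m → n → B}

theorem map {B' : Type*} [CommRing B'] (φ : B →+* B') (h : HypSystem c e f) :
    HypSystem (c.map φ) (fun r => φ ∘ e r) (fun r => φ ∘ f r) where
  qe r := by rw [Qm_map, h.qe, map_zero]
  qf r := by rw [Qm_map, h.qf, map_zero]
  ef r s := by rw [pol_map, h.ef]; split_ifs <;> simp
  ee r s := by rw [pol_map, h.ee, map_zero]
  ff r s := by rw [pol_map, h.ff, map_zero]

theorem of_mulVec {k : Type*} [Fintype k] [DecidableEq k] {c : Matrix n n B} (g : Matrix n k B)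
    {e f : Fin m → k → B} (h : HypSystem (gᵀ * c * g) e f) :
    HypSystem c (fun r => g *ᵥ e r) (fun r => g *ᵥ f r) where
  qe r := by rw [Qm_mulVec, h.qe]
  qf r := by rw [Qm_mulVec, h.qf]
  ef r s := by rw [pol_mulVec, h.ef]
  ee r s := by rw [pol_mulVec, h.ee]
  ff r s := by rw [pol_mulVec, h.ff]

theorem cons (h : HypSystem c e f) (v w : n → B) (hv : Qm c v = 0) (hw : Qm c w = 0)
    (hvw : pol c v w = 1) (hev : ∀ r, pol c (e r) v = 0) (hew : ∀ r, pol c (e r) w = 0)
    (hfv : ∀ r, pol c (f r) v = 0) (hfw : ∀ r, pol c (f r) w = 0) :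
    HypSystem c (Fin.cons v e : Fin (m + 1) → n → B) (Fin.cons w f) where
  qe r := by
    refine Fin.cases ?_ (fun r => ?_) r
    · simpa using hv
    · simpa using h.qe r
  qf r := by
    refine Fin.cases ?_ (fun r => ?_) r
    · simpa using hw
    · simpa using h.qf r
  ef r s := by
    refine Fin.cases ?_ (fun r => ?_) r <;> refine Fin.cases ?_ (fun s => ?_) s
    · simpa using hvw
    · simp only [Fin.cons_zero, Fin.cons_succ]
      rw [pol_comm, hfv, if_neg (Fin.succ_ne_zero s).symm]
    · simp only [Fin.cons_zero, Fin.cons_succ]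
      rw [hew, if_neg (Fin.succ_ne_zero r)]
    · simp only [Fin.cons_succ, Fin.succ_inj]
      exact h.ef r s
  ee r s := by
    refine Fin.cases ?_ (fun r => ?_) r <;> refine Fin.cases ?_ (fun s => ?_) s
    · simp only [Fin.cons_zero]; rw [pol_self, hv, mul_zero]
    · simp only [Fin.cons_zero, Fin.cons_succ]; rw [pol_comm, hev]
    · simp only [Fin.cons_zero, Fin.cons_succ]; rw [hev]
    · simp only [Fin.cons_succ]; exact h.ee r s
  ff r s := by
    refine Fin.cases ?_ (fun r => ?_) r <;> refine Fin.cases ?_ (fun s => ?_) s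
    · simp only [Fin.cons_zero]; rw [pol_self, hw, mul_zero]
    · simp only [Fin.cons_zero, Fin.cons_succ]; rw [pol_comm, hfw]
    · simp only [Fin.cons_zero, Fin.cons_succ]; rw [hfw]
    · simp only [Fin.cons_succ]; exact h.ff r s

/-- The matrix whose columns are the vectors of a hyperbolic system. -/
def toMatrix (e f : Fin m → n → B) : Matrix n (Fin m ⊕ Fin m) B :=
  Matrix.of fun a b => Sum.elim (fun r => e r a) (fun r => f r a) b

theorem toMatrix_mulVec_single_inl (e f : Fin m → n → B) (r : Fin m) :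
    toMatrix e f *ᵥ Pi.single (Sum.inl r) 1 = e r := by
  rw [Matrix.mulVec_single_one]; rfl

theorem toMatrix_mulVec_single_inr (e f : Fin m → n → B) (r : Fin m) :
    toMatrix e f *ᵥ Pi.single (Sum.inr r) 1 = f r := by
  rw [Matrix.mulVec_single_one]; rfl

/-- The standard hyperbolic matrix. -/
def hypMat (m : ℕ) : Matrix (Fin m ⊕ Fin m) (Fin m ⊕ Fin m) B :=
  Matrix.fromBlocks 0 1 0 0

theorem Qm_hypMat (x : Fin m ⊕ Fin m → B) :
    Qm (hypMat m : Matrix _ _ B) x = ∑ r, x (Sum.inl r) * x (Sum.inr r) := by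
  rw [Qm_apply]
  simp only [dotProduct, Matrix.mulVec, hypMat, Fintype.sum_sum_type, Matrix.fromBlocks_apply₁₁,
    Matrix.fromBlocks_apply₁₂, Matrix.fromBlocks_apply₂₁, Matrix.fromBlocks_apply₂₂,
    Matrix.zero_apply, zero_mul, Finset.sum_const_zero, zero_add, add_zero, mul_zero,
    Matrix.one_apply, ite_mul, one_mul, Finset.sum_ite_eq, Finset.mem_univ, if_true]

theorem Qm_toMatrix_mulVec (h : HypSystem c e f) (x : Fin m ⊕ Fin m → B) :
    Qm c (toMatrix e f *ᵥ x) = ∑ r, x (Sum.inl r) * x (Sum.inr r) := by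
  rw [Qm_mulVec, ← Qm_hypMat]
  apply Qm_eq_of_diag_of_symm
  · intro a
    rw [← Qm_single ((toMatrix e f)ᵀ * c * toMatrix e f) a, ← Qm_mulVec]
    rcases a with r | r
    · rw [toMatrix_mulVec_single_inl, h.qe]; simp [hypMat]
    · rw [toMatrix_mulVec_single_inr, h.qf]; simp [hypMat]
  · intro a b
    rw [← pol_single_single ((toMatrix e f)ᵀ * c * toMatrix e f) a b, ← pol_mulVec]
    rcases a with r | r <;> rcases b with s | s
    · rw [toMatrix_mulVec_single_inl, toMatrix_mulVec_single_inl, h.ee]; simp [hypMat]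
    · rw [toMatrix_mulVec_single_inl, toMatrix_mulVec_single_inr, h.ef]
      simp [hypMat, Matrix.one_apply]
    · rw [toMatrix_mulVec_single_inr, toMatrix_mulVec_single_inl, pol_comm, h.ef]
      simp [hypMat, Matrix.one_apply]
    · rw [toMatrix_mulVec_single_inr, toMatrix_mulVec_single_inr, h.ff]; simp [hypMat]

/-- The standard symmetric hyperbolic matrix. -/
def symHypMat (m : ℕ) : Matrix (Fin m ⊕ Fin m) (Fin m ⊕ Fin m) B :=
  Matrix.fromBlocks (0 : Matrix (Fin m) (Fin m) B) (1 : Matrix (Fin m) (Fin m) B)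
    (1 : Matrix (Fin m) (Fin m) B) (0 : Matrix (Fin m) (Fin m) B)

theorem symHypMat_mul_self : (symHypMat m : Matrix _ _ B) * symHypMat m = 1 := by
  rw [symHypMat, Matrix.fromBlocks_multiply]
  simp [Matrix.fromBlocks_one]

/-- The Gram matrix of a hyperbolic system is the standard symmetric hyperbolic matrix. -/
theorem gram_eq (h : HypSystem c e f) :
    (toMatrix e f)ᵀ * (c + cᵀ) * toMatrix e f = symHypMat m := by
  unfold symHypMat
  have h1 : (toMatrix e f)ᵀ * (c + cᵀ) * toMatrix e f =
      (toMatrix e f)ᵀ * c * toMatrix e f + ((toMatrix e f)ᵀ * c * toMatrix e f)ᵀ := by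
    simp only [Matrix.transpose_mul, Matrix.transpose_transpose, Matrix.mul_add, Matrix.add_mul,
      Matrix.mul_assoc]
  rw [h1]
  ext a b
  rw [Matrix.add_apply, Matrix.transpose_apply,
    ← pol_single_single ((toMatrix e f)ᵀ * c * toMatrix e f) a b, ← pol_mulVec]
  rcases a with r | r <;> rcases b with s | s
  · rw [toMatrix_mulVec_single_inl, toMatrix_mulVec_single_inl, h.ee]; simp
  · rw [toMatrix_mulVec_single_inl, toMatrix_mulVec_single_inr, h.ef]
    simp [Matrix.one_apply]
  · rw [toMatrix_mulVec_single_inr, toMatrix_mulVec_single_inl, pol_comm, h.ef]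
    simp [Matrix.one_apply, eq_comm]
  · rw [toMatrix_mulVec_single_inr, toMatrix_mulVec_single_inr, h.ff]; simp

/-- A hyperbolic system of full size is a basis. -/
theorem isUnit_det_toMatrix {c : Matrix (Fin m ⊕ Fin m) (Fin m ⊕ Fin m) B}
    {e f : Fin m → (Fin m ⊕ Fin m) → B} (h : HypSystem c e f) : IsUnit (toMatrix e f).det := by
  have h1 := congrArg Matrix.det h.gram_eq
  rw [Matrix.det_mul, Matrix.det_mul, Matrix.det_transpose] at h1
  have hJ : IsUnit (symHypMat m : Matrix _ _ B).det := by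
    have h2 := congrArg Matrix.det (symHypMat_mul_self (B := B) (m := m))
    rw [Matrix.det_mul, Matrix.det_one] at h2
    exact IsUnit.of_mul_eq_one _ h2
  rw [← h1] at hJ
  exact isUnit_of_mul_isUnit_right hJ

end HypSystem

end Groth.Agent.Lib.Seat14.QuadMat
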