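import Groth.Agent.Lib.Seat14QuadMat

/-!
# Pivot search for quadratic forms nondegenerate at a prime (seat 14)

For a matrix quadratic form whose polar determinant is not in the prime `q`, after an elementary
change of basis there are two basis vectors `u_i, u_j` with `Q(u_i) ∉ q` and discriminant
`b(u_i,u_j)^2 - 4 Q(u_i) Q(u_j) ∉ q`.
-/

set_option autoImplicit false
set_option linter.unusedSectionVars false
universe u v

open Matrix QuadraticMap

namespace Groth.Agent.Lib.Seat14.QuadPivot

open Groth.Agent.Lib.Seat14.QuadMat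

variable {B : Type u} [CommRing B] {n : Type v} [Fintype n] [DecidableEq n]

/-- The discriminant of the binary form spanned by `u, v`. -/
noncomputable def disc (c : Matrix n n B) (u v : n → B) : B :=
  (pol c u v) ^ 2 - 4 * Qm c u * Qm c v

theorem disc_comm (c : Matrix n n B) (u v : n → B) : disc c u v = disc c v u := by
  rw [disc, disc, pol_comm]; ring

theorem disc_add_left (c : Matrix n n B) (u v : n → B) : disc c (u + v) v = disc c u v := by
  rw [disc, disc, pol_add_left, pol_self, Qm_add]; ring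

theorem disc_add_right (c : Matrix n n B) (u v w : n → B) :
    disc c u (v + w) = disc c u v + disc c u w + 2 * (pol c u v * pol c u w - 2 * Qm c u * pol c v w) := by
  rw [disc, disc, disc, pol_add_right, Qm_add]; ring

theorem transvection_mulVec_single (i j : n) (a : B) (l : n) :
    Matrix.transvection i j a *ᵥ Pi.single l 1 =
      Pi.single l 1 + if l = j then a • Pi.single i 1 else 0 := by
  rw [Matrix.mulVec_single_one]
  funext r
  by_cases hl : l = j
  · subst hl
    simp [Matrix.transvection, Matrix.single_apply, Matrix.one_apply, Pi.single_apply, eq_comm]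
  · simp [Matrix.transvection, Matrix.one_apply, Pi.single_apply, hl, eq_comm, Ne.symm hl]

/-- After an invertible change of basis there are basis vectors `u_i, u_j`, `i ≠ j`, with `Q(u_i) ∉ q` and
discriminant not in `q`. -/
def HasPivot (c : Matrix n n B) (q : Ideal B) : Prop :=
  ∃ G : Matrix n n B, IsUnit G.det ∧ ∃ i j, i ≠ j ∧ Qm c (G *ᵥ Pi.single i 1) ∉ q ∧
    disc c (G *ᵥ Pi.single i 1) (G *ᵥ Pi.single j 1) ∉ q

theorem disc_mulVec (c : Matrix n n B) (G : Matrix n n B) (u v : n → B) :
    disc c (G *ᵥ u) (G *ᵥ v) = disc (Gᵀ * c * G) u v := by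
  rw [disc, disc, pol_mulVec, Qm_mulVec, Qm_mulVec]

theorem hasPivot_of_conj (c : Matrix n n B) (q : Ideal B) (G₁ : Matrix n n B) (hG₁ : IsUnit G₁.det)
    (h : HasPivot (G₁ᵀ * c * G₁) q) : HasPivot c q := by
  obtain ⟨G, hG, i, j, hij, h1, h2⟩ := h
  refine ⟨G₁ * G, ?_, i, j, hij, ?_, ?_⟩
  · rw [Matrix.det_mul]; exact hG₁.mul hG
  · rwa [← Matrix.mulVec_mulVec, Qm_mulVec]
  · rwa [← Matrix.mulVec_mulVec, ← Matrix.mulVec_mulVec, disc_mulVec]

theorem det_conj_notMem (c : Matrix n n B) (q : Ideal B) [q.IsPrime] (G₁ : Matrix n n B)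
    (hG₁ : IsUnit G₁.det) (hdet : (c + cᵀ).det ∉ q) :
    ((G₁ᵀ * c * G₁) + (G₁ᵀ * c * G₁)ᵀ).det ∉ q := by
  have h1 : (G₁ᵀ * c * G₁) + (G₁ᵀ * c * G₁)ᵀ = G₁ᵀ * (c + cᵀ) * G₁ := by
    simp only [Matrix.transpose_mul, Matrix.transpose_transpose, Matrix.mul_add, Matrix.add_mul,
      Matrix.mul_assoc]
  rw [h1, Matrix.det_mul, Matrix.det_mul, Matrix.det_transpose]
  intro h
  rcases Ideal.IsPrime.mem_or_mem inferInstance h with h | h
  · rcases Ideal.IsPrime.mem_or_mem inferInstance h with h | h
    · exact (Ideal.IsPrime.ne_top inferInstance) (Ideal.eq_top_of_isUnit_mem _ h hG₁)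
    · exact hdet h
  · exact (Ideal.IsPrime.ne_top inferInstance) (Ideal.eq_top_of_isUnit_mem _ h hG₁)

theorem exists_pol_notMem (c : Matrix n n B) (q : Ideal B) [q.IsPrime] (hdet : (c + cᵀ).det ∉ q)
    (i : n) : ∃ k, pol c (Pi.single i 1) (Pi.single k 1) ∉ q := by
  by_contra h
  push Not at h
  have := mem_of_forall_pol_mem c q hdet (Pi.single i 1) h i
  rw [Pi.single_eq_same] at this
  exact (Ideal.IsPrime.ne_top inferInstance) ((Ideal.eq_top_iff_one _).mpr this)

/-- If the standard basis vectors `e_i, e_k` span a plane with discriminant not in `q`, there is a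
pivot. -/
theorem hasPivot_of_disc (c : Matrix n n B) (q : Ideal B) [q.IsPrime] (i k : n) (hik : i ≠ k)
    (hd : disc c (Pi.single i 1) (Pi.single k 1) ∉ q) : HasPivot c q := by
  by_cases h1 : Qm c (Pi.single i 1) ∈ q
  swap
  · exact ⟨1, by simp, i, k, hik, by rwa [Matrix.one_mulVec], by rwa [Matrix.one_mulVec, Matrix.one_mulVec]⟩
  by_cases h2 : Qm c (Pi.single k 1) ∈ q
  swap
  · refine ⟨1, by simp, k, i, hik.symm, by rwa [Matrix.one_mulVec], ?_⟩
    rw [disc_comm, Matrix.one_mulVec, Matrix.one_mulVec]; exact hd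
  -- both in `q`: use `e_i + e_k`
  have hp : pol c (Pi.single i 1) (Pi.single k 1) ∉ q := by
    intro hp
    apply hd
    rw [disc]
    exact q.sub_mem (q.pow_mem_of_mem hp 2 (by norm_num)) (q.mul_mem_left _ h2)
  refine ⟨Matrix.transvection k i 1, by rw [Matrix.det_transvection_of_ne _ _ hik.symm]; simp,
    i, k, hik, ?_, ?_⟩
  · rw [transvection_mulVec_single, if_pos rfl, one_smul, Qm_add]
    intro h
    apply hp
    have := q.sub_mem h (q.add_mem h1 h2)
    simpa using this
  · rw [transvection_mulVec_single, transvection_mulVec_single, if_pos rfl, if_neg hik.symm, one_smul,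
      add_zero, disc_add_left]
    exact hd

/-- Pivot search when `2 ∈ q`. -/
theorem hasPivot_of_two_mem (c : Matrix n n B) (q : Ideal B) [q.IsPrime] (hdet : (c + cᵀ).det ∉ q)
    (h2 : (2 : B) ∈ q) (i : n) : HasPivot c q := by
  obtain ⟨k, hk⟩ := exists_pol_notMem c q hdet i
  have hik : i ≠ k := by
    rintro rfl
    apply hk
    rw [pol_self]
    exact q.mul_mem_right _ h2
  apply hasPivot_of_disc c q i k hik
  intro hd
  apply hk
  have h4 : (4 : B) * Qm c (Pi.single i 1) * Qm c (Pi.single k 1) ∈ q := by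
    have : (4 : B) = 2 * 2 := by norm_num
    rw [this, mul_assoc, mul_assoc]
    exact q.mul_mem_right _ h2
  have h5 : (pol c (Pi.single i 1) (Pi.single k 1)) ^ 2 ∈ q := by
    have := q.add_mem hd h4
    rwa [disc, sub_add_cancel] at this
  exact Ideal.IsPrime.mem_of_pow_mem inferInstance 2 h5

/-- Pivot search when `2 ∉ q` and some diagonal entry is not in `q`. -/
theorem hasPivot_of_diag_notMem (c : Matrix n n B) (q : Ideal B) [q.IsPrime]
    (hdet : (c + cᵀ).det ∉ q) (h2 : (2 : B) ∉ q) (i j₁ : n) (hj₁ : j₁ ≠ i) (hci : c i i ∉ q) :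
    HasPivot c q := by
  by_contra hno
  have hQi : Qm c (Pi.single i 1) ∉ q := by rwa [Qm_single]
  have H1 : ∀ j, j ≠ i → disc c (Pi.single i 1) (Pi.single j 1) ∈ q := by
    intro j hj
    by_contra hd
    exact hno ⟨1, by simp, i, j, hj.symm, by rwa [Matrix.one_mulVec],
      by rwa [Matrix.one_mulVec, Matrix.one_mulVec]⟩
  have H2 : ∀ j k, j ≠ i → k ≠ i → j ≠ k →
      disc c (Pi.single i 1) (Pi.single j 1 + Pi.single k 1) ∈ q := by
    intro j k hj hk hjk
    by_contra hd
    refine hno ⟨Matrix.transvection k j 1,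
      by rw [Matrix.det_transvection_of_ne _ _ hjk.symm]; simp, i, j, hj.symm, ?_, ?_⟩
    · rwa [transvection_mulVec_single, if_neg hj.symm, add_zero]
    · rwa [transvection_mulVec_single, transvection_mulVec_single, if_neg hj.symm, add_zero,
        if_pos rfl, one_smul]
  -- the degenerate vector
  let M : n → n → B := fun a b => pol c (Pi.single a 1) (Pi.single b 1)
  have hMs : ∀ a b, M a b = M b a := fun a b => pol_comm _ _ _
  have hMd : ∀ a, M a a = 2 * c a a := fun a => by
    change pol c _ _ = _; rw [pol_self, Qm_single]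
  let x : n → B := M i i • Pi.single j₁ 1 - M i j₁ • Pi.single i 1
  have hx : ∀ k, pol c x (Pi.single k 1) = M i i * M j₁ k - M i j₁ * M i k := by
    intro k
    rw [pol_sub_left, pol_smul_left, pol_smul_left]
  have hxq : ∀ k, pol c x (Pi.single k 1) ∈ q := by
    intro k
    rw [hx]
    by_cases hki : k = i
    · rw [hki, hMs j₁ i]
      have : M i i * M i j₁ - M i j₁ * M i i = 0 := by ring
      rw [this]; exact zero_mem _
    by_cases hkj : k = j₁
    · rw [hkj]
      have h := H1 j₁ hj₁
      rw [disc, Qm_single, Qm_single] at h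
      have : M i i * M j₁ j₁ - M i j₁ * M i j₁ = -((M i j₁) ^ 2 - 4 * c i i * c j₁ j₁) := by
        rw [hMd, hMd]; ring
      rw [this]
      exact q.neg_mem h
    · have h := H2 j₁ k hj₁ hki (Ne.symm hkj)
      rw [disc_add_right] at h
      have h' := q.sub_mem h (q.add_mem (H1 j₁ hj₁) (H1 k hki))
      rw [add_sub_cancel_left] at h'
      have h'' := (Ideal.IsPrime.mem_or_mem inferInstance h').resolve_left h2
      rw [Qm_single] at h''
      have : M i i * M j₁ k - M i j₁ * M i k =
          -(pol c (Pi.single i 1) (Pi.single j₁ 1) * pol c (Pi.single i 1) (Pi.single k 1) -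
            2 * c i i * pol c (Pi.single j₁ 1) (Pi.single k 1)) := by
        rw [hMd]; ring
      rw [this]
      exact q.neg_mem h''
  have hxj := mem_of_forall_pol_mem c q hdet x hxq j₁
  have hxj' : x j₁ = 2 * c i i := by
    change (M i i • Pi.single j₁ 1 - M i j₁ • Pi.single i 1 : n → B) j₁ = _
    simp [hj₁, hMd]
  rw [hxj'] at hxj
  rcases Ideal.IsPrime.mem_or_mem inferInstance hxj with h | h
  · exact h2 h
  · exact hci h

/-- Pivot search: a form nondegenerate at `q` in at least two variables has a pivot. -/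
theorem hasPivot (c : Matrix n n B) (q : Ideal B) [q.IsPrime] (hdet : (c + cᵀ).det ∉ q)
    (i₀ j₀ : n) (h0 : i₀ ≠ j₀) : HasPivot c q := by
  by_cases h2 : (2 : B) ∈ q
  · exact hasPivot_of_two_mem c q hdet h2 i₀
  by_cases hdiag : ∃ i, c i i ∉ q
  · obtain ⟨i, hi⟩ := hdiag
    by_cases hi0 : i₀ = i
    · exact hasPivot_of_diag_notMem c q hdet h2 i j₀ (by rw [← hi0]; exact h0.symm) hi
    · exact hasPivot_of_diag_notMem c q hdet h2 i i₀ hi0 hi
  push Not at hdiag
  obtain ⟨k, hk⟩ := exists_pol_notMem c q hdet i₀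
  have hik : i₀ ≠ k := by
    rintro rfl
    apply hk
    rw [pol_self, Qm_single]
    exact q.mul_mem_left _ (hdiag _)
  have hG₁ : IsUnit (Matrix.transvection k i₀ (1 : B)).det := by
    rw [Matrix.det_transvection_of_ne _ _ hik.symm]; simp
  apply hasPivot_of_conj c q (Matrix.transvection k i₀ 1) hG₁
  apply hasPivot_of_diag_notMem _ q (det_conj_notMem c q _ hG₁ hdet) h2 i₀ k hik.symm
  rw [← Qm_single ((Matrix.transvection k i₀ 1)ᵀ * c * Matrix.transvection k i₀ 1) i₀, ← Qm_mulVec,
    transvection_mulVec_single, if_pos rfl, one_smul, Qm_add, Qm_single, Qm_single]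
  intro h
  apply hk
  have := q.sub_mem h (q.add_mem (hdiag i₀) (hdiag k))
  simpa using this

end Groth.Agent.Lib.Seat14.QuadPivot
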