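import Groth.Agent.Lib.Seat14SerreMain

/-!
# Affine variant of Serre's general position proposition (seat 14)

Elements of the form `p₀ + a • q` in general position, provided the closed set `F` contains the
zero locus of `a`.  This is the input of Bass' cancellation theorem.
-/

set_option autoImplicit false
universe u

open TopologicalSpace

namespace Groth.Agent.Lib.Seat14.SerreAffine

open Groth.Agent.Lib.Seat14.SerreV Groth.Agent.Lib.Seat14.SerreAux Groth.Agent.Lib.Seat14.SerreMain

variable {R : Type u} [CommRing R] {M : Type u} [AddCommGroup M] [Module R M]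

theorem affine' [NoetherianSpace (MaximalSpectrum R)] (p₀ : M) (a : R) (k : ℕ) :
    ∀ (h : ℕ) (s : Fin h → M) (F : Set (MaximalSpectrum R)) (_ : IsClosed F),
      (∀ x : MaximalSpectrum R, h + k ≤ Module.finrank (R ⧸ x.asIdeal)
        ((M ⧸ (x.asIdeal • ⊤ : Submodule R M)) ⧸ Bq R M x)) →
      (∀ x : MaximalSpectrum R,
        ¬ LinearIndependent (R ⧸ x.asIdeal) (fun i => img R M x (s i)) → x ∈ F) →
      (∀ x : MaximalSpectrum R, a ∈ x.asIdeal → x ∈ F) →
      ∃ (q : M) (F' : Set (MaximalSpectrum R)), IsClosed F' ∧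
        (∀ x : MaximalSpectrum R, ¬ LinearIndependent (R ⧸ x.asIdeal)
          (Fin.snoc (fun i => img R M x (s i)) (img R M x (p₀ + a • q)) : Fin (h + 1) → _) →
            x ∈ F ∪ F') ∧
        CodimGE F' k := by
  classical
  induction k with
  | zero =>
    intro h s F hF _ _ _
    exact ⟨0, Set.univ, isClosed_univ, fun x _ => Or.inr trivial, codimGE_zero _⟩
  | succ k ih =>
    intro h s F hF hrk hdep haF
    -- Step 1
    obtain ⟨q₀, F₀, hF₀, hb₀, hc₀⟩ := ih h s F hF (fun x => by have := hrk x; omega) hdep haF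
    obtain ⟨t₀, ht₀⟩ : ∃ t₀ : M, t₀ = p₀ + a • q₀ := ⟨_, rfl⟩
    rw [← ht₀] at hb₀
    obtain ⟨S₀, hS₀⟩ := exists_finset_irreducibleCloseds hF₀
    let J₀ := S₀.filter (fun C : IrreducibleCloseds (MaximalSpectrum R) =>
      ¬ (C : Set (MaximalSpectrum R)) ⊆ F ∧ ¬ (((k + 1 : ℕ) : ℕ∞) ≤ Order.coheight C))
    have hS₀sub : ∀ C ∈ S₀, (C : Set (MaximalSpectrum R)) ⊆ F₀ := by
      intro C hC x hx
      rw [hS₀]
      exact Set.mem_iUnion₂.mpr ⟨C, hC, hx⟩
    have hpt : ∀ C : IrreducibleCloseds (MaximalSpectrum R), ∃ y : MaximalSpectrum R,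
        C ∈ J₀ → y ∈ (C : Set (MaximalSpectrum R)) ∧ y ∉ F := by
      intro C
      by_cases hC : C ∈ J₀
      · obtain ⟨y, hyC, hyF⟩ := Set.not_subset.mp (Finset.mem_filter.mp hC).2.1
        exact ⟨y, fun _ => ⟨hyC, hyF⟩⟩
      · exact ⟨C.isIrreducible.nonempty.some, fun h => absurd h hC⟩
    choose pt hpt using hpt
    have hs_ind : ∀ y : MaximalSpectrum R, y ∉ F →
        LinearIndependent (R ⧸ y.asIdeal) (fun i => img R M y (s i)) := fun y hy => by
      by_contra hcon
      exact hy (hdep y hcon)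
    have hw : ∀ y : MaximalSpectrum R, ∃ w : M, y ∉ F → LinearIndependent (R ⧸ y.asIdeal)
        (Fin.snoc (fun i => img R M y (s i)) (img R M y (t₀ + a • w)) : Fin (h + 1) → _) := by
      intro y
      by_cases hy : y ∈ F
      · exact ⟨0, fun h => absurd hy h⟩
      · obtain ⟨w', hw'⟩ := exists_extend y s (hs_ind y hy) (by have := hrk y; omega) t₀
        have hay : a ∉ y.asIdeal := fun h => hy (haF y h)
        -- an inverse of `a` modulo `y`
        have hsup : Ideal.span {a} ⊔ y.asIdeal = ⊤ := by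
          by_contra hne
          have h1 : Ideal.span {a} ⊔ y.asIdeal = y.asIdeal :=
            (y.isMaximal.eq_of_le hne le_sup_right).symm
          exact hay (h1 ▸ (le_sup_left : Ideal.span {a} ≤ _) (Ideal.mem_span_singleton_self a))
        obtain ⟨u, hu, z, hz, huz⟩ := Submodule.mem_sup.mp ((Ideal.eq_top_iff_one _).mp hsup)
        obtain ⟨b, rfl⟩ := Ideal.mem_span_singleton'.mp hu
        refine ⟨b • w', fun _ => ?_⟩
        have h2 : img R M y (t₀ + a • b • w') = img R M y (t₀ + w') := by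
          rw [smul_smul]
          apply img_add_smul_of_sub_one_mem
          have : a * b - 1 = -z := by rw [← huz]; ring
          rw [this]
          exact Ideal.neg_mem_iff _ |>.mpr hz
        rw [h2]
        exact hw'
    choose w hw using hw
    -- Step 2: the ordinary proposition for `(s, t₀)`
    have hY₁ : ∀ y ∈ J₀.image pt, y ∈ F ∪ F₀ := by
      intro y hy
      obtain ⟨C, hC, rfl⟩ := Finset.mem_image.mp hy
      exact Or.inr (hS₀sub C (Finset.mem_filter.mp hC).1 (hpt C hC).1)
    obtain ⟨t₁, F₁', hF₁', ha₁, hb₁, hc₁⟩ :=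
      main' k (h + 1) (Fin.snoc s t₀) (F ∪ F₀) (hF.union hF₀) (J₀.image pt) hY₁ w
        (fun x => by have := hrk x; omega)
        (fun x hx => by rw [img_snoc] at hx; exact hb₀ x hx)
    obtain ⟨S₁, hS₁⟩ := exists_finset_irreducibleCloseds hF₁'
    have hS₁sub : ∀ D ∈ S₁, (D : Set (MaximalSpectrum R)) ⊆ F₁' := by
      intro D hD x hx
      rw [hS₁]
      exact Set.mem_iUnion₂.mpr ⟨D, hD, hx⟩
    let J₁ := S₁.filter (fun D : IrreducibleCloseds (MaximalSpectrum R) =>
      ¬ (D : Set (MaximalSpectrum R)) ⊆ F ∪ F₀)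
    let Dtot : Set (MaximalSpectrum R) := ⋃ D ∈ J₁, (D : Set (MaximalSpectrum R))
    have hDtot : IsClosed Dtot := isClosed_biUnion_irreducibleCloseds J₁
    have ht₁pt : ∀ C ∈ J₀, img R M (pt C) (t₀ + a • t₁) = img R M (pt C) (t₀ + a • w (pt C)) := by
      intro C hC
      rw [img_add, img_add, img_smul, img_smul, ha₁ (pt C) (Finset.mem_image_of_mem pt hC)]
    -- Step 3: new points
    have hpt' : ∀ C : IrreducibleCloseds (MaximalSpectrum R), ∃ y : MaximalSpectrum R,
        C ∈ J₀ → y ∈ (C : Set (MaximalSpectrum R)) ∧ y ∉ Dtot ∧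
          LinearIndependent (R ⧸ y.asIdeal)
            (Fin.snoc (fun i => img R M y (s i)) (img R M y (t₀ + a • t₁)) : Fin (h + 1) → _) := by
      intro C
      by_cases hC : C ∈ J₀
      swap
      · exact ⟨C.isIrreducible.nonempty.some, fun h => absurd h hC⟩
      have hCmem := Finset.mem_filter.mp hC
      have h1 : ((C : Set (MaximalSpectrum R)) ∩ Dtotᶜ).Nonempty := by
        by_contra hemp
        have hsub : (C : Set (MaximalSpectrum R)) ⊆ Dtot := by
          intro x hx
          by_contra hxD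
          exact hemp ⟨x, hx, hxD⟩
        obtain ⟨D, hD, hCD⟩ := exists_subset_of_subset_biUnion C.isIrreducible J₁ hsub
        have hDmem := Finset.mem_filter.mp hD
        by_cases hEq : C = D
        · apply hDmem.2
          rw [← hEq]
          exact (hS₀sub C hCmem.1).trans Set.subset_union_right
        · have h2 := coheight_succ_le hCD hEq
          have h3 : ((k : ℕ) : ℕ∞) ≤ Order.coheight D := hc₁ D (hS₁sub D hDmem.1)
          apply hCmem.2.2
          calc ((k + 1 : ℕ) : ℕ∞) = (k : ℕ∞) + 1 := by push_cast; rfl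
            _ ≤ Order.coheight D + 1 := by gcongr
            _ ≤ Order.coheight C := h2
      have h2 : ((C : Set (MaximalSpectrum R)) ∩ {x : MaximalSpectrum R | ¬ LinearIndependent
          (R ⧸ x.asIdeal) (Fin.snoc (fun i => img R M x (s i)) (img R M x (t₀ + a • t₁)) :
            Fin (h + 1) → _)}ᶜ).Nonempty := by
        refine ⟨pt C, (hpt C hC).1, ?_⟩
        simp only [Set.mem_compl_iff, Set.mem_ofPred_eq, not_not]
        rw [ht₁pt C hC]
        exact hw (pt C) (hpt C hC).2
      obtain ⟨y, hyC, hyD, hyZ⟩ := C.isIrreducible.isPreirreducible _ _ hDtot.isOpen_compl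
        (isClosed_dep_snoc s (t₀ + a • t₁)).isOpen_compl h1 h2
      refine ⟨y, fun _ => ⟨hyC, hyD, ?_⟩⟩
      simpa only [Set.mem_compl_iff, Set.mem_ofPred_eq, not_not] using hyZ
    choose pt' hpt' using hpt'
    obtain ⟨c, hcD, hc1⟩ := exists_vanishing_one hDtot (J₀.image pt') (by
      intro y hy
      obtain ⟨C, hC, rfl⟩ := Finset.mem_image.mp hy
      exact (hpt' C hC).2.1)
    -- Step 4: the new element
    have hform : p₀ + a • (q₀ + c • t₁) = t₀ + c • (a • t₁) := by
      rw [ht₀, smul_add, smul_comm a c t₁, add_assoc]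
    have ht_pt' : ∀ C ∈ J₀, LinearIndependent (R ⧸ (pt' C).asIdeal)
        (Fin.snoc (fun i => img R M (pt' C) (s i)) (img R M (pt' C) (t₀ + c • (a • t₁))) :
          Fin (h + 1) → _) := by
      intro C hC
      rw [img_add_smul_of_sub_one_mem (pt' C) t₀ (a • t₁) c
        (hc1 (pt' C) (Finset.mem_image_of_mem pt' hC))]
      exact (hpt' C hC).2.2
    let Zt : Set (MaximalSpectrum R) := {x : MaximalSpectrum R | ¬ LinearIndependent (R ⧸ x.asIdeal)
      (Fin.snoc (fun i => img R M x (s i)) (img R M x (t₀ + c • (a • t₁))) : Fin (h + 1) → _)}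
    have hZt : IsClosed Zt := isClosed_dep_snoc s (t₀ + c • (a • t₁))
    have hZsub : Zt ⊆ F ∪ F₀ ∪ F₁' := by
      intro x hx
      by_contra hxn
      apply hx
      have h1 : LinearIndependent (R ⧸ x.asIdeal)
          (Fin.snoc (fun i => img R M x ((Fin.snoc s t₀ : Fin (h + 1) → M) i)) (img R M x t₁) :
            Fin (h + 1 + 1) → _) := by
        by_contra hcon
        exact hxn (hb₁ x hcon)
      rw [img_snoc] at h1
      have := x.isMaximal
      let _ : Field (R ⧸ x.asIdeal) := Ideal.Quotient.field x.asIdeal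
      have h2 := snoc_add_smul (K := R ⧸ x.asIdeal) _ _ _ (Ideal.Quotient.mk x.asIdeal (c * a)) h1
      rw [smul_smul, img_add, img_smul]
      exact h2
    obtain ⟨SG, hSG⟩ := exists_finset_irreducibleCloseds (hZt.inter (hF₀.union hF₁'))
    let JG := SG.filter (fun E : IrreducibleCloseds (MaximalSpectrum R) =>
      ¬ (E : Set (MaximalSpectrum R)) ⊆ F)
    have hSGsub : ∀ E ∈ SG, (E : Set (MaximalSpectrum R)) ⊆ Zt ∩ (F₀ ∪ F₁') := by
      intro E hE x hx
      rw [hSG]
      exact Set.mem_iUnion₂.mpr ⟨E, hE, hx⟩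
    refine ⟨q₀ + c • t₁, ⋃ E ∈ JG, (E : Set (MaximalSpectrum R)),
      isClosed_biUnion_irreducibleCloseds JG, ?_, ?_⟩
    · intro x hx
      rw [hform] at hx
      by_cases hxF : x ∈ F
      · exact Or.inl hxF
      right
      have hxG : x ∈ Zt ∩ (F₀ ∪ F₁') := by
        refine ⟨hx, ?_⟩
        rcases hZsub hx with (h1 | h1) | h1
        · exact absurd h1 hxF
        · exact Or.inl h1
        · exact Or.inr h1
      rw [hSG] at hxG
      obtain ⟨E, hE, hxE⟩ := Set.mem_iUnion₂.mp hxG
      exact Set.mem_iUnion₂.mpr ⟨E, Finset.mem_filter.mpr ⟨hE, fun hsub => hxF (hsub hxE)⟩, hxE⟩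
    · intro Y' hY'
      obtain ⟨E, hE, hYE⟩ := exists_subset_of_subset_biUnion Y'.isIrreducible JG hY'
      refine le_trans ?_ (coheight_mono hYE)
      have hEmem := Finset.mem_filter.mp hE
      have hEsub := hSGsub E hEmem.1
      have hEZ : (E : Set (MaximalSpectrum R)) ⊆ Zt := fun x hx => (hEsub hx).1
      have hkk : ∀ c' : ℕ∞, (k : ℕ∞) ≤ c' → ((k + 1 : ℕ) : ℕ∞) ≤ c' + 1 := by
        intro c' hc'
        calc ((k + 1 : ℕ) : ℕ∞) = (k : ℕ∞) + 1 := by push_cast; rfl
          _ ≤ c' + 1 := by gcongr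
      by_cases hE0 : (E : Set (MaximalSpectrum R)) ⊆ F₀
      · obtain ⟨C, hC, hEC⟩ := exists_subset_of_subset_biUnion E.isIrreducible S₀
          (by rw [← hS₀]; exact hE0)
        by_cases hCk : ((k + 1 : ℕ) : ℕ∞) ≤ Order.coheight C
        · exact hCk.trans (coheight_mono hEC)
        · have hCJ : C ∈ J₀ := Finset.mem_filter.mpr
            ⟨hC, fun hCF => hEmem.2 (hEC.trans hCF), hCk⟩
          have hne : E ≠ C := by
            rintro rfl
            exact hEZ (hpt' E hCJ).1 (ht_pt' E hCJ)
          exact (hkk _ (hc₀ C (hS₀sub C hC))).trans (coheight_succ_le hEC hne)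
      · have hE1 : (E : Set (MaximalSpectrum R)) ⊆ F₁' := by
          rcases subset_or_subset_of_subset_union E.isIrreducible hF₀ hF₁'
            (fun x hx => (hEsub hx).2) with h1 | h1
          · exact absurd h1 hE0
          · exact h1
        obtain ⟨D, hD, hED⟩ := exists_subset_of_subset_biUnion E.isIrreducible S₁
          (by rw [← hS₁]; exact hE1)
        by_cases hne : E = D
        · exfalso
          subst hne
          have hEJ : E ∈ J₁ := by
            refine Finset.mem_filter.mpr ⟨hD, fun hsub => ?_⟩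
            rcases subset_or_subset_of_subset_union E.isIrreducible hF hF₀ hsub with h1 | h1
            · exact hEmem.2 h1
            · exact hE0 h1
          apply (Finset.mem_filter.mp hEJ).2
          intro x hx
          have hxD : x ∈ Dtot := Set.mem_iUnion₂.mpr ⟨E, hEJ, hx⟩
          have hxZ := hEZ hx
          simp only [Zt, Set.mem_ofPred_eq] at hxZ
          rw [img_add_smul_of_mem x t₀ (a • t₁) c (hcD x hxD)] at hxZ
          exact hb₀ x hxZ
        · exact (hkk _ (hc₁ D (hS₁sub D hD))).trans (coheight_succ_le hED hne)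

end Groth.Agent.Lib.Seat14.SerreAffine
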