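import Groth.Agent.Lib.Seat14SerreV

/-!
# Serre's general position proposition: auxiliary lemmas (seat 14)

Linear algebra in the fibres `V(x)`, the Chinese remainder theorem for finitely many closed points,
closed subsets of the maximal spectrum, codimension of irreducible closed subsets.
-/

set_option autoImplicit false
universe u

open TopologicalSpace

namespace Groth.Agent.Lib.Seat14.SerreAux

open Groth.Agent.Lib.Seat14.SerreV

section LinAlg

variable {K : Type*} [Field K] {V : Type*} [AddCommGroup V] [Module K V]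

theorem exists_notMem_span {h : ℕ} (v : Fin h → V) (hfr : h < Module.finrank K V) :
    ∃ u : V, u ∉ Submodule.span K (Set.range v) := by
  by_contra hcon
  push Not at hcon
  have htop : Submodule.span K (Set.range v) = ⊤ := eq_top_iff.mpr fun u _ => hcon u
  have h1 : (Set.range v).finrank K ≤ Fintype.card (Fin h) := finrank_range_le_card v
  rw [Set.finrank, htop, finrank_top, Fintype.card_fin] at h1
  omega

theorem snoc_add_smul {h : ℕ} (v : Fin h → V) (a b : V) (c : K)
    (hli : LinearIndependent K (Fin.snoc (Fin.snoc v a : Fin (h + 1) → V) b : Fin (h + 1 + 1) → V)) :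
    LinearIndependent K (Fin.snoc v (a + c • b) : Fin (h + 1) → V) := by
  rw [linearIndependent_finSnoc] at hli
  obtain ⟨h1, hb⟩ := hli
  have h1' := h1
  rw [linearIndependent_finSnoc] at h1
  obtain ⟨hv, ha⟩ := h1
  rw [linearIndependent_finSnoc]
  refine ⟨hv, fun hmem => ?_⟩
  have hsub : Submodule.span K (Set.range v) ≤
      Submodule.span K (Set.range (Fin.snoc v a : Fin (h + 1) → V)) := by
    apply Submodule.span_mono
    rintro _ ⟨i, rfl⟩
    exact ⟨Fin.castSucc i, by simp⟩
  have ha' : a ∈ Submodule.span K (Set.range (Fin.snoc v a : Fin (h + 1) → V)) :=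
    Submodule.subset_span ⟨Fin.last h, by simp⟩
  by_cases hc : c = 0
  · apply ha
    simpa [hc] using hmem
  · apply hb
    have h2 : c • b ∈ Submodule.span K (Set.range (Fin.snoc v a : Fin (h + 1) → V)) := by
      have := Submodule.sub_mem _ (hsub hmem) ha'
      simpa using this
    have h3 := Submodule.smul_mem _ c⁻¹ h2
    rwa [smul_smul, inv_mul_cancel₀ hc, one_smul] at h3

end LinAlg

section Points

variable {R : Type u} [CommRing R] {M : Type u} [AddCommGroup M] [Module R M]

/-- A point at which an independent family can be extended. -/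
theorem exists_extend {h : ℕ} (x : MaximalSpectrum R) (s : Fin h → M)
    (hli : LinearIndependent (R ⧸ x.asIdeal) (fun i => img R M x (s i)))
    (hfr : h < Module.finrank (R ⧸ x.asIdeal)
      ((M ⧸ (x.asIdeal • ⊤ : Submodule R M)) ⧸ Bq R M x)) (t₀ : M) :
    ∃ w : M, LinearIndependent (R ⧸ x.asIdeal)
      (Fin.snoc (fun i => img R M x (s i)) (img R M x (t₀ + w)) : Fin (h + 1) → _) := by
  have := x.isMaximal
  let _ : Field (R ⧸ x.asIdeal) := Ideal.Quotient.field x.asIdeal
  by_cases h0 : img R M x t₀ ∈ Submodule.span (R ⧸ x.asIdeal) (Set.range fun i => img R M x (s i))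
  · obtain ⟨u, hu⟩ := exists_notMem_span (K := R ⧸ x.asIdeal) (fun i => img R M x (s i)) hfr
    obtain ⟨w, rfl⟩ := img_surjective x u
    refine ⟨w, linearIndependent_finSnoc.mpr ⟨hli, fun hmem => hu ?_⟩⟩
    rw [img_add] at hmem
    have := Submodule.sub_mem _ hmem h0
    simpa using this
  · exact ⟨0, linearIndependent_finSnoc.mpr ⟨hli, by rwa [add_zero]⟩⟩

/-- Chinese remainder theorem: prescribe an element of `M` modulo finitely many distinct maximal
ideals. -/
theorem exists_prescribed (Y : Finset (MaximalSpectrum R)) (m : MaximalSpectrum R → M) :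
    ∃ t : M, ∀ y ∈ Y, t - m y ∈ (y.asIdeal • ⊤ : Submodule R M) := by
  classical
  induction Y using Finset.induction_on with
  | empty => exact ⟨0, by simp⟩
  | insert y₁ Y hy₁ ih =>
    obtain ⟨t, ht⟩ := ih
    have hcop : y₁.asIdeal ⊔ ⨅ y ∈ Y, y.asIdeal = ⊤ := by
      apply Ideal.sup_iInf_eq_top
      intro y hy
      apply Ideal.IsMaximal.coprime_of_ne y₁.isMaximal y.isMaximal
      intro heq
      apply hy₁
      have : y₁ = y := MaximalSpectrum.ext heq
      rwa [this]
    obtain ⟨a, ha, e, he, hae⟩ := Submodule.mem_sup.mp ((Ideal.eq_top_iff_one _).mp hcop)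
    refine ⟨t + e • (m y₁ - t), ?_⟩
    intro y hy
    rw [Finset.mem_insert] at hy
    rcases hy with rfl | hy
    · have : t + e • (m y - t) - m y = a • (t - m y) := by
        have he' : e = 1 - a := by rw [← hae]; ring
        rw [he']; module
      rw [this]
      exact Submodule.smul_mem_smul ha trivial
    · have h1 : e ∈ y.asIdeal := by
        have := (Ideal.mem_iInf.mp he) y
        exact (Ideal.mem_iInf.mp this) hy
      have : t + e • (m y₁ - t) - m y = (t - m y) + e • (m y₁ - t) := by abel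
      rw [this]
      exact Submodule.add_mem _ (ht y hy) (Submodule.smul_mem_smul h1 trivial)

theorem img_eq_of_sub_mem (x : MaximalSpectrum R) (t m : M)
    (h : t - m ∈ (x.asIdeal • ⊤ : Submodule R M)) : img R M x t = img R M x m := by
  rw [img, img]
  congr 1
  rw [Submodule.mkQ_apply, Submodule.mkQ_apply, Submodule.Quotient.eq]
  exact h

theorem img_add_smul_of_mem (x : MaximalSpectrum R) (t₀ t₁ : M) (a : R) (ha : a ∈ x.asIdeal) :
    img R M x (t₀ + a • t₁) = img R M x t₀ := by
  rw [img_add, img_smul, Ideal.Quotient.eq_zero_iff_mem.mpr ha, zero_smul, add_zero]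

theorem img_add_smul_of_sub_one_mem (x : MaximalSpectrum R) (t₀ t₁ : M) (a : R)
    (ha : a - 1 ∈ x.asIdeal) : img R M x (t₀ + a • t₁) = img R M x (t₀ + t₁) := by
  rw [img_add, img_smul, img_add]
  have : Ideal.Quotient.mk x.asIdeal a = 1 := by
    rw [← sub_eq_zero, ← map_one (Ideal.Quotient.mk x.asIdeal), ← map_sub]
    exact Ideal.Quotient.eq_zero_iff_mem.mpr ha
  rw [this, one_smul]

end Points

section Top

variable {R : Type u} [CommRing R]

theorem exists_ideal_of_isClosed {F : Set (MaximalSpectrum R)} (hF : IsClosed F) :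
    ∃ I : Ideal R, ∀ x : MaximalSpectrum R, x ∈ F ↔ I ≤ x.asIdeal := by
  obtain ⟨t, ht, rfl⟩ := isClosed_induced_iff.mp hF
  obtain ⟨I, rfl⟩ := (PrimeSpectrum.isClosed_iff_zeroLocus_ideal t).mp ht
  exact ⟨I, fun x => Iff.rfl⟩

/-- A function vanishing on a closed set and equal to one at finitely many points outside it. -/
theorem exists_vanishing_one {D : Set (MaximalSpectrum R)} (hD : IsClosed D)
    (Y : Finset (MaximalSpectrum R)) (hY : ∀ y ∈ Y, y ∉ D) :
    ∃ a : R, (∀ x ∈ D, a ∈ x.asIdeal) ∧ ∀ y ∈ Y, a - 1 ∈ y.asIdeal := by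
  obtain ⟨I, hI⟩ := exists_ideal_of_isClosed hD
  have hcop : I ⊔ ⨅ y ∈ Y, y.asIdeal = ⊤ := by
    apply Ideal.sup_iInf_eq_top
    intro y hy
    by_contra hne
    have h1 : I ⊔ y.asIdeal = y.asIdeal :=
      (y.isMaximal.eq_of_le hne le_sup_right).symm
    exact hY y hy ((hI y).mpr (h1 ▸ le_sup_left))
  obtain ⟨a, ha, b, hb, hab⟩ := Submodule.mem_sup.mp ((Ideal.eq_top_iff_one _).mp hcop)
  refine ⟨a, fun x hx => (hI x).mp hx ha, fun y hy => ?_⟩
  have h1 : b ∈ y.asIdeal := (Ideal.mem_iInf.mp ((Ideal.mem_iInf.mp hb) y)) hy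
  have : a - 1 = -b := by rw [← hab]; ring
  rw [this]
  exact Ideal.neg_mem_iff _ |>.mpr h1

end Top

section Codim

variable {α : Type*} [TopologicalSpace α]

/-- Every irreducible closed subset of `F` has codimension at least `k`. -/
def CodimGE (F : Set α) (k : ℕ) : Prop :=
  ∀ Z : IrreducibleCloseds α, (Z : Set α) ⊆ F → (k : ℕ∞) ≤ Order.coheight Z

theorem codimGE_zero (F : Set α) : CodimGE F 0 := fun _ _ => by simp

theorem exists_finset_irreducibleCloseds [NoetherianSpace α] {s : Set α} (hs : IsClosed s) :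
    ∃ S : Finset (IrreducibleCloseds α), s = ⋃ C ∈ S, (C : Set α) := by
  classical
  obtain ⟨S, hSf, hSc, hSi, rfl⟩ := NoetherianSpace.exists_finite_set_isClosed_irreducible hs
  refine ⟨hSf.toFinset.attach.image (fun t => ⟨t.1, hSi t.1 (hSf.mem_toFinset.mp t.2),
    hSc t.1 (hSf.mem_toFinset.mp t.2)⟩), ?_⟩
  ext x
  simp only [Set.mem_sUnion, Finset.mem_image, Finset.mem_attach, true_and, Subtype.exists,
    Set.Finite.mem_toFinset, Set.mem_iUnion, exists_prop]
  constructor
  · rintro ⟨t, ht, hx⟩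
    exact ⟨⟨t, hSi t ht, hSc t ht⟩, ⟨t, ht, rfl⟩, hx⟩
  · rintro ⟨C, ⟨t, ht, rfl⟩, hx⟩
    exact ⟨t, ht, hx⟩

theorem isClosed_biUnion_irreducibleCloseds (S : Finset (IrreducibleCloseds α)) :
    IsClosed (⋃ C ∈ S, (C : Set α)) :=
  S.finite_toSet.isClosed_biUnion fun C _ => C.isClosed

/-- An irreducible set contained in a finite union of closed sets lies in one of them. -/
theorem exists_subset_of_subset_biUnion {E : Set α} (hE : IsIrreducible E)
    (S : Finset (IrreducibleCloseds α)) (h : E ⊆ ⋃ C ∈ S, (C : Set α)) : ∃ C ∈ S, E ⊆ (C : Set α) := by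
  classical
  obtain ⟨z, hz, hEz⟩ := isIrreducible_iff_sUnion_isClosed.mp hE (S.image fun C : IrreducibleCloseds α => (C : Set α))
    (by
      intro z hz
      obtain ⟨C, -, rfl⟩ := Finset.mem_image.mp hz
      exact C.isClosed)
    (by
      intro x hx
      obtain ⟨C, hC, hxC⟩ := Set.mem_iUnion₂.mp (h hx)
      exact Set.mem_sUnion.mpr ⟨C, Finset.mem_coe.mpr (Finset.mem_image.mpr ⟨C, hC, rfl⟩), hxC⟩)
  obtain ⟨C, hC, rfl⟩ := Finset.mem_image.mp hz
  exact ⟨C, hC, hEz⟩

theorem subset_or_subset_of_subset_union {E A B : Set α} (hE : IsIrreducible E) (hA : IsClosed A)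
    (hB : IsClosed B) (h : E ⊆ A ∪ B) : E ⊆ A ∨ E ⊆ B :=
  (isPreirreducible_iff_isClosed_union_isClosed.mp hE.isPreirreducible) A B hA hB h

/-- A proper irreducible closed subset has larger codimension. -/
theorem coheight_succ_le {E C : IrreducibleCloseds α} (hEC : (E : Set α) ⊆ C) (hne : E ≠ C) :
    Order.coheight C + 1 ≤ Order.coheight E :=
  Order.coheight_add_one_le (lt_of_le_of_ne (show E ≤ C from hEC) hne)

theorem coheight_mono {E C : IrreducibleCloseds α} (hEC : (E : Set α) ⊆ C) :
    Order.coheight C ≤ Order.coheight E :=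
  Order.coheight_anti (show E ≤ C from hEC)

end Codim

end Groth.Agent.Lib.Seat14.SerreAux
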