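import Groth.Agent.Lib.Seat14SerreAux

/-!
# Serre's general position proposition (seat 14)

Induction on the codimension `k`; the statement with a finite set of prescribed points.
-/

set_option autoImplicit false
universe u

open TopologicalSpace

namespace Groth.Agent.Lib.Seat14.SerreMain

open Groth.Agent.Lib.Seat14.SerreV Groth.Agent.Lib.Seat14.SerreAux

variable {R : Type u} [CommRing R] {M : Type u} [AddCommGroup M] [Module R M]

theorem img_snoc {h : ℕ} (x : MaximalSpectrum R) (s : Fin h → M) (t : M) :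
    (fun i => img R M x ((Fin.snoc s t : Fin (h + 1) → M) i)) =
      (Fin.snoc (fun i => img R M x (s i)) (img R M x t) : Fin (h + 1) → _) := by
  have := Fin.comp_snoc (img R M x) s t
  simpa [Function.comp_def] using this

theorem isClosed_dep_snoc {h : ℕ} (s : Fin h → M) (t : M) :
    IsClosed {x : MaximalSpectrum R | ¬ LinearIndependent (R ⧸ x.asIdeal)
      (Fin.snoc (fun i => img R M x (s i)) (img R M x t) : Fin (h + 1) → _)} := by
  have := isClosed_dep (R := R) (M := M) (Fin.snoc s t : Fin (h + 1) → M)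
  simpa only [img_snoc] using this

theorem main' [NoetherianSpace (MaximalSpectrum R)] (k : ℕ) :
    ∀ (h : ℕ) (s : Fin h → M) (F : Set (MaximalSpectrum R)) (_ : IsClosed F)
      (Y : Finset (MaximalSpectrum R)) (_ : ∀ y ∈ Y, y ∈ F) (m : MaximalSpectrum R → M),
      (∀ x : MaximalSpectrum R, h + k ≤ Module.finrank (R ⧸ x.asIdeal)
        ((M ⧸ (x.asIdeal • ⊤ : Submodule R M)) ⧸ Bq R M x)) →
      (∀ x : MaximalSpectrum R,
        ¬ LinearIndependent (R ⧸ x.asIdeal) (fun i => img R M x (s i)) → x ∈ F) →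
      ∃ (t : M) (F' : Set (MaximalSpectrum R)), IsClosed F' ∧
        (∀ y ∈ Y, img R M y t = img R M y (m y)) ∧
        (∀ x : MaximalSpectrum R, ¬ LinearIndependent (R ⧸ x.asIdeal)
          (Fin.snoc (fun i => img R M x (s i)) (img R M x t) : Fin (h + 1) → _) → x ∈ F ∪ F') ∧
        CodimGE F' k := by
  classical
  induction k with
  | zero =>
    intro h s F hF Y hYF m _ _
    obtain ⟨t, ht⟩ := exists_prescribed Y m
    exact ⟨t, Set.univ, isClosed_univ, fun y hy => img_eq_of_sub_mem y t (m y) (ht y hy),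
      fun x _ => Or.inr trivial, codimGE_zero _⟩
  | succ k ih =>
    intro h s F hF Y hYF m hrk hdep
    -- Step 1
    obtain ⟨t₀, F₀, hF₀, ha₀, hb₀, hc₀⟩ :=
      ih h s F hF Y hYF m (fun x => by have := hrk x; omega) hdep
    obtain ⟨S₀, hS₀⟩ := exists_finset_irreducibleCloseds hF₀
    let J₀ := S₀.filter (fun C : IrreducibleCloseds (MaximalSpectrum R) =>
      ¬ (C : Set (MaximalSpectrum R)) ⊆ F ∧
      ¬ (((k + 1 : ℕ) : ℕ∞) ≤ Order.coheight C))
    have hS₀sub : ∀ C ∈ S₀, (C : Set (MaximalSpectrum R)) ⊆ F₀ := by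
      intro C hC x hx
      rw [hS₀]
      exact Set.mem_iUnion₂.mpr ⟨C, hC, hx⟩
    have hpt : ∀ C : IrreducibleCloseds (MaximalSpectrum R), ∃ y : MaximalSpectrum R,
        C ∈ J₀ → y ∈ (C : Set (MaximalSpectrum R)) ∧ y ∉ F := by
      intro C
      by_cases hC : C ∈ J₀
      · obtain ⟨y, hyC, hyF⟩ := Set.not_subset.mp (Finset.mem_filter.mp hC).2.1
        exact ⟨y, fun _ => ⟨hyC, hyF⟩⟩
      · exact ⟨C.isIrreducible.nonempty.some, fun h => absurd h hC⟩
    choose pt hpt using hpt
    have hs_ind : ∀ y : MaximalSpectrum R, y ∉ F →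
        LinearIndependent (R ⧸ y.asIdeal) (fun i => img R M y (s i)) := fun y hy => by
      by_contra hcon
      exact hy (hdep y hcon)
    have hw : ∀ y : MaximalSpectrum R, ∃ w : M, y ∉ F → LinearIndependent (R ⧸ y.asIdeal)
        (Fin.snoc (fun i => img R M y (s i)) (img R M y (t₀ + w)) : Fin (h + 1) → _) := by
      intro y
      by_cases hy : y ∈ F
      · exact ⟨0, fun h => absurd hy h⟩
      · obtain ⟨w, hw⟩ := exists_extend y s (hs_ind y hy) (by have := hrk y; omega) t₀
        exact ⟨w, fun _ => hw⟩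
    choose w hw using hw
    -- Step 2
    let Y₁ := Y ∪ J₀.image pt
    let m₁ : MaximalSpectrum R → M := fun y => if y ∈ F then 0 else w y
    have hY₁ : ∀ y ∈ Y₁, y ∈ F ∪ F₀ := by
      intro y hy
      rcases Finset.mem_union.mp hy with hy | hy
      · exact Or.inl (hYF y hy)
      · obtain ⟨C, hC, rfl⟩ := Finset.mem_image.mp hy
        exact Or.inr (hS₀sub C (Finset.mem_filter.mp hC).1 (hpt C hC).1)
    obtain ⟨t₁, F₁', hF₁', ha₁, hb₁, hc₁⟩ :=
      ih (h + 1) (Fin.snoc s t₀) (F ∪ F₀) (hF.union hF₀) Y₁ hY₁ m₁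
        (fun x => by have := hrk x; omega)
        (fun x hx => by rw [img_snoc] at hx; exact hb₀ x hx)
    obtain ⟨S₁, hS₁⟩ := exists_finset_irreducibleCloseds hF₁'
    have hS₁sub : ∀ D ∈ S₁, (D : Set (MaximalSpectrum R)) ⊆ F₁' := by
      intro D hD x hx
      rw [hS₁]
      exact Set.mem_iUnion₂.mpr ⟨D, hD, hx⟩
    let J₁ := S₁.filter (fun D : IrreducibleCloseds (MaximalSpectrum R) =>
      ¬ (D : Set (MaximalSpectrum R)) ⊆ F ∪ F₀)
    let Dtot : Set (MaximalSpectrum R) := ⋃ D ∈ J₁, (D : Set (MaximalSpectrum R))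
    have hDtot : IsClosed Dtot := isClosed_biUnion_irreducibleCloseds J₁
    -- the values of `t₁`
    have ht₁F : ∀ y ∈ Y, img R M y t₁ = 0 := by
      intro y hy
      rw [ha₁ y (Finset.mem_union_left _ hy)]
      simp only [m₁, if_pos (hYF y hy)]
      exact img_zero y
    have ht₁pt : ∀ C ∈ J₀, img R M (pt C) (t₀ + t₁) = img R M (pt C) (t₀ + w (pt C)) := by
      intro C hC
      rw [img_add, img_add, ha₁ (pt C) (Finset.mem_union_right _ (Finset.mem_image_of_mem pt hC))]
      simp only [m₁, if_neg (hpt C hC).2]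
    -- Step 3: new points
    have hpt' : ∀ C : IrreducibleCloseds (MaximalSpectrum R), ∃ y : MaximalSpectrum R,
        C ∈ J₀ → y ∈ (C : Set (MaximalSpectrum R)) ∧ y ∉ Dtot ∧
          LinearIndependent (R ⧸ y.asIdeal)
            (Fin.snoc (fun i => img R M y (s i)) (img R M y (t₀ + t₁)) : Fin (h + 1) → _) := by
      intro C
      by_cases hC : C ∈ J₀
      swap
      · exact ⟨C.isIrreducible.nonempty.some, fun h => absurd h hC⟩
      have hCmem := Finset.mem_filter.mp hC
      have h1 : ((C : Set (MaximalSpectrum R)) ∩ Dtotᶜ).Nonempty := by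
        by_contra hemp
        have hsub : (C : Set (MaximalSpectrum R)) ⊆ Dtot := by
          intro x hx
          by_contra hxD
          exact hemp ⟨x, hx, hxD⟩
        obtain ⟨D, hD, hCD⟩ := exists_subset_of_subset_biUnion C.isIrreducible J₁ hsub
        have hDmem := Finset.mem_filter.mp hD
        by_cases hEq : C = D
        · apply hDmem.2
          rw [← hEq]
          exact (hS₀sub C hCmem.1).trans Set.subset_union_right
        · have h2 := coheight_succ_le hCD hEq
          have h3 : ((k : ℕ) : ℕ∞) ≤ Order.coheight D := hc₁ D (hS₁sub D hDmem.1)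
          apply hCmem.2.2
          calc ((k + 1 : ℕ) : ℕ∞) = (k : ℕ∞) + 1 := by push_cast; rfl
            _ ≤ Order.coheight D + 1 := by gcongr
            _ ≤ Order.coheight C := h2
      have h2 : ((C : Set (MaximalSpectrum R)) ∩ {x : MaximalSpectrum R | ¬ LinearIndependent
          (R ⧸ x.asIdeal) (Fin.snoc (fun i => img R M x (s i)) (img R M x (t₀ + t₁)) :
            Fin (h + 1) → _)}ᶜ).Nonempty := by
        refine ⟨pt C, (hpt C hC).1, ?_⟩
        simp only [Set.mem_compl_iff, Set.mem_ofPred_eq, not_not]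
        rw [ht₁pt C hC]
        exact hw (pt C) (hpt C hC).2
      obtain ⟨y, hyC, hyD, hyZ⟩ := C.isIrreducible.isPreirreducible _ _ hDtot.isOpen_compl
        (isClosed_dep_snoc s (t₀ + t₁)).isOpen_compl h1 h2
      refine ⟨y, fun _ => ⟨hyC, hyD, ?_⟩⟩
      simpa only [Set.mem_compl_iff, Set.mem_ofPred_eq, not_not] using hyZ
    choose pt' hpt' using hpt'
    obtain ⟨a, haD, ha1⟩ := exists_vanishing_one hDtot (J₀.image pt') (by
      intro y hy
      obtain ⟨C, hC, rfl⟩ := Finset.mem_image.mp hy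
      exact (hpt' C hC).2.1)
    -- Step 4: the new element
    have ht_pt' : ∀ C ∈ J₀, LinearIndependent (R ⧸ (pt' C).asIdeal)
        (Fin.snoc (fun i => img R M (pt' C) (s i)) (img R M (pt' C) (t₀ + a • t₁)) :
          Fin (h + 1) → _) := by
      intro C hC
      rw [img_add_smul_of_sub_one_mem (pt' C) t₀ t₁ a
        (ha1 (pt' C) (Finset.mem_image_of_mem pt' hC))]
      exact (hpt' C hC).2.2
    let Zt : Set (MaximalSpectrum R) := {x : MaximalSpectrum R | ¬ LinearIndependent (R ⧸ x.asIdeal)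
      (Fin.snoc (fun i => img R M x (s i)) (img R M x (t₀ + a • t₁)) : Fin (h + 1) → _)}
    have hZt : IsClosed Zt := isClosed_dep_snoc s (t₀ + a • t₁)
    have hZsub : Zt ⊆ F ∪ F₀ ∪ F₁' := by
      intro x hx
      by_contra hxn
      apply hx
      have h1 : LinearIndependent (R ⧸ x.asIdeal)
          (Fin.snoc (fun i => img R M x ((Fin.snoc s t₀ : Fin (h + 1) → M) i)) (img R M x t₁) :
            Fin (h + 1 + 1) → _) := by
        by_contra hcon
        exact hxn (hb₁ x hcon)
      rw [img_snoc] at h1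
      have := x.isMaximal
      let _ : Field (R ⧸ x.asIdeal) := Ideal.Quotient.field x.asIdeal
      have h2 := snoc_add_smul (K := R ⧸ x.asIdeal) _ _ _ (Ideal.Quotient.mk x.asIdeal a) h1
      rw [img_add, img_smul]
      exact h2
    obtain ⟨SG, hSG⟩ := exists_finset_irreducibleCloseds (hZt.inter (hF₀.union hF₁'))
    let JG := SG.filter (fun E : IrreducibleCloseds (MaximalSpectrum R) =>
      ¬ (E : Set (MaximalSpectrum R)) ⊆ F)
    have hSGsub : ∀ E ∈ SG, (E : Set (MaximalSpectrum R)) ⊆ Zt ∩ (F₀ ∪ F₁') := by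
      intro E hE x hx
      rw [hSG]
      exact Set.mem_iUnion₂.mpr ⟨E, hE, hx⟩
    refine ⟨t₀ + a • t₁, ⋃ E ∈ JG, (E : Set (MaximalSpectrum R)),
      isClosed_biUnion_irreducibleCloseds JG, ?_, ?_, ?_⟩
    · intro y hy
      rw [img_add, img_smul, ht₁F y hy, smul_zero, add_zero]
      exact ha₀ y hy
    · intro x hx
      by_cases hxF : x ∈ F
      · exact Or.inl hxF
      right
      have hxG : x ∈ Zt ∩ (F₀ ∪ F₁') := by
        refine ⟨hx, ?_⟩
        rcases hZsub hx with (h1 | h1) | h1
        · exact absurd h1 hxF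
        · exact Or.inl h1
        · exact Or.inr h1
      rw [hSG] at hxG
      obtain ⟨E, hE, hxE⟩ := Set.mem_iUnion₂.mp hxG
      exact Set.mem_iUnion₂.mpr ⟨E, Finset.mem_filter.mpr ⟨hE, fun hsub => hxF (hsub hxE)⟩, hxE⟩
    · intro Y' hY'
      obtain ⟨E, hE, hYE⟩ := exists_subset_of_subset_biUnion Y'.isIrreducible JG hY'
      refine le_trans ?_ (coheight_mono hYE)
      have hEmem := Finset.mem_filter.mp hE
      have hEsub := hSGsub E hEmem.1
      have hEZ : (E : Set (MaximalSpectrum R)) ⊆ Zt := fun x hx => (hEsub hx).1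
      have hkk : ∀ c : ℕ∞, (k : ℕ∞) ≤ c → ((k + 1 : ℕ) : ℕ∞) ≤ c + 1 := by
        intro c hc
        calc ((k + 1 : ℕ) : ℕ∞) = (k : ℕ∞) + 1 := by push_cast; rfl
          _ ≤ c + 1 := by gcongr
      by_cases hE0 : (E : Set (MaximalSpectrum R)) ⊆ F₀
      · obtain ⟨C, hC, hEC⟩ := exists_subset_of_subset_biUnion E.isIrreducible S₀
          (by rw [← hS₀]; exact hE0)
        by_cases hCk : ((k + 1 : ℕ) : ℕ∞) ≤ Order.coheight C
        · exact hCk.trans (coheight_mono hEC)
        · have hCJ : C ∈ J₀ := Finset.mem_filter.mpr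
            ⟨hC, fun hCF => hEmem.2 (hEC.trans hCF), hCk⟩
          have hne : E ≠ C := by
            rintro rfl
            exact hEZ (hpt' E hCJ).1 (ht_pt' E hCJ)
          exact (hkk _ (hc₀ C (hS₀sub C hC))).trans (coheight_succ_le hEC hne)
      · have hE1 : (E : Set (MaximalSpectrum R)) ⊆ F₁' := by
          rcases subset_or_subset_of_subset_union E.isIrreducible hF₀ hF₁'
            (fun x hx => (hEsub hx).2) with h1 | h1
          · exact absurd h1 hE0
          · exact h1
        obtain ⟨D, hD, hED⟩ := exists_subset_of_subset_biUnion E.isIrreducible S₁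
          (by rw [← hS₁]; exact hE1)
        by_cases hne : E = D
        · exfalso
          subst hne
          have hEJ : E ∈ J₁ := by
            refine Finset.mem_filter.mpr ⟨hD, fun hsub => ?_⟩
            rcases subset_or_subset_of_subset_union E.isIrreducible hF hF₀ hsub with h1 | h1
            · exact hEmem.2 h1
            · exact hE0 h1
          apply (Finset.mem_filter.mp hEJ).2
          intro x hx
          have hxD : x ∈ Dtot := Set.mem_iUnion₂.mpr ⟨E, hEJ, hx⟩
          have hxZ := hEZ hx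
          simp only [Zt, Set.mem_ofPred_eq] at hxZ
          rw [img_add_smul_of_mem x t₀ t₁ a (haD x hxD)] at hxZ
          exact hb₀ x hxZ
        · exact (hkk _ (hc₁ D (hS₁sub D hD))).trans (coheight_succ_le hED hne)

/-- Serre's general position proposition. -/
theorem main [NoetherianSpace (MaximalSpectrum R)]
    (h : ℕ) (s : Fin h → M) (F : Set (MaximalSpectrum R)) (hF : IsClosed F)
    (n : ℕ) (xs : Fin n → MaximalSpectrum R) (hxs : Function.Injective xs) (hxF : ∀ i, xs i ∈ F)
    (v : ∀ i : Fin n, M ⧸ ((xs i).asIdeal • ⊤ : Submodule R M)) (k : ℕ)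
    (hrk : ∀ x : MaximalSpectrum R, h + k ≤ Module.finrank (R ⧸ x.asIdeal)
      ((M ⧸ (x.asIdeal • ⊤ : Submodule R M)) ⧸ Bq R M x))
    (hdep : ∀ x : MaximalSpectrum R,
      ¬ LinearIndependent (R ⧸ x.asIdeal) (fun i => img R M x (s i)) → x ∈ F) :
    ∃ (t : M) (F' : Set (MaximalSpectrum R)), IsClosed F' ∧
      (∀ i : Fin n, img R M (xs i) t = (Bq R M (xs i)).mkQ (v i)) ∧
      (∀ x : MaximalSpectrum R, ¬ LinearIndependent (R ⧸ x.asIdeal)
        (Fin.snoc (fun i => img R M x (s i)) (img R M x t) : Fin (h + 1) → _) → x ∈ F ∪ F') ∧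
      ∀ Z : IrreducibleCloseds (MaximalSpectrum R), (Z : Set (MaximalSpectrum R)) ⊆ F' →
        (k : ℕ∞) ≤ Order.coheight Z := by
  classical
  choose mv hmv using fun i => ((xs i).asIdeal • ⊤ : Submodule R M).mkQ_surjective (v i)
  let m : MaximalSpectrum R → M := fun y => if hy : ∃ i, xs i = y then mv hy.choose else 0
  have hm : ∀ i, m (xs i) = mv i := by
    intro i
    have hex : ∃ j, xs j = xs i := ⟨i, rfl⟩
    simp only [m, dif_pos hex]
    rw [hxs hex.choose_spec]
  obtain ⟨t, F', hF', ha, hb, hc⟩ := main' k h s F hF (Finset.univ.image xs)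
    (by
      intro y hy
      obtain ⟨i, -, rfl⟩ := Finset.mem_image.mp hy
      exact hxF i) m hrk hdep
  refine ⟨t, F', hF', ?_, hb, hc⟩
  intro i
  rw [ha (xs i) (Finset.mem_image_of_mem xs (Finset.mem_univ i)), hm i, img, hmv i]

end Groth.Agent.Lib.Seat14.SerreMain
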