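import Groth.Agent.Lib.Seat14SerreMain
import Mathlib.RingTheory.Localization.AtPrime.Basic
import Mathlib.Algebra.Module.LocalizedModule.Basic
import Mathlib.RingTheory.Finiteness.Quotient

/-!
# Serre's splitting theorem (seat 14)
-/

set_option autoImplicit false
universe u

open TopologicalSpace

namespace Groth.Agent.Lib.Seat14.SerreSplit

open Groth.Agent.Lib.Seat14.SerreV Groth.Agent.Lib.Seat14.SerreAux Groth.Agent.Lib.Seat14.SerreMain

variable {R : Type u} [CommRing R] {M : Type u} [AddCommGroup M] [Module R M]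

instance finite_V [Module.Finite R M] (x : MaximalSpectrum R) :
    Module.Finite (R ⧸ x.asIdeal) ((M ⧸ (x.asIdeal • ⊤ : Submodule R M)) ⧸ Bq R M x) := by
  have : Module.Finite (R ⧸ x.asIdeal) (M ⧸ (x.asIdeal • ⊤ : Submodule R M)) :=
    Module.Finite.of_restrictScalars_finite R _ _
  infer_instance

/-- A free direct summand of rank `r` of the localization at a maximal ideal gives `r` independent
elements of `V(x)`. -/
theorem le_finrank_of_local_summand [Module.FinitePresentation R M] (m : Ideal R) [hm : m.IsMaximal]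
    (r : ℕ)
    (f : (Fin r → Localization.AtPrime m) →ₗ[Localization.AtPrime m] LocalizedModule m.primeCompl M)
    (g : LocalizedModule m.primeCompl M →ₗ[Localization.AtPrime m] (Fin r → Localization.AtPrime m))
    (hgf : g ∘ₗ f = LinearMap.id) :
    r ≤ Module.finrank (R ⧸ m)
      ((M ⧸ (m • ⊤ : Submodule R M)) ⧸ Bq R M ⟨m, hm⟩) := by
  classical
  let x : MaximalSpectrum R := ⟨m, hm⟩
  let S := m.primeCompl
  -- the basis vectors as fractions
  have he : ∀ j : Fin r, ∃ (s : M) (u : S), f (Pi.single j 1) = LocalizedModule.mk s u := by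
    intro j
    induction f (Pi.single j 1) using LocalizedModule.induction_on with
    | h s u => exact ⟨s, u, rfl⟩
  choose s u hsu using he
  -- the coordinate forms come from global forms
  have hφ : ∀ i : Fin r, ∃ (φ : M →ₗ[R] R) (v : S),
      ∀ m' : M, algebraMap R (Localization.AtPrime m) (φ m') =
        v • (g (LocalizedModule.mk m' 1)) i := by
    intro i
    let G : M →ₗ[R] Localization.AtPrime m :=
      ((LinearMap.proj i ∘ₗ g).restrictScalars R) ∘ₗ (LocalizedModule.mkLinearMap S M)
    obtain ⟨φ, v, hv⟩ := Module.FinitePresentation.exists_lift_of_isLocalizedModule S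
      (Algebra.linearMap R (Localization.AtPrime m)) G
    refine ⟨φ, v, fun m' => ?_⟩
    have := LinearMap.congr_fun hv m'
    simpa [G] using this
  choose φ v hφv using hφ
  have hentry : ∀ i j : Fin r, algebraMap R (Localization.AtPrime m) (φ i (s j)) =
      if i = j then algebraMap R (Localization.AtPrime m) ((v i : R) * (u i : R)) else 0 := by
    intro i j
    rw [hφv i (s j)]
    have h1 : (LocalizedModule.mk (s j) 1 : LocalizedModule S M) = (u j) • f (Pi.single j 1) := by
      rw [hsu j, Submonoid.smul_def, LocalizedModule.smul'_mk, ← Submonoid.smul_def,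
        LocalizedModule.mk_cancel]
    have h2 : g (f (Pi.single j 1)) = Pi.single j 1 := LinearMap.congr_fun hgf _
    rw [h1]
    rw [show ((u j) • f (Pi.single j 1) : LocalizedModule S M) =
      (algebraMap R (Localization.AtPrime m) (u j : R)) • f (Pi.single j 1) by
        rw [algebraMap_smul]; rfl]
    rw [map_smul, h2]
    by_cases hij : i = j
    · subst hij
      simp [Submonoid.smul_def, Algebra.smul_def, mul_comm]
    · simp [hij]
  have hdet : (Matrix.of fun i j => φ i (s j)).det ∉ m := by
    intro hmem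
    have h1 : (algebraMap R (Localization.AtPrime m)) (Matrix.of fun i j => φ i (s j)).det =
        ∏ i, algebraMap R (Localization.AtPrime m) ((v i : R) * (u i : R)) := by
      rw [RingHom.map_det, RingHom.mapMatrix_apply]
      have : (Matrix.of fun i j => φ i (s j)).map (algebraMap R (Localization.AtPrime m)) =
          Matrix.diagonal fun i => algebraMap R (Localization.AtPrime m) ((v i : R) * (u i : R)) := by
        ext i j
        simp only [Matrix.map_apply, Matrix.of_apply, Matrix.diagonal_apply]
        exact hentry i j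
      rw [this, Matrix.det_diagonal]
    have h2 : IsUnit ((algebraMap R (Localization.AtPrime m)) (Matrix.of fun i j => φ i (s j)).det) := by
      rw [h1, ← map_prod]
      apply (IsLocalization.AtPrime.isUnit_to_map_iff (Localization.AtPrime m) m _).mpr
      exact (S.prod_mem fun i _ => S.mul_mem (v i).2 (u i).2)
    exact (IsLocalization.AtPrime.isUnit_to_map_iff (Localization.AtPrime m) m _).mp h2 hmem
  have hli : LinearIndependent (R ⧸ x.asIdeal) (fun i => img R M x (s i)) :=
    (ind_iff x s).mpr ⟨φ, hdet⟩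
  have := x.isMaximal
  let _ : Field (R ⧸ x.asIdeal) := Ideal.Quotient.field x.asIdeal
  have h3 := hli.fintype_card_le_finrank
  simpa using h3

/-- Serre's splitting theorem. -/
theorem serre_splitting (R : Type u) [CommRing R] (d : ℕ) [NoetherianSpace (MaximalSpectrum R)]
    (hdim : topologicalKrullDim (MaximalSpectrum R) ≤ d)
    (M : Type u) [AddCommGroup M] [Module R M] [Module.FinitePresentation R M]
    (hM : ∀ (m : Ideal R) [m.IsMaximal],
      ∃ (f : (Fin (d + 1) → Localization.AtPrime m) →ₗ[Localization.AtPrime m]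
          LocalizedModule m.primeCompl M)
        (g : LocalizedModule m.primeCompl M →ₗ[Localization.AtPrime m]
          (Fin (d + 1) → Localization.AtPrime m)),
        g ∘ₗ f = LinearMap.id) :
    ∃ (s : M) (φ : M →ₗ[R] R), φ s = 1 := by
  have hrk : ∀ x : MaximalSpectrum R, 0 + (d + 1) ≤ Module.finrank (R ⧸ x.asIdeal)
      ((M ⧸ (x.asIdeal • ⊤ : Submodule R M)) ⧸ Bq R M x) := by
    intro x
    have := x.isMaximal
    obtain ⟨f, g, hgf⟩ := hM x.asIdeal
    have h1 := le_finrank_of_local_summand x.asIdeal (d + 1) f g hgf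
    rw [zero_add]
    exact h1
  obtain ⟨t, F', hF', -, hb, hc⟩ := main (R := R) (M := M) 0 Fin.elim0 ∅ isClosed_empty 0 Fin.elim0
    (fun i => i.elim0) (fun i => i.elim0) (fun i => i.elim0) (d + 1) hrk
    (fun x hx => absurd linearIndependent_empty_type hx)
  have hF'e : F' = ∅ := by
    by_contra hne
    obtain ⟨x, hx⟩ := Set.nonempty_iff_ne_empty.mpr hne
    let Z : IrreducibleCloseds (MaximalSpectrum R) :=
      ⟨{x}, isIrreducible_singleton, isClosed_singleton⟩
    have h1 : ((d + 1 : ℕ) : ℕ∞) ≤ Order.coheight Z := hc Z (Set.singleton_subset_iff.mpr hx)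
    have h2 : (Order.coheight Z : WithBot ℕ∞) ≤ topologicalKrullDim (MaximalSpectrum R) :=
      Order.coheight_le_krullDim Z
    have h3 : (((d + 1 : ℕ) : ℕ∞) : WithBot ℕ∞) ≤ ((d : ℕ∞) : WithBot ℕ∞) :=
      (WithBot.coe_le_coe.mpr h1).trans (h2.trans hdim)
    have h4 := WithBot.coe_le_coe.mp h3
    have h5 : (d + 1 : ℕ) ≤ d := by exact_mod_cast h4
    omega
  have hne : ∀ x : MaximalSpectrum R, ∃ φ : M →ₗ[R] R, φ t ∉ x.asIdeal := by
    intro x
    by_contra hcon
    push Not at hcon
    have h0 : img R M x t = 0 := (img_eq_zero_iff x t).mpr hcon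
    have := x.isMaximal
    let _ : Field (R ⧸ x.asIdeal) := Ideal.Quotient.field x.asIdeal
    have hx := hb x (fun hli => by
      have := hli.ne_zero (Fin.last 0)
      rw [Fin.snoc_last] at this
      exact this h0)
    rw [hF'e] at hx
    simp at hx
  let I : Ideal R := LinearMap.range (LinearMap.applyₗ t : (M →ₗ[R] R) →ₗ[R] R)
  have hI : I = ⊤ := by
    by_contra hIne
    obtain ⟨m, hm, hIm⟩ := Ideal.exists_le_maximal I hIne
    obtain ⟨φ, hφ⟩ := hne ⟨m, hm⟩
    exact hφ (hIm ⟨φ, rfl⟩)
  have h1 : (1 : R) ∈ I := by rw [hI]; trivial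
  obtain ⟨φ, hφ⟩ := h1
  exact ⟨t, φ, hφ⟩

end Groth.Agent.Lib.Seat14.SerreSplit
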