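import Mathlib.Algebra.Module.FinitePresentation
import Mathlib.RingTheory.Spectrum.Maximal.Topology
import Mathlib.Topology.NoetherianSpace
import Mathlib.Topology.KrullDimension
import Mathlib.Order.KrullDimension
import Mathlib.LinearAlgebra.Quotient.Basic
import Mathlib.RingTheory.Ideal.Quotient.Operations
import Mathlib.LinearAlgebra.LinearIndependent.Defs
import Mathlib.LinearAlgebra.LinearIndependent.Lemmas
import Mathlib.LinearAlgebra.Dimension.Finrank
import Mathlib.LinearAlgebra.Dimension.Constructions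
import Mathlib.LinearAlgebra.Basis.VectorSpace
import Mathlib.LinearAlgebra.Matrix.Nondegenerate
import Mathlib.LinearAlgebra.Matrix.NonsingularInverse
import Mathlib.Algebra.Module.Torsion.Basic
import Mathlib.Data.Fin.Tuple.Basic
import Mathlib.RingTheory.Ideal.Quotient.Basic
import Mathlib.RingTheory.Ideal.Maximal

/-!
# Serre's general position proposition: the fibres `V(x)` (seat 14)

For a module `M` over a ring `R` and a maximal ideal `x`: `M(x) = M/xM`, `B(x)` the classes of
elements on which every linear form has value in `x`, `V(x) = M(x)/B(x)`; the image of `m` in `V(x)`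
vanishes iff all linear forms have value in `x` on `m`; linear independence in `V(x)` is detected by
determinants of values of linear forms; the dependency locus is closed.
-/

set_option autoImplicit false
universe u

namespace Groth.Agent.Lib.Seat14.SerreV

variable (R : Type u) [CommRing R] (M : Type u) [AddCommGroup M] [Module R M]

/-- `B(x)`. -/
def Bq (x : MaximalSpectrum R) : Submodule (R ⧸ x.asIdeal) (M ⧸ (x.asIdeal • ⊤ : Submodule R M)) :=
  Submodule.span (R ⧸ x.asIdeal)
    ((x.asIdeal • ⊤ : Submodule R M).mkQ '' {m : M | ∀ φ : M →ₗ[R] R, φ m ∈ x.asIdeal})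

/-- The image of `m` in `V(x)`. -/
def img (x : MaximalSpectrum R) (m : M) : (M ⧸ (x.asIdeal • ⊤ : Submodule R M)) ⧸ Bq R M x :=
  (Bq R M x).mkQ ((x.asIdeal • ⊤ : Submodule R M).mkQ m)

variable {R M}

theorem img_add (x : MaximalSpectrum R) (m m' : M) : img R M x (m + m') = img R M x m + img R M x m' := by
  simp [img]

theorem img_zero (x : MaximalSpectrum R) : img R M x 0 = 0 := by
  simp [img]

theorem img_smul (x : MaximalSpectrum R) (a : R) (m : M) :
    img R M x (a • m) = (Ideal.Quotient.mk x.asIdeal a) • img R M x m := by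
  simp only [img, map_smul]
  rfl

theorem img_surjective (x : MaximalSpectrum R) : Function.Surjective (img R M x) := by
  intro v
  obtain ⟨w, rfl⟩ := (Bq R M x).mkQ_surjective v
  obtain ⟨m, rfl⟩ := (x.asIdeal • ⊤ : Submodule R M).mkQ_surjective w
  exact ⟨m, rfl⟩

/-- The linear form on `M(x)` induced by a linear form on `M`. -/
noncomputable def evalM (x : MaximalSpectrum R) (φ : M →ₗ[R] R) :
    (M ⧸ (x.asIdeal • ⊤ : Submodule R M)) →ₗ[R ⧸ x.asIdeal] (R ⧸ x.asIdeal) :=
  LinearMap.extendScalarsOfSurjective (R := R) (S := R ⧸ x.asIdeal) Ideal.Quotient.mk_surjective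
    ((x.asIdeal • ⊤ : Submodule R M).liftQ ((Ideal.Quotient.mkₐ R x.asIdeal).toLinearMap ∘ₗ φ) (by
      rw [Submodule.smul_le]
      intro r hr m _
      simp only [LinearMap.mem_ker, LinearMap.coe_comp, Function.comp_apply, map_smul]
      change Ideal.Quotient.mk x.asIdeal (r * φ m) = 0
      exact Ideal.Quotient.eq_zero_iff_mem.mpr (Ideal.mul_mem_right _ _ hr)))

theorem evalM_mkQ (x : MaximalSpectrum R) (φ : M →ₗ[R] R) (m : M) :
    evalM x φ ((x.asIdeal • ⊤ : Submodule R M).mkQ m) = Ideal.Quotient.mk x.asIdeal (φ m) := rfl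

/-- The linear form on `V(x)` induced by a linear form on `M`. -/
noncomputable def evalV (x : MaximalSpectrum R) (φ : M →ₗ[R] R) :
    ((M ⧸ (x.asIdeal • ⊤ : Submodule R M)) ⧸ Bq R M x) →ₗ[R ⧸ x.asIdeal] (R ⧸ x.asIdeal) :=
  (Bq R M x).liftQ (evalM x φ) (by
    rw [Bq, Submodule.span_le]
    rintro _ ⟨m, hm, rfl⟩
    rw [SetLike.mem_coe, LinearMap.mem_ker, evalM_mkQ]
    exact Ideal.Quotient.eq_zero_iff_mem.mpr (hm φ))

theorem evalV_img (x : MaximalSpectrum R) (φ : M →ₗ[R] R) (m : M) :
    evalV x φ (img R M x m) = Ideal.Quotient.mk x.asIdeal (φ m) := rfl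

theorem img_eq_zero_iff (x : MaximalSpectrum R) (m : M) :
    img R M x m = 0 ↔ ∀ φ : M →ₗ[R] R, φ m ∈ x.asIdeal := by
  constructor
  · intro h φ
    have := congrArg (evalV x φ) h
    rw [evalV_img, map_zero] at this
    exact Ideal.Quotient.eq_zero_iff_mem.mp this
  · intro h
    rw [img, Submodule.mkQ_apply, Submodule.Quotient.mk_eq_zero]
    exact Submodule.subset_span ⟨m, h, rfl⟩

theorem eq_zero_of_evalV (x : MaximalSpectrum R)
    (v : (M ⧸ (x.asIdeal • ⊤ : Submodule R M)) ⧸ Bq R M x) (h : ∀ φ : M →ₗ[R] R, evalV x φ v = 0) :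
    v = 0 := by
  obtain ⟨m, rfl⟩ := img_surjective x v
  rw [img_eq_zero_iff]
  intro φ
  have := h φ
  rw [evalV_img] at this
  exact Ideal.Quotient.eq_zero_iff_mem.mp this

/-- Linear independence in `V(x)` is detected by determinants of values of linear forms. -/
theorem ind_iff {h : ℕ} (x : MaximalSpectrum R) (s : Fin h → M) :
    LinearIndependent (R ⧸ x.asIdeal) (fun i => img R M x (s i)) ↔
      ∃ φ : Fin h → (M →ₗ[R] R), (Matrix.of fun i j => φ i (s j)).det ∉ x.asIdeal := by
  have := x.isMaximal
  let _ : Field (R ⧸ x.asIdeal) := Ideal.Quotient.field x.asIdeal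
  constructor
  · intro hli
    let ψ : (M →ₗ[R] R) → (Fin h → R ⧸ x.asIdeal) := fun φ j => Ideal.Quotient.mk x.asIdeal (φ (s j))
    let W : Submodule (R ⧸ x.asIdeal) (Fin h → R ⧸ x.asIdeal) :=
      { carrier := Set.range ψ
        zero_mem' := ⟨0, by ext j; simp [ψ]⟩
        add_mem' := by
          rintro _ _ ⟨φ, rfl⟩ ⟨φ', rfl⟩
          exact ⟨φ + φ', by ext j; simp [ψ]⟩
        smul_mem' := by
          rintro c _ ⟨φ, rfl⟩
          obtain ⟨r, rfl⟩ := Ideal.Quotient.mk_surjective c
          exact ⟨r • φ, by ext j; simp [ψ]⟩ }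
    by_cases hW : W = ⊤
    · have h1 : ∀ i : Fin h, ∃ φ, ψ φ = Pi.single i 1 := fun i => by
        have : (Pi.single i 1 : Fin h → R ⧸ x.asIdeal) ∈ W := by rw [hW]; trivial
        exact this
      choose φ hφ using h1
      refine ⟨φ, fun hdet => ?_⟩
      have h2 : (Matrix.of fun i j => φ i (s j)).map (Ideal.Quotient.mk x.asIdeal) = 1 := by
        ext i j
        have := congrFun (hφ i) j
        simp only [ψ] at this
        simp only [Matrix.map_apply, Matrix.of_apply, this, Matrix.one_apply, Pi.single_apply]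
        simp [eq_comm]
      have h3 : Ideal.Quotient.mk x.asIdeal (Matrix.of fun i j => φ i (s j)).det = 1 := by
        rw [RingHom.map_det, RingHom.mapMatrix_apply, h2, Matrix.det_one]
      rw [Ideal.Quotient.eq_zero_iff_mem.mpr hdet] at h3
      exact zero_ne_one h3
    · exfalso
      obtain ⟨f, hf0, hf⟩ := W.exists_le_ker_of_lt_top (lt_top_iff_ne_top.mpr hW)
      apply hf0
      have hsum : ∑ j, f (Pi.single j 1) • img R M x (s j) = 0 := by
        apply eq_zero_of_evalV x
        intro φ
        simp only [map_sum, map_smul, evalV_img, smul_eq_mul]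
        have h1 : ψ φ ∈ W := ⟨φ, rfl⟩
        have h2 : f (ψ φ) = 0 := hf h1
        rw [LinearMap.pi_apply_eq_sum_univ f (ψ φ)] at h2
        rw [← h2]
        refine Finset.sum_congr rfl fun j _ => ?_
        simp only [ψ, smul_eq_mul]
        rw [mul_comm]
        congr 2
        ext l
        simp [Pi.single_apply, eq_comm]
      have h3 := Fintype.linearIndependent_iff.mp hli _ hsum
      apply LinearMap.pi_ext
      intro j c
      rw [show (Pi.single j c : Fin h → R ⧸ x.asIdeal) = c • Pi.single j 1 by
        ext l; simp [Pi.single_apply], map_smul, h3 j]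
      simp
  · rintro ⟨φ, hφ⟩
    rw [Fintype.linearIndependent_iff]
    intro g hg
    let A : Matrix (Fin h) (Fin h) (R ⧸ x.asIdeal) :=
      (Matrix.of fun i j => φ i (s j)).map (Ideal.Quotient.mk x.asIdeal)
    have hA : A.det ≠ 0 := by
      change ((Ideal.Quotient.mk x.asIdeal).mapMatrix (Matrix.of fun i j => φ i (s j))).det ≠ 0
      rw [← RingHom.map_det]
      intro h0
      exact hφ (Ideal.Quotient.eq_zero_iff_mem.mp h0)
    have hAg : A.mulVec g = 0 := by
      funext i
      have := congrArg (evalV x (φ i)) hg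
      simp only [map_sum, map_smul, evalV_img, smul_eq_mul, map_zero] at this
      simp only [Matrix.mulVec, dotProduct, A, Matrix.map_apply, Matrix.of_apply, Pi.zero_apply]
      rw [← this]
      exact Finset.sum_congr rfl fun j _ => mul_comm _ _
    have := Matrix.eq_zero_of_mulVec_eq_zero hA hAg
    intro j
    exact congrFun this j

/-- The locus where a family of elements of `M` becomes linearly dependent in `V(x)` is closed. -/
theorem isClosed_dep {h : ℕ} (s : Fin h → M) :
    IsClosed {x : MaximalSpectrum R |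
      ¬ LinearIndependent (R ⧸ x.asIdeal) (fun i => img R M x (s i))} := by
  have : {x : MaximalSpectrum R |
      ¬ LinearIndependent (R ⧸ x.asIdeal) (fun i => img R M x (s i))} =
      MaximalSpectrum.toPrimeSpectrum ⁻¹' (PrimeSpectrum.zeroLocus
        (Set.range fun φ : Fin h → (M →ₗ[R] R) => (Matrix.of fun i j => φ i (s j)).det)) := by
    ext x
    simp only [Set.mem_ofPred_eq, ind_iff, not_exists, not_not, Set.mem_preimage,
      PrimeSpectrum.mem_zeroLocus, Set.range_subset_iff]
    rfl
  rw [this]
  exact (PrimeSpectrum.isClosed_zeroLocus _).preimage MaximalSpectrum.toPrimeSpectrum_continuous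

end Groth.Agent.Lib.Seat14.SerreV
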