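import Mathlib

/-!
# Smooth lifting along a quotient, part A (helper14)

Formal smoothness of `A₀` over `R ⧸ I` and a polynomial presentation `π : R[x₁..xₙ] → A₀` with
kernel `K` give elements `g i ∈ K` such that every `k ∈ K` satisfies
`k ≡ ∑ i, (∂ k/∂ xᵢ) * g i` modulo `K ^ 2 ⊔ I·R[x]`.
-/

set_option autoImplicit false
set_option linter.style.haveILetI false
universe u

namespace Groth.Agent.Lib.Seat14.SmLift

open MvPolynomial

variable {R : Type u} [CommRing R] (I : Ideal R) {A₀ : Type u} [CommRing A₀] [Algebra R A₀]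
  [Algebra (R ⧸ I) A₀] [IsScalarTower R (R ⧸ I) A₀]

theorem map_le_ker {B : Type u} [CommRing B] [Algebra R B] (π : B →ₐ[R] A₀) :
    I.map (algebraMap R B) ≤ RingHom.ker π := by
  rw [Ideal.map_le_iff_le_comap]
  intro r hr
  rw [Ideal.mem_comap, RingHom.mem_ker, AlgHom.commutes,
    IsScalarTower.algebraMap_apply R (R ⧸ I) A₀, Ideal.Quotient.algebraMap_eq,
    Ideal.Quotient.eq_zero_iff_mem.mpr hr, map_zero]

variable [Algebra.FormallySmooth (R ⧸ I) A₀]

theorem exists_gens {n : ℕ} (π : MvPolynomial (Fin n) R →ₐ[R] A₀) (hπ : Function.Surjective π) :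
    ∃ g : Fin n → MvPolynomial (Fin n) R, (∀ i, g i ∈ RingHom.ker π) ∧
      ∀ k ∈ RingHom.ker π, k - ∑ i, pderiv i k * g i ∈
        (RingHom.ker π) ^ 2 ⊔ I.map (algebraMap R (MvPolynomial (Fin n) R)) := by
  classical
  set B := MvPolynomial (Fin n) R with hB
  set K : Ideal B := RingHom.ker π with hK
  set L : Ideal B := K ^ 2 ⊔ I.map (algebraMap R B) with hL
  have hIK : I.map (algebraMap R B) ≤ K := map_le_ker I π
  have hLK : L ≤ K := sup_le (Ideal.pow_le_self two_ne_zero) hIK
  -- the ring `T = B ⧸ L` as an `R ⧸ I`-algebra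
  let T := B ⧸ L
  letI algT : Algebra (R ⧸ I) T :=
    (Ideal.Quotient.lift I (algebraMap R T) (fun r hr => by
      rw [IsScalarTower.algebraMap_apply R B T, Ideal.Quotient.algebraMap_eq,
        Ideal.Quotient.eq_zero_iff_mem]
      exact le_sup_right (a := K ^ 2) (Ideal.mem_map_of_mem _ hr))).toAlgebra
  haveI : IsScalarTower R (R ⧸ I) T := IsScalarTower.of_algebraMap_eq (fun r => rfl)
  let q₀ : T →ₐ[R] A₀ := Ideal.Quotient.liftₐ L π (fun x hx => hLK hx)
  let q : T →ₐ[R ⧸ I] A₀ := q₀.extendScalarsOfSurjective Ideal.Quotient.mk_surjective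
  have hq_mk : ∀ b : B, q (Ideal.Quotient.mk L b) = π b := fun b => rfl
  have hq : Function.Surjective q := by
    intro a
    obtain ⟨b, rfl⟩ := hπ a
    exact ⟨Ideal.Quotient.mk L b, rfl⟩
  have hsq : ∀ x y : T, q x = 0 → q y = 0 → x * y = 0 := by
    intro x y hx hy
    obtain ⟨x, rfl⟩ := Ideal.Quotient.mk_surjective x
    obtain ⟨y, rfl⟩ := Ideal.Quotient.mk_surjective y
    rw [hq_mk] at hx hy
    rw [← map_mul, Ideal.Quotient.eq_zero_iff_mem]
    refine le_sup_left (b := I.map (algebraMap R B)) ?_
    rw [pow_two]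
    exact Ideal.mul_mem_mul hx hy
  have hnil : IsNilpotent (RingHom.ker (q : T →+* A₀)) := by
    refine ⟨2, ?_⟩
    have h1 : RingHom.ker (q : T →+* A₀) * RingHom.ker (q : T →+* A₀) ≤ ⊥ := by
      rw [Ideal.mul_le]
      intro x hx y hy
      rw [Ideal.mem_bot]
      exact hsq x y hx hy
    rw [Ideal.zero_eq_bot, eq_bot_iff]
    exact (pow_two (RingHom.ker (q : T →+* A₀))).le.trans h1
  let σ : A₀ →ₐ[R ⧸ I] T :=
    Algebra.FormallySmooth.liftOfSurjective (AlgHom.id (R ⧸ I) A₀) q hq hnil
  have hσ : ∀ a, q (σ a) = a := fun a =>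
    Algebra.FormallySmooth.liftOfSurjective_apply (AlgHom.id (R ⧸ I) A₀) q hq hnil a
  let del : B → T := fun b => Ideal.Quotient.mk L b - σ (π b)
  have hdel_ker : ∀ b, q (del b) = 0 := by
    intro b
    simp only [del, map_sub, hσ, hq_mk, sub_self]
  have hdel_add : ∀ b b', del (b + b') = del b + del b' := by
    intro b b'
    simp only [del, map_add]
    ring
  have hdel_C : ∀ r, del (C r) = 0 := by
    intro r
    have h1 : π (C r) = algebraMap (R ⧸ I) A₀ (Ideal.Quotient.mk I r) := by
      have : (C r : B) = algebraMap R B r := rfl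
      rw [this, AlgHom.commutes, IsScalarTower.algebraMap_apply R (R ⧸ I) A₀]
      rfl
    simp only [del]
    rw [h1, AlgHom.commutes]
    show Ideal.Quotient.mk L (C r) - algebraMap R T r = 0
    rw [sub_eq_zero]
    rfl
  have hdel_mul : ∀ b b', del (b * b') =
      Ideal.Quotient.mk L b * del b' + Ideal.Quotient.mk L b' * del b := by
    intro b b'
    have h0 := hsq (del b) (del b') (hdel_ker b) (hdel_ker b')
    simp only [del] at h0 ⊢
    rw [map_mul, map_mul, map_mul]
    linear_combination (-1 : T) * h0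
  have hformula : ∀ b : B, del b = ∑ i, Ideal.Quotient.mk L (pderiv i b) * del (X i) := by
    intro b
    induction b using MvPolynomial.induction_on with
    | C r =>
      rw [hdel_C]
      simp
    | add p p' hp hp' =>
      rw [hdel_add, hp, hp', ← Finset.sum_add_distrib]
      refine Finset.sum_congr rfl fun i _ => ?_
      rw [map_add, map_add, add_mul]
    | mul_X p j hp =>
      rw [hdel_mul, hp]
      have h1 : ∀ i, pderiv i (p * X j) = pderiv i p * X j + p * (Pi.single i 1 : Fin n → B) j := by
        intro i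
        rw [Derivation.leibniz, pderiv_X, smul_eq_mul, smul_eq_mul]
        ring
      simp_rw [h1, map_add, add_mul, Finset.sum_add_distrib]
      have h2 : ∑ i, Ideal.Quotient.mk L (p * (Pi.single i 1 : Fin n → B) j) * del (X i) =
          Ideal.Quotient.mk L p * del (X j) := by
        rw [Finset.sum_eq_single j]
        · simp
        · intro i _ hij
          rw [Pi.single_eq_of_ne (Ne.symm hij), mul_zero, map_zero, zero_mul]
        · intro h
          exact absurd (Finset.mem_univ j) h
      rw [h2, Finset.mul_sum]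
      have h3 : ∀ i, Ideal.Quotient.mk L (pderiv i p * X j) * del (X i) =
          Ideal.Quotient.mk L (X j) * (Ideal.Quotient.mk L (pderiv i p) * del (X i)) := by
        intro i
        rw [map_mul]
        ring
      simp_rw [h3]
      ring
  choose g hg using fun i => Ideal.Quotient.mk_surjective (del (X i : B))
  refine ⟨g, fun i => ?_, fun k hk => ?_⟩
  · have := hdel_ker (X i)
    rw [← hg i, hq_mk] at this
    exact this
  · have hk0 : π k = 0 := hk
    have h1 : del k = Ideal.Quotient.mk L k := by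
      simp only [del]
      rw [hk0, map_zero, sub_zero]
    have h2 := hformula k
    rw [h1] at h2
    simp_rw [← hg, ← map_mul, ← map_sum] at h2
    exact Ideal.Quotient.eq.mp h2

end Groth.Agent.Lib.Seat14.SmLift
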