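import Mathlib

/-!
# Smooth lifting along a quotient, part B (helper14)

Partial derivatives on a formally étale algebra `P` over a polynomial ring `R[x₁..xₙ]`, and the
transport of the congruence `k ≡ ∑ i, (∂ k/∂ xᵢ) * g i` to `P`.
-/

set_option autoImplicit false
set_option linter.style.haveILetI false
universe u

namespace Groth.Agent.Lib.Seat14.SmLift

open MvPolynomial TensorProduct

variable {R : Type u} [CommRing R] {n : ℕ} {P : Type u} [CommRing P] [Algebra R P]
  [Algebra (MvPolynomial (Fin n) R) P] [IsScalarTower R (MvPolynomial (Fin n) R) P]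

/-- The partial derivatives of `R[x₁..xₙ]` extend to a formally étale algebra. -/
theorem exists_derivations [Algebra.FormallyEtale (MvPolynomial (Fin n) R) P] :
    ∃ D : Fin n → Derivation R P P, ∀ i b,
      D i (algebraMap (MvPolynomial (Fin n) R) P b) =
        algebraMap (MvPolynomial (Fin n) R) P (pderiv i b) := by
  classical
  let B := MvPolynomial (Fin n) R
  let e := KaehlerDifferential.tensorKaehlerEquivOfFormallyEtale R B P
  let bs : Module.Basis (Fin n) P (P ⊗[B] Ω[B⁄R]) :=
    (KaehlerDifferential.mvPolynomialBasis R (Fin n)).baseChange P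
  refine ⟨fun i => ((bs.coord i).comp e.symm.toLinearMap).compDer (KaehlerDifferential.D R P),
    fun i b => ?_⟩
  show (bs.coord i) (e.symm (KaehlerDifferential.D R P (algebraMap B P b))) = _
  rw [KaehlerDifferential.tensorKaehlerEquivOfFormallyEtale_symm_D_algebraMap,
    Module.Basis.coord_apply, Module.Basis.baseChange_repr_tmul,
    KaehlerDifferential.mvPolynomialBasis_repr_apply, Algebra.smul_def, mul_one]

/-- Transport of the congruence `k ≡ ∑ i, ∂ᵢ k * g i` modulo `K ^ 2 ⊔ I` along `R[x] → P`. -/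
theorem star_map (I : Ideal R) (K : Ideal (MvPolynomial (Fin n) R))
    (g : Fin n → MvPolynomial (Fin n) R) (D : Fin n → Derivation R P P)
    (hD : ∀ i b, D i (algebraMap (MvPolynomial (Fin n) R) P b) =
        algebraMap (MvPolynomial (Fin n) R) P (pderiv i b))
    (hg : ∀ i, g i ∈ K)
    (hstar : ∀ k ∈ K, k - ∑ i, pderiv i k * g i ∈
      K ^ 2 ⊔ I.map (algebraMap R (MvPolynomial (Fin n) R))) :
    ∀ k ∈ K.map (algebraMap (MvPolynomial (Fin n) R) P),
      k - ∑ i, D i k * algebraMap (MvPolynomial (Fin n) R) P (g i) ∈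
        (K.map (algebraMap (MvPolynomial (Fin n) R) P)) ^ 2 ⊔ I.map (algebraMap R P) := by
  classical
  set φ := algebraMap (MvPolynomial (Fin n) R) P
  set Kt := K.map φ
  set L : Ideal P := Kt ^ 2 ⊔ I.map (algebraMap R P)
  have hLmap : (K ^ 2 ⊔ I.map (algebraMap R (MvPolynomial (Fin n) R))).map φ ≤ L := by
    rw [Ideal.map_sup, Ideal.map_pow, Ideal.map_map, ← IsScalarTower.algebraMap_eq]
  intro k hk
  refine Submodule.span_induction (p := fun k _ => k - ∑ i, D i k * φ (g i) ∈ L)
    ?_ ?_ ?_ ?_ hk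
  · rintro _ ⟨k₀, hk₀, rfl⟩
    have h1 : φ k₀ - ∑ i, D i (φ k₀) * φ (g i) = φ (k₀ - ∑ i, pderiv i k₀ * g i) := by
      rw [map_sub, map_sum]
      simp_rw [hD, map_mul]
    rw [h1]
    exact hLmap (Ideal.mem_map_of_mem _ (hstar k₀ hk₀))
  · simp
  · intro x y _ _ hx hy
    have : x + y - ∑ i, D i (x + y) * φ (g i) =
        (x - ∑ i, D i x * φ (g i)) + (y - ∑ i, D i y * φ (g i)) := by
      simp_rw [map_add, add_mul, Finset.sum_add_distrib]
      ring
    rw [this]
    exact L.add_mem hx hy
  · intro a x hx hx'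
    have hxK : x ∈ Kt := hx
    have : a • x - ∑ i, D i (a • x) * φ (g i) =
        a * (x - ∑ i, D i x * φ (g i)) - ∑ i, D i a * (x * φ (g i)) := by
      simp_rw [smul_eq_mul, Derivation.leibniz, smul_eq_mul, mul_sub, Finset.mul_sum, add_mul,
        Finset.sum_add_distrib]
      have : ∀ i, x * (D i) a * φ (g i) = D i a * (x * φ (g i)) := fun i => by ring
      simp_rw [this]
      have : ∀ i, a * (D i) x * φ (g i) = a * ((D i) x * φ (g i)) := fun i => by ring
      simp_rw [this]
      ring
    rw [this]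
    refine L.sub_mem (L.mul_mem_left _ hx') (L.sum_mem fun i _ => L.mul_mem_left _ ?_)
    refine le_sup_left (b := I.map (algebraMap R P)) ?_
    rw [pow_two]
    exact Ideal.mul_mem_mul hxK (Ideal.mem_map_of_mem _ (hg i))

end Groth.Agent.Lib.Seat14.SmLift
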