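import Mathlib

/-!
# Smooth lifting along a quotient, part C (helper14)

Abstract core: a ring `P` with an ideal `Kt ⊇ I·P`, derivations `D i`, elements `F i ∈ Kt` with
`k ≡ ∑ i, D i k * F i` modulo `Kt ^ 2 ⊔ I·P` for `k ∈ Kt`, and an idempotent matrix `E` congruent to
the Jacobian matrix `(D i (F j))` modulo `Kt`.  The corrected elements `fgen j = ∑ l, E l j * F l`
generate `Kt` modulo `I·P` near `V(Kt)`.
-/

set_option autoImplicit false
set_option linter.style.haveILetI false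
universe u

namespace Groth.Agent.Lib.Seat14.SmLift

variable {R : Type u} [CommRing R] (I : Ideal R) {P : Type u} [CommRing P] [Algebra R P]
  {n : ℕ} (Kt : Ideal P) (D : Fin n → Derivation R P P) (F : Fin n → P)
  (E : Matrix (Fin n) (Fin n) P)

/-- The corrected generators `∑ l, E l j * F l`. -/
def fgen (j : Fin n) : P := ∑ l, E l j * F l

variable {Kt F E}

theorem fgen_mem (hF : ∀ i, F i ∈ Kt) (j : Fin n) : fgen F E j ∈ Kt :=
  Kt.sum_mem fun l _ => Kt.mul_mem_left _ (hF l)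

theorem fgen_idem (hE : IsIdempotentElem E) (k : Fin n) :
    ∑ j, E j k * fgen F E j = fgen F E k := by
  have h : ∀ l, ∑ j, E l j * E j k = E l k := fun l => by
    rw [← Matrix.mul_apply, hE.eq]
  simp only [fgen, Finset.mul_sum]
  rw [Finset.sum_comm]
  refine Finset.sum_congr rfl fun l _ => ?_
  rw [← h l, Finset.sum_mul]
  refine Finset.sum_congr rfl fun j _ => ?_
  ring

variable {D}

theorem D_fgen_sub_mem (hF : ∀ i, F i ∈ Kt) (hE : IsIdempotentElem E)
    (hED : ∀ i j, E i j - D i (F j) ∈ Kt) (i j : Fin n) :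
    D i (fgen F E j) - E i j ∈ Kt := by
  have h : ∑ l, E i l * E l j = E i j := by rw [← Matrix.mul_apply, hE.eq]
  have h1 : D i (fgen F E j) - E i j =
      ∑ l, (F l * D i (E l j) - E l j * (E i l - D i (F l))) := by
    rw [← h]
    simp only [fgen, map_sum, Derivation.leibniz, smul_eq_mul]
    rw [← Finset.sum_sub_distrib]
    refine Finset.sum_congr rfl fun l _ => ?_
    ring
  rw [h1]
  exact Kt.sum_mem fun l _ => Kt.sub_mem (Kt.mul_mem_right _ (hF l)) (Kt.mul_mem_left _ (hED i l))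

theorem D_fgen_mul_one_sub_mem (hE : IsIdempotentElem E) (i k : Fin n) :
    ∑ j, D i (fgen F E j) * ((1 : Matrix (Fin n) (Fin n) P) - E) j k ∈
      Ideal.span (Set.range (fgen F E)) := by
  classical
  have h0 := congrArg (D i) (fgen_idem (F := F) hE k)
  simp only [map_sum, Derivation.leibniz, smul_eq_mul] at h0
  have h1 : ∑ j, D i (fgen F E j) * ((1 : Matrix (Fin n) (Fin n) P) - E) j k =
      ∑ j, fgen F E j * D i (E j k) := by
    have h2 : ∑ j, D i (fgen F E j) * ((1 : Matrix (Fin n) (Fin n) P) - E) j k =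
        D i (fgen F E k) - ∑ j, E j k * D i (fgen F E j) := by
      simp only [Matrix.sub_apply, Matrix.one_apply, mul_sub, Finset.sum_sub_distrib]
      congr 1
      · simp
      · exact Finset.sum_congr rfl fun j _ => mul_comm _ _
    rw [h2, ← h0, Finset.sum_add_distrib]
    ring
  rw [h1]
  exact Ideal.sum_mem _ fun j _ => Ideal.mul_mem_right _ _ (Ideal.subset_span ⟨j, rfl⟩)

variable {I}

theorem mem_span_fgen_sup (hF : ∀ i, F i ∈ Kt)
    (hstar : ∀ k ∈ Kt, k - ∑ i, D i k * F i ∈ Kt ^ 2 ⊔ I.map (algebraMap R P))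
    (hED : ∀ i j, E i j - D i (F j) ∈ Kt) {k : P} (hk : k ∈ Kt) :
    k ∈ Ideal.span (Set.range (fgen F E)) ⊔ (Kt ^ 2 ⊔ I.map (algebraMap R P)) := by
  set L : Ideal P := Kt ^ 2 ⊔ I.map (algebraMap R P) with hL
  have hK2 : ∀ x ∈ Kt, ∀ y ∈ Kt, x * y ∈ L := fun x hx y hy => by
    refine le_sup_left (b := I.map (algebraMap R P)) ?_
    rw [pow_two]
    exact Ideal.mul_mem_mul hx hy
  have hFf : ∀ j, F j - fgen F E j ∈ L := by
    intro j
    have : F j - fgen F E j = (F j - ∑ i, D i (F j) * F i) - ∑ i, (E i j - D i (F j)) * F i := by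
      simp only [fgen, sub_mul, Finset.sum_sub_distrib]
      ring
    rw [this]
    exact L.sub_mem (hstar _ (hF j)) (L.sum_mem fun i _ => hK2 _ (hED i j) _ (hF i))
  have : k = ∑ i, D i k * fgen F E i + ((k - ∑ i, D i k * F i) +
      ∑ i, D i k * (F i - fgen F E i)) := by
    simp only [mul_sub, Finset.sum_sub_distrib]
    ring
  rw [this]
  refine Submodule.add_mem_sup ?_ (L.add_mem (hstar k hk) (L.sum_mem fun i _ =>
    L.mul_mem_left _ (hFf i)))
  exact Ideal.sum_mem _ fun i _ => Ideal.mul_mem_left _ _ (Ideal.subset_span ⟨i, rfl⟩)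

/-- Nakayama: near `V(Kt)`, the ideal `Kt` is generated by the `fgen j` modulo `I·P`. -/
theorem exists_mul_mem (hF : ∀ i, F i ∈ Kt)
    (hstar : ∀ k ∈ Kt, k - ∑ i, D i k * F i ∈ Kt ^ 2 ⊔ I.map (algebraMap R P))
    (hED : ∀ i j, E i j - D i (F j) ∈ Kt)
    (F₀ : Ideal P) (hF₀ : F₀.FG) (hKt : Kt = F₀ ⊔ I.map (algebraMap R P)) :
    ∃ s : P, s - 1 ∈ Kt ∧ ∀ k ∈ Kt, s * k ∈
      Ideal.span (Set.range (fgen F E)) ⊔ I.map (algebraMap R P) := by
  set IP : Ideal P := I.map (algebraMap R P) with hIP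
  set N' : Ideal P := Ideal.span (Set.range (fgen F E)) ⊔ IP with hN'
  have hF₀K : F₀ ≤ Kt := hKt ▸ le_sup_left
  have hIK : IP ≤ Kt := hKt ▸ le_sup_right
  have hK2 : Kt ^ 2 ≤ Kt * F₀ ⊔ IP := by
    rw [pow_two]
    nth_rw 2 [hKt]
    rw [Ideal.mul_sup]
    exact sup_le_sup_left Ideal.mul_le_right _
  have hle : Kt ≤ Kt * F₀ ⊔ N' := by
    intro k hk
    have h1 := mem_span_fgen_sup (I := I) hF hstar hED hk
    have h2 : Ideal.span (Set.range (fgen F E)) ⊔ (Kt ^ 2 ⊔ IP) ≤ Kt * F₀ ⊔ N' := by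
      refine sup_le (le_sup_of_le_right le_sup_left) (sup_le (hK2.trans ?_)
        (le_sup_of_le_right le_sup_right))
      exact sup_le le_sup_left (le_sup_of_le_right le_sup_right)
    exact h2 h1
  set N : Submodule P (P ⧸ N') := Submodule.map N'.mkQ F₀ with hN
  have hNfg : N.FG := Submodule.FG.map _ hF₀
  have hNle : N ≤ Kt • N := by
    rintro _ ⟨x, hx, rfl⟩
    obtain ⟨y, hy, z, hz, hyz⟩ := Submodule.mem_sup.mp (hle (hF₀K hx))
    have h3 : N'.mkQ x = N'.mkQ y := by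
      rw [← hyz, map_add, Submodule.mkQ_apply _ z, (Submodule.Quotient.mk_eq_zero N').mpr hz,
        add_zero]
    rw [h3, hN, ← Submodule.map_smul'']
    exact Submodule.mem_map_of_mem hy
  obtain ⟨r, hr1, hr2⟩ :=
    Submodule.exists_sub_one_mem_and_smul_eq_zero_of_fg_of_le_smul Kt N hNfg hNle
  refine ⟨r, hr1, fun k hk => ?_⟩
  rw [hKt] at hk
  obtain ⟨x, hx, ι, hι, rfl⟩ := Submodule.mem_sup.mp hk
  rw [mul_add]
  refine N'.add_mem ?_ (N'.mul_mem_left _
    ((le_sup_right : IP ≤ Ideal.span (Set.range (fgen F E)) ⊔ IP) hι))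
  have h4 := hr2 (N'.mkQ x) (Submodule.mem_map_of_mem hx)
  rw [← map_smul, smul_eq_mul] at h4
  exact (Submodule.Quotient.mk_eq_zero N').mp h4

/-- The corrected Jacobian matrix is congruent to the identity modulo `Kt`. -/
theorem det_sub_one_mem (hF : ∀ i, F i ∈ Kt) (hE : IsIdempotentElem E)
    (hED : ∀ i j, E i j - D i (F j) ∈ Kt) :
    (Matrix.of (fun i j => D i (fgen F E j)) + 1 - E).det - 1 ∈ Kt := by
  classical
  rw [← Ideal.Quotient.eq_zero_iff_mem, map_sub, map_one, RingHom.map_det, sub_eq_zero]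
  convert Matrix.det_one (n := Fin n) (R := P ⧸ Kt)
  ext i j
  have h := D_fgen_sub_mem hF hE hED i j
  rw [← Ideal.Quotient.eq_zero_iff_mem, map_sub, sub_eq_zero] at h
  simp only [RingHom.mapMatrix_apply, Matrix.map_apply, Matrix.sub_apply, Matrix.add_apply,
    Matrix.of_apply, map_sub, map_add, h, Matrix.one_apply]
  split_ifs <;> simp

end Groth.Agent.Lib.Seat14.SmLift
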