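import Groth.Agent.Lib.Seat14SmLiftC

/-!
# Smooth lifting along a quotient, part D (helper14)

Formal smoothness of `(P ⧸ (f₁, …, fₙ))[1/s]` when `P` is formally smooth with derivations `D i`,
`E` is an idempotent matrix with `f ᵥ* E = f`, and the determinant of `(D i (f j)) + 1 - E`
divides `s` (a Jacobian criterion with a projector).
-/

set_option autoImplicit false
set_option linter.style.haveILetI false
universe u

namespace Groth.Agent.Lib.Seat14.SmLift

variable {R : Type u} [CommRing R] {P : Type u} [CommRing P] [Algebra R P] {n : ℕ}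

theorem formallySmooth_away [Algebra.FormallySmooth R P]
    (D : Fin n → Derivation R P P) (f : Fin n → P) (E : Matrix (Fin n) (Fin n) P)
    (hE : IsIdempotentElem E)
    (hf : ∀ k, ∑ j, E j k * f j = f k)
    (𝔨 : Ideal P) (h𝔨 : 𝔨 = Ideal.span (Set.range f))
    (hME : ∀ i k, ∑ j, D i (f j) * ((1 : Matrix (Fin n) (Fin n) P) - E) j k ∈ 𝔨)
    (s : P) (hs : (Matrix.of (fun i j => D i (f j)) + 1 - E).det ∣ s)
    (A : Type u) [CommRing A] [Algebra R A] [Algebra (P ⧸ 𝔨) A]
    [IsScalarTower R (P ⧸ 𝔨) A]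
    [IsLocalization.Away (Ideal.Quotient.mk 𝔨 s) A] :
    Algebra.FormallySmooth R A := by
  classical
  refine Algebra.FormallySmooth.of_comp_surjective fun C _ _ J hJ u => ?_
  let ρ : P →ₐ[R] A := (IsScalarTower.toAlgHom R (P ⧸ 𝔨) A).comp (Ideal.Quotient.mkₐ R 𝔨)
  obtain ⟨ut, hut⟩ := Algebra.FormallySmooth.comp_surjective R P J hJ (u.comp ρ)
  have hut' : ∀ p, Ideal.Quotient.mk J (ut p) = u (ρ p) := fun p => AlgHom.congr_fun hut p
  have hρk : ∀ p ∈ 𝔨, ρ p = 0 := by
    intro p hp
    show algebraMap (P ⧸ 𝔨) A (Ideal.Quotient.mk 𝔨 p) = 0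
    rw [Ideal.Quotient.eq_zero_iff_mem.mpr hp, map_zero]
  have hkJ : ∀ p ∈ 𝔨, ut p ∈ J := by
    intro p hp
    rw [← Ideal.Quotient.eq_zero_iff_mem, hut', hρk p hp, map_zero]
  have hnil : IsNilpotent J := ⟨2, hJ⟩
  have hsU : IsUnit (ut s) := by
    rw [← IsNilpotent.isUnit_quotient_mk_iff hnil, hut']
    exact (IsLocalization.Away.algebraMap_isUnit (Ideal.Quotient.mk 𝔨 s)).map u
  have hJJ : ∀ x ∈ J, ∀ y ∈ J, x * y = 0 := by
    intro x hx y hy
    have : x * y ∈ J ^ 2 := by
      rw [pow_two]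
      exact Ideal.mul_mem_mul hx hy
    rwa [hJ] at this
  set M : Matrix (Fin n) (Fin n) P := Matrix.of fun i j => D i (f j) with hM
  set Ψ := M + 1 - E with hΨ
  have hdetU : IsUnit (ut Ψ.det) := isUnit_of_dvd_unit (map_dvd ut hs) hsU
  set N : Matrix (Fin n) (Fin n) C := (ut : P →+* C).mapMatrix Ψ with hN
  have hNU : IsUnit N.det := by
    rw [hN, ← RingHom.map_det]
    exact hdetU
  set b : Fin n → C := fun j => - ut (f j) with hb
  set c : Fin n → C := Matrix.vecMul b N⁻¹ with hc
  have hcN : Matrix.vecMul c N = b := by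
    rw [hc, Matrix.vecMul_vecMul, Matrix.nonsing_inv_mul _ hNU, Matrix.vecMul_one]
  have hfk : ∀ j, f j ∈ 𝔨 := fun j => h𝔨 ▸ Ideal.subset_span ⟨j, rfl⟩
  have hbJ : ∀ j, b j ∈ J := fun j => J.neg_mem (hkJ _ (hfk j))
  have hcJ : ∀ i, c i ∈ J := fun i => by
    show ∑ j, b j * N⁻¹ j i ∈ J
    exact J.sum_mem fun j _ => J.mul_mem_right _ (hbJ j)
  have hNij : ∀ i j, N i j = ut (D i (f j)) + (if i = j then 1 else 0) - ut (E i j) := by
    intro i j
    simp only [hN, hΨ, hM, RingHom.mapMatrix_apply, Matrix.map_apply, Matrix.sub_apply,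
      Matrix.add_apply, Matrix.of_apply, Matrix.one_apply, map_sub, map_add, RingHom.coe_coe]
    split_ifs <;> simp
  -- the key identity `c ᵥ* (1 - E) = 0`
  have hcNj : ∀ j, ∑ i, c i * N i j = b j := fun j => congrFun hcN j
  have hcE : ∀ k, ∑ i, c i * ut (E i k) = c k := by
    intro k
    -- `∑ j, b j * (1 - E) j k = 0`
    have h1 : ∑ j, b j * ((if j = k then 1 else 0) - ut (E j k)) = 0 := by
      have : ∑ j, b j * ((if j = k then 1 else 0) - ut (E j k)) =
          - ut (f k - ∑ j, E j k * f j) := by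
        have h0 : ∀ j, b j * ((if j = k then 1 else 0) - ut (E j k)) =
            (if j = k then -ut (f j) else 0) + ut (E j k * f j) := by
          intro j
          simp only [hb, map_mul]
          split_ifs <;> ring
        simp_rw [h0, Finset.sum_add_distrib, Finset.sum_ite_eq', Finset.mem_univ, if_true,
          map_sub, map_sum]
        ring
      rw [this, hf k, sub_self, map_zero, neg_zero]
    -- `∑ j, N i j * (1 - E) j k = ut (M (1 - E)) i k + (1 - E) i k`
    have h2 : ∀ i, ∑ j, N i j * ((if j = k then 1 else 0) - ut (E j k)) =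
        ut (∑ j, D i (f j) * ((1 : Matrix (Fin n) (Fin n) P) - E) j k) +
          ((if i = k then 1 else 0) - ut (E i k)) := by
      intro i
      have hEE : ∑ j, E i j * E j k = E i k := by rw [← Matrix.mul_apply, hE.eq]
      have hEEu : ut (E i k) = ∑ x, ut (E i x) * ut (E x k) := by
        rw [← hEE, map_sum]
        simp_rw [map_mul]
      simp only [hNij, map_sum, map_mul, Matrix.sub_apply, Matrix.one_apply, map_sub]
      simp only [sub_mul, add_mul, mul_sub, Finset.sum_sub_distrib,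
        Finset.sum_add_distrib]
      simp only [mul_ite, mul_one, mul_zero, ite_mul, one_mul, zero_mul, Finset.sum_ite_eq,
        Finset.sum_ite_eq', Finset.mem_univ, if_true, apply_ite ut, map_one, map_zero]
      linear_combination (-1 : C) * hEEu
    have h3 : ∑ j, (∑ i, c i * N i j) * ((if j = k then 1 else 0) - ut (E j k)) = 0 := by
      simp_rw [hcNj]
      exact h1
    have h4 : ∑ j, (∑ i, c i * N i j) * ((if j = k then 1 else 0) - ut (E j k)) =
        ∑ i, c i * ((if i = k then 1 else 0) - ut (E i k)) := by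
      simp_rw [Finset.sum_mul]
      rw [Finset.sum_comm]
      refine Finset.sum_congr rfl fun i _ => ?_
      simp_rw [mul_assoc]
      rw [← Finset.mul_sum, h2 i, mul_add, hJJ _ (hcJ i) _ (hkJ _ (hME i k)), zero_add]
    rw [h4] at h3
    simp only [mul_sub, Finset.sum_sub_distrib, mul_ite, mul_one, mul_zero, Finset.sum_ite_eq',
      Finset.mem_univ, if_true] at h3
    exact (sub_eq_zero.mp h3).symm
  -- the corrected lift
  have hδJ : ∀ p, ∑ i, ut (D i p) * c i ∈ J := fun p =>
    J.sum_mem fun i _ => J.mul_mem_left _ (hcJ i)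
  let w₀ : P →ₐ[R] C :=
    { toFun := fun p => ut p + ∑ i, ut (D i p) * c i
      map_one' := by simp
      map_zero' := by simp
      map_add' := fun p q => by
        simp only [map_add, add_mul, Finset.sum_add_distrib]
        ring
      map_mul' := fun p q => by
        have h0 : (∑ i, ut (D i p) * c i) * (∑ i, ut (D i q) * c i) = 0 :=
          hJJ _ (hδJ p) _ (hδJ q)
        simp only [Derivation.leibniz, smul_eq_mul, map_add, map_mul, add_mul,
          Finset.sum_add_distrib]
        have h1 : ∑ i, ut p * ut (D i q) * c i = ut p * ∑ i, ut (D i q) * c i := by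
          rw [Finset.mul_sum]
          exact Finset.sum_congr rfl fun i _ => by ring
        have h2 : ∑ i, ut q * ut (D i p) * c i = ut q * ∑ i, ut (D i p) * c i := by
          rw [Finset.mul_sum]
          exact Finset.sum_congr rfl fun i _ => by ring
        rw [h1, h2]
        linear_combination (-1 : C) * h0
      commutes' := fun r => by simp }
  have hw₀ : ∀ p, w₀ p = ut p + ∑ i, ut (D i p) * c i := fun p => rfl
  have hw₀f : ∀ j, w₀ (f j) = 0 := by
    intro j
    have h1 := hcNj j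
    simp only [hNij, mul_sub, mul_add, Finset.sum_sub_distrib, Finset.sum_add_distrib, mul_ite,
      mul_one, mul_zero, Finset.sum_ite_eq', Finset.mem_univ, if_true, hcE j, hb] at h1
    rw [hw₀]
    have h2 : ∑ i, ut (D i (f j)) * c i = ∑ i, c i * ut (D i (f j)) :=
      Finset.sum_congr rfl fun i _ => mul_comm _ _
    rw [h2]
    linear_combination h1
  have hw₀k : ∀ p ∈ 𝔨, w₀ p = 0 := by
    intro p hp
    rw [h𝔨] at hp
    refine Submodule.span_induction (p := fun p _ => w₀ p = 0) ?_ ?_ ?_ ?_ hp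
    · rintro _ ⟨j, rfl⟩
      exact hw₀f j
    · exact map_zero _
    · intro x y _ _ hx hy
      rw [map_add, hx, hy, add_zero]
    · intro a x _ hx
      rw [smul_eq_mul, map_mul, hx, mul_zero]
  let w₁ : P ⧸ 𝔨 →ₐ[R] C := Ideal.Quotient.liftₐ 𝔨 w₀ hw₀k
  have hw₁ : ∀ p, w₁ (Ideal.Quotient.mk 𝔨 p) = w₀ p := fun p => rfl
  have hmkw₀ : ∀ p, Ideal.Quotient.mk J (w₀ p) = Ideal.Quotient.mk J (ut p) := by
    intro p
    rw [Ideal.Quotient.eq, hw₀, add_sub_cancel_left]
    exact hδJ p
  have hw₁U : IsUnit (w₁ (Ideal.Quotient.mk 𝔨 s)) := by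
    rw [hw₁, ← IsNilpotent.isUnit_quotient_mk_iff hnil, hmkw₀,
      IsNilpotent.isUnit_quotient_mk_iff hnil]
    exact hsU
  let w : A →ₐ[R] C := IsLocalization.Away.liftAlgHom (Ideal.Quotient.mk 𝔨 s) (f := w₁) hw₁U
  refine ⟨w, ?_⟩
  apply IsLocalization.algHom_ext (Submonoid.powers (Ideal.Quotient.mk 𝔨 s)) (A := P ⧸ 𝔨)
  apply Ideal.Quotient.algHom_ext
  ext p
  show Ideal.Quotient.mk J (w (algebraMap (P ⧸ 𝔨) A (Ideal.Quotient.mk 𝔨 p))) =
    u (algebraMap (P ⧸ 𝔨) A (Ideal.Quotient.mk 𝔨 p))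
  have : w (algebraMap (P ⧸ 𝔨) A (Ideal.Quotient.mk 𝔨 p)) = w₁ (Ideal.Quotient.mk 𝔨 p) :=
    IsLocalization.Away.lift_eq _ hw₁U _
  rw [this, hw₁, hmkw₀, hut']
  rfl

end Groth.Agent.Lib.Seat14.SmLift
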