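import Groth.Agent.Lib.Seat14SmLiftC

/-!
# Smooth lifting along a quotient, part E (helper14)

Further abstract lemmas: the Jacobian matrix `(D i (F j))` is idempotent modulo `Kt`, and the
reduction modulo `I` of `(P ⧸ 𝔨)[1/s]` is `P ⧸ Kt`.
-/

set_option autoImplicit false
set_option linter.style.haveILetI false
universe u

namespace Groth.Agent.Lib.Seat14.SmLift

variable {R : Type u} [CommRing R] {I : Ideal R} {P : Type u} [CommRing P] [Algebra R P]
  {n : ℕ} {Kt : Ideal P} {D : Fin n → Derivation R P P} {F : Fin n → P}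

theorem D_mem_of_mem_sq_sup (hI : I.map (algebraMap R P) ≤ Kt) (D₀ : Derivation R P P) {x : P}
    (hx : x ∈ Kt ^ 2 ⊔ I.map (algebraMap R P)) : D₀ x ∈ Kt := by
  obtain ⟨y, hy, z, hz, rfl⟩ := Submodule.mem_sup.mp hx
  rw [map_add]
  refine Kt.add_mem ?_ (hI ?_)
  · rw [pow_two] at hy
    refine Submodule.mul_induction_on hy ?_ ?_
    · intro a ha b hb
      rw [Derivation.leibniz, smul_eq_mul, smul_eq_mul]
      exact Kt.add_mem (Kt.mul_mem_right _ ha) (Kt.mul_mem_right _ hb)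
    · intro a b ha hb
      rw [map_add]
      exact Kt.add_mem ha hb
  · refine Submodule.span_induction (p := fun z _ => D₀ z ∈ I.map (algebraMap R P))
      ?_ ?_ ?_ ?_ hz
    · rintro _ ⟨r, _, rfl⟩
      rw [Derivation.map_algebraMap]
      exact Ideal.zero_mem _
    · rw [map_zero]
      exact Ideal.zero_mem _
    · intro a b _ _ ha hb
      rw [map_add]
      exact Ideal.add_mem _ ha hb
    · intro a z hz hz'
      rw [smul_eq_mul, Derivation.leibniz, smul_eq_mul, smul_eq_mul]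
      exact Ideal.add_mem _ (Ideal.mul_mem_left _ _ hz') (Ideal.mul_mem_right _ _ hz)

/-- The Jacobian matrix `(D i (F j))` is idempotent modulo `Kt`. -/
theorem jacobian_idem (hI : I.map (algebraMap R P) ≤ Kt) (hF : ∀ i, F i ∈ Kt)
    (hstar : ∀ k ∈ Kt, k - ∑ i, D i k * F i ∈ Kt ^ 2 ⊔ I.map (algebraMap R P)) (i j : Fin n) :
    D i (F j) - ∑ l, D i (F l) * D l (F j) ∈ Kt := by
  have h1 := D_mem_of_mem_sq_sup hI (D i) (hstar (F j) (hF j))
  have h2 : D i (F j) - ∑ l, D i (F l) * D l (F j) =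
      D i (F j - ∑ l, D l (F j) * F l) + ∑ l, F l * D i (D l (F j)) := by
    simp only [map_sub, map_sum, Derivation.leibniz, smul_eq_mul, Finset.sum_add_distrib]
    have : ∑ l, D l (F j) * D i (F l) = ∑ l, D i (F l) * D l (F j) :=
      Finset.sum_congr rfl fun l _ => mul_comm _ _
    rw [this]
    ring
  rw [h2]
  exact Kt.add_mem h1 (Kt.sum_mem fun l _ => Kt.mul_mem_right _ (hF l))

/-- The reduction modulo `I` of `(P ⧸ 𝔨)[1/st]` is `P ⧸ Kt`, when `Kt = 𝔨 + I·P` near `V(Kt)`. -/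
theorem exists_surjective_ker_eq (hI : I.map (algebraMap R P) ≤ Kt) (𝔨 : Ideal P) (h𝔨 : 𝔨 ≤ Kt)
    (s' st : P) (hs' : s' ∣ st) (hst : st - 1 ∈ Kt)
    (hmul : ∀ k ∈ Kt, s' * k ∈ 𝔨 ⊔ I.map (algebraMap R P))
    (A : Type u) [CommRing A] [Algebra R A] [Algebra (P ⧸ 𝔨) A] [IsScalarTower R (P ⧸ 𝔨) A]
    [IsLocalization.Away (Ideal.Quotient.mk 𝔨 st) A] :
    ∃ θ : A →ₐ[R] P ⧸ Kt, Function.Surjective θ ∧
      RingHom.ker θ = I.map (algebraMap R A) := by
  let θ₁ : P ⧸ 𝔨 →ₐ[R] P ⧸ Kt := Ideal.Quotient.factorₐ R h𝔨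
  have hθ₁ : ∀ p, θ₁ (Ideal.Quotient.mk 𝔨 p) = Ideal.Quotient.mk Kt p := fun p => rfl
  have hone : Ideal.Quotient.mk Kt st = 1 := by
    rw [← map_one (Ideal.Quotient.mk Kt), Ideal.Quotient.eq]
    exact hst
  have hU : IsUnit (θ₁ (Ideal.Quotient.mk 𝔨 st)) := by
    rw [hθ₁, hone]
    exact isUnit_one
  let θ : A →ₐ[R] P ⧸ Kt := IsLocalization.Away.liftAlgHom (Ideal.Quotient.mk 𝔨 st) (f := θ₁) hU
  have hθ : ∀ p, θ (algebraMap (P ⧸ 𝔨) A (Ideal.Quotient.mk 𝔨 p)) = Ideal.Quotient.mk Kt p :=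
    fun p => IsLocalization.Away.lift_eq _ hU _
  refine ⟨θ, fun y => ?_, le_antisymm ?_ ?_⟩
  · obtain ⟨p, rfl⟩ := Ideal.Quotient.mk_surjective y
    exact ⟨_, hθ p⟩
  · -- `ker θ ≤ I·A`
    intro x hx
    rw [RingHom.mem_ker] at hx
    set u : A := algebraMap (P ⧸ 𝔨) A (Ideal.Quotient.mk 𝔨 st) with hu
    have huU : IsUnit u := IsLocalization.Away.algebraMap_isUnit (Ideal.Quotient.mk 𝔨 st)
    obtain ⟨m, a, ha⟩ := IsLocalization.Away.surj (Ideal.Quotient.mk 𝔨 st) x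
    obtain ⟨p, rfl⟩ := Ideal.Quotient.mk_surjective a
    have hpK : p ∈ Kt := by
      have := congrArg θ ha
      rw [map_mul, hx, zero_mul, hθ] at this
      exact Ideal.Quotient.eq_zero_iff_mem.mp this.symm
    obtain ⟨k, hk, ι, hι, hkι⟩ := Submodule.mem_sup.mp (hmul p hpK)
    set v : A := algebraMap (P ⧸ 𝔨) A (Ideal.Quotient.mk 𝔨 s') with hv
    have hvU : IsUnit v := by
      refine isUnit_of_dvd_unit ?_ huU
      exact map_dvd (algebraMap (P ⧸ 𝔨) A) (map_dvd (Ideal.Quotient.mk 𝔨) hs')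
    have hιA : algebraMap (P ⧸ 𝔨) A (Ideal.Quotient.mk 𝔨 ι) ∈ I.map (algebraMap R A) := by
      have h1 : (I.map (algebraMap R P)).map
          ((algebraMap (P ⧸ 𝔨) A).comp (Ideal.Quotient.mk 𝔨)) = I.map (algebraMap R A) := by
        rw [Ideal.map_map]
        congr 1
        ext r
        show algebraMap (P ⧸ 𝔨) A (Ideal.Quotient.mk 𝔨 (algebraMap R P r)) = algebraMap R A r
        rw [IsScalarTower.algebraMap_apply R (P ⧸ 𝔨) A]
        rfl
      rw [← h1]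
      exact Ideal.mem_map_of_mem _ hι
    have h2 : v * algebraMap (P ⧸ 𝔨) A (Ideal.Quotient.mk 𝔨 p) =
        algebraMap (P ⧸ 𝔨) A (Ideal.Quotient.mk 𝔨 ι) := by
      rw [hv, ← map_mul, ← map_mul, ← hkι, map_add, map_add,
        Ideal.Quotient.eq_zero_iff_mem.mpr hk, map_zero, zero_add]
    have h3 : x * (u ^ m * v) ∈ I.map (algebraMap R A) := by
      have : x * (u ^ m * v) = v * (x * u ^ m) := by ring
      rw [this, ha, h2]
      exact hιA
    exact (Ideal.mul_unit_mem_iff_mem _ ((huU.pow m).mul hvU)).mp h3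
  · -- `I·A ≤ ker θ`
    rw [Ideal.map_le_iff_le_comap]
    intro r hr
    rw [Ideal.mem_comap, RingHom.mem_ker, AlgHom.commutes,
      IsScalarTower.algebraMap_apply R P (P ⧸ Kt), Ideal.Quotient.algebraMap_eq,
      Ideal.Quotient.eq_zero_iff_mem]
    exact hI (Ideal.mem_map_of_mem _ hr)

end Groth.Agent.Lib.Seat14.SmLift
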