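import Groth.Agent.Lib.Seat14SmLiftA
import Groth.Agent.Lib.Seat14SmLiftB
import Groth.Agent.Lib.Seat14SmLiftD
import Groth.Agent.Lib.Seat14SmLiftE
import Groth.Agent.Lib.Helper20EtProj

/-!
# Smooth lifting along a quotient, part F (helper14)

Assembly: a smooth `R ⧸ I`-algebra `A₀` lifts to a smooth `R`-algebra `A` with `A ⧸ I·A ≃ A₀`
(Stacks, Tag 07M8).
-/

set_option autoImplicit false
set_option linter.style.haveILetI false
universe u

namespace Groth.Agent.Lib.Seat14.SmLift

open MvPolynomial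

theorem exists_fg_sup_ker {S T : Type*} [CommRing S] [CommRing T] (φ : S →+* T)
    (hφ : Function.Surjective φ) (J : Ideal T) (hJ : J.FG) :
    ∃ F₀ : Ideal S, F₀.FG ∧ J.comap φ = F₀ ⊔ RingHom.ker φ := by
  classical
  obtain ⟨s, hs⟩ := hJ
  choose lift hlift using hφ
  refine ⟨Ideal.span (lift '' (s : Set T)), ⟨s.image lift, by rw [Finset.coe_image]⟩, ?_⟩
  have h1 : (Ideal.span (lift '' (s : Set T))).map φ = J := by
    rw [Ideal.map_span, ← Set.image_comp, ← hs]
    congr 1
    ext x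
    simp [hlift]
  rw [← h1, Ideal.comap_map_of_surjective φ (fun t => ⟨lift t, hlift t⟩)]
  rfl

variable {R : Type u} [CommRing R]

theorem exists_smooth_lift (I : Ideal R) (A₀ : Type u) [CommRing A₀] [Algebra R A₀]
    [Algebra (R ⧸ I) A₀] [IsScalarTower R (R ⧸ I) A₀] [Algebra.Smooth (R ⧸ I) A₀] :
    ∃ (A : Type u) (_ : CommRing A) (_ : Algebra R A), Algebra.Smooth R A ∧
      Nonempty ((A ⧸ I.map (algebraMap R A)) ≃ₐ[R] A₀) := by
  classical
  obtain ⟨n, πb, hπb, hfg⟩ := Algebra.FinitePresentation.out (R := R ⧸ I) (A := A₀)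
  let π : MvPolynomial (Fin n) R →ₐ[R] A₀ := MvPolynomial.aeval (fun i => πb (X i))
  let mp : MvPolynomial (Fin n) R →+* MvPolynomial (Fin n) (R ⧸ I) :=
    MvPolynomial.map (Ideal.Quotient.mk I)
  have hπ_eq : ∀ b, π b = πb (mp b) := by
    have : (π : MvPolynomial (Fin n) R →+* A₀) =
        (πb : MvPolynomial (Fin n) (R ⧸ I) →+* A₀).comp mp := by
      apply MvPolynomial.ringHom_ext
      · intro r
        simp only [π, mp, RingHom.coe_coe, RingHom.comp_apply, MvPolynomial.map_C,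
          MvPolynomial.aeval_C]
        rw [IsScalarTower.algebraMap_apply R (R ⧸ I) A₀, ← MvPolynomial.algebraMap_eq,
          AlgHom.commutes]
        rfl
      · intro i
        simp [π, mp]
    exact fun b => RingHom.congr_fun this b
  have hmp : Function.Surjective mp :=
    MvPolynomial.map_surjective _ Ideal.Quotient.mk_surjective
  have hπ : Function.Surjective π := fun a => by
    obtain ⟨c, rfl⟩ := hπb a
    obtain ⟨b, rfl⟩ := hmp c
    exact ⟨b, hπ_eq b⟩
  set K : Ideal (MvPolynomial (Fin n) R) := RingHom.ker π with hKdef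
  have hKcomap : K = (RingHom.ker πb.toRingHom).comap mp := by
    ext b
    rw [hKdef, RingHom.mem_ker, Ideal.mem_comap, RingHom.mem_ker, hπ_eq]
    rfl
  obtain ⟨F₀, hF₀, hF₀K⟩ := exists_fg_sup_ker mp hmp _ hfg
  have hkermp : RingHom.ker mp = I.map (algebraMap R (MvPolynomial (Fin n) R)) := by
    rw [MvPolynomial.ker_map, Ideal.mk_ker]
    rfl
  have hK : K = F₀ ⊔ I.map (algebraMap R (MvPolynomial (Fin n) R)) := by
    rw [hKcomap, hF₀K, hkermp]
  obtain ⟨g, hgK, hstarB⟩ := exists_gens I π hπ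
  have hIB : I.map (algebraMap R (MvPolynomial (Fin n) R)) ≤ K := map_le_ker I π
  -- the Jacobian matrix modulo `K` is idempotent
  let e₀ : Matrix (Fin n) (Fin n) (MvPolynomial (Fin n) R ⧸ K) :=
    Matrix.of fun i j => Ideal.Quotient.mk K (pderiv i (g j))
  have he₀ : IsIdempotentElem e₀ := by
    ext i j
    have := jacobian_idem (D := fun i => (pderiv i : Derivation R (MvPolynomial (Fin n) R) _))
      hIB hgK hstarB i j
    rw [Matrix.mul_apply]
    simp only [e₀, Matrix.of_apply, ← map_mul, ← map_sum]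
    exact (Ideal.Quotient.eq.mpr this).symm
  obtain ⟨P, _, _, hét, hbij, E, hE, hEmap⟩ :=
    Helper20.EtProj.exists_etale_lift_idempotent_matrix K e₀ he₀
  letI : Algebra R P :=
    ((algebraMap (MvPolynomial (Fin n) R) P).comp (algebraMap R (MvPolynomial (Fin n) R))).toAlgebra
  haveI : IsScalarTower R (MvPolynomial (Fin n) R) P := IsScalarTower.of_algebraMap_eq (fun _ => rfl)
  set φ := algebraMap (MvPolynomial (Fin n) R) P with hφ
  set Kt : Ideal P := K.map φ with hKtdef
  obtain ⟨D, hD⟩ := exists_derivations (R := R) (n := n) (P := P)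
  let F : Fin n → P := fun i => φ (g i)
  have hF : ∀ i, F i ∈ Kt := fun i => Ideal.mem_map_of_mem _ (hgK i)
  have hstar : ∀ k ∈ Kt, k - ∑ i, D i k * F i ∈ Kt ^ 2 ⊔ I.map (algebraMap R P) :=
    star_map I K g D hD hgK hstarB
  have hIP : I.map (algebraMap R P) ≤ Kt := by
    rw [IsScalarTower.algebraMap_eq R (MvPolynomial (Fin n) R) P, ← Ideal.map_map]
    exact Ideal.map_mono hIB
  have hED : ∀ i j, E i j - D i (F j) ∈ Kt := by
    intro i j
    have := congrFun (congrFun hEmap i) j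
    simp only [Matrix.map_apply, e₀, Matrix.of_apply] at this
    rw [hD, ← Ideal.Quotient.eq]
    exact this
  have hKt : Kt = F₀.map φ ⊔ I.map (algebraMap R P) := by
    rw [hKtdef, hK, Ideal.map_sup, Ideal.map_map, ← IsScalarTower.algebraMap_eq]
  obtain ⟨s', hs'1, hs'mul⟩ :=
    exists_mul_mem (I := I) hF hstar hED (F₀.map φ) (hF₀.map φ) hKt
  set f' := fgen F E with hf'
  set Ψ : Matrix (Fin n) (Fin n) P := Matrix.of (fun i j => D i (f' j)) + 1 - E with hΨ
  set st : P := s' * Ψ.det with hst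
  set 𝔨 : Ideal P := Ideal.span (Set.range f') with h𝔨
  haveI : Algebra.FormallySmooth R P :=
    Algebra.FormallySmooth.comp R (MvPolynomial (Fin n) R) P
  haveI : Algebra.FinitePresentation R P :=
    Algebra.FinitePresentation.trans R (MvPolynomial (Fin n) R) P
  have hsmooth : Algebra.FormallySmooth R (Localization.Away (Ideal.Quotient.mk 𝔨 st)) :=
    formallySmooth_away D f' E hE (fgen_idem hE) 𝔨 rfl (D_fgen_mul_one_sub_mem hE) st
      (Dvd.intro_left _ rfl) _
  have hfp : Algebra.FinitePresentation R (Localization.Away (Ideal.Quotient.mk 𝔨 st)) := by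
    haveI : Algebra.FinitePresentation R (P ⧸ 𝔨) :=
      Algebra.FinitePresentation.quotient (Submodule.fg_span (Set.finite_range f'))
    haveI : Algebra.FinitePresentation (P ⧸ 𝔨) (Localization.Away (Ideal.Quotient.mk 𝔨 st)) :=
      IsLocalization.Away.finitePresentation (Ideal.Quotient.mk 𝔨 st)
    exact Algebra.FinitePresentation.trans R (P ⧸ 𝔨) _
  have hst1 : st - 1 ∈ Kt := by
    have hdet : Ψ.det - 1 ∈ Kt := det_sub_one_mem hF hE hED
    have : st - 1 = s' * (Ψ.det - 1) + (s' - 1) := by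
      rw [hst]
      ring
    rw [this]
    exact Kt.add_mem (Kt.mul_mem_left _ hdet) hs'1
  have h𝔨K : 𝔨 ≤ Kt := Ideal.span_le.mpr (by
    rintro _ ⟨j, rfl⟩
    exact fgen_mem hF j)
  obtain ⟨θ, hθs, hθk⟩ := exists_surjective_ker_eq hIP 𝔨 h𝔨K s' st (Dvd.intro _ rfl) hst1 hs'mul
    (Localization.Away (Ideal.Quotient.mk 𝔨 st))
  refine ⟨Localization.Away (Ideal.Quotient.mk 𝔨 st), inferInstance, inferInstance,
    ⟨hsmooth, hfp⟩, ⟨?_⟩⟩
  let e1 : (Localization.Away (Ideal.Quotient.mk 𝔨 st) ⧸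
      I.map (algebraMap R (Localization.Away (Ideal.Quotient.mk 𝔨 st)))) ≃ₐ[R] P ⧸ Kt :=
    (Ideal.quotientEquivAlgOfEq R hθk.symm).trans (Ideal.quotientKerAlgEquivOfSurjective hθs)
  let j : (MvPolynomial (Fin n) R ⧸ K) →ₐ[R] P ⧸ Kt :=
    Ideal.quotientMapₐ Kt (IsScalarTower.toAlgHom R (MvPolynomial (Fin n) R) P) Ideal.le_comap_map
  have hj : Function.Bijective j := by
    have : ⇑j = ⇑(algebraMap (MvPolynomial (Fin n) R ⧸ K) (P ⧸ Kt)) := by
      ext x
      obtain ⟨b, rfl⟩ := Ideal.Quotient.mk_surjective x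
      rfl
    rw [this]
    exact hbij
  let e2 : (MvPolynomial (Fin n) R ⧸ K) ≃ₐ[R] P ⧸ Kt := AlgEquiv.ofBijective j hj
  let e3 : (MvPolynomial (Fin n) R ⧸ K) ≃ₐ[R] A₀ := Ideal.quotientKerAlgEquivOfSurjective hπ
  exact e1.trans (e2.symm.trans e3)

end Groth.Agent.Lib.Seat14.SmLift
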