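import Mathlib

/-!
# Powers of `a` are strictly standard when `A_a` is smooth with stably free differentials, part A
(seat 14)

Linear algebra (`exists_split`: from a surjection `g : B^(n+q) → Ω` killing the last `q` basis
vectors and `Ω × B^p ≃ B^q`, a split injection `W : B^(n+p) → B^(n+q)` onto `ker g`) and the enlarged
presentation `exists_extended_presentation` (add `q` variables mapping to `0`).
-/

set_option autoImplicit false
set_option linter.style.haveILetI false
universe u

namespace Groth.Agent.Lib.Seat14.StdPow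

section LA

variable {B : Type u} [CommRing B]

/-- `Fin.append` as a linear equivalence. -/
def appL (m n : ℕ) : ((Fin m → B) × (Fin n → B)) ≃ₗ[B] (Fin (m + n) → B) :=
  { Fin.appendEquiv m n with
    map_add' := by
      intro x y
      funext i
      refine Fin.addCases (fun i => ?_) (fun i => ?_) i <;> simp [Fin.appendEquiv]
    map_smul' := by
      intro r x
      funext i
      refine Fin.addCases (fun i => ?_) (fun i => ?_) i <;> simp [Fin.appendEquiv] }

@[simp] theorem appL_apply (m n : ℕ) (x : (Fin m → B) × (Fin n → B)) :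
    appL m n x = Fin.append x.1 x.2 := rfl

@[simp] theorem appL_symm_apply (m n : ℕ) (w : Fin (m + n) → B) :
    (appL m n).symm w = (fun i => w (Fin.castAdd n i), fun i => w (Fin.natAdd m i)) := rfl

variable {Ω : Type u} [AddCommGroup Ω] [Module B Ω] [Module.Projective B Ω] {n p q : ℕ}

theorem exists_split (g : (Fin (n + q) → B) →ₗ[B] Ω) (hg : Function.Surjective g)
    (hg0 : ∀ j : Fin q, g (Pi.single (Fin.natAdd n j) 1) = 0)
    (e : (Ω × (Fin p → B)) ≃ₗ[B] (Fin q → B)) :
    ∃ (W : (Fin (n + p) → B) →ₗ[B] (Fin (n + q) → B))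
      (L : (Fin (n + q) → B) →ₗ[B] (Fin (n + p) → B)),
      (∀ v, L (W v) = v) ∧ (∀ v, g (W v) = 0) ∧ (∀ w, g w = 0 → W (L w) = w) := by
  classical
  -- restriction of `g` to the first `n` coordinates
  set g' : (Fin n → B) →ₗ[B] Ω :=
    g ∘ₗ (appL n q).toLinearMap ∘ₗ LinearMap.inl B (Fin n → B) (Fin q → B) with hg'
  have hg'a : ∀ x, g' x = g (Fin.append x 0) := fun x => rfl
  have hkey : ∀ w : Fin (n + q) → B, g w = g' (fun i => w (Fin.castAdd q i)) := by
    intro w
    have hw : w = Fin.append (fun i => w (Fin.castAdd q i)) 0 +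
        ∑ j : Fin q, w (Fin.natAdd n j) • (Pi.single (Fin.natAdd n j) (1 : B) : Fin (n + q) → B) := by
      have hne : ∀ (i : Fin n) (x : Fin q), Fin.castAdd q i ≠ Fin.natAdd n x := by
        intro i x h
        have := congrArg Fin.val h
        simp only [Fin.val_castAdd, Fin.val_natAdd] at this
        omega
      funext i
      refine Fin.addCases (fun i => ?_) (fun i => ?_) i
      · simp [Finset.sum_apply, hne]
      · simp [Finset.sum_apply, Pi.single_apply]
    conv_lhs => rw [hw]
    rw [map_add, map_sum, hg'a]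
    simp [hg0]
  have hg's : Function.Surjective g' := by
    intro ω
    obtain ⟨w, rfl⟩ := hg ω
    exact ⟨_, (hkey w).symm⟩
  obtain ⟨σ, hσ⟩ := Module.projective_lifting_property g' LinearMap.id hg's
  have hσa : ∀ ω, g' (σ ω) = ω := fun ω => LinearMap.congr_fun hσ ω
  -- the maps on products
  let Wmap : ((Fin n → B) × (Fin p → B)) →ₗ[B] ((Fin n → B) × (Fin q → B)) :=
    LinearMap.prod ((LinearMap.id - σ ∘ₗ g') ∘ₗ LinearMap.fst B _ _)
      (e.toLinearMap ∘ₗ LinearMap.prodMap g' LinearMap.id)
  let Lmap : ((Fin n → B) × (Fin q → B)) →ₗ[B] ((Fin n → B) × (Fin p → B)) :=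
    LinearMap.prod ((LinearMap.id - σ ∘ₗ g') ∘ₗ LinearMap.fst B _ _ +
        σ ∘ₗ LinearMap.fst B _ _ ∘ₗ e.symm.toLinearMap ∘ₗ LinearMap.snd B _ _)
      (LinearMap.snd B _ _ ∘ₗ e.symm.toLinearMap ∘ₗ LinearMap.snd B _ _)
  have hW : ∀ x v, Wmap (x, v) = (x - σ (g' x), e (g' x, v)) := fun x v => rfl
  have hL : ∀ y u, Lmap (y, u) = (y - σ (g' y) + σ (e.symm u).1, (e.symm u).2) := fun y u => rfl
  have hLW : ∀ z, Lmap (Wmap z) = z := by
    rintro ⟨x, v⟩
    rw [hW, hL]
    simp [hσa]
  have hgW : ∀ z, g' (Wmap z).1 = 0 := by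
    rintro ⟨x, v⟩
    rw [hW]
    simp [hσa]
  have hWL : ∀ y u, g' y = 0 → Wmap (Lmap (y, u)) = (y, u) := by
    intro y u hy
    rw [hL, hW]
    simp [hσa, hy]
  refine ⟨(appL n q).toLinearMap ∘ₗ Wmap ∘ₗ (appL n p).symm.toLinearMap,
    (appL n p).toLinearMap ∘ₗ Lmap ∘ₗ (appL n q).symm.toLinearMap, ?_, ?_, ?_⟩
  · intro v
    simp only [LinearMap.comp_apply, LinearEquiv.coe_coe, LinearEquiv.symm_apply_apply, hLW,
      LinearEquiv.apply_symm_apply]
  · intro v
    simp only [LinearMap.comp_apply, LinearEquiv.coe_coe]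
    rw [hkey]
    have := hgW ((appL n p).symm v)
    convert this using 2
    funext i
    simp
  · intro w hw
    rw [hkey] at hw
    simp only [LinearMap.comp_apply, LinearEquiv.coe_coe, LinearEquiv.symm_apply_apply]
    have h1 : (appL n q).symm w = (fun i => w (Fin.castAdd q i), fun i => w (Fin.natAdd n i)) := rfl
    rw [h1, hWL _ _ hw, ← h1, LinearEquiv.apply_symm_apply]

end LA

section Pres

open MvPolynomial

theorem exists_extended_presentation {R A : Type u} [CommRing R] [CommRing A] [Algebra R A]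
    {n m : ℕ} (q : ℕ) (φ : MvPolynomial (Fin n) R →ₐ[R] A) (hφ : Function.Surjective φ)
    (f : Fin m → MvPolynomial (Fin n) R)
    (hker : RingHom.ker φ.toRingHom = Ideal.span (Set.range f)) :
    ∃ (φ' : MvPolynomial (Fin (n + q)) R →ₐ[R] A)
      (gen : Fin (m + q) → MvPolynomial (Fin (n + q)) R),
      Function.Surjective φ' ∧ RingHom.ker φ'.toRingHom = Ideal.span (Set.range gen) ∧
        ∀ j : Fin q, φ' (X (Fin.natAdd n j)) = 0 := by
  classical
  set ρ : MvPolynomial (Fin (n + q)) R →ₐ[R] MvPolynomial (Fin n) R :=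
    aeval (Fin.append (fun i => (X i : MvPolynomial (Fin n) R)) (fun _ => 0)) with hρ
  set ι : MvPolynomial (Fin n) R →ₐ[R] MvPolynomial (Fin (n + q)) R := rename (Fin.castAdd q)
    with hι
  have hρι : ∀ x, ρ (ι x) = x := by
    intro x
    have : ρ.comp ι = AlgHom.id R _ := by
      apply MvPolynomial.algHom_ext
      intro i
      simp [hρ, hι]
    exact AlgHom.congr_fun this x
  have hρX : ∀ j : Fin q, ρ (X (Fin.natAdd n j)) = 0 := by
    intro j
    simp [hρ]
  set gen : Fin (m + q) → MvPolynomial (Fin (n + q)) R :=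
    Fin.append (fun j => ι (f j)) (fun j => X (Fin.natAdd n j)) with hgen
  have hgenl : ∀ j, gen (Fin.castAdd q j) = ι (f j) := fun j => Fin.append_left _ _ j
  have hgenr : ∀ j, gen (Fin.natAdd m j) = X (Fin.natAdd n j) := fun j => Fin.append_right _ _ j
  have hsub : ∀ x : MvPolynomial (Fin (n + q)) R, x - ι (ρ x) ∈ Ideal.span (Set.range gen) := by
    intro x
    induction x using MvPolynomial.induction_on with
    | C r => simp [hρ, hι]
    | add x y hx hy =>
      have : x + y - ι (ρ (x + y)) = (x - ι (ρ x)) + (y - ι (ρ y)) := by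
        rw [map_add, map_add]
        ring
      rw [this]
      exact Ideal.add_mem _ hx hy
    | mul_X x v hx =>
      refine Fin.addCases (fun i => ?_) (fun j => ?_) v
      · have : x * X (Fin.castAdd q i) - ι (ρ (x * X (Fin.castAdd q i))) =
            (x - ι (ρ x)) * X (Fin.castAdd q i) := by
          rw [map_mul, map_mul]
          have : ι (ρ (X (Fin.castAdd q i))) = X (Fin.castAdd q i) := by simp [hρ, hι]
          rw [this]
          ring
        rw [this]
        exact Ideal.mul_mem_right _ _ hx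
      · rw [map_mul, hρX, mul_zero, map_zero, sub_zero]
        refine Ideal.mul_mem_left _ _ (Ideal.subset_span ⟨Fin.natAdd m j, hgenr j⟩)
  refine ⟨φ.comp ρ, gen, ?_, ?_, ?_⟩
  · intro y
    obtain ⟨x, rfl⟩ := hφ y
    exact ⟨ι x, by rw [AlgHom.comp_apply, hρι]⟩
  · apply le_antisymm
    · intro x hx
      have hx' : φ (ρ x) = 0 := hx
      have h1 : ρ x ∈ Ideal.span (Set.range f) := by
        rw [← hker]
        exact hx'
      have h2 : ι (ρ x) ∈ Ideal.span (Set.range gen) := by
        have h3 := Ideal.mem_map_of_mem ι h1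
        rw [Ideal.map_span] at h3
        refine Ideal.span_mono ?_ h3
        rintro _ ⟨_, ⟨j, rfl⟩, rfl⟩
        exact ⟨Fin.castAdd q j, hgenl j⟩
      have := Ideal.add_mem _ (hsub x) h2
      rwa [sub_add_cancel] at this
    · rw [Ideal.span_le]
      rintro _ ⟨j, rfl⟩
      refine Fin.addCases (fun j => ?_) (fun j => ?_) j
      · rw [hgenl]
        show φ (ρ (ι (f j))) = 0
        rw [hρι]
        have : f j ∈ RingHom.ker φ.toRingHom := by
          rw [hker]
          exact Ideal.subset_span ⟨j, rfl⟩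
        exact this
      · rw [hgenr]
        show φ (ρ (X (Fin.natAdd n j))) = 0
        rw [hρX, map_zero]
  · intro j
    rw [AlgHom.comp_apply, hρX, map_zero]

end Pres

end Groth.Agent.Lib.Seat14.StdPow
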