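import Mathlib

/-!
# Powers of `a` are strictly standard when `A_a` is smooth with stably free differentials, part B
(seat 14)

Conormal injectivity after inverting `a`: `exists_pow_mul_mem_sq`.
-/

set_option autoImplicit false
set_option linter.style.haveILetI false
universe u

namespace Groth.Agent.Lib.Seat14.StdPow

open MvPolynomial KaehlerDifferential TensorProduct

/-- `A → B → R` with `B → R` surjective with kernel `I`, `B` and `R` formally smooth over `A`:
an element `b ∈ I` with `1 ⊗ d b = 0` in `R ⊗_B Ω[B/A]` lies in `I²`. -/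
theorem mem_sq_of_one_tmul_D_eq_zero {A B R : Type u} [CommRing A] [CommRing B] [CommRing R]
    [Algebra A B] [Algebra B R] [Algebra A R] [IsScalarTower A B R] [Algebra.FormallySmooth A R]
    [Algebra.FormallySmooth A B]
    (hBR : Function.Surjective (algebraMap B R)) (b : B) (hb : b ∈ RingHom.ker (algebraMap B R))
    (h : (1 : R) ⊗ₜ[B] D A B b = 0) : b ∈ RingHom.ker (algebraMap B R) ^ 2 := by
  have hinj : Function.Injective (kerCotangentToTensor A B R) :=
    (Algebra.FormallySmooth.kerCotangentToTensor_injective_iff hBR).mpr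
      ((Algebra.formallySmooth_iff (R := A) (A := R)).mp inferInstance).2
  have h0 : (RingHom.ker (algebraMap B R)).toCotangent ⟨b, hb⟩ = 0 := by
    apply hinj
    rw [kerCotangentToTensor_toCotangent, map_zero]
    exact h
  exact Ideal.toCotangent_eq_zero _ _ |>.mp h0

/-- Conormal injectivity after inverting `a`: if `A_a` is formally smooth over `R`, then an element
`h` of the kernel `I` of a presentation `φ : R[X] → A` whose partial derivatives vanish in `A_a`
is killed, modulo `I²`, by a power of (a lift of) `a`. -/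
theorem exists_pow_mul_mem_sq {R A : Type u} [CommRing R] [CommRing A] [Algebra R A] {N : ℕ}
    (φ : MvPolynomial (Fin N) R →ₐ[R] A) (hφ : Function.Surjective φ)
    (ã : MvPolynomial (Fin N) R)
    (B : Type u) [CommRing B] [Algebra A B] [Algebra R B] [IsScalarTower R A B]
    [IsLocalization.Away (φ ã) B] [Algebra.FormallySmooth R B]
    (h : MvPolynomial (Fin N) R) (hh : φ h = 0)
    (hrow : ∀ i, algebraMap A B (φ (pderiv i h)) = 0) :
    ∃ t : ℕ, ã ^ t * h ∈ (RingHom.ker φ.toRingHom) ^ 2 := by
  classical
  let P' := Localization.Away ã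
  let ψ : P' →ₐ[R] B := IsLocalization.Away.mapₐ P' B φ ã
  have hψsurj : Function.Surjective ψ := IsLocalization.Away.mapₐ_surjective_of_surjective ã hφ
  have hψalg : ∀ x : (MvPolynomial (Fin N) R), ψ (algebraMap (MvPolynomial (Fin N) R) P' x) = algebraMap A B (φ x) := by
    intro x
    change IsLocalization.Away.map P' B φ.toRingHom ã (algebraMap (MvPolynomial (Fin N) R) P' x) = _
    rw [IsLocalization.Away.map, IsLocalization.map_eq]
    rfl
  letI : Algebra P' B := ψ.toRingHom.toAlgebra
  haveI : IsScalarTower R P' B := IsScalarTower.of_algebraMap_eq' ψ.comp_algebraMap.symm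
  haveI : Algebra.FormallySmooth (MvPolynomial (Fin N) R) P' := Algebra.FormallySmooth.of_isLocalization (Submonoid.powers ã)
  haveI : Algebra.FormallySmooth R P' := Algebra.FormallySmooth.comp R (MvPolynomial (Fin N) R) P'
  have hsurj' : Function.Surjective (algebraMap P' B) := hψsurj
  have halg : ∀ x : (MvPolynomial (Fin N) R), algebraMap P' B (algebraMap (MvPolynomial (Fin N) R) P' x) = algebraMap A B (φ x) := hψalg
  have hker : RingHom.ker (algebraMap P' B) = (RingHom.ker φ.toRingHom).map (algebraMap (MvPolynomial (Fin N) R) P') := by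
    have h1 := IsLocalization.ker_map (S := P') (M := Submonoid.powers ã)
      (T := Submonoid.powers (φ ã)) B φ.toRingHom (by
        rw [Submonoid.map_powers]; rfl)
    rw [← h1]
    rfl
  have hmem : algebraMap (MvPolynomial (Fin N) R) P' h ∈ RingHom.ker (algebraMap P' B) := by
    rw [RingHom.mem_ker, halg, hh, map_zero]
  have hD : (1 : B) ⊗ₜ[P'] D R P' (algebraMap (MvPolynomial (Fin N) R) P' h) = 0 := by
    have h1 : D R (MvPolynomial (Fin N) R) h = ∑ i, pderiv i h • D R (MvPolynomial (Fin N) R) (X i) := by
      have := (mvPolynomialBasis R (Fin N)).sum_repr (D R (MvPolynomial (Fin N) R) h)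
      simp only [mvPolynomialBasis_repr_apply, mvPolynomialBasis_apply] at this
      exact this.symm
    have h2 : D R P' (algebraMap (MvPolynomial (Fin N) R) P' h) = KaehlerDifferential.map R R (MvPolynomial (Fin N) R) P' (D R (MvPolynomial (Fin N) R) h) := by
      rw [KaehlerDifferential.map_D]
    rw [h2, h1, map_sum, TensorProduct.tmul_sum]
    refine Finset.sum_eq_zero fun i _ => ?_
    rw [LinearMap.map_smul_of_tower, ← algebraMap_smul P' (pderiv i h), TensorProduct.tmul_smul,
      TensorProduct.smul_tmul', Algebra.smul_def, mul_one, halg, hrow, TensorProduct.zero_tmul]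
  have hsq := mem_sq_of_one_tmul_D_eq_zero (A := R) (B := P')
    (R := B) hsurj' _ hmem hD
  rw [hker, ← Ideal.map_pow] at hsq
  obtain ⟨⟨⟨i, hi⟩, ⟨m, hm⟩⟩, hx⟩ := (IsLocalization.mem_map_algebraMap_iff
    (Submonoid.powers ã) P').mp hsq
  obtain ⟨k, rfl⟩ := hm
  simp only at hx
  rw [← map_mul] at hx
  obtain ⟨⟨c, ⟨k', rfl⟩⟩, hc⟩ := (IsLocalization.eq_iff_exists (Submonoid.powers ã) P').mp hx
  simp only at hc
  refine ⟨k' + k, ?_⟩
  have : ã ^ (k' + k) * h = ã ^ k' * i := by
    rw [← hc, pow_add]; ring
  rw [this]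
  exact Ideal.mul_mem_left _ _ hi

end Groth.Agent.Lib.Seat14.StdPow
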