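import Mathlib

/-!
# Kaehler differentials of a presented algebra and stable freeness (seat 99)

* `rowsOf φ x`: the vector `(φ (∂x/∂X_k))_k`.
* `gMap φ`: the surjection `A^n → Ω[A/R]`, `e_k ↦ d(φ X_k)`, with
  `gMap_rowsOf : gMap φ (rowsOf φ x) = D (φ x)` and
  `exists_of_mem_ker_gMap`: the kernel consists of the `rowsOf φ x`, `x ∈ ker φ`.
* `nonempty_prod_equiv`: `M × C ≃ N` from a surjection `N → M` whose kernel is the range of a split
  injection `C → N`.
* `exists_rightInverse_of_minors`: a `c × n` matrix whose maximal minors generate the unit ideal has a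
  right inverse.
* `loc_surjective`, `loc_ker_le`: presentation of a localized module.
-/

set_option autoImplicit false
universe u

namespace Groth.Agent.Lib.Seat99.StdOmega

open MvPolynomial KaehlerDifferential TensorProduct

section General

variable {B : Type*} [CommRing B] {M N C : Type*} [AddCommGroup M] [AddCommGroup N]
  [AddCommGroup C] [Module B M] [Module B N] [Module B C]

theorem nonempty_prod_equiv (g : N →ₗ[B] M) (hg : Function.Surjective g) (U : C →ₗ[B] N)
    (ρ : N →ₗ[B] C) (hρ : ∀ c, ρ (U c) = c) (hker : ∀ v, g v = 0 → ∃ c, U c = v)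
    (hU : ∀ c, g (U c) = 0) : Nonempty ((M × C) ≃ₗ[B] N) := by
  have hbij : Function.Bijective (g.prod ρ) := by
    constructor
    · rw [← LinearMap.ker_eq_bot, LinearMap.ker_eq_bot']
      intro v hv
      have h1 : g v = 0 := congrArg Prod.fst hv
      have h2 : ρ v = 0 := congrArg Prod.snd hv
      obtain ⟨c, rfl⟩ := hker v h1
      rw [hρ] at h2
      rw [h2, map_zero]
    · rintro ⟨m, c⟩
      obtain ⟨v0, rfl⟩ := hg m
      refine ⟨v0 - U (ρ v0) + U c, ?_⟩
      simp [hU, hρ]
  exact ⟨(LinearEquiv.ofBijective _ hbij).symm⟩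

open Matrix in
theorem exists_rightInverse_of_minors {c n : ℕ} (Mx : Matrix (Fin c) (Fin n) B)
    (h : Ideal.span (Set.range fun cols : Fin c → Fin n => (Mx.submatrix id cols).det) = ⊤) :
    ∃ Q : Matrix (Fin n) (Fin c) B, Mx * Q = 1 := by
  classical
  have h1 : (1 : B) ∈ Ideal.span (Set.range fun cols : Fin c → Fin n =>
      (Mx.submatrix id cols).det) := by rw [h]; trivial
  obtain ⟨t, ht⟩ := (Ideal.mem_span_range_iff_exists_fun).mp h1
  refine ⟨∑ cols : Fin c → Fin n, t cols •
    ((1 : Matrix (Fin n) (Fin n) B).submatrix id cols * (Mx.submatrix id cols).adjugate), ?_⟩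
  rw [Matrix.mul_sum]
  have h2 : ∀ cols : Fin c → Fin n, Mx * (t cols •
      ((1 : Matrix (Fin n) (Fin n) B).submatrix id cols * (Mx.submatrix id cols).adjugate)) =
      (t cols * (Mx.submatrix id cols).det) • (1 : Matrix (Fin c) (Fin c) B) := by
    intro cols
    have h3 : Mx * (1 : Matrix (Fin n) (Fin n) B).submatrix id cols = Mx.submatrix id cols := by
      ext i k
      simp [Matrix.mul_apply, Matrix.one_apply]
    rw [Matrix.mul_smul, ← Matrix.mul_assoc, h3, Matrix.mul_adjugate, smul_smul]
  rw [Finset.sum_congr rfl (fun cols _ => h2 cols), ← Finset.sum_smul, ht, one_smul]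

end General

section Presentation

variable {R A : Type u} [CommRing R] [CommRing A] [Algebra R A] {n : ℕ}

/-- The vector of images of the partial derivatives. -/
noncomputable def rowsOf (φ : MvPolynomial (Fin n) R →ₐ[R] A) (x : MvPolynomial (Fin n) R) :
    Fin n → A := fun k => φ (pderiv k x)

theorem rowsOf_add (φ : MvPolynomial (Fin n) R →ₐ[R] A) (x y : MvPolynomial (Fin n) R) :
    rowsOf φ (x + y) = rowsOf φ x + rowsOf φ y := by
  ext k; simp [rowsOf]

theorem rowsOf_zero (φ : MvPolynomial (Fin n) R →ₐ[R] A) : rowsOf φ 0 = 0 := by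
  ext k; simp [rowsOf]

theorem rowsOf_mul (φ : MvPolynomial (Fin n) R →ₐ[R] A) (x y : MvPolynomial (Fin n) R) :
    rowsOf φ (x * y) = φ x • rowsOf φ y + φ y • rowsOf φ x := by
  ext k
  simp [rowsOf, Derivation.leibniz]

/-- The map `A^n → Ω[A/R]`. -/
noncomputable def gMap (φ : MvPolynomial (Fin n) R →ₐ[R] A) : (Fin n → A) →ₗ[A] Ω[A⁄R] :=
  Fintype.linearCombination A (fun k => D R A (φ (X k)))

theorem gMap_apply (φ : MvPolynomial (Fin n) R →ₐ[R] A) (v : Fin n → A) :
    gMap φ v = ∑ k, v k • D R A (φ (X k)) := by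
  simp [gMap, Fintype.linearCombination_apply]

section
variable [Algebra (MvPolynomial (Fin n) R) A] [IsScalarTower R (MvPolynomial (Fin n) R) A]

/-- The equivalence `A ⊗ Ω[P/R] ≃ A^n`. -/
noncomputable def eEquiv : (A ⊗[MvPolynomial (Fin n) R] Ω[MvPolynomial (Fin n) R⁄R]) ≃ₗ[A] (Fin n → A) :=
  ((mvPolynomialBasis R (Fin n)).baseChange A).equivFun

omit [Algebra R A] [IsScalarTower R (MvPolynomial (Fin n) R) A] in
theorem eEquiv_tmul_D (x : MvPolynomial (Fin n) R) :
    eEquiv (R := R) (A := A) (n := n) ((1 : A) ⊗ₜ D R _ x) =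
      fun k => algebraMap (MvPolynomial (Fin n) R) A (pderiv k x) := by
  ext k
  simp [eEquiv, Module.Basis.equivFun_apply, mvPolynomialBasis_repr_apply, Algebra.smul_def]

theorem mapBaseChange_eEquiv_symm (v : Fin n → A) :
    mapBaseChange R (MvPolynomial (Fin n) R) A (eEquiv.symm v) =
      ∑ k, v k • D R A (algebraMap (MvPolynomial (Fin n) R) A (X k)) := by
  unfold eEquiv
  rw [Module.Basis.equivFun_symm_apply, map_sum]
  refine Finset.sum_congr rfl fun k _ => ?_
  rw [map_smul, Module.Basis.baseChange_apply, mapBaseChange_tmul, one_smul, mvPolynomialBasis_apply,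
    map_D]

theorem sum_pderiv_smul_D (x : MvPolynomial (Fin n) R) :
    ∑ k, algebraMap (MvPolynomial (Fin n) R) A (pderiv k x) •
      D R A (algebraMap (MvPolynomial (Fin n) R) A (X k)) =
      D R A (algebraMap (MvPolynomial (Fin n) R) A x) := by
  rw [← mapBaseChange_eEquiv_symm, ← eEquiv_tmul_D, LinearEquiv.symm_apply_apply,
    mapBaseChange_tmul, one_smul, map_D]

theorem surjective_aux (h : Function.Surjective (algebraMap (MvPolynomial (Fin n) R) A))
    (ω : Ω[A⁄R]) : ∃ v : Fin n → A,
      ∑ k, v k • D R A (algebraMap (MvPolynomial (Fin n) R) A (X k)) = ω := by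
  obtain ⟨t, rfl⟩ := mapBaseChange_surjective R (MvPolynomial (Fin n) R) A h ω
  refine ⟨eEquiv t, ?_⟩
  rw [← mapBaseChange_eEquiv_symm, LinearEquiv.symm_apply_apply]

theorem ker_aux (h : Function.Surjective (algebraMap (MvPolynomial (Fin n) R) A))
    (v : Fin n → A)
    (hv : ∑ k, v k • D R A (algebraMap (MvPolynomial (Fin n) R) A (X k)) = 0) :
    ∃ x : MvPolynomial (Fin n) R, algebraMap (MvPolynomial (Fin n) R) A x = 0 ∧
      v = fun k => algebraMap (MvPolynomial (Fin n) R) A (pderiv k x) := by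
  rw [← mapBaseChange_eEquiv_symm] at hv
  obtain ⟨y, hy⟩ := (exact_kerCotangentToTensor_mapBaseChange R (MvPolynomial (Fin n) R) A h
    (eEquiv.symm v)).mp hv
  obtain ⟨x, rfl⟩ := Ideal.toCotangent_surjective _ y
  rw [kerCotangentToTensor_toCotangent] at hy
  refine ⟨x.1, RingHom.mem_ker.mp x.2, ?_⟩
  rw [← eEquiv_tmul_D, hy, LinearEquiv.apply_symm_apply]

end

section phi

variable (φ : MvPolynomial (Fin n) R →ₐ[R] A)

theorem gMap_rowsOf (x : MvPolynomial (Fin n) R) : gMap φ (rowsOf φ x) = D R A (φ x) := by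
  let _ : Algebra (MvPolynomial (Fin n) R) A := φ.toRingHom.toAlgebra
  have : IsScalarTower R (MvPolynomial (Fin n) R) A :=
    IsScalarTower.of_algebraMap_eq' φ.comp_algebraMap.symm
  rw [gMap_apply]
  exact sum_pderiv_smul_D x

theorem gMap_surjective (hφ : Function.Surjective φ) : Function.Surjective (gMap φ) := by
  let _ : Algebra (MvPolynomial (Fin n) R) A := φ.toRingHom.toAlgebra
  have : IsScalarTower R (MvPolynomial (Fin n) R) A :=
    IsScalarTower.of_algebraMap_eq' φ.comp_algebraMap.symm
  intro ω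
  obtain ⟨v, hv⟩ := surjective_aux (n := n) hφ ω
  exact ⟨v, by rw [gMap_apply]; exact hv⟩

theorem exists_of_mem_ker_gMap (hφ : Function.Surjective φ) (v : Fin n → A)
    (hv : gMap φ v = 0) : ∃ x : MvPolynomial (Fin n) R, φ x = 0 ∧ v = rowsOf φ x := by
  let _ : Algebra (MvPolynomial (Fin n) R) A := φ.toRingHom.toAlgebra
  have : IsScalarTower R (MvPolynomial (Fin n) R) A :=
    IsScalarTower.of_algebraMap_eq' φ.comp_algebraMap.symm
  rw [gMap_apply] at hv
  exact ker_aux (n := n) hφ v hv

end phi


end Presentation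

section Loc

variable {A : Type*} [CommRing A] (a : A) {B : Type*} [CommRing B] [Algebra A B]
  [IsLocalization.Away a B]
  {M M' : Type*} [AddCommGroup M] [Module A M] [AddCommGroup M'] [Module A M'] [Module B M']
  [IsScalarTower A B M'] (f : M →ₗ[A] M') [IsLocalizedModule (Submonoid.powers a) f]
  {n : ℕ} (g : (Fin n → A) →ₗ[A] M)

/-- The localized presentation map. -/
noncomputable def gLoc : (Fin n → B) →ₗ[B] M' :=
  Fintype.linearCombination B (fun k => f (g (Pi.single k 1)))

omit [IsLocalization.Away a B] [IsLocalizedModule (Submonoid.powers a) f] in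
theorem gLoc_map (v : Fin n → A) :
    gLoc (B := B) f g (fun k => algebraMap A B (v k)) = f (g v) := by
  have hv : v = ∑ k, v k • (Pi.single k (1 : A) : Fin n → A) := by
    ext j
    simp [Finset.sum_apply, Pi.single_apply]
  conv_rhs => rw [hv]
  simp only [gLoc, Fintype.linearCombination_apply, map_sum, map_smul, algebraMap_smul]

include a in
theorem gLoc_surjective (hg : Function.Surjective g) :
    Function.Surjective (gLoc (B := B) f g) := by
  intro y
  obtain ⟨⟨x, s⟩, hs⟩ := IsLocalizedModule.surj (Submonoid.powers a) f y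
  obtain ⟨v, rfl⟩ := hg x
  have hu : IsUnit (algebraMap A B (s : A)) := IsLocalization.map_units B s
  obtain ⟨u, hu'⟩ := hu
  refine ⟨(↑u⁻¹ : B) • (fun k => algebraMap A B (v k)), ?_⟩
  rw [map_smul, gLoc_map]
  have hs' : (s : A) • y = f (g v) := hs
  rw [← hs', ← algebraMap_smul B (s : A) y, ← hu', smul_smul, Units.inv_mul, one_smul]

include a in
theorem gLoc_ker {c : ℕ} (r : Fin c → (Fin n → A))
    (hr : ∀ v, g v = 0 → a • v ∈ Submodule.span A (Set.range r))
    (w : Fin n → B) (hw : gLoc (B := B) f g w = 0) :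
    w ∈ Submodule.span B (Set.range fun i => (fun k => algebraMap A B (r i k))) := by
  classical
  obtain ⟨s, hs⟩ := IsLocalization.exist_integer_multiples (Submonoid.powers a) Finset.univ w
  choose v hv using fun k => hs k (Finset.mem_univ k)
  -- `algebraMap s • w = algebraMap ∘ v`
  have h1 : (fun k => algebraMap A B (v k)) = (algebraMap A B (s : A)) • w := by
    ext k
    rw [hv k, Pi.smul_apply, Algebra.smul_def, smul_eq_mul]
  have h2 : f (g v) = 0 := by
    rw [← gLoc_map (B := B), h1, map_smul, hw, smul_zero]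
  obtain ⟨t, ht⟩ := IsLocalizedModule.exists_of_eq (S := Submonoid.powers a) (f := f)
    (h2.trans (map_zero f).symm)
  rw [smul_zero] at ht
  have h3 : g ((t : A) • v) = 0 := by rw [map_smul]; exact ht
  have h4 := hr _ h3
  -- map into `B`
  let L : (Fin n → A) →ₗ[A] (Fin n → B) :=
    (Algebra.linearMap A B).compLeft (Fin n)
  have h5 : L (a • (t : A) • v) ∈ Submodule.span B
      (Set.range fun i => (fun k => algebraMap A B (r i k))) := by
    have h6 : Submodule.span A (Set.range r) ≤ ((Submodule.span B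
      (Set.range fun i => (fun k => algebraMap A B (r i k)))).restrictScalars A).comap L := by
      rw [Submodule.span_le]
      rintro _ ⟨i, rfl⟩
      exact Submodule.subset_span ⟨i, rfl⟩
    exact h6 h4
  have h7 : L (a • (t : A) • v) = (algebraMap A B (a * t * s)) • w := by
    rw [map_smul, map_smul]
    have : L v = (algebraMap A B (s : A)) • w := h1
    rw [this, ← algebraMap_smul B (t : A), ← algebraMap_smul B a, smul_smul, smul_smul, map_mul,
      map_mul]
  rw [h7] at h5
  have hu : IsUnit (algebraMap A B (a * t * s)) := by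
    have : a * t * s ∈ Submonoid.powers a :=
      mul_mem (mul_mem (Submonoid.mem_powers a) t.2) s.2
    exact IsLocalization.map_units B (⟨_, this⟩ : Submonoid.powers a)
  obtain ⟨u, hu'⟩ := hu
  have := Submodule.smul_mem _ (↑u⁻¹ : B) h5
  rwa [← hu', smul_smul, Units.inv_mul, one_smul] at this

end Loc


section Main

variable {R A : Type u} [CommRing R] [CommRing A] [Algebra R A] {n : ℕ}

theorem rowsOf_mem_of_mem_span (φ : MvPolynomial (Fin n) R →ₐ[R] A)
    (S : Submodule A (Fin n → A)) (T : Set (MvPolynomial (Fin n) R))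
    (hT : ∀ t ∈ T, φ t = 0 ∧ rowsOf φ t ∈ S) :
    ∀ y ∈ Ideal.span T, φ y = 0 ∧ rowsOf φ y ∈ S := by
  intro y hy
  induction hy using Submodule.span_induction with
  | mem t ht => exact hT t ht
  | zero => exact ⟨map_zero _, by rw [rowsOf_zero]; exact S.zero_mem⟩
  | add x y _ _ hx hy =>
    exact ⟨by rw [map_add, hx.1, hy.1, add_zero], by rw [rowsOf_add]; exact S.add_mem hx.2 hy.2⟩
  | smul h x _ hx =>
    refine ⟨by rw [smul_eq_mul, map_mul, hx.1, mul_zero], ?_⟩
    rw [smul_eq_mul, rowsOf_mul, hx.1, zero_smul, add_zero]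
    exact S.smul_mem _ hx.2

theorem rowsOf_eq_zero_of_mem_sq (φ : MvPolynomial (Fin n) R →ₐ[R] A)
    (I : Ideal (MvPolynomial (Fin n) R)) (hI : ∀ y ∈ I, φ y = 0) :
    ∀ y ∈ I ^ 2, rowsOf φ y = 0 := by
  intro y hy
  rw [pow_two] at hy
  refine Submodule.mul_induction_on hy ?_ ?_
  · intro x hx y hy
    rw [rowsOf_mul, hI x hx, hI y hy, zero_smul, zero_smul, add_zero]
  · intro x y hx hy
    rw [rowsOf_add, hx, hy, add_zero]

open Matrix in
theorem stablyFree_of_rows (φ : MvPolynomial (Fin n) R →ₐ[R] A) (hφ : Function.Surjective φ)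
    (a : A) {c : ℕ} (x : Fin c → MvPolynomial (Fin n) R) (hx : ∀ i, φ (x i) = 0)
    (hr : ∀ y, φ y = 0 → a • rowsOf φ y ∈ Submodule.span A (Set.range fun i => rowsOf φ (x i)))
    (hminor : a ∈ Ideal.span (Set.range fun cols : Fin c → Fin n =>
      φ (Matrix.det (Matrix.of fun j k : Fin c => pderiv (cols k) (x j)))))
    (B : Type u) [CommRing B] [Algebra A B] [Algebra R B] [IsScalarTower R A B]
    [IsLocalization.Away a B] :
    Nonempty ((Ω[B⁄R] × (Fin c → B)) ≃ₗ[B] (Fin n → B)) := by
  classical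
  let f : Ω[A⁄R] →ₗ[A] Ω[B⁄R] := KaehlerDifferential.map R R A B
  have hloc : IsLocalizedModule (Submonoid.powers a) f :=
    KaehlerDifferential.isLocalizedModule_map R A B (Submonoid.powers a)
  let g := gMap φ
  let g' : (Fin n → B) →ₗ[B] Ω[B⁄R] := gLoc (B := B) f g
  let Mx : Matrix (Fin c) (Fin n) B := Matrix.of fun i k => algebraMap A B (rowsOf φ (x i) k)
  -- the minors generate the unit ideal
  have hdet : ∀ cols : Fin c → Fin n, (Mx.submatrix id cols).det =
      algebraMap A B (φ (Matrix.det (Matrix.of fun j k : Fin c => pderiv (cols k) (x j)))) := by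
    intro cols
    rw [← AlgHom.coe_toRingHom, ← RingHom.comp_apply, RingHom.map_det]
    congr 1
  have htop : Ideal.span (Set.range fun cols : Fin c → Fin n => (Mx.submatrix id cols).det) = ⊤ := by
    apply Ideal.eq_top_of_isUnit_mem _ _ (IsLocalization.Away.algebraMap_isUnit (S := B) a)
    have h1 := Ideal.mem_map_of_mem (algebraMap A B) hminor
    rw [Ideal.map_span, ← Set.range_comp] at h1
    convert h1 using 3
    ext cols
    exact hdet cols
  obtain ⟨Q, hQ⟩ := exists_rightInverse_of_minors Mx htop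
  have hrange : LinearMap.range Mx.vecMulLinear = Submodule.span B
      (Set.range fun i => (fun k => algebraMap A B (rowsOf φ (x i) k))) := by
    rw [range_vecMulLinear]
    rfl
  refine nonempty_prod_equiv g' (gLoc_surjective a f g (gMap_surjective φ hφ)) Mx.vecMulLinear
    Q.vecMulLinear ?_ ?_ ?_
  · intro w
    simp only [Matrix.vecMulLinear_apply, Matrix.vecMul_vecMul, hQ, Matrix.vecMul_one]
  · intro v hv
    have hmem : v ∈ LinearMap.range Mx.vecMulLinear := by
      rw [hrange]
      refine gLoc_ker a f g (fun i => rowsOf φ (x i)) ?_ v hv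
      intro u hu
      obtain ⟨y, hy0, rfl⟩ := exists_of_mem_ker_gMap φ hφ u hu
      exact hr y hy0
    exact hmem
  · intro w
    have hle : LinearMap.range Mx.vecMulLinear ≤ LinearMap.ker g' := by
      rw [hrange, Submodule.span_le]
      rintro _ ⟨i, rfl⟩
      change g' _ = 0
      rw [show g' = gLoc (B := B) f g from rfl, gLoc_map, show g = gMap φ from rfl, gMap_rowsOf, hx i,
        map_zero, map_zero]
    exact hle ⟨w, rfl⟩

end Main

end Groth.Agent.Lib.Seat99.StdOmega
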