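import Mathlib
import Groth.Prelude.Def_Smoothing
import Groth.Agent.Lib.Seat99StdOmega

/-!
# Powers of `a` are strictly standard when `A_a` is smooth with stably free differentials, part C
(seat 14)

Rows of partial derivatives in the localization `B = A_a` (`rowB`), the presentation map
`gB : B^N → Ω[B/R]` and lifting of elements of its kernel to elements of `ker φ`
(`exists_lift_family`).
-/

set_option autoImplicit false
set_option linter.style.haveILetI false
set_option linter.unusedSectionVars false
universe u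

namespace Groth.Agent.Lib.Seat14.StdPow

open MvPolynomial KaehlerDifferential TensorProduct
open Groth.Agent.Lib.Seat99.StdOmega

section Rows

variable {R A : Type u} [CommRing R] [CommRing A] [Algebra R A] {N : ℕ}
  (φ : MvPolynomial (Fin N) R →ₐ[R] A)
  (B : Type u) [CommRing B] [Algebra A B] [Algebra R B] [IsScalarTower R A B]

/-- The vector of images in `B` of the partial derivatives, as an `R`-linear map. -/
noncomputable def rowB : MvPolynomial (Fin N) R →ₗ[R] (Fin N → B) :=
  LinearMap.pi fun i =>
    ((IsScalarTower.toAlgHom R A B).toLinearMap ∘ₗ φ.toLinearMap) ∘ₗ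
      (pderiv i : Derivation R (MvPolynomial (Fin N) R) (MvPolynomial (Fin N) R)).toLinearMap

theorem rowB_apply (x : MvPolynomial (Fin N) R) (i : Fin N) :
    rowB φ B x i = algebraMap A B (φ (pderiv i x)) := rfl

theorem rowB_eq (x : MvPolynomial (Fin N) R) :
    rowB φ B x = fun k => algebraMap A B (rowsOf φ x k) := rfl

theorem rowB_mul (x y : MvPolynomial (Fin N) R) :
    rowB φ B (x * y) = algebraMap A B (φ x) • rowB φ B y + algebraMap A B (φ y) • rowB φ B x := by
  ext i
  simp only [rowB_apply, Derivation.leibniz, map_add, smul_eq_mul, map_mul, Pi.add_apply,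
    Pi.smul_apply]

theorem rowB_mul_of_mem (b x : MvPolynomial (Fin N) R) (hx : φ x = 0) :
    rowB φ B (b * x) = algebraMap A B (φ b) • rowB φ B x := by
  rw [rowB_mul, hx, map_zero, zero_smul, add_zero]

/-- The presentation map `B^N → Ω[B/R]`. -/
noncomputable def gB : (Fin N → B) →ₗ[B] Ω[B⁄R] :=
  gLoc (B := B) (KaehlerDifferential.map R R A B) (gMap φ)

theorem gB_rowB (x : MvPolynomial (Fin N) R) (hx : φ x = 0) : gB φ B (rowB φ B x) = 0 := by
  rw [gB, rowB_eq, gLoc_map, gMap_rowsOf, hx, map_zero, map_zero]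

theorem gB_single (k : Fin N) :
    gB φ B (Pi.single k 1) = KaehlerDifferential.map R R A B (D R A (φ (X k))) := by
  classical
  have h1 : (Pi.single k 1 : Fin N → B) = fun i => algebraMap A B ((Pi.single k 1 : Fin N → A) i) := by
    ext i
    by_cases h : i = k
    · subst h; simp
    · simp [h]
  rw [gB, h1, gLoc_map, gMap_apply]
  congr 1
  rw [Finset.sum_eq_single k]
  · simp
  · intro i _ hik
    simp [hik]
  · intro h
    exact absurd (Finset.mem_univ k) h

end Rows

section Loc

variable {R A : Type u} [CommRing R] [CommRing A] [Algebra R A] {N M : ℕ}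
  (φ : MvPolynomial (Fin N) R →ₐ[R] A) (hφ : Function.Surjective φ)
  (gen : Fin M → MvPolynomial (Fin N) R)
  (hker : RingHom.ker φ.toRingHom = Ideal.span (Set.range gen))
  (a : A) (B : Type u) [CommRing B] [Algebra A B] [Algebra R B] [IsScalarTower R A B]
  [IsLocalization.Away a B]

include a in
theorem gB_surjective (hφ : Function.Surjective φ) : Function.Surjective (gB φ B) :=
  gLoc_surjective a _ _ (gMap_surjective φ hφ)

/-- Clearing denominators in a finite family. -/
theorem exists_integer_family {ι : Type*} [Finite ι] (β : ι → B) :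
    ∃ (s : ℕ) (β' : ι → A), ∀ j, algebraMap A B (β' j) = algebraMap A B (a ^ s) * β j := by
  classical
  haveI := Fintype.ofFinite ι
  obtain ⟨⟨b, ⟨s, rfl⟩⟩, hb⟩ :=
    IsLocalization.exist_integer_multiples (Submonoid.powers a) (Finset.univ : Finset ι) β
  choose β' hβ' using fun j => hb j (Finset.mem_univ j)
  refine ⟨s, β', fun j => ?_⟩
  rw [hβ' j, Algebra.smul_def]

include hφ hker a in
/-- An element of the kernel of `gB` is, up to a power of `a`, the row of an element of `ker φ`. -/
theorem exists_lift_of_gB_eq_zero (w : Fin N → B) (hw : gB φ B w = 0) :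
    ∃ (s : ℕ) (x : MvPolynomial (Fin N) R), φ x = 0 ∧
      rowB φ B x = algebraMap A B (a ^ s) • w := by
  classical
  have hgen0 : ∀ j, φ (gen j) = 0 := by
    intro j
    have : gen j ∈ RingHom.ker φ.toRingHom := by
      rw [hker]; exact Ideal.subset_span ⟨j, rfl⟩
    exact this
  have hmem := gLoc_ker (B := B) a (KaehlerDifferential.map R R A B) (gMap φ)
    (fun j => rowsOf φ (gen j)) (by
      intro v hv
      obtain ⟨x, hx0, rfl⟩ := exists_of_mem_ker_gMap φ hφ v hv
      have hx : x ∈ Ideal.span (Set.range gen) := by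
        rw [← hker]; exact hx0
      refine Submodule.smul_mem _ _ ?_
      refine (rowsOf_mem_of_mem_span φ _ (Set.range gen) ?_ x hx).2
      rintro _ ⟨j, rfl⟩
      exact ⟨hgen0 j, Submodule.subset_span ⟨j, rfl⟩⟩) w hw
  obtain ⟨β, hβ⟩ := (Submodule.mem_span_range_iff_exists_fun B).mp hmem
  obtain ⟨s, β', hβ'⟩ := exists_integer_family a B β
  choose b hb using fun j => hφ (β' j)
  refine ⟨s, ∑ j, b j * gen j, ?_, ?_⟩
  · rw [map_sum]
    exact Finset.sum_eq_zero fun j _ => by rw [map_mul, hgen0, mul_zero]
  · rw [map_sum, ← hβ, Finset.smul_sum]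
    refine Finset.sum_congr rfl fun j _ => ?_
    rw [rowB_mul_of_mem φ B _ _ (hgen0 j), hb, hβ', smul_smul]
    rfl

include hφ hker a in
theorem exists_lift_family {c : ℕ} (w : Fin c → (Fin N → B)) (hw : ∀ k, gB φ B (w k) = 0)
    (ã : MvPolynomial (Fin N) R) (hã : φ ã = a) :
    ∃ (s : ℕ) (F : Fin c → MvPolynomial (Fin N) R), (∀ k, φ (F k) = 0) ∧
      ∀ k, rowB φ B (F k) = algebraMap A B (a ^ s) • w k := by
  classical
  choose s x hx0 hx using fun k => exists_lift_of_gB_eq_zero φ hφ gen hker a B (w k) (hw k)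
  refine ⟨∑ k, s k, fun k => ã ^ (∑ k', s k' - s k) * x k, ?_, ?_⟩
  · intro k
    rw [map_mul, hx0, mul_zero]
  · intro k
    have hle : s k ≤ ∑ k', s k' := Finset.single_le_sum (f := s) (fun _ _ => Nat.zero_le _)
      (Finset.mem_univ k)
    rw [rowB_mul_of_mem φ B _ _ (hx0 k), hx, smul_smul, map_pow, hã, ← map_mul, ← pow_add,
      Nat.sub_add_cancel hle]

end Loc

end Groth.Agent.Lib.Seat14.StdPow
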