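import Mathlib
import Groth.Prelude.Def_Smoothing
import Groth.Agent.Lib.Seat99StdOmega
import Groth.Agent.Lib.Seat53DualMinors
import Groth.Agent.Lib.Seat14StdPowA
import Groth.Agent.Lib.Seat14StdPowB
import Groth.Agent.Lib.Seat14StdPowC

/-!
# Powers of `a` are strictly standard when `A_a` is smooth with stably free differentials, part D
(seat 14)

`exists_pow_mem_minors` (Cauchy–Binet: a power of `a` lies in the ideal of maximal Jacobian minors
of the lifted rows) and `exists_pow_mul_mem_tail` (a power of `a` multiplies every relation into the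
lifted ones modulo the square of the kernel).
-/

set_option autoImplicit false
set_option linter.style.haveILetI false
set_option linter.unusedSectionVars false
universe u

namespace Groth.Agent.Lib.Seat14.StdPow

open MvPolynomial KaehlerDifferential TensorProduct
open Groth.Agent.Lib.Seat99.StdOmega

section Main

variable {R A : Type u} [CommRing R] [CommRing A] [Algebra R A]

open Matrix in
/-- The maximal minors of the Jacobian matrix of the lifted rows generate, up to a power of `a`. -/
theorem exists_pow_mem_minors {N c : ℕ} (φ : MvPolynomial (Fin N) R →ₐ[R] A) (a : A)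
    (B : Type u) [CommRing B] [Algebra A B] [Algebra R B] [IsScalarTower R A B]
    [IsLocalization.Away a B]
    (W : (Fin c → B) →ₗ[B] (Fin N → B)) (L : (Fin N → B) →ₗ[B] (Fin c → B))
    (hLW : ∀ v, L (W v) = v) (s : ℕ) (F : Fin c → MvPolynomial (Fin N) R)
    (hF : ∀ k, rowB φ B (F k) = algebraMap A B (a ^ s) • W (Pi.single k 1)) :
    ∃ e₁ : ℕ, a ^ e₁ ∈ Ideal.span (Set.range fun cols : Fin c → Fin N =>
        φ (Matrix.det (Matrix.of fun j k : Fin c => pderiv (cols k) (F j)))) := by
  classical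
  let Wm : Matrix (Fin c) (Fin N) B := (LinearMap.toMatrix' W)ᵀ
  let Lm : Matrix (Fin N) (Fin c) B := (LinearMap.toMatrix' L)ᵀ
  have hWL : Wm * Lm = 1 := by
    rw [← Matrix.transpose_mul, ← LinearMap.toMatrix'_comp]
    have : L ∘ₗ W = LinearMap.id := LinearMap.ext hLW
    rw [this, LinearMap.toMatrix'_id, Matrix.transpose_one]
  have hdet := Groth.Agent.Lib.Seat53.DualMinors.det_mul_eq_sum Wm Lm
  rw [hWL, Matrix.det_one] at hdet
  have hminor : ∀ τ : Fin c → Fin N,
      algebraMap A B (φ (Matrix.det (Matrix.of fun j k : Fin c => pderiv (τ k) (F j)))) =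
        (algebraMap A B (a ^ s)) ^ c * (Wm.submatrix id τ).det := by
    intro τ
    have hc : (algebraMap A B (a ^ s)) ^ c * (Wm.submatrix id τ).det =
        (algebraMap A B (a ^ s) • Wm.submatrix id τ).det := by
      rw [Matrix.det_smul, Fintype.card_fin]
    rw [hc, ← AlgHom.coe_toRingHom, ← RingHom.comp_apply, RingHom.map_det]
    congr 1
    ext j k
    have := congrFun (hF j) (τ k)
    rw [rowB_apply] at this
    simp only [RingHom.mapMatrix_apply, Matrix.map_apply, Matrix.of_apply, RingHom.comp_apply,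
      AlgHom.coe_toRingHom, Matrix.smul_apply, Matrix.submatrix_apply, id_eq]
    rw [this]
    rfl
  have hmem : algebraMap A B ((a ^ s) ^ c) ∈ Ideal.map (algebraMap A B)
      (Ideal.span (Set.range fun cols : Fin c → Fin N =>
        φ (Matrix.det (Matrix.of fun j k : Fin c => pderiv (cols k) (F j))))) := by
    have h1 : algebraMap A B ((a ^ s) ^ c) = ∑ τ : Fin c → Fin N, (∏ t, Lm (τ t) t) *
        algebraMap A B (φ (Matrix.det (Matrix.of fun j k : Fin c => pderiv (τ k) (F j)))) := by
      rw [map_pow, ← mul_one (algebraMap A B (a ^ s) ^ c), hdet, Finset.mul_sum]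
      refine Finset.sum_congr rfl fun τ _ => ?_
      rw [hminor τ]
      ring
    rw [h1]
    refine Ideal.sum_mem _ fun τ _ => Ideal.mul_mem_left _ _ ?_
    exact Ideal.mem_map_of_mem _ (Ideal.subset_span ⟨τ, rfl⟩)
  obtain ⟨⟨⟨i, hi⟩, ⟨m, ⟨k, rfl⟩⟩⟩, hx⟩ := (IsLocalization.mem_map_algebraMap_iff
    (Submonoid.powers a) B).mp hmem
  simp only at hx
  rw [← map_mul] at hx
  obtain ⟨⟨c', ⟨k', rfl⟩⟩, hc'⟩ := (IsLocalization.eq_iff_exists (Submonoid.powers a) B).mp hx
  simp only at hc'
  refine ⟨k' + (s * c + k), ?_⟩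
  have : a ^ (k' + (s * c + k)) = a ^ k' * i := by
    rw [← hc', pow_add, pow_add, pow_mul]
  rw [this]
  exact Ideal.mul_mem_left _ _ hi

/-- Every element of the kernel is, up to a power of `a` and modulo the square of the kernel,
a combination of the lifted rows. -/
theorem exists_pow_mul_mem_tail {N c : ℕ} (φ : MvPolynomial (Fin N) R →ₐ[R] A)
    (hφ : Function.Surjective φ) (a : A) (ã : MvPolynomial (Fin N) R) (hã : φ ã = a)
    (B : Type u) [CommRing B] [Algebra A B] [Algebra R B] [IsScalarTower R A B]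
    [IsLocalization.Away a B] [Algebra.FormallySmooth R B]
    (W : (Fin c → B) →ₗ[B] (Fin N → B)) (L : (Fin N → B) →ₗ[B] (Fin c → B))
    (hWL : ∀ w, gB φ B w = 0 → W (L w) = w)
    (s : ℕ) (F : Fin c → MvPolynomial (Fin N) R) (hF0 : ∀ k, φ (F k) = 0)
    (hF : ∀ k, rowB φ B (F k) = algebraMap A B (a ^ s) • W (Pi.single k 1))
    (x : MvPolynomial (Fin N) R) (hx : φ x = 0) :
    ∃ E : ℕ, ã ^ E * x ∈ Ideal.span (Set.range F) ⊔ (RingHom.ker φ.toRingHom) ^ 2 := by
  classical
  subst hã
  have h1 : W (L (rowB φ B x)) = rowB φ B x := hWL _ (gB_rowB φ B x hx)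
  set v := L (rowB φ B x) with hv
  have hWv : W v = ∑ k, v k • W (Pi.single k 1) := by
    have hvs : v = ∑ k, v k • (Pi.single k 1 : Fin c → B) := by
      ext j
      simp [Finset.sum_apply, Pi.single_apply]
    conv_lhs => rw [hvs]
    rw [map_sum]
    exact Finset.sum_congr rfl fun k _ => map_smul _ _ _
  obtain ⟨s', v', hv'⟩ := exists_integer_family (φ ã) B v
  choose cc hcc using fun k => hφ (v' k)
  let h := ã ^ (s' + s) * x - ∑ k, cc k * F k
  have hh0 : φ h = 0 := by
    simp only [h, map_sub, map_mul, hx, mul_zero, map_sum, hF0, Finset.sum_const_zero, sub_zero]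
  have hrow : rowB φ B h = 0 := by
    have e1 : ∑ k, rowB φ B (cc k * F k) = algebraMap A B (φ ã ^ (s' + s)) • rowB φ B x := by
      rw [← h1, hWv, Finset.smul_sum]
      refine Finset.sum_congr rfl fun k _ => ?_
      rw [rowB_mul_of_mem φ B _ _ (hF0 k), hcc, hv', hF, smul_smul, smul_smul, pow_add, map_mul]
      congr 1
      ring
    simp only [h, map_sub, map_sum]
    rw [rowB_mul_of_mem φ B _ _ hx, e1, map_pow, sub_self]
  obtain ⟨t, ht⟩ := exists_pow_mul_mem_sq φ hφ ã B h hh0 (fun i => congrFun hrow i)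
  refine ⟨t + (s' + s), ?_⟩
  have : ã ^ (t + (s' + s)) * x = ∑ k, (ã ^ t * cc k) * F k + ã ^ t * h := by
    simp only [h, mul_sub, Finset.mul_sum, pow_add]
    have : ∀ k, ã ^ t * cc k * F k = ã ^ t * (cc k * F k) := fun k => mul_assoc _ _ _
    simp only [this]
    ring
  rw [this]
  exact Submodule.add_mem_sup (Ideal.sum_mem _ fun k _ =>
    Ideal.mul_mem_left _ _ (Ideal.subset_span ⟨k, rfl⟩)) ht

end Main

end Groth.Agent.Lib.Seat14.StdPow
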