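import Mathlib
import Groth.Prelude.Def_Smoothing
import Groth.Agent.Lib.Seat99StdOmega
import Groth.Agent.Lib.Seat14StdPowA
import Groth.Agent.Lib.Seat14StdPowB
import Groth.Agent.Lib.Seat14StdPowC
import Groth.Agent.Lib.Seat14StdPowD

/-!
# Powers of `a` are strictly standard when `A_a` is smooth with stably free differentials, part E
(seat 14)

Assembly: `pow_isStrictlyStandard` (Stacks 16.3, converse direction: `A` finitely presented over
`R`, `A_a` smooth with `Ω × B^p ≃ B^q` ⟹ `a^k` strictly standard for `k ≫ 0`).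
-/

set_option autoImplicit false
set_option linter.style.haveILetI false
set_option linter.unusedSectionVars false
universe u

namespace Groth.Agent.Lib.Seat14.StdPow

open MvPolynomial KaehlerDifferential TensorProduct
open Groth.Agent.Lib.Seat99.StdOmega

section Final

variable {R A : Type u} [CommRing R] [CommRing A] [Algebra R A]

/-- `0` is strictly standard (take no leading relations). -/
theorem isStrictlyStandard_zero {N M : ℕ} (φ : MvPolynomial (Fin N) R →ₐ[R] A)
    (hφ : Function.Surjective φ) (gen : Fin M → MvPolynomial (Fin N) R)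
    (hker : RingHom.ker φ.toRingHom = Ideal.span (Set.range gen)) :
    Smoothing.IsStrictlyStandard R A 0 := by
  refine ⟨{ n := N, m := M, c := 0, hcn := Nat.zero_le _, hcm := Nat.zero_le _, rel := gen,
            hom := φ, surj := hφ, ker_eq := hker }, Ideal.zero_mem _, ?_⟩
  intro a' ha' j _
  refine Ideal.mem_sup_right ?_
  rw [pow_two]
  refine Ideal.mul_mem_mul ?_ (Ideal.subset_span ⟨j, rfl⟩)
  rw [← hker]
  exact ha'

theorem isStrictlyStandard_pow_of_split {n q p M : ℕ}
    (φ : MvPolynomial (Fin (n + q)) R →ₐ[R] A) (hφ : Function.Surjective φ)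
    (gen : Fin M → MvPolynomial (Fin (n + q)) R)
    (hker : RingHom.ker φ.toRingHom = Ideal.span (Set.range gen))
    (hX : ∀ j : Fin q, φ (X (Fin.natAdd n j)) = 0) (a : A)
    (B : Type u) [CommRing B] [Nontrivial B] [Algebra A B] [Algebra R B] [IsScalarTower R A B]
    [IsLocalization.Away a B] [Algebra.FormallySmooth R B]
    (e : (Ω[B⁄R] × (Fin p → B)) ≃ₗ[B] (Fin q → B)) :
    ∃ e₀ : ℕ, ∀ k : ℕ, e₀ ≤ k → Smoothing.IsStrictlyStandard R A (a ^ k) := by
  classical
  haveI : Module.Projective B Ω[B⁄R] :=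
    ((Algebra.formallySmooth_iff (R := R) (A := B)).mp inferInstance).1
  have hgen0 : ∀ j, φ (gen j) = 0 := by
    intro j
    have : gen j ∈ RingHom.ker φ.toRingHom := by
      rw [hker]; exact Ideal.subset_span ⟨j, rfl⟩
    exact this
  have hg0 : ∀ j : Fin q, gB φ B (Pi.single (Fin.natAdd n j) 1) = 0 := by
    intro j
    rw [gB_single, hX, map_zero, map_zero]
  obtain ⟨W, L, hLW, hgW, hWL⟩ := exists_split (gB φ B) (gB_surjective φ a B hφ) hg0 e
  have hcN : n + p ≤ n + q := by
    have hinj : Function.Injective W := fun v v' h => by rw [← hLW v, ← hLW v', h]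
    exact le_of_fin_injective B W hinj
  obtain ⟨ã, hã⟩ := hφ a
  obtain ⟨s, F, hF0, hF⟩ := exists_lift_family φ hφ gen hker a B
    (fun k => W (Pi.single k 1)) (fun k => hgW _) ã hã
  obtain ⟨e₁, he₁⟩ := exists_pow_mem_minors φ a B W L hLW s F hF
  choose E hE using fun j => exists_pow_mul_mem_tail φ hφ a ã hã B W L hWL s F hF0 hF (gen j)
    (hgen0 j)
  refine ⟨e₁ + ∑ j, E j, fun k hk => ?_⟩
  have hker' : RingHom.ker φ.toRingHom = Ideal.span (Set.range (Fin.append F gen)) := by
    apply le_antisymm
    · rw [hker]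
      apply Ideal.span_mono
      rintro _ ⟨j, rfl⟩
      exact ⟨Fin.natAdd (n + p) j, Fin.append_right _ _ j⟩
    · rw [Ideal.span_le]
      rintro _ ⟨j, rfl⟩
      refine Fin.addCases (fun j => ?_) (fun j => ?_) j
      · rw [Fin.append_left]
        exact hF0 j
      · rw [Fin.append_right]
        exact hgen0 j
  let P : Smoothing.MarkedPresentation R A :=
    { n := n + q, m := (n + p) + M, c := n + p, hcn := hcN, hcm := Nat.le_add_right _ _,
      rel := Fin.append F gen, hom := φ, surj := hφ, ker_eq := hker' }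
  refine ⟨P, ?_, ?_⟩
  · have hfun : (fun cols : Fin P.c → Fin P.n =>
        P.hom (Smoothing.jacobianMinor P.rel (Fin.castLE P.hcm) cols)) =
        fun cols : Fin (n + p) → Fin (n + q) =>
          φ (Matrix.det (Matrix.of fun j k : Fin (n + p) => pderiv (cols k) (F j))) := by
      funext cols
      change φ (Matrix.det (Matrix.of fun j k : Fin (n + p) =>
        pderiv (cols k) (Fin.append F gen (Fin.castAdd M j)))) = _
      simp only [Fin.append_left]
    rw [hfun]
    have hle : e₁ ≤ k := le_trans (Nat.le_add_right _ _) hk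
    have : a ^ k = a ^ (k - e₁) * a ^ e₁ := by
      rw [← pow_add, Nat.sub_add_cancel hle]
    rw [this]
    exact Ideal.mul_mem_left _ _ he₁
  · intro a' ha' j hj
    have hjlt : (j : ℕ) < (n + p) + M := j.2
    obtain ⟨j', rfl⟩ : ∃ j' : Fin M, j = Fin.natAdd (n + p) j' := by
      have hj' : n + p ≤ (j : ℕ) := hj
      refine ⟨⟨(j : ℕ) - (n + p), by omega⟩, ?_⟩
      apply Fin.ext
      simp only [Fin.val_natAdd]
      omega
    change a' * Fin.append F gen (Fin.natAdd (n + p) j') ∈
      Ideal.span ((Fin.append F gen) '' {j' : Fin ((n + p) + M) | (j' : ℕ) < n + p}) ⊔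
        Ideal.span (Set.range (Fin.append F gen)) ^ 2
    rw [Fin.append_right, ← hker']
    have hFle : Ideal.span (Set.range F) ≤
        Ideal.span ((Fin.append F gen) '' {j' : Fin ((n + p) + M) | (j' : ℕ) < n + p}) := by
      apply Ideal.span_mono
      rintro _ ⟨i, rfl⟩
      exact ⟨Fin.castAdd M i, i.2, Fin.append_left _ _ i⟩
    have hEle : E j' ≤ k := by
      refine le_trans ?_ (le_trans (Nat.le_add_left _ _) hk)
      exact Finset.single_le_sum (f := E) (fun _ _ => Nat.zero_le _) (Finset.mem_univ j')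
    have h1 : ã ^ k * gen j' ∈ Ideal.span (Set.range F) ⊔ RingHom.ker φ.toRingHom ^ 2 := by
      have : ã ^ k * gen j' = ã ^ (k - E j') * (ã ^ E j' * gen j') := by
        rw [← mul_assoc, ← pow_add, Nat.sub_add_cancel hEle]
      rw [this]
      exact Ideal.mul_mem_left _ _ (hE j')
    have h2 : (a' - ã ^ k) * gen j' ∈ RingHom.ker φ.toRingHom ^ 2 := by
      rw [pow_two]
      refine Ideal.mul_mem_mul ?_ (hgen0 j')
      change φ (a' - ã ^ k) = 0
      rw [map_sub, map_pow, hã, ha', sub_self]
    have h3 : a' * gen j' = ã ^ k * gen j' + (a' - ã ^ k) * gen j' := by ring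
    rw [h3]
    exact Ideal.add_mem _ (sup_le_sup_right hFle _ h1) (Ideal.mem_sup_right h2)

/-- **Stacks 16.3 (converse direction)**: if `A_a` is smooth over `R` with stably free module of
differentials, then all large powers of `a` are strictly standard. -/
theorem pow_isStrictlyStandard [Algebra.FinitePresentation R A] (a : A)
    (B : Type u) [CommRing B] [Algebra A B] [Algebra R B] [IsScalarTower R A B]
    [IsLocalization.Away a B] [Algebra.FormallySmooth R B] (p q : ℕ)
    (e : (Ω[B⁄R] × (Fin p → B)) ≃ₗ[B] (Fin q → B)) :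
    ∃ e₀ : ℕ, ∀ k : ℕ, e₀ ≤ k → Smoothing.IsStrictlyStandard R A (a ^ k) := by
  classical
  obtain ⟨n, φ, hφ, hfg⟩ := Algebra.FinitePresentation.out (R := R) (A := A)
  obtain ⟨m, f, hf⟩ := Submodule.fg_iff_exists_fin_generating_family.mp hfg
  obtain ⟨φ', gen, hφ', hker', hX⟩ := exists_extended_presentation q φ hφ f hf.symm
  rcases subsingleton_or_nontrivial B with hB | hB
  · -- `a` is nilpotent
    have h01 : algebraMap A B 1 = algebraMap A B 0 := Subsingleton.elim _ _
    obtain ⟨⟨c, ⟨k₀, rfl⟩⟩, hc⟩ := (IsLocalization.eq_iff_exists (Submonoid.powers a) B).mp h01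
    simp only [mul_one, mul_zero] at hc
    refine ⟨k₀, fun k hk => ?_⟩
    have : a ^ k = 0 := by
      rw [← Nat.sub_add_cancel hk, pow_add, hc, mul_zero]
    rw [this]
    exact isStrictlyStandard_zero φ' hφ' gen hker'
  · exact isStrictlyStandard_pow_of_split φ' hφ' gen hker' hX a B e

end Final

end Groth.Agent.Lib.Seat14.StdPow
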