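import Groth.Agent.Lib.Seat14GenFree
import Groth.Agent.Lib.Seat14BassCancel

/-!
# If a tensor power of a projective module is free, some direct power is free (seat 14)

Induction on the Krull dimension: modulo a nonzerodivisor `δ` killing the cokernel of an injective map
`Rʳ → P`, a multiple of `x = [P] - r` vanishes, hence (key lemma via Schanuel) `x · N₁x = 0`, and then
`(r + x)ⁿ = rⁿ` forces `n rⁿ⁻¹ N₁ x = 0`.
-/

set_option autoImplicit false
universe u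

open TensorProduct

namespace Groth.Agent.Lib.Seat14.TensorPowFree

open Groth.Agent.Lib.Seat14.KZero Groth.Agent.Lib.Seat14.Schanuel Groth.Agent.Lib.Seat14.GenFree

/-- `Rᵃ × Rᵇ ≃ Rᵃ⁺ᵇ`. -/
def finAddEquiv (R : Type u) [CommRing R] (a b : ℕ) :
    ((Fin a → R) × (Fin b → R)) ≃ₗ[R] (Fin (a + b) → R) :=
  (LinearEquiv.sumArrowLequivProdArrow (Fin a) (Fin b) R R).symm ≪≫ₗ
    (LinearEquiv.funCongrLeft R R finSumFinEquiv.symm)

/-- The arithmetic core, in any abelian group. -/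
theorem arith {G : Type*} [AddCommGroup G] (τ : G →+ G) (t : ℕ → G) (o p : G) (N₁ r n : ℕ)
    (hn : 0 < n) (h0 : t 0 = o) (h1 : t 1 = p) (hτ : ∀ j, τ (t j) = t (j + 1))
    (hR1 : N₁ • t 2 + (N₁ * r ^ 2) • o = (2 * N₁ * r) • p)
    (hn' : t n = (r ^ n) • o) :
    (N₁ * n * r ^ (n - 1)) • p = (N₁ * n * r ^ (n - 1) * r) • o := by
  have hτo : τ o = p := by rw [← h0, hτ, h1]
  have hτp : τ p = t 2 := by rw [← h1, hτ]
  have claim : ∀ i : ℕ, N₁ • t (i + 1) + (N₁ * i * r ^ (i + 1)) • o = (N₁ * (i + 1) * r ^ i) • p := by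
    intro i
    induction i with
    | zero => rw [h1]; module
    | succ i ih =>
      have hτi : N₁ • t (i + 2) + (N₁ * i * r ^ (i + 1)) • p = (N₁ * (i + 1) * r ^ i) • t 2 := by
        have := congrArg τ ih
        rwa [map_add, map_nsmul, map_nsmul, map_nsmul, hτ, hτo, hτp] at this
      have h3 : ((i + 1) * r ^ i) • (N₁ • t 2 + (N₁ * r ^ 2) • o) =
          ((i + 1) * r ^ i) • ((2 * N₁ * r) • p) := by rw [hR1]
      have key : (N₁ • t (i + 2) + (N₁ * (i + 1) * r ^ (i + 2)) • o) +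
          ((N₁ * i * r ^ (i + 1)) • p + ((i + 1) * r ^ i) • (N₁ • t 2)) =
          (N₁ * (i + 2) * r ^ (i + 1)) • p +
          ((N₁ * i * r ^ (i + 1)) • p + ((i + 1) * r ^ i) • (N₁ • t 2)) := by
        calc _ = (N₁ • t (i + 2) + (N₁ * i * r ^ (i + 1)) • p) +
              ((i + 1) * r ^ i) • (N₁ • t 2 + (N₁ * r ^ 2) • o) := by module
          _ = (N₁ * (i + 1) * r ^ i) • t 2 + ((i + 1) * r ^ i) • ((2 * N₁ * r) • p) := by
              rw [hτi, h3]
          _ = _ := by module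
      exact add_right_cancel key
  obtain ⟨i, rfl⟩ : ∃ i, n = i + 1 := ⟨n - 1, by omega⟩
  have hc := claim i
  rw [hn'] at hc
  rw [Nat.add_sub_cancel]
  have key : (N₁ * (i + 1) * r ^ i) • p = (N₁ • (r ^ (i + 1)) • o + (N₁ * i * r ^ (i + 1)) • o) :=
    hc.symm
  rw [key]
  module

/-- The main induction on the dimension. `T j` plays the role of the `j`-th tensor power of `P`. -/
theorem main (k : ℕ) : ∀ (R : Type u) [CommRing R] [IsNoetherianRing R], ringKrullDim R < k →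
    ∀ (P : Type u) [AddCommGroup P] [Module R P] [Module.Finite R P] [Module.Projective R P]
    (r : ℕ), 0 < r → (∀ p : PrimeSpectrum R, Module.rankAtStalk (R := R) P p = r) →
    ∀ (n : ℕ), 0 < n → ∀ (T : ℕ → Type u) [∀ j, AddCommGroup (T j)] [∀ j, Module R (T j)]
    [∀ j, Module.Finite R (T j)] [∀ j, Module.Projective R (T j)],
    (T 0 ≃ₗ[R] R) → (∀ j, T (j + 1) ≃ₗ[R] P ⊗[R] T j) → (T n ≃ₗ[R] (Fin (r ^ n) → R)) →
    ∃ N, 0 < N ∧ ∃ t, Nonempty (((Fin N → P) × (Fin t → R)) ≃ₗ[R] (Fin (N * r + t) → R)) := by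
  induction k with
  | zero =>
    intro R _ _ hdim P _ _ _ _ r hr hrk n hn T _ _ _ _ e0 es en
    have hsub : Subsingleton R := by
      by_contra h
      rw [not_subsingleton_iff_nontrivial] at h
      have h0 := ringKrullDim_nonneg_of_nontrivial (R := R)
      have : ringKrullDim R < 0 := by exact_mod_cast hdim
      exact absurd this (not_lt.mpr h0)
    have hP : Subsingleton ((Fin 1 → P) × (Fin 0 → R)) := Module.subsingleton R _
    have hQ : Subsingleton (Fin (1 * r + 0) → R) := Module.subsingleton R _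
    exact ⟨1, one_pos, 0, ⟨LinearEquiv.ofSubsingleton _ _⟩⟩
  | succ k ih =>
    intro R _ _ hdim P _ _ _ _ r hr hrk n hn T _ _ _ _ e0 es en
    obtain ⟨f, δ, hδ, hfinj, hfδ⟩ := exists_injective_map P r hrk
    -- the quotient ring
    have hdimb : ringKrullDim (R ⧸ Ideal.span {δ}) < k := by
      have h1 := ringKrullDim_quotient_succ_le_of_nonZeroDivisor hδ
      have h2 : ringKrullDim (R ⧸ Ideal.span {δ}) + 1 < (k : WithBot ℕ∞) + 1 :=
        lt_of_le_of_lt h1 (by exact_mod_cast hdim)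
      by_contra hcon
      rw [not_lt] at hcon
      exact absurd h2 (not_lt.mpr (add_le_add_left hcon 1))
    have hrkb : ∀ p : PrimeSpectrum (R ⧸ Ideal.span {δ}),
        Module.rankAtStalk (R := R ⧸ Ideal.span {δ}) ((R ⧸ Ideal.span {δ}) ⊗[R] P) p = r := by
      intro p
      rw [Module.rankAtStalk_baseChange]
      exact hrk _
    have e0b : ((R ⧸ Ideal.span {δ}) ⊗[R] T 0) ≃ₗ[R ⧸ Ideal.span {δ}] (R ⧸ Ideal.span {δ}) :=
      (AlgebraTensorModule.congr (LinearEquiv.refl _ _) e0) ≪≫ₗ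
        AlgebraTensorModule.rid R (R ⧸ Ideal.span {δ}) (R ⧸ Ideal.span {δ})
    have esb : ∀ j, ((R ⧸ Ideal.span {δ}) ⊗[R] T (j + 1)) ≃ₗ[R ⧸ Ideal.span {δ}]
        ((R ⧸ Ideal.span {δ}) ⊗[R] P) ⊗[R ⧸ Ideal.span {δ}] ((R ⧸ Ideal.span {δ}) ⊗[R] T j) :=
      fun j => (AlgebraTensorModule.congr (LinearEquiv.refl _ _) (es j)) ≪≫ₗ
        AlgebraTensorModule.distribBaseChange R (R ⧸ Ideal.span {δ}) P (T j)
    have enb : ((R ⧸ Ideal.span {δ}) ⊗[R] T n) ≃ₗ[R ⧸ Ideal.span {δ}]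
        (Fin (r ^ n) → (R ⧸ Ideal.span {δ})) :=
      (AlgebraTensorModule.congr (LinearEquiv.refl _ _) en) ≪≫ₗ
        TensorProduct.piScalarRight R (R ⧸ Ideal.span {δ}) (R ⧸ Ideal.span {δ}) (Fin (r ^ n))
    obtain ⟨N₁, hN₁, t, ⟨eb⟩⟩ := ih (R ⧸ Ideal.span {δ}) hdimb ((R ⧸ Ideal.span {δ}) ⊗[R] P) r hr
      hrkb n hn (fun j => (R ⧸ Ideal.span {δ}) ⊗[R] T j) e0b esb enb
    -- the two modules which agree modulo δ
    let c1 : ((R ⧸ Ideal.span {δ}) ⊗[R] ((Fin N₁ → P) × (Fin t → R))) ≃ₗ[R ⧸ Ideal.span {δ}]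
        ((Fin N₁ → (R ⧸ Ideal.span {δ}) ⊗[R] P) × (Fin t → (R ⧸ Ideal.span {δ}))) :=
      (TensorProduct.prodRight R (R ⧸ Ideal.span {δ}) (R ⧸ Ideal.span {δ}) _ _) ≪≫ₗ
        (LinearEquiv.prodCongr
          (TensorProduct.piRight R (R ⧸ Ideal.span {δ}) (R ⧸ Ideal.span {δ}) (fun _ : Fin N₁ => P))
          (TensorProduct.piScalarRight R (R ⧸ Ideal.span {δ}) (R ⧸ Ideal.span {δ}) (Fin t)))
    let c2 : ((R ⧸ Ideal.span {δ}) ⊗[R] (Fin (N₁ * r + t) → R)) ≃ₗ[R ⧸ Ideal.span {δ}]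
        (Fin (N₁ * r + t) → (R ⧸ Ideal.span {δ})) :=
      TensorProduct.piScalarRight R (R ⧸ Ideal.span {δ}) (R ⧸ Ideal.span {δ}) (Fin (N₁ * r + t))
    let e : ((R ⧸ Ideal.span {δ}) ⊗[R] ((Fin N₁ → P) × (Fin t → R))) ≃ₗ[R]
        ((R ⧸ Ideal.span {δ}) ⊗[R] (Fin (N₁ * r + t) → R)) :=
      (c1 ≪≫ₗ eb ≪≫ₗ c2.symm).restrictScalars R
    obtain ⟨κ⟩ := key (Q := (Fin N₁ → P) × (Fin t → R)) (Q' := Fin (N₁ * r + t) → R)
      f hfinj δ hfδ e
    -- computation in the Grothendieck group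
    let τ := tensorHom (R := R) P
    let o : K0 R := cl R
    let p : K0 R := cl P
    let tt : ℕ → K0 R := fun j => cl (T j)
    have h0 : tt 0 = o := cl_equiv e0
    have h1 : tt 1 = p := cl_equiv ((es 0) ≪≫ₗ
      (TensorProduct.congr (LinearEquiv.refl R P) e0) ≪≫ₗ TensorProduct.rid R P)
    have hτ : ∀ j, τ (tt j) = tt (j + 1) := by
      intro j
      show tensorHom P (cl (T j)) = cl (T (j + 1))
      rw [tensorHom_cl]
      exact (cl_equiv (es j)).symm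
    have hτo : τ o = p := by rw [← h0, hτ, h1]
    have hτp : τ p = tt 2 := by rw [← h1, hτ]
    have hQ : cl (R := R) ((Fin N₁ → P) × (Fin t → R)) = N₁ • p + t • o := by
      rw [cl_prod, cl_pi, cl_pi]
    have hQ' : cl (R := R) (Fin (N₁ * r + t) → R) = (N₁ * r + t) • o := cl_pi _ _
    have hκ : cl (R := R) (P ⊗[R] ((Fin N₁ → P) × (Fin t → R))) +
        cl (R := R) ((Fin r → R) ⊗[R] (Fin (N₁ * r + t) → R)) =
        cl (R := R) (P ⊗[R] (Fin (N₁ * r + t) → R)) +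
        cl (R := R) ((Fin r → R) ⊗[R] ((Fin N₁ → P) × (Fin t → R))) := by
      rw [← cl_prod, ← cl_prod]
      exact cl_equiv κ
    rw [cl_pi_tensor, cl_pi_tensor, ← tensorHom_cl P ((Fin N₁ → P) × (Fin t → R)),
      ← tensorHom_cl P (Fin (N₁ * r + t) → R), hQ, hQ'] at hκ
    have hκ' : (N₁ • tt 2 + t • p) + r • ((N₁ * r + t) • o) =
        (N₁ * r + t) • p + r • (N₁ • p + t • o) := by
      have e1 : tensorHom P (N₁ • p + t • o) = N₁ • tt 2 + t • p := by
        show τ (N₁ • p + t • o) = _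
        rw [map_add, map_nsmul, map_nsmul, hτo, hτp]
      have e2 : tensorHom P ((N₁ * r + t) • o) = (N₁ * r + t) • p := by
        show τ ((N₁ * r + t) • o) = _
        rw [map_nsmul, hτo]
      rw [e1, e2] at hκ
      exact hκ
    have hR1 : N₁ • tt 2 + (N₁ * r ^ 2) • o = (2 * N₁ * r) • p := by
      have key2 : (N₁ • tt 2 + (N₁ * r ^ 2) • o) + (t • p + (r * t) • o) =
          (2 * N₁ * r) • p + (t • p + (r * t) • o) := by
        calc _ = (N₁ • tt 2 + t • p) + r • ((N₁ * r + t) • o) := by module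
          _ = (N₁ * r + t) • p + r • (N₁ • p + t • o) := hκ'
          _ = _ := by module
      exact add_right_cancel key2
    have hn' : tt n = (r ^ n) • o := by
      show cl (T n) = _
      rw [cl_equiv en, cl_pi]
    have hfin := arith τ tt o p N₁ r n hn h0 h1 hτ hR1 hn'
    have hNpos : 0 < N₁ * n * r ^ (n - 1) := by positivity
    refine ⟨N₁ * n * r ^ (n - 1), hNpos, ?_⟩
    have hcl : cl (R := R) (Fin (N₁ * n * r ^ (n - 1)) → P) =
        cl (R := R) (Fin (N₁ * n * r ^ (n - 1) * r) → R) := by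
      rw [cl_pi, cl_pi]
      exact hfin
    obtain ⟨t', ⟨ε⟩⟩ := exists_equiv_of_cl_eq _ _ hcl
    exact ⟨t', ⟨ε ≪≫ₗ finAddEquiv R _ _⟩⟩

end Groth.Agent.Lib.Seat14.TensorPowFree
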