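import Groth.Agent.Lib.Seat15EtCompN

/-!
# Composition of `n`-acyclic morphisms (seat 15)
-/

set_option autoImplicit false

universe u

open CategoryTheory CategoryTheory.Limits AlgebraicGeometry Opposite

namespace Groth.Agent.Lib.Seat15.AcycComp

open Groth.Agent.Lib.Seat15.EtCompN

variable {X Y Z : Scheme.{u}} (g : X ⟶ Y) (h : Y ⟶ Z)

/-- the base change of an étale `Z`-scheme to `Y`. -/
noncomputable abbrev bcObj (W : Z.Etale) : Y.Etale := (EtCoh.bc h).obj W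

/-- `(X ×_Y (Y ×_Z W)) ≅ X ×_Z W` -/
noncomputable def pasteIso (W : Z.Etale) :
    pullback (bcObj h W).hom g ≅ pullback W.hom (g ≫ h) :=
  pullbackLeftPullbackSndIso W.hom h g

lemma prj_comp (W : Z.Etale) :
    EtAcyc.prj (g ≫ h) W =
      (pasteIso g h W).inv ≫ (EtAcyc.prj g (bcObj h W) ≫ (EtAcyc.prj h W : (bcObj h W).left ⟶ W.left)) := by
  unfold pasteIso
  exact (pullbackLeftPullbackSndIso_inv_fst W.hom h g).symm

theorem isAcyclicN_comp_iff (L : Set ℕ) (n : ℕ) (hg : EtAcyc.IsAcyclicN g L n) :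
    EtAcyc.IsAcyclicN h L n ↔ EtAcyc.IsAcyclicN (g ≫ h) L n := by
  constructor
  · intro hh W
    rw [prj_comp]
    exact compN_comp _ _ L n (compN_of_isIso L n _) (compN_comp _ _ L n (hg _) (hh W))
  · intro hgh W
    have h1 := hgh W
    rw [prj_comp] at h1
    have h2 := compN_of_comp _ _ L n (compN_of_isIso L n _) h1
    exact compN_of_comp _ _ L n (hg _) h2

section Sets

/-- the unit of `a^* ⊣ a_*` (sheaves of sets) is an isomorphism at every sheaf. -/
def UnitIso {X Y : Scheme.{u}} (a : X ⟶ Y) : Prop :=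
  ∀ F : EtDesc.Sh Y, IsIso ((EtDesc.adjSh a).unit.app F)

lemma unitIso_iff {X Y : Scheme.{u}} (a : X ⟶ Y) :
    UnitIso a ↔ (EtDesc.pullSh a).Full ∧ (EtDesc.pullSh a).Faithful := by
  constructor
  · intro h
    have : ∀ F, IsIso ((EtDesc.adjSh a).unit.app F) := h
    have : IsIso (EtDesc.adjSh a).unit := NatIso.isIso_of_isIso_app _
    exact ⟨((EtDesc.adjSh a).fullyFaithfulLOfIsIsoUnit).full,
      ((EtDesc.adjSh a).fullyFaithfulLOfIsIsoUnit).faithful⟩
  · rintro ⟨h1, h2⟩ F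
    have := h1
    have := h2
    infer_instance

variable {X Y Z : Scheme.{u}} (a : X ⟶ Y) (b : Y ⟶ Z)

theorem unitIso_comp (ha : UnitIso a) (hb : UnitIso b) : UnitIso (a ≫ b) := by
  rw [unitIso_iff] at ha hb ⊢
  obtain ⟨ha1, ha2⟩ := ha
  obtain ⟨hb1, hb2⟩ := hb
  exact ⟨Functor.Full.of_iso (EtDesc.pullCompSh a b).symm,
    Functor.Faithful.of_iso (EtDesc.pullCompSh a b).symm⟩

theorem unitIso_of_comp (ha : UnitIso a) (hab : UnitIso (a ≫ b)) : UnitIso b := by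
  rw [unitIso_iff] at ha hab ⊢
  obtain ⟨ha1, ha2⟩ := ha
  obtain ⟨hab1, hab2⟩ := hab
  have : (EtDesc.pullSh b ⋙ EtDesc.pullSh a).Full := Functor.Full.of_iso (EtDesc.pullCompSh a b)
  have : (EtDesc.pullSh b ⋙ EtDesc.pullSh a).Faithful :=
    Functor.Faithful.of_iso (EtDesc.pullCompSh a b)
  exact ⟨Functor.Full.of_comp_faithful (EtDesc.pullSh b) (EtDesc.pullSh a),
    Functor.Faithful.of_comp (EtDesc.pullSh b) (EtDesc.pullSh a)⟩

theorem unitIso_of_isIso (ι : X ⟶ Y) [IsIso ι] : UnitIso ι := by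
  rw [unitIso_iff]
  have : (EtDesc.pullSh ι).IsEquivalence :=
    Groth.Agent.Lib.Seat15.EtPullEquiv.pullSh_isEquivalence ι
  exact ⟨inferInstance, inferInstance⟩

theorem isZeroAcyclic_comp_iff (g : X ⟶ Y) (h : Y ⟶ Z) (hg : EtAcyc.IsZeroAcyclic g) :
    EtAcyc.IsZeroAcyclic h ↔ EtAcyc.IsZeroAcyclic (g ≫ h) := by
  have key : ∀ {X' Y' : Scheme.{u}} (f : X' ⟶ Y'),
      EtAcyc.IsZeroAcyclic f ↔ ∀ V : Y'.Etale, UnitIso (EtAcyc.prj f V) := fun f => Iff.rfl
  rw [key] at hg ⊢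
  rw [key]
  constructor
  · intro hh W
    rw [prj_comp]
    exact unitIso_comp _ _ (unitIso_of_isIso _) (unitIso_comp _ _ (hg _) (hh W))
  · intro hgh W
    have h1 := hgh W
    rw [prj_comp] at h1
    have h2 := unitIso_of_comp _ _ (unitIso_of_isIso _) h1
    exact unitIso_of_comp _ _ (hg _) h2

end Sets

end Groth.Agent.Lib.Seat15.AcycComp
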