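import Mathlib

/-!
# Chevalley's lemma for complete Noetherian local rings (seat 15)

`chevalley`: let `A` be a complete Noetherian local ring and `𝓕` a nonempty family of ideals,
directed downwards, with intersection zero. Then every power of the maximal ideal contains a
member of `𝓕`.
-/

set_option autoImplicit false
universe u

namespace Groth.Agent.Lib.Seat15.Chevalley

open IsLocalRing

variable (A : Type u) [CommRing A] [IsNoetherianRing A] [IsLocalRing A]

/-- ideals of a Noetherian local ring are closed for the adic topology -/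
lemma mem_of_forall_mem_sup_pow (a : Ideal A) (L : A)
    (h : ∀ j : ℕ, L ∈ a ⊔ maximalIdeal A ^ j) : L ∈ a := by
  have hK : (⨅ i : ℕ, (maximalIdeal A) ^ i • ⊤ : Submodule A (A ⧸ a)) = ⊥ :=
    Ideal.iInf_pow_smul_eq_bot_of_isLocalRing (maximalIdeal A) (maximalIdeal.isMaximal A).ne_top
  have hmem : Ideal.Quotient.mk a L ∈
      (⨅ i : ℕ, (maximalIdeal A) ^ i • ⊤ : Submodule A (A ⧸ a)) := by
    rw [Submodule.mem_iInf]
    intro j
    obtain ⟨s, hs, t, ht, rfl⟩ := Submodule.mem_sup.1 (h j)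
    rw [map_add, Ideal.Quotient.eq_zero_iff_mem.2 hs, zero_add]
    have e : Ideal.Quotient.mk a t = t • (1 : A ⧸ a) := by
      rw [Algebra.smul_def, mul_one]
      rfl
    rw [e]
    exact Submodule.smul_mem_smul ht trivial
  rw [hK, Submodule.mem_bot] at hmem
  exact Ideal.Quotient.eq_zero_iff_mem.1 hmem

lemma isArtinianRing_quotient_pow (k : ℕ) : IsArtinianRing (A ⧸ maximalIdeal A ^ (k + 1)) := by
  have hI : maximalIdeal A ^ (k + 1) ≠ ⊤ := by
    intro h
    have h1 : maximalIdeal A ^ (k + 1) ≤ maximalIdeal A := Ideal.pow_le_self (Nat.succ_ne_zero k)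
    rw [h] at h1
    exact (maximalIdeal.isMaximal A).ne_top (top_le_iff.1 h1)
  have : Nontrivial (A ⧸ maximalIdeal A ^ (k + 1)) := Ideal.Quotient.nontrivial_iff.mpr hI
  have := IsLocalRing.of_surjective' (Ideal.Quotient.mk (maximalIdeal A ^ (k + 1)))
    Ideal.Quotient.mk_surjective
  have := IsLocalHom.of_surjective (Ideal.Quotient.mk (maximalIdeal A ^ (k + 1)))
    Ideal.Quotient.mk_surjective
  rw [isArtinianRing_iff_isNilpotent_maximalIdeal]
  have hmax : (maximalIdeal A).map (Ideal.Quotient.mk (maximalIdeal A ^ (k + 1))) =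
      maximalIdeal (A ⧸ maximalIdeal A ^ (k + 1)) := by
    ext x
    obtain ⟨x, rfl⟩ := Ideal.Quotient.mk_surjective x
    simp [sup_eq_left.mpr (le_maximalIdeal hI)]
  refine ⟨k + 1, ?_⟩
  rw [← hmax, ← Ideal.map_pow, Ideal.zero_eq_bot, Ideal.map_eq_bot_iff_le_ker, Ideal.mk_ker]

variable (𝓕 : Set (Ideal A)) (hne : 𝓕.Nonempty)
  (hdir : ∀ a ∈ 𝓕, ∀ b ∈ 𝓕, ∃ c ∈ 𝓕, c ≤ a ⊓ b)

include hne hdir in
lemma exists_min (k : ℕ) :
    ∃ a₀ ∈ 𝓕, ∀ a ∈ 𝓕, a₀ ⊔ maximalIdeal A ^ k ≤ a ⊔ maximalIdeal A ^ k := by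
  cases k with
  | zero =>
    obtain ⟨a₀, ha₀⟩ := hne
    refine ⟨a₀, ha₀, fun a _ => ?_⟩
    simp
  | succ k =>
    have := isArtinianRing_quotient_pow A k
    set mk := Ideal.Quotient.mk (maximalIdeal A ^ (k + 1)) with hmk
    let S : Set (Ideal (A ⧸ maximalIdeal A ^ (k + 1))) :=
      (fun a => (a ⊔ maximalIdeal A ^ (k + 1)).map mk) '' 𝓕
    have hS : S.Nonempty := hne.image _
    obtain ⟨M', ⟨a₀, ha₀, rfl⟩, hmin⟩ := IsArtinian.set_has_minimal S hS
    refine ⟨a₀, ha₀, fun a ha => ?_⟩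
    obtain ⟨c, hc, hca⟩ := hdir a ha a₀ ha₀
    have hle : (c ⊔ maximalIdeal A ^ (k + 1)).map mk ≤ (a₀ ⊔ maximalIdeal A ^ (k + 1)).map mk :=
      Ideal.map_mono (sup_le_sup_right (hca.trans inf_le_right) _)
    have hnlt := hmin _ ⟨c, hc, rfl⟩
    have heq : (c ⊔ maximalIdeal A ^ (k + 1)).map mk = (a₀ ⊔ maximalIdeal A ^ (k + 1)).map mk := by
      by_contra hne'
      exact hnlt (lt_of_le_of_ne hle hne')
    have hcomap : ∀ I : Ideal A, maximalIdeal A ^ (k + 1) ≤ I → (I.map mk).comap mk = I := by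
      intro I hI
      rw [Ideal.comap_map_of_surjective mk Ideal.Quotient.mk_surjective, ← RingHom.ker_eq_comap_bot,
        Ideal.mk_ker, sup_eq_left.mpr hI]
    have heq' := congrArg (Ideal.comap mk) heq
    rw [hcomap _ le_sup_right, hcomap _ le_sup_right] at heq'
    rw [← heq']
    exact sup_le_sup_right (hca.trans inf_le_left) _

include hne hdir in
theorem chevalley [IsAdicComplete (maximalIdeal A) A] (hinf : sInf 𝓕 = ⊥) (n : ℕ) :
    ∃ a ∈ 𝓕, a ≤ maximalIdeal A ^ n := by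
  by_contra hcon
  push Not at hcon
  choose a₀ ha₀ hmin using exists_min A 𝓕 hne hdir
  -- the ideals `b k`
  let b : ℕ → Ideal A := fun k => a₀ k ⊔ maximalIdeal A ^ k
  have hb1 : ∀ k, ∀ a ∈ 𝓕, b k ≤ a ⊔ maximalIdeal A ^ k := fun k a ha => hmin k a ha
  have hb2 : ∀ k, ∀ x ∈ b k, ∃ y ∈ b (k + 1), x - y ∈ maximalIdeal A ^ k := by
    intro k x hx
    have h1 : x ∈ a₀ (k + 1) ⊔ maximalIdeal A ^ k := hb1 k _ (ha₀ (k + 1)) hx
    obtain ⟨s, hs, t, ht, rfl⟩ := Submodule.mem_sup.1 h1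
    exact ⟨s, Ideal.mem_sup_left hs, by simpa using ht⟩
  -- the starting point
  obtain ⟨x₀, hx₀a, hx₀n⟩ := SetLike.not_le_iff_exists.1 (hcon (a₀ n) (ha₀ n))
  have hx₀b : x₀ ∈ b n := Ideal.mem_sup_left hx₀a
  -- the sequence
  let y : (j : ℕ) → {z : A // z ∈ b (n + j)} := fun j =>
    Nat.rec (motive := fun j => {z : A // z ∈ b (n + j)}) ⟨x₀, hx₀b⟩
      (fun j prev => ⟨Classical.choose (hb2 (n + j) prev.1 prev.2),
        (Classical.choose_spec (hb2 (n + j) prev.1 prev.2)).1⟩) j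
  have hy0 : (y 0).1 = x₀ := rfl
  have hysucc : ∀ j, (y j).1 - (y (j + 1)).1 ∈ maximalIdeal A ^ (n + j) := fun j =>
    (Classical.choose_spec (hb2 (n + j) (y j).1 (y j).2)).2
  -- differences
  have hdiff : ∀ i j, i ≤ j → (y i).1 - (y j).1 ∈ maximalIdeal A ^ (n + i) := by
    intro i j hij
    induction j, hij using Nat.le_induction with
    | base => simp
    | succ j hij ih =>
      have h1 : (y i).1 - (y (j + 1)).1 = ((y i).1 - (y j).1) + ((y j).1 - (y (j + 1)).1) := by ring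
      rw [h1]
      exact Ideal.add_mem _ ih (Ideal.pow_le_pow_right (by omega) (hysucc j))
  -- the limit
  obtain ⟨L, hL⟩ := IsPrecomplete.prec' (I := maximalIdeal A) (M := A) (fun j => (y j).1) (by
    intro i j hij
    rw [SModEq.sub_mem, smul_eq_mul, Ideal.mul_top]
    exact Ideal.pow_le_pow_right (by omega) (hdiff i j hij))
  have hL' : ∀ j, (y j).1 - L ∈ maximalIdeal A ^ j := by
    intro j
    have := hL j
    rwa [SModEq.sub_mem, smul_eq_mul, Ideal.mul_top] at this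
  -- `L` lies in every member of the family
  have hLmem : ∀ a ∈ 𝓕, L ∈ a := by
    intro a ha
    apply mem_of_forall_mem_sup_pow A a L
    intro j
    have h1 : (y j).1 ∈ a ⊔ maximalIdeal A ^ j :=
      (sup_le_sup_left (Ideal.pow_le_pow_right (Nat.le_add_left j n)) a) (hb1 (n + j) a ha (y j).2)
    have h2 : L = (y j).1 - ((y j).1 - L) := by ring
    rw [h2]
    exact Ideal.sub_mem _ h1 (Ideal.mem_sup_right (hL' j))
  have hL0 : L = 0 := by
    have : L ∈ sInf 𝓕 := by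
      rw [Ideal.mem_sInf]
      exact fun {a} ha => hLmem a ha
    rwa [hinf, Ideal.mem_bot] at this
  -- but `L ∉ m ^ n`
  apply hx₀n
  have h3 : x₀ = ((y 0).1 - (y n).1) + ((y n).1 - L) := by
    rw [hy0, hL0]
    ring
  rw [h3]
  exact Ideal.add_mem _ (by simpa using hdiff 0 n (Nat.zero_le n)) (hL' n)

end Groth.Agent.Lib.Seat15.Chevalley
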