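import Mathlib
import Groth.Agent.Lib.Helper10PunctJac

/-!
# Primes of coheight one in a Noetherian local ring (seat 15)

* `exists_prime_of_mem_maximalIdeal`: in a Noetherian local ring `A`, every non-nilpotent element
  `x` of the maximal ideal is avoided by a non-maximal prime `p` with `dim A/p ≤ 1`.
* `exists_prime_of_reduced`: in a reduced Noetherian local ring which is not a field, every nonzero
  `x` is avoided by such a prime.
-/

set_option autoImplicit false
universe u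

namespace Groth.Agent.Lib.Seat15.CoheightOne

open IsLocalRing Groth.Agent.Lib.Helper10.PunctJac

variable (A : Type u) [CommRing A] [IsNoetherianRing A] [IsLocalRing A]

/-- the case of a non-unit -/
theorem exists_prime_of_mem_maximalIdeal (x : A) (hx : ¬ IsNilpotent x)
    (hxm : x ∈ maximalIdeal A) :
    ∃ p : Ideal A, p.IsPrime ∧ x ∉ p ∧ ringKrullDim (A ⧸ p) ≤ 1 ∧ p ≠ maximalIdeal A := by
  let 𝒮 : Set (Ideal A) := {p | p.IsPrime ∧ x ∉ p}
  have hne : 𝒮.Nonempty := by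
    have hnil : x ∉ nilradical A := hx
    rw [nilradical_eq_sInf, Ideal.mem_sInf] at hnil
    push Not at hnil
    obtain ⟨p₀, hp₀, hxp₀⟩ := hnil
    exact ⟨p₀, hp₀, hxp₀⟩
  obtain ⟨p, hp𝒮, hpmax⟩ :=
    set_has_maximal_iff_noetherian.mpr (inferInstance : IsNoetherian A A) 𝒮 hne
  obtain ⟨hp, hxp⟩ := hp𝒮
  refine ⟨p, hp, hxp, ?_, fun h => hxp (h ▸ hxm)⟩
  have hx' : Ideal.Quotient.mk p x ≠ 0 := by
    rwa [Ne, Ideal.Quotient.eq_zero_iff_mem]
  refine ringKrullDim_le_one_of_forall_mem hx' ?_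
  intro q hq hq0
  let q' : Ideal A := q.comap (Ideal.Quotient.mk p)
  have hq' : q'.IsPrime := Ideal.comap_isPrime _ _
  have hpq' : p ≤ q' := by
    intro a ha
    show Ideal.Quotient.mk p a ∈ q
    rw [Ideal.Quotient.eq_zero_iff_mem.mpr ha]
    exact q.zero_mem
  by_contra hxq
  have hq'𝒮 : q' ∈ 𝒮 := ⟨hq', hxq⟩
  have hle : ¬ p < q' := hpmax q' hq'𝒮
  have heq : p = q' := by
    by_contra hne'
    exact hle (lt_of_le_of_ne hpq' hne')
  apply hq0
  rw [eq_bot_iff]
  intro z hz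
  obtain ⟨a, rfl⟩ := Ideal.Quotient.mk_surjective z
  have : a ∈ q' := hz
  rw [← heq] at this
  rw [Ideal.mem_bot, Ideal.Quotient.eq_zero_iff_mem]
  exact this

theorem exists_prime_of_reduced [IsReduced A] (hA : ¬ IsField A) (x : A) (hx : x ≠ 0) :
    ∃ p : Ideal A, p.IsPrime ∧ x ∉ p ∧ ringKrullDim (A ⧸ p) ≤ 1 ∧ p ≠ maximalIdeal A := by
  by_cases hxm : x ∈ maximalIdeal A
  · exact exists_prime_of_mem_maximalIdeal A x (fun h => hx h.eq_zero) hxm
  · have hxu : IsUnit x := by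
      by_contra h
      exact hxm ((mem_maximalIdeal x).2 h)
    have hm : maximalIdeal A ≠ ⊥ := fun h => hA (isField_iff_maximalIdeal_eq.mpr h)
    obtain ⟨y, hym, hy0⟩ := Submodule.exists_mem_ne_zero_of_ne_bot hm
    obtain ⟨p, hp, -, hdim, hpm⟩ :=
      exists_prime_of_mem_maximalIdeal A y (fun h => hy0 h.eq_zero) hym
    exact ⟨p, hp, fun hxp => hp.ne_top (Ideal.eq_top_of_isUnit_mem _ hxp hxu), hdim, hpm⟩

end Groth.Agent.Lib.Seat15.CoheightOne
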