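import Mathlib
import Groth.Agent.Lib.Helper18ColimSys

/-!
# Functorial filtered systems of algebras and base-change models of modules (seat 15)

Namespace `Groth.Agent.Lib.Seat15.ColimMod`.

* `FSys g tr` : a functorial (contravariantly indexed by a cofiltered category `J`) system of `R`-algebras
  `G j` with transition maps `tr a : G j →ₐ G j'` (`a : j' ⟶ j`) and "colimit" `A`.
* `FSys.kill_finset`, `FSys.lift_fun`, `FSys.tensor_kill`, `FSys.tensor_kill_finset`, `FSys.tensor_surj`,
  `FSys.lift_linear` (a linear map from a finitely presented module into `A ⊗ N` factors through some `G j ⊗ N`).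
* `BCModel u` : `u : N →+ T` exhibits the `S`-module `T` as the base change of the `R`-module `N`
  (universal property form, as produced by `Helper13PullbackUnit.existsUnique_lift`); `BCModel.equiv`.
* `ModSys` : a compatible family of base-change models over an `FSys`; `ModSys.kill_finset`, `ModSys.lift`.
-/

set_option autoImplicit false
set_option linter.style.haveILetI false
set_option linter.unusedSectionVars false
universe u

namespace Groth.Agent.Lib.Seat15.ColimMod
open TensorProduct CategoryTheory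
open Groth.Agent.Lib.Helper18ColimSys

section fsys
variable {J : Type u} [SmallCategory J] {R : Type u} [CommRing R] {G : J → Type u}
  [∀ j, CommRing (G j)] [∀ j, Algebra R (G j)] {A : Type u} [CommRing A] [Algebra R A]

/-- a functorial system of algebras with colimit `A` -/
structure FSys (g : ∀ j, G j →ₐ[R] A) (tr : ∀ {j j' : J}, (j' ⟶ j) → (G j →ₐ[R] G j')) : Prop where
  g_tr : ∀ {j j' : J} (a : j' ⟶ j), (g j').comp (tr a) = g j
  tr_comp : ∀ {j j' j'' : J} (a : j' ⟶ j) (b : j'' ⟶ j'), tr (b ≫ a) = (tr b).comp (tr a)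
  surj : ∀ x : A, ∃ j, ∃ y : G j, g j y = x
  ker : ∀ (j : J) (y : G j), g j y = 0 → ∃ (j' : J) (a : j' ⟶ j), tr a y = 0

variable {g : ∀ j, G j →ₐ[R] A} {tr : ∀ {j j' : J}, (j' ⟶ j) → (G j →ₐ[R] G j')}
variable [IsCofiltered J]

theorem FSys.g_tr_apply (h : FSys g tr) {j j' : J} (a : j' ⟶ j) (y : G j) :
    g j' (tr a y) = g j y := by
  rw [← AlgHom.comp_apply, h.g_tr]

theorem FSys.tr_comp_apply (h : FSys g tr) {j j' j'' : J} (a : j' ⟶ j) (b : j'' ⟶ j') (y : G j) :
    tr (b ≫ a) y = tr b (tr a y) := by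
  rw [h.tr_comp, AlgHom.comp_apply]

theorem FSys.toSys (h : FSys g tr) : Sys R G A g where
  nonempty := IsCofiltered.nonempty
  surj := h.surj
  dir i j := ⟨IsCofiltered.min i j, tr (IsCofiltered.minToLeft i j),
    tr (IsCofiltered.minToRight i j), h.g_tr _, h.g_tr _⟩
  ker j y hy := by
    obtain ⟨j', a, ha⟩ := h.ker j y hy
    exact ⟨j', tr a, h.g_tr a, ha⟩

theorem FSys.kill_finset (h : FSys g tr) (j : J) (s : Finset (G j)) (hs : ∀ y ∈ s, g j y = 0) :
    ∃ (j' : J) (a : j' ⟶ j), ∀ y ∈ s, tr a y = 0 := by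
  classical
  induction s using Finset.induction_on with
  | empty => exact ⟨j, 𝟙 j, by simp⟩
  | insert x s _ ih =>
    obtain ⟨j₁, a₁, h₁⟩ := ih (fun y hy => hs y (Finset.mem_insert_of_mem hy))
    have hx : g j₁ (tr a₁ x) = 0 := by
      rw [h.g_tr_apply]; exact hs x (Finset.mem_insert_self _ _)
    obtain ⟨j₂, a₂, h₂⟩ := h.ker j₁ _ hx
    refine ⟨j₂, a₂ ≫ a₁, fun y hy => ?_⟩
    rw [h.tr_comp_apply]
    rcases Finset.mem_insert.mp hy with rfl | hy
    · exact h₂
    · rw [h₁ y hy, map_zero]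

theorem FSys.lift_fun (h : FSys g tr) (j₀ : J) {κ : Type*} [Finite κ] (x : κ → A) :
    ∃ (j : J) (_ : j ⟶ j₀) (y : κ → G j), ∀ k, g j (y k) = x k := by
  classical
  haveI := Fintype.ofFinite κ
  choose jk yk hyk using fun k => h.surj (x k)
  obtain ⟨j, hj⟩ := IsCofiltered.inf_objs_exists (insert j₀ (Finset.univ.image jk))
  have hmor : ∀ k, Nonempty (j ⟶ jk k) := fun k =>
    hj (Finset.mem_insert_of_mem (Finset.mem_image_of_mem jk (Finset.mem_univ k)))
  obtain ⟨a₀⟩ := hj (Finset.mem_insert_self j₀ _)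
  refine ⟨j, a₀, fun k => tr (hmor k).some (yk k), fun k => ?_⟩
  rw [h.g_tr_apply, hyk]

variable (N : Type u) [AddCommGroup N] [Module R N]

theorem FSys.tensor_kill (h : FSys g tr) (j : J) (z : G j ⊗[R] N)
    (hz : (g j).toLinearMap.rTensor N z = 0) :
    ∃ (j' : J) (a : j' ⟶ j), (tr a).toLinearMap.rTensor N z = 0 := by
  classical
  obtain ⟨l, φ, hφ, hk⟩ := h.toSys.tensor_kill_left N j z hz
  obtain ⟨n, x, m, rfl⟩ := TensorProduct.exists_sum_tmul_eq z
  let l₁ := IsCofiltered.min j l
  let a₁ : l₁ ⟶ j := IsCofiltered.minToLeft j l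
  let b : l₁ ⟶ l := IsCofiltered.minToRight j l
  obtain ⟨l₂, c, hc⟩ := h.kill_finset l₁
    (Finset.univ.image fun i : Fin n => tr b (φ (x i)) - tr a₁ (x i)) (by
      intro y hy
      obtain ⟨i, -, rfl⟩ := Finset.mem_image.mp hy
      rw [map_sub, h.g_tr_apply, h.g_tr_apply, ← AlgHom.comp_apply, hφ, sub_self])
  refine ⟨l₂, c ≫ a₁, ?_⟩
  have hx : ∀ i, tr (c ≫ a₁) (x i) = tr c (tr b (φ (x i))) := by
    intro i
    have := hc _ (Finset.mem_image_of_mem _ (Finset.mem_univ i))
    rw [map_sub, sub_eq_zero] at this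
    rw [h.tr_comp_apply, this]
  simp only [map_sum, LinearMap.rTensor_tmul, AlgHom.toLinearMap_apply] at hk ⊢
  simp only [hx]
  have := congrArg (((tr c).comp (tr b)).toLinearMap.rTensor N) hk
  simpa only [map_sum, LinearMap.rTensor_tmul, AlgHom.toLinearMap_apply, AlgHom.comp_apply,
    map_zero] using this

theorem FSys.tensor_kill_finset (h : FSys g tr) (j : J) (s : Finset (G j ⊗[R] N))
    (hs : ∀ z ∈ s, (g j).toLinearMap.rTensor N z = 0) :
    ∃ (j' : J) (a : j' ⟶ j), ∀ z ∈ s, (tr a).toLinearMap.rTensor N z = 0 := by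
  classical
  induction s using Finset.induction_on with
  | empty => exact ⟨j, 𝟙 j, by simp⟩
  | insert x s _ ih =>
    obtain ⟨j₁, a₁, h₁⟩ := ih (fun y hy => hs y (Finset.mem_insert_of_mem hy))
    have hx : (g j₁).toLinearMap.rTensor N ((tr a₁).toLinearMap.rTensor N x) = 0 := by
      rw [← LinearMap.comp_apply, ← LinearMap.rTensor_comp, ← AlgHom.comp_toLinearMap, h.g_tr]
      exact hs x (Finset.mem_insert_self _ _)
    obtain ⟨j₂, a₂, h₂⟩ := h.tensor_kill N j₁ _ hx
    refine ⟨j₂, a₂ ≫ a₁, fun y hy => ?_⟩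
    rw [h.tr_comp, AlgHom.comp_toLinearMap, LinearMap.rTensor_comp, LinearMap.comp_apply]
    rcases Finset.mem_insert.mp hy with rfl | hy
    · exact h₂
    · rw [h₁ y hy, map_zero]

theorem FSys.tensor_surj (h : FSys g tr) (j₀ : J) {κ : Type*} [Finite κ] (z : κ → A ⊗[R] N) :
    ∃ (j : J) (_ : j ⟶ j₀) (y : κ → G j ⊗[R] N), ∀ k, (g j).toLinearMap.rTensor N (y k) = z k := by
  classical
  haveI := Fintype.ofFinite κ
  choose n x m hz using fun k => TensorProduct.exists_sum_tmul_eq (z k)
  obtain ⟨j, a, y, hy⟩ := h.lift_fun j₀ (fun p : Σ k, Fin (n k) => x p.1 p.2)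
  refine ⟨j, a, fun k => ∑ i, y ⟨k, i⟩ ⊗ₜ m k i, fun k => ?_⟩
  rw [hz k]
  simp only [map_sum, LinearMap.rTensor_tmul, AlgHom.toLinearMap_apply]
  exact Finset.sum_congr rfl fun i _ => by rw [hy ⟨k, i⟩]

/-- a linear map from a finitely presented module to `A ⊗ N` factors through a finite stage -/
theorem FSys.lift_linear (h : FSys g tr) (j₀ : J) (M : Type u) [AddCommGroup M] [Module R M]
    [Module.FinitePresentation R M] (L : M →ₗ[R] A ⊗[R] N) :
    ∃ (j : J) (_ : j ⟶ j₀) (L' : M →ₗ[R] G j ⊗[R] N),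
      ((g j).toLinearMap.rTensor N) ∘ₗ L' = L := by
  classical
  obtain ⟨n, m, f, k, hf, hfk⟩ := Module.FinitePresentation.exists_fin' R M
  obtain ⟨j, a, y, hy⟩ := h.tensor_surj N j₀ (fun i : Fin n => L (f (Pi.single i 1)))
  let Lt : (Fin n → R) →ₗ[R] G j ⊗[R] N := Fintype.linearCombination R y
  have hLt : ∀ v, (g j).toLinearMap.rTensor N (Lt v) = L (f v) := by
    intro v
    have e : ((g j).toLinearMap.rTensor N) ∘ₗ Lt = L ∘ₗ f := by
      refine LinearMap.pi_ext' fun i => LinearMap.ext_ring ?_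
      simp only [LinearMap.coe_comp, Function.comp_apply, LinearMap.coe_single, Lt,
        Fintype.linearCombination_apply_single, one_smul]
      exact hy i
    exact LinearMap.congr_fun e v
  obtain ⟨j', a', hk⟩ := h.tensor_kill_finset N j
    (Finset.univ.image fun i : Fin m => Lt (k (Pi.single i 1))) (by
      intro z hz
      obtain ⟨i, -, rfl⟩ := Finset.mem_image.mp hz
      rw [hLt, (hfk (k (Pi.single i 1))).2 ⟨_, rfl⟩, map_zero])
  let Lt' : (Fin n → R) →ₗ[R] G j' ⊗[R] N := ((tr a').toLinearMap.rTensor N) ∘ₗ Lt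
  have hker : LinearMap.ker f ≤ LinearMap.ker Lt' := by
    intro v hv
    obtain ⟨c, rfl⟩ := (hfk v).1 hv
    have e : Lt' ∘ₗ k = 0 := by
      refine LinearMap.pi_ext' fun i => LinearMap.ext_ring ?_
      simp only [LinearMap.coe_comp, Function.comp_apply, LinearMap.coe_single,
        LinearMap.zero_apply, Lt']
      exact hk _ (Finset.mem_image_of_mem _ (Finset.mem_univ i))
    exact LinearMap.congr_fun e c
  let e := (LinearMap.quotKerEquivOfSurjective f hf)
  refine ⟨j', a' ≫ a, (Submodule.liftQ _ Lt' hker) ∘ₗ e.symm.toLinearMap, ?_⟩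
  refine LinearMap.ext fun x => ?_
  obtain ⟨v, rfl⟩ := hf x
  have hv : e.symm (f v) = Submodule.Quotient.mk v := by
    rw [LinearEquiv.symm_apply_eq]; rfl
  simp only [LinearMap.coe_comp, Function.comp_apply, LinearEquiv.coe_coe, hv,
    Submodule.liftQ_apply, Lt']
  rw [← LinearMap.comp_apply, ← LinearMap.rTensor_comp, ← AlgHom.comp_toLinearMap, h.g_tr]
  exact hLt v

end fsys

section model
variable {R S N T : Type u} [CommRing R] [CommRing S] [Algebra R S] [AddCommGroup N] [Module R N]
  [AddCommGroup T] [Module S T]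

/-- `u : N →+ T` exhibits the `S`-module `T` as the base change `S ⊗[R] N` (universal property). -/
structure BCModel (u : N →+ T) : Prop where
  smul : ∀ (r : R) (n : N), u (r • n) = algebraMap R S r • u n
  up : ∀ (Q : Type u) [AddCommGroup Q] [Module S Q] (l : N →+ Q),
    (∀ (r : R) (n : N), l (r • n) = algebraMap R S r • l n) →
      ∃! l' : T →ₗ[S] Q, ∀ n, l' (u n) = l n

namespace BCModel
variable {u : N →+ T} (h : BCModel (R := R) (S := S) u)

/-- the map `S ⊗[R] N → T`, `s ⊗ n ↦ s • u n`, as an additive map -/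
noncomputable def toAdd (h : BCModel (R := R) (S := S) u) : S ⊗[R] N →+ T :=
  TensorProduct.liftAddHom
    { toFun := fun s => (DistribSMul.toAddMonoidHom T s).comp u
      map_zero' := by ext n; simp
      map_add' := fun s s' => by ext n; simp [add_smul] }
    (fun r s n => by
      simp only [AddMonoidHom.coe_mk, ZeroHom.coe_mk, AddMonoidHom.coe_comp, Function.comp_apply,
        DistribSMul.toAddMonoidHom_apply]
      rw [h.smul, Algebra.smul_def, mul_comm, mul_smul])

@[simp] theorem toAdd_tmul (s : S) (n : N) : h.toAdd (s ⊗ₜ n) = s • u n := rfl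

/-- the map `S ⊗[R] N → T` is `S`-linear -/
noncomputable def toLin : S ⊗[R] N →ₗ[S] T where
  toFun := h.toAdd
  map_add' := map_add _
  map_smul' s z := by
    induction z using TensorProduct.induction_on with
    | zero => simp
    | tmul s' n =>
      rw [TensorProduct.smul_tmul', toAdd_tmul, RingHom.id_apply, toAdd_tmul, smul_eq_mul, mul_smul]
    | add x y hx hy => rw [smul_add, map_add, map_add, hx, hy, smul_add]

@[simp] theorem toLin_tmul (s : S) (n : N) : h.toLin (s ⊗ₜ n) = s • u n := rfl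

theorem mk_one_smul (r : R) (n : N) :
    ((TensorProduct.mk R S N) 1).toAddMonoidHom (r • n) =
      (algebraMap R S) r • ((TensorProduct.mk R S N) 1).toAddMonoidHom n := by
  simp only [LinearMap.toAddMonoidHom_coe, TensorProduct.mk_apply]
  rw [TensorProduct.tmul_smul, TensorProduct.smul_tmul', TensorProduct.smul_tmul',
    Algebra.smul_def, smul_eq_mul]

/-- the inverse `T → S ⊗[R] N` -/
noncomputable def inv : T →ₗ[S] S ⊗[R] N :=
  (h.up (S ⊗[R] N) ((TensorProduct.mk R S N 1).toAddMonoidHom) mk_one_smul).exists.choose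

theorem inv_u (n : N) : h.inv (u n) = (1 : S) ⊗ₜ n :=
  (h.up (S ⊗[R] N) ((TensorProduct.mk R S N 1).toAddMonoidHom) mk_one_smul).exists.choose_spec n

/-- `T ≃ S ⊗[R] N` -/
noncomputable def equiv : S ⊗[R] N ≃ₗ[S] T :=
  LinearEquiv.ofLinearMap h.toLin h.inv
    (by
      obtain ⟨l₀, -, hl₀⟩ := h.up T u h.smul
      have e1 : h.toLin ∘ₗ h.inv = l₀ := hl₀ _ (fun n => by
        rw [LinearMap.comp_apply, inv_u, toLin_tmul, one_smul])
      have e2 : (LinearMap.id : T →ₗ[S] T) = l₀ := hl₀ _ (fun n => rfl)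
      rw [e1, e2])
    (by
      refine TensorProduct.AlgebraTensorModule.curry_injective ?_
      ext n
      simp only [TensorProduct.AlgebraTensorModule.curry_apply,
        TensorProduct.curry_apply, LinearMap.coe_comp, LinearMap.coe_restrictScalars,
        Function.comp_apply, toLin_tmul, one_smul, LinearMap.id_coe, id_eq, inv_u])

@[simp] theorem equiv_tmul (s : S) (n : N) : h.equiv (s ⊗ₜ n) = s • u n := rfl

theorem equiv_symm_u (n : N) : h.equiv.symm (u n) = (1 : S) ⊗ₜ n := by
  rw [LinearEquiv.symm_apply_eq, equiv_tmul, one_smul]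

include h in
/-- induction principle for elements of a base-change model -/
theorem induction_on {P : T → Prop} (t : T) (hu : ∀ (s : S) (n : N), P (s • u n))
    (hadd : ∀ t t', P t → P t' → P (t + t')) (h0 : P 0) : P t := by
  obtain ⟨z, rfl⟩ := h.equiv.surjective t
  induction z using TensorProduct.induction_on with
  | zero => simpa using h0
  | tmul s n => exact hu s n
  | add x y hx hy => rw [map_add]; exact hadd _ _ hx hy

end BCModel

section semilinear
variable {S' T' : Type u} [CommRing S'] [Algebra R S'] [AddCommGroup T'] [Module S' T']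
  {u : N →+ T} {u' : N →+ T'} (h : BCModel (R := R) (S := S) u) (h' : BCModel (R := R) (S := S') u')

/-- semilinear maps between base-change models compatible with the universal maps are `ψ ⊗ id`. -/
theorem BCModel.map_equiv (ψ : S →ₐ[R] S') (c : T →+ T') (hc : ∀ (s : S) (t : T), c (s • t) = ψ s • c t)
    (hcu : ∀ n, c (u n) = u' n) (z : S ⊗[R] N) :
    c (h.equiv z) = h'.equiv (ψ.toLinearMap.rTensor N z) := by
  induction z using TensorProduct.induction_on with
  | zero => simp
  | tmul s n =>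
    rw [BCModel.equiv_tmul, LinearMap.rTensor_tmul, BCModel.equiv_tmul, hc, hcu,
      AlgHom.toLinearMap_apply]
  | add x y hx hy => rw [map_add, map_add, map_add, map_add, hx, hy]

end semilinear

end model

section modsys
variable {J : Type u} [SmallCategory J] {R : Type u} [CommRing R] {G : J → Type u}
  [∀ j, CommRing (G j)] [∀ j, Algebra R (G j)] {A : Type u} [CommRing A] [Algebra R A]
  {N : Type u} [AddCommGroup N] [Module R N]
  {T : J → Type u} [∀ j, AddCommGroup (T j)] [∀ j, Module (G j) (T j)]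
  {T' : Type u} [AddCommGroup T'] [Module A T']

/-- a compatible family of base-change models of `N` over a functorial system of algebras -/
structure ModSys (g : ∀ j, G j →ₐ[R] A) (tr : ∀ {j j' : J}, (j' ⟶ j) → (G j →ₐ[R] G j'))
    (u : ∀ j, N →+ T j) (u' : N →+ T') (β : ∀ j, T j →+ T')
    (τ : ∀ {j j' : J}, (j' ⟶ j) → (T j →+ T j')) : Prop where
  fsys : FSys g tr
  model : ∀ j, BCModel (R := R) (S := G j) (u j)
  model' : BCModel (R := R) (S := A) u'
  β_smul : ∀ (j : J) (s : G j) (t : T j), β j (s • t) = g j s • β j t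
  β_u : ∀ (j : J) (n : N), β j (u j n) = u' n
  τ_smul : ∀ {j j' : J} (a : j' ⟶ j) (s : G j) (t : T j), τ a (s • t) = tr a s • τ a t
  τ_u : ∀ {j j' : J} (a : j' ⟶ j) (n : N), τ a (u j n) = u j' n

variable {g : ∀ j, G j →ₐ[R] A} {tr : ∀ {j j' : J}, (j' ⟶ j) → (G j →ₐ[R] G j')}
  {u : ∀ j, N →+ T j} {u' : N →+ T'} {β : ∀ j, T j →+ T'}
  {τ : ∀ {j j' : J}, (j' ⟶ j) → (T j →+ T j')}
variable [IsCofiltered J]

theorem ModSys.β_equiv (h : ModSys g tr u u' β τ) (j : J) (z : G j ⊗[R] N) :
    β j ((h.model j).equiv z) = h.model'.equiv ((g j).toLinearMap.rTensor N z) :=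
  BCModel.map_equiv (h.model j) h.model' (g j) (β j) (h.β_smul j) (h.β_u j) z

theorem ModSys.τ_equiv (h : ModSys g tr u u' β τ) {j j' : J} (a : j' ⟶ j) (z : G j ⊗[R] N) :
    τ a ((h.model j).equiv z) = (h.model j').equiv ((tr a).toLinearMap.rTensor N z) :=
  BCModel.map_equiv (h.model j) (h.model j') (tr a) (τ a) (h.τ_smul a) (h.τ_u a) z

/-- finitely many elements dying in the limit die at a finite stage -/
theorem ModSys.kill_finset (h : ModSys g tr u u' β τ) (j : J) (s : Finset (T j))
    (hs : ∀ t ∈ s, β j t = 0) : ∃ (j' : J) (a : j' ⟶ j), ∀ t ∈ s, τ a t = 0 := by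
  classical
  obtain ⟨j', a, ha⟩ := h.fsys.tensor_kill_finset N j (s.image (h.model j).equiv.symm) (by
    intro z hz
    obtain ⟨t, ht, rfl⟩ := Finset.mem_image.mp hz
    apply h.model'.equiv.injective
    rw [← h.β_equiv, LinearEquiv.apply_symm_apply, hs t ht, map_zero])
  refine ⟨j', a, fun t ht => ?_⟩
  have := ha _ (Finset.mem_image_of_mem _ ht)
  have e := h.τ_equiv a ((h.model j).equiv.symm t)
  rw [LinearEquiv.apply_symm_apply, this, map_zero] at e
  exact e

/-- a semilinear map from a finitely presented module to the limit model lifts to a finite stage -/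
theorem ModSys.lift (h : ModSys g tr u u' β τ) (j₀ : J) (M : Type u) [AddCommGroup M] [Module R M]
    [Module.FinitePresentation R M] (L : M →+ T')
    (hL : ∀ (r : R) (m : M), L (r • m) = algebraMap R A r • L m) :
    ∃ (j : J) (_ : j ⟶ j₀) (L' : M →+ T j),
      (∀ (r : R) (m : M), L' (r • m) = algebraMap R (G j) r • L' m) ∧ ∀ m, β j (L' m) = L m := by
  let L₀ : M →ₗ[R] A ⊗[R] N :=
    { toFun := fun m => h.model'.equiv.symm (L m)
      map_add' := fun m m' => by rw [map_add, map_add]
      map_smul' := fun r m => by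
        rw [hL, map_smul, RingHom.id_apply, algebraMap_smul] }
  obtain ⟨j, a, L'', hL''⟩ := h.fsys.lift_linear N j₀ M L₀
  refine ⟨j, a, ((h.model j).equiv.toLinearMap.toAddMonoidHom).comp L''.toAddMonoidHom, ?_, ?_⟩
  · intro r m
    simp only [AddMonoidHom.coe_comp, LinearMap.toAddMonoidHom_coe, LinearEquiv.coe_coe,
      Function.comp_apply]
    rw [map_smul, ← algebraMap_smul (G j) r (L'' m), map_smul]
  · intro m
    simp only [AddMonoidHom.coe_comp, LinearMap.toAddMonoidHom_coe, LinearEquiv.coe_coe,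
      Function.comp_apply]
    rw [h.β_equiv]
    have := LinearMap.congr_fun hL'' m
    simp only [LinearMap.coe_comp, Function.comp_apply] at this
    rw [this]
    exact h.model'.equiv.apply_symm_apply (L m)

theorem ModSys.β_τ (h : ModSys g tr u u' β τ) {j j' : J} (a : j' ⟶ j) (t : T j) :
    β j' (τ a t) = β j t := by
  refine (h.model j).induction_on (P := fun t => β j' (τ a t) = β j t) t
    (fun s n => ?_) (fun t t' ht ht' => ?_) ?_
  · rw [h.τ_smul, h.τ_u, h.β_smul, h.β_u, h.β_smul, h.β_u, h.fsys.g_tr_apply]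
  · rw [map_add, map_add, map_add, ht, ht']
  · simp

theorem ModSys.τ_comp (h : ModSys g tr u u' β τ) {j j' j'' : J} (a : j' ⟶ j) (b : j'' ⟶ j')
    (t : T j) : τ (b ≫ a) t = τ b (τ a t) := by
  refine (h.model j).induction_on (P := fun t => τ (b ≫ a) t = τ b (τ a t)) t
    (fun s n => ?_) (fun t t' ht ht' => ?_) ?_
  · rw [h.τ_smul, h.τ_u, h.τ_smul, h.τ_u, h.τ_smul, h.τ_u, h.fsys.tr_comp_apply]
  · rw [map_add, map_add, map_add, ht, ht']
  · simp

end modsys

end Groth.Agent.Lib.Seat15.ColimMod
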