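import Groth.Prelude.Def_SGA4b
import Mathlib.CategoryTheory.Limits.Shapes.Pullback.Iso

/-!
# Inverse image along an isomorphism of schemes is an equivalence (seat 15)

For an isomorphism of schemes `ι : X ⟶ Y`, direct image and inverse image of étale sheaves
(of abelian groups, and of sets) along `ι` are equivalences of categories.
-/

set_option autoImplicit false

universe u v' u'

open CategoryTheory CategoryTheory.Limits AlgebraicGeometry Opposite

namespace Groth.Agent.Lib.Seat15.EtPullEquiv

/-- the first projection `U ×_X X ⟶ U`. -/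
noncomputable def bcIdFst (X : Scheme.{u}) (U : X.Etale) :
    ((EtCoh.bc (𝟙 X)).obj U).left ⟶ U.left := pullback.fst U.hom (𝟙 X)

instance (X : Scheme.{u}) (U : X.Etale) : IsIso (bcIdFst X U) :=
  (IsPullback.of_hasPullback U.hom (𝟙 X)).isIso_fst_of_isIso

lemma bcIdFst_hom (X : Scheme.{u}) (U : X.Etale) :
    bcIdFst X U ≫ U.hom = ((EtCoh.bc (𝟙 X)).obj U).hom := by
  have := pullback.condition (f := U.hom) (g := 𝟙 X)
  rw [Category.comp_id] at this
  exact this

set_option backward.isDefEq.respectTransparency.types false in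
lemma bcIdFst_naturality (X : Scheme.{u}) {U V : X.Etale} (g : U ⟶ V) :
    ((EtCoh.bc (𝟙 X)).map g).left ≫ bcIdFst X V = bcIdFst X U ≫ g.left := by
  simp only [EtCoh.bc, bcIdFst]
  exact pullback.lift_fst _ _ _

set_option backward.isDefEq.respectTransparency.types false in
/-- base change along the identity is isomorphic to the identity functor. -/
noncomputable def bcId (X : Scheme.{u}) : EtCoh.bc (𝟙 X) ≅ 𝟭 X.Etale :=
  NatIso.ofComponents
    (fun U => MorphismProperty.Over.isoMk (asIso (bcIdFst X U)) (bcIdFst_hom X U))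
    (by
      intro U V g
      apply MorphismProperty.Over.Hom.ext
      exact bcIdFst_naturality X g)

section

variable (A : Type u') [Category.{v'} A]

/-- direct image with values in an arbitrary category. -/
noncomputable abbrev pushA {X Y : Scheme.{u}} (f : X ⟶ Y) :
    Sheaf X.smallEtaleTopology A ⥤ Sheaf Y.smallEtaleTopology A :=
  (EtCoh.bc f).sheafPushforwardContinuous A Y.smallEtaleTopology X.smallEtaleTopology

set_option backward.isDefEq.respectTransparency.types false in
/-- direct images compose. -/
noncomputable def pushCompA {X Y Z : Scheme.{u}} (f : X ⟶ Y) (g : Z ⟶ X) :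
    pushA A g ⋙ pushA A f ≅ pushA A (g ≫ f) :=
  Functor.sheafPushforwardContinuousComp' (F := EtCoh.bc f) (G := EtCoh.bc g) (FG := EtCoh.bc (g ≫ f))
    ((MorphismProperty.Over.pullbackComp (P := EtCoh.etaleMP) (Q := ⊤) g f).symm :
      EtCoh.bc f ⋙ EtCoh.bc g ≅ EtCoh.bc (g ≫ f))
    A Y.smallEtaleTopology X.smallEtaleTopology Z.smallEtaleTopology

/-- transport along an equality of morphisms. -/
noncomputable def pushCongrA {X Y : Scheme.{u}} {f f' : X ⟶ Y} (h : f = f') : pushA A f ≅ pushA A f' :=
  eqToIso (by rw [h])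

set_option backward.isDefEq.respectTransparency.types false in
/-- direct image along the identity. -/
noncomputable def pushIdA (X : Scheme.{u}) : pushA A (𝟙 X) ≅ 𝟭 _ :=
  Functor.sheafPushforwardContinuousId' (bcId X) A X.smallEtaleTopology

/-- direct image along an isomorphism of schemes is an equivalence. -/
noncomputable def pushEquiv {X Y : Scheme.{u}} (ι : X ⟶ Y) [IsIso ι] :
    Sheaf X.smallEtaleTopology A ≌ Sheaf Y.smallEtaleTopology A :=
  CategoryTheory.Equivalence.mk (pushA A ι) (pushA A (inv ι))
    ((pushIdA A X).symm ≪≫ pushCongrA A (IsIso.hom_inv_id ι).symm ≪≫ (pushCompA A (inv ι) ι).symm)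
    (pushCompA A ι (inv ι) ≪≫ pushCongrA A (IsIso.inv_hom_id ι) ≪≫ pushIdA A Y)

instance pushA_isEquivalence {X Y : Scheme.{u}} (ι : X ⟶ Y) [IsIso ι] :
    (pushA A ι).IsEquivalence :=
  (pushEquiv A ι).isEquivalence_functor

end

/-- inverse image of abelian sheaves along an isomorphism of schemes is an equivalence. -/
instance pull_isEquivalence {X Y : Scheme.{u}} (ι : X ⟶ Y) [IsIso ι] :
    (EtCoh.pull ι).IsEquivalence :=
  haveI : (EtCoh.push ι).IsEquivalence := pushA_isEquivalence AddCommGrpCat.{u + 1} ι
  (EtCoh.pullPushAdj ι).isEquivalence_left_of_isEquivalence_right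

/-- inverse image of sheaves of sets along an isomorphism of schemes is an equivalence. -/
instance pullSh_isEquivalence {X Y : Scheme.{u}} (ι : X ⟶ Y) [IsIso ι] :
    (EtDesc.pullSh ι).IsEquivalence :=
  haveI : (EtDesc.pushSh ι).IsEquivalence := pushA_isEquivalence (Type (u + 1)) ι
  (EtDesc.adjSh ι).isEquivalence_left_of_isEquivalence_right

end Groth.Agent.Lib.Seat15.EtPullEquiv
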