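import Groth.Agent.Lib.Seat15ExtMapNat

/-!
# Comparison maps on `Ext` along exact functors and their composites (seat 15)

For an exact functor `R : C ⥤ D` and a morphism `w : B ⟶ R.obj A`, the comparison map
`cmpMap R w F n : Ext A F n → Ext B (R.obj F) n`, `x ↦ w^* (R x)`.  (The Prelude's `EtCore.Hpull` is of
this form.)  We prove a two-out-of-three principle for bijectivity / injectivity of such maps for
a composite `R'' ≅ R ⋙ R'`, where the comparison morphisms are arbitrary isomorphisms.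
-/

set_option autoImplicit false

universe w w' w'' v v' v'' u u' u''

namespace Groth.Agent.Lib.Seat15.ExtCmp

open CategoryTheory CategoryTheory.Limits CategoryTheory.Abelian
open Groth.Agent.Lib.Seat15.ExtMapNat

variable {C : Type u} [Category.{v} C] [Abelian C] [HasExt.{w} C]
variable {D : Type u'} [Category.{v'} D] [Abelian D] [HasExt.{w'} D]
variable {E : Type u''} [Category.{v''} E] [Abelian E] [HasExt.{w''} E]

section Def

variable (R : C ⥤ D) [R.Additive] [PreservesFiniteLimits R] [PreservesFiniteColimits R]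

/-- the comparison map `Ext A F n → Ext B (R.obj F) n` attached to `w : B ⟶ R.obj A`. -/
noncomputable def cmpMap {A : C} {B : D} (w : B ⟶ R.obj A) (F : C) (n : ℕ) (x : Ext.{w} A F n) :
    Ext.{w'} B (R.obj F) n :=
  (Ext.mk₀ w).comp (x.mapExactFunctor R) (zero_add n)

/-- The comparison condition: bijective in degrees `≤ n`, injective in degree `n + 1`, for all
objects of a class `T`. -/
def CompCond {A : C} {B : D} (w : B ⟶ R.obj A) (T : C → Prop) (n : ℕ) : Prop :=
  ∀ F : C, T F → (∀ q : ℕ, q ≤ n → Function.Bijective (cmpMap R w F q)) ∧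
    Function.Injective (cmpMap R w F (n + 1))

end Def

section Factor

variable (R : C ⥤ D) [R.Additive] [PreservesFiniteLimits R] [PreservesFiniteColimits R]
  (R' : D ⥤ E) [R'.Additive] [PreservesFiniteLimits R'] [PreservesFiniteColimits R']
  (R'' : C ⥤ E) [R''.Additive] [PreservesFiniteLimits R''] [PreservesFiniteColimits R'']

/-- The comparison map of a composite is, up to a bijection, the composite of the comparison
maps. -/
theorem cmpMap_factor [EnoughInjectives C] (e : R'' ≅ R ⋙ R') {A : C} {B : D} {B' : E}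
    (w : B ≅ R.obj A) (w' : B' ≅ R'.obj B) (w'' : B' ≅ R''.obj A) (F : C) (q : ℕ) :
    ∃ Φ : Ext.{w''} B' (R'.obj (R.obj F)) q → Ext.{w''} B' (R''.obj F) q,
      Function.Bijective Φ ∧
        ∀ x : Ext.{w} A F q, cmpMap R'' w''.hom F q x =
          Φ (cmpMap R' w'.hom (R.obj F) q (cmpMap R w.hom F q x)) := by
  have : PreservesFiniteLimits (R ⋙ R') := comp_preservesFiniteLimits _ _
  have : PreservesFiniteColimits (R ⋙ R') := comp_preservesFiniteColimits _ _
  -- the automorphism of `B'`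
  let κ : B' ≅ R'.obj (R.obj A) := w' ≪≫ R'.mapIso w
  let α : B' ≅ B' := w'' ≪≫ e.app A ≪≫ κ.symm
  refine ⟨fun z => (Ext.mk₀ α.hom).comp (z.comp (Ext.mk₀ (e.inv.app F)) (add_zero q)) (zero_add q),
    ?_, ?_⟩
  · exact (bijective_mk₀_comp α q).comp (bijective_comp_mk₀ ((e.app F).symm) q)
  · intro x
    have h1 : cmpMap R' w'.hom (R.obj F) q (cmpMap R w.hom F q x) =
        (Ext.mk₀ κ.hom).comp ((x.mapExactFunctor R).mapExactFunctor R') (zero_add q) := by
      unfold cmpMap
      rw [Ext.mapExactFunctor_comp, Ext.mapExactFunctor_mk₀,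
        ← Ext.comp_assoc (a₁₂ := 0) _ _ _ (zero_add 0) (zero_add q) (by lia), Ext.mk₀_comp_mk₀]
      rfl
    have h2 : (x.mapExactFunctor R'').comp (Ext.mk₀ (e.hom.app F)) (add_zero q) =
        (Ext.mk₀ (e.hom.app A)).comp (x.mapExactFunctor (R ⋙ R')) (zero_add q) :=
      mapExactFunctor_natTrans R'' (R ⋙ R') e.hom x
    have h3 : x.mapExactFunctor (R ⋙ R') = (x.mapExactFunctor R).mapExactFunctor R' :=
      mapExactFunctor_comp_functor R R' x
    have h4 : x.mapExactFunctor R'' =
        ((Ext.mk₀ (e.hom.app A)).comp ((x.mapExactFunctor R).mapExactFunctor R') (zero_add q)).comp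
          (Ext.mk₀ (e.inv.app F)) (add_zero q) := by
      rw [← h3, ← h2, Ext.comp_assoc_of_third_deg_zero, Ext.mk₀_comp_mk₀]
      simp
    simp only
    rw [h1]
    unfold cmpMap
    rw [h4]
    -- reassociate
    have h5 : ∀ z : Ext.{w''} (R'.obj (R.obj A)) (R'.obj (R.obj F)) q,
        (Ext.mk₀ w''.hom).comp (((Ext.mk₀ (e.hom.app A)).comp z (zero_add q)).comp
          (Ext.mk₀ (e.inv.app F)) (add_zero q)) (zero_add q) =
        (Ext.mk₀ α.hom).comp (((Ext.mk₀ κ.hom).comp z (zero_add q)).comp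
          (Ext.mk₀ (e.inv.app F)) (add_zero q)) (zero_add q) := by
      intro z
      rw [← Ext.comp_assoc (a₁₂ := q) (a₂₃ := q) (a := q) (Ext.mk₀ w''.hom) _ _ (zero_add q)
          (add_zero q) (by lia),
        ← Ext.comp_assoc (a₁₂ := q) (a₂₃ := q) (a := q) (Ext.mk₀ α.hom) _ _ (zero_add q)
          (add_zero q) (by lia)]
      congr 1
      rw [← Ext.comp_assoc (a₁₂ := 0) _ _ _ (zero_add 0) (zero_add q) (by lia), Ext.mk₀_comp_mk₀,
        ← Ext.comp_assoc (a₁₂ := 0) _ _ _ (zero_add 0) (zero_add q) (by lia), Ext.mk₀_comp_mk₀]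
      congr 2
      simp [α]
    exact h5 _

end Factor

section TwoOutOfThree

variable (R : C ⥤ D) [R.Additive] [PreservesFiniteLimits R] [PreservesFiniteColimits R]
  (R' : D ⥤ E) [R'.Additive] [PreservesFiniteLimits R'] [PreservesFiniteColimits R']
  (R'' : C ⥤ E) [R''.Additive] [PreservesFiniteLimits R''] [PreservesFiniteColimits R'']

/-- composition: if the comparison condition holds for `R` and `R'` it holds for `R'' ≅ R ⋙ R'`. -/
theorem compCond_comp [EnoughInjectives C] (e : R'' ≅ R ⋙ R') {A : C} {B : D} {B' : E}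
    (w : B ≅ R.obj A) (w' : B' ≅ R'.obj B) (w'' : B' ≅ R''.obj A)
    (T : C → Prop) (T' : D → Prop) (hT : ∀ F, T F → T' (R.obj F)) (n : ℕ)
    (h : CompCond R w.hom T n) (h' : CompCond R' w'.hom T' n) : CompCond R'' w''.hom T n := by
  intro F hF
  obtain ⟨hb, hi⟩ := h F hF
  obtain ⟨hb', hi'⟩ := h' (R.obj F) (hT F hF)
  refine ⟨fun q hq => ?_, ?_⟩
  · obtain ⟨Φ, hΦ, hΦ'⟩ := cmpMap_factor R R' R'' e w w' w'' F q
    have : cmpMap R'' w''.hom F q = Φ ∘ cmpMap R' w'.hom (R.obj F) q ∘ cmpMap R w.hom F q :=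
      funext hΦ'
    rw [this]
    exact hΦ.comp ((hb' q hq).comp (hb q hq))
  · obtain ⟨Φ, hΦ, hΦ'⟩ := cmpMap_factor R R' R'' e w w' w'' F (n + 1)
    have : cmpMap R'' w''.hom F (n + 1) =
        Φ ∘ cmpMap R' w'.hom (R.obj F) (n + 1) ∘ cmpMap R w.hom F (n + 1) := funext hΦ'
    rw [this]
    exact hΦ.1.comp (hi'.comp hi)

/-- cancellation: if the comparison condition holds for `R'` and for `R'' ≅ R ⋙ R'`, it holds
for `R`. -/
theorem compCond_of_comp [EnoughInjectives C] (e : R'' ≅ R ⋙ R') {A : C} {B : D} {B' : E}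
    (w : B ≅ R.obj A) (w' : B' ≅ R'.obj B) (w'' : B' ≅ R''.obj A)
    (T : C → Prop) (T' : D → Prop) (hT : ∀ F, T F → T' (R.obj F)) (n : ℕ)
    (h' : CompCond R' w'.hom T' n) (h'' : CompCond R'' w''.hom T n) : CompCond R w.hom T n := by
  intro F hF
  obtain ⟨hb'', hi''⟩ := h'' F hF
  obtain ⟨hb', hi'⟩ := h' (R.obj F) (hT F hF)
  refine ⟨fun q hq => ?_, ?_⟩
  · obtain ⟨Φ, hΦ, hΦ'⟩ := cmpMap_factor R R' R'' e w w' w'' F q
    have h1 : cmpMap R'' w''.hom F q = Φ ∘ cmpMap R' w'.hom (R.obj F) q ∘ cmpMap R w.hom F q :=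
      funext hΦ'
    have h2 := hb'' q hq
    rw [h1] at h2
    have h3 : Function.Bijective (cmpMap R' w'.hom (R.obj F) q ∘ cmpMap R w.hom F q) :=
      (Function.Bijective.of_comp_iff' hΦ _).1 h2
    exact (Function.Bijective.of_comp_iff' (hb' q hq) _).1 h3
  · obtain ⟨Φ, hΦ, hΦ'⟩ := cmpMap_factor R R' R'' e w w' w'' F (n + 1)
    have h1 : cmpMap R'' w''.hom F (n + 1) =
        Φ ∘ cmpMap R' w'.hom (R.obj F) (n + 1) ∘ cmpMap R w.hom F (n + 1) := funext hΦ'
    have h2 := hi''
    rw [h1] at h2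
    have h3 : Function.Injective (cmpMap R' w'.hom (R.obj F) (n + 1) ∘ cmpMap R w.hom F (n + 1)) :=
      Function.Injective.of_comp h2
    exact Function.Injective.of_comp h3

end TwoOutOfThree

section Equivalence

variable (R : C ⥤ D) [R.Additive] [PreservesFiniteLimits R] [PreservesFiniteColimits R]

/-- For an equivalence of categories the comparison maps (attached to an isomorphism) are
bijective in all degrees. -/
theorem cmpMap_bijective_of_isEquivalence [EnoughInjectives C] [R.IsEquivalence]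
    {A : C} {B : D} (w : B ≅ R.obj A) (F : C) (q : ℕ) :
    Function.Bijective (cmpMap R w.hom F q) := by
  have : R.PreservesInjectiveObjects :=
    Functor.preservesInjectiveObjects_of_adjunction_of_preservesMonomorphisms
      R.asEquivalence.symm.toAdjunction
  have h1 : Function.Bijective (R.mapExtAddHom A F q) :=
    Functor.mapExt_bijective_of_preservesInjectiveObjects R A F q
  exact (bijective_mk₀_comp w q).comp h1

theorem compCond_of_isEquivalence [EnoughInjectives C] [R.IsEquivalence]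
    {A : C} {B : D} (w : B ≅ R.obj A) (T : C → Prop) (n : ℕ) : CompCond R w.hom T n :=
  fun F _ => ⟨fun q _ => cmpMap_bijective_of_isEquivalence R w F q,
    (cmpMap_bijective_of_isEquivalence R w F (n + 1)).1⟩

end Equivalence

end Groth.Agent.Lib.Seat15.ExtCmp
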