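import Groth.Prelude.Def_EtAcyc
import Groth.Agent.S0101
import Groth.Agent.S8525
import Groth.Agent.Lib.Seat15ExtCmp
import Groth.Agent.Lib.Seat15EtPullEquiv

/-!
# `EtAcyc.CompN` in terms of abstract comparison maps on `Ext` (seat 15)

* `pullExact`: inverse image of abelian étale sheaves is exact (instance, from S0101).
* `isLTorsion_pull`: inverse image preserves `L`-torsion sheaves.
* `compN_iff`: the Prelude's `EtAcyc.CompN f L n` is the abstract comparison condition
  `ExtCmp.CompCond` for the functor `EtCoh.pull f`, the isomorphism `ℤ_X ≅ f⁻¹ ℤ_Y` and the class of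
  `L`-torsion sheaves.
-/

set_option autoImplicit false

universe u

open CategoryTheory CategoryTheory.Limits AlgebraicGeometry Opposite CategoryTheory.Abelian

namespace Groth.Agent.Lib.Seat15.EtCompN

open Groth.Agent.Lib.Seat15.ExtCmp

instance pullExact {X Y : Scheme.{u}} (f : X ⟶ Y) : PreservesFiniteLimits (EtCoh.pull f) :=
  Groth.Agent.S0101.result f

/-- inverse image preserves `L`-torsion sheaves. -/
theorem isLTorsion_pull {X Y : Scheme.{u}} (f : X ⟶ Y) (L : Set ℕ) (G : EtCoh.Ab Y)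
    (hG : EtAcyc.IsLTorsion L G) : EtAcyc.IsLTorsion L ((EtCoh.pull f).obj G) := by
  rw [Groth.Agent.S8525.result]
  intro Ω _ _ ξ t
  obtain ⟨e⟩ := Groth.Agent.S0100.result f G ξ
  obtain ⟨m, hm, hmt⟩ := (Groth.Agent.S8525.result L G).1 hG Ω (ξ ≫ f) (e.hom t)
  refine ⟨m, hm, ?_⟩
  have h1 : e.hom (m • t) = 0 := by
    rw [map_nsmul]
    exact hmt
  have h2 : Function.Injective e.hom := (AddCommGrpCat.mono_iff_injective e.hom).1 inferInstance
  exact h2 (by rw [h1, map_zero])

/-- The Prelude's comparison condition `EtAcyc.CompN`, in terms of `ExtCmp.CompCond`. -/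
theorem compN_iff {X Y : Scheme.{u}} (f : X ⟶ Y) (L : Set ℕ) (n : ℕ) :
    EtAcyc.CompN f L n ↔
      CompCond (EtCoh.pull f) (EtCore.pullConst f ℤ).symm.hom (EtAcyc.IsLTorsion L) n :=
  ⟨fun h F hF => h F hF, fun h F hF _ => h F hF⟩

section TwoOutOfThree

variable {X Y Z : Scheme.{u}} (a : X ⟶ Y) (b : Y ⟶ Z) (L : Set ℕ) (n : ℕ)

/-- composition of morphisms satisfying the comparison condition. -/
theorem compN_comp (ha : EtAcyc.CompN a L n) (hb : EtAcyc.CompN b L n) :
    EtAcyc.CompN (a ≫ b) L n := by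
  rw [compN_iff] at ha hb ⊢
  exact compCond_comp (EtCoh.pull b) (EtCoh.pull a) (EtCoh.pull (a ≫ b)) (EtCore.pullComp a b)
    (EtCore.pullConst b ℤ).symm (EtCore.pullConst a ℤ).symm (EtCore.pullConst (a ≫ b) ℤ).symm
    (EtAcyc.IsLTorsion L) (EtAcyc.IsLTorsion L) (isLTorsion_pull b L) n hb ha

/-- cancellation: if `a` and `a ≫ b` satisfy the comparison condition, so does `b`. -/
theorem compN_of_comp (ha : EtAcyc.CompN a L n) (hab : EtAcyc.CompN (a ≫ b) L n) :
    EtAcyc.CompN b L n := by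
  rw [compN_iff] at ha hab ⊢
  exact compCond_of_comp (EtCoh.pull b) (EtCoh.pull a) (EtCoh.pull (a ≫ b)) (EtCore.pullComp a b)
    (EtCore.pullConst b ℤ).symm (EtCore.pullConst a ℤ).symm (EtCore.pullConst (a ≫ b) ℤ).symm
    (EtAcyc.IsLTorsion L) (EtAcyc.IsLTorsion L) (isLTorsion_pull b L) n ha hab

/-- an isomorphism of schemes satisfies the comparison condition. -/
theorem compN_of_isIso (ι : X ⟶ Y) [IsIso ι] : EtAcyc.CompN ι L n := by
  rw [compN_iff]
  have : (EtCoh.pull ι).IsEquivalence := Groth.Agent.Lib.Seat15.EtPullEquiv.pull_isEquivalence ι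
  exact compCond_of_isEquivalence (EtCoh.pull ι) (EtCore.pullConst ι ℤ).symm _ n

end TwoOutOfThree

end Groth.Agent.Lib.Seat15.EtCompN
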