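import Mathlib
import Groth.Agent.Lib.Helper2GenFree2

/-!
# Fibrewise exactness in matrix form (seat 15)

* `MExact U V M`: exactness of `S^α --U--> S^β --V--> S^γ / rows(M)` at the middle term.
* `ExactAt u v κ`: exactness of `κ ⊗ F → κ ⊗ G → κ ⊗ H`.
* `exactAt_iff_of_faithfullyFlat`: invariance of `ExactAt` under faithfully flat extension of `κ`.
* `exactAt_iff_mExact4`: for modules with finite presentations, `ExactAt` in terms of matrices over
  `κ ⊗[R] B`.
-/

set_option autoImplicit false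
set_option linter.style.haveILetI false
universe u

namespace Groth.Agent.Lib.Seat15.ExactMat

open TensorProduct Matrix

section pure

/-- transport of exactness along a ladder of bijections -/
theorem exact_congr {M N P M' N' P' : Type*} [Zero P] [Zero P'] (f : M → N) (g : N → P)
    (f' : M' → N') (g' : N' → P') (e₁ : M ≃ M') (e₂ : N ≃ N') (e₃ : P ≃ P') (h0 : e₃ 0 = 0)
    (h₁ : ∀ x, e₂ (f x) = f' (e₁ x)) (h₂ : ∀ y, e₃ (g y) = g' (e₂ y)) :
    Function.Exact f' g' ↔ Function.Exact f g := by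
  constructor
  · intro h y
    have := h (e₂ y)
    rw [← h₂, ← h0, e₃.apply_eq_iff_eq] at this
    rw [this]
    constructor
    · rintro ⟨x', hx'⟩
      refine ⟨e₁.symm x', e₂.injective ?_⟩
      rw [h₁, Equiv.apply_symm_apply, hx']
    · rintro ⟨x, rfl⟩
      exact ⟨e₁ x, (h₁ x).symm⟩
  · intro h y'
    obtain ⟨y, rfl⟩ := e₂.surjective y'
    rw [← h₂, ← h0, e₃.apply_eq_iff_eq, h y]
    constructor
    · rintro ⟨x, rfl⟩
      exact ⟨e₁ x, (h₁ x).symm⟩
    · rintro ⟨x', hx'⟩
      refine ⟨e₁.symm x', e₂.injective ?_⟩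
      rw [h₁, Equiv.apply_symm_apply, hx']

end pure

section MExact

variable {S S' : Type*} [CommRing S] [CommRing S']
variable {α β γ δ : Type*} [Fintype α] [Fintype β] [Fintype δ]

/-- exactness of `S^α --U--> S^β --V--> S^γ / rows(M)` at the middle term -/
def MExact (U : Matrix α β S) (V : Matrix β γ S) (M : Matrix δ γ S) : Prop :=
  ∀ y : β → S, y ᵥ* V ∈ LinearMap.range M.vecMulLinear ↔ y ∈ LinearMap.range U.vecMulLinear

theorem comp_vecMul {m n : Type*} [Fintype m] (e : S →+* S') (W : Matrix m n S) (x : m → S) :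
    (⇑e ∘ x) ᵥ* W.map e = ⇑e ∘ (x ᵥ* W) := by
  funext j
  exact (RingHom.map_vecMul e W x j).symm

theorem comp_vecMul_equiv {m n : Type*} [Fintype m] (e : S ≃+* S') (W : Matrix m n S)
    (x : m → S) : (⇑e ∘ x) ᵥ* W.map e = ⇑e ∘ (x ᵥ* W) :=
  comp_vecMul (e : S →+* S') W x

theorem mem_range_map_equiv {m n : Type*} [Fintype m] (e : S ≃+* S') (W : Matrix m n S)
    (z : n → S) :
    (⇑e ∘ z) ∈ LinearMap.range (W.map e).vecMulLinear ↔ z ∈ LinearMap.range W.vecMulLinear := by
  constructor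
  · rintro ⟨x', hx'⟩
    refine ⟨⇑e.symm ∘ x', ?_⟩
    have h1 := comp_vecMul (e : S →+* S') W (⇑e.symm ∘ x')
    have h2 : (⇑(e : S →+* S') ∘ ⇑e.symm ∘ x') = x' := by
      funext i; simp
    rw [h2] at h1
    have h3 : (⇑(e : S →+* S') ∘ ((⇑e.symm ∘ x') ᵥ* W)) = ⇑e ∘ z := by
      rw [← h1]; exact hx'
    funext j
    have := congrFun h3 j
    exact e.injective this
  · rintro ⟨x, rfl⟩
    exact ⟨⇑e ∘ x, comp_vecMul (e : S →+* S') W x⟩

theorem mExact_map_equiv (e : S ≃+* S') (U : Matrix α β S) (V : Matrix β γ S) (M : Matrix δ γ S) :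
    MExact (U.map e) (V.map e) (M.map e) ↔ MExact U V M := by
  constructor
  · intro h y
    have := h (⇑e ∘ y)
    rw [comp_vecMul_equiv e V y] at this
    rw [← mem_range_map_equiv e M, ← mem_range_map_equiv e U]
    exact this
  · intro h y'
    obtain ⟨y, rfl⟩ : ∃ y : β → S, ⇑e ∘ y = y' := ⟨⇑e.symm ∘ y', by funext i; simp⟩
    rw [comp_vecMul_equiv e V y, mem_range_map_equiv e M, mem_range_map_equiv e U]
    exact h y

end MExact

section ExactAt

variable {R : Type*} [CommRing R] {F G H : Type*} [AddCommGroup F] [Module R F]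
  [AddCommGroup G] [Module R G] [AddCommGroup H] [Module R H]

/-- exactness of `κ ⊗ F → κ ⊗ G → κ ⊗ H` -/
def ExactAt (u : F →ₗ[R] G) (v : G →ₗ[R] H) (κ : Type*) [CommRing κ] [Algebra R κ] : Prop :=
  Function.Exact (u.lTensor κ) (v.lTensor κ)

theorem exactAt_iff_baseChange (u : F →ₗ[R] G) (v : G →ₗ[R] H) (κ : Type*) [CommRing κ]
    [Algebra R κ] : ExactAt u v κ ↔ Function.Exact (u.baseChange κ) (v.baseChange κ) := Iff.rfl

open Groth.Agent.Lib.Helper2.GenFree in
theorem exactAt_iff_of_faithfullyFlat (u : F →ₗ[R] G) (v : G →ₗ[R] H) (k K : Type*) [CommRing k]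
    [CommRing K] [Algebra R k] [Algebra R K] [Algebra k K] [IsScalarTower R k K]
    [Module.FaithfullyFlat k K] : ExactAt u v K ↔ ExactAt u v k := by
  have h1 : Function.Exact (u.lTensor K) (v.lTensor K) ↔
      Function.Exact ((u.baseChange k).lTensor K) ((v.baseChange k).lTensor K) :=
    exact_congr _ _ _ _
      (AlgebraTensorModule.cancelBaseChange R k K K F).toEquiv
      (AlgebraTensorModule.cancelBaseChange R k K K G).toEquiv
      (AlgebraTensorModule.cancelBaseChange R k K K H).toEquiv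
      (LinearEquiv.map_zero (AlgebraTensorModule.cancelBaseChange R k K K H))
      (fun t => cancelBaseChange_natural u t) (fun t => cancelBaseChange_natural v t)
  show Function.Exact (u.lTensor K) (v.lTensor K) ↔ Function.Exact (u.lTensor k) (v.lTensor k)
  rw [h1, Module.FaithfullyFlat.lTensor_exact_iff_exact]
  rfl

end ExactAt

section lift

variable {A : Type*} [CommRing A] {F G H F₀ G₀ : Type*} [AddCommGroup F] [Module A F]
  [AddCommGroup G] [Module A G] [AddCommGroup H] [Module A H] [AddCommGroup F₀] [Module A F₀]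
  [AddCommGroup G₀] [Module A G₀]

/-- exactness of `F → G → H` in terms of generators of `F` and a presentation of `G` -/
theorem exact_iff_of_lift (u : F →ₗ[A] G) (v : G →ₗ[A] H) (πF : F₀ →ₗ[A] F)
    (hπF : Function.Surjective πF) (πG : G₀ →ₗ[A] G) (hπG : Function.Surjective πG)
    (U₀ : F₀ →ₗ[A] G₀) (hU : ∀ x, πG (U₀ x) = u (πF x)) :
    Function.Exact u v ↔
      ∀ y : G₀, v (πG y) = 0 ↔ y ∈ LinearMap.range U₀ ⊔ LinearMap.ker πG := by
  constructor
  · intro h y
    constructor
    · intro hy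
      obtain ⟨x, hx⟩ := (h (πG y)).mp hy
      obtain ⟨x₀, rfl⟩ := hπF x
      rw [Submodule.mem_sup]
      refine ⟨U₀ x₀, ⟨x₀, rfl⟩, y - U₀ x₀, ?_, by abel⟩
      rw [LinearMap.mem_ker, map_sub, hU, hx, sub_self]
    · intro hy
      obtain ⟨a, ⟨x₀, rfl⟩, k, hk, rfl⟩ := Submodule.mem_sup.mp hy
      rw [map_add, LinearMap.mem_ker.mp hk, add_zero, hU]
      exact h.apply_apply_eq_zero _
  · intro h g
    obtain ⟨y, rfl⟩ := hπG g
    rw [h y]
    constructor
    · intro hy
      obtain ⟨a, ⟨x₀, rfl⟩, k, hk, rfl⟩ := Submodule.mem_sup.mp hy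
      refine ⟨πF x₀, ?_⟩
      rw [map_add, LinearMap.mem_ker.mp hk, add_zero, hU]
    · rintro ⟨x, hx⟩
      obtain ⟨x₀, rfl⟩ := hπF x
      have h1 : v (πG (U₀ x₀)) = 0 :=
        (h (U₀ x₀)).mpr (Submodule.mem_sup_left ⟨x₀, rfl⟩)
      have h2 : U₀ x₀ - y ∈ LinearMap.ker πG := by
        rw [LinearMap.mem_ker, map_sub, hU, hx, sub_self]
      have h3 : y = U₀ x₀ + -(U₀ x₀ - y) := by abel
      rw [h3]
      exact Submodule.add_mem _ (Submodule.mem_sup_left ⟨x₀, rfl⟩)
        (Submodule.mem_sup_right (Submodule.neg_mem _ h2))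

end lift

section theta

variable (R : Type*) [CommRing R] (B : Type*) [CommRing B] [Algebra R B]
  (κ : Type*) [CommRing κ] [Algebra R κ]

/-- the ring map `B → κ ⊗[R] B` -/
noncomputable abbrev incl : B →+* κ ⊗[R] B :=
  (Algebra.TensorProduct.includeRight : B →ₐ[R] κ ⊗[R] B).toRingHom

theorem incl_apply (b : B) : incl R B κ b = (1 : κ) ⊗ₜ[R] b := rfl

open Classical in
/-- `κ ⊗ B^n ≃ (κ ⊗ B)^n` -/
noncomputable def θ (n : Type*) [Fintype n] : κ ⊗[R] (n → B) ≃ₗ[κ] (n → κ ⊗[R] B) :=
  TensorProduct.piRight R κ κ (fun _ : n => B)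

theorem θ_tmul (n : Type*) [Fintype n] (x : κ) (f : n → B) :
    θ R B κ n (x ⊗ₜ[R] f) = fun j => x ⊗ₜ[R] f j := rfl

variable {R B}

/-- the base change of the linear map given by a matrix -/
noncomputable abbrev T {m n : Type*} [Fintype m] (W : Matrix m n B) :
    κ ⊗[R] (m → B) →ₗ[R] κ ⊗[R] (n → B) :=
  (W.vecMulLinear.restrictScalars R).lTensor κ

theorem θ_T {m n : Type*} [Fintype m] [Fintype n] (W : Matrix m n B) (t : κ ⊗[R] (m → B)) :
    θ R B κ n (T κ W t) = (θ R B κ m t) ᵥ* W.map (incl R B κ) := by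
  induction t using TensorProduct.induction_on with
  | zero => simp
  | tmul x f =>
    rw [T, LinearMap.lTensor_tmul, θ_tmul, θ_tmul]
    funext j
    simp only [LinearMap.coe_restrictScalars, Matrix.vecMulLinear_apply, Matrix.vecMul, dotProduct,
      Matrix.map_apply, incl_apply, Algebra.TensorProduct.tmul_mul_tmul, mul_one]
    rw [TensorProduct.tmul_sum]
  | add t₁ t₂ h₁ h₂ =>
    rw [map_add, map_add, map_add, h₁, h₂, Matrix.add_vecMul]

theorem mem_range_T_iff {m n : Type*} [Fintype m] [Fintype n] (W : Matrix m n B)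
    (z : κ ⊗[R] (n → B)) :
    z ∈ LinearMap.range (T κ W) ↔
      θ R B κ n z ∈ LinearMap.range (W.map (incl R B κ)).vecMulLinear := by
  constructor
  · rintro ⟨t, rfl⟩
    exact ⟨θ R B κ m t, (θ_T κ W t).symm⟩
  · rintro ⟨x, hx⟩
    refine ⟨(θ R B κ m).symm x, (θ R B κ n).injective ?_⟩
    rw [θ_T, LinearEquiv.apply_symm_apply]
    exact hx

end theta

section CL

variable {R B : Type*} [CommRing R] [CommRing B] [Algebra R B]
  {F G H : Type*} [AddCommGroup F] [Module R F] [Module B F] [IsScalarTower R B F]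
  [AddCommGroup G] [Module R G] [Module B G] [IsScalarTower R B G]
  [AddCommGroup H] [Module R H] [Module B H] [IsScalarTower R B H]
  {α ν β γ δ : Type*} [Fintype α] [Fintype ν] [Fintype β] [Fintype γ] [Fintype δ]

/-- **Comparison**: fibrewise exactness of `F → G → H` in terms of matrices over `κ ⊗[R] B`, for
modules with given finite presentations. -/
theorem exactAt_iff_matrix (u : F →ₗ[B] G) (v : G →ₗ[B] H)
    (πF : (α → B) →ₗ[B] F) (hπF : Function.Surjective πF)
    (πG : (β → B) →ₗ[B] G) (hπG : Function.Surjective πG) (MG : Matrix ν β B)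
    (hMG : LinearMap.ker πG = LinearMap.range MG.vecMulLinear)
    (πH : (γ → B) →ₗ[B] H) (hπH : Function.Surjective πH) (MH : Matrix δ γ B)
    (hMH : LinearMap.ker πH = LinearMap.range MH.vecMulLinear)
    (U : Matrix α β B) (hU : ∀ x, πG (x ᵥ* U) = u (πF x))
    (V : Matrix β γ B) (hV : ∀ y, πH (y ᵥ* V) = v (πG y))
    (κ : Type*) [CommRing κ] [Algebra R κ] :
    ExactAt (u.restrictScalars R) (v.restrictScalars R) κ ↔
      ∀ y : β → κ ⊗[R] B, y ᵥ* V.map (incl R B κ) ∈
          LinearMap.range (MH.map (incl R B κ)).vecMulLinear ↔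
        y ∈ LinearMap.range (U.map (incl R B κ)).vecMulLinear ⊔
          LinearMap.range (MG.map (incl R B κ)).vecMulLinear := by
  -- step 1: reduce to the free modules
  have hcompU : (πG.restrictScalars R).lTensor κ ∘ₗ T κ U =
      (u.restrictScalars R).lTensor κ ∘ₗ (πF.restrictScalars R).lTensor κ := by
    rw [T, ← LinearMap.lTensor_comp, ← LinearMap.lTensor_comp]
    congr 1
    ext x : 1
    exact hU x
  have hcompV : (πH.restrictScalars R).lTensor κ ∘ₗ T κ V =
      (v.restrictScalars R).lTensor κ ∘ₗ (πG.restrictScalars R).lTensor κ := by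
    rw [T, ← LinearMap.lTensor_comp, ← LinearMap.lTensor_comp]
    congr 1
    ext y : 1
    exact hV y
  have hexG : Function.Exact (T κ MG) ((πG.restrictScalars R).lTensor κ) := by
    refine lTensor_exact κ ?_ hπG
    intro y
    show πG y = 0 ↔ y ∈ Set.range MG.vecMulLinear
    rw [← LinearMap.mem_ker, hMG]
    rfl
  have hexH : Function.Exact (T κ MH) ((πH.restrictScalars R).lTensor κ) := by
    refine lTensor_exact κ ?_ hπH
    intro y
    show πH y = 0 ↔ y ∈ Set.range MH.vecMulLinear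
    rw [← LinearMap.mem_ker, hMH]
    rfl
  have h1 := exact_iff_of_lift ((u.restrictScalars R).lTensor κ) ((v.restrictScalars R).lTensor κ)
    ((πF.restrictScalars R).lTensor κ) (LinearMap.lTensor_surjective κ hπF)
    ((πG.restrictScalars R).lTensor κ) (LinearMap.lTensor_surjective κ hπG) (T κ U)
    (fun x => LinearMap.congr_fun hcompU x)
  show Function.Exact _ _ ↔ _
  rw [h1]
  constructor
  · intro h y'
    obtain ⟨y, rfl⟩ := (θ R B κ β).surjective y'
    have h2 := h y
    rw [← LinearMap.comp_apply, ← hcompV, LinearMap.comp_apply, hexH (T κ V y)] at h2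
    change T κ V y ∈ LinearMap.range (T κ MH) ↔ _ at h2
    rw [mem_range_T_iff, θ_T] at h2
    rw [h2, Submodule.mem_sup, Submodule.mem_sup]
    constructor
    · rintro ⟨a, ha, k, hk, rfl⟩
      rw [LinearMap.mem_ker, hexG k] at hk
      change k ∈ LinearMap.range (T κ MG) at hk
      exact ⟨θ R B κ β a, (mem_range_T_iff κ U a).mp ha, θ R B κ β k,
        (mem_range_T_iff κ MG k).mp hk, (map_add _ _ _).symm⟩
    · rintro ⟨a', ha', k', hk', hsum⟩
      obtain ⟨a, rfl⟩ := (θ R B κ β).surjective a'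
      obtain ⟨k, rfl⟩ := (θ R B κ β).surjective k'
      refine ⟨a, (mem_range_T_iff κ U a).mpr ha', k, ?_, (θ R B κ β).injective ?_⟩
      · rw [LinearMap.mem_ker, hexG k]
        exact (mem_range_T_iff κ MG k).mpr hk'
      · rw [map_add]; exact hsum
  · intro h y
    have h2 := h (θ R B κ β y)
    rw [← LinearMap.comp_apply, ← hcompV, LinearMap.comp_apply, hexH (T κ V y)]
    change T κ V y ∈ LinearMap.range (T κ MH) ↔ _
    rw [mem_range_T_iff, θ_T, h2, Submodule.mem_sup, Submodule.mem_sup]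
    constructor
    · rintro ⟨a', ha', k', hk', hsum⟩
      obtain ⟨a, rfl⟩ := (θ R B κ β).surjective a'
      obtain ⟨k, rfl⟩ := (θ R B κ β).surjective k'
      refine ⟨a, (mem_range_T_iff κ U a).mpr ha', k, ?_, (θ R B κ β).injective ?_⟩
      · rw [LinearMap.mem_ker, hexG k]
        exact (mem_range_T_iff κ MG k).mpr hk'
      · rw [map_add]; exact hsum
    · rintro ⟨a, ha, k, hk, rfl⟩
      rw [LinearMap.mem_ker, hexG k] at hk
      change k ∈ LinearMap.range (T κ MG) at hk
      exact ⟨θ R B κ β a, (mem_range_T_iff κ U a).mp ha, θ R B κ β k,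
        (mem_range_T_iff κ MG k).mp hk, (map_add _ _ _).symm⟩

end CL

section corollaries

variable {R B : Type*} [CommRing R] [CommRing B] [Algebra R B]

theorem range_vecMulLinear_fromRows {S : Type*} [CommRing S] {m₁ m₂ n : Type*} [Fintype m₁]
    [Fintype m₂] (A₁ : Matrix m₁ n S) (A₂ : Matrix m₂ n S) :
    LinearMap.range (Matrix.fromRows A₁ A₂).vecMulLinear =
      LinearMap.range A₁.vecMulLinear ⊔ LinearMap.range A₂.vecMulLinear := by
  apply le_antisymm
  · rintro _ ⟨x, rfl⟩
    have hx : x = Sum.elim (x ∘ Sum.inl) (x ∘ Sum.inr) := by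
      funext i; cases i <;> rfl
    rw [hx, Matrix.vecMulLinear_apply, Matrix.sumElim_vecMul_fromRows]
    exact Submodule.add_mem _ (Submodule.mem_sup_left ⟨_, rfl⟩) (Submodule.mem_sup_right ⟨_, rfl⟩)
  · rw [sup_le_iff]
    constructor
    · rintro _ ⟨x, rfl⟩
      refine ⟨Sum.elim x 0, ?_⟩
      rw [Matrix.vecMulLinear_apply, Matrix.sumElim_vecMul_fromRows, Matrix.zero_vecMul, add_zero]
      rfl
    · rintro _ ⟨x, rfl⟩
      refine ⟨Sum.elim 0 x, ?_⟩
      rw [Matrix.vecMulLinear_apply, Matrix.sumElim_vecMul_fromRows, Matrix.zero_vecMul, zero_add]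
      rfl

theorem range_vecMulLinear_of_isEmpty {S : Type*} [CommRing S] {m n : Type*} [Fintype m]
    [IsEmpty m] (A : Matrix m n S) : LinearMap.range A.vecMulLinear = ⊥ := by
  rw [eq_bot_iff]
  rintro _ ⟨x, rfl⟩
  rw [Submodule.mem_bot]
  funext j
  simp [Matrix.vecMul, dotProduct]

variable {F G H : Type*} [AddCommGroup F] [Module R F] [Module B F] [IsScalarTower R B F]
  [AddCommGroup G] [Module R G] [Module B G] [IsScalarTower R B G]
  [AddCommGroup H] [Module R H] [Module B H] [IsScalarTower R B H]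
  {α ν β γ δ : Type*} [Fintype α] [Fintype ν] [Fintype β] [Fintype γ] [Fintype δ]

/-- `MExact` after base change to `κ` -/
def MExactAt (R : Type*) {B : Type*} [CommRing R] [CommRing B] [Algebra R B] (κ : Type*)
    [CommRing κ] [Algebra R κ] {α β γ δ : Type*} [Fintype α] [Fintype β] [Fintype δ]
    (U : Matrix α β B) (V : Matrix β γ B) (M : Matrix δ γ B) : Prop :=
  MExact (U.map (incl R B κ)) (V.map (incl R B κ)) (M.map (incl R B κ))

/-- comparison for modules with finite presentations, in terms of `MExactAt` -/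
theorem exactAt_iff_mExactAt (u : F →ₗ[B] G) (v : G →ₗ[B] H)
    (πF : (α → B) →ₗ[B] F) (hπF : Function.Surjective πF)
    (πG : (β → B) →ₗ[B] G) (hπG : Function.Surjective πG) (MG : Matrix ν β B)
    (hMG : LinearMap.ker πG = LinearMap.range MG.vecMulLinear)
    (πH : (γ → B) →ₗ[B] H) (hπH : Function.Surjective πH) (MH : Matrix δ γ B)
    (hMH : LinearMap.ker πH = LinearMap.range MH.vecMulLinear)
    (U : Matrix α β B) (hU : ∀ x, πG (x ᵥ* U) = u (πF x))
    (V : Matrix β γ B) (hV : ∀ y, πH (y ᵥ* V) = v (πG y))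
    (κ : Type*) [CommRing κ] [Algebra R κ] :
    ExactAt (u.restrictScalars R) (v.restrictScalars R) κ ↔
      MExactAt R κ (Matrix.fromRows U MG) V MH := by
  rw [exactAt_iff_matrix u v πF hπF πG hπG MG hMG πH hπH MH hMH U hU V hV κ]
  unfold MExactAt MExact
  rw [Matrix.fromRows_map, range_vecMulLinear_fromRows]

/-- comparison for the sequence `B^α → B^β → B^γ / rows(M)` -/
theorem exactAt_vecMulLinear_iff (U : Matrix α β B) (V : Matrix β γ B) (M : Matrix δ γ B)
    (κ : Type*) [CommRing κ] [Algebra R κ] :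
    ExactAt (U.vecMulLinear.restrictScalars R)
        (((LinearMap.range M.vecMulLinear).mkQ ∘ₗ V.vecMulLinear).restrictScalars R) κ ↔
      MExactAt R κ U V M := by
  have h := exactAt_iff_matrix (R := R) U.vecMulLinear
    ((LinearMap.range M.vecMulLinear).mkQ ∘ₗ V.vecMulLinear)
    LinearMap.id Function.surjective_id LinearMap.id Function.surjective_id
    (0 : Matrix PEmpty.{1} β B)
    (by rw [range_vecMulLinear_of_isEmpty]; exact LinearMap.ker_id)
    (LinearMap.range M.vecMulLinear).mkQ (Submodule.mkQ_surjective _) M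
    (Submodule.ker_mkQ _) U (fun x => rfl) V (fun y => rfl) κ
  rw [h]
  unfold MExactAt MExact
  rw [range_vecMulLinear_of_isEmpty (Matrix.map (0 : Matrix PEmpty.{1} β B) (incl R B κ)), sup_bot_eq]

end corollaries

end Groth.Agent.Lib.Seat15.ExactMat
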