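import Mathlib
import Groth.Agent.Lib.Seat15ExactMat
import Groth.Agent.Lib.Helper2GenFree2

/-!
# Fibrewise exactness: the key criterion (seat 15)

* `exactAt_iff_subsingleton`: if the images `I = im (v ∘ u)`, `J = im (coker u → H / I)` and the
  kernel `N = ker (coker u → H / I)` stay injective after tensoring with `κ`, then exactness of
  `κ ⊗ F → κ ⊗ G → κ ⊗ H` is equivalent to `κ ⊗ I = 0 = κ ⊗ N`.
* `injective_lTensor_of_freeAway`, `subsingleton_tensor_iff_of_freeAway`: consequences of generic
  freeness.
-/

set_option autoImplicit false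
set_option linter.style.haveILetI false
set_option linter.unusedSectionVars false
universe u

namespace Groth.Agent.Lib.Seat15.ExactKey

open TensorProduct Groth.Agent.Lib.Seat15.ExactMat Groth.Agent.Lib.Helper2.GenFree

section key

variable {R : Type*} [CommRing R] {F G H I H₁ C N J : Type*}
  [AddCommGroup F] [Module R F] [AddCommGroup G] [Module R G] [AddCommGroup H] [Module R H]
  [AddCommGroup I] [Module R I] [AddCommGroup H₁] [Module R H₁] [AddCommGroup C] [Module R C]
  [AddCommGroup N] [Module R N] [AddCommGroup J] [Module R J]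

theorem exactAt_iff_subsingleton (u : F →ₗ[R] G) (v : G →ₗ[R] H)
    (w : F →ₗ[R] I) (hw : Function.Surjective w) (i : I →ₗ[R] H) (hiw : ∀ x, i (w x) = v (u x))
    (qI : H →ₗ[R] H₁) (hqI : Function.Surjective qI) (hexI : Function.Exact i qI)
    (qC : G →ₗ[R] C) (hqC : Function.Surjective qC) (hexC : Function.Exact u qC)
    (vb : C →ₗ[R] H₁) (hvb : ∀ g, vb (qC g) = qI (v g))
    (n : N →ₗ[R] C) (vb' : C →ₗ[R] J) (hvb' : Function.Surjective vb')
    (hexN : Function.Exact n vb') (j : J →ₗ[R] H₁) (hj : ∀ c, j (vb' c) = vb c)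
    (κ : Type*) [CommRing κ] [Algebra R κ]
    (h1 : Function.Injective (i.lTensor κ)) (h2 : Function.Injective (j.lTensor κ))
    (h3 : Function.Injective (n.lTensor κ)) :
    ExactAt u v κ ↔ Subsingleton (κ ⊗[R] I) ∧ Subsingleton (κ ⊗[R] N) := by
  have hTw : Function.Surjective (w.lTensor κ) := LinearMap.lTensor_surjective κ hw
  have hTiw : ∀ x, i.lTensor κ (w.lTensor κ x) = v.lTensor κ (u.lTensor κ x) := by
    intro x
    rw [← LinearMap.comp_apply, ← LinearMap.comp_apply, ← LinearMap.lTensor_comp,
      ← LinearMap.lTensor_comp]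
    congr 2
    ext y
    exact hiw y
  have hexI' : Function.Exact (i.lTensor κ) (qI.lTensor κ) := lTensor_exact κ hexI hqI
  have hexC' : Function.Exact (u.lTensor κ) (qC.lTensor κ) := lTensor_exact κ hexC hqC
  have hTqC : Function.Surjective (qC.lTensor κ) := LinearMap.lTensor_surjective κ hqC
  have hTvb : ∀ g, vb.lTensor κ (qC.lTensor κ g) = qI.lTensor κ (v.lTensor κ g) := by
    intro g
    rw [← LinearMap.comp_apply, ← LinearMap.comp_apply, ← LinearMap.lTensor_comp,
      ← LinearMap.lTensor_comp]
    congr 2
    ext y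
    exact hvb y
  have hexN' : Function.Exact (n.lTensor κ) (vb'.lTensor κ) := lTensor_exact κ hexN hvb'
  have hTj : ∀ c, j.lTensor κ (vb'.lTensor κ c) = vb.lTensor κ c := by
    intro c
    rw [← LinearMap.comp_apply, ← LinearMap.lTensor_comp]
    congr 2
    ext y
    exact hj y
  constructor
  · intro hE
    have hI : ∀ z : κ ⊗[R] I, z = 0 := by
      intro z
      obtain ⟨x, rfl⟩ := hTw z
      apply h1
      rw [hTiw, map_zero]
      exact hE.apply_apply_eq_zero x
    have hqIinj : ∀ a, qI.lTensor κ a = 0 → a = 0 := by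
      intro a ha
      obtain ⟨z, rfl⟩ := (hexI' a).mp ha
      rw [hI z, map_zero]
    have hvbinj : ∀ c, vb.lTensor κ c = 0 → c = 0 := by
      intro c hc
      obtain ⟨g, rfl⟩ := hTqC c
      rw [hTvb] at hc
      obtain ⟨x, rfl⟩ := (hE g).mp (hqIinj _ hc)
      exact hexC'.apply_apply_eq_zero x
    refine ⟨⟨fun a b => (hI a).trans (hI b).symm⟩, ⟨fun a b => ?_⟩⟩
    have hN : ∀ z : κ ⊗[R] N, z = 0 := by
      intro z
      apply h3
      rw [map_zero]
      apply hvbinj
      rw [← hTj, hexN'.apply_apply_eq_zero, map_zero]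
    exact (hN a).trans (hN b).symm
  · rintro ⟨hI, hN⟩
    intro g
    constructor
    · intro hg
      have h4 : vb.lTensor κ (qC.lTensor κ g) = 0 := by rw [hTvb, hg, map_zero]
      rw [← hTj] at h4
      have h5 : vb'.lTensor κ (qC.lTensor κ g) = 0 := h2 (by rw [h4, map_zero])
      obtain ⟨z, hz⟩ := (hexN' _).mp h5
      have h6 : qC.lTensor κ g = 0 := by
        rw [← hz, Subsingleton.elim z 0, map_zero]
      exact (hexC' g).mp h6
    · rintro ⟨x, rfl⟩
      rw [← hTiw, Subsingleton.elim (w.lTensor κ x) 0, map_zero]

end key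

section freeAway

variable {R : Type*} [CommRing R] (f : R)

/-- If the cokernel of an injection is free away from `f`, the injection stays injective after
tensoring with any algebra in which `f` is invertible. -/
theorem injective_lTensor_of_freeAway {M' M Q : Type*} [AddCommGroup M'] [Module R M']
    [AddCommGroup M] [Module R M] [AddCommGroup Q] [Module R Q] (ι : M' →ₗ[R] M)
    (hι : Function.Injective ι) (q : M →ₗ[R] Q) (hq : Function.Surjective q)
    (hex : Function.Exact ι q) (hQ : FreeAway R f Q) (κ : Type*) [CommRing κ] [Algebra R κ]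
    (hκ : IsUnit (algebraMap R κ f)) : Function.Injective (ι.lTensor κ) := by
  have e : (M ⧸ LinearMap.range ι) ≃ₗ[R] Q :=
    (Submodule.quotEquivOfEq _ _ (LinearMap.exact_iff.mp hex).symm).trans
      (q.quotKerEquivOfSurjective hq)
  have hQ' : FreeAway R f (M ⧸ LinearMap.range ι) := hQ.of_linearEquiv e.symm
  have hfree : Module.Free (Localization.Away f)
      (Localization.Away f ⊗[R] (M ⧸ LinearMap.range ι)) :=
    hQ'.free (Localization.Away f)
      (TensorProduct.mk R (Localization.Away f) (M ⧸ LinearMap.range ι) 1)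
  have hexact := exact_baseChange_of_flat_coker_away f (0 : PUnit.{1} →ₗ[R] M') ι
    (fun x => ⟨0, by simp⟩)
    (fun y hy => ⟨0, 0, by rw [pow_zero, one_smul, hι (hy.trans (map_zero ι).symm)]; simp⟩)
    inferInstance κ hκ
  intro a b hab
  have h0 : ι.lTensor κ (a - b) = 0 := by rw [map_sub, hab, sub_self]
  obtain ⟨z, hz⟩ := (hexact (a - b)).mp h0
  have hall : ∀ z : κ ⊗[R] PUnit.{1}, z = 0 := by
    intro z
    induction z using TensorProduct.induction_on with
    | zero => rfl
    | tmul x y => rw [Subsingleton.elim y 0, TensorProduct.tmul_zero]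
    | add x y hx hy => rw [hx, hy, add_zero]
  rw [hall z, map_zero] at hz
  exact sub_eq_zero.mp hz.symm

/-- the vanishing of `κ ⊗ M` for a module free away from `f` does not depend on `κ` -/
theorem subsingleton_tensor_iff_of_freeAway {M : Type*} [AddCommGroup M] [Module R M]
    (hM : FreeAway R f M) (κ : Type*) [CommRing κ] [Nontrivial κ] [Algebra R κ]
    (hκ : IsUnit (algebraMap R κ f)) :
    Subsingleton (κ ⊗[R] M) ↔ Subsingleton (Localization.Away f ⊗[R] M) := by
  letI : Algebra (Localization.Away f) κ := (IsLocalization.Away.lift f hκ).toAlgebra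
  haveI : IsScalarTower R (Localization.Away f) κ := IsScalarTower.of_algebraMap_eq' (by
    ext r
    rw [RingHom.algebraMap_toAlgebra, RingHom.comp_apply, IsLocalization.Away.lift_eq])
  have hfree : Module.Free (Localization.Away f) (Localization.Away f ⊗[R] M) :=
    hM.free (Localization.Away f) (TensorProduct.mk R (Localization.Away f) M 1)
  let c := AlgebraTensorModule.cancelBaseChange R (Localization.Away f) κ κ M
  constructor
  · intro h
    haveI : Subsingleton (κ ⊗[Localization.Away f] (Localization.Away f ⊗[R] M)) :=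
      c.toEquiv.subsingleton
    let b := Module.Free.chooseBasis (Localization.Away f) (Localization.Away f ⊗[R] M)
    have hempty : IsEmpty (Module.Free.ChooseBasisIndex (Localization.Away f)
        (Localization.Away f ⊗[R] M)) := by
      by_contra hne
      rw [not_isEmpty_iff] at hne
      obtain ⟨i⟩ := hne
      exact (Module.Basis.baseChange κ b).ne_zero i (Subsingleton.elim _ _)
    exact b.repr.toEquiv.subsingleton
  · intro h
    haveI : Subsingleton (κ ⊗[Localization.Away f] (Localization.Away f ⊗[R] M)) := by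
      refine ⟨fun a b => ?_⟩
      have key : ∀ z : κ ⊗[Localization.Away f] (Localization.Away f ⊗[R] M), z = 0 := by
        intro z
        induction z using TensorProduct.induction_on with
        | zero => rfl
        | tmul x y => rw [Subsingleton.elim y 0, TensorProduct.tmul_zero]
        | add x y hx hy => rw [hx, hy, add_zero]
      rw [key a, key b]
    exact c.symm.toEquiv.subsingleton

end freeAway

end Groth.Agent.Lib.Seat15.ExactKey
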