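import Mathlib
import Groth.Agent.Lib.Seat15ExactMat

/-!
# The locus of fibrewise exactness of a matrix sequence (seat 15)

* `mExactAt_iff_of_faithfullyFlat`, `mExactAt_residueField_iff`: independence of the field.
* `mExactAt_baseChange`: compatibility with base change of the base ring.
* `mExactAt_map_algEquiv`: invariance under isomorphisms of the algebra.
* `locus`, `preimage_locus`.
-/

set_option autoImplicit false
set_option linter.style.haveILetI false
set_option linter.unusedSectionVars false
universe u

namespace Groth.Agent.Lib.Seat15.ExactLocus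

open TensorProduct Matrix PrimeSpectrum Groth.Agent.Lib.Seat15.ExactMat

variable {R B : Type*} [CommRing R] [CommRing B] [Algebra R B]
  {α β γ δ : Type*} [Fintype α] [Fintype β] [Fintype γ] [Fintype δ]
  (U : Matrix α β B) (V : Matrix β γ B) (M : Matrix δ γ B)

theorem mExactAt_iff_of_faithfullyFlat (k K : Type*) [CommRing k] [CommRing K] [Algebra R k]
    [Algebra R K] [Algebra k K] [IsScalarTower R k K] [Module.FaithfullyFlat k K] :
    MExactAt R K U V M ↔ MExactAt R k U V M := by
  rw [← exactAt_vecMulLinear_iff, ← exactAt_vecMulLinear_iff]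
  exact exactAt_iff_of_faithfullyFlat _ _ k K

theorem mExactAt_residueField_iff (p : PrimeSpectrum R) (K : Type*) [Field K] [Algebra R K]
    (hp : RingHom.ker (algebraMap R K) = p.asIdeal) :
    MExactAt R K U V M ↔ MExactAt R p.asIdeal.ResidueField U V M := by
  have h1 : p.asIdeal ≤ RingHom.ker (algebraMap R K) := hp.ge
  have h2 : p.asIdeal.primeCompl ≤ (IsUnit.submonoid K).comap (algebraMap R K) := by
    intro x hx
    show IsUnit (algebraMap R K x)
    rw [isUnit_iff_ne_zero]
    intro h0
    exact hx (hp ▸ (RingHom.mem_ker.mpr h0))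
  letI : Algebra p.asIdeal.ResidueField K :=
    (Ideal.ResidueField.lift p.asIdeal (algebraMap R K) h1 h2).toAlgebra
  haveI : IsScalarTower R p.asIdeal.ResidueField K :=
    IsScalarTower.of_algebraMap_eq fun x =>
      (Ideal.ResidueField.lift_algebraMap p.asIdeal (algebraMap R K) h1 h2 x).symm
  exact mExactAt_iff_of_faithfullyFlat U V M p.asIdeal.ResidueField K

theorem map_incl_cancel {m n : Type*} (W : Matrix m n B) (R' : Type*) [CommRing R']
    [Algebra R R'] (κ : Type*) [CommRing κ] [Algebra R κ] [Algebra R' κ] [IsScalarTower R R' κ] :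
    ((W.map (incl R B R')).map (incl R' (R' ⊗[R] B) κ)).map
      (Algebra.TensorProduct.cancelBaseChange R R' κ κ B).toRingEquiv = W.map (incl R B κ) := by
  ext i j
  simp only [Matrix.map_apply]
  show Algebra.TensorProduct.cancelBaseChange R R' κ κ B ((1 : κ) ⊗ₜ ((1 : R') ⊗ₜ W i j)) = _
  rw [Algebra.TensorProduct.cancelBaseChange_tmul, one_smul]
  rfl

theorem mExactAt_baseChange (R' : Type*) [CommRing R'] [Algebra R R'] (κ : Type*) [CommRing κ]
    [Algebra R κ] [Algebra R' κ] [IsScalarTower R R' κ] :
    MExactAt R' κ (U.map (incl R B R')) (V.map (incl R B R')) (M.map (incl R B R')) ↔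
      MExactAt R κ U V M := by
  unfold MExactAt
  rw [← map_incl_cancel U R' κ, ← map_incl_cancel V R' κ, ← map_incl_cancel M R' κ]
  exact (mExact_map_equiv _ _ _ _).symm

theorem map_incl_congr {m n : Type*} (W : Matrix m n B) {B₂ : Type*} [CommRing B₂]
    [Algebra R B₂] (e : B ≃ₐ[R] B₂) (κ : Type*) [CommRing κ] [Algebra R κ] :
    (W.map (incl R B κ)).map
      (Algebra.TensorProduct.congr (AlgEquiv.refl : κ ≃ₐ[R] κ) e).toRingEquiv =
        (W.map e).map (incl R B₂ κ) := by
  ext i j
  simp only [Matrix.map_apply]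
  show Algebra.TensorProduct.congr (AlgEquiv.refl : κ ≃ₐ[R] κ) e ((1 : κ) ⊗ₜ W i j) = _
  rw [Algebra.TensorProduct.congr_apply, Algebra.TensorProduct.map_tmul]
  rfl

theorem mExactAt_map_algEquiv {B₂ : Type*} [CommRing B₂] [Algebra R B₂] (e : B ≃ₐ[R] B₂)
    (κ : Type*) [CommRing κ] [Algebra R κ] :
    MExactAt R κ (U.map e) (V.map e) (M.map e) ↔ MExactAt R κ U V M := by
  unfold MExactAt
  rw [← map_incl_congr U e κ, ← map_incl_congr V e κ, ← map_incl_congr M e κ]
  exact mExact_map_equiv _ _ _ _

/-- the locus of fibrewise exactness -/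
def locus (R : Type*) {B : Type*} [CommRing R] [CommRing B] [Algebra R B]
    {α β γ δ : Type*} [Fintype α] [Fintype β] [Fintype δ]
    (U : Matrix α β B) (V : Matrix β γ B) (M : Matrix δ γ B) : Set (PrimeSpectrum R) :=
  {p | MExactAt R p.asIdeal.ResidueField U V M}

theorem preimage_locus (R' : Type*) [CommRing R'] [Algebra R R'] :
    comap (algebraMap R R') ⁻¹' locus R U V M =
      locus R' (U.map (incl R B R')) (V.map (incl R B R')) (M.map (incl R B R')) := by
  ext p'
  show MExactAt R (comap (algebraMap R R') p').asIdeal.ResidueField U V M ↔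
    MExactAt R' p'.asIdeal.ResidueField _ _ _
  rw [mExactAt_baseChange U V M R' p'.asIdeal.ResidueField]
  refine (mExactAt_residueField_iff U V M _ p'.asIdeal.ResidueField ?_).symm
  ext x
  rw [RingHom.mem_ker, IsScalarTower.algebraMap_apply R R' p'.asIdeal.ResidueField,
    Ideal.algebraMap_residueField_eq_zero]
  rfl

end Groth.Agent.Lib.Seat15.ExactLocus
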