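import Mathlib
import Groth.Agent.Lib.Helper2GenFree

/-!
# Generic density of a principal open in the fibres (seat 15)

* `nzd_of_flat`: if `b` is a nonzerodivisor of the `R`-algebra `S` and `Rg ⊗ S/bS` is flat over the
  flat `R`-algebra `Rg`, then `1 ⊗ b` is a nonzerodivisor of `κ ⊗[R] S` for every `Rg`-algebra `κ`.
* `nonZeroDivisor_fibre`: `R` a domain, `S` an `R`-algebra of finite type, `b` a nonzerodivisor
  of `S`.  There is `g ≠ 0` in `R` such that for every prime `p` of `R` not containing `g`,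
  `1 ⊗ b` is a nonzerodivisor of the fibre ring `κ(p) ⊗[R] S`.
* `mem_closure_fibre`: consequently every point `𝔯` of `Spec S` lying over `D(g)` belongs to the
  closure of `D(b) ∩ (fibre through 𝔯)`.
-/

set_option autoImplicit false
set_option linter.style.haveILetI false
universe u

namespace Groth.Agent.Lib.Seat15.FibNZD

open TensorProduct PrimeSpectrum


section
variable {R : Type u} [CommRing R] {S : Type u} [CommRing S] [Algebra R S] (b : S)

/-- multiplication by `b` -/
noncomputable abbrev μ : S →ₗ[R] S := LinearMap.mulLeft R b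
/-- quotient map -/
noncomputable abbrev q : S →ₗ[R] S ⧸ Ideal.span {b} := (Ideal.Quotient.mkₐ R (Ideal.span {b})).toLinearMap

theorem μ_inj (hb : b ∈ nonZeroDivisors S) : Function.Injective (μ (R := R) b) := by
  intro x y hxy
  have h1 : b * (x - y) = 0 := by
    have : b * x = b * y := hxy
    rw [mul_sub, this, sub_self]
  have h2 := (mem_nonZeroDivisors_iff_right.mp hb) (x - y) (by rw [mul_comm]; exact h1)
  exact sub_eq_zero.mp h2

theorem q_surj : Function.Surjective (q (R := R) b) := Ideal.Quotient.mkₐ_surjective R _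

theorem μq_exact : Function.Exact (μ (R := R) b) (q (R := R) b) := by
  intro y
  constructor
  · intro hy
    have h1 : y ∈ Ideal.span {b} := Ideal.Quotient.eq_zero_iff_mem.mp hy
    obtain ⟨z, rfl⟩ := Ideal.mem_span_singleton'.mp h1
    exact ⟨z, mul_comm _ _⟩
  · rintro ⟨z, rfl⟩
    refine Ideal.Quotient.eq_zero_iff_mem.mpr ?_
    exact Ideal.mul_mem_right _ _ (Ideal.subset_span rfl)

variable (Rg : Type u) [CommRing Rg] [Algebra R Rg] 

theorem μg_inj [Module.Flat R Rg] (hb : b ∈ nonZeroDivisors S) :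
    Function.Injective ((μ (R := R) b).baseChange Rg) := by
  have := Module.Flat.lTensor_preserves_injective_linearMap (M := Rg) (μ (R := R) b) (μ_inj b hb)
  intro x y hxy
  apply this
  have h := LinearMap.baseChange_eq_ltensor (A := Rg) (f := μ (R := R) b)
  rw [← h]
  exact hxy

theorem qg_surj : Function.Surjective ((q (R := R) b).baseChange Rg) := by
  have := LinearMap.lTensor_surjective Rg (q_surj (R := R) b)
  intro y
  obtain ⟨x, hx⟩ := this y
  have h := LinearMap.baseChange_eq_ltensor (A := Rg) (f := q (R := R) b)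
  exact ⟨x, by rw [← h] at hx; exact hx⟩

theorem μqg_exact : Function.Exact ((μ (R := R) b).baseChange Rg) ((q (R := R) b).baseChange Rg) := by
  have := lTensor_exact Rg (μq_exact (R := R) b) (q_surj (R := R) b)
  intro y
  have h1 := this y
  have h := LinearMap.baseChange_eq_ltensor (A := Rg) (f := q (R := R) b)
  have h' := LinearMap.baseChange_eq_ltensor (A := Rg) (f := μ (R := R) b)
  rw [← h, ← h'] at h1
  exact h1

end

section
variable {R : Type u} [CommRing R] {S : Type u} [CommRing S] [Algebra R S] (b : S)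
variable (Rg : Type u) [CommRing Rg] [Algebra R Rg]

theorem nzd_of_flat [Module.Flat R Rg]
    (κ : Type u) [CommRing κ] [Algebra R κ] [Algebra Rg κ] [IsScalarTower R Rg κ]
    (hb : b ∈ nonZeroDivisors S)
    [hflat : Module.Flat Rg (Rg ⊗[R] (S ⧸ Ideal.span {b}))] :
    ((1 : κ) ⊗ₜ[R] b) ∈ nonZeroDivisors (κ ⊗[R] S) := by
  have hinj : Function.Injective (((μ (R := R) b).baseChange Rg).lTensor κ) :=
    LinearMap.lTensor_injective_of_exact_of_flat _ (qg_surj b Rg) _ (μg_inj b Rg hb)
      (μqg_exact b Rg) κ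
  let c := AlgebraTensorModule.cancelBaseChange R Rg κ κ S
  have hc : ∀ t : κ ⊗[Rg] (Rg ⊗[R] S),
      c (((μ (R := R) b).baseChange Rg).lTensor κ t) = ((1 : κ) ⊗ₜ[R] b) * c t := by
    intro t
    induction t using TensorProduct.induction_on with
    | zero => simp
    | tmul x t =>
      induction t using TensorProduct.induction_on with
      | zero => simp
      | tmul r s =>
        simp only [LinearMap.lTensor_tmul, LinearMap.baseChange_tmul, c,
          AlgebraTensorModule.cancelBaseChange_tmul, LinearMap.mulLeft_apply,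
          Algebra.TensorProduct.tmul_mul_tmul, one_mul]
      | add t₁ t₂ h₁ h₂ => simp only [tmul_add, map_add, h₁, h₂, mul_add]
    | add t₁ t₂ h₁ h₂ => simp only [map_add, h₁, h₂, mul_add]
  rw [mem_nonZeroDivisors_iff_right]
  intro y hy
  obtain ⟨t, rfl⟩ := c.surjective y
  have h1 : c (((μ (R := R) b).baseChange Rg).lTensor κ t) = 0 := by rw [hc, mul_comm]; exact hy
  have h2 : ((μ (R := R) b).baseChange Rg).lTensor κ t = 0 :=
    c.injective (h1.trans (map_zero c).symm)
  have h3 : t = 0 := hinj (h2.trans (map_zero _).symm)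
  rw [h3, map_zero]

end

section Generic

variable (R : Type u) [CommRing R] [IsDomain R] (S : Type u) [CommRing S] [Algebra R S]
  [Algebra.FiniteType R S]

theorem nonZeroDivisor_fibre (b : S) (hb : b ∈ nonZeroDivisors S) :
    ∃ g : R, g ≠ 0 ∧ ∀ (p : Ideal R) [p.IsPrime], g ∉ p →
      ((1 : p.ResidueField) ⊗ₜ[R] b) ∈ nonZeroDivisors (p.ResidueField ⊗[R] S) := by
  classical
  obtain ⟨g, hg0, -, hM, -, -⟩ :=
    Groth.Agent.Lib.Helper2.GenFree.exists_freeAway R S (S ⧸ Ideal.span {b})
  refine ⟨g, hg0, ?_⟩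
  intro p _ hgp
  have hu : IsUnit (algebraMap R p.ResidueField g) := by
    rw [isUnit_iff_ne_zero, Ne, Ideal.algebraMap_residueField_eq_zero]
    exact hgp
  letI : Algebra (Localization.Away g) p.ResidueField := (IsLocalization.Away.lift g hu).toAlgebra
  haveI : IsScalarTower R (Localization.Away g) p.ResidueField :=
    IsScalarTower.of_algebraMap_eq fun x => (IsLocalization.Away.lift_eq g hu x).symm
  haveI : IsLocalizedModule (Submonoid.powers g)
      (TensorProduct.mk R (Localization.Away g) (S ⧸ Ideal.span {b}) 1) :=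
    (isLocalizedModule_iff_isBaseChange (S := Submonoid.powers g) (A := Localization.Away g)
      (f := TensorProduct.mk R (Localization.Away g) (S ⧸ Ideal.span {b}) 1)).mpr
      (TensorProduct.isBaseChange R (S ⧸ Ideal.span {b}) (Localization.Away g))
  haveI hfree : Module.Free (Localization.Away g)
      ((Localization.Away g) ⊗[R] (S ⧸ Ideal.span {b})) :=
    hM.free (Localization.Away g) (TensorProduct.mk R (Localization.Away g) (S ⧸ Ideal.span {b}) 1)
  exact nzd_of_flat b (Localization.Away g) p.ResidueField hb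

theorem mem_closure_fibre (b : S) (hb : b ∈ nonZeroDivisors S) :
    ∃ g : R, g ≠ 0 ∧ ∀ 𝔯 : PrimeSpectrum S, g ∉ (comap (algebraMap R S) 𝔯).asIdeal →
      𝔯 ∈ closure ({q : PrimeSpectrum S | b ∉ q.asIdeal} ∩
        comap (algebraMap R S) ⁻¹' {comap (algebraMap R S) 𝔯}) := by
  obtain ⟨g, hg0, hg⟩ := nonZeroDivisor_fibre R S b hb
  refine ⟨g, hg0, fun 𝔯 hgr => ?_⟩
  have hnzd := hg (comap (algebraMap R S) 𝔯).asIdeal hgr
  let e := PrimeSpectrum.preimageEquivFiber R S (comap (algebraMap R S) 𝔯)
  let q := e ⟨𝔯, rfl⟩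
  obtain ⟨q', hq'min, hq'le⟩ := Ideal.exists_minimalPrimes_le (bot_le : ⊥ ≤ q.asIdeal)
  have hq'prime : q'.IsPrime := hq'min.1.1
  have hbq' : ((1 : (comap (algebraMap R S) 𝔯).asIdeal.ResidueField) ⊗ₜ[R] b) ∉ q' := fun hmem =>
    Set.disjoint_left.mp (Ideal.disjoint_nonZeroDivisors_of_mem_minimalPrimes hq'min) hmem hnzd
  let 𝔯' := e.symm ⟨q', hq'prime⟩
  have h𝔯 : (e.symm q).1 = 𝔯 := by rw [Equiv.symm_apply_apply]
  have hle : 𝔯'.1 ≤ (e.symm q).1 := by
    intro x hx
    exact hq'le hx
  rw [h𝔯] at hle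
  have hmem : 𝔯'.1 ∈ {q : PrimeSpectrum S | b ∉ q.asIdeal} ∩
      comap (algebraMap R S) ⁻¹' {comap (algebraMap R S) 𝔯} := ⟨hbq', 𝔯'.2⟩
  exact closure_mono (Set.singleton_subset_iff.mpr hmem)
    ((PrimeSpectrum.le_iff_specializes _ _).mp hle).mem_closure

end Generic

end Groth.Agent.Lib.Seat15.FibNZD
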