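import Mathlib
import Groth.Agent.Lib.Seat15FibNZD

/-!
# Generic commutation of closure with passage to the fibres (seat 15)

Let `A → B` be a ring map of finite type, `f : Spec B → Spec A`.

* `exists_mem_closure_of_prime`: for a prime `𝔮` of `B` over `𝔭` and `b ∉ 𝔮` there is `g ∉ 𝔭` such
  that every `𝔯 ∈ V(𝔮)` lying over `D(g)` belongs to the closure of `D(b) ∩ V(𝔮) ∩ f⁻¹(f 𝔯)`.
-/

set_option autoImplicit false
set_option linter.style.haveILetI false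
universe u

namespace Groth.Agent.Lib.Seat15.FibGeneric

open PrimeSpectrum Topology

section Prime

variable (A B : Type u) [CommRing A] [CommRing B] [Algebra A B] [Algebra.FiniteType A B]

theorem exists_mem_closure_of_prime (𝔮 : PrimeSpectrum B) (b : B) (hb : b ∉ 𝔮.asIdeal) :
    ∃ g : A, g ∉ (comap (algebraMap A B) 𝔮).asIdeal ∧ ∀ 𝔯 : PrimeSpectrum B,
      𝔯 ∈ zeroLocus (𝔮.asIdeal : Set B) → g ∉ (comap (algebraMap A B) 𝔯).asIdeal →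
      𝔯 ∈ closure (({q : PrimeSpectrum B | b ∉ q.asIdeal} ∩ zeroLocus (𝔮.asIdeal : Set B)) ∩
        comap (algebraMap A B) ⁻¹' {comap (algebraMap A B) 𝔯}) := by
  let 𝔭 : Ideal A := 𝔮.asIdeal.under A
  haveI : 𝔭.IsPrime := inferInstance
  haveI : 𝔮.asIdeal.LiesOver 𝔭 := inferInstance
  let R := A ⧸ 𝔭
  let S := B ⧸ 𝔮.asIdeal
  haveI : Algebra.FiniteType A S :=
    Algebra.FiniteType.of_surjective (Ideal.Quotient.mkₐ A 𝔮.asIdeal)
      (Ideal.Quotient.mkₐ_surjective A _)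
  haveI : Algebra.FiniteType R S := Algebra.FiniteType.of_restrictScalars_finiteType A R S
  have hb' : Ideal.Quotient.mk 𝔮.asIdeal b ∈ nonZeroDivisors S := by
    apply mem_nonZeroDivisors_of_ne_zero
    rwa [Ne, Ideal.Quotient.eq_zero_iff_mem]
  obtain ⟨g', hg'0, hg'⟩ := Groth.Agent.Lib.Seat15.FibNZD.mem_closure_fibre R S _ hb'
  obtain ⟨g, rfl⟩ := Ideal.Quotient.mk_surjective g'
  have hg𝔭 : g ∉ 𝔭 := by rwa [Ne, Ideal.Quotient.eq_zero_iff_mem] at hg'0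
  refine ⟨g, hg𝔭, ?_⟩
  intro 𝔯 h𝔯 hg𝔯
  -- the closed immersion `Spec S → Spec B`
  let c : PrimeSpectrum S → PrimeSpectrum B := comap (Ideal.Quotient.mk 𝔮.asIdeal)
  have hc : Continuous c := continuous_comap _
  have hrange : Set.range c = zeroLocus (𝔮.asIdeal : Set B) := by
    have := range_comap_of_surjective S (Ideal.Quotient.mk 𝔮.asIdeal) Ideal.Quotient.mk_surjective
    rw [Ideal.mk_ker] at this
    exact this
  obtain ⟨𝔯', rfl⟩ : 𝔯 ∈ Set.range c := hrange ▸ h𝔯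
  -- compatibility of the maps to `Spec A`
  have hsq : ∀ x : PrimeSpectrum S, comap (algebraMap A B) (c x) =
      comap (Ideal.Quotient.mk 𝔭) (comap (algebraMap R S) x) := by
    intro x
    ext a
    simp only [c, comap_asIdeal, Ideal.mem_comap]
    rfl
  have hg𝔯' : Ideal.Quotient.mk 𝔭 g ∉ (comap (algebraMap R S) 𝔯').asIdeal := by
    intro h
    apply hg𝔯
    rw [hsq]
    exact h
  have h1 := hg' 𝔯' hg𝔯'
  have h2 : c 𝔯' ∈ c '' closure ({q : PrimeSpectrum S | Ideal.Quotient.mk 𝔮.asIdeal b ∉ q.asIdeal} ∩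
        comap (algebraMap R S) ⁻¹' {comap (algebraMap R S) 𝔯'}) := ⟨𝔯', h1, rfl⟩
  refine closure_mono ?_ (image_closure_subset_closure_image hc h2)
  rintro _ ⟨x, ⟨hx1, hx2⟩, rfl⟩
  refine ⟨⟨hx1, ?_⟩, ?_⟩
  · rw [← hrange]; exact ⟨x, rfl⟩
  · show comap (algebraMap A B) (c x) = comap (algebraMap A B) (c 𝔯')
    rw [hsq, hsq]
    have : comap (algebraMap R S) x = comap (algebraMap R S) 𝔯' := hx2
    rw [this]

end Prime

section Combine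

variable {A : Type u} [CommRing A]

/-- finitely many conditions, each valid on a principal open neighbourhood of the prime `𝔭`, are
simultaneously valid on a principal open neighbourhood -/
lemma exists_forall_of_finset {ι : Type*} (s : Finset ι) (𝔭 : Ideal A) [𝔭.IsPrime]
    (Q : ι → PrimeSpectrum A → Prop)
    (h : ∀ i ∈ s, ∃ g : A, g ∉ 𝔭 ∧ ∀ x : PrimeSpectrum A, g ∉ x.asIdeal → Q i x) :
    ∃ g : A, g ∉ 𝔭 ∧ ∀ x : PrimeSpectrum A, g ∉ x.asIdeal → ∀ i ∈ s, Q i x := by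
  classical
  induction s using Finset.induction_on with
  | empty => exact ⟨1, fun h1 => (Ideal.IsPrime.ne_top ‹_›) ((Ideal.eq_top_iff_one _).mpr h1),
      fun _ _ i hi => absurd hi (Finset.notMem_empty i)⟩
  | insert a s ha ih =>
    obtain ⟨g₁, hg₁, h₁⟩ := h a (Finset.mem_insert_self a s)
    obtain ⟨g₂, hg₂, h₂⟩ := ih fun i hi => h i (Finset.mem_insert_of_mem hi)
    refine ⟨g₁ * g₂, fun hmem => ?_, fun x hx i hi => ?_⟩
    · rcases (Ideal.IsPrime.mem_or_mem ‹_› hmem) with h' | h'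
      · exact hg₁ h'
      · exact hg₂ h'
    · rcases Finset.mem_insert.mp hi with rfl | hi'
      · exact h₁ x fun h' => hx (Ideal.mul_mem_right _ _ h')
      · exact h₂ x (fun h' => hx (Ideal.mul_mem_left _ _ h')) i hi'

end Combine

section Noeth

variable (A B : Type u) [CommRing A] [CommRing B] [Algebra A B] [Algebra.FiniteType A B]

/-- version of `exists_mem_closure_of_prime` for a prime `𝔮` lying over a prime containing `𝔭` -/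
theorem exists_mem_closure_of_prime' (𝔭 : PrimeSpectrum A) (𝔮 : PrimeSpectrum B)
    (h𝔭𝔮 : 𝔭 ≤ comap (algebraMap A B) 𝔮) (b : B) (hb : b ∉ 𝔮.asIdeal) :
    ∃ g : A, g ∉ 𝔭.asIdeal ∧ ∀ x : PrimeSpectrum A, g ∉ x.asIdeal → ∀ 𝔯 : PrimeSpectrum B,
      𝔯 ∈ zeroLocus (𝔮.asIdeal : Set B) → comap (algebraMap A B) 𝔯 = x →
      𝔯 ∈ closure (({q : PrimeSpectrum B | b ∉ q.asIdeal} ∩ zeroLocus (𝔮.asIdeal : Set B)) ∩
        comap (algebraMap A B) ⁻¹' {x}) := by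
  by_cases heq : comap (algebraMap A B) 𝔮 = 𝔭
  · obtain ⟨g, hg, H⟩ := exists_mem_closure_of_prime A B 𝔮 b hb
    rw [heq] at hg
    refine ⟨g, hg, ?_⟩
    rintro x hx 𝔯 h𝔯 rfl
    exact H 𝔯 h𝔯 hx
  · have hlt : ¬ (comap (algebraMap A B) 𝔮).asIdeal ≤ 𝔭.asIdeal := by
      intro hle
      exact heq (le_antisymm hle h𝔭𝔮)
    obtain ⟨g, hg𝔮, hg𝔭⟩ := Set.not_subset.mp hlt
    refine ⟨g, hg𝔭, ?_⟩
    rintro x hx 𝔯 h𝔯 rfl
    exfalso
    apply hx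
    have h1 : algebraMap A B g ∈ 𝔮.asIdeal := hg𝔮
    exact h𝔯 h1

variable [IsNoetherianRing B]

/-- the basic locally closed piece `D(b) ∩ V(I)`, `I ⊇ 𝔭B` -/
theorem exists_closure_inter_fibre_subset_basic (𝔭 : PrimeSpectrum A) (I : Ideal B)
    (hI : 𝔭.asIdeal.map (algebraMap A B) ≤ I) (b : B) :
    ∃ g : A, g ∉ 𝔭.asIdeal ∧ ∀ x : PrimeSpectrum A, g ∉ x.asIdeal →
      closure ({q : PrimeSpectrum B | b ∉ q.asIdeal} ∩ zeroLocus (I : Set B)) ∩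
          comap (algebraMap A B) ⁻¹' {x} ⊆
        closure (({q : PrimeSpectrum B | b ∉ q.asIdeal} ∩ zeroLocus (I : Set B)) ∩
          comap (algebraMap A B) ⁻¹' {x}) := by
  classical
  have hfin : I.minimalPrimes.Finite := Ideal.finite_minimalPrimes_of_isNoetherianRing B I
  let T : Finset (Ideal B) := hfin.toFinset.filter fun 𝔮 => b ∉ 𝔮
  have hT : ∀ 𝔮 ∈ T, 𝔮 ∈ I.minimalPrimes ∧ b ∉ 𝔮 := by
    intro 𝔮 h𝔮
    rw [Finset.mem_filter, Set.Finite.mem_toFinset] at h𝔮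
    exact h𝔮
  -- the condition attached to a minimal prime
  let Q : Ideal B → PrimeSpectrum A → Prop := fun 𝔮 x => ∀ 𝔯 : PrimeSpectrum B,
      𝔯 ∈ zeroLocus (𝔮 : Set B) → comap (algebraMap A B) 𝔯 = x →
      𝔯 ∈ closure (({q : PrimeSpectrum B | b ∉ q.asIdeal} ∩ zeroLocus (𝔮 : Set B)) ∩
        comap (algebraMap A B) ⁻¹' {x})
  have hQ : ∀ 𝔮 ∈ T, ∃ g : A, g ∉ 𝔭.asIdeal ∧ ∀ x : PrimeSpectrum A, g ∉ x.asIdeal → Q 𝔮 x := by
    intro 𝔮 h𝔮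
    obtain ⟨hmin, hb⟩ := hT 𝔮 h𝔮
    haveI : 𝔮.IsPrime := hmin.1.1
    have hle : 𝔭 ≤ comap (algebraMap A B) ⟨𝔮, inferInstance⟩ := by
      intro a ha
      show algebraMap A B a ∈ 𝔮
      exact hmin.1.2 (hI (Ideal.mem_map_of_mem _ ha))
    exact exists_mem_closure_of_prime' A B 𝔭 ⟨𝔮, inferInstance⟩ hle b hb
  obtain ⟨g, hg, H⟩ := exists_forall_of_finset T 𝔭.asIdeal Q hQ
  refine ⟨g, hg, fun x hx => ?_⟩
  rintro 𝔯 ⟨h𝔯cl, h𝔯x⟩
  -- `W` is contained in the union of the `V(𝔮)`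
  have hsub : {q : PrimeSpectrum B | b ∉ q.asIdeal} ∩ zeroLocus (I : Set B) ⊆
      ⋃ 𝔮 ∈ T, zeroLocus (𝔮 : Set B) := by
    rintro y ⟨hyb, hyI⟩
    obtain ⟨𝔮, h𝔮min, h𝔮le⟩ := Ideal.exists_minimalPrimes_le
      (show I ≤ y.asIdeal from hyI)
    have hb𝔮 : b ∉ 𝔮 := fun h => hyb (h𝔮le h)
    have h𝔮T : 𝔮 ∈ T := by
      rw [Finset.mem_filter, Set.Finite.mem_toFinset]
      exact ⟨h𝔮min, hb𝔮⟩
    exact Set.mem_biUnion h𝔮T h𝔮le
  have hclosed : IsClosed (⋃ 𝔮 ∈ T, zeroLocus (𝔮 : Set B)) :=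
    T.finite_toSet.isClosed_biUnion fun 𝔮 _ => isClosed_zeroLocus _
  have h1 : 𝔯 ∈ ⋃ 𝔮 ∈ T, zeroLocus (𝔮 : Set B) := (closure_minimal hsub hclosed) h𝔯cl
  obtain ⟨𝔮, h𝔮T, h𝔯𝔮⟩ := Set.mem_iUnion₂.mp h1
  have h2 := H x hx 𝔮 h𝔮T 𝔯 h𝔯𝔮 h𝔯x
  refine closure_mono ?_ h2
  rintro y ⟨⟨hyb, hy𝔮⟩, hyx⟩
  refine ⟨⟨hyb, ?_⟩, hyx⟩
  exact fun a ha => hy𝔮 ((hT 𝔮 h𝔮T).1.1.2 ha)

/-- **generic commutation of closure with fibres** for constructible sets -/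
theorem exists_closure_inter_fibre_subset (𝔭 : PrimeSpectrum A) (Z : Set (PrimeSpectrum B))
    (hZ : IsConstructible Z) :
    ∃ g : A, g ∉ 𝔭.asIdeal ∧ ∀ x : PrimeSpectrum A, g ∉ x.asIdeal → 𝔭 ≤ x →
      closure (Z ∩ comap (algebraMap A B) ⁻¹' zeroLocus (𝔭.asIdeal : Set A)) ∩
          comap (algebraMap A B) ⁻¹' {x} ⊆
        closure (Z ∩ comap (algebraMap A B) ⁻¹' {x}) := by
  classical
  obtain ⟨S, rfl⟩ := exists_constructibleSetData_iff.mpr hZ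
  let J : Ideal B := 𝔭.asIdeal.map (algebraMap A B)
  let W : BasicConstructibleSetData B → Set (PrimeSpectrum B) := fun C =>
    {q : PrimeSpectrum B | C.f ∉ q.asIdeal} ∩ zeroLocus ((Ideal.span (Set.range C.g) ⊔ J : Ideal B) : Set B)
  have hW : S.toSet ∩ comap (algebraMap A B) ⁻¹' zeroLocus (𝔭.asIdeal : Set A) = ⋃ C ∈ S, W C := by
    ext y
    have hJ : J ≤ y.asIdeal ↔ y ∈ comap (algebraMap A B) ⁻¹' zeroLocus (𝔭.asIdeal : Set A) := by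
      rw [Ideal.map_le_iff_le_comap]
      rfl
    have hWC : ∀ C : BasicConstructibleSetData B, y ∈ W C ↔ (y ∈ C.toSet ∧ J ≤ y.asIdeal) := by
      intro C
      show (C.f ∉ y.asIdeal ∧ y ∈ zeroLocus _) ↔
        ((y ∈ zeroLocus (Set.range C.g) ∧ y ∉ zeroLocus {C.f}) ∧ _)
      rw [mem_zeroLocus, SetLike.coe_subset_coe, sup_le_iff, Ideal.span_le, mem_zeroLocus,
        mem_zeroLocus, Set.singleton_subset_iff]
      tauto
    constructor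
    · rintro ⟨hyS, hy𝔭⟩
      obtain ⟨C, hC, hyC⟩ := Set.mem_iUnion₂.mp hyS
      exact Set.mem_biUnion hC ((hWC C).mpr ⟨hyC, hJ.mpr hy𝔭⟩)
    · intro hy
      obtain ⟨C, hC, hyC⟩ := Set.mem_iUnion₂.mp hy
      obtain ⟨h1, h2⟩ := (hWC C).mp hyC
      exact ⟨Set.mem_biUnion hC h1, hJ.mp h2⟩
  let Q : BasicConstructibleSetData B → PrimeSpectrum A → Prop := fun C x =>
    closure (W C) ∩ comap (algebraMap A B) ⁻¹' {x} ⊆
      closure (W C ∩ comap (algebraMap A B) ⁻¹' {x})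
  have hQ : ∀ C ∈ S, ∃ g : A, g ∉ 𝔭.asIdeal ∧ ∀ x : PrimeSpectrum A, g ∉ x.asIdeal → Q C x :=
    fun C _ => exists_closure_inter_fibre_subset_basic A B 𝔭 _ le_sup_right C.f
  obtain ⟨g, hg, H⟩ := exists_forall_of_finset S 𝔭.asIdeal Q hQ
  refine ⟨g, hg, fun x hx h𝔭x => ?_⟩
  rw [hW, Finset.closure_biUnion]
  rintro 𝔯 ⟨h𝔯, h𝔯x⟩
  obtain ⟨C, hC, h𝔯C⟩ := Set.mem_iUnion₂.mp h𝔯
  have h1 := H x hx C hC ⟨h𝔯C, h𝔯x⟩
  refine closure_mono ?_ h1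
  rintro y ⟨hyW, hyx⟩
  refine ⟨?_, hyx⟩
  have : y ∈ ⋃ C ∈ S, W C := Set.mem_biUnion hC hyW
  rw [← hW] at this
  exact this.1

end Noeth

end Groth.Agent.Lib.Seat15.FibGeneric
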