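import Mathlib

/-!
# Loci in the base defined by a topological property of the fibres (seat 15)

For a predicate `P` on triples (space `Y`, two subsets of `Y`) and a map `f : X → S` with two
subsets `Z Z' ⊆ X`, `FibLocus P f Z Z'` is the set of `s ∈ S` such that `P` holds for the fibre
`f⁻¹(s)` (with the induced topology) and the traces of `Z`, `Z'`.

`OpenLocal P` says that `P` is local for jointly surjective families of open continuous maps.
It holds for density (`PDense`), closedness (`PClosed`), openness (`POpen`) and local closedness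
(`PLocClosed`).

`preimage_fibLocus` is the general base change / covering formula.
-/

set_option autoImplicit false
set_option linter.dupNamespace false
universe u

namespace Groth.Agent.Lib.Seat15.FibLocus

open Topology Set

/-- predicates on (space, subset, subset) -/
abbrev Pred := ∀ (Y : Type u) [TopologicalSpace Y], Set Y → Set Y → Prop

/-- the locus of points of the base whose fibre satisfies `P` -/
def FibLocus (P : Pred.{u}) {X S : Type u} [TopologicalSpace X] (f : X → S) (Z Z' : Set X) :
    Set S :=
  {s | P ↥(f ⁻¹' {s}) (Subtype.val ⁻¹' Z) (Subtype.val ⁻¹' Z')}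

/-- locality for the "open map topology" -/
structure OpenLocal (P : Pred.{u}) : Prop where
  iff_cover : ∀ {Y : Type u} [TopologicalSpace Y] {K : Type u} (Yk : K → Type u)
    [∀ k, TopologicalSpace (Yk k)] (e : ∀ k, Yk k → Y), (∀ k, Continuous (e k)) →
    (∀ k, IsOpenMap (e k)) → (∀ y, ∃ k, y ∈ Set.range (e k)) → ∀ W W' : Set Y,
    (P Y W W' ↔ ∀ k, P (Yk k) (e k ⁻¹' W) (e k ⁻¹' W'))

section Preds

/-- `W` is dense in `W'` -/
def PDense : Pred.{u} := fun _ _ W W' => W' ⊆ closure W
/-- `W` is closed -/
def PClosed : Pred.{u} := fun _ _ W _ => IsClosed W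
/-- `W` is open -/
def POpen : Pred.{u} := fun _ _ W _ => IsOpen W
/-- `W` is locally closed -/
def PLocClosed : Pred.{u} := fun _ _ W _ => IsLocallyClosed W

theorem openLocal_pDense : OpenLocal PDense.{u} where
  iff_cover := by
    intro Y _ K Yk _ e hc ho hs W W'
    constructor
    · intro h k
      show e k ⁻¹' W' ⊆ closure (e k ⁻¹' W)
      rw [← (ho k).preimage_closure_eq_closure_preimage (hc k)]
      exact Set.preimage_mono h
    · intro h y hy
      obtain ⟨k, y', rfl⟩ := hs y
      have h1 : y' ∈ closure (e k ⁻¹' W) := h k hy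
      rw [← (ho k).preimage_closure_eq_closure_preimage (hc k)] at h1
      exact h1

theorem openLocal_pOpen : OpenLocal POpen.{u} where
  iff_cover := by
    intro Y _ K Yk _ e hc ho hs W W'
    constructor
    · intro h k
      exact (h : IsOpen W).preimage (hc k)
    · intro h
      have hW : W = ⋃ k, e k '' (e k ⁻¹' W) := by
        ext y
        constructor
        · intro hy
          obtain ⟨k, y', rfl⟩ := hs y
          exact Set.mem_iUnion.mpr ⟨k, y', hy, rfl⟩
        · intro hy
          obtain ⟨k, y', hy', rfl⟩ := Set.mem_iUnion.mp hy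
          exact hy'
      show IsOpen W
      rw [hW]
      exact isOpen_iUnion fun k => ho k _ (h k)

theorem openLocal_pClosed : OpenLocal PClosed.{u} where
  iff_cover := by
    intro Y _ K Yk _ e hc ho hs W W'
    have := openLocal_pOpen.iff_cover Yk e hc ho hs Wᶜ W'
    show IsClosed W ↔ ∀ k, IsClosed (e k ⁻¹' W)
    rw [← isOpen_compl_iff]
    simp only [← isOpen_compl_iff, ← Set.preimage_compl]
    exact this

theorem openLocal_pLocClosed : OpenLocal PLocClosed.{u} where
  iff_cover := by
    intro Y _ K Yk _ e hc ho hs W W'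
    have := openLocal_pOpen.iff_cover Yk e hc ho hs (coborder W) W'
    show IsLocallyClosed W ↔ ∀ k, IsLocallyClosed (e k ⁻¹' W)
    simp only [isLocallyClosed_iff_isOpen_coborder]
    have h2 : ∀ k, coborder (e k ⁻¹' W) = e k ⁻¹' coborder W :=
      fun k => coborder_preimage (ho k) (hc k) W
    simp only [h2]
    exact this

end Preds

section BaseChange

variable {P : Pred.{u}} {X S S' : Type u} [TopologicalSpace X]
  (f : X → S) (i : S' → S) {K : Type u} (Xk : K → Type u) [∀ k, TopologicalSpace (Xk k)]
  (j : ∀ k, Xk k → X) (fk : ∀ k, Xk k → S')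

/-- the map induced on the fibres -/
def fibMap (hcomm : ∀ k x, f (j k x) = i (fk k x)) (k : K) (s' : S') :
    ↥(fk k ⁻¹' {s'}) → ↥(f ⁻¹' {i s'}) :=
  fun x => ⟨j k x.1, by
    have h : fk k x.1 = s' := x.2
    show f (j k x.1) = i s'
    rw [hcomm, h]⟩

theorem preimage_fibLocus (hP : OpenLocal P) (hcomm : ∀ k x, f (j k x) = i (fk k x))
    (hj : ∀ k, Continuous (j k))
    (hopen : ∀ k s', IsOpenMap (fibMap f i Xk j fk hcomm k s'))
    (hsurj : ∀ s' x, f x = i s' → ∃ k x', fk k x' = s' ∧ j k x' = x) (Z Z' : Set X) :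
    i ⁻¹' FibLocus P f Z Z' = ⋂ k, FibLocus P (fk k) (j k ⁻¹' Z) (j k ⁻¹' Z') := by
  ext s'
  simp only [Set.mem_preimage, Set.mem_iInter, FibLocus, Set.mem_ofPred_eq]
  refine hP.iff_cover (fun k => ↥(fk k ⁻¹' {s'})) (fun k => fibMap f i Xk j fk hcomm k s')
    (fun k => ?_) (fun k => hopen k s') (fun y => ?_) _ _
  · exact Continuous.subtype_mk ((hj k).comp continuous_subtype_val) _
  · obtain ⟨k, x', hx', hx⟩ := hsurj s' y.1 y.2
    exact ⟨k, ⟨x', hx'⟩, Subtype.ext hx⟩

end BaseChange

end Groth.Agent.Lib.Seat15.FibLocus
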