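import Mathlib
import Groth.Agent.Lib.Seat15FibLocus
import Groth.Agent.Lib.Seat15FibGeneric
import Groth.Agent.Lib.Helper5LocusGeneric

/-!
# Constructibility of fibrewise topological loci: the Noetherian case (seat 15)

`A` Noetherian, `B` an `A`-algebra of finite presentation, `f : Spec B → Spec A`, `Z Z'`
constructible subsets of `Spec B`.  The sets of `s ∈ Spec A` such that `Z_s` is dense in `Z'_s`,
resp. `Z_s` is closed / open / locally closed in the fibre `f⁻¹(s)`, are constructible.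
-/

set_option autoImplicit false
set_option linter.style.haveILetI false
universe u

namespace Groth.Agent.Lib.Seat15.FibNoeth

open PrimeSpectrum Topology Groth.Agent.Lib.Seat15.FibLocus Groth.Agent.Lib.Seat15.FibGeneric
  Groth.Agent.Lib.Helper5.LocusGeneric

section Top

variable {X S : Type u} [TopologicalSpace X] (f : X → S) (Z Z' : Set X)

theorem mem_fibLocus_pDense (s : S) :
    s ∈ FibLocus PDense f Z Z' ↔ Z' ∩ f ⁻¹' {s} ⊆ closure (Z ∩ f ⁻¹' {s}) := by
  show (Subtype.val ⁻¹' Z' : Set ↥(f ⁻¹' {s})) ⊆ closure (Subtype.val ⁻¹' Z) ↔ _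
  constructor
  · rintro h x ⟨hxZ', hxs⟩
    have h1 : (⟨x, hxs⟩ : ↥(f ⁻¹' {s})) ∈ closure (Subtype.val ⁻¹' Z) := h hxZ'
    rw [closure_subtype, Subtype.image_preimage_coe, Set.inter_comm] at h1
    exact h1
  · rintro h ⟨x, hxs⟩ hxZ'
    rw [closure_subtype, Subtype.image_preimage_coe, Set.inter_comm]
    exact h ⟨hxZ', hxs⟩

theorem mem_fibLocus_pClosed (s : S) :
    s ∈ FibLocus PClosed f Z Z' ↔ closure (Z ∩ f ⁻¹' {s}) ∩ f ⁻¹' {s} ⊆ Z := by
  show IsClosed (Subtype.val ⁻¹' Z : Set ↥(f ⁻¹' {s})) ↔ _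
  rw [← closure_subset_iff_isClosed]
  constructor
  · rintro h x ⟨hxcl, hxs⟩
    have h1 : (⟨x, hxs⟩ : ↥(f ⁻¹' {s})) ∈ closure (Subtype.val ⁻¹' Z) := by
      rw [closure_subtype, Subtype.image_preimage_coe, Set.inter_comm]
      exact hxcl
    exact h h1
  · rintro h ⟨x, hxs⟩ hx
    rw [closure_subtype, Subtype.image_preimage_coe, Set.inter_comm] at hx
    exact h ⟨hx, hxs⟩

theorem fibLocus_pOpen : FibLocus POpen f Z Z' = FibLocus PClosed f Zᶜ Z' := by
  ext s
  show IsOpen (Subtype.val ⁻¹' Z : Set ↥(f ⁻¹' {s})) ↔ IsClosed (Subtype.val ⁻¹' Zᶜ)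
  rw [Set.preimage_compl, isClosed_compl_iff]

/-- local closedness in the fibre, in terms of closedness of the border -/
theorem mem_fibLocus_pLocClosed (s : S) (W : Set X)
    (hW : W ∩ f ⁻¹' {s} = (closure (Z ∩ f ⁻¹' {s}) \ Z) ∩ f ⁻¹' {s}) :
    s ∈ FibLocus PLocClosed f Z Z' ↔ s ∈ FibLocus PClosed f W Z' := by
  show IsLocallyClosed (Subtype.val ⁻¹' Z : Set ↥(f ⁻¹' {s})) ↔ IsClosed (Subtype.val ⁻¹' W)
  rw [isLocallyClosed_iff_isOpen_coborder, coborder, isOpen_compl_iff]
  have : closure (Subtype.val ⁻¹' Z : Set ↥(f ⁻¹' {s})) \ (Subtype.val ⁻¹' Z) =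
      Subtype.val ⁻¹' W := by
    ext ⟨x, hxs⟩
    have h1 : x ∈ W ↔ x ∈ closure (Z ∩ f ⁻¹' {s}) \ Z := by
      have := Set.ext_iff.mp hW x
      simp only [Set.mem_inter_iff, hxs, and_true] at this
      exact this
    simp only [Set.mem_sdiff, Set.mem_preimage, h1, closure_subtype, Subtype.image_preimage_coe,
      Set.inter_comm]
  rw [this]

end Top

section Noeth

variable (A B : Type u) [CommRing A] [CommRing B] [Algebra A B] [IsNoetherianRing A]
  [Algebra.FinitePresentation A B]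

/-- Noetherian induction in the form used below -/
theorem isConstructible_of_generic (E : Set (PrimeSpectrum A))
    (h : ∀ 𝔭 : PrimeSpectrum A, ∃ g : A, g ∉ 𝔭.asIdeal ∧
      IsConstructible (E ∩ (zeroLocus (𝔭.asIdeal : Set A) ∩ {x | g ∉ x.asIdeal}))) :
    IsConstructible E := by
  refine isConstructible_of_forall_irreducible (id : PrimeSpectrum A → PrimeSpectrum A) E ?_
  intro T hTc hTi
  have hprime : (vanishingIdeal T).IsPrime := isIrreducible_iff_vanishingIdeal_isPrime.mp hTi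
  let 𝔭 : PrimeSpectrum A := ⟨vanishingIdeal T, hprime⟩
  have hT : T = zeroLocus (𝔭.asIdeal : Set A) := by
    show T = zeroLocus ((vanishingIdeal T : Ideal A) : Set A)
    rw [zeroLocus_vanishingIdeal_eq_closure, hTc.closure_eq]
  obtain ⟨g, hg, hc⟩ := h 𝔭
  refine ⟨{x | g ∉ x.asIdeal}, (basicOpen g).isOpen, ⟨𝔭, ?_, hg⟩, ?_⟩
  · rw [hT]
    exact fun a ha => ha
  · rw [Set.preimage_id, hT]
    exact hc

variable {A B}

private lemma isConstructible_piece (𝔭 : PrimeSpectrum A) (g : A) :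
    IsConstructible (zeroLocus (𝔭.asIdeal : Set A) ∩ {x : PrimeSpectrum A | g ∉ x.asIdeal}) := by
  refine IsConstructible.inter ?_ ?_
  · rw [← isConstructible_compl]
    exact IsOpen.isConstructible_of_noetherianSpace (isClosed_zeroLocus _).isOpen_compl
  · exact IsOpen.isConstructible_of_noetherianSpace (basicOpen g).isOpen

private lemma isConstructible_closure [IsNoetherianRing B] (W : Set (PrimeSpectrum B)) :
    IsConstructible (closure W) := by
  rw [← isConstructible_compl]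
  exact IsOpen.isConstructible_of_noetherianSpace isClosed_closure.isOpen_compl

variable (A B)

theorem isConstructible_fibLocus_pDense (Z Z' : Set (PrimeSpectrum B)) (hZ : IsConstructible Z)
    (hZ' : IsConstructible Z') :
    IsConstructible (FibLocus PDense (comap (algebraMap A B)) Z Z') := by
  haveI : Algebra.FiniteType A B := Algebra.FiniteType.of_finitePresentation
  haveI : IsNoetherianRing B := Algebra.FiniteType.isNoetherianRing A B
  refine isConstructible_of_generic A _ fun 𝔭 => ?_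
  obtain ⟨g, hg, H⟩ := exists_closure_inter_fibre_subset A B 𝔭 Z hZ
  refine ⟨g, hg, ?_⟩
  set V := zeroLocus (𝔭.asIdeal : Set A) with hV
  set f := comap (algebraMap A B) with hf
  have hfp : (algebraMap A B).FinitePresentation :=
    RingHom.finitePresentation_algebraMap.mpr inferInstance
  have key : FibLocus PDense f Z Z' ∩ (V ∩ {x | g ∉ x.asIdeal}) =
      (V ∩ {x | g ∉ x.asIdeal}) \ (f '' (Z' \ closure (Z ∩ f ⁻¹' V))) := by
    ext x
    simp only [Set.mem_inter_iff, Set.mem_sdiff, mem_fibLocus_pDense]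
    constructor
    · rintro ⟨hE, hxV, hxg⟩
      refine ⟨⟨hxV, hxg⟩, ?_⟩
      rintro ⟨y, ⟨hyZ', hycl⟩, rfl⟩
      apply hycl
      have h1 : y ∈ closure (Z ∩ f ⁻¹' {f y}) := hE ⟨hyZ', rfl⟩
      refine closure_mono ?_ h1
      rintro z ⟨hzZ, hzf⟩
      refine ⟨hzZ, ?_⟩
      show f z ∈ V
      rw [show f z = f y from hzf]
      exact hxV
    · rintro ⟨⟨hxV, hxg⟩, hx⟩
      refine ⟨?_, hxV, hxg⟩
      rintro y ⟨hyZ', hyx⟩
      have hycl : y ∈ closure (Z ∩ f ⁻¹' V) := by
        by_contra hcon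
        exact hx ⟨y, ⟨hyZ', hcon⟩, hyx⟩
      exact H x hxg hxV ⟨hycl, hyx⟩
  rw [key]
  refine (isConstructible_piece 𝔭 g).sdiff ?_
  exact isConstructible_comap_image hfp (hZ'.sdiff (isConstructible_closure _))

theorem isConstructible_fibLocus_pClosed (Z Z' : Set (PrimeSpectrum B)) (hZ : IsConstructible Z) :
    IsConstructible (FibLocus PClosed (comap (algebraMap A B)) Z Z') := by
  haveI : Algebra.FiniteType A B := Algebra.FiniteType.of_finitePresentation
  haveI : IsNoetherianRing B := Algebra.FiniteType.isNoetherianRing A B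
  refine isConstructible_of_generic A _ fun 𝔭 => ?_
  obtain ⟨g, hg, H⟩ := exists_closure_inter_fibre_subset A B 𝔭 Z hZ
  refine ⟨g, hg, ?_⟩
  set V := zeroLocus (𝔭.asIdeal : Set A) with hV
  set f := comap (algebraMap A B) with hf
  have hfp : (algebraMap A B).FinitePresentation :=
    RingHom.finitePresentation_algebraMap.mpr inferInstance
  have key : FibLocus PClosed f Z Z' ∩ (V ∩ {x | g ∉ x.asIdeal}) =
      (V ∩ {x | g ∉ x.asIdeal}) \ (f '' (closure (Z ∩ f ⁻¹' V) \ Z)) := by
    ext x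
    simp only [Set.mem_inter_iff, Set.mem_sdiff, mem_fibLocus_pClosed]
    constructor
    · rintro ⟨hE, hxV, hxg⟩
      refine ⟨⟨hxV, hxg⟩, ?_⟩
      rintro ⟨y, ⟨hycl, hyZ⟩, rfl⟩
      apply hyZ
      exact hE ⟨H (f y) hxg hxV ⟨hycl, rfl⟩, rfl⟩
    · rintro ⟨⟨hxV, hxg⟩, hx⟩
      refine ⟨?_, hxV, hxg⟩
      rintro y ⟨hycl, hyx⟩
      by_contra hyZ
      apply hx
      refine ⟨y, ⟨?_, hyZ⟩, hyx⟩
      refine closure_mono ?_ hycl
      rintro z ⟨hzZ, hzf⟩
      refine ⟨hzZ, ?_⟩
      show f z ∈ V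
      rw [show f z = x from hzf]
      exact hxV
  rw [key]
  refine (isConstructible_piece 𝔭 g).sdiff ?_
  exact isConstructible_comap_image hfp ((isConstructible_closure _).sdiff hZ)

theorem isConstructible_fibLocus_pOpen (Z Z' : Set (PrimeSpectrum B)) (hZ : IsConstructible Z) :
    IsConstructible (FibLocus POpen (comap (algebraMap A B)) Z Z') := by
  rw [fibLocus_pOpen]
  exact isConstructible_fibLocus_pClosed A B _ _ hZ.compl

theorem isConstructible_fibLocus_pLocClosed (Z Z' : Set (PrimeSpectrum B))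
    (hZ : IsConstructible Z) :
    IsConstructible (FibLocus PLocClosed (comap (algebraMap A B)) Z Z') := by
  haveI : Algebra.FiniteType A B := Algebra.FiniteType.of_finitePresentation
  haveI : IsNoetherianRing B := Algebra.FiniteType.isNoetherianRing A B
  refine isConstructible_of_generic A _ fun 𝔭 => ?_
  obtain ⟨g, hg, H⟩ := exists_closure_inter_fibre_subset A B 𝔭 Z hZ
  refine ⟨g, hg, ?_⟩
  set V := zeroLocus (𝔭.asIdeal : Set A) with hV
  set f := comap (algebraMap A B) with hf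
  let W : Set (PrimeSpectrum B) := closure (Z ∩ f ⁻¹' V) \ Z
  have hWc : IsConstructible W := (isConstructible_closure _).sdiff hZ
  have key : FibLocus PLocClosed f Z Z' ∩ (V ∩ {x | g ∉ x.asIdeal}) =
      FibLocus PClosed f W Z' ∩ (V ∩ {x | g ∉ x.asIdeal}) := by
    ext x
    simp only [Set.mem_inter_iff]
    refine and_congr_left fun ⟨hxV, hxg⟩ => ?_
    refine mem_fibLocus_pLocClosed f Z Z' x W ?_
    ext y
    simp only [Set.mem_inter_iff, Set.mem_sdiff, W]
    constructor
    · rintro ⟨⟨hycl, hyZ⟩, hyx⟩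
      exact ⟨⟨H x hxg hxV ⟨hycl, hyx⟩, hyZ⟩, hyx⟩
    · rintro ⟨⟨hycl, hyZ⟩, hyx⟩
      refine ⟨⟨?_, hyZ⟩, hyx⟩
      refine closure_mono ?_ hycl
      rintro z ⟨hzZ, hzf⟩
      refine ⟨hzZ, ?_⟩
      show f z ∈ V
      rw [show f z = x from hzf]
      exact hxV
  rw [key]
  exact (isConstructible_fibLocus_pClosed A B W Z' hWc).inter (isConstructible_piece 𝔭 g)

end Noeth

end Groth.Agent.Lib.Seat15.FibNoeth
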