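import Mathlib
import Groth.Agent.Lib.Seat15ExactLocus
import Groth.Agent.Lib.Seat15ExactKey
import Groth.Agent.Lib.Seat15FibNoeth

/-!
# Constructibility of the locus of fibrewise exactness over a Noetherian base (seat 15)

* `exists_forall_mem_locus_iff`: over a Noetherian domain, fibrewise exactness of a matrix sequence
  is constant on a nonempty basic open set.
* `isConstructible_locus`: the locus is constructible over a Noetherian ring.
-/

set_option autoImplicit false
set_option linter.style.haveILetI false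
set_option linter.unusedSectionVars false
universe u

namespace Groth.Agent.Lib.Seat15.ExactNoeth

open TensorProduct Matrix PrimeSpectrum Topology Groth.Agent.Lib.Seat15.ExactMat
  Groth.Agent.Lib.Seat15.ExactLocus Groth.Agent.Lib.Seat15.ExactKey
  Groth.Agent.Lib.Helper2.GenFree

variable {α β γ δ : Type} [Fintype α] [Fintype β] [Fintype γ] [Fintype δ]

section abstract

variable {R : Type*} [CommRing R] {F G H I H₁ H₂ C N J : Type*}
  [AddCommGroup F] [Module R F] [AddCommGroup G] [Module R G] [AddCommGroup H] [Module R H]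
  [AddCommGroup I] [Module R I] [AddCommGroup H₁] [Module R H₁] [AddCommGroup H₂] [Module R H₂]
  [AddCommGroup C] [Module R C] [AddCommGroup N] [Module R N] [AddCommGroup J] [Module R J]

/-- the key criterion combined with generic freeness -/
theorem exactAt_iff_of_freeAway (f : R) (u : F →ₗ[R] G) (v : G →ₗ[R] H)
    (w : F →ₗ[R] I) (hw : Function.Surjective w) (i : I →ₗ[R] H) (hi : Function.Injective i)
    (hiw : ∀ x, i (w x) = v (u x))
    (qI : H →ₗ[R] H₁) (hqI : Function.Surjective qI) (hexI : Function.Exact i qI)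
    (qC : G →ₗ[R] C) (hqC : Function.Surjective qC) (hexC : Function.Exact u qC)
    (vb : C →ₗ[R] H₁) (hvb : ∀ g, vb (qC g) = qI (v g))
    (n : N →ₗ[R] C) (hn : Function.Injective n) (vb' : C →ₗ[R] J)
    (hvb' : Function.Surjective vb')
    (hexN : Function.Exact n vb') (j : J →ₗ[R] H₁) (hjinj : Function.Injective j)
    (hj : ∀ c, j (vb' c) = vb c)
    (qJ : H₁ →ₗ[R] H₂) (hqJ : Function.Surjective qJ) (hexJ : Function.Exact j qJ)
    (hF₁ : FreeAway R f H₁) (hF₂ : FreeAway R f H₂) (hF₃ : FreeAway R f J)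
    (hF₄ : FreeAway R f I) (hF₅ : FreeAway R f N)
    (κ : Type*) [CommRing κ] [Nontrivial κ] [Algebra R κ] (hκ : IsUnit (algebraMap R κ f)) :
    ExactAt u v κ ↔ Subsingleton (Localization.Away f ⊗[R] I) ∧
      Subsingleton (Localization.Away f ⊗[R] N) := by
  rw [exactAt_iff_subsingleton u v w hw i hiw qI hqI hexI qC hqC hexC vb hvb n vb' hvb' hexN j hj κ
    (injective_lTensor_of_freeAway f i hi qI hqI hexI hF₁ κ hκ)
    (injective_lTensor_of_freeAway f j hjinj qJ hqJ hexJ hF₂ κ hκ)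
    (injective_lTensor_of_freeAway f n hn vb' hvb' hexN hF₃ κ hκ),
    subsingleton_tensor_iff_of_freeAway f hF₄ κ hκ, subsingleton_tensor_iff_of_freeAway f hF₅ κ hκ]

end abstract

section finite

variable {A : Type*} [CommRing A] {X Y : Type*} [AddCommGroup X] [Module A X] [AddCommGroup Y]
  [Module A Y]

theorem exact_ker_subtype_rangeRestrict (g : X →ₗ[A] Y) :
    Function.Exact (LinearMap.ker g).subtype g.rangeRestrict := by
  intro c
  rw [Submodule.coe_subtype, Subtype.range_coe_subtype]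
  constructor
  · intro hc
    exact LinearMap.mem_ker.mpr (congrArg Subtype.val hc)
  · intro hc
    exact Subtype.ext (LinearMap.mem_ker.mp hc)

end finite

/-- Over a Noetherian domain, fibrewise exactness of a sequence of finite modules over an algebra of
finite type is constant on a nonempty basic open set. -/
theorem exists_forall_exactAt_iff (R B : Type u) [CommRing R] [IsDomain R] [IsNoetherianRing R]
    [CommRing B] [Algebra R B] [Algebra.FiniteType R B] {F G H : Type u}
    [AddCommGroup F] [Module R F] [Module B F] [IsScalarTower R B F] [Module.Finite B F]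
    [AddCommGroup G] [Module R G] [Module B G] [IsScalarTower R B G] [Module.Finite B G]
    [AddCommGroup H] [Module R H] [Module B H] [IsScalarTower R B H] [Module.Finite B H]
    (u : F →ₗ[B] G) (v : G →ₗ[B] H) :
    ∃ f : R, f ≠ 0 ∧ ∃ P : Prop, ∀ (κ : Type u) [CommRing κ] [Nontrivial κ] [Algebra R κ],
      IsUnit (algebraMap R κ f) →
        (ExactAt (u.restrictScalars R) (v.restrictScalars R) κ ↔ P) := by
  classical
  haveI : IsNoetherianRing B := Algebra.FiniteType.isNoetherianRing R B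
  have hle : LinearMap.range u ≤ LinearMap.ker ((LinearMap.range (v ∘ₗ u)).mkQ ∘ₗ v) := by
    rintro _ ⟨x, rfl⟩
    rw [LinearMap.mem_ker, LinearMap.comp_apply, Submodule.mkQ_apply,
      Submodule.Quotient.mk_eq_zero]
    exact ⟨x, rfl⟩
  obtain ⟨vb, hvbdef⟩ : ∃ vb : (G ⧸ LinearMap.range u) →ₗ[B] (H ⧸ LinearMap.range (v ∘ₗ u)),
      vb = (LinearMap.range u).liftQ ((LinearMap.range (v ∘ₗ u)).mkQ ∘ₗ v) hle := ⟨_, rfl⟩
  have hvb : ∀ g, vb ((LinearMap.range u).mkQ g) = (LinearMap.range (v ∘ₗ u)).mkQ (v g) := by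
    intro g
    rw [hvbdef]
    rfl
  obtain ⟨f₁, hf₁, -, hF₁, -, -⟩ := exists_freeAway R B (H ⧸ LinearMap.range (v ∘ₗ u))
  obtain ⟨f₂, hf₂, -, hF₂, -, -⟩ :=
    exists_freeAway R B ((H ⧸ LinearMap.range (v ∘ₗ u)) ⧸ LinearMap.range vb)
  obtain ⟨f₃, hf₃, -, hF₃, -, -⟩ := exists_freeAway R B (LinearMap.range vb)
  obtain ⟨f₄, hf₄, -, hF₄, -, -⟩ := exists_freeAway R B (LinearMap.range (v ∘ₗ u))
  obtain ⟨f₅, hf₅, -, hF₅, -, -⟩ := exists_freeAway R B (LinearMap.ker vb)
  obtain ⟨f, hfdef⟩ : ∃ f : R, f = f₁ * f₂ * f₃ * f₄ * f₅ := ⟨_, rfl⟩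
  have hG₁ : FreeAway R f (H ⧸ LinearMap.range (v ∘ₗ u)) := by
    rw [hfdef]
    exact (((hF₁.mul_right f₂).mul_right f₃).mul_right f₄).mul_right f₅
  have hG₂ : FreeAway R f ((H ⧸ LinearMap.range (v ∘ₗ u)) ⧸ LinearMap.range vb) := by
    rw [hfdef]
    exact (((hF₂.mul_left f₁).mul_right f₃).mul_right f₄).mul_right f₅
  have hG₃ : FreeAway R f (LinearMap.range vb) := by
    rw [hfdef]
    exact ((hF₃.mul_left (f₁ * f₂)).mul_right f₄).mul_right f₅
  have hG₄ : FreeAway R f (LinearMap.range (v ∘ₗ u)) := by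
    rw [hfdef]
    exact (hF₄.mul_left (f₁ * f₂ * f₃)).mul_right f₅
  have hG₅ : FreeAway R f (LinearMap.ker vb) := by
    rw [hfdef]
    exact hF₅.mul_left (f₁ * f₂ * f₃ * f₄)
  have hf0 : f ≠ 0 := by
    rw [hfdef]
    exact mul_ne_zero (mul_ne_zero (mul_ne_zero (mul_ne_zero hf₁ hf₂) hf₃) hf₄) hf₅
  refine ⟨f, hf0, Subsingleton (Localization.Away f ⊗[R] LinearMap.range (v ∘ₗ u)) ∧
      Subsingleton (Localization.Away f ⊗[R] LinearMap.ker vb), fun κ _ _ _ hκ => ?_⟩
  refine exactAt_iff_of_freeAway (I := LinearMap.range (v ∘ₗ u))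
    (H₁ := H ⧸ LinearMap.range (v ∘ₗ u))
    (H₂ := (H ⧸ LinearMap.range (v ∘ₗ u)) ⧸ LinearMap.range vb)
    (C := G ⧸ LinearMap.range u) (N := LinearMap.ker vb) (J := LinearMap.range vb)
    f (u.restrictScalars R) (v.restrictScalars R)
    ((v ∘ₗ u).rangeRestrict.restrictScalars R) ?_
    ((LinearMap.range (v ∘ₗ u)).subtype.restrictScalars R) ?_ ?_
    ((LinearMap.range (v ∘ₗ u)).mkQ.restrictScalars R) ?_ ?_
    ((LinearMap.range u).mkQ.restrictScalars R) ?_ ?_ (vb.restrictScalars R) ?_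
    ((LinearMap.ker vb).subtype.restrictScalars R) ?_
    (vb.rangeRestrict.restrictScalars R) ?_ ?_
    ((LinearMap.range vb).subtype.restrictScalars R) ?_ ?_
    ((LinearMap.range vb).mkQ.restrictScalars R) ?_ ?_ hG₁ hG₂ hG₃ hG₄ hG₅ κ hκ
  · exact (v ∘ₗ u).surjective_rangeRestrict
  · exact (LinearMap.range (v ∘ₗ u)).subtype_injective
  · exact fun x => rfl
  · exact Submodule.mkQ_surjective (LinearMap.range (v ∘ₗ u))
  · exact LinearMap.exact_subtype_mkQ (LinearMap.range (v ∘ₗ u))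
  · exact Submodule.mkQ_surjective (LinearMap.range u)
  · exact LinearMap.exact_map_mkQ_range u
  · exact hvb
  · exact (LinearMap.ker vb).subtype_injective
  · exact vb.surjective_rangeRestrict
  · exact exact_ker_subtype_rangeRestrict vb
  · exact (LinearMap.range vb).subtype_injective
  · exact fun c => rfl
  · exact Submodule.mkQ_surjective (LinearMap.range vb)
  · exact LinearMap.exact_subtype_mkQ (LinearMap.range vb)

theorem exists_forall_mem_locus_iff (R B : Type u) [CommRing R] [IsDomain R] [IsNoetherianRing R]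
    [CommRing B] [Algebra R B] [Algebra.FiniteType R B]
    (U : Matrix α β B) (V : Matrix β γ B) (M : Matrix δ γ B) :
    ∃ f : R, f ≠ 0 ∧ ∃ P : Prop, ∀ p : PrimeSpectrum R, f ∉ p.asIdeal →
      (p ∈ locus R U V M ↔ P) := by
  obtain ⟨f, hf, P, hP⟩ := exists_forall_exactAt_iff R B U.vecMulLinear
    ((LinearMap.range M.vecMulLinear).mkQ ∘ₗ V.vecMulLinear)
  refine ⟨f, hf, P, fun p hp => ?_⟩
  have hκ : IsUnit (algebraMap R p.asIdeal.ResidueField f) := by
    rw [isUnit_iff_ne_zero, Ne, Ideal.algebraMap_residueField_eq_zero]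
    exact hp
  show MExactAt R p.asIdeal.ResidueField U V M ↔ _
  rw [← exactAt_vecMulLinear_iff]
  exact hP p.asIdeal.ResidueField hκ

theorem isConstructible_locus (R B : Type u) [CommRing R] [IsNoetherianRing R]
    [CommRing B] [Algebra R B] [Algebra.FiniteType R B]
    (U : Matrix α β B) (V : Matrix β γ B) (M : Matrix δ γ B) :
    IsConstructible (locus R U V M) := by
  classical
  refine Groth.Agent.Lib.Seat15.FibNoeth.isConstructible_of_generic R _ fun 𝔭 => ?_
  haveI : 𝔭.asIdeal.IsPrime := 𝔭.2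
  obtain ⟨f', hf', P, hP⟩ := exists_forall_mem_locus_iff (R ⧸ 𝔭.asIdeal)
    ((R ⧸ 𝔭.asIdeal) ⊗[R] B) (U.map (incl R B (R ⧸ 𝔭.asIdeal)))
    (V.map (incl R B (R ⧸ 𝔭.asIdeal))) (M.map (incl R B (R ⧸ 𝔭.asIdeal)))
  obtain ⟨g, rfl⟩ := Ideal.Quotient.mk_surjective f'
  have hg : g ∉ 𝔭.asIdeal := fun h => hf' (Ideal.Quotient.eq_zero_iff_mem.mpr h)
  refine ⟨g, hg, ?_⟩
  have hpiece : IsConstructible
      (zeroLocus (𝔭.asIdeal : Set R) ∩ {x : PrimeSpectrum R | g ∉ x.asIdeal}) := by
    refine IsConstructible.inter ?_ ?_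
    · rw [← isConstructible_compl]
      exact Groth.Agent.Lib.Helper5.LocusGeneric.IsOpen.isConstructible_of_noetherianSpace (isClosed_zeroLocus _).isOpen_compl
    · exact Groth.Agent.Lib.Helper5.LocusGeneric.IsOpen.isConstructible_of_noetherianSpace (basicOpen g).isOpen
  have hmem : ∀ x ∈ zeroLocus (𝔭.asIdeal : Set R) ∩ {x : PrimeSpectrum R | g ∉ x.asIdeal},
      (x ∈ locus R U V M ↔ P) := by
    rintro x ⟨hx1, hx2⟩
    have hrange := _root_.range_comap_of_surjective (R ⧸ 𝔭.asIdeal)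
      (Ideal.Quotient.mk 𝔭.asIdeal) Ideal.Quotient.mk_surjective
    rw [Ideal.mk_ker] at hrange
    obtain ⟨x', rfl⟩ : x ∈ Set.range (comap (Ideal.Quotient.mk 𝔭.asIdeal)) := by
      rw [hrange]; exact hx1
    have h1 : Ideal.Quotient.mk 𝔭.asIdeal g ∉ x'.asIdeal := hx2
    rw [← hP x' h1, ← preimage_locus U V M (R ⧸ 𝔭.asIdeal)]
    rfl
  by_cases hPP : P
  · have : locus R U V M ∩ (zeroLocus (𝔭.asIdeal : Set R) ∩ {x | g ∉ x.asIdeal}) =
        zeroLocus (𝔭.asIdeal : Set R) ∩ {x | g ∉ x.asIdeal} := by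
      ext x
      constructor
      · exact fun h => h.2
      · exact fun h => ⟨(hmem x h).mpr hPP, h⟩
    rw [this]
    exact hpiece
  · have : locus R U V M ∩ (zeroLocus (𝔭.asIdeal : Set R) ∩ {x | g ∉ x.asIdeal}) = ∅ := by
      ext x
      constructor
      · exact fun h => hPP ((hmem x h.2).mp h.1)
      · exact fun h => h.elim
    rw [this]
    exact IsConstructible.empty

end Groth.Agent.Lib.Seat15.ExactNoeth
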