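import Mathlib

/-!
# Fibres at field-valued points (seat 15)

Let `B₀` be an `R₀`-algebra and `K` a field which is an `R₀`-algebra, with kernel the prime `pt`.
The natural map `Spec (K ⊗[R₀] B₀) → Spec B₀` lands in the fibre over `pt`, and as a map to this
fibre (with the induced topology) it is continuous, open and surjective.
-/

set_option autoImplicit false
set_option linter.style.haveILetI false
universe u

namespace Groth.Agent.Lib.Seat15.FibFieldExt

open TensorProduct PrimeSpectrum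

variable (R₀ B₀ K : Type u) [CommRing R₀] [CommRing B₀] [Algebra R₀ B₀] [Field K] [Algebra R₀ K]

/-- the point of `Spec R₀` defined by the field `K` -/
noncomputable def pt : PrimeSpectrum R₀ := ⟨RingHom.ker (algebraMap R₀ K), RingHom.ker_isPrime _⟩

/-- the map from the spectrum of the fibre ring to the topological fibre -/
noncomputable def toFib (q : PrimeSpectrum (K ⊗[R₀] B₀)) :
    ↥(comap (algebraMap R₀ B₀) ⁻¹' {pt R₀ K}) :=
  ⟨comap (Algebra.TensorProduct.includeRight (R := R₀) (A := K) (B := B₀)).toRingHom q, by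
    apply PrimeSpectrum.ext
    ext a
    show algebraMap R₀ B₀ a ∈ (comap _ q).asIdeal ↔ a ∈ RingHom.ker (algebraMap R₀ K)
    rw [RingHom.mem_ker]
    show (1 : K) ⊗ₜ[R₀] (algebraMap R₀ B₀ a) ∈ q.asIdeal ↔ _
    have h1 : (1 : K) ⊗ₜ[R₀] (algebraMap R₀ B₀ a) =
        algebraMap K (K ⊗[R₀] B₀) (algebraMap R₀ K a) := by
      rw [Algebra.TensorProduct.algebraMap_apply, Algebra.algebraMap_self_apply,
        Algebra.algebraMap_eq_smul_one (R := R₀) (A := B₀),
        Algebra.algebraMap_eq_smul_one (R := R₀) (A := K), TensorProduct.tmul_smul,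
        TensorProduct.smul_tmul']
    rw [h1]
    constructor
    · intro h
      by_contra hne
      have hu : IsUnit (algebraMap K (K ⊗[R₀] B₀) (algebraMap R₀ K a)) :=
        (isUnit_iff_ne_zero.mpr hne).map _
      exact q.isPrime.ne_top (Ideal.eq_top_of_isUnit_mem _ h hu)
    · intro h
      rw [h, map_zero]
      exact q.asIdeal.zero_mem⟩

theorem toFib_coe (q : PrimeSpectrum (K ⊗[R₀] B₀)) :
    (toFib R₀ B₀ K q).1 =
      comap (Algebra.TensorProduct.includeRight (R := R₀) (A := K) (B := B₀)).toRingHom q := rfl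

theorem continuous_toFib : Continuous (toFib R₀ B₀ K) :=
  Continuous.subtype_mk (continuous_comap _) _

/-- the map from the residue field of `pt` to `K` -/
noncomputable def ρ : (pt R₀ K).asIdeal.ResidueField →+* K :=
  Ideal.ResidueField.lift (pt R₀ K).asIdeal (algebraMap R₀ K) le_rfl
    (fun _ hx => isUnit_iff_ne_zero.mpr fun h => hx h)

theorem isOpenMap_and_surjective_toFib :
    IsOpenMap (toFib R₀ B₀ K) ∧ Function.Surjective (toFib R₀ B₀ K) := by
  letI : Algebra (pt R₀ K).asIdeal.ResidueField K := (ρ R₀ K).toAlgebra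
  haveI : IsScalarTower R₀ (pt R₀ K).asIdeal.ResidueField K :=
    IsScalarTower.of_algebraMap_eq fun x =>
      (Ideal.ResidueField.lift_algebraMap (pt R₀ K).asIdeal (algebraMap R₀ K) le_rfl
        (fun _ hx => isUnit_iff_ne_zero.mpr fun h => hx h) x).symm
  let k := (pt R₀ K).asIdeal.ResidueField
  let C := k ⊗[R₀] B₀
  let D := K ⊗[R₀] B₀
  let ε : K ⊗[k] C ≃ₐ[K] D := Algebra.TensorProduct.cancelBaseChange R₀ k K K B₀
  let cm : C ⊗[k] K ≃ₐ[k] K ⊗[k] C := Algebra.TensorProduct.comm k C K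
  let E : C ⊗[k] K ≃+* D := cm.toRingEquiv.trans ε.toRingEquiv
  let τ' : C →+* D := E.toRingHom.comp (algebraMap C (C ⊗[k] K))
  have hτ' : ∀ b : B₀, τ' ((1 : k) ⊗ₜ[R₀] b) = (1 : K) ⊗ₜ[R₀] b := by
    intro b
    simp only [τ', E, cm, ε, RingEquiv.toRingHom_eq_coe, RingHom.coe_comp, RingHom.coe_coe,
      Function.comp_apply, RingEquiv.coe_trans, AlgEquiv.coe_ringEquiv]
    have h1 : algebraMap C (C ⊗[k] K) ((1 : k) ⊗ₜ[R₀] b) = ((1 : k) ⊗ₜ[R₀] b) ⊗ₜ[k] (1 : K) :=
      Algebra.TensorProduct.algebraMap_apply _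
    rw [h1, Algebra.TensorProduct.comm_tmul, Algebra.TensorProduct.cancelBaseChange_tmul, one_smul]
  let H₀ := PrimeSpectrum.preimageHomeomorphFiber R₀ B₀ (pt R₀ K)
  have hfac : toFib R₀ B₀ K = H₀.symm ∘ comap τ' := by
    funext q
    apply Subtype.ext
    rw [toFib_coe]
    show _ = ((preimageEquivFiber R₀ B₀ (pt R₀ K)).symm (comap τ' q)).1
    rw [preimageEquivFiber_symm_apply_coe]
    ext b
    show (1 : K) ⊗ₜ[R₀] b ∈ q.asIdeal ↔ τ' ((1 : k) ⊗ₜ[R₀] b) ∈ q.asIdeal
    rw [hτ']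
  have hE : IsHomeomorph (comap E.toRingHom) := isHomeomorph_comap_of_bijective E.bijective
  have hopen : IsOpenMap (comap τ') := by
    have h1 : comap τ' = comap (algebraMap C (C ⊗[k] K)) ∘ comap E.toRingHom := by
      funext q
      rfl
    rw [h1]
    exact (isOpenMap_comap_algebraMap_tensorProduct_of_field (K := k) (A := C) (B := K)).comp
      hE.isOpenMap
  have hsurj : Function.Surjective (comap τ') := by
    have h1 : comap τ' = comap (algebraMap C (C ⊗[k] K)) ∘ comap E.toRingHom := by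
      funext q
      rfl
    rw [h1]
    exact (PrimeSpectrum.comap_surjective_of_faithfullyFlat (A := C) (B := C ⊗[k] K)).comp
      hE.surjective
  rw [hfac]
  exact ⟨H₀.symm.isOpenMap.comp hopen, H₀.symm.surjective.comp hsurj⟩

/-- variant for a point given up to equality -/
theorem exists_openSurj (p : PrimeSpectrum R₀) (hp : RingHom.ker (algebraMap R₀ K) = p.asIdeal) :
    ∃ t : PrimeSpectrum (K ⊗[R₀] B₀) → ↥(comap (algebraMap R₀ B₀) ⁻¹' {p}),
      IsOpenMap t ∧ Function.Surjective t ∧ ∀ q, (t q).1 =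
        comap (Algebra.TensorProduct.includeRight (R := R₀) (A := K) (B := B₀)).toRingHom q := by
  obtain rfl : p = pt R₀ K := PrimeSpectrum.ext hp.symm
  exact ⟨toFib R₀ B₀ K, (isOpenMap_and_surjective_toFib R₀ B₀ K).1,
    (isOpenMap_and_surjective_toFib R₀ B₀ K).2, fun _ => rfl⟩

section BaseChange

variable {A₀ A B₀ B : Type u} [CommRing A₀] [CommRing A] [CommRing B₀] [CommRing B]
  [Algebra A₀ A] [Algebra A₀ B₀] [Algebra A B] (e : A ⊗[A₀] B₀ ≃ₐ[A] B)

/-- the ring map `B₀ → B` of a base change -/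
noncomputable def bcMap : B₀ →+* B :=
  (e : A ⊗[A₀] B₀ →+* B).comp
    (Algebra.TensorProduct.includeRight (R := A₀) (A := A) (B := B₀)).toRingHom

theorem bcMap_apply (b : B₀) : bcMap e b = e ((1 : A) ⊗ₜ[A₀] b) := rfl

theorem bcMap_comm (a : A₀) : bcMap e (algebraMap A₀ B₀ a) = algebraMap A B (algebraMap A₀ A a) := by
  rw [bcMap_apply]
  have h1 : (1 : A) ⊗ₜ[A₀] (algebraMap A₀ B₀ a) =
      algebraMap A (A ⊗[A₀] B₀) (algebraMap A₀ A a) := by
    rw [Algebra.TensorProduct.algebraMap_apply, Algebra.algebraMap_self_apply,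
      Algebra.algebraMap_eq_smul_one (R := A₀) (A := B₀),
      Algebra.algebraMap_eq_smul_one (R := A₀) (A := A), TensorProduct.tmul_smul,
      TensorProduct.smul_tmul']
  rw [h1, e.commutes]

theorem fib_open_surj (s : PrimeSpectrum A)
    (Φ : ↥(comap (algebraMap A B) ⁻¹' {s}) →
      ↥(comap (algebraMap A₀ B₀) ⁻¹' {comap (algebraMap A₀ A) s}))
    (hΦ : ∀ x, (Φ x).1 = comap (bcMap e) x.1) : IsOpenMap Φ ∧ Function.Surjective Φ := by
  let κ := s.asIdeal.ResidueField
  have hp : RingHom.ker (algebraMap A₀ κ) = (comap (algebraMap A₀ A) s).asIdeal := by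
    ext a
    rw [RingHom.mem_ker, IsScalarTower.algebraMap_apply A₀ A κ,
      Ideal.algebraMap_residueField_eq_zero]
    rfl
  obtain ⟨t, hto, hts, ht⟩ := exists_openSurj A₀ B₀ κ _ hp
  let Θ₁ : κ ⊗[A] (A ⊗[A₀] B₀) ≃ₐ[κ] κ ⊗[A₀] B₀ :=
    Algebra.TensorProduct.cancelBaseChange A₀ A κ κ B₀
  let Θ₂ : κ ⊗[A] (A ⊗[A₀] B₀) ≃ₐ[κ] κ ⊗[A] B :=
    Algebra.TensorProduct.congr AlgEquiv.refl e
  let Θ : κ ⊗[A₀] B₀ ≃ₐ[κ] κ ⊗[A] B := Θ₁.symm.trans Θ₂
  have hΘ : ∀ b : B₀, Θ ((1 : κ) ⊗ₜ[A₀] b) = (1 : κ) ⊗ₜ[A] (bcMap e b) := by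
    intro b
    simp only [Θ, Θ₁, Θ₂, AlgEquiv.trans_apply,
      Algebra.TensorProduct.cancelBaseChange_symm_tmul, Algebra.TensorProduct.congr_apply,
      Algebra.TensorProduct.map_tmul, bcMap_apply]
    rfl
  let H := PrimeSpectrum.preimageHomeomorphFiber A B s
  have hH : IsHomeomorph (comap (Θ : κ ⊗[A₀] B₀ →+* κ ⊗[A] B)) :=
    isHomeomorph_comap_of_bijective Θ.bijective
  have hfac : Φ = t ∘ comap (Θ : κ ⊗[A₀] B₀ →+* κ ⊗[A] B) ∘ H := by
    funext x
    apply Subtype.ext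
    rw [hΦ, Function.comp_apply, Function.comp_apply, ht]
    have hx : x.1 = ((preimageEquivFiber A B s).symm (H x)).1 := by
      show x.1 = (H.symm (H x)).1
      rw [Homeomorph.symm_apply_apply]
    conv_lhs => rw [hx, preimageEquivFiber_symm_apply_coe]
    ext b
    show (1 : κ) ⊗ₜ[A] (bcMap e b) ∈ (H x).asIdeal ↔ Θ ((1 : κ) ⊗ₜ[A₀] b) ∈ (H x).asIdeal
    rw [hΘ]
  rw [hfac]
  exact ⟨hto.comp (hH.isOpenMap.comp H.isOpenMap), hts.comp (hH.surjective.comp H.surjective)⟩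

end BaseChange

end Groth.Agent.Lib.Seat15.FibFieldExt
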