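import Mathlib
import Groth.Agent.Lib.Seat15FibLocus
import Groth.Agent.Lib.Seat15FibFieldExt

/-!
# Fibrewise loci: reduction of the ring-level statement to the Noetherian case (seat 15)

* `exists_model_with`: a finitely presented `A`-algebra `B` together with finitely many elements
  descends to a subring of `A` of finite type over `ℤ`.
* `isConstructible_fibLocus_of_finitePresentation`: if `P` is open-local and the locus
  `FibLocus P` is constructible for finitely presented algebras over Noetherian rings, it is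
  constructible for all finitely presented algebras.
-/

set_option autoImplicit false
set_option linter.style.haveILetI false
universe u

namespace Groth.Agent.Lib.Seat15.FibDescent

open TensorProduct PrimeSpectrum Topology Groth.Agent.Lib.Seat15.FibLocus
  Groth.Agent.Lib.Seat15.FibFieldExt

theorem exists_model_with (A B : Type u) [CommRing A] [CommRing B] [Algebra A B]
    [Algebra.FinitePresentation A B] (T : Finset B) :
    ∃ (A₀ B₀ : Type u) (_ : CommRing A₀) (_ : CommRing B₀) (_ : Algebra A₀ A)
      (_ : Algebra A₀ B₀), Algebra.FiniteType ℤ A₀ ∧ Algebra.FinitePresentation A₀ B₀ ∧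
      ∃ e : A ⊗[A₀] B₀ ≃ₐ[A] B, ∀ b ∈ T, b ∈ Set.range (bcMap e) := by
  classical
  let P := Algebra.Presentation.ofFinitePresentation A B
  have hsurj : ∀ b : B, ∃ p : MvPolynomial _ A, MvPolynomial.aeval P.val p = b :=
    P.aeval_val_surjective
  choose pol hpol using hsurj
  let sset : Set A := ⋃ b ∈ T, ((pol b).coeffs : Set A)
  have hfin : sset.Finite := T.finite_toSet.biUnion fun b _ => Finset.finite_toSet _
  let R₁ := Algebra.adjoin P.Core sset
  haveI h1 : Algebra.FiniteType P.Core R₁ := Algebra.FiniteType.adjoin_of_finite hfin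
  haveI h2 : Algebra.FiniteType ℤ R₁ :=
    Algebra.FiniteType.trans (inferInstance : Algebra.FiniteType ℤ P.Core) h1
  refine ⟨R₁, P.ModelOfHasCoeffs R₁, inferInstance, inferInstance, inferInstance, inferInstance,
    h2, inferInstance, P.tensorModelOfHasCoeffsEquiv R₁, ?_⟩
  intro b hb
  have hc : ((pol b).coeffs : Set A) ⊆ Set.range (algebraMap R₁ A) := by
    intro a ha
    have : a ∈ sset := Set.mem_biUnion hb ha
    exact ⟨⟨a, Algebra.subset_adjoin this⟩, rfl⟩
  obtain ⟨p₀, hp₀⟩ := MvPolynomial.mem_range_map_iff_coeffs_subset.mpr hc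
  refine ⟨Ideal.Quotient.mk _ p₀, ?_⟩
  rw [bcMap_apply]
  have h3 := P.tensorModelOfHasCoeffsEquiv_tmul R₁ (1 : A) p₀
  rw [map_one, one_mul, ← MvPolynomial.aeval_map_algebraMap A, hp₀, hpol] at h3
  exact h3

/-- preimages of constructible sets under `Spec` of a ring map are constructible -/
theorem isConstructible_preimage_comap {R S : Type u} [CommRing R] [CommRing S] (φ : R →+* S)
    (E : Set (PrimeSpectrum R)) (hE : IsConstructible E) : IsConstructible (comap φ ⁻¹' E) := by
  obtain ⟨T, rfl⟩ := exists_constructibleSetData_iff.mpr hE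
  rw [← ConstructibleSetData.toSet_map]
  exact ConstructibleSetData.isConstructible_toSet _

/-- descent of constructible set data -/
theorem exists_constructibleSetData_of_range {B₀ B : Type u} [CommRing B₀] [CommRing B]
    (ψ : B₀ →+* B) (S : ConstructibleSetData B)
    (h : ∀ C ∈ S, C.f ∈ Set.range ψ ∧ ∀ i, C.g i ∈ Set.range ψ) :
    ∃ S₀ : ConstructibleSetData B₀, comap ψ ⁻¹' S₀.toSet = S.toSet := by
  classical
  have hpre : ∀ b : B, ∃ b₀ : B₀, b ∈ Set.range ψ → ψ b₀ = b := fun b => by
    by_cases hb : b ∈ Set.range ψ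
    · obtain ⟨b₀, hb₀⟩ := hb
      exact ⟨b₀, fun _ => hb₀⟩
    · exact ⟨0, fun h => absurd h hb⟩
  choose pre hpre using hpre
  let lift : BasicConstructibleSetData B → BasicConstructibleSetData B₀ :=
    fun C => ⟨pre C.f, C.n, fun i => pre (C.g i)⟩
  have hlift : ∀ C ∈ S, (lift C).map ψ = C := by
    intro C hC
    obtain ⟨hf, hg⟩ := h C hC
    obtain ⟨f, n, g⟩ := C
    simp only [BasicConstructibleSetData.map, lift, BasicConstructibleSetData.mk.injEq, heq_eq_eq,
      true_and]
    refine ⟨hpre f hf, ?_⟩
    funext i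
    exact hpre (g i) (hg i)
  refine ⟨S.image lift, ?_⟩
  rw [← ConstructibleSetData.toSet_map]
  congr 1
  show (S.image lift).image (BasicConstructibleSetData.map ψ) = S
  rw [Finset.image_image]
  conv_rhs => rw [← Finset.image_id (s := S)]
  exact Finset.image_congr fun C hC => hlift C hC

theorem isConstructible_fibLocus_of_finitePresentation {P : Pred.{u}} (hP : OpenLocal P)
    (hN : ∀ (A B : Type u) [CommRing A] [CommRing B] [Algebra A B] [IsNoetherianRing A]
      [Algebra.FinitePresentation A B] (Z Z' : Set (PrimeSpectrum B)), IsConstructible Z →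
      IsConstructible Z' → IsConstructible (FibLocus P (comap (algebraMap A B)) Z Z'))
    (A B : Type u) [CommRing A] [CommRing B] [Algebra A B] [Algebra.FinitePresentation A B]
    (Z Z' : Set (PrimeSpectrum B)) (hZ : IsConstructible Z) (hZ' : IsConstructible Z') :
    IsConstructible (FibLocus P (comap (algebraMap A B)) Z Z') := by
  classical
  obtain ⟨S, rfl⟩ := exists_constructibleSetData_iff.mpr hZ
  obtain ⟨S', rfl⟩ := exists_constructibleSetData_iff.mpr hZ'
  let elems : BasicConstructibleSetData B → Finset B :=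
    fun C => insert C.f (Finset.univ.image C.g)
  let T : Finset B := (S ∪ S').biUnion elems
  obtain ⟨A₀, B₀, _, _, _, _, hA₀, hB₀, e, he⟩ := exists_model_with A B T
  haveI : IsNoetherianRing A₀ := Algebra.FiniteType.isNoetherianRing ℤ A₀
  have hT : ∀ C ∈ S ∪ S', C.f ∈ Set.range (bcMap e) ∧ ∀ i, C.g i ∈ Set.range (bcMap e) := by
    intro C hC
    refine ⟨he _ ?_, fun i => he _ ?_⟩
    · exact Finset.mem_biUnion.mpr ⟨C, hC, Finset.mem_insert_self _ _⟩
    · exact Finset.mem_biUnion.mpr ⟨C, hC, Finset.mem_insert_of_mem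
        (Finset.mem_image_of_mem _ (Finset.mem_univ i))⟩
  obtain ⟨S₀, hS₀⟩ := exists_constructibleSetData_of_range (bcMap e) S
    fun C hC => hT C (Finset.mem_union_left _ hC)
  obtain ⟨S₀', hS₀'⟩ := exists_constructibleSetData_of_range (bcMap e) S'
    fun C hC => hT C (Finset.mem_union_right _ hC)
  have hcomm : ∀ (_ : PUnit.{u + 1}) (x : PrimeSpectrum B),
      comap (algebraMap A₀ B₀) (comap (bcMap e) x) =
        comap (algebraMap A₀ A) (comap (algebraMap A B) x) := by
    intro _ x
    ext a
    show bcMap e (algebraMap A₀ B₀ a) ∈ x.asIdeal ↔ algebraMap A B (algebraMap A₀ A a) ∈ x.asIdeal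
    rw [bcMap_comm]
  have key := preimage_fibLocus (P := P) (comap (algebraMap A₀ B₀)) (comap (algebraMap A₀ A))
    (fun _ : PUnit.{u + 1} => PrimeSpectrum B) (fun _ => comap (bcMap e))
    (fun _ => comap (algebraMap A B)) hP hcomm (fun _ => continuous_comap _)
    (fun _ s => (fib_open_surj e s _ fun _ => rfl).1)
    (fun s x₀ hx₀ => by
      obtain ⟨x, hx⟩ := (fib_open_surj e s
        (fibMap (comap (algebraMap A₀ B₀)) (comap (algebraMap A₀ A))
          (fun _ : PUnit.{u + 1} => PrimeSpectrum B) (fun _ => comap (bcMap e))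
          (fun _ => comap (algebraMap A B)) hcomm PUnit.unit s) fun _ => rfl).2 ⟨x₀, hx₀⟩
      exact ⟨PUnit.unit, x.1, x.2, congrArg Subtype.val hx⟩)
    S₀.toSet S₀'.toSet
  rw [Set.iInter_const, hS₀, hS₀'] at key
  rw [← key]
  exact isConstructible_preimage_comap _ _
    (hN A₀ B₀ _ _ S₀.isConstructible_toSet S₀'.isConstructible_toSet)

end Groth.Agent.Lib.Seat15.FibDescent
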