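import Mathlib
import Groth.Agent.Lib.Seat15ExactNoeth
import Groth.Agent.Lib.Seat15FibDescent

/-!
# Constructibility of the locus of fibrewise exactness: reduction to the Noetherian case (seat 15)

* `isConstructible_locus_of_finitePresentation`: for a finitely presented algebra `B` over an
  arbitrary ring `R` and matrices over `B`, the locus of fibrewise exactness is constructible.
-/

set_option autoImplicit false
set_option linter.style.haveILetI false
set_option linter.unusedSectionVars false
universe u

namespace Groth.Agent.Lib.Seat15.ExactDesc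

open TensorProduct Matrix PrimeSpectrum Topology Groth.Agent.Lib.Seat15.ExactMat
  Groth.Agent.Lib.Seat15.ExactLocus Groth.Agent.Lib.Seat15.ExactNoeth
  Groth.Agent.Lib.Seat15.FibDescent Groth.Agent.Lib.Seat15.FibFieldExt

variable {α β γ δ : Type} [Fintype α] [Fintype β] [Fintype γ] [Fintype δ]

theorem isConstructible_locus_of_finitePresentation (R B : Type u) [CommRing R] [CommRing B]
    [Algebra R B] [Algebra.FinitePresentation R B]
    (U : Matrix α β B) (V : Matrix β γ B) (M : Matrix δ γ B) :
    IsConstructible (locus R U V M) := by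
  classical
  let T : Finset B := (Finset.univ.image fun ij : α × β => U ij.1 ij.2) ∪
    (Finset.univ.image fun ij : β × γ => V ij.1 ij.2) ∪
    (Finset.univ.image fun ij : δ × γ => M ij.1 ij.2)
  obtain ⟨R₀, B₀, _, _, _, _, hR₀, hB₀, e, he⟩ := exists_model_with R B T
  haveI : IsNoetherianRing R₀ := Algebra.FiniteType.isNoetherianRing ℤ R₀
  haveI : Algebra.FiniteType R₀ B₀ := Algebra.FiniteType.of_finitePresentation
  have hpre : ∀ b : B, ∃ b₀ : B₀, b ∈ T → bcMap e b₀ = b := fun b => by
    by_cases hb : b ∈ T
    · obtain ⟨b₀, hb₀⟩ := he b hb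
      exact ⟨b₀, fun _ => hb₀⟩
    · exact ⟨0, fun h => absurd h hb⟩
  choose pre hpre using hpre
  have hU : (((U.map pre).map (incl R₀ B₀ R)).map e) = U := by
    ext i j
    simp only [Matrix.map_apply]
    refine hpre _ ?_
    exact Finset.mem_union_left _ (Finset.mem_union_left _
      (Finset.mem_image.mpr ⟨(i, j), Finset.mem_univ _, rfl⟩))
  have hV : (((V.map pre).map (incl R₀ B₀ R)).map e) = V := by
    ext i j
    simp only [Matrix.map_apply]
    refine hpre _ ?_
    exact Finset.mem_union_left _ (Finset.mem_union_right _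
      (Finset.mem_image.mpr ⟨(i, j), Finset.mem_univ _, rfl⟩))
  have hM : (((M.map pre).map (incl R₀ B₀ R)).map e) = M := by
    ext i j
    simp only [Matrix.map_apply]
    refine hpre _ ?_
    exact Finset.mem_union_right _ (Finset.mem_image.mpr ⟨(i, j), Finset.mem_univ _, rfl⟩)
  have hloc : locus R U V M =
      comap (algebraMap R₀ R) ⁻¹' locus R₀ (U.map pre) (V.map pre) (M.map pre) := by
    rw [preimage_locus (U.map pre) (V.map pre) (M.map pre) R]
    ext p
    show MExactAt R p.asIdeal.ResidueField U V M ↔ MExactAt R p.asIdeal.ResidueField _ _ _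
    conv_lhs => rw [← hU, ← hV, ← hM]
    exact mExactAt_map_algEquiv _ _ _ e _
  rw [hloc]
  exact isConstructible_preimage_comap _ _ (isConstructible_locus R₀ B₀ _ _ _)

end Groth.Agent.Lib.Seat15.ExactDesc
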