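import Mathlib.Algebra.Homology.DerivedCategory.Ext.Map
import Mathlib.Algebra.Homology.DerivedCategory.Ext.MapBijective
import Mathlib.Algebra.Homology.DerivedCategory.Ext.EnoughInjectives
import Mathlib.Algebra.Homology.DerivedCategory.Ext.ExactSequences

/-!
# Functoriality of `Ext.mapExactFunctor` in the functor (seat 15)

* `mapExactFunctor_natTrans`: naturality of the maps on `Ext` with respect to a natural
  transformation of exact functors.
* `mapExactFunctor_comp_functor`: the map on `Ext` of a composite of exact functors is the composite.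
Both are proved by dimension shifting, in a category with enough injectives.
-/

set_option autoImplicit false

universe w w' w'' v v' v'' u u' u''

namespace Groth.Agent.Lib.Seat15.ExtMapNat

open CategoryTheory CategoryTheory.Limits CategoryTheory.Abelian

variable {C : Type u} [Category.{v} C] [Abelian C]
variable {D : Type u'} [Category.{v'} D] [Abelian D]
variable {E : Type u''} [Category.{v''} E] [Abelian E]

/-- every class in `Ext^{n+1}(X, Y)` is a Yoneda product of a class in `Ext^n(X, Q)` with the
class of a short exact sequence `0 → Y → I → Q → 0`. -/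
lemma exists_shift [HasExt.{w} C] [EnoughInjectives C] {X Y : C} {n : ℕ} (x : Ext.{w} X Y (n + 1)) :
    ∃ (S : ShortComplex C) (hS : S.ShortExact) (e : S.X₁ = Y) (y : Ext.{w} X S.X₃ n),
      x = (y.comp hS.extClass rfl).comp (Ext.mk₀ (eqToHom e)) (add_zero _) := by
  let I : InjectivePresentation Y := Classical.arbitrary _
  let S := ShortComplex.mk _ _ (cokernel.condition I.f)
  have hS : S.ShortExact := { exact := ShortComplex.exact_cokernel I.f }
  have : Injective S.X₂ := I.injective
  obtain ⟨y, hy⟩ := Ext.covariant_sequence_exact₁ X hS x (Ext.eq_zero_of_injective _) rfl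
  refine ⟨S, hS, rfl, y, ?_⟩
  simp [hy]

section NatTrans

variable (F F' : C ⥤ D) [F.Additive] [PreservesFiniteLimits F] [PreservesFiniteColimits F]
  [F'.Additive] [PreservesFiniteLimits F'] [PreservesFiniteColimits F']

/-- Naturality of `Ext.mapExactFunctor` in the functor. -/
theorem mapExactFunctor_natTrans [HasExt.{w} C] [HasExt.{w'} D] [EnoughInjectives C]
    (e : F ⟶ F') {X Y : C} {n : ℕ} (x : Ext.{w} X Y n) :
    (x.mapExactFunctor F).comp (Ext.mk₀ (e.app Y)) (add_zero n) =
      (Ext.mk₀ (e.app X)).comp (x.mapExactFunctor F') (zero_add n) := by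
  induction n generalizing Y with
  | zero =>
    obtain ⟨f, rfl⟩ := (Ext.mk₀_bijective X Y).2 x
    simp only [Ext.mapExactFunctor_mk₀, Ext.mk₀_comp_mk₀]
    rw [e.naturality]
  | succ n ih =>
    obtain ⟨S, hS, rfl, y, rfl⟩ := exists_shift x
    simp only [eqToHom_refl, Ext.comp_mk₀_id]
    let cF : Ext.{w'} (F.obj S.X₃) (F.obj S.X₁) 1 := (hS.map_of_exact F).extClass
    let cF' : Ext.{w'} (F'.obj S.X₃) (F'.obj S.X₁) 1 := (hS.map_of_exact F').extClass
    have hF : (y.comp hS.extClass rfl).mapExactFunctor F = (y.mapExactFunctor F).comp cF rfl := by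
      rw [Ext.mapExactFunctor_comp, Ext.mapExactFunctor_extClass]
    have hF' : (y.comp hS.extClass rfl).mapExactFunctor F' = (y.mapExactFunctor F').comp cF' rfl := by
      rw [Ext.mapExactFunctor_comp, Ext.mapExactFunctor_extClass]
    have h1 : cF.comp (Ext.mk₀ (e.app S.X₁)) (add_zero 1) =
        (Ext.mk₀ (e.app S.X₃)).comp cF' (zero_add 1) :=
      ShortComplex.ShortExact.extClass_naturality (hS.map_of_exact F)
        (hS.map_of_exact F') (S.mapNatTrans e)
    rw [hF, hF']
    rw [Ext.comp_assoc_of_third_deg_zero, h1, ← Ext.comp_assoc_of_second_deg_zero, ih y]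
    exact Ext.comp_assoc _ _ _ (zero_add n) rfl (by lia)

end NatTrans

section Comp

variable (F : C ⥤ D) [F.Additive] [PreservesFiniteLimits F] [PreservesFiniteColimits F]
  (G : D ⥤ E) [G.Additive] [PreservesFiniteLimits G] [PreservesFiniteColimits G]

/-- `Ext.mapExactFunctor` of a composite of exact functors (the exactness instances on the composite
are taken as instance arguments; use `comp_preservesFiniteLimits` etc. to provide them). -/
theorem mapExactFunctor_comp_functor [HasExt.{w} C] [HasExt.{w'} D] [HasExt.{w''} E]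
    [EnoughInjectives C] [PreservesFiniteLimits (F ⋙ G)] [PreservesFiniteColimits (F ⋙ G)]
    {X Y : C} {n : ℕ} (x : Ext.{w} X Y n) :
    x.mapExactFunctor (F ⋙ G) = (x.mapExactFunctor F).mapExactFunctor G := by
  induction n generalizing Y with
  | zero =>
    obtain ⟨f, rfl⟩ := (Ext.mk₀_bijective X Y).2 x
    simp only [Ext.mapExactFunctor_mk₀, Functor.comp_map]
  | succ n ih =>
    obtain ⟨S, hS, rfl, y, rfl⟩ := exists_shift x
    simp only [eqToHom_refl, Ext.comp_mk₀_id]
    let cF : Ext.{w'} (F.obj S.X₃) (F.obj S.X₁) 1 := (hS.map_of_exact F).extClass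
    let cFG : Ext.{w''} ((F ⋙ G).obj S.X₃) ((F ⋙ G).obj S.X₁) 1 :=
      (hS.map_of_exact (F ⋙ G)).extClass
    have hF : (y.comp hS.extClass rfl).mapExactFunctor F = (y.mapExactFunctor F).comp cF rfl := by
      rw [Ext.mapExactFunctor_comp, Ext.mapExactFunctor_extClass]
    have hFG : (y.comp hS.extClass rfl).mapExactFunctor (F ⋙ G) =
        (y.mapExactFunctor (F ⋙ G)).comp cFG rfl := by
      rw [Ext.mapExactFunctor_comp, Ext.mapExactFunctor_extClass]
    have hc : cF.mapExactFunctor G = cFG :=
      Ext.mapExactFunctor_extClass G (hS.map_of_exact F)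
    rw [hF, hFG, Ext.mapExactFunctor_comp, hc, ih y]

end Comp

/-- `Ext.mapExactFunctor` for the identity functor. -/
theorem mapExactFunctor_id [HasExt.{w} C] [EnoughInjectives C] {X Y : C} {n : ℕ}
    (x : Ext.{w} X Y n) : x.mapExactFunctor (𝟭 C) = x := by
  induction n generalizing Y with
  | zero =>
    obtain ⟨f, rfl⟩ := (Ext.mk₀_bijective X Y).2 x
    simp only [Ext.mapExactFunctor_mk₀, Functor.id_map]
  | succ n ih =>
    obtain ⟨S, hS, rfl, y, rfl⟩ := exists_shift x
    simp only [eqToHom_refl, Ext.comp_mk₀_id]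
    have hc : hS.extClass.mapExactFunctor (𝟭 C) = hS.extClass :=
      Ext.mapExactFunctor_extClass (𝟭 C) hS
    rw [Ext.mapExactFunctor_comp, hc, ih y]

section Iso

variable (F F' : C ⥤ D) [F.Additive] [PreservesFiniteLimits F] [PreservesFiniteColimits F]
  [F'.Additive] [PreservesFiniteLimits F'] [PreservesFiniteColimits F']

/-- precomposition with (the class of) an isomorphism is bijective. -/
lemma bijective_mk₀_comp [HasExt.{w} C] {X X' Y : C} (i : X' ≅ X) (n : ℕ) :
    Function.Bijective (fun x : Ext.{w} X Y n => (Ext.mk₀ i.hom).comp x (zero_add n)) := by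
  refine Function.bijective_iff_has_inverse.2
    ⟨fun x => (Ext.mk₀ i.inv).comp x (zero_add n), fun x => ?_, fun x => ?_⟩
  · simp only
    rw [← Ext.comp_assoc (a₁₂ := 0) _ _ _ (zero_add 0) (zero_add n) (by lia), Ext.mk₀_comp_mk₀]
    simp
  · simp only
    rw [← Ext.comp_assoc (a₁₂ := 0) _ _ _ (zero_add 0) (zero_add n) (by lia), Ext.mk₀_comp_mk₀]
    simp

/-- postcomposition with (the class of) an isomorphism is bijective. -/
lemma bijective_comp_mk₀ [HasExt.{w} C] {X Y Y' : C} (i : Y ≅ Y') (n : ℕ) :
    Function.Bijective (fun x : Ext.{w} X Y n => x.comp (Ext.mk₀ i.hom) (add_zero n)) := by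
  refine Function.bijective_iff_has_inverse.2
    ⟨fun x => x.comp (Ext.mk₀ i.inv) (add_zero n), fun x => ?_, fun x => ?_⟩
  · simp only
    rw [Ext.comp_assoc_of_third_deg_zero, Ext.mk₀_comp_mk₀]
    simp
  · simp only
    rw [Ext.comp_assoc_of_third_deg_zero, Ext.mk₀_comp_mk₀]
    simp

/-- For isomorphic exact functors, the maps on `Ext` are simultaneously injective. -/
theorem injective_mapExactFunctor_iff_of_iso [HasExt.{w} C] [HasExt.{w'} D] [EnoughInjectives C]
    (e : F ≅ F') (X Y : C) (n : ℕ) :
    Function.Injective (Ext.mapExactFunctor F (X := X) (Y := Y) (n := n)) ↔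
      Function.Injective (Ext.mapExactFunctor F' (X := X) (Y := Y) (n := n)) := by
  have key : ∀ x : Ext.{w} X Y n,
      (x.mapExactFunctor F).comp (Ext.mk₀ (e.hom.app Y)) (add_zero n) =
        (Ext.mk₀ (e.hom.app X)).comp (x.mapExactFunctor F') (zero_add n) :=
    fun x => mapExactFunctor_natTrans F F' e.hom x
  have b1 := bijective_comp_mk₀ (X := F.obj X) (e.app Y) n
  have b2 := bijective_mk₀_comp (Y := F'.obj Y) (e.app X) n
  constructor
  · intro h x x' hxx'
    apply h
    apply b1.1
    simp only [Iso.app_hom]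
    rw [key, key, hxx']
  · intro h x x' hxx'
    apply h
    apply b2.1
    simp only [Iso.app_hom]
    rw [← key, ← key, hxx']

/-- For isomorphic exact functors, the maps on `Ext` are simultaneously surjective. -/
theorem surjective_mapExactFunctor_iff_of_iso [HasExt.{w} C] [HasExt.{w'} D] [EnoughInjectives C]
    (e : F ≅ F') (X Y : C) (n : ℕ) :
    Function.Surjective (Ext.mapExactFunctor F (X := X) (Y := Y) (n := n)) ↔
      Function.Surjective (Ext.mapExactFunctor F' (X := X) (Y := Y) (n := n)) := by
  have key : ∀ x : Ext.{w} X Y n,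
      (x.mapExactFunctor F).comp (Ext.mk₀ (e.hom.app Y)) (add_zero n) =
        (Ext.mk₀ (e.hom.app X)).comp (x.mapExactFunctor F') (zero_add n) :=
    fun x => mapExactFunctor_natTrans F F' e.hom x
  have b1 := bijective_comp_mk₀ (X := F.obj X) (e.app Y) n
  have b2 := bijective_mk₀_comp (Y := F'.obj Y) (e.app X) n
  constructor
  · intro h z
    -- z : Ext (F'.obj X) (F'.obj Y) n
    obtain ⟨w, hw⟩ := b1.2 ((Ext.mk₀ (e.hom.app X)).comp z (zero_add n))
    obtain ⟨x, rfl⟩ := h w
    refine ⟨x, b2.1 ?_⟩
    simp only [Iso.app_hom] at hw ⊢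
    rw [← key, hw]
  · intro h z
    obtain ⟨w, hw⟩ := b2.2 (z.comp (Ext.mk₀ (e.hom.app Y)) (add_zero n))
    obtain ⟨x, rfl⟩ := h w
    refine ⟨x, b1.1 ?_⟩
    simp only [Iso.app_hom] at hw ⊢
    rw [key, hw]

end Iso

end Groth.Agent.Lib.Seat15.ExtMapNat
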