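import Groth.Agent.Lib.Seat15PbSec
import Groth.Agent.Lib.Helper23FTsub
import Groth.Agent.Lib.Helper18OmLS10
import Groth.Agent.Lib.Helper23FinPres
import Groth.Agent.Lib.Helper26ModLim2
import Groth.Agent.Lib.Helper18Strict7
import Groth.Agent.S0590

/-!
# Finitely presented quotients and generators over an affine morphism (seat 15)

Namespace `Groth.Agent.Lib.Seat15.FPDesc`.

* `isFP_cokernel` : the cokernel of a map from a finite type q.c. module to a finitely presented q.c. module is
  finitely presented.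
* `exists_ft_epi_pullback` : `f : Y ⟶ X` affine, `X` qcqs, `F` f.t. q.c. on `Y` ⇒ there is a f.t. q.c. `E` on `X`
  and an epimorphism `f^*E ⟶ F`.
* `exists_fp_epi_of_ft` : on a qcqs scheme every f.t. q.c. module is a quotient of a f.p. q.c. module
  (via absolute Noetherian approximation, `S0590`).
* `exists_fp_epi_pullback` : combination: `F` f.t. q.c. on `Y` ⇒ there is a f.p. q.c. `E` on `X` and an epimorphism
  `f^*E ⟶ F`.
-/

set_option autoImplicit false
set_option linter.style.haveILetI false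
set_option linter.unusedSectionVars false
universe u
open CategoryTheory CategoryTheory.Limits AlgebraicGeometry Opposite TopologicalSpace

namespace Groth.Agent.Lib.Seat15.FPDesc

open Groth.Agent.Lib.Helper6 Groth.Agent.Helper13PullbackUnit Groth.Agent.Lib.Seat15.PbSec
open Groth.Agent.Helper18Strict Groth.Agent.Lib.Helper2.FPAff

section cok
variable {X : Scheme.{u}}

theorem ker_app_cokernel_π {A B : X.Modules} [A.IsQuasicoherent] [B.IsQuasicoherent] (κ : A ⟶ B)
    {V : X.Opens} (hV : IsAffineOpen V) :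
    LinearMap.ker (appₗ (cokernel.π κ) V) = LinearMap.range (appₗ κ V) := by
  ext m
  rw [LinearMap.mem_ker, LinearMap.mem_range]
  constructor
  · intro hm
    rw [appₗ_apply] at hm
    haveI : (cokernel κ).IsQuasicoherent :=
      Groth.Agent.Lib.Helper23.QCohLocal.isQuasicoherent_cokernel κ
    haveI : (kernel (cokernel.π κ)).IsQuasicoherent :=
      Groth.Agent.Lib.Helper23.QCohLocal.isQuasicoherent_kernel (cokernel.π κ)
    haveI : (Abelian.image κ).IsQuasicoherent :=
      Groth.Agent.Lib.Helper23.QCohLocal.isQuasicoherent_kernel (cokernel.π κ)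
    obtain ⟨a, ha⟩ := Groth.Agent.Lib.Helper23.FinType.surjective_app_of_epi
      (Abelian.factorThruImage κ) hV (OmegaSh.kerLift (cokernel.π κ) V m hm)
    refine ⟨a, ?_⟩
    rw [appₗ_apply]
    have h1 : κ.app V a = (Abelian.image.ι κ).app V ((Abelian.factorThruImage κ).app V a) := by
      rw [← ConcreteCategory.comp_apply, ← Scheme.Modules.Hom.comp_app, Abelian.image.fac]
    rw [h1, ha]
    exact OmegaSh.ι_kerLift (cokernel.π κ) V m hm
  · rintro ⟨a, rfl⟩
    rw [appₗ_apply, appₗ_apply, ← ConcreteCategory.comp_apply, ← Scheme.Modules.Hom.comp_app,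
      cokernel.condition, Scheme.Modules.Hom.zero_app]
    rfl

/-- the cokernel of a map from a finite type quasi-coherent module to a finitely presented quasi-coherent module
is finitely presented. -/
theorem isFP_cokernel {A B : X.Modules} [A.IsQuasicoherent] [B.IsQuasicoherent]
    (hA : CohB1.IsFT A) (hB : CohB1.IsFP B) (κ : A ⟶ B) : CohB1.IsFP (cokernel κ) := by
  haveI : SheafOfModules.IsFiniteType (R := X.ringCatSheaf) A := hA
  haveI : SheafOfModules.IsFinitePresentation (R := X.ringCatSheaf) B := hB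
  haveI hq : (cokernel κ).IsQuasicoherent :=
    Groth.Agent.Lib.Helper23.QCohLocal.isQuasicoherent_cokernel κ
  refine Groth.Agent.Lib.Helper2.FinPushFP.isFinitePresentation_of_finitePresentation_sections _
    (fun V : X.affineOpens => V.1) (iSup_affineOpens_eq_top X) (fun V => V.2) (fun V => ?_)
  haveI : Module.FinitePresentation Γ(X, V.1) Γ(B, V.1) := finitePresentation_sections B V.2
  haveI : Module.Finite Γ(X, V.1) Γ(A, V.1) :=
    Groth.Agent.Lib.Helper23.FinType.finite_of_isFiniteType A V.2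
  have hsurj : Function.Surjective (appₗ (cokernel.π κ) V.1) :=
    Groth.Agent.Lib.Helper23.FinType.surjective_app_of_epi (cokernel.π κ) V.2
  refine Module.finitePresentation_of_surjective (appₗ (cokernel.π κ) V.1) hsurj ?_
  rw [ker_app_cokernel_π κ V.2, LinearMap.range_eq_map]
  exact Submodule.FG.map _ Module.Finite.fg_top

end cok

section gen
variable {X Y : Scheme.{u}} (f : Y ⟶ X)

/-- **Generation over an affine morphism.**  For `f : Y ⟶ X` affine with `X` qcqs and `F` a quasi-coherent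
`O_Y`-module of finite type there are a quasi-coherent `O_X`-module `E` of finite type and an epimorphism
`f^*E ⟶ F`. -/
theorem exists_ft_epi_pullback [IsAffineHom f] [CompactSpace X] [QuasiSeparatedSpace X]
    (F : Y.Modules) [F.IsQuasicoherent] (hF : CohB1.IsFT F) :
    ∃ (E : X.Modules) (ε : (Scheme.Modules.pullback f).obj E ⟶ F),
      E.IsQuasicoherent ∧ CohB1.IsFT E ∧ Epi ε := by
  classical
  haveI : SheafOfModules.IsFiniteType (R := Y.ringCatSheaf) F := hF
  haveI : ((Scheme.Modules.pushforward f).obj F).IsQuasicoherent :=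
    Groth.Agent.Lib.Helper23.QCohLocal.isQuasicoherent_pushforward f F
  obtain ⟨s, hs⟩ := Groth.Agent.Lib.Helper26.ModLim.exists_finite_affine_cover X
  have haff : ∀ k : X.affineOpens, IsAffineOpen (f ⁻¹ᵁ k.1) := fun k => k.2.preimage f
  have hfin : ∀ k : X.affineOpens, ∃ G : Finset Γ(F, f ⁻¹ᵁ k.1),
      Submodule.span Γ(Y, f ⁻¹ᵁ k.1) (G : Set Γ(F, f ⁻¹ᵁ k.1)) = ⊤ := by
    intro k
    haveI : Module.Finite Γ(Y, f ⁻¹ᵁ k.1) Γ(F, f ⁻¹ᵁ k.1) :=
      Groth.Agent.Lib.Helper23.FinType.finite_of_isFiniteType F (haff k)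
    exact Module.Finite.fg_top
  choose G hG using hfin
  let l : List (Σ U : X.affineOpens, Γ((Scheme.Modules.pushforward f).obj F, U.1)) :=
    s.toList.flatMap (fun k => (G k).toList.map (fun g => ⟨k, g⟩))
  obtain ⟨K', i, hi, hK'q, hK'f, hl⟩ := Groth.Agent.Lib.Helper23.FTsub.exists_ft_sub_list
    ((Scheme.Modules.pushforward f).obj F) ⟨⟨⊥, isAffineOpen_bot X⟩, 0⟩ l
  haveI := hK'q
  let ε : (Scheme.Modules.pullback f).obj K' ⟶ F :=
    ((Scheme.Modules.pullbackPushforwardAdjunction f).homEquiv K' F).symm i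
  have hε : (Scheme.Modules.pullbackPushforwardAdjunction f).homEquiv K' F ε = i :=
    Equiv.apply_symm_apply _ _
  refine ⟨K', ε, hK'q, hK'f, ?_⟩
  refine Groth.Agent.Helper18OmLS.epi_of_surjective_app_cover ε (fun k : s => f ⁻¹ᵁ k.1.1)
    (Groth.Agent.Lib.Helper26.ModLim.isOpenCover_preimage f hs) (fun k => haff k.1) ?_
  rintro ⟨k, hk⟩
  have hrange : LinearMap.range (appₗ ε (f ⁻¹ᵁ k.1)) = ⊤ := by
    rw [eq_top_iff, ← hG k, Submodule.span_le]
    intro g hg
    have hmem : (⟨k, g⟩ : Σ U : X.affineOpens, Γ((Scheme.Modules.pushforward f).obj F, U.1)) ∈ l := by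
      apply List.mem_flatMap.2
      exact ⟨k, Finset.mem_toList.2 hk, List.mem_map.2 ⟨g, Finset.mem_toList.2 hg, rfl⟩⟩
    obtain ⟨g', hg'⟩ := hl _ (List.mem_cons_of_mem _ hmem)
    refine ⟨unitApp f K' k.1 g', ?_⟩
    rw [appₗ_apply, ← homEquiv_app, hε]
    exact hg'
  intro y
  have hy : y ∈ LinearMap.range (appₗ ε (f ⁻¹ᵁ k.1)) := by rw [hrange]; trivial
  obtain ⟨x, hx⟩ := hy
  exact ⟨x, hx⟩

end gen

section approx

/-- `ULift ℤ` is a Noetherian ring. -/
instance isNoetherianRing_ulift_int : IsNoetherianRing (ULift.{u} ℤ) :=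
  isNoetherianRing_of_ringEquiv ℤ ULift.ringEquiv.symm

/-- **Finite type modules are quotients of finitely presented ones.**  On a qcqs scheme every quasi-coherent module
of finite type is a quotient of a quasi-coherent module of finite presentation (pull back from a Noetherian
approximation). -/
theorem exists_fp_epi_of_ft {X : Scheme.{u}} [CompactSpace X] [QuasiSeparatedSpace X]
    (E : X.Modules) [E.IsQuasicoherent] (hE : CohB1.IsFT E) :
    ∃ (E' : X.Modules) (ρ : E' ⟶ E), E'.IsQuasicoherent ∧ CohB1.IsFP E' ∧ Epi ρ := by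
  obtain ⟨I, pI, hdir, hne, D, c, hc, haff, hD, ⟨e⟩⟩ := Groth.Agent.S0590.result X
  haveI : IsFiltered I := isFiltered_of_directed_le_nonempty I
  haveI : ∀ {i j : Iᵒᵖ} (g : i ⟶ j), IsAffineHom (D.map g) := fun g => haff _ _ g
  obtain ⟨i⟩ := hne
  haveI : IsAffineHom (c.π.app (op i)) := isAffineHom_π_app D c hc (op i)
  let f : X ⟶ D.obj (op i) := e.inv ≫ c.π.app (op i)
  haveI : IsAffineHom f := by dsimp only [f]; infer_instance
  haveI : CompactSpace (D.obj (op i)) := (hD (op i)).1
  haveI : LocallyOfFiniteType (Limits.IsTerminal.from specULiftZIsTerminal (D.obj (op i))) :=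
    (hD (op i)).2
  haveI : IsLocallyNoetherian (D.obj (op i)) :=
    LocallyOfFiniteType.isLocallyNoetherian
      (Limits.IsTerminal.from specULiftZIsTerminal (D.obj (op i)))
  obtain ⟨E₀, ε, hq, hft, hepi⟩ := exists_ft_epi_pullback f E hE
  haveI := hq
  haveI : SheafOfModules.IsFiniteType (R := (D.obj (op i)).ringCatSheaf) E₀ := hft
  have hfp : CohB1.IsFP E₀ :=
    Groth.Agent.Lib.Helper23.FinType.isFinitePresentation_of_isFiniteType E₀
  exact ⟨(Scheme.Modules.pullback f).obj E₀, ε, inferInstance, isFP_pullback f E₀ hfp, hepi⟩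

/-- combination of `exists_ft_epi_pullback` and `exists_fp_epi_of_ft`. -/
theorem exists_fp_epi_pullback {X Y : Scheme.{u}} (f : Y ⟶ X) [IsAffineHom f] [CompactSpace X]
    [QuasiSeparatedSpace X] (F : Y.Modules) [F.IsQuasicoherent] (hF : CohB1.IsFT F) :
    ∃ (E : X.Modules) (ε : (Scheme.Modules.pullback f).obj E ⟶ F),
      E.IsQuasicoherent ∧ CohB1.IsFP E ∧ Epi ε := by
  obtain ⟨E₀, ε₀, hq₀, hft₀, hepi₀⟩ := exists_ft_epi_pullback f F hF
  haveI := hq₀
  obtain ⟨E, ρ, hq, hfp, hepi⟩ := exists_fp_epi_of_ft E₀ hft₀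
  haveI := hepi
  haveI := hepi₀
  haveI : Epi ((Scheme.Modules.pullback f).map ρ) := inferInstance
  exact ⟨E, (Scheme.Modules.pullback f).map ρ ≫ ε₀, hq, hfp, epi_comp _ _⟩

end approx

section cat

/-- If a cokernel-preserving functor `Gf` takes `κj` (up to isomorphisms of source and target) to a map
`ε ≫ kernel.ι p` with `ε`, `p` epimorphisms, then it takes `cokernel κj` to the target of `p`, compatibly with the
projections. -/
theorem exists_iso_of_cokernel {C D : Type*} [Category C] [Category D] [Abelian C] [Abelian D]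
    (Gf : C ⥤ D) [Gf.IsLeftAdjoint] {A B : C} (κj : A ⟶ B) {A' B' G : D}
    (canA : Gf.obj A ≅ A') (canB : Gf.obj B ≅ B') (p : B' ⟶ G) [Epi p] (ε : A' ⟶ kernel p) [Epi ε]
    (h : canA.inv ≫ Gf.map κj ≫ canB.hom = ε ≫ kernel.ι p) :
    ∃ e : Gf.obj (cokernel κj) ≅ G, canB.inv ≫ Gf.map (cokernel.π κj) ≫ e.hom = p := by
  have w : Gf.map κj ≫ canB.hom = canA.hom ≫ (ε ≫ kernel.ι p) := by
    rw [← h, Iso.hom_inv_id_assoc]
  have hp0 : IsColimit (CokernelCofork.ofπ p (kernel.condition p)) :=
    Abelian.epiIsCokernelOfKernel (KernelFork.ofι (kernel.ι p) (kernel.condition p))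
      (kernelIsKernel p)
  have hp : IsColimit (CokernelCofork.ofπ p
      (show (ε ≫ kernel.ι p) ≫ p = 0 by rw [Category.assoc, kernel.condition, comp_zero])) :=
    isCokernelEpiComp hp0 ε rfl
  let e₁ := PreservesCokernel.iso Gf κj
  let e₂ := cokernel.mapIso (Gf.map κj) (ε ≫ kernel.ι p) canA canB w
  let e₃ := (cokernelIsCokernel (ε ≫ kernel.ι p)).coconePointUniqueUpToIso hp
  have h₃ : cokernel.π (ε ≫ kernel.ι p) ≫ e₃.hom = p :=
    IsColimit.comp_coconePointUniqueUpToIso_hom (cokernelIsCokernel (ε ≫ kernel.ι p)) hp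
      WalkingParallelPair.one
  refine ⟨e₁ ≪≫ e₂ ≪≫ e₃, ?_⟩
  simp only [Iso.trans_hom]
  rw [PreservesCokernel.π_iso_hom_assoc]
  have h₂ : cokernel.π (Gf.map κj) ≫ e₂.hom = canB.hom ≫ cokernel.π (ε ≫ kernel.ι p) :=
    cokernel.π_desc _ _ _
  rw [reassoc_of% h₂, Iso.inv_hom_id_assoc, h₃]

end cat

end Groth.Agent.Lib.Seat15.FPDesc
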