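import Mathlib
import Groth.Agent.Lib.Seat15FibLocus

/-!
# Fibrewise loci for morphisms of schemes: reduction to the affine case (seat 15)

`isLocallyConstructible_fibLocus`: let `P` be an open-local predicate such that `FibLocus P` is
constructible for every ring map of finite presentation and constructible subsets.  Then for every
morphism of schemes `f : X ⟶ S` of finite presentation and locally constructible `Z Z' ⊆ X`,
`FibLocus P f Z Z'` is locally constructible in `S`.
-/

set_option autoImplicit false
set_option linter.style.haveILetI false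
universe u

namespace Groth.Agent.Lib.Seat15.FibScheme

open CategoryTheory CategoryTheory.Limits AlgebraicGeometry Topology PrimeSpectrum
  Groth.Agent.Lib.Seat15.FibLocus

section Top

/-- a set which is constructible in a family of open pieces covering the space is locally
constructible -/
theorem isLocallyConstructible_of_isOpenEmbedding {S : Type u} [TopologicalSpace S] (E : Set S)
    (h : ∀ s : S, ∃ (S' : Type u) (_ : TopologicalSpace S') (i : S' → S),
      IsOpenEmbedding i ∧ s ∈ Set.range i ∧ IsConstructible (i ⁻¹' E)) :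
    IsLocallyConstructible E := by
  intro s
  obtain ⟨S', _, i, hi, hs, hc⟩ := h s
  refine ⟨Set.range i, hi.isOpen_range.mem_nhds hs, hi.isOpen_range, ?_⟩
  let e : S' ≃ₜ Set.range i := hi.isEmbedding.toHomeomorph
  have : (Subtype.val ⁻¹' E : Set (Set.range i)) = e.symm ⁻¹' (i ⁻¹' E) := by
    ext ⟨y, x, rfl⟩
    have h1 : e.symm ⟨i x, x, rfl⟩ = x := by
      apply e.injective
      rw [Homeomorph.apply_symm_apply]
      rfl
    simp only [Set.mem_preimage, h1]
  rw [this]
  exact hc.preimage_of_isOpenEmbedding e.symm.isOpenEmbedding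

variable {X S S' : Type u} [TopologicalSpace X]
  (f : X → S) (i : S' → S) {K : Type u} (Xk : K → Type u) [∀ k, TopologicalSpace (Xk k)]
  (j : ∀ k, Xk k → X) (fk : ∀ k, Xk k → S')

/-- for open maps `j k` and injective `i` the maps on fibres are open -/
theorem isOpenMap_fibMap (hcomm : ∀ k x, f (j k x) = i (fk k x)) (hi : Function.Injective i)
    (k : K) (hj : IsOpenMap (j k)) (s' : S') : IsOpenMap (fibMap f i Xk j fk hcomm k s') := by
  intro U hU
  obtain ⟨U', hU', rfl⟩ := isOpen_induced_iff.mp hU
  have : fibMap f i Xk j fk hcomm k s' '' (Subtype.val ⁻¹' U') = Subtype.val ⁻¹' (j k '' U') := by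
    ext y
    constructor
    · rintro ⟨x, hx, rfl⟩
      exact ⟨x.1, hx, rfl⟩
    · rintro ⟨x, hx, hxy⟩
      have h1 : i (fk k x) = i s' := by
        rw [← hcomm, hxy]
        exact y.2
      exact ⟨⟨x, hi h1⟩, hx, Subtype.ext hxy⟩
  rw [this]
  exact (hj U' hU').preimage continuous_subtype_val

end Top

section Scheme

variable {P : Pred.{u}} (hP : OpenLocal P)
  (hR : ∀ (A B : Type u) [CommRing A] [CommRing B] [Algebra A B] [Algebra.FinitePresentation A B]
      (Z Z' : Set (PrimeSpectrum B)), IsConstructible Z → IsConstructible Z' →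
      IsConstructible (FibLocus P (comap (algebraMap A B)) Z Z'))

include hR in
theorem isConstructible_fibLocus_spec (R : CommRingCat.{u}) {Y : Scheme.{u}}
    (hY : ∃ B : CommRingCat.{u}, Y = Spec B) (g : Y ⟶ Spec R) [hg : LocallyOfFinitePresentation g]
    (W W' : Set Y) (hW : IsLocallyConstructible W) (hW' : IsLocallyConstructible W') :
    IsConstructible (FibLocus P (g : Y → Spec R) W W') := by
  obtain ⟨B, rfl⟩ := hY
  obtain ⟨φ, rfl⟩ := Spec.map_surjective g
  have hφ : φ.hom.FinitePresentation :=
    (HasRingHomProperty.Spec_iff (P := @LocallyOfFinitePresentation)).mp hg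
  letI := φ.hom.toAlgebra
  haveI : Algebra.FinitePresentation R B := hφ
  exact hR R B W W' hW.isConstructible hW'.isConstructible

include hP hR in
theorem isConstructible_fibLocus_of_affine {X : Scheme.{u}} (R : CommRingCat.{u})
    (f : X ⟶ Spec R) [LocallyOfFinitePresentation f] [QuasiCompact f]
    (Z Z' : Set X) (hZ : IsLocallyConstructible Z) (hZ' : IsLocallyConstructible Z') :
    IsConstructible (FibLocus P (f : X → Spec R) Z Z') := by
  haveI : CompactSpace X := QuasiCompact.compactSpace_of_compactSpace f
  let 𝒱 := X.affineCover.finiteSubcover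
  have key := preimage_fibLocus (P := P) (f : X → Spec R) (id : Spec R → Spec R)
    (fun k : 𝒱.I₀ => ↥(𝒱.X k)) (fun k => ⇑(𝒱.f k)) (fun k => ⇑(𝒱.f k ≫ f)) hP
    (fun k x => rfl) (fun k => (𝒱.f k).continuous)
    (fun k s => isOpenMap_fibMap _ _ _ _ _ _ Function.injective_id k
      (𝒱.f k).isOpenEmbedding.isOpenMap s)
    (fun s x hx => by
      obtain ⟨x', hx'⟩ := 𝒱.covers x
      refine ⟨𝒱.idx x, x', ?_, hx'⟩
      show f (𝒱.f (𝒱.idx x) x') = s
      rw [hx']
      exact hx) Z Z'
  rw [Set.preimage_id] at key
  rw [key]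
  refine IsConstructible.iInter fun k => ?_
  haveI : IsOpenImmersion (𝒱.f k) := inferInstance
  have hlfp : LocallyOfFinitePresentation (𝒱.f k ≫ f) := by infer_instance
  exact isConstructible_fibLocus_spec hR R (Y := 𝒱.X k) ⟨_, rfl⟩ (𝒱.f k ≫ f) (hg := hlfp) _ _
    (hZ.preimage_of_isOpenEmbedding (𝒱.f k).isOpenEmbedding)
    (hZ'.preimage_of_isOpenEmbedding (𝒱.f k).isOpenEmbedding)

include hP hR in
theorem isConstructible_fibLocus_of_affine' {X T : Scheme.{u}}
    (hT : ∃ R : CommRingCat.{u}, T = Spec R)
    (f : X ⟶ T) [LocallyOfFinitePresentation f] [QuasiCompact f]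
    (Z Z' : Set X) (hZ : IsLocallyConstructible Z) (hZ' : IsLocallyConstructible Z') :
    IsConstructible (FibLocus P (f : X → T) Z Z') := by
  obtain ⟨R, rfl⟩ := hT
  exact isConstructible_fibLocus_of_affine hP hR R f Z Z' hZ hZ'

include hP hR in
theorem isConstructible_preimage_fibLocus {X S T : Scheme.{u}}
    (hT : ∃ R : CommRingCat.{u}, T = Spec R) (ι : T ⟶ S) [IsOpenImmersion ι] (f : X ⟶ S)
    [LocallyOfFinitePresentation f] [QuasiCompact f]
    (Z Z' : Set X) (hZ : IsLocallyConstructible Z) (hZ' : IsLocallyConstructible Z') :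
    IsConstructible ((ι : T → S) ⁻¹' FibLocus P (f : X → S) Z Z') := by
  have hcomm : ∀ (_ : PUnit.{u + 1}) (x : ↥(pullback f ι)),
      f (pullback.fst f ι x) = ι (pullback.snd f ι x) := by
    intro _ x
    show (pullback.fst f ι ≫ f) x = (pullback.snd f ι ≫ ι) x
    rw [pullback.condition]
  have key := preimage_fibLocus (P := P) (f : X → S) (ι : _ → S)
    (fun _ : PUnit.{u + 1} => ↥(pullback f ι)) (fun _ => ⇑(pullback.fst f ι))
    (fun _ => ⇑(pullback.snd f ι)) hP hcomm (fun _ => (pullback.fst f ι).continuous)
    (fun k s' => isOpenMap_fibMap _ _ _ _ _ hcomm ι.isOpenEmbedding.injective k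
      (pullback.fst f ι).isOpenEmbedding.isOpenMap s')
    (fun s' x hx => by
      have hx' : x ∈ Set.range (pullback.fst f ι) := by
        rw [IsOpenImmersion.range_pullbackFst]
        exact ⟨s', hx.symm⟩
      obtain ⟨x', rfl⟩ := hx'
      refine ⟨PUnit.unit, x', ?_, rfl⟩
      apply ι.isOpenEmbedding.injective
      rw [← hcomm PUnit.unit x']
      exact hx) Z Z'
  rw [Set.iInter_const] at key
  rw [key]
  have h1 : LocallyOfFinitePresentation (pullback.snd f ι) := inferInstance
  have h2 : QuasiCompact (pullback.snd f ι) := inferInstance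
  exact isConstructible_fibLocus_of_affine' hP hR hT (pullback.snd f ι) _ _
    (hZ.preimage_of_isOpenEmbedding (pullback.fst f ι).isOpenEmbedding)
    (hZ'.preimage_of_isOpenEmbedding (pullback.fst f ι).isOpenEmbedding)

include hP hR in
/-- **Main reduction**: fibrewise loci of an open-local predicate are locally constructible for
morphisms of finite presentation, provided they are constructible at the level of rings. -/
theorem isLocallyConstructible_fibLocus {X S : Scheme.{u}} (f : X ⟶ S)
    [LocallyOfFinitePresentation f] [QuasiCompact f]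
    (Z Z' : Set X) (hZ : IsLocallyConstructible Z) (hZ' : IsLocallyConstructible Z') :
    IsLocallyConstructible (FibLocus P (f : X → S) Z Z') := by
  refine isLocallyConstructible_of_isOpenEmbedding _ fun s => ?_
  haveI hoi : IsOpenImmersion (S.affineCover.f (S.affineCover.idx s)) := inferInstance
  exact ⟨↥(S.affineCover.X (S.affineCover.idx s)), inferInstance,
    ⇑(S.affineCover.f (S.affineCover.idx s)),
    (S.affineCover.f (S.affineCover.idx s)).isOpenEmbedding, S.affineCover.covers s,
    isConstructible_preimage_fibLocus hP hR (T := S.affineCover.X (S.affineCover.idx s))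
      ⟨_, rfl⟩ (S.affineCover.f (S.affineCover.idx s)) f Z Z' hZ hZ'⟩

end Scheme

end Groth.Agent.Lib.Seat15.FibScheme
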