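import Mathlib
import Groth.Agent.Lib.Seat15FibLocus
import Groth.Agent.Lib.Seat15FibNoeth
import Groth.Agent.Lib.Seat15FibDescent
import Groth.Agent.Lib.Seat15FibScheme

/-!
# EGA IV 9.5.3 / 9.5.4: fibrewise density, closedness, openness, local closedness (seat 15)

For `f : X ⟶ S` of finite presentation and locally constructible `Z Z' ⊆ X` the following subsets
of `S` are locally constructible:
* `{s | Z'_s ⊆ closure Z_s}`;
* `{s | Z_s closed / open / locally closed in the fibre f⁻¹(s)}`.
-/

set_option autoImplicit false
universe u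

namespace Groth.Agent.Lib.Seat15.FibMain

open CategoryTheory AlgebraicGeometry Topology PrimeSpectrum
  Groth.Agent.Lib.Seat15.FibLocus Groth.Agent.Lib.Seat15.FibNoeth
  Groth.Agent.Lib.Seat15.FibDescent Groth.Agent.Lib.Seat15.FibScheme

variable {X S : Scheme.{u}} (f : X ⟶ S) [LocallyOfFinitePresentation f] [QuasiCompact f]
  (Z Z' : Set X)

theorem isLocallyConstructible_pDense (hZ : IsLocallyConstructible Z)
    (hZ' : IsLocallyConstructible Z') :
    IsLocallyConstructible (FibLocus PDense (f : X → S) Z Z') :=
  isLocallyConstructible_fibLocus openLocal_pDense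
    (fun A B _ _ _ _ W W' hW hW' =>
      isConstructible_fibLocus_of_finitePresentation openLocal_pDense
        (fun A B _ _ _ _ _ W W' hW hW' => isConstructible_fibLocus_pDense A B W W' hW hW')
        A B W W' hW hW') f Z Z' hZ hZ'

theorem isLocallyConstructible_pClosed (hZ : IsLocallyConstructible Z)
    (hZ' : IsLocallyConstructible Z') :
    IsLocallyConstructible (FibLocus PClosed (f : X → S) Z Z') :=
  isLocallyConstructible_fibLocus openLocal_pClosed
    (fun A B _ _ _ _ W W' hW hW' =>
      isConstructible_fibLocus_of_finitePresentation openLocal_pClosed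
        (fun A B _ _ _ _ _ W W' hW _ => isConstructible_fibLocus_pClosed A B W W' hW)
        A B W W' hW hW') f Z Z' hZ hZ'

theorem isLocallyConstructible_pOpen (hZ : IsLocallyConstructible Z)
    (hZ' : IsLocallyConstructible Z') :
    IsLocallyConstructible (FibLocus POpen (f : X → S) Z Z') :=
  isLocallyConstructible_fibLocus openLocal_pOpen
    (fun A B _ _ _ _ W W' hW hW' =>
      isConstructible_fibLocus_of_finitePresentation openLocal_pOpen
        (fun A B _ _ _ _ _ W W' hW _ => isConstructible_fibLocus_pOpen A B W W' hW)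
        A B W W' hW hW') f Z Z' hZ hZ'

theorem isLocallyConstructible_pLocClosed (hZ : IsLocallyConstructible Z)
    (hZ' : IsLocallyConstructible Z') :
    IsLocallyConstructible (FibLocus PLocClosed (f : X → S) Z Z') :=
  isLocallyConstructible_fibLocus openLocal_pLocClosed
    (fun A B _ _ _ _ W W' hW hW' =>
      isConstructible_fibLocus_of_finitePresentation openLocal_pLocClosed
        (fun A B _ _ _ _ _ W W' hW _ => isConstructible_fibLocus_pLocClosed A B W W' hW)
        A B W W' hW hW') f Z Z' hZ hZ'

/-- EGA IV 9.5.3 -/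
theorem isLocallyConstructible_setOf_fibre_dense (hZ : IsLocallyConstructible Z)
    (hZ' : IsLocallyConstructible Z') :
    IsLocallyConstructible
      {s : S | Z' ∩ (f : X → S) ⁻¹' {s} ⊆ closure (Z ∩ (f : X → S) ⁻¹' {s})} := by
  have h := isLocallyConstructible_pDense f Z Z' hZ hZ'
  have heq : {s : S | Z' ∩ (f : X → S) ⁻¹' {s} ⊆ closure (Z ∩ (f : X → S) ⁻¹' {s})} =
      FibLocus PDense (f : X → S) Z Z' := by
    ext s
    exact (mem_fibLocus_pDense _ _ _ s).symm
  rw [heq]
  exact h

end Groth.Agent.Lib.Seat15.FibMain
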