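import Mathlib
import Groth.Agent.Lib.Seat15FibMain
import Groth.Agent.Lib.Helper6LfpComp

/-!
# EGA IV 9.6.1 (dominant): the locus where `f_s : X_s ⟶ Y_s` is dominant (seat 15)
-/

set_option autoImplicit false
set_option linter.style.haveILetI false
universe u

namespace Groth.Agent.Lib.Seat15.FibDominant

open CategoryTheory CategoryTheory.Limits AlgebraicGeometry Topology

variable {X Y S : Scheme.{u}} (f : X ⟶ Y) (g : Y ⟶ S)

/-- the morphism induced on the fibres over `s` -/
noncomputable abbrev fibHom (s : S) :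
    pullback (f ≫ g) (S.fromSpecResidueField s) ⟶ pullback g (S.fromSpecResidueField s) :=
  pullback.lift (pullback.fst (f ≫ g) (S.fromSpecResidueField s) ≫ f)
    (pullback.snd (f ≫ g) (S.fromSpecResidueField s))
    ((Category.assoc _ _ _).trans pullback.condition)

theorem fibHom_fst (s : S) :
    fibHom f g s ≫ g.fiberι s = (f ≫ g).fiberι s ≫ f :=
  pullback.lift_fst _ _ _

/-- the image of the fibre map, seen in `Y` -/
theorem image_range_fibHom (s : S) :
    (g.fiberι s) '' Set.range (fibHom f g s) = Set.range f ∩ g ⁻¹' {s} := by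
  ext y
  constructor
  · rintro ⟨y₀, ⟨x₀, rfl⟩, rfl⟩
    have h1 : g.fiberι s (fibHom f g s x₀) = f ((f ≫ g).fiberι s x₀) := by
      show (fibHom f g s ≫ g.fiberι s) x₀ = ((f ≫ g).fiberι s ≫ f) x₀
      rw [fibHom_fst]
      rfl
    refine ⟨⟨_, h1.symm⟩, ?_⟩
    have h2 : g.fiberι s (fibHom f g s x₀) ∈ Set.range (g.fiberι s) := ⟨_, rfl⟩
    rw [g.range_fiberι s] at h2
    exact h2
  · rintro ⟨⟨x, rfl⟩, hx⟩
    have h1 : x ∈ Set.range ((f ≫ g).fiberι s) := by
      rw [(f ≫ g).range_fiberι s]
      exact hx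
    obtain ⟨x₀, rfl⟩ := h1
    refine ⟨fibHom f g s x₀, ⟨x₀, rfl⟩, ?_⟩
    show (fibHom f g s ≫ g.fiberι s) x₀ = ((f ≫ g).fiberι s ≫ f) x₀
    rw [fibHom_fst]
    rfl

theorem isDominant_fibHom_iff (s : S) :
    IsDominant (fibHom f g s) ↔
      (Set.univ : Set Y) ∩ g ⁻¹' {s} ⊆ closure (Set.range f ∩ g ⁻¹' {s}) := by
  rw [isDominant_iff, ← image_range_fibHom f g s]
  have hind : IsInducing (g.fiberι s) := (g.fiberι s).isEmbedding.isInducing
  constructor
  · rintro hd y ⟨-, hy⟩
    have h1 : y ∈ Set.range (g.fiberι s) := by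
      rw [g.range_fiberι s]
      exact hy
    obtain ⟨y₀, rfl⟩ := h1
    exact image_closure_subset_closure_image (g.fiberι s).continuous ⟨y₀, hd y₀, rfl⟩
  · intro h y₀
    have h1 : g.fiberι s y₀ ∈ closure ((g.fiberι s) '' Set.range (fibHom f g s)) := by
      refine h ⟨Set.mem_univ _, ?_⟩
      have h2 : g.fiberι s y₀ ∈ Set.range (g.fiberι s) := ⟨_, rfl⟩
      rw [g.range_fiberι s] at h2
      exact h2
    exact (Set.ext_iff.mp (hind.closure_eq_preimage_closure_image _) y₀).mpr h1

theorem isLocallyConstructible_setOf_isDominant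
    [LocallyOfFinitePresentation g] [QuasiCompact g] [QuasiSeparated g]
    [LocallyOfFinitePresentation (f ≫ g)] [QuasiCompact (f ≫ g)] :
    IsLocallyConstructible {s : S | IsDominant (fibHom f g s)} := by
  haveI : LocallyOfFinitePresentation f :=
    Groth.Agent.Lib.Helper6.locallyOfFinitePresentation_of_comp
      (inferInstance : LocallyOfFiniteType g) (inferInstance : LocallyOfFinitePresentation (f ≫ g))
  haveI : QuasiCompact f := QuasiCompact.of_comp f g
  have hrange : IsLocallyConstructible (Set.range f) := by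
    rw [← Set.image_univ]
    exact f.isLocallyConstructible_image IsConstructible.univ.isLocallyConstructible
  have main := Groth.Agent.Lib.Seat15.FibMain.isLocallyConstructible_setOf_fibre_dense g
    (Set.range f) Set.univ hrange IsConstructible.univ.isLocallyConstructible
  have heq : {s : S | IsDominant (fibHom f g s)} =
      {s : S | (Set.univ : Set Y) ∩ (g : Y → S) ⁻¹' {s} ⊆
        closure (Set.range f ∩ (g : Y → S) ⁻¹' {s})} := by
    ext s
    exact isDominant_fibHom_iff f g s
  rw [heq]
  exact main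

end Groth.Agent.Lib.Seat15.FibDominant
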