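import Mathlib
import Groth.Agent.Lib.Seat15FibMain
import Groth.Agent.Lib.Seat15FibDominant
import Groth.Agent.Lib.Helper6LfpComp

/-!
# EGA IV 9.6.1 (separated): the locus where `f_s : X_s ⟶ Y_s` is separated (seat 15)

* `isPullback_diagonal_of_isPullback`: the diagonal of a base change is the base change of the
  diagonal (in terms of `IsPullback`).
* `isSeparated_iff_isClosed_of_isPullback`: for a base change `f'` of `f` along a preimmersion `b`,
  `f'` is separated iff the trace of the diagonal of `f` is closed in the preimage of `range b`.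
* `isLocallyConstructible_setOf_isSeparated`.
-/

set_option autoImplicit false
set_option linter.style.haveILetI false
universe u

namespace Groth.Agent.Lib.Seat15.FibSeparated

open CategoryTheory CategoryTheory.Limits AlgebraicGeometry Topology

section Cat

variable {C : Type*} [Category C] [HasPullbacks C]
variable {X' X Y' Y : C} {a : X' ⟶ X} {f' : X' ⟶ Y'} {f : X ⟶ Y} {b : Y' ⟶ Y}

/-- the map between the diagonal objects -/
noncomputable abbrev diagMap (sq : IsPullback a f' f b) : pullback f' f' ⟶ pullback f f :=
  pullback.map f' f' f f a a b sq.w.symm sq.w.symm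

theorem isPullback_diagMap_fst (sq : IsPullback a f' f b) :
    IsPullback (diagMap sq) (pullback.fst f' f') (pullback.fst f f) a := by
  have R1 : IsPullback (pullback.snd f' f' ≫ a) (pullback.fst f' f') f (f' ≫ b) :=
    (IsPullback.of_hasPullback f' f').flip.paste_horiz sq
  have hR : IsPullback (pullback.snd f f) (pullback.fst f f) f f :=
    (IsPullback.of_hasPullback f f).flip
  have R1' : IsPullback (diagMap sq ≫ pullback.snd f f) (pullback.fst f' f') f (a ≫ f) := by
    have h1 : diagMap sq ≫ pullback.snd f f = pullback.snd f' f' ≫ a := pullback.lift_snd _ _ _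
    rw [h1, sq.w]
    exact R1
  exact IsPullback.of_right R1' (pullback.lift_fst _ _ _) hR

theorem isPullback_diagonal_of_isPullback (sq : IsPullback a f' f b) :
    IsPullback (pullback.diagonal f') a (diagMap sq) (pullback.diagonal f) := by
  have hA := (isPullback_diagMap_fst sq).flip
  have hout : IsPullback (pullback.diagonal f' ≫ pullback.fst f' f') a a
      (pullback.diagonal f ≫ pullback.fst f f) := by
    rw [pullback.diagonal_fst, pullback.diagonal_fst]
    exact IsPullback.id_horiz a
  refine IsPullback.of_right hout ?_ hA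
  have h1 : diagMap sq ≫ pullback.fst f f = pullback.fst f' f' ≫ a := pullback.lift_fst _ _ _
  have h2 : diagMap sq ≫ pullback.snd f f = pullback.snd f' f' ≫ a := pullback.lift_snd _ _ _
  apply pullback.hom_ext
  · rw [Category.assoc, Category.assoc, pullback.diagonal_fst, Category.comp_id, h1,
      ← Category.assoc, pullback.diagonal_fst, Category.id_comp]
  · rw [Category.assoc, Category.assoc, pullback.diagonal_snd, Category.comp_id, h2,
      ← Category.assoc, pullback.diagonal_snd, Category.id_comp]

theorem isPullback_diagMap_base (sq : IsPullback a f' f b) :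
    IsPullback (diagMap sq) (pullback.fst f' f' ≫ f') (pullback.fst f f ≫ f) b :=
  (isPullback_diagMap_fst sq).paste_vert sq

end Cat

section Sch

theorem range_fst_of_isPullback {W A B C : Scheme.{u}} {fst : W ⟶ A} {snd : W ⟶ B} {f : A ⟶ C}
    {g : B ⟶ C} (h : IsPullback fst snd f g) : Set.range fst = f ⁻¹' Set.range g := by
  ext y
  constructor
  · rintro ⟨w, rfl⟩
    refine ⟨snd w, ?_⟩
    show (snd ≫ g) w = (fst ≫ f) w
    rw [h.w]
  · intro hy
    have h1 : y ∈ Set.range (pullback.fst f g) := by
      rw [Scheme.Pullback.range_fst]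
      exact hy
    obtain ⟨p, rfl⟩ := h1
    refine ⟨h.isoPullback.inv p, ?_⟩
    show (h.isoPullback.inv ≫ fst) p = _
    rw [h.isoPullback_inv_fst]

variable {X' X Y' Y : Scheme.{u}} {a : X' ⟶ X} {f' : X' ⟶ Y'} {f : X ⟶ Y} {b : Y' ⟶ Y}

theorem isSeparated_iff_isClosed_of_isPullback (sq : IsPullback a f' f b) [IsPreimmersion b] :
    IsSeparated f' ↔ IsClosed (Subtype.val ⁻¹' Set.range (pullback.diagonal f) :
      Set ↥((pullback.fst f f ≫ f) ⁻¹' Set.range b)) := by
  have hu : IsPreimmersion (diagMap sq) :=
    MorphismProperty.of_isPullback (P := @IsPreimmersion) (isPullback_diagMap_base sq).flip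
      inferInstance
  have hrange : Set.range (diagMap sq) = (pullback.fst f f ≫ f) ⁻¹' Set.range b :=
    range_fst_of_isPullback (isPullback_diagMap_base sq)
  have hΔ : Set.range (pullback.diagonal f') = (diagMap sq) ⁻¹' Set.range (pullback.diagonal f) :=
    range_fst_of_isPullback (isPullback_diagonal_of_isPullback sq)
  have h1 : IsSeparated f' ↔ IsClosed (Set.range (pullback.diagonal f')) := by
    constructor
    · intro h
      exact (pullback.diagonal f').isClosedEmbedding.isClosed_range
    · intro h
      exact ⟨IsClosedImmersion.of_isPreimmersion _ h⟩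
  rw [h1, hΔ]
  -- transport along the embedding
  have key : ∀ (T : Set ↥(pullback f f)), Set.range (diagMap sq) = T →
      (IsClosed ((diagMap sq) ⁻¹' Set.range (pullback.diagonal f)) ↔
        IsClosed (Subtype.val ⁻¹' Set.range (pullback.diagonal f) : Set ↥T)) := by
    rintro T rfl
    let φ := (diagMap sq).isEmbedding.toHomeomorph
    have : (diagMap sq) ⁻¹' Set.range (pullback.diagonal f) =
        φ ⁻¹' (Subtype.val ⁻¹' Set.range (pullback.diagonal f)) := rfl
    rw [this, φ.isClosed_preimage]
  exact key _ hrange

end Sch

section Main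

open Groth.Agent.Lib.Seat15.FibDominant Groth.Agent.Lib.Seat15.FibLocus

variable {X Y S : Scheme.{u}} (f : X ⟶ Y) (g : Y ⟶ S)

theorem isPullback_fibHom (s : S) :
    IsPullback (pullback.fst (f ≫ g) (S.fromSpecResidueField s)) (fibHom f g s) f
      (pullback.fst g (S.fromSpecResidueField s)) := by
  have hs : IsPullback (pullback.fst (f ≫ g) (S.fromSpecResidueField s))
      (fibHom f g s ≫ pullback.snd g (S.fromSpecResidueField s)) (f ≫ g)
      (S.fromSpecResidueField s) := by
    have h1 : fibHom f g s ≫ pullback.snd g (S.fromSpecResidueField s) =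
        pullback.snd (f ≫ g) (S.fromSpecResidueField s) := pullback.lift_snd _ _ _
    rw [h1]
    exact IsPullback.of_hasPullback (f ≫ g) (S.fromSpecResidueField s)
  have hp : pullback.fst (f ≫ g) (S.fromSpecResidueField s) ≫ f =
      fibHom f g s ≫ pullback.fst g (S.fromSpecResidueField s) := (pullback.lift_fst _ _ _).symm
  exact IsPullback.of_bot hs hp (IsPullback.of_hasPullback g (S.fromSpecResidueField s))

theorem isSeparated_fibHom_iff (s : S) :
    IsSeparated (fibHom f g s) ↔
      s ∈ FibLocus PClosed ((pullback.fst f f ≫ f ≫ g : pullback f f ⟶ S) : ↥(pullback f f) → S)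
        (Set.range (pullback.diagonal f)) (Set.range (pullback.diagonal f)) := by
  rw [isSeparated_iff_isClosed_of_isPullback (isPullback_fibHom f g s)]
  have key : ∀ (T₁ T₂ : Set ↥(pullback f f)), T₁ = T₂ →
      (IsClosed (Subtype.val ⁻¹' Set.range (pullback.diagonal f) : Set ↥T₁) ↔
        IsClosed (Subtype.val ⁻¹' Set.range (pullback.diagonal f) : Set ↥T₂)) := by
    rintro T₁ T₂ rfl
    exact Iff.rfl
  refine key _ _ ?_
  have h1 : Set.range (pullback.fst g (S.fromSpecResidueField s)) = g ⁻¹' {s} :=
    g.range_fiberι s
  rw [h1]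
  rfl

theorem isLocallyConstructible_setOf_isSeparated
    [LocallyOfFinitePresentation g] [QuasiCompact g] [QuasiSeparated g]
    [LocallyOfFinitePresentation (f ≫ g)] [QuasiCompact (f ≫ g)] [QuasiSeparated (f ≫ g)] :
    IsLocallyConstructible {s : S | IsSeparated (fibHom f g s)} := by
  haveI : LocallyOfFinitePresentation f :=
    Groth.Agent.Lib.Helper6.locallyOfFinitePresentation_of_comp
      (inferInstance : LocallyOfFiniteType g) (inferInstance : LocallyOfFinitePresentation (f ≫ g))
  haveI : QuasiCompact f := QuasiCompact.of_comp f g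
  haveI : QuasiSeparated f := QuasiSeparated.of_comp f g
  haveI : LocallyOfFinitePresentation (pullback.diagonal f) := by
    refine Groth.Agent.Lib.Helper6.locallyOfFinitePresentation_of_comp
      (g := pullback.fst f f) inferInstance ?_
    rw [pullback.diagonal_fst]
    infer_instance
  have hΔ : IsLocallyConstructible (Set.range (pullback.diagonal f)) := by
    rw [← Set.image_univ]
    exact (pullback.diagonal f).isLocallyConstructible_image
      IsConstructible.univ.isLocallyConstructible
  have main := Groth.Agent.Lib.Seat15.FibMain.isLocallyConstructible_pClosed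
    (pullback.fst f f ≫ f ≫ g) (Set.range (pullback.diagonal f))
    (Set.range (pullback.diagonal f)) hΔ hΔ
  have heq : {s : S | IsSeparated (fibHom f g s)} =
      FibLocus PClosed ((pullback.fst f f ≫ f ≫ g : pullback f f ⟶ S) : ↥(pullback f f) → S)
        (Set.range (pullback.diagonal f)) (Set.range (pullback.diagonal f)) := by
    ext s
    exact isSeparated_fibHom_iff f g s
  rw [heq]
  exact main

end Main

end Groth.Agent.Lib.Seat15.FibSeparated
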