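import Mathlib
import Groth.Agent.Lib.Seat15FibSeparated
import Groth.Agent.Lib.Helper3ConsOfLocus

/-!
# fpqc descent of separatedness and properness; generic-point lemmas (seat 15)

* `descendsAlong_isSeparated`, `descendsAlong_isProper`: `IsSeparated` and `IsProper` descend along
  surjective flat quasi-compact base changes.
* `genericPoint_mem_interior`: a constructible set containing the generic point of an irreducible
  space is a neighbourhood of it.
* `dichotomy_of_preimage`: the dichotomy "`E` or its complement has nonempty interior" can be checked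
  on a nonempty open subscheme of an integral scheme.
-/

set_option autoImplicit false
set_option linter.style.haveILetI false
universe u

namespace Groth.Agent.Lib.Seat15.FibDescSep

open CategoryTheory CategoryTheory.Limits AlgebraicGeometry Topology MorphismProperty
  Groth.Agent.Lib.Seat15.FibSeparated

section Descent

variable {X' X Y' Y : Scheme.{u}} {a : X' ⟶ X} {f' : X' ⟶ Y'} {f : X ⟶ Y} {b : Y' ⟶ Y}

/-- closedness of the range descends along a flat surjective quasi-compact base change -/
theorem isClosed_range_of_isPullback (sq : IsPullback a f' f b) [Flat b] [Surjective b]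
    [QuasiCompact b] (h : IsClosed (Set.range f')) : IsClosed (Set.range f) := by
  have hq : IsQuotientMap b := Flat.isQuotientMap_of_surjective b
  rw [← hq.isClosed_preimage]
  have h1 : Set.range f' = (b : Y' → Y) ⁻¹' Set.range f := range_fst_of_isPullback sq.flip
  rw [← h1]
  exact h

instance descendsAlong_isSeparated :
    MorphismProperty.DescendsAlong @IsSeparated
      (@Surjective ⊓ @Flat ⊓ @QuasiCompact : MorphismProperty Scheme.{u}) where
  of_isPullback {A X Y Z fst snd f g} h hf hfst := by
    have sq : IsPullback snd fst g f := h.flip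
    have hb := isPullback_diagMap_base sq
    haveI : Surjective (diagMap sq) :=
      MorphismProperty.of_isPullback (P := @Surjective) hb.flip hf.1.1
    haveI : Flat (diagMap sq) := MorphismProperty.of_isPullback (P := @Flat) hb.flip hf.1.2
    haveI : QuasiCompact (diagMap sq) :=
      MorphismProperty.of_isPullback (P := @QuasiCompact) hb.flip hf.2
    haveI : IsSeparated fst := hfst
    have hcl : IsClosed (Set.range (pullback.diagonal g)) :=
      isClosed_range_of_isPullback (isPullback_diagonal_of_isPullback sq).flip
        (pullback.diagonal fst).isClosedEmbedding.isClosed_range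
    exact ⟨IsClosedImmersion.of_isPreimmersion _ hcl⟩

instance descendsAlong_isProper :
    MorphismProperty.DescendsAlong @IsProper
      (@Surjective ⊓ @Flat ⊓ @QuasiCompact : MorphismProperty Scheme.{u}) := by
  rw [isProper_eq]
  haveI h1 : MorphismProperty.DescendsAlong @UniversallyClosed
      (@Surjective ⊓ @Flat ⊓ @QuasiCompact : MorphismProperty Scheme.{u}) := inferInstance
  haveI h2 : MorphismProperty.DescendsAlong @LocallyOfFiniteType
      (@Surjective ⊓ @Flat ⊓ @QuasiCompact : MorphismProperty Scheme.{u}) := inferInstance
  haveI h3 : MorphismProperty.DescendsAlong @IsSeparated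
      (@Surjective ⊓ @Flat ⊓ @QuasiCompact : MorphismProperty Scheme.{u}) :=
    descendsAlong_isSeparated
  haveI h4 : MorphismProperty.DescendsAlong (@IsSeparated ⊓ @UniversallyClosed)
      (@Surjective ⊓ @Flat ⊓ @QuasiCompact : MorphismProperty Scheme.{u}) :=
    MorphismProperty.DescendsAlong.inf
  exact MorphismProperty.DescendsAlong.inf

end Descent

section Generic

/-- a constructible set containing the generic point of an irreducible space is a neighbourhood of
it -/
theorem genericPoint_mem_interior {S : Type*} [TopologicalSpace S] [IrreducibleSpace S]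
    {η : S} (hη : IsGenericPoint η Set.univ) {E : Set S} (hE : IsConstructible E) (h : η ∈ E) :
    η ∈ interior E := by
  rcases Groth.Agent.Lib.Helper3.ConsOfLocus.interior_nonempty_or_of_isConstructible hE with h1 | h1
  · exact (hη.mem_open_set_iff isOpen_interior).mpr (by rwa [Set.univ_inter])
  · have : η ∈ interior Eᶜ := (hη.mem_open_set_iff isOpen_interior).mpr (by rwa [Set.univ_inter])
    exact absurd h (interior_subset this)

/-- the dichotomy can be checked on a nonempty open subscheme -/
theorem dichotomy_of_preimage {S : Scheme.{u}} [IsIntegral S] (U : S.Opens) (E : Set S)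
    (h : (interior (U.ι ⁻¹' E)).Nonempty ∨ (interior (U.ι ⁻¹' E)ᶜ).Nonempty) :
    (interior E).Nonempty ∨ (interior Eᶜ).Nonempty := by
  have hopen : IsOpenMap U.ι := U.ι.isOpenEmbedding.isOpenMap
  rcases h with ⟨z, hz⟩ | ⟨z, hz⟩
  · left
    refine ⟨U.ι z, interior_maximal ?_ (hopen _ isOpen_interior) ⟨z, hz, rfl⟩⟩
    rintro _ ⟨w, hw, rfl⟩
    exact (interior_subset hw : w ∈ U.ι ⁻¹' E)
  · right
    refine ⟨U.ι z, interior_maximal ?_ (hopen _ isOpen_interior) ⟨z, hz, rfl⟩⟩
    rintro _ ⟨w, hw, rfl⟩
    exact (interior_subset hw : w ∈ (U.ι ⁻¹' E)ᶜ)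

end Generic

end Groth.Agent.Lib.Seat15.FibDescSep
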