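import Groth.Agent.Lib.Seat85PnSmooth

/-!
# Embedding a finite type affine morphism into projective space (seat 85)
-/

set_option autoImplicit false
universe u

open CategoryTheory CategoryTheory.Limits AlgebraicGeometry HomogeneousLocalization MvPolynomial

namespace Groth.Agent.Lib.Seat85.PnEmbed

open Groth.Agent.Lib.Helper27PnChart

section

variable (n : ℕ)

/-- `ℤ` in universe `u`. -/
abbrev Zu : Type u := ULift.{u} ℤ

/-- The chart ring isomorphism. -/
noncomputable def chartEquiv :
    MvPolynomial {j : Fin (n + 1) // j ≠ 0} Zu.{u} ≃+*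
      Away (CohB1.polyGrading n Zu.{u}) (X 0) :=
  RingEquiv.ofBijective (chart n Zu.{u} 0) (chart_bijective n Zu.{u} 0)

variable {n} {A B : CommRingCat.{u}} (φ : A ⟶ B)
  (π : MvPolynomial (Fin n) A →+* B) (hπC : ∀ a, π (C a) = φ.hom a)

/-- the coordinate functions -/
noncomputable def psi0 : MvPolynomial {j : Fin (n + 1) // j ≠ 0} Zu.{u} →+* B :=
  MvPolynomial.eval₂Hom ((Int.castRingHom B).comp (ULift.ringEquiv : Zu.{u} ≃+* ℤ).toRingHom)
    (fun j => π (X (j.1.pred j.2)))

/-- the map on the affine chart -/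
noncomputable def psi : Away (CohB1.polyGrading n Zu.{u}) (X 0) →+* B :=
  (psi0 π).comp (chartEquiv n).symm.toRingHom

lemma psi_chart_X (j : {j : Fin (n + 1) // j ≠ 0}) :
    psi π (chartEquiv n (X j)) = π (X (j.1.pred j.2)) := by
  simp [psi, psi0]

end

section geom

variable {A B : CommRingCat.{u}}

/-- If `c ≫ q = Spec.map θ`, then `θ` is computed through `c` on global sections. -/
lemma ΓSpecIso_inv_apply_of_comp {C : CommRingCat.{u}} {Q : Scheme.{u}} (c : Spec B ⟶ Q)
    (q : Q ⟶ Spec C) (θ : C ⟶ B) (h : c ≫ q = Spec.map θ) (x : C) :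
    (Scheme.ΓSpecIso B).inv (θ.hom x) = c.appTop (q.appTop ((Scheme.ΓSpecIso C).inv x)) := by
  have h1 : θ ≫ (Scheme.ΓSpecIso B).inv = (Scheme.ΓSpecIso C).inv ≫ (Spec.map θ).appTop :=
    Scheme.ΓSpecIso_inv_naturality θ
  have h2 : (Spec.map θ).appTop = q.appTop ≫ c.appTop := by
    rw [← h, Scheme.Hom.comp_appTop]
  have := congrArg (fun k => k.hom x) h1
  simp only [CommRingCat.hom_comp, RingHom.comp_apply] at this
  rw [this, h2]
  rfl

set_option backward.isDefEq.respectTransparency false in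
/-- A finite type ring map `A ⟶ B` and an open immersion `Spec A ⟶ Y` give an immersion of
`Spec B` into a projective space over `Y`. -/
theorem exists_immersion (φ : A ⟶ B) (hφ : φ.hom.FiniteType)
    {Y : Scheme.{u}} (v : Spec A ⟶ Y) [IsOpenImmersion v] :
    ∃ (n : ℕ) (i : Spec B ⟶ CohB1.ProjSpaceOver n Y), IsImmersion i ∧
      i ≫ CohB1.ProjSpaceOver.toBase n Y = Spec.map φ ≫ v := by
  algebraize [φ.hom]
  obtain ⟨n, π, hπ⟩ := Algebra.FiniteType.iff_quotient_mvPolynomial''.1
    (inferInstance : Algebra.FiniteType A B)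
  have hπC : ∀ a, π.toRingHom (C a) = φ.hom a := fun a => π.commutes a
  let ι₀ := Proj.awayι (CohB1.polyGrading n Zu.{u}) (X 0) (X_mem_one n Zu.{u} 0) one_pos
  let tY := specULiftZIsTerminal.from Y
  let toSp := CohB1.ProjSpace.toSpec n Zu.{u}
  let ψ : CommRingCat.of (Away (CohB1.polyGrading n Zu.{u}) (X 0)) ⟶ B :=
    CommRingCat.ofHom (psi π.toRingHom)
  let c : Spec B ⟶ pullback (ι₀ ≫ toSp) (v ≫ tY) :=
    pullback.lift (Spec.map ψ) (Spec.map φ) (specULiftZIsTerminal.hom_ext _ _)
  let j : pullback (ι₀ ≫ toSp) (v ≫ tY) ⟶ pullback toSp tY :=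
    pullback.map _ _ _ _ ι₀ v (𝟙 _) (by simp) (by simp)
  have hj : IsOpenImmersion j := inferInstance
  have hc : IsClosedImmersion c := by
    apply IsClosedImmersion.of_surjective_of_isAffine
    have h_snd := ΓSpecIso_inv_apply_of_comp c (pullback.snd _ _) φ (pullback.lift_snd _ _ _)
    have h_fst := ΓSpecIso_inv_apply_of_comp c (pullback.fst _ _) ψ (pullback.lift_fst _ _ _)
    have key : ∀ p : MvPolynomial (Fin n) A,
        (Scheme.ΓSpecIso B).inv (π p) ∈ (c.appTop.hom).range := by
      intro p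
      induction p using MvPolynomial.induction_on with
      | C a =>
        rw [show π (C a) = φ.hom a from hπC a, h_snd]
        exact ⟨_, rfl⟩
      | add p q hp hq =>
        rw [map_add, map_add]
        exact Subring.add_mem _ hp hq
      | mul_X p k hp =>
        rw [map_mul, map_mul]
        refine Subring.mul_mem _ hp ?_
        have hk : π (X k) = ψ.hom (chartEquiv n (X ⟨k.succ, Fin.succ_ne_zero k⟩)) := by
          change _ = psi π.toRingHom _
          rw [psi_chart_X]
          simp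
        rw [hk, h_fst]
        exact ⟨_, rfl⟩
    intro b
    obtain ⟨p, hp⟩ := hπ ((Scheme.ΓSpecIso B).hom b)
    have := key p
    rw [hp] at this
    obtain ⟨y, hy⟩ := this
    refine ⟨y, ?_⟩
    rw [show c.appTop y = c.appTop.hom y from rfl, hy]
    exact congrArg (fun k => k.hom b) (Scheme.ΓSpecIso B).hom_inv_id
  refine ⟨n, c ≫ j, inferInstance, ?_⟩
  change (c ≫ j) ≫ pullback.snd toSp tY = _
  rw [Category.assoc, pullback.lift_snd, pullback.lift_snd_assoc]

end geom

end Groth.Agent.Lib.Seat85.PnEmbed
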