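import Groth.Agent.Lib.Seat85SchDom2

set_option autoImplicit false
universe u
open CategoryTheory CategoryTheory.Limits AlgebraicGeometry

namespace Groth.Agent.Lib.Seat85.SchDom

/-- A closed immersion through which a scheme-theoretically dominant morphism factors is an
isomorphism. -/
lemma isIso_of_isClosedImmersion_of_fac {V Z W : Scheme.{u}} (i : Z ⟶ W) [IsClosedImmersion i]
    (j : V ⟶ W) [IsSchemeTheoreticallyDominant j] (l : V ⟶ Z) (hl : l ≫ i = j) : IsIso i := by
  refine (IsClosedImmersion.isIso_iff_ker_eq_bot (f := i)).2 ?_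
  rw [eq_bot_iff]
  calc i.ker ≤ (l ≫ i).ker := Scheme.Hom.le_ker_comp _ _
    _ = j.ker := by rw [hl]
    _ = ⊥ := j.ker_eq_bot

/-- If `g : W ⟶ P` factors through the closed immersion `i : Γ ⟶ P` after restriction along a
scheme-theoretically dominant `j : V ⟶ W`, then `g` factors through `i`. -/
lemma exists_lift_of_isClosedImmersion {V W P Γ : Scheme.{u}} (i : Γ ⟶ P) [IsClosedImmersion i]
    (g : W ⟶ P) (j : V ⟶ W) [IsSchemeTheoreticallyDominant j] (c : V ⟶ Γ)
    (hc : c ≫ i = j ≫ g) : ∃ c' : W ⟶ Γ, c' ≫ i = g := by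
  have : IsIso (pullback.fst g i) :=
    isIso_of_isClosedImmersion_of_fac (pullback.fst g i) j (pullback.lift j c hc.symm)
      (pullback.lift_fst _ _ _)
  refine ⟨inv (pullback.fst g i) ≫ pullback.snd g i, ?_⟩
  rw [Category.assoc, ← pullback.condition, IsIso.inv_hom_id_assoc]

/-- Base change of a flat `A`-scheme along `Spec B ⟶ Spec A` (for `A ⟶ B` injective) is
scheme-theoretically dominant. -/
lemma isSchemeTheoreticallyDominant_pullback_fst {A B : CommRingCat.{u}} (φ : A ⟶ B)
    (hφ : Function.Injective φ.hom) {W : Scheme.{u}} (w : W ⟶ Spec A) [Flat w] :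
    IsSchemeTheoreticallyDominant (pullback.fst w (Spec.map φ)) := by
  have : IsSchemeTheoreticallyDominant (Spec.map φ) := isSchemeTheoreticallyDominant_specMap φ hφ
  infer_instance

/-- Spreading out a pair of points in a closed relation from the generic fibre. -/
lemma exists_lift_pair {A B : CommRingCat.{u}} (φ : A ⟶ B) (hφ : Function.Injective φ.hom)
    {Y Γ : Scheme.{u}} (f : Y ⟶ Spec A) (p₁ p₂ : Γ ⟶ Y) (h : p₁ ≫ f = p₂ ≫ f)
    [IsClosedImmersion (pullback.lift p₁ p₂ h)]
    {W : Scheme.{u}} (w : W ⟶ Spec A) [Flat w] (a b : W ⟶ Y) (ha : a ≫ f = w) (hb : b ≫ f = w)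
    (c : pullback w (Spec.map φ) ⟶ Γ) (hc₁ : c ≫ p₁ = pullback.fst w (Spec.map φ) ≫ a)
    (hc₂ : c ≫ p₂ = pullback.fst w (Spec.map φ) ≫ b) :
    ∃ c' : W ⟶ Γ, c' ≫ p₁ = a ∧ c' ≫ p₂ = b := by
  have := isSchemeTheoreticallyDominant_pullback_fst φ hφ w
  obtain ⟨c', hc'⟩ := exists_lift_of_isClosedImmersion (pullback.lift p₁ p₂ h)
    (pullback.lift a b (ha.trans hb.symm)) (pullback.fst w (Spec.map φ)) c (by
      apply pullback.hom_ext
      · rw [Category.assoc, Category.assoc, pullback.lift_fst, pullback.lift_fst, hc₁]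
      · rw [Category.assoc, Category.assoc, pullback.lift_snd, pullback.lift_snd, hc₂])
  refine ⟨c', ?_, ?_⟩
  · have := congrArg (fun t => t ≫ pullback.fst f f) hc'
    simpa only [Category.assoc, pullback.lift_fst] using this
  · have := congrArg (fun t => t ≫ pullback.snd f f) hc'
    simpa only [Category.assoc, pullback.lift_snd] using this

end Groth.Agent.Lib.Seat85.SchDom
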