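import Groth.Agent.Lib.Seat54Segre

/-!
# Base change of a morphism from a fibre product (seat 54)

For `pn : Pn ⟶ Z`, `pm : Pm ⟶ Z`, `pN : PN ⟶ Z`, `s : S ⟶ Z` and `σ : Pn ×_Z Pm ⟶ PN` over `Z`,
the induced `φ : (Pn ×_Z S) ×_S (Pm ×_Z S) ⟶ PN ×_Z S` is a base change of `σ`.
-/

set_option autoImplicit false
universe v u

open CategoryTheory CategoryTheory.Limits

namespace Groth.Agent.Lib.Seat54.SegreBC

variable {C : Type u} [Category.{v} C] [HasPullbacks C]
  {Z Pn Pm PN S : C} (pn : Pn ⟶ Z) (pm : Pm ⟶ Z) (pN : PN ⟶ Z) (s : S ⟶ Z)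

/-- the comparison `(Pn ×_Z S) ×_S (Pm ×_Z S) ⟶ Pn ×_Z Pm`. -/
noncomputable def gg : pullback (pullback.snd pn s) (pullback.snd pm s) ⟶ pullback pn pm :=
  pullback.lift (pullback.fst _ _ ≫ pullback.fst pn s) (pullback.snd _ _ ≫ pullback.fst pm s) (by
    rw [Category.assoc, Category.assoc, pullback.condition, pullback.condition,
      ← Category.assoc, ← Category.assoc, pullback.condition])

/-- the structure map to `S`. -/
noncomputable def hh : pullback (pullback.snd pn s) (pullback.snd pm s) ⟶ S :=
  pullback.fst _ _ ≫ pullback.snd pn s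

theorem gg_fst : gg pn pm s ≫ pullback.fst pn pm = pullback.fst _ _ ≫ pullback.fst pn s :=
  pullback.lift_fst _ _ _

theorem gg_snd : gg pn pm s ≫ pullback.snd pn pm = pullback.snd _ _ ≫ pullback.fst pm s :=
  pullback.lift_snd _ _ _

theorem hh_eq : hh pn pm s = pullback.snd _ _ ≫ pullback.snd pm s :=
  pullback.condition

theorem isPullback_outer :
    IsPullback (hh pn pm s) (gg pn pm s) s (pullback.fst pn pm ≫ pn) := by
  have w : hh pn pm s ≫ s = gg pn pm s ≫ pullback.fst pn pm ≫ pn := by
    rw [← Category.assoc, gg_fst, hh, Category.assoc, Category.assoc, pullback.condition]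
  refine IsPullback.of_isLimit (c := PullbackCone.mk _ _ w) ?_
  refine PullbackCone.IsLimit.mk w
    (fun c => pullback.lift
      (pullback.lift (c.snd ≫ pullback.fst pn pm) c.fst (by
        rw [Category.assoc]; exact c.condition.symm))
      (pullback.lift (c.snd ≫ pullback.snd pn pm) c.fst (by
        rw [Category.assoc, ← pullback.condition]; exact c.condition.symm))
      (by rw [pullback.lift_snd, pullback.lift_snd])) ?_ ?_ ?_
  · intro c
    rw [hh, ← Category.assoc, pullback.lift_fst, pullback.lift_snd]
  · intro c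
    apply pullback.hom_ext
    · rw [Category.assoc, gg_fst, ← Category.assoc, pullback.lift_fst, pullback.lift_fst]
    · rw [Category.assoc, gg_snd, ← Category.assoc, pullback.lift_snd, pullback.lift_fst]
  · intro c m h1 h2
    apply pullback.hom_ext
    · rw [pullback.lift_fst]
      apply pullback.hom_ext
      · rw [pullback.lift_fst, Category.assoc, ← gg_fst, ← Category.assoc, h2]
      · rw [pullback.lift_snd, Category.assoc]
        exact h1
    · rw [pullback.lift_snd]
      apply pullback.hom_ext
      · rw [pullback.lift_fst, Category.assoc, ← gg_snd, ← Category.assoc, h2]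
      · rw [pullback.lift_snd, Category.assoc, ← hh_eq]
        exact h1

variable (σ : pullback pn pm ⟶ PN) (hσ : σ ≫ pN = pullback.fst pn pm ≫ pn)

/-- the base change of `σ`. -/
noncomputable def φφ : pullback (pullback.snd pn s) (pullback.snd pm s) ⟶ pullback pN s :=
  pullback.lift (gg pn pm s ≫ σ) (hh pn pm s) (by
    rw [Category.assoc, hσ, ← Category.assoc, gg_fst, hh, Category.assoc, Category.assoc,
      pullback.condition])

theorem φφ_snd : φφ pn pm pN s σ hσ ≫ pullback.snd pN s =
    pullback.fst _ _ ≫ pullback.snd pn s :=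
  pullback.lift_snd _ _ _

theorem isPullback_φφ :
    IsPullback (φφ pn pm pN s σ hσ) (gg pn pm s) (pullback.fst pN s) σ := by
  refine IsPullback.of_right ?_ (pullback.lift_fst _ _ _) (IsPullback.of_hasPullback pN s).flip
  have h1 : φφ pn pm pN s σ hσ ≫ pullback.snd pN s = hh pn pm s := pullback.lift_snd _ _ _
  rw [h1, hσ]
  exact isPullback_outer pn pm s

end Groth.Agent.Lib.Seat54.SegreBC
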