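import Mathlib
import Groth.Prelude.Def_CohB1
import Groth.Agent.Lib.Helper6ImageBC
import Groth.Agent.Lib.Seat85SchDom3
import Groth.Agent.S1616
import Groth.Agent.S9705

/-!
# Core of Chow's lemma: the closure construction and its gluing step

`Good g u` for `g : V ⟶ S` and `u : U ⟶ V`: there are a proper `S`-scheme `P` (closed in some
`P^N_S`), a proper `π : Z ⟶ V`, an immersion `q : Z ⟶ P` over `S` and a lift `ι : U ⟶ Z` of `u`.
The step lemma glues two such data over an open cover `V = V₁ ∪ V₂` using only the binary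
product `P₁ ×_S P₂`.
-/

set_option autoImplicit false
set_option linter.style.haveILetI false
universe u
open CategoryTheory CategoryTheory.Limits AlgebraicGeometry TopologicalSpace

namespace Groth.Agent.Lib.Seat92.ChowCore

section general

/-- For a monomorphism `g`, the square with `𝟙` on the left is a pullback. -/
lemma isPullback_id_of_mono {C : Type*} [Category C] {X Y Z : C} (k : X ⟶ Y) (g : Y ⟶ Z)
    [Mono g] : IsPullback (𝟙 X) k (k ≫ g) g :=
  ⟨⟨by simp⟩, ⟨PullbackCone.IsLimit.mk _ (fun s => s.fst) (fun s => by simp)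
    (fun s => by rw [← cancel_mono g]; simpa using s.condition)
    (fun s m h1 _ => by simpa using h1)⟩⟩

/-- The lift of a quasi-compact scheme-theoretically dominant morphism to an open containing its
range is scheme-theoretically dominant. -/
theorem isSchemeTheoreticallyDominant_lift {U Z : Scheme.{u}} (ι : U ⟶ Z)
    [IsSchemeTheoreticallyDominant ι] [QuasiCompact ι] (Y : Z.Opens)
    (h : Set.range ι ⊆ Set.range Y.ι) :
    IsSchemeTheoreticallyDominant (IsOpenImmersion.lift Y.ι ι h) := by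
  have H := isPullback_id_of_mono (IsOpenImmersion.lift Y.ι ι h) Y.ι
  rw [IsOpenImmersion.lift_fac] at H
  exact IsSchemeTheoreticallyDominant.of_isPullback H

/-- A proper immersion is a closed immersion. -/
theorem isClosedImmersion_of_isProper_of_isImmersion {X Y : Scheme.{u}} (f : X ⟶ Y)
    [IsProper f] [IsImmersion f] : IsClosedImmersion f :=
  IsClosedImmersion.of_isPreimmersion f f.isClosedMap.isClosed_range

end general


section Side

variable {U V V₁ S P P₁ Z₁ : Scheme.{u}} (g : V ⟶ S) [IsSeparated g]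
  (a₁ : V₁ ⟶ V) [IsOpenImmersion a₁] (u₁ : U ⟶ V₁) (p : P ⟶ S) (p₁ : P₁ ⟶ S) [IsSeparated p₁]
  (pr : P ⟶ P₁) (hpr : pr ≫ p₁ = p)
  (π₁ : Z₁ ⟶ V₁) [IsProper π₁] (q₁ : Z₁ ⟶ P₁) [IsImmersion q₁]
  (hpq₁ : q₁ ≫ p₁ = π₁ ≫ a₁ ≫ g) (ι₁ : U ⟶ Z₁) (hι₁ : ι₁ ≫ π₁ = u₁)
  (γ : U ⟶ pullback g p) [QuasiCompact γ] (hγ₁ : γ ≫ pullback.fst g p = u₁ ≫ a₁)
  (hγ₂ : γ ≫ pullback.snd g p ≫ pr = ι₁ ≫ q₁)

include hpr hpq₁ hι₁ hγ₁ hγ₂

omit [IsSeparated g] in
/-- Over the part of `V` covered by `V₁`, the closure lands in the open of `P` lying over the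
coborder of `q₁`. -/
theorem side_le :
    (γ.imageι ≫ pullback.fst g p) ⁻¹ᵁ a₁.opensRange ≤
      (γ.imageι ≫ pullback.snd g p) ⁻¹ᵁ (pr ⁻¹ᵁ q₁.coborderRange) := by
  set π := γ.imageι ≫ pullback.fst g p with hπ
  set q := γ.imageι ≫ pullback.snd g p with hq
  set Y' := π ⁻¹ᵁ a₁.opensRange with hY'
  have hιπ : γ.toImage ≫ π = u₁ ≫ a₁ := by
    rw [hπ, ← Category.assoc, γ.toImage_imageι, hγ₁]
  have hιq : γ.toImage ≫ q ≫ pr = ι₁ ≫ q₁ := by
    rw [hq, Category.assoc, ← Category.assoc γ.toImage, γ.toImage_imageι, hγ₂]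
  have hrange : Set.range γ.toImage ⊆ Set.range Y'.ι := by
    rintro _ ⟨z, rfl⟩
    rw [Scheme.Opens.range_ι]
    show π (γ.toImage z) ∈ a₁.opensRange
    rw [← Scheme.Hom.comp_apply, hιπ, Scheme.Hom.comp_apply]
    exact ⟨_, rfl⟩
  let ιY := IsOpenImmersion.lift Y'.ι γ.toImage hrange
  have hιY : ιY ≫ Y'.ι = γ.toImage := IsOpenImmersion.lift_fac _ _ _
  haveI : IsSchemeTheoreticallyDominant ιY :=
    isSchemeTheoreticallyDominant_lift γ.toImage Y' hrange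
  have hrange' : Set.range (Y'.ι ≫ π) ⊆ Set.range a₁ := by
    rintro _ ⟨z, rfl⟩
    exact z.2
  let π' : (Y' : Scheme.{u}) ⟶ V₁ := IsOpenImmersion.lift a₁ (Y'.ι ≫ π) hrange'
  have hπ' : π' ≫ a₁ = Y'.ι ≫ π := IsOpenImmersion.lift_fac _ _ _
  have hcond : π' ≫ a₁ ≫ g = (Y'.ι ≫ q ≫ pr) ≫ p₁ := by
    rw [← Category.assoc, hπ', hπ, hq]
    simp only [Category.assoc]
    rw [pullback.condition, hpr]
  let m : (Y' : Scheme.{u}) ⟶ pullback (a₁ ≫ g) p₁ := pullback.lift π' (Y'.ι ≫ q ≫ pr) hcond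
  let k₁ : Z₁ ⟶ pullback (a₁ ≫ g) p₁ := pullback.lift π₁ q₁ hpq₁.symm
  haveI : IsProper (k₁ ≫ pullback.fst (a₁ ≫ g) p₁) := by
    rw [pullback.lift_fst]; infer_instance
  haveI : IsProper k₁ := IsProper.of_comp k₁ (pullback.fst (a₁ ≫ g) p₁)
  haveI : IsImmersion (k₁ ≫ pullback.snd (a₁ ≫ g) p₁) := by
    rw [pullback.lift_snd]; infer_instance
  haveI : IsImmersion k₁ := IsImmersion.of_comp k₁ (pullback.snd (a₁ ≫ g) p₁)
  haveI : IsClosedImmersion k₁ := isClosedImmersion_of_isProper_of_isImmersion k₁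
  have hc : ι₁ ≫ k₁ = ιY ≫ m := by
    apply pullback.hom_ext
    · rw [Category.assoc, Category.assoc, pullback.lift_fst, pullback.lift_fst, hι₁,
        ← cancel_mono a₁, Category.assoc, hπ', ← Category.assoc, hιY, hιπ]
    · rw [Category.assoc, Category.assoc, pullback.lift_snd, pullback.lift_snd,
        ← Category.assoc, hιY, hιq]
  obtain ⟨r, hr⟩ := Groth.Agent.Lib.Seat85.SchDom.exists_lift_of_isClosedImmersion k₁ m ιY ι₁ hc
  have h1 : Y'.ι ≫ q ≫ pr = r ≫ q₁ := by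
    have : m ≫ pullback.snd (a₁ ≫ g) p₁ = Y'.ι ≫ q ≫ pr := pullback.lift_snd _ _ _
    rw [← this, ← hr, Category.assoc, pullback.lift_snd]
  intro z hz
  have hz' : z ∈ Set.range Y'.ι := by rw [Scheme.Opens.range_ι]; exact hz
  obtain ⟨y, rfl⟩ := hz'
  show pr (q (Y'.ι y)) ∈ q₁.coborderRange
  have h2 : pr (q (Y'.ι y)) = (Y'.ι ≫ q ≫ pr) y := by
    simp only [Scheme.Hom.comp_apply]
  rw [h2, h1, Scheme.Hom.comp_apply]
  have h3 : q₁.coborderRange.ι (q₁.liftCoborder (r y)) = q₁ (r y) := by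
    rw [← Scheme.Hom.comp_apply, Scheme.Hom.liftCoborder_ι]
  rw [← h3]
  exact (q₁.liftCoborder (r y)).2


omit [IsSeparated p₁] [IsProper π₁] [IsOpenImmersion a₁] in
/-- Over the open of `P` lying over the coborder of `q₁`, the projection of the closure to `P`
is an immersion. -/
theorem side_isImmersion :
    IsImmersion ((γ.imageι ≫ pullback.snd g p) ∣_ (pr ⁻¹ᵁ q₁.coborderRange)) := by
  set π := γ.imageι ≫ pullback.fst g p with hπ
  set q := γ.imageι ≫ pullback.snd g p with hq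
  set W := q₁.coborderRange with hW
  set Ω := pr ⁻¹ᵁ W with hΩ
  set Y := q ⁻¹ᵁ Ω with hY
  have hιπ : γ.toImage ≫ π = u₁ ≫ a₁ := by
    rw [hπ, ← Category.assoc, γ.toImage_imageι, hγ₁]
  have hιq : γ.toImage ≫ q ≫ pr = ι₁ ≫ q₁ := by
    rw [hq, Category.assoc, ← Category.assoc γ.toImage, γ.toImage_imageι, hγ₂]
  have hq₁W : ∀ x, q₁ x ∈ W := by
    intro x
    have h3 : q₁.coborderRange.ι (q₁.liftCoborder x) = q₁ x := by
      rw [← Scheme.Hom.comp_apply, Scheme.Hom.liftCoborder_ι]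
    rw [← h3]
    exact (q₁.liftCoborder x).2
  have hrange : Set.range γ.toImage ⊆ Set.range Y.ι := by
    rintro _ ⟨z, rfl⟩
    rw [Scheme.Opens.range_ι]
    show pr (q (γ.toImage z)) ∈ W
    have h2 : pr (q (γ.toImage z)) = (γ.toImage ≫ q ≫ pr) z := by
      simp only [Scheme.Hom.comp_apply]
    rw [h2, hιq, Scheme.Hom.comp_apply]
    exact hq₁W _
  let ιY := IsOpenImmersion.lift Y.ι γ.toImage hrange
  have hιY : ιY ≫ Y.ι = γ.toImage := IsOpenImmersion.lift_fac _ _ _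
  haveI : IsSchemeTheoreticallyDominant ιY :=
    isSchemeTheoreticallyDominant_lift γ.toImage Y hrange
  have hrangeρ : Set.range (Y.ι ≫ q ≫ pr) ⊆ Set.range W.ι := by
    rintro _ ⟨z, rfl⟩
    rw [Scheme.Opens.range_ι]
    exact z.2
  let ρ : (Y : Scheme.{u}) ⟶ W := IsOpenImmersion.lift W.ι (Y.ι ≫ q ≫ pr) hrangeρ
  have hρ : ρ ≫ W.ι = Y.ι ≫ q ≫ pr := IsOpenImmersion.lift_fac _ _ _
  have hℓ : q₁.liftCoborder ≫ W.ι = q₁ := Scheme.Hom.liftCoborder_ι q₁
  have hc : ι₁ ≫ q₁.liftCoborder = ιY ≫ ρ := by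
    rw [← cancel_mono W.ι, Category.assoc, Category.assoc, hℓ, hρ, ← Category.assoc, hιY, hιq]
  obtain ⟨σ, hσ⟩ := Groth.Agent.Lib.Seat85.SchDom.exists_lift_of_isClosedImmersion
    q₁.liftCoborder ρ ιY ι₁ hc
  have hσq : σ ≫ q₁ = Y.ι ≫ q ≫ pr := by
    rw [← hℓ, ← Category.assoc, hσ, hρ]
  have hισ : ιY ≫ σ = ι₁ := by
    rw [← cancel_mono q₁.liftCoborder, Category.assoc, hσ, hc]
  have h3 : Y.ι ≫ π = σ ≫ π₁ ≫ a₁ := by
    refine Groth.Agent.Lib.Seat85.SchDom.ext_of_isSchemeTheoreticallyDominant_of_isSeparated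
      g ?_ ιY ?_
    · have e1 : (Y.ι ≫ π) ≫ g = Y.ι ≫ q ≫ p := by
        rw [hπ, hq]
        simp only [Category.assoc]
        rw [pullback.condition]
      have e2 : (σ ≫ π₁ ≫ a₁) ≫ g = Y.ι ≫ q ≫ p := by
        simp only [Category.assoc]
        rw [← hpq₁, ← Category.assoc, hσq]
        simp only [Category.assoc, hpr]
      rw [e1, e2]
    · rw [← Category.assoc, hιY, hιπ, ← Category.assoc, hισ, ← Category.assoc, hι₁]
  let e : (Y : Scheme.{u}) ⟶ pullback q₁ pr := pullback.lift σ (Y.ι ≫ q) (by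
    rw [hσq]; simp only [Category.assoc])
  have hθc : (pullback.fst q₁ pr ≫ π₁ ≫ a₁) ≫ g = pullback.snd q₁ pr ≫ p := by
    simp only [Category.assoc]
    rw [← hpq₁, ← Category.assoc, pullback.condition, Category.assoc, hpr]
  let θ : pullback q₁ pr ⟶ pullback g p :=
    pullback.lift (pullback.fst q₁ pr ≫ π₁ ≫ a₁) (pullback.snd q₁ pr) hθc
  have heθ : e ≫ θ = Y.ι ≫ γ.imageι := by
    apply pullback.hom_ext
    · rw [Category.assoc, pullback.lift_fst, ← Category.assoc, pullback.lift_fst, Category.assoc,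
        ← h3, hπ]
    · rw [Category.assoc, pullback.lift_snd, pullback.lift_snd, Category.assoc, hq]
  haveI : IsImmersion (e ≫ θ) := by
    rw [heθ]; infer_instance
  haveI : IsImmersion e := IsImmersion.of_comp e θ
  have hes : e ≫ pullback.snd q₁ pr = Y.ι ≫ q := pullback.lift_snd _ _ _
  haveI : IsImmersion (Y.ι ≫ q) := by
    rw [← hes]; infer_instance
  haveI : IsImmersion ((q ∣_ Ω) ≫ Ω.ι) := by
    rw [morphismRestrict_ι]; infer_instance
  exact IsImmersion.of_comp (q ∣_ Ω) Ω.ι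

end Side

section Iso

/-- The scheme-theoretic image of a quasi-compact lift `γ : U ⟶ T` of an open immersion
`u : U ⟶ V` through a separated `t : T ⟶ V` is isomorphic to `U` over `U`. -/
theorem isIso_image_restrict {U V T : Scheme.{u}} (u : U ⟶ V) [IsOpenImmersion u]
    (t : T ⟶ V) [IsSeparated t] (γ : U ⟶ T) [QuasiCompact γ] (hγ : γ ≫ t = u) :
    IsIso ((γ.imageι ≫ t) ∣_ u.opensRange) := by
  set π := γ.imageι ≫ t with hπ
  set O := u.opensRange with hO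
  set Y := π ⁻¹ᵁ O with hY
  have hιπ : γ.toImage ≫ π = u := by
    rw [hπ, ← Category.assoc, γ.toImage_imageι, hγ]
  have hrange : Set.range γ.toImage ⊆ Set.range Y.ι := by
    rintro _ ⟨z, rfl⟩
    rw [Scheme.Opens.range_ι]
    show π (γ.toImage z) ∈ O
    rw [← Scheme.Hom.comp_apply, hιπ]
    exact ⟨z, rfl⟩
  let ιY := IsOpenImmersion.lift Y.ι γ.toImage hrange
  have hιY : ιY ≫ Y.ι = γ.toImage := IsOpenImmersion.lift_fac _ _ _
  haveI : IsSchemeTheoreticallyDominant ιY :=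
    isSchemeTheoreticallyDominant_lift γ.toImage Y hrange
  have hw : ιY ≫ (π ∣_ O) = u.isoOpensRange.hom := by
    rw [← cancel_mono O.ι, Category.assoc, morphismRestrict_ι, ← Category.assoc, hιY, hιπ,
      Scheme.Hom.isoOpensRange_hom_ι]
  have hsec : ιY ≫ ((π ∣_ O) ≫ u.isoOpensRange.inv) = 𝟙 _ := by
    rw [← Category.assoc, hw, Iso.hom_inv_id]
  haveI : IsSeparated π := by rw [hπ]; infer_instance
  haveI : IsClosedImmersion (ιY ≫ ((π ∣_ O) ≫ u.isoOpensRange.inv)) := by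
    rw [hsec]; infer_instance
  haveI : IsClosedImmersion ιY := IsClosedImmersion.of_comp ιY ((π ∣_ O) ≫ u.isoOpensRange.inv)
  haveI : IsIso ιY :=
    (IsClosedImmersion.isIso_iff_ker_eq_bot (f := ιY)).2 (Scheme.Hom.ker_eq_bot _)
  have : π ∣_ O = inv ιY ≫ u.isoOpensRange.hom := by
    rw [IsIso.eq_inv_comp, hw]
  rw [this]
  infer_instance

end Iso

section Good

/-- A Chow datum for `g : V ⟶ S` relative to `u : U ⟶ V`: a proper `S`-scheme `P` closed in a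
projective space over `S`, a proper `π : Z ⟶ V`, an immersion `q : Z ⟶ P` over `S` and a lift
`ι : U ⟶ Z` of `u`, with `π` an isomorphism over the range of `u`. -/
def Good {U V S : Scheme.{u}} (g : V ⟶ S) (u : U ⟶ V) [IsOpenImmersion u] : Prop :=
  ∃ (P : Scheme.{u}) (p : P ⟶ S) (Z : Scheme.{u}) (π : Z ⟶ V) (q : Z ⟶ P) (ι : U ⟶ Z)
    (N : ℕ) (c : P ⟶ CohB1.ProjSpaceOver N S),
    IsProper p ∧ IsProper π ∧ IsImmersion q ∧ q ≫ p = π ≫ g ∧ ι ≫ π = u ∧
    IsClosedImmersion c ∧ c ≫ CohB1.ProjSpaceOver.toBase N S = p ∧ IsIso (π ∣_ u.opensRange)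

instance : MorphismProperty.RespectsRight @IsImmersion @IsOpenImmersion where
  postcomp i hi f hf := by
    haveI : IsOpenImmersion i := hi
    haveI : IsImmersion f := hf
    infer_instance

/-- The gluing step: Chow data over the two members of an open cover of `V`, relative to a
common open `U`, give a Chow datum over `V`. -/
theorem good_step {U V V₁ V₂ S : Scheme.{u}} (g : V ⟶ S) [IsSeparated g]
    (a₁ : V₁ ⟶ V) (a₂ : V₂ ⟶ V) [IsOpenImmersion a₁] [IsOpenImmersion a₂]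
    (hcov : a₁.opensRange ⊔ a₂.opensRange = ⊤)
    (u₁ : U ⟶ V₁) (u₂ : U ⟶ V₂) [IsOpenImmersion u₁] [IsOpenImmersion u₂]
    (u : U ⟶ V) [IsOpenImmersion u] [QuasiCompact u] (hu₁ : u₁ ≫ a₁ = u) (hu₂ : u₂ ≫ a₂ = u)
    (h₁ : Good (a₁ ≫ g) u₁) (h₂ : Good (a₂ ≫ g) u₂) : Good g u := by
  obtain ⟨P₁, p₁, Z₁, π₁, q₁, ι₁, N₁, c₁, hp₁, hπ₁, hq₁, hpq₁, hι₁, hc₁, hcp₁, -⟩ := h₁
  obtain ⟨P₂, p₂, Z₂, π₂, q₂, ι₂, N₂, c₂, hp₂, hπ₂, hq₂, hpq₂, hι₂, hc₂, hcp₂, -⟩ := h₂
  let p : pullback p₁ p₂ ⟶ S := pullback.fst p₁ p₂ ≫ p₁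
  have hpr₂ : pullback.snd p₁ p₂ ≫ p₂ = p := pullback.condition.symm
  haveI : IsProper p := inferInstanceAs (IsProper (pullback.fst p₁ p₂ ≫ p₁))
  have hh : (ι₁ ≫ q₁) ≫ p₁ = (ι₂ ≫ q₂) ≫ p₂ := by
    rw [Category.assoc, Category.assoc, hpq₁, hpq₂, ← Category.assoc, ← Category.assoc ι₂, hι₁,
      hι₂, ← Category.assoc, ← Category.assoc, hu₁, hu₂]
  let h : U ⟶ pullback p₁ p₂ := pullback.lift (ι₁ ≫ q₁) (ι₂ ≫ q₂) hh
  have hhp : u ≫ g = h ≫ p := by
    show u ≫ g = h ≫ pullback.fst p₁ p₂ ≫ p₁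
    rw [← Category.assoc, pullback.lift_fst, Category.assoc, hpq₁, ← Category.assoc,
      ← Category.assoc, hι₁, hu₁]
  let γ : U ⟶ pullback g p := pullback.lift u h hhp
  have hγ₁ : γ ≫ pullback.fst g p = u := pullback.lift_fst _ _ _
  have hγ₂ : γ ≫ pullback.snd g p = h := pullback.lift_snd _ _ _
  haveI : QuasiCompact (γ ≫ pullback.fst g p) := by rw [hγ₁]; infer_instance
  haveI : QuasiCompact γ := QuasiCompact.of_comp γ (pullback.fst g p)
  have hγ₂₁ : γ ≫ pullback.snd g p ≫ pullback.fst p₁ p₂ = ι₁ ≫ q₁ := by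
    rw [← Category.assoc, hγ₂, pullback.lift_fst]
  have hγ₂₂ : γ ≫ pullback.snd g p ≫ pullback.snd p₁ p₂ = ι₂ ≫ q₂ := by
    rw [← Category.assoc, hγ₂, pullback.lift_snd]
  have hle₁ := side_le g a₁ u₁ p p₁ (pullback.fst p₁ p₂) rfl π₁ q₁ hpq₁ ι₁ hι₁ γ
    (by rw [hγ₁, hu₁]) hγ₂₁
  have hle₂ := side_le g a₂ u₂ p p₂ (pullback.snd p₁ p₂) hpr₂ π₂ q₂ hpq₂ ι₂ hι₂ γ
    (by rw [hγ₁, hu₂]) hγ₂₂
  have him₁ := side_isImmersion g a₁ u₁ p p₁ (pullback.fst p₁ p₂) rfl π₁ q₁ hpq₁ ι₁ hι₁ γ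
    (by rw [hγ₁, hu₁]) hγ₂₁
  have him₂ := side_isImmersion g a₂ u₂ p p₂ (pullback.snd p₁ p₂) hpr₂ π₂ q₂ hpq₂ ι₂ hι₂ γ
    (by rw [hγ₁, hu₂]) hγ₂₂
  -- the projective embedding of the product
  obtain ⟨φ, hφ, hφb⟩ := Groth.Agent.S1616.result S N₁ N₂
  let c₁₂ : pullback p₁ p₂ ⟶ pullback (CohB1.ProjSpaceOver.toBase N₁ S)
      (CohB1.ProjSpaceOver.toBase N₂ S) :=
    pullback.map p₁ p₂ _ _ c₁ c₂ (𝟙 S) ((Category.comp_id _).trans hcp₁.symm)
      ((Category.comp_id _).trans hcp₂.symm)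
  haveI : MorphismProperty.IsStableUnderComposition @IsClosedImmersion.{u} :=
    ⟨fun f g hf hg => by
      haveI : IsClosedImmersion f := hf
      haveI : IsClosedImmersion g := hg
      exact (inferInstance : IsClosedImmersion (f ≫ g))⟩
  haveI : IsClosedImmersion c₁₂ :=
    MorphismProperty.pullbackMap (P := @IsClosedImmersion) hc₁ hc₂ hcp₁.symm hcp₂.symm
  refine ⟨pullback p₁ p₂, p, γ.image, γ.imageι ≫ pullback.fst g p, γ.imageι ≫ pullback.snd g p,
    γ.toImage, N₁ * N₂ + N₁ + N₂, c₁₂ ≫ φ, inferInstance, inferInstance, ?_, ?_, ?_,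
    inferInstance, ?_, ?_⟩
  · -- immersion
    let Ω : Bool → (pullback p₁ p₂).Opens := fun b =>
      cond b ((pullback.fst p₁ p₂) ⁻¹ᵁ q₁.coborderRange) ((pullback.snd p₁ p₂) ⁻¹ᵁ q₂.coborderRange)
    refine IsZariskiLocalAtTarget.of_range_subset_iSup (P := @IsImmersion) Ω ?_ ?_
    · rintro _ ⟨z, rfl⟩
      have hz : (γ.imageι ≫ pullback.fst g p) z ∈ a₁.opensRange ⊔ a₂.opensRange := by
        rw [hcov]; trivial
      rcases hz with hz | hz
      · exact TopologicalSpace.Opens.mem_iSup.mpr ⟨true, hle₁ hz⟩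
      · exact TopologicalSpace.Opens.mem_iSup.mpr ⟨false, hle₂ hz⟩
    · intro b
      cases b
      · exact him₂
      · exact him₁
  · rw [Category.assoc, Category.assoc, pullback.condition]
  · rw [← Category.assoc, γ.toImage_imageι, hγ₁]
  · rw [Category.assoc, hφb]
    show c₁₂ ≫ pullback.fst _ _ ≫ CohB1.ProjSpaceOver.toBase N₁ S = pullback.fst p₁ p₂ ≫ p₁
    rw [← Category.assoc, pullback.lift_fst, Category.assoc, hcp₁]
  · exact isIso_image_restrict u (pullback.fst g p) γ hγ₁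

/-- Base case: an immersion of `V` into a projective space over `S`. -/
theorem good_base {U V S : Scheme.{u}} (g : V ⟶ S) (u : U ⟶ V) [IsOpenImmersion u]
    [QuasiCompact u] (N : ℕ) (j : V ⟶ CohB1.ProjSpaceOver N S) [IsImmersion j]
    (hj : j ≫ CohB1.ProjSpaceOver.toBase N S = g) : Good g u := by
  haveI : IsProper (CohB1.ProjSpaceOver.toBase N S) := Groth.Agent.S9705.isProper_toBase N S
  refine ⟨CohB1.ProjSpaceOver N S, CohB1.ProjSpaceOver.toBase N S, u.image, u.imageι ≫ 𝟙 V,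
    (u.imageι ≫ 𝟙 V) ≫ j, u.toImage, N, 𝟙 _, inferInstance, inferInstance, inferInstance, ?_, ?_,
    inferInstance, Category.id_comp _, ?_⟩
  · rw [Category.assoc, hj]
  · rw [Category.comp_id, u.toImage_imageι]
  · exact isIso_image_restrict u (𝟙 V) u (Category.comp_id u)

end Good

section Cover

variable {X S : Scheme.{u}} (f : X ⟶ S) (U : X.Opens)

/-- `Good` for an open of `X` containing `U`. -/
def GoodOpen (W : X.Opens) (h : U ≤ W) : Prop := Good (W.ι ≫ f) (X.homOfLE h)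

variable {f U}

theorem goodOpen_congr {W W' : X.Opens} (e : W = W') (h : U ≤ W) (hg : GoodOpen f U W h) :
    GoodOpen f U W' (e ▸ h) := by
  subst e
  exact hg

variable [IsSeparated f] [QuasiSeparatedSpace X]

theorem quasiCompact_homOfLE (hU : IsCompact (U : Set X)) {W : X.Opens} (h : U ≤ W) :
    QuasiCompact (X.homOfLE h) := by
  haveI : CompactSpace (U : Scheme.{u}) := isCompact_iff_compactSpace.mp hU
  haveI : QuasiSeparatedSpace (W : Scheme.{u}) :=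
    QuasiSeparatedSpace.of_isOpenEmbedding W.ι.isOpenEmbedding
  infer_instance

theorem goodOpen_sup (hU : IsCompact (U : Set X)) (W₁ W₂ : X.Opens) (h₁ : U ≤ W₁) (h₂ : U ≤ W₂)
    (g₁ : GoodOpen f U W₁ h₁) (g₂ : GoodOpen f U W₂ h₂) :
    GoodOpen f U (W₁ ⊔ W₂) (h₁.trans le_sup_left) := by
  haveI := quasiCompact_homOfLE hU (h₁.trans (le_sup_left : W₁ ≤ W₁ ⊔ W₂))
  have hcov : (X.homOfLE (le_sup_left : W₁ ≤ W₁ ⊔ W₂)).opensRange ⊔
      (X.homOfLE (le_sup_right : W₂ ≤ W₁ ⊔ W₂)).opensRange = ⊤ := by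
    rw [Scheme.opensRange_homOfLE, Scheme.opensRange_homOfLE, eq_top_iff]
    rintro x -
    rcases x.2 with hx | hx
    · exact Or.inl hx
    · exact Or.inr hx
  refine good_step ((W₁ ⊔ W₂).ι ≫ f) (X.homOfLE le_sup_left) (X.homOfLE le_sup_right) hcov
    (X.homOfLE h₁) (X.homOfLE h₂) (X.homOfLE _) (X.homOfLE_homOfLE _ _) (X.homOfLE_homOfLE _ _)
    ?_ ?_
  · have e : X.homOfLE (le_sup_left : W₁ ≤ W₁ ⊔ W₂) ≫ (W₁ ⊔ W₂).ι ≫ f = W₁.ι ≫ f :=
      X.homOfLE_ι_assoc _ _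
    rw [e]
    exact g₁
  · have e : X.homOfLE (le_sup_right : W₂ ≤ W₁ ⊔ W₂) ≫ (W₁ ⊔ W₂).ι ≫ f = W₂.ι ≫ f :=
      X.homOfLE_ι_assoc _ _
    rw [e]
    exact g₂

theorem goodOpen_finsetSup (hU : IsCompact (U : Set X)) {ι : Type*} (s : Finset ι)
    (hs : s.Nonempty) (W : ι → X.Opens)
    (hg : ∀ i ∈ s, ∃ h : U ≤ W i, GoodOpen f U (W i) h) :
    ∃ h : U ≤ s.sup W, GoodOpen f U (s.sup W) h := by
  induction hs using Finset.Nonempty.cons_induction with
  | singleton a =>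
    obtain ⟨h, hga⟩ := hg a (Finset.mem_singleton_self a)
    have e : W a = ({a} : Finset ι).sup W := (Finset.sup_singleton ..).symm
    exact ⟨e ▸ h, goodOpen_congr e h hga⟩
  | cons a s ha hs ih =>
    obtain ⟨h, hga⟩ := hg a (Finset.mem_cons_self a s)
    obtain ⟨h', hgs⟩ := ih (fun i hi => hg i (Finset.mem_cons.mpr (Or.inr hi)))
    have e : W a ⊔ s.sup W = (Finset.cons a s ha).sup W := (Finset.sup_cons ..).symm
    exact ⟨e ▸ (h.trans le_sup_left), goodOpen_congr e _ (goodOpen_sup hU _ _ h h' hga hgs)⟩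

/-- **Chow's lemma, core form.** If `X` is separated over `S` and covered by finitely many
opens which are immersed in projective spaces over `S` and all contain a quasi-compact open `U`,
then there is a proper `π : X' ⟶ X`, an isomorphism over `U`, with `X'` immersed in a projective
space over `S`. -/
theorem chow_core (hU : IsCompact (U : Set X)) {ι : Type*} (s : Finset ι) (hs : s.Nonempty)
    (W : ι → X.Opens) (hUW : ∀ i ∈ s, U ≤ W i) (hcov : s.sup W = ⊤)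
    (hW : ∀ i ∈ s, ∃ (N : ℕ) (j : (W i : Scheme.{u}) ⟶ CohB1.ProjSpaceOver N S),
      IsImmersion j ∧ j ≫ CohB1.ProjSpaceOver.toBase N S = (W i).ι ≫ f) :
    ∃ (N : ℕ) (X' : Scheme.{u}) (π : X' ⟶ X) (j : X' ⟶ CohB1.ProjSpaceOver N S),
      IsImmersion j ∧ j ≫ CohB1.ProjSpaceOver.toBase N S = π ≫ f ∧ IsProper π ∧
        IsIso (π ∣_ U) ∧ (Dense (U : Set X) → Function.Surjective π) := by
  have hg : ∀ i ∈ s, ∃ h : U ≤ W i, GoodOpen f U (W i) h := by
    intro i hi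
    obtain ⟨N, j, hj, hjb⟩ := hW i hi
    haveI := quasiCompact_homOfLE hU (hUW i hi)
    exact ⟨hUW i hi, good_base _ _ N j hjb⟩
  obtain ⟨h, hgs⟩ := goodOpen_finsetSup hU s hs W hg
  have hgt : GoodOpen f U ⊤ le_top := goodOpen_congr hcov h hgs
  obtain ⟨P, p, Z, π, q, ι', N, c, hp, hπ, hq, hpq, hι, hc, hcp, hiso⟩ := hgt
  haveI := hp
  haveI := hπ
  haveI := hq
  haveI := hc
  haveI : IsIso (⊤ : X.Opens).ι := by rw [← Scheme.topIso_hom]; infer_instance
  have hiso' : IsIso ((π ≫ (⊤ : X.Opens).ι) ∣_ U) := by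
    rw [morphismRestrict_comp]
    rw [Scheme.opensRange_homOfLE] at hiso
    haveI := hiso
    exact IsIso.comp_isIso' hiso inferInstance
  refine ⟨N, Z, π ≫ (⊤ : X.Opens).ι, q ≫ c, inferInstance, ?_, inferInstance, hiso', ?_⟩
  · rw [Category.assoc, hcp, hpq, Category.assoc]
  · intro hd
    set π' := π ≫ (⊤ : X.Opens).ι with hπ'
    have hsub : (U : Set X) ⊆ Set.range π' := by
      intro x hx
      haveI := hiso'
      obtain ⟨z, hz⟩ := (ConcreteCategory.bijective_of_isIso (π' ∣_ U).base).2 ⟨x, hx⟩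
      refine ⟨(π' ⁻¹ᵁ U).ι z, ?_⟩
      have h1 : ((π' ⁻¹ᵁ U).ι ≫ π') z = ((π' ∣_ U) ≫ U.ι) z := by
        rw [morphismRestrict_ι]
      have h2 : ((π' ∣_ U) ≫ U.ι) z = U.ι ((π' ∣_ U) z) := Scheme.Hom.comp_apply _ _ _
      have h3 : π' ((π' ⁻¹ᵁ U).ι z) = ((π' ⁻¹ᵁ U).ι ≫ π') z := (Scheme.Hom.comp_apply _ _ _).symm
      rw [h3, h1, h2]
      have h4 : (π' ∣_ U) z = ⟨x, hx⟩ := hz
      rw [h4]
      rfl
    have hcl : IsClosed (Set.range π') := π'.isClosedMap.isClosed_range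
    have : closure (U : Set X) ⊆ Set.range π' := hcl.closure_subset_iff.mpr hsub
    rw [hd.closure_eq] at this
    intro x
    exact this (Set.mem_univ x)

end Cover

end Groth.Agent.Lib.Seat92.ChowCore
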