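import Mathlib
import Groth.Prelude.Def_CohB1
import Groth.Agent.Lib.Helper27PnChart
import Groth.Agent.S9705

/-!
# Coordinate sections of projective space over a scheme

`sec n i S : S ⟶ P^n_S` is the section at the `i`-th coordinate point; the sections
`sec 1 0 S` and `sec 1 1 S` of `P^1_S` have disjoint ranges.
-/

set_option autoImplicit false
set_option linter.style.haveILetI false
universe u
open CategoryTheory CategoryTheory.Limits AlgebraicGeometry TopologicalSpace
open HomogeneousLocalization MvPolynomial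

namespace Groth.Agent.Lib.Seat92.ChowSec

open Groth.Agent.Lib.Helper27PnChart

/-- `ℤ` in universe `u`. -/
abbrev Zu : Type u := ULift.{u} ℤ

variable (n : ℕ) (i : Fin (n + 1))

/-- Evaluation of the `i`-th affine chart at the origin. -/
noncomputable def ev : Away (CohB1.polyGrading n Zu.{u}) (X i) →+* Zu.{u} :=
  (MvPolynomial.eval₂Hom (RingHom.id Zu.{u}) (fun _ => 0)).comp (back n Zu.{u} i)

/-- The `i`-th coordinate point of `P^n_ℤ`. -/
noncomputable def pt : Spec (CommRingCat.of Zu.{u}) ⟶ CohB1.ProjSpace n Zu.{u} :=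
  Spec.map (CommRingCat.ofHom (ev n i)) ≫
    Proj.awayι (CohB1.polyGrading n Zu.{u}) (X i) (X_mem_one n Zu.{u} i) one_pos

lemma pt_toSpec : pt n i ≫ CohB1.ProjSpace.toSpec n Zu.{u} = 𝟙 _ :=
  specULiftZIsTerminal.hom_ext _ _

lemma pt_mem_basicOpen (a : Spec (CommRingCat.of Zu.{u})) :
    pt n i a ∈ Proj.basicOpen (CohB1.polyGrading n Zu.{u}) (X i) := by
  rw [← Proj.opensRange_awayι _ _ (X_mem_one n Zu.{u} i) one_pos]
  exact ⟨_, rfl⟩

lemma ev_isLocalizationElem (j : Fin (n + 1)) (hj : j ≠ i) :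
    ev n i (Away.isLocalizationElem (X_mem_one n Zu.{u} i) (X_mem_one n Zu.{u} j)) = 0 := by
  have h1 : back n Zu.{u} i
      (Away.isLocalizationElem (X_mem_one n Zu.{u} i) (X_mem_one n Zu.{u} j)) =
      X ⟨j, hj⟩ := by
    unfold back
    rw [RingHom.comp_apply, HomogeneousLocalization.algebraMap_apply, Away.val_mk]
    rw [locTo_mk, map_pow, dehom_X_ne n Zu.{u} i j hj, pow_one]
  unfold ev
  rw [RingHom.comp_apply, h1]
  simp

lemma pt_notMem_basicOpen (j : Fin (n + 1)) (hj : j ≠ i) (a : Spec (CommRingCat.of Zu.{u})) :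
    pt n i a ∉ Proj.basicOpen (CohB1.polyGrading n Zu.{u}) (X j) := by
  intro h
  have h1 : (Spec.map (CommRingCat.ofHom (ev n i))) a ∈
      Proj.awayι (CohB1.polyGrading n Zu.{u}) (X i) (X_mem_one n Zu.{u} i) one_pos ⁻¹ᵁ
        Proj.basicOpen (CohB1.polyGrading n Zu.{u}) (X j) := h
  rw [Proj.awayι_preimage_basicOpen _ (X_mem_one n Zu.{u} i) one_pos (X_mem_one n Zu.{u} j)
    one_pos] at h1
  apply h1
  show ev n i (Away.isLocalizationElem (X_mem_one n Zu.{u} i) (X_mem_one n Zu.{u} j)) ∈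
    a.asIdeal
  rw [ev_isLocalizationElem n i j hj]
  exact zero_mem _

variable (S : Scheme.{u})

/-- The section of `P^n_S ⟶ S` at the `i`-th coordinate point. -/
noncomputable def sec : S ⟶ CohB1.ProjSpaceOver n S :=
  pullback.lift (specULiftZIsTerminal.from S ≫ pt n i) (𝟙 S) (specULiftZIsTerminal.hom_ext _ _)

@[reassoc (attr := simp)]
lemma sec_toBase : sec n i S ≫ CohB1.ProjSpaceOver.toBase n S = 𝟙 S :=
  pullback.lift_snd _ _ _

lemma sec_fst : sec n i S ≫ pullback.fst _ _ = specULiftZIsTerminal.from S ≫ pt n i :=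
  pullback.lift_fst _ _ _

/-- Sections at distinct coordinate points have disjoint ranges. -/
lemma sec_ne (j : Fin (n + 1)) (hj : j ≠ i) (x y : S) : sec n i S x ≠ sec n j S y := by
  intro h
  have h1 : (sec n i S ≫ pullback.fst (CohB1.ProjSpace.toSpec n Zu.{u})
      (specULiftZIsTerminal.from S)) x =
      (sec n j S ≫ pullback.fst (CohB1.ProjSpace.toSpec n Zu.{u})
      (specULiftZIsTerminal.from S)) y :=
    congrArg (fun z => (pullback.fst (CohB1.ProjSpace.toSpec n Zu.{u})
      (specULiftZIsTerminal.from S)) z) h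
  rw [sec_fst, sec_fst, Scheme.Hom.comp_apply, Scheme.Hom.comp_apply] at h1
  have h2 := pt_mem_basicOpen n j ((specULiftZIsTerminal.from S) y)
  rw [← h1] at h2
  exact pt_notMem_basicOpen n i j hj _ h2

instance : IsClosedImmersion (sec n i S) := by
  haveI : IsProper (CohB1.ProjSpaceOver.toBase n S) := Groth.Agent.S9705.isProper_toBase n S
  haveI : IsClosedImmersion (sec n i S ≫ CohB1.ProjSpaceOver.toBase n S) := by
    rw [sec_toBase]; infer_instance
  exact IsClosedImmersion.of_comp (sec n i S) (CohB1.ProjSpaceOver.toBase n S)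

end Groth.Agent.Lib.Seat92.ChowSec
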