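import Mathlib
import Groth.Prelude.Def_CohB1
import Groth.Agent.Lib.Seat92ChowSec
import Groth.Agent.Lib.Seat92ChowCore
import Groth.Agent.S1616
import Groth.Agent.S9705

/-!
# Quasi-projective morphisms (in the strong sense) and disjoint unions

`Imm g` for `g : Y ⟶ S`: `g` factors as an immersion into some `P^N_S` followed by the projection.
Main result: `Imm.of_isCompl`, a scheme which is the disjoint union of two opens on which `g` is
`Imm` is itself `Imm` (embed `P^a ⊔ P^b` into `P^a × P^b × P^1` and use Segre).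
-/

set_option autoImplicit false
set_option linter.style.haveILetI false
universe u
open CategoryTheory CategoryTheory.Limits AlgebraicGeometry TopologicalSpace

namespace Groth.Agent.Lib.Seat92.ChowImm

open Groth.Agent.Lib.Seat92.ChowSec

/-- `p : P ⟶ S` is a closed subscheme of a projective space over `S`. -/
def Emb {P S : Scheme.{u}} (p : P ⟶ S) : Prop :=
  ∃ (N : ℕ) (c : P ⟶ CohB1.ProjSpaceOver N S),
    IsClosedImmersion c ∧ c ≫ CohB1.ProjSpaceOver.toBase N S = p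

lemma emb_toBase (n : ℕ) (S : Scheme.{u}) : Emb (CohB1.ProjSpaceOver.toBase n S) :=
  ⟨n, 𝟙 _, inferInstance, Category.id_comp _⟩

lemma Emb.isProper {P S : Scheme.{u}} {p : P ⟶ S} (h : Emb p) : IsProper p := by
  obtain ⟨N, c, hc, rfl⟩ := h
  haveI : IsProper (CohB1.ProjSpaceOver.toBase N S) := Groth.Agent.S9705.isProper_toBase N S
  infer_instance

/-- Segre: a fibre product of closed subschemes of projective spaces is one. -/
lemma Emb.prod {P₁ P₂ S : Scheme.{u}} {p₁ : P₁ ⟶ S} {p₂ : P₂ ⟶ S} (h₁ : Emb p₁) (h₂ : Emb p₂) :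
    Emb (pullback.fst p₁ p₂ ≫ p₁) := by
  obtain ⟨N₁, c₁, hc₁, hcp₁⟩ := h₁
  obtain ⟨N₂, c₂, hc₂, hcp₂⟩ := h₂
  obtain ⟨φ, hφ, hφb⟩ := Groth.Agent.S1616.result S N₁ N₂
  let c₁₂ : pullback p₁ p₂ ⟶ pullback (CohB1.ProjSpaceOver.toBase N₁ S)
      (CohB1.ProjSpaceOver.toBase N₂ S) :=
    pullback.map p₁ p₂ _ _ c₁ c₂ (𝟙 S) ((Category.comp_id _).trans hcp₁.symm)
      ((Category.comp_id _).trans hcp₂.symm)
  haveI : MorphismProperty.IsStableUnderComposition @IsClosedImmersion.{u} :=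
    ⟨fun f g hf hg => by
      haveI : IsClosedImmersion f := hf
      haveI : IsClosedImmersion g := hg
      exact (inferInstance : IsClosedImmersion (f ≫ g))⟩
  haveI : IsClosedImmersion c₁₂ :=
    MorphismProperty.pullbackMap (P := @IsClosedImmersion) hc₁ hc₂ hcp₁.symm hcp₂.symm
  refine ⟨N₁ * N₂ + N₁ + N₂, c₁₂ ≫ φ, inferInstance, ?_⟩
  rw [Category.assoc, hφb]
  show c₁₂ ≫ pullback.fst _ _ ≫ CohB1.ProjSpaceOver.toBase N₁ S = pullback.fst p₁ p₂ ≫ p₁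
  rw [← Category.assoc, pullback.lift_fst, Category.assoc, hcp₁]

/-- `g : Y ⟶ S` factors as an immersion into some `P^N_S` followed by the projection. -/
def Imm {Y S : Scheme.{u}} (g : Y ⟶ S) : Prop :=
  ∃ (N : ℕ) (j : Y ⟶ CohB1.ProjSpaceOver N S),
    IsImmersion j ∧ j ≫ CohB1.ProjSpaceOver.toBase N S = g

lemma Imm.of_emb {Y P S : Scheme.{u}} {p : P ⟶ S} (hp : Emb p) (j : Y ⟶ P) [IsImmersion j] :
    Imm (j ≫ p) := by
  obtain ⟨N, c, hc, rfl⟩ := hp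
  exact ⟨N, j ≫ c, inferInstance, Category.assoc _ _ _⟩

lemma Imm.comp {Z Y S : Scheme.{u}} (i : Z ⟶ Y) [IsImmersion i] {g : Y ⟶ S} (h : Imm g) :
    Imm (i ≫ g) := by
  obtain ⟨N, j, hj, rfl⟩ := h
  exact ⟨N, i ≫ j, inferInstance, Category.assoc _ _ _⟩

/-- If `θ⁻¹ V` lies in the range of the open immersion `i` and `i ≫ θ` is an immersion, then
`θ ∣_ V` is an immersion. -/
lemma isImmersion_restrict_of_comp {Y₁ Y T : Scheme.{u}} (i : Y₁ ⟶ Y) [IsOpenImmersion i]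
    (θ : Y ⟶ T) (V : T.Opens) (hV : θ ⁻¹ᵁ V ≤ i.opensRange) [IsImmersion (i ≫ θ)] :
    IsImmersion (θ ∣_ V) := by
  have h1 : (i ≫ θ) ∣_ V = (i ∣_ (θ ⁻¹ᵁ V)) ≫ (θ ∣_ V) := morphismRestrict_comp i θ V
  have h3 : IsImmersion ((i ≫ θ) ∣_ V) := IsZariskiLocalAtTarget.restrict ‹_› V
  haveI : IsIso (i ∣_ (θ ⁻¹ᵁ V)) := by
    apply isIso_of_isOpenImmersion_of_opensRange_eq_top
    rw [eq_top_iff]
    rintro ⟨x, hx⟩ -
    obtain ⟨y, rfl⟩ := hV hx
    refine ⟨⟨y, hx⟩, ?_⟩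
    apply Subtype.ext
    exact morphismRestrict_base_coe i (θ ⁻¹ᵁ V) ⟨y, hx⟩
  rw [h1] at h3
  haveI : IsImmersion ((i ∣_ (θ ⁻¹ᵁ V)) ≫ (θ ∣_ V)) := h3
  have h2 : θ ∣_ V = inv (i ∣_ (θ ⁻¹ᵁ V)) ≫ ((i ∣_ (θ ⁻¹ᵁ V)) ≫ (θ ∣_ V)) := by simp
  rw [h2]
  infer_instance

/-- The open complement of the `t`-th coordinate section of `P^1_S`. -/
noncomputable def secCompl (S : Scheme.{u}) (t : Fin 2) : (CohB1.ProjSpaceOver 1 S).Opens :=
  ⟨(Set.range (sec 1 t S))ᶜ, (sec 1 t S).isClosedEmbedding.isClosed_range.isOpen_compl⟩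

lemma mem_secCompl (S : Scheme.{u}) (t : Fin 2) (z : CohB1.ProjSpaceOver 1 S) :
    z ∈ secCompl S t ↔ z ∉ Set.range (sec 1 t S) := Iff.rfl

/-- A scheme which is the disjoint union of two open subschemes, both quasi-projective over `S`
in the strong sense, is quasi-projective over `S` in the strong sense. -/
theorem Imm.of_isCompl {Y Y₁ Y₂ S : Scheme.{u}} (g : Y ⟶ S) (i₁ : Y₁ ⟶ Y) (i₂ : Y₂ ⟶ Y)
    [IsOpenImmersion i₁] [IsOpenImmersion i₂] (hc : IsCompl i₁.opensRange i₂.opensRange)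
    (h₁ : Imm (i₁ ≫ g)) (h₂ : Imm (i₂ ≫ g)) : Imm g := by
  obtain ⟨hcolim⟩ := nonempty_isColimit_binaryCofanMk_of_isCompl i₁ i₂ hc
  obtain ⟨a, j₁, hj₁, hj₁g⟩ := h₁
  obtain ⟨b, j₂, hj₂, hj₂g⟩ := h₂
  have desc : ∀ {Z : Scheme.{u}} (k₁ : Y₁ ⟶ Z) (k₂ : Y₂ ⟶ Z),
      ∃ k : Y ⟶ Z, i₁ ≫ k = k₁ ∧ i₂ ≫ k = k₂ := fun k₁ k₂ =>
    ⟨hcolim.desc (BinaryCofan.mk k₁ k₂), hcolim.fac (BinaryCofan.mk k₁ k₂) ⟨WalkingPair.left⟩,
      hcolim.fac (BinaryCofan.mk k₁ k₂) ⟨WalkingPair.right⟩⟩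
  have ext : ∀ {Z : Scheme.{u}} (k k' : Y ⟶ Z), i₁ ≫ k = i₁ ≫ k' → i₂ ≫ k = i₂ ≫ k' → k = k' :=
    fun k k' e₁ e₂ => BinaryCofan.IsColimit.hom_ext hcolim e₁ e₂
  obtain ⟨α, hα₁, hα₂⟩ := desc j₁ ((i₂ ≫ g) ≫ sec a 0 S)
  obtain ⟨β, hβ₁, hβ₂⟩ := desc ((i₁ ≫ g) ≫ sec b 0 S) j₂
  obtain ⟨γ, hγ₁, hγ₂⟩ := desc ((i₁ ≫ g) ≫ sec 1 0 S) ((i₂ ≫ g) ≫ sec 1 1 S)
  have hα : α ≫ CohB1.ProjSpaceOver.toBase a S = g := ext _ _
    (by rw [← Category.assoc, hα₁, hj₁g])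
    (by rw [← Category.assoc, hα₂, Category.assoc, sec_toBase, Category.comp_id])
  have hβ : β ≫ CohB1.ProjSpaceOver.toBase b S = g := ext _ _
    (by rw [← Category.assoc, hβ₁, Category.assoc, sec_toBase, Category.comp_id])
    (by rw [← Category.assoc, hβ₂, hj₂g])
  have hγ : γ ≫ CohB1.ProjSpaceOver.toBase 1 S = g := ext _ _
    (by rw [← Category.assoc, hγ₁, Category.assoc, sec_toBase, Category.comp_id])
    (by rw [← Category.assoc, hγ₂, Category.assoc, sec_toBase, Category.comp_id])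
  set pa := CohB1.ProjSpaceOver.toBase a S with hpa
  set pb := CohB1.ProjSpaceOver.toBase b S with hpb
  set p1 := CohB1.ProjSpaceOver.toBase 1 S with hp1
  set pab := pullback.fst pa pb ≫ pa with hpab
  have hEmb : Emb (pullback.fst pab p1 ≫ pab) :=
    ((emb_toBase a S).prod (emb_toBase b S)).prod (emb_toBase 1 S)
  let θ₀ : Y ⟶ pullback pa pb := pullback.lift α β (hα.trans hβ.symm)
  have hθ₀ : θ₀ ≫ pab = g := by
    rw [hpab, ← Category.assoc, pullback.lift_fst, hα]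
  let θ : Y ⟶ pullback pab p1 := pullback.lift θ₀ γ (hθ₀.trans hγ.symm)
  have hθ : θ ≫ pullback.fst pab p1 ≫ pab = g := by
    rw [← Category.assoc, pullback.lift_fst, hθ₀]
  have hθ3 : θ ≫ pullback.snd pab p1 = γ := pullback.lift_snd _ _ _
  have hθ1 : θ ≫ pullback.fst pab p1 ≫ pullback.fst pa pb = α := by
    rw [← Category.assoc, pullback.lift_fst, pullback.lift_fst]
  have hθ2 : θ ≫ pullback.fst pab p1 ≫ pullback.snd pa pb = β := by
    rw [← Category.assoc, pullback.lift_fst, pullback.lift_snd]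
  -- values of the third coordinate
  have hv₁ : ∀ y₁ : Y₁, (pullback.snd pab p1) (θ (i₁ y₁)) = sec 1 0 S ((i₁ ≫ g) y₁) := by
    intro y₁
    rw [← Scheme.Hom.comp_apply, ← Scheme.Hom.comp_apply, ← Scheme.Hom.comp_apply, Category.assoc,
      hθ3, hγ₁, Category.assoc]
  have hv₂ : ∀ y₂ : Y₂, (pullback.snd pab p1) (θ (i₂ y₂)) = sec 1 1 S ((i₂ ≫ g) y₂) := by
    intro y₂
    rw [← Scheme.Hom.comp_apply, ← Scheme.Hom.comp_apply, ← Scheme.Hom.comp_apply, Category.assoc,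
      hθ3, hγ₂, Category.assoc]
  have hcover : ∀ y : Y, y ∈ Set.range i₁ ∨ y ∈ Set.range i₂ := by
    intro y
    have : y ∈ i₁.opensRange ⊔ i₂.opensRange := by rw [hc.sup_eq_top]; trivial
    exact this
  haveI : IsImmersion (i₁ ≫ θ) := by
    haveI : IsImmersion ((i₁ ≫ θ) ≫ (pullback.fst pab p1 ≫ pullback.fst pa pb)) := by
      rw [Category.assoc, hθ1, hα₁]; exact hj₁
    exact IsImmersion.of_comp (i₁ ≫ θ) (pullback.fst pab p1 ≫ pullback.fst pa pb)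
  haveI : IsImmersion (i₂ ≫ θ) := by
    haveI : IsImmersion ((i₂ ≫ θ) ≫ (pullback.fst pab p1 ≫ pullback.snd pa pb)) := by
      rw [Category.assoc, hθ2, hβ₂]; exact hj₂
    exact IsImmersion.of_comp (i₂ ≫ θ) (pullback.fst pab p1 ≫ pullback.snd pa pb)
  let V : Bool → (pullback pab p1).Opens := fun t =>
    cond t ((pullback.snd pab p1) ⁻¹ᵁ secCompl S 1) ((pullback.snd pab p1) ⁻¹ᵁ secCompl S 0)
  haveI : IsImmersion θ := by
    refine IsZariskiLocalAtTarget.of_range_subset_iSup (P := @IsImmersion) V ?_ ?_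
    · rintro _ ⟨y, rfl⟩
      rcases hcover y with ⟨y₁, rfl⟩ | ⟨y₂, rfl⟩
      · refine TopologicalSpace.Opens.mem_iSup.mpr ⟨true, ?_⟩
        show (pullback.snd pab p1) (θ (i₁ y₁)) ∈ secCompl S 1
        rw [hv₁, mem_secCompl]
        rintro ⟨x, hx⟩
        exact sec_ne 1 1 S 0 (by decide) _ _ hx
      · refine TopologicalSpace.Opens.mem_iSup.mpr ⟨false, ?_⟩
        show (pullback.snd pab p1) (θ (i₂ y₂)) ∈ secCompl S 0
        rw [hv₂, mem_secCompl]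
        rintro ⟨x, hx⟩
        exact sec_ne 1 0 S 1 (by decide) _ _ hx
    · intro t
      cases t
      · apply isImmersion_restrict_of_comp i₂ θ
        intro y hy
        rcases hcover y with ⟨y₁, rfl⟩ | h
        · exfalso
          have hy' : (pullback.snd pab p1) (θ (i₁ y₁)) ∈ secCompl S 0 := hy
          rw [hv₁, mem_secCompl] at hy'
          exact hy' ⟨_, rfl⟩
        · exact h
      · apply isImmersion_restrict_of_comp i₁ θ
        intro y hy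
        rcases hcover y with h | ⟨y₂, rfl⟩
        · exact h
        · exfalso
          have hy' : (pullback.snd pab p1) (θ (i₂ y₂)) ∈ secCompl S 1 := hy
          rw [hv₂, mem_secCompl] at hy'
          exact hy' ⟨_, rfl⟩
  have := Imm.of_emb hEmb θ
  rwa [hθ] at this

end Groth.Agent.Lib.Seat92.ChowImm
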