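import Mathlib
import Groth.Prelude.Def_CohB1
import Groth.Agent.Lib.Seat92ChowImm
import Groth.Agent.Lib.Seat85PnEmbed

/-!
# Quasi-projective open covers for Chow's lemma

For `f : X ⟶ S` locally of finite type with `X` quasi-compact we construct a dense open `D` of `X`
which is quasi-projective over `S` (in the strong sense `Imm`), and from it a finite cover of `X`
by dense quasi-projective opens.
-/

set_option autoImplicit false
set_option linter.style.haveILetI false
universe u
open CategoryTheory CategoryTheory.Limits AlgebraicGeometry TopologicalSpace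

namespace Groth.Agent.Lib.Seat92.ChowCover

open Groth.Agent.Lib.Seat92.ChowSec Groth.Agent.Lib.Seat92.ChowImm

section Top

variable {T : Type*} [TopologicalSpace T]

/-- The open complement of the closure of an open set. -/
def outside (D : Opens T) : Opens T := ⟨(closure (D : Set T))ᶜ, isClosed_closure.isOpen_compl⟩

lemma mem_outside (D : Opens T) (x : T) : x ∈ outside D ↔ x ∉ closure (D : Set T) := Iff.rfl

lemma disjoint_outside (D : Opens T) : Disjoint D (outside D) := by
  rw [disjoint_iff]
  ext x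
  simp only [Opens.coe_inf, Set.mem_inter_iff, SetLike.mem_coe, Opens.coe_bot, Set.mem_empty_iff_false,
    iff_false, not_and]
  intro hx hx'
  exact hx' (subset_closure hx)

lemma subset_closure_step (D A : Opens T) :
    closure (D : Set T) ∪ (A : Set T) ⊆ closure ((D ⊔ (A ⊓ outside D) : Opens T) : Set T) := by
  rintro x (hx | hx)
  · exact closure_mono (by intro y hy; exact Or.inl hy) hx
  · by_cases h : x ∈ closure (D : Set T)
    · exact closure_mono (by intro y hy; exact Or.inl hy) h
    · exact subset_closure (Or.inr ⟨hx, h⟩)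

lemma dense_sup_outside (D A : Opens T) (hD : Dense (D : Set T)) :
    Dense ((A ⊔ (D ⊓ outside A) : Opens T) : Set T) := by
  intro x
  by_cases h : x ∈ closure (A : Set T)
  · exact closure_mono (by intro y hy; exact Or.inl hy) h
  · rw [mem_closure_iff]
    intro o ho hxo
    have hx : x ∈ o ∩ (outside A : Set T) := ⟨hxo, h⟩
    obtain ⟨y, hy, hyD⟩ := hD.inter_open_nonempty _ (ho.inter (outside A).isOpen) ⟨x, hx⟩
    exact ⟨y, hy.1, Or.inr ⟨hyD, hy.2⟩⟩

lemma dense_finset_inf {ι : Type*} (s : Finset ι) (W : ι → Opens T)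
    (h : ∀ i ∈ s, Dense (W i : Set T)) : Dense ((s.inf W : Opens T) : Set T) := by
  classical
  induction s using Finset.induction_on with
  | empty => simp
  | insert a s ha ih =>
    rw [Finset.inf_insert, Opens.coe_inf]
    exact (h a (Finset.mem_insert_self _ _)).inter_of_isOpen_left
      (ih fun i hi => h i (Finset.mem_insert_of_mem hi)) (W a).isOpen

end Top

section Sch

variable {X S : Scheme.{u}} (f : X ⟶ S)

/-- The open `W` of `X` is quasi-projective over `S` in the strong sense. -/
def ImmOpen (W : X.Opens) : Prop := Imm (W.ι ≫ f)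

variable {f}

lemma ImmOpen.mono {W W' : X.Opens} (h : W' ≤ W) (hW : ImmOpen f W) : ImmOpen f W' := by
  have := Imm.comp (X.homOfLE h) hW
  rwa [← Category.assoc, Scheme.homOfLE_ι] at this

variable (f) in
lemma immOpen_bot : ImmOpen f ⊥ := by
  haveI : IsEmpty ((⊥ : X.Opens) : Scheme.{u}) := ⟨fun x => x.2⟩
  exact ⟨0, ((⊥ : X.Opens).ι ≫ f) ≫ sec 0 0 S, inferInstance, by
    rw [Category.assoc, sec_toBase, Category.comp_id]⟩

lemma ImmOpen.sup_of_disjoint {W₁ W₂ : X.Opens} (hd : Disjoint W₁ W₂) (h₁ : ImmOpen f W₁)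
    (h₂ : ImmOpen f W₂) : ImmOpen f (W₁ ⊔ W₂) := by
  refine Imm.of_isCompl ((W₁ ⊔ W₂).ι ≫ f) (X.homOfLE le_sup_left) (X.homOfLE le_sup_right) ?_ ?_ ?_
  · rw [Scheme.opensRange_homOfLE, Scheme.opensRange_homOfLE]
    constructor
    · rw [disjoint_iff] at hd ⊢
      rw [← Scheme.Hom.preimage_inf, hd]
      rfl
    · rw [codisjoint_iff, ← Scheme.Hom.preimage_sup]
      exact Scheme.Opens.ι_preimage_self _
  · rwa [← Category.assoc, Scheme.homOfLE_ι]
  · rwa [← Category.assoc, Scheme.homOfLE_ι]

lemma immOpen_of_isAffineOpen [LocallyOfFiniteType f] {A : X.Opens} (hA : IsAffineOpen A)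
    {B : S.Opens} (hB : IsAffineOpen B) (hAB : A ≤ f ⁻¹ᵁ B) : ImmOpen f A := by
  obtain ⟨n, i, hi, hib⟩ := Groth.Agent.Lib.Seat85.PnEmbed.exists_immersion (f.appLE B A hAB)
    (LocallyOfFiniteType.finiteType_appLE f hB hA hAB) hB.fromSpec
  refine ⟨n, hA.isoSpec.hom ≫ i, inferInstance, ?_⟩
  rw [Category.assoc, hib, IsAffineOpen.SpecMap_appLE_fromSpec f hB hA hAB, ← Category.assoc,
    IsAffineOpen.isoSpec_hom_fromSpec]

/-- A quasi-projective open whose closure contains a given finite union of quasi-projective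
opens. -/
lemma exists_immOpen_closure (s : Finset X.Opens) (hs : ∀ A ∈ s, ImmOpen f A) :
    ∃ D : X.Opens, ImmOpen f D ∧ ((s.sup id : X.Opens) : Set X) ⊆ closure (D : Set X) := by
  classical
  induction s using Finset.induction_on with
  | empty => exact ⟨⊥, immOpen_bot f, by simp⟩
  | insert A s hA ih =>
    obtain ⟨D, hD, hDs⟩ := ih (fun B hB => hs B (Finset.mem_insert_of_mem hB))
    refine ⟨D ⊔ (A ⊓ outside D), ?_, ?_⟩
    · exact ImmOpen.sup_of_disjoint ((disjoint_outside D).mono_right inf_le_right) hD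
        ((hs A (Finset.mem_insert_self _ _)).mono inf_le_left)
    · rw [Finset.sup_insert]
      refine subset_trans ?_ (subset_closure_step D A)
      rintro x (hx | hx)
      · exact Or.inr hx
      · exact Or.inl (hDs hx)

variable (f) in
/-- A finite cover of a quasi-compact `X` by affine opens mapping into affine opens of `S`. -/
lemma exists_finset_affine [CompactSpace X] :
    ∃ s : Finset X.Opens, s.sup id = ⊤ ∧
      ∀ A ∈ s, IsAffineOpen A ∧ ∃ B : S.Opens, IsAffineOpen B ∧ A ≤ f ⁻¹ᵁ B := by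
  classical
  have h : ∀ x : X, ∃ A : X.Opens, x ∈ A ∧ IsAffineOpen A ∧
      ∃ B : S.Opens, IsAffineOpen B ∧ A ≤ f ⁻¹ᵁ B := by
    intro x
    obtain ⟨B, hB, hxB, -⟩ := exists_isAffineOpen_mem_and_subset (X := S) (U := ⊤) (x := f x)
      (by simp)
    obtain ⟨A, hA, hxA, hAB⟩ := exists_isAffineOpen_mem_and_subset (X := X) (U := f ⁻¹ᵁ B) (x := x)
      hxB
    exact ⟨A, hxA, hA, B, hB, hAB⟩
  choose A hxA hA using h
  obtain ⟨t, ht⟩ := CompactSpace.elim_nhds_subcover (fun x => (A x : Set X))
    (fun x => (A x).isOpen.mem_nhds (hxA x))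
  refine ⟨t.image A, ?_, ?_⟩
  · rw [eq_top_iff]
    intro x _
    have hx : x ∈ ⋃ y ∈ t, (A y : Set X) := by rw [ht]; trivial
    simp only [Set.mem_iUnion] at hx
    obtain ⟨y, hy, hxy⟩ := hx
    have : A y ≤ (t.image A).sup id := Finset.le_sup (f := id) (Finset.mem_image_of_mem A hy)
    exact this hxy
  · intro B hB
    obtain ⟨y, -, rfl⟩ := Finset.mem_image.1 hB
    exact hA y

variable (f) in
/-- For `X` quasi-compact and `f` locally of finite type, `X` has a finite cover by dense opens
that are quasi-projective over `S`. -/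
theorem exists_dense_cover [CompactSpace X] [LocallyOfFiniteType f] :
    ∃ (s : Finset X.Opens) (W : X.Opens → X.Opens), s.Nonempty ∧ s.sup W = ⊤ ∧
      (∀ A ∈ s, ImmOpen f (W A)) ∧ (∀ A ∈ s, Dense (W A : Set X)) := by
  classical
  obtain ⟨s, hs, hs'⟩ := exists_finset_affine f
  have hImm : ∀ A ∈ s, ImmOpen f A := by
    intro A hA
    obtain ⟨hA1, B, hB, hAB⟩ := hs' A hA
    exact immOpen_of_isAffineOpen hA1 hB hAB
  obtain ⟨D, hD, hDs⟩ := exists_immOpen_closure s hImm
  have hDd : Dense (D : Set X) := by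
    intro x
    apply hDs
    rw [hs]
    trivial
  refine ⟨insert ⊥ s, fun A => A ⊔ (D ⊓ outside A), Finset.insert_nonempty _ _, ?_, ?_, ?_⟩
  · rw [eq_top_iff, ← hs]
    refine Finset.sup_le fun A hA => ?_
    exact le_trans (le_sup_left : A ≤ A ⊔ (D ⊓ outside A))
      (Finset.le_sup (f := fun A => A ⊔ (D ⊓ outside A)) (Finset.mem_insert_of_mem hA))
  · intro A hA
    refine ImmOpen.sup_of_disjoint ((disjoint_outside A).mono_right inf_le_right) ?_
      (hD.mono inf_le_left)
    rcases Finset.mem_insert.1 hA with rfl | hA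
    · exact immOpen_bot f
    · exact hImm A hA
  · intro A _
    exact dense_sup_outside D A hDd

end Sch

end Groth.Agent.Lib.Seat92.ChowCover
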