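import Mathlib
import Groth.Prelude.Def_CohB1
import Groth.Agent.Lib.Seat92ChowCover

/-!
# Chow's lemma over a general base

* `exists_isCompact_dense_le`: in a scheme with finitely many irreducible components, every dense
  open contains a quasi-compact dense open.
* `chow_finite_irreducibleComponents`: Chow's lemma with a dense open of isomorphism.
-/

set_option autoImplicit false
set_option linter.style.haveILetI false
universe u
open CategoryTheory CategoryTheory.Limits AlgebraicGeometry TopologicalSpace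

namespace Groth.Agent.Lib.Seat92.ChowGen

open Groth.Agent.Lib.Seat92.ChowSec Groth.Agent.Lib.Seat92.ChowImm
  Groth.Agent.Lib.Seat92.ChowCover

lemma exists_isCompact_dense_le {X : Scheme.{u}} (hirr : (irreducibleComponents X).Finite)
    (O : X.Opens) (hO : Dense (O : Set X)) :
    ∃ U : X.Opens, U ≤ O ∧ IsCompact (U : Set X) ∧ Dense (U : Set X) := by
  classical
  have h : ∀ Z ∈ irreducibleComponents X, ∃ N : X.Opens, N ≤ O ∧ IsCompact (N : Set X) ∧
      (Z ∩ (N : Set X)).Nonempty := by
    intro Z hZ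
    set Z0 : Set X := (⋃₀ (irreducibleComponents X \ {Z}))ᶜ with hZ0
    have hZ0o : IsOpen Z0 := by
      rw [hZ0, isOpen_compl_iff, Set.sUnion_eq_biUnion]
      exact hirr.sdiff.isClosed_biUnion fun W hW ↦ isClosed_of_mem_irreducibleComponents W hW.1
    have hcl : closure Z0 = Z := closure_sUnion_irreducibleComponents_sdiff_singleton hirr Z hZ
    have hne : Z0.Nonempty := by
      by_contra h
      rw [Set.not_nonempty_iff_eq_empty] at h
      rw [h, closure_empty] at hcl
      exact hZ.1.1.ne_empty hcl.symm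
    obtain ⟨x, hx0, hxO⟩ := hO.inter_open_nonempty Z0 hZ0o hne
    obtain ⟨N, hN, hxN, hNs⟩ := exists_isAffineOpen_mem_and_subset (X := X)
      (U := O ⊓ ⟨Z0, hZ0o⟩) (x := x) ⟨hxO, hx0⟩
    refine ⟨N, fun y hy => (hNs hy).1, hN.isCompact, x, ?_, hxN⟩
    rw [← hcl]
    exact subset_closure hx0
  choose! N hNO hNc hNZ using h
  refine ⟨hirr.toFinset.sup N, ?_, ?_, ?_⟩
  · exact Finset.sup_le fun Z hZ => hNO Z (hirr.mem_toFinset.1 hZ)
  · rw [Opens.coe_finset_sup, Finset.sup_set_eq_biUnion]
    exact hirr.toFinset.isCompact_biUnion fun Z hZ => hNc Z (hirr.mem_toFinset.1 hZ)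
  · intro x
    have hx : x ∈ ⋃₀ irreducibleComponents X := by
      rw [sUnion_irreducibleComponents]; trivial
    obtain ⟨Z, hZ, hxZ⟩ := hx
    have h1 := subset_closure_inter_of_isPreirreducible_of_isOpen hZ.1.2 (N Z).isOpen (hNZ Z hZ)
    refine closure_mono ?_ (h1 hxZ)
    rintro y ⟨-, hy⟩
    exact (Finset.le_sup (f := N) (hirr.mem_toFinset.2 hZ) : N Z ≤ _) hy

/-- Chow's lemma with a dense open of isomorphism, for `X` quasi-compact quasi-separated with
finitely many irreducible components. -/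
theorem chow_finite_irreducibleComponents {X S : Scheme.{u}} (f : X ⟶ S) [IsSeparated f]
    [LocallyOfFiniteType f] [CompactSpace X] [QuasiSeparatedSpace X]
    (hirr : (irreducibleComponents X).Finite) :
    ∃ (n : ℕ) (X' : Scheme.{u}) (π : X' ⟶ X) (j : X' ⟶ CohB1.ProjSpaceOver n S),
      IsImmersion j ∧ j ≫ CohB1.ProjSpaceOver.toBase n S = π ≫ f ∧ IsProper π ∧
      Function.Surjective π ∧ ∃ U : X.Opens, Dense (U : Set X) ∧ IsIso (π ∣_ U) := by
  obtain ⟨s, W, hs, hcov, hImm, hd⟩ := exists_dense_cover f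
  have hOd : Dense ((s.inf W : X.Opens) : Set X) := dense_finset_inf s W hd
  obtain ⟨U, hUO, hUc, hUd⟩ := exists_isCompact_dense_le hirr _ hOd
  obtain ⟨N, X', π, j, hj, hjπ, hπ, hiso, hsurj⟩ :=
    Groth.Agent.Lib.Seat92.ChowCore.chow_core (f := f) (U := U) hUc s hs W
      (fun i hi => hUO.trans (Finset.inf_le hi)) hcov hImm
  exact ⟨N, X', π, j, hj, hjπ, hπ, hsurj hUd, U, hUd, hiso⟩

end Groth.Agent.Lib.Seat92.ChowGen
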