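import Mathlib
import Groth.Agent.Lib.Seat15FibDescSep
import Groth.Agent.Lib.Seat15FibMain
import Groth.Agent.Lib.Seat92ChowGen
import Groth.Agent.S9705
import Groth.Agent.Lib.Helper12ClosureImage
import Groth.Agent.Lib.Helper3LocusBC
import Groth.Agent.Lib.Helper3ConsOfLocus

/-!
# EGA IV 9.6.1 (proper): the locus where `f_s : X_s ⟶ Y_s` is proper (seat 15)

* `fibOver`: the map induced on the fibres over `s` by an `S`-morphism, with `isPullback_fibOver`
  and `fibOver_comp`.
* `isProper_fibHom_iff`: given a Chow datum `π : X' ⟶ X` (proper surjective), `j : X' ⟶ P` an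
  immersion into a proper `Y`-scheme, `f_s` is proper iff the trace of `range j` on `P_s` is closed.
* `exists_open_isSeparated`: over an integral Noetherian base, if the generic fibre map is
  separated then `f` is separated over a neighbourhood of the generic point.
* `isConsMor_isProper`: "the fibre map is proper" is a constructible property of morphisms.
-/

set_option autoImplicit false
set_option linter.style.haveILetI false
universe u

namespace Groth.Agent.Lib.Seat15.FibProper

open CategoryTheory CategoryTheory.Limits AlgebraicGeometry Topology MorphismProperty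
  Groth.Agent.Lib.Seat15.FibSeparated Groth.Agent.Lib.Seat15.FibDominant
  Groth.Agent.Lib.Seat15.FibLocus Groth.Agent.Lib.Seat15.FibNoeth
  Groth.Agent.Lib.Seat15.FibDescSep

section FibOver

variable {A B C S : Scheme.{u}}

/-- the map induced on the fibres over `s` by an `S`-morphism `φ : A ⟶ B` -/
noncomputable def fibOver (φ : A ⟶ B) (a : A ⟶ S) (b : B ⟶ S) (w : φ ≫ b = a) (s : S) :
    pullback a (S.fromSpecResidueField s) ⟶ pullback b (S.fromSpecResidueField s) :=
  pullback.lift (pullback.fst a (S.fromSpecResidueField s) ≫ φ)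
    (pullback.snd a (S.fromSpecResidueField s))
    (by rw [Category.assoc, w, pullback.condition])

@[reassoc]
theorem fibOver_fst (φ : A ⟶ B) (a : A ⟶ S) (b : B ⟶ S) (w : φ ≫ b = a) (s : S) :
    fibOver φ a b w s ≫ pullback.fst b (S.fromSpecResidueField s) =
      pullback.fst a (S.fromSpecResidueField s) ≫ φ :=
  pullback.lift_fst _ _ _

@[reassoc]
theorem fibOver_snd (φ : A ⟶ B) (a : A ⟶ S) (b : B ⟶ S) (w : φ ≫ b = a) (s : S) :
    fibOver φ a b w s ≫ pullback.snd b (S.fromSpecResidueField s) =
      pullback.snd a (S.fromSpecResidueField s) :=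
  pullback.lift_snd _ _ _

theorem fibOver_comp (φ : A ⟶ B) (ψ : B ⟶ C) (a : A ⟶ S) (b : B ⟶ S) (c : C ⟶ S)
    (w1 : φ ≫ b = a) (w2 : ψ ≫ c = b) (s : S) :
    fibOver φ a b w1 s ≫ fibOver ψ b c w2 s =
      fibOver (φ ≫ ψ) a c (by rw [Category.assoc, w2, w1]) s := by
  apply pullback.hom_ext
  · rw [Category.assoc, fibOver_fst, fibOver_fst_assoc, fibOver_fst]
  · rw [Category.assoc, fibOver_snd, fibOver_snd, fibOver_snd]

theorem fibOver_congr {φ φ' : A ⟶ B} (e : φ = φ') (a : A ⟶ S) (b : B ⟶ S) (w : φ ≫ b = a)
    (s : S) : fibOver φ a b w s = fibOver φ' a b (e ▸ w) s := by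
  subst e
  rfl

theorem isPullback_fibOver (φ : A ⟶ B) (a : A ⟶ S) (b : B ⟶ S) (w : φ ≫ b = a) (s : S) :
    IsPullback (pullback.fst a (S.fromSpecResidueField s)) (fibOver φ a b w s) φ
      (pullback.fst b (S.fromSpecResidueField s)) := by
  have hs : IsPullback (pullback.fst a (S.fromSpecResidueField s))
      (fibOver φ a b w s ≫ pullback.snd b (S.fromSpecResidueField s)) (φ ≫ b)
      (S.fromSpecResidueField s) := by
    rw [fibOver_snd, w]
    exact IsPullback.of_hasPullback a (S.fromSpecResidueField s)
  exact IsPullback.of_bot hs (fibOver_fst φ a b w s).symm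
    (IsPullback.of_hasPullback b (S.fromSpecResidueField s))

theorem fibHom_eq_fibOver {X Y : Scheme.{u}} (f : X ⟶ Y) (g : Y ⟶ S) (s : S) :
    fibHom f g s = fibOver f (f ≫ g) g rfl s := rfl

end FibOver

section Top

theorem isClosed_preimage_iff_subtype {A B : Type*} [TopologicalSpace A] [TopologicalSpace B]
    {e : A → B} (he : IsEmbedding e) (R T : Set B) (hT : Set.range e = T) :
    IsClosed (e ⁻¹' R) ↔ IsClosed (Subtype.val ⁻¹' R : Set ↥T) := by
  subst hT
  let φ := he.toHomeomorph
  have : e ⁻¹' R = φ ⁻¹' (Subtype.val ⁻¹' R) := rfl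
  rw [this, φ.isClosed_preimage]

end Top

section Chow

variable {X Y S X' P : Scheme.{u}} (f : X ⟶ Y) (g : Y ⟶ S) (π : X' ⟶ X) (p : P ⟶ Y)
  (j : X' ⟶ P)

/-- the fibre criterion for properness in presence of a Chow datum -/
theorem isProper_fibHom_iff (hj : j ≫ p = π ≫ f) [IsProper π] [Surjective π] [IsProper p]
    [IsImmersion j] [IsSeparated f] [LocallyOfFiniteType f] (s : S) :
    IsProper (fibHom f g s) ↔
      s ∈ FibLocus PClosed ((p ≫ g : P ⟶ S) : ↥P → S) (Set.range j) (Set.range j) := by
  have wj : j ≫ p ≫ g = π ≫ f ≫ g := by rw [← Category.assoc, hj, Category.assoc]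
  set πs := fibOver π (π ≫ f ≫ g) (f ≫ g) rfl s with hπs
  set fs := fibOver f (f ≫ g) g rfl s with hfs
  set js := fibOver j (π ≫ f ≫ g) (p ≫ g) wj s with hjs
  set ps := fibOver p (p ≫ g) g rfl s with hps
  have hcomm : πs ≫ fs = js ≫ ps := by
    rw [hπs, hfs, hjs, hps, fibOver_comp, fibOver_comp]
    exact fibOver_congr hj.symm _ _ _ _
  haveI : IsProper πs := MorphismProperty.of_isPullback (P := @IsProper)
    (isPullback_fibOver π (π ≫ f ≫ g) (f ≫ g) rfl s) inferInstance
  haveI : Surjective πs := MorphismProperty.of_isPullback (P := @Surjective)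
    (isPullback_fibOver π (π ≫ f ≫ g) (f ≫ g) rfl s) inferInstance
  haveI : IsProper ps := MorphismProperty.of_isPullback (P := @IsProper)
    (isPullback_fibOver p (p ≫ g) g rfl s) inferInstance
  haveI : IsImmersion js := MorphismProperty.of_isPullback (P := @IsImmersion)
    (isPullback_fibOver j (π ≫ f ≫ g) (p ≫ g) wj s) inferInstance
  haveI : IsSeparated fs := MorphismProperty.of_isPullback (P := @IsSeparated)
    (isPullback_fibOver f (f ≫ g) g rfl s) inferInstance
  haveI : LocallyOfFiniteType fs := MorphismProperty.of_isPullback (P := @LocallyOfFiniteType)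
    (isPullback_fibOver f (f ≫ g) g rfl s) inferInstance
  have h1 : IsProper fs ↔ IsClosed (Set.range js) := by
    constructor
    · intro hfs'
      haveI : IsProper (js ≫ ps) := by rw [← hcomm]; infer_instance
      haveI : IsProper js := IsProper.of_comp js ps
      exact js.isClosedMap.isClosed_range
    · intro hcl
      haveI : IsClosedImmersion js := IsClosedImmersion.of_isPreimmersion js hcl
      haveI : IsProper (πs ≫ fs) := by rw [hcomm]; infer_instance
      haveI : UniversallyClosed fs := UniversallyClosed.of_comp_surjective πs fs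
      exact { }
  have h2 : Set.range js =
      (pullback.fst (p ≫ g) (S.fromSpecResidueField s)) ⁻¹' Set.range j :=
    range_fst_of_isPullback (isPullback_fibOver j (π ≫ f ≫ g) (p ≫ g) wj s).flip
  have h3 : Set.range (pullback.fst (p ≫ g) (S.fromSpecResidueField s)) =
      ((p ≫ g : P ⟶ S) : ↥P → S) ⁻¹' {s} := (p ≫ g).range_fiberι s
  rw [fibHom_eq_fibOver, ← hfs, h1, h2]
  exact isClosed_preimage_iff_subtype
    (pullback.fst (p ≫ g) (S.fromSpecResidueField s)).isEmbedding _ _ h3

end Chow

section Sep

variable {X Y S : Scheme.{u}} (f : X ⟶ Y) (g : Y ⟶ S)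

/-- Over an integral Noetherian base, if the map of generic fibres is separated then `f` is
separated over a neighbourhood of the generic point. -/
theorem exists_open_isSeparated [IsIntegral S] [IsNoetherian S]
    [LocallyOfFiniteType g] [QuasiCompact g] [LocallyOfFiniteType (f ≫ g)] [QuasiCompact (f ≫ g)]
    (hη : IsSeparated (fibHom f g (genericPoint S))) :
    ∃ U : S.Opens, genericPoint S ∈ U ∧ IsSeparated (f ∣_ (g ⁻¹ᵁ U)) := by
  haveI : IsLocallyNoetherian Y := LocallyOfFiniteType.isLocallyNoetherian g
  haveI : IsLocallyNoetherian X := LocallyOfFiniteType.isLocallyNoetherian (f ≫ g)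
  haveI : LocallyOfFiniteType f := locallyOfFiniteType_of_comp f g
  haveI : QuasiCompact f := QuasiCompact.of_comp f g
  haveI : CompactSpace X := QuasiCompact.compactSpace_of_compactSpace (f ≫ g)
  haveI : IsNoetherian X := { }
  haveI : IsLocallyNoetherian (pullback f f) :=
    LocallyOfFiniteType.isLocallyNoetherian (pullback.fst f f)
  haveI : CompactSpace ↥(pullback f f) :=
    QuasiCompact.compactSpace_of_compactSpace (pullback.fst f f)
  haveI : IsNoetherian (pullback f f) := { }
  set h : pullback f f ⟶ S := pullback.fst f f ≫ f ≫ g with hh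
  set R : Set ↥(pullback f f) := Set.range (pullback.diagonal f) with hR
  set B : Set ↥(pullback f f) := closure R \ R with hB
  have hRlc : IsLocallyClosed R := (pullback.diagonal f).isLocallyClosed_range
  have hBcl : IsClosed B := by
    have h1 : IsOpen (closure R \ R)ᶜ := hRlc.isOpen_coborder
    exact isOpen_compl_iff.mp h1
  have hBcon : IsConstructible B := by
    rw [← isConstructible_compl]
    exact Groth.Agent.Lib.Helper5.LocusGeneric.IsOpen.isConstructible_of_noetherianSpace
      hBcl.isOpen_compl
  have hC : IsConstructible ((h : ↥(pullback f f) → S) '' B)ᶜ :=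
    isConstructible_compl.mpr (h.isConstructible_image hBcon)
  -- the generic point is not in the image of `B`
  have hηB : genericPoint S ∈ ((h : ↥(pullback f f) → S) '' B)ᶜ := by
    rintro ⟨w, ⟨hwcl, hwR⟩, hwη⟩
    obtain ⟨x, hx⟩ := Groth.Agent.Lib.Helper12.exists_specializes_of_mem_closure_range
      (pullback.diagonal f) w hwcl
    have hx' : (pullback.diagonal f) x ⤳ w := hx
    have h1 : h ((pullback.diagonal f) x) ⤳ h w := hx'.map h.continuous
    have h2 : h ((pullback.diagonal f) x) = genericPoint S := by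
      rw [hwη] at h1
      exact (h1.antisymm ((genericPoint_spec S).specializes (Set.mem_univ _))).eq
    have hsep := (isSeparated_fibHom_iff f g (genericPoint S)).mp hη
    rw [mem_fibLocus_pClosed] at hsep
    apply hwR
    apply hsep
    refine ⟨?_, hwη⟩
    have h3 : w ∈ closure {(pullback.diagonal f) x} := specializes_iff_mem_closure.mp hx'
    refine closure_mono ?_ h3
    rintro _ rfl
    exact ⟨⟨x, rfl⟩, h2⟩
  have hint := genericPoint_mem_interior (genericPoint_spec S) hC hηB
  refine ⟨⟨interior ((h : ↥(pullback f f) → S) '' B)ᶜ, isOpen_interior⟩, hint, ?_⟩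
  set U : S.Opens := ⟨interior ((h : ↥(pullback f f) → S) '' B)ᶜ, isOpen_interior⟩ with hU
  rw [isSeparated_iff_isClosed_of_isPullback (isPullback_morphismRestrict f (g ⁻¹ᵁ U)).flip]
  rw [isClosed_induced_iff]
  refine ⟨closure R, isClosed_closure, ?_⟩
  ext ⟨w, hw⟩
  simp only [Set.mem_preimage]
  constructor
  · intro hwcl
    by_contra hwR
    have hwB : w ∈ B := ⟨hwcl, hwR⟩
    have h1 : h w ∈ (h : ↥(pullback f f) → S) '' B := ⟨w, hwB, rfl⟩
    have h2 : (pullback.fst f f ≫ f) w ∈ Set.range (g ⁻¹ᵁ U).ι := hw
    rw [Scheme.Opens.range_ι] at h2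
    have h3 : g ((pullback.fst f f ≫ f) w) ∈ U := h2
    have h4 : h w = g ((pullback.fst f f ≫ f) w) := by
      rw [hh, ← Category.assoc]
      rfl
    rw [← h4] at h3
    exact (interior_subset h3) h1
  · intro hwR
    exact subset_closure hwR

end Sep

section Main

variable {X Y S : Scheme.{u}} (f : X ⟶ Y) (g : Y ⟶ S)

/-- the proper locus for a separated morphism over a Noetherian base -/
theorem isLocallyConstructible_setOf_isProper_of_isSeparated [IsLocallyNoetherian S]
    [LocallyOfFiniteType g] [QuasiCompact g] [LocallyOfFiniteType (f ≫ g)] [QuasiCompact (f ≫ g)]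
    [CompactSpace X] [IsSeparated f] :
    IsLocallyConstructible {s : S | IsProper (fibHom f g s)} := by
  haveI : IsLocallyNoetherian Y := LocallyOfFiniteType.isLocallyNoetherian g
  haveI : IsLocallyNoetherian X := LocallyOfFiniteType.isLocallyNoetherian (f ≫ g)
  haveI : LocallyOfFiniteType f := locallyOfFiniteType_of_comp f g
  haveI : IsNoetherian X := { }
  obtain ⟨n, X', π, j, hj, hjπ, hπ, hsurj, -⟩ :=
    Groth.Agent.Lib.Seat92.ChowGen.chow_finite_irreducibleComponents f
      TopologicalSpace.NoetherianSpace.finite_irreducibleComponents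
  haveI : IsProper (CohB1.ProjSpaceOver.toBase n Y) := Groth.Agent.S9705.isProper_toBase n Y
  haveI : Surjective π := ⟨hsurj⟩
  set p := CohB1.ProjSpaceOver.toBase n Y with hp
  haveI : IsLocallyNoetherian (CohB1.ProjSpaceOver n Y) :=
    LocallyOfFiniteType.isLocallyNoetherian p
  haveI : IsLocallyNoetherian X' := LocallyOfFiniteType.isLocallyNoetherian π
  haveI : CompactSpace X' := QuasiCompact.compactSpace_of_compactSpace π
  haveI : IsNoetherian X' := { }
  have hjc : IsLocallyConstructible (Set.range j) := by
    rw [← Set.image_univ]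
    exact j.isLocallyConstructible_image IsConstructible.univ.isLocallyConstructible
  have main := Groth.Agent.Lib.Seat15.FibMain.isLocallyConstructible_pClosed
    (p ≫ g) (Set.range j) (Set.range j) hjc hjc
  have heq : {s : S | IsProper (fibHom f g s)} =
      FibLocus PClosed ((p ≫ g : CohB1.ProjSpaceOver n Y ⟶ S) :
        ↥(CohB1.ProjSpaceOver n Y) → S) (Set.range j) (Set.range j) := by
    ext s
    exact isProper_fibHom_iff f g π p j hjπ s
  rw [heq]
  exact main

/-- "The map of fibres is proper" is a constructible property of morphisms. -/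
theorem isConsMor_isProper : ConsProp.IsConsMor.{u} (fun _ _ _ f _ => IsProper f) := by
  refine ⟨Groth.Agent.Lib.Helper3.ConsOfLocus.isFieldStableMor_of @IsProper, ?_⟩
  intro X Y S f g _ _ _ _ _ _
  haveI : IsLocallyNoetherian Y := LocallyOfFiniteType.isLocallyNoetherian g
  haveI : IsLocallyNoetherian X := LocallyOfFiniteType.isLocallyNoetherian (f ≫ g)
  haveI : LocallyOfFiniteType f := locallyOfFiniteType_of_comp f g
  haveI : QuasiCompact f := QuasiCompact.of_comp f g
  have hE : ConsProp.locusMor (fun _ _ _ f _ => IsProper f) f g =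
      {s : S | IsProper (fibHom f g s)} := rfl
  by_cases hη : IsSeparated (fibHom f g (genericPoint S))
  · obtain ⟨U, hηU, hsep⟩ := exists_open_isSeparated f g hη
    haveI : IsSeparated (f ∣_ (g ⁻¹ᵁ U)) := hsep
    haveI : Nonempty ↥(U : Scheme.{u}) := ⟨⟨genericPoint S, hηU⟩⟩
    apply dichotomy_of_preimage U
    have hloc := Groth.Agent.Lib.Helper3.LocusBC.locusMor_eq_preimage
      (Groth.Agent.Lib.Helper3.ConsOfLocus.isFieldStableMor_of @IsProper)
      (isPullback_morphismRestrict g U).flip (isPullback_morphismRestrict f (g ⁻¹ᵁ U)).flip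
    rw [← hloc]
    haveI : CompactSpace ↥(U : Scheme.{u}) :=
      isCompact_iff_compactSpace.mp (TopologicalSpace.NoetherianSpace.isCompact (U : Set S))
    haveI : AlgebraicGeometry.IsIntegral (U : Scheme.{u}) := isIntegral_of_isOpenImmersion U.ι
    haveI : CompactSpace ↥((g ⁻¹ᵁ U : Y.Opens) : Scheme.{u}) :=
      QuasiCompact.compactSpace_of_compactSpace (g ∣_ U)
    haveI : CompactSpace ↥((f ⁻¹ᵁ (g ⁻¹ᵁ U) : X.Opens) : Scheme.{u}) :=
      QuasiCompact.compactSpace_of_compactSpace (f ∣_ (g ⁻¹ᵁ U))
    have hlc := isLocallyConstructible_setOf_isProper_of_isSeparated (f ∣_ (g ⁻¹ᵁ U)) (g ∣_ U)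
    exact Groth.Agent.Lib.Helper3.ConsOfLocus.interior_nonempty_or_of_isConstructible
      hlc.isConstructible
  · right
    have hcon : IsConstructible {s : S | IsSeparated (fibHom f g s)}ᶜ :=
      isConstructible_compl.mpr (isLocallyConstructible_setOf_isSeparated f g).isConstructible
    have hint := genericPoint_mem_interior (genericPoint_spec S) hcon hη
    refine ⟨genericPoint S, interior_mono ?_ hint⟩
    intro s hs hs'
    apply hs
    have : IsProper (fibHom f g s) := hs'
    show IsSeparated (fibHom f g s)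
    infer_instance

end Main

end Groth.Agent.Lib.Seat15.FibProper
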