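import Mathlib
import Groth.Agent.Lib.Seat15FibProper
import Groth.Agent.S5880
import Groth.Agent.S3426
import Groth.Agent.S3445

/-!
# EGA IV 9.6.1: the loci where `f_s : X_s ⟶ Y_s` is proper / finite / a closed immersion (seat 15)
-/

set_option autoImplicit false
set_option linter.style.haveILetI false
set_option linter.unusedSectionVars false
universe u

namespace Groth.Agent.Lib.Seat15.FibClosedImm

open CategoryTheory CategoryTheory.Limits AlgebraicGeometry Topology
  Groth.Agent.Lib.Seat15.FibDominant Groth.Agent.Lib.Seat15.FibSeparated
  Groth.Agent.Lib.Seat15.FibProper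

variable {X Y S : Scheme.{u}} (f : X ⟶ Y) (g : Y ⟶ S)
  [LocallyOfFinitePresentation g] [QuasiCompact g] [QuasiSeparated g]
  [LocallyOfFinitePresentation (f ≫ g)] [QuasiCompact (f ≫ g)] [QuasiSeparated (f ≫ g)]

theorem isLocallyConstructible_setOf_isProper :
    IsLocallyConstructible {s : S | IsProper (fibHom f g s)} :=
  Groth.Agent.S5880.result isConsMor_isProper f g

include g in
theorem locallyOfFiniteType_fibHom (s : S) : LocallyOfFiniteType (fibHom f g s) := by
  haveI : LocallyOfFiniteType f := locallyOfFiniteType_of_comp f g
  exact MorphismProperty.of_isPullback (P := @LocallyOfFiniteType) (isPullback_fibHom f g s)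
    inferInstance

theorem isLocallyConstructible_setOf_isClosedImmersion :
    IsLocallyConstructible {s : S | IsClosedImmersion (fibHom f g s)} := by
  convert (isLocallyConstructible_setOf_isProper f g).inter (Groth.Agent.S3426.result f g) using 1
  ext s
  haveI := locallyOfFiniteType_fibHom f g s
  exact IsClosedImmersion.iff_isProper_and_mono (fibHom f g s)

theorem isLocallyConstructible_setOf_isFinite :
    IsLocallyConstructible {s : S | IsFinite (fibHom f g s)} := by
  convert (isLocallyConstructible_setOf_isProper f g).inter (Groth.Agent.S3445.result f g) using 1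
  ext s
  haveI := locallyOfFiniteType_fibHom f g s
  exact IsFinite.iff_isProper_and_locallyQuasiFinite (fibHom f g s)

end Groth.Agent.Lib.Seat15.FibClosedImm
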