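import Mathlib
import Groth.Agent.Lib.Seat15FibClosedImm
import Groth.Agent.Lib.Helper12ImmersionDescent
import Groth.Agent.Lib.Helper10Spectral

/-!
# EGA IV 9.6.1 (immersion): the locus where `f_s : X_s ⟶ Y_s` is an immersion (seat 15)

* `isFieldStableMor_isImmersion`: over a field, being an immersion is insensitive to field
  extension (for quasi-compact morphisms; fpqc descent of quasi-compact immersions).
* `exists_open_border_closed`: over an integral Noetherian base, if the range of the map of
  generic fibres is locally closed then, over a neighbourhood of the generic point, the border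
  `closure (range f) \ range f` is closed.
* `isImmersion_fibHom_iff`: if the border of `range f` is closed, `f_s` is an immersion iff the
  fibre map of the corestriction of `f` to the complement of the border is a closed immersion.
* `isConsMor_isImmersion`: "the fibre map is an immersion" is a constructible property.
-/

set_option autoImplicit false
set_option linter.style.haveILetI false
universe u

namespace Groth.Agent.Lib.Seat15.FibImm

open CategoryTheory CategoryTheory.Limits AlgebraicGeometry Topology MorphismProperty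
  Groth.Agent.Lib.Seat15.FibSeparated Groth.Agent.Lib.Seat15.FibDominant
  Groth.Agent.Lib.Seat15.FibLocus Groth.Agent.Lib.Seat15.FibNoeth
  Groth.Agent.Lib.Seat15.FibDescSep Groth.Agent.Lib.Seat15.FibProper
  Groth.Agent.Lib.Seat15.FibClosedImm

section FieldStable

theorem isFieldStableMor_isImmersion :
    ConsProp.IsFieldStableMor.{u} (fun _ _ _ f _ => IsImmersion f) := by
  intro X X' Y Y' T T' f g f' g' eX eY h _ _ _ _ _ _ _ _ hY hX
  have hh := Groth.Agent.Lib.Helper3.ConsOfLocus.fpqc_of_onePoint h
  have hfpqc : (@Surjective ⊓ @Flat ⊓ @QuasiCompact : MorphismProperty Scheme.{u}) eY :=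
    ⟨⟨MorphismProperty.of_isPullback (P := @Surjective) hY.flip hh.1.1,
      MorphismProperty.of_isPullback (P := @Flat) hY.flip hh.1.2⟩,
      MorphismProperty.of_isPullback (P := @QuasiCompact) hY.flip hh.2⟩
  haveI : IsLocallyNoetherian Y := LocallyOfFiniteType.isLocallyNoetherian g
  haveI : QuasiCompact f := QuasiCompact.of_comp f g
  haveI : QuasiCompact f' := MorphismProperty.of_isPullback (P := @QuasiCompact) hX inferInstance
  constructor
  · intro hf
    exact MorphismProperty.of_isPullback (P := @IsImmersion) hX hf
  · intro hf'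
    haveI := Groth.Agent.Lib.Helper12.descendsAlong_isImmersion_inf_quasiCompact.{u}
    exact (MorphismProperty.of_isPullback_of_descendsAlong
      (P := (@IsImmersion ⊓ @QuasiCompact : MorphismProperty Scheme.{u})) hX.flip hfpqc
      ⟨hf', inferInstance⟩).1

end FieldStable

section Top

theorem isLocallyClosed_preimage_iff_subtype {A B : Type*} [TopologicalSpace A]
    [TopologicalSpace B] {e : A → B} (he : IsEmbedding e) (R T : Set B) (hT : Set.range e = T) :
    IsLocallyClosed (e ⁻¹' R) ↔ IsLocallyClosed (Subtype.val ⁻¹' R : Set ↥T) := by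
  subst hT
  let φ := he.toHomeomorph
  have h0 : e ⁻¹' R = φ ⁻¹' (Subtype.val ⁻¹' R) := rfl
  rw [h0]
  constructor
  · intro h
    have h1 := h.preimage φ.symm.continuous
    have h2 : φ.symm ⁻¹' (φ ⁻¹' (Subtype.val ⁻¹' R)) = Subtype.val ⁻¹' R := by
      ext x
      simp
    rwa [h2] at h1
  · intro h
    exact h.preimage φ.continuous

end Top

section Range

variable {X Y S : Scheme.{u}} (f : X ⟶ Y) (g : Y ⟶ S)

/-- if `f_s` is an immersion then the trace of `range f` on the fibre `Y_s` is locally closed -/
theorem mem_fibLocus_pLocClosed_of_isImmersion (s : S) (h : IsImmersion (fibHom f g s)) :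
    s ∈ FibLocus PLocClosed ((g : Y ⟶ S) : ↥Y → S) (Set.range f) (Set.range f) := by
  have h2 : Set.range (fibHom f g s) =
      (pullback.fst g (S.fromSpecResidueField s)) ⁻¹' Set.range f :=
    range_fst_of_isPullback (isPullback_fibHom f g s).flip
  have h3 : Set.range (pullback.fst g (S.fromSpecResidueField s)) =
      ((g : Y ⟶ S) : ↥Y → S) ⁻¹' {s} := g.range_fiberι s
  have h1 : IsLocallyClosed (Set.range (fibHom f g s)) := (fibHom f g s).isLocallyClosed_range
  rw [h2] at h1
  exact (isLocallyClosed_preimage_iff_subtype
    (pullback.fst g (S.fromSpecResidueField s)).isEmbedding _ _ h3).mp h1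

end Range

section Border

variable {X Y S : Scheme.{u}} (f : X ⟶ Y) (g : Y ⟶ S)

/-- Over an integral Noetherian base, if the range of the map of generic fibres is locally closed
in the generic fibre, then over a neighbourhood of the generic point the border
`closure (range f) \ range f` is closed. -/
theorem exists_open_border_closed [IsIntegral S] [IsNoetherian S]
    [LocallyOfFiniteType g] [QuasiCompact g] [LocallyOfFiniteType (f ≫ g)] [QuasiCompact (f ≫ g)]
    (hη : genericPoint S ∈
      FibLocus PLocClosed ((g : Y ⟶ S) : ↥Y → S) (Set.range f) (Set.range f)) :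
    ∃ U : S.Opens, genericPoint S ∈ U ∧
      ∀ y ∈ closure (closure (Set.range f) \ Set.range f), g y ∈ U →
        y ∈ closure (Set.range f) \ Set.range f := by
  haveI : IsLocallyNoetherian Y := LocallyOfFiniteType.isLocallyNoetherian g
  haveI : IsLocallyNoetherian X := LocallyOfFiniteType.isLocallyNoetherian (f ≫ g)
  haveI : LocallyOfFiniteType f := locallyOfFiniteType_of_comp f g
  haveI : QuasiCompact f := QuasiCompact.of_comp f g
  haveI : CompactSpace Y := QuasiCompact.compactSpace_of_compactSpace g
  haveI : CompactSpace X := QuasiCompact.compactSpace_of_compactSpace (f ≫ g)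
  haveI : IsNoetherian Y := { }
  haveI : IsNoetherian X := { }
  set R : Set Y := Set.range f with hR
  set B : Set Y := closure R \ R with hB
  set B' : Set Y := closure B \ B with hB'
  have hRc : IsConstructible R := by
    rw [hR, ← Set.image_univ]
    exact f.isConstructible_image IsConstructible.univ
  have hclc : ∀ W : Set Y, IsClosed W → IsConstructible W := fun W hW => by
    rw [← isConstructible_compl]
    exact Groth.Agent.Lib.Helper5.LocusGeneric.IsOpen.isConstructible_of_noetherianSpace
      hW.isOpen_compl
  have hBc : IsConstructible B := (hclc _ isClosed_closure).sdiff hRc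
  have hB'c : IsConstructible B' := (hclc _ isClosed_closure).sdiff hBc
  have hC : IsConstructible ((g : ↥Y → S) '' B')ᶜ :=
    isConstructible_compl.mpr (g.isConstructible_image hB'c)
  have hηB : genericPoint S ∈ ((g : ↥Y → S) '' B')ᶜ := by
    rintro ⟨y, ⟨hycl, hyB⟩, hyη⟩
    -- `y ∈ closure B` is a specialization of a point `b` of `B`
    obtain ⟨b, hbB, hby⟩ := Groth.Agent.Lib.Helper10.Spectral.exists_specializes_of_mem_closure
      (Groth.Agent.Lib.Helper10.Spectral.isClosed_constr_of_isConstructible hBc) hycl
    have hgb : g b = genericPoint S := by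
      have h1 : g b ⤳ g y := hby.map g.continuous
      rw [hyη] at h1
      exact (h1.antisymm ((genericPoint_spec S).specializes (Set.mem_univ _))).eq
    have hW : B ∩ (g : ↥Y → S) ⁻¹' {genericPoint S} =
        (closure (R ∩ (g : ↥Y → S) ⁻¹' {genericPoint S}) \ R) ∩
          (g : ↥Y → S) ⁻¹' {genericPoint S} := by
      ext z
      constructor
      · rintro ⟨⟨hzcl, hzR⟩, hzη⟩
        refine ⟨⟨?_, hzR⟩, hzη⟩
        obtain ⟨x, hx⟩ :=
          Groth.Agent.Lib.Helper12.exists_specializes_of_mem_closure_range f z hzcl
        have hx' : f x ⤳ z := hx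
        have h1 : g (f x) ⤳ g z := hx'.map g.continuous
        have hzη' : g z = genericPoint S := hzη
        have h2 : g (f x) = genericPoint S := by
          rw [hzη'] at h1
          exact (h1.antisymm ((genericPoint_spec S).specializes (Set.mem_univ _))).eq
        have h3 : z ∈ closure {f x} := specializes_iff_mem_closure.mp hx'
        refine closure_mono ?_ h3
        rintro _ rfl
        exact ⟨⟨x, rfl⟩, h2⟩
      · rintro ⟨⟨hzcl, hzR⟩, hzη⟩
        exact ⟨⟨closure_mono Set.inter_subset_left hzcl, hzR⟩, hzη⟩
    have hcl := (mem_fibLocus_pLocClosed (g : ↥Y → S) R R (genericPoint S) B hW).mp hη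
    rw [mem_fibLocus_pClosed] at hcl
    apply hyB
    apply hcl
    refine ⟨?_, hyη⟩
    have h3 : y ∈ closure {b} := specializes_iff_mem_closure.mp hby
    refine closure_mono ?_ h3
    rintro _ rfl
    exact ⟨hbB, hgb⟩
  have hint := genericPoint_mem_interior (genericPoint_spec S) hC hηB
  refine ⟨⟨interior ((g : ↥Y → S) '' B')ᶜ, isOpen_interior⟩, hint, ?_⟩
  intro y hy hgy
  by_contra hyB
  exact (interior_subset hgy) ⟨y, ⟨hy, hyB⟩, rfl⟩

end Border

section Corestrict

variable {X Y S : Scheme.{u}} (f : X ⟶ Y) (g : Y ⟶ S)

/-- the complement of the border of `range f`, when this border is closed -/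
def coborderOpen (hB : IsClosed (closure (Set.range f) \ Set.range f)) : Y.Opens :=
  ⟨(closure (Set.range f) \ Set.range f)ᶜ, hB.isOpen_compl⟩

theorem range_subset_coborderOpen (hB : IsClosed (closure (Set.range f) \ Set.range f)) :
    Set.range f ⊆ (coborderOpen f hB : Set Y) := by
  rintro _ ⟨x, rfl⟩ ⟨_, h⟩
  exact h ⟨x, rfl⟩

/-- the corestriction of `f` to the complement of the border -/
noncomputable def corestrict (hB : IsClosed (closure (Set.range f) \ Set.range f)) :
    X ⟶ (coborderOpen f hB : Scheme.{u}) :=
  IsOpenImmersion.lift (coborderOpen f hB).ι f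
    (by rw [Scheme.Opens.range_ι]; exact range_subset_coborderOpen f hB)

@[reassoc]
theorem corestrict_ι (hB : IsClosed (closure (Set.range f) \ Set.range f)) :
    corestrict f hB ≫ (coborderOpen f hB).ι = f :=
  IsOpenImmersion.lift_fac _ _ _

theorem isClosed_range_corestrict (hB : IsClosed (closure (Set.range f) \ Set.range f)) :
    IsClosed (Set.range (corestrict f hB)) := by
  have hfx : ∀ x : X, (coborderOpen f hB).ι (corestrict f hB x) = f x := by
    intro x
    show (corestrict f hB ≫ (coborderOpen f hB).ι) x = f x
    rw [corestrict_ι]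
  have : Set.range (corestrict f hB) = (coborderOpen f hB).ι ⁻¹' closure (Set.range f) := by
    ext z
    constructor
    · rintro ⟨x, rfl⟩
      apply subset_closure
      exact ⟨x, (hfx x).symm⟩
    · intro hz
      have hz2 : (coborderOpen f hB).ι z ∈ (coborderOpen f hB : Set Y) := z.2
      have hz3 : (coborderOpen f hB).ι z ∈ Set.range f := by
        by_contra hne
        exact hz2 ⟨hz, hne⟩
      obtain ⟨x, hx⟩ := hz3
      refine ⟨x, ?_⟩
      apply (coborderOpen f hB).ι.isOpenEmbedding.injective
      rw [hfx, hx]
  rw [this]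
  exact isClosed_closure.preimage (coborderOpen f hB).ι.continuous

/-- If the border of `range f` is closed, `f_s` is an immersion iff the map of fibres of the
corestriction of `f` to the complement of the border is a closed immersion. -/
theorem isImmersion_fibHom_iff (hB : IsClosed (closure (Set.range f) \ Set.range f)) (s : S) :
    IsImmersion (fibHom f g s) ↔
      IsClosedImmersion (fibHom (corestrict f hB) ((coborderOpen f hB).ι ≫ g) s) := by
  set O := coborderOpen f hB with hO
  set f₀ := corestrict f hB with hf₀
  have w₁ : f₀ ≫ O.ι ≫ g = f ≫ g := corestrict_ι_assoc f hB g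
  have hfac : fibOver f (f ≫ g) g rfl s =
      fibOver f₀ (f ≫ g) (O.ι ≫ g) w₁ s ≫ fibOver O.ι (O.ι ≫ g) g rfl s := by
    rw [fibOver_comp]
    exact fibOver_congr (corestrict_ι f hB).symm _ _ _ _
  haveI : IsOpenImmersion (fibOver O.ι (O.ι ≫ g) g rfl s) :=
    MorphismProperty.of_isPullback (P := @IsOpenImmersion)
      (isPullback_fibOver O.ι (O.ι ≫ g) g rfl s) inferInstance
  have key : ∀ (a : X ⟶ S) (w : f₀ ≫ O.ι ≫ g = a),
      IsClosedImmersion (fibOver f₀ a (O.ι ≫ g) w s) ↔
        IsClosedImmersion (fibOver f₀ (f₀ ≫ O.ι ≫ g) (O.ι ≫ g) rfl s) := by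
    intro a w
    subst w
    rfl
  rw [fibHom_eq_fibOver, fibHom_eq_fibOver, ← key (f ≫ g) w₁, hfac]
  constructor
  · intro h
    haveI : IsImmersion (fibOver f₀ (f ≫ g) (O.ι ≫ g) w₁ s) :=
      IsImmersion.of_comp _ (fibOver O.ι (O.ι ≫ g) g rfl s)
    apply IsClosedImmersion.of_isPreimmersion
    rw [range_fst_of_isPullback (isPullback_fibOver f₀ (f ≫ g) (O.ι ≫ g) w₁ s).flip]
    exact (isClosed_range_corestrict f hB).preimage
      (pullback.fst (O.ι ≫ g) (S.fromSpecResidueField s)).continuous
  · intro h
    infer_instance

/-- the immersion locus when the border of `range f` is closed (Noetherian base) -/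
theorem isLocallyConstructible_setOf_isImmersion_of_isClosed_border [IsLocallyNoetherian S]
    [LocallyOfFiniteType g] [QuasiCompact g] [LocallyOfFiniteType (f ≫ g)] [QuasiCompact (f ≫ g)]
    (hB : IsClosed (closure (Set.range f) \ Set.range f)) :
    IsLocallyConstructible {s : S | IsImmersion (fibHom f g s)} := by
  haveI : IsLocallyNoetherian Y := LocallyOfFiniteType.isLocallyNoetherian g
  haveI : IsLocallyNoetherian X := LocallyOfFiniteType.isLocallyNoetherian (f ≫ g)
  have w₁ : corestrict f hB ≫ (coborderOpen f hB).ι ≫ g = f ≫ g := corestrict_ι_assoc f hB g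
  haveI : LocallyOfFiniteType (corestrict f hB ≫ (coborderOpen f hB).ι ≫ g) := by
    rw [w₁]; infer_instance
  haveI : QuasiCompact (corestrict f hB ≫ (coborderOpen f hB).ι ≫ g) := by
    rw [w₁]; infer_instance
  haveI : IsLocallyNoetherian ((coborderOpen f hB : Y.Opens) : Scheme.{u}) :=
    LocallyOfFiniteType.isLocallyNoetherian (coborderOpen f hB).ι
  have h := isLocallyConstructible_setOf_isClosedImmersion (corestrict f hB)
    ((coborderOpen f hB).ι ≫ g)
  convert h using 1
  ext s
  exact isImmersion_fibHom_iff f g hB s

end Corestrict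

section Main

/-- "The map of fibres is an immersion" is a constructible property of morphisms. -/
theorem isConsMor_isImmersion :
    ConsProp.IsConsMor.{u} (fun _ _ _ f _ => IsImmersion f) := by
  refine ⟨isFieldStableMor_isImmersion, ?_⟩
  intro X Y S f g _ _ _ _ _ _
  haveI : IsLocallyNoetherian Y := LocallyOfFiniteType.isLocallyNoetherian g
  haveI : IsLocallyNoetherian X := LocallyOfFiniteType.isLocallyNoetherian (f ≫ g)
  haveI : LocallyOfFiniteType f := locallyOfFiniteType_of_comp f g
  haveI : QuasiCompact f := QuasiCompact.of_comp f g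
  have hE : ConsProp.locusMor (fun _ _ _ f _ => IsImmersion f) f g =
      {s : S | IsImmersion (fibHom f g s)} := rfl
  by_cases hη : genericPoint S ∈
      FibLocus PLocClosed ((g : Y ⟶ S) : ↥Y → S) (Set.range f) (Set.range f)
  · obtain ⟨U, hηU, hU⟩ := exists_open_border_closed f g hη
    haveI : Nonempty ↥(U : Scheme.{u}) := ⟨⟨genericPoint S, hηU⟩⟩
    apply dichotomy_of_preimage U
    have hloc := Groth.Agent.Lib.Helper3.LocusBC.locusMor_eq_preimage
      isFieldStableMor_isImmersion
      (isPullback_morphismRestrict g U).flip (isPullback_morphismRestrict f (g ⁻¹ᵁ U)).flip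
    rw [← hloc]
    haveI : CompactSpace ↥(U : Scheme.{u}) :=
      isCompact_iff_compactSpace.mp (TopologicalSpace.NoetherianSpace.isCompact (U : Set S))
    haveI : AlgebraicGeometry.IsIntegral (U : Scheme.{u}) := isIntegral_of_isOpenImmersion U.ι
    have hBU : IsClosed (closure (Set.range (f ∣_ (g ⁻¹ᵁ U))) \ Set.range (f ∣_ (g ⁻¹ᵁ U))) := by
      have h1 : Set.range (f ∣_ (g ⁻¹ᵁ U)) = (g ⁻¹ᵁ U).ι ⁻¹' Set.range f :=
        range_fst_of_isPullback (isPullback_morphismRestrict f (g ⁻¹ᵁ U))
      have h2 : closure ((g ⁻¹ᵁ U).ι ⁻¹' Set.range f) =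
          (g ⁻¹ᵁ U).ι ⁻¹' closure (Set.range f) :=
        ((g ⁻¹ᵁ U).ι.isOpenEmbedding.isOpenMap.preimage_closure_eq_closure_preimage
          (g ⁻¹ᵁ U).ι.continuous _).symm
      have h3 : closure (Set.range (f ∣_ (g ⁻¹ᵁ U))) \ Set.range (f ∣_ (g ⁻¹ᵁ U)) =
          (g ⁻¹ᵁ U).ι ⁻¹' closure (closure (Set.range f) \ Set.range f) := by
        rw [h1, h2]
        ext z
        constructor
        · rintro ⟨hz1, hz2⟩
          exact subset_closure ⟨hz1, hz2⟩
        · intro hz
          exact hU _ hz z.2
      rw [h3]
      exact isClosed_closure.preimage (g ⁻¹ᵁ U).ι.continuous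
    have hlc := isLocallyConstructible_setOf_isImmersion_of_isClosed_border
      (f ∣_ (g ⁻¹ᵁ U)) (g ∣_ U) hBU
    exact Groth.Agent.Lib.Helper3.ConsOfLocus.interior_nonempty_or_of_isConstructible
      hlc.isConstructible
  · right
    have hRlc : IsLocallyConstructible (Set.range f) := by
      rw [← Set.image_univ]
      exact f.isLocallyConstructible_image IsConstructible.univ.isLocallyConstructible
    have hcon : IsConstructible
        (FibLocus PLocClosed ((g : Y ⟶ S) : ↥Y → S) (Set.range f) (Set.range f))ᶜ :=
      isConstructible_compl.mpr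
        (Groth.Agent.Lib.Seat15.FibMain.isLocallyConstructible_pLocClosed g _ _
          hRlc hRlc).isConstructible
    have hint := genericPoint_mem_interior (genericPoint_spec S) hcon hη
    refine ⟨genericPoint S, interior_mono ?_ hint⟩
    intro s hs hs'
    exact hs (mem_fibLocus_pLocClosed_of_isImmersion f g s hs')

end Main

end Groth.Agent.Lib.Seat15.FibImm
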