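import Groth.Prelude.Def_HTor
import Groth.Agent.Lib.Helper1KF6
import Groth.Agent.Lib.Helper1Tor
set_option backward.isDefEq.respectTransparency.types false

/-!
# A free cover of a bounded-above complex with free cohomology (seat 15)

For a cochain complex `L` of `A`-modules we construct a complex `P L` of free modules together
with a termwise surjective morphism `π L : P L ⟶ L` which is surjective on cohomology, such that
the cohomology modules of `P L` are free (hence flat) and `P L` vanishes above `b` if `L` does.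
-/

set_option autoImplicit false
universe u
open CategoryTheory CategoryTheory.Limits HomologicalComplex

namespace Groth.Agent.Lib.Seat15.FreeCover

open Groth.Agent.Lib.Helper1.KF

variable {A : Type u} [CommRing A] (L : DRing.Cx A)

/-- nonzero cycles of degree `j` -/
def GenF (j : ℤ) : Type u := {z : L.cycles j // z ≠ 0}

/-- elements of degree `j` which are not cycles -/
def GenG (j : ℤ) : Type u := {x : L.X j // (L.d j (j + 1)).hom x ≠ 0}

/-- a copy of `GenG (j - 1)` -/
def GenH (j : ℤ) : Type u := Σ i : {i : ℤ // i + 1 = j}, GenG L i.1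

/-- the terms of the free cover -/
abbrev PX (j : ℤ) : Type u := (GenF L j →₀ A) × (GenG L j →₀ A) × (GenH L j →₀ A)

/-- the inclusion of `GenG i` into `GenH j` -/
def inclGH (i j : ℤ) (h : i + 1 = j) : GenG L i → GenH L j := fun x => ⟨⟨i, h⟩, x⟩

lemma inclGH_injective (i j : ℤ) (h : i + 1 = j) : Function.Injective (inclGH L i j h) := by
  intro x y hxy
  have := (Sigma.mk.inj_iff.mp hxy).2
  exact eq_of_heq this

lemma inclGH_surjective (i j : ℤ) (h : i + 1 = j) : Function.Surjective (inclGH L i j h) := by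
  rintro ⟨⟨i', h'⟩, x⟩
  obtain rfl : i' = i := by omega
  exact ⟨x, rfl⟩

/-- the differential of the free cover, as a linear map -/
noncomputable def dLin (i j : ℤ) : PX L i →ₗ[A] PX L j :=
  if h : i + 1 = j then
    LinearMap.inr A (GenF L j →₀ A) ((GenG L j →₀ A) × (GenH L j →₀ A)) ∘ₗ
      LinearMap.inr A (GenG L j →₀ A) (GenH L j →₀ A) ∘ₗ
      Finsupp.lmapDomain A A (inclGH L i j h) ∘ₗ
      LinearMap.fst A (GenG L i →₀ A) (GenH L i →₀ A) ∘ₗ
      LinearMap.snd A (GenF L i →₀ A) ((GenG L i →₀ A) × (GenH L i →₀ A))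
  else 0

lemma dLin_apply (i j : ℤ) (h : i + 1 = j) (x : PX L i) :
    dLin L i j x = (0, 0, Finsupp.mapDomain (inclGH L i j h) x.2.1) := by
  simp [dLin, h]

/-- the free cover of `L` -/
noncomputable def P : DRing.Cx A where
  X j := ModuleCat.of A (PX L j)
  d i j := ModuleCat.ofHom (dLin L i j)
  shape i j hij := by
    have h : ¬ i + 1 = j := hij
    have h0 : dLin L i j = 0 := by simp [dLin, h]
    rw [h0]
    rfl
  d_comp_d' i j k hij hjk := by
    have h1 : i + 1 = j := hij
    have h2 : j + 1 = k := hjk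
    apply ModuleCat.hom_ext
    apply LinearMap.ext
    intro x
    show dLin L j k (dLin L i j x) = 0
    rw [dLin_apply L i j h1, dLin_apply L j k h2]
    simp

/-- the components of the covering map -/
noncomputable def φF (j : ℤ) : (GenF L j →₀ A) →ₗ[A] L.X j :=
  Finsupp.linearCombination A (fun z : GenF L j => (L.iCycles j).hom z.1)

/-- the components of the covering map -/
noncomputable def φG (j : ℤ) : (GenG L j →₀ A) →ₗ[A] L.X j :=
  Finsupp.linearCombination A (fun x : GenG L j => x.1)

/-- the components of the covering map -/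
noncomputable def φH (j : ℤ) : (GenH L j →₀ A) →ₗ[A] L.X j :=
  Finsupp.linearCombination A (fun y : GenH L j => (L.d y.1.1 j).hom y.2.1)

/-- the covering map, as a linear map -/
noncomputable def πLin (j : ℤ) : PX L j →ₗ[A] L.X j :=
  (φF L j).coprod ((φG L j).coprod (φH L j))

lemma πLin_apply (j : ℤ) (x : PX L j) :
    πLin L j x = φF L j x.1 + (φG L j x.2.1 + φH L j x.2.2) := by
  simp [πLin]

lemma d_φF (i j : ℤ) (f : GenF L i →₀ A) : (L.d i j).hom (φF L i f) = 0 := by
  have h : (L.d i j).hom ∘ₗ φF L i = 0 := by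
    apply Finsupp.lhom_ext
    intro z a
    have hz : (L.d i j).hom ((L.iCycles i).hom z.1) = 0 :=
      congrArg (fun t => t.hom z.1) (L.iCycles_d i j)
    simp [φF, Finsupp.linearCombination_single, hz]
  exact LinearMap.congr_fun h f

lemma d_φH (i j : ℤ) (f : GenH L i →₀ A) : (L.d i j).hom (φH L i f) = 0 := by
  have h : (L.d i j).hom ∘ₗ φH L i = 0 := by
    apply Finsupp.lhom_ext
    intro y a
    simp [φH, Finsupp.linearCombination_single, d_d_apply]
  exact LinearMap.congr_fun h f

lemma φH_mapDomain (i j : ℤ) (h : i + 1 = j) (g : GenG L i →₀ A) :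
    φH L j (Finsupp.mapDomain (inclGH L i j h) g) = (L.d i j).hom (φG L i g) := by
  have h' : φH L j ∘ₗ Finsupp.lmapDomain A A (inclGH L i j h) = (L.d i j).hom ∘ₗ φG L i := by
    apply Finsupp.lhom_ext
    intro x a
    simp [φH, φG, Finsupp.linearCombination_single, Finsupp.mapDomain_single, inclGH]
  exact LinearMap.congr_fun h' g

/-- the covering map `P L ⟶ L` -/
noncomputable def π : P L ⟶ L where
  f j := ModuleCat.ofHom (πLin L j)
  comm' i j hij := by
    have h1 : i + 1 = j := hij
    apply ModuleCat.hom_ext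
    apply LinearMap.ext
    intro x
    show (L.d i j).hom (πLin L i x) = πLin L j (dLin L i j x)
    rw [dLin_apply L i j h1, πLin_apply, πLin_apply, map_add, map_add, d_φF, d_φH,
      φH_mapDomain]
    simp

lemma termwiseFlat_P : DRing.TermwiseFlat (P L) := fun j => by
  show Module.Flat A (PX L j)
  infer_instance

lemma isEmpty_GenF (j : ℤ) (hj : IsZero (L.X j)) : IsEmpty (GenF L j) := by
  have := ModuleCat.subsingleton_of_isZero hj
  refine ⟨fun z => z.2 ?_⟩
  apply iCycles_injective
  exact Subsingleton.elim _ _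

lemma isEmpty_GenG (j : ℤ) (hj : IsZero (L.X (j + 1))) : IsEmpty (GenG L j) := by
  have := ModuleCat.subsingleton_of_isZero hj
  exact ⟨fun x => x.2 (Subsingleton.elim _ _)⟩

lemma isEmpty_GenH (j : ℤ) (hj : IsZero (L.X j)) : IsEmpty (GenH L j) := by
  refine ⟨fun y => ?_⟩
  obtain ⟨⟨i, rfl⟩, x⟩ := y
  exact (isEmpty_GenG L i hj).false x

lemma vanishesAbove_P (b : ℤ) (hb : DRing.VanishesAbove L b) : DRing.VanishesAbove (P L) b := by
  intro j hj
  have h0 : IsZero (L.X j) := hb j hj
  have h1 : IsZero (L.X (j + 1)) := hb (j + 1) (by omega)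
  have := isEmpty_GenF L j h0
  have := isEmpty_GenG L j h1
  have := isEmpty_GenH L j h0
  have : Subsingleton (PX L j) := inferInstance
  exact ModuleCat.isZero_of_subsingleton (ModuleCat.of A (PX L j))

lemma πLin_surjective (j : ℤ) : Function.Surjective (πLin L j) := by
  intro x
  by_cases hx : (L.d j (j + 1)).hom x = 0
  · obtain ⟨z, rfl⟩ := exists_cycle L j x hx
    by_cases hz : z = 0
    · exact ⟨0, by simp [hz]⟩
    · refine ⟨(Finsupp.single ⟨z, hz⟩ 1, 0, 0), ?_⟩
      simp [πLin_apply, φF, Finsupp.linearCombination_single]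
  · refine ⟨(0, Finsupp.single ⟨x, hx⟩ 1, 0), ?_⟩
    simp [πLin_apply, φG, Finsupp.linearCombination_single]

instance epi_π_f (j : ℤ) : Epi ((π L).f j) :=
  (ModuleCat.epi_iff_surjective _).2 (πLin_surjective L j)

instance epi_π : Epi (π L) := HomologicalComplex.epi_of_epi_f _ inferInstance

lemma homologyMap_π_surjective (j : ℤ) :
    Function.Surjective (homologyMap (π L) j).hom := by
  intro c
  obtain ⟨z, rfl⟩ := homologyπ_surjective L j c
  by_cases hz : z = 0
  · exact ⟨0, by simp [hz]⟩
  · have hd : ((P L).d j (j + 1)).hom ((Finsupp.single ⟨z, hz⟩ 1, 0, 0) : PX L j) = 0 := by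
      show dLin L j (j + 1) _ = 0
      rw [dLin_apply L j (j + 1) rfl]
      simp
    obtain ⟨w, hw⟩ := exists_cycle (P L) j _ hd
    refine ⟨((P L).homologyπ j).hom w, ?_⟩
    rw [homologyMap_homologyπ]
    congr 1
    apply iCycles_injective
    rw [iCycles_cyclesMap, hw]
    show πLin L j _ = _
    simp [πLin_apply, φF, Finsupp.linearCombination_single]

/-- the inclusion of the `GenF` summand into the cycles of `P L` -/
noncomputable def kF (j : ℤ) : ModuleCat.of A (GenF L j →₀ A) ⟶ (P L).X j :=
  ModuleCat.ofHom (LinearMap.inl A (GenF L j →₀ A) ((GenG L j →₀ A) × (GenH L j →₀ A)))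

lemma kF_d (j k : ℤ) : kF L j ≫ (P L).d j k = 0 := by
  by_cases h : j + 1 = k
  · apply ModuleCat.hom_ext
    apply LinearMap.ext
    intro f
    show dLin L j k ((f, 0) : PX L j) = 0
    rw [dLin_apply L j k h]
    simp
  · rw [(P L).shape j k h, comp_zero]

/-- the map `GenF →₀ A ⟶ H^j(P L)` -/
noncomputable def aF (j : ℤ) : (GenF L j →₀ A) →ₗ[A] (P L).homology j :=
  ((P L).liftCycles (kF L j) (j + 1) (by simp) (kF_d L j (j + 1)) ≫ (P L).homologyπ j).hom

lemma iCycles_liftCycles_kF (j : ℤ) (f : GenF L j →₀ A) :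
    ((P L).iCycles j).hom (((P L).liftCycles (kF L j) (j + 1) (by simp) (kF_d L j (j + 1))).hom f) =
      ((f, 0) : PX L j) :=
  congrArg (fun t => t.hom f) ((P L).liftCycles_i (kF L j) (j + 1) (by simp) (kF_d L j (j + 1)))

lemma aF_injective (j : ℤ) : Function.Injective (aF L j) := by
  rw [← LinearMap.ker_eq_bot, LinearMap.ker_eq_bot']
  intro f hf
  obtain ⟨i, rfl⟩ : ∃ i, j = i + 1 := ⟨j - 1, by omega⟩
  have hf' : ((P L).homologyπ (i + 1)).hom (((P L).liftCycles (kF L (i + 1)) (i + 1 + 1) (by simp)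
      (kF_d L (i + 1) (i + 1 + 1))).hom f) = 0 := hf
  obtain ⟨w, hw⟩ := exists_of_homologyπ_eq_zero (P L) i _ hf'
  have h1 := iCycles_toCycles (P L) i w
  rw [hw, iCycles_liftCycles_kF] at h1
  have h2 : ((P L).d i (i + 1)).hom w = dLin L i (i + 1) w := rfl
  rw [h2, dLin_apply L i (i + 1) rfl] at h1
  exact congrArg Prod.fst h1

lemma aF_surjective (j : ℤ) : Function.Surjective (aF L j) := by
  intro c
  obtain ⟨z, rfl⟩ := homologyπ_surjective (P L) j c
  obtain ⟨i, rfl⟩ : ∃ i, j = i + 1 := ⟨j - 1, by omega⟩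
  set x : PX L (i + 1) := ((P L).iCycles (i + 1)).hom z with hx
  have hdx : dLin L (i + 1) (i + 1 + 1) x = 0 := d_iCycles (P L) (i + 1) z
  rw [dLin_apply L (i + 1) (i + 1 + 1) rfl] at hdx
  have hg : x.2.1 = 0 := by
    have h3 : Finsupp.mapDomain (inclGH L (i + 1) (i + 1 + 1) rfl) x.2.1 = 0 :=
      congrArg (fun t => t.2.2) hdx
    exact Finsupp.mapDomain_injective (inclGH_injective L _ _ rfl) (by rw [h3, Finsupp.mapDomain_zero])
  obtain ⟨g₀, hg₀⟩ := Finsupp.mapDomain_surjective (M := A) (inclGH_surjective L i (i + 1) rfl) x.2.2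
  let w : PX L i := (0, g₀, 0)
  refine ⟨x.1, ?_⟩
  have hz : z = ((P L).liftCycles (kF L (i + 1)) (i + 1 + 1) (by simp) (kF_d L (i + 1) (i + 1 + 1))).hom x.1 +
      ((P L).toCycles i (i + 1)).hom w := by
    apply iCycles_injective
    rw [map_add, iCycles_liftCycles_kF, iCycles_toCycles]
    have h2 : ((P L).d i (i + 1)).hom w = dLin L i (i + 1) w := rfl
    rw [h2, dLin_apply L i (i + 1) rfl, ← hx]
    show x = ((x.1, 0) : PX L (i + 1)) + (0, 0, Finsupp.mapDomain (inclGH L i (i + 1) rfl) w.2.1)
    refine Prod.ext ?_ (Prod.ext ?_ ?_)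
    · show x.1 = x.1 + 0
      rw [add_zero]
    · show x.2.1 = 0 + 0
      rw [hg, add_zero]
    · show x.2.2 = 0 + Finsupp.mapDomain (inclGH L i (i + 1) rfl) g₀
      rw [hg₀, zero_add]
  rw [hz, map_add, homologyπ_toCycles, add_zero]
  rfl

/-- the cohomology of the free cover is free -/
noncomputable def homologyEquiv (j : ℤ) : (GenF L j →₀ A) ≃ₗ[A] (P L).homology j :=
  LinearEquiv.ofBijective (aF L j) ⟨aF_injective L j, aF_surjective L j⟩

instance flat_homology_P (j : ℤ) : Module.Flat A ((P L).homology j) :=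
  Module.Flat.of_linearEquiv (homologyEquiv L j).symm

/-- the kernel of the covering map -/
noncomputable def K : DRing.Cx A := kernel (π L)

/-- the short exact sequence `0 ⟶ K L ⟶ P L ⟶ L ⟶ 0` -/
noncomputable def ses : ShortComplex (DRing.Cx A) :=
  ShortComplex.mk (kernel.ι (π L)) (π L) (kernel.condition _)

lemma ses_shortExact : (ses L).ShortExact where
  exact := ShortComplex.exact_of_f_is_kernel _ (kernelIsKernel _)
  mono_f := by dsimp [ses]; infer_instance
  epi_g := by dsimp [ses]; infer_instance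

lemma ses_eval_shortExact (i : ℤ) : ((ses L).map (eval _ _ i)).ShortExact := by
  have hS := ses_shortExact L
  have := hS.mono_f
  have := hS.epi_g
  exact hS.map_of_exact (eval _ _ i)

lemma termwiseFlat_K (hL : DRing.TermwiseFlat L) : DRing.TermwiseFlat (K L) := by
  intro i
  have hS := ses_eval_shortExact L i
  have : Module.Flat A ((P L).X i) := termwiseFlat_P L i
  have : Module.Flat A (L.X i) := hL i
  exact Groth.Agent.Lib.Helper1.Tor.flat_ker (M' := (K L).X i) (M := (P L).X i) (M'' := L.X i)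
    ((kernel.ι (π L)).f i).hom ((π L).f i).hom hS.moduleCat_injective_f hS.moduleCat_surjective_g
    ((ShortComplex.ShortExact.moduleCat_exact_iff_function_exact _).1 hS.exact)

lemma vanishesAbove_K (b : ℤ) (hb : DRing.VanishesAbove L b) : DRing.VanishesAbove (K L) b := by
  intro i hi
  have hS := ses_eval_shortExact L i
  have h0 : IsZero ((P L).X i) := vanishesAbove_P L b hb i hi
  have := ModuleCat.subsingleton_of_isZero h0
  have hinj : Function.Injective ((kernel.ι (π L)).f i).hom := hS.moduleCat_injective_f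
  have : Subsingleton ((K L).X i) := hinj.subsingleton
  exact ModuleCat.isZero_of_subsingleton _

end Groth.Agent.Lib.Seat15.FreeCover
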