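import Mathlib
import Groth.Prelude.Def_ProCons
import Groth.Agent.Lib.Helper2Constr

/-!
# Locally constructible / ind-constructible sets near a generic point (seat 15)

Namespace `Groth.Agent.Lib.Seat15.GenPt`.

* `mem_interior_or_of_isLocallyConstructible` : if `η` is a generic point of the whole space `X` and `E` is locally
  constructible then `η ∈ interior E` or `η ∈ interior Eᶜ`.
* `mem_interior_of_isIndConstructible` : if moreover `E` is only ind-constructible but `η ∈ E` then `η ∈ interior E`.
* `genericPoint_*` : the same for `genericPoint X` of a quasi-sober irreducible space.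
-/

set_option autoImplicit false
open Topology

namespace Groth.Agent.Lib.Seat15.GenPt

variable {X : Type*} [TopologicalSpace X]

/-- a generic point of the whole space lies in every nonempty open set. -/
theorem mem_open_of_nonempty {η : X} (hη : IsGenericPoint η Set.univ) {U : Set X} (hU : IsOpen U)
    (hne : U.Nonempty) : η ∈ U :=
  (hη.mem_open_set_iff hU).mpr (by rwa [Set.univ_inter])

/-- the restriction of a generic point to an open neighbourhood is generic there. -/
theorem isGenericPoint_subtype {η : X} (hη : IsGenericPoint η Set.univ) {V : Set X} (hηV : η ∈ V) :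
    IsGenericPoint (⟨η, hηV⟩ : V) Set.univ := by
  rw [isGenericPoint_def, Topology.IsEmbedding.subtypeVal.closure_eq_preimage_closure_image,
    Set.image_singleton]
  show Subtype.val ⁻¹' closure {η} = Set.univ
  rw [hη.def, Set.preimage_univ]

theorem mem_interior_or_of_isLocallyConstructible {η : X} (hη : IsGenericPoint η Set.univ)
    {E : Set X} (hE : IsLocallyConstructible E) : η ∈ interior E ∨ η ∈ interior Eᶜ := by
  obtain ⟨V, hVn, hVo, hC⟩ := hE η
  have hηV : η ∈ V := mem_of_mem_nhds hVn
  have hηV' := isGenericPoint_subtype hη hηV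
  have hirr : IsIrreducible (Set.univ : Set V) := by
    rw [← hηV'.def]
    exact isIrreducible_singleton.closure
  obtain ⟨U', hU'o, hne, h⟩ :=
    Groth.Agent.Lib.Helper2.Constr.exists_open_subset_or_compl hC (Y := Set.univ) hirr
  rw [Set.inter_univ] at hne h
  have hUo : IsOpen (Subtype.val '' U' : Set X) := hVo.isOpenMap_subtype_val U' hU'o
  have hηU : η ∈ (Subtype.val '' U' : Set X) := mem_open_of_nonempty hη hUo (hne.image _)
  rcases h with h | h
  · left
    refine mem_interior.mpr ⟨_, ?_, hUo, hηU⟩
    rintro _ ⟨x, hx, rfl⟩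
    exact h hx
  · right
    refine mem_interior.mpr ⟨_, ?_, hUo, hηU⟩
    rintro _ ⟨x, hx, rfl⟩
    exact h hx

theorem mem_interior_of_isIndConstructible {η : X} (hη : IsGenericPoint η Set.univ)
    {E : Set X} (hE : ProCons.IsIndConstructible E) (hηE : η ∈ E) : η ∈ interior E := by
  obtain ⟨U, hUo, hηU, 𝒮, h𝒮, hEU⟩ := hE η
  have hmem : (⟨η, hηU⟩ : U) ∈ (Subtype.val ⁻¹' E : Set U) := hηE
  rw [hEU] at hmem
  obtain ⟨T, hT𝒮, hηT⟩ := hmem
  have hηU' := isGenericPoint_subtype hη hηU
  have hint : (⟨η, hηU⟩ : U) ∈ interior T := by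
    rcases mem_interior_or_of_isLocallyConstructible hηU' (h𝒮 T hT𝒮) with h | h
    · exact h
    · exact absurd hηT (interior_subset h)
  have hTE : T ⊆ (Subtype.val ⁻¹' E : Set U) := by
    rw [hEU]
    exact Set.subset_sUnion_of_mem hT𝒮
  have hWo : IsOpen (Subtype.val '' interior T : Set X) :=
    hUo.isOpenMap_subtype_val _ isOpen_interior
  refine mem_interior.mpr ⟨_, ?_, hWo, ⟨_, hint, rfl⟩⟩
  rintro _ ⟨x, hx, rfl⟩
  exact hTE (interior_subset hx)

theorem genericPoint_mem_interior_or [QuasiSober X] [IrreducibleSpace X] {E : Set X}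
    (hE : IsLocallyConstructible E) :
    genericPoint X ∈ interior E ∨ genericPoint X ∈ interior Eᶜ :=
  mem_interior_or_of_isLocallyConstructible (genericPoint_spec X) hE

theorem genericPoint_mem_interior [QuasiSober X] [IrreducibleSpace X] {E : Set X}
    (hE : ProCons.IsIndConstructible E) (h : genericPoint X ∈ E) :
    genericPoint X ∈ interior E :=
  mem_interior_of_isIndConstructible (genericPoint_spec X) hE h

end Groth.Agent.Lib.Seat15.GenPt
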