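import Groth.Prelude.Def_HTor
import Groth.Agent.Lib.Helper1KF6
import Groth.Agent.Lib.Helper22FlatExact
set_option backward.isDefEq.respectTransparency.types false

/-!
# Flatness of cycles and boundaries of a bounded above complex with flat terms and flat cohomology
(helper15)

For a cochain complex `L` of `A`-modules:
* `Bd L p p'`: the boundaries `d(L^p)` as a submodule of the cycles `L.cycles p'`;
* `dbar L p p' : L^p → Bd L p p'`;
* exact sequences `0 → Z^p → L^p → Bd p p' → 0` and `0 → Bd p p' → Z^{p'} → H^{p'} → 0` (`p + 1 = p'`);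
* if `L` is bounded above with flat terms and flat cohomology then all `Bd` and all cycles are flat.
-/

set_option autoImplicit false
universe u
open CategoryTheory CategoryTheory.Limits HomologicalComplex TensorProduct

namespace Groth.Agent.Lib.Seat15.KunnethFlat

open Groth.Agent.Lib.Helper1.KF

variable {A : Type u} [CommRing A] (L : DRing.Cx A)

/-- The boundaries `d(L^p)` as a submodule of the cycles in degree `p'`. -/
noncomputable def Bd (p p' : ℤ) : Submodule A (L.cycles p') := LinearMap.range (L.toCycles p p').hom

/-- The differential, corestricted to the boundaries. -/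
noncomputable def dbar (p p' : ℤ) : L.X p →ₗ[A] Bd L p p' := (L.toCycles p p').hom.rangeRestrict

lemma dbar_surjective (p p' : ℤ) : Function.Surjective (dbar L p p') :=
  LinearMap.surjective_rangeRestrict _

lemma coe_dbar (p p' : ℤ) (x : L.X p) : ((dbar L p p' x : Bd L p p') : L.cycles p') =
    (L.toCycles p p').hom x := rfl

lemma iCycles_dbar (p p' : ℤ) (x : L.X p) :
    (L.iCycles p').hom ((dbar L p p' x : Bd L p p') : L.cycles p') = (L.d p p').hom x :=
  congrArg (fun t => t.hom x) (L.toCycles_i p p')

lemma iCycles_injective' (p : ℤ) : Function.Injective (L.iCycles p).hom :=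
  (ModuleCat.mono_iff_injective (L.iCycles p)).1 inferInstance

lemma homologyπ_surjective' (p : ℤ) : Function.Surjective (L.homologyπ p).hom :=
  (ModuleCat.epi_iff_surjective (L.homologyπ p)).1 inferInstance

lemma d_iCycles' (p p' : ℤ) (z : L.cycles p) : (L.d p p').hom ((L.iCycles p).hom z) = 0 :=
  congrArg (fun t => t.hom z) (L.iCycles_d p p')

lemma exact_iCycles_d (p p' : ℤ) (hp : p + 1 = p') :
    Function.Exact (L.iCycles p).hom (L.d p p').hom := by
  subst hp
  intro x
  constructor
  · intro hx
    obtain ⟨z, hz⟩ := exists_cycle L p x hx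
    exact ⟨z, hz⟩
  · rintro ⟨z, rfl⟩
    exact d_iCycles' L p (p + 1) z

lemma exact_iCycles_dbar (p p' : ℤ) (hp : p + 1 = p') :
    Function.Exact (L.iCycles p).hom (dbar L p p') := by
  intro x
  rw [← exact_iCycles_d L p p' hp x]
  constructor
  · intro hx
    rw [← iCycles_dbar, hx]
    simp
  · intro hx
    apply Subtype.ext
    apply iCycles_injective' L p'
    rw [iCycles_dbar, hx]
    simp

lemma exact_toCycles_homologyπ (p p' : ℤ) (hp : p + 1 = p') :
    Function.Exact (L.toCycles p p').hom (L.homologyπ p').hom := by
  subst hp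
  intro z
  constructor
  · intro hz
    obtain ⟨w, hw⟩ := exists_of_homologyπ_eq_zero L p z hz
    exact ⟨w, hw⟩
  · rintro ⟨w, rfl⟩
    exact homologyπ_toCycles L p w

lemma exact_Bd_homologyπ (p p' : ℤ) (hp : p + 1 = p') :
    Function.Exact (Bd L p p').subtype (L.homologyπ p').hom := by
  intro z
  rw [exact_toCycles_homologyπ L p p' hp z]
  constructor
  · rintro ⟨w, rfl⟩
    exact ⟨⟨_, ⟨w, rfl⟩⟩, rfl⟩
  · rintro ⟨⟨_, ⟨w, rfl⟩⟩, rfl⟩
    exact ⟨w, rfl⟩

section Flat

variable (hL : DRing.TermwiseFlat L) (b : ℤ) (hb : DRing.VanishesAbove L b)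
  (hH : ∀ i : ℤ, Module.Flat A (L.homology i))
include hL hb hH

private lemma flat_aux (p : ℤ) :
    ∀ p' : ℤ, p + 1 = p' → Module.Flat A (Bd L p p') := by
  by_cases hpb : b ≤ p
  · intro p' hp
    have h0 : IsZero (L.X p') := hb p' (by omega)
    have : Subsingleton (L.X p') := ModuleCat.subsingleton_of_isZero h0
    have : Subsingleton (L.cycles p') := (iCycles_injective' L p').subsingleton
    have : Subsingleton (Bd L p p') := inferInstance
    infer_instance
  · have hpb' : p ≤ b := by omega
    revert hpb
    induction p, hpb' using Int.leInductionDown with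
    | base => intro h; omega
    | pred n hn ih =>
      intro _ p' hp
      obtain rfl : p' = n := by omega
      -- flatness of `Bd n (n+1)`
      have hB : Module.Flat A (Bd L p' (p' + 1)) := by
        by_cases hnb : b ≤ p'
        · have h0 : IsZero (L.X (p' + 1)) := hb (p' + 1) (by omega)
          have : Subsingleton (L.X (p' + 1)) := ModuleCat.subsingleton_of_isZero h0
          have : Subsingleton (L.cycles (p' + 1)) := (iCycles_injective' L (p' + 1)).subsingleton
          have : Subsingleton (Bd L p' (p' + 1)) := inferInstance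
          infer_instance
        · exact ih hnb (p' + 1) rfl
      have hLp : Module.Flat A (L.X p') := hL p'
      have hZ : Module.Flat A (L.cycles p') :=
        Groth.Agent.Lib.Helper22.flat_of_exact_of_flat_flat (L.iCycles p').hom (dbar L p' (p' + 1))
          (iCycles_injective' L p') (dbar_surjective L p' (p' + 1))
          (exact_iCycles_dbar L p' (p' + 1) rfl)
      have hHp : Module.Flat A (L.homology p') := hH p'
      exact Groth.Agent.Lib.Helper22.flat_of_exact_of_flat_flat (Bd L (p' - 1) p').subtype
        (L.homologyπ p').hom (Submodule.subtype_injective _) (homologyπ_surjective' L p')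
        (exact_Bd_homologyπ L (p' - 1) p' (by omega))

theorem flat_Bd (p p' : ℤ) (hp : p + 1 = p') : Module.Flat A (Bd L p p') :=
  flat_aux L hL b hb hH p p' hp

theorem flat_cycles (p : ℤ) : Module.Flat A (L.cycles p) := by
  have hLp : Module.Flat A (L.X p) := hL p
  have hB : Module.Flat A (Bd L p (p + 1)) := flat_Bd L hL b hb hH p (p + 1) rfl
  exact Groth.Agent.Lib.Helper22.flat_of_exact_of_flat_flat (L.iCycles p).hom (dbar L p (p + 1))
    (iCycles_injective' L p) (dbar_surjective L p (p + 1)) (exact_iCycles_dbar L p (p + 1) rfl)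

end Flat

end Groth.Agent.Lib.Seat15.KunnethFlat
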