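import Groth.Agent.Lib.Seat15TensorModel
import Groth.Agent.Lib.Seat15KunnethFlat
set_option backward.isDefEq.respectTransparency.types false

/-!
# The diagram chases behind the Künneth formula with flat cohomology (helper15)

`L` is a bounded above complex with flat terms and flat cohomology, `M` is arbitrary.
* `lemmaA`, `lemmaB`, `lemmaC`: the three local (bidegreewise) statements on tensor products of modules.
-/

set_option autoImplicit false
universe u
open CategoryTheory CategoryTheory.Limits HomologicalComplex TensorProduct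

namespace Groth.Agent.Lib.Seat15.KunnethCore

open Groth.Agent.Lib.Seat15.KunnethFlat

section General

variable {A : Type u} [CommRing A]
variable {F N N' N'' P : Type u} [AddCommGroup F] [Module A F] [AddCommGroup N] [Module A N]
  [AddCommGroup N'] [Module A N'] [AddCommGroup N''] [Module A N''] [AddCommGroup P] [Module A P]

lemma map_map' {N₁ N₂ N₃ P₁ P₂ P₃ : Type u} [AddCommGroup N₁] [Module A N₁] [AddCommGroup N₂]
    [Module A N₂] [AddCommGroup N₃] [Module A N₃] [AddCommGroup P₁] [Module A P₁] [AddCommGroup P₂]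
    [Module A P₂] [AddCommGroup P₃] [Module A P₃] (f : N₂ →ₗ[A] N₃) (g : P₂ →ₗ[A] P₃)
    (f' : N₁ →ₗ[A] N₂) (g' : P₁ →ₗ[A] P₂) (x : N₁ ⊗[A] P₁) :
    TensorProduct.map f g (TensorProduct.map f' g' x) = TensorProduct.map (f ∘ₗ f') (g ∘ₗ g') x := by
  rw [TensorProduct.map_comp]
  rfl

/-- flat left factor: exactness in the right variable -/
lemma exists_of_flat_exact [Module.Flat A F] (f : N →ₗ[A] N') (g : N' →ₗ[A] N'')
    (hex : Function.Exact f g) (y : F ⊗[A] N')
    (hy : TensorProduct.map (LinearMap.id : F →ₗ[A] F) g y = 0) :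
    ∃ y' : F ⊗[A] N, TensorProduct.map (LinearMap.id : F →ₗ[A] F) f y' = y :=
  (Module.Flat.lTensor_exact F hex y).1 hy

/-- right exactness in the right variable -/
lemma exists_of_rightExact_l (f : N →ₗ[A] N') (g : N' →ₗ[A] N'')
    (hex : Function.Exact f g) (hg : Function.Surjective g) (y : F ⊗[A] N')
    (hy : TensorProduct.map (LinearMap.id : F →ₗ[A] F) g y = 0) :
    ∃ y' : F ⊗[A] N, TensorProduct.map (LinearMap.id : F →ₗ[A] F) f y' = y :=
  (_root_.lTensor_exact F hex hg y).1 hy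

/-- right exactness in the left variable -/
lemma exists_of_rightExact_r (f : N →ₗ[A] N') (g : N' →ₗ[A] N'')
    (hex : Function.Exact f g) (hg : Function.Surjective g) (x : N' ⊗[A] P)
    (hx : TensorProduct.map g (LinearMap.id : P →ₗ[A] P) x = 0) :
    ∃ u : N ⊗[A] P, TensorProduct.map f (LinearMap.id : P →ₗ[A] P) u = x :=
  (_root_.rTensor_exact P hex hg x).1 hx

/-- injectivity of `f ⊗ P` when the cokernel of `f` is flat -/
lemma injective_map_id_of_flat_coker (f : N →ₗ[A] N') (g : N' →ₗ[A] N'')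
    (hf : Function.Injective f) (hg : Function.Surjective g) (hex : Function.Exact f g)
    [Module.Flat A N''] (P : Type u) [AddCommGroup P] [Module A P] :
    Function.Injective (TensorProduct.map f (LinearMap.id : P →ₗ[A] P)) := by
  have h := LinearMap.lTensor_injective_of_exact_of_flat g hg f hf hex P
  rw [LinearMap.lTensor_inj_iff_rTensor_inj] at h
  exact h

lemma injective_map_id_left [Module.Flat A F] (f : N →ₗ[A] N') (hf : Function.Injective f) :
    Function.Injective (TensorProduct.map (LinearMap.id : F →ₗ[A] F) f) :=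
  Module.Flat.lTensor_preserves_injective_linearMap f hf

end General

section Chase

variable {A : Type u} [CommRing A] (L M : DRing.Cx A)
  (hL : DRing.TermwiseFlat L) (b : ℤ) (hb : DRing.VanishesAbove L b)
  (hH : ∀ i : ℤ, Module.Flat A (L.homology i))
include hL hb hH

omit hL hb hH in
lemma toCycles_iCycles_hom (K : DRing.Cx A) (q₀ q : ℤ) :
    (K.iCycles q).hom ∘ₗ (K.toCycles q₀ q).hom = (K.d q₀ q).hom :=
  congrArg ModuleCat.Hom.hom (K.toCycles_i q₀ q)

omit hL hb hH in
lemma homologyπ_toCycles_hom (K : DRing.Cx A) (q₀ q : ℤ) :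
    (K.homologyπ q).hom ∘ₗ (K.toCycles q₀ q).hom = 0 := by
  have := congrArg ModuleCat.Hom.hom (K.toCycles_comp_homologyπ q₀ q)
  exact this

omit hL hb hH in
lemma iCycles_subtype_dbar (p p' : ℤ) :
    ((L.iCycles p').hom ∘ₗ (Bd L p p').subtype) ∘ₗ dbar L p p' = (L.d p p').hom := by
  ext x
  exact iCycles_dbar L p p' x

lemma injective_J (p p' p'' : ℤ) (hp : p + 1 = p') (hp' : p' + 1 = p'') (P : Type u)
    [AddCommGroup P] [Module A P] :
    Function.Injective (TensorProduct.map ((L.iCycles p').hom ∘ₗ (Bd L p p').subtype)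
      (LinearMap.id : P →ₗ[A] P)) := by
  have hB'' : Module.Flat A (Bd L p' p'') := flat_Bd L hL b hb hH p' p'' hp'
  have hHp : Module.Flat A (L.homology p') := hH p'
  have i1 : Function.Injective (TensorProduct.map (Bd L p p').subtype (LinearMap.id : P →ₗ[A] P)) :=
    injective_map_id_of_flat_coker (Bd L p p').subtype (L.homologyπ p').hom
      (Submodule.subtype_injective _) (homologyπ_surjective' L p') (exact_Bd_homologyπ L p p' hp) P
  have i2 : Function.Injective (TensorProduct.map (L.iCycles p').hom (LinearMap.id : P →ₗ[A] P)) :=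
    injective_map_id_of_flat_coker (L.iCycles p').hom (dbar L p' p'')
      (iCycles_injective' L p') (dbar_surjective L p' p'') (exact_iCycles_dbar L p' p'' hp') P
  intro x y hxy
  apply i1
  apply i2
  rw [map_map', map_map']
  exact hxy

lemma lemmaA (p p' q₀ q q' : ℤ) (hp : p + 1 = p') (hq₀ : q₀ + 1 = q) (hq : q + 1 = q')
    (x : L.X p ⊗[A] M.X q) (y : L.X p' ⊗[A] M.X q₀)
    (h1 : TensorProduct.map (LinearMap.id : Bd L p p' →ₗ[A] Bd L p p') (M.d q q').hom
      (TensorProduct.map (dbar L p p') (LinearMap.id : M.X q →ₗ[A] M.X q) x) = 0)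
    (h2 : TensorProduct.map (L.d p p').hom (LinearMap.id : M.X q →ₗ[A] M.X q) x +
      TensorProduct.map (LinearMap.id : L.X p' →ₗ[A] L.X p') (M.d q₀ q).hom y = 0) :
    ∃ σ : L.X p ⊗[A] M.X q₀,
      TensorProduct.map (LinearMap.id : Bd L p p' →ₗ[A] Bd L p p') (M.d q₀ q).hom
        (TensorProduct.map (dbar L p p') (LinearMap.id : M.X q₀ →ₗ[A] M.X q₀) σ) =
      TensorProduct.map (dbar L p p') (LinearMap.id : M.X q →ₗ[A] M.X q) x := by
  have hB : Module.Flat A (Bd L p p') := flat_Bd L hL b hb hH p p' hp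
  have hLp' : Module.Flat A (L.X p') := hL p'
  obtain ⟨β', hβ'⟩ := exists_of_flat_exact (F := Bd L p p') (M.iCycles q).hom (M.d q q').hom
    (exact_iCycles_d M q q' hq) _ h1
  -- key vanishing
  have key : TensorProduct.map (LinearMap.id : Bd L p p' →ₗ[A] Bd L p p') (M.homologyπ q).hom β' = 0 := by
    apply injective_J L hL b hb hH p p' (p' + 1) hp rfl (M.homology q)
    rw [map_zero, map_map', LinearMap.comp_id, LinearMap.id_comp]
    have e2 : TensorProduct.map ((L.iCycles p').hom ∘ₗ (Bd L p p').subtype)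
        (LinearMap.id : M.cycles q →ₗ[A] M.cycles q) β' =
        - TensorProduct.map (LinearMap.id : L.X p' →ₗ[A] L.X p') (M.toCycles q₀ q).hom y := by
      apply injective_map_id_left (F := L.X p') (M.iCycles q).hom (iCycles_injective' M q)
      simp only [map_neg, map_map', LinearMap.id_comp, LinearMap.comp_id]
      rw [toCycles_iCycles_hom M q₀ q, eq_neg_iff_add_eq_zero, ← h2]
      congr 1
      have h3 := congrArg (TensorProduct.map ((L.iCycles p').hom ∘ₗ (Bd L p p').subtype)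
        (LinearMap.id : M.X q →ₗ[A] M.X q)) hβ'
      simp only [map_map', LinearMap.id_comp, LinearMap.comp_id, iCycles_subtype_dbar] at h3
      exact h3
    have e3 : TensorProduct.map ((L.iCycles p').hom ∘ₗ (Bd L p p').subtype) (M.homologyπ q).hom β' =
        TensorProduct.map (LinearMap.id : L.X p' →ₗ[A] L.X p') (M.homologyπ q).hom
          (TensorProduct.map ((L.iCycles p').hom ∘ₗ (Bd L p p').subtype)
            (LinearMap.id : M.cycles q →ₗ[A] M.cycles q) β') := by
      rw [map_map', LinearMap.id_comp, LinearMap.comp_id]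
    rw [e3, e2, map_neg, map_map', homologyπ_toCycles_hom, TensorProduct.map_zero_right]
    simp
  obtain ⟨γ, hγ⟩ := exists_of_rightExact_l (F := Bd L p p') (M.toCycles q₀ q).hom (M.homologyπ q).hom
    (exact_toCycles_homologyπ M q₀ q hq₀) (homologyπ_surjective' M q) β' key
  obtain ⟨σ, hσ⟩ := TensorProduct.map_surjective (dbar_surjective L p p')
    (g' := (LinearMap.id : M.X q₀ →ₗ[A] M.X q₀)) (fun z => ⟨z, rfl⟩) γ
  refine ⟨σ, ?_⟩
  rw [hσ, ← hβ', ← hγ, map_map', LinearMap.id_comp, toCycles_iCycles_hom]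

lemma lemmaB (p p' q q' : ℤ) (hp : p + 1 = p') (hq : q + 1 = q')
    (x' : L.X p ⊗[A] M.X q)
    (g1 : TensorProduct.map (dbar L p p') (LinearMap.id : M.X q →ₗ[A] M.X q) x' = 0)
    (g2 : TensorProduct.map (LinearMap.id : L.X p →ₗ[A] L.X p) (M.d q q').hom x' = 0) :
    ∃ v : L.cycles p ⊗[A] M.cycles q,
      TensorProduct.map (L.iCycles p).hom (M.iCycles q).hom v = x' := by
  have hB : Module.Flat A (Bd L p p') := flat_Bd L hL b hb hH p p' hp
  have hZ : Module.Flat A (L.cycles p) := flat_cycles L hL b hb hH p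
  obtain ⟨u, hu⟩ := exists_of_rightExact_r (P := M.X q) (L.iCycles p).hom (dbar L p p')
    (exact_iCycles_dbar L p p' hp) (dbar_surjective L p p') x' g1
  have hu2 : TensorProduct.map (LinearMap.id : L.cycles p →ₗ[A] L.cycles p) (M.d q q').hom u = 0 := by
    apply injective_map_id_of_flat_coker (L.iCycles p).hom (dbar L p p')
      (iCycles_injective' L p) (dbar_surjective L p p') (exact_iCycles_dbar L p p' hp) (M.X q')
    rw [map_zero, map_map', LinearMap.comp_id, LinearMap.id_comp, ← g2, ← hu, map_map',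
      LinearMap.comp_id, LinearMap.id_comp]
  obtain ⟨v, hv⟩ := exists_of_flat_exact (F := L.cycles p) (M.iCycles q).hom (M.d q q').hom
    (exact_iCycles_d M q q' hq) u hu2
  refine ⟨v, ?_⟩
  rw [← hu, ← hv, map_map', LinearMap.comp_id, LinearMap.id_comp]

lemma lemmaC (p₀ p p' q₀ q q' : ℤ) (hp₀ : p₀ + 1 = p) (hp : p + 1 = p') (hq₀ : q₀ + 1 = q)
    (hq : q + 1 = q') (v : L.cycles p ⊗[A] M.cycles q) (a : L.X p₀ ⊗[A] M.X q)
    (c : L.X p ⊗[A] M.X q₀)
    (i1 : TensorProduct.map (L.iCycles p).hom (M.iCycles q).hom v =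
      TensorProduct.map (L.d p₀ p).hom (LinearMap.id : M.X q →ₗ[A] M.X q) a +
        TensorProduct.map (LinearMap.id : L.X p →ₗ[A] L.X p) (M.d q₀ q).hom c)
    (i2 : TensorProduct.map (LinearMap.id : Bd L p₀ p →ₗ[A] Bd L p₀ p) (M.d q q').hom
      (TensorProduct.map (dbar L p₀ p) (LinearMap.id : M.X q →ₗ[A] M.X q) a) = 0) :
    TensorProduct.map (L.homologyπ p).hom (M.homologyπ q).hom v = 0 := by
  have hB₀ : Module.Flat A (Bd L p₀ p) := flat_Bd L hL b hb hH p₀ p hp₀
  have hB : Module.Flat A (Bd L p p') := flat_Bd L hL b hb hH p p' hp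
  have hLp : Module.Flat A (L.X p) := hL p
  obtain ⟨τ', hτ'⟩ := exists_of_flat_exact (F := Bd L p₀ p) (M.iCycles q).hom (M.d q q').hom
    (exact_iCycles_d M q q' hq) _ i2
  have e : TensorProduct.map (L.iCycles p).hom (LinearMap.id : M.cycles q →ₗ[A] M.cycles q) v =
      TensorProduct.map ((L.iCycles p).hom ∘ₗ (Bd L p₀ p).subtype)
        (LinearMap.id : M.cycles q →ₗ[A] M.cycles q) τ' +
      TensorProduct.map (LinearMap.id : L.X p →ₗ[A] L.X p) (M.toCycles q₀ q).hom c := by
    apply injective_map_id_left (F := L.X p) (M.iCycles q).hom (iCycles_injective' M q)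
    simp only [map_add, map_map', LinearMap.id_comp, LinearMap.comp_id]
    rw [toCycles_iCycles_hom M q₀ q, i1]
    congr 1
    have h3 := congrArg (TensorProduct.map ((L.iCycles p).hom ∘ₗ (Bd L p₀ p).subtype)
      (LinearMap.id : M.X q →ₗ[A] M.X q)) hτ'
    simp only [map_map', LinearMap.id_comp, LinearMap.comp_id, iCycles_subtype_dbar] at h3
    exact h3.symm
  have e' : TensorProduct.map (LinearMap.id : L.cycles p →ₗ[A] L.cycles p) (M.homologyπ q).hom v =
      TensorProduct.map (Bd L p₀ p).subtype (M.homologyπ q).hom τ' := by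
    apply injective_map_id_of_flat_coker (L.iCycles p).hom (dbar L p p')
      (iCycles_injective' L p) (dbar_surjective L p p') (exact_iCycles_dbar L p p' hp) (M.homology q)
    have := congrArg (TensorProduct.map (LinearMap.id : L.X p →ₗ[A] L.X p) (M.homologyπ q).hom) e
    simp only [map_add, map_map', homologyπ_toCycles_hom,
      TensorProduct.map_zero_right, LinearMap.zero_apply, add_zero, LinearMap.id_comp,
      LinearMap.comp_id] at this
    simp only [map_map', LinearMap.comp_id, LinearMap.id_comp]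
    exact this
  have e'' := congrArg (TensorProduct.map (L.homologyπ p).hom
    (LinearMap.id : M.homology q →ₗ[A] M.homology q)) e'
  simp only [map_map', LinearMap.comp_id, LinearMap.id_comp] at e''
  rw [e'']
  have hz : (L.homologyπ p).hom ∘ₗ (Bd L p₀ p).subtype = 0 := by
    ext z
    exact (exact_Bd_homologyπ L p₀ p hp₀).apply_apply_eq_zero z
  rw [hz, TensorProduct.map_zero_left]
  rfl

end Chase

end Groth.Agent.Lib.Seat15.KunnethCore

namespace Groth.Agent.Lib.Seat15.KunnethCore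

open Groth.Agent.Lib.Seat15.KunnethFlat Groth.Agent.Lib.Seat15.TensorModel
open MonoidalCategory

section Assembly

variable {A : Type u} [CommRing A] (L M : DRing.Cx A)

lemma map_units_smul' {N P : Type u} [AddCommGroup N] [Module A N] [AddCommGroup P] [Module A P]
    (f : N →ₗ[A] P) (ε : ℤˣ) (x : N) : f (ε • x) = ε • f x := by
  rw [Units.smul_def, Units.smul_def, map_zsmul]

omit [CommRing A] in
lemma units_smul_smul' {N : Type u} [AddCommGroup N] (ε : ℤˣ) (x : N) :
    ε • ε • x = x := by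
  rw [smul_smul, Int.units_mul_self, one_smul]

lemma dbar_comp_d (p₀ p p' : ℤ) : dbar L p p' ∘ₗ (L.d p₀ p).hom = 0 := by
  ext x
  apply iCycles_injective' L p'
  change (L.iCycles p').hom ((dbar L p p' ((L.d p₀ p).hom x) : Bd L p p') : L.cycles p') = _
  rw [iCycles_dbar]
  refine (congrArg (fun f => f.hom x) (L.d_comp_d p₀ p p')).trans ?_
  exact (map_zero _).symm

lemma dbar_comp_iCycles (p p' : ℤ) : dbar L p p' ∘ₗ (L.iCycles p).hom = 0 := by
  ext x
  apply iCycles_injective' L p'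
  change (L.iCycles p').hom ((dbar L p p' ((L.iCycles p).hom x) : Bd L p p') : L.cycles p') = _
  rw [iCycles_dbar]
  refine (d_iCycles' L p p' x).trans ?_
  exact (map_zero _).symm

/-- elementwise formula for the components of the differential -/
lemma pr_d_apply (n n' : ℤ) (hn : n + 1 = n') (p q p₀ q₀ : ℤ) (hp : p₀ + 1 = p) (hq : q₀ + 1 = q)
    (h : p + q = n') (t : (L ⊗ M).X n) :
    (pr L M p q n' h).hom (((L ⊗ M).d n n').hom t) =
      TensorProduct.map (L.d p₀ p).hom (LinearMap.id : M.X q →ₗ[A] M.X q)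
        ((pr L M p₀ q n (by omega)).hom t) +
        p.negOnePow • TensorProduct.map (LinearMap.id : L.X p →ₗ[A] L.X p) (M.d q₀ q).hom
          ((pr L M p q₀ n (by omega)).hom t) :=
  congrArg (fun f => f.hom t) (d_pr L M n n' hn p q p₀ q₀ hp hq h)

variable (hL : DRing.TermwiseFlat L) (b : ℤ) (hb : DRing.VanishesAbove L b)
  (hH : ∀ i : ℤ, Module.Flat A (L.homology i))
include hL hb hH

lemma stepA (n n' : ℤ) (h₁ : n + 1 = n') (t : (L ⊗ M).X n)
    (ht : ((L ⊗ M).d n n').hom t = 0) (p q p' q₀ : ℤ) (h : p + q = n) (hp : p + 1 = p')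
    (hq₀ : q₀ + 1 = q) :
    ∃ σ : L.X p ⊗[A] M.X q₀,
      TensorProduct.map (LinearMap.id : Bd L p p' →ₗ[A] Bd L p p') (M.d q₀ q).hom
        (TensorProduct.map (dbar L p p') (LinearMap.id : M.X q₀ →ₗ[A] M.X q₀) σ) =
      p.negOnePow • TensorProduct.map (dbar L p p') (LinearMap.id : M.X q →ₗ[A] M.X q)
        ((pr L M p q n h).hom t) := by
  have E1 := pr_d_apply L M n n' h₁ p (q + 1) (p - 1) q (by omega) rfl (by omega) t
  have E2 := pr_d_apply L M n n' h₁ p' q p q₀ hp hq₀ (by omega) t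
  rw [ht, map_zero] at E1 E2
  have h1 : TensorProduct.map (LinearMap.id : Bd L p p' →ₗ[A] Bd L p p') (M.d q (q + 1)).hom
      (TensorProduct.map (dbar L p p') (LinearMap.id : M.X q →ₗ[A] M.X q)
        (p.negOnePow • (pr L M p q n h).hom t)) = 0 := by
    rw [map_map', LinearMap.id_comp, LinearMap.comp_id, map_units_smul']
    have h3 := congrArg (TensorProduct.map (dbar L p p')
      (LinearMap.id : M.X (q + 1) →ₗ[A] M.X (q + 1))) E1
    rw [map_zero, map_add, map_map', dbar_comp_d, TensorProduct.map_zero_left, LinearMap.zero_apply,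
      zero_add, map_units_smul', map_map', LinearMap.comp_id, LinearMap.id_comp] at h3
    exact h3.symm
  have h2 : TensorProduct.map (L.d p p').hom (LinearMap.id : M.X q →ₗ[A] M.X q)
      (p.negOnePow • (pr L M p q n h).hom t) +
      TensorProduct.map (LinearMap.id : L.X p' →ₗ[A] L.X p') (M.d q₀ q).hom
        ((p.negOnePow * p'.negOnePow) • (pr L M p' q₀ n (by omega)).hom t) = 0 := by
    rw [map_units_smul', map_units_smul', mul_smul]
    have h3 := congrArg (fun z => p.negOnePow • z) E2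
    simp only [smul_zero, smul_add] at h3
    exact h3.symm
  obtain ⟨σ, hσ⟩ := lemmaA L M hL b hb hH p p' q₀ q (q + 1) hp hq₀ rfl
    (p.negOnePow • (pr L M p q n h).hom t)
    ((p.negOnePow * p'.negOnePow) • (pr L M p' q₀ n (by omega)).hom t) h1 h2
  refine ⟨σ, ?_⟩
  rw [hσ, map_units_smul']

omit hL hb hH in
lemma Θ_apply (n : ℤ) (t : (L ⊗ M).X n) (p q : ℤ) (h : p + q = n) :
    ((ΘIso L M n).hom.hom t : Model L M n) ⟨(p, q), h⟩ = (pr L M p q n h).hom t := rfl

/-- The family of cycle-tensor modules. -/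
abbrev CycSum (n : ℤ) : Type u :=
  DirectSum (HTor.Antidiag n) fun ij => (L.cycles ij.1.1) ⊗[A] (M.cycles ij.1.2)

theorem core_surj (n₀ n n' : ℤ) (h₀ : n₀ + 1 = n) (h₁ : n + 1 = n')
    (t : (L ⊗ M).X n) (ht : ((L ⊗ M).d n n').hom t = 0) :
    ∃ (s : (L ⊗ M).X n₀) (ξ : CycSum L M n),
      ∀ (p q : ℤ) (h : p + q = n), (pr L M p q n h).hom (t - ((L ⊗ M).d n₀ n).hom s) =
        TensorProduct.map (L.iCycles p).hom (M.iCycles q).hom (ξ ⟨(p, q), h⟩) := by
  classical
  -- Step 1: construct `s`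
  let up : HTor.Antidiag n₀ → HTor.Antidiag n := fun k => ⟨(k.1.1, k.1.2 + 1), by
    have := k.2
    simp only
    omega⟩
  let down : HTor.Antidiag n → HTor.Antidiag n₀ := fun k => ⟨(k.1.1, k.1.2 - 1), by
    have := k.2
    simp only
    omega⟩
  have hud : Function.LeftInverse down up := by
    intro k
    apply Subtype.ext
    apply Prod.ext
    · rfl
    · simp [up, down]
  let G : ∀ k : HTor.Antidiag n₀, (L.X k.1.1 ⊗[A] M.X k.1.2) →ₗ[A]
      (Bd L k.1.1 (k.1.1 + 1) ⊗[A] M.X (k.1.2 + 1)) := fun k =>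
    TensorProduct.map (LinearMap.id : Bd L k.1.1 (k.1.1 + 1) →ₗ[A] Bd L k.1.1 (k.1.1 + 1))
        (M.d k.1.2 (k.1.2 + 1)).hom ∘ₗ
      TensorProduct.map (dbar L k.1.1 (k.1.1 + 1)) (LinearMap.id : M.X k.1.2 →ₗ[A] M.X k.1.2)
  let H : ∀ k : HTor.Antidiag n₀, (L.X k.1.1 ⊗[A] M.X (k.1.2 + 1)) →ₗ[A]
      (Bd L k.1.1 (k.1.1 + 1) ⊗[A] M.X (k.1.2 + 1)) := fun k =>
    k.1.1.negOnePow • TensorProduct.map (dbar L k.1.1 (k.1.1 + 1))
      (LinearMap.id : M.X (k.1.2 + 1) →ₗ[A] M.X (k.1.2 + 1))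
  let tΘ : DirectSum (HTor.Antidiag n₀) fun k => (L.X k.1.1 ⊗[A] M.X (k.1.2 + 1)) :=
    DFinsupp.comapDomain' up hud ((ΘIso L M n).hom.hom t : Model L M n)
  let Y := DirectSum.lmap H tΘ
  have hY : Y ∈ LinearMap.range (DirectSum.lmap G) := by
    rw [DirectSum.range_lmap]
    rw [Submodule.mem_comap, Submodule.mem_pi]
    intro k _
    obtain ⟨σ, hσ⟩ := stepA L M hL b hb hH n n' h₁ t ht k.1.1 (k.1.2 + 1) (k.1.1 + 1) k.1.2
      (by have := k.2; omega) rfl rfl
    exact ⟨σ, hσ⟩
  obtain ⟨sΘ, hsΘ⟩ := hY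
  refine ⟨glue L M sΘ, ?_⟩
  have hs : ∀ (p q₀ : ℤ) (hk : p + q₀ = n₀),
      TensorProduct.map (LinearMap.id : Bd L p (p + 1) →ₗ[A] Bd L p (p + 1)) (M.d q₀ (q₀ + 1)).hom
        (TensorProduct.map (dbar L p (p + 1)) (LinearMap.id : M.X q₀ →ₗ[A] M.X q₀)
          ((pr L M p q₀ n₀ hk).hom (glue L M sΘ))) =
      p.negOnePow • TensorProduct.map (dbar L p (p + 1))
        (LinearMap.id : M.X (q₀ + 1) →ₗ[A] M.X (q₀ + 1))
          ((pr L M p (q₀ + 1) n (by omega)).hom t) := by
    intro p q₀ hk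
    have := congrArg (fun z => z ⟨(p, q₀), hk⟩) hsΘ
    rw [pr_glue]
    exact this
  -- Step 2: components of `t' = t - d s`
  set t' := t - ((L ⊗ M).d n₀ n).hom (glue L M sΘ) with ht'
  have hdt' : ((L ⊗ M).d n n').hom t' = 0 := by
    rw [ht', map_sub, ht, zero_sub, neg_eq_zero]
    exact congrArg (fun f => f.hom (glue L M sΘ)) ((L ⊗ M).d_comp_d n₀ n n')
  have g1 : ∀ (p p' q : ℤ) (h : p + q = n) (hp : p + 1 = p'),
      TensorProduct.map (dbar L p p') (LinearMap.id : M.X q →ₗ[A] M.X q)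
        ((pr L M p q n h).hom t') = 0 := by
    intro p p' q h hp
    subst hp
    obtain ⟨q₀, rfl⟩ : ∃ q₀, q = q₀ + 1 := ⟨q - 1, by omega⟩
    rw [ht', map_sub, map_sub,
      pr_d_apply L M n₀ n h₀ p (q₀ + 1) (p - 1) q₀ (by omega) rfl h (glue L M sΘ), map_add,
      map_map', dbar_comp_d, TensorProduct.map_zero_left, LinearMap.zero_apply, zero_add,
      map_units_smul', map_map', LinearMap.comp_id, LinearMap.id_comp]
    have := hs p q₀ (by omega)
    rw [map_map', LinearMap.comp_id, LinearMap.id_comp] at this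
    rw [this, units_smul_smul', sub_self]
  have g2 : ∀ (p q : ℤ) (h : p + q = n),
      TensorProduct.map (LinearMap.id : L.X p →ₗ[A] L.X p) (M.d q (q + 1)).hom
        ((pr L M p q n h).hom t') = 0 := by
    intro p q h
    have E := pr_d_apply L M n n' h₁ p (q + 1) (p - 1) q (by omega) rfl (by omega) t'
    rw [hdt', map_zero] at E
    have hz : TensorProduct.map (L.d (p - 1) p).hom (LinearMap.id : M.X (q + 1) →ₗ[A] M.X (q + 1))
        ((pr L M (p - 1) (q + 1) n (by omega)).hom t') = 0 := by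
      have h4 := g1 (p - 1) p (q + 1) (by omega) (by omega)
      have h5 := congrArg (TensorProduct.map ((L.iCycles p).hom ∘ₗ (Bd L (p - 1) p).subtype)
        (LinearMap.id : M.X (q + 1) →ₗ[A] M.X (q + 1))) h4
      rw [map_zero, map_map', LinearMap.comp_id, iCycles_subtype_dbar] at h5
      exact h5
    rw [hz, zero_add] at E
    exact (smul_eq_zero_iff_eq _).1 E.symm
  -- Step 3: the components of `t'` come from cycles
  let K : ∀ k : HTor.Antidiag n, (L.cycles k.1.1 ⊗[A] M.cycles k.1.2) →ₗ[A]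
      (L.X k.1.1 ⊗[A] M.X k.1.2) := fun k =>
    TensorProduct.map (L.iCycles k.1.1).hom (M.iCycles k.1.2).hom
  have hK : ((ΘIso L M n).hom.hom t' : Model L M n) ∈ LinearMap.range (DirectSum.lmap K) := by
    rw [DirectSum.range_lmap, Submodule.mem_comap, Submodule.mem_pi]
    intro k _
    obtain ⟨v, hv⟩ := lemmaB L M hL b hb hH k.1.1 (k.1.1 + 1) k.1.2 (k.1.2 + 1) rfl rfl
      ((pr L M k.1.1 k.1.2 n k.2).hom t') (g1 _ _ _ _ rfl) (g2 _ _ _)
    exact ⟨v, hv⟩
  obtain ⟨ξ, hξ⟩ := hK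
  refine ⟨ξ, fun p q h => ?_⟩
  have := congrArg (fun z => z ⟨(p, q), h⟩) hξ
  exact this.symm

theorem core_inj (n₀ n : ℤ) (h₀ : n₀ + 1 = n) (s : (L ⊗ M).X n₀)
    (ξ : ∀ ij : HTor.Antidiag n, (L.cycles ij.1.1) ⊗[A] (M.cycles ij.1.2))
    (hξ : ∀ (p q : ℤ) (h : p + q = n),
      TensorProduct.map (L.iCycles p).hom (M.iCycles q).hom (ξ ⟨(p, q), h⟩) =
        (pr L M p q n h).hom (((L ⊗ M).d n₀ n).hom s))
    (p q : ℤ) (h : p + q = n) :
    TensorProduct.map (L.homologyπ p).hom (M.homologyπ q).hom (ξ ⟨(p, q), h⟩) = 0 := by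
  obtain ⟨p₀, rfl⟩ : ∃ p₀, p = p₀ + 1 := ⟨p - 1, by omega⟩
  obtain ⟨q₀, rfl⟩ : ∃ q₀, q = q₀ + 1 := ⟨q - 1, by omega⟩
  have i1 := hξ (p₀ + 1) (q₀ + 1) h
  rw [pr_d_apply L M n₀ n h₀ (p₀ + 1) (q₀ + 1) p₀ q₀ rfl rfl h s, ← map_units_smul'] at i1
  have i2 : TensorProduct.map (LinearMap.id : Bd L p₀ (p₀ + 1) →ₗ[A] Bd L p₀ (p₀ + 1))
      (M.d (q₀ + 1) (q₀ + 1 + 1)).hom
      (TensorProduct.map (dbar L p₀ (p₀ + 1)) (LinearMap.id : M.X (q₀ + 1) →ₗ[A] M.X (q₀ + 1))
        ((pr L M p₀ (q₀ + 1) n₀ (by omega)).hom s)) = 0 := by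
    have j1 := hξ p₀ (q₀ + 1 + 1) (by omega)
    rw [pr_d_apply L M n₀ n h₀ p₀ (q₀ + 1 + 1) (p₀ - 1) (q₀ + 1) (by omega) rfl (by omega) s] at j1
    have j2 := congrArg (TensorProduct.map (dbar L p₀ (p₀ + 1))
      (LinearMap.id : M.X (q₀ + 1 + 1) →ₗ[A] M.X (q₀ + 1 + 1))) j1
    rw [map_map', dbar_comp_iCycles, TensorProduct.map_zero_left, LinearMap.zero_apply, map_add,
      map_map', dbar_comp_d, TensorProduct.map_zero_left, LinearMap.zero_apply, zero_add,
      map_units_smul', map_map', LinearMap.comp_id, LinearMap.id_comp] at j2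
    rw [map_map', LinearMap.comp_id, LinearMap.id_comp]
    exact (smul_eq_zero_iff_eq _).1 j2.symm
  exact lemmaC L M hL b hb hH p₀ (p₀ + 1) (p₀ + 1 + 1) q₀ (q₀ + 1) (q₀ + 1 + 1) rfl rfl rfl rfl
    _ _ _ i1 i2

end Assembly

end Groth.Agent.Lib.Seat15.KunnethCore
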