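import Groth.Agent.Lib.Seat15KunnethCore
set_option backward.isDefEq.respectTransparency.types false

/-!
# The Künneth map and its bijectivity for flat cohomology (helper15)

* `phi L M p q n h : H^p(L) ⊗ H^q(M) →ₗ H^n(L ⊗ M)` and `Phi L M n : HTor.KunnethSum L M n →ₗ H^n(L ⊗ M)`,
  with `isKunnethMap_Phi`.
* `bijective_Phi`: bijectivity when `L` is bounded above with flat terms and flat cohomology.
-/

set_option autoImplicit false
universe u
open CategoryTheory CategoryTheory.Limits HomologicalComplex TensorProduct MonoidalCategory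

namespace Groth.Agent.Lib.Seat15.KunnethMap

open Groth.Agent.Lib.Seat15.KunnethFlat Groth.Agent.Lib.Seat15.TensorModel
  Groth.Agent.Lib.Seat15.KunnethCore Groth.Agent.Lib.Helper1.KF

variable {A : Type u} [CommRing A] (L M : DRing.Cx A)

/-- The inclusion of a summand, as a linear map. -/
noncomputable def ιh (p q n : ℤ) (h : p + q = n) : L.X p ⊗[A] M.X q →ₗ[A] (L ⊗ M).X n :=
  (ιTensorObj L M p q n h).hom

lemma d_ιh (p q n : ℤ) (h : p + q = n) (p' q' n' : ℤ) (hp : p + 1 = p') (hq : q + 1 = q')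
    (hn : n + 1 = n') (x : L.X p ⊗[A] M.X q) :
    ((L ⊗ M).d n n').hom (ιh L M p q n h x) =
      ιh L M p' q n' (by omega)
        (TensorProduct.map (L.d p p').hom (LinearMap.id : M.X q →ₗ[A] M.X q) x) +
      p.negOnePow • ιh L M p q' n' (by omega)
        (TensorProduct.map (LinearMap.id : L.X p →ₗ[A] L.X p) (M.d q q').hom x) :=
  congrArg (fun f => f.hom x) (ι_tensor_d L M p q n h p' q' n' hp hq hn)

/-- `Ψ_{pq}`: cycles ⊗ cycles → `(L ⊗ M)^n`. -/
noncomputable def Psi (p q n : ℤ) (h : p + q = n) :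
    L.cycles p ⊗[A] M.cycles q →ₗ[A] (L ⊗ M).X n :=
  ιh L M p q n h ∘ₗ TensorProduct.map (L.iCycles p).hom (M.iCycles q).hom

lemma iCycles_d_hom (K : DRing.Cx A) (p p' : ℤ) : (K.d p p').hom ∘ₗ (K.iCycles p).hom = 0 :=
  congrArg ModuleCat.Hom.hom (K.iCycles_d p p')

lemma d_Psi (p q n n' : ℤ) (h : p + q = n) (hn : n + 1 = n') (x : L.cycles p ⊗[A] M.cycles q) :
    ((L ⊗ M).d n n').hom (Psi L M p q n h x) = 0 := by
  change ((L ⊗ M).d n n').hom (ιh L M p q n h _) = 0
  rw [d_ιh L M p q n h (p + 1) (q + 1) n' rfl rfl hn, map_map', map_map', iCycles_d_hom,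
    iCycles_d_hom, TensorProduct.map_zero_left, TensorProduct.map_zero_right]
  simp

/-- `Ψc_{pq}`: cycles ⊗ cycles → cycles of `L ⊗ M`. -/
noncomputable def PsiC (p q n : ℤ) (h : p + q = n) :
    L.cycles p ⊗[A] M.cycles q →ₗ[A] (L ⊗ M).cycles n :=
  ((L ⊗ M).liftCycles (ModuleCat.ofHom (Psi L M p q n h)) (n + 1) (by simp) (by
    apply ModuleCat.hom_ext
    apply LinearMap.ext
    intro x
    exact d_Psi L M p q n (n + 1) h rfl x)).hom

lemma iCycles_PsiC (p q n : ℤ) (h : p + q = n) (x : L.cycles p ⊗[A] M.cycles q) :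
    ((L ⊗ M).iCycles n).hom (PsiC L M p q n h x) = Psi L M p q n h x :=
  congrArg (fun f => f.hom x) ((L ⊗ M).liftCycles_i (ModuleCat.ofHom (Psi L M p q n h)) (n + 1)
    (by simp) _)

/-- a cycle whose underlying element is a boundary has zero class -/
lemma homologyπ_eq_zero_of_boundary (K : DRing.Cx A) (n₀ n : ℤ) (w : K.cycles n) (s : K.X n₀)
    (hw : (K.iCycles n).hom w = (K.d n₀ n).hom s) : (K.homologyπ n).hom w = 0 := by
  have : w = (K.toCycles n₀ n).hom s := by
    apply iCycles_injective' K n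
    rw [hw]
    exact (congrArg (fun f => f.hom s) (K.toCycles_i n₀ n)).symm
  rw [this]
  exact congrArg (fun f => f.hom s) (K.toCycles_comp_homologyπ n₀ n)

/-- `c_{pq} = homologyπ ∘ Ψc_{pq}`. -/
noncomputable def cpq (p q n : ℤ) (h : p + q = n) :
    L.cycles p ⊗[A] M.cycles q →ₗ[A] (L ⊗ M).homology n :=
  ((L ⊗ M).homologyπ n).hom ∘ₗ PsiC L M p q n h

lemma cpq_rTensor (p₀ p q n : ℤ) (hp : p₀ + 1 = p) (h : p + q = n)
    (w : L.X p₀ ⊗[A] M.cycles q) :
    cpq L M p q n h (TensorProduct.map (L.toCycles p₀ p).hom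
      (LinearMap.id : M.cycles q →ₗ[A] M.cycles q) w) = 0 := by
  apply homologyπ_eq_zero_of_boundary (L ⊗ M) (n - 1) n _
    (ιh L M p₀ q (n - 1) (by omega)
      (TensorProduct.map (LinearMap.id : L.X p₀ →ₗ[A] L.X p₀) (M.iCycles q).hom w))
  rw [iCycles_PsiC, d_ιh L M p₀ q (n - 1) (by omega) p (q + 1) n hp rfl (by omega)]
  change ιh L M p q n h _ = _
  simp only [map_map', iCycles_d_hom, TensorProduct.map_zero_right,
    LinearMap.zero_apply, map_zero, smul_zero, add_zero, LinearMap.comp_id, LinearMap.id_comp,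
    toCycles_iCycles_hom]

lemma cpq_lTensor (p q₀ q n : ℤ) (hq : q₀ + 1 = q) (h : p + q = n)
    (w : L.cycles p ⊗[A] M.X q₀) :
    cpq L M p q n h (TensorProduct.map (LinearMap.id : L.cycles p →ₗ[A] L.cycles p)
      (M.toCycles q₀ q).hom w) = 0 := by
  apply homologyπ_eq_zero_of_boundary (L ⊗ M) (n - 1) n _
    (p.negOnePow • ιh L M p q₀ (n - 1) (by omega)
      (TensorProduct.map (L.iCycles p).hom (LinearMap.id : M.X q₀ →ₗ[A] M.X q₀) w))
  rw [iCycles_PsiC, map_units_smul',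
    d_ιh L M p q₀ (n - 1) (by omega) (p + 1) q n rfl hq (by omega)]
  change ιh L M p q n h _ = _
  simp only [map_map', iCycles_d_hom, TensorProduct.map_zero_left,
    LinearMap.zero_apply, map_zero, zero_add, units_smul_smul', LinearMap.comp_id,
    LinearMap.id_comp, toCycles_iCycles_hom]

lemma ker_le_ker_cpq (p q n : ℤ) (h : p + q = n) :
    LinearMap.ker (TensorProduct.map (L.homologyπ p).hom (M.homologyπ q).hom) ≤
      LinearMap.ker (cpq L M p q n h) := by
  rw [TensorProduct.map_ker (exact_toCycles_homologyπ L (p - 1) p (by omega))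
    (homologyπ_surjective' L p) (exact_toCycles_homologyπ M (q - 1) q (by omega))
    (homologyπ_surjective' M q)]
  apply sup_le
  · rintro _ ⟨w, rfl⟩
    exact cpq_lTensor L M p (q - 1) q n (by omega) h w
  · rintro _ ⟨w, rfl⟩
    exact cpq_rTensor L M (p - 1) p q n (by omega) h w

lemma surjective_map_π (p q : ℤ) :
    Function.Surjective (TensorProduct.map (L.homologyπ p).hom (M.homologyπ q).hom) :=
  TensorProduct.map_surjective (homologyπ_surjective' L p) (homologyπ_surjective' M q)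

/-- The Künneth map on the `(p, q)` summand. -/
noncomputable def phi (p q n : ℤ) (h : p + q = n) :
    L.homology p ⊗[A] M.homology q →ₗ[A] (L ⊗ M).homology n :=
  (LinearMap.ker (TensorProduct.map (L.homologyπ p).hom (M.homologyπ q).hom)).liftQ
      (cpq L M p q n h) (ker_le_ker_cpq L M p q n h) ∘ₗ
    (LinearMap.quotKerEquivOfSurjective _ (surjective_map_π L M p q)).symm.toLinearMap

lemma phi_map_π (p q n : ℤ) (h : p + q = n) (x : L.cycles p ⊗[A] M.cycles q) :
    phi L M p q n h (TensorProduct.map (L.homologyπ p).hom (M.homologyπ q).hom x) =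
      cpq L M p q n h x := by
  have : (LinearMap.quotKerEquivOfSurjective _ (surjective_map_π L M p q)).symm
      (TensorProduct.map (L.homologyπ p).hom (M.homologyπ q).hom x) =
      Submodule.Quotient.mk x := by
    rw [LinearEquiv.symm_apply_eq]
    rfl
  rw [phi, LinearMap.comp_apply, LinearEquiv.coe_coe, this, Submodule.liftQ_apply]

/-- The Künneth map. -/
noncomputable def Phi (n : ℤ) : HTor.KunnethSum L M n →ₗ[A] (HTor.tensorCx L M).homology n :=
  DirectSum.toModule A (HTor.Antidiag n) _ (fun ij => phi L M ij.1.1 ij.1.2 n ij.2)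

theorem isKunnethMap_Phi (n : ℤ) : HTor.IsKunnethMap L M n (Phi L M n) := by
  intro ij z z' w hw
  change DirectSum.toModule A (HTor.Antidiag n) _ (fun ij => phi L M ij.1.1 ij.1.2 n ij.2)
    (DirectSum.lof A (HTor.Antidiag n) _ ij _) = _
  rw [DirectSum.toModule_lof]
  have e : (L.homologyπ ij.1.1).hom z ⊗ₜ[A] (M.homologyπ ij.1.2).hom z' =
      TensorProduct.map (L.homologyπ ij.1.1).hom (M.homologyπ ij.1.2).hom (z ⊗ₜ[A] z') := rfl
  change phi L M ij.1.1 ij.1.2 n ij.2 ((L.homologyπ ij.1.1).hom z ⊗ₜ[A] (M.homologyπ ij.1.2).hom z') = _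
  rw [e, phi_map_π]
  change ((L ⊗ M).homologyπ n).hom (PsiC L M ij.1.1 ij.1.2 n ij.2 (z ⊗ₜ[A] z')) = _
  congr 1
  apply iCycles_injective' (L ⊗ M) n
  rw [iCycles_PsiC]
  exact hw.symm

/-- `Ψ`: the sum of the `Ψ_{pq}`. -/
noncomputable def PsiTot (n : ℤ) : CycSum L M n →ₗ[A] (L ⊗ M).X n :=
  DirectSum.toModule A (HTor.Antidiag n) _ (fun ij => Psi L M ij.1.1 ij.1.2 n ij.2)

/-- `Ψc`: the sum of the `Ψc_{pq}`. -/
noncomputable def PsiCTot (n : ℤ) : CycSum L M n →ₗ[A] (L ⊗ M).cycles n :=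
  DirectSum.toModule A (HTor.Antidiag n) _ (fun ij => PsiC L M ij.1.1 ij.1.2 n ij.2)

/-- the family of maps `π ⊗ π` -/
noncomputable def piFam (n : ℤ) : ∀ ij : HTor.Antidiag n,
    (L.cycles ij.1.1 ⊗[A] M.cycles ij.1.2) →ₗ[A] (L.homology ij.1.1 ⊗[A] M.homology ij.1.2) :=
  fun ij => TensorProduct.map (L.homologyπ ij.1.1).hom (M.homologyπ ij.1.2).hom

lemma iCycles_PsiCTot (n : ℤ) (ξ : CycSum L M n) :
    ((L ⊗ M).iCycles n).hom (PsiCTot L M n ξ) = PsiTot L M n ξ := by
  have : ((L ⊗ M).iCycles n).hom ∘ₗ PsiCTot L M n = PsiTot L M n := by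
    apply DirectSum.linearMap_ext
    intro ij
    apply LinearMap.ext
    intro x
    simp only [LinearMap.comp_apply, PsiCTot, PsiTot, DirectSum.toModule_lof]
    exact iCycles_PsiC L M ij.1.1 ij.1.2 n ij.2 x
  exact LinearMap.congr_fun this ξ

lemma Phi_lmap (n : ℤ) (ξ : CycSum L M n) :
    Phi L M n (DirectSum.lmap (piFam L M n) ξ) = ((L ⊗ M).homologyπ n).hom (PsiCTot L M n ξ) := by
  have : Phi L M n ∘ₗ DirectSum.lmap (piFam L M n) =
      ((L ⊗ M).homologyπ n).hom ∘ₗ PsiCTot L M n := by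
    apply DirectSum.linearMap_ext
    intro ij
    apply LinearMap.ext
    intro x
    simp only [LinearMap.comp_apply, PsiCTot, DirectSum.toModule_lof, DirectSum.lmap_lof]
    change DirectSum.toModule A (HTor.Antidiag n) _ (fun ij => phi L M ij.1.1 ij.1.2 n ij.2)
      (DirectSum.lof A (HTor.Antidiag n) _ ij _) = _
    rw [DirectSum.toModule_lof]
    exact phi_map_π L M ij.1.1 ij.1.2 n ij.2 x
  exact LinearMap.congr_fun this ξ

lemma pr_PsiTot (n : ℤ) (ξ : CycSum L M n) (p q : ℤ) (h : p + q = n) :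
    (pr L M p q n h).hom (PsiTot L M n ξ) =
      TensorProduct.map (L.iCycles p).hom (M.iCycles q).hom (ξ ⟨(p, q), h⟩) := by
  have : (ΘIso L M n).hom.hom ∘ₗ PsiTot L M n =
      DirectSum.lmap (fun ij : HTor.Antidiag n =>
        TensorProduct.map (L.iCycles ij.1.1).hom (M.iCycles ij.1.2).hom) := by
    apply DirectSum.linearMap_ext
    intro ij
    apply LinearMap.ext
    intro x
    simp only [LinearMap.comp_apply, PsiTot, DirectSum.toModule_lof, DirectSum.lmap_lof]
    exact congrArg (fun f => f.hom (TensorProduct.map (L.iCycles ij.1.1).hom (M.iCycles ij.1.2).hom x))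
      (ι_ΘIso_hom L M ij.1.1 ij.1.2 n ij.2)
  have h2 := LinearMap.congr_fun this ξ
  have h3 := congrArg (fun z => z ⟨(p, q), h⟩) h2
  exact h3

lemma surjective_lmap_piFam (n : ℤ) : Function.Surjective (DirectSum.lmap (piFam L M n)) := by
  rw [DirectSum.lmap_surjective]
  intro ij
  exact surjective_map_π L M ij.1.1 ij.1.2

section Bijective

variable (hL : DRing.TermwiseFlat L) (b : ℤ) (hb : DRing.VanishesAbove L b)
  (hH : ∀ i : ℤ, Module.Flat A (L.homology i))
include hL hb hH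

theorem surjective_Phi (n : ℤ) : Function.Surjective (Phi L M n) := by
  intro y
  obtain ⟨w, rfl⟩ := homologyπ_surjective' (L ⊗ M) n y
  have ht : ((L ⊗ M).d n (n + 1)).hom (((L ⊗ M).iCycles n).hom w) = 0 :=
    d_iCycles' (L ⊗ M) n (n + 1) w
  obtain ⟨s, ξ, hsξ⟩ := core_surj L M hL b hb hH (n - 1) n (n + 1) (by omega) rfl _ ht
  refine ⟨DirectSum.lmap (piFam L M n) ξ, ?_⟩
  rw [Phi_lmap]
  have e : ((L ⊗ M).iCycles n).hom w - ((L ⊗ M).d (n - 1) n).hom s = PsiTot L M n ξ := by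
    apply ext_pr
    intro p q h
    rw [hsξ p q h, pr_PsiTot]
  have hz : ((L ⊗ M).homologyπ n).hom (w - PsiCTot L M n ξ) = 0 := by
    apply homologyπ_eq_zero_of_boundary (L ⊗ M) (n - 1) n _ s
    rw [map_sub, iCycles_PsiCTot, ← e]
    abel
  rw [map_sub, sub_eq_zero] at hz
  exact hz.symm

theorem injective_Phi (n : ℤ) : Function.Injective (Phi L M n) := by
  rw [injective_iff_map_eq_zero]
  intro x hx
  obtain ⟨ξ, rfl⟩ := surjective_lmap_piFam L M n x
  rw [Phi_lmap] at hx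
  obtain ⟨s, hs⟩ : ∃ s : (L ⊗ M).X (n - 1), ((L ⊗ M).toCycles (n - 1) n).hom s = PsiCTot L M n ξ :=
    ((exact_toCycles_homologyπ (L ⊗ M) (n - 1) n (by omega)) _).1 hx
  have hs' : ((L ⊗ M).d (n - 1) n).hom s = PsiTot L M n ξ := by
    rw [← iCycles_PsiCTot, ← hs]
    exact (congrArg (fun f => f.hom s) ((L ⊗ M).toCycles_i (n - 1) n)).symm
  apply DirectSum.ext_component A
  rintro ⟨⟨p, q⟩, h⟩
  rw [map_zero]
  change piFam L M n ⟨(p, q), h⟩ (ξ ⟨(p, q), h⟩) = 0
  exact core_inj L M hL b hb hH (n - 1) n (by omega) s (fun ij => ξ ij)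
    (fun p q h => by rw [hs', pr_PsiTot]) p q h

theorem bijective_Phi (n : ℤ) : Function.Bijective (Phi L M n) :=
  ⟨injective_Phi L M hL b hb hH n, surjective_Phi L M hL b hb hH n⟩

end Bijective

end Groth.Agent.Lib.Seat15.KunnethMap
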