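import Groth.Agent.Lib.Seat15KunnethMap
set_option backward.isDefEq.respectTransparency.types false

/-!
# Naturality of the Künneth map in the first variable (seat 15)
-/

set_option autoImplicit false
universe u
open CategoryTheory CategoryTheory.Limits HomologicalComplex TensorProduct MonoidalCategory

namespace Groth.Agent.Lib.Seat15.KunnethNat

open Groth.Agent.Lib.Seat15.KunnethFlat Groth.Agent.Lib.Seat15.TensorModel
  Groth.Agent.Lib.Seat15.KunnethCore Groth.Agent.Lib.Seat15.KunnethMap Groth.Agent.Lib.Helper1.KF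

variable {A : Type u} [CommRing A] {L L' : DRing.Cx A} (g : L ⟶ L') (M : DRing.Cx A)

/-- the map induced by `g : L ⟶ L'` on Künneth sums -/
noncomputable def sumMap (n : ℤ) : HTor.KunnethSum L M n →ₗ[A] HTor.KunnethSum L' M n :=
  DirectSum.lmap (fun ij : HTor.Antidiag n =>
    LinearMap.rTensor (M.homology ij.1.2) (homologyMap g ij.1.1).hom)

lemma sumMap_lof (n : ℤ) (ij : HTor.Antidiag n) (x : L.homology ij.1.1 ⊗[A] M.homology ij.1.2) :
    sumMap g M n (DirectSum.lof A (HTor.Antidiag n) _ ij x) =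
      DirectSum.lof A (HTor.Antidiag n) _ ij
        (LinearMap.rTensor (M.homology ij.1.2) (homologyMap g ij.1.1).hom x) := by
  simp [sumMap, DirectSum.lmap_lof]

lemma whiskerRight_ιh (p q n : ℤ) (h : p + q = n) (x : L.X p ⊗[A] M.X q) :
    ((g ▷ M).f n).hom (ιh L M p q n h x) =
      ιh L' M p q n h (LinearMap.rTensor (M.X q) (g.f p).hom x) :=
  congrArg (fun t => t.hom x) (ι_whiskerRight g M p q n h)

lemma cyclesMap_PsiC (p q n : ℤ) (h : p + q = n) (x : L.cycles p ⊗[A] M.cycles q) :
    (cyclesMap (g ▷ M) n).hom (PsiC L M p q n h x) =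
      PsiC L' M p q n h (LinearMap.rTensor (M.cycles q) (cyclesMap g p).hom x) := by
  apply iCycles_injective' (L' ⊗ M) n
  rw [iCycles_cyclesMap, iCycles_PsiC, iCycles_PsiC]
  change ((g ▷ M).f n).hom (ιh L M p q n h _) = ιh L' M p q n h _
  rw [whiskerRight_ιh]
  congr 1
  induction x using TensorProduct.induction_on with
  | zero => simp
  | tmul z z' =>
    simp only [TensorProduct.map_tmul, LinearMap.rTensor_tmul]
    rw [iCycles_cyclesMap]
  | add x y hx hy => simp only [map_add, hx, hy]

theorem Phi_natural (n : ℤ) :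
    (homologyMap (g ▷ M) n).hom ∘ₗ Phi L M n = Phi L' M n ∘ₗ sumMap g M n := by
  apply DirectSum.linearMap_ext
  intro ij
  apply LinearMap.ext
  intro x
  obtain ⟨y, rfl⟩ := surjective_map_π L M ij.1.1 ij.1.2 x
  simp only [LinearMap.comp_apply]
  rw [sumMap_lof]
  change (homologyMap (g ▷ M) n).hom (DirectSum.toModule A (HTor.Antidiag n) _
      (fun ij => phi L M ij.1.1 ij.1.2 n ij.2) (DirectSum.lof A (HTor.Antidiag n) _ ij _)) =
    DirectSum.toModule A (HTor.Antidiag n) _
      (fun ij => phi L' M ij.1.1 ij.1.2 n ij.2) (DirectSum.lof A (HTor.Antidiag n) _ ij _)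
  rw [DirectSum.toModule_lof, DirectSum.toModule_lof, phi_map_π]
  have e : LinearMap.rTensor (M.homology ij.1.2) (homologyMap g ij.1.1).hom
      (TensorProduct.map (L.homologyπ ij.1.1).hom (M.homologyπ ij.1.2).hom y) =
      TensorProduct.map (L'.homologyπ ij.1.1).hom (M.homologyπ ij.1.2).hom
        (LinearMap.rTensor (M.cycles ij.1.2) (cyclesMap g ij.1.1).hom y) := by
    induction y using TensorProduct.induction_on with
    | zero => simp
    | tmul z z' =>
      simp only [TensorProduct.map_tmul, LinearMap.rTensor_tmul]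
      rw [homologyMap_homologyπ]
    | add x y hx hy => simp only [map_add, hx, hy]
  rw [e, phi_map_π]
  change (homologyMap (g ▷ M) n).hom (((L ⊗ M).homologyπ n).hom (PsiC L M ij.1.1 ij.1.2 n ij.2 y)) =
    ((L' ⊗ M).homologyπ n).hom (PsiC L' M ij.1.1 ij.1.2 n ij.2 _)
  rw [homologyMap_homologyπ, cyclesMap_PsiC]

end Groth.Agent.Lib.Seat15.KunnethNat
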