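import Groth.Prelude.Def_HTor

/-!
# Subquotients and filtrations pulled back along a linear map (seat 15)

* `IsSQ R N T`: `N` is a quotient of a module which embeds into `T` (a flexible form of
  `HTor.IsSubquotient`), with transfer lemmas.
* `pullF δ F'`: the filtration `ker δ ≤ δ⁻¹(F' 0) ≤ δ⁻¹(F' 1) ≤ …` and its graded pieces.
-/

set_option autoImplicit false
universe u v

namespace Groth.Agent.Lib.Seat15.SubQ

variable (R : Type v) [CommRing R]

/-- `N` is a quotient of a module which embeds into `T`. -/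
def IsSQ (N T : Type u) [AddCommGroup N] [Module R N] [AddCommGroup T] [Module R T] : Prop :=
  ∃ (S : Type u) (_ : AddCommGroup S) (_ : Module R S) (i : S →ₗ[R] T) (g : S →ₗ[R] N),
    Function.Injective i ∧ Function.Surjective g

variable {R}
variable {N N' T T' H H' : Type u} [AddCommGroup N] [Module R N] [AddCommGroup N'] [Module R N']
  [AddCommGroup T] [Module R T] [AddCommGroup T'] [Module R T']
  [AddCommGroup H] [Module R H] [AddCommGroup H'] [Module R H']

lemma IsSQ.of_surjective (t : T →ₗ[R] N) (ht : Function.Surjective t) : IsSQ R N T :=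
  ⟨T, inferInstance, inferInstance, LinearMap.id, t, Function.injective_id, ht⟩

lemma IsSQ.of_subsingleton [Subsingleton N] : IsSQ R N T :=
  IsSQ.of_surjective 0 (fun _ => ⟨0, Subsingleton.elim _ _⟩)

lemma IsSQ.of_injective (j : N' →ₗ[R] N) (hj : Function.Injective j) (h : IsSQ R N T) :
    IsSQ R N' T := by
  obtain ⟨S, _, _, i, g, hi, hg⟩ := h
  let S₁ : Submodule R S := Submodule.comap g (LinearMap.range j)
  let e := LinearEquiv.ofInjective j hj
  let g₀ : S₁ →ₗ[R] LinearMap.range j :=
    (g.comp S₁.subtype).codRestrict (LinearMap.range j) (fun x => x.2)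
  refine ⟨S₁, inferInstance, inferInstance, i.comp S₁.subtype, e.symm.toLinearMap.comp g₀,
    hi.comp S₁.subtype_injective, ?_⟩
  intro n'
  obtain ⟨s, hs⟩ := hg (j n')
  have hs₁ : s ∈ S₁ := by
    show g s ∈ LinearMap.range j
    rw [hs]
    exact ⟨n', rfl⟩
  refine ⟨⟨s, hs₁⟩, ?_⟩
  show e.symm (g₀ ⟨s, hs₁⟩) = n'
  rw [LinearEquiv.symm_apply_eq]
  apply Subtype.ext
  show g s = j n'
  exact hs

lemma IsSQ.of_surjective_target (q : T' →ₗ[R] T) (hq : Function.Surjective q) (h : IsSQ R N T) :
    IsSQ R N T' := by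
  obtain ⟨S, _, _, i, g, hi, hg⟩ := h
  let S₂ : Submodule R T' := Submodule.comap q (LinearMap.range i)
  let e := LinearEquiv.ofInjective i hi
  let q₀ : S₂ →ₗ[R] LinearMap.range i :=
    (q.comp S₂.subtype).codRestrict (LinearMap.range i) (fun x => x.2)
  refine ⟨S₂, inferInstance, inferInstance, S₂.subtype, g.comp (e.symm.toLinearMap.comp q₀),
    S₂.subtype_injective, ?_⟩
  intro n
  obtain ⟨s, rfl⟩ := hg n
  obtain ⟨t', ht'⟩ := hq (i s)
  have ht'₂ : t' ∈ S₂ := by
    show q t' ∈ LinearMap.range i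
    rw [ht']
    exact ⟨s, rfl⟩
  refine ⟨⟨t', ht'₂⟩, ?_⟩
  show g (e.symm (q₀ ⟨t', ht'₂⟩)) = g s
  congr 1
  rw [LinearEquiv.symm_apply_eq]
  apply Subtype.ext
  show q t' = i s
  exact ht'

/-- `N` embeds into `H` with the same image as a map from `T`. -/
lemma IsSQ.of_range_eq (j : N →ₗ[R] H) (t : T →ₗ[R] H) (hj : Function.Injective j)
    (h : LinearMap.range j = LinearMap.range t) : IsSQ R N T := by
  have h1 : IsSQ R (LinearMap.range t) T := IsSQ.of_surjective t.rangeRestrict t.surjective_rangeRestrict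
  let j' : N →ₗ[R] LinearMap.range t := j.codRestrict _ (fun n => h ▸ LinearMap.mem_range_self j n)
  refine IsSQ.of_injective j' ?_ h1
  intro x y hxy
  apply hj
  exact congrArg Subtype.val hxy

lemma IsSQ.isSubquotient (h : IsSQ R N T) : HTor.IsSubquotient R N T := by
  obtain ⟨S, _, _, i, g, hi, hg⟩ := h
  let S' : Submodule R T := LinearMap.range i
  let S₀ : Submodule R T := Submodule.map i (LinearMap.ker g)
  have hle : S₀ ≤ S' := by
    rintro _ ⟨x, -, rfl⟩
    exact ⟨x, rfl⟩
  let e := LinearEquiv.ofInjective i hi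
  have hmap : Submodule.map e.toLinearMap (LinearMap.ker g) = Submodule.comap S'.subtype S₀ := by
    ext ⟨y, hy⟩
    constructor
    · rintro ⟨x, hx, hxy⟩
      exact ⟨x, hx, congrArg Subtype.val hxy⟩
    · rintro ⟨x, hx, hxy⟩
      exact ⟨x, hx, Subtype.ext hxy⟩
  refine ⟨S₀, S', hle, ⟨?_⟩⟩
  exact (LinearMap.quotKerEquivOfSurjective g hg).symm ≪≫ₗ
    Submodule.Quotient.equiv (LinearMap.ker g) (Submodule.comap S'.subtype S₀) e hmap

lemma IsSQ.of_isSubquotient (h : HTor.IsSubquotient R N T) : IsSQ R N T := by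
  obtain ⟨S₀, S', -, ⟨e⟩⟩ := h
  refine ⟨S', inferInstance, inferInstance, S'.subtype,
    e.symm.toLinearMap.comp (Submodule.mkQ _), S'.subtype_injective, ?_⟩
  exact e.symm.surjective.comp (Submodule.mkQ_surjective _)

section Pull

variable (δ : H →ₗ[R] H') (F' : ℕ → Submodule R H')

/-- the filtration `ker δ ≤ δ⁻¹(F' 0) ≤ δ⁻¹(F' 1) ≤ …` -/
def pullF : ℕ → Submodule R H
  | 0 => LinearMap.ker δ
  | (p + 1) => Submodule.comap δ (F' p)

@[simp] lemma pullF_zero : pullF δ F' 0 = LinearMap.ker δ := rfl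

@[simp] lemma pullF_succ (p : ℕ) : pullF δ F' (p + 1) = Submodule.comap δ (F' p) := rfl

lemma pullF_mono (hF' : Monotone F') : Monotone (pullF δ F') := by
  apply monotone_nat_of_le_succ
  intro p
  cases p with
  | zero =>
    intro x hx
    have hx0 : δ x = 0 := hx
    show δ x ∈ F' 0
    rw [hx0]
    exact zero_mem _
  | succ p => exact Submodule.comap_mono (hF' (Nat.le_succ p))

lemma pullF_top (N' : ℕ) (h : F' N' = ⊤) : pullF δ F' (N' + 1) = ⊤ := by
  rw [pullF_succ, h, Submodule.comap_top]

/-- general form of `exists_grSucc_pullF_succ` -/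
lemma exists_gr_injective (F₁' F₂' : Submodule R H') :
    ∃ j : (↥(Submodule.comap δ F₂') ⧸
        Submodule.comap (Submodule.comap δ F₂').subtype (Submodule.comap δ F₁')) →ₗ[R]
        (↥F₂' ⧸ Submodule.comap F₂'.subtype F₁'), Function.Injective j := by
  let δr : ↥(Submodule.comap δ F₂') →ₗ[R] ↥F₂' :=
    δ.restrict (p := Submodule.comap δ F₂') (q := F₂') (fun x hx => hx)
  have hle : Submodule.comap (Submodule.comap δ F₂').subtype (Submodule.comap δ F₁') ≤
      Submodule.comap δr (Submodule.comap F₂'.subtype F₁') := fun x hx => hx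
  refine ⟨Submodule.mapQ _ _ δr hle, ?_⟩
  rw [← LinearMap.ker_eq_bot, LinearMap.ker_eq_bot']
  intro x hx
  induction x using Submodule.Quotient.induction_on with
  | H x =>
    rw [Submodule.mapQ_apply, Submodule.Quotient.mk_eq_zero] at hx
    rw [Submodule.Quotient.mk_eq_zero]
    exact hx

/-- the higher graded pieces of the pulled back filtration embed into those of `F'` -/
lemma exists_grSucc_pullF_succ (p : ℕ) :
    ∃ j : HTor.grSucc (pullF δ F') (p + 1) →ₗ[R] HTor.grSucc F' p, Function.Injective j :=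
  exists_gr_injective δ (F' p) (F' (p + 1))

/-- general form of `exists_grSucc_pullF_zero` -/
lemma exists_gr_zero (F₀' : Submodule R H') :
    ∃ j : (↥(Submodule.comap δ F₀') ⧸
        Submodule.comap (Submodule.comap δ F₀').subtype (LinearMap.ker δ)) →ₗ[R] H',
      Function.Injective j ∧ LinearMap.range j = F₀' ⊓ LinearMap.range δ := by
  let δs : ↥(Submodule.comap δ F₀') →ₗ[R] H' := δ.comp (Submodule.comap δ F₀').subtype
  have hle : Submodule.comap (Submodule.comap δ F₀').subtype (LinearMap.ker δ) ≤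
      LinearMap.ker δs := fun x hx => hx
  refine ⟨Submodule.liftQ _ δs hle, ?_, ?_⟩
  · rw [← LinearMap.ker_eq_bot, LinearMap.ker_eq_bot']
    intro x hx
    induction x using Submodule.Quotient.induction_on with
    | H x =>
      rw [Submodule.liftQ_apply] at hx
      rw [Submodule.Quotient.mk_eq_zero]
      exact hx
  · rw [Submodule.range_liftQ, LinearMap.range_comp, Submodule.range_subtype,
      Submodule.map_comap_eq, inf_comm]

/-- the bottom graded piece of the pulled back filtration -/
lemma exists_grSucc_pullF_zero :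
    ∃ j : HTor.grSucc (pullF δ F') 0 →ₗ[R] H', Function.Injective j ∧
      LinearMap.range j = F' 0 ⊓ LinearMap.range δ :=
  exists_gr_zero δ (F' 0)

end Pull

end Groth.Agent.Lib.Seat15.SubQ
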