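import Groth.Prelude.Def_HTor
import Groth.Agent.Lib.Helper13Tor
import Groth.Agent.Lib.Helper13TorNat

/-!
# Dimension shifting for `Tor` in the first variable, and reindexed direct sums (seat 15)

* `exists_shift`: for a short exact sequence `0 → X₁ → X₂ → X₃ → 0` with `X₂` flat and `p ≥ 1`
  there is a surjection `Tor_{p+1}(X₃, Y) → Tor_p(X₁, Y)`.
* `exists_sigma`: a map `Tor_1(X₃, Y) → X₁ ⊗ Y` whose range is the kernel of `X₁ ⊗ Y → X₂ ⊗ Y`.
* `reindexSum`: the map of direct sums over two equivalent index types induced by a family of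
  linear maps, with its evaluation, surjectivity and range.
-/

set_option autoImplicit false
universe u
open CategoryTheory CategoryTheory.Limits MonoidalCategory

namespace Groth.Agent.Lib.Seat15.TorShift

open Groth.Agent.Helper13Tor

section Shift

variable {A : Type u} [CommRing A] (S : ShortComplex (ModuleCat.{u} A)) (hS : S.ShortExact)
  [Module.Flat A S.X₂] (Y : ModuleCat.{u} A)

include hS in
theorem exists_shift (p : ℕ) (hp : 0 < p) :
    ∃ δ : ((Tor (ModuleCat.{u} A) (p + 1)).obj S.X₃).obj Y ⟶ ((Tor (ModuleCat.{u} A) p).obj S.X₁).obj Y,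
      Function.Surjective δ.hom := by
  obtain ⟨δ, -, w₂, -, h₂⟩ := exists_δ S hS Y p
  refine ⟨δ, ?_⟩
  have hz : IsZero (((Tor (ModuleCat.{u} A) p).obj S.X₂).obj Y) := isZero_tor_of_flat Y S.X₂ p hp
  have : Epi δ := h₂.epi_f (hz.eq_of_tgt _ _)
  exact (ModuleCat.epi_iff_surjective δ).1 this

omit [Module.Flat A S.X₂] in
include hS in
theorem exists_sigma :
    ∃ σ : ((Tor (ModuleCat.{u} A) 1).obj S.X₃).obj Y ⟶ S.X₁ ⊗ Y,
      LinearMap.range σ.hom = LinearMap.ker (LinearMap.rTensor Y S.f.hom) := by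
  obtain ⟨δ, -, w₂, -, h₂⟩ := exists_δ S hS Y 0
  let e₁ : ((Tor (ModuleCat.{u} A) 0).obj S.X₁).obj Y ≅ S.X₁ ⊗ Y := (torZeroIso.app S.X₁).app Y
  let e₂ : ((Tor (ModuleCat.{u} A) 0).obj S.X₂).obj Y ≅ S.X₂ ⊗ Y := (torZeroIso.app S.X₂).app Y
  have hnat : ((Tor (ModuleCat.{u} A) 0).map S.f).app Y ≫ e₂.hom = e₁.hom ≫ (S.f ▷ Y) := by
    have := congrArg (fun t => t.app Y) (torZeroIso.hom.naturality S.f)
    exact this
  have hrk : LinearMap.range δ.hom =
      LinearMap.ker (((Tor (ModuleCat.{u} A) 0).map S.f).app Y).hom := h₂.moduleCat_range_eq_ker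
  refine ⟨δ ≫ e₁.hom, ?_⟩
  ext y
  constructor
  · rintro ⟨x, rfl⟩
    have hx : (((Tor (ModuleCat.{u} A) 0).map S.f).app Y).hom (δ.hom x) = 0 := by
      have : δ.hom x ∈ LinearMap.range δ.hom := ⟨x, rfl⟩
      rw [hrk] at this
      exact this
    have h1 := congrArg (fun t => t.hom (δ.hom x)) hnat
    simp only [ModuleCat.hom_comp, LinearMap.comp_apply] at h1
    rw [hx, map_zero] at h1
    exact h1.symm
  · intro hy
    have hy0 : (S.f ▷ Y).hom y = 0 := hy
    have h1 := congrArg (fun t => t.hom (e₁.inv.hom y)) hnat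
    simp only [ModuleCat.hom_comp, LinearMap.comp_apply] at h1
    have h3 : e₁.hom.hom (e₁.inv.hom y) = y := by
      exact congrArg (fun t => t.hom y) e₁.inv_hom_id
    rw [h3, hy0] at h1
    have h4 : (((Tor (ModuleCat.{u} A) 0).map S.f).app Y).hom (e₁.inv.hom y) = 0 := by
      have hinj : Function.Injective e₂.hom.hom :=
        (ModuleCat.mono_iff_injective e₂.hom).1 inferInstance
      apply hinj
      rw [h1, map_zero]
    have h5 : e₁.inv.hom y ∈ LinearMap.range δ.hom := by
      rw [hrk]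
      exact h4
    obtain ⟨x, hx⟩ := h5
    refine ⟨x, ?_⟩
    simp only [ModuleCat.hom_comp, LinearMap.comp_apply]
    rw [hx, h3]

end Shift

section Reindex

open DirectSum

variable {R : Type*} [CommRing R] {I₁ I₂ : Type*} [DecidableEq I₁] [DecidableEq I₂] (e : I₁ ≃ I₂)
  {T₁ : I₁ → Type*} {T₂ : I₂ → Type*} [∀ i, AddCommGroup (T₁ i)] [∀ i, Module R (T₁ i)]
  [∀ k, AddCommGroup (T₂ k)] [∀ k, Module R (T₂ k)] (s : ∀ i, T₁ i →ₗ[R] T₂ (e i))

/-- the map of direct sums induced by a family of maps, along an equivalence of index types -/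
noncomputable def reindexSum : (⨁ i, T₁ i) →ₗ[R] ⨁ k, T₂ k :=
  DirectSum.toModule R I₁ _ (fun i => DirectSum.lof R I₂ T₂ (e i) ∘ₗ s i)

lemma reindexSum_lof (i : I₁) (t : T₁ i) :
    reindexSum e s (DirectSum.lof R I₁ T₁ i t) = DirectSum.lof R I₂ T₂ (e i) (s i t) := by
  simp [reindexSum]

lemma reindexSum_apply (x : ⨁ i, T₁ i) (i : I₁) : reindexSum e s x (e i) = s i (x i) := by
  induction x using DirectSum.induction_on with
  | zero => simp
  | of i₀ t =>
    have h1 : reindexSum e s (DirectSum.of T₁ i₀ t) = DirectSum.of T₂ (e i₀) (s i₀ t) :=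
      reindexSum_lof e s i₀ t
    rw [h1]
    by_cases h : i₀ = i
    · subst h
      rw [DirectSum.of_eq_same, DirectSum.of_eq_same]
    · rw [DirectSum.of_eq_of_ne _ _ _ (Ne.symm h),
        DirectSum.of_eq_of_ne _ _ _ (fun h' => h (e.injective h').symm), map_zero]
  | add x y hx hy => rw [map_add, DirectSum.add_apply, DirectSum.add_apply, hx, hy, map_add]

lemma reindexSum_surjective (hs : ∀ i, Function.Surjective (s i)) :
    Function.Surjective (reindexSum e s) := by
  intro y
  induction y using DirectSum.induction_on with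
  | zero => exact ⟨0, map_zero _⟩
  | of k t =>
    obtain ⟨i, rfl⟩ := e.surjective k
    obtain ⟨t', rfl⟩ := hs i t
    exact ⟨DirectSum.lof R I₁ T₁ i t', reindexSum_lof e s i t'⟩
  | add x y hx hy =>
    obtain ⟨x', rfl⟩ := hx
    obtain ⟨y', rfl⟩ := hy
    exact ⟨x' + y', map_add _ _ _⟩

lemma mem_range_reindexSum (y : ⨁ k, T₂ k) :
    y ∈ LinearMap.range (reindexSum e s) ↔ ∀ i, y (e i) ∈ LinearMap.range (s i) := by
  constructor
  · rintro ⟨x, rfl⟩ i
    exact ⟨x i, (reindexSum_apply e s x i).symm⟩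
  · intro h
    let y' : ⨁ i, T₂ (e i) := DFinsupp.comapDomain' e e.left_inv y
    have hy' : y' ∈ LinearMap.range (DirectSum.lmap s) := by
      rw [DirectSum.range_lmap, Submodule.mem_comap, Submodule.mem_pi]
      intro i _
      exact h i
    obtain ⟨x, hx⟩ := hy'
    refine ⟨x, ?_⟩
    apply DFinsupp.ext
    intro k
    obtain ⟨i, rfl⟩ := e.surjective k
    rw [reindexSum_apply]
    have := congrArg (fun t => t i) hx
    simpa [y'] using this

end Reindex

end Groth.Agent.Lib.Seat15.TorShift
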