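import Groth.Agent.Lib.Seat15FreeCover
import Groth.Agent.Lib.Seat15SubQ
import Groth.Agent.Lib.Seat15KunnethNat
import Groth.Agent.Lib.Seat15TorShift
import Groth.Agent.Lib.Helper1KF3
set_option backward.isDefEq.respectTransparency.types false

/-!
# The filtration of the Künneth spectral sequence, by dévissage (seat 15)

For `L` termwise flat and `L`, `M` bounded above, `H^n(L ⊗ M)` carries a finite filtration whose
bottom step is the image of the Künneth map and whose graded pieces are subquotients of the sums of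
`Tor_{p+1}(H^i L, H^j M)`. The proof is by induction, replacing `L` by the kernel of a free cover
with free cohomology (`Seat15FreeCover`), without spectral sequences.
-/

set_option autoImplicit false
universe u
open CategoryTheory CategoryTheory.Limits HomologicalComplex TensorProduct MonoidalCategory

namespace Groth.Agent.Lib.Seat15.KunnethSS

open Groth.Agent.Lib.Seat15.KunnethFlat Groth.Agent.Lib.Seat15.TensorModel
  Groth.Agent.Lib.Seat15.KunnethCore Groth.Agent.Lib.Seat15.KunnethMap Groth.Agent.Lib.Helper1.KF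
  Groth.Agent.Lib.Seat15.KunnethNat Groth.Agent.Lib.Seat15.SubQ Groth.Agent.Lib.Seat15.TorShift
  Groth.Agent.Lib.Seat15

variable {A : Type u} [CommRing A]

/-- the conclusion of the filtration theorem -/
def Concl (L M : DRing.Cx A) (n : ℤ) : Prop :=
  ∃ (N : ℕ) (F : ℕ → Submodule A ((HTor.tensorCx L M).homology n)),
    F 0 = LinearMap.range (Phi L M n) ∧ Monotone F ∧ F N = ⊤ ∧
      ∀ p : ℕ, IsSQ A (HTor.grSucc F p) (HTor.TorSum L M n (p + 1))

section Base

variable (L M : DRing.Cx A)

lemma subsingleton_tensor_X (bL bM : ℤ) (hbL : DRing.VanishesAbove L bL)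
    (hbM : DRing.VanishesAbove M bM) (n : ℤ) (hn : bL + bM < n) :
    Subsingleton ((L ⊗ M).X n) := by
  refine ⟨fun t t' => ?_⟩
  apply ext_pr
  intro p q h
  have : Subsingleton (L.X p ⊗[A] M.X q) := by
    by_cases hp : bL < p
    · have := ModuleCat.subsingleton_of_isZero (hbL p hp)
      infer_instance
    · have hq : bM < q := by omega
      have := ModuleCat.subsingleton_of_isZero (hbM q hq)
      infer_instance
  exact Subsingleton.elim (α := L.X p ⊗[A] M.X q) _ _

lemma subsingleton_homology_of_X (K : DRing.Cx A) (n : ℤ) (h : Subsingleton (K.X n)) :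
    Subsingleton (K.homology n) := by
  have h1 : Subsingleton (K.cycles n) := (iCycles_injective' K n).subsingleton
  exact (homologyπ_surjective' K n).subsingleton

lemma concl_base (bL bM : ℤ) (hbL : DRing.VanishesAbove L bL)
    (hbM : DRing.VanishesAbove M bM) (n : ℤ) (hn : bL + bM < n) : Concl L M n := by
  have hsub : Subsingleton ((HTor.tensorCx L M).homology n) :=
    subsingleton_homology_of_X (L ⊗ M) n (subsingleton_tensor_X L M bL bM hbL hbM n hn)
  refine ⟨0, fun _ => ⊤, Subsingleton.elim _ _, monotone_const, rfl, fun p => ?_⟩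
  have : Subsingleton (HTor.grSucc (fun _ : ℕ => (⊤ : Submodule A ((HTor.tensorCx L M).homology n))) p) :=
    (Submodule.mkQ_surjective _).subsingleton
  exact IsSQ.of_subsingleton

end Base

section Step

variable (L M : DRing.Cx A)

/-- the short exact sequence `0 → H^i(K) → H^i(P) → H^i(L) → 0` -/
noncomputable def Sh (i : ℤ) : ShortComplex (ModuleCat.{u} A) :=
  ShortComplex.mk (homologyMap (FreeCover.ses L).f i) (homologyMap (FreeCover.ses L).g i)
    (by rw [← homologyMap_comp, (FreeCover.ses L).zero, homologyMap_zero])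

lemma Sh_shortExact (i : ℤ) : (Sh L i).ShortExact := by
  have hS := FreeCover.ses_shortExact L
  have hepi : ∀ j, Epi (homologyMap (FreeCover.ses L).g j) := fun j =>
    (ModuleCat.epi_iff_surjective _).2 (FreeCover.homologyMap_π_surjective L j)
  have hij : (ComplexShape.up ℤ).Rel (i - 1) i := by simp
  have hδ : hS.δ (i - 1) i hij = 0 := by
    have := hepi (i - 1)
    rw [← cancel_epi (homologyMap (FreeCover.ses L).g (i - 1)), hS.comp_δ, comp_zero]
  exact
    { exact := hS.homology_exact₂ i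
      mono_f := (hS.homology_exact₁ (i - 1) i hij).mono_g hδ
      epi_g := hepi i }

instance flat_Sh_X₂ (i : ℤ) : Module.Flat A (Sh L i).X₂ := FreeCover.flat_homology_P L i

variable (hL : DRing.TermwiseFlat L)

include hL in
lemma tensor_shortExact : ((FreeCover.ses L).map (tensorRight M)).ShortExact :=
  tensorRight_shortExact_of_termwiseFlat M (FreeCover.ses L) (FreeCover.ses_shortExact L) hL

end Step

section Sums

lemma mem_ker_lmap {ι : Type*} {T₁ T₂ : ι → Type*} [∀ i, AddCommGroup (T₁ i)]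
    [∀ i, Module A (T₁ i)] [∀ i, AddCommGroup (T₂ i)] [∀ i, Module A (T₂ i)]
    (f : ∀ i, T₁ i →ₗ[A] T₂ i) (y : DirectSum ι T₁) :
    y ∈ LinearMap.ker (DirectSum.lmap f) ↔ ∀ k, y k ∈ LinearMap.ker (f k) := by
  rw [LinearMap.mem_ker]
  constructor
  · intro h k
    have := congrArg (fun t => t k) h
    simpa using this
  · intro h
    apply DFinsupp.ext
    intro k
    simpa using h k

variable (L M : DRing.Cx A)

/-- index equivalence for the `Tor₁` terms -/
def idxEquiv₁ (n : ℤ) :
    {ij : ℤ × ℤ // ij.1 + ij.2 - ((1 : ℕ) : ℤ) = n} ≃ HTor.Antidiag (n + 1) where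
  toFun ij := ⟨ij.1, by have := ij.2; push_cast at this; omega⟩
  invFun ij := ⟨ij.1, by have := ij.2; push_cast; omega⟩
  left_inv _ := rfl
  right_inv _ := rfl

/-- index equivalence for the higher `Tor` terms -/
def idxEquiv₂ (n : ℤ) (p : ℕ) :
    {ij : ℤ × ℤ // ij.1 + ij.2 - ((p + 1 + 1 : ℕ) : ℤ) = n} ≃
      {ij : ℤ × ℤ // ij.1 + ij.2 - ((p + 1 : ℕ) : ℤ) = n + 1} where
  toFun ij := ⟨ij.1, by have := ij.2; push_cast at this ⊢; omega⟩
  invFun ij := ⟨ij.1, by have := ij.2; push_cast at this ⊢; omega⟩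
  left_inv _ := rfl
  right_inv _ := rfl

lemma exists_shift_ij (i j : ℤ) (p : ℕ) :
    ∃ δ : DRing.Tor A (p + 1 + 1) (L.homology i) (M.homology j) →ₗ[A]
        DRing.Tor A (p + 1) ((FreeCover.K L).homology i) (M.homology j),
      Function.Surjective δ := by
  obtain ⟨δ, hδ⟩ := exists_shift (Sh L i) (Sh_shortExact L i) (M.homology j) (p + 1)
    (Nat.succ_pos p)
  exact ⟨δ.hom, hδ⟩

lemma exists_sigma_ij (i j : ℤ) :
    ∃ σ : DRing.Tor A 1 (L.homology i) (M.homology j) →ₗ[A]
        TensorProduct A ((FreeCover.K L).homology i) (M.homology j),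
      LinearMap.range σ = LinearMap.ker
        (LinearMap.rTensor (M.homology j) (homologyMap (FreeCover.ses L).f i).hom) := by
  obtain ⟨σ, hσ⟩ := exists_sigma (Sh L i) (Sh_shortExact L i) (M.homology j)
  exact ⟨σ.hom, hσ⟩

lemma exists_shift_sum (n : ℤ) (p : ℕ) :
    ∃ q : HTor.TorSum L M n (p + 1 + 1) →ₗ[A] HTor.TorSum (FreeCover.K L) M (n + 1) (p + 1),
      Function.Surjective q := by
  have h := fun ij : {ij : ℤ × ℤ // ij.1 + ij.2 - ((p + 1 + 1 : ℕ) : ℤ) = n} =>
    exists_shift_ij L M ij.1.1 ij.1.2 p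
  choose δ hδ using h
  exact ⟨reindexSum
    (T₁ := fun ij : {ij : ℤ × ℤ // ij.1 + ij.2 - ((p + 1 + 1 : ℕ) : ℤ) = n} =>
      DRing.Tor A (p + 1 + 1) (L.homology ij.1.1) (M.homology ij.1.2))
    (T₂ := fun ij : {ij : ℤ × ℤ // ij.1 + ij.2 - ((p + 1 : ℕ) : ℤ) = n + 1} =>
      DRing.Tor A (p + 1) ((FreeCover.K L).homology ij.1.1) (M.homology ij.1.2))
    (idxEquiv₂ n p) δ, reindexSum_surjective _ _ hδ⟩

lemma exists_sigma_sum (n : ℤ) :
    ∃ sg : HTor.TorSum L M n 1 →ₗ[A] HTor.KunnethSum (FreeCover.K L) M (n + 1),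
      LinearMap.range sg = LinearMap.ker (sumMap (FreeCover.ses L).f M (n + 1)) := by
  have h := fun ij : {ij : ℤ × ℤ // ij.1 + ij.2 - ((1 : ℕ) : ℤ) = n} =>
    exists_sigma_ij L M ij.1.1 ij.1.2
  choose σ hσ using h
  let sg := reindexSum
    (T₁ := fun ij : {ij : ℤ × ℤ // ij.1 + ij.2 - ((1 : ℕ) : ℤ) = n} =>
      DRing.Tor A 1 (L.homology ij.1.1) (M.homology ij.1.2))
    (T₂ := fun ij : HTor.Antidiag (n + 1) =>
      TensorProduct A ((FreeCover.K L).homology ij.1.1) (M.homology ij.1.2))
    (idxEquiv₁ n) σ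
  refine ⟨sg, ?_⟩
  ext y
  constructor
  · intro hy
    have hy' := (mem_range_reindexSum _ _ y).1 hy
    refine (mem_ker_lmap _ y).2 fun k => ?_
    obtain ⟨ij, rfl⟩ := (idxEquiv₁ n).surjective k
    exact (hσ ij).le (hy' ij)
  · intro hy
    have hy' := (mem_ker_lmap _ y).1 hy
    refine (mem_range_reindexSum _ _ y).2 fun ij => ?_
    exact (hσ ij).ge (hy' (idxEquiv₁ n ij))

end Sums

section StepThm

variable (L M : DRing.Cx A) (hL : DRing.TermwiseFlat L) (b : ℤ) (hb : DRing.VanishesAbove L b)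

/-- the inclusion of the kernel of the free cover -/
noncomputable abbrev ιK : FreeCover.K L ⟶ FreeCover.P L := kernel.ι (FreeCover.π L)

lemma sumMap_π_surjective (n : ℤ) : Function.Surjective (sumMap (FreeCover.π L) M n) := by
  rw [sumMap, DirectSum.lmap_surjective]
  intro ij
  exact LinearMap.rTensor_surjective _ (FreeCover.homologyMap_π_surjective L ij.1.1)

include hL hb in
theorem concl_step (n : ℤ) (ih : Concl (FreeCover.K L) M (n + 1)) : Concl L M n := by
  obtain ⟨N', F', hF'0, hF'mono, hF'top, hgr'⟩ := ih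
  have hST := tensor_shortExact L M hL
  have hrel : (ComplexShape.up ℤ).Rel n (n + 1) := rfl
  have hPbij : ∀ m, Function.Bijective (Phi (FreeCover.P L) M m) := fun m =>
    bijective_Phi (FreeCover.P L) M (FreeCover.termwiseFlat_P L) b
      (FreeCover.vanishesAbove_P L b hb) (fun i => FreeCover.flat_homology_P L i) m
  have hnatπ := Phi_natural (FreeCover.π L) M n
  have hnatι := Phi_natural (ιK L) M (n + 1)
  let δ : (HTor.tensorCx L M).homology n ⟶ (HTor.tensorCx (FreeCover.K L) M).homology (n + 1) :=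
    hST.δ n (n + 1) hrel
  have ex3 : LinearMap.range (homologyMap (FreeCover.π L ▷ M) n).hom = LinearMap.ker δ.hom :=
    (hST.homology_exact₃ n (n + 1) hrel).moduleCat_range_eq_ker
  have ex1 : LinearMap.range δ.hom =
      LinearMap.ker (homologyMap (ιK L ▷ M) (n + 1)).hom :=
    (hST.homology_exact₁ n (n + 1) hrel).moduleCat_range_eq_ker
  refine ⟨N' + 1, pullF δ.hom F', ?_, pullF_mono _ _ hF'mono, pullF_top _ _ N' hF'top, ?_⟩
  · show LinearMap.ker δ.hom = _
    rw [← ex3]
    have h1 : LinearMap.range ((homologyMap (FreeCover.π L ▷ M) n).hom ∘ₗ Phi (FreeCover.P L) M n) =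
        LinearMap.range (homologyMap (FreeCover.π L ▷ M) n).hom :=
      LinearMap.range_comp_of_range_eq_top _ (LinearMap.range_eq_top.2 (hPbij n).2)
    have h2 : LinearMap.range (Phi L M n ∘ₗ sumMap (FreeCover.π L) M n) =
        LinearMap.range (Phi L M n) :=
      LinearMap.range_comp_of_range_eq_top _ (LinearMap.range_eq_top.2 (sumMap_π_surjective L M n))
    rw [← h1, hnatπ, h2]
  · intro p
    cases p with
    | zero =>
      obtain ⟨j, hj, hrange⟩ := exists_grSucc_pullF_zero δ.hom F'
      obtain ⟨sg, hsg'⟩ := exists_sigma_sum L M n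
      have hsg : LinearMap.range sg = LinearMap.ker (sumMap (ιK L) M (n + 1)) := hsg'
      refine IsSQ.of_range_eq j (Phi (FreeCover.K L) M (n + 1) ∘ₗ sg) hj ?_
      rw [hrange, hF'0, ex1]
      ext y
      constructor
      · rintro ⟨⟨ξ, rfl⟩, hy⟩
        have hy0 : (homologyMap (ιK L ▷ M) (n + 1)).hom
            (Phi (FreeCover.K L) M (n + 1) ξ) = 0 := hy
        have h3 := LinearMap.congr_fun hnatι ξ
        simp only [LinearMap.comp_apply] at h3
        rw [hy0] at h3
        have h4 : sumMap (ιK L) M (n + 1) ξ = 0 :=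
          (hPbij (n + 1)).1 (by rw [← h3, map_zero])
        have h5 : ξ ∈ LinearMap.range sg := by
          rw [hsg]
          exact h4
        obtain ⟨t, rfl⟩ := h5
        exact ⟨t, rfl⟩
      · rintro ⟨t, rfl⟩
        refine ⟨⟨sg t, rfl⟩, ?_⟩
        have h5 : sumMap (ιK L) M (n + 1) (sg t) = 0 := by
          have : sg t ∈ LinearMap.range sg := ⟨t, rfl⟩
          rw [hsg] at this
          exact this
        have h3 := LinearMap.congr_fun hnatι (sg t)
        simp only [LinearMap.comp_apply] at h3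
        rw [h5, map_zero] at h3
        exact h3
    | succ p =>
      obtain ⟨j, hj⟩ := exists_grSucc_pullF_succ δ.hom F' p
      obtain ⟨q, hq⟩ := exists_shift_sum L M n p
      exact ((hgr' p).of_injective j hj).of_surjective_target q hq

end StepThm

section Main

theorem concl_main (M : DRing.Cx A) (bM : ℤ) (hbM : DRing.VanishesAbove M bM) (k : ℕ) :
    ∀ (L : DRing.Cx A) (_ : DRing.TermwiseFlat L) (bL : ℤ) (_ : DRing.VanishesAbove L bL) (n : ℤ),
      bL + bM < n + k → Concl L M n := by
  induction k with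
  | zero =>
    intro L _ bL hbL n h
    exact concl_base L M bL bM hbL hbM n (by simpa using h)
  | succ k ih =>
    intro L hL bL hbL n h
    apply concl_step L M hL bL hbL n
    exact ih (FreeCover.K L) (FreeCover.termwiseFlat_K L hL) bL (FreeCover.vanishesAbove_K L bL hbL)
      (n + 1) (by push_cast at h ⊢; omega)

/-- The filtration of the Künneth spectral sequence. -/
theorem filtration (L M : DRing.Cx A) (hL : DRing.TermwiseFlat L)
    (bL : ∃ b : ℤ, DRing.VanishesAbove L b) (bM : ∃ b : ℤ, DRing.VanishesAbove M b) (n : ℤ) :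
    ∃ (N : ℕ) (F : ℕ → Submodule A ((HTor.tensorCx L M).homology n))
      (Φ : HTor.KunnethSum L M n →ₗ[A] (HTor.tensorCx L M).homology n),
      HTor.IsKunnethMap L M n Φ ∧ F 0 = LinearMap.range Φ ∧ Monotone F ∧ F N = ⊤ ∧
        ∀ p : ℕ, HTor.IsSubquotient A (HTor.grSucc F p) (HTor.TorSum L M n (p + 1)) := by
  obtain ⟨bL, hbL⟩ := bL
  obtain ⟨bM, hbM⟩ := bM
  have hk : bL + bM < n + ((bL + bM - n + 1).toNat : ℤ) := by
    have := Int.self_le_toNat (bL + bM - n + 1)
    omega
  obtain ⟨N, F, hF0, hmono, htop, hgr⟩ := concl_main M bM hbM _ L hL bL hbL n hk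
  exact ⟨N, F, Phi L M n, isKunnethMap_Phi L M n, hF0, hmono, htop, fun p => (hgr p).isSubquotient⟩

end Main

end Groth.Agent.Lib.Seat15.KunnethSS
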