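import Groth.Agent.Lib.Seat15PbSec
import Groth.Agent.Lib.Seat15ColimMod
import Groth.Agent.Lib.Helper26ModLim
import Groth.Agent.Lib.Helper2FPAff

/-!
# Pushforward-side colimit description of pullbacks to a limit of schemes (seat 15)

Namespace `Groth.Agent.Lib.Seat15.LimHom`.  For `S = lim S_j` (affine transition maps), `G₀` on `S_{i₀}`:

* `PG j = (φ_j)_* φ_j^* G₀`, `PGlim = π_* π^* G₀`, `βm j : PG j ⟶ PGlim`, `τm a : PG j ⟶ PG j'`.
* `fsys`, `modSys` : on sections over an affine open these form a `ColimMod.ModSys`.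
* `τm_βm`, `τm_comp` : sheaf-level functoriality.
* `exists_lift_sections`, `exists_kill` : the elementary colimit statements on sections over affine opens.
-/

set_option autoImplicit false
set_option linter.style.haveILetI false
set_option linter.unusedSectionVars false
universe u
open CategoryTheory AlgebraicGeometry Limits TensorProduct Opposite TopologicalSpace
open Groth.Agent.Lib.Helper26.ModLim Groth.Agent.Lib.Seat15.PbSec Groth.Agent.Lib.Seat15.ColimMod
open Groth.Agent.Lib.Helper6 Groth.Agent.Helper13PullbackUnit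

namespace Groth.Agent.Lib.Seat15.LimHom

section model
variable {X Y : Scheme.{u}} (f : Y ⟶ X) (F : X.Modules) [F.IsQuasicoherent] {V : X.Opens}

/-- `unitApp` exhibits the sections of the pullback over an affine preimage as a base change. -/
theorem bcModel_unitApp (hV : IsAffineOpen V) (hU : IsAffineOpen (f ⁻¹ᵁ V)) :
    letI : Algebra Γ(X, V) Γ(Y, f ⁻¹ᵁ V) := (f.appLE V (f ⁻¹ᵁ V) le_rfl).hom.toAlgebra
    BCModel (R := Γ(X, V)) (S := Γ(Y, f ⁻¹ᵁ V)) (unitApp f F V) := by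
  letI : Algebra Γ(X, V) Γ(Y, f ⁻¹ᵁ V) := (f.appLE V (f ⁻¹ᵁ V) le_rfl).hom.toAlgebra
  refine ⟨fun r n => ?_, fun Q _ _ l hl => ?_⟩
  · have := unitSec_smul f F (le_refl (f ⁻¹ᵁ V)) r n
    rw [unitSec_self, unitSec_self] at this
    exact this
  · have := existsUnique_lift f F hV hU (le_refl (f ⁻¹ᵁ V)) Q l hl
    simp only [unitSec_self] at this
    exact this

end model

section geom
variable {I : Type u} [SmallCategory I] [IsCofiltered I] (D : I ⥤ Scheme.{u}) (c : Cone D)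
  (hc : IsLimit c) [∀ (i j : I) (f : i ⟶ j), IsAffineHom (D.map f)] (i₀ : I)
  (G₀ : (D.obj i₀).Modules)

/-- `(φ_j)_* φ_j^* G₀` -/
noncomputable abbrev PG (j : Over i₀) : (D.obj i₀).Modules :=
  (Scheme.Modules.pushforward (D.map j.hom)).obj ((Scheme.Modules.pullback (D.map j.hom)).obj G₀)

/-- `π_* π^* G₀` -/
noncomputable abbrev PGlim : (D.obj i₀).Modules :=
  (Scheme.Modules.pushforward (c.π.app i₀)).obj ((Scheme.Modules.pullback (c.π.app i₀)).obj G₀)

theorem w_tr {j j' : Over i₀} (a : j' ⟶ j) : D.map a.left ≫ D.map j.hom = D.map j'.hom := by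
  rw [← D.map_comp, Over.w]

/-- the comparison to the limit -/
noncomputable def βm (j : Over i₀) : PG D i₀ G₀ j ⟶ PGlim D c i₀ G₀ :=
  cmp (c.π.app j.left) (D.map j.hom) (c.π.app i₀) (c.w j.hom) G₀

/-- the transition maps -/
noncomputable def τm {j j' : Over i₀} (a : j' ⟶ j) : PG D i₀ G₀ j ⟶ PG D i₀ G₀ j' :=
  cmp (D.map a.left) (D.map j.hom) (D.map j'.hom) (w_tr D i₀ a) G₀

variable (V : (D.obj i₀).Opens)

attribute [local instance] algG algA

theorem trAlg_comp {j j' j'' : Over i₀} (a : j' ⟶ j) (b : j'' ⟶ j') :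
    trAlg D i₀ V (b ≫ a) = (trAlg D i₀ V b).comp (trAlg D i₀ V a) := by
  ext r
  have h : tr D i₀ V a ≫ tr D i₀ V b = tr D i₀ V (b ≫ a) :=
    appLE_comp_of_eq _ _ _ (by rw [Over.comp_left, D.map_comp]) _ _ _ _ _ _
  have := congrArg (fun k => k.hom r) h
  exact this.symm

include hc in
theorem fsys (hV : IsAffineOpen V) :
    FSys (J := Over i₀) (R := Γ(D.obj i₀, V)) (G := fun j => Gj D i₀ V j)
      (A := Γ(c.pt, c.π.app i₀ ⁻¹ᵁ V)) (fun j => gAlg D c i₀ V j) (fun a => trAlg D i₀ V a) where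
  g_tr a := gAlg_comp_trAlg D c i₀ V a
  tr_comp a b := trAlg_comp D i₀ V a b
  surj x := by
    obtain ⟨j, f, s, hs⟩ := exists_appLE_eq D c hc i₀ V hV x
    exact ⟨Over.mk f, s, hs.symm⟩
  ker j x hx := by
    have hx' : ((c.π.app j.left).app (D.map j.hom ⁻¹ᵁ V)).hom x = 0 :=
      app_eq_zero_of_appLE _ _ _ (le_π D c i₀ V j)
        (by rw [← Scheme.Hom.comp_preimage, c.w]) x hx
    obtain ⟨j', f, hf⟩ := exists_app_map_eq_zero_of_isLimit D c hc
      ((hV.preimage (D.map j.hom)).isCompact) x hx'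
    refine ⟨Over.mk (f ≫ j.hom), (Over.homMk f : Over.mk (f ≫ j.hom) ⟶ j), ?_⟩
    show ((D.map f).appLE _ _ _).hom x = 0
    unfold Scheme.Hom.appLE
    rw [CommRingCat.hom_comp, RingHom.comp_apply]
    erw [hf]
    rw [map_zero]

variable [G₀.IsQuasicoherent]

include hc in
theorem modSys (hV : IsAffineOpen V) :
    ModSys (J := Over i₀) (R := Γ(D.obj i₀, V)) (G := fun j => Gj D i₀ V j)
      (A := Γ(c.pt, c.π.app i₀ ⁻¹ᵁ V)) (N := Γ(G₀, V))
      (T := fun j => Γ((Scheme.Modules.pullback (D.map j.hom)).obj G₀, D.map j.hom ⁻¹ᵁ V))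
      (T' := Γ((Scheme.Modules.pullback (c.π.app i₀)).obj G₀, c.π.app i₀ ⁻¹ᵁ V))
      (fun j => gAlg D c i₀ V j) (fun a => trAlg D i₀ V a)
      (fun j => unitApp (D.map j.hom) G₀ V) (unitApp (c.π.app i₀) G₀ V)
      (fun j => cmpSec (c.π.app j.left) (D.map j.hom) (c.π.app i₀) (c.w j.hom) G₀ V)
      (fun {j j'} a => cmpSec (D.map a.left) (D.map j.hom) (D.map j'.hom) (w_tr D i₀ a) G₀ V) where
  fsys := fsys D c hc i₀ V hV
  model j := bcModel_unitApp (D.map j.hom) G₀ hV (hV.preimage (D.map j.hom))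
  model' := by
    haveI := isAffineHom_π_app D c hc i₀
    exact bcModel_unitApp (c.π.app i₀) G₀ hV (hV.preimage (c.π.app i₀))
  β_smul j s t := cmpSec_smul (c.π.app j.left) (D.map j.hom) (c.π.app i₀) (c.w j.hom) G₀ V s t
  β_u j n := cmpSec_unitApp (c.π.app j.left) (D.map j.hom) (c.π.app i₀) (c.w j.hom) G₀ V n
  τ_smul {j j'} a s t :=
    cmpSec_smul (D.map a.left) (D.map j.hom) (D.map j'.hom) (w_tr D i₀ a) G₀ V s t
  τ_u {j j'} a n :=
    cmpSec_unitApp (D.map a.left) (D.map j.hom) (D.map j'.hom) (w_tr D i₀ a) G₀ V n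

theorem appLE_self_apply {X Y : Scheme.{u}} (f : Y ⟶ X) (W : X.Opens) (r : Γ(X, W)) :
    (f.appLE W (f ⁻¹ᵁ W) le_rfl).hom r = (f.app W).hom r := by
  rw [← Scheme.Hom.app_eq_appLE]

theorem isBasis_affine (X : Scheme.{u}) :
    Opens.IsBasis (Set.range fun W : X.affineOpens => (W : X.Opens)) := by
  have := X.isBasis_affineOpens
  convert this using 1
  ext U
  simp

include hc in
/-- sheaf-level: `τ ≫ β = β` -/
theorem τm_βm {j j' : Over i₀} (a : j' ⟶ j) :
    τm D i₀ G₀ a ≫ βm D c i₀ G₀ j' = βm D c i₀ G₀ j := by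
  refine Groth.Agent.Helper13ModBasis.hom_ext_basis
    (fun W : (D.obj i₀).affineOpens => (W : (D.obj i₀).Opens)) (isBasis_affine _) _ _ fun W => ?_
  ext y
  exact (modSys D c hc i₀ G₀ W.1 W.2).β_τ a y

include hc in
/-- sheaf-level: functoriality of the transition maps -/
theorem τm_comp {j j' j'' : Over i₀} (a : j' ⟶ j) (b : j'' ⟶ j') :
    τm D i₀ G₀ a ≫ τm D i₀ G₀ b = τm D i₀ G₀ (b ≫ a) := by
  refine Groth.Agent.Helper13ModBasis.hom_ext_basis
    (fun W : (D.obj i₀).affineOpens => (W : (D.obj i₀).Opens)) (isBasis_affine _) _ _ fun W => ?_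
  ext y
  exact ((modSys D c hc i₀ G₀ W.1 W.2).τ_comp a b y).symm

include hc in
/-- an element of `Γ(PG j, V)` dying in the limit dies at a finite stage -/
theorem exists_kill (hV : IsAffineOpen V) (j : Over i₀) (y : Γ(PG D i₀ G₀ j, V))
    (hy : (βm D c i₀ G₀ j).app V y = 0) :
    ∃ (j' : Over i₀) (a : j' ⟶ j), (τm D i₀ G₀ a).app V y = 0 := by
  let y' : Γ((Scheme.Modules.pullback (D.map j.hom)).obj G₀, D.map j.hom ⁻¹ᵁ V) := y
  obtain ⟨j', a, ha⟩ := (modSys D c hc i₀ G₀ V hV).kill_finset j {y'} (by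
    intro t ht
    rw [Finset.mem_singleton] at ht
    subst ht
    exact hy)
  exact ⟨j', a, ha y' (Finset.mem_singleton_self y')⟩

include hc in
/-- a linear map from the sections of a finitely presented module into the limit lifts to a finite stage -/
theorem exists_lift_sections (hV : IsAffineOpen V) (j₀ : Over i₀) (F₀ : (D.obj i₀).Modules)
    [F₀.IsQuasicoherent] [SheafOfModules.IsFinitePresentation (R := (D.obj i₀).ringCatSheaf) F₀]
    (ψ : F₀ ⟶ PGlim D c i₀ G₀) :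
    ∃ (j : Over i₀) (_ : j ⟶ j₀) (L : Γ(F₀, V) →+ Γ(PG D i₀ G₀ j, V)),
      (∀ (r : Γ(D.obj i₀, V)) (m : Γ(F₀, V)), L (r • m) = r • L m) ∧
        ∀ m, (βm D c i₀ G₀ j).app V (L m) = ψ.app V m := by
  haveI : Module.FinitePresentation Γ(D.obj i₀, V) Γ(F₀, V) :=
    Groth.Agent.Lib.Helper2.FPAff.finitePresentation_sections F₀ hV
  let L0 : Γ(F₀, V) →+ Γ((Scheme.Modules.pullback (c.π.app i₀)).obj G₀, c.π.app i₀ ⁻¹ᵁ V) :=
    show Γ(F₀, V) →+ Γ(PGlim D c i₀ G₀, V) from (ψ.app V).hom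
  have hL0 : ∀ (r : Γ(D.obj i₀, V)) (m : Γ(F₀, V)),
      L0 (r • m) = algebraMap Γ(D.obj i₀, V) Γ(c.pt, c.π.app i₀ ⁻¹ᵁ V) r • L0 m := by
    intro r m
    have h1 : (ψ.app V).hom (r • m) = r • (ψ.app V).hom m := Scheme.Modules.Hom.app_smul ψ r m
    refine h1.trans ?_
    refine (pushforward_smul (c.π.app i₀) V r _).trans ?_
    congr 1
    exact (appLE_self_apply (c.π.app i₀) V r).symm
  obtain ⟨j, a, L, hL, hβ⟩ := (modSys D c hc i₀ G₀ V hV).lift j₀ Γ(F₀, V) L0 hL0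
  refine ⟨j, a, show Γ(F₀, V) →+ Γ((Scheme.Modules.pullback (D.map j.hom)).obj G₀,
    D.map j.hom ⁻¹ᵁ V) from L, fun r m => ?_, hβ⟩
  refine (hL r m).trans ?_
  refine Eq.trans ?_ (pushforward_smul (D.map j.hom) V r _).symm
  congr 1
  exact appLE_self_apply (D.map j.hom) V r

end geom

end Groth.Agent.Lib.Seat15.LimHom
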