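import Groth.Agent.Lib.Seat15LimHom

/-!
# Descent of homomorphisms of modules through limits of schemes, pushforward form (seat 15)

Namespace `Groth.Agent.Lib.Seat15.LimHom`.

* `LocFam.comp`, `LocFam.ofHom`.
* `exists_equalize`, `exists_equalize_finset`.
* `exists_descend` : for `F₀` finitely presented quasi-coherent on a qcqs stage `S_{i₀}`, every `ψ : F₀ ⟶ π_* π^* G₀`
  factors through `βm j : (φ_j)_* φ_j^* G₀ ⟶ π_* π^* G₀` for some `j`.
-/

set_option autoImplicit false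
set_option linter.style.haveILetI false
set_option linter.unusedSectionVars false
universe u
open CategoryTheory AlgebraicGeometry Limits TensorProduct Opposite TopologicalSpace
open Groth.Agent.Lib.Helper26.ModLim Groth.Agent.Lib.Seat15.PbSec Groth.Agent.Lib.Seat15.ColimMod
open Groth.Agent.Lib.Helper6 Groth.Agent.Helper13PullbackUnit Groth.Agent.Helper13ModGlue

namespace Groth.Agent.Lib.Seat15.LimHom

section locfam
variable {X : Scheme.{u}} {V : X.Opens} {H F F' : X.Modules}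

/-- compose a local family with a morphism of modules -/
noncomputable def _root_.Groth.Agent.Helper13ModGlue.LocFam.comp (D : LocFam V H F) (m : F ⟶ F') : LocFam V H F' where
  d W hW := (m.app W).hom.comp (D.d W hW)
  nat W W' hW hW' τ := by
    simp only [AddMonoidHom.coe_comp, Function.comp_apply]
    rw [← D.nat W W' hW hW' τ]
    exact (app_res m hW' _).symm
  lin W hW a τ := by
    simp only [AddMonoidHom.coe_comp, Function.comp_apply]
    rw [D.lin]
    exact Scheme.Modules.Hom.app_smul m a _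

@[simp] theorem _root_.Groth.Agent.Helper13ModGlue.LocFam.comp_d (D : LocFam V H F) (m : F ⟶ F') (W : X.Opens) (hW : W ≤ V)
    (x : Γ(H, W)) : (D.comp m).d W hW x = m.app W (D.d W hW x) := rfl

/-- the local family of a morphism -/
noncomputable def _root_.Groth.Agent.Helper13ModGlue.LocFam.ofHom (V : X.Opens) (m : H ⟶ F) : LocFam V H F where
  d W _ := (m.app W).hom
  nat W W' _ hW' τ := (app_res m hW' τ).symm
  lin W _ a τ := Scheme.Modules.Hom.app_smul m a τ

@[simp] theorem _root_.Groth.Agent.Helper13ModGlue.LocFam.ofHom_d (m : H ⟶ F) (W : X.Opens) (hW : W ≤ V)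
    (x : Γ(H, W)) : (LocFam.ofHom V m).d W hW x = m.app W x := rfl

end locfam

section geom
variable {I : Type u} [SmallCategory I] [IsCofiltered I] (D : I ⥤ Scheme.{u}) (c : Cone D)
  (hc : IsLimit c) [∀ (i j : I) (f : i ⟶ j), IsAffineHom (D.map f)] (i₀ : I)
  (G₀ : (D.obj i₀).Modules) [G₀.IsQuasicoherent]
  (F₀ : (D.obj i₀).Modules) [F₀.IsQuasicoherent]
  [SheafOfModules.IsFinitePresentation (R := (D.obj i₀).ringCatSheaf) F₀]

theorem βm_τm_app {j j' : Over i₀} (a : j' ⟶ j) (W : (D.obj i₀).Opens)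
    (x : Γ(PG D i₀ G₀ j, W)) (hc : IsLimit c) :
    (βm D c i₀ G₀ j').app W ((τm D i₀ G₀ a).app W x) = (βm D c i₀ G₀ j).app W x := by
  have := congrArg (fun k => (Scheme.Modules.Hom.app k W) x) (τm_βm D c hc i₀ G₀ a)
  exact this

theorem τm_τm_app {j j' j'' : Over i₀} (a : j' ⟶ j) (b : j'' ⟶ j') (W : (D.obj i₀).Opens)
    (x : Γ(PG D i₀ G₀ j, W)) (hc : IsLimit c) :
    (τm D i₀ G₀ b).app W ((τm D i₀ G₀ a).app W x) = (τm D i₀ G₀ (b ≫ a)).app W x := by
  have := congrArg (fun k => (Scheme.Modules.Hom.app k W) x) (τm_comp D c hc i₀ G₀ a b)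
  exact this

include hc in
/-- finset version of `exists_kill` -/
theorem exists_kill_finset {W : (D.obj i₀).Opens} (hW : IsAffineOpen W) (j : Over i₀)
    (s : Finset Γ(PG D i₀ G₀ j, W)) (hs : ∀ y ∈ s, (βm D c i₀ G₀ j).app W y = 0) :
    ∃ (j' : Over i₀) (a : j' ⟶ j), ∀ y ∈ s, (τm D i₀ G₀ a).app W y = 0 := by
  classical
  induction s using Finset.induction_on with
  | empty => exact ⟨j, 𝟙 j, fun y hy => absurd hy (Finset.notMem_empty y)⟩
  | insert x s _ ih =>
    obtain ⟨j₁, a₁, h₁⟩ := ih (fun y hy => hs y (Finset.mem_insert_of_mem hy))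
    obtain ⟨j₂, a₂, h₂⟩ := exists_kill D c hc i₀ G₀ W hW j₁ ((τm D i₀ G₀ a₁).app W x) (by
      rw [βm_τm_app D c i₀ G₀ a₁ W x hc]
      exact hs x (Finset.mem_insert_self _ _))
    refine ⟨j₂, a₂ ≫ a₁, fun y hy => ?_⟩
    rw [← τm_τm_app D c i₀ G₀ a₁ a₂ W y hc]
    rcases Finset.mem_insert.mp hy with rfl | hy
    · exact h₂
    · rw [h₁ y hy, map_zero]

include hc in
/-- two linear maps on sections over an affine open which agree in the limit agree at a finite stage -/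
theorem exists_equalize {W : (D.obj i₀).Opens} (hW : IsAffineOpen W) (j : Over i₀)
    (P P' : Γ(F₀, W) →+ Γ(PG D i₀ G₀ j, W))
    (hP : ∀ (r : Γ(D.obj i₀, W)) (m : Γ(F₀, W)), P (r • m) = r • P m)
    (hP' : ∀ (r : Γ(D.obj i₀, W)) (m : Γ(F₀, W)), P' (r • m) = r • P' m)
    (h : ∀ m, (βm D c i₀ G₀ j).app W (P m) = (βm D c i₀ G₀ j).app W (P' m)) :
    ∃ (j' : Over i₀) (a : j' ⟶ j),
      ∀ m, (τm D i₀ G₀ a).app W (P m) = (τm D i₀ G₀ a).app W (P' m) := by
  classical
  haveI : Module.FinitePresentation Γ(D.obj i₀, W) Γ(F₀, W) :=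
    Groth.Agent.Lib.Helper2.FPAff.finitePresentation_sections F₀ hW
  obtain ⟨gens, hgens⟩ := (Module.finite_def (R := Γ(D.obj i₀, W)) (M := Γ(F₀, W))).1 inferInstance
  obtain ⟨j', a, ha⟩ := exists_kill_finset D c hc i₀ G₀ hW j (gens.image fun z => P z - P' z) (by
    intro y hy
    obtain ⟨z, -, rfl⟩ := Finset.mem_image.mp hy
    rw [map_sub, h z, sub_self])
  refine ⟨j', a, fun m => ?_⟩
  have hm : m ∈ Submodule.span Γ(D.obj i₀, W) (gens : Set Γ(F₀, W)) := by rw [hgens]; trivial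
  induction hm using Submodule.span_induction with
  | mem z hz =>
    have := ha _ (Finset.mem_image_of_mem _ hz)
    rwa [map_sub, sub_eq_zero] at this
  | zero => simp only [map_zero]
  | add x y _ _ hx hy => rw [map_add, map_add, map_add, map_add, hx, hy]
  | smul r x _ hx =>
    rw [hP, hP', Scheme.Modules.Hom.app_smul, Scheme.Modules.Hom.app_smul, hx]

include hc in
/-- finitely many pairs of linear maps on sections over affine opens which agree in the limit agree at a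
common finite stage -/
theorem exists_equalize_family {Θ : Type*} [Finite Θ] (j : Over i₀) (W : Θ → (D.obj i₀).Opens)
    (hW : ∀ θ, IsAffineOpen (W θ)) (P P' : ∀ θ, Γ(F₀, W θ) →+ Γ(PG D i₀ G₀ j, W θ))
    (hP : ∀ θ (r : Γ(D.obj i₀, W θ)) (m : Γ(F₀, W θ)), P θ (r • m) = r • P θ m)
    (hP' : ∀ θ (r : Γ(D.obj i₀, W θ)) (m : Γ(F₀, W θ)), P' θ (r • m) = r • P' θ m)
    (h : ∀ θ m, (βm D c i₀ G₀ j).app (W θ) (P θ m) = (βm D c i₀ G₀ j).app (W θ) (P' θ m)) :
    ∃ (j' : Over i₀) (a : j' ⟶ j),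
      ∀ θ m, (τm D i₀ G₀ a).app (W θ) (P θ m) = (τm D i₀ G₀ a).app (W θ) (P' θ m) := by
  classical
  haveI := Fintype.ofFinite Θ
  suffices H : ∀ t : Finset Θ, ∃ (j' : Over i₀) (a : j' ⟶ j),
      ∀ θ ∈ t, ∀ m, (τm D i₀ G₀ a).app (W θ) (P θ m) = (τm D i₀ G₀ a).app (W θ) (P' θ m) by
    obtain ⟨j', a, ha⟩ := H Finset.univ
    exact ⟨j', a, fun θ m => ha θ (Finset.mem_univ θ) m⟩
  intro t
  induction t using Finset.induction_on with
  | empty => exact ⟨j, 𝟙 j, fun θ hθ => absurd hθ (Finset.notMem_empty θ)⟩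
  | insert θ t _ ih =>
    obtain ⟨j₁, a₁, h₁⟩ := ih
    obtain ⟨j₂, a₂, h₂⟩ := exists_equalize D c hc i₀ G₀ F₀ (hW θ) j₁
      (((τm D i₀ G₀ a₁).app (W θ)).hom.comp (P θ)) (((τm D i₀ G₀ a₁).app (W θ)).hom.comp (P' θ))
      (fun r m => by
        simp only [AddMonoidHom.coe_comp, Function.comp_apply]
        rw [hP]; exact Scheme.Modules.Hom.app_smul _ _ _)
      (fun r m => by
        simp only [AddMonoidHom.coe_comp, Function.comp_apply]
        rw [hP']; exact Scheme.Modules.Hom.app_smul _ _ _)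
      (fun m => by
        show (βm D c i₀ G₀ j₁).app (W θ) ((τm D i₀ G₀ a₁).app (W θ) (P θ m)) =
          (βm D c i₀ G₀ j₁).app (W θ) ((τm D i₀ G₀ a₁).app (W θ) (P' θ m))
        rw [βm_τm_app D c i₀ G₀ a₁ (W θ) (P θ m) hc, βm_τm_app D c i₀ G₀ a₁ (W θ) (P' θ m) hc]
        exact h θ m)
    refine ⟨j₂, a₂ ≫ a₁, fun θ' hθ' m => ?_⟩
    rw [← τm_τm_app D c i₀ G₀ a₁ a₂ (W θ') _ hc, ← τm_τm_app D c i₀ G₀ a₁ a₂ (W θ') _ hc]
    rcases Finset.mem_insert.mp hθ' with rfl | hθ'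
    · exact h₂ m
    · rw [h₁ θ' hθ' m]

end geom

end Groth.Agent.Lib.Seat15.LimHom
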