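import Groth.Agent.Lib.Seat15LimHom2

/-!
# Descent of homomorphisms of modules through limits of schemes: gluing (seat 15)

* `exists_descend` : for `F₀` finitely presented quasi-coherent on a qcqs stage `S_{i₀}`, every `ψ : F₀ ⟶ π_* π^* G₀`
  factors through `βm j : (φ_j)_* φ_j^* G₀ ⟶ π_* π^* G₀` for some `j`.
-/

set_option autoImplicit false
set_option linter.style.haveILetI false
set_option linter.unusedSectionVars false
universe u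
open CategoryTheory AlgebraicGeometry Limits TensorProduct Opposite TopologicalSpace
open Groth.Agent.Lib.Helper26.ModLim Groth.Agent.Lib.Seat15.PbSec Groth.Agent.Lib.Seat15.ColimMod
open Groth.Agent.Lib.Helper6 Groth.Agent.Helper13PullbackUnit Groth.Agent.Helper13ModGlue

namespace Groth.Agent.Lib.Seat15.LimHom

section geom
variable {I : Type u} [SmallCategory I] [IsCofiltered I] (D : I ⥤ Scheme.{u}) (c : Cone D)
  (hc : IsLimit c) [∀ (i j : I) (f : i ⟶ j), IsAffineHom (D.map f)] (i₀ : I)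
  (G₀ : (D.obj i₀).Modules) [G₀.IsQuasicoherent]
  (F₀ : (D.obj i₀).Modules) [F₀.IsQuasicoherent]
  [SheafOfModules.IsFinitePresentation (R := (D.obj i₀).ringCatSheaf) F₀]

/-- finite affine covers of the pairwise intersections of a finite affine cover -/
theorem exists_inter_cover [QuasiSeparatedSpace (D.obj i₀)] (U U' : (D.obj i₀).Opens)
    (hU : IsAffineOpen U) (hU' : IsAffineOpen U') :
    ∃ t : Set (D.obj i₀).affineOpens, t.Finite ∧ U ⊓ U' = ⨆ i ∈ t, (i : (D.obj i₀).Opens) := by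
  refine isCompact_iff_finite_and_eq_biUnion_affineOpens.mp ?_
  exact IsCompact.inter_of_isOpen hU.isCompact hU'.isCompact U.isOpen U'.isOpen

omit [IsCofiltered I] [∀ (i j : I) (f : i ⟶ j), IsAffineHom (D.map f)] in
/-- two local families agreeing on the members of an affine cover of the intersection agree -/
theorem compat_of_cover {X : Scheme.{u}} (H F : X.Modules) [H.IsQuasicoherent] {Vk Vl : X.Opens}
    (Dk : LocFam Vk H F) (Dl : LocFam Vl H F) (t : Set X.affineOpens)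
    (ht : Vk ⊓ Vl = ⨆ i ∈ t, (i : X.Opens))
    (h : ∀ (i : X.affineOpens) (_ : i ∈ t) (h1 : i.1 ≤ Vk) (h2 : i.1 ≤ Vl) (σ : Γ(H, i.1)),
      Dk.d i.1 h1 σ = Dl.d i.1 h2 σ)
    (W : X.Opens) (hk : W ≤ Vk) (hl : W ≤ Vl) (m : Γ(H, W)) : Dk.d W hk m = Dl.d W hl m := by
  have hle : ∀ i ∈ t, (i : X.Opens) ≤ Vk ⊓ Vl := by
    intro i hi
    rw [ht]
    exact le_iSup₂ (f := fun (i : X.affineOpens) (_ : i ∈ t) => (i : X.Opens)) i hi
  refine TopCat.Sheaf.eq_of_locally_eq' ⟨F.presheaf, F.isSheaf⟩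
    (fun i : ↥t => W ⊓ i.1.1) W (fun i => homOfLE inf_le_left) ?_ _ _ (fun i => ?_)
  · intro x hx
    have hx' : x ∈ Vk ⊓ Vl := ⟨hk hx, hl hx⟩
    rw [ht] at hx'
    obtain ⟨i, hi⟩ := Opens.mem_iSup.mp hx'
    obtain ⟨hit, hxi⟩ := Opens.mem_iSup.mp hi
    exact Opens.mem_iSup.mpr ⟨⟨i, hit⟩, ⟨hx, hxi⟩⟩
  · change res F inf_le_left (Dk.d W hk m) = res F inf_le_left (Dl.d W hl m)
    rw [Dk.nat, Dl.nat]
    have h1 : i.1.1 ≤ Vk := (hle i.1 i.2).trans inf_le_left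
    have h2 : i.1.1 ≤ Vl := (hle i.1 i.2).trans inf_le_right
    exact LocFam.eq_of_le i.1.2 H F (le_refl i.1.1)
      (Dk.restrict h1) (Dl.restrict h2) (fun σ => by
        rw [res_self]
        exact h i.1 i.2 h1 h2 σ) (W ⊓ i.1.1) inf_le_right _

include hc in
theorem exists_descend_aux [QuasiSeparatedSpace (D.obj i₀)] {K : Type u} [Fintype K]
    (V : K → (D.obj i₀).Opens) (hVa : ∀ k, IsAffineOpen (V k)) (hcov : ⨆ k, V k = ⊤)
    (ψ : F₀ ⟶ PGlim D c i₀ G₀) :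
    ∃ (j : Over i₀) (ψj : F₀ ⟶ PG D i₀ G₀ j), ψj ≫ βm D c i₀ G₀ j = ψ := by
  classical
  -- step 1: local lifts
  choose jk _ Lk hLk hβk using fun k : K =>
    exists_lift_sections D c hc i₀ G₀ (V k) (hVa k) (Over.mk (𝟙 i₀)) F₀ ψ
  choose Dk hDk using fun k : K =>
    exists_locFam (hVa k) F₀ (PG D i₀ G₀ (jk k)) (Lk k) (hLk k)
  obtain ⟨j₁, hj₁⟩ := IsCofiltered.inf_objs_exists (Finset.univ.image jk)
  have hb : ∀ k, Nonempty (j₁ ⟶ jk k) := fun k =>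
    hj₁ (Finset.mem_image_of_mem jk (Finset.mem_univ k))
  choose b _ using fun k => (⟨(hb k).some, trivial⟩ : ∃ _ : j₁ ⟶ jk k, True)
  obtain ⟨D₁, hD₁⟩ : ∃ D₁ : ∀ k, LocFam (V k) F₀ (PG D i₀ G₀ j₁),
      ∀ (k : K) (W : (D.obj i₀).Opens) (hW : W ≤ V k) (m : Γ(F₀, W)),
        (D₁ k).d W hW m = (τm D i₀ G₀ (b k)).app W ((Dk k).d W hW m) :=
    ⟨fun k => (Dk k).comp (τm D i₀ G₀ (b k)), fun _ _ _ _ => rfl⟩
  have hA : ∀ (k : K) (W : (D.obj i₀).Opens) (hW : W ≤ V k) (m : Γ(F₀, W)),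
      (βm D c i₀ G₀ j₁).app W ((D₁ k).d W hW m) = ψ.app W m := by
    intro k W hW m
    rw [hD₁, βm_τm_app D c i₀ G₀ (b k) W _ hc]
    exact LocFam.eq_of_le (hVa k) F₀ (PGlim D c i₀ G₀) (le_refl (V k))
      ((Dk k).comp (βm D c i₀ G₀ (jk k))) (LocFam.ofHom (V k) ψ) (fun σ => by
        rw [res_self, LocFam.comp_d, LocFam.ofHom_d, hDk, hβk]) W hW m
  -- step 2: overlaps
  choose tt htfin htsup using fun kl : K × K =>
    exists_inter_cover D i₀ (V kl.1) (V kl.2) (hVa kl.1) (hVa kl.2)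
  haveI : ∀ kl : K × K, Finite ↥(tt kl) := fun kl => (htfin kl).to_subtype
  have hWθle : ∀ θ : (Σ kl : K × K, ↥(tt kl)), θ.2.1.1 ≤ V θ.1.1 ⊓ V θ.1.2 := by
    intro θ
    rw [htsup θ.1]
    exact le_iSup₂ (f := fun (i : (D.obj i₀).affineOpens) (_ : i ∈ tt θ.1) =>
      (i : (D.obj i₀).Opens)) θ.2.1 θ.2.2
  have hWθ1 : ∀ θ : (Σ kl : K × K, ↥(tt kl)), θ.2.1.1 ≤ V θ.1.1 :=
    fun θ => (hWθle θ).trans inf_le_left
  have hWθ2 : ∀ θ : (Σ kl : K × K, ↥(tt kl)), θ.2.1.1 ≤ V θ.1.2 :=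
    fun θ => (hWθle θ).trans inf_le_right
  obtain ⟨j₂, a₂, hEq⟩ := exists_equalize_family D c hc i₀ G₀ F₀
    (Θ := Σ kl : K × K, ↥(tt kl)) j₁ (fun θ => θ.2.1.1) (fun θ => θ.2.1.2)
    (fun θ => (D₁ θ.1.1).d θ.2.1.1 (hWθ1 θ)) (fun θ => (D₁ θ.1.2).d θ.2.1.1 (hWθ2 θ))
    (fun θ r m => (D₁ θ.1.1).lin _ _ r m) (fun θ r m => (D₁ θ.1.2).lin _ _ r m)
    (fun θ m => by rw [hA, hA])
  -- step 3: the compatible families at level `j₂`
  obtain ⟨D₂, hD₂⟩ : ∃ D₂ : ∀ k, LocFam (V k) F₀ (PG D i₀ G₀ j₂),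
      ∀ (k : K) (W : (D.obj i₀).Opens) (hW : W ≤ V k) (m : Γ(F₀, W)),
        (D₂ k).d W hW m = (τm D i₀ G₀ a₂).app W ((D₁ k).d W hW m) :=
    ⟨fun k => (D₁ k).comp (τm D i₀ G₀ a₂), fun _ _ _ _ => rfl⟩
  have compat : ∀ (k l : K) (W : (D.obj i₀).Opens) (hk : W ≤ V k) (hl : W ≤ V l) (m : Γ(F₀, W)),
      (D₂ k).d W hk m = (D₂ l).d W hl m := by
    intro k l W hk hl m
    refine compat_of_cover F₀ (PG D i₀ G₀ j₂) (D₂ k) (D₂ l) (tt (k, l)) (htsup (k, l))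
      (fun i hi h1 h2 σ => ?_) W hk hl m
    rw [hD₂, hD₂]
    exact hEq ⟨(k, l), ⟨i, hi⟩⟩ σ
  -- step 4: glue
  obtain ⟨ψ₂, hψ₂⟩ := exists_hom_of_locFams V hcov F₀ (PG D i₀ G₀ j₂) D₂ compat
  refine ⟨j₂, ψ₂, ?_⟩
  refine Groth.Agent.Helper13ModBasis.hom_ext_basis
    (fun k : (Σ i, {W : (D.obj i₀).Opens // W ≤ V i}) => k.2.1) (isBasis_small V hcov) _ _
    fun k => ?_
  ext m
  change (βm D c i₀ G₀ j₂).app k.2.1 (ψ₂.app k.2.1 m) = ψ.app k.2.1 m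
  rw [hψ₂ k.1 k.2.1 k.2.2 m, hD₂, βm_τm_app D c i₀ G₀ a₂ k.2.1 _ hc]
  exact hA k.1 k.2.1 k.2.2 m

include hc in
theorem exists_descend [CompactSpace (D.obj i₀)] [QuasiSeparatedSpace (D.obj i₀)]
    (ψ : F₀ ⟶ PGlim D c i₀ G₀) :
    ∃ (j : Over i₀) (ψj : F₀ ⟶ PG D i₀ G₀ j), ψj ≫ βm D c i₀ G₀ j = ψ := by
  obtain ⟨s, hs⟩ := exists_finite_affine_cover (D.obj i₀)
  exact exists_descend_aux D c hc i₀ G₀ F₀ (K := {k // k ∈ s}) (fun k => k.1.1) (fun k => k.1.2)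
    hs.iSup_eq_top ψ

end geom

end Groth.Agent.Lib.Seat15.LimHom
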