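import Groth.Prelude.Def_EtAcyc
import Groth.Agent.Lib.Seat15StrictHens
import Groth.Agent.S0537

/-!
# `OnStrictLocalizations` and composition (helper15)

For a property `P` of morphisms of schemes with the "two out of three" property
`P a → (P b ↔ P (a ≫ b))`, and a surjective `g` whose strict localizations satisfy `P`, the strict
localizations of `h` satisfy `P` iff those of `g ≫ h` do.
-/

set_option autoImplicit false
set_option linter.style.haveILetI false
universe u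
open CategoryTheory CategoryTheory.Limits AlgebraicGeometry Opposite

namespace Groth.Agent.Lib.Seat15.LocAcycComp

open Groth.Agent.Lib.Seat15.StrictHens

theorem onStrictLocalizations_comp {X Y Z : Scheme.{u}} (g : X ⟶ Y) (h : Y ⟶ Z)
    (P : ∀ ⦃X' Y' : Scheme.{u}⦄, (X' ⟶ Y') → Prop)
    (hP : ∀ ⦃A B C : Scheme.{u}⦄ (a : A ⟶ B) (b : B ⟶ C), P a → P b → P (a ≫ b))
    (hgP : EtAcyc.OnStrictLocalizations g P) (hh : EtAcyc.OnStrictLocalizations h P) :
    EtAcyc.OnStrictLocalizations (g ≫ h) P := by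
  intro x RZ RX _ _ _ _ algZ locZ shZ algX locX shX algZX locZX hcompat
  letI algZ' : Algebra (Z.presheaf.stalk (h.base (g.base x))) RZ := algZ
  haveI locZ' : IsLocalHom (algebraMap (Z.presheaf.stalk (h.base (g.base x))) RZ) := locZ
  haveI shZ' : Hensel.IsStrictHenselization (Z.presheaf.stalk (h.base (g.base x))) RZ := shZ
  obtain ⟨RY, _, _, algY, locY, shY⟩ := Groth.Agent.S0537.result (Y.presheaf.stalk (g.base x))
  obtain ⟨ψ₂, hψ₂loc, hψ₂⟩ := exists_lift (S₁ := RY) (S₂ := RX) (g.stalkMap x).hom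
  have hcompat' : (algebraMap RZ RX).comp (algebraMap (Z.presheaf.stalk (h.base (g.base x))) RZ) =
      (algebraMap (X.presheaf.stalk x) RX).comp
        ((g.stalkMap x).hom.comp (h.stalkMap (g.base x)).hom) := by
    refine hcompat.trans ?_
    rw [Scheme.Hom.stalkMap_comp]
    rfl
  obtain ⟨ψ₁, hψ₁loc, hψ₁, hfac⟩ := exists_factor (S₁ := RZ) (S₂ := RY) (S₃ := RX)
    (h.stalkMap (g.base x)).hom (g.stalkMap x).hom (algebraMap RZ RX) hcompat' ψ₂ hψ₂
  have e : Spec.map (CommRingCat.ofHom (algebraMap RZ RX)) =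
      Spec.map (CommRingCat.ofHom ψ₂) ≫ Spec.map (CommRingCat.ofHom ψ₁) := by
    rw [← Spec.map_comp, ← CommRingCat.ofHom_comp, hfac]
  rw [e]
  refine hP _ _ ?_ ?_
  · letI : Algebra RY RX := ψ₂.toAlgebra
    exact hgP x RY RX hψ₂
  · letI : Algebra RZ RY := ψ₁.toAlgebra
    exact hh (g.base x) RZ RY hψ₁

theorem onStrictLocalizations_of_comp {X Y Z : Scheme.{u}} (g : X ⟶ Y) (h : Y ⟶ Z)
    (hg : Function.Surjective g.base)
    (P : ∀ ⦃X' Y' : Scheme.{u}⦄, (X' ⟶ Y') → Prop)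
    (hP : ∀ ⦃A B C : Scheme.{u}⦄ (a : A ⟶ B) (b : B ⟶ C), P a → P (a ≫ b) → P b)
    (hgP : EtAcyc.OnStrictLocalizations g P) (hgh : EtAcyc.OnStrictLocalizations (g ≫ h) P) :
    EtAcyc.OnStrictLocalizations h P := by
  intro y RZ RY _ _ _ _ algZ locZ shZ algY locY shY algZY locZY hcompat
  obtain ⟨x, rfl⟩ := hg y
  obtain ⟨RX, _, _, algX, locX, shX⟩ := Groth.Agent.S0537.result (X.presheaf.stalk x)
  obtain ⟨ψ₂, hψ₂loc, hψ₂⟩ := exists_lift (S₁ := RY) (S₂ := RX) (g.stalkMap x).hom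
  letI algZ' : Algebra (Z.presheaf.stalk ((g ≫ h).base x)) RZ := algZ
  haveI locZ' : IsLocalHom (algebraMap (Z.presheaf.stalk ((g ≫ h).base x)) RZ) := locZ
  haveI shZ' : Hensel.IsStrictHenselization (Z.presheaf.stalk ((g ≫ h).base x)) RZ := shZ
  have h1 : P (Spec.map (CommRingCat.ofHom ψ₂)) := by
    letI : Algebra RY RX := ψ₂.toAlgebra
    exact hgP x RY RX hψ₂
  have h2 : P (Spec.map (CommRingCat.ofHom (ψ₂.comp (algebraMap RZ RY)))) := by
    letI : Algebra RZ RX := (ψ₂.comp (algebraMap RZ RY)).toAlgebra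
    haveI : IsLocalHom (algebraMap RZ RX) :=
      RingHom.isLocalHom_comp ψ₂ (algebraMap RZ RY)
    refine hgh x RZ RX ?_
    change (ψ₂.comp (algebraMap RZ RY)).comp (algebraMap (Z.presheaf.stalk (h.base (g.base x))) RZ) = _
    rw [RingHom.comp_assoc, hcompat, ← RingHom.comp_assoc, hψ₂, Scheme.Hom.stalkMap_comp]
    rfl
  rw [CommRingCat.ofHom_comp, Spec.map_comp] at h2
  exact hP _ _ h1 h2

theorem onStrictLocalizations_comp_iff {X Y Z : Scheme.{u}} (g : X ⟶ Y) (h : Y ⟶ Z)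
    (hg : Function.Surjective g.base)
    (P : ∀ ⦃X' Y' : Scheme.{u}⦄, (X' ⟶ Y') → Prop)
    (hP : ∀ ⦃A B C : Scheme.{u}⦄ (a : A ⟶ B) (b : B ⟶ C), P a → (P b ↔ P (a ≫ b)))
    (hgP : EtAcyc.OnStrictLocalizations g P) :
    EtAcyc.OnStrictLocalizations h P ↔ EtAcyc.OnStrictLocalizations (g ≫ h) P :=
  ⟨onStrictLocalizations_comp g h P (fun _ _ _ a b ha hb => (hP a b ha).1 hb) hgP,
    onStrictLocalizations_of_comp g h hg P (fun _ _ _ a b ha hab => (hP a b ha).2 hab) hgP⟩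

end Groth.Agent.Lib.Seat15.LocAcycComp
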