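import Mathlib
import Groth.Agent.Lib.Helper3LocusBC
import Groth.Agent.Lib.Helper3LocusFam
import Groth.Agent.Lib.Helper3LocusPair
import Groth.Agent.Lib.Helper26FGZ
import Groth.Agent.Lib.Helper22LimBC
import Groth.Agent.Lib.Helper18Strict6
import Groth.Agent.Lib.Helper20FormalPull
import Groth.Agent.Lib.Helper20PullbackAff
import Groth.Agent.S0591
import Groth.Agent.S4788

/-!
# Loci of relations `P(X, F, k)` in families (seat 15)

Namespace `Groth.Agent.Lib.Seat15.LocusMod`.  Module analogue of `Helper3LocusMor`.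

* `locusMod_eq_preimage` : base change compatibility of `ConsProp.locusMod` for field-stable `P`.
* `FamMod P S E` : "`E` is the locus of `P` for a finitely presented family with a finitely presented module".
* `isLocusFam_famMod` : `FamMod P` is a locus family (`Helper3LocusFam.IsLocusFam`): stable under base change and
  approximable from Noetherian rings (via `S0591` for the scheme and `S4788` for the module).
-/

set_option autoImplicit false
set_option linter.style.haveILetI false
universe u
open CategoryTheory CategoryTheory.Limits AlgebraicGeometry Topology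

namespace Groth.Agent.Lib.Seat15.LocusMod

open Groth.Agent.Lib.Helper3.LocusBC Groth.Agent.Lib.Helper3.LocusFam Groth.Agent.Lib.Helper26.FGZ
  Groth.Agent.Lib.Helper3.LocusPair Groth.Agent.Lib.Helper22.LimBC

/-- a finitely presented quasi-coherent module is "coherent" in the sense of the prelude (q.c. of finite type). -/
theorem isCoh_of_isFP {X : Scheme.{u}} (F : X.Modules) [F.IsQuasicoherent] (hF : CohB1.IsFP F) :
    Coh.IsCoh F :=
  ⟨inferInstance, Groth.Agent.Helper18Strict.isFT_of_isFP F hF⟩

/-- the pullback of a coherent module (q.c. of finite type) is coherent. -/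
theorem isCoh_pullback {X Y : Scheme.{u}} (f : Y ⟶ X) (F : X.Modules) (hF : Coh.IsCoh F) :
    Coh.IsCoh ((Scheme.Modules.pullback f).obj F) := by
  haveI : F.IsQuasicoherent := hF.1
  haveI : SheafOfModules.IsFiniteType (R := X.ringCatSheaf) F := hF.2
  exact ⟨inferInstance, Groth.Agent.Lib.Helper20.FormalPull.isFiniteType_pullback f F⟩

/-- **Base change of loci.**  For a field-stable relation `P(X, F, k)`, a pullback square and a coherent module
`F` on `X`, the locus of the base-changed data is the preimage of the locus. -/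
theorem locusMod_eq_preimage {P : ∀ ⦃Y T : Scheme.{u}⦄, (Y ⟶ T) → Y.Modules → Prop}
    (hP : ConsProp.IsFieldStableMod P) {X S X' S' : Scheme.{u}} {u : X ⟶ S} {u' : X' ⟶ S'}
    {a : S' ⟶ S} {pX : X' ⟶ X} [LocallyOfFiniteType u] [QuasiCompact u]
    (hX : IsPullback pX u' u a) (F : X.Modules) (hF : Coh.IsCoh F) (F' : X'.Modules)
    (eF : F' ≅ (Scheme.Modules.pullback pX).obj F) :
    ConsProp.locusMod P u' F' = a ⁻¹' ConsProp.locusMod P u F := by
  ext s'
  obtain ⟨eX, hX1, hX2, h1⟩ := exists_fiber_lift hX s'
  refine (hP (u.fiberToSpecResidueField (a s')) (u'.fiberToSpecResidueField s') eX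
    (Spec.map (a.residueFieldMap s')) h1 ((Scheme.Modules.pullback (u.fiberι (a s'))).obj F)
    ((Scheme.Modules.pullback (u'.fiberι s')).obj F') (isCoh_pullback _ F hF) ?_).symm
  exact (Scheme.Modules.pullback (u'.fiberι s')).mapIso eF ≪≫
    (Scheme.Modules.pullbackComp (u'.fiberι s') pX).app F ≪≫
    (Scheme.Modules.pullbackCongr hX1.symm).app F ≪≫
    ((Scheme.Modules.pullbackComp eX (u.fiberι (a s'))).app F).symm

/-- the predicate "`E` is the locus of `P` for a finitely presented family with a finitely presented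
quasi-coherent module". -/
def FamMod (P : ∀ ⦃Y T : Scheme.{u}⦄, (Y ⟶ T) → Y.Modules → Prop) (S : Scheme.{u}) (E : Set S) :
    Prop :=
  ∃ (X : Scheme.{u}) (u : X ⟶ S) (F : X.Modules), LocallyOfFinitePresentation u ∧ QuasiCompact u ∧
    QuasiSeparated u ∧ F.IsQuasicoherent ∧ CohB1.IsFP F ∧ E = ConsProp.locusMod P u F

theorem isLocusFam_famMod {P : ∀ ⦃Y T : Scheme.{u}⦄, (Y ⟶ T) → Y.Modules → Prop}
    (hP : ConsProp.IsFieldStableMod P) : IsLocusFam (FamMod P) where
  bc := by
    rintro S S' a E ⟨X, u, F, h1, h2, h3, h4, h5, rfl⟩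
    haveI := h4
    refine ⟨pullback u a, pullback.snd u a, (Scheme.Modules.pullback (pullback.fst u a)).obj F,
      inferInstance, inferInstance, inferInstance, inferInstance,
      Groth.Agent.Helper18Strict.isFP_pullback _ F h5, ?_⟩
    exact (locusMod_eq_preimage hP (IsPullback.of_hasPullback u a) F (isCoh_of_isFP F h5) _
      (Iso.refl _)).symm
  approx := by
    rintro A E ⟨X, u, F, h1, h2, h3, h4, h5, rfl⟩
    haveI := h4
    obtain ⟨i, Xi, ui, qX, a1, a2, a3, hX⟩ :=
      @Groth.Agent.S0591.result _ _ _ (specDiagram A) (specCone A) (specIsLimit A) _ _ _ X u h1 h2 h3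
    haveI : CompactSpace Xi := QuasiCompact.compactSpace_of_compactSpace ui
    haveI : QuasiSeparatedSpace Xi := quasiSeparatedSpace_of_quasiSeparated ui
    haveI : ∀ {i j : (FGSub A)ᵒᵖ} (f : i ⟶ j), IsAffineHom ((specDiagram A).map f) :=
      fun f => inferInstance
    haveI : ∀ (j k : Over i) (f : j ⟶ k), IsAffineHom ((bcDiagram (specDiagram A) i ui).map f) :=
      fun j k f => inferInstance
    obtain ⟨j, -, Fj, hFjq, hFjfp, ⟨eF⟩⟩ :=
      @Groth.Agent.S4788.result _ _ _ (bcDiagram (specDiagram A) i ui) (bcCone i hX)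
        (isLimitBcCone i hX (specIsLimit A)) _ (Over.mk (𝟙 i)) _ _ F h4 h5
    haveI := hFjq
    haveI : LocallyOfFinitePresentation (dSnd (specDiagram A) i ui j) :=
      MorphismProperty.of_isPullback (isPullback_d (specDiagram A) i ui j) a1
    haveI : QuasiCompact (dSnd (specDiagram A) i ui j) :=
      MorphismProperty.of_isPullback (isPullback_d (specDiagram A) i ui j) a2
    haveI : QuasiSeparated (dSnd (specDiagram A) i ui j) :=
      MorphismProperty.of_isPullback (isPullback_d (specDiagram A) i ui j) a3
    have hfam : FamMod P ((specDiagram A).obj j.left)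
        (ConsProp.locusMod P (dSnd (specDiagram A) i ui j) Fj) :=
      ⟨_, _, Fj, inferInstance, inferInstance, inferInstance, hFjq, hFjfp, rfl⟩
    have hloc : ConsProp.locusMod P u F =
        (specCone A).π.app j.left ⁻¹' ConsProp.locusMod P (dSnd (specDiagram A) i ui j) Fj :=
      locusMod_eq_preimage hP (isPullback_bcπ i hX j) Fj (isCoh_of_isFP Fj hFjfp) F eF.symm
    exact ⟨CommRingCat.of j.left.unop.1, CommRingCat.ofHom (algebraMap j.left.unop.1 A), _,
      noeth_fgSub A j.left.unop, hfam, hloc⟩

end Groth.Agent.Lib.Seat15.LocusMod
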