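import Mathlib
import Groth.Agent.Lib.Helper5Conductor
import Groth.Agent.Lib.Helper4KrullAkizuki2
import Groth.Agent.Lib.Helper7ComplKaehler
import Groth.Agent.Lib.Helper18ComplProd
import Groth.Agent.Lib.Helper3HenselC

/-!
# Normalisation of a complete one-dimensional local domain (seat 15)

`exists_dvr`: let `D` be a complete Noetherian local domain of dimension at most one which is not
a field.  Then the integral closure `V` of `D` in its fraction field is a discrete valuation ring,
finite over `D`, and `D → V` is an injective local homomorphism.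

`exists_dvr_quotient`: for a prime `p` of a complete Noetherian local ring `A` with
`dim A/p ≤ 1`, `p` not maximal, there is a local homomorphism `A → V` to a discrete valuation ring,
finite, with kernel `p`.
-/

set_option autoImplicit false
set_option linter.style.haveILetI false
universe u

namespace Groth.Agent.Lib.Seat15.NormDVR

open IsLocalRing

section Domain

variable (D : Type u) [CommRing D] [IsDomain D] [IsNoetherianRing D] [IsLocalRing D]

/-- a domain which is a finite product of local rings, is local -/
lemma isLocalRing_of_pi {S : Type u} [CommRing S] [IsDomain S] {ι : Type u} [Fintype ι]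
    (B : ι → Type u) [∀ i, CommRing (B i)] [∀ i, IsLocalRing (B i)] (e : S ≃+* (∀ i, B i)) :
    IsLocalRing S := by
  classical
  have hne : Nonempty ι := by
    by_contra hempty
    rw [not_nonempty_iff] at hempty
    have h01 : e (0 : S) = e 1 := Subsingleton.elim _ _
    exact zero_ne_one (e.injective h01)
  have hsub : Subsingleton ι := by
    refine ⟨fun i j => ?_⟩
    by_contra hij
    have h1 : (Pi.single i (1 : B i) : ∀ i, B i) * Pi.single j (1 : B j) = 0 := by
      ext l
      simp only [Pi.mul_apply, Pi.zero_apply]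
      by_cases hl : l = i
      · subst hl
        rw [Pi.single_eq_of_ne hij, mul_zero]
      · rw [Pi.single_eq_of_ne hl, zero_mul]
    have h2 : e.symm (Pi.single i (1 : B i)) * e.symm (Pi.single j (1 : B j)) = 0 := by
      rw [← map_mul, h1, map_zero]
    rcases mul_eq_zero.mp h2 with h | h
    · have h3 := congrArg e h
      rw [e.apply_symm_apply, map_zero] at h3
      have h4 := congrFun h3 i
      rw [Pi.single_eq_same, Pi.zero_apply] at h4
      exact one_ne_zero h4
    · have h3 := congrArg e h
      rw [e.apply_symm_apply, map_zero] at h3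
      have h4 := congrFun h3 j
      rw [Pi.single_eq_same, Pi.zero_apply] at h4
      exact one_ne_zero h4
  obtain ⟨i₀⟩ := hne
  haveI : Unique ι := { default := i₀, uniq := fun i => Subsingleton.elim _ _ }
  exact RingEquiv.isLocalRing ((e.trans (RingEquiv.piUnique B)).symm)

theorem exists_dvr [IsAdicComplete (maximalIdeal D) D] (hdim : ringKrullDim D ≤ 1)
    (hD : ¬ IsField D) :
    ∃ (V : Type u) (_ : CommRing V) (_ : IsDomain V) (_ : IsDiscreteValuationRing V)
      (ψ : D →+* V), Function.Injective ψ ∧ IsLocalHom ψ ∧ ψ.Finite := by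
  classical
  let K := FractionRing D
  let V : Subalgebra D K := integralClosure D K
  have hDed : IsDedekindDomain V :=
    Groth.Agent.Lib.Helper5.Conductor.isDedekindDomain_integralClosure hdim
  have hNoeth : IsNoetherianRing V :=
    Groth.Agent.Lib.Helper5.Conductor.isNoetherianRing_integralClosure hdim
  have hinj : Function.Injective (algebraMap D V) :=
    Groth.Agent.Lib.Helper5.Conductor.algebraMap_integralClosure_injective
  haveI hInt : Algebra.IsIntegral D V := integralClosure.AlgebraIsIntegral
  haveI hFaith : FaithfulSMul D V := (faithfulSMul_iff_algebraMap_injective D V).mpr hinj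
  -- a nonzero element of the maximal ideal
  obtain ⟨a, ham, ha0⟩ : ∃ a ∈ maximalIdeal D, a ≠ 0 := by
    by_contra hcon
    push Not at hcon
    apply hD
    rw [IsLocalRing.isField_iff_maximalIdeal_eq, eq_bot_iff]
    intro x hx
    exact hcon x hx
  have hfinq : Module.Finite D (V ⧸ Ideal.span {algebraMap D V a}) :=
    Groth.Agent.Lib.Helper4.KrullAkizuki.finite_quotient_span_singleton
      (fun _ hb =>
        Groth.Agent.Lib.Helper4.KrullAkizuki.isArtinian_quotient_of_ringKrullDim_le_one hdim hb)
      V ha0
  -- the extended maximal ideal is proper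
  have hmV : (maximalIdeal D).map (algebraMap D V) ≠ ⊤ := by
    obtain ⟨Q, hQ, hQm⟩ := Ideal.exists_ideal_over_maximal_of_isIntegral (S := V)
      (maximalIdeal D) (by
        rw [(RingHom.injective_iff_ker_eq_bot _).mp hinj]
        exact bot_le)
    intro htop
    have hle : (maximalIdeal D).map (algebraMap D V) ≤ Q := by
      rw [Ideal.map_le_iff_le_comap, hQm]
    rw [htop] at hle
    exact hQ.ne_top (top_le_iff.mp hle)
  -- Hausdorff
  haveI hHaus : IsHausdorff (maximalIdeal D) V := by
    refine ⟨fun x hx => ?_⟩
    have hmem : ∀ n : ℕ, x ∈ ((maximalIdeal D).map (algebraMap D V)) ^ n := by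
      intro n
      have h1 := hx n
      rw [SModEq.zero] at h1
      rw [← Ideal.map_pow]
      have h2 := Ideal.smul_top_eq_map (R := D) (S := V) (maximalIdeal D ^ n)
      rw [h2] at h1
      exact h1
    have h3 := Ideal.iInf_pow_eq_bot_of_isDomain _ hmV
    have h4 : x ∈ ⨅ i : ℕ, ((maximalIdeal D).map (algebraMap D V)) ^ i := by
      rw [Ideal.mem_iInf]
      exact hmem
    rw [h3] at h4
    exact h4
  -- finiteness by the complete Nakayama lemma
  haveI hfin : Module.Finite D V := by
    obtain ⟨r, f, hf⟩ := Module.Finite.exists_fin' D (V ⧸ Ideal.span {algebraMap D V a})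
    let π : V →ₐ[D] V ⧸ Ideal.span {algebraMap D V a} := Ideal.Quotient.mkₐ D _
    have hπ : Function.Surjective π := Ideal.Quotient.mkₐ_surjective D _
    choose l hl using fun i : Fin r => hπ (f (Pi.single i 1))
    refine Groth.Agent.Lib.Helper7.ComplKaehler.finite_of_isHausdorff_of_finite_quotient
      (maximalIdeal D) l ?_
    intro y
    obtain ⟨c, hc⟩ := hf (π y)
    refine ⟨c, ?_⟩
    have h2 : f c = ∑ i, c i • f (Pi.single i 1) := by
      have h2' : c = ∑ i, c i • (Pi.single i (1 : D) : Fin r → D) := by
        ext j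
        simp [Finset.sum_apply, Pi.single_apply]
      conv_lhs => rw [h2']
      rw [map_sum]
      refine Finset.sum_congr rfl fun i _ => ?_
      rw [map_smul]
    have h1 : π (y - ∑ i, c i • l i) = 0 := by
      rw [map_sub, map_sum, ← hc, h2, ← Finset.sum_sub_distrib]
      refine Finset.sum_eq_zero fun i _ => ?_
      rw [map_smul, hl, sub_self]
    have h3 : y - ∑ i, c i • l i ∈ Ideal.span {algebraMap D V a} := by
      rw [← Ideal.Quotient.eq_zero_iff_mem]
      exact h1
    rw [Ideal.smul_top_eq_map]
    show y - ∑ i, c i • l i ∈ (maximalIdeal D).map (algebraMap D V)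
    refine (Ideal.span_le.mpr ?_) h3
    rintro _ rfl
    exact Ideal.mem_map_of_mem _ ham
  -- `V` is local
  haveI : HenselianLocalRing D :=
    { is_henselian := fun f hf a₀ h₁ h₂ =>
        (inferInstance : HenselianRing D (maximalIdeal D)).is_henselian f hf a₀ h₁
          (h₂.map (Ideal.Quotient.mk (maximalIdeal D))) }
  obtain ⟨ι, hι, B, hB, hloc, ⟨Φ⟩⟩ :=
    Groth.Agent.Lib.Helper3.Hensel.exists_pi_isLocalRing_of_finite D V
  haveI hVloc : IsLocalRing V := isLocalRing_of_pi B Φ
  -- `V` is not a field
  have hVnf : ¬ IsField V := fun hf => hD (isField_of_isIntegral_of_isField hinj hf)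
  have hdvr : IsDiscreteValuationRing V :=
    ((IsDiscreteValuationRing.TFAE V hVnf).out 0 2).mpr hDed
  refine ⟨V, inferInstance, inferInstance, hdvr, algebraMap D V, hinj, inferInstance, ?_⟩
  exact RingHom.finite_algebraMap.mpr hfin

end Domain

section Quotient

variable (A : Type u) [CommRing A] [IsNoetherianRing A] [IsLocalRing A]
  [IsAdicComplete (maximalIdeal A) A]

/-- the data of a finite local homomorphism to a discrete valuation ring with kernel `p` -/
structure DVRQuot (p : Ideal A) where
  V : Type u
  [cr : CommRing V]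
  [dom : IsDomain V]
  [dvr : IsDiscreteValuationRing V]
  φ : A →+* V
  loc : IsLocalHom φ
  fin : φ.Finite
  ker : RingHom.ker φ = p

theorem exists_dvr_quotient (p : Ideal A) [hp : p.IsPrime] (hdim : ringKrullDim (A ⧸ p) ≤ 1)
    (hpm : p ≠ maximalIdeal A) : Nonempty (DVRQuot A p) := by
  haveI : IsLocalRing (A ⧸ p) :=
    IsLocalRing.of_surjective' (Ideal.Quotient.mk p) Ideal.Quotient.mk_surjective
  obtain ⟨hN, hC⟩ := Groth.Agent.Lib.Helper18ComplProd.isAdicComplete_of_finite A (A ⧸ p)
  have hnf : ¬ IsField (A ⧸ p) := by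
    intro hf
    have hmax : p.IsMaximal := Ideal.Quotient.maximal_of_isField p hf
    exact hpm (IsLocalRing.eq_maximalIdeal hmax)
  obtain ⟨V, hcr, hdom, hdvr, ψ, hinj, hloc, hfin⟩ := exists_dvr (A ⧸ p) hdim hnf
  have hmkloc : IsLocalHom (Ideal.Quotient.mk p) := by
    refine ⟨fun a ha => ?_⟩
    by_contra hna
    have ham : a ∈ maximalIdeal A := (IsLocalRing.mem_maximalIdeal a).mpr hna
    have hle : p ≤ maximalIdeal A := IsLocalRing.le_maximalIdeal hp.ne_top
    -- the image of the maximal ideal is a proper ideal
    have h1 : Ideal.Quotient.mk p a ∈ (maximalIdeal A).map (Ideal.Quotient.mk p) :=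
      Ideal.mem_map_of_mem _ ham
    have h2 : (maximalIdeal A).map (Ideal.Quotient.mk p) = ⊤ :=
      Ideal.eq_top_of_isUnit_mem _ h1 ha
    have h3 : ((maximalIdeal A).map (Ideal.Quotient.mk p)).comap (Ideal.Quotient.mk p) =
        maximalIdeal A := by
      rw [Ideal.comap_map_of_surjective _ Ideal.Quotient.mk_surjective, ← RingHom.ker_eq_comap_bot,
        Ideal.mk_ker]
      exact sup_eq_left.mpr hle
    rw [h2, Ideal.comap_top] at h3
    exact (maximalIdeal.isMaximal A).ne_top h3.symm
  refine ⟨{ V := V, φ := ψ.comp (Ideal.Quotient.mk p), loc := ?_, fin := ?_, ker := ?_ }⟩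
  · exact RingHom.isLocalHom_comp ψ (Ideal.Quotient.mk p)
  · exact RingHom.Finite.comp hfin
      (RingHom.Finite.of_surjective _ Ideal.Quotient.mk_surjective)
  · ext x
    rw [RingHom.mem_ker, RingHom.comp_apply, map_eq_zero_iff ψ hinj,
      Ideal.Quotient.eq_zero_iff_mem]

end Quotient

end Groth.Agent.Lib.Seat15.NormDVR
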