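import Groth.Agent.Lib.Helper13ModGlue

/-!
# Generator calculus for pullbacks of modules (seat 15)

Namespace `Groth.Agent.Lib.Seat15.PbSec`.  Builds on `Helper13PullbackUnit.unitSec`
(`Γ(F, V) →+ Γ(f^*F, U)` for `U ≤ f⁻¹V`: adjunction unit followed by restriction).

* `unitSec_naturality` : `(f^*δ)(unitSec x) = unitSec (δ x)`.
* `unitSec_res` : compatibility with restrictions.
* `homEquiv_app` : sections of the transpose of `h : f^*F ⟶ M` : `h♭(V)(x) = h(f⁻¹V)(unitSec x)`.
* `counit_unitSec` : `counit_M (unitSec_{f_* M} y) = y`.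
* `pullbackComp_unitSec` : `pullbackComp (unitSec_q (unitSec_p x)) = unitSec_{q ≫ p} x`.
* `pullbackCongr_unitSec`.
-/

set_option autoImplicit false
set_option linter.style.haveILetI false
universe u
open CategoryTheory CategoryTheory.Limits AlgebraicGeometry Opposite TopologicalSpace

namespace Groth.Agent.Lib.Seat15.PbSec

open Groth.Agent.Lib.Helper6 Groth.Agent.Helper13PullbackUnit

section basic
variable {X Y : Scheme.{u}} (f : Y ⟶ X)

/-- the unit on sections -/
noncomputable abbrev unitApp (F : X.Modules) (V : X.Opens) :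
    Γ(F, V) →+ Γ((Scheme.Modules.pullback f).obj F, f ⁻¹ᵁ V) :=
  (((Scheme.Modules.pullbackPushforwardAdjunction f).unit.app F).app V).hom

theorem unitSec_eq_res (F : X.Modules) {V : X.Opens} {U : Y.Opens} (hle : U ≤ f ⁻¹ᵁ V)
    (x : Γ(F, V)) :
    unitSec f F hle x = res ((Scheme.Modules.pullback f).obj F) hle (unitApp f F V x) := rfl

theorem unitSec_self (F : X.Modules) (V : X.Opens) (x : Γ(F, V)) :
    unitSec f F (le_refl (f ⁻¹ᵁ V)) x = unitApp f F V x := by
  rw [unitSec_eq_res]
  exact Groth.Agent.Helper13ModGlue.res_self _ _ _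

theorem app_res {F G : X.Modules} (δ : F ⟶ G) {U V : X.Opens} (h : V ≤ U) (x : Γ(F, U)) :
    δ.app V (res F h x) = res G h (δ.app U x) := by
  have n := δ.mapPresheaf.naturality (homOfLE h).op
  have e := CategoryTheory.congr_fun n x
  simp only [Scheme.Modules.mapPresheaf_app, ConcreteCategory.comp_apply] at e
  exact e

theorem unitApp_naturality {F G : X.Modules} (δ : F ⟶ G) (V : X.Opens) (x : Γ(F, V)) :
    ((Scheme.Modules.pullback f).map δ).app (f ⁻¹ᵁ V) (unitApp f F V x) =
      unitApp f G V (δ.app V x) := by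
  have n := (Scheme.Modules.pullbackPushforwardAdjunction f).unit.naturality δ
  have e := congrArg (fun k => (Scheme.Modules.Hom.app k V) x) n
  exact e.symm

theorem unitSec_naturality {F G : X.Modules} (δ : F ⟶ G) {V : X.Opens} {U : Y.Opens}
    (hle : U ≤ f ⁻¹ᵁ V) (x : Γ(F, V)) :
    ((Scheme.Modules.pullback f).map δ).app U (unitSec f F hle x) =
      unitSec f G hle (δ.app V x) := by
  rw [unitSec_eq_res, unitSec_eq_res, app_res, unitApp_naturality]

theorem unitApp_res (F : X.Modules) {V V' : X.Opens} (hV : V' ≤ V) (x : Γ(F, V)) :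
    unitApp f F V' (res F hV x) =
      res ((Scheme.Modules.pullback f).obj F) (f.preimage_mono hV) (unitApp f F V x) := by
  exact app_res ((Scheme.Modules.pullbackPushforwardAdjunction f).unit.app F) hV x

theorem unitSec_res (F : X.Modules) {V V' : X.Opens} {U U' : Y.Opens} (hle : U ≤ f ⁻¹ᵁ V)
    (hle' : U' ≤ f ⁻¹ᵁ V') (hV : V' ≤ V) (hU : U' ≤ U) (x : Γ(F, V)) :
    res ((Scheme.Modules.pullback f).obj F) hU (unitSec f F hle x) =
      unitSec f F hle' (res F hV x) := by
  rw [unitSec_eq_res, unitSec_eq_res, unitApp_res, res_res, res_res]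

/-- sections of the transpose of a morphism out of a pullback -/
theorem homEquiv_app {F : X.Modules} {M : Y.Modules} (h : (Scheme.Modules.pullback f).obj F ⟶ M)
    (V : X.Opens) (x : Γ(F, V)) :
    (((Scheme.Modules.pullbackPushforwardAdjunction f).homEquiv F M h).app V) x =
      h.app (f ⁻¹ᵁ V) (unitApp f F V x) := by
  rw [Adjunction.homEquiv_unit]
  rfl

/-- triangle identity on sections -/
theorem counit_unitApp (M : Y.Modules) (V : X.Opens)
    (y : Γ((Scheme.Modules.pushforward f).obj M, V)) :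
    ((Scheme.Modules.pullbackPushforwardAdjunction f).counit.app M).app (f ⁻¹ᵁ V)
      (unitApp f ((Scheme.Modules.pushforward f).obj M) V y) = y := by
  have t := (Scheme.Modules.pullbackPushforwardAdjunction f).right_triangle_components M
  have e := congrArg (fun k => (Scheme.Modules.Hom.app k V) y) t
  exact e

end basic

section comp
variable {X Y Z : Scheme.{u}} (q : Z ⟶ Y) (p : Y ⟶ X)

theorem pullbackComp_inv_unitApp (G : X.Modules) (V : X.Opens) (x : Γ(G, V)) :
    ((Scheme.Modules.pullbackComp q p).inv.app G).app ((q ≫ p) ⁻¹ᵁ V) (unitApp (q ≫ p) G V x) =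
      unitApp q ((Scheme.Modules.pullback p).obj G) (p ⁻¹ᵁ V) (unitApp p G V x) := by
  have h := unit_conjugateEquiv
    ((Scheme.Modules.pullbackPushforwardAdjunction p).comp
      (Scheme.Modules.pullbackPushforwardAdjunction q))
    (Scheme.Modules.pullbackPushforwardAdjunction (q ≫ p))
    (Scheme.Modules.pullbackComp q p).inv G
  rw [Scheme.Modules.conjugateEquiv_pullbackComp_inv] at h
  have e := congrArg (fun k => (Scheme.Modules.Hom.app k V) x) h
  exact e.symm

theorem pullbackComp_hom_unitApp (G : X.Modules) (V : X.Opens) (x : Γ(G, V)) :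
    ((Scheme.Modules.pullbackComp q p).hom.app G).app ((q ≫ p) ⁻¹ᵁ V)
      (unitApp q ((Scheme.Modules.pullback p).obj G) (p ⁻¹ᵁ V) (unitApp p G V x)) =
      unitApp (q ≫ p) G V x := by
  rw [← pullbackComp_inv_unitApp]
  have h : (Scheme.Modules.pullbackComp q p).inv.app G ≫ (Scheme.Modules.pullbackComp q p).hom.app G
      = 𝟙 _ := (Scheme.Modules.pullbackComp q p).inv_hom_id_app G
  have e := congrArg (fun k => (Scheme.Modules.Hom.app k ((q ≫ p) ⁻¹ᵁ V)) (unitApp (q ≫ p) G V x)) h
  exact e

end comp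

section congr
variable {X Y : Scheme.{u}} {f g : Y ⟶ X} (w : f = g)

theorem pullbackCongr_hom_unitApp (G : X.Modules) (V : X.Opens) (x : Γ(G, V)) :
    ((Scheme.Modules.pullbackCongr w).hom.app G).app (g ⁻¹ᵁ V)
      (res ((Scheme.Modules.pullback f).obj G) (by subst w; exact le_rfl) (unitApp f G V x)) =
      unitApp g G V x := by
  subst w
  rw [Groth.Agent.Helper13ModGlue.res_self]
  rfl

end congr

section cmp
variable {X Y Z : Scheme.{u}} (q : Z ⟶ Y) (p : Y ⟶ X) (r : Z ⟶ X) (w : q ≫ p = r)

/-- the canonical isomorphism `q^* p^* ≅ r^*` for `q ≫ p = r`. -/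
noncomputable def can :
    Scheme.Modules.pullback p ⋙ Scheme.Modules.pullback q ≅ Scheme.Modules.pullback r :=
  Scheme.Modules.pullbackComp q p ≪≫ Scheme.Modules.pullbackCongr w

include w in
theorem preimage_le (V : X.Opens) : r ⁻¹ᵁ V ≤ q ⁻¹ᵁ (p ⁻¹ᵁ V) := by
  subst w; exact le_rfl

theorem can_hom_unitSec (G : X.Modules) (V : X.Opens) (x : Γ(G, V)) :
    ((can q p r w).hom.app G).app (r ⁻¹ᵁ V)
      (unitSec q ((Scheme.Modules.pullback p).obj G) (preimage_le q p r w V) (unitApp p G V x)) =
      unitApp r G V x := by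
  subst w
  have h : (can q p (q ≫ p) rfl).hom.app G = (Scheme.Modules.pullbackComp q p).hom.app G := by
    simp [can, Scheme.Modules.pullbackCongr]
  rw [h]
  refine Eq.trans (congrArg _ (unitSec_self q _ (p ⁻¹ᵁ V) _)) ?_
  exact pullbackComp_hom_unitApp q p G V x

theorem can_inv_unitApp (G : X.Modules) (V : X.Opens) (x : Γ(G, V)) :
    ((can q p r w).inv.app G).app (r ⁻¹ᵁ V) (unitApp r G V x) =
      unitSec q ((Scheme.Modules.pullback p).obj G) (preimage_le q p r w V) (unitApp p G V x) := by
  rw [← can_hom_unitSec q p r w G V x]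
  have h : (can q p r w).hom.app G ≫ (can q p r w).inv.app G = 𝟙 _ :=
    (can q p r w).hom_inv_id_app G
  have e := congrArg (fun k => (Scheme.Modules.Hom.app k (r ⁻¹ᵁ V))
    (unitSec q ((Scheme.Modules.pullback p).obj G) (preimage_le q p r w V) (unitApp p G V x))) h
  exact e

/-- the comparison `p_* p^* G ⟶ r_* r^* G` for `q ≫ p = r`. -/
noncomputable def cmp (G : X.Modules) :
    (Scheme.Modules.pushforward p).obj ((Scheme.Modules.pullback p).obj G) ⟶
      (Scheme.Modules.pushforward r).obj ((Scheme.Modules.pullback r).obj G) :=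
  (Scheme.Modules.pullbackPushforwardAdjunction r).homEquiv _ _
    ((can q p r w).inv.app _ ≫ (Scheme.Modules.pullback q).map
      ((Scheme.Modules.pullbackPushforwardAdjunction p).counit.app _) ≫ (can q p r w).hom.app G)

/-- **transposition**: the transpose of the transported pullback of `h` is `h♭ ≫ cmp`. -/
theorem homEquiv_transport {F G : X.Modules}
    (h : (Scheme.Modules.pullback p).obj F ⟶ (Scheme.Modules.pullback p).obj G) :
    (Scheme.Modules.pullbackPushforwardAdjunction r).homEquiv _ _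
      ((can q p r w).inv.app F ≫ (Scheme.Modules.pullback q).map h ≫ (can q p r w).hom.app G) =
    (Scheme.Modules.pullbackPushforwardAdjunction p).homEquiv _ _ h ≫ cmp q p r w G := by
  unfold cmp
  rw [← Adjunction.homEquiv_naturality_left]
  congr 1
  have n := (can q p r w).inv.naturality
    ((Scheme.Modules.pullbackPushforwardAdjunction p).homEquiv _ _ h)
  simp only [Functor.comp_map] at n
  rw [reassoc_of% n]
  congr 1
  rw [← Category.assoc _ _ ((can q p r w).hom.app G), ← Functor.map_comp]
  congr 2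
  have e := (Scheme.Modules.pullbackPushforwardAdjunction p).homEquiv_counit (X := F)
    (g := (Scheme.Modules.pullbackPushforwardAdjunction p).homEquiv _ _ h)
  rw [Equiv.symm_apply_apply] at e
  exact e

theorem cmp_app (G : X.Modules) (V : X.Opens)
    (y : Γ((Scheme.Modules.pushforward p).obj ((Scheme.Modules.pullback p).obj G), V)) :
    (cmp q p r w G).app V y =
      ((can q p r w).hom.app G).app (r ⁻¹ᵁ V)
        (unitSec q ((Scheme.Modules.pullback p).obj G) (preimage_le q p r w V) y) := by
  unfold cmp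
  erw [homEquiv_app]
  change ((can q p r w).hom.app G).app (r ⁻¹ᵁ V)
        (((Scheme.Modules.pullback q).map
          ((Scheme.Modules.pullbackPushforwardAdjunction p).counit.app _)).app (r ⁻¹ᵁ V)
          (((can q p r w).inv.app _).app (r ⁻¹ᵁ V) (unitApp r _ V y))) = _
  rw [can_inv_unitApp]
  have e := unitSec_naturality q ((Scheme.Modules.pullbackPushforwardAdjunction p).counit.app
    ((Scheme.Modules.pullback p).obj G)) (preimage_le q p r w V) (unitApp p _ V y)
  refine congrArg _ (e.trans ?_)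
  exact congrArg _ (counit_unitApp p _ V y)

end cmp

section cmp2
variable {X Y Z : Scheme.{u}} (q : Z ⟶ Y) (p : Y ⟶ X) (r : Z ⟶ X) (w : q ≫ p = r)

/-- `cmp` on sections, typed on the sections of the pullbacks over the preimages. -/
noncomputable def cmpSec (G : X.Modules) (V : X.Opens) :
    Γ((Scheme.Modules.pullback p).obj G, p ⁻¹ᵁ V) →+ Γ((Scheme.Modules.pullback r).obj G, r ⁻¹ᵁ V) :=
  show Γ((Scheme.Modules.pushforward p).obj ((Scheme.Modules.pullback p).obj G), V) →+
    Γ((Scheme.Modules.pushforward r).obj ((Scheme.Modules.pullback r).obj G), V) from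
    ((cmp q p r w G).app V).hom

theorem cmpSec_eq (G : X.Modules) (V : X.Opens)
    (y : Γ((Scheme.Modules.pullback p).obj G, p ⁻¹ᵁ V)) :
    cmpSec q p r w G V y = ((can q p r w).hom.app G).app (r ⁻¹ᵁ V)
        (unitSec q ((Scheme.Modules.pullback p).obj G) (preimage_le q p r w V) y) :=
  cmp_app q p r w G V y

theorem cmpSec_unitApp (G : X.Modules) (V : X.Opens) (x : Γ(G, V)) :
    cmpSec q p r w G V (unitApp p G V x) = unitApp r G V x := by
  rw [cmpSec_eq]
  exact can_hom_unitSec q p r w G V x

theorem cmpSec_smul (G : X.Modules) (V : X.Opens) (s : Γ(Y, p ⁻¹ᵁ V))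
    (y : Γ((Scheme.Modules.pullback p).obj G, p ⁻¹ᵁ V)) :
    cmpSec q p r w G V (s • y) =
      (q.appLE (p ⁻¹ᵁ V) (r ⁻¹ᵁ V) (preimage_le q p r w V) s) • cmpSec q p r w G V y := by
  rw [cmpSec_eq, cmpSec_eq, unitSec_smul, Scheme.Modules.Hom.app_smul]

end cmp2

end Groth.Agent.Lib.Seat15.PbSec
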