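import Mathlib.Algebra.Homology.SpectralSequence.Basic
import Mathlib.Algebra.Homology.ShortComplex.ModuleCat
import Mathlib.Algebra.Category.ModuleCat.Abelian
import Mathlib.RingTheory.Length
import Mathlib.Algebra.Ring.NegOnePow
import Mathlib.Algebra.BigOperators.Group.Finset.Basic
import Mathlib.Algebra.BigOperators.Finprod

set_option autoImplicit false
universe u

open CategoryTheory CategoryTheory.Limits

namespace Groth.Agent.Lib.Seat15.SSEuler

variable {A : Type u} [Ring A]

/-- length of the source of a linear map = length of kernel + length of range -/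
lemma length_eq_ker_add_range {M N : Type*} [AddCommGroup M] [Module A M] [AddCommGroup N]
    [Module A N] (g : M →ₗ[A] N) :
    Module.length A M = Module.length A (LinearMap.ker g) + Module.length A (LinearMap.range g) :=
  Module.length_eq_add_of_exact (LinearMap.ker g).subtype g.rangeRestrict
    (Submodule.subtype_injective _) g.surjective_rangeRestrict
    (by
      intro x
      constructor
      · intro hx
        refine ⟨⟨x, ?_⟩, rfl⟩
        have := congrArg Subtype.val hx
        simpa using this
      · rintro ⟨y, rfl⟩
        ext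
        simp)

/-- length of a submodule = length of a smaller submodule + length of quotient -/
lemma length_eq_sub_add_quot {M : Type*} [AddCommGroup M] [Module A M] (N : Submodule A M) :
    Module.length A M = Module.length A N + Module.length A (M ⧸ N) :=
  Module.length_eq_add_of_exact N.subtype N.mkQ (Submodule.subtype_injective _)
    (Submodule.mkQ_surjective _) (LinearMap.exact_subtype_mkQ N)

/-- For a short complex of modules: `ℓ(X₂) = ℓ(range f) + ℓ(H) + ℓ(range g)`. -/
lemma length_X₂ (S : ShortComplex (ModuleCat.{u} A)) :
    Module.length A S.X₂ = Module.length A (LinearMap.range S.f.hom) +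
      Module.length A S.homology + Module.length A (LinearMap.range S.g.hom) := by
  rw [length_eq_ker_add_range S.g.hom]
  congr 1
  rw [length_eq_sub_add_quot (LinearMap.range S.moduleCatToCycles)]
  congr 1
  · -- range of toCycles ≃ range f
    have e : LinearMap.range S.moduleCatToCycles ≃ₗ[A] LinearMap.range S.f.hom := by
      refine LinearEquiv.ofBijective
        ((LinearMap.ker S.g.hom).subtype.restrict (p := LinearMap.range S.moduleCatToCycles)
          (q := LinearMap.range S.f.hom) ?_) ⟨?_, ?_⟩
      · rintro _ ⟨x, rfl⟩
        exact ⟨x, rfl⟩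
      · intro a b hab
        have := congrArg Subtype.val hab
        simp only [LinearMap.coe_restrict_apply, Submodule.subtype_apply] at this
        exact Subtype.ext (Subtype.ext this)
      · rintro ⟨_, x, rfl⟩
        exact ⟨⟨S.moduleCatToCycles x, x, rfl⟩, rfl⟩
    exact e.length_eq
  · exact (S.moduleCatHomologyIso.toLinearEquiv).length_eq.symm


section Sum

variable {α : Type*} [AddGroup α]

/-- the cancellation of boundary terms in an alternating sum -/
lemma sum_cancel (a : α) (s : Finset α) (ε : α → ℤ) (B : α → ℤ)
    (hε : ∀ i, ε (i + a) = - ε i) (hB : ∀ j, j ∉ s → B j = 0) (hB' : ∀ i, i ∉ s → B (i + a) = 0) :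
    (s.sum fun i => ε i * B i) + (s.sum fun i => ε i * B (i + a)) = 0 := by
  have h1 : (s.sum fun i => ε i * B i) = ∑ᶠ i, ε i * B i := by
    symm
    apply finsum_eq_sum_of_support_subset
    intro i hi
    by_contra h
    exact hi (by simp [hB i h])
  have h2 : (s.sum fun i => ε i * B (i + a)) = ∑ᶠ i, ε i * B (i + a) := by
    symm
    apply finsum_eq_sum_of_support_subset
    intro i hi
    by_contra h
    exact hi (by simp [hB' i h])
  have h3 : (∑ᶠ i, ε i * B (i + a)) = ∑ᶠ j, (-(ε j * B j)) := by
    rw [← finsum_comp_equiv (Equiv.addRight a) (f := fun j => -(ε j * B j))]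
    apply finsum_congr
    intro i
    simp [hε]
  rw [h1, h2, h3, finsum_neg_distrib]
  simp

end Sum

section Complex

variable {α : Type*} [AddGroup α] (a : α)
  (K : HomologicalComplex (ModuleCat.{u} A) (ComplexShape.up' a))

/-- length of the image of the differential `K.d i j`. -/
noncomputable def rk (i j : α) : ℕ∞ := Module.length A (LinearMap.range (K.d i j).hom)

lemma length_range_iso_comp {M' M N : ModuleCat.{u} A} (e : M' ≅ M) (f : M ⟶ N) :
    Module.length A (LinearMap.range (e.hom ≫ f).hom) = Module.length A (LinearMap.range f.hom) := by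
  have hr : LinearMap.range (e.hom ≫ f).hom = LinearMap.range f.hom := by
    ext x
    constructor
    · rintro ⟨y, rfl⟩
      exact ⟨e.hom y, rfl⟩
    · rintro ⟨y, rfl⟩
      refine ⟨e.inv y, ?_⟩
      change (e.inv ≫ e.hom ≫ f) y = _
      simp
  rw [hr]

lemma length_range_comp_iso {M N N' : ModuleCat.{u} A} (f : M ⟶ N) (e : N' ≅ N) :
    Module.length A (LinearMap.range (f ≫ e.inv).hom) = Module.length A (LinearMap.range f.hom) := by
  have e' : LinearMap.range f.hom ≃ₗ[A] LinearMap.range (f ≫ e.inv).hom := by
    refine LinearEquiv.ofBijective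
      (e.inv.hom.restrict (p := LinearMap.range f.hom)
        (q := LinearMap.range (f ≫ e.inv).hom) ?_) ⟨?_, ?_⟩
    · rintro _ ⟨x, rfl⟩
      exact ⟨x, rfl⟩
    · intro x y hxy
      have := congrArg Subtype.val hxy
      simp only [LinearMap.coe_restrict_apply] at this
      have inj : Function.Injective e.inv.hom :=
        (ModuleCat.mono_iff_injective _).1 inferInstance
      exact Subtype.ext (inj this)
    · rintro ⟨_, x, rfl⟩
      exact ⟨⟨f.hom x, x, rfl⟩, rfl⟩
  exact e'.length_eq.symm

lemma length_range_dTo (j : α) :
    Module.length A (LinearMap.range (K.sc j).f.hom) = rk a K (j - a) j := by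
  have r : (ComplexShape.up' a).Rel (j - a) j := by simp [ComplexShape.up']
  show Module.length A (LinearMap.range (K.dTo j).hom) = _
  rw [K.dTo_eq r]
  exact length_range_iso_comp _ _

lemma length_range_dFrom (i : α) :
    Module.length A (LinearMap.range (K.sc i).g.hom) = rk a K i (i + a) := by
  have r : (ComplexShape.up' a).Rel i (i + a) := by simp [ComplexShape.up']
  show Module.length A (LinearMap.range (K.dFrom i).hom) = _
  rw [K.dFrom_eq r]
  exact length_range_comp_iso _ _

lemma rk_congr {i i' j : α} (h : i = i') : rk a K i j = rk a K i' j := by subst h; rfl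

lemma length_X (i : α) :
    Module.length A (K.X i) = rk a K (i - a) i + Module.length A (K.homology i) +
      rk a K ((i + a) - a) (i + a) := by
  have := length_X₂ (K.sc i)
  rw [length_range_dTo, length_range_dFrom] at this
  rw [rk_congr a K (add_sub_cancel_right i a)]
  exact this

lemma rk_le_left (i j : α) : rk a K i j ≤ Module.length A (K.X i) := by
  unfold rk
  exact Module.length_le_of_surjective (K.d i j).hom.rangeRestrict
    (K.d i j).hom.surjective_rangeRestrict

lemma rk_le_right (i j : α) : rk a K i j ≤ Module.length A (K.X j) := by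
  unfold rk
  exact Module.length_le_of_injective (LinearMap.range (K.d i j).hom).subtype
    (Submodule.subtype_injective _)

/-- Euler characteristic of a complex equals that of its homology. -/
theorem euler_eq (s : Finset α) (ε : α → ℤ) (hε : ∀ i, ε (i + a) = - ε i)
    (hs : ∀ i, i ∉ s → IsZero (K.X i)) (hfl : ∀ i, IsFiniteLength A (K.X i)) :
    (s.sum fun i => ε i * ((Module.length A (K.X i)).toNat : ℤ)) =
      s.sum fun i => ε i * ((Module.length A (K.homology i)).toNat : ℤ) := by
  have hX : ∀ i, Module.length A (K.X i) ≠ ⊤ := fun i => Module.length_ne_top_iff.2 (hfl i)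
  have hX0 : ∀ i, i ∉ s → Module.length A (K.X i) = 0 := by
    intro i hi
    have : Subsingleton (K.X i) := ModuleCat.subsingleton_of_isZero (hs i hi)
    exact Module.length_eq_zero
  set B : α → ℤ := fun j => ((rk a K (j - a) j).toNat : ℤ) with hBdef
  have key : ∀ i, ((Module.length A (K.X i)).toNat : ℤ) =
      B i + ((Module.length A (K.homology i)).toNat : ℤ) + B (i + a) := by
    intro i
    have h := length_X a K i
    have h1 : rk a K (i - a) i ≠ ⊤ := ne_top_of_le_ne_top (hX i) (rk_le_right a K _ _)
    have h3 : rk a K ((i + a) - a) (i + a) ≠ ⊤ := by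
      rw [rk_congr a K (add_sub_cancel_right i a)]
      exact ne_top_of_le_ne_top (hX i) (rk_le_left a K _ _)
    have h2 : Module.length A (K.homology i) ≠ ⊤ := by
      intro h2
      rw [h2] at h
      simp at h
      exact hX i h
    rw [h, ENat.toNat_add (by simp [h1, h2]) h3, ENat.toNat_add h1 h2]
    simp [hBdef]
  have hB : ∀ j, j ∉ s → B j = 0 := by
    intro j hj
    have : rk a K (j - a) j = 0 := le_antisymm ((rk_le_right a K _ _).trans (hX0 j hj).le) bot_le
    simp [hBdef, this]
  have hB' : ∀ i, i ∉ s → B (i + a) = 0 := by
    intro i hi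
    have : rk a K ((i + a) - a) (i + a) = 0 := by
      rw [rk_congr a K (add_sub_cancel_right i a)]
      exact le_antisymm ((rk_le_left a K _ _).trans (hX0 i hi).le) bot_le
    show ((rk a K ((i + a) - a) (i + a)).toNat : ℤ) = 0
    rw [this]
    simp
  have hc := sum_cancel a s ε B hε hB hB'
  simp_rw [key, mul_add, Finset.sum_add_distrib]
  linarith

end Complex

end Groth.Agent.Lib.Seat15.SSEuler
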