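import Groth.Prelude.Def_HTor
import Groth.Agent.Lib.Helper1KF9
set_option backward.isDefEq.respectTransparency.types false

/-!
# A direct-sum model of the terms of the tensor product of two complexes of modules (helper15)

For cochain complexes `L`, `M` of `A`-modules, `(L ⊗ M).X n` is identified with the direct sum over
`HTor.Antidiag n` of the `L.X p ⊗[A] M.X q`.  We provide projections `pr` onto the summands, their
relations with the inclusions `ιTensorObj`, and the formula for the components of the differential.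
-/

set_option autoImplicit false
universe u
open CategoryTheory CategoryTheory.Limits MonoidalCategory HomologicalComplex TensorProduct

namespace Groth.Agent.Lib.Seat15.TensorModel

open Groth.Agent.Lib.Helper1.KF

variable {A : Type u} [CommRing A] (L M : DRing.Cx A)

/-- The cofan of the inclusions of the summands, indexed by `HTor.Antidiag n`. -/
noncomputable def cofanT (n : ℤ) : Cofan (fun ij : HTor.Antidiag n => L.X ij.1.1 ⊗ M.X ij.1.2) :=
  Cofan.mk ((L ⊗ M).X n) (fun ij => ιTensorObj L M ij.1.1 ij.1.2 n ij.2)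

noncomputable def isColimitCofanT (n : ℤ) : IsColimit (cofanT L M n) :=
  ((((curriedTensor (ModuleCat.{u} A)).mapBifunctorHomologicalComplex _ _).obj L).obj
    M).toGradedObject.isColimitCofanMapObj
      (ComplexShape.π (ComplexShape.up ℤ) (ComplexShape.up ℤ) (ComplexShape.up ℤ)) n

/-- The direct sum model of `(L ⊗ M).X n`. -/
abbrev Model (n : ℤ) : Type u :=
  DirectSum (HTor.Antidiag n) fun ij => (L.X ij.1.1 ⊗ M.X ij.1.2 : ModuleCat.{u} A)

noncomputable def ΘIso (n : ℤ) : (L ⊗ M).X n ≅ ModuleCat.of A (Model L M n) :=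
  (isColimitCofanT L M n).coconePointUniqueUpToIso (ModuleCat.coproductCoconeIsColimit _)

lemma ι_ΘIso_hom (p q n : ℤ) (h : p + q = n) :
    ιTensorObj L M p q n h ≫ (ΘIso L M n).hom =
      ModuleCat.ofHom (DirectSum.lof A (HTor.Antidiag n)
        (fun ij => (L.X ij.1.1 ⊗ M.X ij.1.2 : ModuleCat.{u} A)) ⟨(p, q), h⟩) :=
  (isColimitCofanT L M n).comp_coconePointUniqueUpToIso_hom
    (ModuleCat.coproductCoconeIsColimit _) ⟨⟨(p, q), h⟩⟩

/-- The projection onto the `(p, q)` summand. -/
noncomputable def pr (p q n : ℤ) (h : p + q = n) : (L ⊗ M).X n ⟶ L.X p ⊗ M.X q :=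
  (ΘIso L M n).hom ≫ ModuleCat.ofHom (DirectSum.component A (HTor.Antidiag n)
    (fun ij => (L.X ij.1.1 ⊗ M.X ij.1.2 : ModuleCat.{u} A)) ⟨(p, q), h⟩)

@[reassoc]
lemma ι_pr_same (p q n : ℤ) (h : p + q = n) :
    ιTensorObj L M p q n h ≫ pr L M p q n h = 𝟙 _ := by
  unfold pr
  rw [← Category.assoc, ι_ΘIso_hom L M p q n h]
  ext x
  exact DirectSum.component.lof_self A (M := fun ij : HTor.Antidiag n =>
    (L.X ij.1.1 ⊗ M.X ij.1.2 : ModuleCat.{u} A)) ⟨(p, q), h⟩ x

@[reassoc]
lemma ι_pr_ne (p q p' q' n : ℤ) (h : p + q = n) (h' : p' + q' = n) (hne : p ≠ p') :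
    ιTensorObj L M p q n h ≫ pr L M p' q' n h' = 0 := by
  unfold pr
  rw [← Category.assoc, ι_ΘIso_hom L M p q n h]
  ext x
  change DirectSum.component A (HTor.Antidiag n) (fun ij : HTor.Antidiag n =>
    (L.X ij.1.1 ⊗ M.X ij.1.2 : ModuleCat.{u} A)) ⟨(p', q'), h'⟩
      (DirectSum.lof A (HTor.Antidiag n) (fun ij : HTor.Antidiag n =>
    (L.X ij.1.1 ⊗ M.X ij.1.2 : ModuleCat.{u} A)) ⟨(p, q), h⟩ x) = 0
  rw [DirectSum.component.of, dif_neg]
  intro hh
  exact hne (congrArg (fun z : HTor.Antidiag n => z.1.1) hh)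

/-- An element all of whose components vanish is zero. -/
lemma eq_zero_of_pr {n : ℤ} (t : (L ⊗ M).X n)
    (ht : ∀ (p q : ℤ) (h : p + q = n), (pr L M p q n h).hom t = 0) : t = 0 := by
  have h1 : (ΘIso L M n).hom.hom t = 0 := by
    apply DirectSum.ext_component A
    rintro ⟨⟨p, q⟩, h⟩
    rw [map_zero]
    exact ht p q h
  have h2 : (ΘIso L M n).inv.hom ((ΘIso L M n).hom.hom t) = t :=
    congrArg (fun f => f.hom t) (ΘIso L M n).hom_inv_id
  rw [← h2, h1, map_zero]

lemma ext_pr {n : ℤ} (t t' : (L ⊗ M).X n)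
    (ht : ∀ (p q : ℤ) (h : p + q = n), (pr L M p q n h).hom t = (pr L M p q n h).hom t') :
    t = t' := by
  rw [← sub_eq_zero]
  apply eq_zero_of_pr
  intro p q h
  rw [map_sub, ht p q h, sub_self]

/-- Gluing an element from its components. -/
noncomputable def glue {n : ℤ} (x : Model L M n) : (L ⊗ M).X n := (ΘIso L M n).inv.hom x

lemma pr_glue {n : ℤ} (x : Model L M n) (p q : ℤ) (h : p + q = n) :
    (pr L M p q n h).hom (glue L M x) = x ⟨(p, q), h⟩ := by
  have h2 : (ΘIso L M n).hom.hom ((ΘIso L M n).inv.hom x) = x :=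
    congrArg (fun f => f.hom x) (ΘIso L M n).inv_hom_id
  change DirectSum.component A _ _ _ ((ΘIso L M n).hom.hom ((ΘIso L M n).inv.hom x)) = _
  rw [h2]
  rfl

/-- The components of the differential. -/
lemma d_pr (n n' : ℤ) (hn : n + 1 = n') (p q p₀ q₀ : ℤ) (hp : p₀ + 1 = p) (hq : q₀ + 1 = q)
    (h : p + q = n') :
    (L ⊗ M).d n n' ≫ pr L M p q n' h =
      pr L M p₀ q n (by omega) ≫ (L.d p₀ p ▷ M.X q) +
        p.negOnePow • (pr L M p q₀ n (by omega) ≫ (L.X p ◁ M.d q₀ q)) := by
  apply tensor_hom_ext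
  intro a b hab
  rw [reassoc_of% (ι_tensor_d L M a b n hab (a + 1) (b + 1) n' rfl rfl hn)]
  rw [Preadditive.add_comp, Preadditive.comp_add, Linear.units_smul_comp, Linear.comp_units_smul,
    Category.assoc, Category.assoc]
  by_cases ha : a = p₀
  · subst ha
    obtain rfl : b = q := by omega
    subst hp
    rw [ι_pr_same, ι_pr_same_assoc, Category.comp_id,
      ι_pr_ne L M a (b + 1) (a + 1) b n' (by omega) h (by omega),
      ι_pr_ne_assoc L M a b (a + 1) q₀ n hab (by omega) (by omega)]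
    simp
  · by_cases ha' : a = p
    · subst ha'
      obtain rfl : b = q₀ := by omega
      subst hq
      rw [ι_pr_ne L M (a + 1) b a (b + 1) n' (by omega) h (by omega), ι_pr_same,
        ι_pr_ne_assoc L M a b p₀ (b + 1) n hab (by omega) ha, ι_pr_same_assoc]
      simp
    · rw [ι_pr_ne L M (a + 1) b p q n' (by omega) h (by omega),
        ι_pr_ne L M a (b + 1) p q n' (by omega) h ha',
        ι_pr_ne_assoc L M a b p₀ q n hab (by omega) ha,
        ι_pr_ne_assoc L M a b p q₀ n hab (by omega) ha']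
      simp

end Groth.Agent.Lib.Seat15.TensorModel
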