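import Mathlib

/-!
# Double-limit lemma for the theorem on formal functions (helper16, for helper54's S0003)

Abstract setting: a preorder `P` (e.g. `Ideal A`), groups `HQ p` with transition maps
`r : p ≤ q → HQ p →+ HQ q`, a group `H` mapping compatibly to all `HQ p`.  For an antitone sequence `𝔠 : ℕ → P`,
`IsFF` says that `H → lim_n HQ (𝔠 n)` is bijective.  We prove invariance under cofinal change of the sequence
(`isFF_of_cofinal`) and the diagonal lemma (`isFF_diag`).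
-/

set_option autoImplicit false

namespace Groth.Agent.Lib.Seat16.FFLim

universe v w

variable {P : Type*} [Preorder P]

/-- transition maps of a system of groups indexed by a preorder (covariant: `p ≤ q` gives `HQ p → HQ q`). -/
structure Sys (HQ : P → Type v) [∀ p, AddCommGroup (HQ p)] where
  r : ∀ {p q : P}, p ≤ q → HQ p →+ HQ q
  r_refl : ∀ (p : P) (x : HQ p), r (le_refl p) x = x
  r_trans : ∀ {p q s : P} (h1 : p ≤ q) (h2 : q ≤ s) (x : HQ p), r h2 (r h1 x) = r (h1.trans h2) x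

variable {HQ : P → Type v} [∀ p, AddCommGroup (HQ p)] (S : Sys HQ)

/-- the formal-functions property of `H` along the antitone sequence `𝔠`: the map from `H` to the compatible
families in `∏ HQ (𝔠 n)` is injective and surjective. -/
def IsFF {H : Type w} [AddCommGroup H] (𝔠 : ℕ → P) (h𝔠 : Antitone 𝔠) (π : ∀ n, H →+ HQ (𝔠 n)) : Prop :=
  (∀ x : H, (∀ n, π n x = 0) → x = 0) ∧
  (∀ y : ∀ n, HQ (𝔠 n), (∀ n, S.r (h𝔠 (Nat.le_succ n)) (y (n + 1)) = y n) → ∃ x : H, ∀ n, π n x = y n)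

variable {S}

/-- a compatible family is compatible along every `k ≤ m`. -/
theorem compat_le {𝔠 : ℕ → P} (h𝔠 : Antitone 𝔠) (y : ∀ n, HQ (𝔠 n))
    (hy : ∀ n, S.r (h𝔠 (Nat.le_succ n)) (y (n + 1)) = y n) {k m : ℕ} (hkm : k ≤ m) :
    S.r (h𝔠 hkm) (y m) = y k := by
  induction m, hkm using Nat.le_induction with
  | base => exact S.r_refl _ _
  | succ m hkm ih =>
    rw [← ih, ← hy m, S.r_trans]

/-- a compatible family is compatible along every relation `𝔠 m ≤ 𝔠 k` of the preorder. -/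
theorem compat_of_le {𝔠 : ℕ → P} (h𝔠 : Antitone 𝔠) (y : ∀ n, HQ (𝔠 n))
    (hy : ∀ n, S.r (h𝔠 (Nat.le_succ n)) (y (n + 1)) = y n) {k m : ℕ} (h : 𝔠 m ≤ 𝔠 k) :
    S.r h (y m) = y k := by
  rcases le_total k m with hkm | hmk
  · exact compat_le h𝔠 y hy hkm
  · have h1 : y m = S.r (h𝔠 hmk) (y k) := (compat_le h𝔠 y hy hmk).symm
    rw [h1, S.r_trans]
    exact S.r_refl _ _

section Cofinal

variable {H : Type w} [AddCommGroup H] (π : ∀ p, H →+ HQ p)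
  (hπ : ∀ {p q : P} (h : p ≤ q) (x : H), S.r h (π p x) = π q x)

include hπ in
/-- **cofinality**: the formal-functions property only depends on the sequence up to cofinality. -/
theorem isFF_of_cofinal {𝔠 𝔡 : ℕ → P} (h𝔠 : Antitone 𝔠) (h𝔡 : Antitone 𝔡)
    (h1 : ∀ n, ∃ m, 𝔡 m ≤ 𝔠 n) (h2 : ∀ n, ∃ m, 𝔠 m ≤ 𝔡 n)
    (hff : IsFF S 𝔠 h𝔠 (fun n => π (𝔠 n))) : IsFF S 𝔡 h𝔡 (fun n => π (𝔡 n)) := by
  obtain ⟨hinj, hsurj⟩ := hff
  choose m1 hm1 using h1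
  choose m2 hm2 using h2
  refine ⟨fun x hx => hinj x fun n => ?_, fun y hy => ?_⟩
  · change π (𝔠 n) x = 0
    rw [← hπ (hm1 n) x]
    have : π (𝔡 (m1 n)) x = 0 := hx (m1 n)
    rw [this, map_zero]
  · -- the induced family along `𝔠`
    let z : ∀ n, HQ (𝔠 n) := fun n => S.r (hm1 n) (y (m1 n))
    have hz : ∀ n, S.r (h𝔠 (Nat.le_succ n)) (z (n + 1)) = z n := by
      intro n
      change S.r _ (S.r (hm1 (n + 1)) (y (m1 (n + 1)))) = S.r (hm1 n) (y (m1 n))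
      rw [S.r_trans]
      -- compare both with `y` at a common later index
      set M := max (m1 n) (m1 (n + 1)) with hM
      have e1 : y (m1 (n + 1)) = S.r (h𝔡 (le_max_right _ _)) (y M) :=
        (compat_le h𝔡 y hy (le_max_right _ _)).symm
      have e2 : y (m1 n) = S.r (h𝔡 (le_max_left _ _)) (y M) :=
        (compat_le h𝔡 y hy (le_max_left _ _)).symm
      rw [e1, e2, S.r_trans, S.r_trans]
    obtain ⟨x, hx⟩ := hsurj z hz
    refine ⟨x, fun k => ?_⟩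
    change π (𝔡 k) x = y k
    rw [← hπ (hm2 k) x]
    have hxk : π (𝔠 (m2 k)) x = z (m2 k) := hx (m2 k)
    rw [hxk]
    change S.r (hm2 k) (S.r (hm1 (m2 k)) (y (m1 (m2 k)))) = y k
    rw [S.r_trans]
    exact compat_of_le h𝔡 y hy _

end Cofinal

section Diag

variable {P : Type*} [SemilatticeSup P] {HQ : P → Type v} [∀ p, AddCommGroup (HQ p)] {S : Sys HQ}

theorem antitone_sup_left {𝔟 : ℕ → P} (h𝔟 : Antitone 𝔟) (p : P) : Antitone (fun m => p ⊔ 𝔟 m) :=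
  fun _ _ h => sup_le_sup_left (h𝔟 h) p

theorem antitone_diag {𝔞 𝔟 : ℕ → P} (h𝔞 : Antitone 𝔞) (h𝔟 : Antitone 𝔟) :
    Antitone (fun n => 𝔞 n ⊔ 𝔟 n) :=
  fun _ _ h => sup_le_sup (h𝔞 h) (h𝔟 h)

variable {H : Type w} [AddCommGroup H] (π : ∀ p, H →+ HQ p)
  (hπ : ∀ {p q : P} (h : p ≤ q) (x : H), S.r h (π p x) = π q x)

include hπ in
/-- **diagonal lemma**: if `H → lim_k HQ (𝔞 k)` is bijective and, for every `k`,
`HQ (𝔞 k) → lim_m HQ (𝔞 k ⊔ 𝔟 m)` is bijective, then `H → lim_n HQ (𝔞 n ⊔ 𝔟 n)` is bijective. -/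
theorem isFF_diag {𝔞 𝔟 : ℕ → P} (h𝔞 : Antitone 𝔞) (h𝔟 : Antitone 𝔟)
    (hout : IsFF S 𝔞 h𝔞 (fun k => π (𝔞 k)))
    (hin : ∀ k, IsFF S (fun m => 𝔞 k ⊔ 𝔟 m) (antitone_sup_left h𝔟 (𝔞 k))
      (fun m => S.r (le_sup_left : 𝔞 k ≤ 𝔞 k ⊔ 𝔟 m))) :
    IsFF S (fun n => 𝔞 n ⊔ 𝔟 n) (antitone_diag h𝔞 h𝔟) (fun n => π (𝔞 n ⊔ 𝔟 n)) := by
  have hd := antitone_diag h𝔞 h𝔟
  have hle : ∀ k m, 𝔞 (max k m) ⊔ 𝔟 (max k m) ≤ 𝔞 k ⊔ 𝔟 m := fun k m =>
    sup_le_sup (h𝔞 (le_max_left k m)) (h𝔟 (le_max_right k m))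
  refine ⟨fun x hx => hout.1 x fun k => ?_, fun y hy => ?_⟩
  · refine (hin k).1 _ fun m => ?_
    change S.r le_sup_left (π (𝔞 k) x) = 0
    rw [hπ, ← hπ (hle k m) x]
    have : π (𝔞 (max k m) ⊔ 𝔟 (max k m)) x = 0 := hx (max k m)
    rw [this, map_zero]
  · let w : ∀ k m, HQ (𝔞 k ⊔ 𝔟 m) := fun k m => S.r (hle k m) (y (max k m))
    have hw : ∀ k m, S.r (antitone_sup_left h𝔟 (𝔞 k) (Nat.le_succ m)) (w k (m + 1)) = w k m := by
      intro k m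
      change S.r _ (S.r (hle k (m + 1)) (y (max k (m + 1)))) = S.r (hle k m) (y (max k m))
      have hmm : max k m ≤ max k (m + 1) := max_le_max le_rfl (Nat.le_succ m)
      have e : y (max k m) = S.r (hd hmm) (y (max k (m + 1))) := (compat_le hd y hy hmm).symm
      rw [e, S.r_trans, S.r_trans]
    choose v hv using fun k => (hin k).2 (w k) (hw k)
    have hvc : ∀ k, S.r (h𝔞 (Nat.le_succ k)) (v (k + 1)) = v k := by
      intro k
      have h0 := (hin k).1 (S.r (h𝔞 (Nat.le_succ k)) (v (k + 1)) - v k) (fun m => ?_)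
      · exact sub_eq_zero.mp h0
      · change S.r le_sup_left (S.r (h𝔞 (Nat.le_succ k)) (v (k + 1)) - v k) = 0
        rw [map_sub, sub_eq_zero, S.r_trans]
        have h1 : S.r (le_sup_left : 𝔞 k ≤ 𝔞 k ⊔ 𝔟 m) (v k) = w k m := hv k m
        have h2 : S.r (le_sup_left : 𝔞 (k + 1) ≤ 𝔞 (k + 1) ⊔ 𝔟 m) (v (k + 1)) = w (k + 1) m :=
          hv (k + 1) m
        have h3 : 𝔞 (k + 1) ⊔ 𝔟 m ≤ 𝔞 k ⊔ 𝔟 m := sup_le_sup_right (h𝔞 (Nat.le_succ k)) _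
        rw [h1]
        have h4 : S.r ((h𝔞 (Nat.le_succ k)).trans le_sup_left : 𝔞 (k + 1) ≤ 𝔞 k ⊔ 𝔟 m) (v (k + 1)) =
            S.r h3 (S.r (le_sup_left : 𝔞 (k + 1) ≤ 𝔞 (k + 1) ⊔ 𝔟 m) (v (k + 1))) := by
          rw [S.r_trans]
        rw [h4, h2]
        change S.r h3 (S.r (hle (k + 1) m) (y (max (k + 1) m))) = S.r (hle k m) (y (max k m))
        have hmm : max k m ≤ max (k + 1) m := max_le_max (Nat.le_succ k) le_rfl
        have e : y (max k m) = S.r (hd hmm) (y (max (k + 1) m)) := (compat_le hd y hy hmm).symm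
        rw [e, S.r_trans, S.r_trans]
    obtain ⟨x, hx⟩ := hout.2 v hvc
    refine ⟨x, fun n => ?_⟩
    change π (𝔞 n ⊔ 𝔟 n) x = y n
    rw [← hπ (le_sup_left : 𝔞 n ≤ 𝔞 n ⊔ 𝔟 n) x]
    have hxn : π (𝔞 n) x = v n := hx n
    rw [hxn, hv n n]
    exact compat_of_le hd y hy (hle n n)

end Diag

section Ideals

variable {A : Type*} [CommRing A] {HQ : Ideal A → Type v} [∀ p, AddCommGroup (HQ p)] {S : Sys HQ}
  {H : Type w} [AddCommGroup H] (π : ∀ p, H →+ HQ p)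
  (hπ : ∀ {p q : Ideal A} (h : p ≤ q) (x : H), S.r h (π p x) = π q x)

theorem antitone_pow (I : Ideal A) : Antitone (fun n : ℕ => I ^ n) :=
  fun _ _ h => Ideal.pow_le_pow_right h

include hπ in
/-- **the induction step for ideals**: formal functions for `𝔞` (outer) and, on each `HQ (𝔞^k)`, for
`m ↦ 𝔞^k ⊔ 𝔟^m` (inner), give formal functions for `𝔞 ⊔ 𝔟`. -/
theorem isFF_sup (𝔞 𝔟 : Ideal A)
    (hout : IsFF S (fun k => 𝔞 ^ k) (antitone_pow 𝔞) (fun k => π (𝔞 ^ k)))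
    (hin : ∀ k, IsFF S (fun m => 𝔞 ^ k ⊔ 𝔟 ^ m) (antitone_sup_left (antitone_pow 𝔟) (𝔞 ^ k))
      (fun m => S.r (le_sup_left : 𝔞 ^ k ≤ 𝔞 ^ k ⊔ 𝔟 ^ m))) :
    IsFF S (fun n => (𝔞 ⊔ 𝔟) ^ n) (antitone_pow (𝔞 ⊔ 𝔟)) (fun n => π ((𝔞 ⊔ 𝔟) ^ n)) := by
  have hdiag := isFF_diag π hπ (antitone_pow 𝔞) (antitone_pow 𝔟) hout hin
  refine isFF_of_cofinal π hπ (antitone_diag (antitone_pow 𝔞) (antitone_pow 𝔟))
    (antitone_pow (𝔞 ⊔ 𝔟)) (fun n => ⟨n + n, ?_⟩) (fun n => ⟨n, ?_⟩) hdiag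
  · exact Ideal.sup_pow_add_le_pow_sup_pow
  · exact sup_le (Ideal.pow_right_mono le_sup_left n) (Ideal.pow_right_mono le_sup_right n)

end Ideals

end Groth.Agent.Lib.Seat16.FFLim
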