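import Mathlib
import Groth.Prelude.Def_Dual3
import Groth.Agent.Lib.Helper18PBUnit4
import Groth.Agent.Lib.Helper2ModExact
import Groth.Agent.Lib.Helper23FinType2
import Groth.Agent.Lib.Helper6QCohQcqs

/-!
# Seat16: sections of `I · F` (`Dual3.idealMul`) over affine opens

* `exists_kernel_of_app_eq_zero`, `app_kernel_ι_eq_zero`: sections of a kernel in `X.Modules`.
* `mem_smul_top_of_unit_eq_zero`: for `F` quasi-coherent, `U` affine, `J` an ideal sheaf, a section `m` of `F` over
  `U` killed by the unit `F ⟶ i_* i^* F` (`i : V(J) ⟶ X`) lies in `J(U) · Γ(F, U)`.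
* `unit_eq_zero_of_mem_smul_top`: the converse.
-/

set_option autoImplicit false
set_option linter.style.haveILetI false
universe u
open CategoryTheory CategoryTheory.Limits AlgebraicGeometry TopologicalSpace Opposite

namespace Groth.Agent.Lib.Seat16.IdealMul

open Groth.Agent.Helper13PullbackUnit Groth.Agent.Helper18PBUnit Groth.Agent.Lib.Helper2.ModExact

variable {X : Scheme.{u}}

/-- a section killed by `φ` comes from the kernel of `φ`. -/
theorem exists_kernel_of_app_eq_zero {F G : X.Modules} (φ : F ⟶ G) (U : X.Opens) (t : Γ(F, U))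
    (ht : Scheme.Modules.Hom.app φ U t = 0) :
    ∃ t₁ : Γ(kernel φ, U), Scheme.Modules.Hom.app (kernel.ι φ) U t₁ = t := by
  let S : ShortComplex X.Modules := ShortComplex.mk (kernel.ι φ) φ (kernel.condition φ)
  have hS : S.Exact := ShortComplex.exact_of_f_is_kernel S (kernelIsKernel φ)
  haveI : Mono S.f := inferInstanceAs (Mono (kernel.ι φ))
  have h1 : (S.map (secFunctor U)).Exact :=
    hS.map_of_mono_of_preservesKernel (secFunctor U) inferInstance inferInstance
  rw [ShortComplex.moduleCat_exact_iff] at h1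
  obtain ⟨t₁, ht₁⟩ := h1 t ht
  exact ⟨t₁, ht₁⟩

theorem app_kernel_ι_eq_zero {F G : X.Modules} (φ : F ⟶ G) (U : X.Opens) (t₁ : Γ(kernel φ, U)) :
    Scheme.Modules.Hom.app φ U (Scheme.Modules.Hom.app (kernel.ι φ) U t₁) = 0 := by
  have h : Scheme.Modules.Hom.app (kernel.ι φ) U ≫ Scheme.Modules.Hom.app φ U = 0 := by
    rw [← Scheme.Modules.Hom.comp_app, kernel.condition]
    rfl
  exact congr($h t₁)

section unit

variable (J : X.IdealSheafData) (F : X.Modules) [F.IsQuasicoherent] (U : X.affineOpens)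

/-- a section of a quasi-coherent module over an affine open which dies in `i_* i^* F` lies in `J(U) · Γ(F, U)`. -/
theorem mem_smul_top_of_unit_eq_zero (m : Γ(F, U.1))
    (hm : ((Scheme.Modules.pullbackPushforwardAdjunction J.subschemeι).unit.app F).app U.1 m = 0) :
    m ∈ (J.ideal U • ⊤ : Submodule Γ(X, U.1) Γ(F, U.1)) := by
  set i := J.subschemeι with hi
  have hU' : IsAffineOpen (i ⁻¹ᵁ U.1) := U.2.preimage i
  have hle : i ⁻¹ᵁ U.1 ≤ i ⁻¹ᵁ U.1 := le_rfl
  rw [unit_app_eq_unitSec] at hm
  set ψ : Γ(X, U.1) →+* Γ(J.subscheme, i ⁻¹ᵁ U.1) := (i.appLE U.1 (i ⁻¹ᵁ U.1) hle).hom with hψ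
  have hψapp : ψ = (i.app U.1).hom := by rw [hψ, Scheme.Hom.appLE_eq_app]
  have hsurj : Function.Surjective ψ := by
    rw [hψapp]; exact J.subschemeι_app_surjective U
  have hker : RingHom.ker ψ = J.ideal U := by
    rw [hψapp]; exact J.ker_subschemeι_app U
  let N := Γ(F, U.1) ⧸ (J.ideal U • ⊤ : Submodule Γ(X, U.1) Γ(F, U.1))
  have htors : Module.IsTorsionBySet Γ(X, U.1) N (RingHom.ker ψ : Set Γ(X, U.1)) := by
    rintro x ⟨r, hr⟩
    induction x using Submodule.Quotient.induction_on with
    | H x =>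
      rw [← Submodule.Quotient.mk_smul, Submodule.Quotient.mk_eq_zero]
      exact Submodule.smul_mem_smul (hker ▸ hr) trivial
  letI : Module (Γ(X, U.1) ⧸ RingHom.ker ψ) N := htors.module
  letI : Module Γ(J.subscheme, i ⁻¹ᵁ U.1) N :=
    Module.compHom N (RingHom.quotientKerEquivOfSurjective hsurj).symm.toRingHom
  have hsm : ∀ (r : Γ(X, U.1)) (x : N), ψ r • x = r • x := by
    intro r x
    change (RingHom.quotientKerEquivOfSurjective hsurj).symm (ψ r) • x = r • x
    have h1 : (RingHom.quotientKerEquivOfSurjective hsurj).symm (ψ r) =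
        Ideal.Quotient.mk (RingHom.ker ψ) r := by
      rw [RingEquiv.symm_apply_eq]
      rfl
    rw [h1]
    rfl
  let l : Γ(F, U.1) →+ N :=
    (Submodule.mkQ (J.ideal U • ⊤ : Submodule Γ(X, U.1) Γ(F, U.1))).toAddMonoidHom
  obtain ⟨l', hl', -⟩ := existsUnique_lift i F U.2 hU' hle N l (fun r x => by
    rw [hsm]
    exact map_smul (Submodule.mkQ (J.ideal U • ⊤ : Submodule Γ(X, U.1) Γ(F, U.1))) r x)
  have hm' : unitSec i F hle m = 0 := hm
  have h2 : l m = 0 := by rw [← hl' m, hm', map_zero]
  exact (Submodule.Quotient.mk_eq_zero _).1 h2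

/-- the converse: sections in `J(U) · Γ(F, U)` die in `i_* i^* F`. -/
theorem unit_eq_zero_of_mem_smul_top (F : X.Modules) (m : Γ(F, U.1))
    (hm : m ∈ (J.ideal U • ⊤ : Submodule Γ(X, U.1) Γ(F, U.1))) :
    ((Scheme.Modules.pullbackPushforwardAdjunction J.subschemeι).unit.app F).app U.1 m = 0 := by
  refine Submodule.smul_induction_on
    (p := fun x : Γ(F, U.1) =>
      ((Scheme.Modules.pullbackPushforwardAdjunction J.subschemeι).unit.app F).app U.1 x = 0)
    hm (fun r hr x _ => ?_) (fun x y hx hy => ?_)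
  · have h1 : J.subschemeι.app U.1 r = 0 := by
      have : r ∈ RingHom.ker (J.subschemeι.app U.1).hom := by rw [J.ker_subschemeι_app U]; exact hr
      exact this
    have h2 := pushforward_smul J.subschemeι (M := (Scheme.Modules.pullback J.subschemeι).obj F) U.1 r
      (((Scheme.Modules.pullbackPushforwardAdjunction J.subschemeι).unit.app F).app U.1 x)
    rw [h1, zero_smul] at h2
    exact (Scheme.Modules.Hom.app_smul _ r x).trans h2
  · exact (map_add _ x y).trans (by rw [hx, hy, add_zero])

end unit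

section krull

open Groth.Agent.Lib.Helper6

variable [IsLocallyNoetherian X] (I : X.IdealSheafData) (F : X.Modules) [F.IsQuasicoherent]
  [SheafOfModules.IsFiniteType (R := X.ringCatSheaf) F]

/-- Krull intersection for sections: a global section of a coherent module on a locally Noetherian
scheme lying in `I^n F` for all `n` vanishes on a neighbourhood of `V(I)`. -/
theorem exists_open_of_forall_unit_eq_zero (s : Γ(F, ⊤))
    (h : ∀ n : ℕ,
      ((Scheme.Modules.pullbackPushforwardAdjunction (I ^ n).subschemeι).unit.app F).app ⊤ s = 0) :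
    ∃ V : X.Opens, I.supportSet ⊆ (V : Set X) ∧ res F (le_top : V ≤ ⊤) s = 0 := by
  classical
  have hloc : ∀ U : X.affineOpens, ∃ r ∈ I.ideal U,
      (1 - r) • res F (le_top : U.1 ≤ ⊤) s = 0 := by
    intro U
    haveI : IsNoetherianRing Γ(X, U.1) := IsLocallyNoetherian.component_noetherian U
    haveI : Module.Finite Γ(X, U.1) Γ(F, U.1) :=
      Groth.Agent.Lib.Helper23.FinType.finite_of_isFiniteType F U.2
    set m : Γ(F, U.1) := res F (le_top : U.1 ≤ ⊤) s with hm
    have hmem : m ∈ (⨅ n : ℕ, (I.ideal U) ^ n • ⊤ : Submodule Γ(X, U.1) Γ(F, U.1)) := by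
      rw [Submodule.mem_iInf]
      intro n
      have h1 : ((Scheme.Modules.pullbackPushforwardAdjunction (I ^ n).subschemeι).unit.app F).app U.1 m
          = 0 := by
        have h0 := app_map ((Scheme.Modules.pullbackPushforwardAdjunction (I ^ n).subschemeι).unit.app F)
          (homOfLE (le_top : U.1 ≤ ⊤)) s
        exact h0.trans (by rw [h n, map_zero])
      exact mem_smul_top_of_unit_eq_zero (I ^ n) F U m h1
    obtain ⟨r, hr⟩ := (Ideal.mem_iInf_smul_pow_eq_bot_iff (I.ideal U) m).1 hmem
    exact ⟨r.1, r.2, by rw [sub_smul, one_smul, hr, sub_self]⟩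
  choose r hrI hr using hloc
  refine ⟨⨆ U : X.affineOpens, X.basicOpen (1 - r U), ?_, ?_⟩
  · intro x hx
    obtain ⟨U, hU, hxU, -⟩ := exists_isAffineOpen_mem_and_subset (x := x) (U := (⊤ : X.Opens)) trivial
    refine TopologicalSpace.Opens.mem_iSup.2 ⟨⟨U, hU⟩, ?_⟩
    have h1 : x ∈ X.zeroLocus (U := U) (I.ideal ⟨U, hU⟩) :=
      (Scheme.IdealSheafData.mem_supportSet_iff_of_mem (U := ⟨U, hU⟩) hxU).1 hx
    have h2 : x ∉ X.basicOpen (r ⟨U, hU⟩) := (X.mem_zeroLocus_iff _ x).1 h1 _ (hrI ⟨U, hU⟩)
    rw [Scheme.mem_basicOpen X _ x hxU] at h2 ⊢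
    rw [map_sub, map_one]
    exact IsLocalRing.isUnit_one_sub_self_of_mem_nonunits _ h2
  · have hz : ∀ U : X.affineOpens,
        res F ((X.basicOpen_le (1 - r U)).trans (le_top : U.1 ≤ ⊤)) s = 0 := by
      intro U
      have h1 : res F ((X.basicOpen_le (1 - r U)).trans (le_top : U.1 ≤ ⊤)) s =
          res F (X.basicOpen_le (1 - r U)) (res F (le_top : U.1 ≤ ⊤) s) :=
        (Groth.Agent.Lib.Helper6.res_res F _ _ s).symm
      have h2 := congrArg (res F (X.basicOpen_le (1 - r U))) (hr U)
      have h2' : resf (X.basicOpen_le (1 - r U)) (1 - r U) •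
          res F (X.basicOpen_le (1 - r U)) (res F (le_top : U.1 ≤ ⊤) s) = 0 :=
        (res_smul F _ _ _).symm.trans (h2.trans (map_zero _))
      have hu : IsUnit (resf (X.basicOpen_le (1 - r U)) (1 - r U)) :=
        RingedSpace.isUnit_res_basicOpen X.toRingedSpace (1 - r U)
      obtain ⟨u, hu'⟩ := hu
      have h3 : ((u⁻¹ : (Γ(X, X.basicOpen (1 - r U)))ˣ) : Γ(X, X.basicOpen (1 - r U))) •
          (resf (X.basicOpen_le (1 - r U)) (1 - r U) •
            res F (X.basicOpen_le (1 - r U)) (res F (le_top : U.1 ≤ ⊤) s)) = 0 := by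
        rw [h2', smul_zero]
      rw [← hu', smul_smul, Units.inv_mul, one_smul] at h3
      exact h1.trans h3
    refine (modSheaf F).eq_of_locally_eq' (fun U : X.affineOpens => X.basicOpen (1 - r U)) _
      (fun U => homOfLE (le_iSup (fun U : X.affineOpens => X.basicOpen (1 - r U)) U)) le_rfl _ _
      (fun U => ?_)
    have h4 : res F (le_iSup (fun U : X.affineOpens => X.basicOpen (1 - r U)) U)
        (res F (le_top : (⨆ U : X.affineOpens, X.basicOpen (1 - r U)) ≤ ⊤) s) = 0 :=
      (Groth.Agent.Lib.Helper6.res_res F _ _ s).trans (hz U)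
    exact h4.trans (map_zero _).symm

/-- conversely, a global section vanishing on a neighbourhood of `V(I)` dies in `i_* i^* F` for the closed
subscheme defined by any power of `I` (no finiteness needed). -/
theorem unit_eq_zero_of_res_eq_zero {X : Scheme.{u}} (I : X.IdealSheafData) (F : X.Modules)
    (s : Γ(F, ⊤)) (V : X.Opens)
    (hV : I.supportSet ⊆ (V : Set X)) (hs : res F (le_top : V ≤ ⊤) s = 0) (n : ℕ) :
    ((Scheme.Modules.pullbackPushforwardAdjunction (I ^ n).subschemeι).unit.app F).app ⊤ s = 0 := by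
  set i := (I ^ n).subschemeι with hi
  set G := (Scheme.Modules.pullback i).obj F with hG
  set y := ((Scheme.Modules.pullbackPushforwardAdjunction i).unit.app F).app ⊤ s with hy
  have h1 : res ((Scheme.Modules.pushforward i).obj G) (le_top : V ≤ ⊤) y = 0 := by
    rw [hy]
    have h0 := app_map ((Scheme.Modules.pullbackPushforwardAdjunction i).unit.app F)
      (homOfLE (le_top : V ≤ ⊤)) s
    refine h0.symm.trans ?_
    exact (congrArg _ hs).trans (map_zero _)
  have hrange : Set.range i ⊆ (V : Set X) := by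
    rw [hi, Scheme.IdealSheafData.range_subschemeι]
    refine subset_trans ?_ hV
    rcases n with _ | n
    · intro x hx
      have : (I ^ 0).support = ⊥ := by rw [pow_zero]; rfl
      rw [this] at hx
      exact absurd hx (by simp)
    · rw [Scheme.IdealSheafData.support_pow_succ]
      exact fun x hx => hx
  have e : i ⁻¹ᵁ V = i ⁻¹ᵁ ⊤ := by
    ext z
    constructor
    · intro _; trivial
    · intro _; exact hrange ⟨z, rfl⟩
  have h2 : G.presheaf.map (eqToHom e).op (show Γ(G, i ⁻¹ᵁ ⊤) from y) = 0 := h1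
  have h3 := congrArg (G.presheaf.map (eqToHom e.symm).op) h2
  rw [map_zero, ← ConcreteCategory.comp_apply, ← CategoryTheory.Functor.map_comp, ← op_comp, eqToHom_trans,
    eqToHom_refl, op_id, CategoryTheory.Functor.map_id] at h3
  exact h3

end krull

end Groth.Agent.Lib.Seat16.IdealMul
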