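import Mathlib

/-!
# Seat16: transporting projectivity and `Module.rankAtStalk` along a ring isomorphism

For `ψ : R ≃+* A` and an `A`-module `N`, regard `N` as an `R`-module through `ψ`
(`Module.compHom N ψ.toRingHom`).  Then `N` is projective over `R` iff over `A`, and the rank at a
prime `p` of `R` is the rank at the corresponding prime of `A`.
-/

set_option autoImplicit false
set_option linter.style.haveILetI false
universe u

namespace Groth.Agent.Lib.Seat16.RingEquivRank

section transport

variable {R M : Type u} [CommRing R] [AddCommGroup M] [Module R M] (S : Submonoid R)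
    (Rₛ Mₛ : Type u) [CommRing Rₛ] [Algebra R Rₛ] [IsLocalization S Rₛ]
    [AddCommGroup Mₛ] [Module R Mₛ] (f : M →ₗ[R] Mₛ) [IsLocalizedModule S f]
    [Module Rₛ Mₛ] [IsScalarTower R Rₛ Mₛ]

theorem iso_smul (r : Localization S) (x : LocalizedModule S M) :
    IsLocalizedModule.iso S f (r • x) =
      (IsLocalization.algEquiv S (Localization S) Rₛ) r • IsLocalizedModule.iso S f x := by
  obtain ⟨r, s, rfl⟩ := IsLocalization.exists_mk'_eq S r
  apply ((Module.End.isUnit_iff _).mp (IsLocalizedModule.map_units f s)).1
  simp [← map_smul, ← smul_assoc]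

include f in
/-- the rank of any model of the localization is the rank of the standard one. -/
theorem finrank_eq_of_isLocalizedModule :
    Module.finrank Rₛ Mₛ = Module.finrank (Localization S) (LocalizedModule S M) :=
  (congrArg Cardinal.toNat (rank_eq_of_equiv_equiv
    (IsLocalization.algEquiv S (Localization S) Rₛ) (IsLocalizedModule.iso S f).toAddEquiv
    (IsLocalization.algEquiv S (Localization S) Rₛ).bijective (iso_smul S Rₛ Mₛ f))).symm

end transport

variable {R A : Type u} [CommRing R] [CommRing A] (ψ : R ≃+* A)
  (N : Type u) [AddCommGroup N] [Module A N]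

attribute [local instance] RingHomInvPair.of_ringEquiv RingHomInvPair.of_ringEquiv_symm in
/-- projectivity transfers along a ring isomorphism. -/
theorem projective_compHom [Module.Projective A N] :
    @Module.Projective R _ N _ (Module.compHom N ψ.toRingHom) := by
  letI : Module R N := Module.compHom N ψ.toRingHom
  let e : N ≃ₛₗ[(ψ.symm : A →+* R)] N :=
    { toFun := id
      invFun := id
      map_add' := fun _ _ => rfl
      map_smul' := fun a x => by
        change a • x = ψ (ψ.symm a) • x
        rw [RingEquiv.apply_symm_apply]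
      left_inv := fun _ => rfl
      right_inv := fun _ => rfl }
  exact Module.Projective.of_equiv e

/-- the prime of `A` corresponding to a prime of `R`. -/
noncomputable def primeMap (p : PrimeSpectrum R) : PrimeSpectrum A :=
  PrimeSpectrum.comap (ψ.symm : A →+* R) p

theorem mem_primeMap (p : PrimeSpectrum R) (a : A) :
    a ∈ (primeMap ψ p).asIdeal ↔ ψ.symm a ∈ p.asIdeal := Iff.rfl

/-- the rank at a prime transfers along a ring isomorphism. -/
theorem rankAtStalk_compHom (p : PrimeSpectrum R) :
    @Module.rankAtStalk R N _ _ (Module.compHom N ψ.toRingHom) p =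
      Module.rankAtStalk (R := A) N (primeMap ψ p) := by
  letI : Module R N := Module.compHom N ψ.toRingHom
  letI : Algebra R A := ψ.toRingHom.toAlgebra
  haveI : IsScalarTower R A N := IsScalarTower.of_algebraMap_smul fun _ _ => rfl
  set q := primeMap ψ p with hq
  let B := Localization.AtPrime q.asIdeal
  let NB := LocalizedModule q.asIdeal.primeCompl N
  have hS : Algebra.algebraMapSubmonoid A p.asIdeal.primeCompl = q.asIdeal.primeCompl := by
    ext a
    constructor
    · rintro ⟨r, hr, rfl⟩
      change ψ r ∉ q.asIdeal
      rw [mem_primeMap, show ψ.symm (ψ r) = r from ψ.symm_apply_apply r]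
      exact hr
    · intro ha
      refine ⟨ψ.symm a, ?_, ψ.apply_symm_apply a⟩
      exact ha
  haveI hloc : IsLocalization p.asIdeal.primeCompl B := by
    have h1 : IsLocalization (Algebra.algebraMapSubmonoid A p.asIdeal.primeCompl) B := by
      rw [hS]; infer_instance
    rw [isLocalization_iff] at h1 ⊢
    obtain ⟨h1a, h1b, h1c⟩ := h1
    refine ⟨?_, ?_, ?_⟩
    · rintro ⟨r, hr⟩
      have := h1a ⟨ψ r, ⟨r, hr, rfl⟩⟩
      rwa [IsScalarTower.algebraMap_apply R A B]
    · intro b
      obtain ⟨⟨a, ⟨_, s, hs, rfl⟩⟩, h⟩ := h1b b
      refine ⟨⟨ψ.symm a, ⟨s, hs⟩⟩, ?_⟩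
      rw [IsScalarTower.algebraMap_apply R A B, IsScalarTower.algebraMap_apply R A B]
      change b * algebraMap A B (ψ s) = algebraMap A B (ψ (ψ.symm a))
      rw [ψ.apply_symm_apply]; exact h
    · intro x y h
      rw [IsScalarTower.algebraMap_apply R A B, IsScalarTower.algebraMap_apply R A B] at h
      obtain ⟨⟨_, s, hs, rfl⟩, hc⟩ := h1c h
      refine ⟨⟨s, hs⟩, ψ.injective ?_⟩
      rw [map_mul, map_mul]
      exact hc
  let f : N →ₗ[A] NB := LocalizedModule.mkLinearMap q.asIdeal.primeCompl N
  haveI : IsLocalizedModule (Algebra.algebraMapSubmonoid A p.asIdeal.primeCompl) f := by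
    rw [hS]; infer_instance
  haveI : IsLocalizedModule p.asIdeal.primeCompl (f.restrictScalars R) :=
    IsLocalizedModule.restrictScalars p.asIdeal.primeCompl f
  exact (finrank_eq_of_isLocalizedModule p.asIdeal.primeCompl B NB (f.restrictScalars R)).symm

/-- version for a bijective ring homomorphism: projectivity. -/
theorem projective_compHom_of_bijective (φ : R →+* A) (hφ : Function.Bijective φ)
    [Module.Projective A N] : @Module.Projective R _ N _ (Module.compHom N φ) :=
  projective_compHom (RingEquiv.ofBijective φ hφ) N

/-- version for a bijective ring homomorphism: rank at a prime. -/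
theorem rankAtStalk_compHom_of_bijective (φ : R →+* A) (hφ : Function.Bijective φ)
    (p : PrimeSpectrum R) :
    @Module.rankAtStalk R N _ _ (Module.compHom N φ) p =
      Module.rankAtStalk (R := A) N (primeMap (RingEquiv.ofBijective φ hφ) p) :=
  rankAtStalk_compHom (RingEquiv.ofBijective φ hφ) N p

/-- every prime of `A` is `primeMap` of a prime of `R`. -/
theorem primeMap_comap (q : PrimeSpectrum A) :
    primeMap ψ (PrimeSpectrum.comap (ψ : R →+* A) q) = q := by
  ext a
  rw [mem_primeMap]
  change ψ (ψ.symm a) ∈ q.asIdeal ↔ _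
  rw [ψ.apply_symm_apply]

end Groth.Agent.Lib.Seat16.RingEquivRank
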