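import Mathlib
import Groth.Prelude.Def_ProjUP
import Groth.Agent.Lib.Helper2SemiLocFree
import Groth.Agent.Lib.Helper23QAffSec
import Groth.Agent.Lib.Helper23SecTw3
import Groth.Agent.Lib.Seat16RingEquivRank

/-!
# Seat16: invertible modules on affine schemes

For an invertible module `L` on a scheme `X` whose top open is affine:
* `projective_sections`: `Γ(L, ⊤)` is a projective `Γ(X, ⊤)`-module;
* `rankAtStalk_sections_eq_one`: of rank one at every prime;
* `span_eq_top_of_generatedBy`: global sections generating `L` (`ProjUP.GeneratedBy`) span `Γ(L, ⊤)`.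
-/

set_option autoImplicit false
set_option linter.style.haveILetI false
universe u
open CategoryTheory Limits AlgebraicGeometry TopologicalSpace Opposite

namespace Groth.Agent.Lib.Seat16.InvAffine

open Groth.Agent.Lib.Helper2.FlatOver Groth.Agent.Lib.Helper2.QCoh Groth.Agent.Lib.Helper2.LocFree
open Groth.Agent.Lib.Helper2.RankLoc Groth.Agent.Lib.Helper2.FPAff Groth.Agent.Lib.Helper2.SemiLocFree
open Groth.Agent.Lib.Helper23.SecTw

variable {X : Scheme.{u}} (hX : IsAffineOpen (⊤ : X.Opens))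

include hX in
theorem projective_sections (L : X.Modules) (hL : PicF.IsInvertible L) :
    Module.Projective Γ(X, ⊤) Γ(L, ⊤) := by
  haveI : L.IsQuasicoherent := isQuasicoherent_of_isInvertible L hL
  have hlf : FlatMod.IsFinLocFree L := fun x => by
    obtain ⟨U, hx, h⟩ := isFinLocFreeOfRank_one_of_isInvertible L hL x
    exact ⟨U, 1, hx, h⟩
  haveI hfp : SheafOfModules.IsFinitePresentation (R := X.ringCatSheaf) L := isFP_of_isFinLocFree L hlf
  haveI : Module.FinitePresentation Γ(X, ⊤) Γ(L, ⊤) := finitePresentation_sections L hX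
  haveI : Module.Flat Γ(X, ⊤) Γ(L, ⊤) :=
    flat_sections_of_isFlatAt L hX (fun x _ => isFlat_of_isFinLocFree L hlf x)
  exact Module.Flat.projective_of_finitePresentation

include hX in
theorem rankAtStalk_sections_eq_one (L : X.Modules) (hL : PicF.IsInvertible L)
    (q : PrimeSpectrum Γ(X, ⊤)) : Module.rankAtStalk Γ(L, ⊤) q = 1 := by
  haveI : L.IsQuasicoherent := isQuasicoherent_of_isInvertible L hL
  have hz : hX.fromSpec q ∈ (⊤ : X.Opens) := trivial
  have hq : hX.primeIdealOf ⟨hX.fromSpec q, hz⟩ = q := primeIdealOf_fromSpec hX q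
  rw [← hq, rankAtStalk_sections L hX (hX.fromSpec q) hz]
  obtain ⟨U, hzU, ⟨e⟩⟩ := isFinLocFreeOfRank_one_of_isInvertible L hL (hX.fromSpec q)
  obtain ⟨hfree, hrk⟩ := fibreRank_eq_of_restrict_iso_freeMod U.ι L e ⟨hX.fromSpec q, hzU⟩
  haveI : Module.Free (X.presheaf.stalk (hX.fromSpec q)) (L.presheaf.stalk (hX.fromSpec q)) := hfree
  rw [← hrk]
  exact (Module.finrank_baseChange (R := IsLocalRing.ResidueField (X.presheaf.stalk (hX.fromSpec q)))
    (S := X.presheaf.stalk (hX.fromSpec q)) (M' := L.presheaf.stalk (hX.fromSpec q))).symm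

include hX in
theorem span_eq_top_of_generatedBy (L : X.Modules) [L.IsQuasicoherent] {ι : Type*}
    (t : ι → Γ(L, ⊤)) (ht : ProjUP.GeneratedBy L t) :
    Submodule.span Γ(X, ⊤) (Set.range t) = ⊤ := by
  set N₀ := Submodule.span Γ(X, ⊤) (Set.range t) with hN₀
  rw [eq_top_iff]
  intro y _
  let I : Ideal Γ(X, ⊤) := N₀.colon {y}
  have hI : ∀ a, a ∈ I ↔ a • y ∈ N₀ := fun a => by
    simp only [I, Submodule.mem_colon_singleton]
  suffices h : I = ⊤ by
    have h1 : (1 : Γ(X, ⊤)) ∈ I := by rw [h]; trivial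
    rw [hI, one_smul] at h1
    exact h1
  by_contra hne
  obtain ⟨P, hP, hle⟩ := Ideal.exists_le_maximal I hne
  let z : X := hX.fromSpec ⟨P, hP.isPrime⟩
  have hz : z ∈ (⊤ : X.Opens) := trivial
  have hq : hX.primeIdealOf ⟨z, hz⟩ = ⟨P, hP.isPrime⟩ := primeIdealOf_fromSpec hX _
  letI := X.presheaf.algebra_section_stalk ⟨z, hz⟩
  haveI := hX.isLocalization_stalk ⟨z, hz⟩
  letI := moduleStalkSections L ⊤ z hz
  haveI : IsScalarTower Γ(X, ⊤) (X.presheaf.stalk z) (L.presheaf.stalk z) := by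
    refine ⟨fun a b y => ?_⟩
    change (X.presheaf.germ ⊤ z hz a * b) • y = X.presheaf.germ ⊤ z hz a • (b • y)
    rw [mul_smul]
  haveI := isLocalizedModule_germ hX L z hz
  set S := (hX.primeIdealOf ⟨z, hz⟩).asIdeal.primeCompl with hS
  have hloc : N₀.localized' (X.presheaf.stalk z) S (germₗ L ⊤ z hz) = ⊤ := by
    rw [hN₀, Submodule.localized'_span, ← Set.range_comp]
    exact ht z
  have hy : germₗ L ⊤ z hz y ∈ N₀.localized' (X.presheaf.stalk z) S (germₗ L ⊤ z hz) := by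
    rw [hloc]; trivial
  rw [Submodule.mem_localized'] at hy
  obtain ⟨n₀, hn₀, s, hs⟩ := hy
  rw [IsLocalizedModule.mk'_eq_iff] at hs
  have hs' : germₗ L ⊤ z hz n₀ = germₗ L ⊤ z hz ((s : Γ(X, ⊤)) • y) := by rw [map_smul]; exact hs
  obtain ⟨c, hc⟩ := IsLocalizedModule.exists_of_eq (S := S) hs'
  have hmem : ((c : Γ(X, ⊤)) * (s : Γ(X, ⊤))) ∈ I := by
    rw [hI, mul_smul]
    have : (c : Γ(X, ⊤)) • ((s : Γ(X, ⊤)) • y) = (c : Γ(X, ⊤)) • n₀ := hc.symm
    rw [this]
    exact N₀.smul_mem _ hn₀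
  have hnot : ((c : Γ(X, ⊤)) * (s : Γ(X, ⊤))) ∉ P := by
    have h1 : ((c * s : S) : Γ(X, ⊤)) ∈ (hX.primeIdealOf ⟨z, hz⟩).asIdeal.primeCompl := (c * s).2
    rw [hq] at h1
    exact h1
  exact hnot (hle hmem)

end Groth.Agent.Lib.Seat16.InvAffine
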