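import Groth.Agent.Lib.Helper13ProjBC2
import Groth.Prelude.Def_Twist2

/-!
# Base change of projective space along a ring map (helper16)

For a ring hom `g : R →+* A` : the graded ring hom `φ g : R[x₀..xₙ] → A[x₀..xₙ]`, the cartesian square
`P^n_A → P^n_R`, `Spec A → Spec R`, and the iso `ProjSpaceOver n (Spec A) ≅ ProjSpace n A`.
-/

set_option autoImplicit false
universe u

open CategoryTheory CategoryTheory.Limits AlgebraicGeometry TopologicalSpace Opposite
open scoped HomogeneousIdeal

namespace Groth.Agent.Lib.Seat16.PnBC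

variable (n : ℕ) {R A : Type u} [CommRing R] [CommRing A] (g : R →+* A)

/-- the graded ring hom `R[x] → A[x]` induced by `g`. -/
noncomputable def φ : CohB1.polyGrading n R →+*ᵍ CohB1.polyGrading n A where
  toRingHom := MvPolynomial.map g
  map_mem := fun {i x} hx => by
    have hx' : x.IsHomogeneous i := hx
    exact hx'.map g

@[simp] theorem φ_apply (x : MvPolynomial (Fin (n + 1)) R) : φ n g x = MvPolynomial.map g x := rfl

@[simp] theorem φ_X (i : Fin (n + 1)) : φ n g (MvPolynomial.X i) = MvPolynomial.X i :=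
  MvPolynomial.map_X g i

theorem isPushout_poly :
    IsPushout (CommRingCat.ofHom g)
      (CommRingCat.ofHom (MvPolynomial.C : R →+* MvPolynomial (Fin (n + 1)) R))
      (CommRingCat.ofHom (MvPolynomial.C : A →+* MvPolynomial (Fin (n + 1)) A))
      (CommRingCat.ofHom (MvPolynomial.map g :
        MvPolynomial (Fin (n + 1)) R →+* MvPolynomial (Fin (n + 1)) A)) := by
  let _ : Algebra R A := g.toAlgebra
  let _ : Algebra (MvPolynomial (Fin (n + 1)) R) (MvPolynomial (Fin (n + 1)) A) :=
    MvPolynomial.algebraMvPolynomial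
  have h : Algebra.IsPushout R A (MvPolynomial (Fin (n + 1)) R) (MvPolynomial (Fin (n + 1)) A) :=
    inferInstance
  exact (CommRingCat.isPushout_iff_isPushout (R := R) (R' := A)
    (S := MvPolynomial (Fin (n + 1)) R) (S' := MvPolynomial (Fin (n + 1)) A)).mpr h

theorem irrelevant_le :
    (CohB1.polyGrading n A)₊ ≤ (CohB1.polyGrading n R)₊.map (φ n g) :=
  Groth.Agent.Helper13ProjBC.irrelevant_le_map_cat (isPushout_poly n g) (φ n g) (fun _ => rfl)
    (fun r => (MvPolynomial.isHomogeneous_C _ r : _))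

/-- the base change morphism `P^n_A ⟶ P^n_R`. -/
noncomputable def bc : CohB1.ProjSpace n A ⟶ CohB1.ProjSpace n R :=
  Proj.map (φ n g) (irrelevant_le n g)

/-- `P^n_A = P^n_R ×_R A`. -/
theorem isPullback_bc :
    IsPullback (bc n g) (CohB1.ProjSpace.toSpec n A) (CohB1.ProjSpace.toSpec n R)
      (Spec.map (CommRingCat.ofHom g)) :=
  Groth.Agent.Helper13ProjBC.isPullback_proj_cat (isPushout_poly n g) (φ n g) (fun _ => rfl)
    (irrelevant_le n g)
    (CommRingCat.ofHom (algebraMap R (CohB1.polyGrading n R 0))) (fun _ => rfl)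
    (CommRingCat.ofHom (algebraMap A (CohB1.polyGrading n A 0))) (fun _ => rfl)

section OverSpec

variable (A)

/-- the unique ring hom `ULift ℤ → A`. -/
noncomputable def gZ : ULift.{u} ℤ →+* A :=
  (Int.castRingHom A).comp (ULift.ringEquiv : ULift.{u} ℤ ≃+* ℤ).toRingHom

theorem isPullback_bcZ :
    IsPullback (bc n (gZ A)) (CohB1.ProjSpace.toSpec n A) (CohB1.ProjSpace.toSpec n (ULift.{u} ℤ))
      (specULiftZIsTerminal.from (Spec (CommRingCat.of A))) := by
  have h := isPullback_bc n (gZ A)
  rwa [specULiftZIsTerminal.hom_ext (Spec.map (CommRingCat.ofHom (gZ A)))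
    (specULiftZIsTerminal.from (Spec (CommRingCat.of A)))] at h

/-- `P^n_A ≅ P^n_ℤ ×_ℤ Spec A`. -/
noncomputable def isoOver :
    CohB1.ProjSpace n A ≅ CohB1.ProjSpaceOver n (Spec (CommRingCat.of A)) :=
  (isPullback_bcZ n A).isoPullback

@[reassoc (attr := simp)]
theorem isoOver_hom_fst :
    (isoOver n A).hom ≫ pullback.fst (CohB1.ProjSpace.toSpec n (ULift.{u} ℤ))
      (specULiftZIsTerminal.from (Spec (CommRingCat.of A))) = bc n (gZ A) :=
  (isPullback_bcZ n A).isoPullback_hom_fst

@[reassoc (attr := simp)]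
theorem isoOver_hom_toBase :
    (isoOver n A).hom ≫ CohB1.ProjSpaceOver.toBase n (Spec (CommRingCat.of A)) =
      CohB1.ProjSpace.toSpec n A :=
  (isPullback_bcZ n A).isoPullback_hom_snd

@[reassoc (attr := simp)]
theorem isoOver_inv_toSpec :
    (isoOver n A).inv ≫ CohB1.ProjSpace.toSpec n A =
      CohB1.ProjSpaceOver.toBase n (Spec (CommRingCat.of A)) := by
  rw [Iso.inv_comp_eq, isoOver_hom_toBase]

end OverSpec

end Groth.Agent.Lib.Seat16.PnBC
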