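import Groth.Agent.Lib.Seat16PnBC
import Groth.Agent.Lib.Helper27PMapTwist
import Groth.Agent.Lib.Helper27PnChart

/-!
# `(Proj φ)^* O(n) ≅ O(n)` for a graded ring hom `φ` with `ℬ₊ ≤ 𝒜₊ ℬ` (helper16)

Version of `Helper27PMapTwist.nonempty_pullback_twist_iso` for the TOTAL morphism `Proj.map φ`, allowing
different base rings for the two graded algebras; then base change of `O(d)` on projective space.
-/

set_option autoImplicit false
universe u

open CategoryTheory CategoryTheory.Limits AlgebraicGeometry TopologicalSpace Opposite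
  HomogeneousLocalization
open scoped HomogeneousIdeal
open Groth.Agent.Helper13RelProj
open Groth.Agent.Lib.Helper23.SecTw Groth.Agent.Lib.Helper6 Groth.Agent.Helper13PullbackUnit
  Groth.Agent.Lib.Helper27PullGen Groth.Agent.Lib.Helper27AwayGen Groth.Agent.Lib.Helper27PMapSec
  Groth.Agent.Lib.Helper27GrTildeSect

namespace Groth.Agent.Lib.Seat16.PnBC

section Main

variable {R R' A B : Type u} [CommRing R] [CommRing R'] [CommRing A] [Algebra R A]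
  {𝒜 : ℕ → Submodule R A} [GradedAlgebra 𝒜] [CommRing B] [Algebra R' B]
  {ℬ : ℕ → Submodule R' B} [GradedAlgebra ℬ]
  (φ : 𝒜 →+*ᵍ ℬ) (hirr : ℬ₊ ≤ 𝒜₊.map φ)
variable {ι : Type*} (G : ι → A) (hG : ∀ i, G i ∈ 𝒜 1)

include hG in
theorem map_mem_one' (i : ι) : φ (G i) ∈ ℬ 1 := Graded.map_mem φ (hG i)

/-- `(Proj φ)^♯ (G i / G k) = φ (G i) / φ (G k)`. -/
theorem appLE_cfun' (i k : ι) :
    (Proj.map φ hirr).appLE (Proj.basicOpen 𝒜 (G k)) (Proj.basicOpen ℬ (φ (G k))) le_rfl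
        (cfun 𝒜 1 G hG i k) =
      cfun ℬ 1 (fun i => φ (G i)) (map_mem_one' φ G hG) i k := by
  rw [← awayToSection_mk'_one 𝒜 G hG i k,
    ← awayToSection_mk'_one ℬ (fun i => φ (G i)) (map_mem_one' φ G hG) i k]
  have h := Proj.awayToSection_comp_appLE φ hirr (hG k)
  have h' := congr($h (mk' 𝒜 (hG k) 1 (G i) (hG i)))
  refine h'.trans ?_
  change (Proj.awayToSection ℬ (φ (G k))).hom (Away.map φ (G k) (mk' 𝒜 (hG k) 1 (G i) (hG i))) = _
  congr 1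
  rw [mk', Away.map_mk]
  rfl

/-- `(Proj φ)^♯` of the transition functions of `O(n)`. -/
theorem appLE_tfun' (p₀ q₀ : ℕ) (i k : ι) :
    (Proj.map φ hirr).appLE (Proj.basicOpen 𝒜 (G i) ⊓ Proj.basicOpen 𝒜 (G k))
        (Proj.basicOpen ℬ (φ (G i)) ⊓ Proj.basicOpen ℬ (φ (G k))) le_rfl
        (tfun 𝒜 G hG p₀ q₀ i k) =
      tfun ℬ (fun i => φ (G i)) (map_mem_one' φ G hG) p₀ q₀ i k := by
  rw [tfun, tfun, map_mul, map_pow, map_pow]
  have e1 : (Proj.map φ hirr).appLE (Proj.basicOpen 𝒜 (G i) ⊓ Proj.basicOpen 𝒜 (G k))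
      (Proj.basicOpen ℬ (φ (G i)) ⊓ Proj.basicOpen ℬ (φ (G k))) le_rfl
      (resf (inf_le_right : Proj.basicOpen 𝒜 (G i) ⊓ Proj.basicOpen 𝒜 (G k) ≤ _)
        (cfun 𝒜 1 G hG i k)) =
      resf (inf_le_right : Proj.basicOpen ℬ (φ (G i)) ⊓ Proj.basicOpen ℬ (φ (G k)) ≤ _)
        ((Proj.map φ hirr).appLE (Proj.basicOpen 𝒜 (G k)) (Proj.basicOpen ℬ (φ (G k))) le_rfl
          (cfun 𝒜 1 G hG i k)) :=
    appLE_resf (Proj.map φ hirr) _ _ _ _ _
  have e2 : (Proj.map φ hirr).appLE (Proj.basicOpen 𝒜 (G i) ⊓ Proj.basicOpen 𝒜 (G k))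
      (Proj.basicOpen ℬ (φ (G i)) ⊓ Proj.basicOpen ℬ (φ (G k))) le_rfl
      (resf (inf_le_left : Proj.basicOpen 𝒜 (G i) ⊓ Proj.basicOpen 𝒜 (G k) ≤ _)
        (cfun 𝒜 1 G hG k i)) =
      resf (inf_le_left : Proj.basicOpen ℬ (φ (G i)) ⊓ Proj.basicOpen ℬ (φ (G k)) ≤ _)
        ((Proj.map φ hirr).appLE (Proj.basicOpen 𝒜 (G i)) (Proj.basicOpen ℬ (φ (G i))) le_rfl
          (cfun 𝒜 1 G hG k i)) :=
    appLE_resf (Proj.map φ hirr) _ _ _ _ _
  rw [e1, e2, appLE_cfun' φ hirr G hG i k, appLE_cfun' φ hirr G hG k i]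

include hG in
/-- **`(Proj φ)^* O(n) ≅ O(n)`**, when `Proj ℬ` is covered by the `D₊(φ (G i))`, `deg G i = 1`. -/
theorem nonempty_pullback_twist_iso'
    (hcov : ∀ x : Proj ℬ, ∃ i, x ∈ Proj.basicOpen ℬ (φ (G i))) (n : ℤ) :
    Nonempty ((Scheme.Modules.pullback (Proj.map φ hirr)).obj (GrTilde.tilde 𝒜 𝒜 n) ≅
      GrTilde.tilde ℬ ℬ n) := by
  have : (GrTilde.tilde 𝒜 𝒜 n).IsQuasicoherent := isQuasicoherent_tilde 𝒜 𝒜 _
  have h : ((n.toNat : ℕ) : ℤ) = ((-n).toNat : ℕ) + n := by omega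
  generalize n.toNat = p₀ at h
  generalize (-n).toNat = q₀ at h
  have hH := map_mem_one' φ G hG
  set p := Proj.map φ hirr with hp
  let a : ∀ i, Γ((Scheme.Modules.pullback p).obj (GrTilde.tilde 𝒜 𝒜 n),
      Proj.basicOpen ℬ (φ (G i))) := fun i =>
    unitSec p (GrTilde.tilde 𝒜 𝒜 n) (le_refl (p ⁻¹ᵁ Proj.basicOpen 𝒜 (G i)))
      (zsec (hG i) n p₀ q₀ h)
  let b : ∀ i, Γ(GrTilde.tilde ℬ ℬ n, Proj.basicOpen ℬ (φ (G i))) := fun i =>
    zsec (hH i) n p₀ q₀ h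
  have ha : ∀ i, IsGen _ _ (a i) := fun i =>
    isGen_pullback p _ _ _ (isGen_zsec (hG i) n p₀ q₀ h)
  have hb : ∀ i, IsGen _ _ (b i) := fun i => isGen_zsec (hH i) n p₀ q₀ h
  obtain ⟨Φ, -⟩ := exists_iso_of_frames _ _ (fun i => Proj.basicOpen ℬ (φ (G i))) hcov a b ha hb
    (by
      intro i k g hg
      have u1 := unitSec_res p (GrTilde.tilde 𝒜 𝒜 n)
        (inf_le_left : Proj.basicOpen 𝒜 (G i) ⊓ Proj.basicOpen 𝒜 (G k) ≤ _)
        (le_refl (p ⁻¹ᵁ (Proj.basicOpen 𝒜 (G i) ⊓ Proj.basicOpen 𝒜 (G k))))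
        (zsec (hG i) n p₀ q₀ h)
      have u2 := unitSec_res p (GrTilde.tilde 𝒜 𝒜 n)
        (inf_le_right : Proj.basicOpen 𝒜 (G i) ⊓ Proj.basicOpen 𝒜 (G k) ≤ _)
        (le_refl (p ⁻¹ᵁ (Proj.basicOpen 𝒜 (G i) ⊓ Proj.basicOpen 𝒜 (G k))))
        (zsec (hG k) n p₀ q₀ h)
      have s1 : res ((Scheme.Modules.pullback p).obj (GrTilde.tilde 𝒜 𝒜 n))
          (inf_le_left : Proj.basicOpen ℬ (φ (G i)) ⊓ Proj.basicOpen ℬ (φ (G k)) ≤ _) (a i) =
          p.appLE (Proj.basicOpen 𝒜 (G i) ⊓ Proj.basicOpen 𝒜 (G k))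
            (Proj.basicOpen ℬ (φ (G i)) ⊓ Proj.basicOpen ℬ (φ (G k))) le_rfl
            (tfun 𝒜 G hG p₀ q₀ i k) •
          res ((Scheme.Modules.pullback p).obj (GrTilde.tilde 𝒜 𝒜 n))
            (inf_le_right : Proj.basicOpen ℬ (φ (G i)) ⊓ Proj.basicOpen ℬ (φ (G k)) ≤ _)
            (a k) := by
        refine u1.symm.trans ?_
        rw [res_zsec_eq_tfun 𝒜 G hG n p₀ q₀ h i k, unitSec_smul]
        congr 1
      have hgP : g = p.appLE (Proj.basicOpen 𝒜 (G i) ⊓ Proj.basicOpen 𝒜 (G k))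
            (Proj.basicOpen ℬ (φ (G i)) ⊓ Proj.basicOpen ℬ (φ (G k))) le_rfl
            (tfun 𝒜 G hG p₀ q₀ i k) := by
        apply ((ha k).mono (inf_le_right :
          Proj.basicOpen ℬ (φ (G i)) ⊓ Proj.basicOpen ℬ (φ (G k)) ≤ _) _ le_rfl).1
        change g • res _ le_rfl (res _ _ (a k)) = _ • res _ le_rfl (res _ _ (a k))
        rw [res_self, ← hg, s1]
      have e5 : p.appLE (Proj.basicOpen 𝒜 (G i) ⊓ Proj.basicOpen 𝒜 (G k))
            (Proj.basicOpen ℬ (φ (G i)) ⊓ Proj.basicOpen ℬ (φ (G k))) le_rfl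
            (tfun 𝒜 G hG p₀ q₀ i k) = tfun ℬ (fun i => φ (G i)) hH p₀ q₀ i k :=
        appLE_tfun' φ hirr G hG p₀ q₀ i k
      rw [hgP, e5]
      exact res_zsec_eq_tfun ℬ (fun i => φ (G i)) hH n p₀ q₀ h i k)
  exact ⟨Φ⟩

end Main

section Pn

variable (n : ℕ) {R A : Type u} [CommRing R] [CommRing A] (g : R →+* A)

/-- **base change of `O(d)`**: `(P^n_A → P^n_R)^* O(d) ≅ O(d)`. -/
theorem nonempty_pullback_bc_twist (d : ℤ) :
    Nonempty ((Scheme.Modules.pullback (bc n g)).obj (Twist.twistProjSpace n R d) ≅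
      Twist.twistProjSpace n A d) := by
  refine nonempty_pullback_twist_iso' (φ n g) (irrelevant_le n g)
    (fun i : Fin (n + 1) => (MvPolynomial.X i : MvPolynomial (Fin (n + 1)) R))
    (fun i => Groth.Agent.Lib.Helper27PnChart.X_mem_one n R i) (fun x => ?_) d
  have hx : x ∈ (⊤ : (Proj (CohB1.polyGrading n A)).Opens) := trivial
  rw [← Groth.Agent.Lib.Helper27PnChart.iSup_basicOpen_X n A] at hx
  obtain ⟨i, hi⟩ := TopologicalSpace.Opens.mem_iSup.mp hx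
  refine ⟨i, ?_⟩
  rw [φ_X]
  exact hi

variable (A)

/-- `O(d)` on `P^n_ℤ ×_ℤ Spec A` pulls back to `O(d)` on `P^n_A` along `isoOver`. -/
theorem nonempty_pullback_isoOver_hom (d : ℤ) :
    Nonempty ((Scheme.Modules.pullback (isoOver n A).hom).obj
      (Twist.twistOver n (Spec (CommRingCat.of A)) d) ≅ Twist.twistProjSpace n A d) := by
  obtain ⟨e⟩ := nonempty_pullback_bc_twist n (gZ A) d
  refine ⟨?_ ≪≫ e⟩
  unfold Twist.twistOver
  exact ((Scheme.Modules.pullbackComp (isoOver n A).hom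
    (pullback.fst (CohB1.ProjSpace.toSpec n (ULift.{u} ℤ))
      (specULiftZIsTerminal.from (Spec (CommRingCat.of A))))).app _) ≪≫
    (Scheme.Modules.pullbackCongr (isoOver_hom_fst n A)).app _

/-- `O(d)` on `P^n_A` pulls back to `O(d)` on `P^n_ℤ ×_ℤ Spec A` along the inverse of `isoOver`. -/
theorem nonempty_pullback_isoOver_inv (d : ℤ) :
    Nonempty ((Scheme.Modules.pullback (isoOver n A).inv).obj (Twist.twistProjSpace n A d) ≅
      Twist.twistOver n (Spec (CommRingCat.of A)) d) := by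
  obtain ⟨e⟩ := nonempty_pullback_isoOver_hom n A d
  exact ⟨(Scheme.Modules.pullback (isoOver n A).inv).mapIso e.symm ≪≫
    (Scheme.Modules.pullbackComp (isoOver n A).inv (isoOver n A).hom).app _ ≪≫
    (Scheme.Modules.pullbackCongr (isoOver n A).inv_hom_id).app _ ≪≫
    (Scheme.Modules.pullbackId _).app _⟩

/-- **`ProjSpaceOver n (Spec A) ≅ ProjSpace n A`** over `Spec A`, compatibly with `O(d)`. -/
theorem exists_iso_projSpaceOver_spec :
    ∃ e : CohB1.ProjSpaceOver n (Spec (CommRingCat.of A)) ≅ CohB1.ProjSpace n A,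
      e.hom ≫ CohB1.ProjSpace.toSpec n A = CohB1.ProjSpaceOver.toBase n (Spec (CommRingCat.of A)) ∧
      (∀ d : ℤ, Nonempty ((Scheme.Modules.pullback e.hom).obj (Twist.twistProjSpace n A d) ≅
        Twist.twistOver n (Spec (CommRingCat.of A)) d)) ∧
      (∀ d : ℤ, Nonempty ((Scheme.Modules.pullback e.inv).obj
        (Twist.twistOver n (Spec (CommRingCat.of A)) d) ≅ Twist.twistProjSpace n A d)) :=
  ⟨(isoOver n A).symm, isoOver_inv_toSpec n A, nonempty_pullback_isoOver_inv n A,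
    nonempty_pullback_isoOver_hom n A⟩

end Pn

end Groth.Agent.Lib.Seat16.PnBC
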