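import Groth.Agent.Lib.Seat54PnVanish

/-!
# Vanishing of the cohomology of `O(d)` on projective space, part 2 (helper54)

`subsingleton_HH_zero`: `H^0(P^n_R, O(d)) = 0` for `d < 0`, `n ≥ 1`; `subsingleton_HH_twist_all`: the full
vanishing statement; `nonempty_structure_iso`: `O ≅ O(0)`; `subsingleton_HH_structure`: `H^q(P^n, O) = 0`, `q > 0`.
-/

set_option autoImplicit false
universe u

open CategoryTheory CategoryTheory.Limits AlgebraicGeometry TopologicalSpace Opposite MvPolynomial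
open Groth.Agent.Lib.Helper16.CechLow Groth.Agent.Lib.Seat54.CechCoord Groth.Agent.Lib.Seat54.Laurent
  Groth.Agent.Lib.Seat54.PnLau Groth.Agent.Lib.Seat54.PnCech
open Groth.Agent.Lib.Helper27GrTildeSect Groth.Agent.Lib.Helper27PnSections

namespace Groth.Agent.Lib.Seat54.PnVanish

variable (n : ℕ) (R : Type u) [CommRing R]

local notation "𝒫" => CohB1.polyGrading n R
local notation "S" => MvPolynomial (Fin (n + 1)) R

/-- no global sections of `O(d)` for `d < 0` on `P^n`, `n ≥ 1` -/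
theorem sect_top_eq_zero (d : ℤ) (hd : d < 0) (hn : 0 < n) (s : Γ(GrTilde.tilde 𝒫 𝒫 d, ⊤)) : s = 0 := by
  classical
  have hdeg1 : ∀ k : Fin (n + 1), 0 < (Finsupp.single k 1 : Fin (n + 1) →₀ ℕ).degree := by
    intro k
    rw [Finsupp.degree_single]
    exact Nat.one_pos
  have hsupp : ∀ k : Fin (n + 1), ∀ e ∈ (emb d (le_top : V n R ≤ ⊤) s).support,
      e.degree = d ∧ ∀ j, e j < 0 → j ∈ (Finsupp.single k 1 : Fin (n + 1) →₀ ℕ).support := by
    intro k
    exact (mem_range_emb_D (d := d) (Finsupp.single k 1) (hdeg1 k) _).1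
      ⟨(GrTilde.tilde 𝒫 𝒫 d).presheaf.map (homOfLE le_top).op s, rfl⟩
  have hℓ : emb d (le_top : V n R ≤ ⊤) s = 0 := by
    rw [← Finsupp.support_eq_empty, Finset.eq_empty_iff_forall_notMem]
    intro e he
    have h0 := hsupp 0 e he
    have h1 := hsupp (Fin.last n) e he
    have hnonneg : ∀ j, 0 ≤ e j := by
      intro j
      by_contra hj
      push Not at hj
      have a0 := h0.2 j hj
      have a1 := h1.2 j hj
      rw [Finsupp.support_single_ne_zero _ one_ne_zero, Finset.mem_singleton] at a0 a1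
      have : (0 : Fin (n + 1)) = Fin.last n := a0.symm.trans a1
      have h2 := congrArg Fin.val this
      simp at h2
      omega
    have : 0 ≤ e.degree := by
      rw [Finsupp.degree_eq_sum]
      exact Finset.sum_nonneg (fun j _ => hnonneg j)
    rw [h0.1] at this
    omega
  have hk : ∀ k : Fin (n + 1),
      (GrTilde.tilde 𝒫 𝒫 d).presheaf.map (homOfLE (le_top : D n R (Finsupp.single k 1) ≤ ⊤)).op s = 0 := by
    intro k
    apply emb_injective_D (d := d) (Finsupp.single k 1) (hdeg1 k)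
    rw [map_zero]
    exact hℓ
  apply sec_ext
  intro y hy
  obtain ⟨k, hk'⟩ := exists_X_not_mem n R y
  have hyD : y ∈ D n R (Finsupp.single k 1) := (mem_D_iff _ y).2 hk'
  have h1 : secVal 𝒫 𝒫 d ⊤ s y hy = secVal 𝒫 𝒫 d (D n R (Finsupp.single k 1))
      ((GrTilde.tilde 𝒫 𝒫 d).presheaf.map (homOfLE (le_top : D n R (Finsupp.single k 1) ≤ ⊤)).op s)
        y hyD := rfl
  rw [h1, hk k]
  rfl

theorem subsingleton_HH_zero (d : ℤ) (hd : d < 0) (hn : 0 < n) :
    Subsingleton (Coh.HH (CohB1.ProjSpace n R) (Twist.twistProjSpace n R d) 0) := by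
  let e0 := hh0Equiv (CohB1.ProjSpace n R) (Twist.twistProjSpace n R d)
  refine ⟨fun a b => e0.injective ?_⟩
  have h : ∀ s : Γ(GrTilde.tilde 𝒫 𝒫 d, ⊤), s = 0 := sect_top_eq_zero n R d hd hn
  exact (h (e0 a)).trans (h (e0 b)).symm

/-- the cohomology of `O(d)` on `P^n` vanishes outside the two classical ranges -/
theorem subsingleton_HH_twist_all (d : ℤ) (q : ℕ)
    (h₀ : ¬ (q = 0 ∧ 0 ≤ d)) (hn : ¬ (q = n ∧ d ≤ -((n : ℤ) + 1))) :
    Subsingleton (Coh.HH (CohB1.ProjSpace n R) (Twist.twistProjSpace n R d) q) := by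
  rcases Nat.eq_zero_or_pos q with hq | hq
  · subst hq
    have hd : d < 0 := by
      by_contra hcon
      exact h₀ ⟨rfl, not_lt.mp hcon⟩
    have hn' : 0 < n := by
      rcases Nat.eq_zero_or_pos n with h | h
      · subst h
        exfalso
        apply hn
        refine ⟨rfl, ?_⟩
        push_cast
        omega
      · exact h
    exact subsingleton_HH_zero n R d hd hn'
  · rcases lt_trichotomy q n with hlt | heq | hgt
    · exact subsingleton_HH_twist n R d q hq (Or.inl hlt)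
    · refine subsingleton_HH_twist n R d q hq (Or.inr ?_)
      by_contra hcon
      exact hn ⟨heq, not_lt.mp hcon⟩
    · exact Groth.Agent.S0022.result n R (Twist.twistProjSpace n R d) q hgt

section StructureSheaf

open Groth.Agent.Lib.Helper23.SecTw Groth.Agent.Lib.Helper23.GenLocus Groth.Agent.Lib.Helper23.Extend
  Groth.Agent.Lib.Helper6

theorem isIso_secHom_of_isGen {X : Scheme.{u}} (M : X.Modules) (e : Γ(M, ⊤)) (he : IsGen M ⊤ e) :
    IsIso (secHom M e) := by
  rw [Scheme.Modules.Hom.isIso_iff_isIso_app]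
  intro W
  rw [ConcreteCategory.isIso_iff_bijective]
  have hfun : ⇑((secHom M e).app W) =
      (fun r : Γ(X, W) => r • res M (le_top : W ≤ ⊤) e) ∘ (ofS W) := by
    funext b
    have h1 := app_toS (secHom M e) W (ofS W b)
    rw [toS_ofS] at h1
    rw [h1, sv_secHom]
    rfl
  rw [hfun]
  exact (he W le_top).comp ⟨fun a b h => h, fun b => ⟨b, rfl⟩⟩

theorem one_not_mem (y : ProjectiveSpectrum 𝒫) : (1 : S) ∉ y.asHomogeneousIdeal :=
  fun h => y.isPrime.ne_top ((Ideal.eq_top_iff_one _).mpr h)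

/-- the structure sheaf is `O(0)` -/
theorem nonempty_structure_iso :
    Nonempty (Coh.structureModule (CohB1.ProjSpace n R) ≅ Twist.twistProjSpace n R 0) := by
  have h1 : (1 : S) ∈ CohB1.polyGrading n R 0 := SetLike.GradedOne.one_mem
  have hW : ∀ y : ((⊤ : (Proj 𝒫).Opens)), (1 : S) ∉ y.1.asHomogeneousIdeal := fun y => one_not_mem n R y.1
  have hij : ((0 : ℕ) : ℤ) = ((0 : ℕ) : ℤ) + 0 := by simp
  have hgen := isGen_fracSec 𝒫 0 ⊤ h1 h1 hij hW hW
  have hiso := isIso_secHom_of_isGen (X := Proj 𝒫) (GrTilde.tilde 𝒫 𝒫 0)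
    (fracSec 𝒫 0 ⊤ h1 h1 hij hW) hgen
  have φ : Coh.structureModule (Proj 𝒫) ≅ GrTilde.tilde 𝒫 𝒫 0 :=
    @asIso _ _ _ _ (secHom (X := Proj 𝒫) (GrTilde.tilde 𝒫 𝒫 0) (fracSec 𝒫 0 ⊤ h1 h1 hij hW)) hiso
  exact ⟨φ⟩

end StructureSheaf

theorem subsingleton_HH_of_iso {X : Scheme.{u}} {M N : X.Modules} (φ : M ≅ N) (q : ℕ)
    (h : Subsingleton (Coh.HH X N q)) : Subsingleton (Coh.HH X M q) := by
  let ψ : Coh.toAb M ≅ Coh.toAb N := (SheafOfModules.toSheaf X.ringCatSheaf).mapIso φ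
  let f : Coh.toAb M ⟶ Coh.toAb N := ψ.hom
  let g : Coh.toAb N ⟶ Coh.toAb M := ψ.inv
  have hfg : f ≫ g = 𝟙 _ := ψ.hom_inv_id
  refine ⟨fun a b => ?_⟩
  have ha : Sheaf.H.map g q (Sheaf.H.map f q a) = a := by
    rw [← Sheaf.H.map_comp_apply, hfg, Sheaf.H.map_id_apply]
  have hb : Sheaf.H.map g q (Sheaf.H.map f q b) = b := by
    rw [← Sheaf.H.map_comp_apply, hfg, Sheaf.H.map_id_apply]
  rw [← ha, ← hb, h.elim (Sheaf.H.map f q a) (Sheaf.H.map f q b)]

/-- `H^q(P^n_R, O) = 0` for `q > 0` -/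
theorem subsingleton_HH_structure (q : ℕ) (hq : 0 < q) :
    Subsingleton (Coh.HH (CohB1.ProjSpace n R) (Coh.structureModule (CohB1.ProjSpace n R)) q) := by
  obtain ⟨φ⟩ := nonempty_structure_iso n R
  refine subsingleton_HH_of_iso φ q (subsingleton_HH_twist n R 0 q hq (Or.inr ?_))
  have : (0 : ℤ) ≤ n := Int.natCast_nonneg n
  omega

end Groth.Agent.Lib.Seat54.PnVanish
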