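/-
Seat 81 helper library: the edge map `H^p(Y, f_* N) → H^p(X, N)` for abelian sheaves on
topological spaces, its compatibility with connecting homomorphisms, and bijectivity when the higher
direct images vanish.
-/
import Mathlib
import Groth.Prelude.Def_CohPull
import Groth.Prelude.Def_RDerDelta
import Groth.Agent.S16463
import Groth.Agent.Lib.Helper16Flasque

namespace Groth.Agent.Lib.Seat81.EdgeAb
open CategoryTheory CategoryTheory.Limits TopologicalSpace Opposite Abelian

universe u
variable {X Y : TopCat.{u}}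

/-- connecting hom of a short exact sequence of abelian sheaves -/
noncomputable abbrev extδ {X : TopCat.{u}} {S : ShortComplex (CohTop.Ab X)} (hS : S.ShortExact) (p : ℕ) :
    Sheaf.H S.X₃ p →+ Sheaf.H S.X₁ (p + 1) :=
  hS.extClass.postcomp (CohTop.const X (ULift.{u} ℤ)) rfl

theorem extδ_apply {X : TopCat.{u}} {S : ShortComplex (CohTop.Ab X)} (hS : S.ShortExact) (p : ℕ)
    (x : Sheaf.H S.X₃ p) : extδ hS p x = x.comp hS.extClass rfl := rfl

theorem pullAb_apply (f : X ⟶ Y) (M : CohTop.Ab Y) (p : ℕ) (x : Sheaf.H M p) :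
    CohPull.pullAb f M p x =
      (Ext.mk₀ (CohPull.oneTo f)).comp (x.mapExactFunctor (CohPull.inv f)) (zero_add p) := rfl

theorem pullAb_map (f : X ⟶ Y) {M M' : CohTop.Ab Y} (φ : M ⟶ M') (p : ℕ) (x : Sheaf.H M p) :
    CohPull.pullAb f M' p (Sheaf.H.map φ p x) =
      Sheaf.H.map ((CohPull.inv f).map φ) p (CohPull.pullAb f M p x) := by
  rw [pullAb_apply, pullAb_apply, Sheaf.H.map_apply, Sheaf.H.map_apply, Ext.mapExactFunctor_comp,
    Ext.mapExactFunctor_mk₀]
  exact (Ext.comp_assoc _ _ _ _ _ (by lia)).symm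

theorem pullAb_extδ (f : X ⟶ Y) {S : ShortComplex (CohTop.Ab Y)} (hS : S.ShortExact)
    (p : ℕ) (x : Sheaf.H S.X₃ p) :
    CohPull.pullAb f S.X₁ (p + 1) (extδ hS p x) =
      extδ (hS.map_of_exact (CohPull.inv f)) p (CohPull.pullAb f S.X₃ p x) := by
  rw [pullAb_apply, extδ_apply, Ext.mapExactFunctor_comp, Ext.mapExactFunctor_extClass]
  erw [extδ_apply, pullAb_apply]
  exact (Ext.comp_assoc _ _ _ _ _ (by lia)).symm

theorem map_extδ {S S' : ShortComplex (CohTop.Ab X)} (hS : S.ShortExact) (hS' : S'.ShortExact)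
    (φ : S ⟶ S') (p : ℕ) (x : Sheaf.H S.X₃ p) :
    Sheaf.H.map φ.τ₁ (p + 1) (extδ hS p x) = extδ hS' p (Sheaf.H.map φ.τ₃ p x) := by
  rw [Sheaf.H.map_apply, Sheaf.H.map_apply, extδ_apply, extδ_apply,
    Ext.comp_assoc _ _ _ _ _ (show p + 1 + 0 = p + 1 by lia),
    Ext.comp_assoc _ _ _ _ _ (show p + 0 + 1 = p + 1 by lia)]
  congr 1
  exact (ShortComplex.ShortExact.extClass_naturality hS hS' φ)

/-- The edge map `H^p(Y, f_* N) → H^p(X, N)` for abelian sheaves. -/
noncomputable def edgeAb (f : X ⟶ Y) (N : CohTop.Ab X) (p : ℕ) :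
    Sheaf.H ((CohTop.push f).obj N) p →+ Sheaf.H N p :=
  (Sheaf.H.map ((CohPull.invPushAdj f).counit.app N) p).comp
    (CohPull.pullAb f ((CohTop.push f).obj N) p)

theorem edgeAb_apply (f : X ⟶ Y) (N : CohTop.Ab X) (p : ℕ) (x : Sheaf.H ((CohTop.push f).obj N) p) :
    edgeAb f N p x = Sheaf.H.map ((CohPull.invPushAdj f).counit.app N) p
      (CohPull.pullAb f ((CohTop.push f).obj N) p x) := rfl

theorem edgeAb_map (f : X ⟶ Y) {N N' : CohTop.Ab X} (φ : N ⟶ N') (p : ℕ)
    (x : Sheaf.H ((CohTop.push f).obj N) p) :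
    edgeAb f N' p (Sheaf.H.map ((CohTop.push f).map φ) p x) = Sheaf.H.map φ p (edgeAb f N p x) := by
  rw [edgeAb_apply, edgeAb_apply, pullAb_map, ← Sheaf.H.map_comp_apply, ← Sheaf.H.map_comp_apply]
  congr 2
  exact (CohPull.invPushAdj f).counit.naturality φ

theorem edgeAb_extδ (f : X ⟶ Y) {S : ShortComplex (CohTop.Ab X)} (hS : S.ShortExact)
    (hS' : (S.map (CohTop.push f)).ShortExact) (p : ℕ)
    (x : Sheaf.H (S.map (CohTop.push f)).X₃ p) :
    edgeAb f S.X₁ (p + 1) (extδ hS' p x) = extδ hS p (edgeAb f S.X₃ p x) := by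
  have h1 := pullAb_extδ f hS' p x
  let φ : (S.map (CohTop.push f)).map (CohPull.inv f) ⟶ S :=
    { τ₁ := (CohPull.invPushAdj f).counit.app S.X₁
      τ₂ := (CohPull.invPushAdj f).counit.app S.X₂
      τ₃ := (CohPull.invPushAdj f).counit.app S.X₃
      comm₁₂ := ((CohPull.invPushAdj f).counit.naturality S.f).symm
      comm₂₃ := ((CohPull.invPushAdj f).counit.naturality S.g).symm }
  have h2 := map_extδ (hS'.map_of_exact (CohPull.inv f)) hS φ p
    (CohPull.pullAb f (S.map (CohTop.push f)).X₃ p x)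
  exact (congrArg (Sheaf.H.map φ.τ₁ (p + 1)) h1).trans h2

/-- In degree `0` the edge map is bijective. -/
theorem edgeAb_zero_bijective (f : X ⟶ Y) (N : CohTop.Ab X) : Function.Bijective (edgeAb f N 0) := by
  have key : ∀ x : Sheaf.H ((CohTop.push f).obj N) 0,
      Sheaf.H.equiv₀ N isTerminalTop (edgeAb f N 0 x) =
        Sheaf.H.equiv₀ ((CohTop.push f).obj N) isTerminalTop x := by
    intro x
    have e1 := CohPull.equiv₀_pullAb f ((CohTop.push f).obj N) x
    have e2 := Sheaf.H.equiv₀_naturality (T := (⊤ : Opens X)) isTerminalTop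
      ((CohPull.invPushAdj f).counit.app N) (CohPull.pullAb f ((CohTop.push f).obj N) 0 x)
    have tri := (CohPull.invPushAdj f).right_triangle_components N
    have e3 := congrArg (fun t => t.hom.app (op ⊤)
      (Sheaf.H.equiv₀ ((CohTop.push f).obj N) isTerminalTop x)) tri
    simp only [ObjectProperty.FullSubcategory.comp_hom, NatTrans.comp_app,
      ConcreteCategory.comp_apply] at e3
    refine e2.symm.trans ?_
    refine (congrArg _ e1).trans ?_
    exact e3
  have h2 : (fun x => Sheaf.H.equiv₀ N isTerminalTop (edgeAb f N 0 x)) =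
      fun x => Sheaf.H.equiv₀ ((CohTop.push f).obj N) isTerminalTop x := funext key
  have hb : Function.Bijective (fun x => Sheaf.H.equiv₀ N isTerminalTop (edgeAb f N 0 x)) := by
    rw [h2]; exact (Sheaf.H.equiv₀ ((CohTop.push f).obj N) isTerminalTop).bijective
  exact (Function.Bijective.of_comp_iff' (Sheaf.H.equiv₀ N isTerminalTop).bijective _).mp hb

instance push_preservesFiniteLimits (f : X ⟶ Y) : PreservesFiniteLimits (CohTop.push f) := by
  have : PreservesLimitsOfSize.{0, 0} (CohTop.push f) :=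
    (TopCat.Sheaf.pullbackPushforwardAdjunction AddCommGrpCat.{u} f).rightAdjoint_preservesLimits
  exact PreservesLimitsOfSize.preservesFiniteLimits _

/-- If `0 → N → I → Q → 0` is short exact and `R^1 f_* N = 0`, the pushed-forward sequence is short exact. -/
theorem push_shortExact (f : X ⟶ Y) (Δ : RDer.DerivedLES (CohTop.push f))
    {S : ShortComplex (CohTop.Ab X)} (hS : S.ShortExact)
    (h1 : IsZero ((CohTop.Rpush f 1).obj S.X₁)) : (S.map (CohTop.push f)).ShortExact := by
  have := hS.mono_f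
  have hex : (S.map (CohTop.push f)).Exact :=
    hS.exact.map_of_mono_of_preservesKernel (CohTop.push f) inferInstance inferInstance
  have hmono : Mono (S.map (CohTop.push f)).f := by
    change Mono ((CohTop.push f).map S.f)
    infer_instance
  have hepi0 : Epi ((CohTop.Rpush f 0).map S.g) :=
    (Δ.exact₃ S hS 0 1 rfl).epi_f (h1.eq_of_tgt _ _)
  have hepi : Epi (S.map (CohTop.push f)).g := by
    change Epi ((CohTop.push f).map S.g)
    have nat := (CohTop.push f).toRightDerivedZero.naturality S.g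
    have : Epi ((CohTop.push f).map S.g ≫ (CohTop.push f).toRightDerivedZero.app S.X₃) := by
      rw [nat]; infer_instance
    have e : (CohTop.push f).map S.g =
        ((CohTop.push f).map S.g ≫ (CohTop.push f).toRightDerivedZero.app S.X₃) ≫
          inv ((CohTop.push f).toRightDerivedZero.app S.X₃) := by
      rw [Category.assoc, IsIso.hom_inv_id, Category.comp_id]
    rw [e]; infer_instance
  exact { exact := hex, mono_f := hmono, epi_g := hepi }

end Groth.Agent.Lib.Seat81.EdgeAb
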