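/-
Seat 81 helper library: bijectivity of the abelian edge map when higher direct images vanish.
-/
import Mathlib
import Groth.Agent.Lib.Seat81EdgeAb

namespace Groth.Agent.Lib.Seat81.EdgeAb
open CategoryTheory CategoryTheory.Limits TopologicalSpace Opposite Abelian

universe u
variable {X Y : TopCat.{u}}

theorem edgeAb_bijective (f : X ⟶ Y) (p : ℕ) : ∀ (N : CohTop.Ab X),
    (∀ q : ℕ, IsZero ((CohTop.Rpush f (q + 1)).obj N)) → Function.Bijective (edgeAb f N p) := by
  induction p with
  | zero => exact fun N _ => edgeAb_zero_bijective f N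
  | succ p ih =>
    intro N hN
    obtain ⟨Δ⟩ := Groth.Agent.S16463.result (CohTop.push f)
    let S : ShortComplex (CohTop.Ab X) :=
      ShortComplex.mk (Injective.ι N) (cokernel.π (Injective.ι N)) (cokernel.condition _)
    have hS : S.ShortExact :=
      { exact := ShortComplex.exact_cokernel _
        mono_f := inferInstanceAs (Mono (Injective.ι N))
        epi_g := inferInstanceAs (Epi (cokernel.π (Injective.ι N))) }
    have : Injective S.X₂ := inferInstanceAs (Injective (Injective.under N))
    have hI : ∀ q : ℕ, IsZero ((CohTop.Rpush f (q + 1)).obj S.X₂) := fun q =>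
      Functor.isZero_rightDerived_obj_injective_succ _ q _
    have hQ : ∀ q : ℕ, IsZero ((CohTop.Rpush f (q + 1)).obj S.X₃) := fun q =>
      (Δ.exact₃ S hS (q + 1) (q + 2) rfl).isZero_of_both_isZero (hI q) (hN (q + 1))
    have hS' : (S.map (CohTop.push f)).ShortExact := push_shortExact f Δ hS (hN 0)
    -- acyclicity
    have hfl : TopCat.Sheaf.IsFlasque S.X₂ := Groth.Agent.Lib.Helper16.Flasque.injective_isFlasque S.X₂
    have hfl' : TopCat.Sheaf.IsFlasque ((CohTop.push f).obj S.X₂) :=
      TopCat.Sheaf.IsFlasque.pushforward_isFlasque S.X₂ f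
    have hHI : Subsingleton (Sheaf.H S.X₂ (p + 1)) := inferInstance
    have hHfI : Subsingleton (Sheaf.H ((CohTop.push f).obj S.X₂) (p + 1)) :=
      Groth.Agent.Lib.Helper16.Flasque.H_subsingleton _ p
    have ihI := ih S.X₂ hI
    have ihQ := ih S.X₃ hQ
    constructor
    · -- injective
      rw [injective_iff_map_eq_zero]
      intro a ha
      obtain ⟨b, hb⟩ := Ext.covariant_sequence_exact₁ _ hS' a (hHfI.elim _ _) rfl
      have hb' : extδ hS' p b = a := hb
      have h1 : extδ hS p (edgeAb f S.X₃ p b) = 0 := by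
        rw [← edgeAb_extδ f hS hS' p b, hb']; exact ha
      obtain ⟨c, hc⟩ := Ext.covariant_sequence_exact₃ _ hS (edgeAb f S.X₃ p b) rfl h1
      obtain ⟨c', rfl⟩ := ihI.2 c
      have h2 : edgeAb f S.X₃ p (Sheaf.H.map ((CohTop.push f).map S.g) p c') = edgeAb f S.X₃ p b := by
        rw [edgeAb_map]; exact hc
      have h3 := ihQ.1 h2
      rw [← hb', ← h3]
      change (c'.comp (Ext.mk₀ (S.map (CohTop.push f)).g) (add_zero p)).comp hS'.extClass rfl = 0
      rw [Ext.comp_assoc_of_second_deg_zero]
      have hz := hS'.comp_extClass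
      erw [hz]
      erw [Ext.comp_zero]
    · -- surjective
      intro z
      obtain ⟨w, hw⟩ := Ext.covariant_sequence_exact₁ _ hS z (hHI.elim _ _) rfl
      obtain ⟨w', rfl⟩ := ihQ.2 w
      refine ⟨extδ hS' p w', ?_⟩
      rw [edgeAb_extδ f hS hS' p w']
      exact hw

end Groth.Agent.Lib.Seat81.EdgeAb
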