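import Groth.Agent.Lib.Seat54HHFinite2
import Groth.Agent.Lib.Seat81EdgeAbBij
import Groth.Agent.Lib.Helper23PushAcyclic
import Groth.Agent.Lib.Helper23AffOpen2

set_option autoImplicit false
universe u
open CategoryTheory CategoryTheory.Limits AlgebraicGeometry Opposite TopologicalSpace

/-!
# Cohomology along an affine morphism, linearly over the base ring (seat 54)

`push_smulAb`: `f_*` of multiplication by `f^#(r)` is multiplication by `r`. For an `A`-morphism `f : X ⟶ Y` of
schemes over `Spec A`: `edgeLin` (helper81's edge map `H^p(Y, f_* M) → H^p(X, M)` is `A`-linear),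
`edgeLin_bijective`/`pushEquiv` (for `f` affine and `M` quasi-coherent), `finite_of_push`, `subsingleton_of_push`.
-/

namespace Groth.Agent.Lib.Seat54.PushLin

open Groth.Agent.Lib.Seat81.EdgeAb

variable {X Y : Scheme.{u}} (f : X ⟶ Y)

/-- `f^#` on global functions, typed on `Coh.Γtop` -/
noncomputable def appTopΓ : Coh.Γtop Y →+* Coh.Γtop X := f.appTop.hom

/-- the direct image of multiplication by `f^#(r)` is multiplication by `r` -/
theorem push_smulAb (M : X.Modules) (r : Coh.Γtop Y) :
    (Coh.pushAb f).map (Coh.smulAb M (appTopΓ f r)) =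
      Coh.smulAb ((Scheme.Modules.pushforward f).obj M) r := by
  ext U m
  refine (Coh.smulAb_app M (appTopΓ f r) (op (f ⁻¹ᵁ U.unop)) m).trans ?_
  refine Eq.trans ?_ (Coh.smulAb_app ((Scheme.Modules.pushforward f).obj M) r U m).symm
  have key : Coh.resTop X (op (f ⁻¹ᵁ unop U)) (appTopΓ f r) =
      (show X.ringCatSheaf.obj.obj (op (f ⁻¹ᵁ U.unop)) from (f.app U.unop).hom (Coh.resTop Y U r)) := by
    have h := f.naturality (homOfLE (le_top (a := U.unop))).op
    exact (congrArg (fun t => t.hom r) h).symm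
  rw [key]
  rfl

variable (A : Type u) [CommRing A] [X.Over (Spec (CommRingCat.of A))] [Y.Over (Spec (CommRingCat.of A))]
  (hf : f ≫ (Y ↘ Spec (CommRingCat.of A)) = X ↘ Spec (CommRingCat.of A))

include hf in
theorem appTopΓ_toGlobal (a : A) :
    appTopΓ f (Coh.toGlobal (Y ↘ Spec (CommRingCat.of A)) a) =
      Coh.toGlobal (X ↘ Spec (CommRingCat.of A)) a := by
  rw [← hf]
  unfold Coh.toGlobal appTopΓ
  rw [Scheme.Hom.comp_appTop]
  rfl

include hf in
theorem edge_smul (M : X.Modules) (p : ℕ) (a : A)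
    (x : Sheaf.H ((CohTop.push f.base).obj (Coh.toAb M)) p) :
    edgeAb f.base (Coh.toAb M) p
        (Sheaf.H.map (Coh.smulAb ((Scheme.Modules.pushforward f).obj M)
          (Coh.toGlobal (Y ↘ Spec (CommRingCat.of A)) a)) p x) =
      Sheaf.H.map (Coh.smulAb M (Coh.toGlobal (X ↘ Spec (CommRingCat.of A)) a)) p
        (edgeAb f.base (Coh.toAb M) p x) := by
  have h := edgeAb_map f.base (Coh.smulAb M (Coh.toGlobal (X ↘ Spec (CommRingCat.of A)) a)) p x
  have h2 : (CohTop.push f.base).map (Coh.smulAb M (Coh.toGlobal (X ↘ Spec (CommRingCat.of A)) a)) =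
      Coh.smulAb ((Scheme.Modules.pushforward f).obj M)
        (Coh.toGlobal (Y ↘ Spec (CommRingCat.of A)) a) :=
    (congrArg (fun t => (Coh.pushAb f).map (Coh.smulAb M t)) (appTopΓ_toGlobal f A hf a)).symm.trans
      (push_smulAb f M (Coh.toGlobal (Y ↘ Spec (CommRingCat.of A)) a))
  exact (congrArg (fun t => edgeAb f.base (Coh.toAb M) p (Sheaf.H.map t p x)) h2).symm.trans h

/-- the edge map `H^p(Y, f_* M) → H^p(X, M)` as an `A`-linear map, for an `A`-morphism `f` -/
noncomputable def edgeLin (M : X.Modules) (p : ℕ) :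
    Coh.HH Y ((Scheme.Modules.pushforward f).obj M) p →ₗ[A] Coh.HH X M p where
  toFun x := edgeAb f.base (Coh.toAb M) p x
  map_add' x y := map_add (edgeAb f.base (Coh.toAb M) p) x y
  map_smul' a x := edge_smul f A hf M p a x

theorem edgeLin_apply (M : X.Modules) (p : ℕ) (x : Coh.HH Y ((Scheme.Modules.pushforward f).obj M) p) :
    edgeLin f A hf M p x = edgeAb f.base (Coh.toAb M) p x := rfl

open Groth.Agent.Lib.Helper23.AffVanish in
/-- for an affine morphism and a quasi-coherent module the edge map is bijective -/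
theorem edgeLin_bijective [IsAffineHom f] (M : X.Modules) [Coh.IsQCoh M] (p : ℕ) :
    Function.Bijective (edgeLin f A hf M p) := by
  have h : ∀ q : ℕ, IsZero ((CohTop.Rpush f.base (q + 1)).obj (Coh.toAb M)) := by
    intro n
    refine isZero_Rpush_of_basis f.base Y.affineOpens Y.isBasis_affineOpens (ab' M) ?_ n
    intro V hV j
    exact subsingleton_HE_of_isAffineOpen (IsAffineOpen.preimage hV f) M j
  exact edgeAb_bijective f.base p (Coh.toAb M) h

/-- cohomology along an affine `A`-morphism, `A`-linearly -/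
noncomputable def pushEquiv [IsAffineHom f] (M : X.Modules) [Coh.IsQCoh M] (p : ℕ) :
    Coh.HH Y ((Scheme.Modules.pushforward f).obj M) p ≃ₗ[A] Coh.HH X M p :=
  LinearEquiv.ofBijective (edgeLin f A hf M p) (edgeLin_bijective f A hf M p)

include hf in
theorem finite_of_push [IsAffineHom f] (M : X.Modules) [Coh.IsQCoh M] (p : ℕ)
    (h : Module.Finite A (Coh.HH Y ((Scheme.Modules.pushforward f).obj M) p)) :
    Module.Finite A (Coh.HH X M p) :=
  Module.Finite.equiv (pushEquiv f A hf M p)

omit [X.Over (Spec (CommRingCat.of A))] [Y.Over (Spec (CommRingCat.of A))] in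
open Groth.Agent.Lib.Helper23.AffVanish in
theorem subsingleton_of_push [IsAffineHom f] (M : X.Modules) [Coh.IsQCoh M] (p : ℕ)
    (h : Subsingleton (Coh.HH Y ((Scheme.Modules.pushforward f).obj M) p)) :
    Subsingleton (Coh.HH X M p) := by
  have hz : ∀ q : ℕ, IsZero ((CohTop.Rpush f.base (q + 1)).obj (Coh.toAb M)) := by
    intro n
    refine isZero_Rpush_of_basis f.base Y.affineOpens Y.isBasis_affineOpens (ab' M) ?_ n
    intro V hV j
    exact subsingleton_HE_of_isAffineOpen (IsAffineOpen.preimage hV f) M j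
  have hb := edgeAb_bijective f.base p (Coh.toAb M) hz
  have h' : Subsingleton (Sheaf.H ((CohTop.push f.base).obj (Coh.toAb M)) p) := h
  exact hb.2.subsingleton

end Groth.Agent.Lib.Seat54.PushLin
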