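import Groth.Agent.Lib.Seat16PnBCTwist
import Groth.Agent.Lib.Seat54PnVanish2
import Groth.Agent.Lib.Seat54PushLin
import Groth.Agent.Lib.Helper4PPSch
import Groth.Agent.Lib.Helper20PullbackAff
import Groth.Agent.Lib.Helper23TensorQCoh
import Groth.Agent.S9705

/-!
# Charts of `P^r_Y → Y` over affine opens of `Y` (helper16)

For `V ⊆ Y` affine open, `π⁻¹ V ≅ P^r_{Γ(V)}` compatibly with `O(d)`; consequence: cohomology of `O(d)` on
`π⁻¹ V`.
-/

set_option autoImplicit false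
universe u

open CategoryTheory CategoryTheory.Limits AlgebraicGeometry TopologicalSpace Opposite

namespace Groth.Agent.Lib.Seat16.PnOverChart

open Groth.Agent.Lib.Seat16.PnBC

variable (r : ℕ) (Y : Scheme.{u}) (V : Y.Opens) (hV : IsAffineOpen V)

/-- `ℤ` in universe `u`. -/
abbrev Zr : Type u := ULift.{u} ℤ

local notation "π" => CohB1.ProjSpaceOver.toBase r Y

/-- the first projection `P^r_Y → P^r_ℤ`. -/
noncomputable abbrev fstZ : CohB1.ProjSpaceOver r Y ⟶ CohB1.ProjSpace r Zr.{u} :=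
  pullback.fst (CohB1.ProjSpace.toSpec r Zr.{u}) (specULiftZIsTerminal.from Y)

include hV in
theorem isPullback_chart :
    IsPullback ((π ⁻¹ᵁ V).ι ≫ fstZ r Y) ((π ∣_ V) ≫ hV.isoSpec.hom)
      (CohB1.ProjSpace.toSpec r Zr.{u}) (Spec.map (CommRingCat.ofHom (gZ Γ(Y, V)))) := by
  have h3 := (isPullback_morphismRestrict π V).flip
  have h2 : IsPullback (fstZ r Y) π (CohB1.ProjSpace.toSpec r Zr.{u}) (specULiftZIsTerminal.from Y) :=
    IsPullback.of_hasPullback _ _
  have h4 := h3.paste_horiz h2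
  refine h4.of_iso (Iso.refl _) (Iso.refl _) hV.isoSpec (Iso.refl _) (by simp) (by simp) (by simp)
    (specULiftZIsTerminal.hom_ext _ _)

/-- the chart iso `π⁻¹ V ≅ P^r_{Γ(V)}`. -/
noncomputable def chartIso : (↑(π ⁻¹ᵁ V) : Scheme.{u}) ≅ CohB1.ProjSpace r Γ(Y, V) :=
  (isPullback_chart r Y V hV).isoIsPullback _ _ (isPullback_bc r (gZ Γ(Y, V)))

theorem chartIso_hom_bc :
    (chartIso r Y V hV).hom ≫ bc r (gZ Γ(Y, V)) = (π ⁻¹ᵁ V).ι ≫ fstZ r Y :=
  IsPullback.isoIsPullback_hom_fst _ _ _ _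

theorem chartIso_hom_toSpec :
    (chartIso r Y V hV).hom ≫ CohB1.ProjSpace.toSpec r Γ(Y, V) = (π ∣_ V) ≫ hV.isoSpec.hom :=
  IsPullback.isoIsPullback_hom_snd _ _ _ _

/-- `O(d)` on the chart. -/
theorem nonempty_pullback_chartIso_twist (d : ℤ) :
    Nonempty ((Scheme.Modules.pullback (chartIso r Y V hV).hom).obj
      (Twist.twistProjSpace r Γ(Y, V) d) ≅ (Twist.twistOver r Y d).restrict (π ⁻¹ᵁ V).ι) := by
  obtain ⟨tw⟩ := nonempty_pullback_bc_twist r (gZ Γ(Y, V)) d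
  exact ⟨(Scheme.Modules.pullback (chartIso r Y V hV).hom).mapIso tw.symm ≪≫
    (Scheme.Modules.pullbackComp (chartIso r Y V hV).hom (bc r (gZ Γ(Y, V)))).app _ ≪≫
    (Scheme.Modules.pullbackCongr (chartIso_hom_bc r Y V hV)).app _ ≪≫
    ((Scheme.Modules.pullbackComp (π ⁻¹ᵁ V).ι (fstZ r Y)).app _).symm ≪≫
    ((Scheme.Modules.restrictFunctorIsoPullback (π ⁻¹ᵁ V).ι).app _).symm⟩

/-- quasi-coherence of `O(d)` on `P^r_Y`. -/
instance isQuasicoherent_twistOver (d : ℤ) : (Twist.twistOver r Y d).IsQuasicoherent := by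
  unfold Twist.twistOver
  exact Groth.Agent.Lib.Helper20.PullbackAff.isQuasicoherent_pullback _ _

include hV in
/-- cohomology of `O(d)` over the preimage of an affine open vanishes outside the two classical ranges. -/
theorem subsingleton_HHon_twistOver (d : ℤ) (q : ℕ)
    (h₀ : ¬ (q = 0 ∧ 0 ≤ d)) (hn : ¬ (q = r ∧ d ≤ -((r : ℤ) + 1))) :
    Subsingleton (Coh.HHon (CohB1.ProjSpaceOver r Y) (Twist.twistOver r Y d) (π ⁻¹ᵁ V) q) := by
  obtain ⟨ε⟩ := nonempty_pullback_chartIso_twist r Y V hV d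
  have hT := Groth.Agent.Lib.Seat54.PnVanish.subsingleton_HH_twist_all r Γ(Y, V) d q h₀ hn
  have : ((Scheme.Modules.pullback (chartIso r Y V hV).hom).obj
      (Twist.twistProjSpace r Γ(Y, V) d)).IsQuasicoherent :=
    Groth.Agent.Lib.Helper20.PullbackAff.isQuasicoherent_pullback _ _
  have hN : ((Twist.twistOver r Y d).restrict (π ⁻¹ᵁ V).ι).IsQuasicoherent :=
    Groth.Agent.Lib.Helper23.TensorQCoh.isQuasicoherent_of_iso ε
  have := Groth.Agent.Lib.Helper4.PPSch.isIso_unit_app (chartIso r Y V hV).hom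
    (Twist.twistProjSpace r Γ(Y, V) d)
  let φ : Twist.twistProjSpace r Γ(Y, V) d ≅
      (Scheme.Modules.pushforward (chartIso r Y V hV).hom).obj
        ((Twist.twistOver r Y d).restrict (π ⁻¹ᵁ V).ι) :=
    asIso ((Scheme.Modules.pullbackPushforwardAdjunction (chartIso r Y V hV).hom).unit.app
      (Twist.twistProjSpace r Γ(Y, V) d)) ≪≫
      (Scheme.Modules.pushforward (chartIso r Y V hV).hom).mapIso ε
  have h1 := Groth.Agent.Lib.Seat54.PnVanish.subsingleton_HH_of_iso φ.symm q hT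
  exact Groth.Agent.Lib.Seat54.PushLin.subsingleton_of_push (chartIso r Y V hV).hom
    ((Twist.twistOver r Y d).restrict (π ⁻¹ᵁ V).ι) q h1

end Groth.Agent.Lib.Seat16.PnOverChart
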