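import Mathlib
import Groth.Prelude.Def_Dual3
import Groth.Agent.Lib.Seat16IdealMul
import Groth.Agent.Lib.Helper18Strict1
import Groth.Agent.Lib.Helper23QCohAbelian
import Groth.Agent.Lib.Helper23QCohLocal
import Groth.Agent.Lib.Helper2PullbackSec

/-!
# Seat16: subsheaves of modules compared on affine sections; sections of `I · F`

* `exists_lift_of_forall_affine`, `exists_iso_of_forall_affine`: two subobjects `a : K ⟶ M`, `b : K' ⟶ M` in
  `X.Modules` are compared on sections over affine opens.
* `isQuasicoherent_idealMul`: `I · F` is quasi-coherent when `F` is.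
* `idealMulι_app_mem`, `exists_idealMulι_app_eq`, `idealMulι_app_injective`: for `F` quasi-coherent and `U` affine,
  the inclusion identifies `Γ(I·F, U)` with `I(U) · Γ(F, U)`.
-/

set_option autoImplicit false
set_option linter.style.haveILetI false
universe u

open CategoryTheory CategoryTheory.Limits AlgebraicGeometry TopologicalSpace Opposite

namespace Groth.Agent.Lib.Seat16.SubSheaf

open Groth.Agent.Lib.Seat16.IdealMul Groth.Agent.Lib.Helper2.ModExact

variable {X : Scheme.{u}}

/-- a morphism into `M` whose affine sections all lie in the image of the monomorphism `b` factors through `b`. -/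
theorem exists_lift_of_forall_affine {K K' M : X.Modules} (a : K ⟶ M) (b : K' ⟶ M) [Mono b]
    (h : ∀ U : X.affineOpens, ∀ s : Γ(K, U.1), ∃ t : Γ(K', U.1), b.app U.1 t = a.app U.1 s) :
    ∃ l : K ⟶ K', l ≫ b = a := by
  have h0 : a ≫ cokernel.π b = 0 := by
    refine Groth.Agent.Helper18Strict.hom_eq_zero_of_basis _ X.affineOpens X.isBasis_affineOpens ?_
    intro V hV s
    obtain ⟨t, ht⟩ := h ⟨V, hV⟩ s
    have e1 : (a ≫ cokernel.π b).app V s = (cokernel.π b).app V (a.app V s) := rfl
    have e2 : (cokernel.π b).app V (b.app V t) = (b ≫ cokernel.π b).app V t := rfl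
    rw [e1, ← ht, e2, cokernel.condition]
    rfl
  exact ⟨Abelian.monoLift b a h0, Abelian.monoLift_comp b a h0⟩

/-- two subobjects with the same affine sections are isomorphic over `M`. -/
theorem exists_iso_of_forall_affine {K K' M : X.Modules} (a : K ⟶ M) (b : K' ⟶ M) [Mono a] [Mono b]
    (h₁ : ∀ U : X.affineOpens, ∀ s : Γ(K, U.1), ∃ t : Γ(K', U.1), b.app U.1 t = a.app U.1 s)
    (h₂ : ∀ U : X.affineOpens, ∀ t : Γ(K', U.1), ∃ s : Γ(K, U.1), a.app U.1 s = b.app U.1 t) :
    ∃ e : K ≅ K', e.hom ≫ b = a := by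
  obtain ⟨l, hl⟩ := exists_lift_of_forall_affine a b h₁
  obtain ⟨r, hr⟩ := exists_lift_of_forall_affine b a h₂
  refine ⟨⟨l, r, ?_, ?_⟩, hl⟩
  · rw [← cancel_mono a, Category.assoc, hr, hl, Category.id_comp]
  · rw [← cancel_mono b, Category.assoc, hl, hr, Category.id_comp]

section idealMul

variable (J : X.IdealSheafData) (F : X.Modules)

/-- `I · F` is quasi-coherent when `F` is. -/
theorem isQuasicoherent_idealMul [F.IsQuasicoherent] : ((Dual3.idealMul J).obj F).IsQuasicoherent := by
  haveI : ((Scheme.Modules.pullback J.subschemeι).obj F).IsQuasicoherent :=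
    Groth.Agent.Lib.Helper2.PullbackSec.isQuasicoherent_pullback _ _
  haveI : ((Scheme.Modules.pushforward J.subschemeι).obj
      ((Scheme.Modules.pullback J.subschemeι).obj F)).IsQuasicoherent :=
    Groth.Agent.Lib.Helper23.QCohLocal.isQuasicoherent_pushforward _ _
  exact Groth.Agent.Lib.Helper23.QCohLocal.isQuasicoherent_kernel (M := F)
    (N := (Scheme.Modules.pushforward J.subschemeι).obj ((Scheme.Modules.pullback J.subschemeι).obj F))
    ((Scheme.Modules.pullbackPushforwardAdjunction J.subschemeι).unit.app F)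

theorem idealMulι_app_injective (U : X.Opens) :
    Function.Injective ((Dual3.idealMulι J F).app U) :=
  app_injective_of_mono (Dual3.idealMulι J F) U

theorem idealMulι_app_mem [F.IsQuasicoherent] (U : X.affineOpens) (t : Γ((Dual3.idealMul J).obj F, U.1)) :
    (Dual3.idealMulι J F).app U.1 t ∈ (J.ideal U • ⊤ : Submodule Γ(X, U.1) Γ(F, U.1)) :=
  mem_smul_top_of_unit_eq_zero J F U _ (app_kernel_ι_eq_zero _ U.1 t)

theorem exists_idealMulι_app_eq (U : X.affineOpens) (m : Γ(F, U.1))
    (hm : m ∈ (J.ideal U • ⊤ : Submodule Γ(X, U.1) Γ(F, U.1))) :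
    ∃ t : Γ((Dual3.idealMul J).obj F, U.1), (Dual3.idealMulι J F).app U.1 t = m :=
  exists_kernel_of_app_eq_zero _ U.1 m (unit_eq_zero_of_mem_smul_top J U F m hm)

end idealMul

end Groth.Agent.Lib.Seat16.SubSheaf
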