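import Mathlib
import Groth.Prelude.Def_Dual3
import Groth.Agent.Lib.Seat16SubSheaf
import Groth.Agent.Lib.Helper2QCoh

/-!
# Seat16: morphisms out of quasi-coherent modules checked on an affine cover; killing by powers of an ideal

* `hom_eq_zero_of_affine_cover`: a morphism out of a quasi-coherent module vanishing on the sections over the members
  of an affine open cover is zero.
* `app_eq_zero_of_restrict_eq_zero`: `ψ|_U = 0` means `ψ` vanishes on sections over every open `W ≤ U`.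
* `exists_pow_le_annihilator`: a f.g. module each of whose elements is killed by a power of each element of a f.g.
  ideal `I` is killed by a power of `I`.
* `basicOpen_le_of_mem_ideal`: `D(f) ≤ X \ V(I)` for `f ∈ I(V)`.
* `exists_pow_kill`: if `ψ : K ⟶ F` (`F` quasi-coherent) vanishes over `X \ V(I)` and `Γ(K, V)` is finite over the
  Noetherian ring `Γ(X, V)`, some power of `I(V)` kills the image of `ψ` on `V`.
-/

set_option autoImplicit false
set_option linter.style.haveILetI false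
universe u

open CategoryTheory CategoryTheory.Limits AlgebraicGeometry TopologicalSpace Opposite

namespace Groth.Agent.Lib.Seat16.PowKill

open Groth.Agent.Lib.Helper2.ModExact

variable {X : Scheme.{u}}

theorem hom_eq_zero_of_affine_cover {K C : X.Modules} [K.IsQuasicoherent] (φ : K ⟶ C)
    (𝒱 : Set X.Opens) (haff : ∀ V ∈ 𝒱, IsAffineOpen V) (hcov : ∀ x : X, ∃ V ∈ 𝒱, x ∈ V)
    (h : ∀ V ∈ 𝒱, ∀ s : Γ(K, V), φ.app V s = 0) : φ = 0 := by
  let 𝔅 : Set X.Opens := {W | ∃ V ∈ 𝒱, ∃ g : Γ(X, V), W = X.basicOpen g}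
  have hB : Opens.IsBasis 𝔅 := by
    rw [Opens.isBasis_iff_nbhd]
    intro U x hx
    obtain ⟨V, hV, hxV⟩ := hcov x
    obtain ⟨g, hg, hxg⟩ := (haff V hV).exists_basicOpen_le ⟨x, hx⟩ hxV
    exact ⟨X.basicOpen g, ⟨V, hV, g, rfl⟩, hxg, hg⟩
  refine Groth.Agent.Helper18Strict.hom_eq_zero_of_basis φ 𝔅 hB ?_
  rintro W ⟨V, hV, g, rfl⟩ s
  obtain ⟨n, t, ht⟩ := Groth.Agent.Lib.Helper2.QCoh.exists_extension (haff V hV) K g s
  have h1 : φ.app (X.basicOpen g) (K.presheaf.map (homOfLE (X.basicOpen_le g)).op t) = 0 := by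
    rw [app_map, h V hV t, map_zero]
  rw [ht, Scheme.Modules.Hom.app_smul] at h1
  have hu : IsUnit (X.presheaf.map (homOfLE (X.basicOpen_le g)).op g) :=
    RingedSpace.isUnit_res_basicOpen X.toRingedSpace g
  exact (hu.pow n).smul_eq_zero.1 h1

theorem app_eq_zero_of_restrict_eq_zero {A B : X.Modules} (ψ : A ⟶ B) (U : X.Opens)
    (h : (Scheme.Modules.restrictFunctor U.ι).map ψ = 0) (W : X.Opens) (hW : W ≤ U) (s : Γ(A, W)) :
    ψ.app W s = 0 := by
  have hW₂ : U.ι ''ᵁ (U.ι ⁻¹ᵁ W) = W := by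
    rw [Groth.Agent.Helper18Strict.ι_image_preimage]
    exact inf_eq_right.2 hW
  obtain ⟨W', rfl⟩ : ∃ W', W = U.ι ''ᵁ W' := ⟨U.ι ⁻¹ᵁ W, hW₂.symm⟩
  have : ((Scheme.Modules.restrictFunctor U.ι).map ψ).app W' s = 0 := by
    rw [h]
    rfl
  exact this

theorem exists_pow_le_annihilator {A : Type*} [CommRing A] {P : Type*} [AddCommGroup P] [Module A P]
    (I : Ideal A) (hI : I.FG) (Q : Submodule A P) (hQ : Q.FG)
    (h : ∀ f ∈ I, ∀ q ∈ Q, ∃ e : ℕ, f ^ e • q = 0) :
    ∃ k : ℕ, ∀ b ∈ I ^ k, ∀ q ∈ Q, b • q = 0 := by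
  classical
  have hrad : I ≤ (Q.annihilator).radical := by
    intro f hf
    obtain ⟨S, hS⟩ := hQ
    have : ∀ s ∈ S, ∃ e : ℕ, f ^ e • s = 0 := fun s hs =>
      h f hf s (hS ▸ Submodule.subset_span hs)
    choose! e he using this
    refine ⟨S.sup e, ?_⟩
    rw [← hS, Submodule.mem_annihilator_span]
    rintro ⟨s, hs⟩
    have hle : e s ≤ S.sup e := Finset.le_sup hs
    change f ^ S.sup e • s = 0
    rw [← Nat.sub_add_cancel hle, pow_add, mul_smul, he s hs, smul_zero]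
  obtain ⟨k, hk⟩ := Ideal.exists_pow_le_of_le_radical_of_fg hrad hI
  exact ⟨k, fun b hb q hq => (Submodule.mem_annihilator.1 (hk hb)) q hq⟩

theorem basicOpen_le_of_mem_ideal (I : X.IdealSheafData) (U : X.Opens)
    (hU : (U : Set X) = (I.support : Set X)ᶜ) (V : X.affineOpens) (f : Γ(X, V.1)) (hf : f ∈ I.ideal V) :
    X.basicOpen f ≤ U := by
  intro x hx
  have hxV : x ∈ V.1 := X.basicOpen_le f hx
  change x ∈ (U : Set X)
  rw [hU]
  intro hxs
  have h1 : x ∈ X.zeroLocus (U := V.1) (I.ideal V) :=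
    (Scheme.IdealSheafData.mem_support_iff_of_mem (U := V) hxV).1 hxs
  exact (X.mem_zeroLocus_iff _ x).1 h1 f hf hx

/-- sections over `V` of a morphism of modules, as a linear map. -/
noncomputable def appₗ {K F : X.Modules} (ψ : K ⟶ F) (V : X.Opens) : Γ(K, V) →ₗ[Γ(X, V)] Γ(F, V) where
  toFun x := ψ.app V x
  map_add' x y := map_add _ x y
  map_smul' r x := Scheme.Modules.Hom.app_smul ψ r x

theorem appₗ_apply {K F : X.Modules} (ψ : K ⟶ F) (V : X.Opens) (x : Γ(K, V)) :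
    appₗ ψ V x = ψ.app V x := rfl

theorem exists_pow_kill [IsLocallyNoetherian X] (I : X.IdealSheafData) (U : X.Opens)
    (hU : (U : Set X) = (I.support : Set X)ᶜ) {K F : X.Modules} [F.IsQuasicoherent] (ψ : K ⟶ F)
    (hψ : ∀ W : X.Opens, W ≤ U → ∀ s : Γ(K, W), ψ.app W s = 0)
    (V : X.affineOpens) (hfin : Module.Finite Γ(X, V.1) Γ(K, V.1)) :
    ∃ k : ℕ, ∀ b ∈ (I.ideal V) ^ k, ∀ t : Γ(K, V.1), b • ψ.app V.1 t = 0 := by
  haveI : IsNoetherianRing Γ(X, V.1) := IsLocallyNoetherian.component_noetherian V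
  have hI : (I.ideal V).FG := IsNoetherian.noetherian _
  have hQ : (LinearMap.range (appₗ ψ V.1)).FG := by
    rw [LinearMap.range_eq_map]
    exact (Module.Finite.fg_top).map _
  obtain ⟨k, hk⟩ := exists_pow_le_annihilator (I.ideal V) hI (LinearMap.range (appₗ ψ V.1)) hQ (by
    rintro f hf _ ⟨t, rfl⟩
    have hle : X.basicOpen f ≤ U := basicOpen_le_of_mem_ideal I U hU V f hf
    have h0 : F.presheaf.map (homOfLE (X.basicOpen_le f)).op (ψ.app V.1 t) = 0 := by
      rw [← app_map]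
      exact hψ _ hle _
    exact Groth.Agent.Lib.Helper2.QCoh.exists_pow_smul_eq_zero V.2 F f _ h0)
  exact ⟨k, fun b hb t => hk b hb _ ⟨t, rfl⟩⟩

end Groth.Agent.Lib.Seat16.PowKill
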