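import Mathlib
import Groth.Prelude.Def_ModSite2
import Groth.Agent.Lib.Helper1Sky2
import Groth.Agent.Lib.Helper4ModEpi
set_option backward.isDefEq.respectTransparency.types false

/-!
# Modules on a ringed space: stalk functor, skyscrapers, epi/mono stalkwise (seat 93)

For a ringed space `(X, O)` (`X : TopCat`, `O : TopCat.Sheaf CommRingCat X`) and `ModSite.Mod O`
(Mathlib's sheaves of modules over the underlying sheaf of rings):

* `stalkFun O x : Mod O ⥤ ModuleCat O_x`, `skyFun O x`, `stalkSkyAdj O x` (port of Helper1Sky2 from schemes).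
* `epi_iff_stalk_surjective`, `mono_iff_stalk_injective`.
-/

set_option autoImplicit false
universe u
open CategoryTheory CategoryTheory.Limits TopCat TopologicalSpace Opposite

namespace Groth.Agent.Lib.Seat93.RSpBase

open Groth.Agent.Lib.Helper1.StalkTensor Groth.Agent.Lib.Helper1.Sky

variable {X : TopCat.{u}} (O : TopCat.Sheaf CommRingCat.{u} X)

/-- the underlying presheaf of modules -/
abbrev toPM {O : TopCat.Sheaf CommRingCat.{u} X} (M : ModSite.Mod O) : PMod O.presheaf := M.val

/-- the underlying morphism of presheaves of modules -/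
abbrev toPMMap {O : TopCat.Sheaf CommRingCat.{u} X} {M N : ModSite.Mod O} (φ : M ⟶ N) : toPM M ⟶ toPM N := φ.val

variable (x : X)

/-- the stalk of the structure sheaf -/
abbrev Ox : Type u := Rx O.presheaf x

/-- the skyscraper `O`-module at `x` with value `N` -/
noncomputable def skyMod (N : ModuleCat.{u} (Ox O x)) : ModSite.Mod O where
  val := skyP O.presheaf x N
  isSheaf := isSheaf_skyP O.presheaf x N

/-- the skyscraper functor -/
noncomputable def skyFun : ModuleCat.{u} (Ox O x) ⥤ ModSite.Mod O where
  obj N := skyMod O x N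
  map f := ⟨skyMap f.hom⟩
  map_id N := by
    ext U s
    rfl
  map_comp f g := by
    ext U s
    rfl

lemma sm_id' {R : X.Presheaf CommRingCat.{u}} (P : PMod R) (a : St P x) :
    sm (𝟙 P) x a = a := by
  obtain ⟨U, hU, p, rfl⟩ := exists_gm_eq a
  rw [sm_gm]
  rfl

lemma sm_comp' {R : X.Presheaf CommRingCat.{u}} {P P' P'' : PMod R} (f : P ⟶ P') (g : P' ⟶ P'')
    (a : St P x) : sm (f ≫ g) x a = sm g x (sm f x a) := by
  obtain ⟨U, hU, p, rfl⟩ := exists_gm_eq a
  rw [sm_gm, sm_gm, sm_gm]
  rfl

/-- the stalk functor -/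
noncomputable def stalkFun : ModSite.Mod O ⥤ ModuleCat.{u} (Ox O x) where
  obj M := ModuleCat.of (Ox O x) (St (toPM M) x)
  map φ := ModuleCat.ofHom (smₗ (toPMMap φ) x)
  map_id M := by
    ext a
    exact sm_id' x (toPM M) a
  map_comp f g := by
    ext a
    exact sm_comp' x (toPMMap f) (toPMMap g) a

/-- the adjunction between stalk and skyscraper -/
noncomputable def stalkSkyAdj : stalkFun O x ⊣ skyFun O x :=
  Adjunction.mkOfHomEquiv
    { homEquiv := fun M N =>
        { toFun := fun g => ⟨ofStalk (R := O.presheaf) (x := x) (N := N) (P := toPM M) g.hom⟩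
          invFun := fun φ => ModuleCat.ofHom (toStalk (R := O.presheaf) (x := x) (N := N) (P := toPM M) φ.val)
          left_inv := fun g => by
            ext a
            exact LinearMap.congr_fun ((homEquiv (R := O.presheaf) (x := x) (P := toPM M) (N := N)).right_inv g.hom) a
          right_inv := fun φ => by
            apply SheafOfModules.hom_ext
            exact (homEquiv (R := O.presheaf) (x := x) (P := toPM M) (N := N)).left_inv φ.val }
      homEquiv_naturality_left_symm := fun {M' M N} f g => by
        ext a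
        exact LinearMap.congr_fun (toStalk_comp_left (toPMMap f) g.val) a
      homEquiv_naturality_right := fun {M N N'} f g => by
        apply SheafOfModules.hom_ext
        apply (homEquiv (R := O.presheaf) (x := x) (P := toPM M) (N := N')).injective
        change toStalk (ofStalk (f ≫ g).hom) = toStalk (ofStalk f.hom ≫ skyMap g.hom)
        rw [toStalk_comp_right]
        have h1 := (homEquiv (R := O.presheaf) (x := x) (P := toPM M) (N := N')).right_inv (f ≫ g).hom
        have h2 := (homEquiv (R := O.presheaf) (x := x) (P := toPM M) (N := N)).right_inv f.hom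
        change toStalk (ofStalk (f ≫ g).hom) = _ at h1
        change toStalk (ofStalk f.hom) = _ at h2
        rw [h1, h2]
        rfl }

/-! ### epi / mono stalkwise -/

variable {O}

/-- sections over an open -/
abbrev sec (M : ModSite.Mod O) (U : Opens X) : Type u := M.val.obj (op U)

/-- an epimorphism is locally surjective on sections -/
theorem exists_app_eq_of_epi {G F : ModSite.Mod O} (π : G ⟶ F) [Epi π] (U : Opens X)
    (c : sec F U) (x : X) (hx : x ∈ U) :
    ∃ (V : Opens X) (hVU : V ≤ U) (_ : x ∈ V) (g : sec G V),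
      π.val.app (op V) g = F.val.map (homOfLE hVU).op c := by
  have h := Groth.Agent.Lib.Helper4.ModEpi.isLocallySurjective_of_epi (R := ModSite.ringSh O) π
  have h1 := h.imageSieve_mem (U := U) c
  obtain ⟨V, f, ⟨t, ht⟩, hxV⟩ := h1 x hx
  exact ⟨V, f.le, hxV, t, ht⟩

theorem sm_surjective_of_epi {G F : ModSite.Mod O} (π : G ⟶ F) [Epi π] (x : X) :
    Function.Surjective (sm (toPMMap π) x) := by
  intro c
  obtain ⟨U, hxU, s, rfl⟩ := exists_gm_eq c
  obtain ⟨V, hVU, hxV, g, hg⟩ := exists_app_eq_of_epi π U s x hxU
  refine ⟨gm (toPM G) x V hxV g, ?_⟩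
  rw [sm_gm]
  erw [hg]
  exact gm_rs (P := toPM F) (homOfLE hVU) hxV s

/-- local surjectivity on sections implies epi -/
theorem epi_of_locally_surjective {G F : ModSite.Mod O} (π : G ⟶ F)
    (h : ∀ (U : Opens X) (c : sec F U) (x : X), x ∈ U →
      ∃ (V : Opens X) (hVU : V ≤ U) (_ : x ∈ V) (g : sec G V),
        π.val.app (op V) g = F.val.map (homOfLE hVU).op c) : Epi π := by
  have hF : (SheafOfModules.toSheaf (ModSite.ringSh O)).Faithful := inferInstance
  haveI := Functor.reflectsEpimorphisms_of_faithful (SheafOfModules.toSheaf (ModSite.ringSh O))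
  have : Sheaf.IsLocallySurjective ((SheafOfModules.toSheaf (ModSite.ringSh O)).map π) := by
    constructor
    intro U c x hx
    obtain ⟨V, hVU, hxV, g, hg⟩ := h U c x hx
    exact ⟨V, homOfLE hVU, ⟨g, hg⟩, hxV⟩
  exact (SheafOfModules.toSheaf (ModSite.ringSh O)).epi_of_epi_map inferInstance

theorem epi_of_sm_surjective {G F : ModSite.Mod O} (π : G ⟶ F)
    (h : ∀ x : X, Function.Surjective (sm (toPMMap π) x)) : Epi π := by
  apply epi_of_locally_surjective
  intro U c x hx
  obtain ⟨a, ha⟩ := h x (gm (toPM F) x U hx c)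
  obtain ⟨V, hxV, g, rfl⟩ := exists_gm_eq a
  rw [sm_gm] at ha
  obtain ⟨W, hxW, iV, iU, e⟩ := gm_eq (P := toPM F) hxV hx _ _ ha
  refine ⟨W, iU.le, hxW, G.val.map iV.op g, ?_⟩
  have := PresheafOfModules.naturality_apply π.val iV.op g
  exact this.trans e

theorem sm_injective_of_mono {M N : ModSite.Mod O} (φ : M ⟶ N) [Mono φ] (x : X) :
    Function.Injective (sm (toPMMap φ) x) := by
  have h0 : Mono ((SheafOfModules.toSheaf (ModSite.ringSh O)).map φ) := inferInstance
  have h1 : Mono ((sheafToPresheaf _ _).map ((SheafOfModules.toSheaf (ModSite.ringSh O)).map φ)) :=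
    inferInstance
  rw [NatTrans.mono_iff_mono_app] at h1
  exact TopCat.Presheaf.stalkFunctor_map_injective_of_app_injective
    (f := (sheafToPresheaf _ _).map ((SheafOfModules.toSheaf (ModSite.ringSh O)).map φ))
    (fun U => (AddCommGrpCat.mono_iff_injective _).1 (h1 (op U))) x

theorem mono_of_sm_injective {M N : ModSite.Mod O} (φ : M ⟶ N)
    (h : ∀ x : X, Function.Injective (sm (toPMMap φ) x)) : Mono φ := by
  apply Functor.mono_of_mono_map (SheafOfModules.toSheaf (ModSite.ringSh O))
  apply Functor.mono_of_mono_map (sheafToPresheaf _ _)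
  apply (config := { allowSynthFailures := true }) NatTrans.mono_of_mono_app
  intro U
  rw [AddCommGrpCat.mono_iff_injective]
  exact TopCat.Presheaf.app_injective_of_stalkFunctor_map_injective
    (F := (SheafOfModules.toSheaf (ModSite.ringSh O)).obj M)
    ((sheafToPresheaf _ _).map ((SheafOfModules.toSheaf (ModSite.ringSh O)).map φ)) U.unop (fun x _ => h x)

end Groth.Agent.Lib.Seat93.RSpBase
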