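import Mathlib
import Groth.Prelude.Def_ModSite2
import Groth.Agent.Lib.Seat93RSpBase
import Groth.Agent.Lib.Helper1StalkTensorB
import Groth.Agent.Lib.Helper21ModTensor7
set_option backward.isDefEq.respectTransparency.types false

/-!
# Flat modules on a ringed space: exactness of the tensor product vs flat stalks (seat 16)

Port of `Helper1StalkTensorB/C` from schemes to ringed spaces `(X, O)`, with skyscraper modules playing
the role of pushforwards from `Spec O_x`.
-/

set_option autoImplicit false
set_option linter.style.haveILetI false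
universe u
open CategoryTheory CategoryTheory.Limits TopCat TopologicalSpace Opposite TensorProduct MonoidalCategory

namespace Groth.Agent.Lib.Seat16.RSpFlat

open Groth.Agent.Lib.Helper1.StalkTensor Groth.Agent.Lib.Helper1.Sky Groth.Agent.Lib.Seat93.RSpBase
open Groth.Agent.Lib.Helper21.ModTensor2 Groth.Agent.Lib.Helper21.ModTensor3
  Groth.Agent.Lib.Helper21.ModTensor5

variable {X : TopCat.{u}} (O : TopCat.Sheaf CommRingCat.{u} X)

/-! ### stalks of sheafifications -/

/-- sheafification of presheaves of `O`-modules -/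
noncomputable def shO : PMod O.presheaf ⥤ ModSite.Mod O := shf O

/-- the unit of sheafification -/
noncomputable def etaO (T : PMod O.presheaf) : T ⟶ toPM ((shO O).obj T) := eta O T

lemma W_etaO (T : PMod O.presheaf) :
    (Opens.grothendieckTopology X).W ((PresheafOfModules.toPresheaf _).map (etaO O T)) :=
  W_eta (O := O) T

lemma sm_etaO_bijective (T : PMod O.presheaf) (x : X) :
    Function.Bijective (sm (etaO O T) x) :=
  stalk_bijective_of_W _ (W_etaO O T) x

lemma etaO_naturality {T' T : PMod O.presheaf} (τ : T' ⟶ T) :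
    τ ≫ etaO O T = etaO O T' ≫ toPMMap ((shO O).map τ) :=
  (adj O).unit.naturality τ

lemma sm_comp'' {R : X.Presheaf CommRingCat.{u}} {P P' P'' : PMod R} (f : P ⟶ P') (g : P' ⟶ P'')
    (x : X) (a : St P x) : sm (f ≫ g) x a = sm g x (sm f x a) :=
  sm_comp' x f g a

lemma sm_etaO_naturality {T' T : PMod O.presheaf} (τ : T' ⟶ T) (x : X) (a : St T' x) :
    sm (etaO O T) x (sm τ x a) = sm (toPMMap ((shO O).map τ)) x (sm (etaO O T') x a) := by
  rw [← sm_comp'', ← sm_comp'', etaO_naturality]

lemma tensorBi_map_app {G' G : ModSite.Mod O} (φ : G' ⟶ G) (F : ModSite.Mod O) :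
    ((ModSite.tensorBi O).map φ).app F = (shO O).map (toPMMap φ ▷ toPM F) := rfl

lemma mono_shO_map_of_sm_injective {T' T : PMod O.presheaf} (τ : T' ⟶ T)
    (h : ∀ x : X, Function.Injective (sm τ x)) : Mono ((shO O).map τ) := by
  apply Groth.Agent.Lib.Seat93.RSpBase.mono_of_sm_injective
  intro x a b hab
  obtain ⟨a', rfl⟩ := (sm_etaO_bijective O T' x).2 a
  obtain ⟨b', rfl⟩ := (sm_etaO_bijective O T' x).2 b
  rw [← sm_etaO_naturality, ← sm_etaO_naturality] at hab
  rw [h x ((sm_etaO_bijective O T x).1 hab)]

/-- tensoring with a stalkwise flat module preserves monomorphisms -/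
theorem mono_tensor_of_flat_stalks {G' G : ModSite.Mod O} (φ : G' ⟶ G) [Mono φ] (F : ModSite.Mod O)
    (hF : ∀ x : X, Module.Flat (Rx O.presheaf x) (St (toPM F) x)) :
    Mono (((ModSite.tensorBi O).map φ).app F) := by
  rw [tensorBi_map_app]
  apply mono_shO_map_of_sm_injective
  intro x a b hab
  have h2 := congrArg (α (toPM G) (toPM F) x) hab
  rw [α_nat_left, α_nat_left] at h2
  have : Module.Flat (Rx O.presheaf x) (St (toPM F) x) := hF x
  have hinj : Function.Injective (LinearMap.rTensor (St (toPM F) x) (smₗ (toPMMap φ) x)) :=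
    Module.Flat.rTensor_preserves_injective_linearMap _
      (Groth.Agent.Lib.Seat93.RSpBase.sm_injective_of_mono φ x)
  exact (α_bijective).1 (hinj h2)

/-- a stalkwise flat `O`-module is flat in the sense of exactness of the tensor product -/
theorem modSite_isFlat_of_flat_stalks (F : ModSite.Mod O)
    (hF : ∀ x : X, Module.Flat (Rx O.presheaf x) (St (toPM F) x)) :
    ModSite.IsFlat F := by
  rw [isFlat_iff, Functor.preservesFiniteLimits_iff_forall_exact_map_and_mono]
  intro S hS
  refine ⟨((Functor.preservesFiniteColimits_iff_forall_exact_map_and_epi (tR O F)).1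
    inferInstance S hS).1, ?_⟩
  haveI := hS.mono_f
  exact mono_tensor_of_flat_stalks O S.f F hF

/-! ### the stalk of a skyscraper -/

section sky
variable {O} {x : X}

/-- the stalk at `x` of the skyscraper at `x` with value `N` is `N` -/
noncomputable def evS (N : ModuleCat.{u} (Ox O x)) :
    St (skyP O.presheaf x N) x →ₗ[Ox O x] N :=
  toStalk (𝟙 (skyP O.presheaf x N))

lemma evS_gm (N : ModuleCat.{u} (Ox O x)) {U : Opens X} (hx : x ∈ U)
    (s : (skyP O.presheaf x N).obj (op U)) :
    evS N (gm (skyP O.presheaf x N) x U hx s) = SkyT.ev O.presheaf U s hx :=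
  toStalk_gm _ hx s

lemma evS_bijective (N : ModuleCat.{u} (Ox O x)) : Function.Bijective (evS (O := O) (x := x) N) := by
  constructor
  · rw [injective_iff_map_eq_zero]
    intro a ha
    obtain ⟨U, hU, s, rfl⟩ := exists_gm_eq a
    rw [evS_gm] at ha
    have : s = 0 := by
      apply SkyT.ext (R := O.presheaf) (U := U)
      intro hx
      exact ha
    rw [this, map_zero]
  · intro n
    refine ⟨gm (skyP O.presheaf x N) x ⊤ trivial
      (SkyT.mk (R := O.presheaf) (U := ⊤) fun _ => n), ?_⟩
    rw [evS_gm]
    rfl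

/-- the linear equivalence -/
noncomputable def evSLin (N : ModuleCat.{u} (Ox O x)) :
    St (skyP O.presheaf x N) x ≃ₗ[Ox O x] N :=
  LinearEquiv.ofBijective (evS N) (evS_bijective N)

lemma evS_naturality {N' N : ModuleCat.{u} (Ox O x)} (g : N' ⟶ N) :
    (evS N).comp (smₗ (skyMap g.hom) x) = g.hom.comp (evS N') := by
  have h1 := toStalk_comp_left (skyMap g.hom) (𝟙 (skyP O.presheaf x N))
  have h2 := toStalk_comp_right (𝟙 (skyP O.presheaf x N')) g.hom
  rw [Category.comp_id] at h1
  rw [Category.id_comp] at h2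
  exact h1.symm.trans h2

end sky

/-! ### tensor-exact modules have flat stalks -/

lemma mono_skyFun_map (x : X) {N' N : ModuleCat.{u} (Ox O x)} (g : N' ⟶ N)
    (hg : Function.Injective g.hom) : Mono ((skyFun O x).map g) := by
  haveI : Mono g := (ModuleCat.mono_iff_injective g).2 hg
  haveI : PreservesLimitsOfSize.{0, 0} (skyFun O x) := (stalkSkyAdj O x).rightAdjoint_preservesLimits
  infer_instance

/-- for a tensor-exact module `F`, tensoring `F_x` with an injective map is injective -/
theorem rTensor_injective_of_modSite_isFlat (F : ModSite.Mod O) (hF : ModSite.IsFlat F)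
    (x : X) {N' N : ModuleCat.{u} (Ox O x)} (g : N' ⟶ N) (hg : Function.Injective g.hom) :
    Function.Injective (LinearMap.rTensor (St (toPM F) x) g.hom) := by
  have hm0 := mono_skyFun_map O x g hg
  have hpl : Limits.PreservesFiniteLimits ((ModSite.tensorBi O).flip.obj F) := hF.1
  have hm : Mono (((ModSite.tensorBi O).map ((skyFun O x).map g)).app F) := by
    have := @Functor.map_mono _ _ _ _ ((ModSite.tensorBi O).flip.obj F) _ _ _
      ((skyFun O x).map g) hm0
    exact this
  rw [tensorBi_map_app] at hm
  have h1 := @Groth.Agent.Lib.Seat93.RSpBase.sm_injective_of_mono _ _ _ _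
    ((shO O).map (toPMMap ((skyFun O x).map g) ▷ toPM F)) hm x
  have h2 : Function.Injective (sm (toPMMap ((skyFun O x).map g) ▷ toPM F) x) := by
    intro a b hab
    apply (sm_etaO_bijective O _ x).1
    apply h1
    rw [← sm_etaO_naturality, ← sm_etaO_naturality, hab]
  have h3 : Function.Injective
      (LinearMap.rTensor (St (toPM F) x) (smₗ (toPMMap ((skyFun O x).map g)) x)) := by
    intro a b hab
    obtain ⟨a', rfl⟩ := (α_bijective (P := toPM ((skyFun O x).obj N')) (Q := toPM F) (x := x)).2 a
    obtain ⟨b', rfl⟩ := (α_bijective (P := toPM ((skyFun O x).obj N')) (Q := toPM F) (x := x)).2 b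
    rw [← α_nat_left, ← α_nat_left] at hab
    rw [h2 ((α_bijective).1 hab)]
  -- compare with `g` through the stalk of the skyscraper
  have h4 : g.hom ∘ₗ (evSLin (O := O) (x := x) N').toLinearMap =
      (evSLin N).toLinearMap ∘ₗ (smₗ (toPMMap ((skyFun O x).map g)) x) :=
    (evS_naturality (O := O) (x := x) g).symm
  have h5 : (LinearMap.rTensor (St (toPM F) x) g.hom) ∘ₗ
        (LinearMap.rTensor (St (toPM F) x) (evSLin (O := O) (x := x) N').toLinearMap) =
      (LinearMap.rTensor (St (toPM F) x) (evSLin N).toLinearMap) ∘ₗ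
        (LinearMap.rTensor (St (toPM F) x) (smₗ (toPMMap ((skyFun O x).map g)) x)) := by
    rw [← LinearMap.rTensor_comp, ← LinearMap.rTensor_comp]
    exact congrArg (LinearMap.rTensor (St (toPM F) x)) h4
  have h6 : Function.Injective (LinearMap.rTensor (St (toPM F) x) (evSLin (O := O) (x := x) N).toLinearMap) :=
    (LinearEquiv.rTensor (St (toPM F) x) (evSLin N)).injective
  have h8 : Function.Surjective
      (LinearMap.rTensor (St (toPM F) x) (evSLin (O := O) (x := x) N').toLinearMap) :=
    (LinearEquiv.rTensor (St (toPM F) x) (evSLin N')).surjective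
  intro a b hab
  obtain ⟨a', rfl⟩ := h8 a
  obtain ⟨b', rfl⟩ := h8 b
  have e1 : LinearMap.rTensor (St (toPM F) x) g.hom
      (LinearMap.rTensor (St (toPM F) x) (evSLin (O := O) (x := x) N').toLinearMap a') =
      LinearMap.rTensor (St (toPM F) x) (evSLin N).toLinearMap
        (LinearMap.rTensor (St (toPM F) x) (smₗ (toPMMap ((skyFun O x).map g)) x) a') :=
    LinearMap.congr_fun h5 a'
  have e2 : LinearMap.rTensor (St (toPM F) x) g.hom
      (LinearMap.rTensor (St (toPM F) x) (evSLin (O := O) (x := x) N').toLinearMap b') =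
      LinearMap.rTensor (St (toPM F) x) (evSLin N).toLinearMap
        (LinearMap.rTensor (St (toPM F) x) (smₗ (toPMMap ((skyFun O x).map g)) x) b') :=
    LinearMap.congr_fun h5 b'
  rw [h3 (h6 (e1.symm.trans (hab.trans e2)))]

/-- a tensor-exact `O`-module is stalkwise flat -/
theorem flat_stalks_of_modSite_isFlat (F : ModSite.Mod O) (hF : ModSite.IsFlat F) (x : X) :
    Module.Flat (Rx O.presheaf x) (St (toPM F) x) := by
  rw [Module.Flat.iff_rTensor_preserves_injective_linearMap]
  intro N' N _ _ _ _ g hg
  exact rTensor_injective_of_modSite_isFlat O F hF x (ModuleCat.ofHom g) hg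

theorem modSite_isFlat_iff (F : ModSite.Mod O) :
    ModSite.IsFlat F ↔ ∀ x : X, Module.Flat (Rx O.presheaf x) (St (toPM F) x) :=
  ⟨flat_stalks_of_modSite_isFlat O F, modSite_isFlat_of_flat_stalks O F⟩

end Groth.Agent.Lib.Seat16.RSpFlat
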