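import Mathlib
import Groth.Prelude.Def_ModSite2
import Groth.Agent.Lib.Seat93RSpBase
set_option backward.isDefEq.respectTransparency.types false

/-!
# Pushforward of skyscraper modules and the stalk of a pullback on ringed spaces (seat 16)

Port of `Helper1Sky3` from schemes to ringed spaces `(X, O_X) → (Y, O_Y)` in the `ModSite` formalism.
-/

set_option autoImplicit false
universe u
open CategoryTheory CategoryTheory.Limits TopCat TopologicalSpace Opposite

namespace Groth.Agent.Lib.Seat16.RSpPull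

open Groth.Agent.Lib.Helper1.StalkTensor Groth.Agent.Lib.Helper1.Sky Groth.Agent.Lib.Seat93.RSpBase

variable {X Y : TopCat.{u}} (f : X ⟶ Y) (O_X : TopCat.Sheaf CommRingCat.{u} X)
  (O_Y : TopCat.Sheaf CommRingCat.{u} Y)
  (c : O_Y ⟶ ((TopologicalSpace.Opens.map f).sheafPushforwardContinuous CommRingCat.{u}
      (Opens.grothendieckTopology Y) (Opens.grothendieckTopology X)).obj O_X)

/-- the morphism of ringed sites -/
noncomputable abbrev ff : ModSite.RMor O_X O_Y := ModSite.RMor.ofFlat (TopologicalSpace.Opens.map f) c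

variable (x : X)

/-- the map on stalks `O_{Y, f x} → O_{X, x}` -/
noncomputable def stk : O_Y.presheaf.stalk (f x) ⟶ O_X.presheaf.stalk x :=
  (TopCat.Presheaf.stalkFunctor CommRingCat.{u} (f x)).map
      (show O_Y.presheaf ⟶ (TopCat.Presheaf.pushforward CommRingCat.{u} f).obj O_X.presheaf from c.hom) ≫
    TopCat.Presheaf.stalkPushforward CommRingCat.{u} f O_X.presheaf x

/-- the comorphism on sections, with the target typed as sections of `O_X` -/
noncomputable def cApp (V : Opens Y) :
    O_Y.presheaf.obj (op V) →+* O_X.presheaf.obj (op ((Opens.map f).obj V)) :=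
  (c.hom.app (op V)).hom

lemma stk_gr (V : Opens Y) (hy : f x ∈ V) (r : O_Y.presheaf.obj (op V)) :
    (stk f O_X O_Y c x).hom (gr O_Y.presheaf (f x) V hy r) =
      gr O_X.presheaf x ((Opens.map f).obj V) hy (cApp f O_X O_Y c V r) := by
  have h1 := TopCat.Presheaf.stalkFunctor_map_germ (C := CommRingCat.{u}) V (f x) hy
    (show O_Y.presheaf ⟶ (TopCat.Presheaf.pushforward CommRingCat.{u} f).obj O_X.presheaf from c.hom)
  have h2 := TopCat.Presheaf.stalkPushforward_germ (C := CommRingCat.{u}) f O_X.presheaf V x hy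
  have h3 : O_Y.presheaf.germ V (f x) hy ≫ stk f O_X O_Y c x =
      c.hom.app (op V) ≫ O_X.presheaf.germ ((Opens.map f).obj V) x hy := by
    rw [stk, ← Category.assoc, h1]
    exact (Category.assoc _ _ _).trans (congrArg (fun g => c.hom.app (op V) ≫ g) h2)
  exact congrArg (fun g => g.hom r) h3

/-- restriction of scalars along the stalk map -/
noncomputable abbrev resStalk : ModuleCat.{u} (Ox O_X x) ⥤ ModuleCat.{u} (Ox O_Y (f x)) :=
  ModuleCat.restrictScalars (stk f O_X O_Y c x).hom

variable (N : ModuleCat.{u} (Ox O_X x))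

example (V : Opens Y) : ((((ff f O_X O_Y c).push).obj (skyMod O_X x N)).val.obj (op V) : Type u) =
  SkyT O_X.presheaf x N ((Opens.map f).obj V) := rfl

example (V : Opens Y) : ((skyMod O_Y (f x) ((resStalk f O_X O_Y c x).obj N)).val.obj (op V) : Type u) =
  SkyT O_Y.presheaf (f x) N V := rfl

/-- the comparison on sections -/
def pushSkyEquiv (V : Opens Y) :
    SkyT O_X.presheaf x N ((Opens.map f).obj V) ≃+
      SkyT O_Y.presheaf (f x) ((resStalk f O_X O_Y c x).obj N) V where
  toFun s := SkyT.mk fun hy => SkyT.ev O_X.presheaf ((Opens.map f).obj V) s hy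
  invFun t := SkyT.mk fun hx => SkyT.ev O_Y.presheaf V t hx
  left_inv _ := rfl
  right_inv _ := rfl
  map_add' _ _ := rfl

lemma pushSkyEquiv_smul (V : Opens Y) (r : O_Y.presheaf.obj (op V))
    (s : SkyT O_X.presheaf x N ((Opens.map f).obj V)) :
    pushSkyEquiv f O_X O_Y c x N V (cApp f O_X O_Y c V r • s) =
      r • pushSkyEquiv f O_X O_Y c x N V s := by
  apply SkyT.ext (R := O_Y.presheaf) (U := V)
  intro hy
  rw [SkyT.smul_ev]
  change SkyT.ev O_X.presheaf ((Opens.map f).obj V) (cApp f O_X O_Y c V r • s) hy = _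
  rw [SkyT.smul_ev]
  change _ = (stk f O_X O_Y c x).hom (gr O_Y.presheaf (f x) V hy r) •
    SkyT.ev O_X.presheaf ((Opens.map f).obj V) s hy
  rw [stk_gr]

/-- the comparison on sections, as a linear equivalence -/
noncomputable def pushSkyLin (V : (Opens Y)ᵒᵖ) :
    ↑((((ff f O_X O_Y c).push).obj (skyMod O_X x N)).val.obj V) ≃ₗ[↑((ModSite.ringSh O_Y).obj.obj V)]
      ↑((skyMod O_Y (f x) ((resStalk f O_X O_Y c x).obj N)).val.obj V) :=
  { pushSkyEquiv f O_X O_Y c x N V.unop with
    map_smul' := fun r s => pushSkyEquiv_smul f O_X O_Y c x N V.unop r s }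

/-- the pushforward of a skyscraper is a skyscraper, on underlying presheaves of modules -/
noncomputable def pushSkyIsoP :
    (((ff f O_X O_Y c).push).obj (skyMod O_X x N)).val ≅
      (skyMod O_Y (f x) ((resStalk f O_X O_Y c x).obj N)).val :=
  PresheafOfModules.isoMk (fun V => (pushSkyLin f O_X O_Y c x N V).toModuleIso)
    (fun V W i => by
      ext s
      rfl)

/-- the pushforward of a skyscraper is a skyscraper -/
noncomputable def pushSkyIso :
    ((ff f O_X O_Y c).push).obj (skyMod O_X x N) ≅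
      skyMod O_Y (f x) ((resStalk f O_X O_Y c x).obj N) where
  hom := ⟨(pushSkyIsoP f O_X O_Y c x N).hom⟩
  inv := ⟨(pushSkyIsoP f O_X O_Y c x N).inv⟩
  hom_inv_id := by
    apply SheafOfModules.hom_ext
    exact (pushSkyIsoP f O_X O_Y c x N).hom_inv_id
  inv_hom_id := by
    apply SheafOfModules.hom_ext
    exact (pushSkyIsoP f O_X O_Y c x N).inv_hom_id

/-- the pushforward of a skyscraper is a skyscraper, naturally -/
noncomputable def pushSkyNatIso :
    skyFun O_X x ⋙ (ff f O_X O_Y c).push ≅ resStalk f O_X O_Y c x ⋙ skyFun O_Y (f x) :=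
  NatIso.ofComponents (fun N => pushSkyIso f O_X O_Y c x N) (fun {N N'} g => by
    apply SheafOfModules.hom_ext
    ext V s
    rfl)

/-- the stalk of a pullback: `(f^* M)_x ≅ O_{X,x} ⊗_{O_{Y,f x}} M_{f x}`, naturally in `M` -/
noncomputable def stalkPullbackIso :
    (ff f O_X O_Y c).pull ⋙ stalkFun O_X x ≅
      stalkFun O_Y (f x) ⋙ ModuleCat.extendScalars.{u, u, u} (stk f O_X O_Y c x).hom :=
  Adjunction.leftAdjointUniq
    ((((ff f O_X O_Y c).adj).comp (stalkSkyAdj O_X x)).ofNatIsoRight
      (pushSkyNatIso f O_X O_Y c x))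
    ((stalkSkyAdj O_Y (f x)).comp
      (ModuleCat.extendRestrictScalarsAdj.{u, u, u} (stk f O_X O_Y c x).hom))

end Groth.Agent.Lib.Seat16.RSpPull
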