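import Mathlib
import Groth.Agent.Lib.Seat16RSpPull
set_option backward.isDefEq.respectTransparency.types false

/-!
# The stalk of a pullback on germs (seat 16)

`stalkPullbackIso` sends the germ at `x` of the adjunction unit `η(s)` to `1 ⊗ germ_{f x}(s)`.
-/

set_option autoImplicit false
universe u
open CategoryTheory CategoryTheory.Limits TopCat TopologicalSpace Opposite TensorProduct

namespace Groth.Agent.Lib.Seat16.RSpPull

open Groth.Agent.Lib.Helper1.StalkTensor Groth.Agent.Lib.Helper1.Sky Groth.Agent.Lib.Seat93.RSpBase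

variable {X Y : TopCat.{u}} (f : X ⟶ Y) (O_X : TopCat.Sheaf CommRingCat.{u} X)
  (O_Y : TopCat.Sheaf CommRingCat.{u} Y)
  (c : O_Y ⟶ ((TopologicalSpace.Opens.map f).sheafPushforwardContinuous CommRingCat.{u}
      (Opens.grothendieckTopology Y) (Opens.grothendieckTopology X)).obj O_X)
  (x : X)

/-- the adjunction unit on sections: `G(V) → (f^*G)(f⁻¹V)` -/
noncomputable def etaSec (G : ModSite.Mod O_Y) (V : Opens Y) (s : sec G V) :
    sec ((ff f O_X O_Y c).pull.obj G) ((Opens.map f).obj V) :=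
  ((ff f O_X O_Y c).adj.unit.app G).val.app (op V) s

/-- the first adjunction used to define `stalkPullbackIso` -/
noncomputable abbrev adjA :=
  (((ff f O_X O_Y c).adj).comp (stalkSkyAdj O_X x)).ofNatIsoRight (pushSkyNatIso f O_X O_Y c x)

/-- the second adjunction used to define `stalkPullbackIso` -/
noncomputable abbrev adjB :=
  (stalkSkyAdj O_Y (f x)).comp (ModuleCat.extendRestrictScalarsAdj.{u, u, u} (stk f O_X O_Y c x).hom)

lemma stalkPullbackIso_eq :
    stalkPullbackIso f O_X O_Y c x =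
      Adjunction.leftAdjointUniq (adjA f O_X O_Y c x) (adjB f O_X O_Y c x) := rfl

lemma adjB_unit_ev (G : ModSite.Mod O_Y) (V : Opens Y) (hx : f x ∈ V) (s : sec G V) :
    SkyT.ev O_Y.presheaf V (((adjB f O_X O_Y c x).unit.app G).val.app (op V) s) hx =
      ((1 : Ox O_X x) ⊗ₜ[Ox O_Y (f x)] gm (toPM G) (f x) V hx s :
        (ModuleCat.extendScalars.{u, u, u} (stk f O_X O_Y c x).hom).obj ((stalkFun O_Y (f x)).obj G)) := by
  rfl

lemma adjA_unit_map_ev (G : ModSite.Mod O_Y) (V : Opens Y) (hx : f x ∈ V) (s : sec G V)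
    (N : ModuleCat.{u} (Ox O_X x)) (h : (stalkFun O_X x).obj ((ff f O_X O_Y c).pull.obj G) ⟶ N) :
    SkyT.ev O_Y.presheaf V
      (((adjA f O_X O_Y c x).unit.app G ≫ (resStalk f O_X O_Y c x ⋙ skyFun O_Y (f x)).map h).val.app
        (op V) s) hx =
      h.hom (gm (toPM ((ff f O_X O_Y c).pull.obj G)) x ((Opens.map f).obj V) hx
        (etaSec f O_X O_Y c G V s)) := by
  rfl

/-- the germ formula for the stalk of a pullback -/
theorem stalkPullbackIso_germ (G : ModSite.Mod O_Y) (V : Opens Y) (hx : f x ∈ V) (s : sec G V) :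
    ((stalkPullbackIso f O_X O_Y c x).hom.app G).hom
        (gm (toPM ((ff f O_X O_Y c).pull.obj G)) x ((Opens.map f).obj V) hx
          (etaSec f O_X O_Y c G V s)) =
      ((1 : Ox O_X x) ⊗ₜ[Ox O_Y (f x)] gm (toPM G) (f x) V hx s :
        (ModuleCat.extendScalars.{u, u, u} (stk f O_X O_Y c x).hom).obj ((stalkFun O_Y (f x)).obj G)) := by
  have h := Adjunction.unit_leftAdjointUniq_hom_app (adjA f O_X O_Y c x) (adjB f O_X O_Y c x) G
  have h2 := congrArg (fun φ => SkyT.ev O_Y.presheaf V (φ.val.app (op V) s) hx) h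
  exact (adjA_unit_map_ev f O_X O_Y c x G V hx s _ _).symm.trans
    (h2.trans (adjB_unit_ev f O_X O_Y c x G V hx s))

end Groth.Agent.Lib.Seat16.RSpPull
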