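import Mathlib
import Groth.Agent.Lib.Seat16RSpPullGerm
import Groth.Agent.Lib.Seat16RSpFlat
set_option backward.isDefEq.respectTransparency.types false

/-!
# The pullback of modules along a morphism of ringed spaces is monoidal (seat 16), part 1

Port of `Helper1PT1/PT2` from schemes to ringed spaces: the lax monoidal structure `nu` of the
pushforward and the comparison map `delta : f^*(A ⊗ B) ⟶ f^*A ⊗ f^*B`.
-/

set_option autoImplicit false
set_option linter.style.haveILetI false
universe u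
open CategoryTheory CategoryTheory.Limits TopCat TopologicalSpace Opposite MonoidalCategory TensorProduct

namespace Groth.Agent.Lib.Seat16.RSpPT

open Groth.Agent.Lib.Helper1.StalkTensor Groth.Agent.Lib.Helper1.Sky Groth.Agent.Lib.Seat93.RSpBase
open Groth.Agent.Lib.Helper21.ModTensor2 Groth.Agent.Lib.Seat16.RSpPull Groth.Agent.Lib.Seat16.RSpFlat

variable {X Y : TopCat.{u}} (f : X ⟶ Y) (O_X : TopCat.Sheaf CommRingCat.{u} X)
  (O_Y : TopCat.Sheaf CommRingCat.{u} Y)
  (c : O_Y ⟶ ((TopologicalSpace.Opens.map f).sheafPushforwardContinuous CommRingCat.{u}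
      (Opens.grothendieckTopology Y) (Opens.grothendieckTopology X)).obj O_X)

/-- pushforward -/
noncomputable abbrev psh : ModSite.Mod O_X ⥤ ModSite.Mod O_Y := (ff f O_X O_Y c).push
/-- pullback -/
noncomputable abbrev plb : ModSite.Mod O_Y ⥤ ModSite.Mod O_X := (ff f O_X O_Y c).pull
/-- the adjunction -/
noncomputable abbrev ppAdj : plb f O_X O_Y c ⊣ psh f O_X O_Y c := (ff f O_X O_Y c).adj

/-- the sheaf tensor product -/
noncomputable abbrev tens {Z : TopCat.{u}} (O : TopCat.Sheaf CommRingCat.{u} Z) (M N : ModSite.Mod O) :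
    ModSite.Mod O := ((ModSite.tensorBi O).obj M).obj N

variable (M N : ModSite.Mod O_X)

example (V : Opens Y) : ((toPM ((psh f O_X O_Y c).obj M)).obj (op V) : Type u) =
  (toPM M).obj (op ((Opens.map f).obj V)) := rfl

example : toPM (tens O_X M N) = toPM ((shO O_X).obj (toPM M ⊗ toPM N)) := rfl

lemma psh_smul (V : Opens Y) (r : O_Y.presheaf.obj (op V))
    (s : (toPM M).obj (op ((Opens.map f).obj V))) :
    (r • (show (toPM ((psh f O_X O_Y c).obj M)).obj (op V) from s)) =
      (show (toPM ((psh f O_X O_Y c).obj M)).obj (op V) from (cApp f O_X O_Y c V r • s)) := rfl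

/-- the underlying function of `nu` on sections -/
noncomputable def nuFun (V : Opens Y) (s : (toPM M).obj (op ((Opens.map f).obj V)))
    (t : (toPM N).obj (op ((Opens.map f).obj V))) :
    (toPM (tens O_X M N)).obj (op ((Opens.map f).obj V)) :=
  (etaO O_X (toPM M ⊗ toPM N)).app (op ((Opens.map f).obj V)) (tm (toPM M) (toPM N) s t)

lemma nuFun_add_left (V : Opens Y) (s s' : (toPM M).obj (op ((Opens.map f).obj V)))
    (t : (toPM N).obj (op ((Opens.map f).obj V))) :
    nuFun f O_X M N V (s + s') t = nuFun f O_X M N V s t + nuFun f O_X M N V s' t := by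
  unfold nuFun
  rw [tm_add_left, map_add]
  rfl

lemma nuFun_add_right (V : Opens Y) (s : (toPM M).obj (op ((Opens.map f).obj V)))
    (t t' : (toPM N).obj (op ((Opens.map f).obj V))) :
    nuFun f O_X M N V s (t + t') = nuFun f O_X M N V s t + nuFun f O_X M N V s t' := by
  unfold nuFun
  rw [tm_add_right, map_add]
  rfl

lemma nuFun_smul_left (V : Opens Y) (r : O_X.presheaf.obj (op ((Opens.map f).obj V)))
    (s : (toPM M).obj (op ((Opens.map f).obj V))) (t : (toPM N).obj (op ((Opens.map f).obj V))) :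
    nuFun f O_X M N V (r • s) t = r • nuFun f O_X M N V s t := by
  unfold nuFun
  rw [← smul_tm, map_smul]
  rfl

lemma nuFun_smul_right (V : Opens Y) (r : O_X.presheaf.obj (op ((Opens.map f).obj V)))
    (s : (toPM M).obj (op ((Opens.map f).obj V))) (t : (toPM N).obj (op ((Opens.map f).obj V))) :
    nuFun f O_X M N V s (r • t) = r • nuFun f O_X M N V s t := by
  unfold nuFun
  rw [← tm_smul, ← smul_tm, map_smul]
  rfl

/-- the map on sections over `V` -/
noncomputable def nuApp (V : (Opens Y)ᵒᵖ) :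
    (toPM ((psh f O_X O_Y c).obj M) ⊗ toPM ((psh f O_X O_Y c).obj N)).obj V ⟶
      (toPM ((psh f O_X O_Y c).obj (tens O_X M N))).obj V :=
  ModuleCat.MonoidalCategory.tensorLift
    (M₁ := (toPM ((psh f O_X O_Y c).obj M)).obj V) (M₂ := (toPM ((psh f O_X O_Y c).obj N)).obj V)
    (M₃ := (toPM ((psh f O_X O_Y c).obj (tens O_X M N))).obj V)
    (fun s t => nuFun f O_X M N V.unop s t)
    (fun s s' t => nuFun_add_left f O_X M N V.unop s s' t)
    (fun r s t => nuFun_smul_left f O_X M N V.unop (cApp f O_X O_Y c V.unop r) s t)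
    (fun s t t' => nuFun_add_right f O_X M N V.unop s t t')
    (fun r s t => nuFun_smul_right f O_X M N V.unop (cApp f O_X O_Y c V.unop r) s t)

lemma nuApp_tmul (V : (Opens Y)ᵒᵖ) (s : (toPM ((psh f O_X O_Y c).obj M)).obj V)
    (t : (toPM ((psh f O_X O_Y c).obj N)).obj V) :
    (nuApp f O_X O_Y c M N V).hom (s ⊗ₜ t) = nuFun f O_X M N V.unop s t := rfl

lemma nuFun_map {V W : Opens Y} (i : W ⟶ V) (s : (toPM M).obj (op ((Opens.map f).obj V)))
    (t : (toPM N).obj (op ((Opens.map f).obj V))) :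
    (toPM (tens O_X M N)).map ((Opens.map f).map i).op (nuFun f O_X M N V s t) =
      nuFun f O_X M N W ((toPM M).map ((Opens.map f).map i).op s)
        ((toPM N).map ((Opens.map f).map i).op t) := by
  unfold nuFun
  have h := PresheafOfModules.naturality_apply (etaO O_X (toPM M ⊗ toPM N))
    ((Opens.map f).map i).op (tm (toPM M) (toPM N) s t)
  exact h.symm

/-- the lax monoidal structure of the pushforward -/
noncomputable def nu : toPM ((psh f O_X O_Y c).obj M) ⊗ toPM ((psh f O_X O_Y c).obj N) ⟶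
    toPM ((psh f O_X O_Y c).obj (tens O_X M N)) where
  app V := nuApp f O_X O_Y c M N V
  naturality {V W} i := ModuleCat.MonoidalCategory.tensor_ext (fun s t => by
    exact (nuFun_map f O_X M N i.unop s t).symm)

lemma nu_app_tmul (V : (Opens Y)ᵒᵖ) (s : (toPM ((psh f O_X O_Y c).obj M)).obj V)
    (t : (toPM ((psh f O_X O_Y c).obj N)).obj V) :
    ((nu f O_X O_Y c M N).app V).hom (s ⊗ₜ t) = nuFun f O_X M N V.unop s t := rfl

/-! ### the comparison map -/

/-- the unit of the adjunction -/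
noncomputable abbrev un (A : ModSite.Mod O_Y) :
    A ⟶ (psh f O_X O_Y c).obj ((plb f O_X O_Y c).obj A) := (ppAdj f O_X O_Y c).unit.app A

variable (A B : ModSite.Mod O_Y)

/-- the comparison map, on presheaves over `Y` -/
noncomputable def dP : toPM A ⊗ toPM B ⟶
    toPM ((psh f O_X O_Y c).obj (tens O_X ((plb f O_X O_Y c).obj A) ((plb f O_X O_Y c).obj B))) :=
  (toPMMap (un f O_X O_Y c A) ⊗ₘ toPMMap (un f O_X O_Y c B)) ≫
    nu f O_X O_Y c ((plb f O_X O_Y c).obj A) ((plb f O_X O_Y c).obj B)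

/-- the comparison map, adjoint form -/
noncomputable def deltaFlat : tens O_Y A B ⟶
    (psh f O_X O_Y c).obj (tens O_X ((plb f O_X O_Y c).obj A) ((plb f O_X O_Y c).obj B)) :=
  ((adj O_Y).homEquiv (toPM A ⊗ toPM B)
    ((psh f O_X O_Y c).obj (tens O_X ((plb f O_X O_Y c).obj A) ((plb f O_X O_Y c).obj B)))).symm
      (dP f O_X O_Y c A B)

/-- the comparison map `f^*(A ⊗ B) ⟶ f^*A ⊗ f^*B` -/
noncomputable def delta : (plb f O_X O_Y c).obj (tens O_Y A B) ⟶
    tens O_X ((plb f O_X O_Y c).obj A) ((plb f O_X O_Y c).obj B) :=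
  ((ppAdj f O_X O_Y c).homEquiv _ _).symm (deltaFlat f O_X O_Y c A B)

lemma etaO_deltaFlat :
    etaO O_Y (toPM A ⊗ toPM B) ≫ toPMMap (deltaFlat f O_X O_Y c A B) = dP f O_X O_Y c A B := by
  have h := (adj O_Y).homEquiv_unit (X := toPM A ⊗ toPM B)
    (Y := (psh f O_X O_Y c).obj (tens O_X ((plb f O_X O_Y c).obj A) ((plb f O_X O_Y c).obj B)))
    (f := deltaFlat f O_X O_Y c A B)
  have h2 : (adj O_Y).homEquiv _ _ (deltaFlat f O_X O_Y c A B) = dP f O_X O_Y c A B :=
    Equiv.apply_symm_apply _ _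
  exact h.symm.trans h2

lemma un_delta : un f O_X O_Y c (tens O_Y A B) ≫ (psh f O_X O_Y c).map (delta f O_X O_Y c A B) =
    deltaFlat f O_X O_Y c A B := by
  have h := (ppAdj f O_X O_Y c).homEquiv_unit (X := tens O_Y A B)
    (Y := tens O_X ((plb f O_X O_Y c).obj A) ((plb f O_X O_Y c).obj B))
    (f := delta f O_X O_Y c A B)
  have h2 : (ppAdj f O_X O_Y c).homEquiv _ _ (delta f O_X O_Y c A B) = deltaFlat f O_X O_Y c A B :=
    Equiv.apply_symm_apply _ _
  exact h.symm.trans h2

/-- the comparison map on pulled back pure tensors -/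
lemma delta_section (V : Opens Y) (a : (toPM A).obj (op V)) (b : (toPM B).obj (op V)) :
    (toPMMap (delta f O_X O_Y c A B)).app (op ((Opens.map f).obj V))
      ((toPMMap (un f O_X O_Y c (tens O_Y A B))).app (op V)
        ((etaO O_Y (toPM A ⊗ toPM B)).app (op V) (tm (toPM A) (toPM B) a b))) =
    (etaO O_X (toPM ((plb f O_X O_Y c).obj A) ⊗ toPM ((plb f O_X O_Y c).obj B))).app
      (op ((Opens.map f).obj V))
      (tm (toPM ((plb f O_X O_Y c).obj A)) (toPM ((plb f O_X O_Y c).obj B))
        ((toPMMap (un f O_X O_Y c A)).app (op V) a)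
        ((toPMMap (un f O_X O_Y c B)).app (op V) b)) := by
  have h1 := etaO_deltaFlat f O_X O_Y c A B
  rw [← un_delta] at h1
  have h2 := congrArg (fun g => (g.app (op V)).hom (tm (toPM A) (toPM B) a b)) h1
  exact h2

end Groth.Agent.Lib.Seat16.RSpPT
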