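import Mathlib
import Groth.Agent.Lib.Seat16RSpPT1
set_option backward.isDefEq.respectTransparency.types false

/-!
# The pullback of modules along a morphism of ringed spaces is monoidal (seat 16), part 2

Port of `Helper1KBC3/PT3`: the comparison map `delta : f^*(A ⊗ B) ⟶ f^*A ⊗ f^*B` is an isomorphism
(on stalks it is the canonical isomorphism `S ⊗_R (A_y ⊗_R B_y) ≅ (S ⊗_R A_y) ⊗_S (S ⊗_R B_y)`).
-/

set_option autoImplicit false
set_option linter.style.haveILetI false
universe u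
open CategoryTheory CategoryTheory.Limits TopCat TopologicalSpace Opposite MonoidalCategory TensorProduct

namespace Groth.Agent.Lib.Seat16.RSpPT

open Groth.Agent.Lib.Helper1.StalkTensor Groth.Agent.Lib.Helper1.Sky Groth.Agent.Lib.Seat93.RSpBase
open Groth.Agent.Lib.Helper21.ModTensor2 Groth.Agent.Lib.Seat16.RSpPull Groth.Agent.Lib.Seat16.RSpFlat

/-! ### the stalk of a tensor product -/

section stalkTensor
variable {Z : TopCat.{u}} (O : TopCat.Sheaf CommRingCat.{u} Z) (z : Z) (L K : ModSite.Mod O)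

/-- `(L, K) ↦ L_z ⊗ K_z` -/
noncomputable abbrev G2 : ModuleCat.{u} (Ox O z) := (stalkFun O z).obj L ⊗ (stalkFun O z).obj K

/-- the unit of sheafification on stalks, as a linear equivalence -/
noncomputable def etaEquiv (T : PMod O.presheaf) : St T z ≃ₗ[Ox O z] St (toPM ((shO O).obj T)) z :=
  LinearEquiv.ofBijective (smₗ (etaO O T) z) (sm_etaO_bijective O T z)

lemma etaEquiv_apply (T : PMod O.presheaf) (t : St T z) : etaEquiv O z T t = sm (etaO O T) z t := rfl

/-- `(L ⊗ K)_z ≃ L_z ⊗ K_z` -/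
noncomputable def stalkTensorEquiv :
    St (toPM (tens O L K)) z ≃ₗ[Ox O z] St (toPM L) z ⊗[Ox O z] St (toPM K) z :=
  (etaEquiv O z (toPM L ⊗ toPM K)).symm ≪≫ₗ αLin (toPM L) (toPM K) z

lemma stalkTensorEquiv_eta (t : St (toPM L ⊗ toPM K) z) :
    stalkTensorEquiv O z L K (sm (etaO O (toPM L ⊗ toPM K)) z t) = α (toPM L) (toPM K) z t := by
  change αLin (toPM L) (toPM K) z ((etaEquiv O z (toPM L ⊗ toPM K)).symm (etaEquiv O z _ t)) = _
  rw [LinearEquiv.symm_apply_apply]
  rfl

/-- the component of the isomorphism -/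
noncomputable def stalkTensorApp : (stalkFun O z).obj (tens O L K) ≅ G2 O z L K :=
  (stalkTensorEquiv O z L K).toModuleIso

lemma stalkTensorEquiv_gm (U : Opens Z) (hz : z ∈ U)
    (a : (toPM L).obj (op U)) (b : (toPM K).obj (op U)) :
    stalkTensorEquiv O z L K (gm (toPM (tens O L K)) z U hz
      ((etaO O (toPM L ⊗ toPM K)).app (op U) (tm (toPM L) (toPM K) a b))) =
    gm (toPM L) z U hz a ⊗ₜ[Ox O z] gm (toPM K) z U hz b := by
  have h1 : gm (toPM (tens O L K)) z U hz
      ((etaO O (toPM L ⊗ toPM K)).app (op U) (tm (toPM L) (toPM K) a b)) =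
      sm (etaO O (toPM L ⊗ toPM K)) z (gm (toPM L ⊗ toPM K) z U hz (tm (toPM L) (toPM K) a b)) :=
    (sm_gm (etaO O (toPM L ⊗ toPM K)) hz (tm (toPM L) (toPM K) a b)).symm
  rw [h1, stalkTensorEquiv_eta, α_gm_tm]

lemma stalkTensorEquiv_symm_gm (U : Opens Z) (hz : z ∈ U)
    (a : (toPM L).obj (op U)) (b : (toPM K).obj (op U)) :
    (stalkTensorEquiv O z L K).symm (gm (toPM L) z U hz a ⊗ₜ[Ox O z] gm (toPM K) z U hz b) =
    gm (toPM (tens O L K)) z U hz
      ((etaO O (toPM L ⊗ toPM K)).app (op U) (tm (toPM L) (toPM K) a b)) := by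
  rw [← stalkTensorEquiv_gm, LinearEquiv.symm_apply_apply]

/-- a morphism of `O`-modules which is an isomorphism on all stalks is an isomorphism -/
lemma isIso_of_forall_isIso_stalk {M N : ModSite.Mod O} (g : M ⟶ N)
    (h : ∀ z : Z, IsIso ((stalkFun O z).map g)) : IsIso g := by
  haveI hm : Mono g := by
    apply Groth.Agent.Lib.Seat93.RSpBase.mono_of_sm_injective
    intro z
    haveI := h z
    exact (ModuleCat.mono_iff_injective ((stalkFun O z).map g)).1 inferInstance
  haveI he : Epi g := by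
    apply Groth.Agent.Lib.Seat93.RSpBase.epi_of_sm_surjective
    intro z
    haveI := h z
    exact (ModuleCat.epi_iff_surjective ((stalkFun O z).map g)).1 inferInstance
  exact isIso_of_mono_of_epi g

end stalkTensor

variable {X Y : TopCat.{u}} (f : X ⟶ Y) (O_X : TopCat.Sheaf CommRingCat.{u} X)
  (O_Y : TopCat.Sheaf CommRingCat.{u} Y)
  (c : O_Y ⟶ ((TopologicalSpace.Opens.map f).sheafPushforwardContinuous CommRingCat.{u}
      (Opens.grothendieckTopology Y) (Opens.grothendieckTopology X)).obj O_X)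
  (x : X)

variable (M : ModSite.Mod O_Y)

/-- the stalk of the pullback on pulled back sections -/
lemma sigma_unit (V : Opens Y) (hy : f x ∈ V) (m : (toPM M).obj (op V)) :
    ((stalkPullbackIso f O_X O_Y c x).hom.app M).hom
      (gm (toPM ((plb f O_X O_Y c).obj M)) x ((Opens.map f).obj V) hy
        ((toPMMap (un f O_X O_Y c M)).app (op V) m)) =
      ((1 : Ox O_X x) ⊗ₜ[Ox O_Y (f x)] gm (toPM M) (f x) V hy m :
        (ModuleCat.extendScalars.{u, u, u} (stk f O_X O_Y c x).hom).obj ((stalkFun O_Y (f x)).obj M)) :=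
  stalkPullbackIso_germ f O_X O_Y c x M V hy m

lemma sigma_inv_unit (V : Opens Y) (hy : f x ∈ V) (m : (toPM M).obj (op V)) :
    ((stalkPullbackIso f O_X O_Y c x).inv.app M).hom
      ((1 : Ox O_X x) ⊗ₜ[Ox O_Y (f x)] gm (toPM M) (f x) V hy m :
        (ModuleCat.extendScalars.{u, u, u} (stk f O_X O_Y c x).hom).obj ((stalkFun O_Y (f x)).obj M)) =
      gm (toPM ((plb f O_X O_Y c).obj M)) x ((Opens.map f).obj V) hy
        ((toPMMap (un f O_X O_Y c M)).app (op V) m) := by
  have h0 := sigma_unit f O_X O_Y c x M V hy m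
  have h := (stalkPullbackIso f O_X O_Y c x).hom_inv_id_app M
  have h1 := congrArg (fun g => g.hom (gm (toPM ((plb f O_X O_Y c).obj M)) x ((Opens.map f).obj V) hy
    ((toPMMap (un f O_X O_Y c M)).app (op V) m))) h
  exact (congrArg (fun t => ((stalkPullbackIso f O_X O_Y c x).inv.app M).hom t) h0).symm.trans h1

variable (A B : ModSite.Mod O_Y)

/-- extension of scalars along the stalk map -/
noncomputable abbrev extF : ModuleCat.{u} (Ox O_Y (f x)) ⥤ ModuleCat.{u} (Ox O_X x) :=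
  ModuleCat.extendScalars.{u, u, u} (stk f O_X O_Y c x).hom

/-- the first composite -/
noncomputable def PhiCat : (extF f O_X O_Y c x).obj (G2 O_Y (f x) A B) ⟶
    G2 O_X x ((plb f O_X O_Y c).obj A) ((plb f O_X O_Y c).obj B) :=
  (extF f O_X O_Y c x).map (stalkTensorApp O_Y (f x) A B).inv ≫
    (stalkPullbackIso f O_X O_Y c x).inv.app (tens O_Y A B) ≫
    (stalkFun O_X x).map (delta f O_X O_Y c A B) ≫
    (stalkTensorApp O_X x ((plb f O_X O_Y c).obj A) ((plb f O_X O_Y c).obj B)).hom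

open Functor.OplaxMonoidal in
/-- the second composite, an isomorphism -/
noncomputable def PsiCat : (extF f O_X O_Y c x).obj (G2 O_Y (f x) A B) ⟶
    G2 O_X x ((plb f O_X O_Y c).obj A) ((plb f O_X O_Y c).obj B) :=
  δ (extF f O_X O_Y c x) ((stalkFun O_Y (f x)).obj A) ((stalkFun O_Y (f x)).obj B) ≫
    ((stalkPullbackIso f O_X O_Y c x).inv.app A ⊗ₘ (stalkPullbackIso f O_X O_Y c x).inv.app B)

lemma psiCat_apply (V : Opens Y) (hy : f x ∈ V) (a : (toPM A).obj (op V)) (b : (toPM B).obj (op V)) :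
    (PsiCat f O_X O_Y c x A B).hom
      ((1 : Ox O_X x) ⊗ₜ[Ox O_Y (f x)]
        (gm (toPM A) (f x) V hy a ⊗ₜ[Ox O_Y (f x)] gm (toPM B) (f x) V hy b) :
        (extF f O_X O_Y c x).obj (G2 O_Y (f x) A B)) =
    (gm (toPM ((plb f O_X O_Y c).obj A)) x ((Opens.map f).obj V) hy
        ((toPMMap (un f O_X O_Y c A)).app (op V) a)) ⊗ₜ[Ox O_X x]
      (gm (toPM ((plb f O_X O_Y c).obj B)) x ((Opens.map f).obj V) hy
        ((toPMMap (un f O_X O_Y c B)).app (op V) b)) := by
  rw [← sigma_inv_unit f O_X O_Y c x A V hy a, ← sigma_inv_unit f O_X O_Y c x B V hy b]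
  rfl

lemma phiCat_apply (V : Opens Y) (hy : f x ∈ V) (a : (toPM A).obj (op V)) (b : (toPM B).obj (op V)) :
    (PhiCat f O_X O_Y c x A B).hom
      ((1 : Ox O_X x) ⊗ₜ[Ox O_Y (f x)]
        (gm (toPM A) (f x) V hy a ⊗ₜ[Ox O_Y (f x)] gm (toPM B) (f x) V hy b) :
        (extF f O_X O_Y c x).obj (G2 O_Y (f x) A B)) =
    (gm (toPM ((plb f O_X O_Y c).obj A)) x ((Opens.map f).obj V) hy
        ((toPMMap (un f O_X O_Y c A)).app (op V) a)) ⊗ₜ[Ox O_X x]
      (gm (toPM ((plb f O_X O_Y c).obj B)) x ((Opens.map f).obj V) hy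
        ((toPMMap (un f O_X O_Y c B)).app (op V) b)) := by
  -- step 1, 2
  have s1 : ((extF f O_X O_Y c x).map (stalkTensorApp O_Y (f x) A B).inv).hom
      ((1 : Ox O_X x) ⊗ₜ[Ox O_Y (f x)]
        (gm (toPM A) (f x) V hy a ⊗ₜ[Ox O_Y (f x)] gm (toPM B) (f x) V hy b) :
        (extF f O_X O_Y c x).obj (G2 O_Y (f x) A B)) =
      ((1 : Ox O_X x) ⊗ₜ[Ox O_Y (f x)]
        (gm (toPM (tens O_Y A B)) (f x) V hy
          ((etaO O_Y (toPM A ⊗ toPM B)).app (op V) (tm (toPM A) (toPM B) a b))) :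
        (extF f O_X O_Y c x).obj ((stalkFun O_Y (f x)).obj (tens O_Y A B))) := by
    have := stalkTensorEquiv_symm_gm O_Y (f x) A B V hy a b
    exact congrArg (fun t => ((1 : Ox O_X x) ⊗ₜ[Ox O_Y (f x)] t :
      (extF f O_X O_Y c x).obj ((stalkFun O_Y (f x)).obj (tens O_Y A B)))) this
  -- step 3
  have s3 := sigma_inv_unit f O_X O_Y c x (tens O_Y A B) V hy
    ((etaO O_Y (toPM A ⊗ toPM B)).app (op V) (tm (toPM A) (toPM B) a b))
  -- step 4, 5
  have s5 := delta_section f O_X O_Y c A B V a b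
  -- step 6
  have s6 := stalkTensorEquiv_gm O_X x ((plb f O_X O_Y c).obj A) ((plb f O_X O_Y c).obj B)
    ((Opens.map f).obj V) hy
    ((toPMMap (un f O_X O_Y c A)).app (op V) a) ((toPMMap (un f O_X O_Y c B)).app (op V) b)
  have s45 : ((stalkFun O_X x).map (delta f O_X O_Y c A B)).hom
      (gm (toPM ((plb f O_X O_Y c).obj (tens O_Y A B))) x ((Opens.map f).obj V) hy
        ((toPMMap (un f O_X O_Y c (tens O_Y A B))).app (op V)
          ((etaO O_Y (toPM A ⊗ toPM B)).app (op V) (tm (toPM A) (toPM B) a b)))) =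
      gm (toPM (tens O_X ((plb f O_X O_Y c).obj A) ((plb f O_X O_Y c).obj B))) x
        ((Opens.map f).obj V) hy
        ((etaO O_X (toPM ((plb f O_X O_Y c).obj A) ⊗ toPM ((plb f O_X O_Y c).obj B))).app
          (op ((Opens.map f).obj V))
          (tm (toPM ((plb f O_X O_Y c).obj A)) (toPM ((plb f O_X O_Y c).obj B))
            ((toPMMap (un f O_X O_Y c A)).app (op V) a)
            ((toPMMap (un f O_X O_Y c B)).app (op V) b))) := by
    have h4 := sm_gm (toPMMap (delta f O_X O_Y c A B)) (x := x) hy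
      ((toPMMap (un f O_X O_Y c (tens O_Y A B))).app (op V)
          ((etaO O_Y (toPM A ⊗ toPM B)).app (op V) (tm (toPM A) (toPM B) a b)))
    exact h4.trans (congrArg (fun w => gm (toPM (tens O_X ((plb f O_X O_Y c).obj A)
      ((plb f O_X O_Y c).obj B))) x ((Opens.map f).obj V) hy w) s5)
  let T3 := fun t => ((stalkPullbackIso f O_X O_Y c x).inv.app (tens O_Y A B)).hom t
  let T4 := fun t => ((stalkFun O_X x).map (delta f O_X O_Y c A B)).hom t
  let T6 := fun t => (stalkTensorApp O_X x ((plb f O_X O_Y c).obj A)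
    ((plb f O_X O_Y c).obj B)).hom.hom t
  exact (congrArg (fun t => T6 (T4 (T3 t))) s1).trans
    ((congrArg (fun t => T6 (T4 t)) s3).trans ((congrArg T6 s45).trans s6))

theorem phiCat_eq_psiCat : PhiCat f O_X O_Y c x A B = PsiCat f O_X O_Y c x A B := by
  apply ((ModuleCat.extendRestrictScalarsAdj.{u, u, u} (stk f O_X O_Y c x).hom).homEquiv _ _).injective
  apply ModuleCat.MonoidalCategory.tensor_ext
  intro a b
  obtain ⟨V, hV, a0, b0, rfl, rfl⟩ := exists_rep₂ a b
  exact (phiCat_apply f O_X O_Y c x A B V hV a0 b0).trans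
    (psiCat_apply f O_X O_Y c x A B V hV a0 b0).symm

open Functor.OplaxMonoidal in
instance isIso_psiCat : IsIso (PsiCat f O_X O_Y c x A B) := by
  unfold PsiCat
  infer_instance

/-- the comparison map is an isomorphism on stalks -/
theorem isIso_stalk_delta : IsIso ((stalkFun O_X x).map (delta f O_X O_Y c A B)) := by
  have h : IsIso (PhiCat f O_X O_Y c x A B) := by
    rw [phiCat_eq_psiCat]
    infer_instance
  unfold PhiCat at h
  have h2 := IsIso.of_isIso_comp_left ((extF f O_X O_Y c x).map (stalkTensorApp O_Y (f x) A B).inv)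
    ((stalkPullbackIso f O_X O_Y c x).inv.app (tens O_Y A B) ≫
      (stalkFun O_X x).map (delta f O_X O_Y c A B) ≫
      (stalkTensorApp O_X x ((plb f O_X O_Y c).obj A) ((plb f O_X O_Y c).obj B)).hom)
  have h3 := IsIso.of_isIso_comp_left ((stalkPullbackIso f O_X O_Y c x).inv.app (tens O_Y A B))
    ((stalkFun O_X x).map (delta f O_X O_Y c A B) ≫
      (stalkTensorApp O_X x ((plb f O_X O_Y c).obj A) ((plb f O_X O_Y c).obj B)).hom)
  exact IsIso.of_isIso_comp_right ((stalkFun O_X x).map (delta f O_X O_Y c A B))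
    (stalkTensorApp O_X x ((plb f O_X O_Y c).obj A) ((plb f O_X O_Y c).obj B)).hom

instance isIso_delta : IsIso (delta f O_X O_Y c A B) :=
  isIso_of_forall_isIso_stalk O_X _ (fun x => isIso_stalk_delta f O_X O_Y c x A B)

/-- `f^*(A ⊗ B) ≅ f^*A ⊗ f^*B` -/
noncomputable def pullTensorIso : (plb f O_X O_Y c).obj (tens O_Y A B) ≅
    tens O_X ((plb f O_X O_Y c).obj A) ((plb f O_X O_Y c).obj B) :=
  asIso (delta f O_X O_Y c A B)

end Groth.Agent.Lib.Seat16.RSpPT
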