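import Mathlib
set_option backward.isDefEq.respectTransparency.types false

/-!
# Pure algebra for local freeness (seat 93)

* `basis_spread`: generators `w` with known syzygies and a family `v` with `w = A v`, `v = B w`,
  `B A = 1`, `Rel A = 0` ⇒ `v` spans and is linearly independent.
* `basis_transfer`: transport "spanning + linearly independent" across a semilinear bijection.
-/

set_option autoImplicit false

namespace Groth.Agent.Lib.Seat93.FreeAlg

theorem span_of_comb {R : Type*} [CommRing R] {N : Type*} [AddCommGroup N] [Module R N]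
    {ι J : Type*} [Fintype ι]
    (v : ι → N) (w : J → N) (A : J → ι → R)
    (hw : ∀ j, w j = ∑ i, A j i • v i)
    (hspan : Submodule.span R (Set.range w) = ⊤) :
    Submodule.span R (Set.range v) = ⊤ := by
  rw [eq_top_iff, ← hspan, Submodule.span_le]
  rintro _ ⟨j, rfl⟩
  rw [hw j]
  exact Submodule.sum_mem _ (fun i _ => Submodule.smul_mem _ _ (Submodule.subset_span ⟨i, rfl⟩))

theorem linearIndependent_of_comb {R : Type*} [CommRing R] {N : Type*} [AddCommGroup N] [Module R N]
    {ι J κ : Type*} [Fintype ι] [Fintype J] [DecidableEq ι]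
    (v : ι → N) (w : J → N) (A : J → ι → R) (B : ι → J → R) (Rel : κ → J → R)
    (hv : ∀ i, v i = ∑ j, B i j • w j)
    (hBA : ∀ i i', ∑ j, B i j * A j i' = if i = i' then 1 else 0)
    (hRA : ∀ k i', ∑ j, Rel k j * A j i' = 0)
    (hsyz : ∀ c : J → R, ∑ j, c j • w j = 0 → c ∈ Submodule.span R (Set.range Rel)) :
    LinearIndependent R v := by
  rw [Fintype.linearIndependent_iff]
  intro c hc
  -- the induced relation among the `w j`
  let c' : J → R := fun j => ∑ i, c i * B i j
  have hc' : ∑ j, c' j • w j = 0 := by
    rw [← hc]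
    simp only [c', Finset.sum_smul]
    rw [Finset.sum_comm]
    refine Finset.sum_congr rfl (fun i _ => ?_)
    rw [hv i, Finset.smul_sum]
    refine Finset.sum_congr rfl (fun j _ => ?_)
    rw [mul_smul]
  have hmem := hsyz c' hc'
  -- the linear map `c ↦ c · A`
  let T : (J → R) →ₗ[R] (ι → R) :=
    { toFun := fun d i' => ∑ j, d j * A j i'
      map_add' := by
        intro d d'
        funext i'
        simp only [Pi.add_apply, add_mul, Finset.sum_add_distrib]
      map_smul' := by
        intro r d
        funext i'
        simp only [Pi.smul_apply, smul_eq_mul, RingHom.id_apply, Finset.mul_sum, mul_assoc] }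
  have hT : Submodule.span R (Set.range Rel) ≤ LinearMap.ker T := by
    rw [Submodule.span_le]
    rintro _ ⟨k, rfl⟩
    rw [SetLike.mem_coe, LinearMap.mem_ker]
    funext i'
    exact hRA k i'
  have h0 : T c' = 0 := hT hmem
  intro i'
  have h1 : T c' i' = c i' := by
    change ∑ j, (∑ i, c i * B i j) * A j i' = c i'
    simp only [Finset.sum_mul]
    rw [Finset.sum_comm]
    have : ∀ i, ∑ j, c i * B i j * A j i' = c i * (if i = i' then 1 else 0) := by
      intro i
      rw [← hBA i i', Finset.mul_sum]
      exact Finset.sum_congr rfl (fun j _ => mul_assoc _ _ _)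
    simp only [this]
    simp
  rw [← h1, h0]
  rfl

/-- transport of "spanning and linearly independent" along a semilinear additive bijection -/
theorem basis_transfer {R S : Type*} [CommRing R] [CommRing S] {M N : Type*}
    [AddCommGroup M] [Module R M] [AddCommGroup N] [Module S N]
    (σ : R →+* S) (hσ : Function.Bijective σ) (f : M →+ N) (hf : Function.Bijective f)
    (hsmul : ∀ (r : R) (m : M), f (r • m) = σ r • f m)
    {ι : Type*} [Fintype ι] (b : ι → M)
    (hspan : Submodule.span R (Set.range b) = ⊤) (hli : LinearIndependent R b) :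
    Submodule.span S (Set.range fun i => f (b i)) = ⊤ ∧ LinearIndependent S (fun i => f (b i)) := by
  constructor
  · rw [eq_top_iff]
    intro n _
    obtain ⟨m, rfl⟩ := hf.2 n
    have hm : m ∈ Submodule.span R (Set.range b) := by rw [hspan]; trivial
    obtain ⟨c, rfl⟩ := (Submodule.mem_span_range_iff_exists_fun R).1 hm
    rw [map_sum]
    refine Submodule.sum_mem _ (fun i _ => ?_)
    rw [hsmul]
    exact Submodule.smul_mem _ _ (Submodule.subset_span ⟨i, rfl⟩)
  · rw [Fintype.linearIndependent_iff]
    intro d hd
    choose c hc using fun i => hσ.2 (d i)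
    have h1 : f (∑ i, c i • b i) = 0 := by
      rw [map_sum, ← hd]
      refine Finset.sum_congr rfl (fun i _ => ?_)
      rw [hsmul, hc]
    have h2 : ∑ i, c i • b i = 0 := hf.1 (h1.trans (map_zero f).symm)
    have h3 := (Fintype.linearIndependent_iff.1 hli) c h2
    intro i
    rw [← hc i, h3 i, map_zero]

/-- comparing coefficients: if `v` is linearly independent and `w = A v`, a combination of the `w j`
equal to a combination of the `v i` has the expected coefficients -/
theorem coeff_eq_of_linearIndependent {R : Type*} [CommRing R] {N : Type*} [AddCommGroup N] [Module R N]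
    {ι J : Type*} [Fintype ι] [Fintype J]
    (v : ι → N) (w : J → N) (A : J → ι → R) (hli : LinearIndependent R v)
    (hw : ∀ j, w j = ∑ i, A j i • v i) (c : J → R) (d : ι → R)
    (h : ∑ j, c j • w j = ∑ i, d i • v i) (i' : ι) : ∑ j, c j * A j i' = d i' := by
  have h1 : ∑ j, c j • w j = ∑ i, (∑ j, c j * A j i) • v i := by
    simp only [Finset.sum_smul]
    rw [Finset.sum_comm]
    refine Finset.sum_congr rfl (fun j _ => ?_)
    rw [hw j, Finset.smul_sum]
    refine Finset.sum_congr rfl (fun i _ => ?_)
    rw [mul_smul]
  have h2 : ∑ i, ((∑ j, c j * A j i) - d i) • v i = 0 := by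
    simp only [sub_smul, Finset.sum_sub_distrib]
    rw [← h1, h, sub_self]
  have h3 := (Fintype.linearIndependent_iff.1 hli) _ h2 i'
  exact sub_eq_zero.1 h3

end Groth.Agent.Lib.Seat93.FreeAlg
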