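import Mathlib
set_option backward.isDefEq.respectTransparency.types false

/-!
# Coordinates on finite free sheaves of modules (seat 93)

For a sheaf of rings `R` on a site and a finite type `I`: the coordinate projections
`coord j : free I ⟶ unit R`, the decomposition `∑ j, coord j ≫ ιFree j = 𝟙`, and on sections:
`coef t j`, `eq_sum_coef` (every section of `free I` is the combination of the basis sections with its
coefficients), `coef_sum`, `app_freeHomEquiv_symm` (value of a map out of `free I` on a section).
-/

set_option autoImplicit false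
universe u v' u'
open CategoryTheory CategoryTheory.Limits Opposite

namespace Groth.Agent.Lib.Seat93.FreeCoord

variable {C : Type u'} [Category.{v'} C] {J : GrothendieckTopology C} {R : Sheaf J RingCat.{u}}
  [HasWeakSheafify J AddCommGrpCat.{u}] [J.WEqualsLocallyBijective AddCommGrpCat.{u}]

open SheafOfModules

variable {I : Type u}

/-- the `j`-th coordinate projection of a free module -/
noncomputable def coord [DecidableEq I] (j : I) : free (R := R) I ⟶ unit R :=
  Cofan.IsColimit.desc (isColimitFreeCofan I) (fun i => if i = j then 𝟙 (unit R) else 0)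

lemma ιFree_coord [DecidableEq I] (i j : I) :
    ιFree (R := R) i ≫ coord j = if i = j then 𝟙 (unit R) else 0 :=
  Cofan.IsColimit.fac (isColimitFreeCofan I) _ i

lemma sum_coord_ιFree [DecidableEq I] [Fintype I] :
    ∑ j : I, coord (R := R) j ≫ ιFree j = 𝟙 (free I) := by
  apply Cofan.IsColimit.hom_ext (isColimitFreeCofan (R := R) I)
  intro i
  change ιFree i ≫ _ = ιFree i ≫ _
  rw [Preadditive.comp_sum, Category.comp_id]
  have : ∀ j : I, ιFree (R := R) i ≫ coord j ≫ ιFree j = if i = j then ιFree i else 0 := by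
    intro j
    rw [← Category.assoc, ιFree_coord]
    split_ifs with h
    · subst h; exact Category.id_comp _
    · exact zero_comp
  rw [Finset.sum_congr rfl (fun j _ => this j)]
  simp

/-- the `j`-th coefficient of a section of a free module -/
noncomputable def coef [DecidableEq I] {Y : Cᵒᵖ} (t : (free (R := R) I).val.obj Y) (j : I) : R.obj.obj Y :=
  (coord j).val.app Y t

/-- the value of a section at `Y`, typed as an element of the module of sections -/
def sval {M : SheafOfModules.{u} R} (s : M.sections) (Y : Cᵒᵖ) : M.val.obj Y := s.val Y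

/-- the unit section of the structure sheaf, typed in `unit R` -/
def uone (Y : Cᵒᵖ) : (unit R).val.obj Y := (1 : R.obj.obj Y)

/-- the basis section `e_j` over `Y` -/
noncomputable def bas (j : I) (Y : Cᵒᵖ) : (free (R := R) I).val.obj Y := (freeSection (R := R) j).val Y

lemma ιFree_app_one (j : I) (Y : Cᵒᵖ) :
    (ιFree (R := R) j).val.app Y (1 : R.obj.obj Y) = bas j Y := by
  change _ = ((free (R := R) I).unitHomEquiv (ιFree j ≫ 𝟙 _)).val Y
  rw [Category.comp_id]
  rfl

lemma ιFree_app (j : I) (Y : Cᵒᵖ) (c : R.obj.obj Y) :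
    (ιFree (R := R) j).val.app Y c = c • bas j Y := by
  have h : c = c • (1 : R.obj.obj Y) := (mul_one c).symm
  conv_lhs => rw [h]
  have := ((ιFree (R := R) j).val.app Y).hom.map_smul c (1 : R.obj.obj Y)
  refine this.trans ?_
  congr 1

omit [HasWeakSheafify J AddCommGrpCat.{u}] [J.WEqualsLocallyBijective AddCommGrpCat.{u}] in
/-- evaluation of morphisms at a section, as an additive map in the morphism -/
noncomputable def evalHom {M N : SheafOfModules.{u} R} (Y : Cᵒᵖ) (t : M.val.obj Y) :
    (M ⟶ N) →+ N.val.obj Y where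
  toFun f := f.val.app Y t
  map_zero' := rfl
  map_add' _ _ := rfl

omit [HasWeakSheafify J AddCommGrpCat.{u}] [J.WEqualsLocallyBijective AddCommGrpCat.{u}] in
lemma sum_val_app {M N : SheafOfModules.{u} R} {κ : Type*} (s : Finset κ) (f : κ → (M ⟶ N))
    (Y : Cᵒᵖ) (t : M.val.obj Y) :
    (∑ k ∈ s, f k).val.app Y t = ∑ k ∈ s, (f k).val.app Y t :=
  map_sum (evalHom Y t) f s

lemma eq_sum_coef [DecidableEq I] [Fintype I] {Y : Cᵒᵖ} (t : (free (R := R) I).val.obj Y) :
    t = ∑ j : I, coef t j • bas j Y := by
  have h := congrArg (fun f => f.val.app Y t) (sum_coord_ιFree (R := R) (I := I))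
  simp only at h
  rw [sum_val_app] at h
  refine h.symm.trans ?_
  refine Finset.sum_congr rfl (fun j _ => ?_)
  exact ιFree_app j Y (coef t j)

lemma ext_coef [DecidableEq I] [Fintype I] {Y : Cᵒᵖ} (t t' : (free (R := R) I).val.obj Y)
    (h : ∀ j, coef t j = coef t' j) : t = t' := by
  rw [eq_sum_coef t, eq_sum_coef t']
  exact Finset.sum_congr rfl (fun j _ => by rw [h j])

lemma coef_bas [DecidableEq I] (i j : I) (Y : Cᵒᵖ) :
    coef (bas (R := R) i Y) j = if i = j then 1 else 0 := by
  have h := congrArg (fun f => f.val.app Y (uone Y)) (ιFree_coord (R := R) i j)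
  simp only at h
  have h2 : (ιFree (R := R) i ≫ coord j).val.app Y (uone Y) = coef (bas i Y) j := by
    change (coord j).val.app Y ((ιFree (R := R) i).val.app Y (1 : R.obj.obj Y)) = _
    rw [ιFree_app_one]
    rfl
  rw [← h2, h]
  split_ifs <;> rfl

lemma coef_add [DecidableEq I] {Y : Cᵒᵖ} (t t' : (free (R := R) I).val.obj Y) (j : I) :
    coef (t + t') j = coef t j + coef t' j := ((coord j).val.app Y).hom.map_add t t'

lemma coef_zero [DecidableEq I] {Y : Cᵒᵖ} (j : I) :
    coef (0 : (free (R := R) I).val.obj Y) j = 0 := ((coord j).val.app Y).hom.map_zero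

lemma coef_smul [DecidableEq I] {Y : Cᵒᵖ} (c : R.obj.obj Y) (t : (free (R := R) I).val.obj Y) (j : I) :
    coef (c • t) j = c * coef t j := ((coord j).val.app Y).hom.map_smul c t

lemma coef_sum_smul_bas [DecidableEq I] [Fintype I] {Y : Cᵒᵖ} (c : I → R.obj.obj Y) (j : I) :
    coef (∑ i : I, c i • bas (R := R) i Y) j = c j := by
  have : coef (∑ i : I, c i • bas (R := R) i Y) j = ∑ i : I, coef (c i • bas (R := R) i Y) j :=
    map_sum ((coord j).val.app Y).hom _ _
  rw [this]
  simp only [coef_smul, coef_bas]
  simp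

lemma coef_sum [DecidableEq I] {Y : Cᵒᵖ} {κ : Type*} (s : Finset κ)
    (f : κ → (free (R := R) I).val.obj Y) (j : I) :
    coef (∑ k ∈ s, f k) j = ∑ k ∈ s, coef (f k) j :=
  map_sum ((coord j).val.app Y).hom f s

lemma coef_map [DecidableEq I] {Y Y' : Cᵒᵖ} (f : Y ⟶ Y') (t : (free (R := R) I).val.obj Y) (j : I) :
    coef (show (free (R := R) I).val.obj Y' from (free (R := R) I).val.map f t) j =
      R.obj.map f (coef t j) :=
  PresheafOfModules.naturality_apply (coord j).val f t

lemma bas_map (j : I) {Y Y' : Cᵒᵖ} (f : Y ⟶ Y') :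
    (free (R := R) I).val.map f (bas j Y) = bas j Y' :=
  (freeSection (R := R) j).property f

/-- the value of the morphism `free I ⟶ M` attached to a family of sections, on a basis section -/
lemma app_bas {M : SheafOfModules.{u} R} (s : I → M.sections) (j : I) (Y : Cᵒᵖ) :
    (M.freeHomEquiv.symm s).val.app Y (bas j Y) = sval (s j) Y := by
  have := sectionsMap_freeHomEquiv_symm_freeSection s j
  exact congrArg (fun t => t.val Y) this

lemma app_eq_sum [DecidableEq I] [Fintype I] {M : SheafOfModules.{u} R} (s : I → M.sections)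
    {Y : Cᵒᵖ} (t : (free (R := R) I).val.obj Y) :
    (M.freeHomEquiv.symm s).val.app Y t = ∑ j : I, coef t j • sval (s j) Y := by
  conv_lhs => rw [eq_sum_coef t]
  rw [map_sum]
  refine Finset.sum_congr rfl (fun j _ => ?_)
  rw [((M.freeHomEquiv.symm s).val.app Y).hom.map_smul, app_bas]

end Groth.Agent.Lib.Seat93.FreeCoord
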