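import Mathlib
import Groth.Prelude.Def_ModSite2
import Groth.Agent.Lib.Seat93RSpBase
import Groth.Agent.Lib.Helper21UnitHom
set_option backward.isDefEq.respectTransparency.types false

/-!
# Generating sections on a ringed space are the stalkwise generating families (seat 93)

For `M : ModSite.Mod O` on a ringed space and an open `U`:
* `gsec M U G i : M(U)`, the `i`-th member of a `GeneratingSections` of `M|_U = (ModSite.restr O U).obj M`;
* `span_germ_eq_top`: their germs span every stalk `M_y`, `y ∈ U`;
* `genOfSpan`: conversely a family of sections over `U` whose germs span all stalks on `U` is a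
  `GeneratingSections` of `M|_U`.
-/

set_option autoImplicit false
universe u
open CategoryTheory CategoryTheory.Limits TopCat TopologicalSpace Opposite

namespace Groth.Agent.Lib.Seat93.RSpGen

open Groth.Agent.Lib.Helper1.StalkTensor Groth.Agent.Lib.Helper1.Sky Groth.Agent.Lib.Seat93.RSpBase

variable {X : TopCat.{u}} {O : TopCat.Sheaf CommRingCat.{u} X} (M : ModSite.Mod O) (U : Opens X)

/-- the `i`-th generating section of `M|_U`, as a section of `M` over `U`. -/
noncomputable def gsec (G : ((ModSite.restr O U).obj M).GeneratingSections) (i : G.I) : sec M U :=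
  (G.s i).val (op (Over.mk (𝟙 U)))

theorem gsec_res (G : ((ModSite.restr O U).obj M).GeneratingSections) (i : G.I) (Y : Over U) :
    (G.s i).val (op Y) = M.val.map Y.hom.op (gsec M U G i) := by
  have := PresheafOfModules.sections_property (G.s i) (X := op (Over.mk (𝟙 U))) (Y := op Y)
    (Over.homMk Y.hom).op
  exact this.symm

/-- the germs of generating sections of `M|_U` span the stalk at every point of `U`. -/
theorem span_germ_eq_top (G : ((ModSite.restr O U).obj M).GeneratingSections)
    (x : X) (hx : x ∈ U) :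
    Submodule.span (Ox O x) (Set.range fun i => gm (toPM M) x U hx (gsec M U G i)) = ⊤ := by
  set S := Submodule.span (Ox O x) (Set.range fun i => gm (toPM M) x U hx (gsec M U G i)) with hS
  let T := (St (toPM M) x) ⧸ S
  let q₀ : St (toPM M) x →ₗ[Ox O x] T := S.mkQ
  let q : M ⟶ skyMod O x (ModuleCat.of _ T) := ⟨ofStalk (R := O.presheaf) (x := x) (N := T) (P := toPM M) q₀⟩
  let q' := (ModSite.restr O U).map q
  have h0 : G.π ≫ q' = G.π ≫ 0 := by
    apply (SheafOfModules.freeHomEquiv _).injective
    funext i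
    rw [SheafOfModules.freeHomEquiv_comp_apply, SheafOfModules.freeHomEquiv_comp_apply,
      Equiv.apply_symm_apply]
    apply PresheafOfModules.sections_ext
    intro Y
    change q'.val.app Y ((G.s i).val Y) = 0
    obtain ⟨Y⟩ := Y
    apply SkyT.ext (R := O.presheaf) (U := Y.left)
    intro hxY
    change q₀ (gm (toPM M) x Y.left hxY ((G.s i).val (op Y))) = 0
    rw [gsec_res]
    change q₀ (gm (toPM M) x Y.left hxY (rs (toPM M) Y.hom (gsec M U G i))) = 0
    rw [gm_rs]
    exact (Submodule.Quotient.mk_eq_zero S).2 (Submodule.subset_span ⟨i, rfl⟩)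
  have h1 : q' = 0 := (cancel_epi G.π).1 h0
  rw [eq_top_iff]
  intro a _
  obtain ⟨V, hxV, m, rfl⟩ := exists_gm_eq a
  have hxVU : x ∈ V ⊓ U := ⟨hxV, hx⟩
  have h2 : q'.val.app (op (Over.mk (homOfLE (inf_le_right : V ⊓ U ≤ U))))
      (M.val.map (homOfLE (inf_le_left : V ⊓ U ≤ V)).op m) = 0 := by
    rw [h1]; rfl
  have h3 := congrArg (fun t => SkyT.ev O.presheaf (V ⊓ U) t hxVU) h2
  change q₀ (gm (toPM M) x (V ⊓ U) hxVU (rs (toPM M) (homOfLE (inf_le_left : V ⊓ U ≤ V)) m)) = 0 at h3
  rw [gm_rs] at h3
  exact (Submodule.Quotient.mk_eq_zero S).1 h3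

section Generic

universe v' u'
variable {C : Type u'} [Category.{v'} C] {J : GrothendieckTopology C} {R : Sheaf J RingCat.{u}}
  [HasSheafify J AddCommGrpCat.{u}] [J.WEqualsLocallyBijective AddCommGrpCat.{u}]

omit [HasSheafify J AddCommGrpCat.{u}] [J.WEqualsLocallyBijective AddCommGrpCat.{u}] in
/-- a locally surjective morphism of sheaves of modules is an epimorphism (any site). -/
theorem epi_of_isLocallySurjective {M N : SheafOfModules.{u} R} (π : M ⟶ N)
    (h : Presheaf.IsLocallySurjective J ((PresheafOfModules.toPresheaf R.obj).map π.val)) : Epi π := by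
  have hF : (SheafOfModules.toSheaf R).Faithful := inferInstance
  have := Functor.reflectsEpimorphisms_of_faithful (SheafOfModules.toSheaf R)
  have : Sheaf.IsLocallySurjective ((SheafOfModules.toSheaf R).map π) := h
  exact (SheafOfModules.toSheaf R).epi_of_epi_map inferInstance

end Generic

variable {U} in
/-- the object `W ≤ U` of `Over U` -/
abbrev ov {W : Opens X} (h : W ≤ U) : Over U := Over.mk (homOfLE h)

variable {U} in
/-- the morphism of `Over U` given by `W' ≤ W` -/
abbrev ovHom {W W' : Opens X} (h : W ≤ U) (h' : W' ≤ W) : ov (h'.trans h) ⟶ ov h :=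
  Over.homMk (homOfLE h')

variable {I : Type u} (s : I → sec M U)

/-- the sections of `M|_U` given by sections of `M` over `U` -/
noncomputable def secs (i : I) : ((ModSite.restr O U).obj M).sections :=
  Groth.Agent.Lib.Helper21.UnitHom.secOf (Over.mkIdTerminal (X := U)) _ (s i)

/-- the morphism `free I ⟶ M|_U` given by a family of sections over `U` -/
noncomputable def piOf : SheafOfModules.free I ⟶ (ModSite.restr O U).obj M :=
  ((ModSite.restr O U).obj M).freeHomEquiv.symm (secs M U s)

lemma secs_val (i : I) (Y : Over U) : (secs M U s i).val (op Y) = M.val.map Y.hom.op (s i) := by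
  have e : ((Over.mkIdTerminal (X := U)).from Y).left = Y.hom := Subsingleton.elim _ _
  change M.val.map ((Over.mkIdTerminal (X := U)).from Y).left.op (s i) = _
  rw [e]

lemma piOf_freeSection (i : I) (Y : Over U) :
    (piOf M U s).val.app (op Y) ((SheafOfModules.freeSection i).val (op Y)) =
      M.val.map Y.hom.op (s i) := by
  have := SheafOfModules.sectionsMap_freeHomEquiv_symm_freeSection (secs M U s) i
  have h2 := congrArg (fun t => t.val (op Y)) this
  exact h2.trans (secs_val M U s i Y)

/-- germs at `y` that are locally in the image of `piOf` -/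
def LocIm (y : X) (a : St (toPM M) y) : Prop :=
  ∃ (W : Opens X) (hWU : W ≤ U) (hy : y ∈ W)
    (t : (SheafOfModules.free (R := ModSite.ringSh (O.over U)) I).val.obj (op (ov hWU))),
    gm (toPM M) y W hy ((piOf M U s).val.app (op (ov hWU)) t) = a

lemma piOf_res {W W' : Opens X} (hWU : W ≤ U) (h' : W' ≤ W)
    (t : (SheafOfModules.free (R := ModSite.ringSh (O.over U)) I).val.obj (op (ov hWU))) :
    (piOf M U s).val.app (op (ov (h'.trans hWU)))
        ((SheafOfModules.free (R := ModSite.ringSh (O.over U)) I).val.map (ovHom hWU h').op t) =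
      M.val.map (homOfLE h').op ((piOf M U s).val.app (op (ov hWU)) t) :=
  PresheafOfModules.naturality_apply (piOf M U s).val (ovHom hWU h').op t

lemma locIm_res {y : X} {W W' : Opens X} (hWU : W ≤ U) (h' : W' ≤ W) (hy : y ∈ W')
    (t : (SheafOfModules.free (R := ModSite.ringSh (O.over U)) I).val.obj (op (ov hWU))) :
    gm (toPM M) y W' hy ((piOf M U s).val.app (op (ov (h'.trans hWU)))
        ((SheafOfModules.free (R := ModSite.ringSh (O.over U)) I).val.map (ovHom hWU h').op t)) =
      gm (toPM M) y W (h' hy) ((piOf M U s).val.app (op (ov hWU)) t) := by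
  rw [piOf_res]
  exact gm_rs (P := toPM M) (homOfLE h') hy _

lemma locIm_zero (y : X) (hy : y ∈ U) : LocIm M U s y 0 :=
  ⟨U, le_rfl, hy, 0, by
    have h1 : (piOf M U s).val.app (op (ov (le_refl U))) 0 = 0 := map_zero _
    exact (congrArg (gm (toPM M) y U hy) h1).trans (map_zero _)⟩

lemma locIm_add (y : X) {a b : St (toPM M) y} (ha : LocIm M U s y a) (hb : LocIm M U s y b) :
    LocIm M U s y (a + b) := by
  obtain ⟨W₁, h₁, hy₁, t₁, rfl⟩ := ha
  obtain ⟨W₂, h₂, hy₂, t₂, rfl⟩ := hb
  have hy : y ∈ W₁ ⊓ W₂ := ⟨hy₁, hy₂⟩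
  refine ⟨W₁ ⊓ W₂, inf_le_left.trans h₁, hy,
    (SheafOfModules.free (R := ModSite.ringSh (O.over U)) I).val.map (ovHom h₁ inf_le_left).op t₁ +
    (SheafOfModules.free (R := ModSite.ringSh (O.over U)) I).val.map (ovHom h₂ inf_le_right).op t₂, ?_⟩
  have e1 := locIm_res M U s h₁ inf_le_left hy t₁
  have e2 := locIm_res M U s h₂ inf_le_right hy t₂
  rw [← e1, ← e2]
  have h1 := ((piOf M U s).val.app (op (ov ((inf_le_left : W₁ ⊓ W₂ ≤ W₁).trans h₁)))).hom.map_add
    ((SheafOfModules.free (R := ModSite.ringSh (O.over U)) I).val.map (ovHom h₁ inf_le_left).op t₁)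
    ((SheafOfModules.free (R := ModSite.ringSh (O.over U)) I).val.map (ovHom h₂ inf_le_right).op t₂)
  exact (congrArg (gm (toPM M) y (W₁ ⊓ W₂) hy) h1).trans (map_add _ _ _)

end Groth.Agent.Lib.Seat93.RSpGen
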