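import Mathlib
import Groth.Prelude.Def_ModSite2
import Groth.Agent.Lib.Seat93RSpGen
set_option backward.isDefEq.respectTransparency.types false

/-!
# Stalkwise generating families are generating sections (seat 93), continued
-/

set_option autoImplicit false
universe u
open CategoryTheory CategoryTheory.Limits TopCat TopologicalSpace Opposite

namespace Groth.Agent.Lib.Seat93.RSpGen

open Groth.Agent.Lib.Helper1.StalkTensor Groth.Agent.Lib.Helper1.Sky Groth.Agent.Lib.Seat93.RSpBase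

variable {X : TopCat.{u}} {O : TopCat.Sheaf CommRingCat.{u} X} (M : ModSite.Mod O) (U : Opens X)
variable {I : Type u} (s : I → sec M U)

lemma locIm_smul (y : X) (r : Ox O y) {a : St (toPM M) y} (ha : LocIm M U s y a) :
    LocIm M U s y (r • a) := by
  obtain ⟨W₁, h₁, hy₁, t₁, rfl⟩ := ha
  obtain ⟨W₂, hy₂, c, rfl⟩ := exists_gr_eq r
  have hy : y ∈ W₁ ⊓ W₂ := ⟨hy₁, hy₂⟩
  let c' : (ModSite.ringSh (O.over U)).obj.obj (op (ov ((inf_le_left : W₁ ⊓ W₂ ≤ W₁).trans h₁))) :=
    rr O.presheaf (homOfLE (inf_le_right : W₁ ⊓ W₂ ≤ W₂)) c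
  let t' : (SheafOfModules.free (R := ModSite.ringSh (O.over U)) I).val.obj
      (op (ov ((inf_le_left : W₁ ⊓ W₂ ≤ W₁).trans h₁))) :=
    (SheafOfModules.free (R := ModSite.ringSh (O.over U)) I).val.map
      (ovHom h₁ (inf_le_left : W₁ ⊓ W₂ ≤ W₁)).op t₁
  refine ⟨W₁ ⊓ W₂, inf_le_left.trans h₁, hy, c' • t', ?_⟩
  have e1 := locIm_res M U s h₁ inf_le_left hy t₁
  rw [← e1]
  have h1 := ((piOf M U s).val.app (op (ov ((inf_le_left : W₁ ⊓ W₂ ≤ W₁).trans h₁)))).hom.map_smul c' t'
  refine (congrArg (gm (toPM M) y (W₁ ⊓ W₂) hy) h1).trans ?_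
  refine (gm_smul (P := toPM M) hy c' _).trans ?_
  congr 1
  exact gr_rr (homOfLE (inf_le_right : W₁ ⊓ W₂ ≤ W₂)) hy c

lemma locIm_gen (y : X) (hy : y ∈ U) (i : I) : LocIm M U s y (gm (toPM M) y U hy (s i)) := by
  refine ⟨U, le_rfl, hy, (SheafOfModules.freeSection i).val (op (ov (le_refl U))), ?_⟩
  rw [piOf_freeSection]
  exact gm_rs (P := toPM M) (homOfLE (le_refl U)) hy (s i)

theorem locIm_all
    (h : ∀ (y : X) (hy : y ∈ U),
      Submodule.span (Ox O y) (Set.range fun i => gm (toPM M) y U hy (s i)) = ⊤)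
    (y : X) (hy : y ∈ U) (a : St (toPM M) y) : LocIm M U s y a := by
  have ha : a ∈ Submodule.span (Ox O y) (Set.range fun i => gm (toPM M) y U hy (s i)) := by
    rw [h y hy]; trivial
  induction ha using Submodule.span_induction with
  | mem a ha => obtain ⟨i, rfl⟩ := ha; exact locIm_gen M U s y hy i
  | zero => exact locIm_zero M U s y hy
  | add a b _ _ ha hb => exact locIm_add M U s y ha hb
  | smul r a _ ha => exact locIm_smul M U s y r ha

theorem exists_lift
    (h : ∀ (y : X) (hy : y ∈ U),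
      Submodule.span (Ox O y) (Set.range fun i => gm (toPM M) y U hy (s i)) = ⊤)
    {V : Opens X} (hVU : V ≤ U) (m : sec M V) (y : X) (hy : y ∈ V) :
    ∃ (W : Opens X) (hWV : W ≤ V) (_ : y ∈ W)
      (t : (SheafOfModules.free (R := ModSite.ringSh (O.over U)) I).val.obj (op (ov (hWV.trans hVU)))),
      (piOf M U s).val.app (op (ov (hWV.trans hVU))) t = M.val.map (homOfLE hWV).op m := by
  obtain ⟨W₁, h₁, hy₁, t₁, e⟩ := locIm_all M U s h y (hVU hy) (gm (toPM M) y V hy m)
  obtain ⟨W, hyW, i₁, iV, e'⟩ := gm_eq (P := toPM M) hy₁ hy _ _ e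
  refine ⟨W, iV.le, hyW,
    (SheafOfModules.free (R := ModSite.ringSh (O.over U)) I).val.map (ovHom h₁ i₁.le).op t₁, ?_⟩
  rw [piOf_res]
  exact e'

/-- a family of sections over `U` whose germs span every stalk on `U` generates `M|_U`. -/
noncomputable def genOfSpan
    (h : ∀ (y : X) (hy : y ∈ U),
      Submodule.span (Ox O y) (Set.range fun i => gm (toPM M) y U hy (s i)) = ⊤) :
    ((ModSite.restr O U).obj M).GeneratingSections where
  I := I
  s := secs M U s
  epi := by
    change Epi (piOf M U s)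
    apply epi_of_isLocallySurjective
    constructor
    intro Y m
    rw [GrothendieckTopology.mem_over_iff]
    intro y hy
    obtain ⟨W, hWV, hyW, t, ht⟩ := exists_lift M U s h (V := Y.left) Y.hom.le m y hy
    refine ⟨W, homOfLE hWV, ?_, hyW⟩
    rw [Sieve.overEquiv_iff]
    exact ⟨t, ht⟩

@[simp] lemma genOfSpan_I
    (h : ∀ (y : X) (hy : y ∈ U),
      Submodule.span (Ox O y) (Set.range fun i => gm (toPM M) y U hy (s i)) = ⊤) :
    (genOfSpan M U s h).I = I := rfl

lemma gsec_genOfSpan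
    (h : ∀ (y : X) (hy : y ∈ U),
      Submodule.span (Ox O y) (Set.range fun i => gm (toPM M) y U hy (s i)) = ⊤) (i : I) :
    gsec M U (genOfSpan M U s h) i = s i := by
  change (secs M U s i).val (op (Over.mk (𝟙 U))) = s i
  rw [secs_val]
  exact Groth.Agent.Lib.Helper21.UnitHom.map_id_apply' M.val (op U) (s i)

end Groth.Agent.Lib.Seat93.RSpGen
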