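import Mathlib
import Groth.Prelude.Def_ModSite2
import Groth.Agent.Lib.Seat93RSpGen2
set_option backward.isDefEq.respectTransparency.types false

/-!
# Finite type modules on a ringed space, stalkwise (seat 93)

* `exact_sections`, `exact_stalk`: left exactness of sections / stalks for an exact `S` with `S.f` mono.
* `isFiniteType_iff`: `IsFiniteType M` iff every point has a neighbourhood `U` with finitely many
  sections over `U` whose germs span all stalks on `U`.
-/

set_option autoImplicit false
universe u
open CategoryTheory CategoryTheory.Limits TopCat TopologicalSpace Opposite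

namespace Groth.Agent.Lib.Seat93.RSpFT

open Groth.Agent.Lib.Helper1.StalkTensor Groth.Agent.Lib.Helper1.Sky Groth.Agent.Lib.Seat93.RSpBase
  Groth.Agent.Lib.Seat93.RSpGen

variable {X : TopCat.{u}} {O : TopCat.Sheaf CommRingCat.{u} X}

theorem exact_sections (S : ShortComplex (ModSite.Mod O)) (hS : S.Exact) [Mono S.f] (V : Opens X)
    (m : sec S.X₂ V) (hm : S.g.val.app (op V) m = 0) :
    ∃ b : sec S.X₁ V, S.f.val.app (op V) b = m := by
  have : (SheafOfModules.evaluation (ModSite.ringSh O) (op V)).Additive :=
    inferInstanceAs ((SheafOfModules.forget _ ⋙ PresheafOfModules.evaluation _ (op V)).Additive)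
  have h1 := hS.map_of_mono_of_preservesKernel
    (SheafOfModules.evaluation (ModSite.ringSh O) (op V)) inferInstance inferInstance
  rw [ShortComplex.moduleCat_exact_iff] at h1
  exact h1 m hm

theorem exact_stalk (S : ShortComplex (ModSite.Mod O)) (hS : S.Exact) [Mono S.f] (y : X)
    (a : St (toPM S.X₂) y) (ha : sm (toPMMap S.g) y a = 0) :
    ∃ b : St (toPM S.X₁) y, sm (toPMMap S.f) y b = a := by
  obtain ⟨V, hy, m, rfl⟩ := exists_gm_eq a
  rw [sm_gm] at ha
  have h0 : gm (toPM S.X₃) y V hy (S.g.val.app (op V) m) = gm (toPM S.X₃) y V hy 0 :=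
    ha.trans (map_zero _).symm
  obtain ⟨W, hyW, i₁, i₂, e⟩ := gm_eq (P := toPM S.X₃) hy hy _ _ h0
  have e' : S.g.val.app (op W) (S.X₂.val.map i₁.op m) = 0 := by
    have h1 := PresheafOfModules.naturality_apply S.g.val i₁.op m
    refine h1.trans (e.trans ?_)
    exact map_zero _
  obtain ⟨b, hb⟩ := exact_sections S hS W _ e'
  refine ⟨gm (toPM S.X₁) y W hyW b, ?_⟩
  rw [sm_gm]
  erw [hb]
  exact gm_rs (P := toPM S.X₂) i₁ hyW m

theorem isFiniteType_iff (M : ModSite.Mod O) :
    SheafOfModules.IsFiniteType (R := ModSite.ringSh O) M ↔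
      ∀ x : X, ∃ (U : Opens X) (_ : x ∈ U) (ι : Type u) (_ : Finite ι) (s : ι → sec M U),
        ∀ (y : X) (hy : y ∈ U),
          Submodule.span (Ox O y) (Set.range fun i => gm (toPM M) y U hy (s i)) = ⊤ := by
  constructor
  · intro hM x
    obtain ⟨σ, hσ⟩ := hM.exists_localGeneratorsData
    have hcov : IsOpenCover σ.X := (Opens.coversTop_iff _ σ.X).1 σ.coversTop
    obtain ⟨i, hi⟩ := hcov.exists_mem x
    have := hσ.isFiniteType i
    exact ⟨σ.X i, hi, (σ.generators i).I, this.finite, gsec M (σ.X i) (σ.generators i),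
      fun y hy => span_germ_eq_top M (σ.X i) (σ.generators i) y hy⟩
  · intro h
    choose U hxU ι hι s hs using h
    have hcov : IsOpenCover U := by
      rw [IsOpenCover, eq_top_iff]
      intro x _
      exact Opens.mem_iSup.2 ⟨x, hxU x⟩
    let σ : SheafOfModules.LocalGeneratorsData.{u} (R := ModSite.ringSh O) M :=
      { I := (X : Type u)
        X := U
        coversTop := (Opens.coversTop_iff _ U).2 hcov
        generators := fun x => genOfSpan M (U x) (s x) (hs x) }
    have hσ : σ.IsFiniteType :=
      { isFiniteType := fun x => { finite := show Finite (ι x) from hι x } }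
    exact { exists_localGeneratorsData := ⟨σ, hσ⟩ }

end Groth.Agent.Lib.Seat93.RSpFT
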