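import Mathlib
import Groth.Prelude.Def_ModSite2
import Groth.Agent.Lib.Seat93RSpFT
import Groth.Agent.Lib.Seat93FreeCoord
set_option backward.isDefEq.respectTransparency.types false

/-!
# Finite presentation on a ringed space, stalkwise (seat 93)

`FPData M U`: finitely many sections `s i` of `M` over `U` and finitely many relations `r k` among them
(with coefficients in `O(U)`) such that at every point `y` of `U` the germs of the `s i` span `M_y` and the
germs of the `r k` span the module of relations between the germs of the `s i`.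

* `exists_fpData_of_isFinitePresentation`: a module of finite presentation has such data near every point.
-/

set_option autoImplicit false
universe u
open CategoryTheory CategoryTheory.Limits TopCat TopologicalSpace Opposite

namespace Groth.Agent.Lib.Seat93.RSpFP

open Groth.Agent.Lib.Helper1.StalkTensor Groth.Agent.Lib.Seat93.RSpBase
  Groth.Agent.Lib.Seat93.RSpGen Groth.Agent.Lib.Seat93.RSpFT Groth.Agent.Lib.Seat93.FreeCoord

variable {X : TopCat.{u}} {O : TopCat.Sheaf CommRingCat.{u} X}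

/-- finitely many germs of functions have representatives on a common neighbourhood -/
theorem exists_common_rep {ι : Type*} [Finite ι] (y : X) (c : ι → Ox O y) :
    ∃ (W : Opens X) (hy : y ∈ W) (c' : ι → O.presheaf.obj (op W)),
      ∀ i, gr O.presheaf y W hy (c' i) = c i := by
  have h : ∀ i, ∃ (W : Opens X) (hy : y ∈ W) (c' : O.presheaf.obj (op W)),
      gr O.presheaf y W hy c' = c i := fun i => exists_gr_eq (c i)
  choose W hy c' hc' using h
  let W₀ : Opens X := ⟨⋂ i, (W i : Set X), isOpen_iInter_of_finite fun i => (W i).isOpen⟩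
  have hW₀ : ∀ i, W₀ ≤ W i := fun i z hz => Set.mem_iInter.1 hz i
  have hy₀ : y ∈ W₀ := Set.mem_iInter.2 hy
  refine ⟨W₀, hy₀, fun i => rr O.presheaf (homOfLE (hW₀ i)) (c' i), fun i => ?_⟩
  rw [gr_rr]
  exact hc' i

/-- restriction of sections, typed -/
noncomputable def resS (M : ModSite.Mod O) {U W : Opens X} (h : W ≤ U) (m : sec M U) : sec M W :=
  M.val.map (homOfLE h).op m

/-- restriction of functions, typed -/
noncomputable def resR {U W : Opens X} (h : W ≤ U) (c : O.presheaf.obj (op U)) : O.presheaf.obj (op W) :=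
  O.presheaf.map (homOfLE h).op c

lemma gm_resS (M : ModSite.Mod O) {U W : Opens X} (h : W ≤ U) (m : sec M U) (y : X) (hy : y ∈ W) :
    gm (toPM M) y W hy (resS M h m) = gm (toPM M) y U (h hy) m :=
  gm_rs (P := toPM M) (homOfLE h) hy m

lemma gr_resR {U W : Opens X} (h : W ≤ U) (c : O.presheaf.obj (op U)) (y : X) (hy : y ∈ W) :
    gr O.presheaf y W hy (resR h c) = gr O.presheaf y U (h hy) c :=
  gr_rr (homOfLE h) hy c

lemma resS_smul (M : ModSite.Mod O) {U W : Opens X} (h : W ≤ U) (c : O.presheaf.obj (op U)) (m : sec M U) :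
    resS M h (c • m) = resR h c • resS M h m :=
  rs_smul (P := toPM M) (homOfLE h) c m

lemma resS_add (M : ModSite.Mod O) {U W : Opens X} (h : W ≤ U) (m m' : sec M U) :
    resS M h (m + m') = resS M h m + resS M h m' := map_add _ _ _

lemma resS_zero (M : ModSite.Mod O) {U W : Opens X} (h : W ≤ U) : resS M h (0 : sec M U) = 0 :=
  map_zero _

lemma resS_sum (M : ModSite.Mod O) {U W : Opens X} (h : W ≤ U) {κ : Type*} (t : Finset κ)
    (f : κ → sec M U) : resS M h (∑ k ∈ t, f k) = ∑ k ∈ t, resS M h (f k) := map_sum _ _ _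

lemma resS_resS (M : ModSite.Mod O) {U W W' : Opens X} (h : W ≤ U) (h' : W' ≤ W) (m : sec M U) :
    resS M h' (resS M h m) = resS M (h'.trans h) m :=
  (PresheafOfModules.map_comp_apply M.val (homOfLE h).op (homOfLE h').op m).symm

lemma resR_resR {U W W' : Opens X} (h : W ≤ U) (h' : W' ≤ W) (c : O.presheaf.obj (op U)) :
    resR h' (resR h c) = resR (h'.trans h) c := by
  change (O.presheaf.map (homOfLE h).op ≫ O.presheaf.map (homOfLE h').op) c = _
  rw [← O.presheaf.map_comp]
  rfl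

lemma gm_sum_smul (M : ModSite.Mod O) {W : Opens X} {ι : Type*} [Fintype ι] (y : X) (hy : y ∈ W)
    (c : ι → O.presheaf.obj (op W)) (m : ι → sec M W) :
    gm (toPM M) y W hy (∑ i, c i • m i) = ∑ i, gr O.presheaf y W hy (c i) • gm (toPM M) y W hy (m i) := by
  rw [map_sum]
  exact Finset.sum_congr rfl (fun i _ => gm_smul (P := toPM M) hy (c i) (m i))

/-- a relation between germs of sections is represented by a relation between sections on a
neighbourhood -/
theorem exists_rep_rel (M : ModSite.Mod O) {U : Opens X} {ι : Type*} [Fintype ι] (s : ι → sec M U)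
    (y : X) (hy : y ∈ U) (c : ι → Ox O y) (hc : ∑ i, c i • gm (toPM M) y U hy (s i) = 0) :
    ∃ (W : Opens X) (hWU : W ≤ U) (hyW : y ∈ W) (c' : ι → O.presheaf.obj (op W)),
      (∀ i, gr O.presheaf y W hyW (c' i) = c i) ∧ ∑ i, c' i • resS M hWU (s i) = 0 := by
  obtain ⟨W₁, hy₁, c₁, hc₁⟩ := exists_common_rep (O := O) y c
  have hy₂ : y ∈ W₁ ⊓ U := ⟨hy₁, hy⟩
  let c₂ : ι → O.presheaf.obj (op (W₁ ⊓ U)) := fun i => resR inf_le_left (c₁ i)
  have hc₂ : ∀ i, gr O.presheaf y (W₁ ⊓ U) hy₂ (c₂ i) = c i := fun i =>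
    (gr_resR inf_le_left (c₁ i) y hy₂).trans (hc₁ i)
  let m : sec M (W₁ ⊓ U) := ∑ i, c₂ i • resS M inf_le_right (s i)
  have hm : gm (toPM M) y (W₁ ⊓ U) hy₂ m = gm (toPM M) y (W₁ ⊓ U) hy₂ 0 := by
    rw [gm_sum_smul, map_zero, ← hc]
    refine Finset.sum_congr rfl (fun i _ => ?_)
    rw [hc₂, gm_resS]
  obtain ⟨W, hyW, i₁, i₂, e⟩ := gm_eq (P := toPM M) hy₂ hy₂ _ _ hm
  have hW : W ≤ W₁ ⊓ U := i₁.le
  refine ⟨W, hW.trans inf_le_right, hyW, fun i => resR hW (c₂ i),
    fun i => (gr_resR hW (c₂ i) y hyW).trans (hc₂ i), ?_⟩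
  have e' : resS M hW m = 0 := by
    have : resS M hW (0 : sec M (W₁ ⊓ U)) = 0 := resS_zero M hW
    rw [← this]
    exact e
  rw [← e', resS_sum]
  refine Finset.sum_congr rfl (fun i _ => ?_)
  rw [resS_smul, resS_resS]

/-- a section whose germ is a combination of germs of sections is locally that combination -/
theorem exists_rep_comb (M : ModSite.Mod O) {U V : Opens X} {ι : Type*} [Fintype ι] (s : ι → sec M U)
    (m : sec M V) (y : X) (hyU : y ∈ U) (hyV : y ∈ V) (c : ι → Ox O y)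
    (h : gm (toPM M) y V hyV m = ∑ i, c i • gm (toPM M) y U hyU (s i)) :
    ∃ (W : Opens X) (hWU : W ≤ U) (hWV : W ≤ V) (hyW : y ∈ W) (c' : ι → O.presheaf.obj (op W)),
      (∀ i, gr O.presheaf y W hyW (c' i) = c i) ∧ resS M hWV m = ∑ i, c' i • resS M hWU (s i) := by
  obtain ⟨W₁, hy₁, c₁, hc₁⟩ := exists_common_rep (O := O) y c
  have hy₂ : y ∈ W₁ ⊓ (U ⊓ V) := ⟨hy₁, hyU, hyV⟩
  have h₂U : W₁ ⊓ (U ⊓ V) ≤ U := inf_le_right.trans inf_le_left
  have h₂V : W₁ ⊓ (U ⊓ V) ≤ V := inf_le_right.trans inf_le_right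
  let c₂ : ι → O.presheaf.obj (op (W₁ ⊓ (U ⊓ V))) := fun i => resR inf_le_left (c₁ i)
  have hc₂ : ∀ i, gr O.presheaf y (W₁ ⊓ (U ⊓ V)) hy₂ (c₂ i) = c i := fun i =>
    (gr_resR inf_le_left (c₁ i) y hy₂).trans (hc₁ i)
  have hm : gm (toPM M) y (W₁ ⊓ (U ⊓ V)) hy₂ (resS M h₂V m) =
      gm (toPM M) y (W₁ ⊓ (U ⊓ V)) hy₂ (∑ i, c₂ i • resS M h₂U (s i)) := by
    rw [gm_sum_smul, gm_resS, h]
    refine Finset.sum_congr rfl (fun i _ => ?_)
    rw [hc₂, gm_resS]
  obtain ⟨W, hyW, i₁, i₂, e⟩ := gm_eq (P := toPM M) hy₂ hy₂ _ _ hm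
  have hW : W ≤ W₁ ⊓ (U ⊓ V) := i₁.le
  refine ⟨W, hW.trans h₂U, hW.trans h₂V, hyW, fun i => resR hW (c₂ i),
    fun i => (gr_resR hW (c₂ i) y hyW).trans (hc₂ i), ?_⟩
  have e' : resS M hW (resS M h₂V m) = resS M hW (∑ i, c₂ i • resS M h₂U (s i)) := e
  rw [resS_resS] at e'
  rw [e', resS_sum]
  refine Finset.sum_congr rfl (fun i _ => ?_)
  rw [resS_smul, resS_resS]

/-- finitely many pairs of functions with equal germs agree on a neighbourhood -/
theorem exists_eq_of_gr_eq {ι : Type*} [Finite ι] (y : X) {W : Opens X} (hy : y ∈ W)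
    (a b : ι → O.presheaf.obj (op W)) (h : ∀ i, gr O.presheaf y W hy (a i) = gr O.presheaf y W hy (b i)) :
    ∃ (W' : Opens X) (hW' : W' ≤ W) (_ : y ∈ W'), ∀ i, resR hW' (a i) = resR hW' (b i) := by
  have h1 : ∀ i, ∃ (V : Opens X) (hV : V ≤ W) (_ : y ∈ V), resR hV (a i) = resR hV (b i) := by
    intro i
    obtain ⟨V, hyV, i₁, i₂, e⟩ := TopCat.Presheaf.germ_eq O.presheaf y hy hy (a i) (b i) (h i)
    exact ⟨V, i₁.le, hyV, e⟩
  choose V hV hyV e using h1
  let W₀ : Opens X := ⟨(⋂ i, (V i : Set X)) ∩ W, (isOpen_iInter_of_finite fun i => (V i).isOpen).inter W.isOpen⟩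
  have hW₀V : ∀ i, W₀ ≤ V i := fun i z hz => Set.mem_iInter.1 hz.1 i
  have hW₀ : W₀ ≤ W := fun z hz => hz.2
  refine ⟨W₀, hW₀, ⟨Set.mem_iInter.2 hyV, hy⟩, fun i => ?_⟩
  have := congrArg (resR (hW₀V i)) (e i)
  rw [resR_resR, resR_resR] at this
  exact this

lemma resR_mul {U W : Opens X} (h : W ≤ U) (c c' : O.presheaf.obj (op U)) :
    resR h (c * c') = resR h c * resR h c' := map_mul _ _ _

lemma resR_sum {U W : Opens X} (h : W ≤ U) {κ : Type*} (t : Finset κ) (f : κ → O.presheaf.obj (op U)) :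
    resR h (∑ k ∈ t, f k) = ∑ k ∈ t, resR h (f k) := map_sum _ _ _

lemma app_resS {G F : ModSite.Mod O} (θ : G ⟶ F) {U W : Opens X} (h : W ≤ U) (m : sec G U) :
    θ.val.app (op W) (resS G h m) = resS F h (θ.val.app (op U) m) :=
  PresheafOfModules.naturality_apply θ.val (homOfLE h).op m

lemma app_smul {G F : ModSite.Mod O} (θ : G ⟶ F) {W : Opens X} (c : O.presheaf.obj (op W)) (m : sec G W) :
    θ.val.app (op W) (c • m) = c • (show sec F W from θ.val.app (op W) m) :=
  (θ.val.app (op W)).hom.map_smul _ m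

lemma app_sum {G F : ModSite.Mod O} (θ : G ⟶ F) {W : Opens X} {κ : Type*} (t : Finset κ)
    (f : κ → sec G W) :
    θ.val.app (op W) (∑ k ∈ t, f k) = ∑ k ∈ t, (show sec F W from θ.val.app (op W) (f k)) :=
  map_sum (θ.val.app (op W)).hom f t

lemma app_sub {G F : ModSite.Mod O} (θ : G ⟶ F) {W : Opens X} (m m' : sec G W) :
    θ.val.app (op W) (m - m') =
      (show sec F W from θ.val.app (op W) m) - (show sec F W from θ.val.app (op W) m') :=
  (θ.val.app (op W)).hom.map_sub m m'

lemma gm_sub (M : ModSite.Mod O) {W : Opens X} (y : X) (hy : y ∈ W) (m m' : sec M W) :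
    gm (toPM M) y W hy (m - m') = gm (toPM M) y W hy m - gm (toPM M) y W hy m' := map_sub _ _ _

/-- stalkwise data of a finite presentation of `M` over `U` -/
structure FPData (M : ModSite.Mod O) (U : Opens X) where
  /-- index of generators -/
  ι : Type u
  /-- index of relations -/
  κ : Type u
  [fι : Fintype ι]
  [fκ : Fintype κ]
  /-- generators -/
  s : ι → sec M U
  /-- relations -/
  r : κ → ι → O.presheaf.obj (op U)
  rel : ∀ k, ∑ i, r k i • s i = 0
  span : ∀ (y : X) (hy : y ∈ U),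
    Submodule.span (Ox O y) (Set.range fun i => gm (toPM M) y U hy (s i)) = ⊤
  syz : ∀ (y : X) (hy : y ∈ U) (c : ι → Ox O y), ∑ i, c i • gm (toPM M) y U hy (s i) = 0 →
    c ∈ Submodule.span (Ox O y) (Set.range fun k => fun i => gr O.presheaf y U hy (r k i))

attribute [instance] FPData.fι FPData.fκ

section Generic

universe v' u'
variable {C : Type u'} [Category.{v'} C] {J : GrothendieckTopology C} {R : Sheaf J RingCat.{u}}
  [HasSheafify J AddCommGrpCat.{u}] [J.WEqualsLocallyBijective AddCommGrpCat.{u}]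

/-- sections of a kernel: an element killed by `φ` comes from the kernel (any site) -/
theorem exists_kernel_section {A B : SheafOfModules.{u} R} (φ : A ⟶ B) (Y : Cᵒᵖ)
    (m : A.val.obj Y) (hm : φ.val.app Y m = 0) :
    ∃ b : (kernel φ).val.obj Y, (kernel.ι φ).val.app Y b = m := by
  let S : ShortComplex (SheafOfModules.{u} R) := ShortComplex.mk (kernel.ι φ) φ (kernel.condition φ)
  have hS : S.Exact := S.exact_of_f_is_kernel (kernelIsKernel φ)
  have : (SheafOfModules.evaluation R Y).Additive :=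
    inferInstanceAs ((SheafOfModules.forget _ ⋙ PresheafOfModules.evaluation _ Y).Additive)
  have hm' : Mono S.f := inferInstanceAs (Mono (kernel.ι φ))
  have h1 := hS.map_of_mono_of_preservesKernel
    (SheafOfModules.evaluation R Y) inferInstance inferInstance
  rw [ShortComplex.moduleCat_exact_iff] at h1
  exact h1 m hm

omit [HasSheafify J AddCommGrpCat.{u}] [J.WEqualsLocallyBijective AddCommGrpCat.{u}] in
/-- a monomorphism is injective on sections (any site) -/
theorem app_injective_of_mono {A B : SheafOfModules.{u} R} (φ : A ⟶ B) [Mono φ] (Y : Cᵒᵖ) :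
    Function.Injective (φ.val.app Y) := by
  have h1 : Mono ((SheafOfModules.evaluation R Y).map φ) := inferInstance
  exact (ModuleCat.mono_iff_injective _).1 h1

end Generic

end Groth.Agent.Lib.Seat93.RSpFP
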