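import Mathlib
import Groth.Prelude.Def_ModSite2
import Groth.Agent.Lib.Seat93RSpFP
set_option backward.isDefEq.respectTransparency.types false

/-!
# From stalkwise presentation data to a presentation of `M|_U` (seat 93)
-/

set_option autoImplicit false
universe u
open CategoryTheory CategoryTheory.Limits TopCat TopologicalSpace Opposite

namespace Groth.Agent.Lib.Seat93.RSpFP

open Groth.Agent.Lib.Helper1.StalkTensor Groth.Agent.Lib.Seat93.RSpBase
  Groth.Agent.Lib.Seat93.RSpGen Groth.Agent.Lib.Seat93.RSpFT Groth.Agent.Lib.Seat93.FreeCoord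

variable {X : TopCat.{u}} {O : TopCat.Sheaf CommRingCat.{u} X}
variable (M : ModSite.Mod O) (U : Opens X) (D : FPData M U)

/-- the `k`-th relation as a section of the free module over `W ≤ U` -/
noncomputable def relAt (k : D.κ) {W : Opens X} (hW : W ≤ U) :
    (SheafOfModules.free (R := ModSite.ringSh (O.over U)) D.ι).val.obj (op (ov hW)) :=
  ∑ i, (show (ModSite.ringSh (O.over U)).obj.obj (op (ov hW)) from resR hW (D.r k i)) • bas i (op (ov hW))

lemma relAt_res (k : D.κ) {W W' : Opens X} (hW : W ≤ U) (h' : W' ≤ W) :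
    (SheafOfModules.free (R := ModSite.ringSh (O.over U)) D.ι).val.map (ovHom hW h').op (relAt M U D k hW) =
      relAt M U D k (h'.trans hW) := by
  unfold relAt
  rw [map_sum]
  refine Finset.sum_congr rfl (fun i _ => ?_)
  have h1 := PresheafOfModules.map_smul
    (SheafOfModules.free (R := ModSite.ringSh (O.over U)) D.ι).val (ovHom hW h').op
    (show (ModSite.ringSh (O.over U)).obj.obj (op (ov hW)) from resR hW (D.r k i)) (bas i (op (ov hW)))
  refine h1.trans ?_
  rw [bas_map]
  congr 1
  exact resR_resR hW h' (D.r k i)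

/-- the `k`-th relation as a global section of the free module on `Over U` -/
noncomputable def relSection (k : D.κ) :
    (SheafOfModules.free (R := ModSite.ringSh (O.over U)) D.ι).sections :=
  PresheafOfModules.sectionsMk (fun Y => relAt M U D k Y.unop.hom.le) (by
    intro Y Z f
    exact relAt_res M U D k Y.unop.hom.le (Over.Hom.left f.unop).le)

lemma relSection_val (k : D.κ) {W : Opens X} (hW : W ≤ U) :
    sval (relSection M U D k) (op (ov hW)) = relAt M U D k hW := rfl

/-- the morphism of relations `free κ ⟶ free ι` -/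
noncomputable def relMap : SheafOfModules.free (R := ModSite.ringSh (O.over U)) D.κ ⟶
    SheafOfModules.free (R := ModSite.ringSh (O.over U)) D.ι :=
  (SheafOfModules.free (R := ModSite.ringSh (O.over U)) D.ι).freeHomEquiv.symm (relSection M U D)

variable [DecidableEq D.ι]

lemma piOf_app {W : Opens X} (hW : W ≤ U)
    (t : (SheafOfModules.free (R := ModSite.ringSh (O.over U)) D.ι).val.obj (op (ov hW))) :
    (piOf M U D.s).val.app (op (ov hW)) t =
      ∑ i, (show O.presheaf.obj (op W) from coef t i) • resS M hW (D.s i) := by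
  have h := app_eq_sum (R := ModSite.ringSh (O.over U)) (secs M U D.s) t
  refine h.trans ?_
  refine Finset.sum_congr rfl (fun i _ => ?_)
  have : sval (secs M U D.s i) (op (ov hW)) = resS M hW (D.s i) := secs_val M U D.s i (ov hW)
  rw [this]
  rfl

lemma coef_relAt (k : D.κ) (i : D.ι) {W : Opens X} (hW : W ≤ U) :
    coef (relAt M U D k hW) i = resR hW (D.r k i) :=
  coef_sum_smul_bas (R := ModSite.ringSh (O.over U)) (Y := op (ov hW))
    (fun i => (show (ModSite.ringSh (O.over U)).obj.obj (op (ov hW)) from resR hW (D.r k i))) i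

lemma piOf_relAt (k : D.κ) {W : Opens X} (hW : W ≤ U) :
    (piOf M U D.s).val.app (op (ov hW)) (relAt M U D k hW) = 0 := by
  rw [piOf_app]
  have h1 := congrArg (resS M hW) (D.rel k)
  rw [resS_sum, resS_zero] at h1
  refine Eq.trans ?_ h1
  refine Finset.sum_congr rfl (fun i _ => ?_)
  rw [resS_smul]
  congr 1
  exact coef_relAt M U D k i hW

lemma relMap_comp : relMap M U D ≫ piOf M U D.s = 0 := by
  apply (SheafOfModules.freeHomEquiv _).injective
  funext k
  rw [SheafOfModules.freeHomEquiv_comp_apply]
  unfold relMap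
  rw [Equiv.apply_symm_apply]
  apply PresheafOfModules.sections_ext
  intro Y
  obtain ⟨Y⟩ := Y
  exact piOf_relAt M U D k Y.hom.le

variable [DecidableEq D.κ]

omit [DecidableEq D.ι] in
lemma relMap_app {W : Opens X} (hW : W ≤ U)
    (u : (SheafOfModules.free (R := ModSite.ringSh (O.over U)) D.κ).val.obj (op (ov hW))) :
    (relMap M U D).val.app (op (ov hW)) u = ∑ k, coef u k • relAt M U D k hW := by
  have h := app_eq_sum (R := ModSite.ringSh (O.over U)) (relSection M U D) u
  exact h

lemma coef_relMap_app {W : Opens X} (hW : W ≤ U)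
    (u : (SheafOfModules.free (R := ModSite.ringSh (O.over U)) D.κ).val.obj (op (ov hW))) (i : D.ι) :
    (show O.presheaf.obj (op W) from coef ((relMap M U D).val.app (op (ov hW)) u) i) =
      ∑ k, (show O.presheaf.obj (op W) from coef u k) * resR hW (D.r k i) := by
  rw [relMap_app]
  have h1 := coef_sum (R := ModSite.ringSh (O.over U)) (Y := op (ov hW)) Finset.univ
    (fun k => coef u k • relAt M U D k hW) i
  refine h1.trans ?_
  refine Finset.sum_congr rfl (fun k _ => ?_)
  rw [coef_smul, coef_relAt]
  rfl

end Groth.Agent.Lib.Seat93.RSpFP
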