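import Mathlib
import Groth.Prelude.Def_ModSite2
import Groth.Agent.Lib.Seat93RSpFP4
set_option backward.isDefEq.respectTransparency.types false

/-!
# Stalkwise presentation data give a presentation of `M|_U` (seat 93)
-/

set_option autoImplicit false
universe u
open CategoryTheory CategoryTheory.Limits TopCat TopologicalSpace Opposite

namespace Groth.Agent.Lib.Seat93.RSpFP

open Groth.Agent.Lib.Helper1.StalkTensor Groth.Agent.Lib.Seat93.RSpBase
  Groth.Agent.Lib.Seat93.RSpGen Groth.Agent.Lib.Seat93.RSpFT Groth.Agent.Lib.Seat93.FreeCoord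

variable {X : TopCat.{u}} {O : TopCat.Sheaf CommRingCat.{u} X}
variable (M : ModSite.Mod O) (U : Opens X) (D : FPData M U) [DecidableEq D.ι] [DecidableEq D.κ]

/-- local lifting of sections of the kernel of `piOf` through the relations -/
theorem exists_relMap_lift {V : Opens X} (hVU : V ≤ U)
    (t : (SheafOfModules.free (R := ModSite.ringSh (O.over U)) D.ι).val.obj (op (ov hVU)))
    (ht : (piOf M U D.s).val.app (op (ov hVU)) t = 0) (y : X) (hy : y ∈ V) :
    ∃ (W : Opens X) (hWV : W ≤ V) (_ : y ∈ W)
      (u : (SheafOfModules.free (R := ModSite.ringSh (O.over U)) D.κ).val.obj (op (ov (hWV.trans hVU)))),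
      (relMap M U D).val.app (op (ov (hWV.trans hVU))) u =
        (SheafOfModules.free (R := ModSite.ringSh (O.over U)) D.ι).val.map (ovHom hVU hWV).op t := by
  -- coefficients of `t`
  let c : D.ι → O.presheaf.obj (op V) := fun i => coef t i
  have hc0 : ∑ i, c i • resS M hVU (D.s i) = 0 :=
    (piOf_app M U D hVU t).symm.trans ht
  have hgerm : ∑ i, gr O.presheaf y V hy (c i) • gm (toPM M) y U (hVU hy) (D.s i) = 0 := by
    have h1 := congrArg (gm (toPM M) y V hy) hc0
    rw [gm_sum_smul, map_zero] at h1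
    refine Eq.trans ?_ h1
    refine Finset.sum_congr rfl (fun i _ => ?_)
    rw [gm_resS]
  have hsyz := D.syz y (hVU hy) (fun i => gr O.presheaf y V hy (c i)) hgerm
  obtain ⟨d, hd⟩ := (Submodule.mem_span_range_iff_exists_fun _).1 hsyz
  obtain ⟨W₁, hy₁, d₁, hd₁⟩ := exists_common_rep (O := O) y d
  have hy₂ : y ∈ W₁ ⊓ V := ⟨hy₁, hy⟩
  have h₂V : W₁ ⊓ V ≤ V := inf_le_right
  have h₂U : W₁ ⊓ V ≤ U := h₂V.trans hVU
  have hgr : ∀ i, gr O.presheaf y (W₁ ⊓ V) hy₂ (resR h₂V (c i)) =
      gr O.presheaf y (W₁ ⊓ V) hy₂ (∑ k, resR inf_le_left (d₁ k) * resR h₂U (D.r k i)) := by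
    intro i
    rw [gr_resR, map_sum]
    have h1 := congrFun hd i
    simp only [Finset.sum_apply, Pi.smul_apply, smul_eq_mul] at h1
    rw [← h1]
    refine Finset.sum_congr rfl (fun k _ => ?_)
    rw [map_mul, gr_resR, gr_resR, hd₁]
  obtain ⟨W, hW₂, hyW, hEq⟩ := exists_eq_of_gr_eq y hy₂ _ _ hgr
  have hWV : W ≤ V := hW₂.trans h₂V
  have hWU : W ≤ U := hWV.trans hVU
  let dW : D.κ → O.presheaf.obj (op W) := fun k => resR (hW₂.trans inf_le_left) (d₁ k)
  let u : (SheafOfModules.free (R := ModSite.ringSh (O.over U)) D.κ).val.obj (op (ov hWU)) :=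
    ∑ k, (show (ModSite.ringSh (O.over U)).obj.obj (op (ov hWU)) from dW k) • bas k (op (ov hWU))
  have hu : ∀ k, coef u k = dW k := fun k =>
    coef_sum_smul_bas (R := ModSite.ringSh (O.over U)) (Y := op (ov hWU))
      (fun k => (show (ModSite.ringSh (O.over U)).obj.obj (op (ov hWU)) from dW k)) k
  refine ⟨W, hWV, hyW, u, ?_⟩
  apply ext_coef
  intro i
  have h1 := coef_relMap_app M U D hWU u i
  have h2 := coef_map (R := ModSite.ringSh (O.over U)) (ovHom hVU hWV).op t i
  refine h1.trans (Eq.trans ?_ h2.symm)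
  have h3 := hEq i
  rw [resR_resR, resR_sum] at h3
  change _ = resR hWV (c i)
  rw [h3]
  refine Finset.sum_congr rfl (fun k _ => ?_)
  rw [hu, resR_mul, resR_resR, resR_resR]

theorem epi_kernel_lift :
    Epi (kernel.lift (piOf M U D.s) (relMap M U D) (relMap_comp M U D)) := by
  apply epi_of_isLocallySurjective
  constructor
  intro Y t'
  rw [GrothendieckTopology.mem_over_iff]
  intro y hy
  have hVU : Y.left ≤ U := Y.hom.le
  let t'' : (kernel (piOf M U D.s)).val.obj (op (ov hVU)) := t'
  let t : (SheafOfModules.free (R := ModSite.ringSh (O.over U)) D.ι).val.obj (op (ov hVU)) :=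
    (kernel.ι (piOf M U D.s)).val.app (op (ov hVU)) t''
  have ht : (piOf M U D.s).val.app (op (ov hVU)) t = 0 := by
    have h := congrArg (fun f => f.val.app (op (ov hVU)) t'') (kernel.condition (piOf M U D.s))
    exact h
  obtain ⟨W, hWV, hyW, u, hu⟩ := exists_relMap_lift M U D hVU t ht y hy
  refine ⟨W, homOfLE hWV, ?_, hyW⟩
  rw [Sieve.overEquiv_iff]
  refine ⟨u, ?_⟩
  apply app_injective_of_mono (kernel.ι (piOf M U D.s)) (op (ov (hWV.trans hVU)))
  have h1 : (kernel.ι (piOf M U D.s)).val.app (op (ov (hWV.trans hVU)))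
      ((kernel.lift (piOf M U D.s) (relMap M U D) (relMap_comp M U D)).val.app
        (op (ov (hWV.trans hVU))) u) = (relMap M U D).val.app (op (ov (hWV.trans hVU))) u := by
    have h := congrArg (fun f => f.val.app (op (ov (hWV.trans hVU))) u)
      (kernel.lift_ι (piOf M U D.s) (relMap M U D) (relMap_comp M U D))
    exact h
  refine h1.trans (hu.trans ?_)
  exact (PresheafOfModules.naturality_apply (kernel.ι (piOf M U D.s)).val (ovHom hVU hWV).op t'').symm

/-- the presentation of `M|_U` attached to stalkwise presentation data -/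
noncomputable def presentationOfFPData : ((ModSite.restr O U).obj M).Presentation :=
  let S : ShortComplex (ModSite.Mod (O.over U)) :=
    ShortComplex.mk (relMap M U D) (piOf M U D.s) (relMap_comp M U D)
  have hS : S.Exact := S.exact_iff_epi_kernel_lift.2 (epi_kernel_lift M U D)
  haveI : Epi S.g := (genOfSpan M U D.s D.span).epi
  SheafOfModules.presentationOfIsCokernelFree (relMap M U D) (piOf M U D.s) (relMap_comp M U D)
    hS.gIsCokernel

instance : (presentationOfFPData M U D).IsFinite where
  isFiniteType_generators := ⟨inferInstanceAs (Finite D.ι)⟩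
  isFiniteType_relations := ⟨inferInstanceAs (Finite D.κ)⟩

omit [DecidableEq D.ι] [DecidableEq D.κ] in
theorem isFinitePresentation_of_fpData (M : ModSite.Mod O)
    (h : ∀ x : X, ∃ (U : Opens X) (_ : x ∈ U), Nonempty (FPData M U)) :
    SheafOfModules.IsFinitePresentation (R := ModSite.ringSh O) M := by
  classical
  choose U hxU hD using h
  have hcov : IsOpenCover U := by
    rw [IsOpenCover, eq_top_iff]
    intro x _
    exact Opens.mem_iSup.2 ⟨x, hxU x⟩
  let σ : SheafOfModules.QuasicoherentData.{u} (R := ModSite.ringSh O) M :=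
    { I := (X : Type u)
      X := U
      coversTop := (Opens.coversTop_iff _ U).2 hcov
      presentation := fun x => presentationOfFPData M (U x) (hD x).some }
  have hσ : σ.IsFinitePresentation :=
    { isFinite_presentation := fun x =>
        inferInstanceAs (presentationOfFPData M (U x) (hD x).some).IsFinite }
  exact { exists_quasicoherentData := ⟨σ, hσ⟩ }

end Groth.Agent.Lib.Seat93.RSpFP
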