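import Mathlib
import Groth.Prelude.Def_ModSite2
import Groth.Agent.Lib.Seat93RSpFP5
import Groth.Agent.Lib.Seat93FreeAlg
set_option backward.isDefEq.respectTransparency.types false

/-!
# Local freeness on a ringed space via stalkwise bases (seat 93)

For `M : ModSite.Mod O`, an open `U` and a finite family `s : ι → M(U)`:
* `isIso_piOf`: if the germs of `s` form a basis of `M_y` for every `y ∈ U` then
  `piOf M U s : free ι ⟶ M|_U` is an isomorphism;
* `span_of_epi`, `linearIndependent_of_mono`: the converse statements;
* `exists_basis_of_iso`: a trivialisation `M|_U ≅ free ι` gives such a family;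
* `exists_nhd_basis`: for `M` with presentation data near `x`, a family whose germs form a basis of
  `M_x` gives a basis of `M_y` for all `y` near `x`.
-/

set_option autoImplicit false
universe u
open CategoryTheory CategoryTheory.Limits TopCat TopologicalSpace Opposite

namespace Groth.Agent.Lib.Seat93.RSpFree

open Groth.Agent.Lib.Helper1.StalkTensor Groth.Agent.Lib.Seat93.RSpBase
  Groth.Agent.Lib.Seat93.RSpGen Groth.Agent.Lib.Seat93.RSpFT Groth.Agent.Lib.Seat93.FreeCoord
  Groth.Agent.Lib.Seat93.RSpFP

section Generic

universe v' u'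
variable {C : Type u'} [Category.{v'} C] {J : GrothendieckTopology C} {R : Sheaf J RingCat.{u}}

/-- a morphism of sheaves of modules that is injective on all sections is a monomorphism -/
theorem mono_of_app_injective {A B : SheafOfModules.{u} R} (φ : A ⟶ B)
    (h : ∀ Y : Cᵒᵖ, Function.Injective (φ.val.app Y)) : Mono φ := by
  apply Functor.mono_of_mono_map (SheafOfModules.toSheaf R)
  apply Functor.mono_of_mono_map (sheafToPresheaf _ _)
  apply (config := { allowSynthFailures := true }) NatTrans.mono_of_mono_app
  intro Y
  rw [AddCommGrpCat.mono_iff_injective]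
  exact h Y

end Generic

variable {X : TopCat.{u}} {O : TopCat.Sheaf CommRingCat.{u} X}
variable (M : ModSite.Mod O) (U : Opens X)

/-- the germs of `s` form a basis of the stalk at `y` -/
def IsBasisAt {ι : Type u} (s : ι → sec M U) (y : X) (hy : y ∈ U) : Prop :=
  Submodule.span (Ox O y) (Set.range fun i => gm (toPM M) y U hy (s i)) = ⊤ ∧
    LinearIndependent (Ox O y) (fun i => gm (toPM M) y U hy (s i))

variable {ι : Type u} [Fintype ι] [DecidableEq ι] (s : ι → sec M U)

lemma piOf_app' {W : Opens X} (hW : W ≤ U)
    (t : (SheafOfModules.free (R := ModSite.ringSh (O.over U)) ι).val.obj (op (ov hW))) :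
    (piOf M U s).val.app (op (ov hW)) t =
      ∑ i, (show O.presheaf.obj (op W) from coef t i) • resS M hW (s i) := by
  have h := app_eq_sum (R := ModSite.ringSh (O.over U)) (secs M U s) t
  refine h.trans ?_
  refine Finset.sum_congr rfl (fun i _ => ?_)
  have : sval (secs M U s i) (op (ov hW)) = resS M hW (s i) := secs_val M U s i (ov hW)
  rw [this]
  rfl

/-- the germ at `y ∈ W` of `piOf` applied to a section of the free module -/
lemma gm_piOf_app {W : Opens X} (hW : W ≤ U) (y : X) (hy : y ∈ W)
    (t : (SheafOfModules.free (R := ModSite.ringSh (O.over U)) ι).val.obj (op (ov hW))) :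
    gm (toPM M) y W hy ((piOf M U s).val.app (op (ov hW)) t) =
      ∑ i, gr O.presheaf y W hy (show O.presheaf.obj (op W) from coef t i) •
        gm (toPM M) y U (hW hy) (s i) := by
  rw [piOf_app', gm_sum_smul]
  refine Finset.sum_congr rfl (fun i _ => ?_)
  rw [gm_resS]

/-- injectivity of `piOf` on sections from stalkwise linear independence -/
theorem piOf_app_injective
    (h : ∀ (y : X) (hy : y ∈ U), LinearIndependent (Ox O y) (fun i => gm (toPM M) y U hy (s i)))
    {W : Opens X} (hW : W ≤ U) : Function.Injective ((piOf M U s).val.app (op (ov hW))) := by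
  refine (injective_iff_map_eq_zero ((piOf M U s).val.app (op (ov hW))).hom).2 (fun t ht => ?_)
  have ht' : (piOf M U s).val.app (op (ov hW)) t = 0 := ht
  apply ext_coef (R := ModSite.ringSh (O.over U))
  intro i
  rw [coef_zero]
  refine TopCat.Presheaf.section_ext O W (show O.presheaf.obj (op W) from coef t i) 0 (fun y hy => ?_)
  have h1 := gm_piOf_app M U s hW y hy t
  rw [ht'] at h1
  have h1' := h1.symm.trans (map_zero (gm (toPM M) y W hy))
  have h2 := (Fintype.linearIndependent_iff.1 (h y (hW hy))) _ h1' i
  have h3 : (O.presheaf.germ W y hy).hom (0 : O.presheaf.obj (op W)) = 0 := map_zero _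
  exact h2.trans h3.symm

theorem mono_piOf
    (h : ∀ (y : X) (hy : y ∈ U), LinearIndependent (Ox O y) (fun i => gm (toPM M) y U hy (s i))) :
    Mono (piOf M U s) := by
  apply mono_of_app_injective
  intro Y
  obtain ⟨Y⟩ := Y
  exact piOf_app_injective M U s h Y.hom.le

omit [Fintype ι] [DecidableEq ι] in
theorem epi_piOf
    (h : ∀ (y : X) (hy : y ∈ U),
      Submodule.span (Ox O y) (Set.range fun i => gm (toPM M) y U hy (s i)) = ⊤) :
    Epi (piOf M U s) :=
  (genOfSpan M U s h).epi

/-- a family of sections whose germs form a basis of every stalk on `U` trivialises `M|_U` -/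
theorem isIso_piOf (h : ∀ (y : X) (hy : y ∈ U), IsBasisAt M U s y hy) : IsIso (piOf M U s) := by
  have := mono_piOf M U s (fun y hy => (h y hy).2)
  have := epi_piOf M U s (fun y hy => (h y hy).1)
  exact isIso_of_mono_of_epi _

omit [Fintype ι] [DecidableEq ι] in
/-- `piOf` of the generating sections is the structure map -/
lemma piOf_gsec (G : ((ModSite.restr O U).obj M).GeneratingSections) :
    piOf M U (gsec M U G) = G.π := by
  apply (SheafOfModules.freeHomEquiv _).injective
  funext i
  unfold piOf SheafOfModules.GeneratingSections.π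
  rw [Equiv.apply_symm_apply, Equiv.apply_symm_apply]
  apply PresheafOfModules.sections_ext
  intro Y
  obtain ⟨Y⟩ := Y
  rw [secs_val, gsec_res]

omit [Fintype ι] [DecidableEq ι] in
theorem span_of_epi [Epi (piOf M U s)] (y : X) (hy : y ∈ U) :
    Submodule.span (Ox O y) (Set.range fun i => gm (toPM M) y U hy (s i)) = ⊤ := by
  let G : ((ModSite.restr O U).obj M).GeneratingSections :=
    { I := ι
      s := secs M U s
      epi := (inferInstance : Epi (piOf M U s)) }
  have h := span_germ_eq_top M U G y hy
  have hg : ∀ i, gsec M U G i = s i := by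
    intro i
    change (secs M U s i).val (op (Over.mk (𝟙 U))) = s i
    rw [secs_val]
    exact Groth.Agent.Lib.Helper21.UnitHom.map_id_apply' M.val (op U) (s i)
  have : (fun i => gm (toPM M) y U hy (gsec M U G i)) = fun i => gm (toPM M) y U hy (s i) := by
    funext i
    rw [hg]
  rw [this] at h
  exact h

theorem linearIndependent_of_mono [Mono (piOf M U s)] (y : X) (hy : y ∈ U) :
    LinearIndependent (Ox O y) (fun i => gm (toPM M) y U hy (s i)) := by
  rw [Fintype.linearIndependent_iff]
  intro c hc
  obtain ⟨W, hWU, hyW, c', hc', hrel⟩ := exists_rep_rel M s y hy c hc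
  let t : (SheafOfModules.free (R := ModSite.ringSh (O.over U)) ι).val.obj (op (ov hWU)) :=
    ∑ i, (show (ModSite.ringSh (O.over U)).obj.obj (op (ov hWU)) from c' i) • bas i (op (ov hWU))
  have hcoef : ∀ i, coef t i = c' i := fun i =>
    coef_sum_smul_bas (R := ModSite.ringSh (O.over U)) (Y := op (ov hWU))
      (fun i => (show (ModSite.ringSh (O.over U)).obj.obj (op (ov hWU)) from c' i)) i
  have h1 : (piOf M U s).val.app (op (ov hWU)) t = 0 := by
    rw [piOf_app']
    refine Eq.trans ?_ hrel
    refine Finset.sum_congr rfl (fun i _ => ?_)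
    congr 1
    exact hcoef i
  have h2 : t = 0 := by
    apply app_injective_of_mono (piOf M U s) (op (ov hWU))
    rw [h1]
    exact (map_zero _).symm
  intro i
  rw [← hc' i]
  have h3 : c' i = 0 := by
    rw [← hcoef i, h2]
    exact coef_zero (R := ModSite.ringSh (O.over U)) i
  rw [h3, map_zero]

theorem isBasisAt_of_isIso [IsIso (piOf M U s)] (y : X) (hy : y ∈ U) : IsBasisAt M U s y hy :=
  ⟨span_of_epi M U s y hy, linearIndependent_of_mono M U s y hy⟩

omit [DecidableEq ι] in
/-- a trivialisation of `M|_U` gives sections over `U` whose germs are bases of all stalks on `U` -/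
theorem exists_basis_of_iso (e : (ModSite.restr O U).obj M ≅ SheafOfModules.free ι) :
    ∃ s : ι → sec M U, ∀ (y : X) (hy : y ∈ U), IsBasisAt M U s y hy := by
  classical
  let G : ((ModSite.restr O U).obj M).GeneratingSections :=
    { I := ι
      s := ((ModSite.restr O U).obj M).freeHomEquiv e.inv
      epi := by
        rw [Equiv.symm_apply_apply]
        infer_instance }
  have hπ : G.π = e.inv := by
    unfold SheafOfModules.GeneratingSections.π
    exact Equiv.symm_apply_apply _ _
  have h1 : piOf M U (gsec M U G) = e.inv := (piOf_gsec M U G).trans hπ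
  have : IsIso (piOf M U (gsec M U G)) := by rw [h1]; infer_instance
  exact ⟨gsec M U G, fun y hy => isBasisAt_of_isIso M U (gsec M U G) y hy⟩

end Groth.Agent.Lib.Seat93.RSpFree
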