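import Mathlib
import Groth.Prelude.Def_ModSite2
import Groth.Agent.Lib.Seat93RSpFree
set_option backward.isDefEq.respectTransparency.types false

/-!
# Spreading out a basis of a stalk (seat 93)

`exists_nhd_basis`: for `M` with presentation data near `x`, a finite family of sections whose germs
form a basis of `M_x` gives a basis of `M_y` for all `y` in a neighbourhood of `x`.
`exists_restr_iso_free`: hence `M` is free near `x`.
-/

set_option autoImplicit false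
universe u
open CategoryTheory CategoryTheory.Limits TopCat TopologicalSpace Opposite

namespace Groth.Agent.Lib.Seat93.RSpFree

open Groth.Agent.Lib.Helper1.StalkTensor Groth.Agent.Lib.Seat93.RSpBase
  Groth.Agent.Lib.Seat93.RSpGen Groth.Agent.Lib.Seat93.RSpFT Groth.Agent.Lib.Seat93.FreeCoord
  Groth.Agent.Lib.Seat93.RSpFP Groth.Agent.Lib.Seat93.FreeAlg

variable {X : TopCat.{u}} {O : TopCat.Sheaf CommRingCat.{u} X}

/-- finitely many neighbourhoods of a point have a common smaller one -/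
theorem exists_common_nhd {κ : Type*} [Finite κ] (x : X) (W : κ → Opens X) (h : ∀ k, x ∈ W k) :
    ∃ V : Opens X, x ∈ V ∧ ∀ k, V ≤ W k := by
  refine ⟨⟨⋂ k, (W k : Set X), isOpen_iInter_of_finite fun k => (W k).isOpen⟩,
    Set.mem_iInter.2 h, fun k z hz => Set.mem_iInter.1 hz k⟩

/-- family version of `exists_rep_comb` -/
theorem exists_rep_comb_family (M : ModSite.Mod O) {U V : Opens X} {ι J : Type*} [Fintype ι] [Finite J]
    (s : ι → sec M U) (m : J → sec M V) (y : X) (hyU : y ∈ U) (hyV : y ∈ V) (c : J → ι → Ox O y)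
    (h : ∀ j, gm (toPM M) y V hyV (m j) = ∑ i, c j i • gm (toPM M) y U hyU (s i)) :
    ∃ (W : Opens X) (hWU : W ≤ U) (hWV : W ≤ V) (hyW : y ∈ W) (c' : J → ι → O.presheaf.obj (op W)),
      (∀ j i, gr O.presheaf y W hyW (c' j i) = c j i) ∧
        ∀ j, resS M hWV (m j) = ∑ i, c' j i • resS M hWU (s i) := by
  choose W₀ hW₀U hW₀V hyW₀ c₀ hc₀ he₀ using fun j => exists_rep_comb M s (m j) y hyU hyV (c j) (h j)
  obtain ⟨W, hyW, hW⟩ := exists_common_nhd y W₀ hyW₀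
  by_cases hJ : Nonempty J
  · obtain ⟨j₀⟩ := hJ
    refine ⟨W, (hW j₀).trans (hW₀U j₀), (hW j₀).trans (hW₀V j₀), hyW,
      fun j i => resR (hW j) (c₀ j i), fun j i => (gr_resR (hW j) (c₀ j i) y hyW).trans (hc₀ j i), ?_⟩
    intro j
    have h1 := congrArg (resS M (hW j)) (he₀ j)
    rw [resS_resS, resS_sum] at h1
    refine h1.trans ?_
    refine Finset.sum_congr rfl (fun i _ => ?_)
    rw [resS_smul, resS_resS]
  · have hyUV : y ∈ U ⊓ V := ⟨hyU, hyV⟩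
    exact ⟨U ⊓ V, inf_le_left, inf_le_right, hyUV, fun j _ => 0,
      fun j => (hJ ⟨j⟩).elim, fun j => (hJ ⟨j⟩).elim⟩

lemma gr_sum_mul {W W₁ W₂ : Opens X} (h₁ : W ≤ W₁) (h₂ : W ≤ W₂) {J : Type*} [Fintype J]
    (f : J → O.presheaf.obj (op W₂)) (g : J → O.presheaf.obj (op W₁)) (y : X) (hy : y ∈ W) :
    gr O.presheaf y W hy (∑ j, resR h₂ (f j) * resR h₁ (g j)) =
      ∑ j, gr O.presheaf y W₂ (h₂ hy) (f j) * gr O.presheaf y W₁ (h₁ hy) (g j) := by
  rw [map_sum]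
  refine Finset.sum_congr rfl (fun j _ => ?_)
  rw [map_mul, gr_resR, gr_resR]

lemma gm_of_resS_eq (M : ModSite.Mod O) {U V W : Opens X} {ι : Type*} [Fintype ι] (hWU : W ≤ U) (hWV : W ≤ V)
    (s : ι → sec M U) (m : sec M V) (c : ι → O.presheaf.obj (op W))
    (h : resS M hWV m = ∑ i, c i • resS M hWU (s i)) (y : X) (hy : y ∈ W) :
    gm (toPM M) y V (hWV hy) m = ∑ i, gr O.presheaf y W hy (c i) • gm (toPM M) y U (hWU hy) (s i) := by
  have h1 := congrArg (gm (toPM M) y W hy) h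
  rw [gm_resS, gm_sum_smul] at h1
  refine h1.trans ?_
  refine Finset.sum_congr rfl (fun i _ => ?_)
  rw [gm_resS]

theorem exists_nhd_basis (M : ModSite.Mod O) {U₀ U : Opens X} (D : FPData M U₀)
    {ι : Type u} [Fintype ι] [DecidableEq ι] (s : ι → sec M U) (x : X) (hx₀ : x ∈ U₀) (hx : x ∈ U)
    (hb : IsBasisAt M U s x hx) :
    ∃ (V : Opens X) (hVU : V ≤ U) (_ : x ∈ V), ∀ (y : X) (hy : y ∈ V), IsBasisAt M U s y (hVU hy) := by
  classical
  -- generators in terms of `s` near `x`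
  have hmemA : ∀ j, gm (toPM M) x U₀ hx₀ (D.s j) ∈
      Submodule.span (Ox O x) (Set.range fun i => gm (toPM M) x U hx (s i)) := by
    intro j; rw [hb.1]; trivial
  choose a ha using fun j => (Submodule.mem_span_range_iff_exists_fun (Ox O x)).1 (hmemA j)
  obtain ⟨W₁, h₁U, h₁U₀, hx₁, A, hAgr, hA⟩ :=
    exists_rep_comb_family M s D.s x hx hx₀ a (fun j => (ha j).symm)
  -- `s` in terms of the generators near `x`
  have hmemB : ∀ i, gm (toPM M) x U hx (s i) ∈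
      Submodule.span (Ox O x) (Set.range fun j => gm (toPM M) x U₀ hx₀ (D.s j)) := by
    intro i; rw [D.span x hx₀]; trivial
  choose b hb' using fun i => (Submodule.mem_span_range_iff_exists_fun (Ox O x)).1 (hmemB i)
  obtain ⟨W₂, h₂U₀, h₂U, hx₂, B, hBgr, hB⟩ :=
    exists_rep_comb_family M D.s s x hx₀ hx b (fun i => (hb' i).symm)
  -- the identities at `x`
  have hBAx : ∀ i i', ∑ j, b i j * a j i' = if i = i' then 1 else 0 := by
    intro i i'
    refine coeff_eq_of_linearIndependent (fun i => gm (toPM M) x U hx (s i))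
      (fun j => gm (toPM M) x U₀ hx₀ (D.s j)) a hb.2 (fun j => (ha j).symm) (b i)
      (fun i' => if i = i' then 1 else 0) ?_ i'
    rw [hb' i]
    simp
  have hRAx : ∀ k i', ∑ j, gr O.presheaf x U₀ hx₀ (D.r k j) * a j i' = 0 := by
    intro k i'
    refine coeff_eq_of_linearIndependent (fun i => gm (toPM M) x U hx (s i))
      (fun j => gm (toPM M) x U₀ hx₀ (D.s j)) a hb.2 (fun j => (ha j).symm)
      (fun j => gr O.presheaf x U₀ hx₀ (D.r k j)) (fun _ => 0) ?_ i'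
    have h1 := congrArg (gm (toPM M) x U₀ hx₀) (D.rel k)
    rw [gm_sum_smul, map_zero] at h1
    rw [h1]
    simp
  -- spread the identities
  have hx₃ : x ∈ W₁ ⊓ W₂ := ⟨hx₁, hx₂⟩
  have h₃₁ : W₁ ⊓ W₂ ≤ W₁ := inf_le_left
  have h₃₂ : W₁ ⊓ W₂ ≤ W₂ := inf_le_right
  have h₃₀ : W₁ ⊓ W₂ ≤ U₀ := h₃₁.trans h₁U₀
  let P : ι × ι → O.presheaf.obj (op (W₁ ⊓ W₂)) := fun p =>
    ∑ j, resR h₃₂ (B p.1 j) * resR h₃₁ (A j p.2)
  let Q : ι × ι → O.presheaf.obj (op (W₁ ⊓ W₂)) := fun p => if p.1 = p.2 then 1 else 0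
  have hPQ : ∀ p, gr O.presheaf x (W₁ ⊓ W₂) hx₃ (P p) = gr O.presheaf x (W₁ ⊓ W₂) hx₃ (Q p) := by
    rintro ⟨i, i'⟩
    change gr O.presheaf x (W₁ ⊓ W₂) hx₃ (∑ j, resR h₃₂ (B i j) * resR h₃₁ (A j i')) =
      gr O.presheaf x (W₁ ⊓ W₂) hx₃ (if i = i' then 1 else 0)
    rw [gr_sum_mul]
    simp only [hBgr, hAgr]
    rw [hBAx i i', apply_ite (gr O.presheaf x (W₁ ⊓ W₂) hx₃), map_one, map_zero]
  obtain ⟨W₄, h₄, hx₄, hPQ₄⟩ := exists_eq_of_gr_eq x hx₃ P Q hPQ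
  let P' : D.κ × ι → O.presheaf.obj (op (W₁ ⊓ W₂)) := fun p =>
    ∑ j, resR h₃₀ (D.r p.1 j) * resR h₃₁ (A j p.2)
  have hP'0 : ∀ p, gr O.presheaf x (W₁ ⊓ W₂) hx₃ (P' p) =
      gr O.presheaf x (W₁ ⊓ W₂) hx₃ ((fun _ => 0 : D.κ × ι → O.presheaf.obj (op (W₁ ⊓ W₂))) p) := by
    rintro ⟨k, i'⟩
    change gr O.presheaf x (W₁ ⊓ W₂) hx₃ (∑ j, resR h₃₀ (D.r k j) * resR h₃₁ (A j i')) =
      gr O.presheaf x (W₁ ⊓ W₂) hx₃ 0
    rw [gr_sum_mul]
    simp only [hAgr]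
    rw [hRAx k i', map_zero]
  obtain ⟨W₅, h₅, hx₅, hP'₅⟩ := exists_eq_of_gr_eq x hx₃ P' (fun _ => 0) hP'0
  have hV₁ : W₄ ⊓ W₅ ≤ W₁ := inf_le_left.trans (h₄.trans h₃₁)
  have hV₂ : W₄ ⊓ W₅ ≤ W₂ := inf_le_left.trans (h₄.trans h₃₂)
  refine ⟨W₄ ⊓ W₅, hV₁.trans h₁U, ⟨hx₄, hx₅⟩, fun y hy => ?_⟩
  have hy₁ : y ∈ W₁ := hV₁ hy
  have hy₂ : y ∈ W₂ := hV₂ hy
  have hy₃ : y ∈ W₁ ⊓ W₂ := ⟨hy₁, hy₂⟩
  have hy₀ : y ∈ U₀ := h₁U₀ hy₁
  have hyU : y ∈ U := h₁U hy₁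
  have hw : ∀ j, gm (toPM M) y U₀ hy₀ (D.s j) =
      ∑ i, gr O.presheaf y W₁ hy₁ (A j i) • gm (toPM M) y U hyU (s i) :=
    fun j => gm_of_resS_eq M h₁U h₁U₀ s (D.s j) (A j) (hA j) y hy₁
  have hv : ∀ i, gm (toPM M) y U hyU (s i) =
      ∑ j, gr O.presheaf y W₂ hy₂ (B i j) • gm (toPM M) y U₀ hy₀ (D.s j) :=
    fun i => gm_of_resS_eq M h₂U₀ h₂U D.s (s i) (B i) (hB i) y hy₂
  have hBA : ∀ i i', ∑ j, gr O.presheaf y W₂ hy₂ (B i j) * gr O.presheaf y W₁ hy₁ (A j i') =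
      if i = i' then 1 else 0 := by
    intro i i'
    have h1 := congrArg (gr O.presheaf y W₄ hy.1) (hPQ₄ (i, i'))
    rw [gr_resR, gr_resR] at h1
    change gr O.presheaf y (W₁ ⊓ W₂) hy₃ (∑ j, resR h₃₂ (B i j) * resR h₃₁ (A j i')) =
      gr O.presheaf y (W₁ ⊓ W₂) hy₃ (if i = i' then 1 else 0) at h1
    rw [gr_sum_mul, apply_ite (gr O.presheaf y (W₁ ⊓ W₂) hy₃), map_one, map_zero] at h1
    exact h1
  have hRA : ∀ k i', ∑ j, gr O.presheaf y U₀ hy₀ (D.r k j) * gr O.presheaf y W₁ hy₁ (A j i') = 0 := by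
    intro k i'
    have h1 := congrArg (gr O.presheaf y W₅ hy.2) (hP'₅ (k, i'))
    rw [gr_resR, gr_resR] at h1
    change gr O.presheaf y (W₁ ⊓ W₂) hy₃ (∑ j, resR h₃₀ (D.r k j) * resR h₃₁ (A j i')) =
      gr O.presheaf y (W₁ ⊓ W₂) hy₃ 0 at h1
    rw [gr_sum_mul, map_zero] at h1
    exact h1
  exact ⟨span_of_comb _ _ _ hw (D.span y hy₀),
    linearIndependent_of_comb _ _ _ _ (fun k j => gr O.presheaf y U₀ hy₀ (D.r k j)) hv hBA hRA
      (D.syz y hy₀)⟩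

lemma isBasisAt_resS (M : ModSite.Mod O) {U V : Opens X} (hVU : V ≤ U) {ι : Type u} (s : ι → sec M U)
    (y : X) (hy : y ∈ V) (h : IsBasisAt M U s y (hVU hy)) :
    IsBasisAt M V (fun i => resS M hVU (s i)) y hy := by
  have e : (fun i => gm (toPM M) y V hy (resS M hVU (s i))) = fun i => gm (toPM M) y U (hVU hy) (s i) := by
    funext i
    exact gm_resS M hVU (s i) y hy
  unfold IsBasisAt
  rw [e]
  exact h

/-- a module with presentation data near `x` whose stalk at `x` has a finite basis is free near `x` -/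
theorem exists_restr_iso_free (M : ModSite.Mod O) {U₀ : Opens X} (D : FPData M U₀) (x : X) (hx₀ : x ∈ U₀)
    {ι : Type u} [Fintype ι] [DecidableEq ι] (v : ι → St (toPM M) x)
    (hspan : Submodule.span (Ox O x) (Set.range v) = ⊤) (hli : LinearIndependent (Ox O x) v) :
    ∃ V : Opens X, x ∈ V ∧ Nonempty ((ModSite.restr O V).obj M ≅ SheafOfModules.free ι) := by
  choose U₁ hx₁ s₁ hs₁ using fun i => exists_gm_eq (P := toPM M) (v i)
  obtain ⟨U, hxU, hU⟩ := exists_common_nhd x U₁ hx₁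
  let s : ι → sec M U := fun i => resS M (hU i) (s₁ i)
  have e : (fun i => gm (toPM M) x U hxU (s i)) = v := by
    funext i
    exact (gm_resS M (hU i) (s₁ i) x hxU).trans (hs₁ i)
  have hb : IsBasisAt M U s x hxU := by
    unfold IsBasisAt
    rw [e]
    exact ⟨hspan, hli⟩
  obtain ⟨V, hVU, hxV, hV⟩ := exists_nhd_basis M D s x hx₀ hxU hb
  have := isIso_piOf M V (fun i => resS M hVU (s i)) (fun y hy => isBasisAt_resS M hVU s y hy (hV y hy))
  exact ⟨V, hxV, ⟨(asIso (piOf M V (fun i => resS M hVU (s i)))).symm⟩⟩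

end Groth.Agent.Lib.Seat93.RSpFree
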