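import Mathlib
import Groth.Agent.Lib.Seat16RSpPT2
import Groth.Agent.Lib.Seat93RSpFree2
set_option backward.isDefEq.respectTransparency.types false

/-!
# Sections of `E ⊗ G` when `E` has a stalkwise basis of sections (seat 16)

On a ringed space `(X, O)`: if `e : ι → E(W)` are sections whose germs form a basis of `E_z` for all
`z ∈ W`, then for every open `U ≤ W` the map `G(U)^ι → (E ⊗ G)(U)`, `(s_k) ↦ ∑ e_k|_U ⊗ s_k` is
bijective (`theta_bijective`).
-/

set_option autoImplicit false
set_option linter.style.haveILetI false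
universe u
open CategoryTheory CategoryTheory.Limits TopCat TopologicalSpace Opposite MonoidalCategory TensorProduct

namespace Groth.Agent.Lib.Seat16.TensorBasis

open Groth.Agent.Lib.Helper1.StalkTensor Groth.Agent.Lib.Helper1.Sky Groth.Agent.Lib.Seat93.RSpBase
open Groth.Agent.Lib.Helper21.ModTensor2 Groth.Agent.Lib.Seat16.RSpFlat Groth.Agent.Lib.Seat16.RSpPT
open Groth.Agent.Lib.Seat93.RSpFP Groth.Agent.Lib.Seat93.RSpFree

/-! ### linear algebra -/

section alg
variable {R M N : Type*} [CommRing R] [AddCommGroup M] [Module R M] [AddCommGroup N] [Module R N]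
  {ι : Type*} [Fintype ι] (b : ι → M) (hli : LinearIndependent R b)
  (hsp : ⊤ ≤ Submodule.span R (Set.range b))

include hli hsp in
lemma tmul_basis_eq_zero (a : ι → N) (h : ∑ k, b k ⊗ₜ[R] a k = 0) : a = 0 := by
  classical
  let ℬ : Module.Basis ι R M := Module.Basis.mk hli hsp
  have h1 : ((Finsupp.equivFunOnFinite.symm a).sum fun i n => ℬ i ⊗ₜ[R] n) = 0 := by
    rw [Finsupp.sum_fintype _ _ (fun i => TensorProduct.tmul_zero N (ℬ i))]
    simpa [ℬ] using h
  have h2 := TensorProduct.sum_tmul_basis_left_eq_zero ℬ _ h1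
  have h3 : Finsupp.equivFunOnFinite (Finsupp.equivFunOnFinite.symm a) =
      Finsupp.equivFunOnFinite (0 : ι →₀ N) := congrArg _ h2
  rw [Equiv.apply_symm_apply] at h3
  exact h3.trans (funext fun _ => rfl)

include hli hsp in
lemma exists_tmul_basis (t : M ⊗[R] N) : ∃ a : ι → N, t = ∑ k, b k ⊗ₜ[R] a k := by
  classical
  let ℬ : Module.Basis ι R M := Module.Basis.mk hli hsp
  obtain ⟨c, hc⟩ := TensorProduct.eq_repr_basis_left ℬ t
  refine ⟨fun k => c k, ?_⟩
  rw [← hc, Finsupp.sum_fintype _ _ (fun i => TensorProduct.tmul_zero N (ℬ i))]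
  simp [ℬ]

end alg

variable {X : TopCat.{u}} {O : TopCat.Sheaf CommRingCat.{u} X} (E G : ModSite.Mod O)

/-- the pure tensor section -/
noncomputable def pt {U : Opens X} (a : sec E U) (s : sec G U) : sec (tens O E G) U :=
  (etaO O (toPM E ⊗ toPM G)).app (op U) (tm (toPM E) (toPM G) a s)

lemma gm_pt {U : Opens X} (z : X) (hz : z ∈ U) (a : sec E U) (s : sec G U) :
    stalkTensorEquiv O z E G (gm (toPM (tens O E G)) z U hz (pt E G a s)) =
      gm (toPM E) z U hz a ⊗ₜ[Ox O z] gm (toPM G) z U hz s :=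
  stalkTensorEquiv_gm O z E G U hz a s

lemma resS_pt {U U' : Opens X} (h : U' ≤ U) (a : sec E U) (s : sec G U) :
    resS (tens O E G) h (pt E G a s) = pt E G (resS E h a) (resS G h s) := by
  have h1 := PresheafOfModules.naturality_apply (etaO O (toPM E ⊗ toPM G))
    (homOfLE h).op (tm (toPM E) (toPM G) a s)
  exact h1.symm

variable {W : Opens X} {ι : Type u} [Fintype ι] (e : ι → sec E W)

/-- `(s_k) ↦ ∑ e_k|_U ⊗ s_k` -/
noncomputable def theta {U : Opens X} (h : U ≤ W) (s : ι → sec G U) : sec (tens O E G) U :=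
  ∑ k, pt E G (resS E h (e k)) (s k)

lemma gm_theta {U : Opens X} (h : U ≤ W) (s : ι → sec G U) (z : X) (hz : z ∈ U) :
    stalkTensorEquiv O z E G (gm (toPM (tens O E G)) z U hz (theta E G e h s)) =
      ∑ k, gm (toPM E) z W (h hz) (e k) ⊗ₜ[Ox O z] gm (toPM G) z U hz (s k) := by
  unfold theta
  rw [map_sum, map_sum]
  refine Finset.sum_congr rfl (fun k _ => ?_)
  rw [gm_pt, gm_resS]

lemma resS_theta {U U' : Opens X} (h : U ≤ W) (h' : U' ≤ U) (s : ι → sec G U) :
    resS (tens O E G) h' (theta E G e h s) =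
      theta E G e (h'.trans h) (fun k => resS G h' (s k)) := by
  unfold theta
  rw [resS_sum]
  refine Finset.sum_congr rfl (fun k _ => ?_)
  rw [resS_pt, resS_resS]

/-- two sections with the same germs are equal -/
lemma sec_ext (M : ModSite.Mod O) {U : Opens X} (s t : sec M U)
    (h : ∀ (z : X) (hz : z ∈ U), gm (toPM M) z U hz s = gm (toPM M) z U hz t) : s = t :=
  TopCat.Presheaf.section_ext ((SheafOfModules.toSheaf (ModSite.ringSh O)).obj M) U s t h

variable (hb : ∀ (z : X) (hz : z ∈ W), IsBasisAt E W e z hz)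

include hb in
theorem theta_injective {U : Opens X} (h : U ≤ W) : Function.Injective (theta E G e h) := by
  intro s s' hss
  have key : ∀ (z : X) (hz : z ∈ U),
      (fun k => gm (toPM G) z U hz (s k) - gm (toPM G) z U hz (s' k)) = 0 := by
    intro z hz
    apply tmul_basis_eq_zero (R := Ox O z) (fun k => gm (toPM E) z W (h hz) (e k))
      (hb z (h hz)).2 (hb z (h hz)).1.ge
    have h1 := gm_theta E G e h s z hz
    have h2 := gm_theta E G e h s' z hz
    rw [hss] at h1
    have h3 := h1.symm.trans h2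
    simp only [TensorProduct.tmul_sub, Finset.sum_sub_distrib]
    rw [h3, sub_self]
  funext k
  apply sec_ext G
  intro z hz
  exact sub_eq_zero.1 (congrFun (key z hz) k)

include hb in
theorem exists_local_lift {U : Opens X} (h : U ≤ W) (t : sec (tens O E G) U) (z : X) (hz : z ∈ U) :
    ∃ (U' : Opens X) (_ : z ∈ U') (h' : U' ≤ U) (s : ι → sec G U'),
      theta E G e (h'.trans h) s = resS (tens O E G) h' t := by
  obtain ⟨a, ha⟩ := exists_tmul_basis (R := Ox O z) (N := St (toPM G) z)
    (fun k => gm (toPM E) z W (h hz) (e k)) (hb z (h hz)).2 (hb z (h hz)).1.ge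
    (stalkTensorEquiv O z E G (gm (toPM (tens O E G)) z U hz t))
  choose V hzV p hp using fun k => exists_gm_eq (a k)
  obtain ⟨V₀, hzV₀, hV₀⟩ := exists_common_nhd z V hzV
  let U₁ : Opens X := U ⊓ V₀
  have hzU₁ : z ∈ U₁ := ⟨hz, hzV₀⟩
  have hU₁ : U₁ ≤ U := inf_le_left
  let s₁ : ι → sec G U₁ := fun k => resS G (inf_le_right.trans (hV₀ k)) (p k)
  have hgerm : gm (toPM (tens O E G)) z U₁ hzU₁ (theta E G e (hU₁.trans h) s₁) =
      gm (toPM (tens O E G)) z U hz t := by
    apply (stalkTensorEquiv O z E G).injective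
    rw [gm_theta, ha]
    refine Finset.sum_congr rfl (fun k _ => ?_)
    rw [gm_resS, hp]
  obtain ⟨U', hzU', i₁, i₂, hres⟩ := gm_eq hzU₁ hz _ _ hgerm
  refine ⟨U', hzU', i₂.le, fun k => resS G i₁.le (s₁ k), ?_⟩
  have h5 := resS_theta E G e (hU₁.trans h) i₁.le s₁
  exact h5.symm.trans hres

include hb in
theorem theta_surjective {U : Opens X} (h : U ≤ W) : Function.Surjective (theta E G e h) := by
  intro t
  choose V hzV hVU sV hsV using fun z : U => exists_local_lift E G e hb h t z.1 z.2
  have hcover : U ≤ iSup V := by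
    intro z hz
    rw [Opens.mem_iSup]
    exact ⟨⟨z, hz⟩, hzV ⟨z, hz⟩⟩
  let Gs : TopCat.Sheaf AddCommGrpCat.{u} X := (SheafOfModules.toSheaf (ModSite.ringSh O)).obj G
  have hcompat : ∀ k, TopCat.Presheaf.IsCompatible Gs.presheaf V (fun z => sV z k) := by
    intro k z z'
    have hl : V z ⊓ V z' ≤ V z := inf_le_left
    have hr : V z ⊓ V z' ≤ V z' := inf_le_right
    have e1 : theta E G e ((hl.trans (hVU z)).trans h) (fun k => resS G hl (sV z k)) =
        theta E G e ((hl.trans (hVU z)).trans h) (fun k => resS G hr (sV z' k)) := by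
      have a1 := resS_theta E G e ((hVU z).trans h) hl (sV z)
      have a2 := resS_theta E G e ((hVU z').trans h) hr (sV z')
      rw [hsV z, resS_resS] at a1
      rw [hsV z', resS_resS] at a2
      exact a1.symm.trans a2
    have e2 := theta_injective E G e hb ((hl.trans (hVU z)).trans h) e1
    exact congrFun e2 k
  choose s hs _ using fun k => Gs.existsUnique_gluing' V U (fun z => homOfLE (hVU z)) hcover
    (fun z => sV z k) (hcompat k)
  refine ⟨s, ?_⟩
  let Ts : TopCat.Sheaf AddCommGrpCat.{u} X :=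
    (SheafOfModules.toSheaf (ModSite.ringSh O)).obj (tens O E G)
  refine Ts.eq_of_locally_eq' V U (fun z => homOfLE (hVU z)) hcover _ _ (fun z => ?_)
  have b1 := resS_theta E G e h (hVU z) s
  have b2 : (fun k => resS G (hVU z) (s k)) = sV z := funext fun k => hs k z
  rw [b2, hsV z] at b1
  exact b1

include hb in
theorem theta_bijective {U : Opens X} (h : U ≤ W) : Function.Bijective (theta E G e h) :=
  ⟨theta_injective E G e hb h, theta_surjective E G e hb h⟩

end Groth.Agent.Lib.Seat16.TensorBasis
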