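import Mathlib
import Groth.Agent.Lib.Helper1PT3
import Groth.Agent.Lib.Seat16TensorBasis
set_option backward.isDefEq.respectTransparency.types false

/-!
# The projection formula for a morphism of schemes, degree 0 (seat 16), part 1

The projection morphism `proj f E F : E ⊗ f_*F ⟶ f_*(f^*E ⊗ F)`, natural in `F`, and its value on
pure tensors.
-/

set_option autoImplicit false
set_option linter.style.haveILetI false
universe u
open CategoryTheory CategoryTheory.Limits AlgebraicGeometry TopologicalSpace Opposite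
  MonoidalCategory TensorProduct

namespace Groth.Agent.Lib.Seat16.ProjFormula

open Groth.Agent.Lib.Helper1.Sky Groth.Agent.Lib.Helper1.StalkTensor
  Groth.Agent.Lib.Helper21.ModTensor2 Groth.Agent.Lib.Helper1.PT

variable {X Y : Scheme.{u}} (f : X ⟶ Y) (E : Y.Modules)

/-- the projection morphism, on presheaves over `Y` -/
noncomputable def projP (F : X.Modules) : toPM E ⊗ toPM ((psh f).obj F) ⟶
    toPM ((psh f).obj (tens ((plb f).obj E) F)) :=
  (toPMMap (un f E) ▷ toPM ((psh f).obj F)) ≫ nu f ((plb f).obj E) F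

/-- the projection morphism `E ⊗ f_*F ⟶ f_*(f^*E ⊗ F)` -/
noncomputable def proj (F : X.Modules) : tens E ((psh f).obj F) ⟶
    (psh f).obj (tens ((plb f).obj E) F) :=
  ((adj Y.sheaf).homEquiv (toPM E ⊗ toPM ((psh f).obj F))
    ((psh f).obj (tens ((plb f).obj E) F))).symm (projP f E F)

lemma etaX_proj (F : X.Modules) :
    etaX (toPM E ⊗ toPM ((psh f).obj F)) ≫ toPMMap (proj f E F) = projP f E F := by
  have h := (adj Y.sheaf).homEquiv_unit (X := toPM E ⊗ toPM ((psh f).obj F))
    (Y := (psh f).obj (tens ((plb f).obj E) F)) (f := proj f E F)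
  have h2 : (adj Y.sheaf).homEquiv _ _ (proj f E F) = projP f E F :=
    Equiv.apply_symm_apply _ _
  exact h.symm.trans h2

lemma projP_naturality {F F' : X.Modules} (g : F ⟶ F') :
    (toPM E ◁ toPMMap ((psh f).map g)) ≫ projP f E F' = projP f E F ≫
      toPMMap ((psh f).map ((DCoh.tensorBi.obj ((plb f).obj E)).map g)) := by
  unfold projP
  rw [Category.assoc, ← nu_naturality_right, ← Category.assoc, ← Category.assoc,
    ← whisker_exchange]

/-- naturality of maps out of a tensor product, checked on the presheaf tensor product -/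
lemma tens_nat_of_presheaf {Z : Scheme.{u}} (E P P' Q Q' : Z.Modules) (γ : P ⟶ P')
    (φ : tens E P ⟶ Q) (φ' : tens E P' ⟶ Q') (κ : Q ⟶ Q')
    (h : (toPM E ◁ toPMMap γ) ≫ (etaX (toPM E ⊗ toPM P') ≫ toPMMap φ') =
      (etaX (toPM E ⊗ toPM P) ≫ toPMMap φ) ≫ toPMMap κ) :
    (DCoh.tensorBi.obj E).map γ ≫ φ' = φ ≫ κ := by
  apply shX_hom_ext (T := toPM E ⊗ toPM P)
  have e1 := etaX_naturality (toPM E ◁ toPMMap γ)
  calc etaX (toPM E ⊗ toPM P) ≫ toPMMap ((DCoh.tensorBi.obj E).map γ ≫ φ')
      = (etaX (toPM E ⊗ toPM P) ≫ toPMMap (shX.map (toPM E ◁ toPMMap γ))) ≫ toPMMap φ' :=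
        (Category.assoc _ _ _).symm
    _ = ((toPM E ◁ toPMMap γ) ≫ etaX (toPM E ⊗ toPM P')) ≫ toPMMap φ' := by rw [e1]
    _ = (toPM E ◁ toPMMap γ) ≫ (etaX (toPM E ⊗ toPM P') ≫ toPMMap φ') := Category.assoc _ _ _
    _ = (etaX (toPM E ⊗ toPM P) ≫ toPMMap φ) ≫ toPMMap κ := h
    _ = etaX (toPM E ⊗ toPM P) ≫ toPMMap (φ ≫ κ) := Category.assoc _ _ _

/-- naturality of the projection morphism in `F` -/
lemma proj_naturality {F F' : X.Modules} (g : F ⟶ F') :
    (DCoh.tensorBi.obj E).map ((psh f).map g) ≫ proj f E F' = proj f E F ≫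
      (psh f).map ((DCoh.tensorBi.obj ((plb f).obj E)).map g) := by
  apply tens_nat_of_presheaf
  rw [etaX_proj, etaX_proj]
  exact projP_naturality f E g

/-- the projection morphism on pure tensors -/
lemma proj_section (F : X.Modules) (V : Y.Opens) (a : (toPM E).obj (op V))
    (s : (toPM F).obj (op (f ⁻¹ᵁ V))) :
    (toPMMap (proj f E F)).app (op V)
      ((etaX (toPM E ⊗ toPM ((psh f).obj F))).app (op V)
        (tm (toPM E) (toPM ((psh f).obj F)) a s)) =
    (etaX (toPM ((plb f).obj E) ⊗ toPM F)).app (op (f ⁻¹ᵁ V))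
      (tm (toPM ((plb f).obj E)) (toPM F) ((toPMMap (un f E)).app (op V) a) s) := by
  have h1 := etaX_proj f E F
  have h2 := congrArg (fun g => (g.app (op V)).hom (tm (toPM E) (toPM ((psh f).obj F)) a s)) h1
  exact h2

end Groth.Agent.Lib.Seat16.ProjFormula
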