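import Mathlib
import Groth.Agent.Lib.Seat16ProjFormula1
import Groth.Agent.Lib.Helper21ExtShLocFree
set_option backward.isDefEq.respectTransparency.types false

/-!
# The projection formula for a morphism of schemes, degree 0 (seat 16), part 2

For `E` finite locally free on `Y`, the projection morphism `E ⊗ f_*F ⟶ f_*(f^*E ⊗ F)` is an
isomorphism, naturally in `F`.
-/

set_option autoImplicit false
set_option linter.style.haveILetI false
universe u
open CategoryTheory CategoryTheory.Limits AlgebraicGeometry TopologicalSpace Opposite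
  MonoidalCategory TensorProduct

namespace Groth.Agent.Lib.Seat16.ProjFormula

open Groth.Agent.Lib.Helper1.Sky Groth.Agent.Lib.Helper1.StalkTensor
  Groth.Agent.Lib.Helper21.ModTensor2 Groth.Agent.Lib.Helper1.PT Groth.Agent.Lib.Helper1.KBC
open Groth.Agent.Lib.Seat93.RSpFree Groth.Agent.Lib.Seat93.RSpFP Groth.Agent.Lib.Seat16.TensorBasis
  Groth.Agent.Lib.Helper21.ExtShLocFree

/-! ### algebra: base change of a basis along an isomorphism -/

lemma basis_of_extend {R S : Type u} [CommRing R] [CommRing S] (f : R →+* S) (M : ModuleCat.{u} R)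
    {P : ModuleCat.{u} S} (φ : P ≅ (ModuleCat.extendScalars.{u, u, u} f).obj M)
    {ι : Type*} [Fintype ι] (p : ι → P) (b : ι → M)
    (hφ : ∀ k, φ.hom.hom (p k) = ((1 : S) ⊗ₜ[R] b k : (ModuleCat.extendScalars.{u, u, u} f).obj M))
    (hli : LinearIndependent R b) (hsp : ⊤ ≤ Submodule.span R (Set.range b)) :
    Submodule.span S (Set.range p) = ⊤ ∧ LinearIndependent S p := by
  classical
  letI alg : Algebra R S := f.toAlgebra
  let ℬ : Module.Basis ι R M := Module.Basis.mk hli hsp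
  let ℬS : Module.Basis ι S (S ⊗[R] M) := ℬ.baseChange S
  let e : P ≃ₗ[S] (S ⊗[R] M) := φ.toLinearEquiv
  let ℬP : Module.Basis ι S P := ℬS.map e.symm
  have hp : ∀ k, ℬP k = p k := by
    intro k
    change e.symm (ℬS k) = p k
    rw [LinearEquiv.symm_apply_eq]
    have : ℬS k = (1 : S) ⊗ₜ[R] b k := by
      simp [ℬS, ℬ, Module.Basis.baseChange_apply]
    rw [this]
    exact (hφ k).symm
  have hfun : (ℬP : ι → P) = p := funext hp
  refine ⟨?_, ?_⟩
  · rw [← hfun]; exact ℬP.span_eq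
  · rw [← hfun]; exact ℬP.linearIndependent

variable {X Y : Scheme.{u}} (f : X ⟶ Y) (E : Y.Modules)

/-- a finite locally free module has, locally, sections which are stalkwise bases -/
theorem exists_basis_sections (hE : FlatMod.IsFinLocFree E) (y : Y) :
    ∃ (V : Y.Opens) (_ : y ∈ V) (ι : Type u) (_ : Fintype ι)
      (e : ι → Groth.Agent.Lib.Seat93.RSpBase.sec (O := Y.sheaf) E V),
      ∀ (z : Y) (hz : z ∈ V), IsBasisAt (O := Y.sheaf) E V e z hz := by
  obtain ⟨V, n, hy, ⟨e0⟩⟩ := hE y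
  have e1 : (ModSite.restr Y.sheaf V).obj E ≅
      ∐ fun _ : Fin n => ModSite.unit (Y.sheaf.over V) := overIsoFree E V n e0
  have e2 : (∐ fun _ : Fin n => ModSite.unit (Y.sheaf.over V)) ≅
      SheafOfModules.free (R := ModSite.ringSh (Y.sheaf.over V)) (ULift.{u} (Fin n)) :=
    show (∐ fun _ : Fin n => ModSite.unit (Y.sheaf.over V)) ≅
      ∐ fun _ : ULift.{u} (Fin n) => ModSite.unit (Y.sheaf.over V) from
    Sigma.whiskerEquiv (f := fun _ : Fin n => ModSite.unit (Y.sheaf.over V))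
      (g := fun _ : ULift.{u} (Fin n) => ModSite.unit (Y.sheaf.over V)) Equiv.ulift.symm
      (fun _ => Iso.refl _)
  obtain ⟨s, hs⟩ := exists_basis_of_iso (O := Y.sheaf) E V (e1 ≪≫ e2)
  exact ⟨V, hy, ULift.{u} (Fin n), inferInstance, s, hs⟩

variable {E} {V : Y.Opens} {ι : Type u} [Fintype ι]
  (e : ι → Groth.Agent.Lib.Seat93.RSpBase.sec (O := Y.sheaf) E V)

/-- the pulled back sections -/
noncomputable def pe (k : ι) :
    Groth.Agent.Lib.Seat93.RSpBase.sec (O := X.sheaf) ((plb f).obj E) (f ⁻¹ᵁ V) :=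
  (toPMMap (un f E)).app (op V) (e k)

/-- the pulled back sections form stalkwise bases -/
theorem isBasisAt_pe (hb : ∀ (z : Y) (hz : z ∈ V), IsBasisAt (O := Y.sheaf) E V e z hz)
    (x : X) (hx : x ∈ f ⁻¹ᵁ V) :
    IsBasisAt (O := X.sheaf) ((plb f).obj E) (f ⁻¹ᵁ V) (pe f e) x hx := by
  have hx' : f x ∈ V := hx
  exact basis_of_extend (f.stalkMap x).hom ((stalkFun (f x)).obj E)
    ((stalkPullbackIso f x).app E)
    (fun k => gm (toPM ((plb f).obj E)) x (f ⁻¹ᵁ V) hx (pe f e k))
    (fun k => gm (toPM E) (f x) V hx' (e k))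
    (fun k => sigma_unit f x E V hx' (e k))
    (hb (f x) hx').2 (hb (f x) hx').1.ge

variable (F : X.Modules)

/-- the projection morphism on `theta` -/
lemma proj_theta {V' : Y.Opens} (h : V' ≤ V) (s : ι → (toPM F).obj (op (f ⁻¹ᵁ V'))) :
    (toPMMap (proj f E F)).app (op V') (theta (O := Y.sheaf) E ((psh f).obj F) e h s) =
      theta (O := X.sheaf) ((plb f).obj E) F (pe f e)
        ((Opens.map f.base).map (homOfLE h)).le s := by
  have hsum : (toPMMap (proj f E F)).app (op V')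
      (∑ k, (pt (O := Y.sheaf) E ((psh f).obj F) (resS (O := Y.sheaf) E h (e k)) (s k) :
        (toPM (tens E ((psh f).obj F))).obj (op V'))) =
      ∑ k, (toPMMap (proj f E F)).app (op V')
        (pt (O := Y.sheaf) E ((psh f).obj F) (resS (O := Y.sheaf) E h (e k)) (s k) :
          (toPM (tens E ((psh f).obj F))).obj (op V')) :=
    map_sum ((toPMMap (proj f E F)).app (op V')).hom _ _
  refine hsum.trans (Finset.sum_congr rfl (fun k _ => ?_))
  have h1 := proj_section f E F V' (resS (O := Y.sheaf) E h (e k)) (s k)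
  have h2 : (toPMMap (un f E)).app (op V') (resS (O := Y.sheaf) E h (e k)) =
      resS (O := X.sheaf) ((plb f).obj E) ((Opens.map f.base).map (homOfLE h)).le (pe f e k) :=
    PresheafOfModules.naturality_apply (toPMMap (un f E)) (homOfLE h).op (e k)
  rw [h2] at h1
  exact h1

/-- the projection morphism is bijective on sections over small opens -/
theorem proj_app_bijective (hb : ∀ (z : Y) (hz : z ∈ V), IsBasisAt (O := Y.sheaf) E V e z hz)
    {V' : Y.Opens} (h : V' ≤ V) :
    Function.Bijective ((toPMMap (proj f E F)).app (op V')) := by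
  have hY := theta_bijective (O := Y.sheaf) E ((psh f).obj F) e hb h
  have hX := theta_bijective (O := X.sheaf) ((plb f).obj E) F (pe f e)
    (isBasisAt_pe f e hb) ((Opens.map f.base).map (homOfLE h)).le
  constructor
  · intro a b hab
    obtain ⟨s, rfl⟩ := hY.2 a
    obtain ⟨s', rfl⟩ := hY.2 b
    have h1 := (proj_theta f e F h s).symm.trans (hab.trans (proj_theta f e F h s'))
    rw [hX.1 h1]
  · intro c
    obtain ⟨s, rfl⟩ := hX.2 c
    exact ⟨_, proj_theta f e F h s⟩

variable (E)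

lemma sm_proj_injective (hE : FlatMod.IsFinLocFree E) (y : Y) :
    Function.Injective (sm (toPMMap (proj f E F)) y) := by
  obtain ⟨V, hyV, ι, _, e, hb⟩ := exists_basis_sections E hE y
  rw [injective_iff_map_eq_zero]
  intro a ha
  obtain ⟨V₁, hyV₁, p, rfl⟩ := exists_gm_eq a
  have hle₁ : V₁ ⊓ V ≤ V₁ := inf_le_left
  have hle : V₁ ⊓ V ≤ V := inf_le_right
  have hy' : y ∈ V₁ ⊓ V := ⟨hyV₁, hyV⟩
  have hp : gm (toPM (tens E ((psh f).obj F))) y V₁ hyV₁ p =
      gm (toPM (tens E ((psh f).obj F))) y (V₁ ⊓ V) hy' (rs _ (homOfLE hle₁) p) :=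
    (gm_rs (homOfLE hle₁) hy' p).symm
  rw [hp] at ha ⊢
  rw [sm_gm] at ha
  have h0 : gm (toPM ((psh f).obj (tens ((plb f).obj E) F))) y (V₁ ⊓ V) hy'
      ((toPMMap (proj f E F)).app (op (V₁ ⊓ V)) (rs _ (homOfLE hle₁) p)) =
      gm (toPM ((psh f).obj (tens ((plb f).obj E) F))) y (V₁ ⊓ V) hy' 0 :=
    ha.trans (map_zero _).symm
  obtain ⟨V₂, hyV₂, i₁, i₂, hres⟩ := gm_eq hy' hy' _ _ h0
  have hnat := PresheafOfModules.naturality_apply (toPMMap (proj f E F)) i₁.op
    (rs _ (homOfLE hle₁) p)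
  have hz : (toPMMap (proj f E F)).app (op V₂) (rs _ i₁ (rs _ (homOfLE hle₁) p)) = 0 := by
    refine hnat.trans (hres.trans (map_zero _))
  have hz' : rs (toPM (tens E ((psh f).obj F))) i₁ (rs _ (homOfLE hle₁) p) = 0 :=
    (proj_app_bijective f e F hb (i₁.le.trans hle)).1 (hz.trans (map_zero _).symm)
  rw [← gm_rs i₁ hyV₂, hz', map_zero]

lemma sm_proj_surjective (hE : FlatMod.IsFinLocFree E) (y : Y) :
    Function.Surjective (sm (toPMMap (proj f E F)) y) := by
  obtain ⟨V, hyV, ι, _, e, hb⟩ := exists_basis_sections E hE y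
  intro b
  obtain ⟨V₁, hyV₁, q, rfl⟩ := exists_gm_eq b
  have hle₁ : V₁ ⊓ V ≤ V₁ := inf_le_left
  have hle : V₁ ⊓ V ≤ V := inf_le_right
  have hy' : y ∈ V₁ ⊓ V := ⟨hyV₁, hyV⟩
  obtain ⟨p, hp⟩ := (proj_app_bijective f e F hb hle).2 (rs _ (homOfLE hle₁) q)
  refine ⟨gm _ y (V₁ ⊓ V) hy' p, ?_⟩
  rw [sm_gm, hp, gm_rs]

/-- the projection morphism is an isomorphism for `E` finite locally free -/
theorem isIso_proj (hE : FlatMod.IsFinLocFree E) : IsIso (proj f E F) := by
  haveI : Mono (proj f E F) :=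
    Groth.Agent.Lib.Seat93.RSpBase.mono_of_sm_injective (O := Y.sheaf) (proj f E F)
      (fun y => sm_proj_injective f E F hE y)
  haveI : Epi (proj f E F) :=
    Groth.Agent.Lib.Seat93.RSpBase.epi_of_sm_surjective (O := Y.sheaf) (proj f E F)
      (fun y => sm_proj_surjective f E F hE y)
  exact isIso_of_mono_of_epi _

/-- the projection formula `E ⊗ f_*(-) ≅ f_*(f^*E ⊗ -)` for `E` finite locally free -/
noncomputable def projIso (hE : FlatMod.IsFinLocFree E) :
    psh f ⋙ DCoh.tensorBi.obj E ≅ DCoh.tensorBi.obj ((plb f).obj E) ⋙ psh f :=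
  NatIso.ofComponents (fun F => @asIso _ _ _ _ (proj f E F) (isIso_proj f E F hE))
    (fun g => proj_naturality f E g)

end Groth.Agent.Lib.Seat16.ProjFormula
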