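import Mathlib
import Groth.Prelude.Def_ProjUP
import Groth.Agent.Lib.Seat16InvAffine
import Groth.Agent.Lib.Helper27TwistAmple
import Groth.Agent.Lib.Helper27PullGen
import Groth.Agent.Lib.Helper23PB
import Groth.Agent.Lib.Helper27ProjCover

/-!
# Seat16: sections of projective space over an affine base and rank-one projective quotients
-/

set_option autoImplicit false
set_option linter.style.haveILetI false
universe u
open CategoryTheory Limits AlgebraicGeometry TopologicalSpace Opposite

namespace Groth.Agent.Lib.Seat16.ProjSec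

open Groth.Agent.Lib.Helper2.FlatOver Groth.Agent.Lib.Helper2.QCoh Groth.Agent.Lib.Helper2.LocFree
open Groth.Agent.Lib.Helper2.RankLoc Groth.Agent.Lib.Helper2.FPAff Groth.Agent.Lib.Helper2.SemiLocFree
open Groth.Agent.Lib.Helper23.SecTw Groth.Agent.Lib.Helper6
open Groth.Agent.Lib.Seat16.RingEquivRank Groth.Agent.Lib.Seat16.InvAffine

section SecR

variable (R : Type u) [CommRing R]

/-- the ring isomorphism `R → Γ(Spec R, ⊤)` as a ring hom. -/
noncomputable abbrev ρ : R →+* Γ(Spec (CommRingCat.of R), ⊤) :=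
  (Scheme.ΓSpecIso (CommRingCat.of R)).inv.hom

theorem ρ_bijective : Function.Bijective (ρ R) :=
  ConcreteCategory.bijective_of_isIso (Scheme.ΓSpecIso (CommRingCat.of R)).inv

variable {R}

/-- global sections of a module on `Spec R`, as an `R`-module through `R ≅ Γ(Spec R, ⊤)`. -/
def SecR (L : (Spec (CommRingCat.of R)).Modules) : Type u := Γ(L, ⊤)

noncomputable instance (L : (Spec (CommRingCat.of R)).Modules) : AddCommGroup (SecR L) :=
  inferInstanceAs (AddCommGroup Γ(L, ⊤))

noncomputable instance (L : (Spec (CommRingCat.of R)).Modules) : Module R (SecR L) :=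
  Module.compHom Γ(L, ⊤) (ρ R)

theorem secR_smul (L : (Spec (CommRingCat.of R)).Modules) (r : R) (x : Γ(L, ⊤)) :
    (r • (show SecR L from x) : SecR L) = (ρ R r • x : Γ(L, ⊤)) := rfl

theorem projective_secR (L : (Spec (CommRingCat.of R)).Modules) (hL : PicF.IsInvertible L) :
    Module.Projective R (SecR L) := by
  haveI := projective_sections (isAffineOpen_top (Spec (CommRingCat.of R))) L hL
  exact projective_compHom_of_bijective Γ(L, ⊤) (ρ R) (ρ_bijective R)

theorem rankAtStalk_secR (L : (Spec (CommRingCat.of R)).Modules) (hL : PicF.IsInvertible L)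
    (p : PrimeSpectrum R) : Module.rankAtStalk (SecR L) p = 1 := by
  have h := rankAtStalk_compHom_of_bijective Γ(L, ⊤) (ρ R) (ρ_bijective R) p
  rw [rankAtStalk_sections_eq_one (isAffineOpen_top (Spec (CommRingCat.of R))) L hL] at h
  exact h

theorem span_secR_eq_top (L : (Spec (CommRingCat.of R)).Modules) {ι : Type*} (t : ι → Γ(L, ⊤))
    (h : Submodule.span Γ(Spec (CommRingCat.of R), ⊤) (Set.range t) = ⊤) :
    Submodule.span R (Set.range fun i => (show SecR L from t i)) = ⊤ := by
  have key : ∀ z : Γ(L, ⊤), z ∈ Submodule.span Γ(Spec (CommRingCat.of R), ⊤) (Set.range t) →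
      (show SecR L from z) ∈ Submodule.span R (Set.range fun i => (show SecR L from t i)) := by
    intro z hz
    induction hz using Submodule.span_induction with
    | mem z hz =>
      obtain ⟨i, rfl⟩ := hz
      exact Submodule.subset_span ⟨i, rfl⟩
    | zero => exact Submodule.zero_mem _
    | add a b _ _ ha hb => exact Submodule.add_mem _ ha hb
    | smul c a _ ha =>
      obtain ⟨r, rfl⟩ := (ρ_bijective R).2 c
      exact Submodule.smul_mem _ r ha
  rw [eq_top_iff]
  intro y _
  exact key y (by rw [h]; trivial)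

/-- `M ≃ Γ(M^~, ⊤)` as `R`-modules. -/
noncomputable def tildeSecEquiv (M : ModuleCat.{u} (CommRingCat.of R)) : M ≃ₗ[R] SecR (tilde M) :=
  { toFun := fun m => (tilde.toOpen M ⊤).hom m
    map_add' := fun a b => map_add _ a b
    map_smul' := fun r m => by
      have h1 : (tilde.toOpen M ⊤).hom (r • m) = r • (tilde.toOpen M ⊤).hom m := map_smul _ r m
      refine h1.trans ?_
      have h2 := Scheme.Modules.smul_Spec_def (M := tilde M) (U := ⊤) r ((tilde.toOpen M ⊤).hom m)
      refine h2.trans ?_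
      have h : (⊤ : (Spec (CommRingCat.of R)).Opens).leTop.op = 𝟙 _ := rfl
      rw [h, (Spec (CommRingCat.of R)).presheaf.map_id]
      rfl
    invFun := fun x => (tilde.isoTop M).inv.hom x
    left_inv := fun m => by
      change ((tilde.isoTop M).hom ≫ (tilde.isoTop M).inv).hom m = m
      rw [Iso.hom_inv_id]; rfl
    right_inv := fun x => by
      change ((tilde.isoTop M).inv ≫ (tilde.isoTop M).hom).hom x = x
      rw [Iso.inv_hom_id]; rfl }

theorem tildeSecEquiv_apply (M : ModuleCat.{u} (CommRingCat.of R)) (m : M) :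
    tildeSecEquiv M m = (tilde.toOpen M ⊤).hom m := rfl

/-- the module associated with a finite projective module of rank one is invertible. -/
theorem isInvertible_tilde (M : ModuleCat.{u} (CommRingCat.of R)) [Module.Finite R M]
    [Module.Projective R M] (h1 : ∀ p : PrimeSpectrum R, Module.rankAtStalk M p = 1) :
    PicF.IsInvertible (tilde M) := by
  have hX : IsAffineOpen (⊤ : (Spec (CommRingCat.of R)).Opens) := isAffineOpen_top _
  have hlf : FlatMod.IsFinLocFree (tilde M) :=
    (isFinLocFree_tilde_iff (CommRingCat.of R) M).2 ⟨inferInstance, inferInstance⟩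
  intro x
  obtain ⟨U, n, hxU, ⟨e⟩⟩ := hlf x
  have hn : n = 1 := by
    obtain ⟨hfree, hrk⟩ := fibreRank_eq_of_restrict_iso_freeMod U.ι (tilde M) e ⟨x, hxU⟩
    haveI : Module.Free ((Spec (CommRingCat.of R)).presheaf.stalk x) ((tilde M).presheaf.stalk x) := hfree
    have h2 : Module.finrank ((Spec (CommRingCat.of R)).presheaf.stalk x) ((tilde M).presheaf.stalk x) = n := by
      rw [← hrk]
      exact (Module.finrank_baseChange
        (R := IsLocalRing.ResidueField ((Spec (CommRingCat.of R)).presheaf.stalk x))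
        (S := (Spec (CommRingCat.of R)).presheaf.stalk x) (M' := (tilde M).presheaf.stalk x)).symm
    have h3 := rankAtStalk_sections (tilde M) hX x trivial
    set q := hX.primeIdealOf ⟨x, trivial⟩ with hq
    let ψ : R ≃+* Γ(Spec (CommRingCat.of R), ⊤) := RingEquiv.ofBijective (ρ R) (ρ_bijective R)
    have h4 := rankAtStalk_compHom_of_bijective Γ(tilde M, ⊤) (ρ R) (ρ_bijective R)
      (PrimeSpectrum.comap (ψ : R →+* Γ(Spec (CommRingCat.of R), ⊤)) q)
    rw [primeMap_comap ψ q, h3, h2] at h4
    have h5 := Module.rankAtStalk_eq_of_equiv (tildeSecEquiv M)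
    have h6 := congrFun h5 (PrimeSpectrum.comap (ψ : R →+* Γ(Spec (CommRingCat.of R), ⊤)) q)
    rw [h1] at h6
    exact h4.symm.trans h6.symm
  subst hn
  exact ⟨U, hxU, ⟨e ≪≫ Limits.coproductUniqueIso
    (fun _ : Fin 1 => Coh.structureModule (↑U : Scheme.{u}))⟩⟩

end SecR

section Gen

open Groth.Agent.Helper13PullbackUnit Groth.Agent.Lib.Helper27PullGen

variable {X Y : Scheme.{u}}

/-- global sections which are local generators near every point generate. -/
theorem generatedBy_of_isGen (L : X.Modules) {ι : Type*} (t : ι → Γ(L, ⊤))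
    (h : ∀ x : X, ∃ (i : ι) (W : X.Opens), x ∈ W ∧ IsGen L W (res L le_top (t i))) :
    ProjUP.GeneratedBy L t := by
  intro x
  rw [eq_top_iff]
  intro z _
  obtain ⟨i, W, hxW, hgen⟩ := h x
  obtain ⟨V, hxV, m, rfl⟩ := L.presheaf.exists_germ_eq z
  have hxV' : x ∈ V ⊓ W := ⟨hxV, hxW⟩
  obtain ⟨r, hr⟩ := (hgen (V ⊓ W) inf_le_right).2 (res L inf_le_left m)
  have hr' : r • res L (le_top : V ⊓ W ≤ ⊤) (t i) = res L inf_le_left m := by
    rw [← hr]
    change _ = r • res L inf_le_right (res L le_top (t i))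
    rw [res_res]
  have h1 : L.presheaf.germ V x hxV m = L.presheaf.germ (V ⊓ W) x hxV' (res L inf_le_left m) :=
    (TopCat.Presheaf.germ_res_apply L.presheaf (homOfLE inf_le_left) x hxV' m).symm
  have h2 : L.presheaf.germ (V ⊓ W) x hxV' (res L (le_top : V ⊓ W ≤ ⊤) (t i)) =
      L.presheaf.germ ⊤ x trivial (t i) :=
    TopCat.Presheaf.germ_res_apply L.presheaf (homOfLE (le_top : V ⊓ W ≤ ⊤)) x hxV' _
  rw [h1, ← hr', Groth.Agent.Lib.Helper2.QCoh.germ_smul, h2]
  exact Submodule.smul_mem _ _ (Submodule.subset_span ⟨i, rfl⟩)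

/-- on a scheme whose top open is affine, global sections spanning `Γ(L, ⊤)` generate the
quasi-coherent module `L`. -/
theorem generatedBy_of_span_eq_top (hX : IsAffineOpen (⊤ : X.Opens)) (L : X.Modules)
    [L.IsQuasicoherent] {ι : Type*} (t : ι → Γ(L, ⊤))
    (h : Submodule.span Γ(X, ⊤) (Set.range t) = ⊤) : ProjUP.GeneratedBy L t := by
  intro x
  rw [eq_top_iff]
  intro z _
  have key : ∀ m : Γ(L, ⊤), m ∈ Submodule.span Γ(X, ⊤) (Set.range t) →
      L.presheaf.germ ⊤ x trivial m ∈ Submodule.span (X.presheaf.stalk x)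
        (Set.range fun i => (L.presheaf.germ ⊤ x trivial).hom (t i)) := by
    intro m hm0
    induction hm0 using Submodule.span_induction with
    | mem a ha =>
      obtain ⟨i, rfl⟩ := ha
      exact Submodule.subset_span ⟨i, rfl⟩
    | zero => rw [map_zero]; exact Submodule.zero_mem _
    | add a b _ _ ha hb => rw [map_add]; exact Submodule.add_mem _ ha hb
    | smul c a _ ha =>
      rw [Groth.Agent.Lib.Helper2.QCoh.germ_smul]
      exact Submodule.smul_mem _ _ ha
  obtain ⟨s, m, hxs, hsm⟩ := exists_smul_eq_germ hX L x trivial z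
  have hu : IsUnit (X.presheaf.germ ⊤ x trivial s) := (Scheme.mem_basicOpen X s x trivial).1 hxs
  have hm := key m (by rw [h]; trivial)
  obtain ⟨u, hu'⟩ := hu
  have hz : z = ((u⁻¹ : (X.presheaf.stalk x)ˣ) : X.presheaf.stalk x) • L.presheaf.germ ⊤ x trivial m := by
    rw [← hsm, ← hu', smul_smul, Units.inv_mul, one_smul]
  rw [hz]
  exact Submodule.smul_mem _ _ hm

theorem unitSec_top (f : X ⟶ Y) (F : Y.Modules) (x : ProjUP.Γm F) :
    unitSec f F (le_top : (⊤ : X.Opens) ≤ f ⁻¹ᵁ ⊤) x = ProjUP.pullSec f F x := by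
  rw [unitSec_apply]
  exact res_self ((Scheme.Modules.pullback f).obj F) (ProjUP.pullSec f F x)

/-- pull-backs of global sections which are local generators near every point are again such. -/
theorem isGen_pullSec (f : X ⟶ Y) (M : Y.Modules) [M.IsQuasicoherent] {ι : Type*} (t : ι → Γ(M, ⊤))
    (h : ∀ y : Y, ∃ (i : ι) (W : Y.Opens), y ∈ W ∧ IsGen M W (res M le_top (t i))) (x : X) :
    ∃ (i : ι) (W' : X.Opens), x ∈ W' ∧ IsGen ((Scheme.Modules.pullback f).obj M) W'
      (res ((Scheme.Modules.pullback f).obj M) le_top (ProjUP.pullSec f M (t i))) := by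
  obtain ⟨i, W, hyW, hgen⟩ := h (f x)
  refine ⟨i, f ⁻¹ᵁ W, hyW, ?_⟩
  have h1 := isGen_pullback f M W _ hgen
  have h2 : res ((Scheme.Modules.pullback f).obj M) (le_top : f ⁻¹ᵁ W ≤ ⊤) (ProjUP.pullSec f M (t i)) =
      unitSec f M (le_refl (f ⁻¹ᵁ W)) (res M le_top (t i)) := by
    rw [← unitSec_top]
    exact Groth.Agent.Lib.Helper23.PB.res_unitSec f M (le_top : (⊤ : X.Opens) ≤ f ⁻¹ᵁ ⊤)
      (le_refl (f ⁻¹ᵁ W)) (le_top : W ≤ ⊤) (le_top : f ⁻¹ᵁ W ≤ ⊤) (t i)
  rw [h2]
  exact h1

end Gen

section Coord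

open Groth.Agent.Lib.Helper27GrTildeSect

variable (n : ℕ) (R : Type u) [CommRing R]

theorem isQuasicoherent_twistProjSpace (d : ℤ) : (Twist.twistProjSpace n R d).IsQuasicoherent :=
  isQuasicoherent_tilde (CohB1.polyGrading n R) (CohB1.polyGrading n R) d

/-- the coordinates are local generators of `O(1)` near every point of projective space. -/
theorem isGen_coord (y : CohB1.ProjSpace n R) :
    ∃ (i : Fin (n + 1)) (W : (CohB1.ProjSpace n R).Opens), y ∈ W ∧
      IsGen (Twist.twistProjSpace n R 1) W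
        (res (Twist.twistProjSpace n R 1) le_top (ProjUP.coord n R i)) := by
  obtain ⟨i, -, hi⟩ := Groth.Agent.Lib.Helper27ProjCover.exists_not_mem (CohB1.polyGrading n R)
    (fun i : Fin (n + 1) => (MvPolynomial.X i : MvPolynomial (Fin (n + 1)) R)) (fun _ => 1)
    (fun i => MvPolynomial.isHomogeneous_X R i) MvPolynomial.adjoin_range_X
    (show ProjectiveSpectrum (CohB1.polyGrading n R) from y)
  refine ⟨i, Proj.basicOpen (CohB1.polyGrading n R) (MvPolynomial.X i),
    (ProjectiveSpectrum.mem_basicOpen (CohB1.polyGrading n R) (MvPolynomial.X i) y).mpr hi, ?_⟩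
  exact isGen_gsec (CohB1.polyGrading n R) 1 (MvPolynomial.isHomogeneous_X R i)

end Coord

end Groth.Agent.Lib.Seat16.ProjSec
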