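import Mathlib

/-!
# Seat16: descending a morphism of schemes along a surjective quotient morphism `h : U ⟶ V` with `O_V ≅ h_* O_U`
-/

set_option autoImplicit false
set_option linter.style.haveILetI false
universe u
open CategoryTheory CategoryTheory.Limits AlgebraicGeometry TopologicalSpace Opposite

namespace Groth.Agent.Lib.Seat16.QuotDesc

variable {U V W : Scheme.{u}} (h : U ⟶ V) (u : U ⟶ W)

/-- `h.app O` is an isomorphism when `h.c` is. -/
theorem isIso_app [IsIso h.c] (O : V.Opens) : IsIso (h.app O) :=
  inferInstanceAs (IsIso (h.c.app (op O)))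

section Desc

variable (vb : V.toTopCat ⟶ W.toTopCat) (hvb : h.base ≫ vb = u.base)

include hvb in
theorem preimage_eq (O : W.Opens) : h ⁻¹ᵁ ((Opens.map vb).obj O) = u ⁻¹ᵁ O := by
  ext x
  have : vb (h.base x) = u.base x := by
    rw [← hvb]; rfl
  simp only [Opens.map_coe, Set.mem_preimage, SetLike.mem_coe]
  rw [this]

/-- the component of the descended sheaf map -/
noncomputable def descApp [IsIso h.c] (O : W.Opens) : Γ(W, O) ⟶ Γ(V, (Opens.map vb).obj O) :=
  haveI := isIso_app h ((Opens.map vb).obj O)
  u.app O ≫ U.presheaf.map (eqToHom (preimage_eq h u vb hvb O)).op ≫ inv (h.app ((Opens.map vb).obj O))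

theorem descApp_comp [IsIso h.c] (O : W.Opens) :
    descApp h u vb hvb O ≫ h.app ((Opens.map vb).obj O) =
      u.app O ≫ U.presheaf.map (eqToHom (preimage_eq h u vb hvb O)).op := by
  haveI := isIso_app h ((Opens.map vb).obj O)
  simp [descApp]

/-- the descended morphism of presheafed spaces -/
noncomputable def descPsh [IsIso h.c] : V.toPresheafedSpace ⟶ W.toPresheafedSpace where
  base := vb
  c :=
    { app := fun O => descApp h u vb hvb O.unop
      naturality := by
        intro O O' i
        haveI := isIso_app h ((Opens.map vb).obj O'.unop)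
        rw [← cancel_mono (h.app ((Opens.map vb).obj O'.unop))]
        dsimp only [TopCat.Presheaf.pushforward_obj_map]
        rw [Category.assoc, Category.assoc, descApp_comp]
        have hn : V.presheaf.map ((Opens.map vb).map i.unop).op ≫ h.app ((Opens.map vb).obj O'.unop) =
            h.app ((Opens.map vb).obj O.unop) ≫
              U.presheaf.map ((Opens.map h.base).map ((Opens.map vb).map i.unop)).op :=
          h.c.naturality ((Opens.map vb).op.map i)
        rw [hn, ← Category.assoc (descApp h u vb hvb O.unop), descApp_comp]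
        have hu : W.presheaf.map i ≫ u.app O'.unop = u.app O.unop ≫
            U.presheaf.map ((Opens.map u.base).map i.unop).op := u.c.naturality i
        rw [← Category.assoc, hu, Category.assoc, Category.assoc, ← Functor.map_comp, ← Functor.map_comp]
        rfl }

/-- the triangle commutes at the level of presheafed spaces -/
theorem comp_descPsh [IsIso h.c] :
    (h.toLRSHom.toHom : U.toPresheafedSpace ⟶ V.toPresheafedSpace) ≫ descPsh h u vb hvb =
      u.toLRSHom.toHom := by
  refine PresheafedSpace.Hom.ext _ _ hvb ?_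
  refine NatTrans.ext (funext fun O => ?_)
  rw [NatTrans.comp_app, PresheafedSpace.comp_c_app]
  dsimp only [descPsh]
  have e := descApp_comp h u vb hvb O.unop
  change descApp h u vb hvb O.unop ≫ h.app ((Opens.map vb).obj O.unop) = _ at e
  change (descApp h u vb hvb O.unop ≫ h.app ((Opens.map vb).obj O.unop)) ≫ U.presheaf.map _ = u.app O.unop
  rw [e, Category.assoc]
  have : ∀ (A : (Opens U)ᵒᵖ) (f : A ⟶ A), U.presheaf.map f = 𝟙 _ := fun A f => by
    rw [Subsingleton.elim f (𝟙 A), CategoryTheory.Functor.map_id]
  erw [← CategoryTheory.Functor.map_comp, this, Category.comp_id]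

/-- locality of the descended map on stalks -/
theorem isLocalHom_descPsh [IsIso h.c] (hsurj : Function.Surjective h.base) (y : V) :
    IsLocalHom ((descPsh h u vb hvb).stalkMap y).hom := by
  obtain ⟨x, rfl⟩ := hsurj y
  have e1 := PresheafedSpace.stalkMap.congr_hom _ _ (comp_descPsh h u vb hvb) x
  rw [PresheafedSpace.stalkMap.comp] at e1
  have hu : IsLocalHom (u.toLRSHom.toHom.stalkMap x).hom := u.toLRSHom.prop x
  constructor
  intro a ha
  have h1 : IsUnit ((h.toLRSHom.toHom.stalkMap x).hom
      (((descPsh h u vb hvb).stalkMap (h.base x)).hom a)) := ha.map _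
  have e : W.presheaf.stalk (((h.toLRSHom.toHom : U.toPresheafedSpace ⟶ V.toPresheafedSpace) ≫
      descPsh h u vb hvb).base x) = W.presheaf.stalk (u.toLRSHom.toHom.base x) := by
    rw [comp_descPsh h u vb hvb]
  have h2 : (h.toLRSHom.toHom.stalkMap x).hom (((descPsh h u vb hvb).stalkMap (h.base x)).hom a) =
      (u.toLRSHom.toHom.stalkMap x).hom ((eqToHom e).hom a) :=
    congr($e1 a)
  rw [h2] at h1
  have h3 := hu.map_nonunit _ h1
  have h4 : IsUnit ((eqToHom e.symm).hom ((eqToHom e).hom a)) := h3.map _
  rwa [← CommRingCat.comp_apply, eqToHom_trans, eqToHom_refl, CommRingCat.id_apply] at h4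

/-- the descended morphism of schemes -/
noncomputable def desc [IsIso h.c] (hsurj : Function.Surjective h.base) : V ⟶ W :=
  ⟨⟨descPsh h u vb hvb, isLocalHom_descPsh h u vb hvb hsurj⟩⟩

theorem comp_desc [IsIso h.c] (hsurj : Function.Surjective h.base) :
    h ≫ desc h u vb hvb hsurj = u := by
  apply Scheme.Hom.ext'
  apply LocallyRingedSpace.Hom.ext'
  exact comp_descPsh h u vb hvb

end Desc

/-- a surjective morphism of presheafed spaces with `c` an isomorphism is an epimorphism -/
theorem psh_cancel {X Y Z : PresheafedSpace CommRingCat.{u}} (h : X ⟶ Y) [IsIso h.c]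
    (hs : Function.Surjective h.base) (v₁ v₂ : Y ⟶ Z) (e : h ≫ v₁ = h ≫ v₂) : v₁ = v₂ := by
  rcases v₁ with ⟨b₁, c₁⟩
  rcases v₂ with ⟨b₂, c₂⟩
  have hb : b₁ = b₂ := by
    ext y
    obtain ⟨x, rfl⟩ := hs y
    exact congr(($e).base x)
  subst hb
  congr 1
  refine NatTrans.ext (funext fun O => ?_)
  have h1 := PresheafedSpace.congr_app e O
  rw [PresheafedSpace.comp_c_app, PresheafedSpace.comp_c_app] at h1
  dsimp only at h1
  haveI : IsIso (h.c.app (op ((Opens.map b₁).obj O.unop))) := inferInstance
  rw [← cancel_mono (h.c.app (op ((Opens.map b₁).obj O.unop)))]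
  rw [h1]
  have : ∀ (A : (Opens X)ᵒᵖ) (f : A ⟶ A), X.presheaf.map f = 𝟙 _ := fun A f => by
    rw [Subsingleton.elim f (𝟙 A), CategoryTheory.Functor.map_id]
  erw [this, Category.comp_id]

end Groth.Agent.Lib.Seat16.QuotDesc
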