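import Mathlib
import Groth.Prelude.Def_ModSite2
import Groth.Agent.Lib.Seat93RSpBase
set_option backward.isDefEq.respectTransparency.types false

/-!
# Site-point stalks versus topological stalks on a ringed space (seat 93)

For a point `x` of a space `X`, the fibre at the point `Opens.pointGrothendieckTopology x` of the site of
opens is the usual stalk: `toTopAb`, `toTopRing` (bijective, compatible with germs).
-/

set_option autoImplicit false
universe u
open CategoryTheory CategoryTheory.Limits TopCat TopologicalSpace Opposite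

namespace Groth.Agent.Lib.Seat93.RSpPt

variable {X : TopCat.{u}} (x : X)

/-- the point of the site of opens given by `x` -/
abbrev pt : GrothendieckTopology.Point.{u} (Opens.grothendieckTopology X) := Opens.pointGrothendieckTopology x

/-- membership as an element of the fibre -/
def fib {U : Opens X} (hx : x ∈ U) : (pt x).fiber.obj U := ⟨⟨hx⟩⟩

section Ab

variable (P : (Opens X)ᵒᵖ ⥤ AddCommGrpCat.{u})

/-- comparison map from the fibre at the site point to the topological stalk -/
noncomputable def toTopAb : (pt x).presheafFiber.obj P ⟶ TopCat.Presheaf.stalk P x :=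
  (pt x).presheafFiberDesc (fun U hx => TopCat.Presheaf.germ P U x hx.down.down)
    (by intro U V f hx; exact TopCat.Presheaf.germ_res P f x _)

lemma toTopAb_germ {U : Opens X} (hx : x ∈ U) (s : P.obj (op U)) :
    (toTopAb x P).hom (((pt x).toPresheafFiber U (fib x hx) P).hom s) = (TopCat.Presheaf.germ P U x hx).hom s := by
  have := (pt x).toPresheafFiber_presheafFiberDesc
    (P := P) (fun U hx => TopCat.Presheaf.germ P U x hx.down.down)
    (by intro U V f hx; exact TopCat.Presheaf.germ_res P f x _) U (fib x hx)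
  exact ConcreteCategory.congr_hom this s

lemma toTopAb_bijective : Function.Bijective (toTopAb x P).hom := by
  constructor
  · intro a b hab
    obtain ⟨U, hx, z₁, z₂, rfl, rfl⟩ := (pt x).toPresheafFiber_jointly_surjective₂ a b
    obtain ⟨⟨hx⟩⟩ := hx
    have h1 := toTopAb_germ x P hx z₁
    have h2 := toTopAb_germ x P hx z₂
    have h3 : (TopCat.Presheaf.germ P U x hx).hom z₁ = (TopCat.Presheaf.germ P U x hx).hom z₂ :=
      h1.symm.trans (hab.trans h2)
    obtain ⟨W, hxW, i₁, i₂, e⟩ := TopCat.Presheaf.germ_eq P x hx hx z₁ z₂ h3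
    rw [(pt x).toPresheafFiber_eq_iff']
    refine ⟨W, i₁, fib x hxW, rfl, ?_⟩
    have : i₁ = i₂ := Subsingleton.elim _ _
    subst this
    exact e
  · intro c
    obtain ⟨U, hx, s, rfl⟩ := TopCat.Presheaf.exists_germ_eq P c
    exact ⟨_, toTopAb_germ x P hx s⟩

end Ab

section Ring

variable (P : (Opens X)ᵒᵖ ⥤ CommRingCat.{u})

/-- comparison map from the fibre at the site point to the topological stalk -/
noncomputable def toTopRing : (pt x).presheafFiber.obj P ⟶ TopCat.Presheaf.stalk P x :=
  (pt x).presheafFiberDesc (fun U hx => TopCat.Presheaf.germ P U x hx.down.down)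
    (by intro U V f hx; exact TopCat.Presheaf.germ_res P f x _)

lemma toTopRing_germ {U : Opens X} (hx : x ∈ U) (s : P.obj (op U)) :
    (toTopRing x P).hom (((pt x).toPresheafFiber U (fib x hx) P).hom s) = (TopCat.Presheaf.germ P U x hx).hom s := by
  have := (pt x).toPresheafFiber_presheafFiberDesc
    (P := P) (fun U hx => TopCat.Presheaf.germ P U x hx.down.down)
    (by intro U V f hx; exact TopCat.Presheaf.germ_res P f x _) U (fib x hx)
  exact ConcreteCategory.congr_hom this s

lemma toTopRing_bijective : Function.Bijective (toTopRing x P).hom := by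
  constructor
  · intro a b hab
    obtain ⟨U, hx, z₁, z₂, rfl, rfl⟩ := (pt x).toPresheafFiber_jointly_surjective₂ a b
    obtain ⟨⟨hx⟩⟩ := hx
    have h1 := toTopRing_germ x P hx z₁
    have h2 := toTopRing_germ x P hx z₂
    have h3 : (TopCat.Presheaf.germ P U x hx).hom z₁ = (TopCat.Presheaf.germ P U x hx).hom z₂ :=
      h1.symm.trans (hab.trans h2)
    obtain ⟨W, hxW, i₁, i₂, e⟩ := TopCat.Presheaf.germ_eq P x hx hx z₁ z₂ h3
    rw [(pt x).toPresheafFiber_eq_iff']
    refine ⟨W, i₁, fib x hxW, rfl, ?_⟩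
    have : i₁ = i₂ := Subsingleton.elim _ _
    subst this
    exact e
  · intro c
    obtain ⟨U, hx, s, rfl⟩ := TopCat.Presheaf.exists_germ_eq P c
    exact ⟨_, toTopRing_germ x P hx s⟩

end Ring

section Mod

open Groth.Agent.Lib.Helper1.StalkTensor Groth.Agent.Lib.Seat93.RSpBase

variable {O : TopCat.Sheaf CommRingCat.{u} X}

/-- the comparison map on stalks of modules -/
noncomputable def cmp (F : ModSite.Mod O) : ModSite.stalkAb (pt x) F → St (toPM F) x :=
  (toTopAb x F.val.presheaf).hom

/-- the comparison map on stalks of the structure sheaf -/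
noncomputable def cmpR (O : TopCat.Sheaf CommRingCat.{u} X) : ModSite.stalkRing (pt x) O → Ox O x :=
  (toTopRing x O.presheaf).hom

lemma cmp_germ (F : ModSite.Mod O) {U : Opens X} (hx : x ∈ U) (s : sec F U) :
    cmp x F (ModSite.germ (pt x) F U (fib x hx) s) = gm (toPM F) x U hx s :=
  toTopAb_germ x F.val.presheaf hx s

lemma cmpR_germ {U : Opens X} (hx : x ∈ U) (r : O.presheaf.obj (op U)) :
    cmpR x O (ModSite.germRing (pt x) U (fib x hx) r) = gr O.presheaf x U hx r :=
  toTopRing_germ x O.presheaf hx r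

lemma cmp_bijective (F : ModSite.Mod O) : Function.Bijective (cmp x F) :=
  toTopAb_bijective x F.val.presheaf

lemma cmpR_bijective : Function.Bijective (cmpR x O) :=
  toTopRing_bijective x O.presheaf

lemma exists_germ_eq (F : ModSite.Mod O) (a : ModSite.stalkAb (pt x) F) :
    ∃ (U : Opens X) (hx : x ∈ U) (s : sec F U), ModSite.germ (pt x) F U (fib x hx) s = a := by
  obtain ⟨U, ⟨⟨hx⟩⟩, z, rfl⟩ := (pt x).toPresheafFiber_jointly_surjective (P := (ModSite.toAb F).obj) a
  exact ⟨U, hx, z, rfl⟩

lemma exists_germRing_eq (r : ModSite.stalkRing (pt x) O) :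
    ∃ (U : Opens X) (hx : x ∈ U) (c : O.presheaf.obj (op U)), ModSite.germRing (pt x) U (fib x hx) c = r := by
  obtain ⟨U, ⟨⟨hx⟩⟩, z, rfl⟩ := (pt x).toPresheafFiber_jointly_surjective (P := O.obj) r
  exact ⟨U, hx, z, rfl⟩

lemma cmp_add (F : ModSite.Mod O) (a b : ModSite.stalkAb (pt x) F) :
    cmp x F (a + b) = cmp x F a + cmp x F b := map_add _ _ _

lemma cmp_zero (F : ModSite.Mod O) : cmp x F 0 = 0 := map_zero _

lemma cmpR_add (a b : ModSite.stalkRing (pt x) O) : cmpR x O (a + b) = cmpR x O a + cmpR x O b :=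
  map_add _ _ _

lemma cmpR_mul (a b : ModSite.stalkRing (pt x) O) : cmpR x O (a * b) = cmpR x O a * cmpR x O b :=
  map_mul _ _ _

lemma cmpR_one : cmpR x O 1 = 1 := map_one _

lemma cmpR_zero : cmpR x O 0 = 0 := map_zero _

lemma germ_res (F : ModSite.Mod O) {U W : Opens X} (i : W ⟶ U) (hx : x ∈ W) (s : sec F U) :
    ModSite.germ (pt x) F W (fib x hx) (F.val.map i.op s) = ModSite.germ (pt x) F U (fib x (i.le hx)) s :=
  (pt x).toPresheafFiber_w_apply i (fib x hx) (ModSite.toAb F).obj s

lemma germRing_res {U W : Opens X} (i : W ⟶ U) (hx : x ∈ W) (c : O.presheaf.obj (op U)) :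
    ModSite.germRing (pt x) W (fib x hx) (O.presheaf.map i.op c) =
      ModSite.germRing (pt x) U (fib x (i.le hx)) c :=
  (pt x).toPresheafFiber_w_apply i (fib x hx) O.obj c

lemma cmp_smul (F : ModSite.Mod O) (r : ModSite.stalkRing (pt x) O) (m : ModSite.stalkAb (pt x) F) :
    cmp x F (r • m) = cmpR x O r • cmp x F m := by
  obtain ⟨U, hxU, c, rfl⟩ := exists_germRing_eq x r
  obtain ⟨V, hxV, s, rfl⟩ := exists_germ_eq x F m
  have hxW : x ∈ U ⊓ V := ⟨hxU, hxV⟩
  rw [← germRing_res x (homOfLE (inf_le_left : U ⊓ V ≤ U)) hxW c,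
    ← germ_res x F (homOfLE (inf_le_right : U ⊓ V ≤ V)) hxW s, ← ModSite.germ_smul,
    cmp_germ, cmp_germ, cmpR_germ]
  exact gm_smul (P := toPM F) hxW _ _

lemma cmp_stalkMap {F G : ModSite.Mod O} (φ : F ⟶ G) (a : ModSite.stalkAb (pt x) F) :
    cmp x G ((ModSite.stalkMap (pt x) φ).hom a) = sm (toPMMap φ) x (cmp x F a) := by
  obtain ⟨U, hxU, s, rfl⟩ := exists_germ_eq x F a
  have nat : (ModSite.stalkMap (pt x) φ).hom (ModSite.germ (pt x) F U (fib x hxU) s) =
      ModSite.germ (pt x) G U (fib x hxU) ((φ.val.app (op U)).hom s) :=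
    (pt x).toPresheafFiber_naturality_apply ((SheafOfModules.toSheaf (ModSite.ringSh O)).map φ).hom U
      (fib x hxU) s
  rw [nat, cmp_germ, cmp_germ, sm_gm]
  rfl

end Mod

end Groth.Agent.Lib.Seat93.RSpPt
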