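import Mathlib
import Groth.Prelude.Def_ModSite2
import Groth.Agent.Lib.Seat16RSpPull
import Groth.Agent.Lib.Seat93RSpPt
set_option backward.isDefEq.respectTransparency.types false

/-!
# The stalk of the pulled-back structure sheaf `f⁻¹O_Y` on a ringed space (seat 16)

For `f : (X, O_X) → (Y, O_Y)` and `x : X`, the stalk at `x` of `f⁻¹O_Y` (site-point stalk) is `O_{Y, f x}`,
compatibly with `invSharp : f⁻¹O_Y ⟶ O_X` and the stalk map `stk`.
-/

set_option autoImplicit false
set_option linter.style.haveILetI false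
universe u
open CategoryTheory CategoryTheory.Limits TopCat TopologicalSpace Opposite

namespace Groth.Agent.Lib.Seat16.RSpInv

open Groth.Agent.Lib.Helper1.StalkTensor Groth.Agent.Lib.Seat93.RSpBase Groth.Agent.Lib.Seat93.RSpPt
open Groth.Agent.Lib.Seat16.RSpPull

section general

open GrothendieckTopology

variable {C D : Type u} [SmallCategory C] [SmallCategory D] {J : GrothendieckTopology C}
  {K : GrothendieckTopology D} (Φ : Point.{u} J) (F : D ⥤ C) [RepresentablyFlat F]
  (hF : CoverPreserving K J F) [InitiallySmall.{u} (F ⋙ Φ.fiber).Elements]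
  [Functor.IsContinuous F K J]

/-- the adjunction `F⁻¹ ⋙ fibre at Φ ⊣ skyscraper at Φ ⋙ F_*` on sheaves of rings -/
noncomputable abbrev gadj₁ :=
  (F.sheafAdjunctionContinuous CommRingCat.{u} K J).comp (Φ.skyscraperSheafAdjunction)

lemma gfibreIso_hom_eq :
    (Φ.sheafFiberComapIso F hF CommRingCat.{u}).hom =
      (conjugateEquiv (gadj₁ Φ F) (Φ.comap F hF).skyscraperSheafAdjunction).symm
      (Φ.skyscraperSheafFunctorCompSheafPushforwardContinuous F hF CommRingCat.{u}).hom := rfl

lemma gunit_fibreIso (G : Sheaf K CommRingCat.{u}) :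
    (Φ.comap F hF).skyscraperSheafAdjunction.unit.app G ≫
        (Φ.comap F hF).skyscraperSheafFunctor.map
          ((Φ.sheafFiberComapIso F hF CommRingCat.{u}).hom.app G) =
      (gadj₁ Φ F).unit.app G := by
  rw [gfibreIso_hom_eq]
  have := unit_conjugateEquiv_symm (gadj₁ Φ F) (Φ.comap F hF).skyscraperSheafAdjunction
    (Φ.skyscraperSheafFunctorCompSheafPushforwardContinuous F hF CommRingCat.{u}).hom G
  rw [← this]
  exact Category.comp_id _

variable (G : Sheaf K CommRingCat.{u}) (H : Sheaf J CommRingCat.{u})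
  (s : G ⟶ (F.sheafPushforwardContinuous CommRingCat.{u} K J).obj H)

/-- the adjunct of `s` -/
noncomputable abbrev gInv : (F.sheafPullback CommRingCat.{u} K J).obj G ⟶ H :=
  ((F.sheafAdjunctionContinuous CommRingCat.{u} K J).homEquiv G H).symm s

lemma gunit_comp_inv :
    (F.sheafAdjunctionContinuous CommRingCat.{u} K J).unit.app G ≫
      (F.sheafPushforwardContinuous CommRingCat.{u} K J).map (gInv F G H s) = s := by
  have h := (F.sheafAdjunctionContinuous CommRingCat.{u} K J).homEquiv_unit (X := G) (Y := H)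
      (f := gInv F G H s)
  rw [← h]
  exact Equiv.apply_symm_apply _ _

lemma gaux :
    (gadj₁ Φ F).unit.app G ≫ (Φ.skyscraperSheafFunctor ⋙
        F.sheafPushforwardContinuous CommRingCat.{u} K J).map (Φ.sheafFiber.map (gInv F G H s)) =
      s ≫ (F.sheafPushforwardContinuous CommRingCat.{u} K J).map
        (Φ.skyscraperSheafAdjunction.unit.app H) := by
  have hn : Φ.skyscraperSheafAdjunction.unit.app ((F.sheafPullback CommRingCat.{u} K J).obj G) ≫
          Φ.skyscraperSheafFunctor.map (Φ.sheafFiber.map (gInv F G H s)) =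
      gInv F G H s ≫ Φ.skyscraperSheafAdjunction.unit.app H :=
    (Φ.skyscraperSheafAdjunction.unit.naturality (gInv F G H s)).symm
  rw [Adjunction.comp_unit_app, Functor.comp_map, Category.assoc, ← Functor.map_comp,
    hn, Functor.map_comp, ← Category.assoc]
  exact congrArg (fun t => t ≫ (F.sheafPushforwardContinuous CommRingCat.{u} K J).map
        (Φ.skyscraperSheafAdjunction.unit.app H)) (gunit_comp_inv F G H s)

/-- the transpose of `fibreIso ≫ fibre of the adjunct` under the skyscraper adjunction at the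
inverse image point -/
lemma ghomEquiv :
    (Φ.comap F hF).skyscraperSheafAdjunction.homEquiv G _
        ((Φ.sheafFiberComapIso F hF CommRingCat.{u}).hom.app G ≫ Φ.sheafFiber.map (gInv F G H s)) =
      s ≫ (F.sheafPushforwardContinuous CommRingCat.{u} K J).map
        (Φ.skyscraperSheafAdjunction.unit.app H) := by
  have e1 : (Φ.comap F hF).skyscraperSheafAdjunction.homEquiv G _
        ((Φ.sheafFiberComapIso F hF CommRingCat.{u}).hom.app G ≫ Φ.sheafFiber.map (gInv F G H s)) =
      ((Φ.comap F hF).skyscraperSheafAdjunction.unit.app G ≫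
        (Φ.comap F hF).skyscraperSheafFunctor.map
          ((Φ.sheafFiberComapIso F hF CommRingCat.{u}).hom.app G)) ≫
        (Φ.comap F hF).skyscraperSheafFunctor.map (Φ.sheafFiber.map (gInv F G H s)) := by
    rw [Adjunction.homEquiv_unit, Functor.map_comp, Category.assoc]
  rw [e1, gunit_fibreIso]
  exact gaux Φ F G H s

omit [RepresentablyFlat F] [InitiallySmall.{u} (F ⋙ Φ.fiber).Elements] [Functor.IsContinuous F K J] in
lemma gunit_app_π (U : C) (y : Φ.fiber.obj U) :
    (Φ.skyscraperSheafAdjunction.unit.app H).hom.app (op U) ≫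
      Pi.π (fun _ : Φ.fiber.obj U => Φ.sheafFiber.obj H) y = Φ.toPresheafFiber U y H.obj := by
  have h3 : (Φ.skyscraperSheafAdjunction.unit.app H).hom =
      Φ.skyscraperPresheafHomEquiv (𝟙 (Φ.presheafFiber.obj H.obj)) := by
    rw [← Φ.skyscraperSheafAdjunction.homEquiv_id]
    exact Φ.skyscraperSheafAdjunction_homEquiv_apply_hom (𝟙 _)
  have h4 := Φ.skyscraperPresheafHomEquiv_app_π (𝟙 (Φ.presheafFiber.obj H.obj)) U y
  rw [Category.comp_id] at h4
  rw [h3]
  exact h4

/-- the composite `fibreIso ≫ fibre of the adjunct` on germs -/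
lemma gtoPresheafFiber (V : D) (y₀ : (Φ.comap F hF).fiber.obj V) :
    (Φ.comap F hF).toPresheafFiber V y₀ G.obj ≫
        ((Φ.sheafFiberComapIso F hF CommRingCat.{u}).hom.app G ≫ Φ.sheafFiber.map (gInv F G H s)) =
      s.hom.app (op V) ≫ Φ.toPresheafFiber (F.obj V) y₀ H.obj := by
  have h1 := (Φ.comap F hF).skyscraperPresheafHomEquiv_app_π
    ((Φ.sheafFiberComapIso F hF CommRingCat.{u}).hom.app G ≫ Φ.sheafFiber.map (gInv F G H s)) V y₀
  refine h1.symm.trans ?_
  have h2 : (Φ.comap F hF).skyscraperPresheafHomEquiv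
      ((Φ.sheafFiberComapIso F hF CommRingCat.{u}).hom.app G ≫ Φ.sheafFiber.map (gInv F G H s)) =
      (s ≫ (F.sheafPushforwardContinuous CommRingCat.{u} K J).map
        (Φ.skyscraperSheafAdjunction.unit.app H)).hom := by
    rw [← ghomEquiv Φ F hF G H s]
    exact ((Φ.comap F hF).skyscraperSheafAdjunction_homEquiv_apply_hom _).symm
  rw [h2]
  show (s.hom.app (op V) ≫ (Φ.skyscraperSheafAdjunction.unit.app H).hom.app (op (F.obj V))) ≫
    Pi.π (fun _ : Φ.fiber.obj (F.obj V) => Φ.sheafFiber.obj H) y₀ = _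
  exact (Category.assoc _ _ _).trans
    (congrArg (fun t => s.hom.app (op V) ≫ t) (gunit_app_π Φ H (F.obj V) y₀))

end general

variable {X Y : TopCat.{u}} (f : X ⟶ Y) (O_X : TopCat.Sheaf CommRingCat.{u} X)
  (O_Y : TopCat.Sheaf CommRingCat.{u} Y)
  (c : O_Y ⟶ ((TopologicalSpace.Opens.map f).sheafPushforwardContinuous CommRingCat.{u}
      (Opens.grothendieckTopology Y) (Opens.grothendieckTopology X)).obj O_X)
  (x : X)

instance : InitiallySmall.{u} (Opens.map f ⋙ (Opens.pointGrothendieckTopology x).fiber).Elements :=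
  initiallySmall_of_essentiallySmall _

/-- the point `f x` is the inverse image of the point `x` -/
lemma comap_pt : ((pt x).comap (Opens.map f) (coverPreserving_opens_map f)) = pt (f x) := rfl

/-- the adjunction `f⁻¹ ⋙ fibre at x ⊣ skyscraper at x ⋙ f_*` on sheaves of rings -/
noncomputable abbrev adj₁ :=
  ((Opens.map f).sheafAdjunctionContinuous CommRingCat.{u} (Opens.grothendieckTopology Y)
    (Opens.grothendieckTopology X)).comp (pt x).skyscraperSheafAdjunction

/-- the fibre of `f⁻¹` of a sheaf of rings at `x` is the fibre at `f x` -/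
noncomputable def fibreIso :
    (pt (f x)).sheafFiber (A := CommRingCat.{u}) ≅
      (Opens.map f).sheafPullback CommRingCat.{u} (Opens.grothendieckTopology Y)
        (Opens.grothendieckTopology X) ⋙ (pt x).sheafFiber :=
  (pt x).sheafFiberComapIso (Opens.map f) (coverPreserving_opens_map f) CommRingCat.{u}

/-- the push functor on sheaves of rings -/
noncomputable abbrev pushR :=
  (Opens.map f).sheafPushforwardContinuous CommRingCat.{u} (Opens.grothendieckTopology Y)
    (Opens.grothendieckTopology X)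

/-- the fibre at `x` of `invSharp`, precomposed with `fibreIso` : the map `O_{Y, f x} → O_{X, x}` on
site-point stalks -/
noncomputable def stkS : (pt (f x)).sheafFiber.obj O_Y ⟶ (pt x).sheafFiber.obj O_X :=
  (fibreIso f x).hom.app O_Y ≫ (pt x).sheafFiber.map (ff f O_X O_Y c).invSharp

/-- the transpose of `stkS` under the skyscraper adjunction at `f x` -/
lemma homEquiv_stkS :
    (pt (f x)).skyscraperSheafAdjunction.homEquiv O_Y _ (stkS f O_X O_Y c x) =
      c ≫ (pushR f).map ((pt x).skyscraperSheafAdjunction.unit.app O_X) :=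
  ghomEquiv (pt x) (Opens.map f) (coverPreserving_opens_map f) O_Y O_X c

/-- `stkS` on germs, categorically -/
lemma toPresheafFiber_stkS (V : Opens Y) (y₀ : (pt (f x)).fiber.obj V) :
    (pt (f x)).toPresheafFiber V y₀ O_Y.obj ≫ stkS f O_X O_Y c x =
      c.hom.app (op V) ≫ (pt x).toPresheafFiber ((Opens.map f).obj V) y₀ O_X.obj :=
  gtoPresheafFiber (pt x) (Opens.map f) (coverPreserving_opens_map f) O_Y O_X c V y₀

/-- `stkS` on germs -/
lemma stkS_germRing (V : Opens Y) (hy : f x ∈ V) (r : O_Y.presheaf.obj (op V)) :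
    (stkS f O_X O_Y c x).hom (ModSite.germRing (pt (f x)) V (fib (f x) hy) r) =
      ModSite.germRing (pt x) ((Opens.map f).obj V) (fib x hy) (cApp f O_X O_Y c V r) :=
  ConcreteCategory.congr_hom (toPresheafFiber_stkS f O_X O_Y c x V (fib (f x) hy)) r

/-- `stkS` is the stalk map `stk` under the comparison with topological stalks -/
lemma cmpR_stkS (t : ModSite.stalkRing (pt (f x)) O_Y) :
    cmpR x O_X ((stkS f O_X O_Y c x).hom t) = (stk f O_X O_Y c x).hom (cmpR (f x) O_Y t) := by
  obtain ⟨V, hy, r, rfl⟩ := exists_germRing_eq (f x) t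
  rw [stkS_germRing, cmpR_germ, cmpR_germ, stk_gr]

/-- flatness transfers along a semilinear bijection over a ring isomorphism -/
theorem flat_of_semilinear {R R' M M' : Type u} [CommRing R] [CommRing R'] [AddCommGroup M]
    [AddCommGroup M'] [Module R M] [Module R' M'] (e : R ≃+* R') (φ : M ≃+ M')
    (h : ∀ (r : R) (m : M), φ (r • m) = e r • φ m) (hM : Module.Flat R M) : Module.Flat R' M' := by
  letI : Module R M' := Module.compHom M' (e : R →+* R')
  have hsm : ∀ (r : R) (m : M'), r • m = e r • m := fun _ _ => rfl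
  let ψ : M ≃ₗ[R] M' := { φ with map_smul' := fun r m => h r m }
  haveI h1 : Module.Flat R M' := Module.Flat.of_linearEquiv ψ.symm
  letI : Algebra R' R := (e.symm : R' →+* R).toAlgebra
  have halg : ∀ (r' : R') (r : R), r' • r = e.symm r' * r := fun _ _ => rfl
  haveI : IsScalarTower R' R M' := ⟨fun r' r m => by
    rw [hsm, hsm, halg, map_mul, RingEquiv.apply_symm_apply, mul_smul]⟩
  let e' : R ≃ₗ[R'] R' := { e with
    map_smul' := fun r' r => by
      change e (r' • r) = r' * e r
      rw [halg, map_mul, RingEquiv.apply_symm_apply] }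
  haveI : Module.Flat R' R := Module.Flat.of_linearEquiv e'
  exact Module.Flat.trans R' R M'

/-- the ring isomorphism between the site-point stalk and the topological stalk -/
noncomputable def cmpREquiv (O : TopCat.Sheaf CommRingCat.{u} X) (x : X) :
    ModSite.stalkRing (pt x) O ≃+* Ox O x :=
  RingEquiv.ofBijective (toTopRing x O.presheaf).hom (cmpR_bijective x)

/-- the additive isomorphism between the site-point stalk and the topological stalk -/
noncomputable def cmpEquiv {O : TopCat.Sheaf CommRingCat.{u} X} (F : ModSite.Mod O) (x : X) :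
    ModSite.stalkAb (pt x) F ≃+ St (toPM F) x :=
  AddEquiv.ofBijective (toTopAb x F.val.presheaf).hom (cmp_bijective x F)

/-- the ring isomorphism `(f⁻¹O_Y)_x ≃ O_{Y, f x}` -/
noncomputable def invRingEquiv :
    ModSite.stalkRing (pt x) (ff f O_X O_Y c).invRing ≃+* Ox O_Y (f x) :=
  (((fibreIso f x).app O_Y).symm.commRingCatIsoToRingEquiv).trans (cmpREquiv O_Y (f x))

lemma cmpR_invSharp (s' : ModSite.stalkRing (pt x) (ff f O_X O_Y c).invRing) :
    cmpR x O_X (((pt x).sheafFiber.map (ff f O_X O_Y c).invSharp).hom s') =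
      (stk f O_X O_Y c x).hom (invRingEquiv f O_X O_Y c x s') := by
  have h1 : ((fibreIso f x).hom.app O_Y).hom (((fibreIso f x).inv.app O_Y).hom s') = s' :=
    ConcreteCategory.congr_hom ((fibreIso f x).app O_Y).inv_hom_id s'
  have h2 := cmpR_stkS f O_X O_Y c x (((fibreIso f x).inv.app O_Y).hom s')
  have h3 : (stkS f O_X O_Y c x).hom (((fibreIso f x).inv.app O_Y).hom s') =
      ((pt x).sheafFiber.map (ff f O_X O_Y c).invSharp).hom s' := by
    change ((pt x).sheafFiber.map (ff f O_X O_Y c).invSharp).hom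
      (((fibreIso f x).hom.app O_Y).hom (((fibreIso f x).inv.app O_Y).hom s')) = _
    rw [h1]
  exact (congrArg (cmpR x O_X) h3).symm.trans h2

/-- flatness of `F_x` over `(f⁻¹O_Y)_x` (site-point stalks) gives flatness over `O_{Y, f x}`
(topological stalks) through the stalk map -/
theorem flat_over_base (F : ModSite.Mod O_X)
    (hF : @Module.Flat (ModSite.stalkRing (pt x) (ff f O_X O_Y c).invRing)
      (ModSite.stalkAb (pt x) F) _ _
      (Module.compHom (ModSite.stalkAb (pt x) F)
        ((pt x).sheafFiber.map (ff f O_X O_Y c).invSharp).hom)) :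
    @Module.Flat (Ox O_Y (f x)) (St (toPM F) x) _ _
      (Module.compHom (St (toPM F) x) (stk f O_X O_Y c x).hom) := by
  letI m1 : Module (ModSite.stalkRing (pt x) (ff f O_X O_Y c).invRing) (ModSite.stalkAb (pt x) F) :=
    Module.compHom (ModSite.stalkAb (pt x) F) ((pt x).sheafFiber.map (ff f O_X O_Y c).invSharp).hom
  letI m2 : Module (Ox O_Y (f x)) (St (toPM F) x) :=
    Module.compHom (St (toPM F) x) (stk f O_X O_Y c x).hom
  refine flat_of_semilinear (invRingEquiv f O_X O_Y c x) (cmpEquiv F x) (fun r m => ?_) hF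
  change cmp x F ((((pt x).sheafFiber.map (ff f O_X O_Y c).invSharp).hom r) • m) =
    (stk f O_X O_Y c x).hom (invRingEquiv f O_X O_Y c x r) • cmp x F m
  rw [cmp_smul, cmpR_invSharp]

end Groth.Agent.Lib.Seat16.RSpInv
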