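import Mathlib

/-!
# Sequence modules with commuting degree-one operators (seat 16)

Pure Mathlib.  A *sequence module* over a commutative ring `A` is a family `M k` (`k : ℕ`) of `A`-modules
together with `s` commuting `A`-linear operators `T i k : M k → M (k+1)`; this is the same as an
`ℕ`-graded module over the polynomial ring `A[X_1..X_s]`.

* `EvGen T`: eventually `M (k+1) = ∑ i, T i k (M k)`.
* `EvGenSub T S`: the same for a family of submodules `S k ≤ M k` stable under the operators.
* `evGenSub_of_evGen` (**Hilbert basis theorem** in this language): over a Noetherian ring, if all `M k`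
  are finite and `T` is eventually generating, every stable family of submodules is eventually generated.
  (Proof: `⨁ k, M k` is a finite module over `MvPolynomial (Fin s) A`.)
* `evGen_of_exact` (**dévissage step**): the algebraic lemma behind the induction on the number of operators.
-/

set_option autoImplicit false
set_option linter.deprecated false
set_option linter.style.haveILetI false
universe u v

open DirectSum

namespace Groth.Agent.Lib.Seat16.SeqMod

section Basic

variable {A : Type u} [CommRing A] {s : ℕ} {M : ℕ → Type v} [∀ k, AddCommGroup (M k)]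
  [∀ k, Module A (M k)] (T : Fin s → ∀ k, M k →ₗ[A] M (k + 1))

/-- eventually generated: `M (k+1) = ∑ i, T i k (M k)` for `k ≥ d` -/
def EvGen : Prop :=
  ∃ d : ℕ, ∀ k : ℕ, d ≤ k → ∀ x : M (k + 1), ∃ y : Fin s → M k, x = ∑ i, T i k (y i)

/-- a family of submodules stable under the operators -/
def Stable (S : ∀ k, Submodule A (M k)) : Prop :=
  ∀ (i : Fin s) (k : ℕ) (x : M k), x ∈ S k → T i k x ∈ S (k + 1)

/-- eventually generated family of submodules -/
def EvGenSub (S : ∀ k, Submodule A (M k)) : Prop :=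
  ∃ d : ℕ, ∀ k : ℕ, d ≤ k → ∀ x ∈ S (k + 1), ∃ y : Fin s → M k, (∀ i, y i ∈ S k) ∧ x = ∑ i, T i k (y i)

theorem evGen_iff_evGenSub_top : EvGen T ↔ EvGenSub T (fun _ => ⊤) := by
  constructor
  · rintro ⟨d, hd⟩
    refine ⟨d, fun k hk x _ => ?_⟩
    obtain ⟨y, hy⟩ := hd k hk x
    exact ⟨y, fun _ => Submodule.mem_top, hy⟩
  · rintro ⟨d, hd⟩
    refine ⟨d, fun k hk x => ?_⟩
    obtain ⟨y, -, hy⟩ := hd k hk x Submodule.mem_top
    exact ⟨y, hy⟩

/-- the operator `T i` on the direct sum -/
noncomputable def τ (i : Fin s) : Module.End A (⨁ k, M k) :=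
  DirectSum.toModule A ℕ (⨁ k, M k) (fun k => (DirectSum.lof A ℕ M (k + 1)).comp (T i k))

theorem τ_lof (i : Fin s) (k : ℕ) (x : M k) :
    τ T i (DirectSum.lof A ℕ M k x) = DirectSum.lof A ℕ M (k + 1) (T i k x) := by
  unfold τ
  rw [DirectSum.toModule_lof]
  rfl

theorem τ_apply_succ (i : Fin s) (y : ⨁ k, M k) (k : ℕ) : (τ T i y) (k + 1) = T i k (y k) := by
  classical
  induction y using DirectSum.induction_on with
  | zero => simp
  | of k' x =>
    have h1 : (DirectSum.of M k' x) = DirectSum.lof A ℕ M k' x := rfl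
    rw [h1, τ_lof]
    by_cases h : k' = k
    · subst h
      rw [DirectSum.lof_apply, DirectSum.lof_apply]
    · have h' : k' + 1 ≠ k + 1 := fun e => h (Nat.succ_injective e)
      rw [DirectSum.lof_eq_of, DirectSum.lof_eq_of, DirectSum.of_eq_of_ne _ _ _ (Ne.symm h'),
        DirectSum.of_eq_of_ne _ _ _ (Ne.symm h), map_zero]
  | add a b ha hb =>
    rw [map_add, DirectSum.add_apply, DirectSum.add_apply, ha, hb, map_add]

theorem τ_apply_zero (i : Fin s) (y : ⨁ k, M k) : (τ T i y) 0 = 0 := by
  classical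
  induction y using DirectSum.induction_on with
  | zero => simp
  | of k' x =>
    have h1 : (DirectSum.of M k' x) = DirectSum.lof A ℕ M k' x := rfl
    rw [h1, τ_lof, DirectSum.lof_eq_of, DirectSum.of_eq_of_ne _ _ _ (Nat.succ_ne_zero k').symm]
  | add a b ha hb =>
    rw [map_add, DirectSum.add_apply, ha, hb, add_zero]

variable (hcomm : ∀ (i j : Fin s) (k : ℕ) (x : M k), T i (k + 1) (T j k x) = T j (k + 1) (T i k x))

include hcomm in
theorem τ_comm (i j : Fin s) : τ T i * τ T j = τ T j * τ T i := by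
  apply DirectSum.linearMap_ext
  intro k
  refine LinearMap.ext fun x => ?_
  change τ T i (τ T j (DirectSum.lof A ℕ M k x)) = τ T j (τ T i (DirectSum.lof A ℕ M k x))
  rw [τ_lof, τ_lof, τ_lof, τ_lof, hcomm]

end Basic

section PMod

variable {A : Type u} [CommRing A] {s : ℕ} {M : ℕ → Type v} [∀ k, AddCommGroup (M k)]
  [∀ k, Module A (M k)] (T : Fin s → ∀ k, M k →ₗ[A] M (k + 1))
  (hcomm : ∀ (i j : Fin s) (k : ℕ) (x : M k), T i (k + 1) (T j k x) = T j (k + 1) (T i k x))

/-- the subalgebra of endomorphisms of the direct sum generated by the operators -/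
abbrev commSub : Subalgebra A (Module.End A (⨁ k, M k)) := Algebra.adjoin A (Set.range (τ T))

include hcomm in
theorem commSub_comm : ∀ a ∈ Set.range (τ T), ∀ b ∈ Set.range (τ T), a * b = b * a := by
  rintro _ ⟨i, rfl⟩ _ ⟨j, rfl⟩
  exact τ_comm T hcomm i j

/-- the polynomial ring acts on the direct sum -/
noncomputable def toEnd : MvPolynomial (Fin s) A →+* Module.End A (⨁ k, M k) :=
  letI : CommRing (commSub T) := Algebra.adjoinCommRingOfComm A (commSub_comm T hcomm)
  ((commSub T).val : commSub T →+* Module.End A (⨁ k, M k)).comp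
    ((MvPolynomial.aeval (R := A)
      (fun i => (⟨τ T i, Algebra.subset_adjoin ⟨i, rfl⟩⟩ : commSub T))) :
        MvPolynomial (Fin s) A →+* commSub T)

theorem toEnd_X (i : Fin s) : toEnd T hcomm (MvPolynomial.X i) = τ T i := by
  letI : CommRing (commSub T) := Algebra.adjoinCommRingOfComm A (commSub_comm T hcomm)
  change ((commSub T).val : commSub T →+* Module.End A (⨁ k, M k))
    (MvPolynomial.aeval (R := A)
      (fun i => (⟨τ T i, Algebra.subset_adjoin ⟨i, rfl⟩⟩ : commSub T)) (MvPolynomial.X i)) = _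
  rw [MvPolynomial.aeval_X]
  rfl

theorem toEnd_C (a : A) : toEnd T hcomm (MvPolynomial.C a) = algebraMap A _ a := by
  letI : CommRing (commSub T) := Algebra.adjoinCommRingOfComm A (commSub_comm T hcomm)
  change ((commSub T).val : commSub T →+* Module.End A (⨁ k, M k))
    (MvPolynomial.aeval (R := A)
      (fun i => (⟨τ T i, Algebra.subset_adjoin ⟨i, rfl⟩⟩ : commSub T)) (MvPolynomial.C a)) = _
  rw [MvPolynomial.aeval_C]
  rfl

/-- the direct sum, as a module over the polynomial ring (type synonym) -/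
@[nolint unusedArguments]
def PM (T : Fin s → ∀ k, M k →ₗ[A] M (k + 1))
    (_ : ∀ (i j : Fin s) (k : ℕ) (x : M k), T i (k + 1) (T j k x) = T j (k + 1) (T i k x)) : Type v :=
  ⨁ k, M k

noncomputable instance : AddCommGroup (PM T hcomm) := inferInstanceAs (AddCommGroup (⨁ k, M k))

noncomputable instance : Module A (PM T hcomm) := inferInstanceAs (Module A (⨁ k, M k))

noncomputable instance pmModule : Module (MvPolynomial (Fin s) A) (PM T hcomm) :=
  Module.compHom (⨁ k, M k) (toEnd T hcomm)

theorem X_smul (i : Fin s) (y : PM T hcomm) :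
    ((MvPolynomial.X i : MvPolynomial (Fin s) A) • y : PM T hcomm) = τ T i y := by
  change toEnd T hcomm (MvPolynomial.X i) y = _
  rw [toEnd_X]

theorem C_smul (a : A) (y : PM T hcomm) :
    ((MvPolynomial.C a : MvPolynomial (Fin s) A) • y : PM T hcomm) = (a • y : PM T hcomm) := by
  change toEnd T hcomm (MvPolynomial.C a) y = _
  rw [toEnd_C]
  rfl

/-- an `A`-submodule of the direct sum stable under the operators is a submodule over the polynomial ring -/
def pSub (W : Submodule A (⨁ k, M k)) (hW : ∀ (i : Fin s) (y : ⨁ k, M k), y ∈ W → τ T i y ∈ W) :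
    Submodule (MvPolynomial (Fin s) A) (PM T hcomm) where
  carrier := {y | (show ⨁ k, M k from y) ∈ W}
  add_mem' := fun ha hb => W.add_mem ha hb
  zero_mem' := W.zero_mem
  smul_mem' := fun p y hy => by
    induction p using MvPolynomial.induction_on generalizing y with
    | C a =>
      rw [C_smul]
      exact W.smul_mem a hy
    | add p q hp hq =>
      rw [add_smul]
      exact W.add_mem (hp y hy) (hq y hy)
    | mul_X p i hp =>
      rw [mul_smul, X_smul]
      exact hp _ (hW i y hy)

theorem mem_pSub (W : Submodule A (⨁ k, M k)) (hW : ∀ (i : Fin s) (y : ⨁ k, M k), y ∈ W → τ T i y ∈ W)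
    (y : PM T hcomm) : y ∈ pSub T hcomm W hW ↔ (show ⨁ k, M k from y) ∈ W := Iff.rfl

end PMod

section HB

variable {A : Type u} [CommRing A] {s : ℕ} {M : ℕ → Type v} [∀ k, AddCommGroup (M k)]
  [∀ k, Module A (M k)] (T : Fin s → ∀ k, M k →ₗ[A] M (k + 1))
  (hcomm : ∀ (i j : Fin s) (k : ℕ) (x : M k), T i (k + 1) (T j k x) = T j (k + 1) (T i k x))

/-- `lof k x`, as an element of `PM` -/
noncomputable def inc (k : ℕ) (x : M k) : PM T hcomm := DirectSum.lof A ℕ M k x

theorem inc_add (k : ℕ) (x y : M k) : inc T hcomm k (x + y) = inc T hcomm k x + inc T hcomm k y :=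
  map_add (DirectSum.lof A ℕ M k) x y

theorem inc_zero (k : ℕ) : inc T hcomm k 0 = 0 := map_zero (DirectSum.lof A ℕ M k)

theorem inc_smul (k : ℕ) (a : A) (x : M k) :
    inc T hcomm k (a • x) = (MvPolynomial.C a : MvPolynomial (Fin s) A) • inc T hcomm k x := by
  rw [C_smul]
  exact map_smul (DirectSum.lof A ℕ M k) a x

theorem inc_T (k : ℕ) (i : Fin s) (x : M k) :
    inc T hcomm (k + 1) (T i k x) = (MvPolynomial.X i : MvPolynomial (Fin s) A) • inc T hcomm k x := by
  rw [X_smul]
  exact (τ_lof T i k x).symm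

theorem inc_sum (k : ℕ) {ι : Type*} (t : Finset ι) (f : ι → M k) :
    inc T hcomm k (∑ i ∈ t, f i) = ∑ i ∈ t, inc T hcomm k (f i) :=
  map_sum (DirectSum.lof A ℕ M k) f t

/-- the direct sum of an eventually generated sequence module with finite pieces is a finite module over the
polynomial ring -/
theorem finite_PM (hfin : ∀ k, Module.Finite A (M k)) (hgen : EvGen T) :
    Module.Finite (MvPolynomial (Fin s) A) (PM T hcomm) := by
  classical
  obtain ⟨d, hd⟩ := hgen
  choose g hg using fun k => (hfin k).fg_top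
  let G : Set (PM T hcomm) := ⋃ k ∈ Finset.range (d + 1), (inc T hcomm k) '' (g k : Set (M k))
  have hGfin : G.Finite :=
    Set.Finite.biUnion (Finset.finite_toSet _) fun k _ => (Finset.finite_toSet (g k)).image _
  let W : Submodule (MvPolynomial (Fin s) A) (PM T hcomm) := Submodule.span _ G
  have hlow : ∀ k, k ≤ d → ∀ x : M k, inc T hcomm k x ∈ W := by
    intro k hk x
    have hx : x ∈ Submodule.span A (g k : Set (M k)) := by rw [hg k]; exact Submodule.mem_top
    induction hx using Submodule.span_induction with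
    | mem x hx =>
      refine Submodule.subset_span ?_
      simp only [G, Set.mem_iUnion]
      exact ⟨k, Finset.mem_range.2 (Nat.lt_succ_of_le hk), x, hx, rfl⟩
    | zero => rw [inc_zero]; exact W.zero_mem
    | add x y _ _ hx hy => rw [inc_add]; exact W.add_mem hx hy
    | smul a x _ hx => rw [inc_smul]; exact W.smul_mem _ hx
  have hall : ∀ k, ∀ x : M k, inc T hcomm k x ∈ W := by
    intro k
    induction k with
    | zero => exact hlow 0 (Nat.zero_le d)
    | succ k ih =>
      intro x
      by_cases hk : k + 1 ≤ d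
      · exact hlow (k + 1) hk x
      · obtain ⟨y, rfl⟩ := hd k (by omega) x
        rw [inc_sum]
        refine W.sum_mem fun i _ => ?_
        rw [inc_T]
        exact W.smul_mem _ (ih (y i))
  have htop : W = ⊤ := by
    rw [eq_top_iff]
    intro y _
    change (show ⨁ k, M k from y) ∈ W.toAddSubmonoid
    induction (show ⨁ k, M k from y) using DirectSum.induction_on with
    | zero => exact W.zero_mem
    | of k x => exact hall k x
    | add a b ha hb => exact W.add_mem ha hb
  exact ⟨⟨hGfin.toFinset, by rw [Set.Finite.coe_toFinset]; exact htop⟩⟩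

/-- the `A`-submodule of the direct sum of elements with all components in `S` -/
def compSub (S : ∀ k, Submodule A (M k)) : Submodule A (⨁ k, M k) where
  carrier := {y | ∀ k, y k ∈ S k}
  add_mem' := fun ha hb k => by rw [DirectSum.add_apply]; exact (S k).add_mem (ha k) (hb k)
  zero_mem' := fun k => by rw [DirectSum.zero_apply]; exact (S k).zero_mem
  smul_mem' := fun a y hy k => by
    have : (a • y) k = a • y k := rfl
    rw [this]; exact (S k).smul_mem a (hy k)

theorem τ_mem_compSub {S : ∀ k, Submodule A (M k)} (hS : Stable T S) (i : Fin s) (y : ⨁ k, M k)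
    (hy : y ∈ compSub S) : τ T i y ∈ compSub S := by
  intro k
  cases k with
  | zero => rw [τ_apply_zero]; exact (S 0).zero_mem
  | succ k => rw [τ_apply_succ]; exact hS i k _ (hy k)

/-- the submodule `∑ i, T i k (S k)` of `M (k+1)` -/
def genSub (S : ∀ k, Submodule A (M k)) (k : ℕ) : Submodule A (M (k + 1)) where
  carrier := {x | ∃ y : Fin s → M k, (∀ i, y i ∈ S k) ∧ x = ∑ i, T i k (y i)}
  add_mem' := by
    rintro _ _ ⟨y, hy, rfl⟩ ⟨z, hz, rfl⟩
    refine ⟨fun i => y i + z i, fun i => (S k).add_mem (hy i) (hz i), ?_⟩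
    rw [← Finset.sum_add_distrib]
    exact Finset.sum_congr rfl fun i _ => (map_add _ _ _).symm
  zero_mem' := ⟨fun _ => 0, fun _ => (S k).zero_mem, by simp⟩
  smul_mem' := by
    rintro a _ ⟨y, hy, rfl⟩
    refine ⟨fun i => a • y i, fun i => (S k).smul_mem a (hy i), ?_⟩
    rw [Finset.smul_sum]
    exact Finset.sum_congr rfl fun i _ => (map_smul _ _ _).symm

theorem T_mem_genSub (S : ∀ k, Submodule A (M k)) (k : ℕ) (i : Fin s) (x : M k) (hx : x ∈ S k) :
    T i k x ∈ genSub T S k := by
  classical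
  refine ⟨fun j => if j = i then x else 0, fun j => ?_, ?_⟩
  · by_cases h : j = i
    · simp only [h, if_true]; exact hx
    · simp only [h, if_false]; exact (S k).zero_mem
  · rw [Finset.sum_eq_single i]
    · simp
    · intro j _ hj; simp [hj]
    · intro h; exact absurd (Finset.mem_univ i) h

include hcomm in
/-- **Hilbert basis theorem for sequence modules**: over a Noetherian ring, a stable family of submodules of an
eventually generated sequence module with finite pieces is eventually generated. -/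
theorem evGenSub_of_evGen [IsNoetherianRing A] (hfin : ∀ k, Module.Finite A (M k)) (hgen : EvGen T)
    (S : ∀ k, Submodule A (M k)) (hS : Stable T S) : EvGenSub T S := by
  classical
  haveI := finite_PM T hcomm hfin hgen
  haveI : IsNoetherian (MvPolynomial (Fin s) A) (PM T hcomm) := isNoetherian_of_isNoetherianRing_of_finite _ _
  let Ssub : Submodule (MvPolynomial (Fin s) A) (PM T hcomm) :=
    pSub T hcomm (compSub S) (τ_mem_compSub T hS)
  obtain ⟨F, hF⟩ : Ssub.FG := IsNoetherian.noetherian Ssub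
  -- a bound for the supports of the generators
  let d' : ℕ := F.sup fun y => (DFinsupp.support (show ⨁ k, M k from y)).sup id
  have hd' : ∀ y ∈ F, ∀ k, d' < k → (show ⨁ k, M k from y) k = 0 := by
    intro y hy k hk
    by_contra h
    have h1 : k ∈ DFinsupp.support (show ⨁ k, M k from y) := (DFinsupp.mem_support_iff).2 h
    have h2 : k ≤ (DFinsupp.support (show ⨁ k, M k from y)).sup id := Finset.le_sup (f := id) h1
    have h3 : (DFinsupp.support (show ⨁ k, M k from y)).sup id ≤ d' :=
      Finset.le_sup (f := fun y => (DFinsupp.support (show ⨁ k, M k from y)).sup id) hy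
    omega
  let W0 : Submodule A (⨁ k, M k) :=
    { carrier := {y | (∀ k, y k ∈ S k) ∧ ∀ k, d' ≤ k → y (k + 1) ∈ genSub T S k}
      add_mem' := fun ha hb => ⟨(compSub S).add_mem ha.1 hb.1, fun k hk => by
        rw [DirectSum.add_apply]; exact (genSub T S k).add_mem (ha.2 k hk) (hb.2 k hk)⟩
      zero_mem' := ⟨(compSub S).zero_mem, fun k _ => by
        rw [DirectSum.zero_apply]; exact (genSub T S k).zero_mem⟩
      smul_mem' := fun a y hy => ⟨(compSub S).smul_mem a hy.1, fun k hk => by
        have : (a • y) (k + 1) = a • y (k + 1) := rfl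
        rw [this]; exact (genSub T S k).smul_mem a (hy.2 k hk)⟩ }
  have hW0 : ∀ (i : Fin s) (y : ⨁ k, M k), y ∈ W0 → τ T i y ∈ W0 := by
    intro i y hy
    refine ⟨τ_mem_compSub T hS i y hy.1, fun k _ => ?_⟩
    rw [τ_apply_succ]
    exact T_mem_genSub T S k i _ (hy.1 k)
  let W : Submodule (MvPolynomial (Fin s) A) (PM T hcomm) := pSub T hcomm W0 hW0
  have hFS : ∀ y ∈ F, y ∈ Ssub := fun y hy => hF ▸ Submodule.subset_span hy
  have hle : Ssub ≤ W := by
    rw [← hF, Submodule.span_le]
    intro y hy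
    refine ⟨hFS y hy, fun k hk => ?_⟩
    have : (show ⨁ k, M k from y) (k + 1) = 0 := hd' y hy (k + 1) (by omega)
    rw [this]
    exact (genSub T S k).zero_mem
  refine ⟨d', fun k hk x hx => ?_⟩
  have h1 : inc T hcomm (k + 1) x ∈ Ssub := by
    intro j
    change (DirectSum.lof A ℕ M (k + 1) x) j ∈ S j
    by_cases hj : j = k + 1
    · subst hj
      rw [DirectSum.lof_apply]; exact hx
    · rw [DirectSum.lof_eq_of, DirectSum.of_eq_of_ne _ _ _ hj]
      exact (S j).zero_mem
  have h2 := (hle h1).2 k hk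
  change (DirectSum.lof A ℕ M (k + 1) x) (k + 1) ∈ genSub T S k at h2
  rw [DirectSum.lof_apply] at h2
  exact h2

end HB

section Devissage

variable {A : Type u} [CommRing A] {s : ℕ}

/-- a sequence module with no operators is eventually generated iff it is eventually zero -/
theorem evGen_zero_of_subsingleton {M : ℕ → Type v} [∀ k, AddCommGroup (M k)] [∀ k, Module A (M k)]
    (T : Fin 0 → ∀ k, M k →ₗ[A] M (k + 1)) (d : ℕ) (h : ∀ k, d ≤ k → Subsingleton (M (k + 1))) :
    EvGen T :=
  ⟨d, fun k hk x => ⟨fun i => i.elim0, by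
    haveI := h k hk
    exact Subsingleton.elim _ _⟩⟩

/-- **dévissage step**: `P` carries `s + 1` operators, the last one factors as `β ∘ α` through `U`, with
`ker δ = range α` (`δ : U → V`) and `ker γ = range β` (`γ : P (k+1) → W k`), everything compatible with the
first `s` operators; if `V` and `W` are eventually generated with finite pieces over the first `s` operators,
then `P` is eventually generated. -/
theorem evGen_of_exact [IsNoetherianRing A]
    {P U V W : ℕ → Type v}
    [∀ k, AddCommGroup (P k)] [∀ k, Module A (P k)] [∀ k, AddCommGroup (U k)] [∀ k, Module A (U k)]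
    [∀ k, AddCommGroup (V k)] [∀ k, Module A (V k)] [∀ k, AddCommGroup (W k)] [∀ k, Module A (W k)]
    (TP : Fin (s + 1) → ∀ k, P k →ₗ[A] P (k + 1))
    (TU : Fin s → ∀ k, U k →ₗ[A] U (k + 1))
    (TV : Fin s → ∀ k, V k →ₗ[A] V (k + 1))
    (TW : Fin s → ∀ k, W k →ₗ[A] W (k + 1))
    (hcommV : ∀ (i j : Fin s) (k : ℕ) (x : V k), TV i (k + 1) (TV j k x) = TV j (k + 1) (TV i k x))
    (hcommW : ∀ (i j : Fin s) (k : ℕ) (x : W k), TW i (k + 1) (TW j k x) = TW j (k + 1) (TW i k x))
    (hfinV : ∀ k, Module.Finite A (V k)) (hfinW : ∀ k, Module.Finite A (W k))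
    (hgenV : EvGen TV) (hgenW : EvGen TW)
    (α : ∀ k, P k →ₗ[A] U k) (β : ∀ k, U k →ₗ[A] P (k + 1)) (δ : ∀ k, U k →ₗ[A] V k)
    (γ : ∀ k, P (k + 1) →ₗ[A] W k)
    (hβα : ∀ k x, β k (α k x) = TP (Fin.last s) k x)
    (hexU : ∀ k u, δ k u = 0 → ∃ x, α k x = u)
    (hexP : ∀ k x, γ k x = 0 → ∃ u, β k u = x)
    (hβT : ∀ (i : Fin s) k u, β (k + 1) (TU i k u) = TP i.castSucc (k + 1) (β k u))
    (hδT : ∀ (i : Fin s) k u, δ (k + 1) (TU i k u) = TV i k (δ k u))
    (hγT : ∀ (i : Fin s) k x, γ (k + 1) (TP i.castSucc (k + 1) x) = TW i k (γ k x)) :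
    EvGen TP := by
  have hSW : Stable TW (fun k => LinearMap.range (γ k)) := by
    rintro i k _ ⟨x, rfl⟩
    exact ⟨TP i.castSucc (k + 1) x, hγT i k x⟩
  have hSV : Stable TV (fun k => LinearMap.range (δ k)) := by
    rintro i k _ ⟨u, rfl⟩
    exact ⟨TU i k u, hδT i k u⟩
  obtain ⟨d₁, hd₁⟩ := evGenSub_of_evGen TW hcommW hfinW hgenW _ hSW
  obtain ⟨d₂, hd₂⟩ := evGenSub_of_evGen TV hcommV hfinV hgenV _ hSV
  refine ⟨max d₁ d₂ + 1, fun k hk x => ?_⟩
  obtain ⟨k', rfl⟩ : ∃ k', k = k' + 1 := ⟨k - 1, by omega⟩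
  have hk1 : d₁ ≤ k' := by omega
  have hk2 : d₂ ≤ k' := by omega
  obtain ⟨w, hw, hxw⟩ := hd₁ k' hk1 (γ (k' + 1) x) ⟨x, rfl⟩
  choose p hp using hw
  have h1 : γ (k' + 1) (x - ∑ i, TP i.castSucc (k' + 1) (p i)) = 0 := by
    rw [map_sub, map_sum, hxw, sub_eq_zero]
    exact Finset.sum_congr rfl fun i _ => by rw [hγT, hp]
  obtain ⟨u, hu⟩ := hexP (k' + 1) _ h1
  obtain ⟨v, hv, huv⟩ := hd₂ k' hk2 (δ (k' + 1) u) ⟨u, rfl⟩
  choose q hq using hv
  have h2 : δ (k' + 1) (u - ∑ i, TU i k' (q i)) = 0 := by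
    rw [map_sub, map_sum, huv, sub_eq_zero]
    exact Finset.sum_congr rfl fun i _ => by rw [hδT, hq]
  obtain ⟨z, hz⟩ := hexU (k' + 1) _ h2
  refine ⟨Fin.snoc (fun i => p i + β k' (q i)) z, ?_⟩
  rw [Fin.sum_univ_castSucc]
  simp only [Fin.snoc_castSucc, Fin.snoc_last]
  have h3 : u = α (k' + 1) z + ∑ i, TU i k' (q i) := by rw [hz]; abel
  have h4 : x = β (k' + 1) u + ∑ i, TP i.castSucc (k' + 1) (p i) := by rw [hu]; abel
  rw [h4, h3, map_add, hβα, map_sum]
  simp only [map_add, Finset.sum_add_distrib, hβT]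
  abel

/-- the kernel of the last operator, with the first `s` operators, is eventually generated -/
theorem evGen_ker_last [IsNoetherianRing A]
    {M K : ℕ → Type v} [∀ k, AddCommGroup (M k)] [∀ k, Module A (M k)]
    [∀ k, AddCommGroup (K k)] [∀ k, Module A (K k)]
    (T : Fin (s + 1) → ∀ k, M k →ₗ[A] M (k + 1))
    (hcomm : ∀ (i j : Fin (s + 1)) (k : ℕ) (x : M k), T i (k + 1) (T j k x) = T j (k + 1) (T i k x))
    (hfin : ∀ k, Module.Finite A (M k)) (hgen : EvGen T)
    (TK : Fin s → ∀ k, K k →ₗ[A] K (k + 1))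
    (ι : ∀ k, K k →ₗ[A] M k) (hι : ∀ k, Function.Injective (ι k))
    (hιT : ∀ (i : Fin s) k y, ι (k + 1) (TK i k y) = T i.castSucc k (ι k y))
    (hι0 : ∀ k y, T (Fin.last s) k (ι k y) = 0)
    (hex : ∀ k x, T (Fin.last s) k x = 0 → ∃ y, ι k y = x) :
    EvGen TK := by
  have hS : Stable T (fun k => LinearMap.ker (T (Fin.last s) k)) := by
    intro i k x hx
    rw [LinearMap.mem_ker] at hx ⊢
    rw [hcomm, hx, map_zero]
  obtain ⟨d, hd⟩ := evGenSub_of_evGen T hcomm hfin hgen _ hS
  refine ⟨d, fun k hk x => ?_⟩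
  obtain ⟨y, hy, hxy⟩ := hd k hk (ι (k + 1) x) (by rw [LinearMap.mem_ker]; exact hι0 _ _)
  have hy' : ∀ i, ∃ z, ι k z = y i := fun i => hex k (y i) (hy i)
  choose z hz using hy'
  refine ⟨fun i => z i.castSucc, hι (k + 1) ?_⟩
  rw [hxy, Fin.sum_univ_castSucc, map_sum]
  have h0 : T (Fin.last s) k (y (Fin.last s)) = 0 := hy _
  rw [h0, add_zero]
  exact Finset.sum_congr rfl fun i _ => by rw [hιT, hz]

/-- the cokernel of the last operator, with the first `s` operators, is eventually generated -/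
theorem evGen_coker_last
    {M C : ℕ → Type v} [∀ k, AddCommGroup (M k)] [∀ k, Module A (M k)]
    [∀ k, AddCommGroup (C k)] [∀ k, Module A (C k)]
    (T : Fin (s + 1) → ∀ k, M k →ₗ[A] M (k + 1)) (hgen : EvGen T)
    (TC : Fin s → ∀ k, C k →ₗ[A] C (k + 1))
    (π : ∀ k, M (k + 1) →ₗ[A] C k) (hπ : ∀ k, Function.Surjective (π k))
    (hπT : ∀ (i : Fin s) k x, π (k + 1) (T i.castSucc (k + 1) x) = TC i k (π k x))
    (hπ0 : ∀ k y, π k (T (Fin.last s) k y) = 0) :
    EvGen TC := by
  obtain ⟨d, hd⟩ := hgen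
  refine ⟨d, fun k hk c => ?_⟩
  obtain ⟨x, rfl⟩ := hπ (k + 1) c
  obtain ⟨y, rfl⟩ := hd (k + 1) (by omega) x
  refine ⟨fun i => π k (y i.castSucc), ?_⟩
  rw [Fin.sum_univ_castSucc, map_add, map_sum, hπ0, add_zero]
  exact Finset.sum_congr rfl fun i _ => hπT i k _

end Devissage

end Groth.Agent.Lib.Seat16.SeqMod
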