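import Mathlib
import Groth.Prelude.Def_FSch5
import Groth.Agent.Lib.Helper14InvLim
import Groth.Agent.Lib.Helper22ThickAffine

/-!
# Sections of the structure sheaf of a formal system over opens (seat 17)
-/

set_option autoImplicit false
universe u v w
open CategoryTheory CategoryTheory.Limits AlgebraicGeometry TopologicalSpace Opposite

namespace Groth.Agent.Lib.Seat17.OshSec

section tower

/-- a family compatible along successors is a section of a functor on `ℕᵒᵖ`. -/
theorem compat_of_succ {F : ℕᵒᵖ ⥤ Type v} (y : ∀ n : ℕ, F.obj ⟨n⟩)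
    (hy : ∀ n, F.map (homOfLE (Nat.le_succ n)).op (y (n + 1)) = y n) :
    (fun j : ℕᵒᵖ => y j.unop) ∈ F.sections := by
  intro ⟨n⟩ ⟨m⟩ ⟨⟨⟨(h : m ≤ n)⟩⟩⟩
  induction h with
  | refl =>
    erw [CategoryTheory.Functor.map_id, id_apply]
  | @step p h ih =>
    rw [← ih]
    have h' : m ≤ p := h
    erw [CategoryTheory.Functor.map_comp (f := (homOfLE (Nat.le_succ p)).op) (g := (homOfLE h').op),
      comp_apply, hy p]
    rfl

theorem Types.surjective_π_app_of_surjective_map {F : ℕᵒᵖ ⥤ Type v} {c : Cone F} (hc : IsLimit c)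
    (hF : ∀ n, Function.Surjective (F.map (homOfLE (Nat.le_succ n)).op)) (i : ℕ) :
    Function.Surjective (c.π.app ⟨i⟩) := by
  intro a
  obtain ⟨y, hy, hyi⟩ := Groth.Agent.Lib.Helper14.exists_compatible_of_surjective i
    (M := fun n => F.obj ⟨n⟩) (fun n => F.map (homOfLE (Nat.le_succ n)).op) hF a
  let s : F.sections := ⟨fun j => y j.unop, compat_of_succ y hy⟩
  refine ⟨(Types.isLimitEquivSections hc).symm s, ?_⟩
  rw [Types.isLimitEquivSections_symm_apply]
  exact hyi

theorem Concrete.surjective_π_app_of_surjective_map {C : Type u} [Category.{v} C] {FC : C → C → Type*}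
    {CC : C → Type v} [∀ X Y, FunLike (FC X Y) (CC X) (CC Y)] [ConcreteCategory.{v} C FC]
    [PreservesLimitsOfShape ℕᵒᵖ (forget C)] {F : ℕᵒᵖ ⥤ C} {c : Cone F}
    (hc : IsLimit c) (hF : ∀ n, Function.Surjective (F.map (homOfLE (Nat.le_succ n)).op)) (i : ℕ) :
    Function.Surjective (c.π.app ⟨i⟩) :=
  Types.surjective_π_app_of_surjective_map (isLimitOfPreserves (forget C) hc) hF i

end tower

section affine

open FSch

variable (𝔛 : FSch.Sys.{u}) (h : 𝔛.IsFormal)

theorem toX_preimage_lvU (n : ℕ) (U : (𝔛.X 0).Opens) :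
    (𝔛.toX n) ⁻¹ᵁ (𝔛.lvU h n U) = U := by
  change (Opens.map ((𝔛.toX n).base ≫ 𝔛.gInv h n)).obj U = U
  rw [Sys.toX_base_gInv]
  rfl

/-- the opens of the levels over an affine open of the common space are affine. -/
theorem isAffineOpen_lvU (n : ℕ) (U : (𝔛.X 0).Opens) (hU : IsAffineOpen U) :
    IsAffineOpen (𝔛.lvU h n U) := by
  have hci : IsClosedImmersion (𝔛.toX n) := Sys.toX_isClosedImmersion 𝔛 h n
  have hsurj : Surjective (𝔛.toX n) := ⟨Sys.toX_surjective 𝔛 h n⟩
  have h1 : IsClosedImmersion ((𝔛.toX n) ∣_ (𝔛.lvU h n U)) :=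
    IsZariskiLocalAtTarget.restrict hci _
  have h2 : Surjective ((𝔛.toX n) ∣_ (𝔛.lvU h n U)) :=
    IsZariskiLocalAtTarget.restrict hsurj _
  have h3 : IsAffine ((𝔛.toX n) ⁻¹ᵁ (𝔛.lvU h n U)).toScheme := by
    rw [toX_preimage_lvU]
    exact hU
  exact Groth.Agent.Lib.Helper22.ThickAffine.isAffine_of_thickening
    ((𝔛.toX n) ∣_ (𝔛.lvU h n U)) h2.surj

/-- for a closed immersion, `appLE` onto the full preimage of an affine open is surjective. -/
theorem appLE_surjective_of_le {X Y : Scheme.{u}} (f : X ⟶ Y) [IsClosedImmersion f] (U : Y.Opens)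
    (hU : IsAffineOpen U) (V : X.Opens) (e : V ≤ f ⁻¹ᵁ U) (e' : f ⁻¹ᵁ U ≤ V) :
    Function.Surjective (f.appLE U V e) := by
  have hs := Scheme.Hom.app_surjective f U hU
  have hiso : IsIso (X.presheaf.map (homOfLE e).op) := by
    have : IsIso (homOfLE e) := ⟨⟨homOfLE e', rfl, rfl⟩⟩
    infer_instance
  intro y
  obtain ⟨z, hz⟩ := (ConcreteCategory.bijective_of_isIso (X.presheaf.map (homOfLE e).op)).2 y
  obtain ⟨w, hw⟩ := hs z
  refine ⟨w, ?_⟩
  rw [Scheme.Hom.appLE, CommRingCat.comp_apply, hw, hz]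

/-- the transition maps of the level sheaves are surjective on sections over affine opens. -/
theorem levelMap_app_surjective (n : ℕ) (U : (𝔛.X 0).Opens) (hU : IsAffineOpen U) :
    Function.Surjective ((𝔛.levelMap h n).hom.app (op U)) := by
  rw [Sys.levelMap_app]
  have hci : IsClosedImmersion (𝔛.ι n) := (h n).1
  exact appLE_surjective_of_le (𝔛.ι n) (𝔛.lvU h (n + 1) U) (isAffineOpen_lvU 𝔛 h (n + 1) U hU)
    (𝔛.lvU h n U) (𝔛.lvU_le h n U) (𝔛.lvU_succ h n U).le

/-- sections over `U` of sheaves of rings, as a functor (it preserves limits). -/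
noncomputable abbrev secFunctor (U : (𝔛.X 0).Opens) :
    Sheaf (Opens.grothendieckTopology (𝔛.X 0)) CommRingCat.{u} ⥤ CommRingCat.{u} :=
  sheafToPresheaf _ CommRingCat.{u} ⋙ (evaluation _ _).obj (op U)

/-- the canonical maps `O_𝔛 ⟶ O_{X_i}` are surjective on sections over affine opens. -/
theorem OshProj_app_surjective (i : ℕ) (U : (𝔛.X 0).Opens) (hU : IsAffineOpen U) :
    Function.Surjective ((𝔛.OshProj h i).hom.app (op U)) := by
  have hc : IsLimit ((secFunctor 𝔛 U).mapCone (limit.cone (𝔛.levelRing h))) :=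
    isLimitOfPreserves _ (limit.isLimit _)
  refine Concrete.surjective_π_app_of_surjective_map hc ?_ i
  intro n
  have : (𝔛.levelRing h ⋙ secFunctor 𝔛 U).map (homOfLE (Nat.le_succ n)).op =
      (𝔛.levelMap h n).hom.app (op U) := by
    change ((𝔛.levelRing h).map (homOfLE (Nat.le_add_right n 1)).op).hom.app (op U) = _
    rw [Sys.levelRing_map_succ]
  rw [this]
  exact levelMap_app_surjective 𝔛 h n U hU

/-- sections of `O_𝔛` are determined by their projections to the levels. -/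
theorem Osh_ext (U : (𝔛.X 0).Opens) (x y : (𝔛.Osh h).obj.obj (op U))
    (hxy : ∀ n : ℕ, (𝔛.OshProj h n).hom.app (op U) x = (𝔛.OshProj h n).hom.app (op U) y) :
    x = y := by
  have hc : IsLimit ((secFunctor 𝔛 U).mapCone (limit.cone (𝔛.levelRing h))) :=
    isLimitOfPreserves _ (limit.isLimit _)
  exact Concrete.isLimit_ext _ hc x y fun j => hxy j.unop

/-- compatible families of sections of the levels come from sections of `O_𝔛`. -/
theorem Osh_exists (U : (𝔛.X 0).Opens) (c : ∀ n : ℕ, (𝔛.levelObj h n).obj.obj (op U))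
    (hcc : ∀ n : ℕ, (𝔛.levelMap h n).hom.app (op U) (c (n + 1)) = c n) :
    ∃ x : (𝔛.Osh h).obj.obj (op U), ∀ n : ℕ, (𝔛.OshProj h n).hom.app (op U) x = c n := by
  have hc : IsLimit ((secFunctor 𝔛 U).mapCone (limit.cone (𝔛.levelRing h))) :=
    isLimitOfPreserves _ (limit.isLimit _)
  have hc' := isLimitOfPreserves (forget CommRingCat.{u}) hc
  have hmap : ∀ n : ℕ, (𝔛.levelRing h ⋙ secFunctor 𝔛 U).map (homOfLE (Nat.le_succ n)).op =
      (𝔛.levelMap h n).hom.app (op U) := by
    intro n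
    change ((𝔛.levelRing h).map (homOfLE (Nat.le_add_right n 1)).op).hom.app (op U) = _
    rw [Sys.levelRing_map_succ]
  have hsec : (fun j : ℕᵒᵖ => c j.unop) ∈
      ((𝔛.levelRing h ⋙ secFunctor 𝔛 U) ⋙ forget CommRingCat.{u}).sections := by
    apply compat_of_succ (F := (𝔛.levelRing h ⋙ secFunctor 𝔛 U) ⋙ forget CommRingCat.{u}) c
    intro n
    change (ConcreteCategory.hom ((𝔛.levelRing h ⋙ secFunctor 𝔛 U).map
      (homOfLE (Nat.le_succ n)).op)) (c (n + 1)) = c n
    rw [hmap n]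
    exact hcc n
  refine ⟨(Types.isLimitEquivSections hc').symm ⟨_, hsec⟩, fun n => ?_⟩
  exact Types.isLimitEquivSections_symm_apply hc' ⟨_, hsec⟩ ⟨n⟩

end affine

end Groth.Agent.Lib.Seat17.OshSec
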