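import Mathlib
import Groth.Prelude.Def_Formal2
import Groth.Agent.S8821
import Groth.Agent.Lib.Helper14InvLim
import Groth.Agent.Lib.Helper23FinTypeLocal
import Groth.Agent.Lib.Helper23QCohSum
import Groth.Agent.Lib.Helper2RelTildeExact
import Groth.Agent.Lib.Helper2ModExact
import Groth.Agent.Lib.Helper23Serre
import Groth.Agent.Lib.Helper20FormalPull
import Groth.Agent.Lib.Seat17OshSec

/-!
# Truncations of the limit of a quasi-coherent formal system (seat 17)

For `X` over `Spec A`, a finitely generated ideal `J` of `A` and a quasi-coherent `O_X`-module `M`,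
we describe the sections over affine opens of the quotient `M/JM` (any cokernel of
`Formal.smulFamily J M`): the projection is surjective on sections with kernel `J • Γ(M, U)`.
We then show that for a quasi-coherent formal system `(G_n)` the projection
`lim G_n ⟶ G_n` identifies `G_n` with `(lim G)/I^(n+1)`.
-/

set_option autoImplicit false
set_option linter.style.haveILetI false
set_option linter.unusedSectionVars false
universe u
open CategoryTheory CategoryTheory.Limits AlgebraicGeometry TopologicalSpace Opposite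

namespace Groth.Agent.Lib.Seat17.QcTrunc

open Groth.Agent.S8821

attribute [local instance] Abelian.hasFiniteBiproducts

variable {A : Type u} [CommRing A] {X : Scheme.{u}} [X.Over (Spec (CommRingCat.of A))]

/-- the ring map `A → Γ(X, U)`. -/
noncomputable def ρ (U : X.Opens) : A →+* Γ(X, U) :=
  (Coh.resTop X (op U)).comp (Coh.toGlobal (X ↘ Spec (CommRingCat.of A)))

theorem smulMod_app (M : X.Modules) (a : A) (U : X.Opens) (m : Γ(M, U)) :
    (Formal.smulMod A M a).app U m = (ρ U a : Γ(X, U)) • m := rfl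

theorem sum_app {M N : X.Modules} {ι : Type*} (s : Finset ι) (φ : ι → (M ⟶ N)) (U : X.Opens)
    (m : Γ(M, U)) : (∑ i ∈ s, φ i).app U m = ∑ i ∈ s, (φ i).app U m := by
  classical
  induction s using Finset.induction_on with
  | empty =>
    rw [Finset.sum_empty, Finset.sum_empty]
    rfl
  | insert i s hi ih =>
    rw [Finset.sum_insert hi, Finset.sum_insert hi, ← ih]
    rfl

theorem smulMod_add (M : X.Modules) (a b : A) :
    Formal.smulMod A M (a + b) = Formal.smulMod A M a + Formal.smulMod A M b := by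
  apply Scheme.Modules.hom_ext
  intro U
  ext m
  change (Formal.smulMod A M (a + b)).app U m =
    (Formal.smulMod A M a).app U m + (Formal.smulMod A M b).app U m
  rw [smulMod_app, smulMod_app, smulMod_app, map_add, add_smul]

theorem smulMod_zero (M : X.Modules) : Formal.smulMod A M (0 : A) = 0 := by
  apply Scheme.Modules.hom_ext
  intro U
  ext m
  change (Formal.smulMod A M (0 : A)).app U m = 0
  rw [smulMod_app, map_zero, zero_smul]

theorem smulMod_sum (M : X.Modules) {ι : Type*} (s : Finset ι) (c : ι → A) :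
    Formal.smulMod A M (∑ i ∈ s, c i) = ∑ i ∈ s, Formal.smulMod A M (c i) := by
  classical
  induction s using Finset.induction_on with
  | empty => rw [Finset.sum_empty, Finset.sum_empty, smulMod_zero]
  | insert i s hi ih => rw [Finset.sum_insert hi, Finset.sum_insert hi, smulMod_add, ih]

section finite

variable {r : ℕ} (a : Fin r → A) (M : X.Modules)

/-- the finite family of multiplications by the `a i`. -/
noncomputable def φ : (⨁ fun _ : Fin r => M) ⟶ M :=
  biproduct.desc fun i => Formal.smulMod A M (a i)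

theorem ι_φ (i : Fin r) : biproduct.ι (fun _ : Fin r => M) i ≫ φ a M = Formal.smulMod A M (a i) :=
  biproduct.ι_desc _ _

theorem φ_comp_eq_zero_iff {J : Ideal A} (ha : Ideal.span (Set.range a) = J) {T : X.Modules}
    (g : M ⟶ T) : φ a M ≫ g = 0 ↔ Formal.smulFamily J M ≫ g = 0 := by
  rw [smulFamily_comp_eq_zero_iff]
  constructor
  · intro h x hx
    rw [← ha] at hx
    obtain ⟨c, rfl⟩ := (Ideal.mem_span_range_iff_exists_fun (R := A)).1 hx
    rw [smulMod_sum, Preadditive.sum_comp]
    refine Finset.sum_eq_zero fun i _ => ?_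
    rw [smulMod_mul', Category.assoc, ← ι_φ a M i, Category.assoc, h, comp_zero, comp_zero]
  · intro h
    apply biproduct.hom_ext'
    intro i
    rw [← Category.assoc, ι_φ, comp_zero]
    exact h _ (ha ▸ Ideal.subset_span ⟨i, rfl⟩)

theorem φ_app_mem (U : X.Opens) (y : Γ((⨁ fun _ : Fin r => M), U)) :
    (φ a M).app U y ∈ (Ideal.span (Set.range a)).map (ρ U) • (⊤ : Submodule Γ(X, U) Γ(M, U)) := by
  have h1 : φ a M = ∑ j : Fin r, biproduct.π (fun _ : Fin r => M) j ≫ Formal.smulMod A M (a j) := by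
    calc φ a M = (∑ j : Fin r, biproduct.π (fun _ : Fin r => M) j ≫
          biproduct.ι (fun _ : Fin r => M) j) ≫ φ a M := by
            rw [biproduct.total, Category.id_comp]
      _ = _ := by
        rw [Preadditive.sum_comp]
        refine Finset.sum_congr rfl fun j _ => ?_
        rw [Category.assoc, ι_φ]
  rw [h1, sum_app]
  refine Submodule.sum_mem _ fun j _ => ?_
  change (Formal.smulMod A M (a j)).app U ((biproduct.π (fun _ : Fin r => M) j).app U y) ∈ _
  rw [smulMod_app]
  exact Submodule.smul_mem_smul (Ideal.mem_map_of_mem _ (Ideal.subset_span ⟨j, rfl⟩)) trivial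

end finite

section quotient

variable {J : Ideal A} {M Q : X.Modules} (t : M ⟶ Q)
  (h : Formal.smulFamily J M ≫ t = 0) [IsIso (cokernel.desc _ t h)]

include h in
theorem epi_of_isIso_desc : Epi t := by
  have : t = cokernel.π _ ≫ cokernel.desc _ t h := (cokernel.π_desc _ _ _).symm
  rw [this]
  infer_instance

include h in
/-- an element of `J` kills the sections of the quotient. -/
theorem app_smul_eq_zero (U : X.Opens) (x : A) (hx : x ∈ J) (m : Γ(M, U)) :
    t.app U ((ρ U x : Γ(X, U)) • m) = 0 := by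
  have h1 : Formal.smulMod A M x ≫ t = 0 := (smulFamily_comp_eq_zero_iff t).1 h x hx
  have h2 := congrArg (fun ψ => ψ.app U m) h1
  exact h2

include h in
theorem map_smul_top_le_ker (U : X.Opens) (m : Γ(M, U))
    (hm : m ∈ J.map (ρ U) • (⊤ : Submodule Γ(X, U) Γ(M, U))) : t.app U m = 0 := by
  refine Submodule.smul_induction_on hm ?_ ?_
  · intro b hb n _
    have hb' : b ∈ Ideal.span ((ρ U) '' (J : Set A)) := hb
    rw [Scheme.Modules.Hom.app_smul]
    refine Submodule.span_induction (p := fun b _ => ∀ n : Γ(M, U), b • t.app U n = 0)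
      ?_ ?_ ?_ ?_ hb' n
    · rintro _ ⟨x, hx, rfl⟩ n
      rw [← Scheme.Modules.Hom.app_smul]
      exact app_smul_eq_zero t h U x hx n
    · intro n
      rw [zero_smul]
    · intro b c _ _ hb hc n
      rw [add_smul, hb, hc, add_zero]
    · intro b c _ hc n
      rw [smul_eq_mul, mul_smul, hc, smul_zero]
  · intro m n hm hn
    rw [map_add, hm, hn, add_zero]

variable [M.IsQuasicoherent] [Q.IsQuasicoherent]

include h in
theorem app_surjective {U : X.Opens} (hU : IsAffineOpen U) : Function.Surjective (t.app U) := by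
  haveI := epi_of_isIso_desc t h
  exact Groth.Agent.Lib.Helper23.FinType.surjective_app_of_epi t hU

include h in
theorem ker_le_map_smul_top (hJ : J.FG) {U : X.Opens} (hU : IsAffineOpen U) (m : Γ(M, U))
    (hm : t.app U m = 0) : m ∈ J.map (ρ U) • (⊤ : Submodule Γ(X, U) Γ(M, U)) := by
  obtain ⟨r, a, ha0⟩ := Submodule.fg_iff_exists_fin_generating_family.mp hJ
  have ha : Ideal.span (Set.range a) = J := ha0
  haveI := epi_of_isIso_desc t h
  have h' : φ a M ≫ t = 0 := (φ_comp_eq_zero_iff a M ha t).2 h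
  -- `t` is a cokernel of `φ`
  have hc0 := Groth.Agent.Lib.Helper20.FormalPull.isColimitOfIsIsoCokernelDesc _ t h
  have key : ∀ {T : X.Modules} (g : M ⟶ T) (hg : Formal.smulFamily J M ≫ g = 0),
      t ≫ hc0.desc (CokernelCofork.ofπ g hg) = g :=
    fun g hg => Cofork.IsColimit.π_desc (t := CokernelCofork.ofπ g hg) hc0
  have hc : IsColimit (CokernelCofork.ofπ t h') :=
    CokernelCofork.IsColimit.ofπ t h'
      (fun {T} g hg => hc0.desc (CokernelCofork.ofπ g ((φ_comp_eq_zero_iff a M ha g).1 hg)))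
      (fun {T} g hg => key g _)
      (fun {T} g hg b hb => by
        rw [← cancel_epi t, hb]
        exact (key g _).symm)
  have hex : (ShortComplex.mk (φ a M) t h').Exact := ShortComplex.exact_of_g_is_cokernel _ hc
  have hepi : Epi (kernel.lift t (φ a M) h') := by
    have := (ShortComplex.exact_iff_epi_kernel_lift (ShortComplex.mk (φ a M) t h')).1 hex
    exact this
  haveI : (kernel t).IsQuasicoherent := Groth.Agent.Lib.Helper23.QCohLocal.isQuasicoherent_kernel t
  haveI : (⨁ fun _ : Fin r => M).IsQuasicoherent :=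
    Groth.Agent.Lib.Helper23.QCohLocal.isQuasicoherent_biproduct _ (fun _ => inferInstance)
  -- `m` comes from the kernel
  let S : ShortComplex X.Modules := ShortComplex.mk (kernel.ι t) t (kernel.condition t)
  have hS : S.ShortExact :=
    { exact := ShortComplex.exact_kernel t
      mono_f := inferInstanceAs (Mono (kernel.ι t))
      epi_g := inferInstanceAs (Epi t) }
  obtain ⟨k, hk⟩ := Groth.Agent.Lib.Helper2.ModExact.exists_app_eq_of_shortExact S hS U m hm
  obtain ⟨y, hy⟩ := Groth.Agent.Lib.Helper23.FinType.surjective_app_of_epi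
    (kernel.lift t (φ a M) h') hU k
  have h3 : (φ a M).app U y = m := by
    rw [← hk, ← hy]
    have h4 : kernel.lift t (φ a M) h' ≫ kernel.ι t = φ a M := kernel.lift_ι _ _ _
    exact (congrArg (fun ψ => ψ.app U y) h4).symm
  rw [← h3, ← ha]
  exact φ_app_mem a M U y

end quotient

section limit

/-- sections over `U`, as abelian groups. -/
noncomputable abbrev secAb (U : X.Opens) : X.Modules ⥤ Ab.{u} :=
  Scheme.Modules.toPresheaf X ⋙ (evaluation (Opens X)ᵒᵖ Ab.{u}).obj (op U)

instance preservesLimitsOfShape_toPresheaf :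
    PreservesLimitsOfShape ℕᵒᵖ (Scheme.Modules.toPresheaf X) :=
  comp_preservesLimitsOfShape (SheafOfModules.forget X.ringCatSheaf)
    (PresheafOfModules.toPresheaf X.ringCatSheaf.obj)

instance preservesLimitsOfShape_eval (U : X.Opens) :
    PreservesLimitsOfShape ℕᵒᵖ ((evaluation (Opens X)ᵒᵖ Ab.{u}).obj (op U)) := inferInstance

instance preservesLimitsOfShape_secAb (U : X.Opens) :
    PreservesLimitsOfShape ℕᵒᵖ (secAb (X := X) U) := by
  have := preservesLimitsOfShape_eval (X := X) U
  have := preservesLimitsOfShape_toPresheaf (X := X)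
  exact comp_preservesLimitsOfShape _ _

variable (G : ℕᵒᵖ ⥤ X.Modules)

theorem lim_ext (U : X.Opens) (x y : Γ(limit G, U))
    (hxy : ∀ n : ℕ, (limit.π G (op n)).app U x = (limit.π G (op n)).app U y) : x = y := by
  have hc : IsLimit ((secAb U).mapCone (limit.cone G)) := isLimitOfPreserves _ (limit.isLimit _)
  exact Concrete.isLimit_ext _ hc x y fun j => hxy j.unop

theorem lim_exists (U : X.Opens) (c : ∀ n : ℕ, Γ(G.obj (op n), U))
    (hcc : ∀ n : ℕ, (G.map (homOfLE (Nat.le_succ n)).op).app U (c (n + 1)) = c n) :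
    ∃ x : Γ(limit G, U), ∀ n : ℕ, (limit.π G (op n)).app U x = c n := by
  have hc : IsLimit ((secAb U).mapCone (limit.cone G)) := isLimitOfPreserves _ (limit.isLimit _)
  have hc' := isLimitOfPreserves (forget Ab) hc
  have hsec : (fun j : ℕᵒᵖ => c j.unop) ∈ ((G ⋙ secAb U) ⋙ forget Ab).sections := by
    apply Groth.Agent.Lib.Seat17.OshSec.compat_of_succ (F := (G ⋙ secAb U) ⋙ forget Ab) c
    intro n
    exact hcc n
  refine ⟨(Types.isLimitEquivSections hc').symm ⟨_, hsec⟩, fun n => ?_⟩
  exact Types.isLimitEquivSections_symm_apply hc' ⟨_, hsec⟩ ⟨n⟩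

/-- the map on sections as a linear map. -/
noncomputable def appₗ {M N : X.Modules} (φ : M ⟶ N) (U : X.Opens) :
    Γ(M, U) →ₗ[Γ(X, U)] Γ(N, U) where
  toFun := fun x => φ.app U x
  map_add' := fun x y => map_add _ x y
  map_smul' := fun r x => Scheme.Modules.Hom.app_smul φ r x

@[simp] theorem appₗ_apply {M N : X.Modules} (φ : M ⟶ N) (U : X.Opens) (x : Γ(M, U)) :
    appₗ φ U x = φ.app U x := rfl

variable {G} {I : Ideal A} (hG : Formal2.IsQCohFormal I G)

include hG in
theorem lim_algebra (hI : I.FG) {U : X.Opens} (hU : IsAffineOpen U) (n : ℕ) :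
    Function.Surjective ((limit.π G (op n)).app U) ∧
      ∀ x : Γ(limit G, U), (limit.π G (op n)).app U x = 0 →
        x ∈ (I ^ (n + 1)).map (ρ U) • (⊤ : Submodule Γ(X, U) Γ(limit G, U)) := by
  obtain ⟨hq, hk, hiso⟩ := hG
  haveI : ∀ k, (G.obj (op k)).IsQuasicoherent := hq
  have hf : ∀ k : ℕ, Function.Surjective (appₗ (G.map (homOfLE (Nat.le_succ k)).op) U) := by
    intro k
    obtain ⟨h, hh⟩ := hiso k
    exact app_surjective _ h hU
  have hker : ∀ k : ℕ, LinearMap.ker (appₗ (G.map (homOfLE (Nat.le_succ k)).op) U) =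
      (I.map (ρ U)) ^ (k + 1) • (⊤ : Submodule Γ(X, U) Γ(G.obj (op (k + 1)), U)) := by
    intro k
    obtain ⟨h, hh⟩ := hiso k
    rw [← Ideal.map_pow]
    apply le_antisymm
    · intro m hm
      exact ker_le_map_smul_top _ h (hI.pow (n := k + 1)) hU m hm
    · intro m hm
      exact map_smul_top_le_ker _ h U m hm
  have hπ : ∀ k : ℕ, appₗ (G.map (homOfLE (Nat.le_succ k)).op) U ∘ₗ
      appₗ (limit.π G (op (k + 1))) U = appₗ (limit.π G (op k)) U := by
    intro k
    ext x
    have h1 : limit.π G (op (k + 1)) ≫ G.map (homOfLE (Nat.le_succ k)).op = limit.π G (op k) :=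
      limit.w G _
    exact congrArg (fun ψ => ψ.app U x) h1
  have hinj : ∀ x : Γ(limit G, U), (∀ k, appₗ (limit.π G (op k)) U x = 0) → x = 0 := by
    intro x hx
    apply lim_ext G U x 0
    intro k
    rw [map_zero]
    exact hx k
  have hlift : ∀ y : (∀ k, Γ(G.obj (op k), U)),
      (∀ k, appₗ (G.map (homOfLE (Nat.le_succ k)).op) U (y (k + 1)) = y k) →
        ∃ x : Γ(limit G, U), ∀ k, appₗ (limit.π G (op k)) U x = y k :=
    fun y hy => lim_exists G U y hy
  refine ⟨?_, ?_⟩
  · exact Groth.Agent.Lib.Helper14.proj_surjective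
      (fun k => appₗ (G.map (homOfLE (Nat.le_succ k)).op) U)
      (fun k => appₗ (limit.π G (op k)) U) hf hlift n
  · intro x hx
    have h1 := Groth.Agent.Lib.Helper14.ker_eq_pow_smul_top (I.map (ρ U))
      (fun k => appₗ (G.map (homOfLE (Nat.le_succ k)).op) U)
      (fun k => appₗ (limit.π G (op k)) U) (hI.map _) hf hker hπ hinj hlift n
    rw [Ideal.map_pow, ← h1]
    exact hx

theorem mem_range_smulFamily (J : Ideal A) (M : X.Modules) (U : X.Opens) (m : Γ(M, U))
    (hm : m ∈ J.map (ρ U) • (⊤ : Submodule Γ(X, U) Γ(M, U))) :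
    ∃ t : Γ((∐ fun _ : J => M), U), (Formal.smulFamily J M).app U t = m := by
  refine Submodule.smul_induction_on hm ?_ ?_
  · intro b hb n _
    have hb' : b ∈ Ideal.span ((ρ U) '' (J : Set A)) := hb
    refine Submodule.span_induction (p := fun b _ => ∀ n : Γ(M, U),
      ∃ t : Γ((∐ fun _ : J => M), U), (Formal.smulFamily J M).app U t = b • n) ?_ ?_ ?_ ?_ hb' n
    · rintro _ ⟨x, hx, rfl⟩ n
      refine ⟨(Sigma.ι (fun _ : J => M) ⟨x, hx⟩).app U n, ?_⟩
      have h1 := ι_smulFamily J M ⟨x, hx⟩
      exact congrArg (fun ψ => ψ.app U n) h1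
    · intro n
      exact ⟨0, by rw [map_zero, zero_smul]⟩
    · intro b c _ _ hb hc n
      obtain ⟨t1, ht1⟩ := hb n
      obtain ⟨t2, ht2⟩ := hc n
      exact ⟨t1 + t2, by rw [map_add, ht1, ht2, add_smul]⟩
    · intro b c _ hc n
      obtain ⟨t1, ht1⟩ := hc (b • n)
      exact ⟨t1, by rw [ht1, smul_eq_mul, mul_comm, mul_smul]⟩
  · rintro m n ⟨t1, ht1⟩ ⟨t2, ht2⟩
    exact ⟨t1 + t2, by rw [map_add, ht1, ht2]⟩

include hG in
theorem main (hI : I.FG) (n : ℕ) :
    ∃ h : Formal.smulFamily (I ^ (n + 1)) (limit G) ≫ limit.π G (op n) = 0,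
      IsIso (cokernel.desc _ _ h) := by
  have h : Formal.smulFamily (I ^ (n + 1)) (limit G) ≫ limit.π G (op n) = 0 := by
    rw [smulFamily_comp_eq_zero_iff]
    intro a ha
    rw [smulMod_comp, hG.2.1 n a ha, comp_zero]
  refine ⟨h, ?_⟩
  have hepi : Epi (limit.π G (op n)) := by
    apply Groth.Agent.Lib.Helper23.Serre.epi_of_locally_surjective
    intro V t x hx
    obtain ⟨W, hW, hxW, hWV⟩ := Opens.isBasis_iff_nbhd.mp X.isBasis_affineOpens hx
    obtain ⟨s, hs⟩ := (lim_algebra hG hI hW n).1 ((G.obj (op n)).presheaf.map (homOfLE hWV).op t)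
    exact ⟨W, hWV, hxW, s, hs⟩
  have hex : (ShortComplex.mk (Formal.smulFamily (I ^ (n + 1)) (limit G)) (limit.π G (op n)) h).Exact := by
    apply Groth.Agent.Lib.Helper2.RelTildeExact.exact_of_locally_exact
    intro V s hs x hx
    obtain ⟨W, hW, hxW, hWV⟩ := Opens.isBasis_iff_nbhd.mp X.isBasis_affineOpens hx
    have h1 : (limit.π G (op n)).app W ((limit G).presheaf.map (homOfLE hWV).op s) = 0 := by
      rw [Groth.Agent.Lib.Helper2.ModExact.app_map (limit.π G (op n)) (homOfLE hWV) s]
      change (G.obj (op n)).presheaf.map (homOfLE hWV).op ((limit.π G (op n)).app V s) = 0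
      rw [show (limit.π G (op n)).app V s = 0 from hs, map_zero]
    obtain ⟨t, ht⟩ := mem_range_smulFamily (I ^ (n + 1)) (limit G) W _
      ((lim_algebra hG hI hW n).2 _ h1)
    exact ⟨W, hWV, hxW, t, ht⟩
  haveI := hepi
  exact Groth.Agent.Lib.Helper20.FormalPull.isIso_cokernelDesc_of_isColimit _ _ h
    (hex.gIsCokernel)

end limit

end Groth.Agent.Lib.Seat17.QcTrunc
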