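import Groth.Agent.Lib.Seat21DevStalk2
import Groth.Agent.Lib.Helper23FTsub

set_option autoImplicit false
set_option linter.style.haveILetI false
universe u
open CategoryTheory Limits AlgebraicGeometry TopologicalSpace Opposite

noncomputable section

namespace Groth.Agent.Lib.Seat21.Dev

open Groth.Agent.Lib.Helper1.StalkTensor Groth.Agent.Lib.Helper1.Sky Groth.Agent.Lib.Seat21.QSub

variable {X : Scheme.{u}}

theorem hX_of_isNoetherian [IsNoetherian X] :
    ∀ x : X, ∃ U : X.Opens, x ∈ U ∧ NoetherianSpace (U : Set X) :=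
  fun _ => ⟨⊤, trivial, inferInstance⟩

/-! ### coherence -/

theorem isCoh_subSh [IsNoetherian X] {F : X.Modules} (hF : Coh.IsCoh F) (N : SubSh F) (hN : N.QCOn ⊤) :
    Coh.IsCoh N.toModules := by
  haveI := hF.1
  haveI := hF.2
  haveI : N.toModules.IsQuasicoherent := SubSh.isQuasicoherent_toModules hN
  exact ⟨inferInstance, Groth.Agent.Lib.Helper23.FinType.isFiniteType_of_mono N.ι⟩

theorem isCoh_kernel [IsNoetherian X] {F G : X.Modules} (hF : Coh.IsCoh F) (hG : Coh.IsCoh G) (φ : F ⟶ G) :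
    Coh.IsCoh (kernel φ) := by
  haveI := hF.1
  haveI := hF.2
  haveI := hG.1
  haveI : (kernel φ).IsQuasicoherent := Groth.Agent.Lib.Helper23.QCohLocal.isQuasicoherent_kernel φ
  exact ⟨inferInstance, Groth.Agent.Lib.Helper23.FinType.isFiniteType_of_mono (kernel.ι φ)⟩

theorem isCoh_cokernel {F G : X.Modules} (hF : Coh.IsCoh F) (hG : Coh.IsCoh G) (φ : F ⟶ G) :
    Coh.IsCoh (cokernel φ) := by
  haveI := hF.1
  haveI := hG.1
  haveI := hG.2
  haveI : (cokernel φ).IsQuasicoherent := Groth.Agent.Lib.Helper23.QCohLocal.isQuasicoherent_cokernel φ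
  exact ⟨inferInstance, Groth.Agent.Lib.Helper23.FinType.isFiniteType_of_epi (cokernel.π φ)⟩

theorem isCoh_biprod {F G : X.Modules} (hF : Coh.IsCoh F) (hG : Coh.IsCoh G) : Coh.IsCoh (F ⊞ G) := by
  haveI := hF.1
  haveI := hF.2
  haveI := hG.1
  haveI := hG.2
  exact ⟨Groth.Agent.Lib.Helper23.QCohLocal.isQuasicoherent_biprod F G,
    Groth.Agent.Lib.Helper23.FTsub.isFiniteType_biprod F G⟩

theorem isCoh_of_iso {F G : X.Modules} (e : F ≅ G) (hF : Coh.IsCoh F) : Coh.IsCoh G := by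
  haveI := hF.1
  haveI := hF.2
  haveI : G.IsQuasicoherent := by
    have := (SheafOfModules.isQuasicoherent X.ringCatSheaf).prop_of_iso e hF.1
    exact this
  exact ⟨inferInstance, Groth.Agent.Lib.Helper23.FinType.isFiniteType_of_epi e.hom⟩

theorem finite_stalk_of_isCoh {F : X.Modules} (hF : Coh.IsCoh F) (y : X) :
    Module.Finite (Ox y) (St (toPM F) y) := by
  haveI := hF.1
  haveI := hF.2
  exact Groth.Agent.Lib.Helper2.FibreCrit.finite_stalk F y

/-! ### the stalk of a subsheaf -/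

theorem sm_ι_mem_stalkSub {F : X.Modules} (N : SubSh F) (y : X) (a : St (toPM N.toModules) y) :
    sm (toPMMap N.ι) y a ∈ SubShStalk.stalkSub N y := ⟨a, rfl⟩

theorem exists_of_mem_stalkSub {F : X.Modules} (N : SubSh F) (y : X) {b : St (toPM F) y}
    (hb : b ∈ SubShStalk.stalkSub N y) : ∃ a : St (toPM N.toModules) y, sm (toPMMap N.ι) y a = b := hb

/-! ### the graph correspondence -/

theorem biprod_stalk_ext {G M : X.Modules} (y : X) (p : St (toPM (G ⊞ M)) y)
    (h1 : sm (toPMMap (biprod.fst : G ⊞ M ⟶ G)) y p = 0)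
    (h2 : sm (toPMMap (biprod.snd : G ⊞ M ⟶ M)) y p = 0) : p = 0 := by
  have h := sm_id_apply (F := G ⊞ M) y p
  rw [← biprod.total, sm_add_apply, sm_comp_apply, sm_comp_apply, h1, h2, map_zero, map_zero, add_zero] at h
  exact h.symm

/-- two coherent modules with isomorphic stalks at `y` are related by a correspondence which is an isomorphism
at `y` -/
theorem exists_correspondence [IsNoetherian X] (G M : X.Modules) (hG : Coh.IsCoh G) (hM : Coh.IsCoh M) (y : X)
    (θ : St (toPM G) y ≃ₗ[Ox y] St (toPM M) y) :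
    ∃ (H : X.Modules) (u : H ⟶ G) (v : H ⟶ M), Coh.IsCoh H ∧
      Function.Bijective (sm (toPMMap u) y) ∧ Function.Bijective (sm (toPMMap v) y) ∧
      CohB1.support H ⊆ CohB1.support G ∪ CohB1.support M := by
  have hP : Coh.IsCoh (G ⊞ M) := isCoh_biprod hG hM
  haveI := hP.1
  haveI : Module.Finite (Ox y) (St (toPM (G ⊞ M)) y) := finite_stalk_of_isCoh hP y
  haveI : IsNoetherianRing (Ox y) := inferInstanceAs (IsNoetherianRing (X.presheaf.stalk y))
  haveI : IsNoetherian (Ox y) (St (toPM (G ⊞ M)) y) := isNoetherian_of_isNoetherianRing_of_finite _ _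
  let N₀ : Submodule (Ox y) (St (toPM (G ⊞ M)) y) :=
    LinearMap.ker (θ.toLinearMap ∘ₗ smₗ (toPMMap (biprod.fst : G ⊞ M ⟶ G)) y -
      smₗ (toPMMap (biprod.snd : G ⊞ M ⟶ M)) y)
  have hN₀ : ∀ p, p ∈ N₀ ↔ θ (sm (toPMMap (biprod.fst : G ⊞ M ⟶ G)) y p) =
      sm (toPMMap (biprod.snd : G ⊞ M ⟶ M)) y p := by
    intro p
    simp only [N₀, LinearMap.mem_ker, LinearMap.sub_apply, LinearMap.comp_apply, sub_eq_zero]
    rfl
  obtain ⟨N, hNq, hNf, hNs⟩ := SubShStalk.exists_subSh_stalkSub (F := G ⊞ M) hX_of_isNoetherian y N₀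
    (IsNoetherian.noetherian N₀)
  refine ⟨N.toModules, N.ι ≫ biprod.fst, N.ι ≫ biprod.snd, isCoh_subSh hP N hNq, ⟨?_, ?_⟩, ⟨?_, ?_⟩, ?_⟩
  · -- injectivity of `u`
    intro a b hab
    apply sm_injective_of_mono N.ι y
    rw [← sub_eq_zero, ← map_sub]
    rw [sm_comp_apply, sm_comp_apply, ← sub_eq_zero, ← map_sub, ← map_sub] at hab
    have hmem : sm (toPMMap N.ι) y (a - b) ∈ N₀ := hNs ▸ sm_ι_mem_stalkSub N y (a - b)
    refine biprod_stalk_ext y _ hab ?_
    rw [← (hN₀ _).1 hmem, hab, map_zero]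
  · -- surjectivity of `u`
    intro g
    let p : St (toPM (G ⊞ M)) y := sm (toPMMap (biprod.inl : G ⟶ G ⊞ M)) y g +
      sm (toPMMap (biprod.inr : M ⟶ G ⊞ M)) y (θ g)
    have hp1 : sm (toPMMap (biprod.fst : G ⊞ M ⟶ G)) y p = g := by
      simp only [p, map_add]
      rw [← sm_comp_apply, ← sm_comp_apply, biprod.inl_fst, biprod.inr_fst, sm_id_apply, sm_zero_apply, add_zero]
    have hp2 : sm (toPMMap (biprod.snd : G ⊞ M ⟶ M)) y p = θ g := by
      simp only [p, map_add]
      rw [← sm_comp_apply, ← sm_comp_apply, biprod.inl_snd, biprod.inr_snd, sm_id_apply, sm_zero_apply, zero_add]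
    have hmem : p ∈ SubShStalk.stalkSub N y := by
      rw [hNs, hN₀, hp1, hp2]
    obtain ⟨a, ha⟩ := exists_of_mem_stalkSub N y hmem
    exact ⟨a, by rw [sm_comp_apply, ha, hp1]⟩
  · -- injectivity of `v`
    intro a b hab
    apply sm_injective_of_mono N.ι y
    rw [← sub_eq_zero, ← map_sub]
    rw [sm_comp_apply, sm_comp_apply, ← sub_eq_zero, ← map_sub, ← map_sub] at hab
    have hmem : sm (toPMMap N.ι) y (a - b) ∈ N₀ := hNs ▸ sm_ι_mem_stalkSub N y (a - b)
    refine biprod_stalk_ext y _ ?_ hab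
    apply θ.injective
    rw [(hN₀ _).1 hmem, hab, map_zero]
  · -- surjectivity of `v`
    intro m
    let p : St (toPM (G ⊞ M)) y := sm (toPMMap (biprod.inl : G ⟶ G ⊞ M)) y (θ.symm m) +
      sm (toPMMap (biprod.inr : M ⟶ G ⊞ M)) y m
    have hp1 : sm (toPMMap (biprod.fst : G ⊞ M ⟶ G)) y p = θ.symm m := by
      simp only [p, map_add]
      rw [← sm_comp_apply, ← sm_comp_apply, biprod.inl_fst, biprod.inr_fst, sm_id_apply, sm_zero_apply, add_zero]
    have hp2 : sm (toPMMap (biprod.snd : G ⊞ M ⟶ M)) y p = m := by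
      simp only [p, map_add]
      rw [← sm_comp_apply, ← sm_comp_apply, biprod.inl_snd, biprod.inr_snd, sm_id_apply, sm_zero_apply, zero_add]
    have hmem : p ∈ SubShStalk.stalkSub N y := by
      rw [hNs, hN₀, hp1, hp2, LinearEquiv.apply_symm_apply]
    obtain ⟨a, ha⟩ := exists_of_mem_stalkSub N y hmem
    exact ⟨a, by rw [sm_comp_apply, ha, hp2]⟩
  · -- support
    intro x hx
    have h1 := support_subset_of_mono N.ι hx
    by_contra hcon
    rw [Set.mem_union, not_or, mem_support_iff, mem_support_iff, not_not, not_not] at hcon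
    rw [mem_support_iff] at h1
    apply h1
    refine ⟨fun a b => ?_⟩
    rw [← sub_eq_zero]
    exact biprod_stalk_ext x _ (hcon.1.elim _ _) (hcon.2.elim _ _)

end Groth.Agent.Lib.Seat21.Dev
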