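import Mathlib

/-!
# Pure algebra for the theorem on formal functions (seat 54)

Mathlib only. `isPrecomplete_of_finite` (finite module over a precomplete ring), `mem_of_forall_mem_sup`
(submodules of finite modules are adically closed), `eq_zero_of_forall_mem` (Krull),
`isAdicComplete_of_le` (Noetherian, complete for `I`, `J ≤ I` ⇒ complete for `J`) and the abstract limit
argument `ff_of_data`.
-/

set_option autoImplicit false
set_option linter.style.haveILetI false
universe u
namespace Groth.Agent.Lib.Seat54.FFAlg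

variable {A : Type*} [CommRing A]

/-- a finite module over an `I`-adically precomplete ring is `I`-adically precomplete -/
theorem isPrecomplete_of_finite (I : Ideal A) [IsPrecomplete I A] (M : Type*) [AddCommGroup M]
    [Module A M] [Module.Finite A M] : IsPrecomplete I M := by
  obtain ⟨k, m, hm⟩ := Module.Finite.exists_fin (R := A) (M := M)
  refine ⟨fun f hf => ?_⟩
  have hdiff : ∀ n, ∃ c : Fin k → A, (∀ i, c i ∈ I ^ n) ∧ f (n + 1) - f n = ∑ i, c i • m i := by
    intro n
    have h1 : f (n + 1) - f n ∈ (I ^ n • ⊤ : Submodule A M) :=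
      SModEq.sub_mem.1 (hf (Nat.le_succ n)).symm
    rw [← hm, Submodule.mem_ideal_smul_span_iff_exists_sum] at h1
    obtain ⟨a, ha, hsum⟩ := h1
    refine ⟨fun i => a i, ha, ?_⟩
    rw [← hsum, Finsupp.sum_fintype]
    intro i; exact zero_smul _ _
  choose c hc hfc using hdiff
  let s : Fin k → ℕ → A := fun i n => ∑ l ∈ Finset.range n, c l i
  have hs : ∀ i, ∃ L : A, ∀ n, s i n ≡ L [SMOD (I ^ n • ⊤ : Submodule A A)] := by
    intro i
    apply IsPrecomplete.prec ‹IsPrecomplete I A›
    have : AdicCompletion.IsAdicCauchy I A (s i) := by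
      rw [AdicCompletion.isAdicCauchy_iff]
      intro n
      rw [SModEq.sub_mem]
      have : s i n - s i (n + 1) = - c n i := by
        simp only [s, Finset.sum_range_succ]; ring
      rw [this]
      exact neg_mem (by simpa using hc n i)
    exact fun {m n} h => this h
  choose L hL using hs
  have hfn : ∀ n, f n = f 0 + ∑ i, s i n • m i := by
    intro n
    induction n with
    | zero => simp [s]
    | succ n ih =>
      have : f (n + 1) = f n + ∑ i, c n i • m i := by rw [← hfc n]; abel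
      rw [this, ih, add_assoc, ← Finset.sum_add_distrib]
      congr 1
      refine Finset.sum_congr rfl fun i _ => ?_
      simp only [s, Finset.sum_range_succ, add_smul]
  refine ⟨f 0 + ∑ i, L i • m i, fun n => ?_⟩
  rw [hfn n, SModEq.sub_mem, add_sub_add_left_eq_sub, ← Finset.sum_sub_distrib]
  refine Submodule.sum_mem _ fun i _ => ?_
  rw [← sub_smul]
  refine Submodule.smul_mem_smul ?_ Submodule.mem_top
  have := SModEq.sub_mem.1 (hL i n)
  simpa using this

/-- submodules of finite modules are closed for the `I`-adic topology when `I` is in the radical -/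
theorem mem_of_forall_mem_sup [IsNoetherianRing A] (I : Ideal A) (hI : I ≤ Ideal.jacobson ⊥)
    {M : Type*} [AddCommGroup M] [Module A M] [Module.Finite A M] (N : Submodule A M) (x : M)
    (h : ∀ k : ℕ, x ∈ N ⊔ (I ^ k • ⊤ : Submodule A M)) : x ∈ N := by
  have h1 : ∀ k : ℕ, N.mkQ x ∈ (I ^ k • ⊤ : Submodule A (M ⧸ N)) := by
    intro k
    obtain ⟨n, hn, y, hy, rfl⟩ := Submodule.mem_sup.1 (h k)
    have : N.mkQ (n + y) = N.mkQ y := by
      rw [map_add, Submodule.mkQ_apply, (Submodule.Quotient.mk_eq_zero N).2 hn, zero_add]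
    rw [this]
    have h2 : N.mkQ y ∈ Submodule.map N.mkQ (I ^ k • ⊤ : Submodule A M) := Submodule.mem_map_of_mem hy
    rw [Submodule.map_smul''] at h2
    exact Submodule.smul_mono le_rfl le_top h2
  have h3 : N.mkQ x ∈ (⨅ k : ℕ, I ^ k • ⊤ : Submodule A (M ⧸ N)) := (Submodule.mem_iInf _).2 h1
  rw [Ideal.iInf_pow_smul_eq_bot_of_le_jacobson I hI] at h3
  exact (Submodule.Quotient.mk_eq_zero N).1 ((Submodule.mem_bot A).1 h3)

/-- a Noetherian ring complete for `I` is complete for every smaller ideal -/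
theorem isAdicComplete_of_le [IsNoetherianRing A] {I J : Ideal A} [IsAdicComplete I A] (h : J ≤ I) :
    IsAdicComplete J A := by
  have hI : I ≤ Ideal.jacobson ⊥ := IsAdicComplete.le_jacobson_bot I
  have hle : ∀ n : ℕ, (J ^ n • ⊤ : Submodule A A) ≤ I ^ n • ⊤ := fun n =>
    Submodule.smul_mono (Ideal.pow_right_mono h n) le_rfl
  refine { haus' := ?_, prec' := ?_ }
  · intro x hx
    exact IsHausdorff.haus ‹IsAdicComplete I A›.toIsHausdorff x (fun n => (hx n).mono (hle n))
  · intro f hf
    obtain ⟨L, hL⟩ := IsPrecomplete.prec ‹IsAdicComplete I A›.toIsPrecomplete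
      (fun {m n} hmn => (hf hmn).mono (hle m))
    refine ⟨L, fun n => ?_⟩
    rw [SModEq.sub_mem]
    apply mem_of_forall_mem_sup I hI
    intro k
    have h1 : f n - L = (f n - f (n + k)) + (f (n + k) - L) := by abel
    rw [h1]
    refine Submodule.add_mem_sup (SModEq.sub_mem.1 (hf (Nat.le_add_right n k))) ?_
    exact Submodule.smul_mono (Ideal.pow_le_pow_right (Nat.le_add_left k n)) le_rfl
      (SModEq.sub_mem.1 (hL (n + k)))

theorem eq_zero_of_forall_mem [IsNoetherianRing A] (I : Ideal A) (hI : I ≤ Ideal.jacobson ⊥)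
    {M : Type*} [AddCommGroup M] [Module A M] [Module.Finite A M] (x : M)
    (h : ∀ k : ℕ, x ∈ (I ^ k • ⊤ : Submodule A M)) : x = 0 := by
  have h3 : x ∈ (⨅ k : ℕ, I ^ k • ⊤ : Submodule A M) := (Submodule.mem_iInf _).2 h
  rw [Ideal.iInf_pow_smul_eq_bot_of_le_jacobson I hI] at h3
  exact (Submodule.mem_bot A).1 h3

/-- The abstract limit argument of the theorem on formal functions. -/
theorem ff_of_data [IsNoetherianRing A] (I : Ideal A) [IsAdicComplete I A]
    {H : Type*} [AddCommGroup H] [Module A H] [Module.Finite A H]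
    {Hn : ℕ → Type*} [∀ n, AddCommGroup (Hn n)] [∀ n, Module A (Hn n)]
    {E : ℕ → Type*} [∀ n, AddCommGroup (E n)] [∀ n, Module A (E n)] [∀ n, Module.Finite A (E n)]
    (π : ∀ n, H →ₗ[A] Hn n) (τ : ∀ n, Hn (n + 1) →ₗ[A] Hn n)
    (hτπ : ∀ n x, τ n (π (n + 1) x) = π n x)
    (δ : ∀ n, Hn n →ₗ[A] E n) (jj : ∀ n, E (n + 1) →ₗ[A] E n)
    (hjδ : ∀ n y, jj n (δ (n + 1) y) = δ n (τ n y))
    (hex : ∀ n y, δ n y = 0 → ∃ x, π n x = y)
    (n₀ : ℕ)
    (hker : ∀ m x, π (n₀ + m) x = 0 → x ∈ (I ^ m • ⊤ : Submodule A H))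
    (hjj : ∀ n, n₀ ≤ n → ∀ d : ℕ, ∀ e ∈ (I ^ d • ⊤ : Submodule A (E (n + 1))),
      jj n e ∈ (I ^ (d + 1) • ⊤ : Submodule A (E n))) :
    (∀ x, (∀ n, π n x = 0) → x = 0) ∧
    (∀ y : ∀ n, Hn n, (∀ n, τ n (y (n + 1)) = y n) → ∃ x, ∀ n, π n x = y n) := by
  have hI : I ≤ Ideal.jacobson ⊥ := IsAdicComplete.le_jacobson_bot I
  refine ⟨fun x hx => eq_zero_of_forall_mem I hI x (fun m => hker m x (hx _)), fun y hy => ?_⟩
  -- the obstruction classes vanish
  have hκ : ∀ n, jj n (δ (n + 1) (y (n + 1))) = δ n (y n) := fun n => by rw [hjδ, hy]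
  have h1 : ∀ d : ℕ, ∀ n, n₀ ≤ n → δ n (y n) ∈ (I ^ d • ⊤ : Submodule A (E n)) := by
    intro d
    induction d with
    | zero => intro n _; simp
    | succ d ih =>
      intro n hn
      rw [← hκ n]
      exact hjj n hn d _ (ih (n + 1) (hn.trans (Nat.le_succ n)))
  have h2 : ∀ n, n₀ ≤ n → δ n (y n) = 0 := fun n hn =>
    eq_zero_of_forall_mem I hI _ (fun d => h1 d n hn)
  have h3 : ∀ k n, n₀ ≤ n + k → δ n (y n) = 0 := by
    intro k
    induction k with
    | zero => intro n hn; exact h2 n hn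
    | succ k ih =>
      intro n hn
      rw [← hκ n, ih (n + 1) (by lia), map_zero]
  have h4 : ∀ n, δ n (y n) = 0 := fun n => h3 n₀ n (by lia)
  choose x hx using fun n => hex n (y n) (h4 n)
  -- successive differences
  have hd : ∀ n, x (n + 1) - x n ∈ LinearMap.ker (π n) := by
    intro n
    rw [LinearMap.mem_ker, map_sub, ← hτπ, hx, hx, hy, sub_self]
  have hmono : ∀ n, LinearMap.ker (π (n + 1)) ≤ LinearMap.ker (π n) := by
    intro n z hz
    rw [LinearMap.mem_ker] at hz ⊢
    rw [← hτπ, hz, map_zero]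
  have hmono' : ∀ k n, LinearMap.ker (π (n + k)) ≤ LinearMap.ker (π n) := by
    intro k
    induction k with
    | zero => intro n; exact le_rfl
    | succ k ih => intro n; exact (hmono (n + k)).trans (ih n)
  have htel : ∀ k n, x (n + k) - x n ∈ LinearMap.ker (π n) := by
    intro k
    induction k with
    | zero => intro n; simp
    | succ k ih =>
      intro n
      have : x (n + (k + 1)) - x n = (x (n + k + 1) - x (n + k)) + (x (n + k) - x n) := by
        rw [← add_assoc]; abel
      rw [this]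
      exact add_mem (hmono' k n (hd (n + k))) (ih n)
  -- the limit
  haveI : IsPrecomplete I H := isPrecomplete_of_finite I H
  have hcau : AdicCompletion.IsAdicCauchy I H (fun m => x (n₀ + m)) := by
    rw [AdicCompletion.isAdicCauchy_iff]
    intro m
    rw [SModEq.sub_mem]
    have h5 := hker m _ (LinearMap.mem_ker.1 (hd (n₀ + m)))
    have : x (n₀ + m) - x (n₀ + (m + 1)) = -(x (n₀ + m + 1) - x (n₀ + m)) := by
      rw [← add_assoc]; abel
    rw [this]
    exact neg_mem h5
  obtain ⟨L, hL⟩ := IsPrecomplete.prec ‹IsPrecomplete I H› (fun {m n} h => hcau h)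
  refine ⟨L, fun n => ?_⟩
  have h6 : L - x n ∈ LinearMap.ker (π n) := by
    apply mem_of_forall_mem_sup I hI
    intro k
    have h7 : L - x n = (x (n + (n₀ + k)) - x n) + (L - x (n₀ + (n + k))) := by
      have : n + (n₀ + k) = n₀ + (n + k) := by lia
      rw [this]; abel
    rw [h7]
    refine Submodule.add_mem_sup (htel _ n) ?_
    have h8 := SModEq.sub_mem.1 (hL (n + k)).symm
    exact Submodule.smul_mono (Ideal.pow_le_pow_right (Nat.le_add_left k n)) le_rfl h8
  have h9 := LinearMap.mem_ker.1 h6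
  rw [map_sub, sub_eq_zero] at h9
  rw [h9, hx]

end Groth.Agent.Lib.Seat54.FFAlg
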