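import Groth.Agent.Lib.Seat21DevFilt
import Groth.Agent.Lib.Helper23FinType2

/-!
# Coherence of the middle term of a left exact sequence, and of direct images of subobjects (seat 21)

Namespace `Groth.Agent.Lib.Seat21.Dev`.

* `isFiniteType_of_exact_of_mono` : on a locally Noetherian scheme, if `0 ⟶ A ⟶ B ⟶ C` is exact with `A`, `C` quasi-coherent
  of finite type and `B` quasi-coherent then `B` is of finite type.
* `isCoh_of_exact_of_mono`, `isCoh_of_mono` : the corresponding statements for `Coh.IsCoh`.
-/

set_option autoImplicit false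
set_option linter.style.haveILetI false
universe u
open CategoryTheory Limits AlgebraicGeometry TopologicalSpace Opposite

noncomputable section

namespace Groth.Agent.Lib.Seat21.Dev

variable {X : Scheme.{u}}

/-- middle term of a left exact sequence: finite type -/
theorem isFiniteType_of_exact_of_mono [IsLocallyNoetherian X] (S : ShortComplex X.Modules) (hS : S.Exact)
    (hf : Mono S.f) (h₁ : Coh.IsCoh S.X₁) (h₂ : S.X₂.IsQuasicoherent) (h₃ : Coh.IsCoh S.X₃) :
    SheafOfModules.IsFiniteType (R := X.ringCatSheaf) S.X₂ := by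
  haveI := h₁.1
  haveI := h₁.2
  haveI := h₃.1
  haveI := h₃.2
  rw [Groth.Agent.Lib.Helper23.FinType.isFiniteType_iff_forall_affine]
  intro U hU
  haveI : IsNoetherianRing Γ(X, U) := IsLocallyNoetherian.component_noetherian ⟨U, hU⟩
  let E : X.Modules ⥤ ModuleCat.{u} Γ(X, U) := SheafOfModules.evaluation.{u} X.ringCatSheaf (op U)
  have hE1 : PreservesFiniteLimits (SheafOfModules.evaluation.{u} X.ringCatSheaf (op U)) := inferInstance
  have hE2 : PreservesLimit (parallelPair S.g 0) E := (hE1.preservesFiniteLimits WalkingParallelPair).preservesLimit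
  have hE3 : (SheafOfModules.evaluation.{u} X.ringCatSheaf (op U)).Additive := by
    unfold SheafOfModules.evaluation
    infer_instance
  haveI : E.Additive := hE3
  haveI : E.PreservesZeroMorphisms := inferInstance
  have hex : (S.map E).Exact := hS.map_of_mono_of_preservesKernel E hf hE2
  have hrk := hex.moduleCat_range_eq_ker
  haveI h1f : Module.Finite Γ(X, U) ↑((S.map E).X₁) :=
    Groth.Agent.Lib.Helper23.FinType.finite_of_isFiniteType S.X₁ hU
  haveI h3f : Module.Finite Γ(X, U) ↑((S.map E).X₃) :=
    Groth.Agent.Lib.Helper23.FinType.finite_of_isFiniteType S.X₃ hU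
  haveI : _root_.IsNoetherian Γ(X, U) ↑((S.map E).X₁) := isNoetherian_of_isNoetherianRing_of_finite _ _
  haveI : _root_.IsNoetherian Γ(X, U) ↑((S.map E).X₃) := isNoetherian_of_isNoetherianRing_of_finite _ _
  haveI : _root_.IsNoetherian Γ(X, U) ↑((S.map E).X₂) :=
    isNoetherian_of_range_eq_ker (S.map E).f.hom (S.map E).g.hom hrk
  exact (inferInstance : Module.Finite Γ(X, U) ↑((S.map E).X₂))

/-- middle term of a left exact sequence: coherence -/
theorem isCoh_of_exact_of_mono [IsLocallyNoetherian X] (S : ShortComplex X.Modules) (hS : S.Exact)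
    (hf : Mono S.f) (h₁ : Coh.IsCoh S.X₁) (h₂ : S.X₂.IsQuasicoherent) (h₃ : Coh.IsCoh S.X₃) : Coh.IsCoh S.X₂ :=
  ⟨h₂, isFiniteType_of_exact_of_mono S hS hf h₁ h₂ h₃⟩

/-- a quasi-coherent subobject of a coherent module is coherent -/
theorem isCoh_of_mono [IsLocallyNoetherian X] {N M : X.Modules} (i : N ⟶ M) [Mono i] (hN : N.IsQuasicoherent)
    (hM : Coh.IsCoh M) : Coh.IsCoh N := by
  haveI := hM.1
  haveI := hM.2
  exact ⟨hN, Groth.Agent.Lib.Helper23.FinType.isFiniteType_of_mono i⟩

end Groth.Agent.Lib.Seat21.Dev
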