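import Mathlib
import Groth.Prelude.Def_Formal
import Groth.Agent.S8821
import Groth.Agent.Lib.Helper23QCohAbelian
import Groth.Agent.Lib.Seat21DevPushCoh
import Groth.Agent.Lib.Seat21DevGraph

/-!
# Quotients `M/𝔞M` of `O_X`-modules by ideals of the base ring (seat 54)

For `X` over `Spec A`, an ideal `𝔞` of `A` and `M : X.Modules`:
`Q 𝔞 M := cokernel (Formal.smulFamily 𝔞 M)` (so `Formal.modPow I n M = Q (I^n) M` by `rfl`),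
`qπ`, `qLE` (for `𝔞 ≤ 𝔟`), `K 𝔞 M := kernel (qπ 𝔞 M)` (`= 𝔞M`), `Kι`, `KLE`, the short exact sequence
`ses 𝔞 M : 0 → 𝔞M → M → M/𝔞M → 0`, the morphisms of short exact sequences `sesLE`, coherence
(`isCoh_Q`, `isCoh_K`), `smulMod_Q_eq_zero`, refinement lemma `exists_refinement_K`,
and the double quotient `qq : Q 𝔟 (Q 𝔞 M) ≅ Q (𝔞 ⊔ 𝔟) M`.
-/

set_option autoImplicit false
set_option linter.style.haveILetI false
universe u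
open CategoryTheory CategoryTheory.Limits AlgebraicGeometry Opposite

namespace Groth.Agent.Lib.Seat54.FFQuot

open Groth.Agent.S8821

variable {A : Type u} [CommRing A] {X : Scheme.{u}} [X.Over (Spec (CommRingCat.of A))]

/-- `M/𝔞M` -/
noncomputable def Q (𝔞 : Ideal A) (M : X.Modules) : X.Modules := cokernel (Formal.smulFamily 𝔞 M)

/-- the projection `M ⟶ M/𝔞M` -/
noncomputable def qπ (𝔞 : Ideal A) (M : X.Modules) : M ⟶ Q 𝔞 M := cokernel.π (Formal.smulFamily 𝔞 M)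

instance (𝔞 : Ideal A) (M : X.Modules) : Epi (qπ 𝔞 M) := by
  unfold qπ; exact @coequalizer.π_epi _ _ _ _ _ _ _

theorem modPow_eq (I : Ideal A) (n : ℕ) (M : X.Modules) : Formal.modPow I n M = Q (I ^ n) M := rfl

theorem modPowπ_eq (I : Ideal A) (n : ℕ) (M : X.Modules) : Formal.modPowπ I n M = qπ (I ^ n) M := rfl

/-- the transition map `M/𝔞M ⟶ M/𝔟M` for `𝔞 ≤ 𝔟` -/
noncomputable def qLE {𝔞 𝔟 : Ideal A} (h : 𝔞 ≤ 𝔟) (M : X.Modules) : Q 𝔞 M ⟶ Q 𝔟 M :=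
  cokernel.desc _ (qπ 𝔟 M) (Formal.smulFamily_π_of_le h M)

@[reassoc (attr := simp)]
theorem qπ_qLE {𝔞 𝔟 : Ideal A} (h : 𝔞 ≤ 𝔟) (M : X.Modules) : qπ 𝔞 M ≫ qLE h M = qπ 𝔟 M :=
  cokernel.π_desc _ _ _

theorem modPowTrans_eq (I : Ideal A) (n : ℕ) (M : X.Modules) :
    Formal.modPowTrans I n M = qLE (Ideal.pow_le_pow_right (Nat.le_succ n)) M := rfl

@[reassoc (attr := simp)]
theorem qLE_qLE {𝔞 𝔟 𝔠 : Ideal A} (h : 𝔞 ≤ 𝔟) (h' : 𝔟 ≤ 𝔠) (M : X.Modules) :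
    qLE h M ≫ qLE h' M = qLE (h.trans h') M := by
  rw [← cancel_epi (qπ 𝔞 M), qπ_qLE_assoc, qπ_qLE, qπ_qLE]

@[simp]
theorem qLE_refl (𝔞 : Ideal A) (M : X.Modules) : qLE (le_refl 𝔞) M = 𝟙 _ := by
  rw [← cancel_epi (qπ 𝔞 M), qπ_qLE, Category.comp_id]

theorem smulMod_qπ_of_mem (𝔞 : Ideal A) (M : X.Modules) (a : A) (ha : a ∈ 𝔞) :
    Formal.smulMod A M a ≫ qπ 𝔞 M = 0 :=
  smulMod_π_of_mem 𝔞 M a ha

/-- `M/𝔞M` is killed by `𝔞` -/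
theorem smulMod_Q_eq_zero (𝔞 : Ideal A) (M : X.Modules) (a : A) (ha : a ∈ 𝔞) :
    Formal.smulMod A (Q 𝔞 M) a = 0 := by
  rw [← cancel_epi (qπ 𝔞 M), ← smulMod_comp, smulMod_qπ_of_mem 𝔞 M a ha, comp_zero]

/-- a map out of `M` kills `𝔞M` iff it factors through `M/𝔞M` -/
noncomputable def qDesc (𝔞 : Ideal A) {M T : X.Modules} (g : M ⟶ T)
    (hg : ∀ a ∈ 𝔞, Formal.smulMod A M a ≫ g = 0) : Q 𝔞 M ⟶ T :=
  cokernel.desc _ g ((smulFamily_comp_eq_zero_iff g).2 hg)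

@[reassoc (attr := simp)]
theorem qπ_qDesc (𝔞 : Ideal A) {M T : X.Modules} (g : M ⟶ T)
    (hg : ∀ a ∈ 𝔞, Formal.smulMod A M a ≫ g = 0) : qπ 𝔞 M ≫ qDesc 𝔞 g hg = g :=
  cokernel.π_desc _ _ _

/-- functoriality of `M/𝔞M` in `M` -/
noncomputable def qMap (𝔞 : Ideal A) {M N : X.Modules} (φ : M ⟶ N) : Q 𝔞 M ⟶ Q 𝔞 N :=
  qDesc 𝔞 (φ ≫ qπ 𝔞 N) (fun a ha => by
    rw [← Category.assoc, smulMod_comp, Category.assoc, smulMod_qπ_of_mem 𝔞 N a ha, comp_zero])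

@[reassoc (attr := simp)]
theorem qπ_qMap (𝔞 : Ideal A) {M N : X.Modules} (φ : M ⟶ N) : qπ 𝔞 M ≫ qMap 𝔞 φ = φ ≫ qπ 𝔞 N :=
  qπ_qDesc _ _ _

/-! ### the submodule `𝔞M` -/

/-- `𝔞M`, as the kernel of `M ⟶ M/𝔞M` -/
noncomputable def K (𝔞 : Ideal A) (M : X.Modules) : X.Modules := kernel (qπ 𝔞 M)

/-- the inclusion `𝔞M ⟶ M` -/
noncomputable def Kι (𝔞 : Ideal A) (M : X.Modules) : K 𝔞 M ⟶ M := kernel.ι (qπ 𝔞 M)

instance (𝔞 : Ideal A) (M : X.Modules) : Mono (Kι 𝔞 M) := by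
  unfold Kι; exact @equalizer.ι_mono _ _ _ _ _ _ _

@[reassoc (attr := simp)]
theorem Kι_qπ (𝔞 : Ideal A) (M : X.Modules) : Kι 𝔞 M ≫ qπ 𝔞 M = 0 := kernel.condition _

/-- lift a map killed by `M ⟶ M/𝔞M` to `𝔞M` -/
noncomputable def Klift (𝔞 : Ideal A) {M T : X.Modules} (g : T ⟶ M) (hg : g ≫ qπ 𝔞 M = 0) : T ⟶ K 𝔞 M :=
  kernel.lift _ g hg

@[reassoc (attr := simp)]
theorem Klift_Kι (𝔞 : Ideal A) {M T : X.Modules} (g : T ⟶ M) (hg : g ≫ qπ 𝔞 M = 0) :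
    Klift 𝔞 g hg ≫ Kι 𝔞 M = g := kernel.lift_ι _ _ _

/-- the inclusion `𝔞M ⟶ 𝔟M` for `𝔞 ≤ 𝔟` -/
noncomputable def KLE {𝔞 𝔟 : Ideal A} (h : 𝔞 ≤ 𝔟) (M : X.Modules) : K 𝔞 M ⟶ K 𝔟 M :=
  Klift 𝔟 (Kι 𝔞 M) (by rw [← qπ_qLE h M, Kι_qπ_assoc, zero_comp])

@[reassoc (attr := simp)]
theorem KLE_Kι {𝔞 𝔟 : Ideal A} (h : 𝔞 ≤ 𝔟) (M : X.Modules) : KLE h M ≫ Kι 𝔟 M = Kι 𝔞 M :=
  Klift_Kι _ _ _

/-- the short complex `𝔞M ⟶ M ⟶ M/𝔞M` -/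
noncomputable def ses (𝔞 : Ideal A) (M : X.Modules) : ShortComplex X.Modules :=
  ShortComplex.mk (Kι 𝔞 M) (qπ 𝔞 M) (Kι_qπ 𝔞 M)

theorem ses_shortExact (𝔞 : Ideal A) (M : X.Modules) : (ses 𝔞 M).ShortExact where
  exact := ShortComplex.exact_of_f_is_kernel _ (kernelIsKernel (qπ 𝔞 M))
  mono_f := inferInstanceAs (Mono (Kι 𝔞 M))
  epi_g := inferInstanceAs (Epi (qπ 𝔞 M))

/-- the morphism of short exact sequences for `𝔞 ≤ 𝔟` -/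
noncomputable def sesLE {𝔞 𝔟 : Ideal A} (h : 𝔞 ≤ 𝔟) (M : X.Modules) : ses 𝔞 M ⟶ ses 𝔟 M where
  τ₁ := KLE h M
  τ₂ := 𝟙 M
  τ₃ := qLE h M
  comm₁₂ := by change KLE h M ≫ Kι 𝔟 M = Kι 𝔞 M ≫ 𝟙 M; rw [KLE_Kι, Category.comp_id]
  comm₂₃ := by change 𝟙 M ≫ qπ 𝔟 M = qπ 𝔞 M ≫ qLE h M; rw [qπ_qLE, Category.id_comp]

/-- a map into `M` killed by `M ⟶ M/𝔞M` is, after refinement, a finite sum `∑ z_i ≫ a_i` with `a_i ∈ 𝔞`;
here in the weak form: it factors through `smulFamily`. -/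
theorem exists_refinement_K (𝔞 : Ideal A) {M T : X.Modules} (y : T ⟶ M) (hy : y ≫ qπ 𝔞 M = 0) :
    ∃ (T' : X.Modules) (p : T' ⟶ T) (_ : Epi p) (x : T' ⟶ ∐ fun _ : 𝔞 => M),
      p ≫ y = x ≫ Formal.smulFamily 𝔞 M :=
  (Limits.CokernelCofork.IsColimit.comp_π_eq_zero_iff_up_to_refinements
    (cokernelIsCokernel (Formal.smulFamily 𝔞 M)) y).1 hy

/-! ### coherence -/

theorem isQCoh_sigma (𝔞 : Ideal A) (M : X.Modules) [M.IsQuasicoherent] :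
    (∐ fun _ : 𝔞 => M : X.Modules).IsQuasicoherent :=
  Groth.Agent.Lib.Helper23.QCohLocal.isQuasicoherent_colimit _
    (fun _ => by change M.IsQuasicoherent; infer_instance)

theorem isCoh_Q (𝔞 : Ideal A) {M : X.Modules} (hM : Coh.IsCoh M) : Coh.IsCoh (Q 𝔞 M) := by
  haveI := hM.1
  haveI := hM.2
  haveI := isQCoh_sigma 𝔞 M
  haveI : (Q 𝔞 M).IsQuasicoherent := Groth.Agent.Lib.Helper23.QCohLocal.isQuasicoherent_cokernel _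
  exact ⟨inferInstance, Groth.Agent.Lib.Helper23.FinType.isFiniteType_of_epi (qπ 𝔞 M)⟩

theorem isCoh_K [IsLocallyNoetherian X] (𝔞 : Ideal A) {M : X.Modules} (hM : Coh.IsCoh M) :
    Coh.IsCoh (K 𝔞 M) := by
  haveI := hM.1
  haveI := (isCoh_Q 𝔞 hM).1
  haveI : (K 𝔞 M).IsQuasicoherent := Groth.Agent.Lib.Helper23.QCohLocal.isQuasicoherent_kernel _
  exact Groth.Agent.Lib.Seat21.Dev.isCoh_of_mono (Kι 𝔞 M) inferInstance hM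

/-! ### additivity of scalar multiplication, annihilator ideal, double quotient -/

theorem smulModΓ_add (M : X.Modules) (r s : Coh.Γtop X) :
    Formal.smulModΓ M (r + s) = Formal.smulModΓ M r + Formal.smulModΓ M s := by
  apply Scheme.Modules.hom_ext
  intro U
  ext m
  have h := congrArg (fun φ => (φ.hom.app (op U)).hom m) (Coh.smulAb_add M r s)
  exact h

theorem smulMod_add (M : X.Modules) (a b : A) :
    Formal.smulMod A M (a + b) = Formal.smulMod A M a + Formal.smulMod A M b := by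
  unfold Formal.smulMod
  rw [map_add, smulModΓ_add]

theorem smulMod_zero (M : X.Modules) : Formal.smulMod A M (0 : A) = 0 := by
  have h := smulMod_add M (0 : A) 0
  rw [add_zero] at h
  exact left_eq_add.mp h

/-- the ideal of scalars acting as zero on `T` -/
def annIdeal (T : X.Modules) : Ideal A where
  carrier := {c | Formal.smulMod A T c = 0}
  add_mem' := by
    intro a b ha hb
    change Formal.smulMod A T (a + b) = 0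
    rw [smulMod_add, ha, hb, add_zero]
  zero_mem' := smulMod_zero T
  smul_mem' := by
    intro c x hx
    change Formal.smulMod A T (c * x) = 0
    rw [smulMod_mul, hx, zero_comp]

theorem mem_annIdeal (T : X.Modules) (c : A) : c ∈ annIdeal (A := A) T ↔ Formal.smulMod A T c = 0 := Iff.rfl

theorem le_annIdeal_Q (𝔞 : Ideal A) (M : X.Modules) : 𝔞 ≤ annIdeal (Q 𝔞 M) :=
  fun a ha => smulMod_Q_eq_zero 𝔞 M a ha

theorem annIdeal_le_of_epi {M N : X.Modules} (p : M ⟶ N) [Epi p] : annIdeal (A := A) M ≤ annIdeal N := by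
  intro c hc
  rw [mem_annIdeal] at hc ⊢
  rw [← cancel_epi p, ← smulMod_comp, hc, zero_comp, comp_zero]

theorem annIdeal_le_of_mono {M N : X.Modules} (i : M ⟶ N) [Mono i] : annIdeal (A := A) N ≤ annIdeal M := by
  intro c hc
  rw [mem_annIdeal] at hc ⊢
  rw [← cancel_mono i, smulMod_comp, hc, comp_zero, zero_comp]

/-- the double quotient `(M/𝔞M)/𝔟(M/𝔞M) ≅ M/(𝔞+𝔟)M` -/
noncomputable def qq (𝔞 𝔟 : Ideal A) (M : X.Modules) : Q 𝔟 (Q 𝔞 M) ≅ Q (𝔞 ⊔ 𝔟) M where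
  hom := qDesc 𝔟 (qLE le_sup_left M) (fun b hb => by
    rw [smulMod_comp, smulMod_Q_eq_zero (𝔞 ⊔ 𝔟) M b (le_sup_right (a := 𝔞) hb), comp_zero])
  inv := qDesc (𝔞 ⊔ 𝔟) (qπ 𝔞 M ≫ qπ 𝔟 (Q 𝔞 M)) (fun c hc => by
    have h1 : 𝔞 ⊔ 𝔟 ≤ annIdeal (Q 𝔟 (Q 𝔞 M)) :=
      sup_le ((le_annIdeal_Q 𝔞 M).trans (annIdeal_le_of_epi (qπ 𝔟 (Q 𝔞 M)))) (le_annIdeal_Q 𝔟 _)
    have h2 := h1 hc
    rw [mem_annIdeal] at h2
    rw [smulMod_comp, h2, comp_zero])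
  hom_inv_id := by
    rw [← cancel_epi (qπ 𝔟 (Q 𝔞 M)), ← cancel_epi (qπ 𝔞 M), qπ_qDesc_assoc, qπ_qLE_assoc, qπ_qDesc,
      Category.comp_id]
  inv_hom_id := by
    rw [← cancel_epi (qπ (𝔞 ⊔ 𝔟) M), qπ_qDesc_assoc, Category.assoc, qπ_qDesc, qπ_qLE, Category.comp_id]

@[reassoc]
theorem qπ_qπ_qq_hom (𝔞 𝔟 : Ideal A) (M : X.Modules) :
    qπ 𝔞 M ≫ qπ 𝔟 (Q 𝔞 M) ≫ (qq 𝔞 𝔟 M).hom = qπ (𝔞 ⊔ 𝔟) M := by
  unfold qq
  dsimp only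
  rw [qπ_qDesc, qπ_qLE]

@[reassoc]
theorem qπ_qq_hom (𝔞 𝔟 : Ideal A) (M : X.Modules) :
    qπ 𝔟 (Q 𝔞 M) ≫ (qq 𝔞 𝔟 M).hom = qLE le_sup_left M := by
  unfold qq
  dsimp only
  rw [qπ_qDesc]

/-- compatibility of the double quotient with enlarging `𝔟` -/
@[reassoc]
theorem qLE_qq_hom (𝔞 : Ideal A) {𝔟 𝔟' : Ideal A} (h : 𝔟 ≤ 𝔟') (M : X.Modules) :
    qLE h (Q 𝔞 M) ≫ (qq 𝔞 𝔟' M).hom = (qq 𝔞 𝔟 M).hom ≫ qLE (sup_le_sup_left h 𝔞) M := by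
  rw [← cancel_epi (qπ 𝔟 (Q 𝔞 M)), qπ_qLE_assoc, qπ_qq_hom, qπ_qq_hom_assoc, qLE_qLE]

/-- compatibility of the double quotient with enlarging `𝔞` -/
@[reassoc]
theorem qMap_qq_hom {𝔞 𝔞' : Ideal A} (h : 𝔞 ≤ 𝔞') (𝔟 : Ideal A) (M : X.Modules) :
    qMap 𝔟 (qLE h M) ≫ (qq 𝔞' 𝔟 M).hom = (qq 𝔞 𝔟 M).hom ≫ qLE (sup_le_sup_right h 𝔟) M := by
  rw [← cancel_epi (qπ 𝔟 (Q 𝔞 M)), qπ_qMap_assoc, qπ_qq_hom, qπ_qq_hom_assoc, qLE_qLE, qLE_qLE]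

end Groth.Agent.Lib.Seat54.FFQuot
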