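import Mathlib
import Groth.Agent.Lib.Seat54FFQuot
import Groth.Agent.S0045

/-!
# The principal case: `a^n F` for `a : A` (seat 54)

For `a : A`, `P a n := (Ideal.span {a})^n`, `Kn a F n := K (P a n) F = a^n F ⊆ F`:
* `μ a F n : a^n F ⟶ a^(n+1) F` multiplication by `a` (`μ_Kι`, `μ_j`, `j_μ`), always an epimorphism;
* `exists_isIso_μ`: on a Noetherian scheme with `F` coherent, `μ a F n` is an isomorphism for `n ≥ n₀`
  (the chain `ker (a^n : F → F)` stabilises, by `S0045`).
-/

set_option autoImplicit false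
set_option linter.style.haveILetI false
universe u
open CategoryTheory CategoryTheory.Limits AlgebraicGeometry Opposite

namespace Groth.Agent.Lib.Seat54.FFPrinc

open Groth.Agent.S8821 Groth.Agent.Lib.Seat54.FFQuot

variable {A : Type u} [CommRing A] {X : Scheme.{u}} [X.Over (Spec (CommRingCat.of A))]

/-- the ideal `(a)^n` -/
abbrev P (a : A) (n : ℕ) : Ideal A := (Ideal.span ({a} : Set A)) ^ n

theorem P_succ_le (a : A) (n : ℕ) : P a (n + 1) ≤ P a n := Ideal.pow_le_pow_right (Nat.le_succ n)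

theorem smulMod_pow_qπ (a : A) (F : X.Modules) (n : ℕ) :
    Formal.smulMod A F (a ^ n) ≫ qπ (P a n) F = 0 :=
  smulMod_qπ_of_mem _ F _ (Ideal.pow_mem_pow (Ideal.mem_span_singleton_self a) n)

/-- a map into `F` killed by `F ⟶ F/a^nF` factors, up to refinement, through multiplication by `a^n` -/
theorem exists_refinement_pow (a : A) (F : X.Modules) (n : ℕ) {T : X.Modules} (y : T ⟶ F)
    (hy : y ≫ qπ (P a n) F = 0) :
    ∃ (T' : X.Modules) (p : T' ⟶ T) (_ : Epi p) (z : T' ⟶ F), p ≫ y = z ≫ Formal.smulMod A F (a ^ n) :=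
  factor_of_comp_π_eq_zero F a n y hy

theorem Kι_smul_qπ (a : A) (F : X.Modules) (n : ℕ) :
    (Kι (P a n) F ≫ Formal.smulMod A F a) ≫ qπ (P a (n + 1)) F = 0 := by
  obtain ⟨T', p, hp, z, hz⟩ := exists_refinement_pow a F n (Kι (P a n) F) (Kι_qπ _ _)
  rw [← cancel_epi p, comp_zero, ← Category.assoc, ← Category.assoc, hz, Category.assoc, Category.assoc,
    ← Category.assoc (Formal.smulMod A F (a ^ n)), ← smulMod_mul', ← pow_succ, smulMod_pow_qπ, comp_zero]

/-- multiplication by `a` from `a^nF` to `a^(n+1)F` -/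
noncomputable def μ (a : A) (F : X.Modules) (n : ℕ) : K (P a n) F ⟶ K (P a (n + 1)) F :=
  Klift _ (Kι (P a n) F ≫ Formal.smulMod A F a) (Kι_smul_qπ a F n)

/-- the inclusion `a^(n+1)F ⟶ a^nF` -/
noncomputable def j (a : A) (F : X.Modules) (n : ℕ) : K (P a (n + 1)) F ⟶ K (P a n) F :=
  KLE (P_succ_le a n) F

@[reassoc]
theorem μ_Kι (a : A) (F : X.Modules) (n : ℕ) :
    μ a F n ≫ Kι (P a (n + 1)) F = Kι (P a n) F ≫ Formal.smulMod A F a :=
  Klift_Kι _ _ _

@[reassoc]
theorem j_Kι (a : A) (F : X.Modules) (n : ℕ) : j a F n ≫ Kι (P a n) F = Kι (P a (n + 1)) F :=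
  KLE_Kι _ _

theorem μ_j (a : A) (F : X.Modules) (n : ℕ) : μ a F n ≫ j a F n = Formal.smulMod A (K (P a n) F) a := by
  rw [← cancel_mono (Kι (P a n) F), Category.assoc, j_Kι, μ_Kι, smulMod_comp]

theorem j_μ (a : A) (F : X.Modules) (n : ℕ) :
    j a F n ≫ μ a F n = Formal.smulMod A (K (P a (n + 1)) F) a := by
  rw [← cancel_mono (Kι (P a (n + 1)) F), Category.assoc, μ_Kι, j_Kι_assoc, smulMod_comp]

instance epi_μ (a : A) (F : X.Modules) (n : ℕ) : Epi (μ a F n) := by
  rw [epi_iff_surjective_up_to_refinements]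
  intro T y
  obtain ⟨T', p, hp, z, hz⟩ := exists_refinement_pow a F (n + 1) (y ≫ Kι (P a (n + 1)) F)
    (by rw [Category.assoc, Kι_qπ, comp_zero])
  refine ⟨T', p, hp, Klift _ (z ≫ Formal.smulMod A F (a ^ n))
    (by rw [Category.assoc, smulMod_pow_qπ, comp_zero]), ?_⟩
  rw [← cancel_mono (Kι (P a (n + 1)) F), Category.assoc, Category.assoc, μ_Kι, Klift_Kι_assoc, hz,
    Category.assoc, ← smulMod_mul', ← pow_succ]

/-- if `ker a^(n+1) = ker a^n` on `F` then `a : a^nF ⟶ a^(n+1)F` is a monomorphism -/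
theorem mono_μ (a : A) (F : X.Modules) (n : ℕ)
    (h : kernelSubobject (Formal.smulMod A F (a ^ (n + 1))) = kernelSubobject (Formal.smulMod A F (a ^ n))) :
    Mono (μ a F n) := by
  apply Preadditive.mono_of_cancel_zero
  intro T g hg
  rw [← cancel_mono (Kι (P a n) F), zero_comp]
  obtain ⟨T', p, hp, z, hz⟩ := exists_refinement_pow a F n (g ≫ Kι (P a n) F)
    (by rw [Category.assoc, Kι_qπ, comp_zero])
  have h1 : z ≫ Formal.smulMod A F (a ^ (n + 1)) = 0 := by
    rw [pow_succ, smulMod_mul', ← Category.assoc, ← hz, Category.assoc, Category.assoc, ← μ_Kι,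
      ← Category.assoc g, hg, zero_comp, comp_zero]
  have h2 : (kernelSubobject (Formal.smulMod A F (a ^ (n + 1)))).Factors z :=
    kernelSubobject_factors _ z h1
  rw [h] at h2
  have h3 : z ≫ Formal.smulMod A F (a ^ n) = 0 := (kernelSubobject_factors_iff _ z).1 h2
  rw [← cancel_epi p, comp_zero, hz, h3]

/-- the increasing chain `ker (a^n : F → F)` -/
noncomputable def kerChain (a : A) (F : X.Modules) : ℕ →o Subobject F where
  toFun n := kernelSubobject (Formal.smulMod A F (a ^ n))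
  monotone' := by
    apply monotone_nat_of_le_succ
    intro n
    rw [pow_succ, smulMod_mul']
    exact kernelSubobject_comp_le _ _

theorem exists_isIso_μ [IsNoetherian X] (a : A) {F : X.Modules} (hF : Coh.IsCoh F) :
    ∃ n₀ : ℕ, ∀ n : ℕ, n₀ ≤ n → IsIso (μ a F n) := by
  haveI := hF.1
  obtain ⟨n₀, hn₀⟩ := Groth.Agent.S0045.result X F hF (kerChain a F) (fun n => by
    have hk : (kernel (Formal.smulMod A F (a ^ n))).IsQuasicoherent :=
      Groth.Agent.Lib.Helper23.QCohLocal.isQuasicoherent_kernel _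
    exact (SheafOfModules.isQuasicoherent X.ringCatSheaf).prop_of_iso
      (kernelSubobjectIso (Formal.smulMod A F (a ^ n))).symm hk)
  refine ⟨n₀, fun n hn => ?_⟩
  haveI : Mono (μ a F n) := mono_μ a F n
    (((hn₀ (n + 1) (hn.trans (Nat.le_succ n))).trans (hn₀ n hn).symm))
  exact isIso_of_mono_of_epi _

end Groth.Agent.Lib.Seat54.FFPrinc
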