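import Groth.Agent.Lib.Seat54HHFinite

/-!
# Finiteness of `Coh.HH` along short exact sequences, part 2 (seat 54)

Exactness at the left-hand term (`range_eq_ker_left`), injectivity of `H^0` of a mono (`ker_zero_eq_bot`),
`finite_left`, `finite_left_zero`, retracts (`finite_of_retract`), and the packaged two-out-of-three statement
`twoOfThree` for the class of modules all of whose cohomology groups are finite over a Noetherian ring `A`.
-/

set_option autoImplicit false
universe u
open CategoryTheory CategoryTheory.Limits AlgebraicGeometry Abelian Opposite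

namespace Groth.Agent.Lib.Seat54.HHFinite

open Groth.Agent.Lib.Helper23.QCohLocal

variable (A : Type u) [CommRing A] {X : Scheme.{u}} [X.Over (Spec (CommRingCat.of A))]

/-- exactness of the cohomology sequence at the left-hand term, in positive degree -/
theorem range_eq_ker_left (S : ShortComplex X.Modules) (hS : S.ShortExact) (i : ℕ) :
    LinearMap.range (δlin A S hS i) = LinearMap.ker (Canon.HHlin A S.f (i + 1)) := by
  have hS' := shortExact_toAbF S hS
  ext y
  rw [LinearMap.mem_range, LinearMap.mem_ker]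
  constructor
  · rintro ⟨x, rfl⟩
    have h0 : hS'.extClass.comp (Ext.mk₀ (S.map (toAbF X)).f) (add_zero 1) = 0 := hS'.extClass_comp
    have h1 : Canon.HHlin A S.f (i + 1) (δlin A S hS i x) =
        ((show Ext _ ((S.map (toAbF X)).X₃) i from x).comp hS'.extClass rfl).comp
          (Ext.mk₀ (S.map (toAbF X)).f) (add_zero (i + 1)) := rfl
    rw [h1, Ext.comp_assoc _ _ _ rfl (add_zero 1) (by lia), h0, Ext.comp_zero]
    rfl
  · intro hy
    have hy' : (show Ext _ ((S.map (toAbF X)).X₁) (i + 1) from y).comp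
        (Ext.mk₀ (S.map (toAbF X)).f) (add_zero (i + 1)) = 0 := hy
    obtain ⟨x₃, hx₃⟩ := Ext.covariant_sequence_exact₁ _ hS' _ hy' rfl
    exact ⟨x₃, hx₃⟩

variable [IsNoetherianRing A]

/-- the left-hand term of a short exact sequence has finite `H^{i+1}` if the middle one has and the
right-hand one has finite `H^i` -/
theorem finite_left (S : ShortComplex X.Modules) (hS : S.ShortExact) (i : ℕ)
    (h₃ : Module.Finite A (Coh.HH X S.X₃ i)) (h₂ : Module.Finite A (Coh.HH X S.X₂ (i + 1))) :
    Module.Finite A (Coh.HH X S.X₁ (i + 1)) := by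
  have : IsNoetherian A (Coh.HH X S.X₃ i) := isNoetherian_of_isNoetherianRing_of_finite A _
  have : IsNoetherian A (Coh.HH X S.X₂ (i + 1)) := isNoetherian_of_isNoetherianRing_of_finite A _
  have : IsNoetherian A (Coh.HH X S.X₁ (i + 1)) :=
    isNoetherian_of_range_eq_ker _ _ (range_eq_ker_left A S hS i)
  exact Module.IsNoetherian.finite A _

omit [IsNoetherianRing A] in
/-- `H^0` of a monomorphism is injective -/
theorem ker_zero_eq_bot {F G : X.Modules} (φ : F ⟶ G) [Mono φ] :
    LinearMap.ker (Canon.HHlin A φ 0) = ⊥ := by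
  rw [LinearMap.ker_eq_bot]
  intro x y hxy
  have : Mono ((SheafOfModules.toSheaf X.ringCatSheaf).map φ) :=
    inferInstanceAs (Mono ((toAbF X).map φ))
  have h1 : Canon.HHlin A φ 0 x =
      (show Ext _ ((SheafOfModules.toSheaf X.ringCatSheaf).obj F) 0 from x).comp
        (Ext.mk₀ ((SheafOfModules.toSheaf X.ringCatSheaf).map φ)) (add_zero 0) := rfl
  have h2 : Canon.HHlin A φ 0 y =
      (show Ext _ ((SheafOfModules.toSheaf X.ringCatSheaf).obj F) 0 from y).comp
        (Ext.mk₀ ((SheafOfModules.toSheaf X.ringCatSheaf).map φ)) (add_zero 0) := rfl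
  rw [h1, h2] at hxy
  obtain ⟨a, ha⟩ := (Ext.mk₀_bijective _ _).2
    (show Ext _ ((SheafOfModules.toSheaf X.ringCatSheaf).obj F) 0 from x)
  obtain ⟨b, hb⟩ := (Ext.mk₀_bijective _ _).2
    (show Ext _ ((SheafOfModules.toSheaf X.ringCatSheaf).obj F) 0 from y)
  rw [← ha, ← hb] at hxy
  rw [Ext.mk₀_comp_mk₀, Ext.mk₀_comp_mk₀] at hxy
  have h3 := (Ext.mk₀_bijective _ _).1 hxy
  rw [cancel_mono] at h3
  exact ha.symm.trans ((congrArg Ext.mk₀ h3).trans hb)

/-- the left-hand term of a short exact sequence has finite `H^0` if the middle one has -/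
theorem finite_left_zero {F G : X.Modules} (φ : F ⟶ G) [Mono φ]
    (h₂ : Module.Finite A (Coh.HH X G 0)) : Module.Finite A (Coh.HH X F 0) := by
  have : IsNoetherian A (Coh.HH X G 0) := isNoetherian_of_isNoetherianRing_of_finite A _
  have : IsNoetherian A (Coh.HH X F 0) :=
    isNoetherian_of_injective (Canon.HHlin A φ 0) (LinearMap.ker_eq_bot.1 (ker_zero_eq_bot A φ))
  exact Module.IsNoetherian.finite A _

omit [IsNoetherianRing A] in
/-- a retract of a module with finite cohomology has finite cohomology -/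
theorem finite_of_retract {M N : X.Modules} (i : N ⟶ M) (r : M ⟶ N) (hir : i ≫ r = 𝟙 N) (n : ℕ)
    (h : Module.Finite A (Coh.HH X M n)) : Module.Finite A (Coh.HH X N n) := by
  refine Module.Finite.of_surjective (Canon.HHlin A r n) fun y => ⟨Canon.HHlin A i n y, ?_⟩
  rw [← HHlin_comp, hir, HHlin_id]

/-- two-out-of-three for the property "all cohomology groups are finite `A`-modules" -/
theorem twoOfThree (S : ShortComplex X.Modules) (hS : S.ShortExact) :
    ((∀ n, Module.Finite A (Coh.HH X S.X₁ n)) → (∀ n, Module.Finite A (Coh.HH X S.X₂ n)) →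
      ∀ n, Module.Finite A (Coh.HH X S.X₃ n)) ∧
    ((∀ n, Module.Finite A (Coh.HH X S.X₁ n)) → (∀ n, Module.Finite A (Coh.HH X S.X₃ n)) →
      ∀ n, Module.Finite A (Coh.HH X S.X₂ n)) ∧
    ((∀ n, Module.Finite A (Coh.HH X S.X₂ n)) → (∀ n, Module.Finite A (Coh.HH X S.X₃ n)) →
      ∀ n, Module.Finite A (Coh.HH X S.X₁ n)) := by
  refine ⟨fun h₁ h₂ n => finite_right A S hS n (h₂ n) (h₁ (n + 1)),
    fun h₁ h₃ n => finite_mid A S hS n (h₁ n) (h₃ n), fun h₂ h₃ n => ?_⟩
  cases n with
  | zero =>
    have : Mono S.f := hS.mono_f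
    exact finite_left_zero A S.f (h₂ 0)
  | succ n => exact finite_left A S hS n (h₃ n) (h₂ (n + 1))

end Groth.Agent.Lib.Seat54.HHFinite
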