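import Mathlib
import Groth.Agent.Lib.Seat54FFPrinc
import Groth.Agent.Lib.Seat54FFAlg
import Groth.Agent.Lib.Seat54HHFinite2
import Groth.Agent.Lib.Seat54ProperFinite3

/-!
# Theorem on formal functions: the case of a principal ideal (seat 54)

`ff_principal`: `A` Noetherian and `(a)`-adically complete, `X` proper over `Spec A`, `F` coherent:
`H^p(X, F) → lim_n H^p(X, F/a^(n+1)F)` is injective and surjective (elementwise form).
Also `δlin_naturality`, `HHlin_smulMod`.
-/

set_option autoImplicit false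
set_option linter.style.haveILetI false
universe u
open CategoryTheory CategoryTheory.Limits AlgebraicGeometry Opposite

namespace Groth.Agent.Lib.Seat54.FFPrincCoh

open Groth.Agent.S8821 Groth.Agent.Lib.Seat54.FFQuot Groth.Agent.Lib.Seat54.FFPrinc
  Groth.Agent.Lib.Seat54.HHFinite Groth.Agent.Lib.Seat54.FFAlg
open Groth.Agent.Lib.Helper23.QCohLocal

variable (A : Type u) [CommRing A] {X : Scheme.{u}} [X.Over (Spec (CommRingCat.of A))]

theorem HHlin_smulMod (M : X.Modules) (a : A) (p : ℕ) (x : Coh.HH X M p) :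
    Canon.HHlin A (Formal.smulMod A M a) p x = a • x := rfl

/-- naturality of the connecting homomorphism -/
theorem δlin_naturality {S S' : ShortComplex X.Modules} (hS : S.ShortExact) (hS' : S'.ShortExact)
    (φ : S ⟶ S') (i : ℕ) (x : Coh.HH X S.X₃ i) :
    Canon.HHlin A φ.τ₁ (i + 1) (δlin A S hS i x) = δlin A S' hS' i (Canon.HHlin A φ.τ₃ i x) :=
  Groth.Agent.Lib.Seat81.EdgeAb.map_extδ (shortExact_toAbF S hS) (shortExact_toAbF S' hS')
    ((toAbF X).mapShortComplex.map φ) i x

variable {A}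

theorem smul_mem_pow_succ {I : Ideal A} {a : A} (ha : a ∈ I) {M : Type*} [AddCommGroup M] [Module A M]
    {d : ℕ} {z : M} (hz : z ∈ (I ^ d • ⊤ : Submodule A M)) : a • z ∈ (I ^ (d + 1) • ⊤ : Submodule A M) := by
  rw [pow_succ', Submodule.mul_smul]
  exact Submodule.smul_mem_smul ha hz

theorem map_mem_pow {I : Ideal A} {M N : Type*} [AddCommGroup M] [Module A M] [AddCommGroup N] [Module A N]
    (f : M →ₗ[A] N) {d : ℕ} {z : M} (hz : z ∈ (I ^ d • ⊤ : Submodule A M)) :
    f z ∈ (I ^ d • ⊤ : Submodule A N) := by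
  have h2 : f z ∈ Submodule.map f (I ^ d • ⊤ : Submodule A M) := Submodule.mem_map_of_mem hz
  rw [Submodule.map_smul''] at h2
  exact Submodule.smul_mono le_rfl le_top h2

variable (A)

/-- a class of coherent modules with finite cohomology, stable under `M ↦ M/𝔞M` and `M ↦ 𝔞M` -/
structure FinClass (X : Scheme.{u}) [X.Over (Spec (CommRingCat.of A))] (C : X.Modules → Prop) : Prop where
  coh : ∀ M, C M → Coh.IsCoh M
  fin : ∀ M, C M → ∀ p, Module.Finite A (Coh.HH X M p)
  quot : ∀ (𝔞 : Ideal A) M, C M → C (Q 𝔞 M)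
  sub : ∀ (𝔞 : Ideal A) M, C M → C (K 𝔞 M)

variable [IsNoetherianRing A]

/-- **Formal functions for a principal ideal**, for a class of modules with finite cohomology. -/
theorem ff_principal_of_class [IsNoetherian X] {C : X.Modules → Prop} (hC : FinClass A X C)
    (a : A) [IsAdicComplete (Ideal.span ({a} : Set A)) A] (F : X.Modules)
    (hF : C F) (p : ℕ) :
    (∀ x : Coh.HH X F p, (∀ n, Canon.HHlin A (qπ (P a (n + 1)) F) p x = 0) → x = 0) ∧
    (∀ y : ∀ n, Coh.HH X (Q (P a (n + 1)) F) p,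
      (∀ n, Canon.HHlin A (qLE (P_succ_le a (n + 1)) F) p (y (n + 1)) = y n) →
        ∃ x, ∀ n, Canon.HHlin A (qπ (P a (n + 1)) F) p x = y n) := by
  obtain ⟨n₀, hn₀⟩ := exists_isIso_μ a (hC.coh F hF)
  have ha : a ∈ Ideal.span ({a} : Set A) := Ideal.mem_span_singleton_self a
  haveI : Module.Finite A (Coh.HH X F p) := hC.fin F hF p
  haveI : ∀ n, Module.Finite A (Coh.HH X (K (P a (n + 1)) F) (p + 1)) := fun n =>
    hC.fin _ (hC.sub _ F hF) (p + 1)
  -- images of `H^p(a^nF)` in `H^p(F)`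
  have hR : ∀ m, ∀ e : Coh.HH X (K (P a (n₀ + m + 1)) F) p,
      Canon.HHlin A (Kι (P a (n₀ + m + 1)) F) p e ∈
        ((Ideal.span ({a} : Set A)) ^ m • ⊤ : Submodule A (Coh.HH X F p)) := by
    intro m
    induction m with
    | zero => intro e; simp
    | succ m ih =>
      intro e
      haveI : IsIso (μ a F (n₀ + m + 1)) := hn₀ _ (by lia)
      have h0 : Kι (P a (n₀ + (m + 1) + 1)) F =
          inv (μ a F (n₀ + m + 1)) ≫ Kι (P a (n₀ + m + 1)) F ≫ Formal.smulMod A F a := by
        rw [← μ_Kι, IsIso.inv_hom_id_assoc]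
        rfl
      have h2 : Canon.HHlin A (Kι (P a (n₀ + (m + 1) + 1)) F) p e =
          a • Canon.HHlin A (Kι (P a (n₀ + m + 1)) F) p
            (Canon.HHlin A (inv (μ a F (n₀ + m + 1))) p e) :=
        (congrArg (fun φ => Canon.HHlin A φ p e) h0).trans
          ((HHlin_comp A _ _ p e).trans (HHlin_comp A _ _ p _))
      rw [h2]
      exact smul_mem_pow_succ ha (ih _)
  refine ff_of_data (Ideal.span ({a} : Set A))
    (H := Coh.HH X F p) (Hn := fun n => Coh.HH X (Q (P a (n + 1)) F) p)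
    (E := fun n => Coh.HH X (K (P a (n + 1)) F) (p + 1))
    (fun n => Canon.HHlin A (qπ (P a (n + 1)) F) p)
    (fun n => Canon.HHlin A (qLE (P_succ_le a (n + 1)) F) p)
    (fun n x => by rw [← HHlin_comp, qπ_qLE])
    (fun n => δlin A (ses (P a (n + 1)) F) (ses_shortExact _ _) p)
    (fun n => Canon.HHlin A (j a F (n + 1)) (p + 1))
    (fun n y => δlin_naturality A (ses_shortExact _ _) (ses_shortExact _ _)
      (sesLE (P_succ_le a (n + 1)) F) p y)
    (fun n y hy => by
      have h := range_eq_ker_right A (ses (P a (n + 1)) F) (ses_shortExact _ _) p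
      have hy' : y ∈ LinearMap.ker (δlin A (ses (P a (n + 1)) F) (ses_shortExact _ _) p) := hy
      rw [← h] at hy'
      exact hy')
    n₀ ?_ ?_
  · intro m x hx
    have h := range_eq_ker_mid A (ses (P a (n₀ + m + 1)) F) (ses_shortExact _ _) p
    have hx' : x ∈ LinearMap.ker (Canon.HHlin A (ses (P a (n₀ + m + 1)) F).g p) := hx
    rw [← h] at hx'
    obtain ⟨e, rfl⟩ := hx'
    exact hR m e
  · intro n hn d e he
    haveI : IsIso (μ a F (n + 1)) := hn₀ _ (by lia)
    have h1 : j a F (n + 1) = inv (μ a F (n + 1)) ≫ Formal.smulMod A (K (P a (n + 1)) F) a := by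
      rw [← μ_j, IsIso.inv_hom_id_assoc]
    have h2 : Canon.HHlin A (j a F (n + 1)) (p + 1) e =
        a • Canon.HHlin A (inv (μ a F (n + 1))) (p + 1) e := by
      rw [← HHlin_smulMod, ← HHlin_comp]
      exact congrArg (fun φ => Canon.HHlin A φ (p + 1) e) h1
    change Canon.HHlin A (j a F (n + 1)) (p + 1) e ∈ _
    rw [h2]
    exact smul_mem_pow_succ ha (map_mem_pow _ he)

variable [IsProper (X ↘ Spec (CommRingCat.of A))]

omit [IsNoetherianRing A] in
theorem isNoetherian_of_proper (A : Type u) [CommRing A] [IsNoetherianRing A] (X : Scheme.{u})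
    [X.Over (Spec (CommRingCat.of A))] [IsProper (X ↘ Spec (CommRingCat.of A))] : IsNoetherian X := by
  have hlN : IsLocallyNoetherian X :=
    LocallyOfFiniteType.isLocallyNoetherian (X ↘ Spec (CommRingCat.of A))
  have hcpt : CompactSpace X :=
    (quasiCompact_iff_compactSpace (X ↘ Spec (CommRingCat.of A))).1 inferInstance
  exact {}

/-- the class of all coherent modules on a proper scheme -/
theorem finClass_proper : FinClass A X (fun M => Coh.IsCoh M) := by
  haveI : IsNoetherian X := isNoetherian_of_proper A X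
  exact ⟨fun _ h => h, fun M h p => Groth.Agent.Lib.Seat54.ProperFinite.finite_HH A X M h p,
    fun 𝔞 _ h => isCoh_Q 𝔞 h, fun 𝔞 _ h => isCoh_K 𝔞 h⟩

/-- **Formal functions for a principal ideal.** -/
theorem ff_principal (a : A) [IsAdicComplete (Ideal.span ({a} : Set A)) A] (F : X.Modules)
    (hF : Coh.IsCoh F) (p : ℕ) :
    (∀ x : Coh.HH X F p, (∀ n, Canon.HHlin A (qπ (P a (n + 1)) F) p x = 0) → x = 0) ∧
    (∀ y : ∀ n, Coh.HH X (Q (P a (n + 1)) F) p,
      (∀ n, Canon.HHlin A (qLE (P_succ_le a (n + 1)) F) p (y (n + 1)) = y n) →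
        ∃ x, ∀ n, Canon.HHlin A (qπ (P a (n + 1)) F) p x = y n) := by
  haveI : IsNoetherian X := isNoetherian_of_proper A X
  exact ff_principal_of_class A (finClass_proper A) a F hF p

end Groth.Agent.Lib.Seat54.FFPrincCoh
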