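import Mathlib
import Groth.Agent.Lib.Seat16SeqMod
import Groth.Agent.Lib.Seat54FFPrincCoh
import Groth.Agent.Lib.Seat54ProperFinite3
import Groth.Agent.Lib.Seat21DevGraph
import Groth.Agent.Lib.Seat17QcTrunc
import Groth.Agent.Lib.Helper2ModExact
import Groth.Agent.Lib.Helper23FinTypeLocal
import Groth.Agent.Lib.Helper18OmLS10

/-!
# Sequences of coherent modules with commuting degree-one operators (seat 16)

`SeqSh X s`: a sequence `N k` of `O_X`-modules with `s` commuting operators `T i k : N k ⟶ N (k+1)`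
(an `ℕ`-graded module over `O_X[T_1..T_s]`).

Main theorem `evGen_HH` (finiteness of `⊕_k H^p(X, N_k)` over `A[T_1..T_s]`, in "eventually generated"
form): for `X` proper over a Noetherian ring `A`, all `N k` coherent, and the sections sequences
`Γ(U_j, N_k)` eventually generated for the members `U_j` of a finite affine open cover, the sequence
`H^p(X, N_k)` is eventually generated: `H^p(X, N_{k+1}) = ∑ i, T_i H^p(X, N_k)` for `k ≥ d`.
Proof by induction on `s` via kernel/image/cokernel of the last operator (no relative Spec).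
-/

set_option autoImplicit false
set_option linter.style.haveILetI false
set_option linter.dupNamespace false
universe u

open CategoryTheory CategoryTheory.Limits AlgebraicGeometry Opposite TopologicalSpace

namespace Groth.Agent.Lib.Seat16.SeqSh

open Groth.Agent.Lib.Seat16.SeqMod Groth.Agent.Lib.Seat54.HHFinite Groth.Agent.Lib.Seat17.QcTrunc

/-- a sequence of `O_X`-modules with `s` commuting degree-one operators -/
structure SeqSh (X : Scheme.{u}) (s : ℕ) where
  /-- the pieces -/
  N : ℕ → X.Modules
  /-- the operators -/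
  T : Fin s → ∀ k, N k ⟶ N (k + 1)
  comm : ∀ (i j : Fin s) (k : ℕ), T j k ≫ T i (k + 1) = T i k ≫ T j (k + 1)

variable {X : Scheme.{u}} {s : ℕ}

/-- the operators on sections over `U` -/
noncomputable def secT (S : SeqSh X s) (U : X.Opens) :
    Fin s → ∀ k, Γ(S.N k, U) →ₗ[Γ(X, U)] Γ(S.N (k + 1), U) :=
  fun i k => appₗ (S.T i k) U

theorem secT_comm (S : SeqSh X s) (U : X.Opens) (i j : Fin s) (k : ℕ) (x : Γ(S.N k, U)) :
    secT S U i (k + 1) (secT S U j k x) = secT S U j (k + 1) (secT S U i k x) := by
  have h := congrArg (fun φ => (Scheme.Modules.Hom.app φ U) x) (S.comm i j k)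
  exact h

/-- eventually generated on sections over `U` -/
def LocGen (S : SeqSh X s) (U : X.Opens) : Prop := EvGen (secT S U)

section Coh

variable (A : Type u) [CommRing A] [X.Over (Spec (CommRingCat.of A))]

/-- the operators on cohomology -/
noncomputable def HT (S : SeqSh X s) (p : ℕ) :
    Fin s → ∀ k, Coh.HH X (S.N k) p →ₗ[A] Coh.HH X (S.N (k + 1)) p :=
  fun i k => Canon.HHlin A (S.T i k) p

theorem HT_comm (S : SeqSh X s) (p : ℕ) (i j : Fin s) (k : ℕ) (x : Coh.HH X (S.N k) p) :
    HT A S p i (k + 1) (HT A S p j k x) = HT A S p j (k + 1) (HT A S p i k x) := by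
  unfold HT
  rw [← HHlin_comp, ← HHlin_comp, S.comm i j k]

end Coh

/-! ### kernel, cokernel and image of the last operator -/

section Step

variable (S : SeqSh X (s + 1))

/-- the last operator -/
abbrev t (k : ℕ) : S.N k ⟶ S.N (k + 1) := S.T (Fin.last s) k

theorem t_comm (i : Fin s) (k : ℕ) :
    t S k ≫ S.T i.castSucc (k + 1) = S.T i.castSucc k ≫ t S (k + 1) :=
  S.comm _ _ k

/-- the kernel of the last operator -/
noncomputable abbrev Kseq : SeqSh X s where
  N k := kernel (t S k)
  T i k := kernel.map (t S k) (t S (k + 1)) (S.T i.castSucc k) (S.T i.castSucc (k + 1)) (t_comm S i k)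
  comm i j k := by
    apply (cancel_mono (kernel.ι (t S (k + 1 + 1)))).1
    simp only [Category.assoc, kernel.lift_ι, kernel.lift_ι_assoc]
    rw [S.comm]

/-- the cokernel of the last operator (piece `k` has degree `k + 1`) -/
noncomputable abbrev Cseq : SeqSh X s where
  N k := cokernel (t S k)
  T i k := cokernel.map (t S k) (t S (k + 1)) (S.T i.castSucc k) (S.T i.castSucc (k + 1)) (t_comm S i k)
  comm i j k := by
    apply (cancel_epi (cokernel.π (t S k))).1
    simp only [cokernel.π_desc_assoc, cokernel.π_desc, Category.assoc]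
    rw [← Category.assoc, ← Category.assoc, S.comm]

theorem π_Cseq_T (i : Fin s) (k : ℕ) :
    cokernel.π (t S k) ≫ (Cseq S).T i k = S.T i.castSucc (k + 1) ≫ cokernel.π (t S (k + 1)) := by
  simp [Cseq]

/-- the image of the last operator (piece `k` has degree `k + 1`) -/
noncomputable abbrev Eseq : SeqSh X s where
  N k := kernel (cokernel.π (t S k))
  T i k := kernel.map (cokernel.π (t S k)) (cokernel.π (t S (k + 1))) (S.T i.castSucc (k + 1))
    ((Cseq S).T i k) (π_Cseq_T S i k)
  comm i j k := by
    apply (cancel_mono (kernel.ι (cokernel.π (t S (k + 1 + 1))))).1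
    simp only [Category.assoc, kernel.lift_ι, kernel.lift_ι_assoc]
    rw [S.comm]

theorem Kseq_T_ι (i : Fin s) (k : ℕ) :
    (Kseq S).T i k ≫ kernel.ι (t S (k + 1)) = kernel.ι (t S k) ≫ S.T i.castSucc k := by
  simp [Kseq]

theorem Eseq_T_ι (i : Fin s) (k : ℕ) :
    (Eseq S).T i k ≫ kernel.ι (cokernel.π (t S (k + 1))) =
      kernel.ι (cokernel.π (t S k)) ≫ S.T i.castSucc (k + 1) := by
  simp [Eseq]

/-- `N k ⟶ E k` -/
noncomputable def toE (k : ℕ) : S.N k ⟶ kernel (cokernel.π (t S k)) := Abelian.factorThruImage (t S k)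

instance (k : ℕ) : Epi (toE S k) := inferInstanceAs (Epi (Abelian.factorThruImage (t S k)))

theorem toE_ι (k : ℕ) : toE S k ≫ kernel.ι (cokernel.π (t S k)) = t S k :=
  Abelian.image.fac (t S k)

theorem toE_T (i : Fin s) (k : ℕ) :
    toE S k ≫ (Eseq S).T i k = S.T i.castSucc k ≫ toE S (k + 1) := by
  apply (cancel_mono (kernel.ι (cokernel.π (t S (k + 1))))).1
  rw [Category.assoc, Eseq_T_ι, ← Category.assoc, toE_ι, Category.assoc, toE_ι, t_comm]

/-- `0 → K k → N k → E k → 0` -/
noncomputable def ses1 (k : ℕ) : ShortComplex X.Modules :=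
  ShortComplex.mk (kernel.ι (t S k)) (toE S k) (by
    apply (cancel_mono (kernel.ι (cokernel.π (t S k)))).1
    rw [Category.assoc, toE_ι, kernel.condition, zero_comp])

theorem ses1_shortExact (k : ℕ) : (ses1 S k).ShortExact := by
  have hex : (ses1 S k).Exact := by
    let S' : ShortComplex X.Modules := ShortComplex.mk (kernel.ι (t S k)) (t S k) (kernel.condition _)
    let φ : ses1 S k ⟶ S' :=
      { τ₁ := 𝟙 _
        τ₂ := 𝟙 _
        τ₃ := kernel.ι (cokernel.π (t S k))
        comm₁₂ := by simp [ses1, S']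
        comm₂₃ := by
          change 𝟙 _ ≫ t S k = toE S k ≫ kernel.ι (cokernel.π (t S k))
          rw [toE_ι, Category.id_comp] }
    haveI : Epi φ.τ₁ := by change Epi (𝟙 _); infer_instance
    haveI : IsIso φ.τ₂ := by change IsIso (𝟙 _); infer_instance
    haveI : Mono φ.τ₃ := by change Mono (kernel.ι _); infer_instance
    exact (ShortComplex.exact_iff_of_epi_of_isIso_of_mono φ).2 (ShortComplex.exact_kernel (t S k))
  exact
    { exact := hex
      mono_f := inferInstanceAs (Mono (kernel.ι (t S k)))
      epi_g := inferInstanceAs (Epi (toE S k)) }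

/-- `0 → E k → N (k+1) → C k → 0` -/
noncomputable def ses2 (k : ℕ) : ShortComplex X.Modules :=
  ShortComplex.mk (kernel.ι (cokernel.π (t S k))) (cokernel.π (t S k)) (kernel.condition _)

theorem ses2_shortExact (k : ℕ) : (ses2 S k).ShortExact where
  exact := ShortComplex.exact_kernel _
  mono_f := inferInstanceAs (Mono (kernel.ι _))
  epi_g := inferInstanceAs (Epi (cokernel.π _))

/-- the operators as morphisms of the first short exact sequences -/
noncomputable def φ1 (i : Fin s) (k : ℕ) : ses1 S k ⟶ ses1 S (k + 1) where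
  τ₁ := (Kseq S).T i k
  τ₂ := S.T i.castSucc k
  τ₃ := (Eseq S).T i k
  comm₁₂ := Kseq_T_ι S i k
  comm₂₃ := (toE_T S i k).symm

/-- the operators as morphisms of the second short exact sequences -/
noncomputable def φ2 (i : Fin s) (k : ℕ) : ses2 S k ⟶ ses2 S (k + 1) where
  τ₁ := (Eseq S).T i k
  τ₂ := S.T i.castSucc (k + 1)
  τ₃ := (Cseq S).T i k
  comm₁₂ := Eseq_T_ι S i k
  comm₂₃ := (π_Cseq_T S i k).symm

end Step

/-! ### local generation is inherited by kernel and cokernel -/

section Loc

open Groth.Agent.Lib.Helper2.ModExact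

theorem locGen_Kseq [IsLocallyNoetherian X] (S : SeqSh X (s + 1)) (hS : ∀ k, Coh.IsCoh (S.N k))
    {U : X.Opens} (hU : IsAffineOpen U) (h : LocGen S U) : LocGen (Kseq S) U := by
  haveI : IsNoetherianRing Γ(X, U) := IsLocallyNoetherian.component_noetherian ⟨U, hU⟩
  have hfin : ∀ k, Module.Finite Γ(X, U) Γ(S.N k, U) := fun k => by
    haveI := (hS k).1
    haveI := (hS k).2
    exact Groth.Agent.Lib.Helper23.FinType.finite_of_isFiniteType (S.N k) hU
  refine evGen_ker_last (secT S U) (secT_comm S U) hfin h (secT (Kseq S) U)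
    (fun k => appₗ (kernel.ι (t S k)) U) (fun k => app_injective_of_mono _ U) ?_ ?_ ?_
  · intro i k y
    exact congrArg (fun φ => (Scheme.Modules.Hom.app φ U) y) (Kseq_T_ι S i k)
  · intro k y
    exact congrArg (fun φ => (Scheme.Modules.Hom.app φ U) y) (kernel.condition (t S k))
  · intro k x hx
    have h0 : (toE S k).app U x = 0 := by
      apply app_injective_of_mono (kernel.ι (cokernel.π (t S k))) U
      rw [map_zero]
      exact (congrArg (fun φ => (Scheme.Modules.Hom.app φ U) x) (toE_ι S k)).trans hx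
    exact exists_app_eq_of_shortExact (ses1 S k) (ses1_shortExact S k) U x h0

theorem locGen_Cseq (S : SeqSh X (s + 1)) (hS : ∀ k, Coh.IsCoh (S.N k))
    {U : X.Opens} (hU : IsAffineOpen U) (h : LocGen S U) : LocGen (Cseq S) U := by
  refine evGen_coker_last (secT S U) h (secT (Cseq S) U)
    (fun k => appₗ (cokernel.π (t S k)) U) (fun k => ?_) ?_ ?_
  · haveI := (hS (k + 1)).1
    haveI := (hS k).1
    haveI : (cokernel (t S k)).IsQuasicoherent :=
      Groth.Agent.Lib.Helper23.QCohLocal.isQuasicoherent_cokernel (t S k)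
    exact Groth.Agent.Lib.Helper23.FinType.surjective_app_of_epi (cokernel.π (t S k)) hU
  · intro i k x
    exact congrArg (fun φ => (Scheme.Modules.Hom.app φ U) x) (π_Cseq_T S i k).symm
  · intro k y
    exact congrArg (fun φ => (Scheme.Modules.Hom.app φ U) y) (cokernel.condition (t S k))

end Loc

/-! ### the main theorem -/

section Main

open Groth.Agent.Lib.Seat54.FFPrincCoh Groth.Agent.Lib.Seat54.ProperFinite Groth.Agent.Lib.Seat21.Dev

variable (A : Type u) [CommRing A] [IsNoetherianRing A] [X.Over (Spec (CommRingCat.of A))]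
  [IsProper (X ↘ Spec (CommRingCat.of A))]

/-- **finiteness of graded cohomology**: for `X` proper over a Noetherian ring, a sequence of coherent modules
with `s` commuting operators which is eventually generated on sections over a finite affine open cover has
eventually generated cohomology. -/
theorem evGen_HH {ι : Type*} [Finite ι] (U : ι → X.Opens) (hU : IsOpenCover U)
    (hUa : ∀ j, IsAffineOpen (U j)) :
    ∀ (s : ℕ) (S : SeqSh X s), (∀ k, Coh.IsCoh (S.N k)) → (∀ j, LocGen S (U j)) →
      ∀ p : ℕ, EvGen (HT A S p) := by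
  haveI : IsNoetherian X := isNoetherian_of_proper A X
  intro s
  induction s with
  | zero =>
    intro S hS hgen p
    choose d hd using hgen
    cases nonempty_fintype ι
    refine evGen_zero_of_subsingleton _ (Finset.univ.sup d) fun k hk => ?_
    have hz : ∀ j (x : Γ(S.N (k + 1), U j)), x = 0 := by
      intro j x
      obtain ⟨y, hy⟩ := hd j k (le_trans (Finset.le_sup (Finset.mem_univ j)) hk) x
      rw [hy]
      exact Finset.sum_of_isEmpty _
    haveI := (hS (k + 1)).1
    have hepi : Epi (0 : S.N (k + 1) ⟶ S.N (k + 1)) :=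
      Groth.Agent.Helper18OmLS.epi_of_surjective_app_cover _ U hU hUa
        (fun j x => ⟨0, ((hz j x).trans (hz j _).symm).symm⟩)
    have hzero : IsZero (S.N (k + 1)) := IsZero.of_epi_eq_zero (0 : S.N (k + 1) ⟶ S.N (k + 1)) rfl
    have h0 : ∀ z : Coh.HH X (S.N (k + 1)) p, z = 0 := fun z => by
      rw [← HHlin_id A (S.N (k + 1)) p z, hzero.eq_of_src (𝟙 _) 0, HHlin_zero]
    exact ⟨fun x y => by rw [h0 x, h0 y]⟩
  | succ s ih =>
    intro S hS hgen p
    have hK : ∀ k, Coh.IsCoh ((Kseq S).N k) := fun k => isCoh_kernel (hS k) (hS (k + 1)) _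
    have hC : ∀ k, Coh.IsCoh ((Cseq S).N k) := fun k => isCoh_cokernel (hS k) (hS (k + 1)) _
    have ihK := ih (Kseq S) hK (fun j => locGen_Kseq S hS (hUa j) (hgen j)) (p + 1)
    have ihC := ih (Cseq S) hC (fun j => locGen_Cseq S hS (hUa j) (hgen j)) p
    refine evGen_of_exact (HT A S p) (HT A (Eseq S) p) (HT A (Kseq S) (p + 1)) (HT A (Cseq S) p)
      (HT_comm A (Kseq S) (p + 1)) (HT_comm A (Cseq S) p)
      (fun k => finite_HH A X _ (hK k) (p + 1)) (fun k => finite_HH A X _ (hC k) p) ihK ihC
      (fun k => Canon.HHlin A (toE S k) p)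
      (fun k => Canon.HHlin A (kernel.ι (cokernel.π (t S k))) p)
      (fun k => δlin A (ses1 S k) (ses1_shortExact S k) p)
      (fun k => Canon.HHlin A (cokernel.π (t S k)) p) ?_ ?_ ?_ ?_ ?_ ?_
    · intro k x
      rw [← HHlin_comp, toE_ι]
      rfl
    · intro k u hu
      have h1 : u ∈ LinearMap.ker (δlin A (ses1 S k) (ses1_shortExact S k) p) := hu
      rw [← range_eq_ker_right] at h1
      exact h1
    · intro k x hx
      have h1 : x ∈ LinearMap.ker (Canon.HHlin A (ses2 S k).g p) := hx
      rw [← range_eq_ker_mid A (ses2 S k) (ses2_shortExact S k)] at h1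
      exact h1
    · intro i k u
      change Canon.HHlin A _ p (Canon.HHlin A ((Eseq S).T i k) p u) =
        Canon.HHlin A (S.T i.castSucc (k + 1)) p (Canon.HHlin A _ p u)
      rw [← HHlin_comp, ← HHlin_comp, Eseq_T_ι]
    · intro i k u
      exact (δlin_naturality A (ses1_shortExact S k) (ses1_shortExact S (k + 1)) (φ1 S i k) p u).symm
    · intro i k x
      change Canon.HHlin A _ p (Canon.HHlin A (S.T i.castSucc (k + 1)) p x) =
        Canon.HHlin A ((Cseq S).T i k) p (Canon.HHlin A _ p x)
      rw [← HHlin_comp, ← HHlin_comp, π_Cseq_T]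

end Main

end Groth.Agent.Lib.Seat16.SeqSh
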