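import Mathlib
import Groth.Agent.Lib.Seat16SeqSh
import Groth.Agent.Lib.Seat54FFQuot

/-!
# The Rees sequence `(I^k F)_k` and finiteness of `⊕_k H^p(X, I^k F)` over the Rees algebra (seat 16)

For `X` over `Spec A`, `I = (a_1, …, a_s)` and `F : X.Modules`:
* `mulK a h M : 𝔞M ⟶ 𝔠M` (multiplication by `a`, for `a • 𝔞 ≤ 𝔠`), in the model `K 𝔞 M = kernel (M ⟶ M/𝔞M)` of
  `Seat54FFQuot` (so `K (I^n) M` is the frozen `Formal2.idealPowMod I n M`);
* `reesSeq I a ha F : SeqSh X s`, pieces `K (I^k) F`, operators multiplication by the `a i`;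
* `locGen_reesSeq`: it is generated in degree `0` on sections over affine opens (`F` quasi-coherent);
* `evGen_HH_rees`: for `X` proper over Noetherian `A` and `F` coherent, there is `k₀` with
  `H^p(X, I^{k+1}F) = ∑ i, a_i H^p(X, I^k F)` for `k ≥ k₀`.
-/

set_option autoImplicit false
set_option linter.style.haveILetI false
universe u

open CategoryTheory CategoryTheory.Limits AlgebraicGeometry Opposite

namespace Groth.Agent.Lib.Seat16.ReesSeq

open Groth.Agent.Lib.Seat16.SeqMod Groth.Agent.Lib.Seat16.SeqSh Groth.Agent.Lib.Seat54.FFQuot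
  Groth.Agent.Lib.Seat54.HHFinite Groth.Agent.Lib.Seat17.QcTrunc Groth.Agent.S8821

variable {A : Type u} [CommRing A] {X : Scheme.{u}} [X.Over (Spec (CommRingCat.of A))]

theorem smulMod_mul' (M : X.Modules) (a b : A) :
    Formal.smulMod A M (a * b) = Formal.smulMod A M b ≫ Formal.smulMod A M a := by
  unfold Formal.smulMod
  rw [map_mul]
  exact smulModΓ_mul M _ _

theorem Kι_smulMod_qπ (a : A) {𝔞 𝔠 : Ideal A} (h : ∀ b ∈ 𝔞, a * b ∈ 𝔠) (M : X.Modules) :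
    (Kι 𝔞 M ≫ Formal.smulMod A M a) ≫ qπ 𝔠 M = 0 := by
  obtain ⟨T', p, hp, x, hx⟩ := exists_refinement_K 𝔞 (Kι 𝔞 M) (Kι_qπ 𝔞 M)
  rw [← cancel_epi p, comp_zero, Category.assoc, ← Category.assoc p, hx, Category.assoc]
  have h0 : Formal.smulFamily 𝔞 M ≫ (Formal.smulMod A M a ≫ qπ 𝔠 M) = 0 := by
    rw [smulFamily_comp_eq_zero_iff]
    intro b hb
    rw [← Category.assoc, ← smulMod_mul', smulMod_qπ_of_mem 𝔠 M _ (h b hb)]
  rw [h0, comp_zero]

/-- multiplication by `a` as a morphism `𝔞M ⟶ 𝔠M`, for `a • 𝔞 ≤ 𝔠` -/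
noncomputable def mulK (a : A) {𝔞 𝔠 : Ideal A} (h : ∀ b ∈ 𝔞, a * b ∈ 𝔠) (M : X.Modules) :
    K 𝔞 M ⟶ K 𝔠 M :=
  Klift 𝔠 (Kι 𝔞 M ≫ Formal.smulMod A M a) (Kι_smulMod_qπ a h M)

@[reassoc]
theorem mulK_Kι (a : A) {𝔞 𝔠 : Ideal A} (h : ∀ b ∈ 𝔞, a * b ∈ 𝔠) (M : X.Modules) :
    mulK a h M ≫ Kι 𝔠 M = Kι 𝔞 M ≫ Formal.smulMod A M a :=
  Klift_Kι 𝔠 _ _

theorem mulK_mulK (a b : A) {𝔞 𝔟 𝔠 : Ideal A} (h : ∀ x ∈ 𝔞, a * x ∈ 𝔟) (h' : ∀ x ∈ 𝔟, b * x ∈ 𝔠)
    (M : X.Modules) :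
    mulK a h M ≫ mulK b h' M =
      mulK (b * a) (fun x hx => by rw [mul_assoc]; exact h' _ (h x hx)) M := by
  rw [← cancel_mono (Kι 𝔠 M), Category.assoc, mulK_Kι, mulK_Kι_assoc, mulK_Kι, smulMod_mul']

theorem mulK_congr {a b : A} (hab : a = b) {𝔞 𝔠 : Ideal A} (h : ∀ x ∈ 𝔞, a * x ∈ 𝔠) (M : X.Modules) :
    mulK a h M = mulK b (fun x hx => hab ▸ h x hx) M := by
  subst hab; rfl

theorem mulK_KLE (a : A) {𝔞 𝔠 𝔡 : Ideal A} (h : ∀ x ∈ 𝔞, a * x ∈ 𝔠) (hle : 𝔠 ≤ 𝔡) (M : X.Modules) :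
    mulK a h M ≫ KLE hle M = mulK a (fun x hx => hle (h x hx)) M := by
  rw [← cancel_mono (Kι 𝔡 M), Category.assoc, KLE_Kι, mulK_Kι, mulK_Kι]

theorem KLE_mulK (a : A) {𝔞 𝔟 𝔠 : Ideal A} (hle : 𝔞 ≤ 𝔟) (h : ∀ x ∈ 𝔟, a * x ∈ 𝔠) (M : X.Modules) :
    KLE hle M ≫ mulK a h M = mulK a (fun x hx => h x (hle hx)) M := by
  rw [← cancel_mono (Kι 𝔠 M), Category.assoc, mulK_Kι, mulK_Kι, ← Category.assoc, KLE_Kι]

/-- the Rees sequence `(I^k F)_k` with the operators "multiplication by `a i`" -/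
noncomputable def reesSeq (I : Ideal A) {s : ℕ} (a : Fin s → A) (ha : ∀ i, a i ∈ I) (F : X.Modules) :
    SeqSh X s where
  N k := K (I ^ k) F
  T i k := mulK (a i) (fun b hb => by rw [pow_succ']; exact Ideal.mul_mem_mul (ha i) hb) F
  comm i j k := by
    rw [mulK_mulK, mulK_mulK]
    exact mulK_congr (mul_comm _ _) _ F

section Alg

/-- elements of `I^(k+1) N` are sums `∑ a_i n_i` with `n_i ∈ I^k N` -/
theorem exists_sum_of_mem_pow_succ_smul {R : Type*} [CommRing R] (ρ : A →+* R) {N : Type*} [AddCommGroup N]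
    [Module R N] {s : ℕ} (a : Fin s → A) (I : Ideal A) (hI : Ideal.span (Set.range a) = I) (k : ℕ)
    (m : N) (hm : m ∈ (I ^ (k + 1)).map ρ • (⊤ : Submodule R N)) :
    ∃ n : Fin s → N, (∀ i, n i ∈ (I ^ k).map ρ • (⊤ : Submodule R N)) ∧ m = ∑ i, ρ (a i) • n i := by
  rw [pow_succ', Ideal.map_mul, Submodule.mul_smul] at hm
  refine Submodule.smul_induction_on hm ?_ ?_
  · intro r hr n hn
    rw [← hI, Ideal.map_span, ← Set.range_comp] at hr
    obtain ⟨c, rfl⟩ := (Ideal.mem_span_range_iff_exists_fun).1 hr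
    refine ⟨fun i => c i • n, fun i => Submodule.smul_mem _ _ hn, ?_⟩
    rw [Finset.sum_smul]
    refine Finset.sum_congr rfl fun i _ => ?_
    rw [smul_smul, mul_comm]
    rfl
  · rintro x y ⟨n, hn, rfl⟩ ⟨n', hn', rfl⟩
    refine ⟨fun i => n i + n' i, fun i => Submodule.add_mem _ (hn i) (hn' i), ?_⟩
    rw [← Finset.sum_add_distrib]
    exact Finset.sum_congr rfl fun i _ => (smul_add _ _ _).symm

end Alg

theorem isIso_desc_qπ (𝔞 : Ideal A) (M : X.Modules) :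
    IsIso (cokernel.desc (Formal.smulFamily 𝔞 M) (qπ 𝔞 M) (cokernel.condition _)) := by
  have h1 : cokernel.desc (Formal.smulFamily 𝔞 M) (cokernel.π (Formal.smulFamily 𝔞 M))
      (cokernel.condition _) = 𝟙 _ := by
    apply (cancel_epi (cokernel.π (Formal.smulFamily 𝔞 M))).1
    rw [cokernel.π_desc, Category.comp_id]
  change IsIso (cokernel.desc (Formal.smulFamily 𝔞 M) (cokernel.π (Formal.smulFamily 𝔞 M)) _)
  rw [h1]
  infer_instance

/-- sections of `𝔞M` over an affine open are `𝔞 Γ(U, M)` (`M` quasi-coherent, `𝔞` finitely generated) -/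
theorem Kι_app_mem {𝔞 : Ideal A} (h𝔞 : 𝔞.FG) (M : X.Modules) [M.IsQuasicoherent] {U : X.Opens}
    (hU : IsAffineOpen U) (x : Γ(K 𝔞 M, U)) :
    (Kι 𝔞 M).app U x ∈ 𝔞.map (ρ U) • (⊤ : Submodule Γ(X, U) Γ(M, U)) := by
  haveI := isQCoh_sigma 𝔞 M
  haveI : (Q 𝔞 M).IsQuasicoherent := Groth.Agent.Lib.Helper23.QCohLocal.isQuasicoherent_cokernel _
  haveI := isIso_desc_qπ 𝔞 M
  refine ker_le_map_smul_top (qπ 𝔞 M) (cokernel.condition _) h𝔞 hU _ ?_
  exact congrArg (fun φ => (Scheme.Modules.Hom.app φ U) x) (Kι_qπ 𝔞 M)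

theorem exists_Kι_app_eq {𝔞 : Ideal A} (M : X.Modules) (U : X.Opens) (m : Γ(M, U))
    (hm : m ∈ 𝔞.map (ρ U) • (⊤ : Submodule Γ(X, U) Γ(M, U))) :
    ∃ y : Γ(K 𝔞 M, U), (Kι 𝔞 M).app U y = m := by
  haveI := isIso_desc_qπ 𝔞 M
  have h0 : (qπ 𝔞 M).app U m = 0 := map_smul_top_le_ker (qπ 𝔞 M) (cokernel.condition _) U m hm
  exact Groth.Agent.Lib.Helper2.ModExact.exists_app_eq_of_shortExact (ses 𝔞 M) (ses_shortExact 𝔞 M) U m h0

/-- the Rees sequence is generated in degree zero on sections over affine opens -/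
theorem locGen_reesSeq (I : Ideal A) {s : ℕ} (a : Fin s → A) (ha : ∀ i, a i ∈ I)
    (hI : Ideal.span (Set.range a) = I) (F : X.Modules) [F.IsQuasicoherent] {U : X.Opens}
    (hU : IsAffineOpen U) : LocGen (reesSeq I a ha F) U := by
  refine ⟨0, fun k _ x => ?_⟩
  have hfg : (I ^ (k + 1)).FG := by
    rw [← hI]
    exact Ideal.FG.pow ⟨(Set.finite_range a).toFinset, by simp⟩
  have hm := Kι_app_mem hfg F hU x
  obtain ⟨n, hn, hmn⟩ := exists_sum_of_mem_pow_succ_smul (ρ U) a I hI k _ hm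
  choose y hy using fun i => exists_Kι_app_eq (𝔞 := I ^ k) F U (n i) (hn i)
  refine ⟨y, ?_⟩
  apply Groth.Agent.Lib.Helper2.ModExact.app_injective_of_mono (Kι (I ^ (k + 1)) F) U
  change (Kι (I ^ (k + 1)) F).app U x =
    appₗ (Kι (I ^ (k + 1)) F) U (∑ i, secT (reesSeq I a ha F) U i k (y i))
  rw [map_sum]
  refine hmn.trans (Finset.sum_congr rfl fun i _ => ?_)
  have h1 := congrArg (fun φ => (Scheme.Modules.Hom.app φ U) (y i))
    (mulK_Kι (a i) (fun b hb => by rw [pow_succ']; exact Ideal.mul_mem_mul (ha i) hb :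
      ∀ b ∈ I ^ k, a i * b ∈ I ^ (k + 1)) F)
  refine Eq.trans ?_ h1.symm
  change _ = (Formal.smulMod A F (a i)).app U ((Kι (I ^ k) F).app U (y i))
  rw [smulMod_app, hy]

section Main

variable (A) [IsNoetherianRing A] [IsProper (X ↘ Spec (CommRingCat.of A))]

/-- **finiteness over the Rees algebra**, eventually-generated form: for `X` proper over a Noetherian ring `A`,
`I = (a_1, …, a_s)` and `F` coherent, `H^p(X, I^{k+1}F) = ∑ i, a_i H^p(X, I^k F)` for all large `k`. -/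
theorem evGen_HH_rees (I : Ideal A) {s : ℕ} (a : Fin s → A) (ha : ∀ i, a i ∈ I)
    (hI : Ideal.span (Set.range a) = I) (F : X.Modules) (hF : Coh.IsCoh F) (p : ℕ) :
    EvGen (HT A (reesSeq I a ha F) p) := by
  haveI : IsNoetherian X := Groth.Agent.Lib.Seat54.FFPrincCoh.isNoetherian_of_proper A X
  haveI : CompactSpace X := inferInstance
  haveI := hF.1
  let 𝒰 : X.OpenCover := X.affineCover.finiteSubcover
  haveI : Finite 𝒰.I₀ := by dsimp [𝒰]; infer_instance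
  have haff : ∀ j, IsAffine (𝒰.X j) := by intro j; dsimp [𝒰]; infer_instance
  refine evGen_HH A (fun j => (𝒰.f j).opensRange) 𝒰.isOpenCover_opensRange
    (fun j => isAffineOpen_opensRange (𝒰.f j)) s (reesSeq I a ha F)
    (fun k => isCoh_K (I ^ k) hF) (fun j => locGen_reesSeq I a ha hI F (isAffineOpen_opensRange (𝒰.f j))) p

end Main

end Groth.Agent.Lib.Seat16.ReesSeq
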