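import Groth.Agent.Lib.Helper23SecTw6

/-!
# Stalk of `π_* N` at a point over which `π` is an isomorphism (helper16, helper54's ASK-B3)
-/

set_option autoImplicit false
universe u

open CategoryTheory CategoryTheory.Limits AlgebraicGeometry TopologicalSpace Opposite
open Groth.Agent.Lib.Helper23.SecTw Groth.Agent.Lib.Helper6

namespace Groth.Agent.Lib.Seat16.StalkPush

/-- a nonempty open of a scheme has a nontrivial ring of sections. -/
theorem nontrivial_sections {X : Scheme.{u}} (W : X.Opens) (z : X) (hz : z ∈ W) :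
    Nontrivial Γ(X, W) := by
  have : Nontrivial (X.presheaf.stalk z) := inferInstance
  exact (X.presheaf.germ W z hz).hom.domain_nontrivial

theorem nontrivial_stalk_push {Z' Y : Scheme.{u}} (π : Z' ⟶ Y) (U : Y.Opens) [IsIso (π ∣_ U)]
    (η : Y) (hη : η ∈ U) (N : Z'.Modules) (hN : PicF.IsInvertible N) :
    Nontrivial (((Scheme.Modules.pushforward π).obj N).presheaf.stalk η) := by
  -- the point over `η`
  let z' : ↑(π ⁻¹ᵁ U) := (inv (π ∣_ U)) ⟨η, hη⟩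
  let z : Z' := (π ⁻¹ᵁ U).ι z'
  have hz' : (π ∣_ U) z' = ⟨η, hη⟩ := by
    change ((inv (π ∣_ U)) ≫ (π ∣_ U)) ⟨η, hη⟩ = _
    rw [IsIso.inv_hom_id]
    rfl
  have hπz : π z = η := by
    change ((π ⁻¹ᵁ U).ι ≫ π) z' = η
    rw [← morphismRestrict_ι]
    change U.ι ((π ∣_ U) z') = η
    rw [hz']
    rfl
  obtain ⟨W₀, e₀, hzW₀, hgen⟩ := exists_gen N hN z
  -- the open `V ∋ η` with `π⁻¹ V ≤ W₀`
  let V : Y.Opens := U.ι ''ᵁ ((inv (π ∣_ U)) ⁻¹ᵁ ((π ⁻¹ᵁ U).ι ⁻¹ᵁ W₀))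
  have hηV : η ∈ V := ⟨⟨η, hη⟩, hzW₀, rfl⟩
  have hVW : π ⁻¹ᵁ V ≤ W₀ := by
    rintro x ⟨u, hu, hux⟩
    have hxU : x ∈ π ⁻¹ᵁ U := by
      change π x ∈ U
      rw [← hux]
      exact u.2
    have h1 : (π ∣_ U) ⟨x, hxU⟩ = u := by
      apply U.ι.isOpenEmbedding.injective
      change ((π ∣_ U) ≫ U.ι) ⟨x, hxU⟩ = U.ι u
      rw [morphismRestrict_ι]
      exact hux.symm
    have h2 : (inv (π ∣_ U)) u = ⟨x, hxU⟩ := by
      rw [← h1]
      change ((π ∣_ U) ≫ inv (π ∣_ U)) ⟨x, hxU⟩ = _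
      rw [IsIso.hom_inv_id]
      rfl
    have h3 : (π ⁻¹ᵁ U).ι ((inv (π ∣_ U)) u) ∈ W₀ := hu
    rw [h2] at h3
    exact h3
  let s : ((Scheme.Modules.pushforward π).obj N).presheaf.obj (op V) := res N hVW e₀
  refine ⟨⟨((Scheme.Modules.pushforward π).obj N).presheaf.germ V η hηV s, 0, fun h0 => ?_⟩⟩
  have h0' : ((Scheme.Modules.pushforward π).obj N).presheaf.germ V η hηV s =
      ((Scheme.Modules.pushforward π).obj N).presheaf.germ V η hηV 0 := by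
    rw [h0, map_zero]
  obtain ⟨V', hηV', iU, iV, hres⟩ :=
    TopCat.Presheaf.germ_eq ((Scheme.Modules.pushforward π).obj N).presheaf η hηV hηV s 0 h0'
  rw [map_zero] at hres
  have hV'V : V' ≤ V := iU.le
  have hzV' : z ∈ π ⁻¹ᵁ V' := by
    change π z ∈ V'
    rw [hπz]; exact hηV'
  have hle : π ⁻¹ᵁ V' ≤ W₀ := (π.preimage_mono hV'V).trans hVW
  have hres' : res N hle e₀ = 0 := by
    have : res N (π.preimage_mono hV'V) (res N hVW e₀) = 0 := hres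
    rwa [res_res] at this
  have hinj := (hgen (π ⁻¹ᵁ V') hle).1
  have h10 : (1 : Γ(Z', π ⁻¹ᵁ V')) = 0 := by
    apply hinj
    change (1 : Γ(Z', π ⁻¹ᵁ V')) • res N hle e₀ = (0 : Γ(Z', π ⁻¹ᵁ V')) • res N hle e₀
    rw [hres', smul_zero, smul_zero]
  have := nontrivial_sections (π ⁻¹ᵁ V') z hzV'
  exact one_ne_zero h10

end Groth.Agent.Lib.Seat16.StalkPush
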