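import Mathlib
import Groth.Agent.Lib.Seat16PowKill
import Groth.Agent.Lib.Helper23TensorQCoh

/-!
# Seat16: intersections of subobjects of `O_X`-modules, on sections

* `exists_lift_of_affine_cover`: for `K` quasi-coherent, `a : K ⟶ M` factors through the mono `b` as soon as it does
  so on sections over the members of an affine cover.
* `exists_app_eq_iff`: `s` is in the image of the mono `b` on `V` iff it dies in `coker b`.
* `inf_mk_eq_mk_kernel`: in an abelian category, `mk a ⊓ mk b = mk (ker (a ≫ coker b) ≫ a)`.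
* `isQuasicoherent_inf`: the underlying object of `mk a ⊓ mk b` is quasi-coherent.
* `exists_inf_arrow_app_eq_iff`: sections of `mk a ⊓ mk b` are the sections lying in both images.
-/

set_option autoImplicit false
set_option linter.style.haveILetI false
universe u

open CategoryTheory CategoryTheory.Limits AlgebraicGeometry TopologicalSpace Opposite

namespace Groth.Agent.Lib.Seat16.SubInf

open Groth.Agent.Lib.Seat16.PowKill Groth.Agent.Lib.Seat16.IdealMul Groth.Agent.Lib.Helper2.ModExact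

section Cat
variable {C : Type*} [Category C] [Abelian C]

theorem inf_mk_eq_mk_kernel {KA KB M : C} (a : KA ⟶ M) (b : KB ⟶ M) [Mono a] [Mono b] :
    Subobject.mk a ⊓ Subobject.mk b = Subobject.mk (kernel.ι (a ≫ cokernel.π b) ≫ a) := by
  apply le_antisymm
  · -- the inf maps to `KA`, and the composite dies in `coker b`
    let S : Subobject M := Subobject.mk a ⊓ Subobject.mk b
    let u : (S : C) ⟶ KA := Subobject.ofLE S (Subobject.mk a) inf_le_left ≫ (Subobject.underlyingIso a).hom
    let v : (S : C) ⟶ KB := Subobject.ofLE S (Subobject.mk b) inf_le_right ≫ (Subobject.underlyingIso b).hom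
    have hu : u ≫ a = S.arrow := by
      simp only [u, Category.assoc, Subobject.underlyingIso_hom_comp_eq_mk, Subobject.ofLE_arrow]
    have hv : v ≫ b = S.arrow := by
      simp only [v, Category.assoc, Subobject.underlyingIso_hom_comp_eq_mk, Subobject.ofLE_arrow]
    have h0 : u ≫ a ≫ cokernel.π b = 0 := by
      rw [← Category.assoc, hu, ← hv, Category.assoc, cokernel.condition, comp_zero]
    refine Subobject.le_mk_of_comm (kernel.lift _ u h0) ?_
    rw [← Category.assoc, kernel.lift_ι, hu]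
  · refine le_inf ?_ ?_
    · exact Subobject.mk_le_mk_of_comm (kernel.ι (a ≫ cokernel.π b)) rfl
    · have h0 : (kernel.ι (a ≫ cokernel.π b) ≫ a) ≫ cokernel.π b = 0 := by
        rw [Category.assoc, kernel.condition]
      exact Subobject.mk_le_mk_of_comm (Abelian.monoLift b _ h0) (Abelian.monoLift_comp b _ h0)

/-- the underlying object of `mk a ⊓ mk b` is the kernel of `a ≫ coker b`, compatibly with the arrows. -/
theorem exists_iso_inf_kernel {KA KB M : C} (a : KA ⟶ M) (b : KB ⟶ M) [Mono a] [Mono b] :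
    ∃ e : ((Subobject.mk a ⊓ Subobject.mk b : Subobject M) : C) ≅ kernel (a ≫ cokernel.π b),
      e.hom ≫ kernel.ι (a ≫ cokernel.π b) ≫ a = (Subobject.mk a ⊓ Subobject.mk b).arrow :=
  ⟨Subobject.isoOfEqMk _ _ (inf_mk_eq_mk_kernel a b), Subobject.ofLEMk_comp _⟩

end Cat

variable {X : Scheme.{u}}

theorem exists_lift_of_affine_cover {K K' M : X.Modules} [K.IsQuasicoherent] (a : K ⟶ M) (b : K' ⟶ M)
    [Mono b] (𝒱 : Set X.Opens) (haff : ∀ V ∈ 𝒱, IsAffineOpen V) (hcov : ∀ x : X, ∃ V ∈ 𝒱, x ∈ V)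
    (h : ∀ V ∈ 𝒱, ∀ s : Γ(K, V), ∃ t : Γ(K', V), b.app V t = a.app V s) :
    ∃ l : K ⟶ K', l ≫ b = a := by
  have h0 : a ≫ cokernel.π b = 0 := by
    refine hom_eq_zero_of_affine_cover _ 𝒱 haff hcov ?_
    intro V hV s
    obtain ⟨t, ht⟩ := h V hV s
    have e1 : (a ≫ cokernel.π b).app V s = (cokernel.π b).app V (a.app V s) := rfl
    have e2 : (cokernel.π b).app V (b.app V t) = (b ≫ cokernel.π b).app V t := rfl
    rw [e1, ← ht, e2, cokernel.condition]
    rfl
  exact ⟨Abelian.monoLift b a h0, Abelian.monoLift_comp b a h0⟩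

theorem exists_app_eq_iff {K' M : X.Modules} (b : K' ⟶ M) [Mono b] (V : X.Opens) (s : Γ(M, V)) :
    (∃ y : Γ(K', V), b.app V y = s) ↔ (cokernel.π b).app V s = 0 := by
  constructor
  · rintro ⟨y, rfl⟩
    have e2 : (cokernel.π b).app V (b.app V y) = (b ≫ cokernel.π b).app V y := rfl
    rw [e2, cokernel.condition]
    rfl
  · intro h
    obtain ⟨t₁, ht₁⟩ := exists_kernel_of_app_eq_zero (cokernel.π b) V s h
    let l : kernel (cokernel.π b) ⟶ K' := Abelian.monoLift b (kernel.ι (cokernel.π b)) (kernel.condition _)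
    have hl : l ≫ b = kernel.ι (cokernel.π b) := Abelian.monoLift_comp b _ _
    refine ⟨l.app V t₁, ?_⟩
    have : b.app V (l.app V t₁) = (l ≫ b).app V t₁ := rfl
    rw [this, hl, ht₁]

theorem isQuasicoherent_inf {KA KB M : X.Modules} [KA.IsQuasicoherent] [KB.IsQuasicoherent]
    [M.IsQuasicoherent] (a : KA ⟶ M) (b : KB ⟶ M) [Mono a] [Mono b] :
    (Subobject.underlying.obj (Subobject.mk a ⊓ Subobject.mk b)).IsQuasicoherent := by
  obtain ⟨e, -⟩ := exists_iso_inf_kernel a b
  haveI : (cokernel b).IsQuasicoherent := Groth.Agent.Lib.Helper23.QCohLocal.isQuasicoherent_cokernel b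
  haveI : (kernel (a ≫ cokernel.π b)).IsQuasicoherent :=
    Groth.Agent.Lib.Helper23.QCohLocal.isQuasicoherent_kernel _
  exact Groth.Agent.Lib.Helper23.TensorQCoh.isQuasicoherent_of_iso e.symm

theorem exists_inf_arrow_app_eq_iff {KA KB M : X.Modules} (a : KA ⟶ M) (b : KB ⟶ M) [Mono a] [Mono b]
    (V : X.Opens) (s : Γ(M, V)) :
    (∃ z : Γ(Subobject.underlying.obj (Subobject.mk a ⊓ Subobject.mk b), V),
        (Subobject.mk a ⊓ Subobject.mk b).arrow.app V z = s) ↔
      (∃ x : Γ(KA, V), a.app V x = s) ∧ (∃ y : Γ(KB, V), b.app V y = s) := by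
  obtain ⟨e, he⟩ := exists_iso_inf_kernel a b
  constructor
  · rintro ⟨z, rfl⟩
    refine ⟨⟨(e.hom ≫ kernel.ι (a ≫ cokernel.π b)).app V z, ?_⟩, ?_⟩
    · have : a.app V ((e.hom ≫ kernel.ι (a ≫ cokernel.π b)).app V z) =
          ((e.hom ≫ kernel.ι (a ≫ cokernel.π b)) ≫ a).app V z := rfl
      rw [this, Category.assoc, he]
    · rw [exists_app_eq_iff, ← he]
      have : (cokernel.π b).app V ((e.hom ≫ kernel.ι (a ≫ cokernel.π b) ≫ a).app V z) =
          (kernel.ι (a ≫ cokernel.π b) ≫ a ≫ cokernel.π b).app V (e.hom.app V z) := rfl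
      rw [this, kernel.condition]
      rfl
  · rintro ⟨⟨x, hx⟩, hy⟩
    rw [exists_app_eq_iff] at hy
    have h0 : (a ≫ cokernel.π b).app V x = 0 := by
      have : (a ≫ cokernel.π b).app V x = (cokernel.π b).app V (a.app V x) := rfl
      rw [this, hx, hy]
    obtain ⟨w, hw⟩ := exists_kernel_of_app_eq_zero (a ≫ cokernel.π b) V x h0
    refine ⟨e.inv.app V w, ?_⟩
    rw [← he]
    have : (e.hom ≫ kernel.ι (a ≫ cokernel.π b) ≫ a).app V (e.inv.app V w) =
        a.app V ((kernel.ι (a ≫ cokernel.π b)).app V ((e.inv ≫ e.hom).app V w)) := rfl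
    rw [this, e.inv_hom_id]
    exact (congrArg (a.app V) hw).trans hx

end Groth.Agent.Lib.Seat16.SubInf
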