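import Groth.Agent.Lib.Seat17EulerDual

/-!
# The `j`-th power map on `S[ℓ]/Π(ℓ - u_k)` and the top-coefficient functional (seat 17)

Pure algebra behind the Adams–Riemann–Roch formula for an elementary projection: for units
`u_k ≡ 1` modulo nilpotents and `j` invertible, `S[ℓ^j] = S[ℓ]` and
`τ(ℓ^r c ℓ^{-ij}) = δ_{i0}` for `c = j / Π_k Σ_{l<j} (u_k ℓ⁻¹)^l`.
-/

namespace Groth.Agent.Lib.Seat17.PowerMapRR
open Polynomial Finset Groth.Agent.Lib.Seat17.EulerDual

variable {S : Type*} [CommRing S] {r : ℕ}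

/-- `Π_k (X - u_k)`. -/
noncomputable def rootsPoly (u : Fin (r + 1) → S) : S[X] := ∏ k, (X - C (u k))

theorem rootsPoly_monic (u : Fin (r + 1) → S) : (rootsPoly u).Monic :=
  monic_prod_of_monic _ _ (fun _ _ => monic_X_sub_C _)

theorem eval₂_rootsPoly {T : Type*} [CommRing T] (f : S →+* T) (x : T) (u : Fin (r + 1) → S) :
    (rootsPoly u).eval₂ f x = ∏ k, (x - f (u k)) := by
  unfold rootsPoly
  rw [eval₂_finsetProd]
  simp

theorem map_rootsPoly {T : Type*} [CommRing T] (f : S →+* T) (u : Fin (r + 1) → S) :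
    (rootsPoly u).map f = rootsPoly (fun k => f (u k)) := by
  unfold rootsPoly
  rw [Polynomial.map_prod]
  refine prod_congr rfl fun k _ => ?_
  rw [Polynomial.map_sub, map_X, map_C]

/-- Vieta's formula for `Π_k (X - u_k)`. -/
theorem rootsPoly_eq_sum (u : Fin (r + 1) → S) :
    rootsPoly u = ∑ i ∈ range (r + 2),
      C ((-1 : S) ^ i * ∑ t ∈ (univ : Finset (Fin (r + 1))).powersetCard i, ∏ k ∈ t, u k) *
        X ^ (r + 1 - i) := by
  unfold rootsPoly
  rw [Finset.prod_eq_multiset_prod]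
  have h1 : Multiset.map (fun k => X - C (u k)) (univ : Finset (Fin (r + 1))).val =
      Multiset.map (fun t => X - C t) (Multiset.map u (univ : Finset (Fin (r + 1))).val) := by
    rw [Multiset.map_map]; rfl
  rw [h1, Multiset.prod_X_sub_X_eq_sum_esymm]
  have hcard : Multiset.card (Multiset.map u (univ : Finset (Fin (r + 1))).val) = r + 1 := by simp
  rw [hcard]
  refine sum_congr rfl fun i _ => ?_
  rw [Finset.esymm_map_val, C_mul, C_pow, map_neg, map_one, mul_assoc]

theorem natDegree_rootsPoly [Nontrivial S] (u : Fin (r + 1) → S) :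
    (rootsPoly u).natDegree = r + 1 := by
  rw [rootsPoly, natDegree_prod_of_monic _ _ (fun k _ => monic_X_sub_C _)]
  simp

/-- `Π_k Σ_{l<j} X^l u_k^(j-1-l)`. -/
noncomputable def thetaPoly (u : Fin (r + 1) → S) (j : ℕ) : S[X] :=
  ∏ k, ∑ l ∈ range j, X ^ l * C (u k) ^ (j - 1 - l)

theorem rootsPoly_mul_thetaPoly (u : Fin (r + 1) → S) (j : ℕ) :
    rootsPoly u * thetaPoly u j = (rootsPoly (fun k => u k ^ j)).comp (X ^ j) := by
  unfold rootsPoly thetaPoly
  rw [← prod_mul_distrib, Polynomial.prod_comp]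
  refine prod_congr rfl fun k _ => ?_
  rw [(Commute.all _ _).mul_geom_sum₂, sub_comp, X_comp, C_comp, C_pow]

section Phi
variable (u : Fin (r + 1) → S) (j : ℕ)

theorem eval₂_rootsPoly_pow :
    (rootsPoly (fun k => u k ^ j)).eval₂ (Algebra.ofId S (AdjoinRoot (rootsPoly u)))
      (AdjoinRoot.root (rootsPoly u) ^ j) = 0 := by
  have h0 : ∏ k, (AdjoinRoot.root (rootsPoly u) - AdjoinRoot.of (rootsPoly u) (u k)) = 0 := by
    rw [← eval₂_rootsPoly]
    exact AdjoinRoot.eval₂_root (rootsPoly u)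
  rw [eval₂_rootsPoly]
  have h1 : ∀ k, AdjoinRoot.root (rootsPoly u) ^ j -
      (Algebra.ofId S (AdjoinRoot (rootsPoly u)) : S →+* AdjoinRoot (rootsPoly u)) (u k ^ j) =
      (AdjoinRoot.root (rootsPoly u) - AdjoinRoot.of (rootsPoly u) (u k)) *
        ∑ l ∈ range j, AdjoinRoot.root (rootsPoly u) ^ l *
          AdjoinRoot.of (rootsPoly u) (u k) ^ (j - 1 - l) := by
    intro k
    rw [(Commute.all _ _).mul_geom_sum₂, map_pow]
    rfl
  simp only [h1]
  rw [prod_mul_distrib, h0, zero_mul]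

/-- the `S`-algebra map `S[t]/Π(t - u_k^j) → S[ℓ]/Π(ℓ - u_k)`, `t ↦ ℓ^j`. -/
noncomputable def phi :
    AdjoinRoot (rootsPoly (fun k => u k ^ j)) →ₐ[S] AdjoinRoot (rootsPoly u) :=
  AdjoinRoot.liftAlgHom _ (Algebra.ofId S (AdjoinRoot (rootsPoly u)))
    (AdjoinRoot.root (rootsPoly u) ^ j) (eval₂_rootsPoly_pow u j)

theorem phi_root : phi u j (AdjoinRoot.root _) = AdjoinRoot.root (rootsPoly u) ^ j := by
  unfold phi
  simp

theorem phi_of (a : S) : phi u j (AdjoinRoot.of _ a) = AdjoinRoot.of (rootsPoly u) a := by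
  rw [← AdjoinRoot.algebraMap_eq, ← AdjoinRoot.algebraMap_eq, AlgHom.commutes]

end Phi

section Bij
variable (u : Fin (r + 1) → S) (j : ℕ)

theorem isNilpotent_root_sub_one (hu : ∀ k, IsNilpotent (u k - 1)) :
    IsNilpotent (AdjoinRoot.root (rootsPoly u) - 1) := by
  have h0 : ∏ k, (AdjoinRoot.root (rootsPoly u) - AdjoinRoot.of (rootsPoly u) (u k)) = 0 := by
    rw [← eval₂_rootsPoly]
    exact AdjoinRoot.eval₂_root (rootsPoly u)
  have h1 := congrArg (Ideal.Quotient.mk (nilradical (AdjoinRoot (rootsPoly u)))) h0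
  rw [map_prod, map_zero] at h1
  have h2 : ∀ k, Ideal.Quotient.mk (nilradical (AdjoinRoot (rootsPoly u)))
      (AdjoinRoot.root (rootsPoly u) - AdjoinRoot.of (rootsPoly u) (u k)) =
      Ideal.Quotient.mk (nilradical (AdjoinRoot (rootsPoly u)))
        (AdjoinRoot.root (rootsPoly u) - 1) := by
    intro k
    rw [Ideal.Quotient.eq, mem_nilradical]
    have : AdjoinRoot.root (rootsPoly u) - AdjoinRoot.of (rootsPoly u) (u k) -
        (AdjoinRoot.root (rootsPoly u) - 1) = -AdjoinRoot.of (rootsPoly u) (u k - 1) := by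
      rw [map_sub, map_one]; ring
    rw [this]
    exact ((hu k).map (AdjoinRoot.of (rootsPoly u))).neg
  simp only [h2] at h1
  rw [prod_const, card_univ, Fintype.card_fin, ← map_pow, Ideal.Quotient.eq_zero_iff_mem,
    mem_nilradical] at h1
  exact IsNilpotent.of_pow h1

theorem isNilpotent_pow_sub_one {T : Type*} [CommRing T] {x : T} (hx : IsNilpotent (x - 1))
    (n : ℕ) : IsNilpotent (x ^ n - 1) := by
  have h : x ^ n - 1 = (x - 1) * ∑ l ∈ range n, x ^ l * 1 ^ (n - 1 - l) := by
    rw [(Commute.all _ _).mul_geom_sum₂, one_pow]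
  rw [h]
  exact (Commute.all _ _).isNilpotent_mul_right hx

theorem phi_surjective (hu : ∀ k, IsNilpotent (u k - 1)) (hj : IsUnit (j : S)) :
    Function.Surjective (phi u j) := by
  rw [← AlgHom.range_eq_top]
  -- a `j`-th root of the generator of `A_j`
  have hnil_t : IsNilpotent (AdjoinRoot.root (rootsPoly (fun k => u k ^ j)) - 1) :=
    isNilpotent_root_sub_one _ (fun k => isNilpotent_pow_sub_one (hu k) j)
  have hnil_l : IsNilpotent (AdjoinRoot.root (rootsPoly u) - 1) := isNilpotent_root_sub_one u hu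
  have hder : ∀ (T : Type _) [CommRing T] [Algebra S T] (a : T),
      IsUnit (aeval (1 : T) (derivative ((X : T[X]) ^ j - C a))) := by
    intro T _ _ a
    have : aeval (1 : T) (derivative ((X : T[X]) ^ j - C a)) = algebraMap S T (j : S) := by
      simp [derivative_X_pow]
    rw [this]
    exact hj.map _
  have hval : ∀ (T : Type _) [CommRing T] (a : T),
      aeval (1 : T) ((X : T[X]) ^ j - C a) = 1 - a := by
    intro T _ a; simp
  obtain ⟨ρ, ⟨hρ1, hρ2⟩, -⟩ := existsUnique_nilpotent_sub_and_aeval_eq_zero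
    (P := (X : (AdjoinRoot (rootsPoly (fun k => u k ^ j)))[X]) ^ j -
      C (AdjoinRoot.root (rootsPoly (fun k => u k ^ j))))
    (x := (1 : AdjoinRoot (rootsPoly (fun k => u k ^ j))))
    (by rw [hval]; rw [← neg_sub]; exact hnil_t.neg) (hder _ _)
  obtain ⟨ρ', -, huniq⟩ := existsUnique_nilpotent_sub_and_aeval_eq_zero
    (P := (X : (AdjoinRoot (rootsPoly u))[X]) ^ j - C (AdjoinRoot.root (rootsPoly u) ^ j))
    (x := (1 : AdjoinRoot (rootsPoly u)))
    (by rw [hval]; rw [← neg_sub]; exact (isNilpotent_pow_sub_one hnil_l j).neg) (hder _ _)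
  have e1 : phi u j ρ = ρ' := by
    apply huniq
    constructor
    · have := hρ1.map (phi u j)
      rwa [map_sub, map_one] at this
    · have h3 : ρ ^ j = AdjoinRoot.root (rootsPoly (fun k => u k ^ j)) := by
        have : aeval ρ ((X : (AdjoinRoot (rootsPoly (fun k => u k ^ j)))[X]) ^ j -
            C (AdjoinRoot.root (rootsPoly (fun k => u k ^ j)))) =
            ρ ^ j - AdjoinRoot.root (rootsPoly (fun k => u k ^ j)) := by simp
        rw [this] at hρ2
        exact sub_eq_zero.mp hρ2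
      have : aeval (phi u j ρ) ((X : (AdjoinRoot (rootsPoly u))[X]) ^ j -
          C (AdjoinRoot.root (rootsPoly u) ^ j)) =
          phi u j ρ ^ j - AdjoinRoot.root (rootsPoly u) ^ j := by simp
      rw [this, ← map_pow, h3, phi_root, sub_self]
  have e2 : AdjoinRoot.root (rootsPoly u) = ρ' := by
    apply huniq
    constructor
    · rw [← neg_sub]; exact hnil_l.neg
    · simp
  have hmem : AdjoinRoot.root (rootsPoly u) ∈ (phi u j).range := by
    rw [e2, ← e1]; exact ⟨ρ, rfl⟩
  rw [eq_top_iff, ← AdjoinRoot.adjoinRoot_eq_top]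
  exact Algebra.adjoin_le (by simpa using hmem)

theorem phi_bijective (hu : ∀ k, IsNilpotent (u k - 1)) (hj : IsUnit (j : S)) :
    Function.Bijective (phi u j) := by
  refine ⟨?_, phi_surjective u j hu hj⟩
  rcases subsingleton_or_nontrivial S with h | h
  · have : Subsingleton (AdjoinRoot (rootsPoly (fun k => u k ^ j))) :=
      (AdjoinRoot.mk_surjective (g := rootsPoly (fun k => u k ^ j))).subsingleton
    exact Function.injective_of_subsingleton _
  let pb := AdjoinRoot.powerBasis' (rootsPoly_monic u)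
  let pbj := AdjoinRoot.powerBasis' (rootsPoly_monic (fun k => u k ^ j))
  have hd : pb.dim = pbj.dim := by
    simp [pb, pbj, natDegree_rootsPoly]
  let ε : AdjoinRoot (rootsPoly u) ≃ₗ[S] AdjoinRoot (rootsPoly (fun k => u k ^ j)) :=
    pb.basis.equiv pbj.basis (finCongr hd)
  have := (rootsPoly_monic (fun k => u k ^ j)).finite_adjoinRoot
  have hinj : Function.Injective (ε.toLinearMap ∘ₗ (phi u j).toLinearMap) :=
    OrzechProperty.injective_of_surjective_endomorphism _
      (ε.surjective.comp (phi_surjective u j hu hj))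
  exact Function.Injective.of_comp (f := ε) hinj

end Bij

section Main
variable (u : Fin (r + 1) → S) (j : ℕ)

/-- `φ` as an algebra equivalence. -/
noncomputable def phiEquiv (hu : ∀ k, IsNilpotent (u k - 1)) (hj : IsUnit (j : S)) :
    AdjoinRoot (rootsPoly (fun k => u k ^ j)) ≃ₐ[S] AdjoinRoot (rootsPoly u) :=
  AlgEquiv.ofBijective (phi u j) (phi_bijective u j hu hj)

theorem phiEquiv_apply (hu : ∀ k, IsNilpotent (u k - 1)) (hj : IsUnit (j : S))
    (y : AdjoinRoot (rootsPoly (fun k => u k ^ j))) : phiEquiv u j hu hj y = phi u j y := rfl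

/-- the functional `τ_j ∘ φ⁻¹` on `A`. -/
noncomputable def gFun (hu : ∀ k, IsNilpotent (u k - 1)) (hj : IsUnit (j : S)) :
    AdjoinRoot (rootsPoly u) →ₗ[S] S :=
  (tau (rootsPoly (fun k => u k ^ j)) (rootsPoly_monic _) r).comp
    (phiEquiv u j hu hj).symm.toLinearMap

theorem gFun_apply (hu : ∀ k, IsNilpotent (u k - 1)) (hj : IsUnit (j : S))
    (x : AdjoinRoot (rootsPoly u)) :
    gFun u j hu hj x = tau (rootsPoly (fun k => u k ^ j)) (rootsPoly_monic _) r
      ((phiEquiv u j hu hj).symm x) := rfl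

theorem eulerD_mul_thetaPoly [Nontrivial S] :
    eulerD (rootsPoly u) r * (thetaPoly u j).map (AdjoinRoot.of (rootsPoly u)) =
      ((eulerD (rootsPoly (fun k => u k ^ j)) r).map
        (phi u j : AdjoinRoot (rootsPoly (fun k => u k ^ j)) →+* AdjoinRoot (rootsPoly u))).comp
          (X ^ j) *
        ∑ l ∈ range j, X ^ l * C (AdjoinRoot.root (rootsPoly u)) ^ (j - 1 - l) := by
  apply (monic_X_sub_C (AdjoinRoot.root (rootsPoly u))).isRegular.left
  show (X - C (AdjoinRoot.root (rootsPoly u))) * _ = (X - C (AdjoinRoot.root (rootsPoly u))) * _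
  rw [← mul_assoc, X_sub_C_mul_eulerD (rootsPoly_monic u) (natDegree_rootsPoly u),
    ← Polynomial.map_mul, rootsPoly_mul_thetaPoly, Polynomial.map_comp, Polynomial.map_pow, map_X]
  rw [mul_left_comm, (Commute.all _ _).mul_geom_sum₂]
  have h1 : (X : (AdjoinRoot (rootsPoly u))[X]) ^ j - C (AdjoinRoot.root (rootsPoly u)) ^ j =
      (X - C (AdjoinRoot.root (rootsPoly u) ^ j)).comp (X ^ j) := by
    rw [sub_comp, X_comp, C_comp, C_pow]
  rw [mul_comm, h1, ← mul_comp]
  congr 1
  have h2 : (X - C (AdjoinRoot.root (rootsPoly u) ^ j) : (AdjoinRoot (rootsPoly u))[X]) =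
      (X - C (AdjoinRoot.root (rootsPoly (fun k => u k ^ j)))).map
        (phi u j : AdjoinRoot (rootsPoly (fun k => u k ^ j)) →+* AdjoinRoot (rootsPoly u)) := by
    rw [Polynomial.map_sub, map_X, map_C]
    congr 2
    exact (phi_root u j).symm
  rw [h2, ← Polynomial.map_mul,
    X_sub_C_mul_eulerD (rootsPoly_monic _) (natDegree_rootsPoly _), Polynomial.map_map]
  congr 1
  ext a
  exact (phi_of u j a).symm

theorem aeval_root_thetaPoly_mul (hu : ∀ k, IsNilpotent (u k - 1)) (hj : IsUnit (j : S))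
    [Nontrivial S] :
    aeval (AdjoinRoot.root (rootsPoly u)) (thetaPoly u j) *
        evalE (rootsPoly u) (gFun u j hu hj) (eulerD (rootsPoly u) r) =
      (j : AdjoinRoot (rootsPoly u)) * AdjoinRoot.root (rootsPoly u) ^ (j - 1) := by
  have hmain := congrArg (evalE (rootsPoly u) (gFun u j hu hj)) (eulerD_mul_thetaPoly u j)
  rw [evalE_eulerD_mul (rootsPoly_monic u) (natDegree_rootsPoly u), eval_root_map,
    ← AdjoinRoot.aeval_eq] at hmain
  rw [hmain]
  -- the right-hand side
  have hQ : ((eulerD (rootsPoly (fun k => u k ^ j)) r).map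
      (phi u j : AdjoinRoot (rootsPoly (fun k => u k ^ j)) →+* AdjoinRoot (rootsPoly u))).comp
        (X ^ j) =
      ∑ k ∈ range (r + 1), C (phi u j (eulerB (rootsPoly (fun k => u k ^ j)) k)) * X ^ (j * k) := by
    unfold eulerD
    rw [Polynomial.map_sum, Polynomial.sum_comp]
    refine sum_congr rfl fun k _ => ?_
    rw [Polynomial.map_mul, Polynomial.map_pow, map_X, map_C, mul_comp, C_comp, X_pow_comp,
      ← pow_mul]
    rfl
  rw [hQ, sum_mul_sum]
  simp only [map_sum]
  have hterm : ∀ (k l : ℕ),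
      evalE (rootsPoly u) (gFun u j hu hj)
        (C (phi u j (eulerB (rootsPoly (fun k => u k ^ j)) k)) * X ^ (j * k) *
          (X ^ l * C (AdjoinRoot.root (rootsPoly u)) ^ (j - 1 - l))) =
      AdjoinRoot.root (rootsPoly u) ^ (j - 1 - l) *
        phi u j (AdjoinRoot.of _ (tau (rootsPoly (fun k => u k ^ j)) (rootsPoly_monic _) r
          ((phiEquiv u j hu hj).symm (AdjoinRoot.root (rootsPoly u) ^ l) *
            AdjoinRoot.root (rootsPoly (fun k => u k ^ j)) ^ k)) *
          eulerB (rootsPoly (fun k => u k ^ j)) k) := by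
    intro k l
    have e1 : C (phi u j (eulerB (rootsPoly (fun k => u k ^ j)) k)) * X ^ (j * k) *
        (X ^ l * C (AdjoinRoot.root (rootsPoly u)) ^ (j - 1 - l)) =
        C (phi u j (eulerB (rootsPoly (fun k => u k ^ j)) k) *
          AdjoinRoot.root (rootsPoly u) ^ (j - 1 - l)) * X ^ (j * k + l) := by
      rw [C_mul, C_pow, pow_add]; ring
    rw [e1, evalE_C_mul_X_pow, gFun_apply]
    have e2 : (phiEquiv u j hu hj).symm (AdjoinRoot.root (rootsPoly u) ^ (j * k + l)) =
        (phiEquiv u j hu hj).symm (AdjoinRoot.root (rootsPoly u) ^ l) *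
          AdjoinRoot.root (rootsPoly (fun k => u k ^ j)) ^ k := by
      rw [AlgEquiv.symm_apply_eq, map_mul, AlgEquiv.apply_symm_apply, map_pow, phiEquiv_apply,
        phi_root, ← pow_mul, pow_add, mul_comm]
    rw [e2, map_mul (phi u j), phi_of]
    ring
  simp only [hterm]
  have hsum : ∀ l, ∑ k ∈ range (r + 1), AdjoinRoot.root (rootsPoly u) ^ (j - 1 - l) *
        phi u j (AdjoinRoot.of _ (tau (rootsPoly (fun k => u k ^ j)) (rootsPoly_monic _) r
          ((phiEquiv u j hu hj).symm (AdjoinRoot.root (rootsPoly u) ^ l) *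
            AdjoinRoot.root (rootsPoly (fun k => u k ^ j)) ^ k)) *
          eulerB (rootsPoly (fun k => u k ^ j)) k) =
      AdjoinRoot.root (rootsPoly u) ^ (j - 1 - l) * AdjoinRoot.root (rootsPoly u) ^ l := by
    intro l
    rw [← mul_sum, ← map_sum,
      ← eq_sum_tau_mul_root_pow (rootsPoly_monic _) r (natDegree_rootsPoly _), ← phiEquiv_apply u j hu hj,
      AlgEquiv.apply_symm_apply]
  rw [sum_comm]
  simp only [hsum]
  rw [sum_congr rfl (fun l hl => by
    rw [mem_range] at hl
    rw [← pow_add, show j - 1 - l + l = j - 1 by omega] :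
      ∀ l ∈ range j, AdjoinRoot.root (rootsPoly u) ^ (j - 1 - l) * AdjoinRoot.root (rootsPoly u) ^ l =
        AdjoinRoot.root (rootsPoly u) ^ (j - 1))]
  rw [sum_const, card_range, nsmul_eq_mul]

theorem aeval_root_thetaPoly (linv : AdjoinRoot (rootsPoly u))
    (hlinv : linv * AdjoinRoot.root (rootsPoly u) = 1) :
    aeval (AdjoinRoot.root (rootsPoly u)) (thetaPoly u j) =
      (∏ k, ∑ l ∈ range j, (AdjoinRoot.of (rootsPoly u) (u k) * linv) ^ l) *
        AdjoinRoot.root (rootsPoly u) ^ ((j - 1) * (r + 1)) := by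
  unfold thetaPoly
  rw [map_prod]
  have h1 : ∀ k : Fin (r + 1), aeval (AdjoinRoot.root (rootsPoly u))
      (∑ l ∈ range j, (X : S[X]) ^ l * C (u k) ^ (j - 1 - l)) =
      (∑ l ∈ range j, (AdjoinRoot.of (rootsPoly u) (u k) * linv) ^ l) *
        AdjoinRoot.root (rootsPoly u) ^ (j - 1) := by
    intro k
    rw [map_sum, sum_mul, ← sum_range_reflect]
    refine sum_congr rfl fun l hl => ?_
    rw [mem_range] at hl
    rw [map_mul, map_pow, map_pow, aeval_X, aeval_C, AdjoinRoot.algebraMap_eq]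
    have e1 : j - 1 - (j - 1 - l) = l := by omega
    have e2 : AdjoinRoot.root (rootsPoly u) ^ (j - 1) =
        AdjoinRoot.root (rootsPoly u) ^ (j - 1 - l) * AdjoinRoot.root (rootsPoly u) ^ l := by
      rw [← pow_add]; congr 1; omega
    have e3 : linv ^ l * AdjoinRoot.root (rootsPoly u) ^ l = 1 := by
      rw [← mul_pow, hlinv, one_pow]
    rw [e1, e2, mul_pow]
    linear_combination (-(AdjoinRoot.of (rootsPoly u) (u k) ^ l *
      AdjoinRoot.root (rootsPoly u) ^ (j - 1 - l))) * e3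
  simp only [h1]
  rw [prod_mul_distrib, prod_const, card_univ, Fintype.card_fin, ← pow_mul]

/-- **Main algebraic identity.** -/
theorem tau_root_pow_mul_inv_pow (hu : ∀ k, IsNilpotent (u k - 1)) (hj : IsUnit (j : S))
    (hj1 : 1 ≤ j) (linv c : AdjoinRoot (rootsPoly u))
    (hlinv : linv * AdjoinRoot.root (rootsPoly u) = 1)
    (hc : c * ∏ k, ∑ l ∈ range j, (AdjoinRoot.of (rootsPoly u) (u k) * linv) ^ l =
      (j : AdjoinRoot (rootsPoly u))) (i : ℕ) (hi : i ≤ r) :
    tau (rootsPoly u) (rootsPoly_monic u) r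
      (AdjoinRoot.root (rootsPoly u) ^ r * c * linv ^ (i * j)) = if i = 0 then 1 else 0 := by
  rcases subsingleton_or_nontrivial S with h | h
  · exact Subsingleton.elim _ _
  set ℓ := AdjoinRoot.root (rootsPoly u) with hℓ
  set θ' := ∏ k, ∑ l ∈ range j, (AdjoinRoot.of (rootsPoly u) (u k) * linv) ^ l with hθ'
  set n := evalE (rootsPoly u) (gFun u j hu hj) (eulerD (rootsPoly u) r) with hn
  have hkey := aeval_root_thetaPoly_mul u j hu hj
  rw [aeval_root_thetaPoly u j linv hlinv, ← hℓ, ← hθ', ← hn] at hkey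
  have hpow : ∀ a : ℕ, linv ^ a * ℓ ^ a = 1 := fun a => by rw [← mul_pow, hlinv, one_pow]
  have hjA : IsUnit (j : AdjoinRoot (rootsPoly u)) := by
    have := hj.map (AdjoinRoot.of (rootsPoly u))
    rwa [map_natCast] at this
  have hθu : IsUnit θ' := by
    rw [← hc] at hjA
    exact isUnit_of_mul_isUnit_right hjA
  -- c = ℓ^((j-1) r) n
  have hc2 : c = ℓ ^ ((j - 1) * r) * n := by
    have h1 : θ' * (ℓ ^ ((j - 1) * (r + 1)) * n) = θ' * (c * ℓ ^ (j - 1)) := by
      rw [← mul_assoc, hkey, ← hc]; ring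
    have h2 := hθu.mul_left_cancel h1
    have h3 : (j - 1) * (r + 1) = (j - 1) * r + (j - 1) := by ring
    rw [h3, pow_add] at h2
    have h4 := hpow (j - 1)
    linear_combination (-(c - ℓ ^ ((j - 1) * r) * n)) * h4 + (-(linv ^ (j - 1))) * h2
  have hx : ℓ ^ r * c * linv ^ (i * j) = n * ℓ ^ (j * (r - i)) := by
    rw [hc2]
    have h5 : (j - 1) * r + r = j * (r - i) + i * j := by
      have : (j - 1) * r + r = j * r := by
        rcases j with _ | j
        · omega
        · simp; ring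
      rw [this]
      have : r = (r - i) + i := by omega
      conv_lhs => rw [this]
      ring
    have h6 : ℓ ^ r * (ℓ ^ ((j - 1) * r) * n) * linv ^ (i * j) =
        n * ℓ ^ ((j - 1) * r + r) * linv ^ (i * j) := by
      rw [pow_add]; ring
    rw [h6, h5, pow_add]
    linear_combination (n * ℓ ^ (j * (r - i))) * hpow (i * j)
  rw [hx, evalE_eulerD (rootsPoly_monic u) (natDegree_rootsPoly u), gFun_apply]
  have hφ : (phiEquiv u j hu hj).symm (ℓ ^ (j * (r - i))) =
      AdjoinRoot.root (rootsPoly (fun k => u k ^ j)) ^ (r - i) := by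
    rw [AlgEquiv.symm_apply_eq, map_pow, phiEquiv_apply, phi_root, ← pow_mul]
  rw [hφ, tau_root_pow (rootsPoly_monic _) r (natDegree_rootsPoly _) _ (Nat.sub_le _ _)]
  have : (r - i = r) ↔ (i = 0) := by omega
  simp only [this]

end Main

end Groth.Agent.Lib.Seat17.PowerMapRR
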