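import Groth.Agent.Lib.Seat17LambdaLineInv
import Groth.Agent.Lib.Seat17PowerMapRR
import Groth.Agent.Lib.Helper4LambdaExt

/-!
# Adams–Riemann–Roch for an elementary projection (seat 17)
-/

universe v

namespace Groth.Agent.Lib.Seat17.AdamsRRProj
open LambdaRing Finset Groth.Agent.Lib.Helper4 Groth.Agent.Lib.Seat17.LambdaLineInv
open scoped TensorProduct

section Theta
variable {K : Type v} [CommRing K] [LambdaOps K] {P : PosStructure K} (hK : HasSplitting K P)
  (e : K) (he : e ∈ P.pos) (r : ℕ) (hr : P.aug e = r + 1)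
  [inst : LambdaOps (AdjoinRoot (KRR.extPoly P e))]
  (Pe : PosStructure (AdjoinRoot (KRR.extPoly P e)))
  (hext : IsExtension P Pe (AdjoinRoot.of (KRR.extPoly P e)))
  (hline : Pe.IsLine (AdjoinRoot.root (KRR.extPoly P e)))
  (hsplit : HasSplitting (AdjoinRoot (KRR.extPoly P e)) Pe)
  (linv : AdjoinRoot (KRR.extPoly P e)) (hlinv : linv * AdjoinRoot.root (KRR.extPoly P e) = 1)
  (j : ℕ)

include hr hext hline hlinv in
theorem toNat_aug_mul_linv :
    (Pe.aug (AdjoinRoot.of (KRR.extPoly P e) e * linv)).toNat = r + 1 := by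
  rw [map_mul, hext.aug_comp, hr, aug_inv_line Pe hline hlinv, mul_one]
  rfl

include hr hext hline hlinv hsplit in
/-- `θ^j(e ℓ⁻¹)` as a polynomial in the `λ^i(e) ℓ^{-i}`. -/
theorem bott_mul_linv :
    KRR.bott Pe j (AdjoinRoot.of (KRR.extPoly P e) e * linv) =
      MvPolynomial.aeval (fun i : Fin (r + 1) =>
        AdjoinRoot.of (KRR.extPoly P e) (LambdaOps.lam (i.1 + 1) e) * linv ^ (i.1 + 1))
        (KRR.bottPoly j (r + 1)) := by
  rw [bott_eq_of_toNat Pe j _ (r + 1) (toNat_aug_mul_linv e r hr Pe hext hline linv hlinv)]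
  have : (fun i : Fin (r + 1) =>
      LambdaOps.lam (i.1 + 1) (AdjoinRoot.of (KRR.extPoly P e) e * linv)) =
      fun i : Fin (r + 1) =>
        AdjoinRoot.of (KRR.extPoly P e) (LambdaOps.lam (i.1 + 1) e) * linv ^ (i.1 + 1) := by
    funext i
    rw [lam_mul_inv_line hsplit hline hlinv, hext.isLambdaHom]
  rw [this]
  rfl

include hK he hr hext hline hlinv hsplit in
theorem aug_bott_mul_linv :
    Pe.aug (KRR.bott Pe j (AdjoinRoot.of (KRR.extPoly P e) e * linv)) = (j : ℤ) ^ (r + 1) := by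
  rw [bott_mul_linv e r hr Pe hext hline hsplit linv hlinv j]
  have h1 := MvPolynomial.comp_aeval_apply (R := ℤ)
    (f := fun i : Fin (r + 1) =>
      AdjoinRoot.of (KRR.extPoly P e) (LambdaOps.lam (i.1 + 1) e) * linv ^ (i.1 + 1))
    (φ := Pe.aug.toIntAlgHom) (KRR.bottPoly j (r + 1))
  simp only [RingHom.toIntAlgHom_apply] at h1
  refine h1.trans ?_
  have e2 : (fun i : Fin (r + 1) => Pe.aug
      (AdjoinRoot.of (KRR.extPoly P e) (LambdaOps.lam (i.1 + 1) e) * linv ^ (i.1 + 1))) =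
      fun i : Fin (r + 1) => (((r + 1).choose (i.1 + 1) : ℕ) : ℤ) := by
    funext i
    rw [map_mul, map_pow, aug_inv_line Pe hline hlinv, one_pow, mul_one, hext.aug_comp,
      aug_lam_eq_choose hK e he, hr]
    rfl
  rw [e2, aeval_bottPoly_choose]

theorem isUnit_natCast_tensor (R : Type*) [CommRing R] (B : Type*) [CommRing B]
    (hjR : IsUnit ((j : ℕ) : R)) : IsUnit ((j : ℕ) : R ⊗[ℤ] B) := by
  have h2 := hjR.map (Algebra.TensorProduct.includeLeft : R →ₐ[ℤ] R ⊗[ℤ] B)
  rwa [map_natCast] at h2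

include hK he hr hext hline hlinv hsplit in
/-- `1 ⊗ θ^j(e ℓ⁻¹)` is invertible in `R ⊗ K_e` when `j` is invertible in `R` and the γ-filtration
of `K_e` is finite. -/
theorem exists_inv_bott (R : Type*) [CommRing R] (hjR : IsUnit ((j : ℕ) : R))
    (N : ℕ) (hN : gammaFiltration Pe N = ⊥) :
    ∃ w : R ⊗[ℤ] (AdjoinRoot (KRR.extPoly P e)),
      w * ((1 : R) ⊗ₜ[ℤ] KRR.bott Pe j (AdjoinRoot.of (KRR.extPoly P e) e * linv)) = 1 := by
  have haug := aug_bott_mul_linv hK e he r hr Pe hext hline hsplit linv hlinv j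
  set θ := KRR.bott Pe j (AdjoinRoot.of (KRR.extPoly P e) e * linv) with hθ
  set ν := θ - ((j : ℕ) : AdjoinRoot (KRR.extPoly P e)) ^ (r + 1) with hν
  have hν0 : Pe.aug ν = 0 := by
    rw [hν, map_sub, haug, map_pow, map_natCast]; simp
  have hνnil : IsNilpotent ν :=
    isNilpotent_of_mem_gammaFiltration_one Pe N hN (mem_gammaFiltration_one Pe ν hν0)
  have h1 : ((1 : R) ⊗ₜ[ℤ] θ) =
      ((j : ℕ) : R ⊗[ℤ] (AdjoinRoot (KRR.extPoly P e))) ^ (r + 1) +
        (Algebra.TensorProduct.includeRight :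
          AdjoinRoot (KRR.extPoly P e) →ₐ[ℤ] R ⊗[ℤ] (AdjoinRoot (KRR.extPoly P e))) ν := by
    have e1 : θ = ((j : ℕ) : AdjoinRoot (KRR.extPoly P e)) ^ (r + 1) + ν := by rw [hν]; ring
    have e2 : ((1 : R) ⊗ₜ[ℤ] θ) =
        (Algebra.TensorProduct.includeRight :
          AdjoinRoot (KRR.extPoly P e) →ₐ[ℤ] R ⊗[ℤ] (AdjoinRoot (KRR.extPoly P e))) θ := rfl
    rw [e2]
    conv_lhs => rw [e1]
    rw [map_add, map_pow, map_natCast]
  have hu : IsUnit (((1 : R) ⊗ₜ[ℤ] θ)) := by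
    rw [h1]
    exact (hνnil.map _).isUnit_add_left_of_commute
      ((isUnit_natCast_tensor j R _ hjR).pow _) (Commute.all _ _)
  obtain ⟨w, hw⟩ := hu.exists_left_inv
  exact ⟨w, hw⟩

end Theta

section Reduce
variable {K : Type v} [CommRing K] [LambdaOps K] {P : PosStructure K} (hK : HasSplitting K P)
  (e : K) (he : e ∈ P.pos) (r : ℕ) (hr : P.aug e = r + 1)
  [inst : LambdaOps (AdjoinRoot (KRR.extPoly P e))]
  (Pe : PosStructure (AdjoinRoot (KRR.extPoly P e)))
  (hext : IsExtension P Pe (AdjoinRoot.of (KRR.extPoly P e)))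
  (hline : Pe.IsLine (AdjoinRoot.root (KRR.extPoly P e)))
  (hsplit : HasSplitting (AdjoinRoot (KRR.extPoly P e)) Pe)
  (linv : AdjoinRoot (KRR.extPoly P e)) (hlinv : linv * AdjoinRoot.root (KRR.extPoly P e) = 1)
  (j : ℕ)

omit inst in
theorem extPoly_monic : (KRR.extPoly P e).Monic := by
  rw [extPoly_eq_revPoly]
  exact revPoly_monic _ _ (by simp [extCoeff, LambdaOps.lam_zero])

omit inst in
include hr in
theorem natDegree_extPoly : (KRR.extPoly P e).natDegree = r + 1 := by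
  have : Nontrivial K := ⟨⟨0, 1, fun h => by
    have := congrArg P.aug h
    rw [map_zero, map_one] at this
    exact zero_ne_one this⟩⟩
  have hm : (P.aug e).toNat = r + 1 := by rw [hr]; rfl
  rw [extPoly_eq_revPoly, natDegree_revPoly _ _ (by simp [extCoeff, LambdaOps.lam_zero]), hm]

omit inst in
include hr hlinv in
/-- every element of `K_e` is a `K`-combination of `ℓ^{-n}`, `0 ≤ n ≤ r`. -/
theorem exists_eq_sum_linv_pow (x : AdjoinRoot (KRR.extPoly P e)) :
    ∃ a : ℕ → K, x = ∑ n ∈ range (r + 1), AdjoinRoot.of (KRR.extPoly P e) (a n) * linv ^ n := by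
  obtain ⟨q, hq, hqx⟩ := EulerDual.exists_repr (extPoly_monic e) r (natDegree_extPoly e r hr)
    (AdjoinRoot.root (KRR.extPoly P e) ^ r * x)
  refine ⟨fun n => q.coeff (r - n), ?_⟩
  have h1 : x = linv ^ r * (AdjoinRoot.root (KRR.extPoly P e) ^ r * x) := by
    rw [← mul_assoc, ← mul_pow, hlinv, one_pow, one_mul]
  rw [h1, ← hqx, EulerDual.mk_eq_sum r q hq, mul_sum, ← sum_range_reflect]
  refine sum_congr rfl fun n hn => ?_
  rw [mem_range] at hn
  have h2 : r + 1 - 1 - n = r - n := by omega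
  rw [h2]
  have h3 : linv ^ r = linv ^ n * linv ^ (r - n) := by rw [← pow_add]; congr 1; omega
  have h4 : linv ^ (r - n) * AdjoinRoot.root (KRR.extPoly P e) ^ (r - n) = 1 := by
    rw [← mul_pow, hlinv, one_pow]
  rw [h3]
  linear_combination (AdjoinRoot.of (KRR.extPoly P e) (q.coeff (r - n)) * linv ^ n) * h4

include hline hlinv hsplit in
theorem adams_linv_pow (n : ℕ) : adams Pe j (linv ^ n) = linv ^ (n * j) := by
  have h1 : adams Pe j linv = linv ^ j := by
    have h2 : adams Pe j linv * adams Pe j (AdjoinRoot.root (KRR.extPoly P e)) = 1 := by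
      rw [← adams_mul hsplit, hlinv, adams_one]
    rw [adams_of_isLine Pe _ hline] at h2
    have h3 : linv ^ j * AdjoinRoot.root (KRR.extPoly P e) ^ j = 1 := by
      rw [← mul_pow, hlinv, one_pow]
    calc adams Pe j linv = adams Pe j linv * (linv ^ j * AdjoinRoot.root (KRR.extPoly P e) ^ j) := by
          rw [h3, mul_one]
      _ = (adams Pe j linv * AdjoinRoot.root (KRR.extPoly P e) ^ j) * linv ^ j := by ring
      _ = linv ^ j := by rw [h2, one_mul]
  rw [← adamsRingHom_apply hsplit, map_pow, adamsRingHom_apply, h1, ← pow_mul, mul_comm]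

omit inst in
theorem lTensor_mul_tmul_of (R : Type*) [CommRing R] (f : AdjoinRoot (KRR.extPoly P e) →ₗ[K] K)
    (z : R ⊗[ℤ] (AdjoinRoot (KRR.extPoly P e))) (b : K) :
    LinearMap.lTensor R f.toAddMonoidHom.toIntLinearMap
        (z * ((1 : R) ⊗ₜ[ℤ] AdjoinRoot.of (KRR.extPoly P e) b)) =
      LinearMap.lTensor R f.toAddMonoidHom.toIntLinearMap z * ((1 : R) ⊗ₜ[ℤ] b) := by
  induction z using TensorProduct.induction_on with
  | zero => rw [zero_mul, map_zero, zero_mul]
  | tmul c y =>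
    rw [Algebra.TensorProduct.tmul_mul_tmul, LinearMap.lTensor_tmul, LinearMap.lTensor_tmul,
      Algebra.TensorProduct.tmul_mul_tmul, mul_one]
    congr 1
    show f (y * AdjoinRoot.of (KRR.extPoly P e) b) = f y * b
    rw [mul_comm y, ← AdjoinRoot.algebraMap_eq, ← Algebra.smul_def, map_smul, smul_eq_mul, mul_comm]
  | add z₁ z₂ h₁ h₂ => rw [add_mul, map_add, map_add, add_mul, h₁, h₂]

include he hr hext hline hlinv hsplit in
/-- reduction of the Adams–Riemann–Roch identity to the elements `ℓ^{-n}`, `n ≤ r`. -/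
theorem adamsRR_of_linv_pow (R : Type*) [CommRing R]
    (f : AdjoinRoot (KRR.extPoly P e) →ₗ[K] K)
    (hf : ∀ i : ℕ, i ≤ r → f (AdjoinRoot.root (KRR.extPoly P e) ^ i) = KRR.sigma i e)
    (c : R ⊗[ℤ] (AdjoinRoot (KRR.extPoly P e)))
    (hc : ∀ n ≤ r, LinearMap.lTensor R f.toAddMonoidHom.toIntLinearMap
      (c * ((1 : R) ⊗ₜ[ℤ] linv ^ (n * j))) = if n = 0 then 1 else 0)
    (x : AdjoinRoot (KRR.extPoly P e)) :
    (1 : R) ⊗ₜ[ℤ] adams P j (f x) =
      LinearMap.lTensor R f.toAddMonoidHom.toIntLinearMap (c * ((1 : R) ⊗ₜ[ℤ] adams Pe j x)) := by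
  obtain ⟨a, rfl⟩ := exists_eq_sum_linv_pow e r hr linv hlinv x
  have hL : ∀ n ∈ range (r + 1),
      (1 : R) ⊗ₜ[ℤ] adams P j (f (AdjoinRoot.of (KRR.extPoly P e) (a n) * linv ^ n)) =
      LinearMap.lTensor R f.toAddMonoidHom.toIntLinearMap
        (c * ((1 : R) ⊗ₜ[ℤ] adams Pe j (AdjoinRoot.of (KRR.extPoly P e) (a n) * linv ^ n))) := by
    intro n hn
    rw [mem_range] at hn
    have hn' : n ≤ r := by omega
    -- left side
    have h1 : f (AdjoinRoot.of (KRR.extPoly P e) (a n) * linv ^ n) = a n * f (linv ^ n) := by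
      rw [← AdjoinRoot.algebraMap_eq, ← Algebra.smul_def, map_smul, smul_eq_mul]
    have h2 : f (linv ^ n) = if n = 0 then 1 else 0 := by
      split_ifs with h0
      · subst h0
        have := hf 0 (Nat.zero_le _)
        rw [pow_zero] at this
        rw [pow_zero, this, sigma_zero]
      · exact functional_root_inv_pow e he r hr f hf linv hlinv n (by omega) hn'
    -- right side
    have h3 : adams Pe j (AdjoinRoot.of (KRR.extPoly P e) (a n) * linv ^ n) =
        linv ^ (n * j) * AdjoinRoot.of (KRR.extPoly P e) (adams P j (a n)) := by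
      rw [adams_mul hsplit, ← isExtension_map_adams hext,
        adams_linv_pow e Pe hline hsplit linv hlinv j n, mul_comm]
    rw [h3]
    have h4 : c * ((1 : R) ⊗ₜ[ℤ] (linv ^ (n * j) *
        AdjoinRoot.of (KRR.extPoly P e) (adams P j (a n)))) =
        (c * ((1 : R) ⊗ₜ[ℤ] linv ^ (n * j))) *
          ((1 : R) ⊗ₜ[ℤ] AdjoinRoot.of (KRR.extPoly P e) (adams P j (a n))) := by
      rw [mul_assoc]
      congr 1
      simp [Algebra.TensorProduct.tmul_mul_tmul]
    rw [h4, lTensor_mul_tmul_of, hc n hn', h1, h2]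
    split_ifs with h0
    · rw [mul_one, one_mul]
    · rw [mul_zero, adams_zero, zero_mul, TensorProduct.tmul_zero]
  rw [map_sum, ← adamsAddHom_apply, map_sum, TensorProduct.tmul_sum, ← adamsAddHom_apply,
    map_sum, TensorProduct.tmul_sum, mul_sum, map_sum]
  exact sum_congr rfl fun n hn => by
    rw [adamsAddHom_apply, adamsAddHom_apply]; exact hL n hn

end Reduce

section Transfer
open Polynomial PowerMapRR EulerDual
universe w
variable {K K' : Type v} [CommRing K] [CommRing K'] (ext : K →+* K') (p : K[X]) {r : ℕ}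
  (u : Fin (r + 1) → K') (hpu : p.map ext = rootsPoly u) (R : Type w) [CommRing R]

/-- the roots `1 ⊗ u_k` in `R ⊗ K'`. -/
def uT : Fin (r + 1) → R ⊗[ℤ] K' := fun k => (1 : R) ⊗ₜ[ℤ] u k

/-- `K → K' → R ⊗ K'`. -/
noncomputable def iota : K →+* R ⊗[ℤ] K' :=
  (Algebra.TensorProduct.includeRight : K' →ₐ[ℤ] R ⊗[ℤ] K').toRingHom.comp ext

theorem iota_apply (a : K) : iota ext R a = (1 : R) ⊗ₜ[ℤ] ext a := rfl

include hpu in
theorem map_iota : p.map (iota ext R) = rootsPoly (uT u R) := by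
  unfold iota
  rw [← Polynomial.map_map, hpu, map_rootsPoly]
  rfl

/-- `K[X]/p → (R ⊗ K')[X]/Π(X - 1 ⊗ u_k)`. -/
noncomputable def PhiA : AdjoinRoot p →+* AdjoinRoot (rootsPoly (uT u R)) :=
  AdjoinRoot.lift ((AdjoinRoot.of (rootsPoly (uT u R))).comp (iota ext R))
    (AdjoinRoot.root (rootsPoly (uT u R))) (by
      rw [← Polynomial.eval₂_map, map_iota ext p u hpu R, AdjoinRoot.eval₂_root])

theorem PhiA_root : PhiA ext p u hpu R (AdjoinRoot.root p) = AdjoinRoot.root (rootsPoly (uT u R)) := by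
  unfold PhiA; simp

theorem PhiA_of (a : K) : PhiA ext p u hpu R (AdjoinRoot.of p a) =
    AdjoinRoot.of (rootsPoly (uT u R)) ((1 : R) ⊗ₜ[ℤ] ext a) := by
  unfold PhiA; simp [iota_apply]

/-- `R ⊗ K[X]/p → (R ⊗ K')[X]/Π(X - 1 ⊗ u_k)`. -/
noncomputable def Phi : R ⊗[ℤ] AdjoinRoot p →+* AdjoinRoot (rootsPoly (uT u R)) :=
  (Algebra.TensorProduct.lift
    (((AdjoinRoot.of (rootsPoly (uT u R))).comp
      (Algebra.TensorProduct.includeLeft : R →ₐ[ℤ] R ⊗[ℤ] K').toRingHom).toIntAlgHom)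
    (PhiA ext p u hpu R).toIntAlgHom (fun _ _ => Commute.all _ _)).toRingHom

theorem Phi_tmul (c : R) (x : AdjoinRoot p) :
    Phi ext p u hpu R (c ⊗ₜ[ℤ] x) =
      AdjoinRoot.of (rootsPoly (uT u R)) (c ⊗ₜ[ℤ] (1 : K')) * PhiA ext p u hpu R x := by
  unfold Phi
  simp [Algebra.TensorProduct.lift_tmul]

theorem Phi_one_tmul (x : AdjoinRoot p) :
    Phi ext p u hpu R ((1 : R) ⊗ₜ[ℤ] x) = PhiA ext p u hpu R x := by
  rw [Phi_tmul]
  have : ((1 : R) ⊗ₜ[ℤ] (1 : K')) = (1 : R ⊗[ℤ] K') := rfl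
  rw [this, map_one, one_mul]

omit [CommRing K'] in
theorem exists_eq_sum_inv_pow (hp : p.Monic) (hdeg : p.natDegree = r + 1) (linv : AdjoinRoot p)
    (hlinv : linv * AdjoinRoot.root p = 1) (x : AdjoinRoot p) :
    ∃ a : ℕ → K, x = ∑ n ∈ range (r + 1), AdjoinRoot.of p (a n) * linv ^ n := by
  obtain ⟨q, hq, hqx⟩ := EulerDual.exists_repr hp r hdeg (AdjoinRoot.root p ^ r * x)
  refine ⟨fun n => q.coeff (r - n), ?_⟩
  have h1 : x = linv ^ r * (AdjoinRoot.root p ^ r * x) := by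
    rw [← mul_assoc, ← mul_pow, hlinv, one_pow, one_mul]
  rw [h1, ← hqx, EulerDual.mk_eq_sum r q hq, mul_sum, ← sum_range_reflect]
  refine sum_congr rfl fun n hn => ?_
  rw [mem_range] at hn
  have h2 : r + 1 - 1 - n = r - n := by omega
  rw [h2]
  have h3 : linv ^ r = linv ^ n * linv ^ (r - n) := by rw [← pow_add]; congr 1; omega
  have h4 : linv ^ (r - n) * AdjoinRoot.root p ^ (r - n) = 1 := by
    rw [← mul_pow, hlinv, one_pow]
  rw [h3]
  linear_combination (AdjoinRoot.of p (q.coeff (r - n)) * linv ^ n) * h4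

theorem tau_Phi [Nontrivial (R ⊗[ℤ] K')] (hp : p.Monic) (hdeg : p.natDegree = r + 1)
    (f : AdjoinRoot p →ₗ[K] K) (linv : AdjoinRoot p) (hlinv : linv * AdjoinRoot.root p = 1)
    (hfl : ∀ n ≤ r, f (linv ^ n) = if n = 0 then 1 else 0) (z : R ⊗[ℤ] AdjoinRoot p) :
    tau (rootsPoly (uT u R)) (rootsPoly_monic _) r
        (AdjoinRoot.root (rootsPoly (uT u R)) ^ r * Phi ext p u hpu R z) =
      LinearMap.lTensor R ext.toAddMonoidHom.toIntLinearMap
        (LinearMap.lTensor R f.toAddMonoidHom.toIntLinearMap z) := by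
  have hlinv'' : PhiA ext p u hpu R linv * AdjoinRoot.root (rootsPoly (uT u R)) = 1 := by
    rw [← PhiA_root ext p u hpu R, ← map_mul, hlinv, map_one]
  induction z using TensorProduct.induction_on with
  | zero => rw [map_zero, mul_zero, map_zero, map_zero, map_zero]
  | add z₁ z₂ h₁ h₂ => rw [map_add, mul_add, map_add, h₁, h₂, map_add, map_add]
  | tmul c x =>
    obtain ⟨a, rfl⟩ := exists_eq_sum_inv_pow p hp hdeg linv hlinv x
    rw [TensorProduct.tmul_sum, map_sum, mul_sum, map_sum, map_sum, map_sum]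
    refine sum_congr rfl fun n hn => ?_
    rw [mem_range] at hn
    have hn' : n ≤ r := by omega
    rw [Phi_tmul, map_mul (PhiA ext p u hpu R), PhiA_of, map_pow (PhiA ext p u hpu R),
      LinearMap.lTensor_tmul, LinearMap.lTensor_tmul]
    have e1 : AdjoinRoot.root (rootsPoly (uT u R)) ^ r *
        (AdjoinRoot.of (rootsPoly (uT u R)) (c ⊗ₜ[ℤ] (1 : K')) *
          (AdjoinRoot.of (rootsPoly (uT u R)) ((1 : R) ⊗ₜ[ℤ] ext (a n)) *
            PhiA ext p u hpu R linv ^ n)) =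
        AdjoinRoot.of (rootsPoly (uT u R)) (c ⊗ₜ[ℤ] ext (a n)) *
          AdjoinRoot.root (rootsPoly (uT u R)) ^ (r - n) := by
      have h3 : AdjoinRoot.root (rootsPoly (uT u R)) ^ r =
          AdjoinRoot.root (rootsPoly (uT u R)) ^ (r - n) *
            AdjoinRoot.root (rootsPoly (uT u R)) ^ n := by
        rw [← pow_add]; congr 1; omega
      have h4 : PhiA ext p u hpu R linv ^ n * AdjoinRoot.root (rootsPoly (uT u R)) ^ n = 1 := by
        rw [← mul_pow, hlinv'', one_pow]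
      have h5 : (c ⊗ₜ[ℤ] ext (a n) : R ⊗[ℤ] K') = (c ⊗ₜ[ℤ] (1 : K')) * ((1 : R) ⊗ₜ[ℤ] ext (a n)) := by
        rw [Algebra.TensorProduct.tmul_mul_tmul, mul_one, one_mul]
      rw [h5, map_mul, h3]
      linear_combination (AdjoinRoot.root (rootsPoly (uT u R)) ^ (r - n) *
        AdjoinRoot.of (rootsPoly (uT u R)) (c ⊗ₜ[ℤ] (1 : K')) *
          AdjoinRoot.of (rootsPoly (uT u R)) ((1 : R) ⊗ₜ[ℤ] ext (a n))) * h4
    rw [e1, ← AdjoinRoot.algebraMap_eq, ← Algebra.smul_def, map_smul,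
      tau_root_pow (rootsPoly_monic _) r (natDegree_rootsPoly _) _ (Nat.sub_le _ _)]
    have e2 : f.toAddMonoidHom.toIntLinearMap (AdjoinRoot.of p (a n) * linv ^ n) =
        a n * f (linv ^ n) := by
      show f (AdjoinRoot.of p (a n) * linv ^ n) = _
      rw [← AdjoinRoot.algebraMap_eq, ← Algebra.smul_def, map_smul, smul_eq_mul]
    rw [e2, hfl n hn']
    by_cases h0 : n = 0
    · subst h0
      rw [if_pos rfl, if_pos (by omega), mul_one, smul_eq_mul, mul_one]
      rfl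
    · rw [if_neg h0, if_neg (by omega), mul_zero, smul_zero, map_zero, TensorProduct.tmul_zero]

end Transfer

section Final
open Polynomial PowerMapRR EulerDual
universe w
variable {K : Type v} [CommRing K] [LambdaOps K] {P : PosStructure K} (hK : HasSplitting K P)
  (e : K) (he : e ∈ P.pos) (r : ℕ) (hr : P.aug e = r + 1)
  [inst : LambdaOps (AdjoinRoot (KRR.extPoly P e))]
  (Pe : PosStructure (AdjoinRoot (KRR.extPoly P e)))
  (hext : IsExtension P Pe (AdjoinRoot.of (KRR.extPoly P e)))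
  (hline : Pe.IsLine (AdjoinRoot.root (KRR.extPoly P e)))
  (hsplit : HasSplitting (AdjoinRoot (KRR.extPoly P e)) Pe)
  (linv : AdjoinRoot (KRR.extPoly P e)) (hlinv : linv * AdjoinRoot.root (KRR.extPoly P e) = 1)
  (j : ℕ)

include hK he hr hext hline hlinv hsplit in
theorem lTensor_mul_linv_pow (R : Type w) [CommRing R] [Module.Flat ℤ R]
    (hjR : IsUnit ((j : ℕ) : R)) (hj : 1 ≤ j) (N : ℕ) (hN : gammaFiltration Pe N = ⊥)
    (f : AdjoinRoot (KRR.extPoly P e) →ₗ[K] K)
    (hf : ∀ i : ℕ, i ≤ r → f (AdjoinRoot.root (KRR.extPoly P e) ^ i) = KRR.sigma i e)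
    (w : R ⊗[ℤ] (AdjoinRoot (KRR.extPoly P e)))
    (hw : w * ((1 : R) ⊗ₜ[ℤ] KRR.bott Pe j (AdjoinRoot.of (KRR.extPoly P e) e * linv)) = 1)
    (n : ℕ) (hn : n ≤ r) :
    LinearMap.lTensor R f.toAddMonoidHom.toIntLinearMap
      (((j : ℕ) : R ⊗[ℤ] (AdjoinRoot (KRR.extPoly P e))) * w * ((1 : R) ⊗ₜ[ℤ] linv ^ (n * j))) =
      if n = 0 then 1 else 0 := by
  obtain ⟨L, ext, hextL, -, s, hs, hsum⟩ := exists_extension_multiset hK e he
  obtain ⟨m, u, hu, husum, hm⟩ := exists_fin_of_multiset L.posStr s hs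
  have hm0 : (P.aug e).toNat = r + 1 := by rw [hr]; rfl
  have hm' : m = r + 1 := by
    rw [hm, ← hm0, ← hextL.aug_comp, ← hsum, aug_multiset_sum_lines _ s hs, Int.toNat_natCast]
  subst hm'
  have hfe : ext e = ∑ k, u k := by rw [husum, hsum]
  -- the polynomial `p_e` splits over `L`
  have hpu : (KRR.extPoly P e).map ext = rootsPoly u := by
    rw [rootsPoly_eq_sum]
    unfold KRR.extPoly
    rw [hm0, Polynomial.map_sum]
    refine sum_congr rfl fun i _ => ?_
    rw [Polynomial.map_mul, Polynomial.map_C, Polynomial.map_pow, Polynomial.map_X, map_mul,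
      map_pow, map_neg, map_one, hextL.isLambdaHom, hfe, lam_sum_lines L.posStr u hu]
  have hinj : Function.Injective
      (LinearMap.lTensor R ext.toAddMonoidHom.toIntLinearMap) :=
    Module.Flat.lTensor_preserves_injective_linearMap _ hextL.injective
  rcases subsingleton_or_nontrivial (R ⊗[ℤ] L.carrier) with hS | hS
  · exact hinj (Subsingleton.elim _ _)
  apply hinj
  have hfl : ∀ n ≤ r, f (linv ^ n) = if n = 0 then 1 else 0 := by
    intro n hn'
    split_ifs with h0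
    · subst h0
      have := hf 0 (Nat.zero_le _)
      rw [pow_zero] at this
      rw [pow_zero, this, sigma_zero]
    · exact functional_root_inv_pow e he r hr f hf linv hlinv n (by omega) hn'
  rw [← tau_Phi ext (KRR.extPoly P e) u hpu R (extPoly_monic e) (natDegree_extPoly e r hr) f linv
    hlinv hfl]
  -- nilpotence of the `u_k - 1`
  have hNK : gammaFiltration P N = ⊥ := gammaFiltration_eq_bot_of_extension hext N hN
  have hnilγ : ∀ i, 1 ≤ i → IsNilpotent (gamma i (∑ k, u k - ((r + 1 : ℕ) : L.carrier))) := by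
    intro i hi
    have haug0 : P.aug (e - ((r + 1 : ℕ) : K)) = 0 := by
      rw [map_sub, hr, map_natCast]; push_cast; ring
    have h1 : gamma i (e - ((r + 1 : ℕ) : K)) ∈ gammaFiltration P 1 :=
      gammaFiltration_anti P hi (gamma_mem_gammaFiltration P i _ haug0)
    have h2 := (isNilpotent_of_mem_gammaFiltration_one P N hNK h1).map ext
    rwa [map_gamma hextL.isLambdaHom, map_sub, map_natCast, hfe] at h2
  have hu1 : ∀ k, IsNilpotent (uT u R k - 1) := by
    intro k
    have h1 := (isNilpotent_line_sub_one L.posStr u hu hnilγ k).map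
      (Algebra.TensorProduct.includeRight : L.carrier →ₐ[ℤ] R ⊗[ℤ] L.carrier)
    rwa [map_sub, map_one] at h1
  have hjS : IsUnit ((j : ℕ) : R ⊗[ℤ] L.carrier) := isUnit_natCast_tensor j R _ hjR
  -- the image of `θ`
  have hθ : PhiA ext (KRR.extPoly P e) u hpu R
      (KRR.bott Pe j (AdjoinRoot.of (KRR.extPoly P e) e * linv)) =
      ∏ k, ∑ l ∈ range j, (AdjoinRoot.of (rootsPoly (uT u R)) (uT u R k) *
        PhiA ext (KRR.extPoly P e) u hpu R linv) ^ l := by
    rw [bott_mul_linv e r hr Pe hext hline hsplit linv hlinv j]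
    have h1 := MvPolynomial.comp_aeval_apply (R := ℤ)
      (f := fun i : Fin (r + 1) =>
        AdjoinRoot.of (KRR.extPoly P e) (LambdaOps.lam (i.1 + 1) e) * linv ^ (i.1 + 1))
      (φ := (PhiA ext (KRR.extPoly P e) u hpu R).toIntAlgHom) (KRR.bottPoly j (r + 1))
    simp only [RingHom.toIntAlgHom_apply] at h1
    refine h1.trans ?_
    rw [← aeval_bottPoly_scaled j (r + 1)
      (fun k => AdjoinRoot.of (rootsPoly (uT u R)) (uT u R k))
      (PhiA ext (KRR.extPoly P e) u hpu R linv)]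
    congr 2
    funext i
    rw [map_mul, map_pow, PhiA_of, hextL.isLambdaHom, hfe, lam_sum_lines L.posStr u hu]
    congr 1
    have : ((1 : R) ⊗ₜ[ℤ] ∑ t ∈ (univ : Finset (Fin (r + 1))).powersetCard (i.1 + 1), ∏ k ∈ t, u k) =
        ∑ t ∈ (univ : Finset (Fin (r + 1))).powersetCard (i.1 + 1), ∏ k ∈ t, uT u R k := by
      have h2 := map_sum (Algebra.TensorProduct.includeRight : L.carrier →ₐ[ℤ] R ⊗[ℤ] L.carrier)
        (fun t => ∏ k ∈ t, u k) ((univ : Finset (Fin (r + 1))).powersetCard (i.1 + 1))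
      refine h2.trans ?_
      refine sum_congr rfl fun t _ => ?_
      rw [map_prod]
      rfl
    rw [this, map_sum]
    refine sum_congr rfl fun t _ => ?_
    rw [map_prod]
  have hlinv'' : PhiA ext (KRR.extPoly P e) u hpu R linv *
      AdjoinRoot.root (rootsPoly (uT u R)) = 1 := by
    rw [← PhiA_root ext (KRR.extPoly P e) u hpu R, ← map_mul, hlinv, map_one]
  have hc : ((j : ℕ) : AdjoinRoot (rootsPoly (uT u R))) * Phi ext (KRR.extPoly P e) u hpu R w *
      ∏ k, ∑ l ∈ range j, (AdjoinRoot.of (rootsPoly (uT u R)) (uT u R k) *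
        PhiA ext (KRR.extPoly P e) u hpu R linv) ^ l = ((j : ℕ) : AdjoinRoot (rootsPoly (uT u R))) := by
    rw [← hθ, ← Phi_one_tmul, mul_assoc, ← map_mul, hw, map_one, mul_one]
  have hmain := tau_root_pow_mul_inv_pow (uT u R) j hu1 hjS hj
    (PhiA ext (KRR.extPoly P e) u hpu R linv)
    (((j : ℕ) : AdjoinRoot (rootsPoly (uT u R))) * Phi ext (KRR.extPoly P e) u hpu R w)
    hlinv'' hc n hn
  rw [map_mul (Phi ext (KRR.extPoly P e) u hpu R), map_mul (Phi ext (KRR.extPoly P e) u hpu R),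
    map_natCast, map_pow, Phi_one_tmul, ← mul_assoc, hmain]
  split_ifs with h0
  · have h1 : (1 : R ⊗[ℤ] K) = (1 : R) ⊗ₜ[ℤ] (1 : K) := Algebra.TensorProduct.one_def
    rw [h1, LinearMap.lTensor_tmul, Algebra.TensorProduct.one_def]
    congr 1
    exact (map_one ext).symm
  · rw [map_zero]

end Final

end Groth.Agent.Lib.Seat17.AdamsRRProj
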