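import Groth.Agent.S3861
import Groth.Prelude.Def_FSch3

/-!
# Inverse image of powers of ideal sheaves; closed subschemes of powers pull back (seat 17)
-/

set_option autoImplicit false
universe u

namespace Groth.Agent.Lib.Seat17.ComapPow

open CategoryTheory CategoryTheory.Limits AlgebraicGeometry

variable {X Y : Scheme.{u}} (f : X ⟶ Y)

/-- The inverse image of a power of an ideal sheaf is the power of the inverse image. -/
theorem comap_pow (𝓚 : Y.IdealSheafData) (m : ℕ) : (𝓚 ^ m).comap f = (𝓚.comap f) ^ m := by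
  induction m with
  | zero =>
    rw [pow_zero, pow_zero]
    exact Scheme.IdealSheafData.comap_top f
  | succ m ih =>
    rw [pow_succ, pow_succ, Groth.Agent.S3861.result, ih]

/-- The closed subscheme of `𝓚.comap f` is the pullback of the closed subscheme of `𝓚`. -/
theorem isPullback_subschemeMap_comap (𝓚 : Y.IdealSheafData) (𝓘 : X.IdealSheafData)
    (h𝓘 : 𝓚.comap f = 𝓘) (H : 𝓚 ≤ 𝓘.map f) :
    IsPullback 𝓘.subschemeι (Scheme.IdealSheafData.subschemeMap 𝓘 𝓚 f H) f 𝓚.subschemeι := by
  apply isPullback_of_isClosedImmersion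
  · exact (Scheme.IdealSheafData.subschemeMap_subschemeι 𝓘 𝓚 f H).symm
  · rw [Scheme.IdealSheafData.ker_subschemeι, Scheme.IdealSheafData.ker_subschemeι, h𝓘]

end Groth.Agent.Lib.Seat17.ComapPow
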