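import Groth.Agent.Lib.Seat17Thicken
import Groth.Agent.Lib.Seat17ComapPow
import Groth.Agent.Lib.Helper22IdealComap

/-!
# Adic morphisms of systems over a locally Noetherian formal system (seat 17)

If `f : 𝔛 ⟶ 𝔖` is adic (all squares cartesian), `𝔖` is a locally Noetherian adic formal system and `𝔛.X 0` is locally
Noetherian, then `𝔛` is a locally Noetherian adic formal system.
-/

set_option autoImplicit false
universe u

namespace Groth.Agent.Lib.Seat17.AdicBC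

open CategoryTheory CategoryTheory.Limits AlgebraicGeometry

/-- Cover version of `Thicken.isLocallyNoetherian_of_thickening`. -/
theorem isLocallyNoetherian_of_thickening_cover {X Z : Scheme.{u}} {ι : Type*} (S : ι → Z.affineOpens)
    (hS : (⨆ j, S j : Z.Opens) = ⊤) (i : X ⟶ Z) [IsClosedImmersion i]
    (𝓘 : Z.IdealSheafData) (n : ℕ) (hker : i.ker = 𝓘 ^ (n + 1)) (hnil : 𝓘 ^ (n + 2) = ⊥)
    [IsLocallyNoetherian X] (h0 : n = 0 → ∀ j, (𝓘.ideal (S j)).FG) : IsLocallyNoetherian Z := by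
  apply isLocallyNoetherian_of_affine_cover hS
  intro j
  have hsurj : Function.Surjective (i.app (S j).1).hom := i.app_surjective (S j).1 (S j).2
  have hk : RingHom.ker (i.app (S j).1).hom = (𝓘.ideal (S j)) ^ (n + 1) := by
    rw [← Scheme.Hom.ker_apply, hker]
    rfl
  have hn : (𝓘.ideal (S j)) ^ (n + 2) = ⊥ := by
    have := congrArg (fun 𝓙 : Z.IdealSheafData => 𝓙.ideal (S j)) hnil
    simpa using this
  have : IsNoetherianRing Γ(X, i ⁻¹ᵁ (S j).1) :=
    IsLocallyNoetherian.component_noetherian (⟨i ⁻¹ᵁ (S j).1, (S j).2.preimage i⟩ : X.affineOpens)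
  exact Groth.Agent.Lib.Seat17.NilpNoeth.isNoetherianRing_of_thickening (𝓘.ideal (S j)) n hn
    (i.app (S j).1).hom hsurj hk (fun h => h0 h j)

/-- Cover version of `Thicken.isLocallyNoetherian_level`: the first ideal only needs to be finitely generated on an
affine open cover of level `1`. -/
theorem isLocallyNoetherian_level_cover (𝔛 : FSch.Sys.{u}) (hF : 𝔛.IsFormal) (hA : 𝔛.IsAdic)
    [IsLocallyNoetherian (𝔛.X 0)] {ι : Type*} (S : ι → (𝔛.X 1).affineOpens)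
    (hS : (⨆ j, S j : (𝔛.X 1).Opens) = ⊤) (hft : ∀ j, ((𝔛.ι 0).ker.ideal (S j)).FG) (n : ℕ) :
    IsLocallyNoetherian (𝔛.X n) := by
  induction n with
  | zero => infer_instance
  | succ n ih =>
    have : IsClosedImmersion (𝔛.ι n) := (hF n).1
    cases n with
    | zero =>
      refine isLocallyNoetherian_of_thickening_cover S hS (𝔛.ι 0) (𝔛.toX (0 + 1)).ker 0 (hA 0)
        (Thicken.ker_toX_pow_eq_bot 𝔛 hF hA 0) ?_
      intro _
      have : 𝔛.toX (0 + 1) = 𝔛.ι 0 := by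
        change 𝟙 _ ≫ 𝔛.ι 0 = 𝔛.ι 0
        rw [Category.id_comp]
      rw [this]
      exact hft
    | succ m =>
      exact Thicken.isLocallyNoetherian_of_thickening (𝔛.ι (m + 1)) (𝔛.toX (m + 1 + 1)).ker (m + 1)
        (hA (m + 1)) (Thicken.ker_toX_pow_eq_bot 𝔛 hF hA (m + 1)) (fun h => absurd h (Nat.succ_ne_zero m))

/-- The kernel of the base change of a closed immersion is the inverse image of the kernel. -/
theorem ker_eq_comap_of_isPullback {P X Y Z : Scheme.{u}} {fst : P ⟶ X} {snd : P ⟶ Y} {f : X ⟶ Z}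
    {i : Y ⟶ Z} [IsClosedImmersion i] (sq : IsPullback fst snd f i) : fst.ker = i.ker.comap f := by
  have h1 : fst = sq.isoPullback.hom ≫ pullback.fst f i := (sq.isoPullback_hom_fst).symm
  rw [h1, Scheme.Hom.ker_comp_of_isIso, Scheme.IdealSheafData.ker_fst_of_isClosedImmersion]

section

variable {𝔛 𝔖 : FSch.Sys.{u}} (f : 𝔛 ⟶ 𝔖)

theorem isClosedImmersion_toX (h𝔖 : 𝔖.IsFormal) (n : ℕ) : IsClosedImmersion (𝔖.toX n) := by
  induction n with
  | zero => change IsClosedImmersion (𝟙 _); infer_instance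
  | succ n ih =>
    have := (h𝔖 n).1
    change IsClosedImmersion (𝔖.toX n ≫ 𝔖.ι n)
    infer_instance

theorem isPullback_toX (hf : FSch.IsAdicHom f) (n : ℕ) :
    IsPullback (𝔛.toX n) ((f : FSch.Hom 𝔛 𝔖).app 0) ((f : FSch.Hom 𝔛 𝔖).app n) (𝔖.toX n) := by
  induction n with
  | zero =>
    change IsPullback (𝟙 _) _ _ (𝟙 _)
    exact IsPullback.id_horiz _
  | succ n ih => exact ih.paste_horiz (hf n)

theorem isFormal_of_isAdicHom (h𝔖 : 𝔖.IsFormal) (hf : FSch.IsAdicHom f) : 𝔛.IsFormal := by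
  intro n
  have h1 := (h𝔖 n).1
  have h2 : Surjective (𝔖.ι n) := ⟨(h𝔖 n).2⟩
  have sq := (hf n).flip
  refine ⟨MorphismProperty.of_isPullback (P := @IsClosedImmersion) sq h1, ?_⟩
  have : Surjective (𝔛.ι n) := MorphismProperty.of_isPullback (P := @Surjective) sq h2
  exact this.surj

theorem isAdic_of_isAdicHom (h𝔖F : 𝔖.IsFormal) (h𝔖A : 𝔖.IsAdic) (hf : FSch.IsAdicHom f) : 𝔛.IsAdic := by
  intro n
  have := (h𝔖F n).1
  have := isClosedImmersion_toX h𝔖F (n + 1)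
  rw [ker_eq_comap_of_isPullback (hf n), h𝔖A n, ComapPow.comap_pow,
    ← ker_eq_comap_of_isPullback (isPullback_toX f hf (n + 1))]

/-- The main result: a system adic over a locally Noetherian adic formal system, with locally Noetherian level `0`, is
a locally Noetherian adic formal system. -/
theorem isLocNoethFormal_of_isAdicHom (h𝔖 : 𝔖.IsLocNoethFormal) (hf : FSch.IsAdicHom f)
    [IsLocallyNoetherian (𝔛.X 0)] : 𝔛.IsLocNoethFormal := by
  obtain ⟨h𝔖F, h𝔖A, h𝔖N⟩ := h𝔖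
  have hF := isFormal_of_isAdicHom f h𝔖F hf
  have hA := isAdic_of_isAdicHom f h𝔖F h𝔖A hf
  refine ⟨hF, hA, ?_⟩
  -- the cover of level 1 by affine opens mapping into affine opens of `𝔖.X 1`
  let f₁ : 𝔛.X 1 ⟶ 𝔖.X 1 := (f : FSch.Hom 𝔛 𝔖).app 1
  let J : Type u := {p : (𝔛.X 1).affineOpens × (𝔖.X 1).affineOpens // p.1.1 ≤ f₁ ⁻¹ᵁ p.2.1}
  have hcov : (⨆ j : J, (j.1.1 : (𝔛.X 1).Opens)) = ⊤ := by
    rw [eq_top_iff]
    intro x _
    obtain ⟨_, ⟨V, hV, rfl⟩, hxV, -⟩ := (𝔖.X 1).isBasis_affineOpens.exists_subset_of_mem_open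
      (Set.mem_univ (f₁ x)) isOpen_univ
    obtain ⟨_, ⟨U', hU', rfl⟩, hxU', hU'V⟩ := (𝔛.X 1).isBasis_affineOpens.exists_subset_of_mem_open
      (show x ∈ (f₁ ⁻¹ᵁ V : Set (𝔛.X 1)) from hxV) (f₁ ⁻¹ᵁ V).isOpen
    exact TopologicalSpace.Opens.mem_iSup.mpr ⟨⟨(⟨U', hU'⟩, ⟨V, hV⟩), hU'V⟩, hxU'⟩
  have := (h𝔖F 0).1
  have hker : (𝔛.ι 0).ker = (𝔖.ι 0).ker.comap f₁ := ker_eq_comap_of_isPullback (hf 0)
  have hft : ∀ j : J, ((𝔛.ι 0).ker.ideal j.1.1).FG := by
    rintro ⟨⟨U, V⟩, hUV⟩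
    rw [hker, Groth.Agent.Lib.Helper22.IdealComap.ideal_comap_eq_map f₁ _ U V hUV]
    have : IsNoetherianRing Γ(𝔖.X 1, V.1) :=
      (h𝔖N 1).component_noetherian V
    exact Ideal.FG.map (IsNoetherian.noetherian _) _
  exact isLocallyNoetherian_level_cover 𝔛 hF hA (fun j : J => j.1.1) hcov hft

end

end Groth.Agent.Lib.Seat17.AdicBC
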