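import Mathlib.RingTheory.AdicCompletion.Completeness
import Mathlib.RingTheory.AdicCompletion.Algebra
import Mathlib.RingTheory.Localization.Away.Basic
import Mathlib.RingTheory.Ideal.Quotient.Operations
import Mathlib.RingTheory.Ideal.Maps

/-!
# Quotients of adic completions by powers of the ideal (seat 17)

* `ker_evalₐ_eq`: for a finitely generated ideal `I`, the kernel of `Â → R ⧸ I ^ n` is `(I Â) ^ n`.
-/

set_option autoImplicit false

namespace Groth.Agent.Lib.Seat17.AdicQuot

open AdicCompletion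

variable {R : Type*} [CommRing R] (I : Ideal R)

theorem mem_ker_evalₐ_iff (n : ℕ) (x : AdicCompletion I R) :
    evalₐ I n x = 0 ↔ x ∈ LinearMap.ker (eval I R n) := by
  have h : (I ^ n • ⊤ : Ideal R) = I ^ n := by ext x; simp
  rw [LinearMap.mem_ker]
  have h2 : evalₐ I n x = (Ideal.quotientEquivAlgOfEq R h) (eval I R n x) := rfl
  rw [h2]
  exact _root_.map_eq_zero_iff _ (Ideal.quotientEquivAlgOfEq R h).injective

/-- The kernel of `Â → R ⧸ I ^ n` is the `n`-th power of the extension of `I`, for `I` finitely generated. -/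
theorem ker_evalₐ_eq (fg : I.FG) (n : ℕ) :
    RingHom.ker (evalₐ I n : AdicCompletion I R →+* R ⧸ I ^ n) =
      (I.map (algebraMap R (AdicCompletion I R))) ^ n := by
  ext x
  rw [RingHom.mem_ker]
  change evalₐ I n x = 0 ↔ _
  rw [mem_ker_evalₐ_iff, ← pow_smul_top_eq_ker_eval fg, Ideal.smul_top_eq_map, ← Ideal.map_pow]
  rfl

end Groth.Agent.Lib.Seat17.AdicQuot
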