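import Mathlib
import Groth.Agent.Lib.Helper18Adic
import Groth.Agent.Lib.Helper19ComplNoeth2
import Groth.Agent.Lib.Helper15LinTopComplete

/-!
# Inverse limits of adic systems of rings (seat 17)

Let `π n : A (n+1) →+* A n` be surjective ring maps with `ker (π n) = (ker (A (n+1) → A 0))^(n+1)`
and `ker (π 0)` finitely generated.  Then the inverse limit `Lim π` is `J`-adically complete for
`J = ker (Lim π → A 0)`, `J` is finitely generated, `ker (Lim π → A n) = J^(n+1)`, and `Lim π` is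
Noetherian if `A 0` is.  (EGA 0_I 7.2.7, 7.2.8.)
-/

set_option autoImplicit false
universe u

namespace Groth.Agent.Lib.Seat17.InvLimAdic

section Sets

/-- surjective inverse systems of sets indexed by `ℕ` have surjective projections from the limit -/
theorem exists_compatible : ∀ (n : ℕ) {A : ℕ → Type u} (π : ∀ n, A (n + 1) → A n)
    (_ : ∀ n, Function.Surjective (π n)) (a : A n),
    ∃ x : ∀ m, A m, (∀ m, π m (x (m + 1)) = x m) ∧ x n = a := by
  intro n
  induction n with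
  | zero =>
    intro A π hsurj a
    refine ⟨fun m => Nat.rec a (fun k xk => Function.surjInv (hsurj k) xk) m, ?_, rfl⟩
    intro m
    exact Function.surjInv_eq (hsurj m) _
  | succ n ih =>
    intro A π hsurj a
    obtain ⟨x', hx', hxa⟩ := ih (A := fun k => A (k + 1)) (fun k => π (k + 1))
      (fun k => hsurj (k + 1)) a
    refine ⟨fun m => match m with
      | 0 => π 0 (x' 0)
      | k + 1 => x' k, ?_, hxa⟩
    intro m
    cases m with
    | zero => rfl
    | succ k => exact hx' k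

end Sets

variable {A : ℕ → Type u} [∀ n, CommRing (A n)] (π : ∀ n, A (n + 1) →+* A n)

/-- the inverse limit of the system -/
def Lim : Subring (∀ n, A n) where
  carrier := {x | ∀ n, π n (x (n + 1)) = x n}
  mul_mem' := by
    intro a b ha hb n
    change π n (a (n + 1) * b (n + 1)) = a n * b n
    rw [map_mul, ha n, hb n]
  one_mem' := by
    intro n
    change π n 1 = 1
    rw [map_one]
  add_mem' := by
    intro a b ha hb n
    change π n (a (n + 1) + b (n + 1)) = a n + b n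
    rw [map_add, ha n, hb n]
  zero_mem' := by
    intro n
    change π n 0 = 0
    rw [map_zero]
  neg_mem' := by
    intro a ha n
    change π n (-a (n + 1)) = -a n
    rw [map_neg, ha n]

/-- the projections -/
def proj (n : ℕ) : Lim π →+* A n := (Pi.evalRingHom A n).comp (Lim π).subtype

theorem proj_apply (n : ℕ) (x : Lim π) : proj π n x = x.1 n := rfl

theorem π_proj (n : ℕ) (x : Lim π) : π n (proj π (n + 1) x) = proj π n x := x.2 n

theorem π_comp_proj (n : ℕ) : (π n).comp (proj π (n + 1)) = proj π n :=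
  RingHom.ext (π_proj π n)

theorem ext_proj {x y : Lim π} (h : ∀ n, proj π n x = proj π n y) : x = y :=
  Subtype.ext (funext h)

theorem proj_surjective (hsurj : ∀ n, Function.Surjective (π n)) (n : ℕ) :
    Function.Surjective (proj π n) := by
  intro a
  obtain ⟨x, hx, hxa⟩ := exists_compatible n (fun k => π k) hsurj a
  exact ⟨⟨x, hx⟩, hxa⟩

/-- the composite `A n → A 0` -/
def τ : ∀ n, A n →+* A 0
  | 0 => RingHom.id _
  | n + 1 => (τ n).comp (π n)

theorem τ_succ (n : ℕ) : τ π (n + 1) = (τ π n).comp (π n) := rfl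

theorem τ_comp_proj (n : ℕ) : (τ π n).comp (proj π n) = proj π 0 := by
  induction n with
  | zero => rfl
  | succ n ih => rw [τ_succ, RingHom.comp_assoc, π_comp_proj, ih]

/-- the kernels of the projections -/
def J (n : ℕ) : Ideal (Lim π) := RingHom.ker (proj π n)

theorem J_succ_le (n : ℕ) : J π (n + 1) ≤ J π n := by
  intro x hx
  rw [J, RingHom.mem_ker] at hx ⊢
  rw [← π_proj, hx, map_zero]

theorem J_anti {m n : ℕ} (h : m ≤ n) : J π n ≤ J π m := by
  induction h with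
  | refl => exact le_rfl
  | step _ ih => exact (J_succ_le π _).trans ih

theorem iInf_J : ∀ x : Lim π, (∀ n, x ∈ J π n) → x = 0 := by
  intro x hx
  apply ext_proj
  intro n
  rw [map_zero]
  exact hx n

section Adic
variable (hsurj : ∀ n, Function.Surjective (π n))
  (hadic : ∀ n, RingHom.ker (π n) = (RingHom.ker (τ π (n + 1))) ^ (n + 1))

include hsurj in
theorem map_J_zero (n : ℕ) : (J π 0).map (proj π n) = RingHom.ker (τ π n) := by
  have h : J π 0 = (RingHom.ker (τ π n)).comap (proj π n) := by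
    rw [J, ← τ_comp_proj π n, RingHom.comap_ker]
  rw [h, Ideal.map_comap_of_surjective _ (proj_surjective π hsurj n)]

include hsurj in
theorem map_J_succ (n : ℕ) : (J π n).map (proj π (n + 1)) = RingHom.ker (π n) := by
  have h : J π n = (RingHom.ker (π n)).comap (proj π (n + 1)) := by
    rw [J, ← π_comp_proj π n, RingHom.comap_ker]
  rw [h, Ideal.map_comap_of_surjective _ (proj_surjective π hsurj (n + 1))]

include hsurj hadic in
theorem ker_τ_pow (n : ℕ) : (RingHom.ker (τ π (n + 1))) ^ (n + 2) = ⊥ := by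
  have h1 : RingHom.ker (τ π (n + 1)) = (RingHom.ker (τ π (n + 2))).map (π (n + 1)) := by
    rw [τ_succ π (n + 1), ← RingHom.comap_ker, Ideal.map_comap_of_surjective _ (hsurj (n + 1))]
  rw [h1, ← Ideal.map_pow, ← hadic (n + 1)]
  exact (Ideal.map_eq_bot_iff_le_ker _).mpr le_rfl

include hsurj hadic in
theorem J_mul_J_zero_le (n : ℕ) : J π n * J π 0 ≤ J π (n + 1) := by
  have h : (J π n * J π 0).map (proj π (n + 1)) = ⊥ := by
    rw [Ideal.map_mul, map_J_succ π hsurj, map_J_zero π hsurj, hadic n, ← pow_succ]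
    exact ker_τ_pow π hsurj hadic n
  exact (Ideal.map_eq_bot_iff_le_ker _).mp h

include hsurj hadic in
theorem J_mul_pow_le (m k : ℕ) : J π m * (J π 0) ^ k ≤ J π (m + k) := by
  induction k with
  | zero => rw [pow_zero, mul_one, add_zero]
  | succ k ih =>
    rw [pow_succ, ← mul_assoc, ← add_assoc]
    exact (Ideal.mul_mono_left ih).trans (J_mul_J_zero_le π hsurj hadic _)

include hsurj hadic in
theorem J_zero_pow_le (n : ℕ) : (J π 0) ^ (n + 1) ≤ J π n := by
  have := J_mul_pow_le π hsurj hadic 0 n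
  rwa [zero_add, ← pow_succ'] at this

include hsurj hadic in
theorem J_le_sup (n : ℕ) : J π n ≤ (J π 0) ^ (n + 1) ⊔ J π (n + 1) := by
  intro x hx
  have h1 : proj π (n + 1) x ∈ ((J π 0) ^ (n + 1)).map (proj π (n + 1)) := by
    rw [Ideal.map_pow, map_J_zero π hsurj, ← hadic n, RingHom.mem_ker, π_proj]
    exact hx
  obtain ⟨y, hy, hyx⟩ := (Ideal.mem_map_iff_of_surjective _ (proj_surjective π hsurj (n + 1))).mp h1
  have h2 : x - y ∈ J π (n + 1) := by
    rw [J, RingHom.mem_ker, map_sub, hyx, sub_self]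
  have : x = y + (x - y) := by ring
  rw [this]
  exact Ideal.add_mem _ (Ideal.mem_sup_left hy) (Ideal.mem_sup_right h2)

end Adic

section Main
variable (hsurj : ∀ n, Function.Surjective (π n))
  (hadic : ∀ n, RingHom.ker (π n) = (RingHom.ker (τ π (n + 1))) ^ (n + 1))

include hsurj in
theorem exists_fg_ideal (hfg : (RingHom.ker (π 0)).FG) :
    ∃ 𝔞 : Ideal (Lim π), 𝔞.FG ∧ 𝔞 ≤ J π 0 ∧ J π 0 ≤ 𝔞 ⊔ J π 1 := by
  classical
  obtain ⟨S, hS⟩ := hfg
  set ℓ := Function.surjInv (proj_surjective π hsurj 1) with hℓ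
  have hℓ' : ∀ g, proj π 1 (ℓ g) = g := Function.surjInv_eq (proj_surjective π hsurj 1)
  refine ⟨Ideal.span (ℓ '' (S : Set (A 1))), ⟨S.image ℓ, by rw [Finset.coe_image]⟩, ?_, ?_⟩
  · rw [Ideal.span_le]
    rintro _ ⟨g, hg, rfl⟩
    have hg' : g ∈ RingHom.ker (π 0) := by rw [← hS]; exact Ideal.subset_span hg
    change ℓ g ∈ RingHom.ker (proj π 0)
    rw [RingHom.mem_ker, ← π_proj, hℓ']
    exact hg'
  · intro x hx
    have hmap : (Ideal.span (ℓ '' (S : Set (A 1)))).map (proj π 1) = RingHom.ker (π 0) := by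
      rw [Ideal.map_span, Set.image_image, ← hS]
      congr 1
      ext g
      simp only [hℓ', Set.image_id']
    have h1 : proj π 1 x ∈ (Ideal.span (ℓ '' (S : Set (A 1)))).map (proj π 1) := by
      rw [hmap, RingHom.mem_ker, π_proj]
      exact hx
    obtain ⟨y, hy, hyx⟩ := (Ideal.mem_map_iff_of_surjective _ (proj_surjective π hsurj 1)).mp h1
    have h2 : x - y ∈ J π 1 := by
      rw [J, RingHom.mem_ker, map_sub, hyx, sub_self]
    have : x = y + (x - y) := by ring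
    rw [this]
    exact Ideal.add_mem _ (Ideal.mem_sup_left hy) (Ideal.mem_sup_right h2)

variable (𝔞 : Ideal (Lim π)) (h𝔞J : 𝔞 ≤ J π 0) (h𝔞 : J π 0 ≤ 𝔞 ⊔ J π 1)

include hsurj hadic h𝔞J h𝔞 in
theorem J_zero_pow_le_sup (n : ℕ) : (J π 0) ^ n ≤ 𝔞 ^ n ⊔ J π n := by
  induction n with
  | zero => rw [pow_zero, pow_zero]; exact le_sup_left
  | succ n ih =>
    calc (J π 0) ^ (n + 1) = (J π 0) ^ n * J π 0 := pow_succ _ _
      _ ≤ (𝔞 ^ n ⊔ J π n) * (𝔞 ⊔ J π 1) := Ideal.mul_mono ih h𝔞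
      _ ≤ 𝔞 ^ (n + 1) ⊔ J π (n + 1) := by
        rw [Ideal.sup_mul, Ideal.mul_sup, Ideal.mul_sup]
        refine sup_le (sup_le ?_ ?_) (sup_le ?_ ?_)
        · rw [← pow_succ]; exact le_sup_left
        · refine le_sup_of_le_right ?_
          calc 𝔞 ^ n * J π 1 ≤ (J π 0) ^ n * J π 1 :=
                Ideal.mul_mono_left (Ideal.pow_right_mono h𝔞J n)
            _ = J π 1 * (J π 0) ^ n := mul_comm _ _
            _ ≤ J π (1 + n) := J_mul_pow_le π hsurj hadic 1 n
            _ = J π (n + 1) := by rw [add_comm]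
        · refine le_sup_of_le_right ?_
          exact (Ideal.mul_mono_right h𝔞J).trans (J_mul_J_zero_le π hsurj hadic n)
        · refine le_sup_of_le_right ?_
          exact (Ideal.mul_mono_right (J_anti π (Nat.zero_le 1))).trans
            (J_mul_J_zero_le π hsurj hadic n)

include hsurj hadic h𝔞J h𝔞 in
theorem J_le_pow_sup (n : ℕ) : J π n ≤ 𝔞 ^ (n + 1) ⊔ J π (n + 1) :=
  (J_le_sup π hsurj hadic n).trans
    (sup_le (J_zero_pow_le_sup π hsurj hadic 𝔞 h𝔞J h𝔞 (n + 1)) le_sup_right)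

include hsurj hadic h𝔞J in
theorem pow_le_J (n : ℕ) : 𝔞 ^ (n + 1) ≤ J π n :=
  (Ideal.pow_right_mono h𝔞J _).trans (J_zero_pow_le π hsurj hadic n)

/-- the `n`-th component of the retraction -/
noncomputable def retrFun (hle : ∀ n, 𝔞 ^ (n + 1) ≤ RingHom.ker (proj π n)) (n : ℕ) :
    AdicCompletion 𝔞 (Lim π) →+* A n :=
  (Ideal.Quotient.lift (𝔞 ^ (n + 1)) (proj π n)
    (fun _ ha => RingHom.mem_ker.mp (hle n ha))).comp (AdicCompletion.evalₐ 𝔞 (n + 1)).toRingHom

theorem retrFun_mk (hle : ∀ n, 𝔞 ^ (n + 1) ≤ RingHom.ker (proj π n)) (n : ℕ)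
    (c : AdicCompletion.AdicCauchySequence 𝔞 (Lim π)) :
    retrFun π 𝔞 hle n (AdicCompletion.mk 𝔞 (Lim π) c) = proj π n (c.1 (n + 1)) := by
  rw [retrFun, RingHom.comp_apply]
  have : (AdicCompletion.evalₐ 𝔞 (n + 1)).toRingHom (AdicCompletion.mk 𝔞 (Lim π) c) =
      AdicCompletion.evalₐ 𝔞 (n + 1) (AdicCompletion.mk 𝔞 (Lim π) c) := rfl
  rw [this, AdicCompletion.evalₐ_mk, Ideal.Quotient.lift_mk]

theorem retrFun_of (hle : ∀ n, 𝔞 ^ (n + 1) ≤ RingHom.ker (proj π n)) (n : ℕ) (x : Lim π) :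
    retrFun π 𝔞 hle n (AdicCompletion.of 𝔞 (Lim π) x) = proj π n x := by
  rw [retrFun, RingHom.comp_apply]
  have : (AdicCompletion.evalₐ 𝔞 (n + 1)).toRingHom (AdicCompletion.of 𝔞 (Lim π) x) =
      AdicCompletion.evalₐ 𝔞 (n + 1) (AdicCompletion.of 𝔞 (Lim π) x) := rfl
  rw [this, AdicCompletion.evalₐ_of, Ideal.Quotient.lift_mk]

/-- the retraction of `Lim π → AdicCompletion 𝔞 (Lim π)` -/
noncomputable def retr (hle : ∀ n, 𝔞 ^ (n + 1) ≤ RingHom.ker (proj π n)) :
    AdicCompletion 𝔞 (Lim π) →+* Lim π :=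
  RingHom.codRestrict (RingHom.pi (retrFun π 𝔞 hle)) (Lim π) (by
    intro ξ n
    obtain ⟨c, rfl⟩ := AdicCompletion.mk_surjective 𝔞 (Lim π) ξ
    change π n (retrFun π 𝔞 hle (n + 1) (AdicCompletion.mk 𝔞 (Lim π) c)) =
      retrFun π 𝔞 hle n (AdicCompletion.mk 𝔞 (Lim π) c)
    rw [retrFun_mk, retrFun_mk, π_proj]
    have hc := c.2 (Nat.le_succ (n + 1))
    rw [SModEq.sub_mem, smul_eq_mul, Ideal.mul_top] at hc
    have h2 := hle n hc
    rw [RingHom.mem_ker, map_sub, sub_eq_zero] at h2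
    exact h2.symm)

theorem proj_retr (hle : ∀ n, 𝔞 ^ (n + 1) ≤ RingHom.ker (proj π n)) (n : ℕ)
    (ξ : AdicCompletion 𝔞 (Lim π)) :
    proj π n (retr π 𝔞 hle ξ) = retrFun π 𝔞 hle n ξ := rfl

theorem retr_of (hle : ∀ n, 𝔞 ^ (n + 1) ≤ RingHom.ker (proj π n)) (x : Lim π) :
    retr π 𝔞 hle (AdicCompletion.of 𝔞 (Lim π) x) = x := by
  apply ext_proj
  intro n
  rw [proj_retr, retrFun_of]

/-- the limit is `𝔞`-adically complete when `𝔞` is finitely generated and `𝔞^(n+1) ≤ ker (proj n)` -/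
theorem isAdicComplete_of_le (hfg : 𝔞.FG) (hle : ∀ n, 𝔞 ^ (n + 1) ≤ RingHom.ker (proj π n)) :
    IsAdicComplete 𝔞 (Lim π) := by
  have : IsAdicComplete 𝔞 (AdicCompletion 𝔞 (Lim π)) := AdicCompletion.isAdicComplete hfg
  let ρ : AdicCompletion 𝔞 (Lim π) →ₗ[Lim π] Lim π :=
    { toFun := retr π 𝔞 hle
      map_add' := map_add _
      map_smul' := by
        intro r ξ
        rw [Algebra.smul_def, map_mul, AdicCompletion.algebraMap_apply, retr_of]
        rfl }
  exact Groth.Agent.Lib.Helper18Adic.retract_complete 𝔞 (AdicCompletion.of 𝔞 (Lim π)) ρ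
    (fun x => retr_of π 𝔞 hle x)

include hsurj hadic h𝔞J h𝔞 in
/-- the key identity: `ker (proj n) = 𝔞^(n+1)` -/
theorem J_le_pow (hfg : 𝔞.FG) (n : ℕ) : J π n ≤ 𝔞 ^ (n + 1) := by
  have hle : ∀ n, 𝔞 ^ (n + 1) ≤ RingHom.ker (proj π n) := pow_le_J π hsurj hadic 𝔞 h𝔞J
  have hc : IsAdicComplete 𝔞 (Lim π) := isAdicComplete_of_le π 𝔞 hfg hle
  intro x hx
  obtain ⟨ys, hys, hrem⟩ := Groth.Agent.Lib.Helper15.exists_seq_of_step
    (P := fun k (r : Lim π) => r ∈ J π (n + k)) (Q := fun k (y : Lim π) => y ∈ 𝔞 ^ (n + k + 1))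
    (g := id) (by
      intro k r hr
      have := J_le_pow_sup π hsurj hadic 𝔞 h𝔞J h𝔞 (n + k) hr
      obtain ⟨y, hy, z, hz, rfl⟩ := Submodule.mem_sup.mp this
      refine ⟨y, hy, ?_⟩
      have e : y + z - id y = z := by simp
      rw [e]
      exact hz) x (by simpa using hx)
  simp only [id] at hrem
  -- the partial sums form a Cauchy sequence
  set s : ℕ → Lim π := fun k => ∑ i ∈ Finset.range k, ys i with hs
  have hcauchy : ∀ {a b : ℕ}, a ≤ b → s a ≡ s b [SMOD (𝔞 ^ a • ⊤ : Submodule (Lim π) (Lim π))] := by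
    intro a b hab
    rw [SModEq.sub_mem, smul_eq_mul, Ideal.mul_top]
    have : s a - s b = -∑ i ∈ Finset.Ico a b, ys i := by
      rw [hs]
      simp only
      rw [Finset.sum_Ico_eq_sub _ hab]
      ring
    rw [this]
    rw [neg_mem_iff]
    apply Ideal.sum_mem
    intro i hi
    rw [Finset.mem_Ico] at hi
    exact Ideal.pow_le_pow_right (by omega) (hys i)
  obtain ⟨L, hL⟩ := IsPrecomplete.prec (IsAdicComplete.toIsPrecomplete (I := 𝔞) (M := Lim π)) hcauchy
  have hL' : ∀ k, s k - L ∈ 𝔞 ^ k := by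
    intro k
    have := hL k
    rwa [SModEq.sub_mem, smul_eq_mul, Ideal.mul_top] at this
  -- `x = L`
  have hxL : x = L := by
    rw [← sub_eq_zero]
    apply iInf_J π
    intro k
    have h1 : x - s (k + 1) ∈ J π k := J_anti π (by omega) (hrem (k + 1))
    have h2 : s (k + 1) - L ∈ J π k := hle k (hL' (k + 1))
    have : x - L = (x - s (k + 1)) + (s (k + 1) - L) := by ring
    rw [this]
    exact Ideal.add_mem _ h1 h2
  rw [hxL]
  have h3 : s (n + 1) ∈ 𝔞 ^ (n + 1) := by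
    apply Ideal.sum_mem
    intro i _
    exact Ideal.pow_le_pow_right (by omega) (hys i)
  have : L = s (n + 1) - (s (n + 1) - L) := by ring
  rw [this]
  exact Ideal.sub_mem _ h3 (hL' (n + 1))

end Main

section Conclusion
variable (hsurj : ∀ n, Function.Surjective (π n))
  (hadic : ∀ n, RingHom.ker (π n) = (RingHom.ker (τ π (n + 1))) ^ (n + 1))
  (hfg : (RingHom.ker (π 0)).FG)

include hsurj hadic hfg in
theorem exists_ideal_eq : ∃ 𝔞 : Ideal (Lim π), 𝔞.FG ∧ 𝔞 = J π 0 ∧ ∀ n, J π n = 𝔞 ^ (n + 1) := by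
  obtain ⟨𝔞, h𝔞fg, h𝔞J, h𝔞⟩ := exists_fg_ideal π hsurj hfg
  have h1 : ∀ n, J π n = 𝔞 ^ (n + 1) := fun n =>
    le_antisymm (J_le_pow π hsurj hadic 𝔞 h𝔞J h𝔞 h𝔞fg n) (pow_le_J π hsurj hadic 𝔞 h𝔞J n)
  refine ⟨𝔞, h𝔞fg, ?_, h1⟩
  rw [h1 0, zero_add, pow_one]

include hsurj hadic hfg in
theorem J_eq_pow (n : ℕ) : J π n = (J π 0) ^ (n + 1) := by
  obtain ⟨𝔞, -, h0, h1⟩ := exists_ideal_eq π hsurj hadic hfg
  rw [← h0, h1 n]

include hsurj hadic hfg in
theorem J_zero_fg : (J π 0).FG := by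
  obtain ⟨𝔞, hfg', h0, -⟩ := exists_ideal_eq π hsurj hadic hfg
  rwa [← h0]

include hsurj hadic hfg in
theorem isAdicComplete_J : IsAdicComplete (J π 0) (Lim π) := by
  obtain ⟨𝔞, hfg', h0, h1⟩ := exists_ideal_eq π hsurj hadic hfg
  rw [← h0]
  exact isAdicComplete_of_le π 𝔞 hfg' (fun n => (h1 n).ge)

include hsurj hadic hfg in
theorem isNoetherianRing_lim [IsNoetherianRing (A 0)] : IsNoetherianRing (Lim π) := by
  have hc := isAdicComplete_J π hsurj hadic hfg
  have e : (Lim π ⧸ J π 0) ≃+* A 0 :=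
    RingHom.quotientKerEquivOfSurjective (f := proj π 0) (proj_surjective π hsurj 0)
  have : IsNoetherianRing (Lim π ⧸ J π 0) := isNoetherianRing_of_ringEquiv (A 0) e.symm
  exact Groth.Agent.Lib.Helper19.isNoetherianRing_of_isAdicComplete_of_fg (J π 0)
    (J_zero_fg π hsurj hadic hfg)

/-- `Lim π ⧸ J^(n+1) ≃ A n` -/
noncomputable def quotEquiv (n : ℕ) : (Lim π ⧸ (J π 0) ^ (n + 1)) ≃+* A n :=
  (Ideal.quotEquivOfEq (J_eq_pow π hsurj hadic hfg n).symm).trans
    (RingHom.quotientKerEquivOfSurjective (f := proj π n) (proj_surjective π hsurj n))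

theorem quotEquiv_mk (n : ℕ) (x : Lim π) :
    quotEquiv π hsurj hadic hfg n (Ideal.Quotient.mk _ x) = proj π n x := rfl

theorem π_quotEquiv (n : ℕ) (y : Lim π ⧸ (J π 0) ^ (n + 1 + 1)) :
    π n (quotEquiv π hsurj hadic hfg (n + 1) y) =
      quotEquiv π hsurj hadic hfg n
        (Ideal.Quotient.factor (Ideal.pow_le_pow_right (Nat.le_succ (n + 1))) y) := by
  obtain ⟨x, rfl⟩ := Ideal.Quotient.mk_surjective y
  rw [Ideal.Quotient.factor_mk, quotEquiv_mk, quotEquiv_mk, π_proj]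

end Conclusion

end Groth.Agent.Lib.Seat17.InvLimAdic
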