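import Groth.Agent.Lib.Helper19ComplNoeth2

/-!
# Nilpotent thickenings of Noetherian rings (seat 17)

* `isAdicComplete_of_pow_eq_bot`: a ring is complete and separated for a nilpotent ideal.
* `isNoetherianRing_of_thickening`: if `I ^ (n + 2) = ⊥`, `R ⧸ I ^ (n + 1)` is Noetherian (given through a
  surjection `φ` with kernel `I ^ (n + 1)`) and, when `n = 0`, `I` is finitely generated, then `R` is Noetherian.
-/

set_option autoImplicit false
universe u

namespace Groth.Agent.Lib.Seat17.NilpNoeth

variable {R : Type u} [CommRing R]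

theorem isAdicComplete_of_pow_eq_bot (K : Ideal R) (m : ℕ) (hK : K ^ m = ⊥) : IsAdicComplete K R where
  haus' x hx := by
    have h := hx m
    rw [hK, SModEq.zero] at h
    simpa using h
  prec' f hf := by
    refine ⟨f m, fun n => ?_⟩
    by_cases h : n ≤ m
    · exact hf h
    · have h' : m ≤ n := by omega
      have h2 := hf h'
      rw [hK] at h2
      have h3 : f m = f n := by
        rw [SModEq, Submodule.Quotient.eq] at h2
        simp only [Submodule.bot_smul, Submodule.mem_bot] at h2
        exact sub_eq_zero.mp h2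
      rw [h3]

/-- If `I ≤ J ⊔ I ^ 2` then `I ≤ J ⊔ I ^ k` for all `k ≥ 1`. -/
theorem le_sup_pow_of_le_sup_sq (I J : Ideal R) (h : I ≤ J ⊔ I ^ 2) (k : ℕ) : I ≤ J ⊔ I ^ (k + 1) := by
  induction k with
  | zero => rw [zero_add, pow_one]; exact le_sup_right
  | succ k ih =>
    have h1 : I ^ (k + 1) ≤ J ⊔ I ^ (k + 2) := by
      calc I ^ (k + 1) = I ^ k * I := pow_succ I k
        _ ≤ I ^ k * (J ⊔ I ^ 2) := Ideal.mul_mono_right h
        _ = I ^ k * J ⊔ I ^ k * I ^ 2 := Ideal.mul_sup _ _ _
        _ ≤ J ⊔ I ^ (k + 2) := by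
          apply sup_le_sup
          · exact (Ideal.mul_le_right : I ^ k * J ≤ J)
          · rw [← pow_add]
    calc I ≤ J ⊔ I ^ (k + 1) := ih
      _ ≤ J ⊔ (J ⊔ I ^ (k + 2)) := sup_le_sup_left h1 _
      _ = J ⊔ I ^ (k + 1 + 1) := by rw [← sup_assoc, sup_idem]

/-- A ring which is a thickening of order `n + 1` of a Noetherian ring along a nilpotent ideal is Noetherian. -/
theorem isNoetherianRing_of_thickening {R' : Type u} [CommRing R'] (I : Ideal R) (n : ℕ)
    (hI : I ^ (n + 2) = ⊥) (φ : R →+* R') (hφ : Function.Surjective φ)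
    (hker : RingHom.ker φ = I ^ (n + 1)) [IsNoetherianRing R'] (h0 : n = 0 → I.FG) :
    IsNoetherianRing R := by
  classical
  -- `I` is finitely generated
  have hfg : I.FG := by
    by_cases hn : n = 0
    · exact h0 hn
    · have h1 : (I.map φ).FG := IsNoetherian.noetherian _
      obtain ⟨s, hs⟩ := h1
      -- lift the generators
      have hsub : (s : Set R') ⊆ φ '' (I : Set R) := by
        intro y hy
        have hy' : y ∈ I.map φ := hs ▸ Ideal.subset_span hy
        rw [Ideal.mem_map_iff_of_surjective φ hφ] at hy'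
        obtain ⟨x, hx, rfl⟩ := hy'
        exact ⟨x, hx, rfl⟩
      obtain ⟨t, htI, hts⟩ := Finset.subset_set_image_iff.mp hsub
      set J : Ideal R := Ideal.span (t : Set R) with hJ
      have hJI : J ≤ I := Ideal.span_le.mpr htI
      have hmapJ : J.map φ = I.map φ := by
        rw [hJ, Ideal.map_span, ← hs]
        congr 1
        rw [← hts]
        simp
      have hle : I ≤ J ⊔ I ^ 2 := by
        intro x hx
        have hx' : φ x ∈ J.map φ := hmapJ ▸ Ideal.mem_map_of_mem φ hx
        rw [Ideal.mem_map_iff_of_surjective φ hφ] at hx'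
        obtain ⟨y, hy, hyx⟩ := hx'
        have hker' : x - y ∈ RingHom.ker φ := by
          rw [RingHom.mem_ker, map_sub, hyx, sub_self]
        rw [hker] at hker'
        have h2 : I ^ (n + 1) ≤ I ^ 2 := Ideal.pow_le_pow_right (by omega)
        have : x = y + (x - y) := by ring
        rw [this]
        exact Ideal.add_mem _ (Ideal.mem_sup_left hy) (Ideal.mem_sup_right (h2 hker'))
      have h3 := le_sup_pow_of_le_sup_sq I J hle (n + 1)
      rw [hI, sup_bot_eq] at h3
      have : I = J := le_antisymm h3 hJI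
      rw [this]
      exact ⟨t, rfl⟩
  -- `R` is `I`-adically complete and `R ⧸ I` is Noetherian
  have : IsAdicComplete I R := isAdicComplete_of_pow_eq_bot I (n + 2) hI
  have hkerle : RingHom.ker φ ≤ I := by
    rw [hker]; exact Ideal.pow_le_self (by omega)
  have : IsNoetherianRing (R ⧸ I) := by
    let ψ : R' →+* R ⧸ I := RingHom.liftOfSurjective φ hφ ⟨Ideal.Quotient.mk I, by
      intro x hx
      rw [RingHom.mem_ker, Ideal.Quotient.eq_zero_iff_mem]
      exact hkerle hx⟩
    have hψ : Function.Surjective ψ := by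
      intro y
      obtain ⟨x, rfl⟩ := Ideal.Quotient.mk_surjective y
      exact ⟨φ x, RingHom.liftOfRightInverse_comp_apply _ _ _ _ x⟩
    exact isNoetherianRing_of_surjective R' (R ⧸ I) ψ hψ
  exact Groth.Agent.Lib.Helper19.isNoetherianRing_of_isAdicComplete_of_fg I hfg

end Groth.Agent.Lib.Seat17.NilpNoeth
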