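import Groth.Prelude.Def_FSch3
import Groth.Agent.Lib.Seat17NilpNoeth
import Mathlib.AlgebraicGeometry.Noetherian
import Mathlib.AlgebraicGeometry.Morphisms.ClosedImmersion

/-!
# Adic systems of thickenings: nilpotence of the ideal of level 0, Noetherian levels (seat 17)
-/

set_option autoImplicit false
universe u

namespace Groth.Agent.Lib.Seat17.Thicken

open CategoryTheory AlgebraicGeometry

/-- Ring-level computation behind `ker_pow_eq_bot_of_map`. -/
theorem ideal_pow_eq_bot_of_comap {R' R : Type u} [CommRing R'] [CommRing R] (ψ : R' →+* R)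
    (hψ : Function.Surjective ψ) (I : Ideal R) (m : ℕ) (h : RingHom.ker ψ = (I.comap ψ) ^ m) :
    I ^ m = ⊥ := by
  have h1 : I = (I.comap ψ).map ψ := (Ideal.map_comap_of_surjective ψ hψ I).symm
  rw [h1, ← Ideal.map_pow, ← h]
  exact (Ideal.map_eq_bot_iff_le_ker ψ).mpr le_rfl

variable {Z W : Scheme.{u}}

/-- If `i : Z ⟶ W` is a closed immersion whose kernel is the `m`-th power of the image (under `i`) of an ideal
sheaf `𝓘` of `Z`, then `𝓘 ^ m = ⊥`. -/
theorem pow_eq_bot_of_ker_eq_map_pow (i : Z ⟶ W) [IsClosedImmersion i] (𝓘 : Z.IdealSheafData) (m : ℕ)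
    (h : i.ker = (𝓘.map i) ^ m) : 𝓘 ^ m = ⊥ := by
  apply Scheme.IdealSheafData.ext_of_iSup_eq_top
    (fun U' : W.affineOpens => (⟨i ⁻¹ᵁ U'.1, U'.2.preimage i⟩ : Z.affineOpens))
  · have h1 : ⨆ U' : W.affineOpens, i ⁻¹ᵁ U'.1 = i ⁻¹ᵁ (⨆ U' : W.affineOpens, U'.1) := by
      rw [Scheme.Hom.preimage_iSup]
    change ⨆ U' : W.affineOpens, i ⁻¹ᵁ U'.1 = ⊤
    rw [h1, iSup_affineOpens_eq_top]
    rfl
  · intro U'
    have hsurj : Function.Surjective (i.app U'.1).hom := i.app_surjective U'.1 U'.2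
    have hk : RingHom.ker (i.app U'.1).hom =
        ((𝓘.ideal ⟨i ⁻¹ᵁ U'.1, U'.2.preimage i⟩).comap (i.app U'.1).hom) ^ m := by
      rw [← Scheme.Hom.ker_apply, h, ← Scheme.IdealSheafData.ideal_map_of_isAffineHom]
      rfl
    have := ideal_pow_eq_bot_of_comap (i.app U'.1).hom hsurj _ m hk
    simpa using this


/-- A scheme `Z` containing a locally Noetherian closed subscheme `X` cut out by `𝓘 ^ (n + 1)`, where
`𝓘 ^ (n + 2) = ⊥` (and `𝓘` of finite type if `n = 0`), is locally Noetherian. -/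
theorem isLocallyNoetherian_of_thickening {X : Scheme.{u}} (i : X ⟶ Z) [IsClosedImmersion i]
    (𝓘 : Z.IdealSheafData) (n : ℕ) (hker : i.ker = 𝓘 ^ (n + 1)) (hnil : 𝓘 ^ (n + 2) = ⊥)
    [IsLocallyNoetherian X] (h0 : n = 0 → FSch.IdealFT 𝓘) : IsLocallyNoetherian Z := by
  constructor
  intro U
  have hsurj : Function.Surjective (i.app U.1).hom := i.app_surjective U.1 U.2
  have hk : RingHom.ker (i.app U.1).hom = (𝓘.ideal U) ^ (n + 1) := by
    rw [← Scheme.Hom.ker_apply, hker]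
    rfl
  have hn : (𝓘.ideal U) ^ (n + 2) = ⊥ := by
    have := congrArg (fun 𝓙 : Z.IdealSheafData => 𝓙.ideal U) hnil
    simpa using this
  have : IsNoetherianRing Γ(X, i ⁻¹ᵁ U.1) :=
    IsLocallyNoetherian.component_noetherian (⟨i ⁻¹ᵁ U.1, U.2.preimage i⟩ : X.affineOpens)
  exact Groth.Agent.Lib.Seat17.NilpNoeth.isNoetherianRing_of_thickening (𝓘.ideal U) n hn
    (i.app U.1).hom hsurj hk (fun h => h0 h U)

/-- In a formal adic system, the ideal of level `0` in level `n + 1` has vanishing `(n + 2)`-nd power. -/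
theorem ker_toX_pow_eq_bot (𝔛 : FSch.Sys.{u}) (hF : 𝔛.IsFormal) (hA : 𝔛.IsAdic) (n : ℕ) :
    (𝔛.toX (n + 1)).ker ^ (n + 2) = ⊥ := by
  have : IsClosedImmersion (𝔛.ι (n + 1)) := (hF (n + 1)).1
  apply pow_eq_bot_of_ker_eq_map_pow (𝔛.ι (n + 1))
  rw [Scheme.IdealSheafData.map_ker]
  exact hA (n + 1)

/-- Levels of a formal adic system with locally Noetherian level `0` and finite type first ideal are
locally Noetherian. -/
theorem isLocallyNoetherian_level (𝔛 : FSch.Sys.{u}) (hF : 𝔛.IsFormal) (hA : 𝔛.IsAdic)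
    [IsLocallyNoetherian (𝔛.X 0)] (hft : FSch.IdealFT (𝔛.ι 0).ker) (n : ℕ) :
    IsLocallyNoetherian (𝔛.X n) := by
  induction n with
  | zero => infer_instance
  | succ n ih =>
    have : IsClosedImmersion (𝔛.ι n) := (hF n).1
    refine isLocallyNoetherian_of_thickening (𝔛.ι n) (𝔛.toX (n + 1)).ker n (hA n)
      (ker_toX_pow_eq_bot 𝔛 hF hA n) ?_
    intro hn
    subst hn
    have : 𝔛.toX (0 + 1) = 𝔛.ι 0 := by
      change 𝟙 _ ≫ 𝔛.ι 0 = 𝔛.ι 0
      rw [Category.id_comp]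
    rw [this]
    exact hft

end Groth.Agent.Lib.Seat17.Thicken
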