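import Groth.Prelude.Def_FSch3
import Groth.Agent.Lib.Seat17Thicken
import Groth.Agent.Lib.Seat17AdicBC
import Groth.Agent.Lib.Seat17InvLimAdic
import Groth.Agent.Lib.Helper22ThickAffine

/-!
# Affine adic formal systems are formal spectra (seat 17)
-/

set_option autoImplicit false
universe u

namespace Groth.Agent.Lib.Seat17.AffineSys

open CategoryTheory AlgebraicGeometry Groth.Agent.Lib.Seat17.InvLimAdic

/-- an isomorphism of systems from compatible levelwise isomorphisms -/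
noncomputable def isoOfLevelIso {𝔛 𝔜 : FSch.Sys.{u}} (e : ∀ n, 𝔛.X n ≅ 𝔜.X n)
    (h : ∀ n, (e n).hom ≫ 𝔜.ι n = 𝔛.ι n ≫ (e (n + 1)).hom) : 𝔛 ≅ 𝔜 where
  hom := ⟨fun n => (e n).hom, h⟩
  inv := ⟨fun n => (e n).inv, fun n => by
    rw [Iso.inv_comp_eq, ← Category.assoc, h n, Category.assoc, Iso.hom_inv_id, Category.comp_id]⟩
  hom_inv_id := FSch.Hom.ext (funext fun n => (e n).hom_inv_id)
  inv_hom_id := FSch.Hom.ext (funext fun n => (e n).inv_hom_id)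

variable (𝔛 : FSch.Sys.{u})

theorem isAffine_level (hF : 𝔛.IsFormal) [IsAffine (𝔛.X 0)] (n : ℕ) : IsAffine (𝔛.X n) := by
  induction n with
  | zero => infer_instance
  | succ n ih =>
    have : IsClosedImmersion (𝔛.ι n) := (hF n).1
    exact Groth.Agent.Lib.Helper22.ThickAffine.isAffine_of_thickening (𝔛.ι n) (hF n).2

/-- the rings of global sections of the levels -/
abbrev AΓ (n : ℕ) : Type u := Γ(𝔛.X n, ⊤)

/-- the transition maps on global sections -/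
noncomputable def πΓ (n : ℕ) : AΓ 𝔛 (n + 1) →+* AΓ 𝔛 n := (𝔛.ι n).appTop.hom

theorem τ_eq (n : ℕ) : τ (πΓ 𝔛) n = (𝔛.toX n).appTop.hom := by
  induction n with
  | zero =>
    change RingHom.id _ = (𝟙 (𝔛.X 0) : 𝔛.X 0 ⟶ 𝔛.X 0).appTop.hom
    rw [Scheme.Hom.id_appTop]
    rfl
  | succ n ih =>
    rw [τ_succ, ih]
    change _ = (𝔛.toX n ≫ 𝔛.ι n).appTop.hom
    rw [Scheme.Hom.comp_appTop]
    rfl

theorem πΓ_surjective (hF : 𝔛.IsFormal) [IsAffine (𝔛.X 0)] (n : ℕ) :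
    Function.Surjective (πΓ 𝔛 n) := by
  have : IsClosedImmersion (𝔛.ι n) := (hF n).1
  have : IsAffine (𝔛.X (n + 1)) := isAffine_level 𝔛 hF (n + 1)
  exact (𝔛.ι n).app_surjective ⊤ (isAffineOpen_top _)

theorem ker_πΓ (hF : 𝔛.IsFormal) (hA : 𝔛.IsAdic) [IsAffine (𝔛.X 0)] (n : ℕ) :
    RingHom.ker (πΓ 𝔛 n) = (RingHom.ker (τ (πΓ 𝔛) (n + 1))) ^ (n + 1) := by
  have : IsAffine (𝔛.X (n + 1)) := isAffine_level 𝔛 hF (n + 1)
  have : IsClosedImmersion (𝔛.ι n) := (hF n).1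
  have : IsClosedImmersion (𝔛.toX (n + 1)) :=
    Groth.Agent.Lib.Seat17.AdicBC.isClosedImmersion_toX hF (n + 1)
  rw [τ_eq]
  have h1 := Scheme.Hom.ker_apply (𝔛.ι n) ⟨⊤, isAffineOpen_top (𝔛.X (n + 1))⟩
  have h2 := Scheme.Hom.ker_apply (𝔛.toX (n + 1)) ⟨⊤, isAffineOpen_top (𝔛.X (n + 1))⟩
  change RingHom.ker ((𝔛.ι n).app ⊤).hom = (RingHom.ker ((𝔛.toX (n + 1)).app ⊤).hom) ^ (n + 1)
  rw [← h1, ← h2, hA n]
  rfl

theorem ker_πΓ_zero_fg [IsAffine (𝔛.X 0)] (hF : 𝔛.IsFormal) (hft : FSch.IdealFT (𝔛.ι 0).ker) :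
    (RingHom.ker (πΓ 𝔛 0)).FG := by
  have : IsAffine (𝔛.X (0 + 1)) := isAffine_level 𝔛 hF (0 + 1)
  have : IsClosedImmersion (𝔛.ι 0) := (hF 0).1
  have h1 := Scheme.Hom.ker_apply (𝔛.ι 0) ⟨⊤, isAffineOpen_top (𝔛.X (0 + 1))⟩
  have h2 := hft ⟨⊤, isAffineOpen_top (𝔛.X (0 + 1))⟩
  rw [h1] at h2
  exact h2

/-- the ring isomorphism `Lim ⧸ J^(n+1) ≅ Γ(X_n)` in `CommRingCat` -/
noncomputable def levelRingIso (hsurj : ∀ n, Function.Surjective (πΓ 𝔛 n))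
    (hadic : ∀ n, RingHom.ker (πΓ 𝔛 n) = (RingHom.ker (τ (πΓ 𝔛) (n + 1))) ^ (n + 1))
    (hfg : (RingHom.ker (πΓ 𝔛 0)).FG) (n : ℕ) :
    CommRingCat.of (Lim (πΓ 𝔛) ⧸ (J (πΓ 𝔛) 0) ^ (n + 1)) ≅ Γ(𝔛.X n, ⊤) :=
  (quotEquiv (πΓ 𝔛) hsurj hadic hfg n).toCommRingCatIso

theorem levelRingIso_comm (hsurj : ∀ n, Function.Surjective (πΓ 𝔛 n))
    (hadic : ∀ n, RingHom.ker (πΓ 𝔛 n) = (RingHom.ker (τ (πΓ 𝔛) (n + 1))) ^ (n + 1))
    (hfg : (RingHom.ker (πΓ 𝔛 0)).FG) (n : ℕ) :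
    CommRingCat.ofHom (Ideal.Quotient.factor
        (Ideal.pow_le_pow_right (I := J (πΓ 𝔛) 0) (Nat.le_succ (n + 1)))) ≫
      (levelRingIso 𝔛 hsurj hadic hfg n).hom =
    (levelRingIso 𝔛 hsurj hadic hfg (n + 1)).hom ≫ (𝔛.ι n).appTop := by
  ext y
  exact (π_quotEquiv (πΓ 𝔛) hsurj hadic hfg n y).symm

/-- the levelwise isomorphisms -/
noncomputable def levelIso (hsurj : ∀ n, Function.Surjective (πΓ 𝔛 n))
    (hadic : ∀ n, RingHom.ker (πΓ 𝔛 n) = (RingHom.ker (τ (πΓ 𝔛) (n + 1))) ^ (n + 1))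
    (hfg : (RingHom.ker (πΓ 𝔛 0)).FG) (n : ℕ) [IsAffine (𝔛.X n)] :
    𝔛.X n ≅ (FSch.spf (Lim (πΓ 𝔛)) (J (πΓ 𝔛) 0)).X n :=
  (𝔛.X n).isoSpec ≪≫ Scheme.Spec.mapIso (levelRingIso 𝔛 hsurj hadic hfg n).op

theorem levelIso_hom (hsurj : ∀ n, Function.Surjective (πΓ 𝔛 n))
    (hadic : ∀ n, RingHom.ker (πΓ 𝔛 n) = (RingHom.ker (τ (πΓ 𝔛) (n + 1))) ^ (n + 1))
    (hfg : (RingHom.ker (πΓ 𝔛 0)).FG) (n : ℕ) [IsAffine (𝔛.X n)] :
    (levelIso 𝔛 hsurj hadic hfg n).hom =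
      (𝔛.X n).isoSpec.hom ≫ Spec.map (levelRingIso 𝔛 hsurj hadic hfg n).hom := rfl

theorem levelIso_comm (hsurj : ∀ n, Function.Surjective (πΓ 𝔛 n))
    (hadic : ∀ n, RingHom.ker (πΓ 𝔛 n) = (RingHom.ker (τ (πΓ 𝔛) (n + 1))) ^ (n + 1))
    (hfg : (RingHom.ker (πΓ 𝔛 0)).FG) (n : ℕ) [IsAffine (𝔛.X n)] [IsAffine (𝔛.X (n + 1))] :
    ((𝔛.X n).isoSpec.hom ≫ Spec.map (levelRingIso 𝔛 hsurj hadic hfg n).hom) ≫
        Spec.map (CommRingCat.ofHom (Ideal.Quotient.factor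
          (Ideal.pow_le_pow_right (I := J (πΓ 𝔛) 0) (Nat.le_succ (n + 1))))) =
      𝔛.ι n ≫ ((𝔛.X (n + 1)).isoSpec.hom ≫
        Spec.map (levelRingIso 𝔛 hsurj hadic hfg (n + 1)).hom) := by
  rw [Category.assoc, ← Spec.map_comp, ← Scheme.isoSpec_hom_naturality_assoc, ← Spec.map_comp,
    levelRingIso_comm]

/-- the main theorem: an affine adic formal system with Noetherian level `0` and first ideal of finite
type is the formal spectrum of a complete Noetherian ring. -/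
theorem exists_iso_spf (hF : 𝔛.IsFormal) (hA : 𝔛.IsAdic)
    [IsAffine (𝔛.X 0)] [IsLocallyNoetherian (𝔛.X 0)] (hft : FSch.IdealFT (𝔛.ι 0).ker) :
    ∃ (A : Type u) (_ : CommRing A) (J : Ideal A),
      IsNoetherianRing A ∧ IsAdicComplete J A ∧ Nonempty (𝔛 ≅ FSch.spf A J) := by
  have hsurj := πΓ_surjective 𝔛 hF
  have hadic := ker_πΓ 𝔛 hF hA
  have hfg := ker_πΓ_zero_fg 𝔛 hF hft
  have hN : IsNoetherianRing (AΓ 𝔛 0) :=
    IsLocallyNoetherian.component_noetherian (⟨⊤, isAffineOpen_top (𝔛.X 0)⟩ : (𝔛.X 0).affineOpens)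
  refine ⟨Lim (πΓ 𝔛), inferInstance, J (πΓ 𝔛) 0, isNoetherianRing_lim (πΓ 𝔛) hsurj hadic hfg,
    isAdicComplete_J (πΓ 𝔛) hsurj hadic hfg, ⟨?_⟩⟩
  have haff : ∀ n, IsAffine (𝔛.X n) := isAffine_level 𝔛 hF
  refine isoOfLevelIso (fun n => levelIso 𝔛 hsurj hadic hfg n) ?_
  intro n
  exact levelIso_comm 𝔛 hsurj hadic hfg n

end Groth.Agent.Lib.Seat17.AffineSys
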