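import Groth.Agent.Lib.Seat17AdicBC

/-!
# The completion along an ideal sheaf is a locally Noetherian adic formal system (seat 17)
-/

set_option autoImplicit false
universe u

namespace Groth.Agent.Lib.Seat17.ComplAlong

open CategoryTheory CategoryTheory.Limits AlgebraicGeometry

variable {X : Scheme.{u}}

instance isClosedImmersion_inclusion {I J : X.IdealSheafData} (h : I ≤ J) :
    IsClosedImmersion (Scheme.IdealSheafData.inclusion h) := by
  have : IsClosedImmersion (Scheme.IdealSheafData.inclusion h ≫ I.subschemeι) := by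
    rw [Scheme.IdealSheafData.inclusion_subschemeι]; infer_instance
  exact IsClosedImmersion.of_comp_isClosedImmersion (Scheme.IdealSheafData.inclusion h) I.subschemeι

/-- The square expressing `V(J) = V(I) ×_X V(J)` for `I ≤ J`. -/
theorem isPullback_inclusion {I J : X.IdealSheafData} (h : I ≤ J) :
    IsPullback (Scheme.IdealSheafData.inclusion h) (𝟙 J.subscheme) I.subschemeι J.subschemeι := by
  have w : Scheme.IdealSheafData.inclusion h ≫ I.subschemeι = 𝟙 J.subscheme ≫ J.subschemeι := by
    rw [Scheme.IdealSheafData.inclusion_subschemeι, Category.id_comp]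
  refine ⟨⟨w⟩, ⟨PullbackCone.IsLimit.mk w (fun s => s.snd) ?_ ?_ ?_⟩⟩
  · intro s
    rw [← cancel_mono I.subschemeι, Category.assoc, Scheme.IdealSheafData.inclusion_subschemeι]
    exact s.condition.symm
  · intro s
    exact Category.comp_id _
  · intro s m _ h2
    rw [← h2, Category.comp_id]

theorem ker_inclusion {I J : X.IdealSheafData} (h : I ≤ J) :
    (Scheme.IdealSheafData.inclusion h).ker = J.comap I.subschemeι := by
  rw [AdicBC.ker_eq_comap_of_isPullback (isPullback_inclusion h), Scheme.IdealSheafData.ker_subschemeι]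

theorem surjective_inclusion {I J : X.IdealSheafData} (h : I ≤ J) (hs : I.support = J.support) :
    Function.Surjective (Scheme.IdealSheafData.inclusion h).base := by
  intro z
  have hz : I.subschemeι z ∈ Set.range J.subschemeι := by
    rw [Scheme.IdealSheafData.range_subschemeι, ← hs, ← Scheme.IdealSheafData.range_subschemeι]
    exact ⟨z, rfl⟩
  obtain ⟨y, hy⟩ := hz
  refine ⟨y, ?_⟩
  apply I.subschemeι.isClosedEmbedding.injective
  rw [← hy, ← Scheme.IdealSheafData.inclusion_subschemeι h]
  rfl

variable (X) (𝓘 : X.IdealSheafData)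

theorem toX_completionAlong (n : ℕ) :
    (FSch.completionAlong X 𝓘).toX n =
      Scheme.IdealSheafData.inclusion (pow_le_pow_of_le_one bot_le le_top (Nat.succ_le_succ (Nat.zero_le n)) :
        𝓘 ^ (n + 1) ≤ 𝓘 ^ (0 + 1)) := by
  induction n with
  | zero =>
    change 𝟙 _ = _
    exact (Scheme.IdealSheafData.inclusion_id _).symm
  | succ n ih =>
    change (FSch.completionAlong X 𝓘).toX n ≫ Scheme.IdealSheafData.inclusion _ = _
    rw [ih]
    exact Scheme.IdealSheafData.inclusion_comp _ _

theorem isFormal_completionAlong : (FSch.completionAlong X 𝓘).IsFormal := by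
  intro n
  refine ⟨isClosedImmersion_inclusion _, surjective_inclusion _ ?_⟩
  rw [Scheme.IdealSheafData.support_pow_succ, Scheme.IdealSheafData.support_pow_succ]

theorem isAdic_completionAlong : (FSch.completionAlong X 𝓘).IsAdic := by
  intro n
  rw [toX_completionAlong]
  change (Scheme.IdealSheafData.inclusion _).ker = (Scheme.IdealSheafData.inclusion _).ker ^ (n + 1)
  rw [ker_inclusion, ker_inclusion, ← ComapPow.comap_pow, zero_add, pow_one]

theorem isLocNoethFormal_completionAlong [IsLocallyNoetherian X] :
    (FSch.completionAlong X 𝓘).IsLocNoethFormal := by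
  refine ⟨isFormal_completionAlong X 𝓘, isAdic_completionAlong X 𝓘, fun n => ?_⟩
  have h0 : IsLocallyNoetherian (𝓘 ^ (n + 1)).subscheme :=
    LocallyOfFiniteType.isLocallyNoetherian (𝓘 ^ (n + 1)).subschemeι
  exact h0

end Groth.Agent.Lib.Seat17.ComplAlong
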