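import Mathlib

/-!
# Flatness of inverse limits `lim A/I^{n+1}` and of concrete filtered colimits (seat 17)
-/

set_option autoImplicit false
universe u v

namespace Groth.Agent.Lib.Seat17.FlatLim

section invLim

variable {A : Type u} [CommRing A] [IsNoetherianRing A] (I : Ideal A)
  {B : Type u} [CommRing B] {C : ℕ → Type u} [∀ n, CommRing (C n)]
  (φ : A →+* B) (π : ∀ n, B →+* C n) (τ : ∀ n, C (n + 1) →+* C n)

/-- A ring `B` over a Noetherian ring `A` which is the inverse limit of quotients `A/I^{n+1}`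
(as a concrete limit: projections `π n` jointly injective, compatible families lift) is flat. -/
theorem flat_of_invLim
    (hπ : ∀ (n : ℕ) (b : B), τ n (π (n + 1) b) = π n b)
    (hs : ∀ n, Function.Surjective ((π n).comp φ))
    (hk : ∀ n, RingHom.ker ((π n).comp φ) = I ^ (n + 1))
    (hinj : ∀ b : B, (∀ n, π n b = 0) → b = 0)
    (hlift : ∀ c : ∀ n, C n, (∀ n, τ n (c (n + 1)) = c n) → ∃ b : B, ∀ n, π n b = c n) :
    φ.Flat := by
  have hle : ∀ n, ∀ a ∈ (I ^ (n + 1) • ⊤ : Ideal A), ((π n).comp φ) a = 0 := by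
    intro n a ha
    have : a ∈ RingHom.ker ((π n).comp φ) := by
      rw [hk n]
      simpa using ha
    exact this
  obtain ⟨e, he⟩ : ∃ e : ∀ n, A ⧸ (I ^ (n + 1) • ⊤ : Ideal A) →+* C n,
      ∀ n a, e n (Ideal.Quotient.mk _ a) = π n (φ a) :=
    ⟨fun n => Ideal.Quotient.lift _ ((π n).comp φ) (hle n), fun n a => rfl⟩
  have heinj : ∀ n, Function.Injective (e n) := by
    intro n
    rw [injective_iff_map_eq_zero]
    intro q hq
    obtain ⟨a, rfl⟩ := Ideal.Quotient.mk_surjective q
    rw [he] at hq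
    have : a ∈ RingHom.ker ((π n).comp φ) := hq
    rw [hk n] at this
    rw [Ideal.Quotient.eq_zero_iff_mem]
    simpa using this
  have hcompat : ∀ (x : AdicCompletion I A) (n : ℕ),
      τ n (e (n + 1) (x.val (n + 2))) = e n (x.val (n + 1)) := by
    intro x n
    have h1 := x.2 (Nat.le_succ (n + 1))
    obtain ⟨a, ha⟩ := Ideal.Quotient.mk_surjective (x.val (n + 2))
    rw [← h1, ← ha]
    have : AdicCompletion.transitionMap I A (Nat.le_succ (n + 1))
        (Ideal.Quotient.mk (I ^ (n + 2) • ⊤ : Ideal A) a) =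
        Ideal.Quotient.mk (I ^ (n + 1) • ⊤ : Ideal A) a := rfl
    rw [this, he, he, hπ]
  choose Φ hΦ using fun x : AdicCompletion I A =>
    hlift (fun n => e n (x.val (n + 1))) (hcompat x)
  let _ : Algebra A B := φ.toAlgebra
  change Module.Flat A B
  have hadd : ∀ x y, Φ (x + y) = Φ x + Φ y := by
    intro x y
    refine sub_eq_zero.mp (hinj _ fun n => ?_)
    rw [map_sub, map_add, hΦ, hΦ, hΦ, AdicCompletion.val_add_apply, map_add, sub_self]
  have hsmul : ∀ (a : A) x, Φ (a • x) = a • Φ x := by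
    intro a x
    refine sub_eq_zero.mp (hinj _ fun n => ?_)
    have h1 : (a • x).val (n + 1) = Ideal.Quotient.mk _ a * x.val (n + 1) := by
      rw [AdicCompletion.val_smul_apply]
      obtain ⟨r, hr⟩ := Ideal.Quotient.mk_surjective (x.val (n + 1))
      rw [← hr]
      rfl
    have h2 : a • Φ x = φ a * Φ x := by rw [Algebra.smul_def, RingHom.algebraMap_toAlgebra]
    rw [map_sub, hΦ, h1, h2, map_mul, map_mul, he, hΦ, sub_self]
  let Φl : AdicCompletion I A →ₗ[A] B :=
    { toFun := Φ
      map_add' := hadd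
      map_smul' := hsmul }
  have hΦinj : Function.Injective Φl := by
    rw [injective_iff_map_eq_zero]
    intro x hx
    have hx' : Φ x = 0 := hx
    have h1 : ∀ n, x.val (n + 1) = 0 := by
      intro n
      apply heinj n
      rw [← hΦ, hx', map_zero, map_zero]
    apply AdicCompletion.ext
    intro n
    rw [← x.2 (Nat.le_succ n), h1 n, map_zero]
    rfl
  have hΦsurj : Function.Surjective Φl := by
    intro b
    choose a ha using fun n => hs n (π n b)
    have hcauchy : ∀ n, a n ≡ a (n + 1) [SMOD (I ^ n • ⊤ : Submodule A A)] := by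
      intro n
      rw [SModEq.sub_mem]
      have h1 : a n - a (n + 1) ∈ RingHom.ker ((π n).comp φ) := by
        rw [RingHom.mem_ker, map_sub, ha n, sub_eq_zero]
        change _ = π n (φ (a (n + 1)))
        rw [← hπ n (φ (a (n + 1)))]
        have := ha (n + 1)
        change π (n + 1) (φ (a (n + 1))) = _ at this
        rw [this, hπ]
      rw [hk n] at h1
      have h2 : I ^ (n + 1) ≤ I ^ n := Ideal.pow_le_pow_right (Nat.le_succ n)
      simpa using h2 h1
    refine ⟨AdicCompletion.mk I A (AdicCompletion.AdicCauchySequence.mk I A a hcauchy), ?_⟩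
    change Φ _ = b
    refine sub_eq_zero.mp (hinj _ fun n => ?_)
    rw [map_sub, hΦ, sub_eq_zero]
    change e n (Ideal.Quotient.mk _ (a (n + 1))) = _
    rw [he, ← hπ n b, ← hπ n (φ (a (n + 1)))]
    congr 1
    exact ha (n + 1)
  exact Module.Flat.of_linearEquiv (LinearEquiv.ofBijective Φl ⟨hΦinj, hΦsurj⟩).symm

end invLim

section colim

universe w

variable {R : Type u} [CommRing R] {M : Type v} [CommRing M] (ψ : R →+* M)
  {ι : Type w} {N : ι → Type v} [∀ i, CommRing (N i)] (ρ : ∀ i, R →+* N i) (g : ∀ i, N i →+* M)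

/-- A ring which is a "concrete filtered colimit" of flat `R`-algebras is flat over `R`. -/
theorem flat_of_concrete_colimit
    (hg : ∀ (i : ι) (r : R), g i (ρ i r) = ψ r)
    (ha : ∀ (l : ℕ) (x : Fin l → M), ∃ (i : ι) (s : Fin l → N i), ∀ k : Fin l, g i (s k) = x k)
    (hb : ∀ (i : ι) (n : N i), g i n = 0 → ∃ (j : ι) (t : N i →+* N j),
      (∀ r : R, t (ρ i r) = ρ j r) ∧ (∀ n' : N i, g j (t n') = g i n') ∧ t n = 0)
    (hc : ∀ i : ι, (ρ i).Flat) : ψ.Flat := by
  let _ : Algebra R M := ψ.toAlgebra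
  change Module.Flat R M
  refine Module.Flat.of_forall_isTrivialRelation ?_
  intro l f x hfx
  obtain ⟨i, s, hs⟩ := ha l x
  have h0 : g i (∑ k, ρ i (f k) * s k) = 0 := by
    rw [map_sum, ← hfx]
    refine Finset.sum_congr rfl fun k _ => ?_
    rw [map_mul, hg, hs, Algebra.smul_def, RingHom.algebraMap_toAlgebra]
  obtain ⟨j, t, ht1, ht2, ht3⟩ := hb i _ h0
  let _ : Algebra R (N j) := (ρ j).toAlgebra
  have hfl : Module.Flat R (N j) := hc j
  have hrel : ∑ k, f k • t (s k) = 0 := by
    rw [← ht3, map_sum]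
    refine Finset.sum_congr rfl fun k _ => ?_
    rw [map_mul, ht1, Algebra.smul_def, RingHom.algebraMap_toAlgebra]
  have htriv : Module.IsTrivialRelation f (fun k => t (s k)) :=
    Module.Flat.iff_forall_isTrivialRelation.mp hfl hrel
  obtain ⟨k', a, y, hy1, hy2⟩ := htriv
  have hx : ∀ k : Fin l, x k = ∑ m, a k m • g j (y m) := by
    intro k
    have hyk : t (s k) = ∑ m, a k m • y m := hy1 k
    rw [← hs k, ← ht2, hyk, map_sum]
    refine Finset.sum_congr rfl fun m _ => ?_
    rw [Algebra.smul_def, RingHom.algebraMap_toAlgebra, map_mul, hg, Algebra.smul_def,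
      RingHom.algebraMap_toAlgebra]
  exact ⟨k', a, fun m => g j (y m), hx, hy2⟩

end colim

end Groth.Agent.Lib.Seat17.FlatLim
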