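import Mathlib
import Groth.Prelude.Def_FSch5
import Groth.Agent.Lib.Seat17OshSec
import Groth.Agent.Lib.Seat17FlatLim

/-!
# Flatness of the completion of a locally Noetherian scheme along an ideal (seat 17)
-/

set_option autoImplicit false
universe u
open CategoryTheory CategoryTheory.Limits AlgebraicGeometry TopologicalSpace Opposite FSch

namespace Groth.Agent.Lib.Seat17.ComplFlat

open Groth.Agent.Lib.Seat17.OshSec Groth.Agent.Lib.Seat17.FlatLim

section general

variable (𝔛 : FSch.Sys.{u}) (h : 𝔛.IsFormal) {Y : Scheme.{u}} (p : ∀ n, 𝔛.X n ⟶ Y)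
  (hp : ∀ n, 𝔛.ι n ≫ p (n + 1) = p n)

/-- the composite of `schSharp` with the projection to level `n`, on sections. -/
theorem OshProj_schSharp_app (n : ℕ) (V : Y.Opens) (s : Γ(Y, V)) :
    (𝔛.OshProj h n).hom.app (op (p 0 ⁻¹ᵁ V)) ((schSharp 𝔛 h p hp).hom.app (op V) s) =
      (p n).appLE V (𝔛.lvU h n (p 0 ⁻¹ᵁ V)) (lvU_p 𝔛 h p hp n V).ge s := by
  have := congrArg (fun f => f.hom.app (op V) s) (schSharp_proj 𝔛 h p hp n)
  exact this

end general

section completion

variable (X : Scheme.{u}) (𝓘 : X.IdealSheafData)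

theorem ker_completionToX_appLE (n : ℕ) (V : X.Opens) (hV : IsAffineOpen V)
    (W : ((completionAlong X 𝓘).X n).Opens) (e : W ≤ completionToX X 𝓘 n ⁻¹ᵁ V)
    (e' : completionToX X 𝓘 n ⁻¹ᵁ V ≤ W) :
    RingHom.ker ((completionToX X 𝓘 n).appLE V W e).hom = (𝓘.ideal ⟨V, hV⟩) ^ (n + 1) := by
  have hk := (𝓘 ^ (n + 1)).ker_subschemeι_app ⟨V, hV⟩
  have hiso : IsIso (((completionAlong X 𝓘).X n).presheaf.map (homOfLE e).op) := by
    have : IsIso (homOfLE e) := ⟨⟨homOfLE e', rfl, rfl⟩⟩
    infer_instance
  have hinj := (ConcreteCategory.bijective_of_isIso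
    (((completionAlong X 𝓘).X n).presheaf.map (homOfLE e).op)).1
  have hpow : (𝓘 ^ (n + 1)).ideal ⟨V, hV⟩ = (𝓘.ideal ⟨V, hV⟩) ^ (n + 1) := rfl
  rw [← hpow, ← hk, Scheme.Hom.appLE, CommRingCat.hom_comp]
  exact RingHom.ker_comp_of_injective _ hinj

variable [IsLocallyNoetherian X] (h : (completionAlong X 𝓘).IsFormal)

/-- sections of the structure sheaf of the completion over the preimage of an affine open `V` are
flat over `Γ(X, V)`. -/
theorem flat_schSharp_app (V : X.Opens) (hV : IsAffineOpen V) :
    ((schSharp (completionAlong X 𝓘) h (completionToX X 𝓘)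
      (completionToX_comm X 𝓘)).hom.app (op V)).hom.Flat := by
  have hN : IsNoetherianRing Γ(X, V) := IsLocallyNoetherian.component_noetherian ⟨V, hV⟩
  have hcomp : ∀ (n : ℕ) (s : Γ(X, V)),
      ((completionAlong X 𝓘).OshProj h n).hom.app (op (completionToX X 𝓘 0 ⁻¹ᵁ V))
        ((schSharp (completionAlong X 𝓘) h (completionToX X 𝓘)
          (completionToX_comm X 𝓘)).hom.app (op V) s) =
      (completionToX X 𝓘 n).appLE V ((completionAlong X 𝓘).lvU h n (completionToX X 𝓘 0 ⁻¹ᵁ V))
        (lvU_p (completionAlong X 𝓘) h (completionToX X 𝓘) (completionToX_comm X 𝓘) n V).ge s :=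
    fun n s => OshProj_schSharp_app (completionAlong X 𝓘) h (completionToX X 𝓘)
      (completionToX_comm X 𝓘) n V s
  refine flat_of_invLim (𝓘.ideal ⟨V, hV⟩) _
    (fun n => (((completionAlong X 𝓘).OshProj h n).hom.app
      (op (completionToX X 𝓘 0 ⁻¹ᵁ V))).hom)
    (fun n => (((completionAlong X 𝓘).levelMap h n).hom.app
      (op (completionToX X 𝓘 0 ⁻¹ᵁ V))).hom) ?_ ?_ ?_ ?_ ?_
  · intro n b
    have := congrArg (fun f => f.hom.app (op (completionToX X 𝓘 0 ⁻¹ᵁ V)) b)
      ((completionAlong X 𝓘).OshProj_levelMap h n)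
    exact this
  · intro n
    have hci : IsClosedImmersion (completionToX X 𝓘 n) :=
      inferInstanceAs (IsClosedImmersion (𝓘 ^ (n + 1)).subschemeι)
    have hs := appLE_surjective_of_le (completionToX X 𝓘 n) V hV
      ((completionAlong X 𝓘).lvU h n (completionToX X 𝓘 0 ⁻¹ᵁ V))
      (lvU_p (completionAlong X 𝓘) h (completionToX X 𝓘) (completionToX_comm X 𝓘) n V).ge
      (lvU_p (completionAlong X 𝓘) h (completionToX X 𝓘) (completionToX_comm X 𝓘) n V).le
    intro c
    obtain ⟨a, ha⟩ := hs c
    refine ⟨a, ?_⟩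
    rw [← ha]
    exact hcomp n a
  · intro n
    rw [← ker_completionToX_appLE X 𝓘 n V hV
      ((completionAlong X 𝓘).lvU h n (completionToX X 𝓘 0 ⁻¹ᵁ V))
      (lvU_p (completionAlong X 𝓘) h (completionToX X 𝓘) (completionToX_comm X 𝓘) n V).ge
      (lvU_p (completionAlong X 𝓘) h (completionToX X 𝓘) (completionToX_comm X 𝓘) n V).le]
    ext a
    rw [RingHom.mem_ker, RingHom.mem_ker]
    have := hcomp n a
    constructor
    · intro ha
      rw [← this]
      exact ha
    · intro ha
      exact this.trans ha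
  · intro b hb
    exact Osh_ext (completionAlong X 𝓘) h _ b 0 fun n => (hb n).trans (map_zero _).symm
  · intro c hc
    exact Osh_exists (completionAlong X 𝓘) h _ c hc

end completion

section stalk

variable {X Y : TopCat.{u}} (f : X ⟶ Y) (O_X : TopCat.Sheaf CommRingCat.{u} X)
    (O_Y : TopCat.Sheaf CommRingCat.{u} Y)
    (c : O_Y ⟶ ((TopologicalSpace.Opens.map f).sheafPushforwardContinuous CommRingCat.{u}
      (Opens.grothendieckTopology Y) (Opens.grothendieckTopology X)).obj O_X)

/-- the stalk map of a morphism of ringed spaces (in the shape of `S6845`). -/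
noncomputable abbrev stalkMap (x : X) : O_Y.presheaf.stalk (f x) ⟶ O_X.presheaf.stalk x :=
  (TopCat.Presheaf.stalkFunctor CommRingCat.{u} (f x)).map
      (show O_Y.presheaf ⟶ (TopCat.Presheaf.pushforward CommRingCat.{u} f).obj O_X.presheaf
        from c.hom) ≫
    TopCat.Presheaf.stalkPushforward CommRingCat.{u} f O_X.presheaf x

theorem germ_stalkMap (x : X) (V : Opens Y) (hx : f x ∈ V) :
    O_Y.presheaf.germ V (f x) hx ≫ stalkMap f O_X O_Y c x =
      (show O_Y.presheaf.obj (op V) ⟶ O_X.presheaf.obj (op ((Opens.map f).obj V)) from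
        c.hom.app (op V)) ≫ O_X.presheaf.germ ((Opens.map f).obj V) x hx :=
  (Category.assoc _ _ _).symm.trans
    ((congrArg (· ≫ TopCat.Presheaf.stalkPushforward CommRingCat.{u} f O_X.presheaf x)
      (TopCat.Presheaf.stalkFunctor_map_germ V (f x) hx
        (show O_Y.presheaf ⟶ (TopCat.Presheaf.pushforward CommRingCat.{u} f).obj O_X.presheaf
          from c.hom))).trans
    ((Category.assoc _ _ _).trans
      (congrArg (c.hom.app (op V) ≫ ·)
        (TopCat.Presheaf.stalkPushforward_germ CommRingCat.{u} f O_X.presheaf V x hx))))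

theorem stalkMap_germ (x : X) (V : Opens Y) (hx : f x ∈ V) (s : O_Y.presheaf.obj (op V)) :
    stalkMap f O_X O_Y c x (O_Y.presheaf.germ V (f x) hx s) =
      O_X.presheaf.germ ((Opens.map f).obj V) x hx (c.hom.app (op V) s) :=
  ConcreteCategory.congr_hom (germ_stalkMap f O_X O_Y c x V hx) s

end stalk

section main

variable (X : Scheme.{u}) (𝓘 : X.IdealSheafData)

/-- opens of the smallest level are preimages of opens of `X`: affine refinement. -/
theorem exists_affine_le (x : (completionAlong X 𝓘).X 0)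
    (W : ((completionAlong X 𝓘).X 0).Opens) (hxW : x ∈ W) (V0 : X.Opens)
    (hy : (completionToX X 𝓘 0).base x ∈ V0) :
    ∃ V' : X.Opens, IsAffineOpen V' ∧ (completionToX X 𝓘 0).base x ∈ V' ∧ V' ≤ V0 ∧
      completionToX X 𝓘 0 ⁻¹ᵁ V' ≤ W := by
  have hci : IsClosedImmersion (completionToX X 𝓘 0) :=
    inferInstanceAs (IsClosedImmersion (𝓘 ^ (0 + 1)).subschemeι)
  obtain ⟨t, ht, htW⟩ := (completionToX X 𝓘 0).isEmbedding.isInducing.isOpen_iff.mp W.2
  have hyt : (completionToX X 𝓘 0).base x ∈ (⟨t, ht⟩ : X.Opens) ⊓ V0 := by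
    refine ⟨?_, hy⟩
    change x ∈ (completionToX X 𝓘 0).base ⁻¹' t
    rw [htW]
    exact hxW
  obtain ⟨V', hV', hyV', hle⟩ := Opens.isBasis_iff_nbhd.mp X.isBasis_affineOpens hyt
  refine ⟨V', hV', hyV', hle.trans inf_le_right, ?_⟩
  intro z hz
  have hz' : (completionToX X 𝓘 0).base z ∈ t := (hle hz).1
  have : z ∈ (completionToX X 𝓘 0).base ⁻¹' t := hz'
  rw [htW] at this
  exact this

/-- restriction maps between affine opens of a scheme are flat. -/
theorem flat_res {V V' : X.Opens} (hV : IsAffineOpen V) (hV' : IsAffineOpen V') (hle : V' ≤ V) :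
    (X.presheaf.map (homOfLE hle).op).hom.Flat := by
  have h1 : Flat (𝟙 X) := inferInstance
  have := HasRingHomProperty.appLE (P := @Flat) (𝟙 X) h1 ⟨V, hV⟩ ⟨V', hV'⟩ hle
  have e : Scheme.Hom.appLE (𝟙 X) V V' hle = X.presheaf.map (homOfLE hle).op :=
    Category.id_comp _
  rw [← e]
  exact this

variable [IsLocallyNoetherian X] (h : (completionAlong X 𝓘).IsFormal)

/-- the stalk maps of the canonical morphism from the completion to the scheme are flat. -/
theorem flat_stalkMap (x : (completionAlong X 𝓘).X 0) :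
    (stalkMap (completionToX X 𝓘 0).base ((completionAlong X 𝓘).Osh h) X.sheaf
      (schSharp (completionAlong X 𝓘) h (completionToX X 𝓘) (completionToX_comm X 𝓘))
        x).hom.Flat := by
  -- an affine open neighbourhood of the image point
  obtain ⟨V, hV, hyV, -⟩ := exists_affine_le X 𝓘 x ⊤ trivial ⊤ trivial
  -- flatness over `Γ(X, V)`
  have hR : (X.presheaf.germ V ((completionToX X 𝓘 0).base x) hyV ≫
      stalkMap (completionToX X 𝓘 0).base ((completionAlong X 𝓘).Osh h) X.sheaf
        (schSharp (completionAlong X 𝓘) h (completionToX X 𝓘) (completionToX_comm X 𝓘))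
          x).hom.Flat := by
    refine flat_of_concrete_colimit
      (ι := {V' : X.Opens // IsAffineOpen V' ∧ (completionToX X 𝓘 0).base x ∈ V' ∧ V' ≤ V})
      (N := fun V' => ((completionAlong X 𝓘).Osh h).obj.obj (op (completionToX X 𝓘 0 ⁻¹ᵁ V'.1)))
      _
      (fun V' => (X.presheaf.map (homOfLE V'.2.2.2).op ≫
        (schSharp (completionAlong X 𝓘) h (completionToX X 𝓘)
          (completionToX_comm X 𝓘)).hom.app (op V'.1)).hom)
      (fun V' => (TopCat.Presheaf.germ (X := ((completionAlong X 𝓘).X 0).carrier)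
        ((completionAlong X 𝓘).Osh h).obj
        (completionToX X 𝓘 0 ⁻¹ᵁ V'.1) x V'.2.2.1).hom) ?_ ?_ ?_ ?_
    · rintro ⟨V', hV', hyV', hle⟩ r
      have h1 := stalkMap_germ (completionToX X 𝓘 0).base ((completionAlong X 𝓘).Osh h) X.sheaf
        (schSharp (completionAlong X 𝓘) h (completionToX X 𝓘) (completionToX_comm X 𝓘)) x V' hyV'
        (X.presheaf.map (homOfLE hle).op r)
      have h2 : X.presheaf.germ V' ((completionToX X 𝓘 0).base x) hyV'
          (X.presheaf.map (homOfLE hle).op r) =
          X.presheaf.germ V ((completionToX X 𝓘 0).base x) hyV r :=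
        TopCat.Presheaf.germ_res_apply X.presheaf (homOfLE hle) _ hyV' r
      exact h1.symm.trans (congrArg (stalkMap (completionToX X 𝓘 0).base
        ((completionAlong X 𝓘).Osh h) X.sheaf
        (schSharp (completionAlong X 𝓘) h (completionToX X 𝓘) (completionToX_comm X 𝓘)) x) h2)
    · intro l b
      choose W hxW s hs using fun k => TopCat.Presheaf.exists_germ_eq
        (X := ((completionAlong X 𝓘).X 0).carrier) ((completionAlong X 𝓘).Osh h).obj (x := x) (b k)
      have hx0 : x ∈ Finset.univ.inf W := by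
        rw [← SetLike.mem_coe, Opens.coe_finset_inf]
        simp only [Finset.inf_set_eq_iInter, Set.mem_iInter]
        intro k _
        exact hxW k
      obtain ⟨V', hV', hyV', hle, hpre⟩ :=
        exists_affine_le X 𝓘 x (Finset.univ.inf W) hx0 V hyV
      refine ⟨⟨V', hV', hyV', hle⟩, fun k => ((completionAlong X 𝓘).Osh h).obj.map
        (homOfLE (hpre.trans (Finset.inf_le (Finset.mem_univ k)))).op (s k), fun k => ?_⟩
      rw [← hs k]
      exact TopCat.Presheaf.germ_res_apply (X := ((completionAlong X 𝓘).X 0).carrier)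
        ((completionAlong X 𝓘).Osh h).obj
        (homOfLE (hpre.trans (Finset.inf_le (Finset.mem_univ k)))) x hyV' (s k)
    · rintro ⟨V', hV', hyV', hle⟩ n hn
      have hn0 : TopCat.Presheaf.germ (X := ((completionAlong X 𝓘).X 0).carrier)
          ((completionAlong X 𝓘).Osh h).obj (completionToX X 𝓘 0 ⁻¹ᵁ V') x hyV' n =
          TopCat.Presheaf.germ (X := ((completionAlong X 𝓘).X 0).carrier)
          ((completionAlong X 𝓘).Osh h).obj (completionToX X 𝓘 0 ⁻¹ᵁ V') x hyV' 0 :=
        hn.trans (map_zero _).symm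
      obtain ⟨W, hxW, iU, iV, hres⟩ := TopCat.Presheaf.germ_eq
        (X := ((completionAlong X 𝓘).X 0).carrier) ((completionAlong X 𝓘).Osh h).obj x hyV' hyV'
        n 0 hn0
      obtain ⟨V'', hV'', hyV'', hle'', hpre⟩ := exists_affine_le X 𝓘 x W hxW V' hyV'
      have hmono : completionToX X 𝓘 0 ⁻¹ᵁ V'' ≤ completionToX X 𝓘 0 ⁻¹ᵁ V' :=
        Scheme.Hom.preimage_mono _ hle''
      refine ⟨⟨V'', hV'', hyV'', hle''.trans hle⟩,
        (((completionAlong X 𝓘).Osh h).obj.map (homOfLE hmono).op).hom, ?_, ?_, ?_⟩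
      · intro r
        have hnat := (schSharp (completionAlong X 𝓘) h (completionToX X 𝓘)
          (completionToX_comm X 𝓘)).hom.naturality (homOfLE hle'').op
        have hnat' : (schSharp (completionAlong X 𝓘) h (completionToX X 𝓘)
            (completionToX_comm X 𝓘)).hom.app (op V'')
              (X.presheaf.map (homOfLE hle'').op (X.presheaf.map (homOfLE hle).op r)) =
            ((completionAlong X 𝓘).Osh h).obj.map (homOfLE hmono).op
              ((schSharp (completionAlong X 𝓘) h (completionToX X 𝓘)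
                (completionToX_comm X 𝓘)).hom.app (op V') (X.presheaf.map (homOfLE hle).op r)) :=
          ConcreteCategory.congr_hom hnat (X.presheaf.map (homOfLE hle).op r)
        have hcomp : X.presheaf.map (homOfLE hle'').op (X.presheaf.map (homOfLE hle).op r) =
            X.presheaf.map (homOfLE (hle''.trans hle)).op r := by
          rw [← CommRingCat.comp_apply, ← Functor.map_comp]
          rfl
        change ((completionAlong X 𝓘).Osh h).obj.map (homOfLE hmono).op
            ((schSharp (completionAlong X 𝓘) h (completionToX X 𝓘)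
              (completionToX_comm X 𝓘)).hom.app (op V') (X.presheaf.map (homOfLE hle).op r)) =
          (schSharp (completionAlong X 𝓘) h (completionToX X 𝓘)
            (completionToX_comm X 𝓘)).hom.app (op V'')
              (X.presheaf.map (homOfLE (hle''.trans hle)).op r)
        rw [← hcomp]
        exact hnat'.symm
      · intro n'
        exact TopCat.Presheaf.germ_res_apply (X := ((completionAlong X 𝓘).X 0).carrier)
          ((completionAlong X 𝓘).Osh h).obj (homOfLE hmono) x hyV'' n'
      · have h1 : ((completionAlong X 𝓘).Osh h).obj.map (homOfLE hmono).op n =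
            ((completionAlong X 𝓘).Osh h).obj.map (homOfLE hpre).op
              (((completionAlong X 𝓘).Osh h).obj.map iU.op n) := by
          rw [← CommRingCat.comp_apply, ← Functor.map_comp]
          rfl
        change ((completionAlong X 𝓘).Osh h).obj.map (homOfLE hmono).op n = 0
        rw [h1, hres, map_zero, map_zero]
    · rintro ⟨V', hV', hyV', hle⟩
      exact RingHom.Flat.comp (flat_res X hV hV' hle) (flat_schSharp_app X 𝓘 h V' hV')
  -- pass to the localization
  let _ : Algebra Γ(X, V) (X.presheaf.stalk ((completionToX X 𝓘 0).base x)) :=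
    TopCat.Presheaf.algebra_section_stalk X.presheaf ⟨(completionToX X 𝓘 0).base x, hyV⟩
  have hloc : IsLocalization.AtPrime (X.presheaf.stalk ((completionToX X 𝓘 0).base x))
      (hV.primeIdealOf ⟨(completionToX X 𝓘 0).base x, hyV⟩).asIdeal :=
    hV.isLocalization_stalk ⟨(completionToX X 𝓘 0).base x, hyV⟩
  let _ : Algebra (X.presheaf.stalk ((completionToX X 𝓘 0).base x))
      ((TopCat.Sheaf.presheaf (X := ((completionAlong X 𝓘).X 0).carrier)
        ((completionAlong X 𝓘).Osh h)).stalk x) :=
    (stalkMap (completionToX X 𝓘 0).base ((completionAlong X 𝓘).Osh h) X.sheaf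
      (schSharp (completionAlong X 𝓘) h (completionToX X 𝓘) (completionToX_comm X 𝓘))
        x).hom.toAlgebra
  let _ : Algebra Γ(X, V) ((TopCat.Sheaf.presheaf (X := ((completionAlong X 𝓘).X 0).carrier)
        ((completionAlong X 𝓘).Osh h)).stalk x) :=
    (X.presheaf.germ V ((completionToX X 𝓘 0).base x) hyV ≫
      stalkMap (completionToX X 𝓘 0).base ((completionAlong X 𝓘).Osh h) X.sheaf
        (schSharp (completionAlong X 𝓘) h (completionToX X 𝓘) (completionToX_comm X 𝓘))
          x).hom.toAlgebra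
  have hst : IsScalarTower Γ(X, V) (X.presheaf.stalk ((completionToX X 𝓘 0).base x))
      ((TopCat.Sheaf.presheaf (X := ((completionAlong X 𝓘).X 0).carrier)
        ((completionAlong X 𝓘).Osh h)).stalk x) :=
    IsScalarTower.of_algebraMap_eq (fun r => rfl)
  exact (Module.flat_iff_of_isLocalization
    (S := X.presheaf.stalk ((completionToX X 𝓘 0).base x))
    (p := (hV.primeIdealOf ⟨(completionToX X 𝓘 0).base x, hyV⟩).asIdeal.primeCompl)
    (M := ((TopCat.Sheaf.presheaf (X := ((completionAlong X 𝓘).X 0).carrier)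
        ((completionAlong X 𝓘).Osh h)).stalk x))).mpr hR

end main

end Groth.Agent.Lib.Seat17.ComplFlat
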