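import Groth.Prelude.Def_Formal
import Groth.Agent.S9530

/-!
# Characterization of the completion system `n ↦ F / I^(n+1) F` (seat 76)

Namespace `Groth.Agent.Lib.Seat76.ComplChar`.

* `nonempty_completion_iso`: a system `P` with compatible epimorphisms `ψ n : F ⟶ P_n` killing `I^(n+1) F`
  and through which every map killing `I^(n+1) F` factors is isomorphic to `Formal.completion I F`.
-/

set_option autoImplicit false

universe u

open CategoryTheory CategoryTheory.Limits Opposite AlgebraicGeometry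

namespace Groth.Agent.Lib.Seat76.ComplChar

variable {A : Type u} [CommRing A] {X : Scheme.{u}} [X.Over (Spec (CommRingCat.of A))]

theorem nonempty_completion_iso (I : Ideal A) (F : X.Modules) (P : ℕᵒᵖ ⥤ X.Modules)
    (ψ : ∀ n : ℕ, F ⟶ P.obj (op n))
    (hψsucc : ∀ n, ψ (n + 1) ≫ P.map (homOfLE (n.le_add_right 1)).op = ψ n)
    (hψepi : ∀ n, Epi (ψ n))
    (hψ0 : ∀ n, Formal.smulFamily (I ^ (n + 1)) F ≫ ψ n = 0)
    (hψfac : ∀ n (T : X.Modules) (g : F ⟶ T),
      Formal.smulFamily (I ^ (n + 1)) F ≫ g = 0 → ∃ g', ψ n ≫ g' = g) :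
    Nonempty (Formal.completion I F ≅ P) := by
  have hπepi : ∀ n, Epi (Formal.modPowπ I n F) := fun n =>
    @coequalizer.π_epi _ _ _ _ _ _ _
  let θ : ∀ n : ℕ, Formal.modPow I (n + 1) F ⟶ P.obj (op n) := fun n =>
    cokernel.desc _ (ψ n) (hψ0 n)
  have hθ : ∀ n, Formal.modPowπ I (n + 1) F ≫ θ n = ψ n := fun n =>
    cokernel.π_desc _ _ _
  have hθiso : ∀ n, IsIso (θ n) := by
    intro n
    obtain ⟨g', hg'⟩ := hψfac n _ (Formal.modPowπ I (n + 1) F) (cokernel.condition _)
    have := hψepi n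
    have := hπepi (n + 1)
    refine ⟨g', ?_, ?_⟩
    · rw [← cancel_epi (Formal.modPowπ I (n + 1) F), ← Category.assoc, hθ, hg',
        Category.comp_id]
    · rw [← cancel_epi (ψ n), ← Category.assoc, hg', hθ, Category.comp_id]
  have hnat : ∀ n, Formal.modPowTrans I (n + 1) F ≫ θ n =
      θ (n + 1) ≫ P.map (homOfLE (n.le_add_right 1)).op := by
    intro n
    have := hπepi (n + 1 + 1)
    rw [← cancel_epi (Formal.modPowπ I (n + 1 + 1) F), ← Category.assoc,
      Formal.modPowπ_trans, hθ, ← Category.assoc, hθ, hψsucc]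
  let τ : Formal.completion I F ⟶ P := NatTrans.ofOpSequence θ (by
    intro n
    have h1 : (Formal.completion I F).map (homOfLE (n.le_add_right 1)).op =
        Formal.modPowTrans I (n + 1) F :=
      Functor.ofOpSequence_map_homOfLE_succ _ n
    exact (congrArg (fun k => k ≫ θ n) h1).trans (hnat n))
  have : ∀ n : ℕᵒᵖ, IsIso (τ.app n) := fun n => hθiso n.unop
  have : IsIso τ := NatIso.isIso_of_isIso_app τ
  exact ⟨asIso τ⟩

end Groth.Agent.Lib.Seat76.ComplChar
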