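import Mathlib

/-!
# Sub-`O_X`-modules given sectionwise (seat 21)

* `res F h s`: restriction of a section of an `O_X`-module along `V' ≤ V`, with its basic calculus.
* `SubSh F`: a sub-`O_X`-module of `F`, as a family of submodules of the modules of sections, stable under
  restriction and of local nature.
* `SubSh.toModules`, `SubSh.ι`: the associated `O_X`-module and its monomorphism to `F`.
* `SubSh.top`, `SubSh.iInf`, `SubSh.sat`: the whole module, intersections, and the saturation of a subsheaf with
  respect to an open `W` (the largest subsheaf with the same sections over the opens contained in `W`).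
* `SubSh.AgreeOn`: two subsheaves have the same sections over all opens contained in a given open.
-/

set_option autoImplicit false
universe u
open CategoryTheory Limits AlgebraicGeometry TopologicalSpace Opposite

noncomputable section

namespace Groth.Agent.Lib.Seat21.QSub

variable {X : Scheme.{u}}

/-- restriction of sections of a module -/
def res (F : X.Modules) {V V' : X.Opens} (h : V' ≤ V) (s : Γ(F, V)) : Γ(F, V') :=
  F.presheaf.map (homOfLE h).op s

theorem res_def (F : X.Modules) {V V' : X.Opens} (h : V' ≤ V) (s : Γ(F, V)) :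
    res F h s = F.presheaf.map (homOfLE h).op s := rfl

theorem res_res (F : X.Modules) {V V' V'' : X.Opens} (h : V' ≤ V) (h' : V'' ≤ V') (s : Γ(F, V)) :
    res F h' (res F h s) = res F (h'.trans h) s := by
  unfold res
  rw [← ConcreteCategory.comp_apply, ← Functor.map_comp]
  rfl

theorem res_self (F : X.Modules) {V : X.Opens} (s : Γ(F, V)) : res F (le_refl V) s = s := by
  unfold res
  have : (homOfLE (le_refl V)).op = 𝟙 (op V) := rfl
  rw [this, F.presheaf.map_id]
  rfl


theorem res_add (F : X.Modules) {V V' : X.Opens} (h : V' ≤ V) (s t : Γ(F, V)) :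
    res F h (s + t) = res F h s + res F h t := map_add (F.presheaf.map (homOfLE h).op).hom s t

theorem res_sub (F : X.Modules) {V V' : X.Opens} (h : V' ≤ V) (s t : Γ(F, V)) :
    res F h (s - t) = res F h s - res F h t := map_sub (F.presheaf.map (homOfLE h).op).hom s t

theorem res_zero (F : X.Modules) {V V' : X.Opens} (h : V' ≤ V) :
    res F h (0 : Γ(F, V)) = 0 := map_zero (F.presheaf.map (homOfLE h).op).hom

theorem res_neg (F : X.Modules) {V V' : X.Opens} (h : V' ≤ V) (s : Γ(F, V)) :
    res F h (-s) = -res F h s := map_neg (F.presheaf.map (homOfLE h).op).hom s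

theorem res_sum (F : X.Modules) {V V' : X.Opens} (h : V' ≤ V) {ι : Type*} (t : Finset ι) (s : ι → Γ(F, V)) :
    res F h (∑ i ∈ t, s i) = ∑ i ∈ t, res F h (s i) := map_sum (F.presheaf.map (homOfLE h).op).hom s t

/-- restriction of functions -/
def resf (X : Scheme.{u}) {V V' : X.Opens} (h : V' ≤ V) (r : Γ(X, V)) : Γ(X, V') :=
  X.presheaf.map (homOfLE h).op r

theorem resf_def {V V' : X.Opens} (h : V' ≤ V) (r : Γ(X, V)) :
    resf X h r = X.presheaf.map (homOfLE h).op r := rfl

theorem resf_pow {V V' : X.Opens} (h : V' ≤ V) (r : Γ(X, V)) (n : ℕ) :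
    resf X h (r ^ n) = resf X h r ^ n := map_pow _ r n

theorem resf_mul {V V' : X.Opens} (h : V' ≤ V) (r r' : Γ(X, V)) :
    resf X h (r * r') = resf X h r * resf X h r' := map_mul _ r r'

theorem resf_add {V V' : X.Opens} (h : V' ≤ V) (r r' : Γ(X, V)) :
    resf X h (r + r') = resf X h r + resf X h r' := map_add _ r r'

theorem resf_one {V V' : X.Opens} (h : V' ≤ V) : resf X h (1 : Γ(X, V)) = 1 := map_one _

theorem resf_zero {V V' : X.Opens} (h : V' ≤ V) : resf X h (0 : Γ(X, V)) = 0 := map_zero _

theorem res_smul (F : X.Modules) {V V' : X.Opens} (h : V' ≤ V) (r : Γ(X, V)) (s : Γ(F, V)) :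
    res F h (r • s) = resf X h r • res F h s :=
  Scheme.Modules.map_smul F (homOfLE h) r s

theorem resf_resf {V V' V'' : X.Opens} (h : V' ≤ V) (h' : V'' ≤ V') (r : Γ(X, V)) :
    resf X h' (resf X h r) = resf X (h'.trans h) r := by
  unfold resf
  rw [← ConcreteCategory.comp_apply, ← Functor.map_comp]
  rfl

theorem resf_self {V : X.Opens} (r : Γ(X, V)) : resf X (le_refl V) r = r := by
  unfold resf
  have : (homOfLE (le_refl V)).op = 𝟙 (op V) := rfl
  rw [this, X.presheaf.map_id]
  rfl

/-- sections of a sheaf of modules which agree locally are equal -/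
theorem eq_of_locally_eq (F : X.Modules) {V : X.Opens} (s t : Γ(F, V))
    (h : ∀ x ∈ V, ∃ (V' : X.Opens) (hle : V' ≤ V), x ∈ V' ∧ res F hle s = res F hle t) : s = t := by
  choose V' hle hx heq using h
  refine TopCat.Sheaf.eq_of_locally_eq' (⟨F.presheaf, F.isSheaf⟩ : TopCat.Sheaf Ab X)
    (fun x : V => V' x.1 x.2) V (fun x => homOfLE (hle x.1 x.2)) ?_ s t (fun x => heq x.1 x.2)
  intro x hxV
  exact Opens.mem_iSup.2 ⟨⟨x, hxV⟩, hx x hxV⟩

/-- a sub-`O_X`-module of `F`, given sectionwise -/
structure SubSh (F : X.Modules) where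
  /-- the sections of the subsheaf over an open -/
  carrier : ∀ V : X.Opens, Submodule Γ(X, V) Γ(F, V)
  res_mem : ∀ {V V' : X.Opens} (h : V' ≤ V) {s : Γ(F, V)}, s ∈ carrier V → res F h s ∈ carrier V'
  local_mem : ∀ (V : X.Opens) (s : Γ(F, V)),
    (∀ x ∈ V, ∃ (V' : X.Opens) (h : V' ≤ V), x ∈ V' ∧ res F h s ∈ carrier V') → s ∈ carrier V

namespace SubSh

variable {F : X.Modules} (N : SubSh F)

theorem res_mem_iff_of_eq {D D' : X.Opens} (h : D' = D) (s : Γ(F, D)) :
    res F h.le s ∈ N.carrier D' ↔ s ∈ N.carrier D := by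
  subst h
  rw [res_self]

theorem mem_iff_res_mem_of_le {D D' : X.Opens} (h : D' ≤ D) (h' : D ≤ D') (s : Γ(F, D)) :
    res F h s ∈ N.carrier D' ↔ s ∈ N.carrier D :=
  N.res_mem_iff_of_eq (le_antisymm h h') s

/-- restriction maps of the subsheaf -/
def resHom {V V' : X.Opens} (h : V' ≤ V) : N.carrier V →+ N.carrier V' where
  toFun s := ⟨res F h s.1, N.res_mem h s.2⟩
  map_zero' := Subtype.ext (map_zero _)
  map_add' _ _ := Subtype.ext (map_add _ _ _)

/-- underlying presheaf of abelian groups -/
def toAb : TopCat.Presheaf Ab X where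
  obj V := AddCommGrpCat.of (N.carrier V.unop)
  map {V V'} i := AddCommGrpCat.ofHom (N.resHom (leOfHom i.unop))
  map_id V := by
    ext s
    exact res_self F s.1
  map_comp {V V' V''} i j := by
    ext s
    exact (res_res F _ _ s.1).symm

theorem isSheaf_toAb : TopCat.Presheaf.IsSheaf N.toAb := by
  rw [TopCat.Presheaf.isSheaf_iff_isSheafUniqueGluing]
  intro ι U sf hsf
  let sf' : ∀ i, Γ(F, U i) := fun i => (sf i : N.carrier (U i)).1
  have hsf' : TopCat.Presheaf.IsCompatible F.presheaf U sf' := by
    intro i j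
    have := congrArg (fun t : N.carrier (U i ⊓ U j) => t.1) (hsf i j)
    exact this
  obtain ⟨s, hs, huniq⟩ := (TopCat.Presheaf.IsSheaf.isSheafUniqueGluing F.isSheaf U sf' hsf')
  have hmem : s ∈ N.carrier (iSup U) := by
    apply N.local_mem
    intro x hx
    obtain ⟨i, hi⟩ := Opens.mem_iSup.1 hx
    refine ⟨U i, le_iSup U i, hi, ?_⟩
    have h1 : res F (le_iSup U i) s = sf' i := hs i
    rw [h1]
    exact (sf i : N.carrier (U i)).2
  refine ⟨(⟨s, hmem⟩ : N.carrier (iSup U)), ?_, ?_⟩
  · intro i
    apply Subtype.ext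
    exact hs i
  · intro t ht
    apply Subtype.ext
    apply huniq
    intro i
    have := congrArg (fun t : N.carrier (U i) => t.1) (ht i)
    exact this

instance (V : (Opens X)ᵒᵖ) : Module (X.ringCatSheaf.obj.obj V) (N.toAb.obj V) :=
  inferInstanceAs (Module Γ(X, V.unop) (N.carrier V.unop))

/-- the subsheaf as a presheaf of modules -/
def toPresheafOfModules : PresheafOfModules X.ringCatSheaf.obj :=
  PresheafOfModules.ofPresheaf N.toAb (fun _ _ i r m => by
    apply Subtype.ext
    exact res_smul F (leOfHom i.unop) r m.1)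

/-- the subsheaf as an `O_X`-module -/
def toModules : X.Modules where
  val := N.toPresheafOfModules
  isSheaf := N.isSheaf_toAb

/-- the inclusion of the subsheaf -/
def ι : N.toModules ⟶ F where
  val := PresheafOfModules.homMk (M₁ := N.toPresheafOfModules) (M₂ := F.val)
    { app := fun V => AddCommGrpCat.ofHom (N.carrier V.unop).subtype.toAddMonoidHom
      naturality := fun _ _ _ => rfl }
    (fun _ _ _ => rfl)

/-- sections of the associated module are the elements of the carrier -/
def sec (V : X.Opens) (s : Γ(N.toModules, V)) : N.carrier V := s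

/-- an element of the carrier as a section -/
def mkSec (V : X.Opens) (s : N.carrier V) : Γ(N.toModules, V) := s

@[simp] theorem sec_mkSec (V : X.Opens) (s : N.carrier V) : N.sec V (N.mkSec V s) = s := rfl
@[simp] theorem mkSec_sec (V : X.Opens) (s : Γ(N.toModules, V)) : N.mkSec V (N.sec V s) = s := rfl

theorem ι_app (V : X.Opens) (s : Γ(N.toModules, V)) : N.ι.app V s = (N.sec V s).1 := rfl

theorem ι_app_mem (V : X.Opens) (s : Γ(N.toModules, V)) : N.ι.app V s ∈ N.carrier V := (N.sec V s).2

theorem ι_app_mkSec (V : X.Opens) (s : N.carrier V) : N.ι.app V (N.mkSec V s) = s.1 := rfl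

theorem ι_app_injective (V : X.Opens) : Function.Injective (N.ι.app V) := by
  intro a b hab
  exact Subtype.ext hab

theorem sec_smul (V : X.Opens) (r : Γ(X, V)) (s : Γ(N.toModules, V)) :
    N.sec V (r • s) = r • N.sec V s := rfl

theorem sec_add (V : X.Opens) (s t : Γ(N.toModules, V)) :
    N.sec V (s + t) = N.sec V s + N.sec V t := rfl

theorem sec_res {V V' : X.Opens} (h : V' ≤ V) (s : Γ(N.toModules, V)) :
    (N.sec V' (res N.toModules h s)).1 = res F h (N.sec V s).1 := rfl

instance mono_ι : Mono N.ι := by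
  refine ⟨fun {Z} g h hgh => ?_⟩
  ext V s
  apply N.ι_app_injective V
  have := congrArg (fun φ : Z ⟶ F => φ.app V s) hgh
  simpa using this

/-- the whole module as a subsheaf -/
def top (F : X.Modules) : SubSh F where
  carrier _ := ⊤
  res_mem _ _ _ := Submodule.mem_top
  local_mem _ _ _ := Submodule.mem_top

/-- the saturation of `N` with respect to an open `W`: sections whose restriction to `W` lies in `N` -/
def sat (W : X.Opens) : SubSh F where
  carrier V :=
    { carrier := {s | res F (inf_le_left : V ⊓ W ≤ V) s ∈ N.carrier (V ⊓ W)}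
      add_mem' := fun {a b} ha hb => by
        change res F (inf_le_left : V ⊓ W ≤ V) (a + b) ∈ N.carrier (V ⊓ W)
        rw [res_add]
        exact (N.carrier _).add_mem ha hb
      zero_mem' := by
        change res F (inf_le_left : V ⊓ W ≤ V) 0 ∈ N.carrier (V ⊓ W)
        rw [res_zero]
        exact (N.carrier _).zero_mem
      smul_mem' := fun r a ha => by
        change res F (inf_le_left : V ⊓ W ≤ V) (r • a) ∈ N.carrier (V ⊓ W)
        rw [res_smul]
        exact (N.carrier _).smul_mem _ ha }
  res_mem {V V'} h s hs := by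
    change res F (inf_le_left : V' ⊓ W ≤ V') (res F h s) ∈ N.carrier (V' ⊓ W)
    have h1 : V' ⊓ W ≤ V ⊓ W := inf_le_inf_right W h
    have h2 : res F (inf_le_left : V' ⊓ W ≤ V') (res F h s) =
        res F h1 (res F (inf_le_left : V ⊓ W ≤ V) s) := by
      rw [res_res, res_res]
    rw [h2]
    exact N.res_mem h1 hs
  local_mem V s hs := by
    change res F (inf_le_left : V ⊓ W ≤ V) s ∈ N.carrier (V ⊓ W)
    apply N.local_mem
    intro x hx
    obtain ⟨V', h, hxV', hmem⟩ := hs x hx.1
    refine ⟨V' ⊓ W, inf_le_inf_right W h, ⟨hxV', hx.2⟩, ?_⟩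
    have h2 : res F (inf_le_inf_right W h) (res F (inf_le_left : V ⊓ W ≤ V) s) =
        res F (inf_le_left : V' ⊓ W ≤ V') (res F h s) := by
      rw [res_res, res_res]
    rw [h2]
    exact hmem

theorem mem_sat_iff (W V : X.Opens) (s : Γ(F, V)) :
    s ∈ (N.sat W).carrier V ↔ res F (inf_le_left : V ⊓ W ≤ V) s ∈ N.carrier (V ⊓ W) := Iff.rfl

theorem mem_sat_iff_of_le {W V : X.Opens} (h : V ≤ W) (s : Γ(F, V)) :
    s ∈ (N.sat W).carrier V ↔ s ∈ N.carrier V := by
  rw [mem_sat_iff]
  exact N.mem_iff_res_mem_of_le inf_le_left (le_inf le_rfl h) s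

/-- intersection of a family of subsheaves -/
def iInf {ι : Type*} (M : ι → SubSh F) : SubSh F where
  carrier V := ⨅ i, (M i).carrier V
  res_mem h s hs := by
    rw [Submodule.mem_iInf] at hs ⊢
    exact fun i => (M i).res_mem h (hs i)
  local_mem V s hs := by
    rw [Submodule.mem_iInf]
    intro i
    apply (M i).local_mem
    intro x hx
    obtain ⟨V', h, hxV', hmem⟩ := hs x hx
    rw [Submodule.mem_iInf] at hmem
    exact ⟨V', h, hxV', hmem i⟩

theorem mem_iInf_iff {ι : Type*} (M : ι → SubSh F) (V : X.Opens) (s : Γ(F, V)) :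
    s ∈ (iInf M).carrier V ↔ ∀ i, s ∈ (M i).carrier V := Submodule.mem_iInf _

/-- two subsheaves have the same sections over the opens contained in `W` -/
def AgreeOn (N N' : SubSh F) (W : X.Opens) : Prop :=
  ∀ T : X.Opens, T ≤ W → N.carrier T = N'.carrier T

theorem AgreeOn.refl (W : X.Opens) : AgreeOn N N W := fun _ _ => rfl

theorem AgreeOn.symm {N N' : SubSh F} {W : X.Opens} (h : AgreeOn N N' W) : AgreeOn N' N W :=
  fun T hT => (h T hT).symm

theorem AgreeOn.trans {N N' N'' : SubSh F} {W : X.Opens} (h : AgreeOn N N' W) (h' : AgreeOn N' N'' W) :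
    AgreeOn N N'' W := fun T hT => (h T hT).trans (h' T hT)

theorem AgreeOn.mono {N N' : SubSh F} {W W' : X.Opens} (h : AgreeOn N N' W) (hle : W' ≤ W) :
    AgreeOn N N' W' := fun T hT => h T (hT.trans hle)

theorem agreeOn_sat (W : X.Opens) : AgreeOn (N.sat W) N W := fun T hT => by
  ext s
  exact N.mem_sat_iff_of_le hT s

/-- glueing a compatible family: the intersection of the saturations of a family of subsheaves `M i`, pairwise
agreeing on the intersections of the opens `W i`, agrees with `M i` on `W i`. -/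
theorem agreeOn_iInf_sat {ι : Type*} (W : ι → X.Opens) (M : ι → SubSh F)
    (hcomp : ∀ i j, AgreeOn (M i) (M j) (W i ⊓ W j)) (i : ι) :
    AgreeOn (iInf fun j => (M j).sat (W j)) (M i) (W i) := by
  intro T hT
  ext s
  rw [mem_iInf_iff]
  constructor
  · intro h
    exact ((M i).mem_sat_iff_of_le hT s).1 (h i)
  · intro h j
    rw [mem_sat_iff]
    have h1 : T ⊓ W j ≤ W i ⊓ W j := inf_le_inf_right _ hT
    rw [← hcomp i j (T ⊓ W j) h1]
    exact (M i).res_mem _ h

end SubSh

end Groth.Agent.Lib.Seat21.QSub
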