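import Mathlib
import Groth.Agent.Lib.Seat21SubSh
import Groth.Agent.Lib.Helper23QCohLocal
import Groth.Agent.Lib.Helper23FinType2

/-!
# Quasi-coherence and finite type of sectionwise subsheaves, on an open (seat 21)

For a subsheaf `N` of a quasi-coherent module `H`:
* `ExtOn N T`: sections of `N` over basic opens of the (affine) open `T` extend to `T` after multiplication by a power.
* `QCOn N W`, `FTOn N W`: `N` is quasi-coherent, resp. of finite type, on the open `W` (conditions on the affine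
  opens contained in `W`).
* `extOn_of_cover`, `QCOn.iSup`, `FTOn.iSup`: these conditions are local.
* `isQuasicoherent_toModules`, `isFiniteType_toModules`: the case `W = ⊤`.
-/

set_option autoImplicit false
universe u
open CategoryTheory Limits AlgebraicGeometry TopologicalSpace Opposite

noncomputable section

namespace Groth.Agent.Lib.Seat21.QSub

open Groth.Agent.Lib.Helper2.Push Groth.Agent.Lib.Helper23.QCohLocal

variable {X : Scheme.{u}} {H : X.Modules}

/-- flexible form of the first half of `IsLocOn` -/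
theorem isLocOn_exists {T : X.Opens} (hH : IsLocOn H T) (g : Γ(X, T)) (D : X.Opens)
    (hD : D = X.basicOpen g) (hle : D ≤ T) (s : Γ(H, D)) :
    ∃ (n : ℕ) (t : Γ(H, T)), res H hle t = (resf X hle g) ^ n • s := by
  subst hD
  exact hH.exists_extension g s

/-- flexible form of the second half of `IsLocOn` -/
theorem isLocOn_unique {T : X.Opens} (hH : IsLocOn H T) (g : Γ(X, T)) (D : X.Opens)
    (hD : D = X.basicOpen g) (hle : D ≤ T) (t : Γ(H, T)) (ht : res H hle t = 0) :
    ∃ n : ℕ, g ^ n • t = 0 := by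
  subst hD
  exact hH.exists_pow_smul_eq_zero g t ht

namespace SubSh

variable (N : SubSh H)

/-- sections of `N` over basic opens of `T` extend to `T` after multiplication by a power of the function -/
def ExtOn (T : X.Opens) : Prop :=
  ∀ (g : Γ(X, T)) (s : Γ(H, X.basicOpen g)), s ∈ N.carrier (X.basicOpen g) →
    ∃ (n : ℕ) (t : Γ(H, T)), t ∈ N.carrier T ∧
      res H (X.basicOpen_le g) t = (resf X (X.basicOpen_le g) g) ^ n • s

variable {N}

theorem ExtOn.flex {T : X.Opens} (h : N.ExtOn T) (g : Γ(X, T)) (D : X.Opens) (hD : D = X.basicOpen g)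
    (hle : D ≤ T) (s : Γ(H, D)) (hs : s ∈ N.carrier D) :
    ∃ (n : ℕ) (t : Γ(H, T)), t ∈ N.carrier T ∧ res H hle t = (resf X hle g) ^ n • s := by
  subst hD
  exact h g s hs

/-- key lemma: a section over `T` whose restriction to `D(g)` lies in `N` lies in `N` after multiplication by a
power of `g`. -/
theorem ExtOn.exists_pow_smul_mem {T : X.Opens} (hN : N.ExtOn T) (hH : IsLocOn H T) (g : Γ(X, T))
    (D : X.Opens) (hD : D = X.basicOpen g) (hle : D ≤ T) (t₀ : Γ(H, T))
    (h : res H hle t₀ ∈ N.carrier D) : ∃ m : ℕ, g ^ m • t₀ ∈ N.carrier T := by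
  obtain ⟨n, t, htN, ht⟩ := hN.flex g D hD hle _ h
  have h0 : res H hle (t - g ^ n • t₀) = 0 := by
    rw [res_sub, res_smul, ht, resf_pow, sub_self]
  obtain ⟨m, hm⟩ := isLocOn_unique hH g D hD hle _ h0
  refine ⟨m + n, ?_⟩
  rw [smul_sub, sub_eq_zero, smul_smul, ← pow_add] at hm
  rw [← hm]
  exact (N.carrier T).smul_mem _ htN

theorem ExtOn.exists_pow_smul_mem_of_le {T : X.Opens} (hN : N.ExtOn T) (hH : IsLocOn H T) (g : Γ(X, T))
    (D : X.Opens) (hD : D = X.basicOpen g) (hle : D ≤ T) (t₀ : Γ(H, T))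
    (h : res H hle t₀ ∈ N.carrier D) (m₀ : ℕ) : ∃ m : ℕ, m₀ ≤ m ∧ g ^ m • t₀ ∈ N.carrier T := by
  obtain ⟨m, hm⟩ := hN.exists_pow_smul_mem hH g D hD hle t₀ h
  refine ⟨m + m₀, Nat.le_add_left _ _, ?_⟩
  rw [add_comm, pow_add, mul_smul]
  exact (N.carrier T).smul_mem _ hm

/-- `ExtOn` on an affine open can be checked on a finite cover by basic opens. -/
theorem extOn_of_cover {V : X.Opens} (hHV : IsLocOn H V) {ι : Type*} [Finite ι] (f : ι → Γ(X, V))
    (hcov : ∀ x ∈ V, ∃ i, x ∈ X.basicOpen (f i))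
    (hH : ∀ i, IsLocOn H (X.basicOpen (f i))) (hN : ∀ i, N.ExtOn (X.basicOpen (f i))) : N.ExtOn V := by
  classical
  have := Fintype.ofFinite ι
  intro g s hs
  obtain ⟨n₀, t₀, ht₀⟩ := isLocOn_exists hHV g _ rfl (X.basicOpen_le g) s
  -- on each member of the cover
  have key : ∀ i, ∃ m : ℕ, ∀ m' : ℕ, m ≤ m' →
      (resf X (X.basicOpen_le (f i)) g) ^ m' • res H (X.basicOpen_le (f i)) t₀ ∈
        N.carrier (X.basicOpen (f i)) := by
    intro i
    set gi : Γ(X, X.basicOpen (f i)) := resf X (X.basicOpen_le (f i)) g with hgi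
    have hD : X.basicOpen (f i) ⊓ X.basicOpen g = X.basicOpen gi :=
      (X.basicOpen_res g (homOfLE (X.basicOpen_le (f i))).op).symm
    have hmem : res H (inf_le_left : X.basicOpen (f i) ⊓ X.basicOpen g ≤ X.basicOpen (f i))
        (res H (X.basicOpen_le (f i)) t₀) ∈ N.carrier (X.basicOpen (f i) ⊓ X.basicOpen g) := by
      have e1 : res H (inf_le_left : X.basicOpen (f i) ⊓ X.basicOpen g ≤ X.basicOpen (f i))
          (res H (X.basicOpen_le (f i)) t₀) =
          res H (inf_le_right : X.basicOpen (f i) ⊓ X.basicOpen g ≤ X.basicOpen g)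
            (res H (X.basicOpen_le g) t₀) := by
        rw [res_res, res_res]
      rw [e1, ht₀, res_smul]
      exact (N.carrier _).smul_mem _ (N.res_mem _ hs)
    obtain ⟨m, hm⟩ := (hN i).exists_pow_smul_mem (hH i) gi _ hD inf_le_left _ hmem
    refine ⟨m, fun m' hm' => ?_⟩
    obtain ⟨k, rfl⟩ := Nat.exists_eq_add_of_le hm'
    rw [add_comm, pow_add, mul_smul]
    exact (N.carrier _).smul_mem _ hm
  choose m hm using key
  set M : ℕ := Finset.univ.sup m with hM
  refine ⟨M + n₀, g ^ M • t₀, ?_, ?_⟩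
  · apply N.local_mem
    intro x hx
    obtain ⟨i, hi⟩ := hcov x hx
    refine ⟨X.basicOpen (f i), X.basicOpen_le (f i), hi, ?_⟩
    rw [res_smul, resf_pow]
    exact hm i M (Finset.le_sup (Finset.mem_univ i))
  · rw [res_smul, ht₀, resf_pow, smul_smul, ← pow_add]

/-- `N` is quasi-coherent on the open `W` -/
def QCOn (N : SubSh H) (W : X.Opens) : Prop :=
  ∀ T : X.Opens, IsAffineOpen T → T ≤ W → N.ExtOn T

/-- `N` is of finite type on the open `W` -/
def FTOn (N : SubSh H) (W : X.Opens) : Prop :=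
  ∀ T : X.Opens, IsAffineOpen T → T ≤ W → (N.carrier T).FG

theorem QCOn.mono {W W' : X.Opens} (h : N.QCOn W) (hle : W' ≤ W) : N.QCOn W' :=
  fun T hT hTW => h T hT (hTW.trans hle)

theorem FTOn.mono {W W' : X.Opens} (h : N.FTOn W) (hle : W' ≤ W) : N.FTOn W' :=
  fun T hT hTW => h T hT (hTW.trans hle)

theorem QCOn.of_agreeOn {N' : SubSh H} {W : X.Opens} (h : N.QCOn W) (ha : AgreeOn N N' W) : N'.QCOn W := by
  intro T hT hTW g s hs
  rw [← ha _ ((X.basicOpen_le g).trans hTW)] at hs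
  obtain ⟨n, t, ht, e⟩ := h T hT hTW g s hs
  exact ⟨n, t, by rw [← ha _ hTW]; exact ht, e⟩

theorem FTOn.of_agreeOn {N' : SubSh H} {W : X.Opens} (h : N.FTOn W) (ha : AgreeOn N N' W) : N'.FTOn W := by
  intro T hT hTW
  rw [← ha _ hTW]
  exact h T hT hTW

/-- quasi-coherence on an open is local -/
theorem QCOn.iSup [H.IsQuasicoherent] {ι : Type*} (W : ι → X.Opens) (h : ∀ i, N.QCOn (W i)) :
    N.QCOn (⨆ i, W i) := by
  intro T hT hTW
  have hx : ∀ x : X, ∀ hxT : x ∈ T, ∃ (i : ι) (f : Γ(X, T)), X.basicOpen f ≤ W i ∧ x ∈ X.basicOpen f := by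
    intro x hxT
    obtain ⟨i, hi⟩ := Opens.mem_iSup.1 (hTW hxT)
    obtain ⟨f, hf1, hf2⟩ := hT.exists_basicOpen_le (V := W i) ⟨x, hi⟩ hxT
    exact ⟨i, f, hf1, hf2⟩
  choose i f hf1 hf2 using hx
  obtain ⟨t, ht⟩ := hT.isCompact.elim_nhds_subcover' (fun x hx => (X.basicOpen (f x hx) : Set X))
    (fun x hx => (X.basicOpen (f x hx)).isOpen.mem_nhds (hf2 x hx))
  refine extOn_of_cover (IsLocOn.of_isQuasicoherent hT H) (ι := t) (fun x => f x.1.1 x.1.2) ?_ ?_ ?_
  · intro x hx
    obtain ⟨y, hy, hxy⟩ := Set.mem_iUnion₂.1 (ht hx)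
    exact ⟨⟨y, hy⟩, hxy⟩
  · intro x
    exact IsLocOn.of_isQuasicoherent (hT.basicOpen _) H
  · intro x
    exact h (i x.1.1 x.1.2) _ (hT.basicOpen _) (hf1 x.1.1 x.1.2)

theorem QCOn.sup [H.IsQuasicoherent] {W W' : X.Opens} (h : N.QCOn W) (h' : N.QCOn W') : N.QCOn (W ⊔ W') := by
  have := QCOn.iSup (N := N) (fun b : Bool => if b then W else W') (fun b => by cases b <;> simpa)
  refine this.mono ?_
  rw [sup_le_iff]
  exact ⟨le_iSup (fun b : Bool => if b then W else W') true,
    le_iSup (fun b : Bool => if b then W else W') false⟩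

/-- the associated module localizes on `T` -/
theorem isLocOn_toModules {T : X.Opens} (hN : N.ExtOn T) (hH : IsLocOn H T) : IsLocOn N.toModules T := by
  constructor
  · intro f s
    obtain ⟨n, t, ht, e⟩ := hN f (N.sec _ s).1 (N.sec _ s).2
    refine ⟨n, N.mkSec T ⟨t, ht⟩, ?_⟩
    apply N.ι_app_injective
    rw [Scheme.Modules.Hom.app_smul]
    exact e
  · intro f t ht
    have h0 : res H (X.basicOpen_le f) (N.sec T t).1 = 0 := congrArg (N.ι.app _) ht
    obtain ⟨n, hn⟩ := hH.exists_pow_smul_eq_zero f _ h0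
    refine ⟨n, ?_⟩
    apply N.ι_app_injective
    rw [Scheme.Modules.Hom.app_smul]
    exact hn.trans (map_zero _).symm

theorem finite_iff_fg (T : X.Opens) : Module.Finite Γ(X, T) Γ(N.toModules, T) ↔ (N.carrier T).FG :=
  Module.Finite.iff_fg (N := N.carrier T)

/-- finite type on an open is local (for subsheaves quasi-coherent on the open) -/
theorem FTOn.iSup [H.IsQuasicoherent] {ι : Type*} (W : ι → X.Opens) (hq : ∀ i, N.QCOn (W i))
    (h : ∀ i, N.FTOn (W i)) : N.FTOn (⨆ i, W i) := by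
  intro T hT hTW
  have hx : ∀ x : X, ∀ hxT : x ∈ T, ∃ (i : ι) (f : Γ(X, T)), X.basicOpen f ≤ W i ∧ x ∈ X.basicOpen f := by
    intro x hxT
    obtain ⟨i, hi⟩ := Opens.mem_iSup.1 (hTW hxT)
    obtain ⟨f, hf1, hf2⟩ := hT.exists_basicOpen_le (V := W i) ⟨x, hi⟩ hxT
    exact ⟨i, f, hf1, hf2⟩
  rw [← N.finite_iff_fg]
  have hloc : IsLocOn N.toModules T :=
    isLocOn_toModules (QCOn.iSup W hq T hT hTW) (IsLocOn.of_isQuasicoherent hT H)
  refine Groth.Agent.Lib.Helper23.FinType.finite_of_basicOpen_cover hT N.toModules hloc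
    {f : Γ(X, T) | ∃ i, X.basicOpen f ≤ W i} ?_ ?_
  · rw [← hT.self_le_iSup_basicOpen_iff]
    intro x hxT
    obtain ⟨i, f, hf1, hf2⟩ := hx x hxT
    exact Opens.mem_iSup.2 ⟨⟨f, i, hf1⟩, hf2⟩
  · rintro f ⟨i, hf⟩
    rw [N.finite_iff_fg]
    exact h i _ (hT.basicOpen f) hf

theorem FTOn.sup [H.IsQuasicoherent] {W W' : X.Opens} (hq : N.QCOn W) (hq' : N.QCOn W')
    (h : N.FTOn W) (h' : N.FTOn W') : N.FTOn (W ⊔ W') := by
  have := FTOn.iSup (N := N) (fun b : Bool => if b then W else W') (fun b => by cases b <;> simpa)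
    (fun b => by cases b <;> simpa)
  refine this.mono ?_
  rw [sup_le_iff]
  exact ⟨le_iSup (fun b : Bool => if b then W else W') true,
    le_iSup (fun b : Bool => if b then W else W') false⟩

/-- a subsheaf quasi-coherent on the whole space gives a quasi-coherent module -/
theorem isQuasicoherent_toModules [H.IsQuasicoherent] (h : N.QCOn ⊤) : N.toModules.IsQuasicoherent :=
  isQuasicoherent_of_isLocOn _ fun T hT =>
    isLocOn_toModules (h T hT le_top) (IsLocOn.of_isQuasicoherent hT H)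

/-- a subsheaf quasi-coherent and of finite type on the whole space gives a module of finite type -/
theorem isFiniteType_toModules [H.IsQuasicoherent] (h : N.QCOn ⊤) (hf : N.FTOn ⊤) :
    SheafOfModules.IsFiniteType (R := X.ringCatSheaf) N.toModules := by
  have := isQuasicoherent_toModules h
  rw [Groth.Agent.Lib.Helper23.FinType.isFiniteType_iff_forall_affine]
  intro T hT
  rw [N.finite_iff_fg]
  exact hf T hT le_top

end SubSh

end Groth.Agent.Lib.Seat21.QSub
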