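import Mathlib
import Groth.Agent.Lib.Seat21SubShQC

/-!
# The subsheaf generated by a set of sections over an open (seat 21)

For a set `Q` of sections of `H` over an open `V`, `gen H V Q` is the subsheaf of `H` of the sections which, locally
on `V`, are linear combinations of restrictions of elements of `Q` (and are arbitrary outside of `V`).
If `H` is quasi-coherent, then over an affine open `T ≤ V` its sections are the span of the restrictions of `Q`
(`gen_carrier_eq_of_affine`), it is quasi-coherent on `V` (`qcOn_gen`) and of finite type on `V` if `Q` is finite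
(`ftOn_gen`).
-/

set_option autoImplicit false
universe u
open CategoryTheory Limits AlgebraicGeometry TopologicalSpace Opposite

noncomputable section

namespace Groth.Agent.Lib.Seat21.QSub

open Groth.Agent.Lib.Helper2.Push Groth.Agent.Lib.Helper23.QCohLocal

variable {X : Scheme.{u}}

/-- the span of the restrictions to `T` of a set of sections over `V` -/
def spanRes (H : X.Modules) {V : X.Opens} (Q : Set Γ(H, V)) (T : X.Opens) (h : T ≤ V) :
    Submodule Γ(X, T) Γ(H, T) :=
  Submodule.span Γ(X, T) ((res H h) '' Q)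

variable {H : X.Modules}

theorem res_mem_spanRes {V : X.Opens} (Q : Set Γ(H, V)) {T : X.Opens} (h : T ≤ V) {q : Γ(H, V)} (hq : q ∈ Q) :
    res H h q ∈ spanRes H Q T h :=
  Submodule.subset_span ⟨q, hq, rfl⟩

theorem spanRes_res {V : X.Opens} (Q : Set Γ(H, V)) {T T' : X.Opens} (h : T ≤ V) (h' : T' ≤ T)
    {s : Γ(H, T)} (hs : s ∈ spanRes H Q T h) : res H h' s ∈ spanRes H Q T' (h'.trans h) := by
  unfold spanRes at hs
  induction hs using Submodule.span_induction with
  | mem x hx =>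
    obtain ⟨q, hq, rfl⟩ := hx
    rw [res_res]
    exact res_mem_spanRes Q _ hq
  | zero => rw [res_zero]; exact Submodule.zero_mem _
  | add x y _ _ hx hy => rw [res_add]; exact Submodule.add_mem _ hx hy
  | smul r x _ hx => rw [res_smul]; exact Submodule.smul_mem _ _ hx

theorem spanRes_le_carrier {V : X.Opens} (Q : Set Γ(H, V)) (N : SubSh H) {W : X.Opens} (hW : W ≤ V)
    (hQ : ∀ q ∈ Q, res H hW q ∈ N.carrier W) {T : X.Opens} (h : T ≤ W) :
    spanRes H Q T (h.trans hW) ≤ N.carrier T := by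
  unfold spanRes
  rw [Submodule.span_le]
  rintro _ ⟨q, hq, rfl⟩
  have := N.res_mem h (hQ q hq)
  rwa [res_res] at this

/-- the subsheaf of `H` generated on `V` by a set of sections over `V` (no condition outside of `V`) -/
def gen (H : X.Modules) (V : X.Opens) (Q : Set Γ(H, V)) : SubSh H where
  carrier T :=
    { carrier := {s | ∀ x ∈ T, x ∈ V → ∃ (T' : X.Opens) (h1 : T' ≤ T) (h2 : T' ≤ V),
        x ∈ T' ∧ res H h1 s ∈ spanRes H Q T' h2}
      add_mem' := fun {a b} ha hb => by
        intro x hxT hxV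
        obtain ⟨Ta, ha1, ha2, hxa, hma⟩ := ha x hxT hxV
        obtain ⟨Tb, hb1, hb2, hxb, hmb⟩ := hb x hxT hxV
        refine ⟨Ta ⊓ Tb, inf_le_left.trans ha1, inf_le_left.trans ha2, ⟨hxa, hxb⟩, ?_⟩
        rw [res_add]
        refine Submodule.add_mem _ ?_ ?_
        · have := spanRes_res Q ha2 (inf_le_left : Ta ⊓ Tb ≤ Ta) hma
          rwa [res_res] at this
        · have := spanRes_res Q hb2 (inf_le_right : Ta ⊓ Tb ≤ Tb) hmb
          rwa [res_res] at this
      zero_mem' := by
        intro x hxT hxV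
        refine ⟨T ⊓ V, inf_le_left, inf_le_right, ⟨hxT, hxV⟩, ?_⟩
        rw [res_zero]
        exact Submodule.zero_mem _
      smul_mem' := fun r a ha => by
        intro x hxT hxV
        obtain ⟨Ta, ha1, ha2, hxa, hma⟩ := ha x hxT hxV
        refine ⟨Ta, ha1, ha2, hxa, ?_⟩
        rw [res_smul]
        exact Submodule.smul_mem _ _ hma }
  res_mem {T T₂} h s hs := by
    intro x hxT hxV
    obtain ⟨T', h1, h2, hx, hm⟩ := hs x (h hxT) hxV
    refine ⟨T' ⊓ T₂, inf_le_right, inf_le_left.trans h2, ⟨hx, hxT⟩, ?_⟩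
    have := spanRes_res Q h2 (inf_le_left : T' ⊓ T₂ ≤ T') hm
    rw [res_res] at this
    rw [res_res]
    exact this
  local_mem T s hs := by
    intro x hxT hxV
    obtain ⟨T₁, h, hx₁, hm⟩ := hs x hxT
    obtain ⟨T', h1, h2, hx, hm'⟩ := hm x hx₁ hxV
    refine ⟨T', h1.trans h, h2, hx, ?_⟩
    rw [res_res] at hm'
    exact hm'

theorem mem_gen_iff {V : X.Opens} (Q : Set Γ(H, V)) (T : X.Opens) (s : Γ(H, T)) :
    s ∈ (gen H V Q).carrier T ↔ ∀ x ∈ T, x ∈ V → ∃ (T' : X.Opens) (h1 : T' ≤ T) (h2 : T' ≤ V),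
        x ∈ T' ∧ res H h1 s ∈ spanRes H Q T' h2 := Iff.rfl

theorem spanRes_le_gen {V : X.Opens} (Q : Set Γ(H, V)) {T : X.Opens} (h : T ≤ V) :
    spanRes H Q T h ≤ (gen H V Q).carrier T := by
  intro s hs x hxT _
  refine ⟨T, le_rfl, h, hxT, ?_⟩
  rw [res_self]
  exact hs

/-- elements of the span of restrictions over a basic open extend after multiplication by a power -/
theorem spanRes_basicOpen_exists {V : X.Opens} (Q : Set Γ(H, V)) {T : X.Opens} (hT : IsAffineOpen T)
    (h : T ≤ V) (a : Γ(X, T)) (u : Γ(H, X.basicOpen a))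
    (hu : u ∈ spanRes H Q (X.basicOpen a) ((X.basicOpen_le a).trans h)) :
    ∃ (n : ℕ) (y : Γ(H, T)), y ∈ spanRes H Q T h ∧
      res H (X.basicOpen_le a) y = (resf X (X.basicOpen_le a) a) ^ n • u := by
  unfold spanRes at hu
  induction hu using Submodule.span_induction with
  | mem x hx =>
    obtain ⟨q, hq, rfl⟩ := hx
    refine ⟨0, res H h q, res_mem_spanRes Q h hq, ?_⟩
    rw [res_res, pow_zero, one_smul]
  | zero => exact ⟨0, 0, Submodule.zero_mem _, by rw [res_zero, smul_zero]⟩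
  | add x y _ _ hx hy =>
    obtain ⟨n1, y1, hy1, e1⟩ := hx
    obtain ⟨n2, y2, hy2, e2⟩ := hy
    refine ⟨n1 + n2, a ^ n2 • y1 + a ^ n1 • y2,
      Submodule.add_mem _ (Submodule.smul_mem _ _ hy1) (Submodule.smul_mem _ _ hy2), ?_⟩
    rw [res_add, res_smul, res_smul, e1, e2, resf_pow, resf_pow, smul_smul, smul_smul, smul_add, ← pow_add,
      ← pow_add, add_comm n2 n1]
  | smul r x _ hx =>
    obtain ⟨n, y, hy, e⟩ := hx
    have hloc := hT.isLocalization_basicOpen a
    obtain ⟨m, r', hr'⟩ := IsLocalization.Away.surj a r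
    have hr'' : r * (resf X (X.basicOpen_le a) a) ^ m = resf X (X.basicOpen_le a) r' := hr'
    refine ⟨m + n, r' • y, Submodule.smul_mem _ _ hy, ?_⟩
    rw [res_smul, e, ← hr'', smul_smul, smul_smul, pow_add]
    congr 1
    ring

/-- a section over an affine open whose restriction to a basic open is in the span of restrictions is in the span of
restrictions after multiplication by a power -/
theorem exists_pow_smul_mem_spanRes [H.IsQuasicoherent] {V : X.Opens} (Q : Set Γ(H, V)) {T : X.Opens}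
    (hT : IsAffineOpen T) (h : T ≤ V) (a : Γ(X, T)) (s : Γ(H, T))
    (hs : res H (X.basicOpen_le a) s ∈ spanRes H Q (X.basicOpen a) ((X.basicOpen_le a).trans h)) :
    ∃ n : ℕ, a ^ n • s ∈ spanRes H Q T h := by
  obtain ⟨n, y, hy, e⟩ := spanRes_basicOpen_exists Q hT h a _ hs
  have hH : IsLocOn H T := IsLocOn.of_isQuasicoherent hT H
  have h0 : res H (X.basicOpen_le a) (y - a ^ n • s) = 0 := by
    rw [res_sub, res_smul, e, resf_pow, sub_self]
  obtain ⟨m, hm⟩ := isLocOn_unique hH a _ rfl (X.basicOpen_le a) _ h0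
  refine ⟨m + n, ?_⟩
  rw [smul_sub, sub_eq_zero, smul_smul, ← pow_add] at hm
  rw [← hm]
  exact Submodule.smul_mem _ _ hy

/-- over an affine open contained in `V`, the sections of `gen H V Q` are the span of the restrictions of `Q` -/
theorem gen_carrier_eq_of_affine [H.IsQuasicoherent] {V : X.Opens} (Q : Set Γ(H, V)) {T : X.Opens}
    (hT : IsAffineOpen T) (h : T ≤ V) : (gen H V Q).carrier T = spanRes H Q T h := by
  refine le_antisymm ?_ (spanRes_le_gen Q h)
  intro s hs
  have hx : ∀ x : X, ∀ hxT : x ∈ T, ∃ a : Γ(X, T), x ∈ X.basicOpen a ∧ ∃ n : ℕ, a ^ n • s ∈ spanRes H Q T h := by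
    intro x hxT
    obtain ⟨T', h1, h2, hxT', hm⟩ := hs x hxT (h hxT)
    obtain ⟨a, ha1, ha2⟩ := hT.exists_basicOpen_le (V := T') ⟨x, hxT'⟩ hxT
    refine ⟨a, ha2, exists_pow_smul_mem_spanRes Q hT h a s ?_⟩
    have := spanRes_res Q h2 ha1 hm
    rwa [res_res] at this
  refine Submodule.mem_of_span_eq_top_of_smul_pow_mem _
    {a : Γ(X, T) | ∃ n : ℕ, a ^ n • s ∈ spanRes H Q T h} ?_ s (fun r => r.2)
  rw [← hT.self_le_iSup_basicOpen_iff]
  intro x hxT
  obtain ⟨a, ha, hn⟩ := hx x hxT
  exact Opens.mem_iSup.2 ⟨⟨a, hn⟩, ha⟩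

theorem qcOn_gen [H.IsQuasicoherent] {V : X.Opens} (Q : Set Γ(H, V)) : (gen H V Q).QCOn V := by
  intro T hT hTV g s hs
  rw [gen_carrier_eq_of_affine Q (hT.basicOpen g) ((X.basicOpen_le g).trans hTV)] at hs
  obtain ⟨n, y, hy, e⟩ := spanRes_basicOpen_exists Q hT hTV g s hs
  exact ⟨n, y, spanRes_le_gen Q hTV hy, e⟩

theorem ftOn_gen [H.IsQuasicoherent] {V : X.Opens} (Q : Set Γ(H, V)) (hQ : Q.Finite) : (gen H V Q).FTOn V := by
  intro T hT hTV
  rw [gen_carrier_eq_of_affine Q hT hTV]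
  exact Submodule.fg_span (hQ.image _)

end Groth.Agent.Lib.Seat21.QSub
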