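import Mathlib
import Groth.Agent.Lib.Seat21SubShGen

/-!
# One step of the extension of finite type quasi-coherent subsheaves (seat 21)

`exists_step`: if the subsheaf `N` of the quasi-coherent module `H` is quasi-coherent and of finite type on the open
`W`, and `V` is an affine open with `V ∩ W` quasi-compact, then there is a subsheaf `N'` with the same sections as `N`
over the opens contained in `W`, which is quasi-coherent and of finite type on `W ⊔ V`.
-/

set_option autoImplicit false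
universe u
open CategoryTheory Limits AlgebraicGeometry TopologicalSpace Opposite

noncomputable section

namespace Groth.Agent.Lib.Seat21.QSub

open Groth.Agent.Lib.Helper2.Push Groth.Agent.Lib.Helper23.QCohLocal

variable {X : Scheme.{u}} {H : X.Modules}

/-- a quasi-compact open subset of an affine open is a finite union of basic opens -/
theorem exists_finite_basicOpen_cover {V : X.Opens} (hV : IsAffineOpen V) (W : X.Opens)
    (hVW : IsCompact ((V : Set X) ∩ (W : Set X))) :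
    ∃ t : Finset Γ(X, V), (∀ g ∈ t, X.basicOpen g ≤ W) ∧
      ∀ x : X, x ∈ V → x ∈ W → ∃ g ∈ t, x ∈ X.basicOpen g := by
  classical
  have hx : ∀ x : X, ∀ hx : x ∈ (V : Set X) ∩ (W : Set X), ∃ f : Γ(X, V), X.basicOpen f ≤ W ∧ x ∈ X.basicOpen f :=
    fun x hx => hV.exists_basicOpen_le (V := W) ⟨x, hx.2⟩ hx.1
  choose f hf1 hf2 using hx
  obtain ⟨t, ht⟩ := hVW.elim_nhds_subcover' (fun x hx => (X.basicOpen (f x hx) : Set X))
    (fun x hx => (X.basicOpen (f x hx)).isOpen.mem_nhds (hf2 x hx))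
  refine ⟨t.image (fun x => f x.1 x.2), ?_, ?_⟩
  · intro g hg
    obtain ⟨x, -, rfl⟩ := Finset.mem_image.1 hg
    exact hf1 x.1 x.2
  · intro x hxV hxW
    obtain ⟨y, hy, hxy⟩ := Set.mem_iUnion₂.1 (ht ⟨hxV, hxW⟩)
    exact ⟨f y.1 y.2, Finset.mem_image.2 ⟨y, hy, rfl⟩, hxy⟩

theorem mem_of_isUnit_pow_smul_mem {R M : Type*} [CommRing R] [AddCommGroup M] [Module R M] (P : Submodule R M)
    {r : R} (hr : IsUnit r) (n : ℕ) {x : M} (h : r ^ n • x ∈ P) : x ∈ P :=
  (Submodule.smul_mem_iff_of_isUnit P (hr.pow n)).1 h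

theorem isUnit_resf_basicOpen {T : X.Opens} (a : Γ(X, T)) : IsUnit (resf X (X.basicOpen_le a) a) :=
  RingedSpace.isUnit_res_basicOpen X.toRingedSpace a

/-- lifting a section of `N` over a member of the cover to a section over `V` lying in `N` over `V ⊓ W` -/
theorem exists_lift_mem [H.IsQuasicoherent] (N : SubSh H) {W V : X.Opens} (hV : IsAffineOpen V)
    (hq : N.QCOn W) (t : Finset Γ(X, V)) (ht1 : ∀ g ∈ t, X.basicOpen g ≤ W)
    (ht2 : ∀ x : X, x ∈ V → x ∈ W → ∃ g ∈ t, x ∈ X.basicOpen g)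
    (g : Γ(X, V)) (s : Γ(H, X.basicOpen g)) (hs : s ∈ N.carrier (X.basicOpen g)) :
    ∃ (p : Γ(H, V)) (n : ℕ), res H (inf_le_left : V ⊓ W ≤ V) p ∈ N.carrier (V ⊓ W) ∧
      res H (X.basicOpen_le g) p = (resf X (X.basicOpen_le g) g) ^ n • s := by
  classical
  have hHV : IsLocOn H V := IsLocOn.of_isQuasicoherent hV H
  obtain ⟨n₀, p₀, hp₀⟩ := isLocOn_exists hHV g _ rfl (X.basicOpen_le g) s
  have key : ∀ g' ∈ t, ∃ m : ℕ, ∀ m' : ℕ, m ≤ m' →
      (resf X (X.basicOpen_le g') g) ^ m' • res H (X.basicOpen_le g') p₀ ∈ N.carrier (X.basicOpen g') := by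
    intro g' hg'
    set gi : Γ(X, X.basicOpen g') := resf X (X.basicOpen_le g') g with hgi
    have hD : X.basicOpen g' ⊓ X.basicOpen g = X.basicOpen gi :=
      (X.basicOpen_res g (homOfLE (X.basicOpen_le g')).op).symm
    have hmem : res H (inf_le_left : X.basicOpen g' ⊓ X.basicOpen g ≤ X.basicOpen g')
        (res H (X.basicOpen_le g') p₀) ∈ N.carrier (X.basicOpen g' ⊓ X.basicOpen g) := by
      have e1 : res H (inf_le_left : X.basicOpen g' ⊓ X.basicOpen g ≤ X.basicOpen g')
          (res H (X.basicOpen_le g') p₀) =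
          res H (inf_le_right : X.basicOpen g' ⊓ X.basicOpen g ≤ X.basicOpen g)
            (res H (X.basicOpen_le g) p₀) := by
        rw [res_res, res_res]
      rw [e1, hp₀, res_smul]
      exact (N.carrier _).smul_mem _ (N.res_mem _ hs)
    obtain ⟨m, hm⟩ := (hq _ (hV.basicOpen g') (ht1 g' hg')).exists_pow_smul_mem
      (IsLocOn.of_isQuasicoherent (hV.basicOpen g') H) gi _ hD inf_le_left _ hmem
    refine ⟨m, fun m' hm' => ?_⟩
    obtain ⟨k, rfl⟩ := Nat.exists_eq_add_of_le hm'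
    rw [add_comm, pow_add, mul_smul]
    exact (N.carrier _).smul_mem _ hm
  choose! m hm using key
  set M : ℕ := t.sup m with hM
  refine ⟨g ^ M • p₀, M + n₀, ?_, ?_⟩
  · apply N.local_mem
    intro x hx
    obtain ⟨g', hg', hxg'⟩ := ht2 x hx.1 hx.2
    refine ⟨X.basicOpen g', le_inf (X.basicOpen_le g') (ht1 g' hg'), hxg', ?_⟩
    rw [res_res, res_smul, resf_pow]
    exact hm g' hg' M (Finset.le_sup hg')
  · rw [res_smul, hp₀, resf_pow, smul_smul, ← pow_add]

/-- **One step of the extension**: enlarging by an affine open the open on which a subsheaf of a quasi-coherent module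
is quasi-coherent of finite type, without changing it on the original open. -/
theorem exists_step [H.IsQuasicoherent] (N : SubSh H) (W V : X.Opens) (hV : IsAffineOpen V)
    (hVW : IsCompact ((V : Set X) ∩ (W : Set X))) (hq : N.QCOn W) (hf : N.FTOn W) :
    ∃ N' : SubSh H, SubSh.AgreeOn N' N W ∧ N'.QCOn (W ⊔ V) ∧ N'.FTOn (W ⊔ V) := by
  classical
  obtain ⟨t, ht1, ht2⟩ := exists_finite_basicOpen_cover hV W hVW
  -- generators over the members of the cover
  have hgen : ∀ g : t, ∃ S : Set Γ(H, X.basicOpen g.1), S.Finite ∧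
      Submodule.span Γ(X, X.basicOpen g.1) S = N.carrier (X.basicOpen g.1) := fun g =>
    Submodule.fg_def.1 (hf _ (hV.basicOpen g.1) (ht1 g.1 g.2))
  choose S hSfin hSspan using hgen
  have hlift : ∀ (g : t) (s : S g), ∃ (p : Γ(H, V)) (n : ℕ),
      res H (inf_le_left : V ⊓ W ≤ V) p ∈ N.carrier (V ⊓ W) ∧
      res H (X.basicOpen_le g.1) p = (resf X (X.basicOpen_le g.1) g.1) ^ n • s.1 := fun g s =>
    exists_lift_mem N hV hq t ht1 ht2 g.1 s.1 (by rw [← hSspan g]; exact Submodule.subset_span s.2)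
  choose p n hp1 hp2 using hlift
  have : ∀ g : t, Finite (S g) := fun g => (hSfin g).to_subtype
  let Q' : Set Γ(H, V) := Set.range (fun gs : (Σ g : t, S g) => p gs.1 gs.2)
  have hQ'fin : Q'.Finite := Set.finite_range _
  have hQ'a : ∀ q ∈ Q', res H (inf_le_left : V ⊓ W ≤ V) q ∈ N.carrier (V ⊓ W) := by
    rintro _ ⟨gs, rfl⟩
    exact hp1 gs.1 gs.2
  have hQ'b : ∀ g : t, N.carrier (X.basicOpen g.1) ≤ spanRes H Q' (X.basicOpen g.1) (X.basicOpen_le g.1) := by
    intro g
    rw [← hSspan g, Submodule.span_le]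
    intro s hs
    have h1 : res H (X.basicOpen_le g.1) (p g ⟨s, hs⟩) ∈ spanRes H Q' (X.basicOpen g.1) (X.basicOpen_le g.1) :=
      res_mem_spanRes Q' _ ⟨⟨g, ⟨s, hs⟩⟩, rfl⟩
    rw [hp2 g ⟨s, hs⟩] at h1
    exact mem_of_isUnit_pow_smul_mem _ (isUnit_resf_basicOpen g.1) _ h1
  -- agreement on the intersection
  have hagree : SubSh.AgreeOn N (gen H V Q') (W ⊓ V) := by
    intro T hT
    have hTV : T ≤ V := hT.trans inf_le_right
    have hTW : T ≤ W := hT.trans inf_le_left
    apply le_antisymm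
    · intro s hs x hxT hxV
      obtain ⟨g, hg, hxg⟩ := ht2 x hxV (hTW hxT)
      have hD : IsAffineOpen (X.basicOpen g) := hV.basicOpen g
      obtain ⟨a, ha1, ha2⟩ := hD.exists_basicOpen_le (V := T) ⟨x, hxT⟩ hxg
      refine ⟨X.basicOpen a, ha1, (X.basicOpen_le a).trans (X.basicOpen_le g), ha2, ?_⟩
      obtain ⟨k, y, hy, e⟩ := (hq _ hD (ht1 g hg)) a (res H ha1 s) (N.res_mem ha1 hs)
      have hy' := hQ'b ⟨g, hg⟩ hy
      have := spanRes_res Q' (X.basicOpen_le g) (X.basicOpen_le a) hy'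
      rw [e] at this
      exact mem_of_isUnit_pow_smul_mem _ (isUnit_resf_basicOpen a) _ this
    · intro s hs
      apply N.local_mem
      intro x hxT
      obtain ⟨T', h1, h2, hxT', hm⟩ := hs x hxT (hTV hxT)
      refine ⟨T', h1, hxT', ?_⟩
      have hle : T' ≤ V ⊓ W := le_inf h2 (h1.trans hTW)
      exact spanRes_le_carrier Q' N inf_le_left hQ'a hle hm
  -- glueing
  let Wb : Bool → X.Opens := fun b => cond b W V
  let Mb : Bool → SubSh H := fun b => cond b N (gen H V Q')
  have hcomp : ∀ i j, SubSh.AgreeOn (Mb i) (Mb j) (Wb i ⊓ Wb j) := by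
    intro i j
    cases i <;> cases j
    · exact SubSh.AgreeOn.refl _ _
    · exact (hagree.mono (le_of_eq (inf_comm _ _))).symm
    · exact hagree
    · exact SubSh.AgreeOn.refl _ _
  let N' : SubSh H := SubSh.iInf fun j => (Mb j).sat (Wb j)
  have hN'W : SubSh.AgreeOn N' N W := SubSh.agreeOn_iInf_sat Wb Mb hcomp true
  have hN'V : SubSh.AgreeOn N' (gen H V Q') V := SubSh.agreeOn_iInf_sat Wb Mb hcomp false
  have hqW : N'.QCOn W := hq.of_agreeOn hN'W.symm
  have hqV : N'.QCOn V := (qcOn_gen Q').of_agreeOn hN'V.symm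
  refine ⟨N', hN'W, hqW.sup hqV, SubSh.FTOn.sup hqW hqV (hf.of_agreeOn hN'W.symm) ?_⟩
  exact (ftOn_gen Q' hQ'fin).of_agreeOn hN'V.symm

end Groth.Agent.Lib.Seat21.QSub
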