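import Mathlib
import Groth.Agent.Lib.Seat21SubShStep
import Groth.Agent.Lib.Helper23Extend2

/-!
# Extension of finite type quasi-coherent subsheaves along a well-ordered affine cover (seat 21)

EGA I 9.4.7-type statement without quasi-compactness of the scheme: `X` has a cover by affine opens `V l` indexed by
a well-ordered set, such that `V l ∩ ⋃_{m<l} V m` is quasi-compact for all `l`, and `U` is an open with `V l ∩ U`
quasi-compact for all `l`.

* `exists_subSh`: a subsheaf of `H`, quasi-coherent of finite type on `U`, can be modified outside of `U` to a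
  quasi-coherent subsheaf of finite type.
* `exists_sub_isFiniteType_wellOrdered`: if `H` is of finite type on `U` there is a quasi-coherent finite type submodule of
  `H` equal to `H` on `U`.
-/

set_option autoImplicit false
universe u v
open CategoryTheory Limits AlgebraicGeometry TopologicalSpace Opposite

noncomputable section

namespace Groth.Agent.Lib.Seat21.QSub

open Groth.Agent.Lib.Helper2.Push Groth.Agent.Lib.Helper23.QCohLocal

variable {X : Scheme.{u}} {H : X.Modules} {L : Type v}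

/-- the open `U ⊔ ⨆_{m ∈ I} V m` -/
def WI (V : L → X.Opens) (U : X.Opens) (I : Set L) : X.Opens := U ⊔ ⨆ m : I, V m.1

theorem le_WI (V : L → X.Opens) (U : X.Opens) (I : Set L) : U ≤ WI V U I := le_sup_left

theorem le_WI_of_mem (V : L → X.Opens) (U : X.Opens) {I : Set L} {m : L} (hm : m ∈ I) : V m ≤ WI V U I :=
  le_sup_of_le_right (le_iSup (fun m : I => V m.1) ⟨m, hm⟩)

theorem WI_le_iff (V : L → X.Opens) (U : X.Opens) (I : Set L) (T : X.Opens) :
    WI V U I ≤ T ↔ U ≤ T ∧ ∀ m ∈ I, V m ≤ T := by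
  unfold WI
  rw [sup_le_iff, iSup_le_iff]
  exact ⟨fun h => ⟨h.1, fun m hm => h.2 ⟨m, hm⟩⟩, fun h => ⟨h.1, fun m => h.2 m.1 m.2⟩⟩

theorem WI_mono (V : L → X.Opens) (U : X.Opens) {I I' : Set L} (h : I ⊆ I') : WI V U I ≤ WI V U I' := by
  rw [WI_le_iff]
  exact ⟨le_WI V U I', fun m hm => le_WI_of_mem V U (h hm)⟩

/-- a stage of the transfinite construction -/
structure Stage (H : X.Modules) (V : L → X.Opens) (U : X.Opens) (N₀ : SubSh H) [LE L] where
  /-- the set of indices already treated -/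
  I : Set L
  lower : ∀ m l : L, l ∈ I → m ≤ l → m ∈ I
  /-- the subsheaf -/
  N : SubSh H
  agree : SubSh.AgreeOn N N₀ U
  qc : N.QCOn (WI V U I)
  ft : N.FTOn (WI V U I)

instance (V : L → X.Opens) (U : X.Opens) (N₀ : SubSh H) [LE L] : Preorder (Stage H V U N₀) where
  le s s' := s.I ⊆ s'.I ∧ SubSh.AgreeOn s'.N s.N (WI V U s.I)
  le_refl s := ⟨subset_rfl, SubSh.AgreeOn.refl _ _⟩
  le_trans s s' s'' h h' := ⟨h.1.trans h'.1, (h'.2.mono (WI_mono V U h.1)).trans h.2⟩

theorem Stage.le_def {V : L → X.Opens} {U : X.Opens} {N₀ : SubSh H} [LE L] (s s' : Stage H V U N₀) :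
    s ≤ s' ↔ s.I ⊆ s'.I ∧ SubSh.AgreeOn s'.N s.N (WI V U s.I) := Iff.rfl

/-- **Extension of subsheaves along a well-ordered affine cover.** -/
theorem exists_subSh [LinearOrder L] [WellFoundedLT L] [H.IsQuasicoherent]
    (V : L → X.Opens) (hV : ∀ l, IsAffineOpen (V l)) (hcov : ⨆ l, V l = ⊤)
    (hW : ∀ l, IsCompact ((V l : Set X) ∩ ⋃ m ∈ Set.Iio l, (V m : Set X)))
    (U : X.Opens) (hU : ∀ l, IsCompact ((V l : Set X) ∩ (U : Set X)))
    (N₀ : SubSh H) (hq : N₀.QCOn U) (hf : N₀.FTOn U) :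
    ∃ N : SubSh H, SubSh.AgreeOn N N₀ U ∧ N.QCOn ⊤ ∧ N.FTOn ⊤ := by
  classical
  have hWempty : WI V U (∅ : Set L) ≤ U := by
    rw [WI_le_iff]
    exact ⟨le_rfl, fun m hm => (Set.notMem_empty m hm).elim⟩
  have hne : Nonempty (Stage H V U N₀) :=
    ⟨⟨∅, fun m l hl _ => (Set.notMem_empty l hl).elim, N₀, SubSh.AgreeOn.refl _ _, hq.mono hWempty, hf.mono hWempty⟩⟩
  have hchain : ∀ c : Set (Stage H V U N₀), IsChain (· ≤ ·) c → c.Nonempty → BddAbove c := by
    intro c hc hcne
    obtain ⟨s0, hs0⟩ := hcne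
    let Wc : c → X.Opens := fun s => WI V U s.1.I
    let Mc : c → SubSh H := fun s => s.1.N
    have hcomp : ∀ s s' : c, SubSh.AgreeOn (Mc s) (Mc s') (Wc s ⊓ Wc s') := by
      intro s s'
      rcases hc.total s.2 s'.2 with h | h
      · exact (h.2.mono inf_le_left).symm
      · exact h.2.mono inf_le_right
    let N' : SubSh H := SubSh.iInf fun s : c => (Mc s).sat (Wc s)
    have hag : ∀ s : c, SubSh.AgreeOn N' s.1.N (WI V U s.1.I) := fun s =>
      SubSh.agreeOn_iInf_sat Wc Mc hcomp s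
    let I' : Set L := ⋃ s ∈ c, Stage.I s
    have hWle : WI V U I' ≤ ⨆ s : c, Wc s := by
      rw [WI_le_iff]
      refine ⟨(le_WI V U s0.I).trans (le_iSup Wc ⟨s0, hs0⟩), fun m hm => ?_⟩
      obtain ⟨s, hs, hms⟩ := Set.mem_iUnion₂.1 hm
      exact (le_WI_of_mem V U hms).trans (le_iSup Wc ⟨s, hs⟩)
    have hqc : ∀ s : c, N'.QCOn (Wc s) := fun s => s.1.qc.of_agreeOn (hag s).symm
    refine ⟨⟨I', ?_, N', ((hag ⟨s0, hs0⟩).mono (le_WI V U s0.I)).trans s0.agree,
      (SubSh.QCOn.iSup Wc hqc).mono hWle,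
      (SubSh.FTOn.iSup Wc hqc (fun s => s.1.ft.of_agreeOn (hag s).symm)).mono hWle⟩, ?_⟩
    · intro m l hl hml
      obtain ⟨s, hs, hls⟩ := Set.mem_iUnion₂.1 hl
      exact Set.mem_iUnion₂.2 ⟨s, hs, s.lower m l hls hml⟩
    · intro s hs
      exact ⟨Set.subset_biUnion_of_mem (u := Stage.I) hs, hag ⟨s, hs⟩⟩
  obtain ⟨s, hs⟩ := zorn_le_nonempty hchain
  by_cases hI : s.I = Set.univ
  · have htop : (⊤ : X.Opens) ≤ WI V U s.I := by
      rw [← hcov, iSup_le_iff]
      intro l
      exact le_WI_of_mem V U (by rw [hI]; exact Set.mem_univ l)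
    exact ⟨s.N, s.agree, s.qc.mono htop, s.ft.mono htop⟩
  · exfalso
    have hcne : (s.Iᶜ).Nonempty := Set.nonempty_compl.2 hI
    let l := WellFounded.min (wellFounded_lt (α := L)) _ hcne
    have hl : l ∉ s.I := WellFounded.min_mem (wellFounded_lt (α := L)) _ hcne
    have hlt : ∀ m, m < l → m ∈ s.I := fun m hm => by
      by_contra h
      exact WellFounded.not_lt_min (wellFounded_lt (α := L)) _ (show m ∈ s.Iᶜ from h) hm
    have hIlt : ∀ m, m ∈ s.I → m < l := fun m hm => by
      by_contra h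
      exact hl (s.lower l m hm (not_lt.1 h))
    have hcpt : IsCompact ((V l : Set X) ∩ (WI V U s.I : Set X)) := by
      have : (V l : Set X) ∩ (WI V U s.I : Set X) =
          ((V l : Set X) ∩ (U : Set X)) ∪ ((V l : Set X) ∩ ⋃ m ∈ Set.Iio l, (V m : Set X)) := by
        ext x
        constructor
        · rintro ⟨hxl, hx⟩
          rcases hx with hx | hx
          · exact Or.inl ⟨hxl, hx⟩
          · obtain ⟨m, hm⟩ := Opens.mem_iSup.1 hx
            exact Or.inr ⟨hxl, Set.mem_iUnion₂.2 ⟨m.1, hIlt m.1 m.2, hm⟩⟩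
        · rintro (⟨hxl, hx⟩ | ⟨hxl, hx⟩)
          · exact ⟨hxl, le_WI V U s.I hx⟩
          · obtain ⟨m, hm, hxm⟩ := Set.mem_iUnion₂.1 hx
            exact ⟨hxl, le_WI_of_mem V U (hlt m hm) hxm⟩
      rw [this]
      exact (hU l).union (hW l)
    obtain ⟨N', ha, hq', hf'⟩ := exists_step s.N (WI V U s.I) (V l) (hV l) hcpt s.qc s.ft
    have hle' : WI V U (insert l s.I) ≤ WI V U s.I ⊔ V l := by
      rw [WI_le_iff]
      refine ⟨le_sup_of_le_left (le_WI V U s.I), fun m hm => ?_⟩
      rcases Set.mem_insert_iff.1 hm with rfl | hm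
      · exact le_sup_right
      · exact le_sup_of_le_left (le_WI_of_mem V U hm)
    let s' : Stage H V U N₀ :=
      ⟨insert l s.I, fun m k hk hmk => by
          rcases Set.mem_insert_iff.1 hk with rfl | hk
          · rcases hmk.lt_or_eq with h | h
            · exact Set.mem_insert_of_mem _ (hlt m h)
            · exact h ▸ Set.mem_insert _ _
          · exact Set.mem_insert_of_mem _ (s.lower m k hk hmk),
        N', (ha.mono (le_WI V U s.I)).trans s.agree, hq'.mono hle', hf'.mono hle'⟩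
    have hle : s ≤ s' := ⟨Set.subset_insert _ _, ha⟩
    exact hl ((hs hle).1 (Set.mem_insert _ _))

theorem qcOn_top (H : X.Modules) [H.IsQuasicoherent] (U : X.Opens) : (SubSh.top H).QCOn U := by
  intro T hT _ g s _
  obtain ⟨n, t, ht⟩ := isLocOn_exists (IsLocOn.of_isQuasicoherent hT H) g _ rfl (X.basicOpen_le g) s
  exact ⟨n, t, Submodule.mem_top, ht⟩

theorem ftOn_top (H : X.Modules) (U : X.Opens) (hH : Groth.Agent.Lib.Helper23.Extend.FTOn H U) :
    (SubSh.top H).FTOn U := by
  intro T hT hTU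
  have := hH T hT hTU
  exact Module.Finite.fg_top

open Groth.Agent.Lib.Helper23.Extend in
/-- a quasi-coherent finite type subsheaf which has all sections of `H` over the opens contained in `U` gives a
quasi-coherent finite type submodule, isomorphic to `H` on `U` -/
theorem exists_sub_of_subSh (H : X.Modules) [H.IsQuasicoherent] (U : X.Opens) (N : SubSh H)
    (ha : SubSh.AgreeOn N (SubSh.top H) U) (hNq : N.QCOn ⊤) (hNf : N.FTOn ⊤) :
    ∃ (F : X.Modules) (ψ : F ⟶ H), Mono ψ ∧ F.IsQuasicoherent ∧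
      SheafOfModules.IsFiniteType (R := X.ringCatSheaf) F ∧ IsoOn ψ U := by
  refine ⟨N.toModules, N.ι, inferInstance, SubSh.isQuasicoherent_toModules hNq,
    SubSh.isFiniteType_toModules hNq hNf, ?_⟩
  intro W' hW'
  rw [ConcreteCategory.isIso_iff_bijective]
  refine ⟨N.ι_app_injective W', fun s => ?_⟩
  have hs : s ∈ N.carrier W' := by
    rw [ha W' hW']
    exact Submodule.mem_top
  exact ⟨N.mkSec W' ⟨s, hs⟩, rfl⟩

open Groth.Agent.Lib.Helper23.Extend in
/-- **Extension of finite type quasi-coherent submodules along a well-ordered affine cover** (EGA I 9.4.7): if `H` is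
quasi-coherent and of finite type on the open `U`, then `H` has a quasi-coherent submodule of finite type which agrees
with `H` on `U`. -/
theorem exists_sub_isFiniteType_wellOrdered [LinearOrder L] [WellFoundedLT L] (H : X.Modules) [H.IsQuasicoherent]
    (V : L → X.Opens) (hV : ∀ l, IsAffineOpen (V l)) (hcov : ⨆ l, V l = ⊤)
    (hW : ∀ l, IsCompact ((V l : Set X) ∩ ⋃ m ∈ Set.Iio l, (V m : Set X)))
    (U : X.Opens) (hU : ∀ l, IsCompact ((V l : Set X) ∩ (U : Set X)))
    (hH : Groth.Agent.Lib.Helper23.Extend.FTOn H U) :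
    ∃ (F : X.Modules) (ψ : F ⟶ H), Mono ψ ∧ F.IsQuasicoherent ∧
      SheafOfModules.IsFiniteType (R := X.ringCatSheaf) F ∧ IsoOn ψ U := by
  obtain ⟨N, ha, hNq, hNf⟩ := exists_subSh V hV hcov hW U hU (SubSh.top H) (qcOn_top H U) (ftOn_top H U hH)
  exact exists_sub_of_subSh H U N ha hNq hNf

end Groth.Agent.Lib.Seat21.QSub
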