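import Mathlib
import Groth.Agent.Lib.Seat21SubShZorn

/-!
# Extension of finite type quasi-coherent subsheaves on schemes with locally Noetherian underlying space (seat 21)

* `isCompact_of_subset_isAffineOpen`: all subsets of an affine open are quasi-compact.
* `quasiCompact_ι_of_locallyNoetherian`: open immersions into `X` are quasi-compact.
* `exists_subSh_of_locallyNoetherian`, `exists_sub_isFiniteType_of_locallyNoetherian`: EGA I 9.4.7, case a).
-/

set_option autoImplicit false
universe u
open CategoryTheory Limits AlgebraicGeometry TopologicalSpace Opposite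

noncomputable section

namespace Groth.Agent.Lib.Seat21.QSub

open Groth.Agent.Lib.Helper2.Push Groth.Agent.Lib.Helper23.QCohLocal

variable {X : Scheme.{u}}

/-- on a scheme with locally Noetherian underlying space all subsets of a quasi-compact open are quasi-compact -/
theorem isCompact_of_subset_isCompact
    (hX : ∀ x : X, ∃ U : X.Opens, x ∈ U ∧ NoetherianSpace (U : Set X))
    {T : Set X} (hT : IsCompact T) {t : Set X} (ht : t ⊆ T) : IsCompact t := by
  choose Ux hxU hN using hX
  obtain ⟨t0, -, hcov⟩ := hT.elim_nhds_subcover (fun x => (Ux x : Set X))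
    (fun x _ => (Ux x).isOpen.mem_nhds (hxU x))
  have : ∀ i : t0, NoetherianSpace ((Ux i.1 : X.Opens) : Set X) := fun i => hN i.1
  have h := NoetherianSpace.iUnion (fun i : t0 => ((Ux i.1 : X.Opens) : Set X))
  refine (noetherianSpace_set_iff _).1 h t (ht.trans (hcov.trans ?_))
  intro x hx
  obtain ⟨y, hy, hxy⟩ := Set.mem_iUnion₂.1 hx
  exact Set.mem_iUnion.2 ⟨⟨y, hy⟩, hxy⟩

theorem isCompact_of_subset_isAffineOpen
    (hX : ∀ x : X, ∃ U : X.Opens, x ∈ U ∧ NoetherianSpace (U : Set X))
    {T : X.Opens} (hT : IsAffineOpen T) {t : Set X} (ht : t ⊆ T) : IsCompact t :=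
  isCompact_of_subset_isCompact hX hT.isCompact ht

/-- on a scheme with locally Noetherian underlying space the open immersions are quasi-compact -/
theorem quasiCompact_ι_of_locallyNoetherian
    (hX : ∀ x : X, ∃ U : X.Opens, x ∈ U ∧ NoetherianSpace (U : Set X)) (U : X.Opens) : QuasiCompact U.ι := by
  rw [quasiCompact_iff_forall_isAffineOpen]
  intro T hT
  rw [U.ι.isOpenEmbedding.isInducing.isCompact_iff]
  exact isCompact_of_subset_isAffineOpen hX hT (by
    rintro _ ⟨y, hy, rfl⟩
    exact hy)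

variable {H : X.Modules}

/-- EGA I 9.4.7, case a), for sectionwise subsheaves -/
theorem exists_subSh_of_locallyNoetherian [H.IsQuasicoherent]
    (hX : ∀ x : X, ∃ U : X.Opens, x ∈ U ∧ NoetherianSpace (U : Set X))
    (U : X.Opens) (N₀ : SubSh H) (hq : N₀.QCOn U) (hf : N₀.FTOn U) :
    ∃ N : SubSh H, SubSh.AgreeOn N N₀ U ∧ N.QCOn ⊤ ∧ N.FTOn ⊤ := by
  let L : Type u := X.affineOpens
  obtain ⟨inst, hwf⟩ := exists_wellFoundedLT L
  refine exists_subSh (L := L) (fun l => l.1) (fun l => l.2) ?_ ?_ U ?_ N₀ hq hf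
  · rw [eq_top_iff]
    intro x _
    obtain ⟨W, hW, hxW, -⟩ := exists_isAffineOpen_mem_and_subset (x := x) (U := ⊤) trivial
    exact Opens.mem_iSup.2 ⟨⟨W, hW⟩, hxW⟩
  · intro l
    exact isCompact_of_subset_isAffineOpen hX l.2 Set.inter_subset_left
  · intro l
    exact isCompact_of_subset_isAffineOpen hX l.2 Set.inter_subset_left

open Groth.Agent.Lib.Helper23.Extend in
/-- EGA I 9.4.7, case a): if `H` is quasi-coherent and of finite type on the open `U`, then `H` has a quasi-coherent
submodule of finite type which agrees with `H` on `U`. -/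
theorem exists_sub_isFiniteType_of_locallyNoetherian
    (hX : ∀ x : X, ∃ U : X.Opens, x ∈ U ∧ NoetherianSpace (U : Set X))
    (H : X.Modules) [H.IsQuasicoherent] (U : X.Opens) (hH : Groth.Agent.Lib.Helper23.Extend.FTOn H U) :
    ∃ (F : X.Modules) (ψ : F ⟶ H), Mono ψ ∧ F.IsQuasicoherent ∧
      SheafOfModules.IsFiniteType (R := X.ringCatSheaf) F ∧ IsoOn ψ U := by
  obtain ⟨N, ha, hNq, hNf⟩ := exists_subSh_of_locallyNoetherian hX U (SubSh.top H) (qcOn_top H U) (ftOn_top H U hH)
  exact exists_sub_of_subSh H U N ha hNq hNf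

/-- a quasi-coherent finite type subsheaf through a given section over an affine open -/
theorem exists_subSh_mem_of_locallyNoetherian [H.IsQuasicoherent]
    (hX : ∀ x : X, ∃ U : X.Opens, x ∈ U ∧ NoetherianSpace (U : Set X))
    (U : X.Opens) (Q : Set Γ(H, U)) (hQ : Q.Finite) :
    ∃ N : SubSh H, N.QCOn ⊤ ∧ N.FTOn ⊤ ∧ ∀ q ∈ Q, q ∈ N.carrier U := by
  obtain ⟨N, ha, hNq, hNf⟩ := exists_subSh_of_locallyNoetherian hX U (gen H U Q) (qcOn_gen Q) (ftOn_gen Q hQ)
  refine ⟨N, hNq, hNf, fun q hq => ?_⟩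
  rw [ha U le_rfl]
  apply spanRes_le_gen Q le_rfl
  have := res_mem_spanRes Q (le_refl U) hq
  rwa [res_self] at this

end Groth.Agent.Lib.Seat21.QSub
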