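import Mathlib
import Groth.Prelude.Def_Algz
import Groth.Agent.S8821
import Groth.Agent.S2252
import Groth.Agent.Lib.Seat76ComplChar
import Groth.Agent.Lib.Helper20FormalPull
import Groth.Agent.Lib.Helper23QCohAbelian
import Groth.Agent.Lib.Helper23FinTypeLocal

/-!
# Completion of a coherent module is a coherent formal module; completion commutes with restriction
to opens (seat 17)

* `isCohFormal_completion` : for `F` coherent, `Formal.completion I F` satisfies `Formal.IsCohFormal I`.
* `nonempty_completion_iso_restrict` : for an open immersion `j : Y ⟶ X` over `Spec A` and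
  `F'|_Y ≅ F`, the system `(F/I^(n+1)F)` is isomorphic to the restriction of `(F'/I^(n+1)F')`.
* `extends_of_completion_iso` : Stacks-type statement "a completion of a coherent module on an open of
  a Noetherian affine scheme extends".
-/

set_option autoImplicit false
set_option linter.style.haveILetI false
set_option linter.unusedSectionVars false
universe u
open CategoryTheory CategoryTheory.Limits AlgebraicGeometry TopologicalSpace Opposite

namespace Groth.Agent.Lib.Seat17.ComplRestr

open Groth.Agent.S8821 Groth.Agent.Lib.Helper23.QCohLocal Groth.Agent.Lib.Helper23.FinType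
  Groth.Agent.Lib.Helper20.FormalPull

section completion

variable {A : Type u} [CommRing A] {X : Scheme.{u}} [X.Over (Spec (CommRingCat.of A))]

theorem isQuasicoherent_sigma (J : Ideal A) (M : X.Modules) [hM : M.IsQuasicoherent] :
    (∐ fun _ : J => M).IsQuasicoherent :=
  isQuasicoherent_colimit (Discrete.functor fun _ : J => M) (fun _ => hM)

theorem isCoh_modPow (I : Ideal A) (n : ℕ) (F : X.Modules) (hF : Coh.IsCoh F) :
    Coh.IsCoh (Formal.modPow I n F) := by
  haveI : F.IsQuasicoherent := hF.1
  haveI : SheafOfModules.IsFiniteType (R := X.ringCatSheaf) F := hF.2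
  haveI := isQuasicoherent_sigma (I ^ n) F
  have hq : (Formal.modPow I n F).IsQuasicoherent := isQuasicoherent_cokernel _
  refine ⟨hq, ?_⟩
  haveI := hq
  exact isFiniteType_of_epi (Formal.modPowπ I n F)

theorem killedBy_modPow (I : Ideal A) (n : ℕ) (F : X.Modules) :
    Formal.KilledBy (I ^ n) (Formal.modPow I n F) := by
  intro a ha
  rw [← cancel_epi (Formal.modPowπ I n F), ← smulMod_comp, comp_zero]
  exact smulMod_π_of_mem _ F a ha

/-- `cokernel.desc` typed with `Formal.modPow`. -/
noncomputable def modPowDesc (I : Ideal A) (n : ℕ) (F : X.Modules) {T : X.Modules} (g : F ⟶ T)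
    (hg : Formal.smulFamily (I ^ n) F ≫ g = 0) : Formal.modPow I n F ⟶ T :=
  cokernel.desc _ g hg

theorem modPowπ_desc (I : Ideal A) (n : ℕ) (F : X.Modules) {T : X.Modules} (g : F ⟶ T)
    (hg : Formal.smulFamily (I ^ n) F ≫ g = 0) :
    Formal.modPowπ I n F ≫ modPowDesc I n F g hg = g :=
  cokernel.π_desc _ _ _

theorem isIso_desc_modPowTrans (I : Ideal A) (n : ℕ) (F : X.Modules) :
    ∃ h : Formal.smulFamily (I ^ n) (Formal.modPow I (n + 1) F) ≫ Formal.modPowTrans I n F = 0,
      IsIso (cokernel.desc _ _ h) := by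
  have h : Formal.smulFamily (I ^ n) (Formal.modPow I (n + 1) F) ≫ Formal.modPowTrans I n F = 0 := by
    rw [smulFamily_comp_eq_zero_iff]
    intro a ha
    rw [← cancel_epi (Formal.modPowπ I (n + 1) F), ← Category.assoc, ← smulMod_comp,
      Category.assoc, Formal.modPowπ_trans, comp_zero]
    exact smulMod_π_of_mem _ F a ha
  refine ⟨h, ?_⟩
  have key : ∀ {T : X.Modules} (g : Formal.modPow I (n + 1) F ⟶ T),
      Formal.smulFamily (I ^ n) (Formal.modPow I (n + 1) F) ≫ g = 0 →
        Formal.smulFamily (I ^ n) F ≫ (Formal.modPowπ I (n + 1) F ≫ g) = 0 := by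
    intro T g hg
    rw [smulFamily_comp_eq_zero_iff] at hg ⊢
    intro a ha
    rw [← Category.assoc, smulMod_comp, Category.assoc, hg a ha, comp_zero]
  have hc : IsColimit (CokernelCofork.ofπ (Formal.modPowTrans I n F) h) :=
    CokernelCofork.IsColimit.ofπ _ h
      (fun {T} g hg => modPowDesc I n F (Formal.modPowπ I (n + 1) F ≫ g) (key g hg))
      (fun {T} g hg => by
        rw [← cancel_epi (Formal.modPowπ I (n + 1) F), ← Category.assoc, Formal.modPowπ_trans]
        exact modPowπ_desc I n F _ _)
      (fun {T} g hg b hb => by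
        rw [← cancel_epi (Formal.modPowπ I n F)]
        refine Eq.trans ?_ (modPowπ_desc I n F _ _).symm
        rw [← Formal.modPowπ_trans, Category.assoc, hb])
  exact isIso_cokernelDesc_of_isColimit _ _ h hc

/-- the completion of a coherent module is a coherent formal module. -/
theorem isCohFormal_completion (I : Ideal A) (F : X.Modules) (hF : Coh.IsCoh F) :
    Formal.IsCohFormal I (Formal.completion I F) := by
  refine ⟨fun n => isCoh_modPow I (n + 1) F hF, fun n => killedBy_modPow I (n + 1) F, fun n => ?_⟩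
  have h1 : (Formal.completion I F).map (homOfLE (Nat.le_succ n)).op = Formal.modPowTrans I (n + 1) F :=
    Functor.ofOpSequence_map_homOfLE_succ _ n
  rw [h1]
  exact isIso_desc_modPowTrans I (n + 1) F

end completion

section restrict

variable {A : Type u} [CommRing A] {X Y : Scheme.{u}}
  [X.Over (Spec (CommRingCat.of A))] [Y.Over (Spec (CommRingCat.of A))]
  (j : Y ⟶ X) [IsOpenImmersion j]
  (hj : j ≫ (X ↘ Spec (CommRingCat.of A)) = Y ↘ Spec (CommRingCat.of A))

include hj in
theorem restrict_map_smulMod (M : X.Modules) (a : A) :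
    (Scheme.Modules.restrictFunctor j).map (Formal.smulMod A M a) =
      Formal.smulMod A ((Scheme.Modules.restrictFunctor j).obj M) a := by
  have nat := (Scheme.Modules.restrictFunctorIsoPullback j).hom.naturality (Formal.smulMod A M a)
  rw [pullback_map_smulMod j hj, ← smulMod_comp] at nat
  exact (cancel_mono ((Scheme.Modules.restrictFunctorIsoPullback j).hom.app M)).1 nat

include hj in
theorem restrict_smulFamily_comp_eq_zero (J : Ideal A) (M : X.Modules) {T : Y.Modules}
    (g : (Scheme.Modules.restrictFunctor j).obj M ⟶ T)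
    (hg : Formal.smulFamily J ((Scheme.Modules.restrictFunctor j).obj M) ≫ g = 0) :
    (Scheme.Modules.restrictFunctor j).map (Formal.smulFamily J M) ≫ g = 0 := by
  rw [smulFamily_comp_eq_zero_iff] at hg
  rw [← cancel_epi (sigmaComparison (Scheme.Modules.restrictFunctor j) (fun _ : J => M)), comp_zero]
  apply Sigma.hom_ext
  intro a
  rw [ι_comp_sigmaComparison_assoc, ← Category.assoc, ← Functor.map_comp, ι_smulFamily,
    restrict_map_smulMod j hj, comp_zero]
  exact hg a a.2

theorem epi_restrict_modPowπ (I : Ideal A) (n : ℕ) (F' : X.Modules) :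
    Epi ((Scheme.Modules.restrictFunctor j).map (Formal.modPowπ I n F')) := inferInstance

theorem restrict_modPowπ_trans (I : Ideal A) (n : ℕ) (F' : X.Modules) {F : Y.Modules}
    (k : F ⟶ (Scheme.Modules.restrictFunctor j).obj F') :
    (k ≫ (Scheme.Modules.restrictFunctor j).map (Formal.modPowπ I (n + 1) F')) ≫
      (Scheme.Modules.restrictFunctor j).map (Formal.modPowTrans I n F') =
    k ≫ (Scheme.Modules.restrictFunctor j).map (Formal.modPowπ I n F') := by
  rw [Category.assoc, ← Functor.map_comp, Formal.modPowπ_trans]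

include hj in
theorem restrict_killed (I : Ideal A) (n : ℕ) (F' : X.Modules) {F : Y.Modules}
    (e₀ : (Scheme.Modules.restrictFunctor j).obj F' ≅ F) :
    Formal.smulFamily (I ^ n) F ≫
      (e₀.inv ≫ (Scheme.Modules.restrictFunctor j).map (Formal.modPowπ I n F')) = 0 := by
  rw [smulFamily_comp_eq_zero_iff]
  intro a ha
  have h0 : Formal.smulMod A F' a ≫ Formal.modPowπ I n F' = 0 := smulMod_π_of_mem _ F' a ha
  rw [← Category.assoc, smulMod_comp, Category.assoc, ← restrict_map_smulMod j hj,
    ← Functor.map_comp, h0, Functor.map_zero, comp_zero]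

include hj in
theorem restrict_factor (I : Ideal A) (n : ℕ) (F' : X.Modules) {F : Y.Modules}
    (e₀ : (Scheme.Modules.restrictFunctor j).obj F' ≅ F) (T : Y.Modules) (g : F ⟶ T)
    (hg : Formal.smulFamily (I ^ n) F ≫ g = 0) :
    ∃ g' : (Scheme.Modules.restrictFunctor j).obj (Formal.modPow I n F') ⟶ T,
      (e₀.inv ≫ (Scheme.Modules.restrictFunctor j).map (Formal.modPowπ I n F')) ≫ g' = g := by
  have hg' : Formal.smulFamily (I ^ n) ((Scheme.Modules.restrictFunctor j).obj F') ≫ (e₀.hom ≫ g) = 0 := by
    rw [smulFamily_comp_eq_zero_iff] at hg ⊢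
    intro a ha
    rw [← Category.assoc, smulMod_comp, Category.assoc, hg a ha, comp_zero]
  have hz := restrict_smulFamily_comp_eq_zero j hj (I ^ n) F' (e₀.hom ≫ g) hg'
  let c := CokernelCofork.ofπ (Formal.modPowπ I n F')
    (cokernel.condition (Formal.smulFamily (I ^ n) F'))
  have hc : IsColimit c := cokernelIsCokernel _
  have hc' : IsColimit (c.map (Scheme.Modules.restrictFunctor j)) :=
    CokernelCofork.mapIsColimit c hc (Scheme.Modules.restrictFunctor j)
  refine ⟨hc'.desc (CokernelCofork.ofπ (e₀.hom ≫ g) hz), ?_⟩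
  have h2 : (Scheme.Modules.restrictFunctor j).map (Formal.modPowπ I n F') ≫
      hc'.desc (CokernelCofork.ofπ (e₀.hom ≫ g) hz) = e₀.hom ≫ g :=
    Cofork.IsColimit.π_desc (t := CokernelCofork.ofπ (e₀.hom ≫ g) hz) hc'
  exact (Category.assoc _ _ _).trans ((congrArg (fun t => e₀.inv ≫ t) h2).trans
    (Iso.inv_hom_id_assoc e₀ g))

include hj in
/-- completion commutes with restriction along an open immersion. -/
theorem nonempty_completion_iso_restrict (I : Ideal A) (F' : X.Modules) (F : Y.Modules)
    (e₀ : (Scheme.Modules.restrictFunctor j).obj F' ≅ F) :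
    Nonempty (Formal.completion I F ≅ Formal.completion I F' ⋙ Scheme.Modules.restrictFunctor j) := by
  refine Groth.Agent.Lib.Seat76.ComplChar.nonempty_completion_iso I F
    (Formal.completion I F' ⋙ Scheme.Modules.restrictFunctor j)
    (fun n => e₀.inv ≫ (Scheme.Modules.restrictFunctor j).map (Formal.modPowπ I (n + 1) F')) ?_ ?_ ?_ ?_
  · intro n
    have h1 : (Formal.completion I F').map (homOfLE (n.le_add_right 1)).op =
        Formal.modPowTrans I (n + 1) F' := Functor.ofOpSequence_map_homOfLE_succ _ n
    exact (congrArg (fun t => (e₀.inv ≫ (Scheme.Modules.restrictFunctor j).map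
      (Formal.modPowπ I (n + 1 + 1) F')) ≫ (Scheme.Modules.restrictFunctor j).map t) h1).trans
      (restrict_modPowπ_trans j I (n + 1) F' e₀.inv)
  · intro n
    exact @epi_comp _ _ _ _ _ e₀.inv inferInstance _ (epi_restrict_modPowπ j I (n + 1) F')
  · intro n
    exact restrict_killed j hj I (n + 1) F' e₀
  · intro n T g hg
    exact restrict_factor j hj I (n + 1) F' e₀ T g hg

end restrict

section extend

variable (A : Type u) [CommRing A] [IsNoetherianRing A]

/-- a completion of a coherent module on an open of `Spec A` extends to `Spec A`. -/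
theorem extends_of_completion_iso (I : Ideal A) (U : (Spec (CommRingCat.of A)).Opens)
    (G : ℕᵒᵖ ⥤ (U : Scheme.{u}).Modules) (F : (U : Scheme.{u}).Modules) (hF : Coh.IsCoh F)
    (e : Formal.completion I F ≅ G) :
    @Algz.Extends A _ (Spec (CommRingCat.of A)) ⟨𝟙 (Spec (CommRingCat.of A))⟩ I U G := by
  letI : (Spec (CommRingCat.of A)).Over (Spec (CommRingCat.of A)) := ⟨𝟙 (Spec (CommRingCat.of A))⟩
  haveI : Coh.IsQCoh F := hF.1
  obtain ⟨F', hF'q, hF'ft, ⟨e₀⟩⟩ := Groth.Agent.S2252.result (X := Spec (CommRingCat.of A))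
    (fun x => ⟨⊤, trivial, inferInstance⟩) U F hF.2
  obtain ⟨e₁⟩ := nonempty_completion_iso_restrict U.ι (Category.comp_id _) I F' F e₀
  exact ⟨Formal.completion I F', isCohFormal_completion I F' ⟨hF'q, hF'ft⟩, ⟨e₁.symm ≪≫ e⟩⟩

end extend

end Groth.Agent.Lib.Seat17.ComplRestr
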