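import Mathlib

/-!
# Artin–Rees for torsion elements (seat 17, pure Mathlib)

`B` Noetherian, `J` an ideal, `Q` a finite `B`-module, `T = Q[J^c]` the submodule of elements killed by
`J^c`.
* `exists_pow_inf_tors_eq_bot`: `J^n Q ∩ T = 0` for `n ≫ 0`.
* `exists_colon_le`: uniform `r` with `(J^(n+r) Q : J^c) ⊆ T + J^n Q`.
* `exists_tors_of_compatible`: a sequence `y n` that is Cauchy (`y (n+1) - y n ∈ J^(n+1) Q`) and
  asymptotically killed by `J^c` (`J^c y n ⊆ J^(n+1) Q`) converges to a unique element of `T`: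
  the `J^c`-torsion of the completion of `Q` is the `J^c`-torsion of `Q`.
-/

set_option autoImplicit false
set_option linter.unusedSectionVars false
universe u v

namespace Groth.Agent.Lib.Seat17.TorsAR

variable {B : Type u} [CommRing B] [IsNoetherianRing B] (J : Ideal B)
  {Q : Type v} [AddCommGroup Q] [Module B Q] [Module.Finite B Q] (c : ℕ)

variable (Q) in
/-- elements of `Q` killed by `J^c`. -/
def tors : Submodule B Q := Submodule.torsionBySet B Q ((J ^ c : Ideal B) : Set B)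

theorem mem_tors {t : Q} : t ∈ tors J Q c ↔ ∀ a ∈ J ^ c, a • t = 0 := by
  unfold tors
  rw [Submodule.mem_torsionBySet_iff]
  constructor
  · intro h a ha
    exact h ⟨a, ha⟩
  · intro h a
    exact h a.1 a.2

theorem pow_smul_tors_eq_bot {m : ℕ} (hm : c ≤ m) : J ^ m • tors J Q c = ⊥ := by
  rw [eq_bot_iff, Submodule.smul_le]
  intro a ha t ht
  rw [Submodule.mem_bot]
  exact (mem_tors J c).1 ht a (Ideal.pow_le_pow_right hm ha)

theorem exists_pow_inf_tors_eq_bot :
    ∃ r : ℕ, ∀ n ≥ r, J ^ n • (⊤ : Submodule B Q) ⊓ tors J Q c = ⊥ := by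
  obtain ⟨k, hk⟩ := Ideal.exists_pow_inf_eq_pow_smul J (tors J Q c)
  refine ⟨k + c, fun n hn => ?_⟩
  rw [hk n (by omega), eq_bot_iff]
  calc J ^ (n - k) • (J ^ k • ⊤ ⊓ tors J Q c) ≤ J ^ (n - k) • tors J Q c :=
        Submodule.smul_mono le_rfl inf_le_right
    _ = ⊥ := pow_smul_tors_eq_bot J c (by omega)

theorem pi_mem_smul_top {k : ℕ} (𝔞 : Ideal B) (v : Fin k → Q)
    (hv : ∀ i, v i ∈ 𝔞 • (⊤ : Submodule B Q)) : v ∈ 𝔞 • (⊤ : Submodule B (Fin k → Q)) := by
  classical
  have h1 : v = ∑ i, (LinearMap.single B (fun _ : Fin k => Q) i) (v i) := by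
    ext j
    simp [Finset.sum_apply, Pi.single_apply]
  rw [h1]
  refine Submodule.sum_mem _ fun i _ => ?_
  have h2 : (LinearMap.single B (fun _ : Fin k => Q) i) (v i) ∈
      Submodule.map (LinearMap.single B (fun _ : Fin k => Q) i) (𝔞 • (⊤ : Submodule B Q)) :=
    Submodule.mem_map_of_mem (hv i)
  rw [Submodule.map_smul''] at h2
  exact Submodule.smul_mono le_rfl le_top h2

theorem exists_colon_le :
    ∃ r : ℕ, ∀ (n : ℕ) (y : Q), (∀ a ∈ J ^ c, a • y ∈ J ^ (n + r) • (⊤ : Submodule B Q)) →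
      ∃ t ∈ tors J Q c, y - t ∈ J ^ n • (⊤ : Submodule B Q) := by
  classical
  obtain ⟨k, a, ha0⟩ := Submodule.fg_iff_exists_fin_generating_family.mp
    (Ideal.fg_of_isNoetherianRing (J ^ c))
  have ha : Ideal.span (Set.range a) = J ^ c := ha0
  let d : Q →ₗ[B] (Fin k → Q) := LinearMap.pi fun i => LinearMap.lsmul B Q (a i)
  obtain ⟨r, hr⟩ := Ideal.exists_pow_inf_eq_pow_smul J (LinearMap.range d)
  refine ⟨r, fun n y hy => ?_⟩
  have h1 : d y ∈ J ^ (n + r) • (⊤ : Submodule B (Fin k → Q)) := by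
    apply pi_mem_smul_top
    intro i
    have : a i ∈ J ^ c := by
      rw [← ha]
      exact Ideal.subset_span ⟨i, rfl⟩
    exact hy (a i) this
  have h2 : d y ∈ J ^ (n + r) • (⊤ : Submodule B (Fin k → Q)) ⊓ LinearMap.range d :=
    ⟨h1, LinearMap.mem_range_self d y⟩
  rw [hr (n + r) (by omega), Nat.add_sub_cancel] at h2
  have h3 : d y ∈ J ^ n • LinearMap.range d :=
    Submodule.smul_mono le_rfl inf_le_right h2
  rw [LinearMap.range_eq_map, ← Submodule.map_smul''] at h3
  obtain ⟨z, hz, hzy⟩ := h3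
  refine ⟨y - z, ?_, ?_⟩
  · rw [mem_tors]
    have hker : d (y - z) = 0 := by rw [map_sub, hzy, sub_self]
    have hle : Ideal.span (Set.range a) ≤
        LinearMap.ker (LinearMap.toSpanSingleton B Q (y - z)) := by
      rw [Ideal.span_le]
      rintro _ ⟨i, rfl⟩
      have := congrFun hker i
      simpa [d] using this
    intro b hb
    rw [← ha] at hb
    have := hle hb
    simpa using this
  · rw [sub_sub_cancel]
    exact hz

theorem sub_mem_of_cauchy (y : ℕ → Q)
    (h2 : ∀ n, y (n + 1) - y n ∈ J ^ (n + 1) • (⊤ : Submodule B Q)) (m n : ℕ) (hmn : m ≤ n) :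
    y n - y m ∈ J ^ (m + 1) • (⊤ : Submodule B Q) := by
  induction n, hmn using Nat.le_induction with
  | base => rw [sub_self]; exact Submodule.zero_mem _
  | succ n hmn ih =>
    have h3 : y (n + 1) - y n ∈ J ^ (m + 1) • (⊤ : Submodule B Q) :=
      Submodule.smul_mono_left (Ideal.pow_le_pow_right (by omega)) (h2 n)
    have : y (n + 1) - y m = (y (n + 1) - y n) + (y n - y m) := by abel
    rw [this]
    exact Submodule.add_mem _ h3 ih

/-- the `J^c`-torsion of the completion is the `J^c`-torsion of `Q`: existence. -/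
theorem exists_tors_of_compatible (y : ℕ → Q)
    (h1 : ∀ n, ∀ a ∈ J ^ c, a • y n ∈ J ^ (n + 1) • (⊤ : Submodule B Q))
    (h2 : ∀ n, y (n + 1) - y n ∈ J ^ (n + 1) • (⊤ : Submodule B Q)) :
    ∃ t ∈ tors J Q c, ∀ n, t - y n ∈ J ^ (n + 1) • (⊤ : Submodule B Q) := by
  obtain ⟨r, hr⟩ := exists_colon_le J (Q := Q) c
  obtain ⟨r1, hr1⟩ := exists_pow_inf_tors_eq_bot J (Q := Q) c
  have h3 : ∀ m : ℕ, ∃ t ∈ tors J Q c, y (m + r) - t ∈ J ^ (m + 1) • (⊤ : Submodule B Q) := by
    intro m
    apply hr (m + 1) (y (m + r))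
    intro a ha
    have := h1 (m + r) a ha
    have e : m + r + 1 = m + 1 + r := by omega
    rwa [e] at this
  choose t ht hty using h3
  have hstep : ∀ m, r1 ≤ m + 1 → t (m + 1) = t m := by
    intro m hm
    have hmem : t (m + 1) - t m ∈ J ^ (m + 1) • (⊤ : Submodule B Q) := by
      have e : t (m + 1) - t m = (y (m + 1 + r) - y (m + r)) - (y (m + 1 + r) - t (m + 1)) +
          (y (m + r) - t m) := by abel
      rw [e]
      refine Submodule.add_mem _ (Submodule.sub_mem _ ?_ ?_) (hty m)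
      · have e2 : m + 1 + r = (m + r) + 1 := by omega
        rw [e2]
        exact Submodule.smul_mono_left (Ideal.pow_le_pow_right (by omega)) (h2 (m + r))
      · exact Submodule.smul_mono_left (Ideal.pow_le_pow_right (by omega)) (hty (m + 1))
    have : t (m + 1) - t m ∈ J ^ (m + 1) • (⊤ : Submodule B Q) ⊓ tors J Q c :=
      ⟨hmem, Submodule.sub_mem _ (ht _) (ht _)⟩
    rw [hr1 (m + 1) hm, Submodule.mem_bot] at this
    exact sub_eq_zero.1 this
  have hconst : ∀ m, r1 ≤ m → t m = t r1 := by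
    intro m hm
    induction m, hm using Nat.le_induction with
    | base => rfl
    | succ m hm ih => rw [hstep m (by omega), ih]
  refine ⟨t r1, ht r1, fun m => ?_⟩
  have e : t r1 - y m = (y (max m r1 + r) - y m) - (y (max m r1 + r) - t (max m r1)) := by
    rw [hconst (max m r1) (le_max_right _ _)]
    abel
  rw [e]
  refine Submodule.sub_mem _ (sub_mem_of_cauchy J y h2 m _ ?_) ?_
  · have := le_max_left m r1
    omega
  · exact Submodule.smul_mono_left (Ideal.pow_le_pow_right (by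
      have := le_max_left m r1
      omega)) (hty (max m r1))

/-- uniqueness. -/
theorem eq_zero_of_mem_tors_of_forall_mem (t : Q) (ht : t ∈ tors J Q c)
    (h : ∀ n, t ∈ J ^ (n + 1) • (⊤ : Submodule B Q)) : t = 0 := by
  obtain ⟨r1, hr1⟩ := exists_pow_inf_tors_eq_bot J (Q := Q) c
  have : t ∈ J ^ (r1 + 1) • (⊤ : Submodule B Q) ⊓ tors J Q c := ⟨h r1, ht⟩
  rw [hr1 (r1 + 1) (by omega), Submodule.mem_bot] at this
  exact this

end Groth.Agent.Lib.Seat17.TorsAR
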