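import Mathlib

/-!
# Ideal sheaves on Noetherian schemes satisfy ACC; kernel ideal sheaves (seat 77)
-/

set_option autoImplicit false
universe u

namespace Groth.Agent.Lib.Seat77.KerIdeal

open CategoryTheory Limits AlgebraicGeometry TopologicalSpace

/-- A finite family of affine opens covering a quasi-compact scheme. -/
theorem exists_finite_affine_cover (X : Scheme.{u}) [CompactSpace X] :
    ∃ t : Finset X.affineOpens, ⨆ i : t, (i.1 : X.Opens) = ⊤ := by
  have hcov : (Set.univ : Set X) ⊆ ⋃ i : X.affineOpens, ((i : X.Opens) : Set X) := by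
    intro x _
    have : x ∈ (⨆ i : X.affineOpens, (i : X.Opens)) := by
      rw [AlgebraicGeometry.iSup_affineOpens_eq_top]; trivial
    rw [Opens.mem_iSup] at this
    obtain ⟨i, hi⟩ := this
    exact Set.mem_iUnion.mpr ⟨i, hi⟩
  obtain ⟨t, ht⟩ := isCompact_univ.elim_finite_subcover
    (fun i : X.affineOpens => ((i : X.Opens) : Set X)) (fun i => i.1.2) hcov
  refine ⟨t, ?_⟩
  rw [eq_top_iff]
  intro x _
  obtain ⟨i, hi⟩ := Set.mem_iUnion.mp (ht (Set.mem_univ x))
  obtain ⟨hit, hx⟩ := Set.mem_iUnion.mp hi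
  exact Opens.mem_iSup.mpr ⟨⟨i, hit⟩, hx⟩

/-- ACC for ideal sheaves on a Noetherian scheme. -/
theorem wellFoundedGT_idealSheafData (X : Scheme.{u}) [IsNoetherian X] :
    WellFoundedGT X.IdealSheafData := by
  obtain ⟨t, ht⟩ := exists_finite_affine_cover X
  have : ∀ i : t, IsNoetherianRing Γ(X, (i.1 : X.Opens)) :=
    fun i => IsLocallyNoetherian.component_noetherian i.1
  let Φ : X.IdealSheafData → (∀ i : t, (Ideal Γ(X, (i.1 : X.Opens)))ᵒᵈ) :=
    fun I i => OrderDual.toDual (I.ideal i.1)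
  have hΦ : StrictAnti Φ := by
    intro I J hIJ
    have hle : ∀ i : t, I.ideal i.1 ≤ J.ideal i.1 := fun i => hIJ.le i.1
    refine lt_of_le_of_ne (fun i => OrderDual.toDual_le_toDual.mpr (hle i)) ?_
    intro heq
    apply hIJ.ne
    apply Scheme.IdealSheafData.ext_of_iSup_eq_top (fun i : t => i.1) ht
    intro i
    exact (OrderDual.toDual.injective (congrFun heq i)).symm
  exact hΦ.wellFoundedGT

/-- For a closed immersion `e : S ⟶ A`, `x ≫ f` factors through `e` iff the pulled-back ideal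
sheaf is contained in the kernel of `x`. -/
theorem factors_iff {S A X T : Scheme.{u}} (e : S ⟶ A) [IsClosedImmersion e] (f : X ⟶ A)
    (x : T ⟶ X) : (∃ w : T ⟶ S, w ≫ e = x ≫ f) ↔ e.ker.comap f ≤ x.ker := by
  constructor
  · rintro ⟨w, hw⟩
    have hcond : x ≫ f = (w ≫ e.toImage) ≫ e.ker.subschemeι := by
      rw [Category.assoc, e.toImage_imageι, hw]
    have hx : x = pullback.lift x (w ≫ e.toImage) hcond ≫ pullback.fst f e.ker.subschemeι := by
      rw [pullback.lift_fst]
    rw [Scheme.IdealSheafData.comap]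
    conv_rhs => rw [hx]
    exact Scheme.Hom.le_ker_comp _ _
  · intro h
    have h1 : e.ker ≤ (x.ker).map f := Scheme.IdealSheafData.le_map_iff_comap_le.mpr h
    have h2 : (x.ker).map f ≤ (x ≫ f).ker := by
      rw [Scheme.IdealSheafData.map]
      conv_rhs => rw [← x.toImage_imageι, Category.assoc]
      exact Scheme.Hom.le_ker_comp _ _
    exact ⟨IsClosedImmersion.lift e (x ≫ f) (h1.trans h2), IsClosedImmersion.lift_fac _ _ _⟩

section Over

open MonoidalCategory CartesianMonoidalCategory MonObj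

variable {S : Scheme.{u}} {X A : Over S} [GrpObj A]

instance isClosedImmersion_unit [IsSeparated A.hom] : IsClosedImmersion (η[A] : 𝟙_ (Over S) ⟶ A).left := by
  have h : (η[A] : 𝟙_ (Over S) ⟶ A).left ≫ A.hom = 𝟙 S := Over.w (η[A] : 𝟙_ (Over S) ⟶ A)
  have : IsClosedImmersion ((η[A] : 𝟙_ (Over S) ⟶ A).left ≫ A.hom) := by
    rw [h]
    have : IsIso (𝟙 S) := inferInstance
    exact inferInstanceAs (IsClosedImmersion (𝟙 S))
  exact IsClosedImmersion.of_comp (η[A] : 𝟙_ (Over S) ⟶ A).left A.hom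

/-- The ideal sheaf on `X` of the kernel of `f : X ⟶ A`. -/
noncomputable def kerIdeal (f : X ⟶ A) : X.left.IdealSheafData :=
  ((η[A] : 𝟙_ (Over S) ⟶ A).left.ker).comap f.left

theorem comp_eq_one_iff [IsSeparated A.hom] {T : Over S} (x : T ⟶ X) (f : X ⟶ A) :
    x ≫ f = 1 ↔ kerIdeal f ≤ x.left.ker := by
  rw [kerIdeal, ← factors_iff]
  constructor
  · intro h
    refine ⟨T.hom, ?_⟩
    have := congrArg (fun g => g.left) h
    simpa [Hom.one_def] using this.symm
  · rintro ⟨w, hw⟩
    have hw' : w = T.hom := by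
      have h1 : (η[A] : 𝟙_ (Over S) ⟶ A).left ≫ A.hom = 𝟙 S := Over.w (η[A] : 𝟙_ (Over S) ⟶ A)
      calc w = w ≫ (η[A] : 𝟙_ (Over S) ⟶ A).left ≫ A.hom := by rw [h1]; exact (Category.comp_id w).symm
        _ = (x.left ≫ f.left) ≫ A.hom := by rw [← Category.assoc, hw]
        _ = T.hom := by rw [Category.assoc, Over.w f, Over.w x]
    apply Over.OverMorphism.ext
    rw [Over.comp_left, ← hw, hw', Hom.one_def, Over.comp_left, Over.toUnit_left]

end Over

end Groth.Agent.Lib.Seat77.KerIdeal
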