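import Mathlib
import Groth.Prelude.Def_Formal2
import Groth.Agent.S8821
import Groth.Agent.Lib.Seat17QcTrunc
import Groth.Agent.Lib.Seat17ComplRestr
import Groth.Agent.Lib.Seat17TorsAR
import Groth.Agent.Lib.Helper13ModBasis
import Groth.Agent.Lib.Helper2ModExact
import Groth.Agent.Lib.Helper23FinTypeLocal
import Groth.Agent.Lib.Helper23FinType2
import Groth.Agent.Lib.Seat77KerIdeal

/-!
# Morphisms into an adic system from a torsion module (seat 17)

`X` a Noetherian scheme over `Spec A`, `I` an arbitrary ideal of `A`.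
* `exists_fg_approx`, `ker_le_map_smul_top'`: sections over affines of `M/JM` for an arbitrary
  (not necessarily finitely generated) ideal `J`, for quasi-coherent `M` on a Noetherian scheme.
* `existsUnique_of_killedBy_source`: if `F` is killed by `I^c` and `G` is coherent, every compatible
  family `φ n : F ⟶ G/I^(n+1)G` comes from a unique `φ : F ⟶ G` (Artin–Rees + Krull, glued over the
  basis of affine opens).
* `existsUnique_of_killedBy_target`: the same when `G` is killed by `I^c` (formal).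
-/

set_option autoImplicit false
set_option linter.style.haveILetI false
set_option linter.unusedSectionVars false
universe u
open CategoryTheory CategoryTheory.Limits AlgebraicGeometry TopologicalSpace Opposite

namespace Groth.Agent.Lib.Seat17.ComplHom

open Groth.Agent.S8821 Groth.Agent.Lib.Seat17.QcTrunc Groth.Agent.Lib.Seat17.TorsAR
  Groth.Agent.Lib.Seat17.ComplRestr

variable {A : Type u} [CommRing A] {X : Scheme.{u}} [X.Over (Spec (CommRingCat.of A))]

theorem ρ_map {U V : X.Opens} (i : V ⟶ U) (a : A) :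
    X.presheaf.map i.op (ρ U a) = ρ V a :=
  Coh.resTop_comp (op U) (op V) i.op (Coh.toGlobal (X ↘ Spec (CommRingCat.of A)) a)

theorem map_map_ρ {U V : X.Opens} (i : V ⟶ U) (J : Ideal A) :
    (J.map (ρ U)).map (X.presheaf.map i.op).hom = J.map (ρ V) := by
  rw [Ideal.map_map]
  congr 1
  ext a
  exact ρ_map i a

/-- if `ρ a` kills `x` for all `a ∈ J` then all of `J Γ(X, U)` kills `x`. -/
theorem smul_eq_zero_of_mem_map {M : X.Modules} {U : X.Opens} (J : Ideal A) (x : Γ(M, U))
    (hx : ∀ a ∈ J, (ρ U a : Γ(X, U)) • x = 0) (b : Γ(X, U)) (hb : b ∈ J.map (ρ U)) : b • x = 0 := by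
  have hb' : b ∈ Ideal.span ((ρ U) '' (J : Set A)) := hb
  have hle : Ideal.span ((ρ U) '' (J : Set A)) ≤
      LinearMap.ker (LinearMap.toSpanSingleton Γ(X, U) Γ(M, U) x) := by
    rw [Ideal.span_le]
    rintro _ ⟨a, ha, rfl⟩
    have := hx a ha
    simpa using this
  have := hle hb'
  simpa using this

section fg

/-- a finitely generated sub-ideal which generates the same ideal on a finite affine cover. -/
theorem exists_fg_approx [IsNoetherian X] (J : Ideal A) :
    ∃ J' : Ideal A, J'.FG ∧ J' ≤ J ∧ ∃ s : Finset X.affineOpens,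
      (⨆ i : s, (i.1 : X.Opens)) = ⊤ ∧
        ∀ i : s, J.map (ρ (i.1 : X.Opens)) ≤ J'.map (ρ (i.1 : X.Opens)) := by
  classical
  obtain ⟨s, hs⟩ := Groth.Agent.Lib.Seat77.KerIdeal.exists_finite_affine_cover X
  have hN : ∀ i : s, IsNoetherianRing Γ(X, (i.1 : X.Opens)) :=
    fun i => IsLocallyNoetherian.component_noetherian i.1
  have h1 : ∀ i : s, ∃ t : Finset A, (t : Set A) ⊆ J ∧
      J.map (ρ (i.1 : X.Opens)) = Ideal.span ((ρ (i.1 : X.Opens)) '' (t : Set A)) := by
    intro i
    haveI := hN i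
    have hfg : (Submodule.span Γ(X, (i.1 : X.Opens))
        ((ρ (i.1 : X.Opens)) '' (J : Set A))).FG :=
      IsNoetherian.noetherian _
    rw [Submodule.fg_span_iff_fg_span_finset_subset] at hfg
    obtain ⟨s', hs', hspan⟩ := hfg
    obtain ⟨t, ht, rfl⟩ := Finset.subset_set_image_iff.1 hs'
    refine ⟨t, ht, ?_⟩
    have : J.map (ρ (i.1 : X.Opens)) =
        Submodule.span Γ(X, (i.1 : X.Opens)) ((ρ (i.1 : X.Opens)) '' (J : Set A)) := rfl
    rw [this, hspan, Finset.coe_image]
  choose t ht1 ht2 using h1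
  refine ⟨⨆ i : s, Ideal.span (t i : Set A),
    Submodule.fg_iSup _ (fun i => Submodule.fg_span (Finset.finite_toSet _)),
    iSup_le fun i => Ideal.span_le.2 (ht1 i), s, hs, fun i => ?_⟩
  rw [ht2 i, ← Ideal.map_span]
  exact Ideal.map_mono (le_iSup (fun i : s => Ideal.span (t i : Set A)) i)

theorem isBasis_le_cover (s : Finset X.affineOpens) (hs : (⨆ i : s, (i.1 : X.Opens)) = ⊤) :
    Opens.IsBasis (Set.range
      (fun V : {V : X.Opens // ∃ i : s, V ≤ (i.1 : X.Opens)} => V.1)) := by
  rw [Opens.isBasis_iff_nbhd]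
  intro W x hxW
  have hx : x ∈ (⨆ i : s, (i.1 : X.Opens)) := by rw [hs]; trivial
  rw [Opens.mem_iSup] at hx
  obtain ⟨i, hi⟩ := hx
  exact ⟨W ⊓ (i.1 : X.Opens), ⟨⟨W ⊓ (i.1 : X.Opens), i, inf_le_right⟩, rfl⟩, ⟨hxW, hi⟩, inf_le_left⟩

instance isIso_desc_π {M N : X.Modules} (f : M ⟶ N) :
    IsIso (cokernel.desc f (cokernel.π f) (cokernel.condition f)) := by
  have : cokernel.desc f (cokernel.π f) (cokernel.condition f) = 𝟙 _ := by
    ext
    simp
  rw [this]
  infer_instance

theorem smulFamily_comp_π_eq_zero {J J' : Ideal A} (s : Finset X.affineOpens)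
    (hs : (⨆ i : s, (i.1 : X.Opens)) = ⊤)
    (hle : ∀ i : s, J.map (ρ (i.1 : X.Opens)) ≤ J'.map (ρ (i.1 : X.Opens))) (M : X.Modules) :
    Formal.smulFamily J M ≫ cokernel.π (Formal.smulFamily J' M) = 0 := by
  rw [smulFamily_comp_eq_zero_iff]
  intro a ha
  refine Groth.Agent.Helper13ModBasis.hom_ext_basis _ (isBasis_le_cover s hs) _ _ ?_
  rintro ⟨V, i, hV⟩
  ext x
  have hmem : (ρ V a : Γ(X, V)) ∈ J'.map (ρ V) := by
    rw [← map_map_ρ (homOfLE hV) J']
    have h1 : (ρ (i.1 : X.Opens) a : Γ(X, (i.1 : X.Opens))) ∈ J'.map (ρ (i.1 : X.Opens)) :=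
      hle i (Ideal.mem_map_of_mem _ ha)
    have h2 := Ideal.mem_map_of_mem (X.presheaf.map (homOfLE hV).op).hom h1
    rw [← ρ_map (homOfLE hV) a]
    exact h2
  have h3 := map_smul_top_le_ker (cokernel.π (Formal.smulFamily J' M)) (cokernel.condition _) V
    ((ρ V a : Γ(X, V)) • x) (Submodule.smul_mem_smul hmem Submodule.mem_top)
  exact h3

variable [IsNoetherian X]

/-- sections of `M/JM` over affine opens, without finite generation of `J`. -/
theorem ker_le_map_smul_top' {J : Ideal A} {M Q : X.Modules} (t : M ⟶ Q)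
    (h : Formal.smulFamily J M ≫ t = 0) [IsIso (cokernel.desc _ t h)]
    [M.IsQuasicoherent] [Q.IsQuasicoherent] {U : X.Opens} (hU : IsAffineOpen U) (m : Γ(M, U))
    (hm : t.app U m = 0) : m ∈ J.map (ρ U) • (⊤ : Submodule Γ(X, U) Γ(M, U)) := by
  obtain ⟨J', hfg, hJ', s, hs, hle⟩ := exists_fg_approx (X := X) J
  have h' : Formal.smulFamily J' M ≫ t = 0 := by
    rw [smulFamily_comp_eq_zero_iff]
    intro a ha
    exact (smulFamily_comp_eq_zero_iff t).1 h a (hJ' ha)
  have h0 := smulFamily_comp_π_eq_zero (J := J) (J' := J') s hs hle M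
  haveI := epi_of_isIso_desc t h
  haveI : IsIso (cokernel.desc _ t h') := by
    refine ⟨inv (cokernel.desc _ t h) ≫ cokernel.desc _ _ h0, ?_, ?_⟩
    · rw [← cancel_epi (cokernel.π (Formal.smulFamily J' M))]
      have e1 : t ≫ inv (cokernel.desc _ t h) = cokernel.π (Formal.smulFamily J M) := by
        rw [IsIso.comp_inv_eq, cokernel.π_desc]
      rw [cokernel.π_desc_assoc, ← Category.assoc, e1, cokernel.π_desc, Category.comp_id]
    · rw [← cancel_epi t]
      have e1 : t ≫ inv (cokernel.desc _ t h) = cokernel.π (Formal.smulFamily J M) := by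
        rw [IsIso.comp_inv_eq, cokernel.π_desc]
      rw [Category.assoc, reassoc_of% e1, cokernel.π_desc_assoc, cokernel.π_desc,
        Category.comp_id]
  have := ker_le_map_smul_top t h' hfg hU m hm
  exact Submodule.smul_mono (Ideal.map_mono hJ') le_rfl this

end fg

section modPow

variable [IsNoetherian X] (I : Ideal A) {G : X.Modules}

theorem modPowπ_app_eq_zero_iff (hG : Coh.IsCoh G) (n : ℕ) {V : X.Opens} (hV : IsAffineOpen V)
    (m : Γ(G, V)) : (Formal.modPowπ I n G).app V m = 0 ↔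
      m ∈ (I.map (ρ V)) ^ n • (⊤ : Submodule Γ(X, V) Γ(G, V)) := by
  haveI : G.IsQuasicoherent := hG.1
  haveI : (cokernel (Formal.smulFamily (I ^ n) G)).IsQuasicoherent := (isCoh_modPow I n G hG).1
  rw [← Ideal.map_pow]
  constructor
  · intro hm
    exact ker_le_map_smul_top' (cokernel.π (Formal.smulFamily (I ^ n) G)) (cokernel.condition _)
      hV m hm
  · intro hm
    exact map_smul_top_le_ker (cokernel.π (Formal.smulFamily (I ^ n) G)) (cokernel.condition _)
      V m hm

theorem modPowπ_app_surjective (hG : Coh.IsCoh G) (n : ℕ) {V : X.Opens} (hV : IsAffineOpen V) :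
    Function.Surjective ((Formal.modPowπ I n G).app V) := by
  haveI : G.IsQuasicoherent := hG.1
  haveI : (cokernel (Formal.smulFamily (I ^ n) G)).IsQuasicoherent := (isCoh_modPow I n G hG).1
  exact app_surjective (cokernel.π (Formal.smulFamily (I ^ n) G)) (cokernel.condition _) hV

end modPow

section main

variable [IsNoetherian X] (I : Ideal A) {F G : X.Modules} (hG : Coh.IsCoh G) (c : ℕ)
  (hF : Formal.KilledBy (I ^ c) F)
  (φ : ∀ n : ℕ, F ⟶ Formal.modPow I (n + 1) G)
  (hφ : ∀ n : ℕ, φ (n + 1) ≫ Formal.modPowTrans I (n + 1) G = φ n)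

include hG hF hφ in
theorem existsUnique_section {V : X.Opens} (hV : IsAffineOpen V) (x : Γ(F, V)) :
    ∃! t : Γ(G, V), (∀ a ∈ I ^ c, (ρ V a : Γ(X, V)) • t = 0) ∧
      ∀ n : ℕ, (Formal.modPowπ I (n + 1) G).app V t = (φ n).app V x := by
  haveI : G.IsQuasicoherent := hG.1
  haveI : SheafOfModules.IsFiniteType (R := X.ringCatSheaf) G := hG.2
  haveI : IsNoetherianRing Γ(X, V) := IsLocallyNoetherian.component_noetherian ⟨V, hV⟩
  haveI : Module.Finite Γ(X, V) Γ(G, V) :=
    Groth.Agent.Lib.Helper23.FinType.finite_of_isFiniteType G hV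
  have hπker := fun (n : ℕ) (m : Γ(G, V)) => modPowπ_app_eq_zero_iff I hG (n + 1) hV m
  have hxkill : ∀ b ∈ (I.map (ρ V)) ^ c, b • x = 0 := by
    intro b hb
    rw [← Ideal.map_pow] at hb
    refine smul_eq_zero_of_mem_map (I ^ c) x (fun a ha => ?_) b hb
    have := hF a ha
    exact congrArg (fun ψ => ψ.app V x) this
  choose y hy using fun n : ℕ => modPowπ_app_surjective I hG (n + 1) hV ((φ n).app V x)
  have h1 : ∀ n : ℕ, ∀ b ∈ (I.map (ρ V)) ^ c,
      b • y n ∈ (I.map (ρ V)) ^ (n + 1) • (⊤ : Submodule Γ(X, V) Γ(G, V)) := by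
    intro n b hb
    rw [← hπker, Scheme.Modules.Hom.app_smul, hy, ← Scheme.Modules.Hom.app_smul, hxkill b hb,
      map_zero]
  have h2 : ∀ n : ℕ, y (n + 1) - y n ∈
      (I.map (ρ V)) ^ (n + 1) • (⊤ : Submodule Γ(X, V) Γ(G, V)) := by
    intro n
    rw [← hπker, map_sub, hy n, sub_eq_zero]
    have e1 : (Formal.modPowπ I (n + 1) G).app V (y (n + 1)) =
        (Formal.modPowTrans I (n + 1) G).app V
          ((Formal.modPowπ I (n + 1 + 1) G).app V (y (n + 1))) :=
      (congrArg (fun ψ => ψ.app V (y (n + 1))) (Formal.modPowπ_trans I (n + 1) G)).symm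
    have e2 : (Formal.modPowTrans I (n + 1) G).app V ((φ (n + 1)).app V x) = (φ n).app V x :=
      congrArg (fun ψ => ψ.app V x) (hφ n)
    rw [e1, hy (n + 1), e2]
  obtain ⟨t, ht, htn⟩ := exists_tors_of_compatible (I.map (ρ V)) c y h1 h2
  refine ⟨t, ⟨fun a ha => ?_, fun n => ?_⟩, ?_⟩
  · refine (mem_tors _ c).1 ht _ ?_
    rw [← Ideal.map_pow]
    exact Ideal.mem_map_of_mem _ ha
  · rw [← hy n, ← sub_eq_zero, ← map_sub, hπker]
    exact htn n
  · rintro t' ⟨ht'1, ht'2⟩
    have hδ : t' - t ∈ tors (I.map (ρ V)) Γ(G, V) c := by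
      rw [mem_tors]
      intro b hb
      rw [← Ideal.map_pow] at hb
      refine smul_eq_zero_of_mem_map (I ^ c) (t' - t) (fun a ha => ?_) b hb
      rw [smul_sub, ht'1 a ha, sub_eq_zero]
      refine ((mem_tors _ c).1 ht _ ?_).symm
      rw [← Ideal.map_pow]
      exact Ideal.mem_map_of_mem _ ha
    have h0 := eq_zero_of_mem_tors_of_forall_mem (I.map (ρ V)) c (t' - t) hδ (fun n => by
      have e : t' - t = (t' - y n) - (t - y n) := by abel
      rw [e]
      refine Submodule.sub_mem _ ?_ (htn n)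
      rw [← hπker, map_sub, ht'2 n, hy n, sub_self])
    exact sub_eq_zero.1 h0

/-- the map on sections over an affine open. -/
noncomputable def sec {V : X.Opens} (hV : IsAffineOpen V) (x : Γ(F, V)) : Γ(G, V) :=
  (existsUnique_section I hG c hF φ hφ hV x).choose

theorem sec_spec {V : X.Opens} (hV : IsAffineOpen V) (x : Γ(F, V)) :
    (∀ a ∈ I ^ c, (ρ V a : Γ(X, V)) • sec I hG c hF φ hφ hV x = 0) ∧
      ∀ n : ℕ, (Formal.modPowπ I (n + 1) G).app V (sec I hG c hF φ hφ hV x) = (φ n).app V x :=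
  (existsUnique_section I hG c hF φ hφ hV x).choose_spec.1

theorem sec_eq {V : X.Opens} (hV : IsAffineOpen V) (x : Γ(F, V)) (t : Γ(G, V))
    (h1 : ∀ a ∈ I ^ c, (ρ V a : Γ(X, V)) • t = 0)
    (h2 : ∀ n : ℕ, (Formal.modPowπ I (n + 1) G).app V t = (φ n).app V x) :
    sec I hG c hF φ hφ hV x = t :=
  ((existsUnique_section I hG c hF φ hφ hV x).choose_spec.2 t ⟨h1, h2⟩).symm

theorem sec_add {V : X.Opens} (hV : IsAffineOpen V) (x x' : Γ(F, V)) :
    sec I hG c hF φ hφ hV (x + x') = sec I hG c hF φ hφ hV x + sec I hG c hF φ hφ hV x' := by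
  apply sec_eq
  · intro a ha
    rw [smul_add, (sec_spec I hG c hF φ hφ hV x).1 a ha, (sec_spec I hG c hF φ hφ hV x').1 a ha,
      add_zero]
  · intro n
    rw [map_add, map_add, (sec_spec I hG c hF φ hφ hV x).2 n, (sec_spec I hG c hF φ hφ hV x').2 n]

theorem sec_smul {V : X.Opens} (hV : IsAffineOpen V) (b : Γ(X, V)) (x : Γ(F, V)) :
    sec I hG c hF φ hφ hV (b • x) = b • sec I hG c hF φ hφ hV x := by
  apply sec_eq
  · intro a ha
    rw [smul_comm, (sec_spec I hG c hF φ hφ hV x).1 a ha, smul_zero]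
  · intro n
    rw [Scheme.Modules.Hom.app_smul, Scheme.Modules.Hom.app_smul,
      (sec_spec I hG c hF φ hφ hV x).2 n]

theorem sec_map {V V' : X.Opens} (hV : IsAffineOpen V) (hV' : IsAffineOpen V') (i : V' ⟶ V)
    (x : Γ(F, V)) :
    sec I hG c hF φ hφ hV' (F.presheaf.map i.op x) =
      G.presheaf.map i.op (sec I hG c hF φ hφ hV x) := by
  apply sec_eq
  · intro a ha
    rw [← ρ_map i a, ← Scheme.Modules.map_smul, (sec_spec I hG c hF φ hφ hV x).1 a ha, map_zero]
  · intro n
    rw [Groth.Agent.Lib.Helper2.ModExact.app_map, (sec_spec I hG c hF φ hφ hV x).2 n,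
      Groth.Agent.Lib.Helper2.ModExact.app_map]

end main

section glue

variable [IsNoetherian X] (I : Ideal A) {F G : X.Modules} (hG : Coh.IsCoh G) (c : ℕ)
  (hF : Formal.KilledBy (I ^ c) F)
  (φ : ∀ n : ℕ, F ⟶ Formal.modPow I (n + 1) G)
  (hφ : ∀ n : ℕ, φ (n + 1) ≫ Formal.modPowTrans I (n + 1) G = φ n)

theorem isBasis_affine :
    Opens.IsBasis (Set.range (fun V : X.affineOpens => (V.1 : X.Opens))) := by
  rw [Subtype.range_coe]
  exact X.isBasis_affineOpens

/-- the local maps as morphisms of abelian groups. -/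
noncomputable def secHom (V : X.affineOpens) : Γ(F, (V.1 : X.Opens)) ⟶ Γ(G, (V.1 : X.Opens)) :=
  AddCommGrpCat.ofHom (AddMonoidHom.mk' (sec I hG c hF φ hφ V.2) (sec_add I hG c hF φ hφ V.2))

theorem secHom_apply (V : X.affineOpens) (x : Γ(F, (V.1 : X.Opens))) :
    secHom I hG c hF φ hφ V x = sec I hG c hF φ hφ V.2 x := rfl

/-- the glued morphism. -/
noncomputable def glued : F ⟶ G :=
  Groth.Agent.Helper13ModBasis.homOfBasis (fun V : X.affineOpens => (V.1 : X.Opens))
    isBasis_affine (secHom I hG c hF φ hφ)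
    (fun V V' h => by
      ext x
      exact sec_map I hG c hF φ hφ V.2 V'.2 (homOfLE h) x)
    (fun V a m => sec_smul I hG c hF φ hφ V.2 a m)

theorem glued_app (V : X.affineOpens) (x : Γ(F, (V.1 : X.Opens))) :
    (glued I hG c hF φ hφ).app (V.1 : X.Opens) x = sec I hG c hF φ hφ V.2 x := by
  have := Groth.Agent.Helper13ModBasis.homOfBasis_app (fun V : X.affineOpens => (V.1 : X.Opens))
    isBasis_affine (secHom I hG c hF φ hφ)
    (fun V V' h => by
      ext x
      exact sec_map I hG c hF φ hφ V.2 V'.2 (homOfLE h) x)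
    (fun V a m => sec_smul I hG c hF φ hφ V.2 a m) V
  exact congrArg (fun ψ => ψ x) this

include hG hF hφ in
/-- **Full faithfulness of completion, torsion source.** If `F` is killed by `I^c` and `G` is
coherent on a Noetherian scheme, a compatible family `F ⟶ G/I^(n+1)G` comes from a unique
`F ⟶ G`. -/
theorem existsUnique_of_killedBy_source :
    ∃! ψ : F ⟶ G, ∀ n : ℕ, ψ ≫ Formal.modPowπ I (n + 1) G = φ n := by
  refine ⟨glued I hG c hF φ hφ, fun n => ?_, fun ψ hψ => ?_⟩
  · refine Groth.Agent.Helper13ModBasis.hom_ext_basis _ isBasis_affine _ _ ?_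
    intro V
    ext x
    have h1 : (Formal.modPowπ I (n + 1) G).app (V.1 : X.Opens)
        ((glued I hG c hF φ hφ).app (V.1 : X.Opens) x) = (φ n).app (V.1 : X.Opens) x := by
      rw [glued_app]
      exact (sec_spec I hG c hF φ hφ V.2 x).2 n
    exact h1
  · refine Groth.Agent.Helper13ModBasis.hom_ext_basis _ isBasis_affine _ _ ?_
    intro V
    ext x
    have h1 : ψ.app (V.1 : X.Opens) x = (glued I hG c hF φ hφ).app (V.1 : X.Opens) x := by
      rw [glued_app]
      symm
      apply sec_eq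
      · intro a ha
        have e1 : Formal.smulMod A F a ≫ ψ = ψ ≫ Formal.smulMod A G a := smulMod_comp ψ a
        have e2 := congrArg (fun θ => θ.app (V.1 : X.Opens) x) e1
        have e3 : (ρ (V.1 : X.Opens) a : Γ(X, (V.1 : X.Opens))) • ψ.app (V.1 : X.Opens) x =
            ψ.app (V.1 : X.Opens) ((Formal.smulMod A F a).app (V.1 : X.Opens) x) := e2.symm
        rw [e3, hF a ha]
        exact map_zero _
      · intro n
        exact congrArg (fun θ => θ.app (V.1 : X.Opens) x) (hψ n)
    exact h1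

end glue

section target

variable (I : Ideal A) {F G : X.Modules} (c : ℕ) (hG : Formal.KilledBy (I ^ c) G)

theorem isIso_cokernel_π_of_eq_zero {M N : X.Modules} (f : M ⟶ N) (hf : f = 0) :
    IsIso (cokernel.π f) := by
  subst hf
  infer_instance

include hG in
theorem isIso_modPowπ_of_killedBy {n : ℕ} (hn : c ≤ n) : IsIso (Formal.modPowπ I n G) := by
  apply isIso_cokernel_π_of_eq_zero
  apply Sigma.hom_ext
  intro a
  rw [ι_smulFamily, comp_zero]
  exact hG _ (Ideal.pow_le_pow_right hn a.2)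

include hG in
/-- **Full faithfulness of completion, torsion target** (formal). -/
theorem existsUnique_of_killedBy_target
    (φ : ∀ n : ℕ, F ⟶ Formal.modPow I (n + 1) G)
    (hφ : ∀ n : ℕ, φ (n + 1) ≫ Formal.modPowTrans I (n + 1) G = φ n) :
    ∃! ψ : F ⟶ G, ∀ n : ℕ, ψ ≫ Formal.modPowπ I (n + 1) G = φ n := by
  haveI hiso : ∀ n : ℕ, c ≤ n → IsIso (Formal.modPowπ I (n + 1) G) :=
    fun n hn => isIso_modPowπ_of_killedBy I c hG (by omega)
  haveI := hiso c le_rfl
  -- compatibility going down from a large index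
  have hdown : ∀ (ψ : F ⟶ G) (m : ℕ), ψ ≫ Formal.modPowπ I (m + 1 + 1) G = φ (m + 1) →
      ψ ≫ Formal.modPowπ I (m + 1) G = φ m := by
    intro ψ m h
    rw [← hφ m, ← h, Category.assoc, Formal.modPowπ_trans]
  have hup : ∀ (ψ : F ⟶ G) (m : ℕ), c ≤ m → ψ ≫ Formal.modPowπ I (m + 1) G = φ m →
      ψ ≫ Formal.modPowπ I (m + 1 + 1) G = φ (m + 1) := by
    intro ψ m hm h
    haveI := hiso m hm
    haveI := hiso (m + 1) (by omega)
    haveI : IsIso (Formal.modPowTrans I (m + 1) G) := by
      have e : Formal.modPowTrans I (m + 1) G =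
          inv (Formal.modPowπ I (m + 1 + 1) G) ≫ Formal.modPowπ I (m + 1) G := by
        rw [IsIso.eq_inv_comp, Formal.modPowπ_trans]
      rw [e]
      infer_instance
    rw [← cancel_mono (Formal.modPowTrans I (m + 1) G), Category.assoc, Formal.modPowπ_trans, h,
      hφ m]
  refine ⟨φ c ≫ inv (Formal.modPowπ I (c + 1) G), ?_, ?_⟩
  · have hc : (φ c ≫ inv (Formal.modPowπ I (c + 1) G)) ≫ Formal.modPowπ I (c + 1) G = φ c := by
      rw [Category.assoc, IsIso.inv_hom_id, Category.comp_id]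
    have hge : ∀ m : ℕ, c ≤ m →
        (φ c ≫ inv (Formal.modPowπ I (c + 1) G)) ≫ Formal.modPowπ I (m + 1) G = φ m := by
      intro m hm
      induction m, hm using Nat.le_induction with
      | base => exact hc
      | succ m hm ih => exact hup _ m hm ih
    have hle : ∀ k m : ℕ, m + k = c →
        (φ c ≫ inv (Formal.modPowπ I (c + 1) G)) ≫ Formal.modPowπ I (m + 1) G = φ m := by
      intro k
      induction k with
      | zero =>
        intro m hm
        have : m = c := by omega
        subst this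
        exact hc
      | succ k ih =>
        intro m hm
        exact hdown _ m (ih (m + 1) (by omega))
    intro n
    by_cases hn : c ≤ n
    · exact hge n hn
    · exact hle (c - n) n (by omega)
  · intro ψ hψ
    rw [IsIso.eq_comp_inv]
    exact hψ c

end target

end Groth.Agent.Lib.Seat17.ComplHom
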