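import Groth.Prelude.Def_FSch3
import Mathlib.RingTheory.AdicCompletion.Algebra
import Mathlib.RingTheory.LocalRing.ResidueField.Basic

/-!
# `FSch.complMap` on the canonical elements, and the kernel of `Â → R/I` (seat 17)
-/

set_option autoImplicit false
universe u

namespace Groth.Agent.Lib.Seat17.ComplMap

open AdicCompletion

section
variable {S T : Type u} [CommRing S] [CommRing T] (I : Ideal S) (K : Ideal T) (g : S →+* T)

theorem evalₐ_complMap (h : I.map g ≤ K) (n : ℕ) (x : AdicCompletion I S) :
    evalₐ K n (FSch.complMap I K g h x) =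
      Ideal.quotientMap (K ^ n) g (FSch.pow_le_comap_pow_of_map_le I K g h n) (evalₐ I n x) := by
  unfold FSch.complMap
  generalize_proofs
  exact evalₐ_liftRingHom K _ (by assumption) n x

/-- `complMap` sends the class of `x` to the class of `g x`. -/
theorem complMap_of (h : I.map g ≤ K) (x : S) :
    FSch.complMap I K g h (of I S x) = of K T (g x) := by
  apply ext_evalₐ
  intro n
  rw [evalₐ_complMap, evalₐ_of, evalₐ_of, Ideal.quotientMap_mk]

end

section
variable {R : Type u} [CommRing R] (I : Ideal R)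

/-- An element of the completion whose image in `R ⧸ I ^ 1` vanishes is not a unit, when `I ≠ ⊤`. -/
theorem not_isUnit_of_evalₐ_one_eq_zero (hI : I ≠ ⊤) (x : AdicCompletion I R)
    (hx : evalₐ I 1 x = 0) : ¬ IsUnit x := by
  intro hu
  have h1 : IsUnit (evalₐ I 1 x) := hu.map (evalₐ I 1)
  rw [hx] at h1
  have h2 : (I ^ 1 : Ideal R) ≠ ⊤ := by rwa [pow_one]
  have : Nontrivial (R ⧸ I ^ 1) := Ideal.Quotient.nontrivial_iff.mpr h2
  exact not_isUnit_zero h1

/-- Every element of the completion is congruent, modulo a non-unit, to the image of an element of `R`. -/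
theorem exists_sub_of_not_isUnit (hI : I ≠ ⊤) (y : AdicCompletion I R) :
    ∃ r : R, ¬ IsUnit (y - of I R r) := by
  obtain ⟨r, hr⟩ := Ideal.Quotient.mk_surjective (evalₐ I 1 y)
  refine ⟨r, not_isUnit_of_evalₐ_one_eq_zero I hI _ ?_⟩
  rw [map_sub, evalₐ_of, hr, sub_self]

end

end Groth.Agent.Lib.Seat17.ComplMap
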