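import Mathlib

/-!
# Euler's dual basis for `S[X]/(p)`, `p` monic (seat 17)

For a monic polynomial `p` of degree `r + 1` over a commutative ring `S`, `A = AdjoinRoot p` with
root `ℓ`:
* `tau`: the `S`-linear functional "coefficient of `ℓ^r`";
* `eulerB k`: the coefficients of `p(X)/(X - ℓ)`; `tau (ℓ^i * eulerB k) = δ_{ik}`;
* expansions `x = Σ tau(x b_k) ℓ^k = Σ tau(x ℓ^k) b_k`, non-degeneracy;
* `eulerD`: the polynomial `p(X)/(X - ℓ) ∈ A[X]`, `(X - C ℓ) * eulerD = p`;
* `evalE g`: the `A`-linear map `A[X] → A`, `a X^i ↦ a g(ℓ^i)`, with its reproducing property.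
-/

namespace Groth.Agent.Lib.Seat17.EulerDual
open Polynomial Finset

variable {S : Type*} [CommRing S]

section Tau
variable (p : S[X]) (hp : p.Monic) (r : ℕ)

/-- the coefficient of `ℓ^r` in the power basis. -/
noncomputable def tau : AdjoinRoot p →ₗ[S] S :=
  (Polynomial.lcoeff S r).comp (AdjoinRoot.modByMonicHom hp)

variable {p} (hr : p.natDegree = r + 1)
include hr

theorem tau_mk_of_natDegree_le (q : S[X]) (hq : q.natDegree ≤ r) :
    tau p hp r (AdjoinRoot.mk p q) = q.coeff r := by
  rcases subsingleton_or_nontrivial S with h | h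
  · exact Subsingleton.elim _ _
  unfold tau
  rw [LinearMap.comp_apply, AdjoinRoot.modByMonicHom_mk, lcoeff_apply]
  congr 1
  rw [Polynomial.modByMonic_eq_self_iff hp]
  apply Polynomial.degree_lt_degree
  omega

theorem tau_root_pow (i : ℕ) (hi : i ≤ r) :
    tau p hp r (AdjoinRoot.root p ^ i) = if i = r then 1 else 0 := by
  rcases subsingleton_or_nontrivial S with h | h
  · exact Subsingleton.elim _ _
  have : AdjoinRoot.root p ^ i = AdjoinRoot.mk p (X ^ i) := by
    rw [map_pow, AdjoinRoot.mk_X]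
  rw [this, tau_mk_of_natDegree_le hp r hr _ (by rw [natDegree_X_pow]; exact hi), coeff_X_pow]
  simp only [eq_comm]

include hp in
theorem exists_repr (x : AdjoinRoot p) :
    ∃ q : S[X], q.natDegree ≤ r ∧ AdjoinRoot.mk p q = x := by
  rcases subsingleton_or_nontrivial S with h | h
  · have : Subsingleton (AdjoinRoot p) := (AdjoinRoot.mk_surjective (g := p)).subsingleton
    exact ⟨0, by simp, Subsingleton.elim _ _⟩
  refine ⟨AdjoinRoot.modByMonicHom hp x, ?_, AdjoinRoot.mk_leftInverse hp x⟩
  obtain ⟨q, rfl⟩ := AdjoinRoot.mk_surjective x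
  rw [AdjoinRoot.modByMonicHom_mk]
  have hne : p ≠ 1 := by
    intro h1
    rw [h1, natDegree_one] at hr
    omega
  have := Polynomial.natDegree_modByMonic_lt q hp hne
  omega

omit hr in
theorem mk_eq_sum (q : S[X]) (hq : q.natDegree ≤ r) :
    AdjoinRoot.mk p q = ∑ k ∈ range (r + 1), AdjoinRoot.of p (q.coeff k) * AdjoinRoot.root p ^ k := by
  conv_lhs => rw [q.as_sum_range' (r + 1) (by omega)]
  rw [map_sum]
  refine sum_congr rfl fun k _ => ?_
  rw [← C_mul_X_pow_eq_monomial, map_mul, map_pow, AdjoinRoot.mk_C, AdjoinRoot.mk_X]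

end Tau

section Euler

/-- iterated `divX`: `divXIter p k = Σ_n p_{n+k+1} X^n`. -/
noncomputable def divXIter (p : S[X]) : ℕ → S[X]
  | 0 => divX p
  | k + 1 => divX (divXIter p k)

theorem coeff_divXIter (p : S[X]) (k n : ℕ) : (divXIter p k).coeff n = p.coeff (n + k + 1) := by
  induction k generalizing n with
  | zero => rw [divXIter, coeff_divX]
  | succ k ih => rw [divXIter, coeff_divX, ih]; congr 1; omega

theorem natDegree_divXIter_le {p : S[X]} {r : ℕ} (hr : p.natDegree = r + 1) (k : ℕ) :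
    (divXIter p k).natDegree ≤ r - k := by
  rw [natDegree_le_iff_coeff_eq_zero]
  intro n hn
  rw [coeff_divXIter]
  apply coeff_eq_zero_of_natDegree_lt
  omega

/-- the coefficients of `p(X) / (X - ℓ)`. -/
noncomputable def eulerB (p : S[X]) (k : ℕ) : AdjoinRoot p := AdjoinRoot.mk p (divXIter p k)

theorem root_mul_eulerB_zero (p : S[X]) :
    AdjoinRoot.root p * eulerB p 0 = -AdjoinRoot.of p (p.coeff 0) := by
  have h := congrArg (AdjoinRoot.mk p) (divX_mul_X_add p)
  rw [map_add, map_mul, AdjoinRoot.mk_X, AdjoinRoot.mk_C, AdjoinRoot.mk_self] at h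
  unfold eulerB divXIter
  linear_combination h

theorem root_mul_eulerB_succ (p : S[X]) (k : ℕ) :
    AdjoinRoot.root p * eulerB p (k + 1) = eulerB p k - AdjoinRoot.of p (p.coeff (k + 1)) := by
  have h := congrArg (AdjoinRoot.mk p) (divX_mul_X_add (divXIter p k))
  rw [map_add, map_mul, AdjoinRoot.mk_X, AdjoinRoot.mk_C, coeff_divXIter, zero_add] at h
  unfold eulerB
  rw [divXIter]
  linear_combination h

variable {p : S[X]} (hp : p.Monic) (r : ℕ) (hr : p.natDegree = r + 1)
include hr

theorem eulerB_eq_zero (k : ℕ) (hk : r < k) : eulerB p k = 0 := by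
  unfold eulerB
  have : divXIter p k = 0 := by
    ext n
    rw [coeff_divXIter, coeff_zero]
    apply coeff_eq_zero_of_natDegree_lt
    omega
  rw [this, map_zero]

include hp in
theorem eulerB_top : eulerB p r = 1 := by
  unfold eulerB
  have : divXIter p r = 1 := by
    ext n
    rw [coeff_divXIter, coeff_one]
    split_ifs with h
    · subst h
      rw [zero_add, ← hr]
      exact hp.coeff_natDegree
    · apply coeff_eq_zero_of_natDegree_lt
      omega
  rw [this, map_one]

theorem tau_eulerB (k : ℕ) : tau p hp r (eulerB p k) = if k = 0 then 1 else 0 := by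
  unfold eulerB
  rw [tau_mk_of_natDegree_le hp r hr _ ((natDegree_divXIter_le hr k).trans (Nat.sub_le _ _)),
    coeff_divXIter]
  split_ifs with h
  · subst h
    rw [add_zero, ← hr]
    exact hp.coeff_natDegree
  · apply coeff_eq_zero_of_natDegree_lt
    omega

theorem tau_root_pow_mul_eulerB (i k : ℕ) (hi : i ≤ r) :
    tau p hp r (AdjoinRoot.root p ^ i * eulerB p k) = if i = k then 1 else 0 := by
  induction i generalizing k with
  | zero =>
    rw [pow_zero, one_mul, tau_eulerB hp r hr]
    simp only [eq_comm]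
  | succ i ih =>
    have hi' : i ≤ r := by omega
    rcases k with _ | k
    · rw [pow_succ, mul_assoc, root_mul_eulerB_zero, mul_neg, map_neg, ← AdjoinRoot.algebraMap_eq,
        mul_comm, ← Algebra.smul_def, map_smul, tau_root_pow hp r hr i hi',
        if_neg (show ¬ i = r by omega), smul_zero, neg_zero, if_neg (by omega)]
    · rw [pow_succ, mul_assoc, root_mul_eulerB_succ, mul_sub, map_sub, ih k hi',
        ← AdjoinRoot.algebraMap_eq, mul_comm _ (algebraMap S _ _), ← Algebra.smul_def, map_smul,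
        tau_root_pow hp r hr i hi', if_neg (show ¬ i = r by omega), smul_zero, sub_zero]
      simp only [Nat.succ_inj]

/-- expansion of `x` in the power basis with coefficients `tau (x * b_k)`. -/
theorem eq_sum_tau_mul_eulerB (x : AdjoinRoot p) :
    x = ∑ k ∈ range (r + 1), AdjoinRoot.of p (tau p hp r (x * eulerB p k)) * AdjoinRoot.root p ^ k := by
  obtain ⟨q, hq, rfl⟩ := exists_repr hp r hr x
  conv_lhs => rw [mk_eq_sum r q hq]
  refine sum_congr rfl fun k hk => ?_
  congr 2
  rw [mk_eq_sum r q hq, sum_mul, map_sum]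
  rw [sum_eq_single k]
  · rw [← AdjoinRoot.algebraMap_eq, mul_assoc, ← Algebra.smul_def, map_smul,
      tau_root_pow_mul_eulerB hp r hr k k (by rw [mem_range] at hk; omega), if_pos rfl, smul_eq_mul,
      mul_one]
  · intro i hi hik
    rw [mem_range] at hi
    rw [← AdjoinRoot.algebraMap_eq, mul_assoc, ← Algebra.smul_def, map_smul,
      tau_root_pow_mul_eulerB hp r hr i k (by omega), if_neg hik, smul_zero]
  · intro h; exact absurd hk h

/-- non-degeneracy of the pairing `tau (x * y)`. -/
theorem eq_zero_of_tau_mul_eq_zero (x : AdjoinRoot p) (h : ∀ y, tau p hp r (x * y) = 0) : x = 0 := by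
  rw [eq_sum_tau_mul_eulerB hp r hr x]
  apply sum_eq_zero
  intro k _
  rw [h, map_zero, zero_mul]

theorem eq_zero_of_tau_mul_root_pow_eq_zero (x : AdjoinRoot p)
    (h : ∀ i ≤ r, tau p hp r (x * AdjoinRoot.root p ^ i) = 0) : x = 0 := by
  apply eq_zero_of_tau_mul_eq_zero hp r hr
  intro y
  obtain ⟨q, hq, rfl⟩ := exists_repr hp r hr y
  rw [mk_eq_sum r q hq, mul_sum, map_sum]
  apply sum_eq_zero
  intro k hk
  rw [mem_range] at hk
  rw [← AdjoinRoot.algebraMap_eq, mul_left_comm, ← Algebra.smul_def, map_smul, h k (by omega),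
    smul_zero]

/-- expansion of `x` in the dual basis `b_k` with coefficients `tau (x * ℓ^k)`. -/
theorem eq_sum_tau_mul_root_pow (x : AdjoinRoot p) :
    x = ∑ k ∈ range (r + 1), AdjoinRoot.of p (tau p hp r (x * AdjoinRoot.root p ^ k)) * eulerB p k := by
  rw [← sub_eq_zero]
  apply eq_zero_of_tau_mul_root_pow_eq_zero hp r hr
  intro i hi
  rw [sub_mul, map_sub, sum_mul, map_sum, sub_eq_zero]
  rw [sum_eq_single i]
  · rw [← AdjoinRoot.algebraMap_eq, mul_assoc, ← Algebra.smul_def, map_smul, mul_comm (eulerB p i),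
      tau_root_pow_mul_eulerB hp r hr i i hi, if_pos rfl, smul_eq_mul, mul_one]
  · intro k hk hki
    rw [← AdjoinRoot.algebraMap_eq, mul_assoc, ← Algebra.smul_def, map_smul, mul_comm (eulerB p k),
      tau_root_pow_mul_eulerB hp r hr i k hi, if_neg (Ne.symm hki), smul_zero]
  · intro h; exfalso; apply h; rw [mem_range]; omega

/-- two functionals of the form `tau (n * ·)` agreeing on the powers of the root are equal. -/
theorem tau_mul_eq_of_root_pow (n : AdjoinRoot p) (g : AdjoinRoot p →ₗ[S] S)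
    (h : ∀ i ≤ r, tau p hp r (n * AdjoinRoot.root p ^ i) = g (AdjoinRoot.root p ^ i))
    (x : AdjoinRoot p) : tau p hp r (n * x) = g x := by
  obtain ⟨q, hq, rfl⟩ := exists_repr hp r hr x
  rw [mk_eq_sum r q hq, mul_sum, map_sum, map_sum]
  refine sum_congr rfl fun k hk => ?_
  rw [mem_range] at hk
  rw [← AdjoinRoot.algebraMap_eq, ← Algebra.smul_def, mul_smul_comm, map_smul, map_smul,
    h k (by omega)]

end Euler

section EulerD
variable (p : S[X])

/-- `p(X) / (X - ℓ)` in `A[X]`. -/
noncomputable def eulerD (r : ℕ) : (AdjoinRoot p)[X] :=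
  ∑ k ∈ range (r + 1), C (eulerB p k) * X ^ k

variable {p}

theorem coeff_eulerD {r : ℕ} (hr : p.natDegree = r + 1) (k : ℕ) :
    (eulerD p r).coeff k = eulerB p k := by
  unfold eulerD
  rw [finsetSum_coeff]
  simp only [coeff_C_mul_X_pow]
  by_cases hk : k ≤ r
  · rw [sum_eq_single k]
    · rw [if_pos rfl]
    · intro i _ hik; rw [if_neg (Ne.symm hik)]
    · intro h; exfalso; apply h; rw [mem_range]; omega
  · rw [eulerB_eq_zero r hr k (by omega)]
    apply sum_eq_zero
    intro i hi
    rw [mem_range] at hi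
    rw [if_neg (by omega)]

theorem X_sub_C_mul_eulerD (_hp : p.Monic) {r : ℕ} (hr : p.natDegree = r + 1) :
    (X - C (AdjoinRoot.root p)) * eulerD p r = p.map (AdjoinRoot.of p) := by
  ext n
  rw [sub_mul, coeff_sub, coeff_C_mul, coeff_map]
  rcases n with _ | n
  · rw [coeff_X_mul_zero, coeff_eulerD hr, root_mul_eulerB_zero, zero_sub, neg_neg]
  · rw [coeff_X_mul, coeff_eulerD hr, coeff_eulerD hr, root_mul_eulerB_succ]
    ring

theorem eval_root_map (q : S[X]) :
    (q.map (AdjoinRoot.of p)).eval (AdjoinRoot.root p) = AdjoinRoot.mk p q := by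
  rw [eval_map, ← AdjoinRoot.algebraMap_eq, ← aeval_def, AdjoinRoot.aeval_eq]

variable (p)

/-- the `A`-linear map `A[X] → A`, `a X^i ↦ a * g(ℓ^i)`. -/
noncomputable def evalE (g : AdjoinRoot p →ₗ[S] S) :
    (AdjoinRoot p)[X] →ₗ[AdjoinRoot p] AdjoinRoot p :=
  Polynomial.lsum fun i => (AdjoinRoot.of p (g (AdjoinRoot.root p ^ i))) • LinearMap.id

variable {p}

theorem evalE_C_mul_X_pow (g : AdjoinRoot p →ₗ[S] S) (a : AdjoinRoot p) (i : ℕ) :
    evalE p g (C a * X ^ i) = a * AdjoinRoot.of p (g (AdjoinRoot.root p ^ i)) := by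
  unfold evalE
  rw [C_mul_X_pow_eq_monomial, lsum_apply, sum_monomial_index]
  · simp [mul_comm]
  · simp

theorem evalE_C_mul (g : AdjoinRoot p →ₗ[S] S) (a : AdjoinRoot p) (F : (AdjoinRoot p)[X]) :
    evalE p g (C a * F) = a * evalE p g F := by
  rw [← smul_eq_C_mul, map_smul, smul_eq_mul]

theorem evalE_map_mul (g : AdjoinRoot p →ₗ[S] S) (F : (AdjoinRoot p)[X]) :
    evalE p g (p.map (AdjoinRoot.of p) * F) = 0 := by
  induction F using Polynomial.induction_on' with
  | add F G hF hG => rw [mul_add, map_add, hF, hG, add_zero]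
  | monomial n a =>
    rw [← C_mul_X_pow_eq_monomial]
    have h1 : p.map (AdjoinRoot.of p) * (C a * X ^ n) =
        ∑ k ∈ range (p.natDegree + 1), C (a * AdjoinRoot.of p (p.coeff k)) * X ^ (k + n) := by
      have h0 : p.map (AdjoinRoot.of p) =
          (∑ k ∈ range (p.natDegree + 1), C (p.coeff k) * X ^ k).map (AdjoinRoot.of p) :=
        congrArg (Polynomial.map (AdjoinRoot.of p)) p.as_sum_range_C_mul_X_pow
      rw [h0, Polynomial.map_sum, sum_mul]
      refine sum_congr rfl fun k _ => ?_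
      rw [Polynomial.map_mul, Polynomial.map_pow, map_C, map_X, C_mul, pow_add]
      ring
    rw [h1, map_sum]
    simp only [evalE_C_mul_X_pow]
    have h2 : ∑ k ∈ range (p.natDegree + 1),
        a * AdjoinRoot.of p (p.coeff k) * AdjoinRoot.of p (g (AdjoinRoot.root p ^ (k + n))) =
        a * AdjoinRoot.of p (g (∑ k ∈ range (p.natDegree + 1),
          p.coeff k • AdjoinRoot.root p ^ (k + n))) := by
      rw [map_sum, map_sum, mul_sum]
      refine sum_congr rfl fun k _ => ?_
      rw [map_smul, smul_eq_mul, map_mul]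
      ring
    rw [h2]
    have h3 : ∑ k ∈ range (p.natDegree + 1), p.coeff k • AdjoinRoot.root p ^ (k + n) =
        aeval (AdjoinRoot.root p) p * AdjoinRoot.root p ^ n := by
      rw [aeval_eq_sum_range, sum_mul]
      refine sum_congr rfl fun k _ => ?_
      rw [pow_add, smul_mul_assoc]
    rw [h3, AdjoinRoot.aeval_eq, AdjoinRoot.mk_self, zero_mul, map_zero, map_zero, mul_zero]

/-- the reproducing property of `eulerD`. -/
theorem evalE_eulerD_mul (hp : p.Monic) {r : ℕ} (hr : p.natDegree = r + 1)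
    (g : AdjoinRoot p →ₗ[S] S) (F : (AdjoinRoot p)[X]) :
    evalE p g (eulerD p r * F) = F.eval (AdjoinRoot.root p) * evalE p g (eulerD p r) := by
  induction F using Polynomial.induction_on' with
  | add F G hF hG => rw [mul_add, map_add, hF, hG, eval_add, add_mul]
  | monomial n a =>
    rw [← C_mul_X_pow_eq_monomial]
    obtain ⟨G, hG⟩ := Polynomial.X_sub_C_dvd_sub_C_eval (a := AdjoinRoot.root p)
      (p := (X : (AdjoinRoot p)[X]) ^ n)
    rw [eval_pow, eval_X] at hG
    have h1 : eulerD p r * (C a * X ^ n) =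
        C (a * AdjoinRoot.root p ^ n) * eulerD p r + p.map (AdjoinRoot.of p) * (C a * G) := by
      rw [← X_sub_C_mul_eulerD hp hr]
      have : (X : (AdjoinRoot p)[X]) ^ n = C (AdjoinRoot.root p ^ n) + (X - C (AdjoinRoot.root p)) * G := by
        rw [← hG]; ring
      rw [this, C_mul]
      ring
    rw [h1, map_add, evalE_map_mul, add_zero, evalE_C_mul, eval_mul, eval_C, eval_pow, eval_X]

theorem evalE_eulerD (hp : p.Monic) {r : ℕ} (hr : p.natDegree = r + 1)
    (g : AdjoinRoot p →ₗ[S] S) (x : AdjoinRoot p) :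
    tau p hp r (evalE p g (eulerD p r) * x) = g x := by
  apply tau_mul_eq_of_root_pow hp r hr
  intro i hi
  unfold eulerD
  rw [map_sum, sum_mul, map_sum]
  simp only [evalE_C_mul_X_pow]
  rw [sum_eq_single i]
  · rw [mul_comm (eulerB p i), ← AdjoinRoot.algebraMap_eq, mul_assoc, ← Algebra.smul_def, map_smul,
      mul_comm (eulerB p i), tau_root_pow_mul_eulerB hp r hr i i hi, if_pos rfl, smul_eq_mul, mul_one]
  · intro k _ hki
    rw [mul_comm (eulerB p k), ← AdjoinRoot.algebraMap_eq, mul_assoc, ← Algebra.smul_def, map_smul,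
      mul_comm (eulerB p k), tau_root_pow_mul_eulerB hp r hr i k hi, if_neg (Ne.symm hki), smul_zero]
  · intro h; exfalso; apply h; rw [mem_range]; omega

end EulerD

end Groth.Agent.Lib.Seat17.EulerDual
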