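import Groth.Agent.Lib.Helper4LambdaAdamsFil
import Groth.Agent.Lib.Helper4LambdaBott

/-!
# λ-operations of products with (inverses of) line elements; Bott's class on scaled roots (seat 17)
-/

universe u

namespace Groth.Agent.Lib.Seat17.LambdaLineInv
open PowerSeries LambdaRing Finset Groth.Agent.Lib.Helper4

section Scale
variable {K : Type u} [CommRing K] [LambdaOps K]

theorem lamSeries_mul_of_lines (P : PosStructure K) (x : K)
    (H : ∀ v, P.IsLine v → ∀ k, 2 ≤ k → LambdaOps.lam k (x * v) = 0) {y : K}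
    (hy : y ∈ lineSpan P) : lamSeries (x * y) = rescale x (lamSeries y) := by
  induction hy using AddSubgroup.closure_induction with
  | mem v hv =>
    rw [lamSeries_of_lam_eq_zero (x * v) (H v hv), lamSeries_of_isLine P v hv, map_add, map_one]
    have h1 : rescale x (C v) = C v := by
      ext n; rw [coeff_rescale, coeff_C]; split_ifs with h
      · subst h; simp
      · simp
    rw [map_mul (rescale x), rescale_X, h1, map_mul C]; ring
  | zero => rw [mul_zero, lamSeries_zero, map_one]
  | add y z _ _ hy hz => rw [mul_add, lamSeries_add, lamSeries_add, map_mul, hy, hz]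
  | neg y _ hy =>
    have h1 : lamSeries (x * -y) * lamSeries (x * y) = 1 := by
      rw [mul_neg]; exact lamSeries_neg_mul _
    have h2 : rescale x (lamSeries (-y)) * lamSeries (x * y) = 1 := by
      rw [hy, ← map_mul, lamSeries_neg_mul, map_one]
    calc lamSeries (x * -y) = lamSeries (x * -y) * (rescale x (lamSeries (-y)) * lamSeries (x * y)) := by
          rw [h2, mul_one]
      _ = (lamSeries (x * -y) * lamSeries (x * y)) * rescale x (lamSeries (-y)) := by ring
      _ = rescale x (lamSeries (-y)) := by rw [h1, one_mul]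

theorem lam_mul_of_lines (P : PosStructure K) (x : K)
    (H : ∀ v, P.IsLine v → ∀ k, 2 ≤ k → LambdaOps.lam k (x * v) = 0) {y : K}
    (hy : y ∈ lineSpan P) (k : ℕ) : LambdaOps.lam k (x * y) = x ^ k * LambdaOps.lam k y := by
  rw [← coeff_lamSeries, lamSeries_mul_of_lines P x H hy, coeff_rescale, coeff_lamSeries]

theorem lam_line_mul (P : PosStructure K) {u : K} (hu : P.IsLine u) {y : K} (hy : y ∈ lineSpan P)
    (k : ℕ) : LambdaOps.lam k (u * y) = u ^ k * LambdaOps.lam k y :=
  lam_mul_of_lines P u
    (fun _ hv k hk => lam_eq_zero_of_isLine P _ (isLine_mul P hu hv) k hk) hy k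

theorem lam_inv_line_eq_zero (P : PosStructure K) {u M : K} (hu : P.IsLine u) (hM : M * u = 1)
    (hMs : M ∈ lineSpan P) (k : ℕ) (hk : 2 ≤ k) : LambdaOps.lam k M = 0 := by
  have h := lam_line_mul P hu hMs k
  rw [mul_comm, hM, lam_one_eq_zero P k hk] at h
  have h2 : M ^ k * u ^ k = 1 := by rw [← mul_pow, hM, one_pow]
  calc LambdaOps.lam k M = (M ^ k * u ^ k) * LambdaOps.lam k M := by rw [h2, one_mul]
    _ = M ^ k * (u ^ k * LambdaOps.lam k M) := by ring
    _ = 0 := by rw [← h, mul_zero]

theorem lam_inv_line_mul (P : PosStructure K) {u M : K} (hu : P.IsLine u) (hM : M * u = 1)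
    (hMs : M ∈ lineSpan P) {y : K} (hy : y ∈ lineSpan P) (k : ℕ) :
    LambdaOps.lam k (M * y) = M ^ k * LambdaOps.lam k y :=
  lam_mul_of_lines P M (fun v hv k hk => by
    rw [mul_comm, lam_line_mul P hv hMs, lam_inv_line_eq_zero P hu hM hMs k hk, mul_zero]) hy k

/-- in a λ-ring with the splitting property, `λ^k(x ℓ⁻¹) = λ^k(x) ℓ^{-k}` for a line element `ℓ`. -/
theorem lam_mul_inv_line {P : PosStructure K} (hK : HasSplitting K P) {ℓ linv : K}
    (hℓ : P.IsLine ℓ) (hlinv : linv * ℓ = 1) (x : K) (k : ℕ) :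
    LambdaOps.lam k (x * linv) = LambdaOps.lam k x * linv ^ k := by
  obtain ⟨L, g, hg, -, h⟩ := exists_extension_lineSpan hK [x, linv]
  apply hg.injective
  rw [hg.isLambdaHom, map_mul, map_mul, map_pow, hg.isLambdaHom, mul_comm (g x),
    lam_inv_line_mul L.posStr (isExtension_isLine hg hℓ) (by rw [← map_mul, hlinv, map_one])
      (h linv (by simp)) (h x (by simp)), mul_comm]

theorem aug_inv_line (P : PosStructure K) {ℓ linv : K} (hℓ : P.IsLine ℓ) (hlinv : linv * ℓ = 1) :
    P.aug linv = 1 := by
  have := congrArg P.aug hlinv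
  rwa [map_mul, hℓ.2, mul_one, map_one] at this

end Scale

section Fil
variable {K K' : Type u} [CommRing K] [LambdaOps K] [CommRing K'] [LambdaOps K']

theorem map_mem_gammaFiltration {P : PosStructure K} {P' : PosStructure K'} {f : K →+* K'}
    (hf : IsExtension P P' f) (n : ℕ) {x : K} (hx : x ∈ gammaFiltration P n) :
    f x ∈ gammaFiltration P' n := by
  by_cases hn : n = 0
  · subst hn; rw [gammaFiltration_zero]; trivial
  rw [gammaFiltration_of_ne_zero P hn] at hx
  rw [gammaFiltration_of_ne_zero P' hn]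
  induction hx using AddSubgroup.closure_induction with
  | mem x hx =>
    obtain ⟨l, hl, hln, rfl⟩ := hx
    apply AddSubgroup.subset_closure
    refine ⟨l.map fun p => (p.1, f p.2), ?_, ?_, ?_⟩
    · intro p hp
      obtain ⟨p', hp', rfl⟩ := List.mem_map.1 hp
      simp only
      rw [hf.aug_comp]; exact hl p' hp'
    · simpa [List.map_map, Function.comp_def] using hln
    · rw [map_list_prod, List.map_map, List.map_map]
      congr 1
      apply List.map_congr_left
      intro p _
      simp only [Function.comp_apply]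
      rw [map_gamma hf.isLambdaHom]
  | zero => rw [map_zero]; exact AddSubgroup.zero_mem _
  | add x y _ _ hx hy => rw [map_add]; exact AddSubgroup.add_mem _ hx hy
  | neg x _ hx => rw [map_neg]; exact AddSubgroup.neg_mem _ hx

theorem gammaFiltration_eq_bot_of_extension {P : PosStructure K} {P' : PosStructure K'}
    {f : K →+* K'} (hf : IsExtension P P' f) (N : ℕ) (hN : gammaFiltration P' N = ⊥) :
    gammaFiltration P N = ⊥ := by
  rw [eq_bot_iff]
  intro x hx
  have := map_mem_gammaFiltration hf N hx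
  rw [hN, AddSubgroup.mem_bot] at this
  rw [AddSubgroup.mem_bot]
  exact hf.injective (by rw [this, map_zero])

theorem isNilpotent_of_mem_gammaFiltration_one (P : PosStructure K) (N : ℕ)
    (hN : gammaFiltration P N = ⊥) {x : K} (hx : x ∈ gammaFiltration P 1) : IsNilpotent x := by
  refine ⟨N, ?_⟩
  have := pow_mem_gammaFiltration P hx N
  rwa [one_mul, hN, AddSubgroup.mem_bot] at this

end Fil

section Bott

theorem bott_eq_of_toNat {K : Type u} [CommRing K] [LambdaOps K] (P : PosStructure K) (j : ℕ)
    (x : K) (m : ℕ) (hm : (P.aug x).toNat = m) :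
    KRR.bott P j x =
      MvPolynomial.aeval (fun i : Fin m => LambdaOps.lam (i.1 + 1) x) (KRR.bottPoly j m) := by
  subst hm; rfl

/-- `B_{j,m}` evaluated at the elementary symmetric functions of `a_k`, scaled by powers of `c`. -/
theorem aeval_bottPoly_scaled {B : Type*} [CommRing B] (j m : ℕ) (a : Fin m → B) (c : B) :
    MvPolynomial.aeval (fun i : Fin m =>
        (∑ t ∈ (univ : Finset (Fin m)).powersetCard (i.1 + 1), ∏ k ∈ t, a k) * c ^ (i.1 + 1))
      (KRR.bottPoly j m) = ∏ k, ∑ l ∈ range j, (a k * c) ^ l := by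
  have e : (fun i : Fin m =>
      (∑ t ∈ (univ : Finset (Fin m)).powersetCard (i.1 + 1), ∏ k ∈ t, a k) * c ^ (i.1 + 1)) =
      fun i : Fin m => MvPolynomial.aeval (fun k => a k * c)
        (MvPolynomial.esymm (Fin m) ℤ (i.1 + 1)) := by
    funext i
    rw [aeval_esymm_eq, sum_mul]
    refine sum_congr rfl fun t ht => ?_
    rw [mem_powersetCard] at ht
    rw [prod_mul_distrib, prod_const, ht.2]
  rw [e, ← MvPolynomial.comp_aeval_apply (φ := MvPolynomial.aeval fun k => a k * c),
    aeval_esymm_bottPoly, KRR.bottSym, map_prod]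
  refine prod_congr rfl fun k _ => ?_
  rw [map_sum]
  refine sum_congr rfl fun l _ => ?_
  rw [map_pow, MvPolynomial.aeval_X]

theorem aeval_bottPoly_choose (j m : ℕ) :
    MvPolynomial.aeval (fun i : Fin m => ((m.choose (i.1 + 1) : ℕ) : ℤ)) (KRR.bottPoly j m) =
      (j : ℤ) ^ m := by
  have h := aeval_bottPoly_scaled j m (fun _ : Fin m => (1 : ℤ)) 1
  have e : (fun i : Fin m =>
      (∑ t ∈ (univ : Finset (Fin m)).powersetCard (i.1 + 1), ∏ k ∈ t, (1 : ℤ)) * 1 ^ (i.1 + 1)) =
      fun i : Fin m => ((m.choose (i.1 + 1) : ℕ) : ℤ) := by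
    funext i
    simp [card_powersetCard]
  rw [e] at h
  rw [h]
  simp

end Bott

section Nil
variable {K : Type u} [CommRing K] [LambdaOps K]

/-- if the `γ^i(Σ u_k - m)`, `i ≥ 1`, are nilpotent then so is every `u_n - 1`. -/
theorem isNilpotent_line_sub_one (P : PosStructure K) {m : ℕ} (u : Fin m → K)
    (hu : ∀ k, P.IsLine (u k))
    (hnil : ∀ i, 1 ≤ i → IsNilpotent (gamma i (∑ k, u k - (m : K)))) (n : Fin m) :
    IsNilpotent (u n - 1) := by
  classical
  set π := Ideal.Quotient.mk (nilradical K) with hπ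
  set s : Multiset (K ⧸ nilradical K) := (univ : Finset (Fin m)).val.map (fun k => π (u k - 1))
    with hs
  have hcard : Multiset.card s = m := by simp [hs]
  have hesymm : ∀ i, 1 ≤ i → s.esymm i = 0 := by
    intro i hi
    rw [hs, Finset.esymm_map_val]
    have h1 := gamma_sum_sub_card (lam_one_eq_zero P) m u
      (fun k => lam_eq_zero_of_isLine P (u k) (hu k)) i
    have h2 : (∑ t ∈ (univ : Finset (Fin m)).powersetCard i, ∏ k ∈ t, π (u k - 1)) =
        π (gamma i (∑ k, u k - (m : K))) := by
      rw [h1, map_sum]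
      refine sum_congr rfl fun t _ => ?_
      rw [map_prod]
    rw [h2, Ideal.Quotient.eq_zero_iff_mem, mem_nilradical]
    exact hnil i hi
  have hV := Multiset.prod_X_sub_X_eq_sum_esymm s
  have hev := congrArg (Polynomial.eval (π (u n - 1))) hV
  have hL : Polynomial.eval (π (u n - 1))
      (s.map fun t => (Polynomial.X - Polynomial.C t)).prod = 0 := by
    rw [hs, Multiset.map_map, ← Finset.prod_eq_multiset_prod, Polynomial.eval_prod]
    apply Finset.prod_eq_zero (Finset.mem_univ n)
    simp
  rw [hL, hcard, Polynomial.eval_finsetSum, sum_range_succ', sum_eq_zero] at hev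
  · have h0 : s.esymm 0 = 1 := by simp [Multiset.esymm]
    simp only [pow_zero, h0, map_one, mul_one, one_mul, Nat.sub_zero, zero_add,
      Polynomial.eval_pow, Polynomial.eval_X] at hev
    have h3 : π ((u n - 1) ^ m) = 0 := by rw [map_pow]; exact hev.symm
    rw [Ideal.Quotient.eq_zero_iff_mem, mem_nilradical] at h3
    exact IsNilpotent.of_pow h3
  · intro i _
    rw [hesymm (i + 1) (by omega)]
    simp

end Nil

end Groth.Agent.Lib.Seat17.LambdaLineInv
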