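import Groth.Agent.Lib.Seat17GoodFil
import Groth.Agent.Lib.Seat17LambdaLineInv
import Groth.Agent.Lib.Helper4LambdaAmple
import Groth.Agent.Lib.Helper4LambdaSigma

/-!
# The γ-filtration of the elementary extension `K_e` (seat 17)

`F^k K_e = Σ_{i ≤ r} F^{k-i}K · (ℓ - 1)^i`.
-/

universe v

namespace Groth.Agent.Lib.Seat17.GammaFilExt
open PowerSeries Finset LambdaRing Groth.Agent.Lib.Helper4 Groth.Agent.Lib.Seat17.GoodFil
  Groth.Agent.Lib.Seat17.LambdaLineInv

section General

theorem lam_mul_line {K : Type v} [CommRing K] [LambdaOps K] {P : PosStructure K}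
    (hK : HasSplitting K P) {w : K} (hw : P.IsLine w) (x : K) (k : ℕ) :
    LambdaOps.lam k (x * w) = LambdaOps.lam k x * w ^ k := by
  obtain ⟨L, g, hg, -, h⟩ := exists_extension_lineSpan hK [x]
  apply hg.injective
  rw [hg.isLambdaHom, map_mul, map_mul, map_pow, hg.isLambdaHom, mul_comm (g x),
    lam_line_mul L.posStr (isExtension_isLine hg hw) (h x (by simp)), mul_comm]

theorem binom_reshuffle {R : Type*} [CommRing R] (m : ℕ) (a : ℕ → R) (Y Z : R) :
    ∑ k ∈ range (m + 1), a k * Y ^ k * (Z - Y) ^ (m - k) =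
      ∑ i ∈ range (m + 1),
        (∑ k ∈ range (i + 1), (-1) ^ (i - k) * ((m - k).choose (i - k) : R) * a k) *
          Y ^ i * Z ^ (m - i) := by
  have h1 : ∀ k ∈ range (m + 1), a k * Y ^ k * (Z - Y) ^ (m - k) =
      ∑ i ∈ Ico k (m + 1),
        (-1) ^ (i - k) * ((m - k).choose (i - k) : R) * a k * Y ^ i * Z ^ (m - i) := by
    intro k hk
    rw [mem_range] at hk
    rw [sub_eq_neg_add, add_pow, mul_sum, sum_Ico_eq_sum_range]
    have : m + 1 - k = m - k + 1 := by omega
    rw [this]
    refine sum_congr rfl fun j hj => ?_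
    rw [mem_range] at hj
    have e1 : k + j - k = j := by omega
    have e2 : m - (k + j) = m - k - j := by omega
    rw [e1, e2, neg_pow, pow_add]
    ring
  rw [sum_congr rfl h1, sum_comm' (s' := fun i => range (i + 1)) (t' := range (m + 1))]
  · refine sum_congr rfl fun i _ => ?_
    rw [sum_mul, sum_mul]
  · intro k i
    simp only [mem_range, mem_Ico]
    omega

variable {K : Type*} [CommRing K] [LambdaOps K]

theorem gamma_sub_natCast_eq_sum (h1 : ∀ k : ℕ, 2 ≤ k → LambdaOps.lam k (1 : K) = 0)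
    (e : K) (m : ℕ) (he : ∀ i, m < i → LambdaOps.lam i e = 0) (i : ℕ) (hi : i ≤ m) :
    gamma i (e - (m : K)) =
      ∑ k ∈ range (i + 1), (-1) ^ (i - k) * ((m - k).choose (i - k) : K) * LambdaOps.lam k e := by
  rw [← coeff_gammaSeries, gammaSeries_sub_natCast h1 e m he, map_sum]
  have hsub : range (i + 1) ⊆ range (m + 1) := range_subset_range.2 (by omega)
  rw [← sum_subset hsub]
  · refine sum_congr rfl fun k hk => ?_
    rw [mem_range] at hk
    rw [coeff_C_mul, coeff_X_pow_mul', if_pos (by omega), coeff_one_sub_X_pow]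
    ring
  · intro k _ hk
    rw [mem_range] at hk
    rw [coeff_C_mul, coeff_X_pow_mul', if_neg (by omega), mul_zero]

end General

section GoodMul
variable {A : Type*} {B : Type*} [CommRing A] [LambdaOps A] [CommRing B] [LambdaOps B]
  {G : ℕ → AddSubgroup B}

/-- the γ-series of `f y · w - m` in terms of the `γ^i(y - m)`. -/
theorem gammaSeries_mul_sub (h1A : ∀ k : ℕ, 2 ≤ k → LambdaOps.lam k (1 : A) = 0)
    (h1B : ∀ k : ℕ, 2 ≤ k → LambdaOps.lam k (1 : B) = 0) (f : A →+* B) (y : A) (m : ℕ)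
    (hy : ∀ i, m < i → LambdaOps.lam i y = 0) (w : B)
    (hw : ∀ k, LambdaOps.lam k (f y * w) = f (LambdaOps.lam k y) * w ^ k) :
    gammaSeries (f y * w - (m : B)) =
      ∑ i ∈ range (m + 1), C (f (gamma i (y - (m : A))) * w ^ i) * X ^ i *
        (1 + C (w - 1) * X) ^ (m - i) := by
  have hyw : ∀ i, m < i → LambdaOps.lam i (f y * w) = 0 := by
    intro i hi
    rw [hw, hy i hi, map_zero, zero_mul]
  rw [gammaSeries_sub_natCast h1B (f y * w) m hyw]
  have h2 : ∀ k ∈ range (m + 1), C (LambdaOps.lam k (f y * w)) * (X ^ k * (1 - X) ^ (m - k)) =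
      C (f (LambdaOps.lam k y)) * (C w * X) ^ k * ((1 + C (w - 1) * X) - C w * X) ^ (m - k) := by
    intro k _
    have e : (1 + C (w - 1) * X : B⟦X⟧) - C w * X = 1 - X := by
      rw [map_sub, map_one]; ring
    rw [e, hw, map_mul, map_pow, mul_pow]
    ring
  rw [sum_congr rfl h2, binom_reshuffle]
  refine sum_congr rfl fun i hi => ?_
  rw [mem_range] at hi
  have h3 : (∑ k ∈ range (i + 1), (-1 : B⟦X⟧) ^ (i - k) *
      (((m - k).choose (i - k) : ℕ) : B⟦X⟧) * C (f (LambdaOps.lam k y))) =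
      C (f (gamma i (y - (m : A)))) := by
    rw [gamma_sub_natCast_eq_sum h1A y m hy i (by omega), map_sum, map_sum]
    refine sum_congr rfl fun k _ => ?_
    simp only [map_mul, map_pow, map_neg, map_one, map_natCast]
  rw [h3, map_mul, map_pow, mul_pow]
  ring

theorem good_gammaSeries_mul_sub (hG : IsMulFil G) (h0 : G 0 = ⊤)
    (h1A : ∀ k : ℕ, 2 ≤ k → LambdaOps.lam k (1 : A) = 0)
    (h1B : ∀ k : ℕ, 2 ≤ k → LambdaOps.lam k (1 : B) = 0) (f : A →+* B) (y : A) (m : ℕ)
    (hy : ∀ i, m < i → LambdaOps.lam i y = 0) (w : B)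
    (hw : ∀ k, LambdaOps.lam k (f y * w) = f (LambdaOps.lam k y) * w ^ k)
    (hγ : ∀ i, f (gamma i (y - (m : A))) ∈ G i) (hb : w - 1 ∈ G 1) :
    Good G (gammaSeries (f y * w - (m : B))) := by
  rw [gammaSeries_mul_sub h1A h1B f y m hy w hw]
  apply good_sum
  intro i _
  apply good_mul hG
  · apply good_C_mul_X_pow
    have hw0 : w ^ i ∈ G 0 := by rw [h0]; trivial
    have := hG.mul_mem (hγ i) hw0
    rwa [add_zero] at this
  · exact good_pow hG (good_one_add_C_mul_X hG hb) _

end GoodMul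

section Ext
variable {K : Type v} [CommRing K] [LambdaOps K]

theorem isMulFil_gammaFiltration (P : PosStructure K) : IsMulFil (gammaFiltration P) where
  one_mem := by rw [gammaFiltration_zero]; trivial
  mul_mem := fun ha hb => mul_mem_gammaFiltration P _ _ _ _ ha hb
  anti := fun h => gammaFiltration_anti P h

/-- coefficients of the relation `(ℓ - 1)^m = Σ_{j<m} c_j (ℓ - 1)^j` -/
def relCoeff (e : K) (m j : ℕ) : K := -((-1) ^ (m + j) * gamma (m - j) (e - (m : K)))

theorem relCoeff_mem (P : PosStructure K) (e : K) (m : ℕ) (hm : P.aug e = m) (j : ℕ) :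
    relCoeff e m j ∈ gammaFiltration P (m - j) := by
  unfold relCoeff
  apply AddSubgroup.neg_mem
  apply mul_mem_gammaFiltration_left
  apply gamma_mem_gammaFiltration
  rw [map_sub, hm, map_natCast]; simp

variable {P : PosStructure K} (hK : HasSplitting K P)
  (e : K) (he : e ∈ P.pos) (r : ℕ) (hr : P.aug e = r + 1)

include he hr in
/-- `Σ_i γ^i(e - m) (1 - ℓ)^{m-i} = 0` in `K_e`. -/
theorem sum_gamma_mul_one_sub_root_pow :
    ∑ i ∈ range (r + 1 + 1), AdjoinRoot.of (KRR.extPoly P e) (gamma i (e - ((r + 1 : ℕ) : K))) *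
      (1 - AdjoinRoot.root (KRR.extPoly P e)) ^ (r + 1 - i) = 0 := by
  have hm : (P.aug e).toNat = r + 1 := by rw [hr]; rfl
  have h1 := lam_one_eq_zero P
  have he' : ∀ i, r + 1 < i → LambdaOps.lam i e = 0 := fun i hi =>
    lam_eq_zero_of_pos P e he i (by rw [hm]; exact hi)
  have hrev := rev_gammaSeries_sub_natCast h1 e (r + 1) he'
  have h2 := congrArg (Polynomial.eval₂ (AdjoinRoot.of (KRR.extPoly P e))
    (1 - AdjoinRoot.root (KRR.extPoly P e))) hrev
  rw [rev, Polynomial.eval₂_finsetSum, Polynomial.eval₂_finsetSum] at h2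
  have h3 : ∀ i ∈ range (r + 1 + 1), Polynomial.eval₂ (AdjoinRoot.of (KRR.extPoly P e))
      (1 - AdjoinRoot.root (KRR.extPoly P e))
      (Polynomial.C (coeff i (gammaSeries (e - ((r + 1 : ℕ) : K)))) * Polynomial.X ^ (r + 1 - i)) =
      AdjoinRoot.of (KRR.extPoly P e) (gamma i (e - ((r + 1 : ℕ) : K))) *
        (1 - AdjoinRoot.root (KRR.extPoly P e)) ^ (r + 1 - i) := by
    intro i _
    rw [Polynomial.eval₂_mul, Polynomial.eval₂_C, Polynomial.eval₂_X_pow, coeff_gammaSeries]
  rw [sum_congr rfl h3] at h2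
  rw [h2]
  have h4 : ∀ i ∈ range (r + 1 + 1), Polynomial.eval₂ (AdjoinRoot.of (KRR.extPoly P e))
      (1 - AdjoinRoot.root (KRR.extPoly P e))
      (Polynomial.C (LambdaOps.lam i e) * (Polynomial.X - 1) ^ (r + 1 - i)) =
      (-1) ^ (r + 1) * (algebraMap K (AdjoinRoot (KRR.extPoly P e)) ((-1 : K) ^ i * LambdaOps.lam i e) *
        AdjoinRoot.root (KRR.extPoly P e) ^ (r + 1 - i)) := by
    intro i hi
    rw [mem_range] at hi
    rw [Polynomial.eval₂_mul, Polynomial.eval₂_C, Polynomial.eval₂_pow, Polynomial.eval₂_sub,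
      Polynomial.eval₂_X, Polynomial.eval₂_one, AdjoinRoot.algebraMap_eq, map_mul, map_pow, map_neg,
      map_one]
    have e1 : (1 - AdjoinRoot.root (KRR.extPoly P e) - 1) = -AdjoinRoot.root (KRR.extPoly P e) := by
      ring
    have e2 : (-1 : AdjoinRoot (KRR.extPoly P e)) ^ (r + 1) = (-1) ^ (r + 1 - i) * (-1) ^ i := by
      rw [← pow_add]; congr 1; omega
    have e3 : ((-1 : AdjoinRoot (KRR.extPoly P e)) ^ i) * (-1) ^ i = 1 := by
      rw [← mul_pow]; simp
    rw [e1, neg_pow, e2]
    linear_combination (-((-1 : AdjoinRoot (KRR.extPoly P e)) ^ (r + 1 - i) *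
      AdjoinRoot.of (KRR.extPoly P e) (LambdaOps.lam i e) *
      AdjoinRoot.root (KRR.extPoly P e) ^ (r + 1 - i))) * e3
  rw [sum_congr rfl h4, ← mul_sum]
  have h5 := extPoly_root_rel P e
  rw [hm] at h5
  rw [h5, mul_zero]

include he hr in
theorem root_sub_one_pow :
    (AdjoinRoot.root (KRR.extPoly P e) - 1) ^ (r + 1) =
      ∑ j ∈ range (r + 1), AdjoinRoot.of (KRR.extPoly P e) (relCoeff e (r + 1) j) *
        (AdjoinRoot.root (KRR.extPoly P e) - 1) ^ j := by
  have h := sum_gamma_mul_one_sub_root_pow e he r hr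
  rw [sum_range_succ', gamma_zero', map_one, one_mul, Nat.sub_zero] at h
  set z := AdjoinRoot.root (KRR.extPoly P e) - 1 with hz
  have e1 : (1 - AdjoinRoot.root (KRR.extPoly P e)) = -z := by rw [hz]; ring
  rw [e1] at h
  rw [← sum_range_reflect]
  have h6 : z ^ (r + 1) = (-1) ^ (r + 1) * (-z) ^ (r + 1) := by
    rw [neg_pow z, ← mul_assoc, ← mul_pow]; simp
  have h7 : (-z) ^ (r + 1) = -∑ i ∈ range (r + 1),
      AdjoinRoot.of (KRR.extPoly P e) (gamma (i + 1) (e - ((r + 1 : ℕ) : K))) *
        (-z) ^ (r + 1 - (i + 1)) := by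
    linear_combination h
  rw [h6, h7, mul_neg, mul_sum, ← sum_neg_distrib]
  refine sum_congr rfl fun i hi => ?_
  rw [mem_range] at hi
  have e2 : r + 1 - (r + 1 - 1 - i) = i + 1 := by omega
  have e3 : r + 1 - (i + 1) = r + 1 - 1 - i := by omega
  rw [relCoeff, e2, e3, neg_pow z, pow_add]
  simp only [map_neg, map_mul, map_pow, map_one]
  ring

variable [inst : LambdaOps (AdjoinRoot (KRR.extPoly P e))]
  (Pe : PosStructure (AdjoinRoot (KRR.extPoly P e)))
  (hext : IsExtension P Pe (AdjoinRoot.of (KRR.extPoly P e)))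
  (hline : Pe.IsLine (AdjoinRoot.root (KRR.extPoly P e)))
  (hsplit : HasSplitting (AdjoinRoot (KRR.extPoly P e)) Pe)

/-- the candidate filtration `Σ_{i ≤ r} F^{k-i}K (ℓ-1)^i` of `K_e` -/
noncomputable def extFil (P : PosStructure K) (e : K) (r : ℕ) (k : ℕ) : AddSubgroup (AdjoinRoot (KRR.extPoly P e)) :=
  zFil (AdjoinRoot.of (KRR.extPoly P e)) (AdjoinRoot.root (KRR.extPoly P e) - 1)
    (gammaFiltration P) (r + 1) k

include he hr in
omit inst in
theorem isMulFil_extFil : IsMulFil (extFil P e r) :=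
  isMulFil_zFil (isMulFil_gammaFiltration P) (Nat.succ_pos r) (relCoeff e (r + 1))
    (fun j _ => relCoeff_mem P e (r + 1) (by rw [hr]; push_cast; ring) j)
    (root_sub_one_pow e he r hr)

include he hr in
omit inst in
theorem z_mul_mem_extFil {s : ℕ} {x : AdjoinRoot (KRR.extPoly P e)} (hx : x ∈ extFil P e r s) :
    (AdjoinRoot.root (KRR.extPoly P e) - 1) * x ∈ extFil P e r (s + 1) :=
  z_mul_mem (isMulFil_gammaFiltration P) (relCoeff e (r + 1))
    (fun j _ => relCoeff_mem P e (r + 1) (by rw [hr]; push_cast; ring) j)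
    (root_sub_one_pow e he r hr) hx

include he hr in
omit inst in
theorem extFil_zero : extFil P e r 0 = ⊤ := by
  have hG := isMulFil_extFil e he r hr
  rw [eq_top_iff]
  rintro x -
  induction x using AdjoinRoot.induction_on with
  | ih q =>
    induction q using Polynomial.induction_on' with
    | add p q hp hq => rw [map_add]; exact AddSubgroup.add_mem _ hp hq
    | monomial n a =>
      rw [← Polynomial.C_mul_X_pow_eq_monomial, map_mul, map_pow, AdjoinRoot.mk_C, AdjoinRoot.mk_X]
      have hn : AdjoinRoot.root (KRR.extPoly P e) ^ n ∈ extFil P e r 0 := by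
        induction n with
        | zero => rw [pow_zero]; exact hG.one_mem
        | succ n ih =>
          have e1 : AdjoinRoot.root (KRR.extPoly P e) ^ (n + 1) =
              (AdjoinRoot.root (KRR.extPoly P e) - 1) * AdjoinRoot.root (KRR.extPoly P e) ^ n +
                AdjoinRoot.root (KRR.extPoly P e) ^ n := by
            rw [pow_succ]; ring
          rw [e1]
          exact AddSubgroup.add_mem _
            (hG.anti (Nat.zero_le _) (z_mul_mem_extFil e he r hr ih)) ih
      have ha : a ∈ gammaFiltration P 0 := by rw [gammaFiltration_zero]; trivial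
      have := map_mul_mem (f := AdjoinRoot.of (KRR.extPoly P e))
        (z := AdjoinRoot.root (KRR.extPoly P e) - 1) (m := r + 1)
        (isMulFil_gammaFiltration P) ha hn
      rwa [add_zero] at this

include he hr in
omit inst in
theorem root_pow_sub_one_mem (j : ℕ) :
    AdjoinRoot.root (KRR.extPoly P e) ^ j - 1 ∈ extFil P e r 1 := by
  rw [← mul_geom_sum]
  have h : ∑ i ∈ range j, AdjoinRoot.root (KRR.extPoly P e) ^ i ∈ extFil P e r 0 := by
    rw [extFil_zero e he r hr]; trivial
  exact z_mul_mem_extFil e he r hr h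

include he hr hext hline hsplit in
theorem pos_mul_root_pow_mem_goodSub (p : K) (hp : p ∈ P.pos) (j : ℕ) :
    AdjoinRoot.of (KRR.extPoly P e) p * AdjoinRoot.root (KRR.extPoly P e) ^ j -
      (((P.aug p).toNat : ℕ) : AdjoinRoot (KRR.extPoly P e)) ∈
      goodSub (isMulFil_extFil e he r hr) := by
  rw [mem_goodSub]
  apply good_gammaSeries_mul_sub (isMulFil_extFil e he r hr) (extFil_zero e he r hr)
    (lam_one_eq_zero P) (lam_one_eq_zero Pe)
  · exact fun i hi => lam_eq_zero_of_pos P p hp i hi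
  · intro k
    rw [lam_mul_line hsplit (isLine_pow Pe hline j), ← hext.isLambdaHom]
  · intro i
    have haug : P.aug (p - (((P.aug p).toNat : ℕ) : K)) = 0 := by
      rw [map_sub, map_natCast, Int.toNat_of_nonneg (P.aug_pos p hp).le]; simp
    have ha : gamma i (p - (((P.aug p).toNat : ℕ) : K)) ∈ gammaFiltration P (i - 0) :=
      gamma_mem_gammaFiltration P i _ haug
    have := mem_zFil_of (f := AdjoinRoot.of (KRR.extPoly P e))
      (z := AdjoinRoot.root (KRR.extPoly P e) - 1) (m := r + 1) (Nat.succ_pos r) ha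
    rwa [pow_zero, mul_one] at this
  · exact root_pow_sub_one_mem e he r hr j

include he hr hext hline hsplit in
theorem sub_aug_mem_goodSub (x : AdjoinRoot (KRR.extPoly P e)) :
    x - ((Pe.aug x : ℤ) : AdjoinRoot (KRR.extPoly P e)) ∈ goodSub (isMulFil_extFil e he r hr) := by
  induction x using AdjoinRoot.induction_on with
  | ih q =>
    induction q using Polynomial.induction_on' with
    | add p q hp hq =>
      have e1 : AdjoinRoot.mk (KRR.extPoly P e) (p + q) -
          ((Pe.aug (AdjoinRoot.mk (KRR.extPoly P e) (p + q)) : ℤ) : AdjoinRoot (KRR.extPoly P e)) =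
          (AdjoinRoot.mk (KRR.extPoly P e) p -
            ((Pe.aug (AdjoinRoot.mk (KRR.extPoly P e) p) : ℤ) : AdjoinRoot (KRR.extPoly P e))) +
          (AdjoinRoot.mk (KRR.extPoly P e) q -
            ((Pe.aug (AdjoinRoot.mk (KRR.extPoly P e) q) : ℤ) : AdjoinRoot (KRR.extPoly P e))) := by
        rw [map_add, map_add, Int.cast_add]; ring
      rw [e1]
      exact AddSubgroup.add_mem _ hp hq
    | monomial n a =>
      rw [← Polynomial.C_mul_X_pow_eq_monomial, map_mul, map_pow, AdjoinRoot.mk_C, AdjoinRoot.mk_X]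
      obtain ⟨p, q, hp, hq, rfl⟩ := P.exists_sub a
      have e1 : Pe.aug (AdjoinRoot.of (KRR.extPoly P e) (p - q) *
          AdjoinRoot.root (KRR.extPoly P e) ^ n) =
          (((P.aug p).toNat : ℕ) : ℤ) - (((P.aug q).toNat : ℕ) : ℤ) := by
        rw [map_mul, hext.aug_comp, map_pow, hline.2, one_pow, mul_one, map_sub,
          Int.toNat_of_nonneg (P.aug_pos p hp).le, Int.toNat_of_nonneg (P.aug_pos q hq).le]
      rw [e1]
      have e2 : AdjoinRoot.of (KRR.extPoly P e) (p - q) * AdjoinRoot.root (KRR.extPoly P e) ^ n -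
          (((((P.aug p).toNat : ℕ) : ℤ) - (((P.aug q).toNat : ℕ) : ℤ) : ℤ) :
            AdjoinRoot (KRR.extPoly P e)) =
          (AdjoinRoot.of (KRR.extPoly P e) p * AdjoinRoot.root (KRR.extPoly P e) ^ n -
            (((P.aug p).toNat : ℕ) : AdjoinRoot (KRR.extPoly P e))) -
          (AdjoinRoot.of (KRR.extPoly P e) q * AdjoinRoot.root (KRR.extPoly P e) ^ n -
            (((P.aug q).toNat : ℕ) : AdjoinRoot (KRR.extPoly P e))) := by
        rw [map_sub]; push_cast; ring
      rw [e2]
      exact AddSubgroup.sub_mem _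
        (pos_mul_root_pow_mem_goodSub e he r hr Pe hext hline hsplit p hp n)
        (pos_mul_root_pow_mem_goodSub e he r hr Pe hext hline hsplit q hq n)

include he hr hext hline hsplit in
/-- the γ-filtration of the elementary extension -/
theorem gammaFiltration_eq_extFil (k : ℕ) : gammaFiltration Pe k = extFil P e r k := by
  apply le_antisymm
  · refine gammaFiltration_le Pe (isMulFil_extFil e he r hr) (extFil_zero e he r hr) ?_ k
    intro x hx
    have := sub_aug_mem_goodSub e he r hr Pe hext hline hsplit x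
    rwa [hx, Int.cast_zero, sub_zero] at this
  · rw [extFil, zFil, AddSubgroup.closure_le]
    rintro b ⟨i, hi, a, ha, rfl⟩
    have h1 := map_mem_gammaFiltration hext (k - i) ha
    have hz : AdjoinRoot.root (KRR.extPoly P e) - 1 ∈ gammaFiltration Pe 1 :=
      mem_gammaFiltration_one Pe _ (by rw [map_sub, hline.2, map_one, sub_self])
    have h2 := pow_mem_gammaFiltration Pe hz i
    exact gammaFiltration_anti Pe (by omega) (mul_mem_gammaFiltration Pe _ _ _ _ h1 h2)

end Ext

end Groth.Agent.Lib.Seat17.GammaFilExt
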