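import Groth.Agent.Lib.Helper4Lambda
import Groth.Agent.Lib.Helper4LambdaFil

/-!
# Multiplicative filtrations by additive subgroups and "good" power series (seat 17)

* `IsMulFil G`, `Good G f` (the `i`-th coefficient of `f` lies in `G i`), closure properties.
* `goodSub`: the additive subgroup of those `x` of a λ-ring whose γ-series is good;
  `gammaFiltration_le`: if it contains the augmentation ideal then `F^n ≤ G n`.
* `zFil f z F m n = Σ_{i < m} f (F (n - i)) z^i` and its multiplicativity when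
  `z^m = Σ_{j<m} f(c_j) z^j` with `c_j ∈ F (m - j)`.
-/

universe u v

namespace Groth.Agent.Lib.Seat17.GoodFil
open PowerSeries Finset LambdaRing Groth.Agent.Lib.Helper4

section Good
variable {B : Type*} [CommRing B] (G : ℕ → AddSubgroup B)

/-- a multiplicative decreasing filtration by additive subgroups -/
structure IsMulFil : Prop where
  one_mem : (1 : B) ∈ G 0
  mul_mem : ∀ {i j : ℕ} {a b : B}, a ∈ G i → b ∈ G j → a * b ∈ G (i + j)
  anti : ∀ {i j : ℕ}, i ≤ j → G j ≤ G i

/-- the `i`-th coefficient lies in the `i`-th step -/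
def Good (f : B⟦X⟧) : Prop := ∀ i, coeff i f ∈ G i

variable {G}

theorem good_zero : Good G (0 : B⟦X⟧) := fun i => by
  rw [map_zero]; exact (G i).zero_mem

theorem good_one (hG : IsMulFil G) : Good G (1 : B⟦X⟧) := by
  intro i
  rw [coeff_one]
  split_ifs with h
  · subst h; exact hG.one_mem
  · exact (G i).zero_mem

theorem good_add {f g : B⟦X⟧} (hf : Good G f) (hg : Good G g) : Good G (f + g) := fun i => by
  rw [map_add]; exact (G i).add_mem (hf i) (hg i)

theorem good_sum {ι : Type*} (s : Finset ι) (f : ι → B⟦X⟧) (h : ∀ i ∈ s, Good G (f i)) :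
    Good G (∑ i ∈ s, f i) := fun n => by
  rw [map_sum]; exact AddSubgroup.sum_mem _ fun i hi => h i hi n

theorem good_mul (hG : IsMulFil G) {f g : B⟦X⟧} (hf : Good G f) (hg : Good G g) :
    Good G (f * g) := by
  intro i
  rw [coeff_mul]
  apply AddSubgroup.sum_mem
  rintro ⟨p, q⟩ hpq
  have hpq' : p + q = i := by simpa using hpq
  rw [← hpq']
  exact hG.mul_mem (hf p) (hg q)

theorem good_pow (hG : IsMulFil G) {f : B⟦X⟧} (hf : Good G f) (n : ℕ) : Good G (f ^ n) := by
  induction n with
  | zero => rw [pow_zero]; exact good_one hG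
  | succ n ih => rw [pow_succ]; exact good_mul hG ih hf

theorem good_inv (hG : IsMulFil G) {f g : B⟦X⟧} (hf : Good G f) (hf0 : coeff 0 f = 1)
    (h : g * f = 1) : Good G g := by
  intro i
  induction i using Nat.strong_induction_on with
  | _ i ih =>
    have hc := congrArg (coeff i) h
    rw [coeff_mul, Finset.Nat.sum_antidiagonal_eq_sum_range_succ_mk, Finset.sum_range_succ,
      Nat.sub_self, hf0, mul_one] at hc
    have : coeff i g = coeff i (1 : B⟦X⟧) - ∑ p ∈ range i, coeff p g * coeff (i - p) f := by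
      rw [← hc]; ring
    rw [this]
    apply AddSubgroup.sub_mem
    · exact good_one hG i
    · apply AddSubgroup.sum_mem
      intro p hp
      rw [Finset.mem_range] at hp
      have := hG.mul_mem (ih p hp) (hf (i - p))
      rwa [Nat.add_sub_cancel' hp.le] at this

theorem good_C_mul_X_pow {c : B} {i : ℕ} (hc : c ∈ G i) : Good G (C c * X ^ i) := by
  intro n
  rw [coeff_C_mul, coeff_X_pow]
  split_ifs with h
  · subst h; rwa [mul_one]
  · rw [mul_zero]; exact (G n).zero_mem

theorem good_one_add_C_mul_X (hG : IsMulFil G) {b : B} (hb : b ∈ G 1) :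
    Good G (1 + C b * X) := by
  apply good_add (good_one hG)
  have := good_C_mul_X_pow (G := G) hb
  rwa [pow_one] at this

end Good

section Lam
variable {B : Type*} [CommRing B] [LambdaOps B] {G : ℕ → AddSubgroup B}

/-- the elements whose γ-series is good -/
def goodSub (hG : IsMulFil G) : AddSubgroup B where
  carrier := {x | Good G (gammaSeries x)}
  zero_mem' := by
    show Good G (gammaSeries 0)
    rw [gammaSeries_zero]; exact good_one hG
  add_mem' := by
    intro a b (ha : Good G (gammaSeries a)) (hb : Good G (gammaSeries b))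
    show Good G (gammaSeries (a + b))
    rw [gammaSeries_add]; exact good_mul hG ha hb
  neg_mem' := by
    intro a (ha : Good G (gammaSeries a))
    show Good G (gammaSeries (-a))
    refine good_inv hG ha ?_ (gammaSeries_neg_mul a)
    rw [coeff_zero_eq_constantCoeff_apply, constantCoeff_gammaSeries]

theorem mem_goodSub (hG : IsMulFil G) (x : B) : x ∈ goodSub hG ↔ Good G (gammaSeries x) := Iff.rfl

theorem gamma_mem_of_mem_goodSub (hG : IsMulFil G) {x : B} (hx : x ∈ goodSub hG) (i : ℕ) :
    gamma i x ∈ G i := by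
  have := hx i
  rwa [coeff_gammaSeries] at this

theorem gammaFiltration_le (Pe : PosStructure B) (hG : IsMulFil G) (h0 : G 0 = ⊤)
    (hker : ∀ x, Pe.aug x = 0 → x ∈ goodSub hG) (n : ℕ) : gammaFiltration Pe n ≤ G n := by
  by_cases hn : n = 0
  · subst hn; rw [h0]; exact le_top
  rw [gammaFiltration_of_ne_zero Pe hn, AddSubgroup.closure_le]
  rintro y ⟨l, hl, hln, rfl⟩
  apply hG.anti hln
  clear hln
  induction l with
  | nil => simpa using hG.one_mem
  | cons p l ih =>
    simp only [List.map_cons, List.prod_cons, List.sum_cons]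
    exact hG.mul_mem (gamma_mem_of_mem_goodSub hG (hker p.2 (hl p (by simp))) p.1)
      (ih fun q hq => hl q (List.mem_cons_of_mem _ hq))

end Lam

section ZFil
variable {A : Type u} {B : Type v} [CommRing A] [CommRing B] (f : A →+* B) (z : B)
  (F : ℕ → AddSubgroup A) (m : ℕ)

/-- `Σ_{i < m} f (F (n - i)) z^i` -/
def zFil (n : ℕ) : AddSubgroup B :=
  AddSubgroup.closure {b | ∃ i < m, ∃ a ∈ F (n - i), b = f a * z ^ i}

/-- the same subgroup in the shape used by the frozen statement -/
theorem zFil_eq_iSup (n : ℕ) :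
    zFil f z F m n = ⨆ i ∈ Finset.range m, AddSubgroup.map
      ((AddMonoidHom.mulRight (z ^ i)).comp f.toAddMonoidHom) (F (n - i)) := by
  apply le_antisymm
  · rw [zFil, AddSubgroup.closure_le]
    rintro b ⟨i, hi, a, ha, rfl⟩
    have h1 : f a * z ^ i ∈ AddSubgroup.map
        ((AddMonoidHom.mulRight (z ^ i)).comp f.toAddMonoidHom) (F (n - i)) :=
      ⟨a, ha, rfl⟩
    have h2 : AddSubgroup.map ((AddMonoidHom.mulRight (z ^ i)).comp f.toAddMonoidHom) (F (n - i)) ≤
        ⨆ i ∈ Finset.range m, AddSubgroup.map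
          ((AddMonoidHom.mulRight (z ^ i)).comp f.toAddMonoidHom) (F (n - i)) :=
      le_biSup (fun i => AddSubgroup.map
        ((AddMonoidHom.mulRight (z ^ i)).comp f.toAddMonoidHom) (F (n - i))) (Finset.mem_range.2 hi)
    exact h2 h1
  · apply iSup₂_le
    intro i hi
    rw [Finset.mem_range] at hi
    rintro b ⟨a, ha, rfl⟩
    exact AddSubgroup.subset_closure ⟨i, hi, a, ha, rfl⟩

variable {f z F m}

theorem mem_zFil_of {n i : ℕ} (hi : i < m) {a : A} (ha : a ∈ F (n - i)) :
    f a * z ^ i ∈ zFil f z F m n :=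
  AddSubgroup.subset_closure ⟨i, hi, a, ha, rfl⟩

theorem zFil_anti (hF : IsMulFil F) {n n' : ℕ} (h : n ≤ n') : zFil f z F m n' ≤ zFil f z F m n := by
  rw [zFil, AddSubgroup.closure_le]
  rintro b ⟨i, hi, a, ha, rfl⟩
  exact mem_zFil_of hi (hF.anti (by omega) ha)

theorem map_mul_mem (hF : IsMulFil F) {c s : ℕ} {a : A} (ha : a ∈ F c) {x : B}
    (hx : x ∈ zFil f z F m s) : f a * x ∈ zFil f z F m (c + s) := by
  induction hx using AddSubgroup.closure_induction with
  | mem x hx =>
    obtain ⟨i, hi, a', ha', rfl⟩ := hx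
    rw [← mul_assoc, ← map_mul]
    exact mem_zFil_of hi (hF.anti (by omega) (hF.mul_mem ha ha'))
  | zero => rw [mul_zero]; exact AddSubgroup.zero_mem _
  | add x y _ _ hx hy => rw [mul_add]; exact AddSubgroup.add_mem _ hx hy
  | neg x _ hx => rw [mul_neg]; exact AddSubgroup.neg_mem _ hx

theorem z_mul_mem (hF : IsMulFil F) (c : ℕ → A) (hc : ∀ j < m, c j ∈ F (m - j))
    (hz : z ^ m = ∑ j ∈ range m, f (c j) * z ^ j) {s : ℕ} {x : B}
    (hx : x ∈ zFil f z F m s) : z * x ∈ zFil f z F m (s + 1) := by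
  induction hx using AddSubgroup.closure_induction with
  | mem x hx =>
    obtain ⟨i, hi, a, ha, rfl⟩ := hx
    have e : z * (f a * z ^ i) = f a * z ^ (i + 1) := by rw [pow_succ]; ring
    rw [e]
    by_cases hi' : i + 1 < m
    · exact mem_zFil_of hi' (by rwa [Nat.add_sub_add_right])
    · have him : i + 1 = m := by omega
      rw [him, hz, mul_sum]
      apply AddSubgroup.sum_mem
      intro j hj
      rw [mem_range] at hj
      rw [← mul_assoc, ← map_mul]
      exact mem_zFil_of hj (hF.anti (by omega) (hF.mul_mem ha (hc j hj)))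
  | zero => rw [mul_zero]; exact AddSubgroup.zero_mem _
  | add x y _ _ hx hy => rw [mul_add]; exact AddSubgroup.add_mem _ hx hy
  | neg x _ hx => rw [mul_neg]; exact AddSubgroup.neg_mem _ hx

theorem z_pow_mul_mem (hF : IsMulFil F) (c : ℕ → A) (hc : ∀ j < m, c j ∈ F (m - j))
    (hz : z ^ m = ∑ j ∈ range m, f (c j) * z ^ j) {s : ℕ} {x : B}
    (hx : x ∈ zFil f z F m s) (i : ℕ) : z ^ i * x ∈ zFil f z F m (s + i) := by
  induction i with
  | zero => simpa using hx
  | succ i ih =>
    rw [pow_succ', mul_assoc, ← add_assoc]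
    exact z_mul_mem hF c hc hz ih

theorem zFil_mul_mem (hF : IsMulFil F) (c : ℕ → A) (hc : ∀ j < m, c j ∈ F (m - j))
    (hz : z ^ m = ∑ j ∈ range m, f (c j) * z ^ j) {s t : ℕ} {x y : B}
    (hx : x ∈ zFil f z F m s) (hy : y ∈ zFil f z F m t) : x * y ∈ zFil f z F m (s + t) := by
  induction hx using AddSubgroup.closure_induction with
  | mem x hx =>
    obtain ⟨i, hi, a, ha, rfl⟩ := hx
    rw [mul_assoc]
    exact zFil_anti hF (by omega) (map_mul_mem hF ha (z_pow_mul_mem hF c hc hz hy i))
  | zero => rw [zero_mul]; exact AddSubgroup.zero_mem _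
  | add x y _ _ hx hy => rw [add_mul]; exact AddSubgroup.add_mem _ hx hy
  | neg x _ hx => rw [neg_mul]; exact AddSubgroup.neg_mem _ hx

theorem one_mem_zFil (hF : IsMulFil F) (hm : 0 < m) : (1 : B) ∈ zFil f z F m 0 := by
  have := mem_zFil_of (f := f) (z := z) (F := F) (m := m) (n := 0) hm (a := 1) hF.one_mem
  simpa using this

theorem isMulFil_zFil (hF : IsMulFil F) (hm : 0 < m) (c : ℕ → A) (hc : ∀ j < m, c j ∈ F (m - j))
    (hz : z ^ m = ∑ j ∈ range m, f (c j) * z ^ j) : IsMulFil (zFil f z F m) where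
  one_mem := one_mem_zFil hF hm
  mul_mem := fun hx hy => zFil_mul_mem hF c hc hz hx hy
  anti := fun h => zFil_anti hF h

end ZFil

end Groth.Agent.Lib.Seat17.GoodFil
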