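import Mathlib

/-!
# The graph squares of a morphism of towers are cartesian (seat 17)
-/

set_option autoImplicit false
universe v u
open CategoryTheory CategoryTheory.Limits

namespace Groth.Agent.Lib.Seat17.GraphPullback

variable {C : Type u} [Category.{v} C] [HasPullbacks C]
  {X X' Y Y' S S' : C} (f : X ⟶ Y) (q : Y ⟶ S) (p : X ⟶ S) (f' : X' ⟶ Y') (q' : Y' ⟶ S')
  (p' : X' ⟶ S')
  (ιX : X ⟶ X') (ιY : Y ⟶ Y') (ιS : S ⟶ S')

/-- If `ιY` is a monomorphism, the square formed by the graphs of `f` and `f'` is cartesian. -/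
theorem isPullback_graph [Mono ιY]
    (hf : f ≫ ιY = ιX ≫ f') (hp : p ≫ ιS = ιX ≫ p') (hq : q ≫ ιS = ιY ≫ q')
    (e : 𝟙 X ≫ p = f ≫ q) (e' : 𝟙 X' ≫ p' = f' ≫ q') :
    IsPullback ιX (pullback.lift (𝟙 X) f e) (pullback.lift (𝟙 X') f' e')
      (pullback.map p q p' q' ιX ιY ιS hp hq) := by
  have hcomm : ιX ≫ pullback.lift (𝟙 X') f' e' =
      pullback.lift (𝟙 X) f e ≫ pullback.map p q p' q' ιX ιY ιS hp hq := by
    apply pullback.hom_ext
    · rw [Category.assoc, pullback.lift_fst, Category.assoc, pullback.lift_fst,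
        pullback.lift_fst_assoc, Category.comp_id, Category.id_comp]
    · rw [Category.assoc, pullback.lift_snd, Category.assoc, pullback.lift_snd,
        pullback.lift_snd_assoc, hf]
  have key : ∀ s : PullbackCone (pullback.lift (𝟙 X') f' e')
      (pullback.map p q p' q' ιX ιY ιS hp hq),
      (s.snd ≫ pullback.fst p q) ≫ ιX = s.fst := by
    intro s
    have h1 : pullback.map p q p' q' ιX ιY ιS hp hq ≫ pullback.fst p' q' =
        pullback.fst p q ≫ ιX := pullback.lift_fst _ _ _
    rw [Category.assoc, ← h1, ← Category.assoc, ← s.condition, Category.assoc,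
      pullback.lift_fst, Category.comp_id]
  refine ⟨⟨hcomm⟩, ⟨PullbackCone.IsLimit.mk _ (fun s => s.snd ≫ pullback.fst p q) key ?_ ?_⟩⟩
  · intro s
    apply pullback.hom_ext
    · rw [Category.assoc, pullback.lift_fst, Category.comp_id]
    · have h2 : pullback.map p q p' q' ιX ιY ιS hp hq ≫ pullback.snd p' q' =
          pullback.snd p q ≫ ιY := pullback.lift_snd _ _ _
      rw [Category.assoc, pullback.lift_snd, ← cancel_mono ιY, Category.assoc, Category.assoc,
        hf, ← Category.assoc, ← Category.assoc, key s, Category.assoc s.snd, ← h2,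
        ← Category.assoc, ← s.condition, Category.assoc, pullback.lift_snd]
  · intro s m _ hm
    rw [← hm, Category.assoc, pullback.lift_fst, Category.comp_id]

end Groth.Agent.Lib.Seat17.GraphPullback
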