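import Groth.Agent.Lib.Helper4LambdaAdamsFil

/-!
# The determinant on a λ-ring with positive structure, and `L ≅ Gr^1 K` (seat 17)

* `lamTop P e = λ^(ε e)(e)` is multiplicative on positive elements;
* `detU P : K → Kˣ`, the induced homomorphism from `(K, +)`;
* `lineFil P n`: the additive subgroup generated by products of at least `n` factors `u - 1`,
  `u` a line element; `detU` is trivial on `lineFil P 2`;
* in a splitting extension the γ-filtration lands in `lineFil`;
* `λ^m(e) - 1 = Σ_{1 ≤ k ≤ m} γ^k(e - m)`.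
-/

universe u

namespace Groth.Agent.Lib.Seat17.LambdaDet
open PowerSeries LambdaRing Finset Groth.Agent.Lib.Helper4

section Det
variable {K : Type u} [CommRing K] [LambdaOps K]

/-- the top exterior power `λ^(ε e)(e)`. -/
def lamTop (P : PosStructure K) (e : K) : K := LambdaOps.lam (P.aug e).toNat e

theorem lamTop_add (P : PosStructure K) {e f : K} (he : e ∈ P.pos) (hf : f ∈ P.pos) :
    lamTop P (e + f) = lamTop P e * lamTop P f := by
  unfold lamTop
  have h1 := P.aug_pos e he
  have h2 := P.aug_pos f hf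
  have hsum : (P.aug (e + f)).toNat = (P.aug e).toNat + (P.aug f).toNat := by
    rw [map_add, Int.toNat_add h1.le h2.le]
  rw [hsum, LambdaOps.lam_add, Finset.sum_eq_single (P.aug e).toNat]
  · congr 2; omega
  · intro i hi hne
    rw [mem_range] at hi
    rcases lt_or_gt_of_ne hne with h | h
    · rw [lam_eq_zero_of_pos P f hf _ (by omega), mul_zero]
    · rw [lam_eq_zero_of_pos P e he _ h, zero_mul]
  · intro h; exfalso; apply h; rw [mem_range]; omega

theorem lamTop_of_isLine (P : PosStructure K) {u : K} (hu : P.IsLine u) : lamTop P u = u := by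
  unfold lamTop
  rw [hu.2]
  exact LambdaOps.lam_one u

/-- the top exterior power of a positive element, as a unit. -/
noncomputable def topUnit (P : PosStructure K) (e : K) (he : e ∈ P.pos) : Kˣ :=
  (P.isUnit_lam e he).unit

theorem topUnit_val (P : PosStructure K) (e : K) (he : e ∈ P.pos) :
    (topUnit P e he : K) = lamTop P e := rfl

theorem topUnit_congr (P : PosStructure K) {a b : K} (h : a = b) (ha : a ∈ P.pos)
    (hb : b ∈ P.pos) : topUnit P a ha = topUnit P b hb := by
  subst h; rfl

theorem topUnit_add (P : PosStructure K) {e f : K} (he : e ∈ P.pos) (hf : f ∈ P.pos) :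
    topUnit P (e + f) (P.add_mem e f he hf) = topUnit P e he * topUnit P f hf := by
  apply Units.ext
  rw [Units.val_mul, topUnit_val, topUnit_val, topUnit_val, lamTop_add P he hf]

theorem exists_detU (P : PosStructure K) : ∃ D : K → Kˣ,
    ∀ (e f : K) (he : e ∈ P.pos) (hf : f ∈ P.pos), D (e - f) = topUnit P e he / topUnit P f hf := by
  choose e f he hf hx using P.exists_sub
  refine ⟨fun x => topUnit P (e x) (he x) / topUnit P (f x) (hf x), ?_⟩
  intro e' f' he' hf'
  have hx' := hx (e' - f')
  have h : e (e' - f') + f' = e' + f (e' - f') := by linear_combination -hx'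
  have h2 := topUnit_congr P h (P.add_mem _ _ (he _) hf') (P.add_mem _ _ he' (hf _))
  rw [topUnit_add, topUnit_add] at h2
  show topUnit P (e (e' - f')) (he _) / topUnit P (f (e' - f')) (hf _) = _
  rw [div_eq_div_iff_mul_eq_mul]
  exact h2

/-- the determinant homomorphism `K → Kˣ`. -/
noncomputable def detU (P : PosStructure K) : K → Kˣ := Classical.choose (exists_detU P)

theorem detU_sub (P : PosStructure K) (e f : K) (he : e ∈ P.pos) (hf : f ∈ P.pos) :
    detU P (e - f) = topUnit P e he / topUnit P f hf :=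
  Classical.choose_spec (exists_detU P) e f he hf

theorem detU_add (P : PosStructure K) (x y : K) : detU P (x + y) = detU P x * detU P y := by
  obtain ⟨e, f, he, hf, rfl⟩ := P.exists_sub x
  obtain ⟨e', f', he', hf', rfl⟩ := P.exists_sub y
  have : e - f + (e' - f') = (e + e') - (f + f') := by ring
  rw [this, detU_sub P _ _ (P.add_mem _ _ he he') (P.add_mem _ _ hf hf'), detU_sub P e f he hf,
    detU_sub P e' f' he' hf', topUnit_add, topUnit_add, div_mul_div_comm]

theorem detU_zero (P : PosStructure K) : detU P 0 = 1 := by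
  have := detU_add P 0 0
  rw [add_zero] at this
  exact (mul_eq_left.mp this.symm)

theorem detU_neg (P : PosStructure K) (x : K) : detU P (-x) = (detU P x)⁻¹ := by
  have := detU_add P x (-x)
  rw [add_neg_cancel, detU_zero] at this
  exact (inv_eq_of_mul_eq_one_right this.symm).symm

theorem detU_sub' (P : PosStructure K) (x y : K) : detU P (x - y) = detU P x / detU P y := by
  rw [sub_eq_add_neg, detU_add, detU_neg, div_eq_mul_inv]

theorem detU_of_pos (P : PosStructure K) (e : K) (he : e ∈ P.pos) : detU P e = topUnit P e he := by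
  have h := detU_sub P (e + e) e (P.add_mem _ _ he he) he
  rw [add_sub_cancel_right, topUnit_add P he he, mul_div_cancel_right] at h
  exact h

theorem detU_of_isLine (P : PosStructure K) {u : K} (hu : P.IsLine u) : (detU P u : K) = u := by
  rw [detU_of_pos P u hu.1, topUnit_val, lamTop_of_isLine P hu]

/-- the kernel of the determinant. -/
noncomputable def detKer (P : PosStructure K) : AddSubgroup K where
  carrier := {x | detU P x = 1}
  zero_mem' := detU_zero P
  add_mem' := by
    intro a b ha hb
    show detU P (a + b) = 1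
    rw [detU_add, ha, hb, mul_one]
  neg_mem' := by
    intro a ha
    show detU P (-a) = 1
    rw [detU_neg, ha, inv_one]

theorem mem_detKer (P : PosStructure K) (x : K) : x ∈ detKer P ↔ detU P x = 1 := Iff.rfl

end Det

section LineFil
variable {K : Type u} [CommRing K] [LambdaOps K]

/-- products of at least `n` factors `u - 1`, `u` a line element. -/
def lineGen (P : PosStructure K) (n : ℕ) : Set K :=
  {y | ∃ l : List K, (∀ u ∈ l, P.IsLine u) ∧ n ≤ l.length ∧ y = (l.map fun u => u - 1).prod}

/-- the additive subgroup generated by `lineGen P n`. -/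
def lineFil (P : PosStructure K) (n : ℕ) : AddSubgroup K := AddSubgroup.closure (lineGen P n)

theorem lineFil_anti (P : PosStructure K) {m n : ℕ} (h : m ≤ n) : lineFil P n ≤ lineFil P m := by
  apply AddSubgroup.closure_mono
  rintro y ⟨l, hl, hln, rfl⟩
  exact ⟨l, hl, by omega, rfl⟩

theorem one_mem_lineFil_zero (P : PosStructure K) : (1 : K) ∈ lineFil P 0 :=
  AddSubgroup.subset_closure ⟨[], by simp, by simp, by simp⟩

theorem sub_one_mem_lineFil_one (P : PosStructure K) {u : K} (hu : P.IsLine u) :
    u - 1 ∈ lineFil P 1 :=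
  AddSubgroup.subset_closure ⟨[u], by simpa using hu, by simp, by simp⟩

theorem lineGen_mul (P : PosStructure K) {m n : ℕ} {x y : K} (hx : x ∈ lineGen P m)
    (hy : y ∈ lineGen P n) : x * y ∈ lineGen P (m + n) := by
  obtain ⟨l, hl, hln, rfl⟩ := hx
  obtain ⟨l', hl', hln', rfl⟩ := hy
  refine ⟨l ++ l', ?_, ?_, ?_⟩
  · intro p hp
    rcases List.mem_append.1 hp with h | h
    · exact hl p h
    · exact hl' p h
  · rw [List.length_append]; omega
  · rw [List.map_append, List.prod_append]

theorem mul_mem_lineFil (P : PosStructure K) (m n : ℕ) {x y : K} (hx : x ∈ lineFil P m)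
    (hy : y ∈ lineFil P n) : x * y ∈ lineFil P (m + n) := by
  unfold lineFil at *
  induction hx using AddSubgroup.closure_induction with
  | mem x hx =>
    induction hy using AddSubgroup.closure_induction with
    | mem y hy => exact AddSubgroup.subset_closure (lineGen_mul P hx hy)
    | zero => rw [mul_zero]; exact AddSubgroup.zero_mem _
    | add y z _ _ hy hz => rw [mul_add]; exact AddSubgroup.add_mem _ hy hz
    | neg y _ hy => rw [mul_neg]; exact AddSubgroup.neg_mem _ hy
  | zero => rw [zero_mul]; exact AddSubgroup.zero_mem _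
  | add x z _ _ hx hz => rw [add_mul]; exact AddSubgroup.add_mem _ hx hz
  | neg x _ hx => rw [neg_mul]; exact AddSubgroup.neg_mem _ hx

/-- `w ↦ det (w y)` is constant on line elements. -/
def DetConst (P : PosStructure K) (y : K) : Prop :=
  ∃ c : Kˣ, ∀ w : K, P.IsLine w → detU P (w * y) = c

theorem detU_mul_sub_one_mul (P : PosStructure K) {y : K} (hy : DetConst P y) {u : K}
    (hu : P.IsLine u) {w : K} (hw : P.IsLine w) : detU P (w * ((u - 1) * y)) = 1 := by
  obtain ⟨c, hc⟩ := hy
  have : w * ((u - 1) * y) = (w * u) * y - w * y := by ring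
  rw [this, detU_sub', hc _ (isLine_mul P hw hu), hc _ hw, div_self']

theorem detConst_sub_one (P : PosStructure K) {u : K} (hu : P.IsLine u) :
    DetConst P (u - 1) := by
  refine ⟨detU P u, ?_⟩
  intro w hw
  have : w * (u - 1) = (w + u * w) - (w + w) := by ring
  have huw := isLine_mul P hu hw
  rw [this, detU_sub', detU_add, detU_add]
  have e1 : detU P (u * w) = detU P u * detU P w := by
    apply Units.ext
    rw [Units.val_mul, detU_of_isLine P huw, detU_of_isLine P hu, detU_of_isLine P hw]
  rw [e1]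
  rw [div_eq_iff_eq_mul]
  exact mul_left_comm _ _ _

theorem detConst_prod (P : PosStructure K) (l : List K) (hl : ∀ u ∈ l, P.IsLine u)
    (hne : l ≠ []) : DetConst P (l.map fun u => u - 1).prod := by
  induction l with
  | nil => exact absurd rfl hne
  | cons v l ih =>
    rw [List.map_cons, List.prod_cons]
    by_cases hl' : l = []
    · subst hl'
      rw [List.map_nil, List.prod_nil, mul_one]
      exact detConst_sub_one P (hl v List.mem_cons_self)
    · have h := ih (fun u hu => hl u (List.mem_cons_of_mem _ hu)) hl'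
      exact ⟨1, fun w hw => detU_mul_sub_one_mul P h (hl v List.mem_cons_self) hw⟩

theorem lineFil_two_le_detKer (P : PosStructure K) : lineFil P 2 ≤ detKer P := by
  unfold lineFil
  rw [AddSubgroup.closure_le]
  rintro y ⟨l, hl, hln, rfl⟩
  rcases l with _ | ⟨u, l⟩
  · simp at hln
  have hne : l ≠ [] := by
    rintro rfl
    simp at hln
  have h := detConst_prod P l (fun v hv => hl v (List.mem_cons_of_mem _ hv)) hne
  have := detU_mul_sub_one_mul P h (hl u List.mem_cons_self) (isLine_one P)
  rw [one_mul] at this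
  rw [List.map_cons, List.prod_cons]
  exact this

/-- coefficientwise membership in the line filtration. -/
def SerFil (P : PosStructure K) (f : K⟦X⟧) : Prop := ∀ k, coeff k f ∈ lineFil P k

theorem serFil_one (P : PosStructure K) : SerFil P (1 : K⟦X⟧) := by
  intro k
  rw [coeff_one]
  split_ifs with h
  · subst h; exact one_mem_lineFil_zero P
  · exact AddSubgroup.zero_mem _

theorem serFil_mul (P : PosStructure K) {f g : K⟦X⟧} (hf : SerFil P f) (hg : SerFil P g) :
    SerFil P (f * g) := by
  intro k
  rw [coeff_mul]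
  apply AddSubgroup.sum_mem
  rintro ⟨i, j⟩ hij
  rw [HasAntidiagonal.mem_antidiagonal] at hij
  have := mul_mem_lineFil P i j (hf i) (hg j)
  simp only at hij ⊢
  rwa [hij] at this

theorem serFil_gammaSeries_sub_one (P : PosStructure K) {u : K} (hu : P.IsLine u) :
    SerFil P (gammaSeries (u - 1)) := by
  rw [gammaSeries_sub_one (lam_one_eq_zero P) u (lam_eq_zero_of_isLine P u hu)]
  rw [← mul_one ((1 : K⟦X⟧) + C (u - 1) * X)]
  intro k
  rcases k with _ | k
  · rw [coeff_zero_one_add_C_mul_X_mul]
    have : coeff 0 (1 : K⟦X⟧) = 1 := by simp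
    rw [this]; exact one_mem_lineFil_zero P
  rw [coeff_succ_one_add_C_mul_X_mul]
  rcases k with _ | k
  · have h1 : coeff (0 + 1) (1 : K⟦X⟧) = 0 := by rw [coeff_one]; simp
    have h2 : coeff 0 (1 : K⟦X⟧) = 1 := by simp
    rw [h1, h2, mul_one, zero_add (u - 1)]; exact sub_one_mem_lineFil_one P hu
  · have h1 : coeff (k + 1 + 1) (1 : K⟦X⟧) = 0 := by rw [coeff_one]; simp
    have h2 : coeff (k + 1) (1 : K⟦X⟧) = 0 := by rw [coeff_one]; simp
    rw [h1, h2, zero_add, mul_zero]; exact AddSubgroup.zero_mem _

theorem serFil_gammaSeries_neg_sub_one (P : PosStructure K) {u : K} (hu : P.IsLine u) :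
    SerFil P (gammaSeries (-(u - 1))) := by
  have h := gammaSeries_neg_mul (u - 1)
  rw [gammaSeries_sub_one (lam_one_eq_zero P) u (lam_eq_zero_of_isLine P u hu), mul_comm] at h
  intro k
  induction k with
  | zero =>
    have h0 := congrArg (coeff 0) h
    rw [coeff_zero_one_add_C_mul_X_mul] at h0
    rw [h0]
    have : coeff 0 (1 : K⟦X⟧) = 1 := by simp
    rw [this]; exact one_mem_lineFil_zero P
  | succ k ih =>
    have h1 := congrArg (coeff (k + 1)) h
    rw [coeff_succ_one_add_C_mul_X_mul] at h1
    have h2 : coeff (k + 1) (1 : K⟦X⟧) = 0 := by rw [coeff_one]; simp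
    rw [h2] at h1
    have h3 : coeff (k + 1) (gammaSeries (-(u - 1))) =
        -((u - 1) * coeff k (gammaSeries (-(u - 1)))) := by
      linear_combination h1
    rw [h3]
    apply AddSubgroup.neg_mem
    have := mul_mem_lineFil P 1 k (sub_one_mem_lineFil_one P hu) ih
    rwa [add_comm] at this

theorem serFil_gammaSeries_of_mem_closure (P : PosStructure K) {y : K}
    (hy : y ∈ AddSubgroup.closure {z | ∃ u, P.IsLine u ∧ z = u - 1}) :
    SerFil P (gammaSeries y) ∧ SerFil P (gammaSeries (-y)) := by
  induction hy using AddSubgroup.closure_induction with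
  | mem z hz =>
    obtain ⟨u, hu, rfl⟩ := hz
    exact ⟨serFil_gammaSeries_sub_one P hu, serFil_gammaSeries_neg_sub_one P hu⟩
  | zero =>
    rw [neg_zero, gammaSeries_zero]; exact ⟨serFil_one P, serFil_one P⟩
  | add x z _ _ hx hz =>
    rw [neg_add, gammaSeries_add, gammaSeries_add]
    exact ⟨serFil_mul P hx.1 hz.1, serFil_mul P hx.2 hz.2⟩
  | neg x _ hx => rw [neg_neg]; exact ⟨hx.2, hx.1⟩

theorem sub_aug_mem_closure (P : PosStructure K) {y : K} (hy : y ∈ lineSpan P) :
    y - (P.aug y : K) ∈ AddSubgroup.closure {z | ∃ u, P.IsLine u ∧ z = u - 1} := by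
  induction hy using AddSubgroup.closure_induction with
  | mem u hu =>
    apply AddSubgroup.subset_closure
    refine ⟨u, hu, ?_⟩
    rw [hu.2]; simp
  | zero => simp
  | add x z _ _ hx hz =>
    have : x + z - (P.aug (x + z) : K) = (x - (P.aug x : K)) + (z - (P.aug z : K)) := by
      rw [map_add]; push_cast; ring
    rw [this]; exact AddSubgroup.add_mem _ hx hz
  | neg x _ hx =>
    have : -x - (P.aug (-x) : K) = -(x - (P.aug x : K)) := by
      rw [map_neg]; push_cast; ring
    rw [this]; exact AddSubgroup.neg_mem _ hx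

theorem gamma_mem_lineFil (P : PosStructure K) {y : K} (hy : y ∈ lineSpan P)
    (h0 : P.aug y = 0) (r : ℕ) : gamma r y ∈ lineFil P r := by
  have h := sub_aug_mem_closure P hy
  rw [h0, Int.cast_zero, sub_zero] at h
  have := (serFil_gammaSeries_of_mem_closure P h).1 r
  rwa [coeff_gammaSeries] at this

end LineFil

section Lists
variable {K : Type u} [CommRing K] [LambdaOps K]

/-- generators of the γ-filtration built from a fixed finite list of elements. -/
def gammaGenL (xs : List K) (n : ℕ) : Set K :=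
  {y | ∃ l : List (ℕ × K), (∀ p ∈ l, p.2 ∈ xs) ∧ n ≤ (l.map Prod.fst).sum ∧
        y = (l.map fun p => gamma p.1 p.2).prod}

theorem gammaGenL_mono {xs xs' : List K} (h : ∀ x ∈ xs, x ∈ xs') (n : ℕ) :
    gammaGenL xs n ⊆ gammaGenL xs' n := by
  rintro y ⟨l, hl, hln, rfl⟩
  exact ⟨l, fun p hp => h _ (hl p hp), hln, rfl⟩

theorem exists_list_of_mem_gammaFiltration (P : PosStructure K) {n : ℕ} (hn : n ≠ 0) {y : K}
    (hy : y ∈ gammaFiltration P n) :
    ∃ xs : List K, (∀ x ∈ xs, P.aug x = 0) ∧ y ∈ AddSubgroup.closure (gammaGenL xs n) := by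
  rw [gammaFiltration_of_ne_zero P hn] at hy
  induction hy using AddSubgroup.closure_induction with
  | mem y hy =>
    obtain ⟨l, hl, hln, rfl⟩ := hy
    refine ⟨l.map Prod.snd, ?_, ?_⟩
    · intro x hx
      obtain ⟨p, hp, rfl⟩ := List.mem_map.1 hx
      exact hl p hp
    · exact AddSubgroup.subset_closure ⟨l, fun p hp => List.mem_map.2 ⟨p, hp, rfl⟩, hln, rfl⟩
  | zero => exact ⟨[], by simp, AddSubgroup.zero_mem _⟩
  | add x z _ _ hx hz =>
    obtain ⟨xs, h1, h2⟩ := hx
    obtain ⟨zs, h3, h4⟩ := hz
    refine ⟨xs ++ zs, ?_, ?_⟩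
    · intro x hx
      rcases List.mem_append.1 hx with h | h
      · exact h1 x h
      · exact h3 x h
    · exact AddSubgroup.add_mem _
        (AddSubgroup.closure_mono (gammaGenL_mono (fun x hx => List.mem_append_left _ hx) n) h2)
        (AddSubgroup.closure_mono (gammaGenL_mono (fun x hx => List.mem_append_right _ hx) n) h4)
  | neg x _ hx =>
    obtain ⟨xs, h1, h2⟩ := hx
    exact ⟨xs, h1, AddSubgroup.neg_mem _ h2⟩

variable {K' : Type u} [CommRing K'] [LambdaOps K']

theorem map_prod_mem_lineFil {P : PosStructure K} {P' : PosStructure K'} {f : K →+* K'}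
    (hf : IsExtension P P' f) (xs : List K) (hxs0 : ∀ x ∈ xs, P.aug x = 0)
    (hxs : ∀ x ∈ xs, f x ∈ lineSpan P') (l : List (ℕ × K)) (hl : ∀ p ∈ l, p.2 ∈ xs) :
    f (l.map fun p => gamma p.1 p.2).prod ∈ lineFil P' (l.map Prod.fst).sum := by
  induction l with
  | nil => simpa using one_mem_lineFil_zero P'
  | cons p l ih =>
    rw [List.map_cons, List.map_cons, List.sum_cons, List.prod_cons, map_mul,
      map_gamma hf.isLambdaHom]
    have hp := hl p List.mem_cons_self
    apply mul_mem_lineFil
    · apply gamma_mem_lineFil P' (hxs _ hp)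
      rw [hf.aug_comp, hxs0 _ hp]
    · exact ih fun q hq => hl q (List.mem_cons_of_mem _ hq)

theorem map_mem_lineFil {P : PosStructure K} {P' : PosStructure K'} {f : K →+* K'}
    (hf : IsExtension P P' f) (xs : List K) (hxs0 : ∀ x ∈ xs, P.aug x = 0)
    (hxs : ∀ x ∈ xs, f x ∈ lineSpan P') (n : ℕ) {y : K}
    (hy : y ∈ AddSubgroup.closure (gammaGenL xs n)) : f y ∈ lineFil P' n := by
  induction hy using AddSubgroup.closure_induction with
  | mem y hy =>
    obtain ⟨l, hl, hln, rfl⟩ := hy
    exact lineFil_anti P' hln (map_prod_mem_lineFil hf xs hxs0 hxs l hl)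
  | zero => rw [map_zero]; exact AddSubgroup.zero_mem _
  | add x z _ _ hx hz => rw [map_add]; exact AddSubgroup.add_mem _ hx hz
  | neg x _ hx => rw [map_neg]; exact AddSubgroup.neg_mem _ hx

/-- line elements congruent modulo `F^2` are equal. -/
theorem isLine_eq_of_sub_mem {P : PosStructure K} (hK : HasSplitting K P) {u v : K}
    (hu : P.IsLine u) (hv : P.IsLine v) (h : u - v ∈ gammaFiltration P 2) : u = v := by
  obtain ⟨xs, hxs0, hmem⟩ := exists_list_of_mem_gammaFiltration P (by norm_num) h
  obtain ⟨L, f, hf, -, hxs⟩ := exists_extension_lineSpan hK xs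
  have h1 := lineFil_two_le_detKer L.posStr (map_mem_lineFil hf xs hxs0 hxs 2 hmem)
  rw [mem_detKer, map_sub, detU_sub', div_eq_one] at h1
  have h2 : ((detU L.posStr (f u) : L.carrierˣ) : L.carrier) = (detU L.posStr (f v) : L.carrierˣ) :=
    congrArg Units.val h1
  rw [detU_of_isLine _ (isExtension_isLine hf hu), detU_of_isLine _ (isExtension_isLine hf hv)]
    at h2
  exact hf.injective h2

end Lists

section Surj
variable {K : Type u} [CommRing K] [LambdaOps K]

theorem lam_succ_add_one (P : PosStructure K) (k : ℕ) (y : K) :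
    LambdaOps.lam (k + 1) (y + 1) = LambdaOps.lam (k + 1) y + LambdaOps.lam k y := by
  rw [LambdaOps.lam_add, sum_range_succ, sum_range_succ, Nat.sub_self, LambdaOps.lam_zero,
    mul_one, show k + 1 - k = 1 by omega, LambdaOps.lam_one, mul_one]
  rw [sum_eq_zero, zero_add, add_comm]
  intro i hi
  rw [mem_range] at hi
  rw [lam_one_eq_zero P _ (by omega), mul_zero]

/-- `λ^m(x + m) = Σ_{k ≤ m} γ^k(x)`. -/
theorem lam_add_natCast_eq_sum_gamma (P : PosStructure K) (x : K) (m : ℕ) :
    LambdaOps.lam m (x + (m : K)) = ∑ k ∈ range (m + 1), gamma k x := by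
  induction m with
  | zero => simp [LambdaOps.lam_zero, gamma_zero']
  | succ m ih =>
    rw [sum_range_succ, ← ih, gamma_eq_lam_add (lam_one_eq_zero P) m x]
    have : x + ((m + 1 : ℕ) : K) = (x + (m : K)) + 1 := by push_cast; ring
    rw [this, lam_succ_add_one P, add_comm]

theorem lamTop_sub_one_sub_mem (P : PosStructure K) (e : K) (he : e ∈ P.pos) :
    (lamTop P e - 1) - (e - ((P.aug e).toNat : K)) ∈ gammaFiltration P 2 := by
  set m := (P.aug e).toNat with hm
  have haug0 : P.aug (e - (m : K)) = 0 := by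
    rw [map_sub, map_natCast, hm]
    have := P.aug_pos e he
    rw [Int.toNat_of_nonneg this.le, sub_self]
  have hmpos : 1 ≤ m := by
    have := P.aug_pos e he
    omega
  have h := lam_add_natCast_eq_sum_gamma P (e - (m : K)) m
  rw [sub_add_cancel] at h
  unfold lamTop
  rw [← hm, h]
  clear_value m
  obtain ⟨m', rfl⟩ : ∃ m', m = m' + 1 := ⟨m - 1, by omega⟩
  rw [sum_range_succ', gamma_zero', sum_range_succ', gamma_one]
  have : (∑ k ∈ range m', gamma (k + 1 + 1) (e - ((m' + 1 : ℕ) : K)) +
      (e - ((m' + 1 : ℕ) : K)) + 1 - 1) - (e - ((m' + 1 : ℕ) : K)) =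
      ∑ k ∈ range m', gamma (k + 1 + 1) (e - ((m' + 1 : ℕ) : K)) := by ring
  rw [this]
  apply AddSubgroup.sum_mem
  intro k _
  exact gammaFiltration_anti P (by omega) (gamma_mem_gammaFiltration P (k + 1 + 1) _ haug0)

theorem aug_list_prod_eq_zero (P : PosStructure K) (l : List (ℕ × K))
    (hl : ∀ p ∈ l, P.aug p.2 = 0) (hsum : (l.map Prod.fst).sum = 1) :
    P.aug (l.map fun p => gamma p.1 p.2).prod = 0 := by
  induction l with
  | nil => simp at hsum
  | cons p l ih =>
    rw [List.map_cons, List.sum_cons] at hsum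
    rw [List.map_cons, List.prod_cons, map_mul]
    rcases Nat.eq_zero_or_pos p.1 with h0 | h0
    · rw [h0, zero_add] at hsum
      rw [ih (fun q hq => hl q (List.mem_cons_of_mem _ hq)) hsum, mul_zero]
    · have h1 : p.1 = 1 := by omega
      rw [h1, gamma_one, hl p List.mem_cons_self, zero_mul]

/-- every element of `F^1` is congruent modulo `F^2` to `u - 1` for a line element `u`. -/
theorem exists_isLine_sub_mem {P : PosStructure K} (hK : HasSplitting K P)
    (hLinv : ∀ w : K, P.IsLine w → ∃ w' : K, P.IsLine w' ∧ w * w' = 1)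
    (hdet : ∀ e : K, e ∈ P.pos → LambdaOps.lam (P.aug e).toNat e ∈ P.pos)
    {x : K} (hx : x ∈ gammaFiltration P 1) :
    ∃ u : K, P.IsLine u ∧ x - (u - 1) ∈ gammaFiltration P 2 := by
  have hF1 : ∀ {u : K}, P.IsLine u → u - 1 ∈ gammaFiltration P 1 := by
    intro u hu
    apply mem_gammaFiltration_one
    rw [map_sub, hu.2, map_one, sub_self]
  -- the set of good elements is closed under addition, negation
  have hzero : ∃ u : K, P.IsLine u ∧ (0 : K) - (u - 1) ∈ gammaFiltration P 2 :=
    ⟨1, isLine_one P, by simp⟩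
  have hadd : ∀ {a b : K}, (∃ u : K, P.IsLine u ∧ a - (u - 1) ∈ gammaFiltration P 2) →
      (∃ u : K, P.IsLine u ∧ b - (u - 1) ∈ gammaFiltration P 2) →
      ∃ u : K, P.IsLine u ∧ (a + b) - (u - 1) ∈ gammaFiltration P 2 := by
    rintro a b ⟨u, hu, hau⟩ ⟨v, hv, hbv⟩
    refine ⟨u * v, isLine_mul P hu hv, ?_⟩
    have h2 : (u - 1) * (v - 1) ∈ gammaFiltration P 2 :=
      mul_mem_gammaFiltration P 1 1 _ _ (hF1 hu) (hF1 hv)
    have : a + b - (u * v - 1) = (a - (u - 1)) + (b - (v - 1)) - (u - 1) * (v - 1) := by ring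
    rw [this]
    exact AddSubgroup.sub_mem _ (AddSubgroup.add_mem _ hau hbv) h2
  have hneg : ∀ {a : K}, (∃ u : K, P.IsLine u ∧ a - (u - 1) ∈ gammaFiltration P 2) →
      ∃ u : K, P.IsLine u ∧ (-a) - (u - 1) ∈ gammaFiltration P 2 := by
    rintro a ⟨u, hu, hau⟩
    obtain ⟨u', hu', huu'⟩ := hLinv u hu
    refine ⟨u', hu', ?_⟩
    have h2 : (u - 1) * (u' - 1) ∈ gammaFiltration P 2 :=
      mul_mem_gammaFiltration P 1 1 _ _ (hF1 hu) (hF1 hu')
    have : -a - (u' - 1) = -(a - (u - 1)) + (u - 1) * (u' - 1) := by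
      linear_combination -huu'
    rw [this]
    exact AddSubgroup.add_mem _ (AddSubgroup.neg_mem _ hau) h2
  -- positive elements
  have hpos : ∀ e : K, e ∈ P.pos →
      ∃ u : K, P.IsLine u ∧ (e - ((P.aug e).toNat : K)) - (u - 1) ∈ gammaFiltration P 2 := by
    intro e he
    refine ⟨lamTop P e, ⟨hdet e he, ?_⟩, ?_⟩
    · unfold lamTop
      rw [aug_lam_eq_choose hK e he, Nat.choose_self, Nat.cast_one]
    · have := AddSubgroup.neg_mem _ (lamTop_sub_one_sub_mem P e he)
      rwa [neg_sub] at this
  -- elements of augmentation zero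
  have haug : ∀ y : K, P.aug y = 0 →
      ∃ u : K, P.IsLine u ∧ y - (u - 1) ∈ gammaFiltration P 2 := by
    intro y hy
    obtain ⟨e, f, he, hf, rfl⟩ := P.exists_sub y
    have hef : (P.aug e).toNat = (P.aug f).toNat := by
      rw [map_sub] at hy
      have : P.aug e = P.aug f := by linarith
      rw [this]
    have : e - f = (e - ((P.aug e).toNat : K)) + -(f - ((P.aug f).toNat : K)) := by
      rw [hef]; ring
    rw [this]
    exact hadd (hpos e he) (hneg (hpos f hf))
  rw [gammaFiltration_of_ne_zero P one_ne_zero] at hx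
  induction hx using AddSubgroup.closure_induction with
  | mem y hy =>
    obtain ⟨l, hl, hln, rfl⟩ := hy
    rcases Nat.lt_or_ge 1 (l.map Prod.fst).sum with h | h
    · refine ⟨1, isLine_one P, ?_⟩
      rw [sub_self, sub_zero]
      apply gammaGen_subset_gammaFiltration
      exact ⟨l, hl, h, rfl⟩
    · exact haug _ (aug_list_prod_eq_zero P l hl (le_antisymm h hln))
  | zero => exact hzero
  | add a b _ _ ha hb => exact hadd ha hb
  | neg a _ ha => exact hneg ha

end Surj

end Groth.Agent.Lib.Seat17.LambdaDet
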