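import Groth.Agent.Lib.Seat17AdicBC

/-!
# The levelwise fibre product of systems over a locally Noetherian formal system (seat 17)
-/

set_option autoImplicit false
universe u

namespace Groth.Agent.Lib.Seat17.PullbackSys

open CategoryTheory CategoryTheory.Limits AlgebraicGeometry

theorem isLocNoethFormal_pullbackSys {𝔛 𝔖 𝔖' : FSch.Sys.{u}} (f : 𝔛 ⟶ 𝔖) (g : 𝔖' ⟶ 𝔖)
    (h𝔖' : 𝔖'.IsLocNoethFormal) (hf : FSch.IsAdicHom f) [LocallyOfFiniteType ((f : FSch.Hom 𝔛 𝔖).app 0)] :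
    (FSch.pullbackSys f g).IsLocNoethFormal ∧ FSch.IsAdicHom (FSch.pullbackSnd f g) ∧
      LocallyOfFiniteType ((FSch.pullbackSnd f g : FSch.Hom _ _).app 0) := by
  -- the second projection is adic
  have hadic : FSch.IsAdicHom (FSch.pullbackSnd f g) := by
    intro n
    -- outer rectangle
    have h1 : IsPullback (pullback.fst ((f : FSch.Hom 𝔛 𝔖).app n) ((g : FSch.Hom 𝔖' 𝔖).app n))
        (pullback.snd ((f : FSch.Hom 𝔛 𝔖).app n) ((g : FSch.Hom 𝔖' 𝔖).app n))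
        ((f : FSch.Hom 𝔛 𝔖).app n) ((g : FSch.Hom 𝔖' 𝔖).app n) := IsPullback.of_hasPullback _ _
    have h2 := h1.paste_horiz (hf n)
    have h3 : IsPullback (pullback.fst ((f : FSch.Hom 𝔛 𝔖).app (n + 1)) ((g : FSch.Hom 𝔖' 𝔖).app (n + 1)))
        (pullback.snd ((f : FSch.Hom 𝔛 𝔖).app (n + 1)) ((g : FSch.Hom 𝔖' 𝔖).app (n + 1)))
        ((f : FSch.Hom 𝔛 𝔖).app (n + 1)) ((g : FSch.Hom 𝔖' 𝔖).app (n + 1)) := IsPullback.of_hasPullback _ _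
    have e1 : pullback.fst ((f : FSch.Hom 𝔛 𝔖).app n) ((g : FSch.Hom 𝔖' 𝔖).app n) ≫ 𝔛.ι n =
        (FSch.pullbackSys f g).ι n ≫
          pullback.fst ((f : FSch.Hom 𝔛 𝔖).app (n + 1)) ((g : FSch.Hom 𝔖' 𝔖).app (n + 1)) :=
      (pullback.lift_fst _ _ _).symm
    have e2 : (g : FSch.Hom 𝔖' 𝔖).app n ≫ 𝔖.ι n = 𝔖'.ι n ≫ (g : FSch.Hom 𝔖' 𝔖).app (n + 1) :=
      (g : FSch.Hom 𝔖' 𝔖).comm n
    rw [e1, e2] at h2
    have e3 : (FSch.pullbackSys f g).ι n ≫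
        pullback.snd ((f : FSch.Hom 𝔛 𝔖).app (n + 1)) ((g : FSch.Hom 𝔖' 𝔖).app (n + 1)) =
        pullback.snd ((f : FSch.Hom 𝔛 𝔖).app n) ((g : FSch.Hom 𝔖' 𝔖).app n) ≫ 𝔖'.ι n :=
      pullback.lift_snd _ _ _
    exact IsPullback.of_right h2 e3 h3
  have hft : LocallyOfFiniteType ((FSch.pullbackSnd f g : FSch.Hom _ _).app 0) := by
    change LocallyOfFiniteType (pullback.snd ((f : FSch.Hom 𝔛 𝔖).app 0) ((g : FSch.Hom 𝔖' 𝔖).app 0))
    infer_instance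
  refine ⟨?_, hadic, hft⟩
  have : IsLocallyNoetherian (𝔖'.X 0) := h𝔖'.2.2 0
  have : IsLocallyNoetherian ((FSch.pullbackSys f g).X 0) :=
    LocallyOfFiniteType.isLocallyNoetherian ((FSch.pullbackSnd f g : FSch.Hom _ _).app 0)
  exact Groth.Agent.Lib.Seat17.AdicBC.isLocNoethFormal_of_isAdicHom (FSch.pullbackSnd f g) h𝔖' hadic


end Groth.Agent.Lib.Seat17.PullbackSys
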