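import Mathlib
import Groth.Prelude.Def_FSch5

/-!
# The formal system induced on an open subset (seat 17)
-/

set_option autoImplicit false
universe u
open CategoryTheory CategoryTheory.Limits AlgebraicGeometry TopologicalSpace Opposite FSch

namespace Groth.Agent.Lib.Seat17.RestrictOpen

theorem isIso_homOfLE {X : Scheme.{u}} {U V : X.Opens} (e : U ≤ V) (e' : V ≤ U) :
    IsIso (X.homOfLE e) :=
  ⟨⟨X.homOfLE e', by rw [X.homOfLE_homOfLE, X.homOfLE_rfl],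
    by rw [X.homOfLE_homOfLE, X.homOfLE_rfl]⟩⟩

section resLE

variable {X Y : Scheme.{u}} (f : X ⟶ Y) (U : Y.Opens) (V : X.Opens) (e : V ≤ f ⁻¹ᵁ U)
  (e' : f ⁻¹ᵁ U ≤ V)

include e' in
theorem isClosedImmersion_resLE [IsClosedImmersion f] : IsClosedImmersion (f.resLE U V e) := by
  have := isIso_homOfLE e e'
  have : IsClosedImmersion (f ∣_ U) :=
    IsZariskiLocalAtTarget.restrict (P := @IsClosedImmersion) (inferInstance : IsClosedImmersion f) U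
  unfold Scheme.Hom.resLE
  infer_instance

include e' in
theorem surjective_resLE (hf : Function.Surjective f.base) :
    Function.Surjective (f.resLE U V e).base := by
  have := isIso_homOfLE e e'
  have h1 : Surjective f := ⟨hf⟩
  have : Surjective (f ∣_ U) := IsZariskiLocalAtTarget.restrict h1 U
  have : Surjective (f.resLE U V e) := by
    unfold Scheme.Hom.resLE
    infer_instance
  exact this.surj

include e' in
theorem ker_resLE_ideal [QuasiCompact f] (W : U.toScheme.affineOpens) :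
    (f.resLE U V e).ker.ideal W = f.ker.ideal ⟨U.ι ''ᵁ W, W.2.image_of_isOpenImmersion _⟩ := by
  have := isIso_homOfLE e e'
  have h1 : (f.resLE U V e).ker = (f ∣_ U).ker := Scheme.Hom.ker_comp_of_isIso _ _
  rw [h1]
  exact Scheme.ker_morphismRestrict_ideal f U W

end resLE

section sys

variable (𝔛 : Sys.{u}) (h : 𝔛.IsFormal) (U : (𝔛.X 0).Opens)

theorem isFormal_restrictOpen : (𝔛.restrictOpen h U).IsFormal := by
  intro n
  have hci : IsClosedImmersion (𝔛.ι n) := (h n).1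
  exact ⟨isClosedImmersion_resLE (𝔛.ι n) _ _ (𝔛.lvU_le h n U) (𝔛.lvU_succ h n U).le,
    surjective_resLE (𝔛.ι n) _ _ (𝔛.lvU_le h n U) (𝔛.lvU_succ h n U).le (h n).2⟩

theorem toX_preimage_lvU (n : ℕ) : (𝔛.toX n) ⁻¹ᵁ (𝔛.lvU h n U) = U := by
  change (Opens.map ((𝔛.toX n).base ≫ 𝔛.gInv h n)).obj U = U
  rw [Sys.toX_base_gInv]
  rfl

theorem lvU_zero : 𝔛.lvU h 0 U = U := by
  have := toX_preimage_lvU 𝔛 h U 0
  exact this

theorem toX_preimage_lvU' (n : ℕ) : (𝔛.toX n) ⁻¹ᵁ (𝔛.lvU h n U) = 𝔛.lvU h 0 U :=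
  (toX_preimage_lvU 𝔛 h U n).trans (lvU_zero 𝔛 h U).symm

theorem resLE_congr_hom {X Y : Scheme.{u}} {f g : X ⟶ Y} (hfg : f = g) (W : Y.Opens)
    (V : X.Opens) (e : V ≤ f ⁻¹ᵁ W) (e' : V ≤ g ⁻¹ᵁ W) : f.resLE W V e = g.resLE W V e' := by
  subst hfg
  rfl

theorem restrictOpen_toX : ∀ (n : ℕ) (e : 𝔛.lvU h 0 U ≤ (𝔛.toX n) ⁻¹ᵁ (𝔛.lvU h n U)),
    (𝔛.restrictOpen h U).toX n = (𝔛.toX n).resLE (𝔛.lvU h n U) (𝔛.lvU h 0 U) e
  | 0, e => by
    have h1 : (𝔛.restrictOpen h U).toX 0 = 𝟙 _ := rfl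
    have h2 : 𝔛.toX 0 = 𝟙 _ := rfl
    rw [h1, resLE_congr_hom h2 _ _ e le_rfl, Scheme.Hom.resLE_id, Scheme.homOfLE_rfl]
    rfl
  | n + 1, e => by
    have h1 : (𝔛.restrictOpen h U).toX (n + 1) =
        (𝔛.restrictOpen h U).toX n ≫ (𝔛.restrictOpen h U).ι n := rfl
    have h2 : 𝔛.toX (n + 1) = 𝔛.toX n ≫ 𝔛.ι n := rfl
    rw [h1, restrictOpen_toX n (toX_preimage_lvU' 𝔛 h U n).ge]
    have h3 : (𝔛.restrictOpen h U).ι n =
        (𝔛.ι n).resLE (𝔛.lvU h (n + 1) U) (𝔛.lvU h n U) (𝔛.lvU_le h n U) := rfl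
    rw [h3]
    exact (Scheme.Hom.resLE_comp_resLE _ _ _ _).trans (resLE_congr_hom h2.symm _ _ _ _)

theorem isAdic_restrictOpen (hA : 𝔛.IsAdic) : (𝔛.restrictOpen h U).IsAdic := by
  intro n
  have hci : IsClosedImmersion (𝔛.ι n) := (h n).1
  have hci' : IsClosedImmersion (𝔛.toX (n + 1)) := Sys.toX_isClosedImmersion 𝔛 h (n + 1)
  apply Scheme.IdealSheafData.ext
  funext W₀
  obtain ⟨W, hW⟩ : ∃ W : (𝔛.lvU h (n + 1) U).toScheme.affineOpens, W = W₀ := ⟨W₀, rfl⟩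
  rw [← hW]
  have h3 : (𝔛.restrictOpen h U).ι n =
      (𝔛.ι n).resLE (𝔛.lvU h (n + 1) U) (𝔛.lvU h n U) (𝔛.lvU_le h n U) := rfl
  have h4 := restrictOpen_toX 𝔛 h U (n + 1) (toX_preimage_lvU' 𝔛 h U (n + 1)).ge
  have e1 : ((𝔛.restrictOpen h U).ι n).ker.ideal W =
      (𝔛.ι n).ker.ideal ⟨(𝔛.lvU h (n + 1) U).ι ''ᵁ W, W.2.image_of_isOpenImmersion _⟩ := by
    rw [h3]
    exact ker_resLE_ideal (𝔛.ι n) _ _ (𝔛.lvU_le h n U) (𝔛.lvU_succ h n U).le W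
  have e2 : ((𝔛.restrictOpen h U).toX (n + 1)).ker.ideal W =
      (𝔛.toX (n + 1)).ker.ideal ⟨(𝔛.lvU h (n + 1) U).ι ''ᵁ W, W.2.image_of_isOpenImmersion _⟩ := by
    rw [h4]
    exact ker_resLE_ideal (𝔛.toX (n + 1)) _ _ _ (toX_preimage_lvU' 𝔛 h U (n + 1)).le W
  have e3 : (((𝔛.restrictOpen h U).toX (n + 1)).ker ^ (n + 1)).ideal W =
      (((𝔛.restrictOpen h U).toX (n + 1)).ker.ideal W) ^ (n + 1) := rfl
  have e4 : ((𝔛.toX (n + 1)).ker ^ (n + 1)).ideal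
      ⟨(𝔛.lvU h (n + 1) U).ι ''ᵁ W, W.2.image_of_isOpenImmersion _⟩ =
      ((𝔛.toX (n + 1)).ker.ideal
        ⟨(𝔛.lvU h (n + 1) U).ι ''ᵁ W, W.2.image_of_isOpenImmersion _⟩) ^ (n + 1) := rfl
  exact e1.trans ((congrArg (fun I => I.ideal
    ⟨(𝔛.lvU h (n + 1) U).ι ''ᵁ W, W.2.image_of_isOpenImmersion _⟩) (hA n)).trans
      (e4.trans ((congrArg (· ^ (n + 1)) e2.symm).trans e3.symm)))

end sys

end Groth.Agent.Lib.Seat17.RestrictOpen
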