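import Groth.Agent.Lib.Seat17StalkRing

/-!
# `A → A_{S}` is flat (seat 17)

`flat_of_faithfullyFlat_of_flat`: cancellation of flatness along a faithfully flat map.
-/

set_option autoImplicit false
universe u

namespace Groth.Agent.Lib.Seat17.StalkFlat

open Groth.Agent.Lib.Seat17.StalkRing

open TensorProduct LinearMap TensorProduct.AlgebraTensorModule in
/-- cancellation: if `T` is faithfully flat over `S` and flat over `R`, then `S` is flat over `R` -/
theorem flat_of_faithfullyFlat_of_flat (R S T : Type u) [CommRing R] [CommRing S] [CommRing T]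
    [Algebra R S] [Algebra R T] [Algebra S T] [IsScalarTower R S T]
    [Module.FaithfullyFlat S T] [Module.Flat R T] : Module.Flat R S := by
  rw [Module.Flat.iff_lTensor_preserves_injective_linearMap]
  intro N P _ _ _ _ f hf
  have h1 : Function.Injective (f.lTensor T) :=
    Module.Flat.lTensor_preserves_injective_linearMap f hf
  have h2 : Function.Injective
      (LinearMap.lTensor T (AlgebraTensorModule.lTensor S S f)) := by
    have e := lTensor_comp_cancelBaseChange (R := R) (A := S) (B := S) (M := T) (N := N) (Q := P) f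
    have h3 : Function.Injective (AlgebraTensorModule.lTensor S T f ∘ₗ
        (cancelBaseChange R S S T N).toLinearMap) := by
      rw [LinearMap.coe_comp, LinearEquiv.coe_coe, coe_lTensor]
      exact h1.comp (LinearEquiv.injective _)
    rw [e, LinearMap.coe_comp, LinearEquiv.coe_coe] at h3
    exact Function.Injective.of_comp h3
  rw [← coe_lTensor (A := S)]
  exact (Module.FaithfullyFlat.lTensor_injective_iff_injective S T _).mp h2

variable (A : Type u) [CommRing A] [IsNoetherianRing A] (J 𝔭 : Ideal A) [𝔭.IsPrime]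

theorem flat_codRestrict_stalkSubring (hJ : J ≤ 𝔭)
    (h : ∀ a : A, ((algebraMap (Localization.AtPrime 𝔭) (FSch.cAtPrime A J 𝔭)).comp
      (algebraMap A (Localization.AtPrime 𝔭))) a ∈ FSch.stalkSubring A J 𝔭) :
    (((algebraMap (Localization.AtPrime 𝔭) (FSch.cAtPrime A J 𝔭)).comp
      (algebraMap A (Localization.AtPrime 𝔭))).codRestrict (FSch.stalkSubring A J 𝔭) h).Flat := by
  haveI := faithfullyFlat_stalkSubring A J 𝔭 hJ
  haveI : IsNoetherianRing (Localization.AtPrime 𝔭) :=
    IsLocalization.isNoetherianRing 𝔭.primeCompl _ inferInstance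
  haveI : IsScalarTower A (Localization.AtPrime 𝔭) (FSch.cAtPrime A J 𝔭) :=
    IsScalarTower.of_algebraMap_eq (fun a => rfl)
  haveI : Module.Flat A (Localization.AtPrime 𝔭) :=
    IsLocalization.flat (Localization.AtPrime 𝔭) 𝔭.primeCompl
  haveI : Module.Flat A (FSch.cAtPrime A J 𝔭) :=
    Module.Flat.trans A (Localization.AtPrime 𝔭) (FSch.cAtPrime A J 𝔭)
  letI algAR : Algebra A (FSch.stalkSubring A J 𝔭) :=
    (((algebraMap (Localization.AtPrime 𝔭) (FSch.cAtPrime A J 𝔭)).comp
      (algebraMap A (Localization.AtPrime 𝔭))).codRestrict (FSch.stalkSubring A J 𝔭) h).toAlgebra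
  haveI : IsScalarTower A (FSch.stalkSubring A J 𝔭) (FSch.cAtPrime A J 𝔭) :=
    IsScalarTower.of_algebraMap_eq (fun a => rfl)
  exact flat_of_faithfullyFlat_of_flat A (FSch.stalkSubring A J 𝔭) (FSch.cAtPrime A J 𝔭)

end Groth.Agent.Lib.Seat17.StalkFlat
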