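import Groth.Prelude.Def_FSch3
import Groth.Agent.Lib.Seat17ComplMap
import Groth.Agent.Lib.Seat17AdicQuot
import Groth.Agent.Lib.Helper19ComplFlatMap
import Groth.Agent.Lib.Helper19ComplNoeth
import Groth.Agent.Lib.Helper19ComplDim2
import Mathlib

/-!
# The stalk ring `A_{S}` of a formal spectrum (seat 17)

`A{S⁻¹}` is faithfully flat over `A_{S}`, and `A_{S}` is Noetherian (EGA 0_I 7.6.17, 7.6.18).
-/

set_option autoImplicit false
universe u

namespace Groth.Agent.Lib.Seat17.StalkRing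

open AdicCompletion Groth.Agent.Lib.Seat17.ComplMap

section ComplMap
variable {S T U : Type u} [CommRing S] [CommRing T] [CommRing U]
  (I : Ideal S) (K : Ideal T) (L : Ideal U)

theorem complMap_comp (g₁ : S →+* T) (g₂ : T →+* U) (h₁ : I.map g₁ ≤ K) (h₂ : K.map g₂ ≤ L)
    (h₁₂ : I.map (g₂.comp g₁) ≤ L) (x : AdicCompletion I S) :
    FSch.complMap K L g₂ h₂ (FSch.complMap I K g₁ h₁ x) = FSch.complMap I L (g₂.comp g₁) h₁₂ x := by
  apply ext_evalₐ
  intro n
  rw [evalₐ_complMap, evalₐ_complMap, evalₐ_complMap]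
  obtain ⟨s, hs⟩ := Ideal.Quotient.mk_surjective (evalₐ I n x)
  rw [← hs, Ideal.quotientMap_mk, Ideal.quotientMap_mk, Ideal.quotientMap_mk]
  rfl

theorem complMap_congr {g g' : S →+* T} (hg : g = g') (h : I.map g ≤ K) (h' : I.map g' ≤ K)
    (x : AdicCompletion I S) : FSch.complMap I K g h x = FSch.complMap I K g' h' x := by
  subst hg; rfl

end ComplMap

section Abstract

/-- a subring `R ≤ C` such that any finitely many elements of `R` lie in the image of a flat ring
map `B → C` with image in `R`: then `C` is flat over `R` (equational criterion) -/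
theorem flat_of_forall_fin_range {C : Type u} [CommRing C] (R : Subring C)
    (h : ∀ {l : ℕ} (r : Fin l → R), ∃ (B : Type u) (_ : CommRing B) (φ : B →+* C),
      φ.Flat ∧ φ.range ≤ R ∧ ∀ i, (r i : C) ∈ φ.range) :
    Module.Flat R C := by
  apply Module.Flat.of_forall_isTrivialRelation
  intro l r x hrel
  obtain ⟨B, _, φ, hflat, hle, hcommon⟩ := h r
  choose ρ hρ using hcommon
  letI : Algebra B C := φ.toAlgebra
  haveI : Module.Flat B C := hflat
  have hsm : ∀ (c : B) (y : C), c • y = φ c * y := fun c y => by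
    rw [Algebra.smul_def]; rfl
  have hsmR : ∀ (c : R) (y : C), c • y = (c : C) * y := fun c y => rfl
  have hrel' : ∑ i, ρ i • x i = 0 := by
    rw [← hrel]
    refine Finset.sum_congr rfl fun i _ => ?_
    rw [hsm, hρ i, hsmR]
  have := Module.Flat.isTrivialRelation_of_sum_smul_eq_zero (R := B) (M := C) (f := ρ) (x := x)
    hrel'
  obtain ⟨k, a, y, hxy, ha⟩ := this
  refine ⟨k, fun i j => ⟨φ (a i j), hle ⟨_, rfl⟩⟩, y, ?_, ?_⟩
  · intro i
    rw [hxy i]
    refine Finset.sum_congr rfl fun j _ => ?_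
    rw [hsm, hsmR]
  · intro j
    apply Subtype.ext
    have := congrArg φ (ha j)
    rw [map_sum, _root_.map_zero] at this
    rw [Subring.coe_zero, ← this]
    push_cast
    refine Finset.sum_congr rfl fun i _ => ?_
    rw [map_mul, hρ i]

end Abstract

section Stalk
variable (A : Type u) [CommRing A] (J : Ideal A) (𝔭 : Ideal A) [𝔭.IsPrime]

theorem awayToAtPrime_algebraMap (f : A) (hf : f ∉ 𝔭) (a : A) :
    FSch.awayToAtPrime A 𝔭 f hf (algebraMap A (Localization.Away f) a) =
      algebraMap A (Localization.AtPrime 𝔭) a :=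
  IsLocalization.Away.lift_eq _ _ a

/-- a ring map `A_f → A_h` over `A` gives a factorization of `A_{f} → A{S⁻¹}` through `A_{h}` -/
theorem cAwayToAtPrime_comp (f h : A) (hf : f ∉ 𝔭) (hh : h ∉ 𝔭)
    (θ : Localization.Away f →+* Localization.Away h)
    (hθ : ∀ a, θ (algebraMap A (Localization.Away f) a) = algebraMap A (Localization.Away h) a)
    (hle : (J.map (algebraMap A (Localization.Away f))).map θ ≤
      J.map (algebraMap A (Localization.Away h))) (x : FSch.cAway A J f) :
    FSch.cAwayToAtPrime A J 𝔭 h hh (FSch.complMap _ _ θ hle x) =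
      FSch.cAwayToAtPrime A J 𝔭 f hf x := by
  have e : (FSch.awayToAtPrime A 𝔭 h hh).comp θ = FSch.awayToAtPrime A 𝔭 f hf := by
    apply IsLocalization.ringHom_ext (Submonoid.powers f)
    ext a
    simp only [RingHom.comp_apply, hθ, awayToAtPrime_algebraMap]
  unfold FSch.cAwayToAtPrime
  have h12 : (J.map (algebraMap A (Localization.Away f))).map
      ((FSch.awayToAtPrime A 𝔭 h hh).comp θ) ≤ J.map (algebraMap A (Localization.AtPrime 𝔭)) := by
    rw [e]; exact FSch.map_awayToAtPrime_le A J 𝔭 f hf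
  rw [complMap_comp _ _ _ θ (FSch.awayToAtPrime A 𝔭 h hh) hle
    (FSch.map_awayToAtPrime_le A J 𝔭 h hh) h12 x]
  exact complMap_congr _ _ e _ _ x

theorem map_le_of_algebraMap (f h : A) (θ : Localization.Away f →+* Localization.Away h)
    (hθ : ∀ a, θ (algebraMap A (Localization.Away f) a) = algebraMap A (Localization.Away h) a) :
    (J.map (algebraMap A (Localization.Away f))).map θ ≤
      J.map (algebraMap A (Localization.Away h)) := by
  rw [Ideal.map_map]
  apply le_of_eq
  congr 1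
  ext a
  exact hθ a

theorem range_le_of_algebraMap (f h : A) (hf : f ∉ 𝔭) (hh : h ∉ 𝔭)
    (θ : Localization.Away f →+* Localization.Away h)
    (hθ : ∀ a, θ (algebraMap A (Localization.Away f) a) = algebraMap A (Localization.Away h) a) :
    (FSch.cAwayToAtPrime A J 𝔭 f hf).range ≤ (FSch.cAwayToAtPrime A J 𝔭 h hh).range := by
  rintro _ ⟨x, rfl⟩
  exact ⟨_, cAwayToAtPrime_comp A J 𝔭 f h hf hh θ hθ (map_le_of_algebraMap A J f h θ hθ) x⟩

theorem mul_not_mem {f g : A} (hf : f ∉ 𝔭) (hg : g ∉ 𝔭) : f * g ∉ 𝔭 := fun h =>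
  (Ideal.IsPrime.mem_or_mem inferInstance h).elim hf hg

theorem directed_range :
    Directed (· ≤ ·) (fun f : {f : A // f ∉ 𝔭} => (FSch.cAwayToAtPrime A J 𝔭 f.1 f.2).range) := by
  rintro ⟨f, hf⟩ ⟨g, hg⟩
  refine ⟨⟨f * g, mul_not_mem A 𝔭 hf hg⟩, ?_, ?_⟩
  · exact range_le_of_algebraMap A J 𝔭 f (f * g) hf _
      (IsLocalization.Away.awayToAwayRight f g)
      (fun a => IsLocalization.Away.awayToAwayRight_eq f g a)
  · exact range_le_of_algebraMap A J 𝔭 g (f * g) hg _
      (IsLocalization.Away.awayToAwayLeft g f)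
      (fun a => IsLocalization.Away.awayToAwayLeft_eq g f a)

instance : Nonempty {f : A // f ∉ 𝔭} := ⟨⟨1, fun h => (Ideal.IsPrime.ne_top inferInstance)
  ((Ideal.eq_top_iff_one 𝔭).mpr h)⟩⟩

theorem mem_stalkSubring_iff (x : FSch.cAtPrime A J 𝔭) :
    x ∈ FSch.stalkSubring A J 𝔭 ↔
      ∃ f : {f : A // f ∉ 𝔭}, x ∈ (FSch.cAwayToAtPrime A J 𝔭 f.1 f.2).range :=
  Subring.mem_iSup_of_directed (directed_range A J 𝔭)

theorem range_le_stalkSubring (f : A) (hf : f ∉ 𝔭) :
    (FSch.cAwayToAtPrime A J 𝔭 f hf).range ≤ FSch.stalkSubring A J 𝔭 :=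
  le_iSup (fun f : {f : A // f ∉ 𝔭} => (FSch.cAwayToAtPrime A J 𝔭 f.1 f.2).range) ⟨f, hf⟩


section Flat
variable [IsNoetherianRing A]

theorem awayToAtPrime_flat (f : A) (hf : f ∉ 𝔭) : (FSch.awayToAtPrime A 𝔭 f hf).Flat := by
  letI : Algebra (Localization.Away f) (Localization.AtPrime 𝔭) :=
    (FSch.awayToAtPrime A 𝔭 f hf).toAlgebra
  haveI : IsScalarTower A (Localization.Away f) (Localization.AtPrime 𝔭) :=
    IsScalarTower.of_algebraMap_eq fun a => (awayToAtPrime_algebraMap A 𝔭 f hf a).symm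
  have hle : Submonoid.powers f ≤ 𝔭.primeCompl := by
    rintro _ ⟨n, rfl⟩
    exact 𝔭.primeCompl.pow_mem hf n
  haveI : IsLocalization (Submonoid.map (algebraMap A (Localization.Away f)) 𝔭.primeCompl)
      (Localization.AtPrime 𝔭) :=
    IsLocalization.isLocalization_of_submonoid_le (Localization.Away f) (Localization.AtPrime 𝔭)
      (Submonoid.powers f) 𝔭.primeCompl hle
  exact IsLocalization.flat (Localization.AtPrime 𝔭)
    (Submonoid.map (algebraMap A (Localization.Away f)) 𝔭.primeCompl)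

theorem map_awayToAtPrime_eq (f : A) (hf : f ∉ 𝔭) :
    (J.map (algebraMap A (Localization.Away f))).map (FSch.awayToAtPrime A 𝔭 f hf) =
      J.map (algebraMap A (Localization.AtPrime 𝔭)) := by
  rw [Ideal.map_map]
  congr 1
  ext a
  exact awayToAtPrime_algebraMap A 𝔭 f hf a

theorem cAwayToAtPrime_flat (f : A) (hf : f ∉ 𝔭) : (FSch.cAwayToAtPrime A J 𝔭 f hf).Flat := by
  haveI : IsNoetherianRing (Localization.Away f) :=
    IsLocalization.isNoetherianRing (Submonoid.powers f) _ inferInstance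
  haveI : IsNoetherianRing (Localization.AtPrime 𝔭) :=
    IsLocalization.isNoetherianRing 𝔭.primeCompl _ inferInstance
  exact Groth.Agent.Lib.Helper19.complMap_flat _ _ (FSch.awayToAtPrime A 𝔭 f hf)
    (awayToAtPrime_flat A 𝔭 f hf) (map_awayToAtPrime_eq A J 𝔭 f hf)

/-- finitely many elements of the stalk ring come from a common `A_{f}` -/
theorem exists_common {l : ℕ} (r : Fin l → FSch.stalkSubring A J 𝔭) :
    ∃ f : {f : A // f ∉ 𝔭}, ∀ i, (r i : FSch.cAtPrime A J 𝔭) ∈
      (FSch.cAwayToAtPrime A J 𝔭 f.1 f.2).range := by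
  classical
  have h1 : ∀ i, ∃ f : {f : A // f ∉ 𝔭}, (r i : FSch.cAtPrime A J 𝔭) ∈
      (FSch.cAwayToAtPrime A J 𝔭 f.1 f.2).range :=
    fun i => (mem_stalkSubring_iff A J 𝔭 _).mp (r i).2
  choose fi hfi using h1
  obtain ⟨z, hz⟩ := (directed_range A J 𝔭).finset_le (Finset.univ.image fi)
  exact ⟨z, fun i => hz (fi i) (Finset.mem_image_of_mem _ (Finset.mem_univ i)) (hfi i)⟩

/-- `A{S⁻¹}` is flat over `A_{S}` -/
theorem flat_stalkSubring : Module.Flat (FSch.stalkSubring A J 𝔭) (FSch.cAtPrime A J 𝔭) := by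
  apply flat_of_forall_fin_range
  intro l r
  obtain ⟨⟨f, hf⟩, hcommon⟩ := exists_common A J 𝔭 r
  exact ⟨FSch.cAway A J f, inferInstance, FSch.cAwayToAtPrime A J 𝔭 f hf,
    cAwayToAtPrime_flat A J 𝔭 f hf, range_le_stalkSubring A J 𝔭 f hf, hcommon⟩

end Flat

end Stalk

section Abstract2

theorem faithfullyFlat_of_isUnit_descends {C : Type u} [CommRing C] [IsLocalRing C] (R : Subring C)
    [Module.Flat R C] (h : ∀ x : R, IsUnit (x : C) → IsUnit x) : Module.FaithfullyFlat R C := by
  refine ⟨fun m hm htop => ?_⟩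
  have hle : m • (⊤ : Submodule R C) ≤ (IsLocalRing.maximalIdeal C).restrictScalars R := by
    rw [Submodule.smul_le]
    intro r hr c _
    have hr' : ¬ IsUnit r := fun hu => hm.ne_top (Ideal.eq_top_of_isUnit_mem _ hr hu)
    have hmem : (r : C) ∈ IsLocalRing.maximalIdeal C := by
      rw [IsLocalRing.mem_maximalIdeal, mem_nonunits_iff]
      exact fun hu => hr' (h r hu)
    show (r : C) * c ∈ IsLocalRing.maximalIdeal C
    exact Ideal.mul_mem_right _ _ hmem
  rw [htop] at hle
  have h1 : (1 : C) ∈ IsLocalRing.maximalIdeal C := hle trivial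
  exact (IsLocalRing.maximalIdeal.isMaximal C).ne_top ((Ideal.eq_top_iff_one _).mpr h1)

theorem isNoetherianRing_of_faithfullyFlat {R C : Type u} [CommRing R] [CommRing C] [Algebra R C]
    [Module.FaithfullyFlat R C] [IsNoetherianRing C] : IsNoetherianRing R := by
  have hmono : StrictMono (Ideal.map (algebraMap R C)) :=
    Monotone.strictMono_of_injective (fun _ _ h => Ideal.map_mono h)
      Ideal.map_injective_of_faithfullyFlat
  have hC : WellFoundedGT (Ideal C) := (isNoetherian_iff' (R := C) (M := C)).mp inferInstance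
  rw [isNoetherianRing_iff, isNoetherian_iff']
  exact hmono.wellFoundedGT

variable {S : Type u} [CommRing S] (I : Ideal S)

/-- an element of a completion (finitely generated ideal) whose image in `S ⧸ I` is a unit is a
unit -/
theorem isUnit_of_isUnit_evalₐ_one (fg : I.FG) (y : AdicCompletion I S)
    (hy : IsUnit (evalₐ I 1 y)) : IsUnit y := by
  haveI := AdicCompletion.isAdicComplete_self I fg
  have hjac : I.map (algebraMap S (AdicCompletion I S)) ≤
      (⊥ : Ideal (AdicCompletion I S)).jacobson := IsAdicComplete.le_jacobson_bot _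
  obtain ⟨z', hz'⟩ := hy.exists_right_inv
  obtain ⟨z, rfl⟩ := AdicCompletion.surjective_evalₐ I 1 z'
  have hker : y * z - 1 ∈ RingHom.ker (evalₐ I 1 : AdicCompletion I S →+* S ⧸ I ^ 1) := by
    rw [RingHom.mem_ker, map_sub, map_mul, map_one]
    exact sub_eq_zero.mpr hz'
  rw [Groth.Agent.Lib.Seat17.AdicQuot.ker_evalₐ_eq I fg 1, pow_one] at hker
  have hu : IsUnit (y * z) := Ideal.isUnit_of_sub_one_mem_jacobson_bot _ (hjac hker)
  exact isUnit_of_mul_isUnit_left hu

/-- in the completion of a local ring at an ideal contained in the maximal ideal, an element whose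
image in `S ⧸ I` is the class of a non-unit of `S` is not a unit -/
theorem not_isUnit_of_evalₐ_one_eq_mk [IsLocalRing S]
    (hI : I ≤ IsLocalRing.maximalIdeal S) (x : AdicCompletion I S) (y : S)
    (hy : y ∈ IsLocalRing.maximalIdeal S) (h : evalₐ I 1 x = Ideal.Quotient.mk _ y) :
    ¬ IsUnit x := by
  intro hu
  have h1 : IsUnit (Ideal.Quotient.mk (I ^ 1) y) := h ▸ hu.map (evalₐ I 1)
  obtain ⟨z', hz'⟩ := h1.exists_right_inv
  obtain ⟨z, rfl⟩ := Ideal.Quotient.mk_surjective z'
  rw [← map_mul, ← map_one (Ideal.Quotient.mk (I ^ 1)), Ideal.Quotient.eq, pow_one] at hz'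
  have h2 : y * z - 1 ∈ IsLocalRing.maximalIdeal S := hI hz'
  have h3 : (1 : S) ∈ IsLocalRing.maximalIdeal S := by
    have := Ideal.sub_mem _ (Ideal.mul_mem_right z _ hy) h2
    rwa [sub_sub_cancel] at this
  exact (IsLocalRing.maximalIdeal.isMaximal S).ne_top ((Ideal.eq_top_iff_one _).mpr h3)

end Abstract2

section Unit
variable (A : Type u) [CommRing A] (J : Ideal A) (𝔭 : Ideal A) [𝔭.IsPrime]

theorem map_le_maximalIdeal (hJ : J ≤ 𝔭) :
    J.map (algebraMap A (Localization.AtPrime 𝔭)) ≤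
      IsLocalRing.maximalIdeal (Localization.AtPrime 𝔭) := by
  rw [← Localization.AtPrime.map_eq_maximalIdeal]
  exact Ideal.map_mono hJ

theorem map_ne_top (hJ : J ≤ 𝔭) : J.map (algebraMap A (Localization.AtPrime 𝔭)) ≠ ⊤ := by
  intro h
  have hle := map_le_maximalIdeal A J 𝔭 hJ
  rw [h] at hle
  exact (IsLocalRing.maximalIdeal.isMaximal _).ne_top (top_le_iff.mp hle)

variable [IsNoetherianRing A]

theorem isLocalRing_cAtPrime (hJ : J ≤ 𝔭) : IsLocalRing (FSch.cAtPrime A J 𝔭) := by
  haveI : IsNoetherianRing (Localization.AtPrime 𝔭) :=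
    IsLocalization.isNoetherianRing 𝔭.primeCompl _ inferInstance
  exact Groth.Agent.Lib.Helper19.isLocalRing_adicCompletion (Localization.AtPrime 𝔭)
    (map_ne_top A J 𝔭 hJ)

/-- an element of the stalk ring `A_{S}` which is invertible in `A{S⁻¹}` is invertible in
`A_{S}` -/
theorem isUnit_descends (hJ : J ≤ 𝔭) (x : FSch.stalkSubring A J 𝔭)
    (hx : IsUnit (x : FSch.cAtPrime A J 𝔭)) : IsUnit x := by
  obtain ⟨⟨f, hf⟩, ξ, hξ⟩ := (mem_stalkSubring_iff A J 𝔭 _).mp x.2
  obtain ⟨b, hb⟩ := Ideal.Quotient.mk_surjective (evalₐ _ 1 ξ)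
  obtain ⟨⟨a, s⟩, hs⟩ := IsLocalization.mk'_surjective (Submonoid.powers f) b
  have hb' : b * algebraMap A (Localization.Away f) (s : A) = algebraMap A _ a := by
    rw [← hs]; exact IsLocalization.mk'_spec _ _ _
  have hsp : (s : A) ∉ 𝔭 := by
    obtain ⟨n, hn⟩ := s.2
    rw [← hn]
    exact 𝔭.primeCompl.pow_mem hf n
  have ha : a ∉ 𝔭 := by
    intro ha
    have h1 : evalₐ _ 1 (x : FSch.cAtPrime A J 𝔭) =
        Ideal.Quotient.mk _ (FSch.awayToAtPrime A 𝔭 f hf b) := by
      rw [← hξ]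
      unfold FSch.cAwayToAtPrime
      rw [evalₐ_complMap, ← hb, Ideal.quotientMap_mk]
    have h2 : FSch.awayToAtPrime A 𝔭 f hf b ∈
        IsLocalRing.maximalIdeal (Localization.AtPrime 𝔭) := by
      have h3 := congrArg (FSch.awayToAtPrime A 𝔭 f hf) hb'
      rw [map_mul, awayToAtPrime_algebraMap, awayToAtPrime_algebraMap] at h3
      have hsu : IsUnit (algebraMap A (Localization.AtPrime 𝔭) (s : A)) :=
        IsLocalization.map_units (Localization.AtPrime 𝔭)
          (⟨(s : A), hsp⟩ : 𝔭.primeCompl)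
      have ham : algebraMap A (Localization.AtPrime 𝔭) a ∈
          IsLocalRing.maximalIdeal (Localization.AtPrime 𝔭) := by
        rw [← Localization.AtPrime.map_eq_maximalIdeal]
        exact Ideal.mem_map_of_mem _ ha
      rw [← h3] at ham
      exact (Ideal.mul_unit_mem_iff_mem _ hsu).mp ham
    exact not_isUnit_of_evalₐ_one_eq_mk _ (map_le_maximalIdeal A J 𝔭 hJ) _ _ h2 h1 hx
  have hh : f * a ∉ 𝔭 := mul_not_mem A 𝔭 hf ha
  have hθ : ∀ c, IsLocalization.Away.awayToAwayRight (S := Localization.Away f)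
      (P := Localization.Away (f * a)) f a (algebraMap A _ c) = algebraMap A _ c :=
    fun c => IsLocalization.Away.awayToAwayRight_eq f a c
  have hle := map_le_of_algebraMap A J f (f * a) _ hθ
  have hη : FSch.cAwayToAtPrime A J 𝔭 (f * a) hh (FSch.complMap _ _ _ hle ξ) = x :=
    (cAwayToAtPrime_comp A J 𝔭 f (f * a) hf hh _ hθ hle ξ).trans hξ
  have hfa : IsUnit (algebraMap A (Localization.Away (f * a)) (f * a)) :=
    IsLocalization.Away.algebraMap_isUnit (f * a)
  rw [map_mul] at hfa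
  have hfu : IsUnit (algebraMap A (Localization.Away (f * a)) f) := isUnit_of_mul_isUnit_left hfa
  have hau : IsUnit (algebraMap A (Localization.Away (f * a)) a) := isUnit_of_mul_isUnit_right hfa
  have hsu : IsUnit (algebraMap A (Localization.Away (f * a)) (s : A)) := by
    obtain ⟨n, hn⟩ := s.2
    rw [← hn, map_pow]
    exact hfu.pow n
  have hθb : IsUnit (IsLocalization.Away.awayToAwayRight (S := Localization.Away f)
      (P := Localization.Away (f * a)) f a b) := by
    have h3 := congrArg (IsLocalization.Away.awayToAwayRight (S := Localization.Away f)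
      (P := Localization.Away (f * a)) f a) hb'
    rw [map_mul, hθ, hθ] at h3
    rw [← h3] at hau
    exact isUnit_of_mul_isUnit_left hau
  have fg : (J.map (algebraMap A (Localization.Away (f * a)))).FG :=
    Ideal.FG.map (IsNoetherian.noetherian J) _
  have hu : IsUnit (FSch.complMap _ _ _ hle ξ) := by
    apply isUnit_of_isUnit_evalₐ_one _ fg
    rw [evalₐ_complMap, ← hb, Ideal.quotientMap_mk]
    exact hθb.map _
  obtain ⟨η', hη'⟩ := hu.exists_right_inv
  refine IsUnit.of_mul_eq_one ⟨FSch.cAwayToAtPrime A J 𝔭 (f * a) hh η',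
    range_le_stalkSubring A J 𝔭 (f * a) hh ⟨_, rfl⟩⟩ ?_
  apply Subtype.ext
  show (x : FSch.cAtPrime A J 𝔭) * FSch.cAwayToAtPrime A J 𝔭 (f * a) hh η' = 1
  rw [← hη, ← map_mul, hη', map_one]

theorem faithfullyFlat_stalkSubring (hJ : J ≤ 𝔭) :
    Module.FaithfullyFlat (FSch.stalkSubring A J 𝔭) (FSch.cAtPrime A J 𝔭) := by
  haveI := isLocalRing_cAtPrime A J 𝔭 hJ
  haveI := flat_stalkSubring A J 𝔭
  exact faithfullyFlat_of_isUnit_descends _ (isUnit_descends A J 𝔭 hJ)

theorem isNoetherianRing_stalkSubring (hJ : J ≤ 𝔭) :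
    IsNoetherianRing (FSch.stalkSubring A J 𝔭) := by
  haveI := faithfullyFlat_stalkSubring A J 𝔭 hJ
  haveI : IsNoetherianRing (Localization.AtPrime 𝔭) :=
    IsLocalization.isNoetherianRing 𝔭.primeCompl _ inferInstance
  haveI : IsNoetherianRing (FSch.cAtPrime A J 𝔭) :=
    Groth.Agent.Lib.Helper19.isNoetherianRing_adicCompletion _
  exact isNoetherianRing_of_faithfullyFlat (C := FSch.cAtPrime A J 𝔭)

end Unit

end Groth.Agent.Lib.Seat17.StalkRing
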