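import Groth.Agent.Lib.Seat17AdicBC

/-!
# Closed sub-systems of a locally Noetherian formal system (seat 17)
-/

set_option autoImplicit false
universe u

namespace Groth.Agent.Lib.Seat17.SubSys

open CategoryTheory CategoryTheory.Limits AlgebraicGeometry

theorem isLocNoethFormal_subSys (𝔛 : FSch.Sys.{u}) (h𝔛 : 𝔛.IsLocNoethFormal)
    (𝒜 : ∀ n, (𝔛.X n).IdealSheafData) (h : ∀ n, (𝒜 (n + 1)).comap (𝔛.ι n) = 𝒜 n) :
    (FSch.subSys 𝔛 𝒜 (fun n ↦ (h n).le)).IsLocNoethFormal ∧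
      FSch.IsAdicHom (FSch.subSysι 𝔛 𝒜 (fun n ↦ (h n).le)) := by
  have hadic : FSch.IsAdicHom (FSch.subSysι 𝔛 𝒜 (fun n ↦ (h n).le)) := by
    intro n
    exact (ComapPow.isPullback_subschemeMap_comap (𝔛.ι n) (𝒜 (n + 1)) (𝒜 n) (h n)
      (Scheme.IdealSheafData.le_map_iff_comap_le.mpr (h n).le)).flip
  refine ⟨?_, hadic⟩
  have : IsLocallyNoetherian (𝔛.X 0) := h𝔛.2.2 0
  have h0 : IsLocallyNoetherian (𝒜 0).subscheme :=
    LocallyOfFiniteType.isLocallyNoetherian (𝒜 0).subschemeι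
  have : IsLocallyNoetherian ((FSch.subSys 𝔛 𝒜 (fun n ↦ (h n).le)).X 0) := h0
  exact AdicBC.isLocNoethFormal_of_isAdicHom (FSch.subSysι 𝔛 𝒜 (fun n ↦ (h n).le)) h𝔛 hadic

end Groth.Agent.Lib.Seat17.SubSys
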