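import Groth.Prelude.Def_FSch3

/-!
# Levelwise pullback squares of systems are pullback squares (seat 17)
-/

set_option autoImplicit false
universe u

namespace Groth.Agent.Lib.Seat17.SysPullback

open CategoryTheory CategoryTheory.Limits AlgebraicGeometry

theorem app_congr {𝔛 𝔜 : FSch.Sys.{u}} {a b : 𝔛 ⟶ 𝔜} (h : a = b) (n : ℕ) :
    (a : FSch.Hom 𝔛 𝔜).app n = (b : FSch.Hom 𝔛 𝔜).app n := by rw [h]

theorem hom_ext' {𝔛 𝔜 : FSch.Sys.{u}} {a b : 𝔛 ⟶ 𝔜}
    (h : ∀ n, (a : FSch.Hom 𝔛 𝔜).app n = (b : FSch.Hom 𝔛 𝔜).app n) : a = b :=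
  FSch.Hom.ext (funext h)

/-- A square of systems which is a pullback square at every level is a pullback square. -/
theorem isPullback_of_levelwise {𝔚 𝔛 𝔜 𝔖 : FSch.Sys.{u}} (a : 𝔚 ⟶ 𝔛) (b : 𝔚 ⟶ 𝔜) (c : 𝔛 ⟶ 𝔖)
    (d : 𝔜 ⟶ 𝔖)
    (hl : ∀ n, IsPullback ((a : FSch.Hom _ _).app n) ((b : FSch.Hom _ _).app n)
      ((c : FSch.Hom _ _).app n) ((d : FSch.Hom _ _).app n)) :
    IsPullback a b c d := by
  have w : a ≫ c = b ≫ d := by
    apply hom_ext'
    intro n
    exact (hl n).w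
  refine ⟨⟨w⟩, ⟨PullbackCone.IsLimit.mk w ?_ ?_ ?_ ?_⟩⟩
  · intro s
    have hc : ∀ n, (s.fst : FSch.Hom _ _).app n ≫ (c : FSch.Hom _ _).app n =
        (s.snd : FSch.Hom _ _).app n ≫ (d : FSch.Hom _ _).app n := fun n => app_congr s.condition n
    refine ⟨fun n => (hl n).lift ((s.fst : FSch.Hom _ _).app n) ((s.snd : FSch.Hom _ _).app n) (hc n), ?_⟩
    intro n
    apply (hl (n + 1)).hom_ext
    · rw [Category.assoc, Category.assoc, (hl (n + 1)).lift_fst, ← (a : FSch.Hom _ _).comm n,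
        ← Category.assoc, (hl n).lift_fst]
      exact (s.fst : FSch.Hom _ _).comm n
    · rw [Category.assoc, Category.assoc, (hl (n + 1)).lift_snd, ← (b : FSch.Hom _ _).comm n,
        ← Category.assoc, (hl n).lift_snd]
      exact (s.snd : FSch.Hom _ _).comm n
  · intro s
    apply hom_ext'
    intro n
    exact (hl n).lift_fst _ _ _
  · intro s
    apply hom_ext'
    intro n
    exact (hl n).lift_snd _ _ _
  · intro s m h1 h2
    apply hom_ext'
    intro n
    apply (hl n).hom_ext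
    · rw [(hl n).lift_fst]
      exact app_congr h1 n
    · rw [(hl n).lift_snd]
      exact app_congr h2 n

end Groth.Agent.Lib.Seat17.SysPullback
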