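import Mathlib
import Groth.Prelude.Def_Formal2
import Groth.Agent.S8821
import Groth.Agent.Lib.Seat17QcTrunc
import Groth.Agent.Lib.Seat76ComplChar

/-!
# The limit of an `f`-adic tower of quasi-coherent modules (seat 17)

Abstract tower `G n` with transition maps `t n : G (n+1) ⟶ G n`, monomorphisms `i n : G n ⟶ G (n+1)`
with `t n ≫ i n = f` and short exact sequences `G n ⟶ G (n+1) ⟶ G 0`.  We show that the tower is a
quasi-coherent formal system for the ideal `(f)` and that `f` is a monomorphism on the limit.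
-/

set_option autoImplicit false
set_option linter.style.haveILetI false
set_option linter.unusedSectionVars false
universe u
open CategoryTheory CategoryTheory.Limits AlgebraicGeometry TopologicalSpace Opposite

namespace Groth.Agent.Lib.Seat17.TorsFreeLim

open Groth.Agent.S8821

variable {A : Type u} [CommRing A] {X : Scheme.{u}} [X.Over (Spec (CommRingCat.of A))]

section abstract

variable (f : A) (G : ℕ → X.Modules) (t : ∀ n, G (n + 1) ⟶ G n) (i : ∀ n, G n ⟶ G (n + 1))
  (p : ∀ n, G n ⟶ G 0) (hp0 : p 0 = 𝟙 (G 0)) (hp : ∀ n, p (n + 1) = t n ≫ p n)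
  (hi : ∀ n, Mono (i n)) (hti : ∀ n, t n ≫ i n = Formal.smulMod A (G (n + 1)) f)
  (hw : ∀ n, i n ≫ p (n + 1) = 0)
  (hS : ∀ n, (ShortComplex.mk (i n) (p (n + 1)) (hw n)).ShortExact)

include hi hti in
theorem it (n : ℕ) : i n ≫ t n = Formal.smulMod A (G n) f := by
  haveI := hi n
  rw [← cancel_mono (i n), Category.assoc, hti, smulMod_comp]

include hS in
theorem epi_p (n : ℕ) : Epi (p (n + 1)) := (hS n).epi_g

include hp0 hp hi hti hS in
theorem epi_t (n : ℕ) : Epi (t n) := by
  induction n with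
  | zero =>
    have h1 : p 1 = t 0 := by rw [hp 0, hp0, Category.comp_id]
    have := epi_p G i p hw hS 0
    rw [h1] at this
    exact this
  | succ n ih =>
    haveI := ih
    apply Preadditive.epi_of_cancel_zero
    intro Q q hq
    have h1 : i n ≫ q = 0 := by
      rw [← cancel_epi (t n), ← Category.assoc, hti, ← it f G t i hi hti (n + 1), Category.assoc, hq,
        comp_zero, comp_zero]
    haveI := (hS n).epi_g
    have hc := (hS n).exact.gIsCokernel
    have h2 : p (n + 1) ≫ hc.desc (CokernelCofork.ofπ q h1) = q :=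
      Cofork.IsColimit.π_desc (t := CokernelCofork.ofπ q h1) hc
    have h3 : p (n + 1 + 1) ≫ hc.desc (CokernelCofork.ofπ q h1) = 0 := by
      rw [hp (n + 1), Category.assoc, h2, hq]
    haveI := epi_p G i p hw hS (n + 1)
    have h4 : hc.desc (CokernelCofork.ofπ q h1) = 0 := by
      rw [← cancel_epi (p (n + 1 + 1)), h3, comp_zero]
    rw [← h2, h4, comp_zero]

include hp0 hp hi hti hw in
theorem f_zero : Formal.smulMod A (G 0) f = 0 := by
  have h1 : p 1 = t 0 := by rw [hp 0, hp0, Category.comp_id]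
  rw [← it f G t i hi hti 0, ← h1, hw 0]

include hi hti in
theorem pow_succ_eq (n k : ℕ) : Formal.smulMod A (G (n + 1)) (f ^ (k + 1)) =
    t n ≫ Formal.smulMod A (G n) (f ^ k) ≫ i n := by
  induction k with
  | zero => rw [pow_zero, smulMod_one, Category.id_comp, zero_add, pow_one, hti]
  | succ k ih =>
    rw [pow_succ, smulMod_mul', ih, Category.assoc, Category.assoc, ← hti n,
      ← Category.assoc (i n), it f G t i hi hti n, pow_succ, smulMod_mul', Category.assoc]

include hp0 hp hi hti hw in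
theorem pow_kill (n : ℕ) : Formal.smulMod A (G n) (f ^ (n + 1)) = 0 := by
  induction n with
  | zero => rw [zero_add, pow_one]; exact f_zero f G t i p hp0 hp hi hti hw
  | succ n ih => rw [pow_succ_eq f G t i hi hti, ih, zero_comp, comp_zero]

/-- the iterated inclusion `G 0 ⟶ G (n+1)`. -/
noncomputable def j : ∀ n : ℕ, G 0 ⟶ G (n + 1)
  | 0 => i 0
  | n + 1 => j n ≫ i (n + 1)

include hp0 hp hi hti in
theorem pow_eq (n : ℕ) : Formal.smulMod A (G (n + 1)) (f ^ (n + 1)) = p (n + 1) ≫ j G i n := by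
  induction n with
  | zero =>
    have h1 : p 1 = t 0 := by rw [hp 0, hp0, Category.comp_id]
    have h2 : Formal.smulMod A (G (0 + 1)) (f ^ (0 + 1)) = Formal.smulMod A (G (0 + 1)) f := by
      rw [zero_add, pow_one]
    rw [h2]
    show Formal.smulMod A (G 1) f = p 1 ≫ i 0
    rw [h1]
    exact (hti 0).symm
  | succ n ih =>
    rw [pow_succ_eq f G t i hi hti, ih, hp (n + 1)]
    simp only [j, Category.assoc]

include hp0 hp hi hti hS in
theorem ker_factor (n : ℕ) {T : X.Modules} (x : T ⟶ G (n + 1)) (hx : x ≫ t n = 0) :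
    ∃ x'' : T ⟶ G 0, x = x'' ≫ j G i n := by
  induction n with
  | zero =>
    have h1 : p 1 = t 0 := by rw [hp 0, hp0, Category.comp_id]
    haveI := (hS 0).mono_f
    have hk := (hS 0).exact.fIsKernel
    have hx' : x ≫ p 1 = 0 := by rw [h1, hx]
    refine ⟨hk.lift (KernelFork.ofι x hx'), ?_⟩
    exact (Fork.IsLimit.lift_ι (t := KernelFork.ofι x hx') hk).symm
  | succ n ih =>
    haveI := (hS (n + 1)).mono_f
    have hk := (hS (n + 1)).exact.fIsKernel
    have hx' : x ≫ p (n + 1 + 1) = 0 := by rw [hp (n + 1), ← Category.assoc, hx, zero_comp]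
    have h2 : hk.lift (KernelFork.ofι x hx') ≫ i (n + 1) = x :=
      Fork.IsLimit.lift_ι (t := KernelFork.ofι x hx') hk
    have h3 : hk.lift (KernelFork.ofι x hx') ≫ t n = 0 := by
      haveI := hi n
      rw [← cancel_mono (i n), Category.assoc, hti, ← it f G t i hi hti (n + 1), ← Category.assoc,
        h2, hx, zero_comp]
    obtain ⟨x'', hx''⟩ := ih _ h3
    refine ⟨x'', ?_⟩
    rw [← h2, hx'']
    simp only [j, Category.assoc]

include hp0 hp hi hti hw hS in
theorem factor (n : ℕ) {T : X.Modules} (g : G (n + 1) ⟶ T)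
    (hg : Formal.smulMod A (G (n + 1)) (f ^ (n + 1)) ≫ g = 0) : ∃ g' : G n ⟶ T, t n ≫ g' = g := by
  haveI := epi_t f G t i p hp0 hp hi hti hw hS n
  haveI := epi_p G i p hw hS n
  have hjg : j G i n ≫ g = 0 := by
    rw [← cancel_epi (p (n + 1)), ← Category.assoc, ← pow_eq f G t i p hp0 hp hi hti, hg, comp_zero]
  have hkg : kernel.ι (t n) ≫ g = 0 := by
    obtain ⟨x'', hx''⟩ := ker_factor f G t i p hp0 hp hi hti hw hS n (kernel.ι (t n))
      (kernel.condition _)
    rw [hx'', Category.assoc, hjg, comp_zero]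
  have hc := Abelian.epiIsCokernelOfKernel _ (kernelIsKernel (t n))
  exact ⟨hc.desc (CokernelCofork.ofπ g hkg),
    Cofork.IsColimit.π_desc (t := CokernelCofork.ofπ g hkg) hc⟩

end abstract

theorem isIso_desc_of_epi_of_factor {S M Q : X.Modules} (u : S ⟶ M) (t : M ⟶ Q) (h : u ≫ t = 0)
    [Epi t] (hfac : ∀ (T : X.Modules) (g : M ⟶ T), u ≫ g = 0 → ∃ g', t ≫ g' = g) :
    IsIso (cokernel.desc u t h) := by
  obtain ⟨g', hg'⟩ := hfac _ (cokernel.π u) (cokernel.condition u)
  refine ⟨g', ?_, ?_⟩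
  · rw [← cancel_epi (cokernel.π u), ← Category.assoc, cokernel.π_desc, hg', Category.comp_id]
  · rw [← cancel_epi t, ← Category.assoc, hg', cokernel.π_desc, Category.comp_id]

/-- **Stacks-type lemma**: an `f`-adic tower of quasi-coherent modules with `0 → G_n → G_{n+1} → G_0 → 0`
is the system of quotients `F/f^(n+1)F` of its limit `F`, on which `f` is a monomorphism. -/
theorem main (A : Type u) [CommRing A] (X : Scheme.{u}) [X.Over (Spec (CommRingCat.of A))] (f : A) (G : ℕᵒᵖ ⥤ X.Modules) (hqc : ∀ n : ℕᵒᵖ, Coh.IsQCoh (G.obj n)) (h1 : ∀ n : ℕ, ∃ i : G.obj (op n) ⟶ G.obj (op (n + 1)), Mono i ∧ G.map (homOfLE (Nat.le_succ n)).op ≫ i = Formal.smulMod A (G.obj (op (n + 1))) f ∧ ∃ w : i ≫ G.map (homOfLE (Nat.zero_le (n + 1))).op = 0, (ShortComplex.mk i (G.map (homOfLE (Nat.zero_le (n + 1))).op) w).ShortExact) : ∃ F : X.Modules, Mono (Formal.smulMod A F f) ∧ Nonempty (Formal.completion (Ideal.span ({f} : Set A)) F ≅ G) := by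
  classical
  choose i hi hti hex using h1
  choose hw hS using hex
  let G' : ℕ → X.Modules := fun n => G.obj (op n)
  let t : ∀ n, G' (n + 1) ⟶ G' n := fun n => G.map (homOfLE (Nat.le_succ n)).op
  let p : ∀ n, G' n ⟶ G' 0 := fun n => G.map (homOfLE (Nat.zero_le n)).op
  have hp0 : p 0 = 𝟙 (G' 0) := by
    show G.map (homOfLE (Nat.zero_le 0)).op = 𝟙 _
    have h0 : (homOfLE (Nat.zero_le 0)).op = 𝟙 (op 0) := Subsingleton.elim _ _
    rw [h0, G.map_id]
  have hp : ∀ n, p (n + 1) = t n ≫ p n := by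
    intro n
    show G.map _ = G.map _ ≫ G.map _
    rw [← G.map_comp]
    congr 1
  have hepi := Groth.Agent.Lib.Seat17.TorsFreeLim.epi_t f G' t i p hp0 hp hi hti hw hS
  have hkill := Groth.Agent.Lib.Seat17.TorsFreeLim.pow_kill f G' t i p hp0 hp hi hti hw
  have hfac := @Groth.Agent.Lib.Seat17.TorsFreeLim.factor A _ X _ f G' t i p hp0 hp hi hti hw hS
  -- elements of `(f)^(n+1)`
  have hmem : ∀ (n : ℕ) (a : A), a ∈ Ideal.span ({f} : Set A) ^ (n + 1) → ∃ b, b * f ^ (n + 1) = a := by
    intro n a ha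
    rw [Ideal.span_singleton_pow, Ideal.mem_span_singleton'] at ha
    exact ha
  have hK : ∀ n, Formal.KilledBy (Ideal.span ({f} : Set A) ^ (n + 1)) (G.obj (op n)) := by
    intro n a ha
    obtain ⟨b, rfl⟩ := hmem n a ha
    rw [Groth.Agent.S8821.smulMod_mul']
    have := hkill n
    change Formal.smulMod A (G.obj (op n)) (f ^ (n + 1)) = 0 at this
    rw [this, comp_zero]
  have hQ : Formal2.IsQCohFormal (Ideal.span ({f} : Set A)) G := by
    refine ⟨fun n => hqc (op n), hK, fun n => ?_⟩
    have h : Formal.smulFamily (Ideal.span ({f} : Set A) ^ (n + 1)) (G.obj (op (n + 1))) ≫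
        G.map (homOfLE (Nat.le_succ n)).op = 0 := by
      rw [Groth.Agent.S8821.smulFamily_comp_eq_zero_iff]
      intro a ha
      rw [Groth.Agent.S8821.smulMod_comp, hK n a ha, comp_zero]
    refine ⟨h, ?_⟩
    haveI : Epi (G.map (homOfLE (Nat.le_succ n)).op) := hepi n
    apply Groth.Agent.Lib.Seat17.TorsFreeLim.isIso_desc_of_epi_of_factor
    intro T g hg
    refine hfac n g ?_
    have h2 := (Groth.Agent.S8821.smulFamily_comp_eq_zero_iff g).1 hg (f ^ (n + 1)) (by
      rw [Ideal.span_singleton_pow]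
      exact Ideal.mem_span_singleton_self _)
    exact h2
  have hfg : (Ideal.span ({f} : Set A)).FG := ⟨{f}, by simp⟩
  refine ⟨limit G, ?_, ?_⟩
  · apply Preadditive.mono_of_cancel_zero
    intro T g hg
    have key : ∀ n : ℕ, g ≫ limit.π G (op n) = 0 := by
      intro n
      haveI := hi n
      have h1 : limit.π G (op (n + 1)) ≫ G.map (homOfLE (Nat.le_succ n)).op = limit.π G (op n) :=
        limit.w G _
      have h2 : (g ≫ limit.π G (op (n + 1)) ≫ G.map (homOfLE (Nat.le_succ n)).op) ≫ i n = 0 := by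
        rw [Category.assoc, Category.assoc, hti n, ← Groth.Agent.S8821.smulMod_comp,
          ← Category.assoc, hg, zero_comp]
      rw [← h1]
      exact (cancel_mono (i n)).1 (h2.trans (zero_comp).symm)
    apply limit.hom_ext
    intro k
    rw [zero_comp]
    exact key k.unop
  · have hmain := fun n => Groth.Agent.Lib.Seat17.QcTrunc.main hQ hfg n
    choose h0 hiso using hmain
    refine Groth.Agent.Lib.Seat76.ComplChar.nonempty_completion_iso _ (limit G) G
      (fun n => limit.π G (op n)) (fun n => limit.w G _) (fun n => ?_) h0 (fun n T g hg => ?_)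
    · haveI := hiso n
      exact Groth.Agent.Lib.Seat17.QcTrunc.epi_of_isIso_desc _ (h0 n)
    · haveI := hiso n
      refine ⟨inv (cokernel.desc _ _ (h0 n)) ≫ cokernel.desc _ g hg, ?_⟩
      have e1 : limit.π G (op n) ≫ inv (cokernel.desc _ _ (h0 n)) = cokernel.π _ := by
        rw [IsIso.comp_inv_eq, cokernel.π_desc]
      rw [← Category.assoc, e1, cokernel.π_desc]

end Groth.Agent.Lib.Seat17.TorsFreeLim
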