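import Mathlib
import Groth.Prelude.Def_Tors

/-!
# `H¹(G) = 0` iff every `G`-torsor has a section (seat 17)

Abelian sheaves on a small site.  Ingredients:
* `ext_one_subsingleton_iff`: for `0 → X₁ → X₂ → X₃ → 0` with `X₂` injective, `Ext¹(Z, X₁) = 0` iff maps `Z ⟶ X₃` lift;
* `GSec`, `toSec`, `ofSec`: morphisms out of the constant sheaf `ℤ` are compatible families of sections;
* `exists_compat_of_local`: gluing lemma for locally existing unique sections;
* `liftTorsor`: the torsor of liftings of a global section along an epimorphism;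
* `exists_ext`, `phi`: an equivariant map from a torsor to an injective sheaf containing `G`.
-/

set_option autoImplicit false
universe w v u

namespace Groth.Agent.Lib.Seat17.TorsorH1

open CategoryTheory CategoryTheory.Limits Opposite Abelian

section ExtAlg
variable {A : Type u} [Category.{v} A] [Abelian A] [HasExt.{w} A]

/-- for a short exact sequence `0 → X₁ → X₂ → X₃ → 0` with `X₂` injective: `Ext¹(Z, X₁) = 0` iff every
morphism `Z ⟶ X₃` lifts to `X₂`. -/
theorem ext_one_subsingleton_iff {S : ShortComplex A} (hS : S.ShortExact) [Injective S.X₂] (Z : A) :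
    Subsingleton (Ext.{w} Z S.X₁ 1) ↔ ∀ s : Z ⟶ S.X₃, ∃ t : Z ⟶ S.X₂, t ≫ S.g = s := by
  constructor
  · intro hsub s
    obtain ⟨x₂, hx₂⟩ := Ext.covariant_sequence_exact₃ Z hS (Ext.mk₀ s) (zero_add 1)
      (Subsingleton.elim _ _)
    obtain ⟨t, rfl⟩ := (Ext.mk₀_bijective Z S.X₂).2 x₂
    rw [Ext.mk₀_comp_mk₀] at hx₂
    exact ⟨t, (Ext.mk₀_bijective Z S.X₃).1 hx₂⟩
  · intro h
    refine subsingleton_of_forall_eq 0 fun x => ?_
    obtain ⟨x₃, hx₃⟩ := Ext.covariant_sequence_exact₁ Z hS x (Ext.eq_zero_of_injective _)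
      (zero_add 1)
    obtain ⟨s, rfl⟩ := (Ext.mk₀_bijective Z S.X₃).2 x₃
    obtain ⟨t, rfl⟩ := h s
    rw [← hx₃, ← Ext.mk₀_comp_mk₀, Ext.comp_assoc_of_second_deg_zero, hS.comp_extClass,
      Ext.comp_zero]

/-- without injectivity: if `Ext¹(Z, X₁) = 0` then morphisms `Z ⟶ X₃` lift. -/
theorem exists_lift_of_subsingleton {S : ShortComplex A} (hS : S.ShortExact) (Z : A)
    (hsub : Subsingleton (Ext.{w} Z S.X₁ 1)) (s : Z ⟶ S.X₃) : ∃ t : Z ⟶ S.X₂, t ≫ S.g = s := by
  obtain ⟨x₂, hx₂⟩ := Ext.covariant_sequence_exact₃ Z hS (Ext.mk₀ s) (zero_add 1)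
    (Subsingleton.elim _ _)
  obtain ⟨t, rfl⟩ := (Ext.mk₀_bijective Z S.X₂).2 x₂
  rw [Ext.mk₀_comp_mk₀] at hx₂
  exact ⟨t, (Ext.mk₀_bijective Z S.X₃).1 hx₂⟩

end ExtAlg

section GSec
variable {C : Type u} [SmallCategory C] {J : GrothendieckTopology C}

/-- global sections of an abelian sheaf on a site: compatible families of sections -/
@[ext]
structure GSec (F : Sheaf J AddCommGrpCat.{u}) where
  val : ∀ U : C, F.obj.obj (op U)
  compat : ∀ {U V : C} (f : V ⟶ U), F.obj.map f.op (val U) = val V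

variable (J) in
/-- the constant sheaf `ℤ` -/
noncomputable abbrev ZZ : Sheaf J AddCommGrpCat.{u} :=
  (presheafToSheaf J AddCommGrpCat.{u}).obj
    ((Functor.const Cᵒᵖ).obj (AddCommGrpCat.of (ULift ℤ)))

theorem ZZ_eq : ZZ J = (constantSheaf J AddCommGrpCat.{u}).obj (AddCommGrpCat.of (ULift ℤ)) := rfl

variable {F F' : Sheaf J AddCommGrpCat.{u}}

/-- the presheaf morphism from the constant presheaf attached to a morphism out of `ℤ` -/
noncomputable def toPsh (a : ZZ J ⟶ F) :
    (Functor.const Cᵒᵖ).obj (AddCommGrpCat.of (ULift ℤ)) ⟶ F.obj :=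
  (sheafificationAdjunction J AddCommGrpCat.{u}).homEquiv _ _ a

noncomputable def toSec (a : ZZ J ⟶ F) : GSec F where
  val U := (toPsh a).app (op U) (ULift.up 1)
  compat {U V} f := by
    have h := (toPsh a).naturality f.op
    have h2 := ConcreteCategory.congr_hom h (ULift.up (1 : ℤ))
    simp only [Functor.const_obj_obj, Functor.const_obj_map, Category.id_comp] at h2
    exact h2.symm

/-- the homomorphism `ULift ℤ →+ M`, `n ↦ n • m` -/
def zhom {M : Type u} [AddCommGroup M] (m : M) : ULift.{u} ℤ →+ M :=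
  (zmultiplesHom M m).comp AddEquiv.ulift.toAddMonoidHom

theorem zhom_apply {M : Type u} [AddCommGroup M] (m : M) (n : ULift.{u} ℤ) :
    zhom m n = n.down • m := rfl

theorem zhom_ext {M : Type u} [AddCommGroup M] (f g : ULift.{u} ℤ →+ M)
    (h : f (ULift.up 1) = g (ULift.up 1)) : f = g := by
  ext n
  have hn : n = n.down • (ULift.up 1 : ULift.{u} ℤ) := by
    apply ULift.ext
    simp
  rw [hn, map_zsmul, map_zsmul, h]

noncomputable def ofSecPsh (x : GSec F) :
    (Functor.const Cᵒᵖ).obj (AddCommGrpCat.of (ULift ℤ)) ⟶ F.obj where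
  app U := AddCommGrpCat.ofHom (zhom (x.val U.unop))
  naturality U V g := by
    ext n
    simp only [Functor.const_obj_obj, Functor.const_obj_map, Category.id_comp,
      AddCommGrpCat.hom_comp, AddCommGrpCat.hom_ofHom, AddMonoidHom.coe_comp, Function.comp_apply,
      zhom_apply, map_zsmul]
    congr 1
    exact (x.compat g.unop).symm

noncomputable def ofSec (x : GSec F) : ZZ J ⟶ F :=
  ((sheafificationAdjunction J AddCommGrpCat.{u}).homEquiv _ _).symm (ofSecPsh x)

theorem toSec_ofSec (x : GSec F) : toSec (ofSec x) = x := by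
  ext U
  simp only [toSec, toPsh, ofSec, Equiv.apply_symm_apply]
  simp [ofSecPsh, zhom_apply]

theorem toSec_comp (a : ZZ J ⟶ F) (p : F ⟶ F') (U : C) :
    (toSec (a ≫ p)).val U = p.hom.app (op U) ((toSec a).val U) := by
  simp only [toSec, toPsh]
  rw [Adjunction.homEquiv_naturality_right]
  rfl

theorem toSec_injective : Function.Injective (toSec (J := J) (F := F)) := by
  intro a b h
  apply ((sheafificationAdjunction J AddCommGrpCat.{u}).homEquiv _ _).injective
  ext U : 2
  apply AddCommGrpCat.hom_ext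
  apply zhom_ext
  have := congrArg (fun s => s.val U.unop) h
  exact this

end GSec

section Local
variable {C : Type u} [SmallCategory C] {J : GrothendieckTopology C}

/-- compatible families of sections of a sheaf of sets -/
def IsCompat (P : Cᵒᵖ ⥤ Type u) (x : ∀ U : C, P.obj (op U)) : Prop :=
  ∀ {U V : C} (f : V ⟶ U), P.map f.op (x U) = x V

/-- a compatible family gives a morphism from the final sheaf -/
theorem nonempty_hom_of_compat (P : Sheaf J (Type u)) (x : ∀ U : C, P.obj.obj (op U))
    (hx : IsCompat P.obj x) : Nonempty (⊤_ (Sheaf J (Type u)) ⟶ P) :=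
  ⟨ObjectProperty.homMk
    { app := fun U => TypeCat.ofHom fun _ => x U.unop
      naturality := fun U V f => by
        ext a
        exact (hx f.unop).symm }⟩

/-- a morphism from the final sheaf gives a compatible family -/
theorem exists_compat_of_hom (P : Sheaf J (Type u)) (s : ⊤_ (Sheaf J (Type u)) ⟶ P) :
    ∃ x : ∀ U : C, P.obj.obj (op U), IsCompat P.obj x := by
  -- the presheaf underlying the final sheaf is final
  have hT : IsTerminal ((sheafToPresheaf J (Type u)).obj (⊤_ (Sheaf J (Type u)))) :=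
    terminalIsTerminal.isTerminalObj (sheafToPresheaf J (Type u)) _
  let pt : (Functor.const Cᵒᵖ).obj PUnit.{u + 1} ⟶ (⊤_ (Sheaf J (Type u))).obj := hT.from _
  refine ⟨fun U => s.hom.app (op U) (pt.app (op U) PUnit.unit), ?_⟩
  intro U V f
  have h1 := NatTrans.naturality_apply s.hom f.op (pt.app (op U) PUnit.unit)
  have h2 := NatTrans.naturality_apply pt f.op PUnit.unit
  simp only [Functor.const_obj_obj, Functor.const_obj_map] at h1 h2
  rw [← h1, ← h2]

theorem hasSection_iff {G : Sheaf J AddCommGrpCat.{u}} (T : Tors.Torsor G) :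
    T.HasSection ↔ ∃ x : ∀ U : C, T.P.obj.obj (op U), IsCompat T.P.obj x :=
  ⟨fun ⟨s⟩ => exists_compat_of_hom T.P s, fun ⟨x, hx⟩ => nonempty_hom_of_compat T.P x hx⟩

end Local

section Glue
variable {C : Type u} [SmallCategory C] {J : GrothendieckTopology C}

/-- gluing: a family of subsets `A U ⊆ P(U)` of a sheaf of sets, each with at most one element, stable
under restriction, locally nonempty and of local nature, has a (unique) global compatible family. -/
theorem exists_compat_of_local (P : Cᵒᵖ ⥤ Type u) (hP : Presieve.IsSheaf J P)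
    (A : ∀ U : C, Set (P.obj (op U)))
    (huniq : ∀ (U : C) (a b : P.obj (op U)), a ∈ A U → b ∈ A U → a = b)
    (hres : ∀ {U V : C} (f : V ⟶ U) (a : P.obj (op U)), a ∈ A U → P.map f.op a ∈ A V)
    (hex : ∀ U : C, ∃ S ∈ J U, ∀ ⦃V : C⦄ (f : V ⟶ U), S f → (A V).Nonempty)
    (hloc : ∀ (U : C) (a : P.obj (op U)) (S : Sieve U), S ∈ J U →
      (∀ ⦃V : C⦄ (f : V ⟶ U), S f → P.map f.op a ∈ A V) → a ∈ A U) :
    ∃ x : ∀ U : C, P.obj (op U), (∀ U, x U ∈ A U) ∧ IsCompat P x := by
  classical
  have key : ∀ U : C, ∃ a : P.obj (op U), a ∈ A U := by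
    intro U
    obtain ⟨S, hS, hne⟩ := hex U
    let y : Presieve.FamilyOfElements P S.arrows := fun V f hf => (hne f hf).choose
    have hy : ∀ ⦃V : C⦄ (f : V ⟶ U) (hf : S f), y f hf ∈ A V := fun V f hf => (hne f hf).choose_spec
    have hc : y.Compatible := by
      intro Y₁ Y₂ Z g₁ g₂ f₁ f₂ h₁ h₂ _
      exact huniq Z _ _ (hres g₁ _ (hy f₁ h₁)) (hres g₂ _ (hy f₂ h₂))
    refine ⟨(hP S hS).amalgamate y hc, hloc U _ S hS ?_⟩
    intro V f hf
    rw [(hP S hS).valid_glue hc f hf]
    exact hy f hf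
  choose x hx using key
  exact ⟨x, hx, fun {U V} f => huniq V _ _ (hres f _ (hx U)) (hx V)⟩

end Glue

section Lift
variable {C : Type u} [SmallCategory C] {J : GrothendieckTopology C}

/-- the underlying presheaf of sets of an abelian sheaf -/
abbrev setPsh (F : Sheaf J AddCommGrpCat.{u}) : Cᵒᵖ ⥤ Type u := F.obj ⋙ forget AddCommGrpCat.{u}

theorem setPsh_isSheaf (F : Sheaf J AddCommGrpCat.{u}) : Presieve.IsSheaf J (setPsh F) :=
  (isSheaf_iff_isSheaf_of_type J _).mp ((Presheaf.isSheaf_iff_isSheaf_forget J F.obj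
    (forget AddCommGrpCat.{u})).mp F.property)

variable {S : ShortComplex (Sheaf J AddCommGrpCat.{u})}

/-- the subpresheaf of liftings of a global section -/
def liftSub (x : GSec S.X₃) : Subfunctor (setPsh S.X₂) where
  obj U := {i : S.X₂.obj.obj U | S.g.hom.app U i = x.val U.unop}
  map {U V} f i hi := by
    show S.g.hom.app V (S.X₂.obj.map f i) = x.val V.unop
    have h1 := NatTrans.naturality_apply S.g.hom f i
    rw [h1]
    have h2 : S.g.hom.app U i = x.val U.unop := hi
    rw [h2]
    exact x.compat f.unop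

theorem liftSub_isSheaf (x : GSec S.X₃) : Presieve.IsSheaf J (liftSub x).toFunctor := by
  rw [Subfunctor.isSheaf_iff _ (setPsh_isSheaf S.X₂)]
  intro U i hi
  show S.g.hom.app U i = x.val U.unop
  apply ((setPsh_isSheaf S.X₃) _ hi).isSeparatedFor.ext
  intro V f hf
  have h1 : S.g.hom.app (op V) (S.X₂.obj.map f.op i) = x.val V := hf
  have h2 := NatTrans.naturality_apply S.g.hom f.op i
  show S.X₃.obj.map f.op (S.g.hom.app U i) = S.X₃.obj.map f.op (x.val U.unop)
  rw [← h2, h1]
  exact (x.compat f).symm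

/-- an epimorphism of abelian sheaves is locally surjective -/
theorem exists_cover_lift {I Q : Sheaf J AddCommGrpCat.{u}} (π : I ⟶ Q) [Epi π] (U : C)
    (q : Q.obj.obj (op U)) :
    ∃ R ∈ J U, ∀ ⦃V : C⦄ (f : V ⟶ U), R f →
      ∃ i : I.obj.obj (op V), π.hom.app (op V) i = Q.obj.map f.op q := by
  haveI : Sheaf.IsLocallySurjective π := (Sheaf.isLocallySurjective_iff_epi' _ π).mpr inferInstance
  refine ⟨Presheaf.imageSieve π.hom q, Presheaf.imageSieve_mem J π.hom q, ?_⟩
  intro V f hf
  exact hf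

/-- sections over `U` as a functor -/
noncomputable abbrev secF (J : GrothendieckTopology C) (U : Cᵒᵖ) :
    Sheaf J AddCommGrpCat.{u} ⥤ AddCommGrpCat.{u} :=
  sheafToPresheaf J AddCommGrpCat.{u} ⋙ (evaluation Cᵒᵖ AddCommGrpCat.{u}).obj U

instance (U : Cᵒᵖ) : (secF J U).Additive where

theorem f_app_injective (hS : S.ShortExact) (U : Cᵒᵖ) : Function.Injective (S.f.hom.app U) := by
  haveI := hS.mono_f
  haveI : Mono ((secF J U).map S.f) := inferInstance
  exact (AddCommGrpCat.mono_iff_injective _).mp this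

theorem exists_of_g_app_eq_zero (hS : S.ShortExact) (U : Cᵒᵖ) (i : S.X₂.obj.obj U)
    (hi : S.g.hom.app U i = 0) : ∃ g : S.X₁.obj.obj U, S.f.hom.app U g = i := by
  haveI := hS.mono_f
  have hex : (S.map (secF J U)).Exact :=
    hS.exact.map_of_mono_of_preservesKernel (secF J U) hS.mono_f inferInstance
  rw [ShortComplex.ab_exact_iff] at hex
  exact hex i hi

theorem g_f_app (U : Cᵒᵖ) (g : S.X₁.obj.obj U) : S.g.hom.app U (S.f.hom.app U g) = 0 := by
  have h := S.zero
  have h2 : S.f.hom ≫ S.g.hom = 0 := by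
    rw [← ObjectProperty.FullSubcategory.comp_hom, h]; rfl
  have h3 := congrArg (fun t => t.app U) h2
  exact ConcreteCategory.congr_hom h3 g

theorem free_transitive_aux (hS : S.ShortExact) (U : Cᵒᵖ) (p q : S.X₂.obj.obj U)
    (y : S.X₃.obj.obj U) (hp : S.g.hom.app U p = y) (hq : S.g.hom.app U q = y) :
    ∃! g : S.X₁.obj.obj U, S.f.hom.app U g + p = q := by
  obtain ⟨g, hg⟩ := exists_of_g_app_eq_zero hS U (q - p) (by rw [map_sub, hp, hq, sub_self])
  refine ⟨g, ?_, ?_⟩
  · show S.f.hom.app U g + p = q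
    rw [hg, sub_add_cancel]
  · intro g' hg'
    apply f_app_injective hS U
    have h1 : S.f.hom.app U g' + p = q := hg'
    rw [hg, ← h1, add_sub_cancel_right]

/-- the torsor of liftings of a global section of `S.X₃` to `S.X₂`, under `S.X₁` -/
noncomputable def liftTorsor (hS : S.ShortExact) (x : GSec S.X₃) : Tors.Torsor S.X₁ where
  P := ⟨(liftSub x).toFunctor, (isSheaf_iff_isSheaf_of_type J _).mpr (liftSub_isSheaf x)⟩
  vadd {U} g p := ⟨S.f.hom.app U g + p.1, by
    show S.g.hom.app U (S.f.hom.app U g + p.1) = x.val U.unop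
    rw [map_add, g_f_app, zero_add]
    exact p.2⟩
  zero_vadd {U} p := by
    apply Subtype.ext
    show S.f.hom.app U 0 + p.1 = p.1
    rw [map_zero, zero_add]
  add_vadd {U} g h p := by
    apply Subtype.ext
    show S.f.hom.app U (g + h) + p.1 = S.f.hom.app U g + (S.f.hom.app U h + p.1)
    rw [map_add, add_assoc]
  map_vadd {U V} f g p := by
    apply Subtype.ext
    show S.X₂.obj.map f (S.f.hom.app U g + p.1) =
      S.f.hom.app V (S.X₁.obj.map f g) + S.X₂.obj.map f p.1
    rw [map_add, NatTrans.naturality_apply S.f.hom f g]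
  free_transitive {U} p q := by
    obtain ⟨g, hg, huniq⟩ := free_transitive_aux hS U p.1 q.1 (x.val U.unop) p.2 q.2
    exact ⟨g, Subtype.ext hg, fun g' hg' => huniq g' (congrArg Subtype.val hg')⟩
  locally_nonempty U := by
    haveI := hS.epi_g
    obtain ⟨R, hR, h⟩ := exists_cover_lift S.g U (x.val U)
    refine ⟨R, hR, fun V f hf => ?_⟩
    obtain ⟨i, hi⟩ := h f hf
    exact ⟨⟨i, by
      show S.g.hom.app (op V) i = x.val V
      rw [hi]; exact x.compat f⟩⟩

end Lift

section Equivariant
variable {C : Type u} [SmallCategory C] {J : GrothendieckTopology C}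
variable {G : Sheaf J AddCommGrpCat.{u}} (T : Tors.Torsor G)

/-- the difference of two sections of a torsor -/
noncomputable def diff {U : Cᵒᵖ} (t t' : T.P.obj.obj U) : G.obj.obj U :=
  (T.free_transitive t' t).exists.choose

theorem diff_vadd {U : Cᵒᵖ} (t t' : T.P.obj.obj U) : T.vadd (diff T t t') t' = t :=
  (T.free_transitive t' t).exists.choose_spec

theorem diff_unique {U : Cᵒᵖ} (t t' : T.P.obj.obj U) (g : G.obj.obj U) (h : T.vadd g t' = t) :
    g = diff T t t' :=
  (T.free_transitive t' t).unique h (diff_vadd T t t')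

theorem diff_vadd_self {U : Cᵒᵖ} (g : G.obj.obj U) (t : T.P.obj.obj U) :
    diff T (T.vadd g t) t = g :=
  (diff_unique T _ _ g rfl).symm

theorem diff_add {U : Cᵒᵖ} (t t' t'' : T.P.obj.obj U) :
    diff T t t' + diff T t' t'' = diff T t t'' := by
  apply diff_unique
  rw [T.add_vadd, diff_vadd, diff_vadd]

theorem diff_self {U : Cᵒᵖ} (t : T.P.obj.obj U) : diff T t t = 0 :=
  (diff_unique T t t 0 (T.zero_vadd t)).symm

theorem diff_map {U V : Cᵒᵖ} (f : U ⟶ V) (t t' : T.P.obj.obj U) :
    G.obj.map f (diff T t t') = diff T (T.P.obj.map f t) (T.P.obj.map f t') := by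
  apply diff_unique
  rw [← T.map_vadd, diff_vadd]

/-- the presheaf `U ↦ ℤ[T(U)]` -/
noncomputable def Bp : Cᵒᵖ ⥤ AddCommGrpCat.{u} where
  obj U := AddCommGrpCat.of (FreeAbelianGroup (T.P.obj.obj U))
  map f := AddCommGrpCat.ofHom (FreeAbelianGroup.map (T.P.obj.map f))
  map_id U := by
    apply AddCommGrpCat.hom_ext
    apply FreeAbelianGroup.lift_ext
    intro t
    simp [FreeAbelianGroup.map_of_apply]
  map_comp f g := by
    apply AddCommGrpCat.hom_ext
    apply FreeAbelianGroup.lift_ext
    intro t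
    simp [FreeAbelianGroup.map_of_apply]

/-- the presheaf `U ↦ ℤ[T(U) × T(U)]` -/
noncomputable def Zp : Cᵒᵖ ⥤ AddCommGrpCat.{u} where
  obj U := AddCommGrpCat.of (FreeAbelianGroup (T.P.obj.obj U × T.P.obj.obj U))
  map f := AddCommGrpCat.ofHom (FreeAbelianGroup.map (Prod.map (T.P.obj.map f) (T.P.obj.map f)))
  map_id U := by
    apply AddCommGrpCat.hom_ext
    apply FreeAbelianGroup.lift_ext
    rintro ⟨t, t'⟩
    simp [FreeAbelianGroup.map_of_apply]
  map_comp f g := by
    apply AddCommGrpCat.hom_ext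
    apply FreeAbelianGroup.lift_ext
    rintro ⟨t, t'⟩
    simp [FreeAbelianGroup.map_of_apply]

/-- `(t, t') ↦ [t] - [t']` -/
noncomputable def bdryHom (U : Cᵒᵖ) :
    FreeAbelianGroup (T.P.obj.obj U × T.P.obj.obj U) →+ FreeAbelianGroup (T.P.obj.obj U) :=
  FreeAbelianGroup.lift fun tt => FreeAbelianGroup.of tt.1 - FreeAbelianGroup.of tt.2

/-- `(t, t') ↦ t - t' ∈ G` -/
noncomputable def dHom (U : Cᵒᵖ) :
    FreeAbelianGroup (T.P.obj.obj U × T.P.obj.obj U) →+ G.obj.obj U :=
  FreeAbelianGroup.lift fun tt => diff T tt.1 tt.2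

theorem bdryHom_of {U : Cᵒᵖ} (t t' : T.P.obj.obj U) :
    bdryHom T U (FreeAbelianGroup.of (t, t')) = FreeAbelianGroup.of t - FreeAbelianGroup.of t' :=
  FreeAbelianGroup.lift_apply_of _ _

theorem dHom_of {U : Cᵒᵖ} (t t' : T.P.obj.obj U) :
    dHom T U (FreeAbelianGroup.of (t, t')) = diff T t t' :=
  FreeAbelianGroup.lift_apply_of _ _

noncomputable def bdry : Zp T ⟶ Bp T where
  app U := AddCommGrpCat.ofHom (bdryHom T U)
  naturality U V f := by
    apply AddCommGrpCat.hom_ext
    apply FreeAbelianGroup.lift_ext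
    rintro ⟨t, t'⟩
    show bdryHom T V (FreeAbelianGroup.map (Prod.map (T.P.obj.map f) (T.P.obj.map f))
        (FreeAbelianGroup.of (t, t'))) =
      FreeAbelianGroup.map (T.P.obj.map f) (bdryHom T U (FreeAbelianGroup.of (t, t')))
    rw [FreeAbelianGroup.map_of_apply, bdryHom_of, bdryHom_of, map_sub,
      FreeAbelianGroup.map_of_apply, FreeAbelianGroup.map_of_apply]
    rfl

noncomputable def dmap : Zp T ⟶ G.obj where
  app U := AddCommGrpCat.ofHom (dHom T U)
  naturality U V f := by
    apply AddCommGrpCat.hom_ext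
    apply FreeAbelianGroup.lift_ext
    rintro ⟨t, t'⟩
    show dHom T V (FreeAbelianGroup.map (Prod.map (T.P.obj.map f) (T.P.obj.map f))
        (FreeAbelianGroup.of (t, t'))) =
      G.obj.map f (dHom T U (FreeAbelianGroup.of (t, t')))
    rw [FreeAbelianGroup.map_of_apply, dHom_of, dHom_of, diff_map]
    rfl

/-- sectionwise, `dHom` vanishes on the kernel of `bdryHom` -/
theorem dHom_eq_zero_of_bdryHom_eq_zero {U : Cᵒᵖ}
    (z : FreeAbelianGroup (T.P.obj.obj U × T.P.obj.obj U))
    (hz : bdryHom T U z = 0) : dHom T U z = 0 := by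
  by_cases hne : Nonempty (T.P.obj.obj U)
  · obtain ⟨t0⟩ := hne
    let D : FreeAbelianGroup (T.P.obj.obj U) →+ G.obj.obj U :=
      FreeAbelianGroup.lift fun t => diff T t t0
    have hD : dHom T U = D.comp (bdryHom T U) := by
      apply FreeAbelianGroup.lift_ext
      rintro ⟨t, t'⟩
      rw [dHom_of, AddMonoidHom.comp_apply, bdryHom_of, map_sub]
      simp only [D, FreeAbelianGroup.lift_apply_of]
      rw [eq_sub_iff_add_eq, diff_add]
    rw [hD, AddMonoidHom.comp_apply, hz, map_zero]
  · have hD : dHom T U = 0 := by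
      apply FreeAbelianGroup.lift_ext
      rintro ⟨t, t'⟩
      exact (hne ⟨t⟩).elim
    rw [hD, AddMonoidHom.zero_apply]

theorem comp_dmap_eq_zero {K : Cᵒᵖ ⥤ AddCommGrpCat.{u}} (k : K ⟶ Zp T) (hk : k ≫ bdry T = 0) :
    k ≫ dmap T = 0 := by
  ext U y
  have h1 : bdryHom T U (k.app U y) = 0 := by
    have := congrArg (fun t => t.app U) hk
    exact ConcreteCategory.congr_hom this y
  exact dHom_eq_zero_of_bdryHom_eq_zero T _ h1

/-- the underlying presheaf of an injective abelian sheaf is an injective presheaf -/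
theorem injective_obj (I : Sheaf J AddCommGrpCat.{u}) [Injective I] : Injective I.obj :=
  Injective.injective_of_adjoint (sheafificationAdjunction J AddCommGrpCat.{u}) I

/-- extension of `G → I` to the "free" presheaf on the torsor -/
theorem exists_ext (I : Sheaf J AddCommGrpCat.{u}) [Injective I] (ι : G ⟶ I) :
    ∃ b : Bp T ⟶ I.obj, bdry T ≫ b = dmap T ≫ ι.hom := by
  haveI : Injective I.obj := injective_obj I
  have h0 : kernel.ι (bdry T) ≫ (dmap T ≫ ι.hom) = 0 := by
    rw [← Category.assoc, comp_dmap_eq_zero T _ (kernel.condition _), zero_comp]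
  let m' : Abelian.coimage (bdry T) ⟶ I.obj := cokernel.desc _ (dmap T ≫ ι.hom) h0
  let e : Abelian.image (bdry T) ⟶ I.obj := inv (Abelian.coimageImageComparison (bdry T)) ≫ m'
  refine ⟨Injective.factorThru e (Abelian.image.ι (bdry T)), ?_⟩
  have hfac : (Abelian.coimage.π (bdry T) ≫ Abelian.coimageImageComparison (bdry T) ≫
      Abelian.image.ι (bdry T)) ≫ Injective.factorThru e (Abelian.image.ι (bdry T)) =
      bdry T ≫ Injective.factorThru e (Abelian.image.ι (bdry T)) :=
    congrArg (· ≫ Injective.factorThru e (Abelian.image.ι (bdry T)))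
      (Abelian.coimage_image_factorisation (bdry T))
  rw [← hfac, Category.assoc, Category.assoc, Injective.comp_factorThru]
  simp only [e, m', IsIso.hom_inv_id_assoc]
  exact cokernel.π_desc _ _ _

section Phi
variable {T} {I : Sheaf J AddCommGrpCat.{u}} {ι : G ⟶ I} (b : Bp T ⟶ I.obj)

/-- the component of `b` as a homomorphism out of the free abelian group -/
noncomputable def bHom (U : Cᵒᵖ) : FreeAbelianGroup (T.P.obj.obj U) →+ I.obj.obj U :=
  (b.app U).hom

/-- the map of sets `T(U) → I(U)` attached to `b` -/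
noncomputable def phi (U : Cᵒᵖ) (t : T.P.obj.obj U) : I.obj.obj U :=
  bHom b U (FreeAbelianGroup.of t)

theorem phi_map {U V : Cᵒᵖ} (f : U ⟶ V) (t : T.P.obj.obj U) :
    I.obj.map f (phi b U t) = phi b V (T.P.obj.map f t) := by
  have h := NatTrans.naturality_apply b f
    (FreeAbelianGroup.of t : FreeAbelianGroup (T.P.obj.obj U))
  have h' : bHom b V (FreeAbelianGroup.map (T.P.obj.map f) (FreeAbelianGroup.of t)) =
      I.obj.map f (bHom b U (FreeAbelianGroup.of t)) := h
  rw [FreeAbelianGroup.map_of_apply] at h'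
  exact h'.symm

variable (hb : bdry T ≫ b = dmap T ≫ ι.hom)
include hb

theorem phi_sub {U : Cᵒᵖ} (t t' : T.P.obj.obj U) :
    phi b U t - phi b U t' = ι.hom.app U (diff T t t') := by
  have h1 := congrArg (fun m => m.app U) hb
  have h2 := ConcreteCategory.congr_hom h1
    (FreeAbelianGroup.of (t, t') : FreeAbelianGroup (T.P.obj.obj U × T.P.obj.obj U))
  have h3 : bHom b U (bdryHom T U (FreeAbelianGroup.of (t, t'))) =
      ι.hom.app U (dHom T U (FreeAbelianGroup.of (t, t'))) := h2
  rw [bdryHom_of, dHom_of, map_sub] at h3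
  exact h3

theorem phi_vadd {U : Cᵒᵖ} (g : G.obj.obj U) (t : T.P.obj.obj U) :
    phi b U (T.vadd g t) = ι.hom.app U g + phi b U t := by
  have h := phi_sub b hb (T.vadd g t) t
  rw [diff_vadd_self] at h
  rw [← h, sub_add_cancel]

theorem phi_injective (hι : ∀ U, Function.Injective (ι.hom.app U)) (U : Cᵒᵖ) :
    Function.Injective (phi b U) := by
  intro t t' h
  have h1 := phi_sub b hb t t'
  rw [h, sub_self] at h1
  have h2 : diff T t t' = 0 := hι U (by rw [← h1, map_zero])
  have h3 := diff_vadd T t t'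
  rw [h2, T.zero_vadd] at h3
  exact h3.symm

end Phi

end Equivariant

section Main
variable {C : Type u} [SmallCategory C] {J : GrothendieckTopology C} (G : Sheaf J AddCommGrpCat.{u})

/-- the short exact sequence `0 → G → I → I/G → 0` with `I` injective -/
noncomputable def injSeq : ShortComplex (Sheaf J AddCommGrpCat.{u}) :=
  ShortComplex.mk (Injective.ι G) (cokernel.π (Injective.ι G)) (cokernel.condition _)

theorem injSeq_shortExact : (injSeq G).ShortExact where
  exact := ShortComplex.exact_cokernel _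
  mono_f := by dsimp [injSeq]; infer_instance
  epi_g := by dsimp [injSeq]; infer_instance

instance : Injective (injSeq G).X₂ := by dsimp [injSeq]; infer_instance

theorem subsingleton_of_sections (h : ∀ T : Tors.Torsor G, T.HasSection) :
    Subsingleton (Sheaf.H.{u} G 1) := by
  have hS := injSeq_shortExact G
  show Subsingleton (Ext.{u} (ZZ J) (injSeq G).X₁ 1)
  rw [ext_one_subsingleton_iff hS (ZZ J)]
  intro s
  obtain ⟨p, hp⟩ := (hasSection_iff (liftTorsor hS (toSec s))).mp (h _)
  let i : GSec (injSeq G).X₂ := ⟨fun U => (p U).1, fun {U V} f => congrArg Subtype.val (hp f)⟩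
  refine ⟨ofSec i, toSec_injective ?_⟩
  ext U
  rw [toSec_comp, toSec_ofSec]
  exact (p U).2

theorem map_map_apply (F : Sheaf J AddCommGrpCat.{u}) {U V W : C} (f : V ⟶ U) (g : W ⟶ V)
    (a : F.obj.obj (op U)) :
    F.obj.map g.op (F.obj.map f.op a) = F.obj.map (g ≫ f).op a := by
  rw [op_comp, CategoryTheory.Functor.map_comp, ConcreteCategory.comp_apply]

theorem map_id_apply (F : Sheaf J AddCommGrpCat.{u}) {U : C} (a : F.obj.obj (op U)) :
    F.obj.map (𝟙 U).op a = a := by
  rw [op_id, CategoryTheory.Functor.map_id, ConcreteCategory.id_apply]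

theorem sections_of_subsingleton' {S : ShortComplex (Sheaf J AddCommGrpCat.{u})}
    (hS : S.ShortExact) [Injective S.X₂] (hsub : Subsingleton (Ext.{u} (ZZ J) S.X₁ 1))
    (T : Tors.Torsor S.X₁) : T.HasSection := by
  obtain ⟨b, hb⟩ := exists_ext T S.X₂ S.f
  have hι : ∀ U, Function.Injective (S.f.hom.app U) := f_app_injective hS
  -- `π ∘ φ` is constant on each `T(U)`
  have hconst : ∀ (U : Cᵒᵖ) (t t' : T.P.obj.obj U),
      S.g.hom.app U (phi b U t) = S.g.hom.app U (phi b U t') := by
    intro U t t'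
    have h1 := phi_sub b hb t t'
    rw [sub_eq_iff_eq_add] at h1
    rw [h1, map_add, g_f_app, zero_add]
  -- naturality of `π ∘ φ`
  have hnat : ∀ {U V : C} (f : V ⟶ U) (t : T.P.obj.obj (op U)),
      S.X₃.obj.map f.op (S.g.hom.app (op U) (phi b (op U) t)) =
        S.g.hom.app (op V) (phi b (op V) (T.P.obj.map f.op t)) := by
    intro U V f t
    rw [← phi_map b f.op t]
    exact (NatTrans.naturality_apply S.g.hom f.op _).symm
  -- E1: the global section of `Q`
  obtain ⟨q, hqA, hqc⟩ := exists_compat_of_local (J := J) (setPsh S.X₃)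
    (setPsh_isSheaf S.X₃)
    (fun U => {q : S.X₃.obj.obj (op U) | ∀ ⦃V : C⦄ (f : V ⟶ U) (t : T.P.obj.obj (op V)),
      S.X₃.obj.map f.op q = S.g.hom.app (op V) (phi b (op V) t)})
    (by
      intro U a a' ha ha'
      obtain ⟨R, hR, hne⟩ := T.locally_nonempty U
      apply ((setPsh_isSheaf S.X₃) R hR).isSeparatedFor.ext
      intro V f hf
      obtain ⟨t⟩ := hne f hf
      exact (ha f t).trans (ha' f t).symm)
    (by
      intro U V f a ha W g t
      show S.X₃.obj.map g.op (S.X₃.obj.map f.op a) = _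
      rw [map_map_apply]
      exact ha (g ≫ f) t)
    (by
      intro U
      obtain ⟨R, hR, hne⟩ := T.locally_nonempty U
      refine ⟨R, hR, fun V f hf => ?_⟩
      obtain ⟨t⟩ := hne f hf
      refine ⟨S.g.hom.app (op V) (phi b (op V) t), ?_⟩
      intro W g t'
      rw [hnat g t]
      exact hconst _ _ _)
    (by
      intro U a R hR ha V' f' t
      apply ((setPsh_isSheaf S.X₃) (R.pullback f') (J.pullback_stable f' hR)).isSeparatedFor.ext
      intro W g hg
      show S.X₃.obj.map g.op (S.X₃.obj.map f'.op a) =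
        S.X₃.obj.map g.op (S.g.hom.app (op V') (phi b (op V') t))
      rw [map_map_apply, hnat g t]
      have h1 := ha (g ≫ f') hg (𝟙 W) (T.P.obj.map g.op t)
      have h2 : S.X₃.obj.map (𝟙 W).op (S.X₃.obj.map (g ≫ f').op a) =
          S.g.hom.app (op W) (phi b (op W) (T.P.obj.map g.op t)) := h1
      rw [map_id_apply] at h2
      exact h2)
  -- E2: lift it to a global section of `I`
  let x : GSec S.X₃ := ⟨q, fun {U V} f => hqc f⟩
  obtain ⟨l, hl⟩ := exists_lift_of_subsingleton hS (ZZ J) hsub (ofSec x)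
  have hi : ∀ U : C, S.g.hom.app (op U) ((toSec l).val U) = q U := by
    intro U
    rw [← toSec_comp, hl, toSec_ofSec]
  -- E3: the section of `T`
  obtain ⟨τ, -, hτ⟩ := exists_compat_of_local (J := J) T.P.obj
    ((isSheaf_iff_isSheaf_of_type J _).mp T.P.property)
    (fun U => {τ : T.P.obj.obj (op U) | phi b (op U) τ = (toSec l).val U})
    (by
      intro U a a' ha ha'
      exact phi_injective b hb hι (op U) (ha.trans ha'.symm))
    (by
      intro U V f a ha
      show phi b (op V) (T.P.obj.map f.op a) = (toSec l).val V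
      rw [← phi_map b f.op a]
      have ha' : phi b (op U) a = (toSec l).val U := ha
      rw [ha']
      exact (toSec l).compat f)
    (by
      intro U
      obtain ⟨R, hR, hne⟩ := T.locally_nonempty U
      refine ⟨R, hR, fun V f hf => ?_⟩
      obtain ⟨t⟩ := hne f hf
      have h1 : q V = S.g.hom.app (op V) (phi b (op V) t) := by
        have h2 : S.X₃.obj.map (𝟙 V).op (q V) =
            S.g.hom.app (op V) (phi b (op V) t) := hqA V (𝟙 V) t
        rwa [map_id_apply] at h2
      obtain ⟨g, hg⟩ := exists_of_g_app_eq_zero hS (op V) ((toSec l).val V - phi b (op V) t)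
        (by rw [map_sub, hi V, h1, sub_self])
      refine ⟨T.vadd g t, ?_⟩
      show phi b (op V) (T.vadd g t) = (toSec l).val V
      rw [phi_vadd b hb, hg, sub_add_cancel])
    (by
      intro U a R hR ha
      show phi b (op U) a = (toSec l).val U
      apply ((setPsh_isSheaf S.X₂) R hR).isSeparatedFor.ext
      intro V f hf
      show S.X₂.obj.map f.op (phi b (op U) a) =
        S.X₂.obj.map f.op ((toSec l).val U)
      rw [phi_map b f.op a, (toSec l).compat f]
      exact ha f hf)
  exact (hasSection_iff T).mpr ⟨τ, hτ⟩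

theorem sections_of_subsingleton (hsub : Subsingleton (Sheaf.H.{u} G 1)) (T : Tors.Torsor G) :
    T.HasSection :=
  sections_of_subsingleton' (injSeq_shortExact G) hsub T

end Main

end Groth.Agent.Lib.Seat17.TorsorH1
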