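import Mathlib
import Groth.Agent.Lib.Helper4DimFormulaAD
import Groth.Agent.Lib.Helper4DimFormulaAE
import Groth.Agent.S9297

/-!
# The dimension inequality at a point for morphisms locally of finite type (seat 45)

* `stalk_add_ptTrdeg_le`: for `f : X ⟶ Y` locally of finite type with `Y` locally Noetherian, if `E` bounds
  `trdeg κ(ξ)/κ(f ξ)` for all codimension-`0` points `ξ ⤳ x`, then
  `dim O_{X,x} + trdeg κ(x)/κ(f x) ≤ dim O_{Y,f x} + E`.
-/

set_option autoImplicit false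
universe u

open CategoryTheory AlgebraicGeometry

namespace Groth.Agent.Lib.Seat45.DimIneq

open Groth.Agent.Lib.Helper4.DimFormula

theorem stalk_add_ptTrdeg_le {X Y : Scheme.{u}} [IsLocallyNoetherian Y] (f : X ⟶ Y)
    [LocallyOfFiniteType f] (x : X) (E : ℕ∞)
    (hE : ∀ ξ : X, ξ ⤳ x → ringKrullDim (X.presheaf.stalk ξ) = 0 → (ptTrdeg f ξ : ℕ∞) ≤ E) :
    ringKrullDim (X.presheaf.stalk x) + (ptTrdeg f x : WithBot ℕ∞) ≤
      ringKrullDim (Y.presheaf.stalk (f x)) + ((E : ℕ∞) : WithBot ℕ∞) := by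
  haveI : IsLocallyNoetherian X := LocallyOfFiniteType.isLocallyNoetherian f
  obtain ⟨Q, hQ, hdim⟩ :=
    Groth.Agent.S9297.exists_minimalPrimes_ringKrullDim_quotient_eq (X.presheaf.stalk x)
  haveI hQp : Q.IsPrime := hQ.1.1
  have h := ringKrullDim_quotient_add_ptTrdeg_le f x Q
  rw [hdim] at h
  refine h.trans (add_le_add ?_ ?_)
  · exact ringKrullDim_quotient_le _
  · have h0 : ringKrullDim (X.presheaf.stalk (X.fromSpecStalk x ⟨Q, hQp⟩)) = 0 := by
      rw [← height_eq_ringKrullDim_stalk_fromSpecStalk x Q, Ideal.height_eq_zero_iff.2 hQ]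
      rfl
    have := hE _ (fromSpecStalk_specializes x ⟨Q, hQp⟩) h0
    exact_mod_cast this

end Groth.Agent.Lib.Seat45.DimIneq
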