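import Mathlib
import Groth.Prelude.Def_EGA4Misc
import Groth.Agent.Lib.Seat45DimIneq

/-!
# Codimension does not increase along a birational morphism locally of finite type (seat 18)
-/

set_option linter.style.haveILetI false
set_option autoImplicit false

universe u
open CategoryTheory CategoryTheory.Limits AlgebraicGeometry

namespace Groth.Agent.Lib.Seat18.BirDim

open Groth.Agent.Lib.Helper4.DimFormula

theorem eq_of_specializes_of_dim_zero (Y : Scheme.{u}) (ξ ξ' : Y)
    (h0 : ringKrullDim (Y.presheaf.stalk ξ) = 0) (h : ξ' ⤳ ξ) : ξ' = ξ := by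
  have hmem : ξ' ∈ Set.range (Y.fromSpecStalk ξ) := by
    rw [Scheme.range_fromSpecStalk]; exact h
  obtain ⟨q, rfl⟩ := hmem
  haveI : Ring.KrullDimLE 0 (Y.presheaf.stalk ξ) := Ring.krullDimLE_iff.mpr h0.le
  haveI : q.asIdeal.IsPrime := q.isPrime
  have hq : q.asIdeal = IsLocalRing.maximalIdeal (Y.presheaf.stalk ξ) :=
    Ring.KrullDimLE.eq_maximalIdeal_of_isPrime q.asIdeal
  have hq' : q = IsLocalRing.closedPoint (Y.presheaf.stalk ξ) := PrimeSpectrum.ext hq
  rw [hq']
  exact Scheme.fromSpecStalk_closedPoint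

theorem mem_genericPoints_of_dim_zero (Y : Scheme.{u}) (ξ : Y)
    (h0 : ringKrullDim (Y.presheaf.stalk ξ) = 0) : ξ ∈ genericPoints Y := by
  show closure {ξ} ∈ irreducibleComponents Y
  refine ⟨isIrreducible_singleton.closure, fun Z hZ hle => ?_⟩
  obtain ⟨η, hη⟩ := QuasiSober.sober hZ.closure isClosed_closure
  have hξZ : ξ ∈ closure Z := subset_closure (hle (subset_closure rfl))
  have hspec : η ⤳ ξ := by
    rw [specializes_iff_mem_closure, hη.def]
    exact hξZ
  have := eq_of_specializes_of_dim_zero Y ξ η h0 hspec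
  subst this
  intro z hz
  have : z ∈ closure Z := subset_closure hz
  rwa [← hη.def] at this

theorem ptTrdeg_eq_zero_of_bijective {X Y : Scheme.{u}} (f : Y ⟶ X) [LocallyOfFiniteType f]
    (ξ : Y) (hb : Function.Bijective (f.residueFieldMap ξ).hom) : ptTrdeg f ξ = 0 := by
  have h1 := trdeg_eq_ptTrdeg f ξ
  letI : Algebra (X.residueField (f.base ξ)) (Y.residueField ξ) :=
    (f.residueFieldMap ξ).hom.toAlgebra
  haveI : Algebra.IsAlgebraic (X.residueField (f.base ξ)) (Y.residueField ξ) := by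
    have hs : Function.Surjective (algebraMap (X.residueField (f.base ξ)) (Y.residueField ξ)) :=
      hb.2
    haveI := Algebra.isIntegral_of_surjective hs
    exact Algebra.IsIntegral.isAlgebraic
  have h2 : Algebra.trdeg (X.residueField (f.base ξ)) (Y.residueField ξ) = 0 :=
    trdeg_eq_zero
  rw [h2] at h1
  exact_mod_cast h1.symm

theorem main {X Y : Scheme.{u}} (f : Y ⟶ X) [IsNoetherian X] [IsNoetherian Y]
    [LocallyOfFiniteType f] (hf : RadPt.IsBirational f) (y : Y) :
    ringKrullDim (Y.presheaf.stalk y) ≤ ringKrullDim (X.presheaf.stalk (f.base y)) := by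
  have key := Groth.Agent.Lib.Seat45.DimIneq.stalk_add_ptTrdeg_le f y 0 (by
    intro ξ _ h0
    have hξ : ξ ∈ genericPoints Y := mem_genericPoints_of_dim_zero Y ξ h0
    have hfξ : f ξ ∈ genericPoints X := hf.1.mapsTo hξ
    have hb := (hf.2 (f ξ) hfξ).2 ξ rfl
    rw [ptTrdeg_eq_zero_of_bijective f ξ hb]
    simp)
  have h1 : ringKrullDim (Y.presheaf.stalk y) ≤
      ringKrullDim (Y.presheaf.stalk y) + (ptTrdeg f y : WithBot ℕ∞) := by
    have : (0 : WithBot ℕ∞) ≤ (ptTrdeg f y : WithBot ℕ∞) := by exact_mod_cast Nat.zero_le _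
    calc ringKrullDim (Y.presheaf.stalk y) = ringKrullDim (Y.presheaf.stalk y) + 0 := by simp
      _ ≤ _ := by gcongr
  refine h1.trans (key.trans ?_)
  simp

end Groth.Agent.Lib.Seat18.BirDim
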