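import Mathlib
import Groth.Agent.Lib.Seat45DimIneq
import Groth.Agent.Lib.Helper4DimFormulaAN
import Groth.Agent.Lib.Helper4DimFormulaAR
import Groth.Agent.Lib.Seat18BirDim

/-!
# A birational morphism of finite type has finite fibres over points of codimension `≤ 1` (seat 18)
-/

set_option linter.style.haveILetI false
set_option autoImplicit false

universe u
open CategoryTheory CategoryTheory.Limits AlgebraicGeometry

namespace Groth.Agent.Lib.Seat18.BirFib

open Groth.Agent.Lib.Helper4.DimFormula Groth.Agent.Lib.Seat18.BirDim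

/-- In a quasi-sober space, a point maximal for generalisation is a generic point of an
irreducible component. -/
theorem mem_genericPoints_of_forall_specializes_eq {α : Type*} [TopologicalSpace α] [QuasiSober α]
    (ξ : α) (h : ∀ η : α, η ⤳ ξ → η = ξ) : ξ ∈ genericPoints α := by
  show closure {ξ} ∈ irreducibleComponents α
  refine ⟨isIrreducible_singleton.closure, fun Z hZ hle => ?_⟩
  obtain ⟨η, hη⟩ := QuasiSober.sober hZ.closure isClosed_closure
  have hξZ : ξ ∈ closure Z := subset_closure (hle (subset_closure rfl))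
  have hspec : η ⤳ ξ := by
    rw [specializes_iff_mem_closure, hη.def]
    exact hξZ
  have := h η hspec
  subst this
  intro z hz
  have : z ∈ closure Z := subset_closure hz
  rwa [← hη.def] at this

/-- A dense open subset of a locally Noetherian scheme contains all points maximal for
generalisation. -/
theorem mem_of_dense_of_forall_specializes_eq (Y : Scheme.{u}) [IsLocallyNoetherian Y]
    (U' : Y.Opens) (hU' : Dense (U' : Set Y)) (ξ : Y) (h : ∀ η : Y, η ⤳ ξ → η = ξ) :
    ξ ∈ U' := by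
  obtain ⟨W, hW, hξW, -⟩ := exists_isAffineOpen_mem_and_subset (x := ξ) (U := ⊤) trivial
  haveI : IsNoetherianRing Γ(Y, W) := IsLocallyNoetherian.component_noetherian ⟨W, hW⟩
  haveI : TopologicalSpace.NoetherianSpace (W : Set Y) := noetherianSpace_of_isAffineOpen W hW
  haveI : QuasiSober (W : Set Y) := W.2.isOpenEmbedding_subtypeVal.quasiSober
  let ξ' : (W : Set Y) := ⟨ξ, hξW⟩
  have hmax : ∀ η : (W : Set Y), η ⤳ ξ' → η = ξ' := fun η hη =>
    Subtype.ext (h η.1 (hη.map continuous_subtype_val))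
  have hgen := mem_genericPoints_of_forall_specializes_eq ξ' hmax
  obtain ⟨o, ho, hone, hosub⟩ :=
    TopologicalSpace.NoetherianSpace.exists_isOpen_nonempty_subset_irreducibleComponent _ hgen
  have ho' : IsOpen (Subtype.val '' o) := W.2.isOpenMap_subtype_val _ ho
  obtain ⟨u, ⟨t, ht, rfl⟩, hu⟩ := hU'.inter_open_nonempty _ ho' (hone.image _)
  have hspec : ξ' ⤳ t := specializes_iff_mem_closure.mpr (hosub ht)
  exact (hspec.map continuous_subtype_val).mem_open U'.2 hu

/-- If `dim O_{Y,y} ≤ 1`, a generalisation of `y` outside a dense open equals `y`. -/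
theorem eq_of_specializes_of_dim_le_one (Y : Scheme.{u}) [IsLocallyNoetherian Y] (U' : Y.Opens)
    (hU' : Dense (U' : Set Y)) (y z : Y) (hy : ringKrullDim (Y.presheaf.stalk y) ≤ 1)
    (hzy : z ⤳ y) (hz : z ∉ U') : z = y := by
  obtain ⟨𝔭, h𝔭, rfl⟩ := exists_prime_fromSpecStalk_eq hzy
  haveI hdim : Ring.KrullDimLE 1 (Y.presheaf.stalk y) := Ring.krullDimLE_iff.mpr (by simpa using hy)
  rcases Ring.krullDimLE_one_iff.mp hdim 𝔭 h𝔭 with hmin | hmax
  · exfalso
    exact hz (mem_of_dense_of_forall_specializes_eq Y U' hU' _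
      ((mem_minimalPrimes_iff_fromSpecStalk_maximal y 𝔭).mp hmin))
  · have h1 : 𝔭 = IsLocalRing.maximalIdeal _ := IsLocalRing.eq_maximalIdeal hmax
    subst h1
    exact Scheme.fromSpecStalk_closedPoint

/-- `trdeg κ(ξ)/κ(f ξ) = 0` at points where `f` is a local isomorphism. -/
theorem ptTrdeg_eq_zero_of_mem {X Y : Scheme.{u}} (f : Y ⟶ X) [LocallyOfFiniteType f]
    (U : X.Opens) (hiso : IsIso (f ∣_ U)) (ξ : Y) (hξ : ξ ∈ f ⁻¹ᵁ U) : ptTrdeg f ξ = 0 := by
  have h1 := ptTrdeg_comp_of_isPreimmersion (f ⁻¹ᵁ U).ι f ⟨ξ, hξ⟩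
  haveI : IsPreimmersion ((f ⁻¹ᵁ U).ι ≫ f) := by
    rw [← morphismRestrict_ι]; infer_instance
  have h2 : ptTrdeg ((f ⁻¹ᵁ U).ι ≫ f) ⟨ξ, hξ⟩ = 0 := ptTrdeg_eq_zero_of_isPreimmersion _ _
  rw [h2] at h1
  exact h1.symm

theorem dim_le_one {X Y : Scheme.{u}} [IsLocallyNoetherian X] [IsLocallyNoetherian Y] (f : Y ⟶ X)
    [LocallyOfFiniteType f] (U : X.Opens) (hU' : Dense ((f ⁻¹ᵁ U : Y.Opens) : Set Y))
    (hiso : IsIso (f ∣_ U)) (y : Y) (hx : ringKrullDim (X.presheaf.stalk (f y)) ≤ 1) :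
    ringKrullDim (Y.presheaf.stalk y) ≤ 1 := by
  have key := Groth.Agent.Lib.Seat45.DimIneq.stalk_add_ptTrdeg_le f y 0 (by
    intro ξ _ h0
    have hξ : ξ ∈ f ⁻¹ᵁ U := mem_of_dense_of_forall_specializes_eq Y _ hU' ξ
      (fun η hη => eq_of_specializes_of_dim_zero Y ξ η h0 hη)
    rw [ptTrdeg_eq_zero_of_mem f U hiso ξ hξ]
    simp)
  have h1 : ringKrullDim (Y.presheaf.stalk y) ≤
      ringKrullDim (Y.presheaf.stalk y) + (ptTrdeg f y : WithBot ℕ∞) := by
    have : (0 : WithBot ℕ∞) ≤ (ptTrdeg f y : WithBot ℕ∞) := by exact_mod_cast Nat.zero_le _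
    calc ringKrullDim (Y.presheaf.stalk y) = ringKrullDim (Y.presheaf.stalk y) + 0 := by simp
      _ ≤ _ := by gcongr
  refine h1.trans (key.trans ?_)
  simpa using hx

theorem main {X Y : Scheme.{u}}
    [IsLocallyNoetherian X] [IsLocallyNoetherian Y] (f : Y ⟶ X) [LocallyOfFiniteType f]
    [QuasiCompact f] (U : X.Opens) (_hU : Dense (U : Set X))
    (hU' : Dense ((f ⁻¹ᵁ U : Y.Opens) : Set Y)) (hiso : IsIso (f ∣_ U))
    (x : X) (hx : ringKrullDim (X.presheaf.stalk x) ≤ 1) :
    (f.base ⁻¹' {x}).Finite := by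
  by_cases hxU : x ∈ U
  · -- the fibre has at most one point
    apply Set.Subsingleton.finite
    intro y hy y' hy'
    have hyU : y ∈ f ⁻¹ᵁ U := by show f y ∈ U; rw [hy]; exact hxU
    have hyU' : y' ∈ f ⁻¹ᵁ U := by show f y' ∈ U; rw [hy']; exact hxU
    have hinj : Function.Injective (f ∣_ U) := (f ∣_ U).isOpenEmbedding.injective
    have e1 : ((f ∣_ U) ⟨y, hyU⟩).1 = f y := morphismRestrict_base_coe f U ⟨y, hyU⟩
    have e2 : ((f ∣_ U) ⟨y', hyU'⟩).1 = f y' := morphismRestrict_base_coe f U ⟨y', hyU'⟩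
    have : (⟨y, hyU⟩ : (f ⁻¹ᵁ U).toScheme) = ⟨y', hyU'⟩ :=
      hinj (Subtype.ext (e1.trans ((hy.trans hy'.symm).trans e2.symm)))
    exact congrArg Subtype.val this
  · -- all points of the fibre are generic points of the complement of `f ⁻¹ U`
    obtain ⟨V, hV, hxV, -⟩ := exists_isAffineOpen_mem_and_subset (x := x) (U := ⊤) trivial
    let W : Y.Opens := f ⁻¹ᵁ V
    have hWc : IsCompact (W : Set Y) := f.isCompact_preimage hV.isCompact
    haveI : CompactSpace (W : Set Y) := isCompact_iff_compactSpace.mp hWc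
    haveI : CompactSpace W.toScheme := isCompact_iff_compactSpace.mp hWc
    haveI : IsNoetherian W.toScheme := {}
    haveI : TopologicalSpace.NoetherianSpace (W : Set Y) :=
      inferInstanceAs (TopologicalSpace.NoetherianSpace W.toScheme)
    haveI : QuasiSober (W : Set Y) := W.2.isOpenEmbedding_subtypeVal.quasiSober
    let T : Set (W : Set Y) := {z | z.1 ∉ f ⁻¹ᵁ U}
    have hTc : IsClosed T := by
      have : IsOpen {z : (W : Set Y) | z.1 ∈ f ⁻¹ᵁ U} :=
        (f ⁻¹ᵁ U).2.preimage continuous_subtype_val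
      exact this.isClosed_compl
    haveI : QuasiSober T := hTc.isClosedEmbedding_subtypeVal.quasiSober
    have hfin : (genericPoints T).Finite :=
      genericPoints.finite TopologicalSpace.NoetherianSpace.finite_irreducibleComponents
    refine (hfin.image (fun t : T => t.1.1)).subset ?_
    intro y hy
    have hyW : y ∈ W := by show f y ∈ V; rw [hy]; exact hxV
    have hyU : y ∉ f ⁻¹ᵁ U := by
      intro h
      apply hxU
      have : f y ∈ U := h
      rwa [hy] at this
    have hdim : ringKrullDim (Y.presheaf.stalk y) ≤ 1 :=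
      dim_le_one f U hU' hiso y (by rw [hy]; exact hx)
    refine ⟨⟨⟨y, hyW⟩, hyU⟩, ?_, rfl⟩
    apply mem_genericPoints_of_forall_specializes_eq
    intro t ht
    have h1 : t.1.1 ⤳ y := (ht.map continuous_subtype_val).map continuous_subtype_val
    have h2 := eq_of_specializes_of_dim_le_one Y _ hU' y t.1.1 hdim h1 t.2
    exact Subtype.ext (Subtype.ext h2)

end Groth.Agent.Lib.Seat18.BirFib
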