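import Mathlib
import Groth.Agent.Lib.Seat12EtCoord

/-!
# Seat 18: slicing a smooth algebra by functions with independent differentials

* `ker_killLeft`: the kernel of `A[ι ⊕ κ] → A[κ]`, `X (inl i) ↦ 0`, `X (inr j) ↦ X j`, is generated by
  the `X (inl i)`.
* `exists_basis_extension`: at a prime `q` where `B` is smooth over `A`, elements `g i` whose
  differentials are linearly independent in `κ(q) ⊗ Ω` extend to a basis of `Ω_{B_q/A}` consisting of
  differentials of elements of `B`.
* `exists_etale_slice`: then on a basic open neighbourhood `D(f)` of `q`, every `g i` is a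
  nonzerodivisor and `B_f ⧸ (g)` is étale over a polynomial ring `A[Fin m]`
  (`r + m = rank Ω_{B_q/A}`).
-/

set_option autoImplicit false
set_option linter.style.haveILetI false
set_option linter.unusedSectionVars false
universe u

namespace Groth.Agent.Lib.Seat18.Slice

open TensorProduct IsLocalRing KaehlerDifferential

section Ker

variable (A : Type*) [CommRing A] (ι κ : Type*)

/-- `A[ι ⊕ κ] → A[κ]` killing the variables indexed by `ι`. -/
noncomputable def killLeft : MvPolynomial (ι ⊕ κ) A →ₐ[A] MvPolynomial κ A :=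
  MvPolynomial.aeval (Sum.elim (fun _ => 0) MvPolynomial.X)

@[simp]
lemma killLeft_X_inl (i : ι) : killLeft A ι κ (MvPolynomial.X (Sum.inl i)) = 0 := by
  simp [killLeft]

@[simp]
lemma killLeft_X_inr (j : κ) : killLeft A ι κ (MvPolynomial.X (Sum.inr j)) = MvPolynomial.X j := by
  simp [killLeft]

lemma killLeft_rename (p : MvPolynomial κ A) :
    killLeft A ι κ (MvPolynomial.rename Sum.inr p) = p := by
  have : (killLeft A ι κ).comp (MvPolynomial.rename Sum.inr) = AlgHom.id A _ := by
    apply MvPolynomial.algHom_ext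
    intro j
    simp
  exact DFunLike.congr_fun this p

lemma killLeft_surjective : Function.Surjective (killLeft A ι κ) :=
  fun p => ⟨_, killLeft_rename A ι κ p⟩

/-- the ideal generated by the variables `X (inl i)`. -/
noncomputable def leftIdeal : Ideal (MvPolynomial (ι ⊕ κ) A) :=
  Ideal.span (Set.range fun i : ι => (MvPolynomial.X (Sum.inl i) : MvPolynomial (ι ⊕ κ) A))

lemma mk_rename_killLeft (p : MvPolynomial (ι ⊕ κ) A) :
    Ideal.Quotient.mk (leftIdeal A ι κ) (MvPolynomial.rename Sum.inr (killLeft A ι κ p)) =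
      Ideal.Quotient.mk (leftIdeal A ι κ) p := by
  have key : (Ideal.Quotient.mkₐ A (leftIdeal A ι κ)).comp
      ((MvPolynomial.rename Sum.inr).comp (killLeft A ι κ)) =
      Ideal.Quotient.mkₐ A (leftIdeal A ι κ) := by
    apply MvPolynomial.algHom_ext
    rintro (i | j)
    · simp only [AlgHom.comp_apply, killLeft_X_inl, map_zero]
      symm
      exact Ideal.Quotient.eq_zero_iff_mem.mpr (Ideal.subset_span ⟨i, rfl⟩)
    · simp
  exact DFunLike.congr_fun key p

lemma ker_killLeft : RingHom.ker (killLeft A ι κ) = leftIdeal A ι κ := by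
  apply le_antisymm
  · intro p hp
    rw [RingHom.mem_ker] at hp
    have := mk_rename_killLeft A ι κ p
    rw [hp, map_zero, map_zero] at this
    exact Ideal.Quotient.eq_zero_iff_mem.mp this.symm
  · rw [leftIdeal, Ideal.span_le]
    rintro _ ⟨i, rfl⟩
    simp [RingHom.mem_ker]

/-- `A[κ] → A[ι ⊕ κ] ⧸ (X (inl i))` is bijective. -/
lemma bijective_mk_rename :
    Function.Bijective ((Ideal.Quotient.mk (leftIdeal A ι κ)).comp
      (MvPolynomial.rename Sum.inr : MvPolynomial κ A →ₐ[A] MvPolynomial (ι ⊕ κ) A).toRingHom) := by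
  constructor
  · intro p p' h
    simp only [RingHom.comp_apply] at h
    rw [Ideal.Quotient.eq, ← ker_killLeft, RingHom.mem_ker, map_sub] at h
    have h1 := killLeft_rename A ι κ p
    have h2 := killLeft_rename A ι κ p'
    simp only [AlgHom.toRingHom_eq_coe, RingHom.coe_coe] at h
    rw [h1, h2, sub_eq_zero] at h
    exact h
  · intro z
    obtain ⟨p, rfl⟩ := Ideal.Quotient.mk_surjective z
    exact ⟨killLeft A ι κ p, mk_rename_killLeft A ι κ p⟩

end Ker

section Basis

variable (A : Type u) {B : Type u} [CommRing A] [CommRing B] [Algebra A B]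

/-- Extension of linearly independent differentials to a basis of `Ω_{B_q/A}` by differentials of
elements of `B` (variant of `Seat12.EtCoord.exists_basis_extension` with the independence as a
hypothesis). -/
theorem exists_basis_extension [Algebra.FinitePresentation A B]
    (q : Ideal B) [q.IsPrime] [Algebra.IsSmoothAt A q]
    {r : ℕ} (g : Fin r → B)
    (hu : LinearIndependent (ResidueField (Localization.AtPrime q))
      (fun i => (1 : ResidueField (Localization.AtPrime q)) ⊗ₜ[Localization.AtPrime q]
        D A (Localization.AtPrime q) (algebraMap B (Localization.AtPrime q) (g i)))) :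
    ∃ (m : ℕ) (b : Fin m → B)
      (bΩ : Module.Basis (Fin r ⊕ Fin m) (Localization.AtPrime q) Ω[Localization.AtPrime q⁄A]),
      ∀ i, bΩ i = D A (Localization.AtPrime q)
        (algebraMap B (Localization.AtPrime q) (Sum.elim g b i)) := by
  classical
  haveI hsm : Algebra.FormallySmooth A (Localization.AtPrime q) := ‹Algebra.IsSmoothAt A q›
  haveI : Module.Projective (Localization.AtPrime q) Ω[Localization.AtPrime q⁄A] :=
    ((Algebra.formallySmooth_iff (R := A) (A := Localization.AtPrime q)).mp hsm).1
  haveI : Module.Finite (Localization.AtPrime q) Ω[Localization.AtPrime q⁄A] := inferInstance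
  haveI : Module.FinitePresentation (Localization.AtPrime q) Ω[Localization.AtPrime q⁄A] :=
    Module.finitePresentation_of_projective _ _
  let M := Ω[Localization.AtPrime q⁄A]
  let k := ResidueField (Localization.AtPrime q)
  let dd : B → M := fun b => D A (Localization.AtPrime q) (algebraMap B (Localization.AtPrime q) b)
  let v : Fin r ⊕ B → k ⊗[Localization.AtPrime q] M :=
    fun x => (1 : k) ⊗ₜ[Localization.AtPrime q] dd (Sum.elim g id x)
  have hs : LinearIndepOn k v (Set.range Sum.inl) := by
    rw [linearIndepOn_range_iff Sum.inl_injective]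
    exact hu
  obtain ⟨bset, -, hsb, hspan, hbli⟩ := exists_linearIndepOn_extension hs (Set.subset_univ _)
  have hspanM : Submodule.span (Localization.AtPrime q) (Set.range dd) = ⊤ := by
    have h0 := span_range_map_derivation_of_isLocalization A B (Localization.AtPrime q) q.primeCompl
    have : (⇑(KaehlerDifferential.map A A B (Localization.AtPrime q)) ∘ ⇑(D A B)) = dd := by
      funext b
      simp [dd]
    rwa [this] at h0
  have htop : Submodule.span k (v '' bset) = ⊤ := by
    rw [eq_top_iff]
    have h1 := (IsLocalRing.map_tensorProduct_mk_eq_top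
      (N := Submodule.span (Localization.AtPrime q) (Set.range dd))).mpr hspanM
    rw [← Submodule.span_image, ← Set.range_comp, eq_top_iff, ← SetLike.coe_subset_coe,
      Submodule.top_coe] at h1
    have h2 : Submodule.span k
        (Set.range (TensorProduct.mk (Localization.AtPrime q) k M 1 ∘ dd)) = ⊤ := by
      rw [eq_top_iff]
      exact Set.Subset.trans h1 (Submodule.span_subset_span _ _ _)
    rw [← h2]
    refine Submodule.span_le.mpr ?_
    rintro _ ⟨b, rfl⟩
    exact hspan ⟨Sum.inr b, Set.mem_univ _, rfl⟩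
  have hbfin : bset.Finite := by
    have hli' : LinearIndependent k (fun x : bset => v x) := hbli
    have hsp' : ⊤ ≤ Submodule.span k (Set.range fun x : bset => v x) := by
      rw [← htop, Set.image_eq_range]
    have := Module.Finite.finite_basis (Module.Basis.mk hli' hsp')
    exact Set.toFinite bset
  let c : Set B := Sum.inr ⁻¹' bset
  have hcfin : c.Finite := hbfin.preimage Sum.inr_injective.injOn
  haveI : Fintype c := hcfin.fintype
  let m := Fintype.card c
  let e : Fin m ≃ c := (Fintype.equivFin c).symm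
  let b : Fin m → B := fun j => (e j : B)
  let f : Fin r ⊕ Fin m → Fin r ⊕ B := Sum.map id b
  have hf_inj : Function.Injective f := by
    apply Sum.map_injective.mpr
    refine ⟨Function.injective_id, ?_⟩
    intro j j' h
    exact e.injective (Subtype.ext h)
  have hf_range : Set.range f = bset := by
    ext x
    constructor
    · rintro ⟨y, rfl⟩
      rcases y with i | j
      · exact hsb ⟨i, rfl⟩
      · exact (e j).2
    · intro hx
      rcases x with i | y
      · exact ⟨Sum.inl i, rfl⟩
      · have hy : y ∈ c := hx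
        refine ⟨Sum.inr (e.symm ⟨y, hy⟩), ?_⟩
        simp [f, b]
  have hli : LinearIndependent k (v ∘ f) := by
    rw [← linearIndepOn_range_iff hf_inj, hf_range]
    exact hbli
  have hsp : Submodule.span k (Set.range (v ∘ f)) = ⊤ := by
    rw [Set.range_comp, hf_range, htop]
  let vt : Fin r ⊕ Fin m → M := fun i => dd (Sum.elim g b i)
  have hvt : TensorProduct.mk (Localization.AtPrime q) k M 1 ∘ vt = v ∘ f := by
    funext i
    rcases i with i | j <;> rfl
  have H : Function.Injective ((maximalIdeal (Localization.AtPrime q)).subtype.rTensor M) :=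
    Module.Flat.rTensor_preserves_injective_linearMap _ Subtype.val_injective
  obtain ⟨bΩ, hbΩ⟩ := Module.exists_basis_of_basis_baseChange vt (hvt ▸ hli) (hvt ▸ hsp) H
  exact ⟨m, b, bΩ, hbΩ⟩

end Basis

section Main

variable (A : Type u) {B : Type u} [CommRing A] [CommRing B] [Algebra A B]

/-- **Slicing.** Let `B` be a finitely presented `A`-algebra smooth at the prime `q`, and
`g 0, …, g (r-1)` elements of `B` whose differentials are linearly independent in `κ(q) ⊗ Ω_{B_q/A}`.
Then there are `f ∉ q`, `m` with `r + m = rank Ω_{B_q/A}` and `b : Fin m → B` such that on every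
smaller basic open `D(f')` the `g i` are nonzerodivisors and `B_{f'} ⧸ (g)` is étale over `A[Fin m]`
via `X j ↦ b j`. -/
theorem exists_etale_slice [Algebra.FinitePresentation A B]
    (q : Ideal B) [q.IsPrime] [Algebra.IsSmoothAt A q] {r : ℕ} (g : Fin r → B)
    (hu : LinearIndependent (ResidueField (Localization.AtPrime q))
      (fun i => (1 : ResidueField (Localization.AtPrime q)) ⊗ₜ[Localization.AtPrime q]
        D A (Localization.AtPrime q) (algebraMap B (Localization.AtPrime q) (g i)))) :
    ∃ (f : B) (_ : f ∉ q) (m : ℕ) (b : Fin m → B),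
      r + m = Module.finrank (Localization.AtPrime q) Ω[Localization.AtPrime q⁄A] ∧
      ∀ (f' : B), f ∣ f' → ∀ (Bf : Type u) [CommRing Bf] [Algebra B Bf]
        [IsLocalization.Away f' Bf],
        (∀ i, IsSMulRegular Bf (algebraMap B Bf (g i))) ∧
        ((Ideal.Quotient.mk (Ideal.span (Set.range fun i => algebraMap B Bf (g i)))).comp
          ((algebraMap B Bf).comp
            (MvPolynomial.aeval b : MvPolynomial (Fin m) A →ₐ[A] B).toRingHom)).Etale := by
  classical
  obtain ⟨m, b, bΩ, hbΩ⟩ := exists_basis_extension A q g hu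
  letI : Algebra (MvPolynomial (Fin r ⊕ Fin m) A) B := (MvPolynomial.aeval (Sum.elim g b)).toAlgebra
  haveI : IsScalarTower A (MvPolynomial (Fin r ⊕ Fin m) A) B :=
    IsScalarTower.of_algebraMap_eq' (MvPolynomial.aeval (Sum.elim g b)).comp_algebraMap.symm
  have hX : ∀ i, algebraMap (MvPolynomial (Fin r ⊕ Fin m) A) B (MvPolynomial.X i) = Sum.elim g b i :=
    fun i => MvPolynomial.aeval_X _ i
  haveI : Algebra.IsEtaleAt (MvPolynomial (Fin r ⊕ Fin m) A) q :=
    Groth.Agent.Lib.Seat12.EtCoord.isEtaleAt_of_basis A (MvPolynomial (Fin r ⊕ Fin m) A) q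
      (KaehlerDifferential.mvPolynomialBasis A _) MvPolynomial.X
      (KaehlerDifferential.mvPolynomialBasis_apply A _) bΩ (fun i => by rw [hbΩ, hX])
  haveI : Algebra.FinitePresentation (MvPolynomial (Fin r ⊕ Fin m) A) B :=
    Algebra.FinitePresentation.of_restrict_scalars_finitePresentation A _ B
  obtain ⟨f, hfq, hf⟩ :=
    Algebra.exists_etale_of_isEtaleAt (R := MvPolynomial (Fin r ⊕ Fin m) A) q
  refine ⟨f, hfq, m, b, ?_, ?_⟩
  · rw [Module.finrank_eq_card_basis bΩ]
    simp
  intro f' hff' Bf _ _ _
  obtain ⟨c, rfl⟩ := hff'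
  have hsub : (↑(PrimeSpectrum.basicOpen (f * c)) : Set (PrimeSpectrum B)) ⊆
      Algebra.etaleLocus (MvPolynomial (Fin r ⊕ Fin m) A) B := by
    refine Set.Subset.trans ?_ (Algebra.basicOpen_subset_etaleLocus_iff_etale.mpr hf)
    exact PrimeSpectrum.basicOpen_mul_le_left f c
  have het' : Algebra.Etale (MvPolynomial (Fin r ⊕ Fin m) A) (Localization.Away (f * c)) :=
    Algebra.basicOpen_subset_etaleLocus_iff_etale.mp hsub
  letI : Algebra (MvPolynomial (Fin r ⊕ Fin m) A) Bf :=
    ((algebraMap B Bf).comp (algebraMap (MvPolynomial (Fin r ⊕ Fin m) A) B)).toAlgebra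
  haveI : IsScalarTower (MvPolynomial (Fin r ⊕ Fin m) A) B Bf := IsScalarTower.of_algebraMap_eq' rfl
  let e : Localization.Away (f * c) ≃ₐ[B] Bf :=
    IsLocalization.algEquiv (Submonoid.powers (f * c)) _ _
  have het : Algebra.Etale (MvPolynomial (Fin r ⊕ Fin m) A) Bf :=
    Algebra.Etale.of_equiv (e.restrictScalars (MvPolynomial (Fin r ⊕ Fin m) A))
  have hXf : ∀ i, algebraMap (MvPolynomial (Fin r ⊕ Fin m) A) Bf (MvPolynomial.X i) =
      algebraMap B Bf (Sum.elim g b i) := fun i => by
    rw [IsScalarTower.algebraMap_apply (MvPolynomial (Fin r ⊕ Fin m) A) B Bf, hX]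
  refine ⟨fun i => ?_, ?_⟩
  · haveI : Module.Flat (MvPolynomial (Fin r ⊕ Fin m) A) Bf := inferInstance
    have h1 : IsSMulRegular (MvPolynomial (Fin r ⊕ Fin m) A)
        (MvPolynomial.X (Sum.inl i) : MvPolynomial (Fin r ⊕ Fin m) A) :=
      (MvPolynomial.isRegular_X (n := Sum.inl i)).left.isSMulRegular
    have h2 := IsSMulRegular.of_flat (S := Bf) h1
    rw [hXf] at h2
    exact h2
  · have hmap : (leftIdeal A (Fin r) (Fin m)).map (algebraMap (MvPolynomial (Fin r ⊕ Fin m) A) Bf) =
        Ideal.span (Set.range fun i => algebraMap B Bf (g i)) := by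
      rw [leftIdeal, Ideal.map_span, ← Set.range_comp]
      congr 2
      funext i
      simp only [Function.comp_apply]
      rw [hXf]
      rfl
    rw [← hmap]
    have h1 : Algebra.Etale (MvPolynomial (Fin r ⊕ Fin m) A ⧸ leftIdeal A (Fin r) (Fin m))
        (Bf ⧸ (leftIdeal A (Fin r) (Fin m)).map
          (algebraMap (MvPolynomial (Fin r ⊕ Fin m) A) Bf)) :=
      let e0 : ((MvPolynomial (Fin r ⊕ Fin m) A ⧸ leftIdeal A (Fin r) (Fin m))
          ⊗[MvPolynomial (Fin r ⊕ Fin m) A] Bf) ≃ₐ[MvPolynomial (Fin r ⊕ Fin m) A ⧸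
            leftIdeal A (Fin r) (Fin m)]
          (Bf ⧸ (leftIdeal A (Fin r) (Fin m)).map
            (algebraMap (MvPolynomial (Fin r ⊕ Fin m) A) Bf)) :=
        (Algebra.TensorProduct.quotIdealMapEquivQuotTensor Bf (leftIdeal A (Fin r) (Fin m))).symm
      Algebra.Etale.of_equiv (A := (MvPolynomial (Fin r ⊕ Fin m) A ⧸ leftIdeal A (Fin r) (Fin m))
          ⊗[MvPolynomial (Fin r ⊕ Fin m) A] Bf) e0
    have h2 := RingHom.etale_algebraMap.mpr h1
    have h3 : ((Ideal.Quotient.mk (leftIdeal A (Fin r) (Fin m))).comp
      (MvPolynomial.rename Sum.inr :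
        MvPolynomial (Fin m) A →ₐ[A] MvPolynomial (Fin r ⊕ Fin m) A).toRingHom).Etale :=
      RingHom.Etale.of_bijective (bijective_mk_rename A (Fin r) (Fin m))
    have h4 := RingHom.Etale.stableUnderComposition _ _ h3 h2
    convert h4 using 1
    apply MvPolynomial.ringHom_ext
    · intro a
      simp only [RingHom.comp_apply, AlgHom.toRingHom_eq_coe, RingHom.coe_coe,
        MvPolynomial.algHom_C, MvPolynomial.algebraMap_eq]
      rw [Ideal.Quotient.algebraMap_quotient_map_quotient]
      congr 1
      rw [IsScalarTower.algebraMap_apply (MvPolynomial (Fin r ⊕ Fin m) A) B Bf]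
      congr 1
      exact (MvPolynomial.aeval_C _ a).symm
    · intro j
      simp only [RingHom.comp_apply, AlgHom.toRingHom_eq_coe, RingHom.coe_coe,
        MvPolynomial.aeval_X, MvPolynomial.rename_X]
      rw [Ideal.Quotient.algebraMap_quotient_map_quotient, hXf]
      rfl

end Main

section One

variable (A : Type u) {B : Type u} [CommRing A] [CommRing B] [Algebra A B]

/-- `1 ⊗ x = 0` in `κ ⊗ M` iff `x ∈ 𝔪 • ⊤`. -/
lemma one_tmul_eq_zero_iff {R : Type*} [CommRing R] [IsLocalRing R] {M : Type*} [AddCommGroup M]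
    [Module R M] (x : M) :
    (1 : ResidueField R) ⊗ₜ[R] x = 0 ↔ x ∈ maximalIdeal R • (⊤ : Submodule R M) := by
  rw [← LinearMap.ker_tensorProductMk, LinearMap.mem_ker]
  rfl

/-- **Slicing by one function.** -/
theorem exists_smooth_slice_one [Algebra.FinitePresentation A B]
    (q : Ideal B) [q.IsPrime] [Algebra.IsSmoothAt A q] (h : B)
    (hd : D A (Localization.AtPrime q) (algebraMap B (Localization.AtPrime q) h) ∉
      maximalIdeal (Localization.AtPrime q) •
        (⊤ : Submodule (Localization.AtPrime q) Ω[Localization.AtPrime q⁄A])) :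
    ∃ (f : B) (_ : f ∉ q), ∀ (f' : B), f ∣ f' → ∀ (Bf : Type u) [CommRing Bf] [Algebra B Bf]
        [IsLocalization.Away f' Bf],
        algebraMap B Bf h ∈ nonZeroDivisors Bf ∧
        ((Ideal.Quotient.mk (Ideal.span {algebraMap B Bf h})).comp
          ((algebraMap B Bf).comp (algebraMap A B))).Smooth := by
  have hu : LinearIndependent (ResidueField (Localization.AtPrime q))
      (fun i : Fin 1 => (1 : ResidueField (Localization.AtPrime q)) ⊗ₜ[Localization.AtPrime q]
        D A (Localization.AtPrime q) (algebraMap B (Localization.AtPrime q)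
          ((fun _ : Fin 1 => h) i))) := by
    rw [linearIndependent_unique_iff]
    intro h0
    exact hd ((one_tmul_eq_zero_iff _).mp h0)
  obtain ⟨f, hfq, m, b, -, H⟩ := exists_etale_slice A q (fun _ : Fin 1 => h) hu
  refine ⟨f, hfq, fun f' hff' Bf _ _ _ => ?_⟩
  obtain ⟨hreg, het⟩ := H f' hff' Bf
  refine ⟨?_, ?_⟩
  · have h0 : IsLeftRegular (algebraMap B Bf h) := isLeftRegular_iff.mpr (hreg 0)
    exact isRegular_iff_mem_nonZeroDivisors.mp
      ⟨h0, (isLeftRegular_iff_isRegular.mp h0).right⟩
  · rw [Set.range_const] at het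
    have h1 : (algebraMap A (MvPolynomial (Fin m) A)).Smooth :=
      RingHom.smooth_algebraMap.mpr ⟨inferInstance, inferInstance⟩
    have h2 := ((RingHom.etale_iff_formallyUnramified_and_smooth (f := _)).mp het).2
    have h3 := h1.comp h2
    convert h3 using 1
    ext a
    simp

end One

section Transport

/-- Functoriality of the condition `D x ∈ 𝔪 • Ω` along a local homomorphism of local rings (with a
change of base ring). -/
lemma D_algebraMap_mem_smul_top (A A' R R' : Type*) [CommRing A] [CommRing A'] [CommRing R]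
    [CommRing R'] [Algebra A R] [Algebra A' R'] [Algebra A A'] [Algebra R R'] [Algebra A R']
    [IsScalarTower A A' R'] [IsScalarTower A R R'] [IsLocalRing R] [IsLocalRing R']
    [IsLocalHom (algebraMap R R')] (x : R)
    (hx : D A R x ∈ maximalIdeal R • (⊤ : Submodule R Ω[R⁄A])) :
    D A' R' (algebraMap R R' x) ∈ maximalIdeal R' • (⊤ : Submodule R' Ω[R'⁄A']) := by
  rw [← KaehlerDifferential.map_D A A' R R']
  refine Submodule.smul_induction_on hx (fun a ha m _ => ?_) (fun y z hy hz => ?_)
  · rw [map_smul, algebra_compatible_smul R' a]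
    refine Submodule.smul_mem_smul ?_ Submodule.mem_top
    rw [IsLocalRing.mem_maximalIdeal, mem_nonunits_iff] at ha ⊢
    exact fun hu => ha (isUnit_of_map_unit (algebraMap R R') a hu)
  · rw [map_add]
    exact Submodule.add_mem _ hy hz

end Transport

end Groth.Agent.Lib.Seat18.Slice
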