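import Mathlib
import Groth.Agent.Lib.Seat18Slice

/-!
# Seat 18: étale charts adapted to a section

* `exists_etale_chart`: if differentials of `g i` form a basis of `Ω_{B_q/A}` then `A[Fin m] → B`,
  `X i ↦ g i`, is étale on a basic open neighbourhood of `q`.
* `exists_etale_chart_of_section`: for a retraction `σ : B → A` of the structure map, the `g i` can be
  chosen in the kernel of `σ`.
* `etale_eval₂Hom_of_isLocalization`: passing from `A[Fin m] → B'` to `A'[Fin m] → B'` for a
  localization `A'` of `A`.
-/

set_option autoImplicit false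
set_option linter.style.haveILetI false
set_option linter.unusedSectionVars false
universe u

namespace Groth.Agent.Lib.Seat18.SecChart

open TensorProduct IsLocalRing KaehlerDifferential Groth.Agent.Lib.Seat18.Slice

section Chart

variable (A : Type u) {B : Type u} [CommRing A] [CommRing B] [Algebra A B]

theorem exists_etale_chart [Algebra.FinitePresentation A B]
    (q : Ideal B) [q.IsPrime] [Algebra.IsSmoothAt A q] {m : ℕ} (g : Fin m → B)
    (bΩ : Module.Basis (Fin m) (Localization.AtPrime q) Ω[Localization.AtPrime q⁄A])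
    (hbΩ : ∀ i, bΩ i = D A (Localization.AtPrime q) (algebraMap B (Localization.AtPrime q) (g i))) :
    ∃ (f : B) (_ : f ∉ q), ∀ (f' : B), f ∣ f' → ∀ (Bf : Type u) [CommRing Bf] [Algebra B Bf]
        [IsLocalization.Away f' Bf],
        ((algebraMap B Bf).comp
          (MvPolynomial.aeval g : MvPolynomial (Fin m) A →ₐ[A] B).toRingHom).Etale := by
  classical
  letI : Algebra (MvPolynomial (Fin m) A) B := (MvPolynomial.aeval g).toAlgebra
  haveI : IsScalarTower A (MvPolynomial (Fin m) A) B :=
    IsScalarTower.of_algebraMap_eq' (MvPolynomial.aeval g).comp_algebraMap.symm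
  have hX : ∀ i, algebraMap (MvPolynomial (Fin m) A) B (MvPolynomial.X i) = g i :=
    fun i => MvPolynomial.aeval_X _ i
  haveI : Algebra.IsEtaleAt (MvPolynomial (Fin m) A) q :=
    Groth.Agent.Lib.Seat12.EtCoord.isEtaleAt_of_basis A (MvPolynomial (Fin m) A) q
      (KaehlerDifferential.mvPolynomialBasis A _) MvPolynomial.X
      (KaehlerDifferential.mvPolynomialBasis_apply A _) bΩ (fun i => by rw [hbΩ, hX])
  haveI : Algebra.FinitePresentation (MvPolynomial (Fin m) A) B :=
    Algebra.FinitePresentation.of_restrict_scalars_finitePresentation A _ B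
  obtain ⟨f, hfq, hf⟩ :=
    Algebra.exists_etale_of_isEtaleAt (R := MvPolynomial (Fin m) A) q
  refine ⟨f, hfq, ?_⟩
  intro f' hff' Bf _ _ _
  obtain ⟨c, rfl⟩ := hff'
  have hsub : (↑(PrimeSpectrum.basicOpen (f * c)) : Set (PrimeSpectrum B)) ⊆
      Algebra.etaleLocus (MvPolynomial (Fin m) A) B := by
    refine Set.Subset.trans ?_ (Algebra.basicOpen_subset_etaleLocus_iff_etale.mpr hf)
    exact PrimeSpectrum.basicOpen_mul_le_left f c
  have het' : Algebra.Etale (MvPolynomial (Fin m) A) (Localization.Away (f * c)) :=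
    Algebra.basicOpen_subset_etaleLocus_iff_etale.mp hsub
  letI : Algebra (MvPolynomial (Fin m) A) Bf :=
    ((algebraMap B Bf).comp (algebraMap (MvPolynomial (Fin m) A) B)).toAlgebra
  haveI : IsScalarTower (MvPolynomial (Fin m) A) B Bf := IsScalarTower.of_algebraMap_eq' rfl
  let e : Localization.Away (f * c) ≃ₐ[B] Bf :=
    IsLocalization.algEquiv (Submonoid.powers (f * c)) _ _
  have het : Algebra.Etale (MvPolynomial (Fin m) A) Bf :=
    Algebra.Etale.of_equiv (e.restrictScalars (MvPolynomial (Fin m) A))
  exact RingHom.etale_algebraMap.mpr het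

theorem exists_etale_chart_of_section [Algebra.FinitePresentation A B]
    (σ : B →+* A) (hσ : ∀ a, σ (algebraMap A B a) = a)
    (q : Ideal B) [q.IsPrime] [Algebra.IsSmoothAt A q] :
    ∃ (m : ℕ) (g : Fin m → B) (f : B), f ∉ q ∧ (∀ j, σ (g j) = 0) ∧
      ∀ (f' : B), f ∣ f' → ∀ (Bf : Type u) [CommRing Bf] [Algebra B Bf]
        [IsLocalization.Away f' Bf],
        ((algebraMap B Bf).comp
          (MvPolynomial.aeval g : MvPolynomial (Fin m) A →ₐ[A] B).toRingHom).Etale := by
  classical
  obtain ⟨m, b, bΩ, hbΩ⟩ := exists_basis_extension A q (r := 0) (fun i => i.elim0)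
    linearIndependent_empty_type
  let bΩ' : Module.Basis (Fin m) (Localization.AtPrime q) Ω[Localization.AtPrime q⁄A] :=
    bΩ.reindex (Equiv.emptySum (Fin 0) (Fin m))
  let g : Fin m → B := fun j => b j - algebraMap A B (σ (b j))
  have hg : ∀ j, bΩ' j =
      D A (Localization.AtPrime q) (algebraMap B (Localization.AtPrime q) (g j)) := by
    intro j
    have h1 : bΩ' j = bΩ (Sum.inr j) := by
      simp [bΩ']
    rw [h1, hbΩ]
    simp only [Sum.elim_inr, g, map_sub]
    rw [← IsScalarTower.algebraMap_apply A B (Localization.AtPrime q), Derivation.map_algebraMap,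
      sub_zero]
  obtain ⟨f, hfq, hf⟩ := exists_etale_chart A q g bΩ' hg
  refine ⟨m, g, f, hfq, fun j => ?_, hf⟩
  simp [g, hσ]

end Chart

section Loc

attribute [local instance] MvPolynomial.algebraMvPolynomial

theorem etale_eval₂Hom_of_isLocalization {A B A' B' : Type u} [CommRing A] [CommRing B]
    [CommRing A'] [CommRing B'] (φ : A →+* B) (φ' : A' →+* B') (α : A →+* A') (β : B →+* B')
    (hcomm : φ'.comp α = β.comp φ) (a : A)
    (hα : letI := α.toAlgebra; IsLocalization.Away a A') {m : ℕ} (g : Fin m → B)
    (h : (β.comp (MvPolynomial.eval₂Hom φ g)).Etale) :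
    (MvPolynomial.eval₂Hom φ' (β ∘ g)).Etale := by
  classical
  letI := α.toAlgebra
  haveI : IsLocalization.Away a A' := hα
  letI : Algebra (MvPolynomial (Fin m) A') B' := (MvPolynomial.eval₂Hom φ' (β ∘ g)).toAlgebra
  letI : Algebra (MvPolynomial (Fin m) A) B' := (β.comp (MvPolynomial.eval₂Hom φ g)).toAlgebra
  haveI : IsScalarTower (MvPolynomial (Fin m) A) (MvPolynomial (Fin m) A') B' := by
    refine IsScalarTower.of_algebraMap_eq' ?_
    rw [MvPolynomial.algebraMap_def]
    change β.comp (MvPolynomial.eval₂Hom φ g) =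
      (MvPolynomial.eval₂Hom φ' (β ∘ g)).comp (MvPolynomial.map α)
    apply MvPolynomial.ringHom_ext
    · intro r
      simp only [RingHom.comp_apply, MvPolynomial.coe_eval₂Hom,
        MvPolynomial.eval₂_C, MvPolynomial.map_C]
      exact (RingHom.congr_fun hcomm r).symm
    · intro i
      simp only [RingHom.comp_apply, MvPolynomial.coe_eval₂Hom,
        MvPolynomial.eval₂_X, MvPolynomial.map_X, Function.comp_apply]
  haveI het : Algebra.Etale (MvPolynomial (Fin m) A) B' := RingHom.etale_algebraMap.mp h
  haveI : IsLocalization ((Submonoid.powers a).map (MvPolynomial.C (σ := Fin m) (R := A))) (MvPolynomial (Fin m) A') :=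
    inferInstance
  haveI : Algebra.FormallyEtale (MvPolynomial (Fin m) A') B' :=
    Algebra.FormallyEtale.localization_base (R := MvPolynomial (Fin m) A)
      (Rₘ := MvPolynomial (Fin m) A') (Sₘ := B') ((Submonoid.powers a).map (MvPolynomial.C (σ := Fin m) (R := A)))
  haveI : IsLocalization.Away (MvPolynomial.C (σ := Fin m) a) (MvPolynomial (Fin m) A') := by
    have h0 : IsLocalization ((Submonoid.powers a).map (MvPolynomial.C (σ := Fin m) (R := A)))
      (MvPolynomial (Fin m) A') := inferInstance
    rwa [Submonoid.map_powers] at h0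
  haveI : Algebra.FinitePresentation (MvPolynomial (Fin m) A) (MvPolynomial (Fin m) A') :=
    IsLocalization.Away.finitePresentation (MvPolynomial.C (σ := Fin m) a)
  haveI : Algebra.FinitePresentation (MvPolynomial (Fin m) A') B' :=
    Algebra.FinitePresentation.of_restrict_scalars_finitePresentation (MvPolynomial (Fin m) A) _ B'
  exact RingHom.etale_algebraMap.mpr ⟨inferInstance, inferInstance⟩

end Loc

end Groth.Agent.Lib.Seat18.SecChart
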