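import Mathlib
import Groth.Agent.Lib.Seat18SecChart
import Groth.Agent.Lib.Seat10StdElemB

/-!
# Seat 18: étale coordinates adapted to a smooth closed subscheme (algebra)

* `exists_etale_chart'`: version of `SecChart.exists_etale_chart` for an arbitrary finite index type.
* `exists_chart_of_smooth_quotient`: if `B` is smooth over `A` at `q ⊇ J` and `B ⧸ J` is smooth over
  `A`, then there are `b : Fin m → B`, `g : Fin n → B` with `g k ∈ J` and `f ∉ q` such that over every
  smaller basic open `D(f')` the map `A[Fin m ⊕ Fin n] → B_{f'}` given by `(b, g)` is étale and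
  `J B_{f'} = (g)`.
-/

set_option autoImplicit false
set_option linter.style.haveILetI false
set_option linter.unusedSectionVars false
universe u

namespace Groth.Agent.Lib.Seat18.ClosedChart

open TensorProduct IsLocalRing KaehlerDifferential

section Chart

variable (A : Type u) {B : Type u} [CommRing A] [CommRing B] [Algebra A B]

theorem exists_etale_chart' [Algebra.FinitePresentation A B]
    (q : Ideal B) [q.IsPrime] [Algebra.IsSmoothAt A q] {σ : Type} [Finite σ] (g : σ → B)
    (bΩ : Module.Basis σ (Localization.AtPrime q) Ω[Localization.AtPrime q⁄A])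
    (hbΩ : ∀ i, bΩ i = D A (Localization.AtPrime q) (algebraMap B (Localization.AtPrime q) (g i))) :
    ∃ (f : B) (_ : f ∉ q), ∀ (f' : B), f ∣ f' → ∀ (Bf : Type u) [CommRing Bf] [Algebra B Bf]
        [IsLocalization.Away f' Bf],
        ((algebraMap B Bf).comp
          (MvPolynomial.aeval g : MvPolynomial σ A →ₐ[A] B).toRingHom).Etale := by
  classical
  letI : Algebra (MvPolynomial σ A) B := (MvPolynomial.aeval g).toAlgebra
  haveI : IsScalarTower A (MvPolynomial σ A) B :=
    IsScalarTower.of_algebraMap_eq' (MvPolynomial.aeval g).comp_algebraMap.symm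
  have hX : ∀ i, algebraMap (MvPolynomial σ A) B (MvPolynomial.X i) = g i :=
    fun i => MvPolynomial.aeval_X _ i
  haveI : Algebra.IsEtaleAt (MvPolynomial σ A) q :=
    Groth.Agent.Lib.Seat12.EtCoord.isEtaleAt_of_basis A (MvPolynomial σ A) q
      (KaehlerDifferential.mvPolynomialBasis A _) MvPolynomial.X
      (KaehlerDifferential.mvPolynomialBasis_apply A _) bΩ (fun i => by rw [hbΩ, hX])
  haveI : Algebra.FinitePresentation (MvPolynomial σ A) B :=
    Algebra.FinitePresentation.of_restrict_scalars_finitePresentation A _ B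
  obtain ⟨f, hfq, hf⟩ :=
    Algebra.exists_etale_of_isEtaleAt (R := MvPolynomial σ A) q
  refine ⟨f, hfq, ?_⟩
  intro f' hff' Bf _ _ _
  obtain ⟨c, rfl⟩ := hff'
  have hsub : (↑(PrimeSpectrum.basicOpen (f * c)) : Set (PrimeSpectrum B)) ⊆
      Algebra.etaleLocus (MvPolynomial σ A) B := by
    refine Set.Subset.trans ?_ (Algebra.basicOpen_subset_etaleLocus_iff_etale.mpr hf)
    exact PrimeSpectrum.basicOpen_mul_le_left f c
  have het' : Algebra.Etale (MvPolynomial σ A) (Localization.Away (f * c)) :=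
    Algebra.basicOpen_subset_etaleLocus_iff_etale.mp hsub
  letI : Algebra (MvPolynomial σ A) Bf :=
    ((algebraMap B Bf).comp (algebraMap (MvPolynomial σ A) B)).toAlgebra
  haveI : IsScalarTower (MvPolynomial σ A) B Bf := IsScalarTower.of_algebraMap_eq' rfl
  let e : Localization.Away (f * c) ≃ₐ[B] Bf :=
    IsLocalization.algEquiv (Submonoid.powers (f * c)) _ _
  have het : Algebra.Etale (MvPolynomial σ A) Bf :=
    Algebra.Etale.of_equiv (e.restrictScalars (MvPolynomial σ A))
  exact RingHom.etale_algebraMap.mpr het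

theorem exists_chart_of_smooth_quotient [Algebra.FinitePresentation A B] (J : Ideal B) (hJ : J.FG)
    (q : Ideal B) [q.IsPrime] (hJq : J ≤ q) [Algebra.IsSmoothAt A q]
    [Algebra.Smooth A (B ⧸ J)] :
    ∃ (m n : ℕ) (b : Fin m → B) (g : Fin n → B) (f : B), f ∉ q ∧ (∀ k, g k ∈ J) ∧
      ∀ (f' : B), f ∣ f' → ∀ (Bf : Type u) [CommRing Bf] [Algebra B Bf]
        [IsLocalization.Away f' Bf],
        ((algebraMap B Bf).comp (MvPolynomial.aeval (Sum.elim b g) :
          MvPolynomial (Fin m ⊕ Fin n) A →ₐ[A] B).toRingHom).Etale ∧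
        J.map (algebraMap B Bf) = Ideal.span (Set.range fun k => algebraMap B Bf (g k)) := by
  classical
  obtain ⟨m₀, f₀, hf₀⟩ := Submodule.fg_iff_exists_fin_generating_family.mp hJ
  have hJ' : J = Ideal.span (Set.range f₀) := hf₀.symm
  obtain ⟨n, rows, hmin, hrows⟩ := Groth.Agent.Lib.Seat10.StdElem.exists_rows q f₀ J hJ'
  have hgen := Groth.Agent.Lib.Seat10.StdElem.map_eq_span_of_rows q f₀ J hJ' rows hrows
  let g : Fin n → B := fun k => f₀ (rows k)
  have hg : ∀ k, g k ∈ J := fun k => by rw [hJ']; exact Ideal.subset_span ⟨rows k, rfl⟩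
  let Q : Ideal (B ⧸ J) := q.map (Ideal.Quotient.mk J)
  haveI : Q.IsPrime := Ideal.map_isPrime_of_surjective Ideal.Quotient.mk_surjective
    (by rw [Ideal.mk_ker]; exact hJq)
  have hQ : Q.comap (Ideal.Quotient.mk J) = q := by
    rw [Ideal.comap_map_of_surjective _ Ideal.Quotient.mk_surjective, ← RingHom.ker_eq_comap_bot,
      Ideal.mk_ker, sup_eq_left]
    exact hJq
  haveI : Algebra.IsSmoothAt A Q := inferInstance
  obtain ⟨m, b, bΩ, hbΩ⟩ :=
    Groth.Agent.Lib.Seat12.EtCoord.exists_basis_extension A J q hJq Q hQ g hg hgen hmin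
  let bΩ' : Module.Basis (Fin m ⊕ Fin n) (Localization.AtPrime q) Ω[Localization.AtPrime q⁄A] :=
    bΩ.reindex (Equiv.sumComm (Fin n) (Fin m))
  have hbΩ' : ∀ i, bΩ' i =
      D A (Localization.AtPrime q) (algebraMap B (Localization.AtPrime q) (Sum.elim b g i)) := by
    intro i
    have h1 : bΩ' i = bΩ ((Equiv.sumComm (Fin n) (Fin m)).symm i) := by
      simp [bΩ']
    rw [h1, hbΩ]
    rcases i with i | i <;> rfl
  obtain ⟨f₁, hf₁q, hf₁⟩ := exists_etale_chart' A q (Sum.elim b g) bΩ' hbΩ'
  obtain ⟨f₂, hf₂q, hf₂⟩ :=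
    Groth.Agent.Lib.Seat12.EtCoord.exists_notMem_map_eq_span J hJ q g hg hgen
  refine ⟨m, n, b, g, f₁ * f₂, ‹q.IsPrime›.mul_notMem hf₁q hf₂q, hg, ?_⟩
  intro f' hff' Bf _ _ _
  refine ⟨hf₁ f' (Dvd.dvd.trans (Dvd.intro _ rfl) hff') Bf, ?_⟩
  have h2 := hf₂ f' (Dvd.dvd.trans (Dvd.intro_left _ rfl) hff')
  let e : Localization.Away f' ≃ₐ[B] Bf := IsLocalization.algEquiv (Submonoid.powers f') _ _
  have he : (e : Localization.Away f' →+* Bf).comp (algebraMap B (Localization.Away f')) =
      algebraMap B Bf := by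
    ext x
    exact e.commutes x
  rw [← he, ← Ideal.map_map, h2, Ideal.map_span, ← Set.range_comp]
  rfl

end Chart

end Groth.Agent.Lib.Seat18.ClosedChart
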