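import Mathlib
import Groth.Agent.Lib.Seat18SecChart

/-!
# Seat 18: étale charts adapted to a section (scheme level)

* `smooth_affineSpace_over`: `𝔸(n; S) → S` is smooth for finite `n`.
* `etale_homOfVector_of_isAffine`: étaleness of `homOfVector g v` between affine schemes from the
  ring map `Γ(S)[n] → Γ(X)`.
* `mem_smoothLocus_of_etale_chart`: an étale chart to affine space forces smoothness.
* `exists_chart`: at a smooth point `i y` of a section `i` of `f` there are affine opens `U ∋ y`,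
  `i(U) ⊆ V ⊆ f⁻¹ U` and functions `g j` on `V` vanishing along `i` with `Γ(U)[T] → Γ(V)`,
  `T j ↦ g j`, étale.
-/

set_option autoImplicit false
set_option linter.style.haveILetI false
set_option linter.unusedSectionVars false
universe u

open AlgebraicGeometry CategoryTheory Limits MvPolynomial AffineSpace

namespace Groth.Agent.Lib.Seat18.SecChartSch

theorem smooth_affineSpace_over (n : Type u) [Finite n] (S : Scheme.{u}) :
    Smooth (𝔸(n; S) ↘ S) := by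
  have : MorphismProperty.RespectsIso @Smooth.{u} :=
    MorphismProperty.IsStableUnderBaseChange.respectsIso
  have h0 : Smooth (terminal.from (Spec (CommRingCat.of (MvPolynomial n (ULift.{u} ℤ))))) := by
    have := isIso_of_isTerminal specULiftZIsTerminal.{u} terminalIsTerminal (terminal.from _)
    rw [← terminal.comp_from (Spec.map (CommRingCat.ofHom C)),
      MorphismProperty.cancel_right_of_respectsIso (P := @Smooth.{u}),
      HasRingHomProperty.Spec_iff (P := @Smooth.{u}), RingHom.Smooth]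
    convert! (⟨inferInstance, inferInstance⟩ : Algebra.Smooth (ULift ℤ) (MvPolynomial n (ULift ℤ)))
    exact Algebra.algebra_ext _ _ fun _ ↦ rfl
  exact MorphismProperty.of_isPullback (P := @Smooth.{u})
    (IsPullback.of_hasPullback (terminal.from S)
      (terminal.from (Spec (CommRingCat.of (MvPolynomial n (ULift.{u} ℤ)))))).flip h0

theorem etale_homOfVector_of_isAffine {n : Type u} {X S : Scheme.{u}} [IsAffine X] [IsAffine S]
    (g : X ⟶ S) (v : n → Γ(X, ⊤)) (h : (MvPolynomial.eval₂Hom g.appTop.hom v).Etale) :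
    Etale (homOfVector g v) := by
  have : MorphismProperty.RespectsIso @Etale.{u} :=
    MorphismProperty.IsStableUnderBaseChange.respectsIso
  have h1 : CommRingCat.ofHom (eval₂Hom ((𝔸(n; S) ↘ S).appTop).hom (coord S)) ≫
      (homOfVector g v).appTop = CommRingCat.ofHom (MvPolynomial.eval₂Hom g.appTop.hom v) := by
    ext : 1
    apply MvPolynomial.ringHom_ext
    · intro r
      simp only [CommRingCat.hom_comp, CommRingCat.hom_ofHom, RingHom.comp_apply, coe_eval₂Hom,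
        eval₂_C]
      rw [← CommRingCat.comp_apply, ← Scheme.Hom.comp_appTop, homOfVector_over]
    · intro i
      simp only [CommRingCat.hom_comp, CommRingCat.hom_ofHom, RingHom.comp_apply, coe_eval₂Hom,
        eval₂_X]
      exact homOfVector_appTop_coord g v i
  have : Etale (homOfVector g v ≫ (isoOfIsAffine n S).hom) := by
    rw [HasRingHomProperty.iff_of_isAffine (P := @Etale.{u}), Scheme.Hom.comp_appTop,
      isoOfIsAffine_hom_appTop, Category.assoc, h1]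
    rw [CommRingCat.hom_comp]
    exact (RingHom.Etale.respectsIso.cancel_left_isIso _ _).mpr h
  exact (MorphismProperty.cancel_right_of_respectsIso (P := @Etale.{u}) _ _).mp this

theorem mem_smoothLocus_of_etale_chart {X Y : Scheme.{u}} (f : X ⟶ Y)
    [LocallyOfFinitePresentation f] (U : Y.Opens) (V : X.Opens) (hVU : V ≤ f ⁻¹ᵁ U)
    {n : Type u} [Finite n] (v : n → Γ(V, ⊤))
    (h : Etale (homOfVector (f.resLE U V hVU) v)) (x : X) (hx : x ∈ V) : x ∈ f.smoothLocus := by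
  haveI := smooth_affineSpace_over n U
  have h1 : Smooth (f.resLE U V hVU) := by
    rw [← homOfVector_over (f.resLE U V hVU) v]
    infer_instance
  rw [Scheme.Hom.mem_smoothLocus]
  have h2 := Scheme.Hom.smoothLocus_eq_top (f.resLE U V hVU)
  have h3 : (⟨x, hx⟩ : V) ∈ (f.resLE U V hVU).smoothLocus := by
    rw [h2]
    trivial
  have h4 : ((f.resLE U V hVU).stalkMap ⟨x, hx⟩).hom.FormallySmooth := h3
  exact (RingHom.FormallySmooth.respectsIso.arrow_mk_iso_iff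
    (Scheme.Hom.resLEStalkMap f hVU ⟨x, hx⟩)).mp h4

/-- Membership in a basic open of an affine open, in terms of prime ideals. -/
theorem mem_basicOpen_iff_notMem_primeIdealOf {X : Scheme.{u}} {U : X.Opens} (hU : IsAffineOpen U)
    (y : X) (hy : y ∈ U) (r : Γ(X, U)) :
    y ∈ X.basicOpen r ↔ r ∉ (hU.primeIdealOf ⟨y, hy⟩).asIdeal := by
  have h := hU.fromSpec_primeIdealOf ⟨y, hy⟩
  have h2 : (hU.fromSpec (hU.primeIdealOf ⟨y, hy⟩) ∈ X.basicOpen r) ↔
      r ∉ (hU.primeIdealOf ⟨y, hy⟩).asIdeal := by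
    change hU.primeIdealOf ⟨y, hy⟩ ∈ (hU.fromSpec ⁻¹ᵁ X.basicOpen r) ↔ _
    rw [hU.fromSpec_preimage_basicOpen]
    rfl
  rw [h] at h2
  exact h2

theorem appLE_eq_id_of_eq_id {Y : Scheme.{u}} (k : Y ⟶ Y) (hk : k = 𝟙 Y) (U : Y.Opens)
    (e : U ≤ k ⁻¹ᵁ U) : k.appLE U U e = 𝟙 _ := by
  subst hk
  simp only [Scheme.Hom.appLE, Scheme.Hom.id_app]
  exact Y.presheaf.map_id _

theorem exists_chart {X Y : Scheme.{u}} (f : X ⟶ Y) [LocallyOfFinitePresentation f] (i : Y ⟶ X)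
    (hi : i ≫ f = 𝟙 Y) (y : Y) (hy : i.base y ∈ f.smoothLocus) :
    ∃ (U : Y.Opens) (V : X.Opens) (_ : IsAffineOpen U) (_ : IsAffineOpen V) (_ : y ∈ U)
      (hUV : U ≤ i ⁻¹ᵁ V) (hVU : V ≤ f ⁻¹ᵁ U) (m : ℕ) (g : Fin m → Γ(X, V)),
      (MvPolynomial.eval₂Hom (f.appLE U V hVU).hom g).Etale ∧
        ∀ j, i.appLE V U hUV (g j) = 0 := by
  classical
  have hfi : ∀ z : Y, f.base (i.base z) = z := fun z => by
    have := congr($(hi).base z)
    simpa using this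
  obtain ⟨U₀, hU₀, hyU₀, -⟩ :=
    exists_isAffineOpen_mem_and_subset (X := Y) (x := y) (U := ⊤) trivial
  obtain ⟨V₀, hV₀, hxV₀, hV₀U₀⟩ := exists_isAffineOpen_mem_and_subset (X := X) (x := i.base y)
    (U := f ⁻¹ᵁ U₀) (by change f.base (i.base y) ∈ U₀; rwa [hfi])
  obtain ⟨a, ha, hya⟩ := hU₀.exists_basicOpen_le (V := i ⁻¹ᵁ V₀) ⟨y, hxV₀⟩ hyU₀
  have hU₁ : IsAffineOpen (Y.basicOpen a) := hU₀.basicOpen a
  have hV₁ : IsAffineOpen (X.basicOpen (f.appLE U₀ V₀ hV₀U₀ a)) := hV₀.basicOpen _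
  have hV₁eq := Scheme.basicOpen_appLE f V₀ U₀ hV₀U₀ a
  generalize Y.basicOpen a = U₁ at *
  generalize X.basicOpen (f.appLE U₀ V₀ hV₀U₀ a) = V₁ at *
  have e₁ : V₁ ≤ f ⁻¹ᵁ U₁ := hV₁eq ▸ inf_le_right
  have e₂ : U₁ ≤ i ⁻¹ᵁ V₁ := by
    intro u hu
    rw [hV₁eq]
    exact ⟨ha hu, by change f.base (i.base u) ∈ U₁; rwa [hfi]⟩
  have hxV₁ : i.base y ∈ V₁ := e₂ hya
  let φ : Γ(Y, U₁) →+* Γ(X, V₁) := (f.appLE U₁ V₁ e₁).hom
  let σ : Γ(X, V₁) →+* Γ(Y, U₁) := (i.appLE V₁ U₁ e₂).hom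
  have hσφ : ∀ r, σ (φ r) = r := by
    intro r
    have h1 : f.appLE U₁ V₁ e₁ ≫ i.appLE V₁ U₁ e₂ = 𝟙 _ := by
      rw [Scheme.Hom.appLE_comp_appLE]
      exact appLE_eq_id_of_eq_id _ hi _ _
    exact congr($h1 r)
  letI : Algebra Γ(Y, U₁) Γ(X, V₁) := φ.toAlgebra
  haveI : Algebra.FinitePresentation Γ(Y, U₁) Γ(X, V₁) := f.finitePresentation_appLE hU₁ hV₁ e₁
  haveI : Algebra.IsSmoothAt Γ(Y, U₁) (hV₁.primeIdealOf ⟨i.base y, hxV₁⟩).asIdeal :=
    (formallySmooth_stalkMap_iff U₁ hU₁ V₁ hV₁ e₁ hxV₁).mp hy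
  obtain ⟨m, g, h₀, hh₀q, hg0, hét⟩ :=
    Groth.Agent.Lib.Seat18.SecChart.exists_etale_chart_of_section Γ(Y, U₁) σ hσφ
      (hV₁.primeIdealOf ⟨i.base y, hxV₁⟩).asIdeal
  have hxh₀ : i.base y ∈ X.basicOpen h₀ :=
    (mem_basicOpen_iff_notMem_primeIdealOf hV₁ _ hxV₁ h₀).mpr hh₀q
  have hUeq : Y.basicOpen (σ h₀) = U₁ ⊓ i ⁻¹ᵁ (X.basicOpen h₀) :=
    Scheme.basicOpen_appLE i U₁ V₁ e₂ h₀
  have hφs : X.basicOpen (φ (σ h₀)) = V₁ ⊓ f ⁻¹ᵁ (Y.basicOpen (σ h₀)) :=
    Scheme.basicOpen_appLE f V₁ U₁ e₁ (σ h₀)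
  have hVeq : X.basicOpen (h₀ * φ (σ h₀)) = X.basicOpen h₀ ⊓ X.basicOpen (φ (σ h₀)) :=
    Scheme.basicOpen_mul _ _ _
  have hyU : y ∈ Y.basicOpen (σ h₀) := by
    rw [hUeq]
    exact ⟨hya, hxh₀⟩
  have hUV : Y.basicOpen (σ h₀) ≤ i ⁻¹ᵁ (X.basicOpen (h₀ * φ (σ h₀))) := by
    intro u hu
    have hu' := hu
    rw [hUeq] at hu'
    rw [hVeq, hφs]
    exact ⟨hu'.2, e₂ hu'.1, by change f.base (i.base u) ∈ Y.basicOpen (σ h₀); rwa [hfi]⟩
  have hVU : X.basicOpen (h₀ * φ (σ h₀)) ≤ f ⁻¹ᵁ (Y.basicOpen (σ h₀)) := by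
    rw [hVeq, hφs]
    exact inf_le_right.trans inf_le_right
  refine ⟨Y.basicOpen (σ h₀), X.basicOpen (h₀ * φ (σ h₀)), hU₁.basicOpen _, hV₁.basicOpen _, hyU,
    hUV, hVU, m, fun j => X.presheaf.map (homOfLE (X.basicOpen_le (h₀ * φ (σ h₀)))).op (g j),
    ?_, ?_⟩
  · haveI := hV₁.isLocalization_basicOpen (h₀ * φ (σ h₀))
    have h1 := hét (h₀ * φ (σ h₀)) (Dvd.intro _ rfl) Γ(X, X.basicOpen (h₀ * φ (σ h₀)))
    have h2 := Groth.Agent.Lib.Seat18.SecChart.etale_eval₂Hom_of_isLocalization φ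
      (f.appLE (Y.basicOpen (σ h₀)) (X.basicOpen (h₀ * φ (σ h₀))) hVU).hom
      (Y.presheaf.map (homOfLE (Y.basicOpen_le (σ h₀))).op).hom
      (X.presheaf.map (homOfLE (X.basicOpen_le (h₀ * φ (σ h₀)))).op).hom
      ?_ (σ h₀) (hU₁.isLocalization_basicOpen (σ h₀)) g ?_
    · exact h2
    · rw [← CommRingCat.hom_comp, ← CommRingCat.hom_comp, Scheme.Hom.map_appLE,
        Scheme.Hom.appLE_map]
    · have h3 : (MvPolynomial.aeval g : MvPolynomial (Fin m) Γ(Y, U₁) →ₐ[Γ(Y, U₁)]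
          Γ(X, V₁)).toRingHom = MvPolynomial.eval₂Hom φ g := by
        apply MvPolynomial.ringHom_ext
        · intro r
          simp
          rfl
        · intro j
          simp
      rw [h3] at h1
      exact h1
  · intro j
    have h1 : X.presheaf.map (homOfLE (X.basicOpen_le (h₀ * φ (σ h₀)))).op ≫
        i.appLE (X.basicOpen (h₀ * φ (σ h₀))) (Y.basicOpen (σ h₀)) hUV =
        i.appLE V₁ U₁ e₂ ≫ Y.presheaf.map (homOfLE (Y.basicOpen_le (σ h₀))).op := by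
      rw [Scheme.Hom.map_appLE, Scheme.Hom.appLE_map]
    have h2 := congr($h1 (g j))
    rw [CommRingCat.comp_apply, CommRingCat.comp_apply] at h2
    rw [h2]
    change (Y.presheaf.map (homOfLE (Y.basicOpen_le (σ h₀))).op) (σ (g j)) = 0
    rw [hg0, map_zero]

end Groth.Agent.Lib.Seat18.SecChartSch
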