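import Mathlib
import Groth.Agent.Lib.Seat18SecChartSch
import Groth.Agent.Lib.Seat18ClosedChart

/-!
# Seat 18: étale local structure of a smooth closed subscheme of a smooth scheme (scheme level)

* `homOfVector_comp_map`, `isOpenImmersion_map`: affine-space plumbing.
* `isPullback_of_ker`: a closed subscheme of an affine open `U` cut out by the last `n` coordinates
  of a chart `U ⟶ 𝔸^{m+n}_S` is the pullback of the coordinate subspace.
* `exists_structure`: the chart for a smooth closed subscheme of a smooth `S`-scheme.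
-/

set_option autoImplicit false
set_option linter.style.haveILetI false
universe u

open AlgebraicGeometry CategoryTheory Limits MvPolynomial AffineSpace

namespace Groth.Agent.Lib.Seat18.ClosedChartSch

theorem homOfVector_comp_map {n : Type u} {X S T : Scheme.{u}} (g : X ⟶ S) (v : n → Γ(X, ⊤))
    (f : S ⟶ T) : homOfVector g v ≫ AffineSpace.map n f = homOfVector (g ≫ f) v := by
  refine AffineSpace.hom_ext ?_ (fun j => ?_)
  · rw [Category.assoc, map_over, homOfVector_over_assoc, homOfVector_over]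
  · rw [Scheme.Hom.comp_appTop, CommRingCat.comp_apply, map_appTop_coord, homOfVector_appTop_coord,
      homOfVector_appTop_coord]

theorem isOpenImmersion_map (n : Type u) {S T : Scheme.{u}} (f : S ⟶ T) [IsOpenImmersion f] :
    IsOpenImmersion (AffineSpace.map n f) :=
  MorphismProperty.of_isPullback (P := @IsOpenImmersion.{u}) (isPullback_map (n := n) f).flip inferInstance

theorem isPullback_of_ker {S X Y : Scheme.{u}} (pX : X ⟶ S) (pY : Y ⟶ S) (i : Y ⟶ X)
    [IsClosedImmersion i] (w : i ≫ pX = pY) (U : X.Opens) [IsAffine (U : Scheme.{u})] (m n : ℕ)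
    (v : ULift.{u} (Fin m ⊕ Fin n) → Γ((U : Scheme.{u}), ⊤))
    (hv0 : ∀ k : Fin n, (i ∣_ U).appTop (v ⟨Sum.inr k⟩) = 0)
    (hker : RingHom.ker (i ∣_ U).appTop.hom ≤
      Ideal.span (Set.range fun k : Fin n => v ⟨Sum.inr k⟩)) :
    IsPullback
      (homOfVector ((i ⁻¹ᵁ U).ι ≫ pY)
        (fun a : ULift.{u} (Fin m) => (i ∣_ U).appTop (v ⟨Sum.inl a.down⟩)))
      (i ∣_ U)
      (homOfVector (𝔸(ULift.{u} (Fin m); S) ↘ S)
        (fun j : ULift.{u} (Fin m ⊕ Fin n) =>
          Sum.elim (fun a => coord S (ULift.up a)) (fun _ => 0) j.down))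
      (homOfVector (U.ι ≫ pX) v) := by
  have hcomm : homOfVector ((i ⁻¹ᵁ U).ι ≫ pY)
        (fun a : ULift.{u} (Fin m) => (i ∣_ U).appTop (v ⟨Sum.inl a.down⟩)) ≫
      homOfVector (𝔸(ULift.{u} (Fin m); S) ↘ S)
        (fun j : ULift.{u} (Fin m ⊕ Fin n) =>
          Sum.elim (fun a => coord S (ULift.up a)) (fun _ => 0) j.down) =
      (i ∣_ U) ≫ homOfVector (U.ι ≫ pX) v := by
    refine AffineSpace.hom_ext ?_ (fun j => ?_)
    · rw [Category.assoc, homOfVector_over, homOfVector_over, Category.assoc, homOfVector_over,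
        morphismRestrict_ι_assoc, w]
    · obtain ⟨j⟩ := j
      rw [Scheme.Hom.comp_appTop, CommRingCat.comp_apply, homOfVector_appTop_coord,
        Scheme.Hom.comp_appTop, CommRingCat.comp_apply, homOfVector_appTop_coord]
      rcases j with a | k
      · simp only [Sum.elim_inl]
        rw [homOfVector_appTop_coord]
      · simp only [Sum.elim_inr]
        rw [map_zero, hv0]
  haveI : IsClosedImmersion (i ∣_ U) := inferInstance
  -- the kernel condition for a cone
  have hH : ∀ (T : Scheme.{u}) (a : T ⟶ 𝔸(ULift.{u} (Fin m); S)) (c : T ⟶ (U : Scheme.{u})),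
      a ≫ homOfVector (𝔸(ULift.{u} (Fin m); S) ↘ S)
        (fun j : ULift.{u} (Fin m ⊕ Fin n) =>
          Sum.elim (fun a => coord S (ULift.up a)) (fun _ => 0) j.down) =
        c ≫ homOfVector (U.ι ≫ pX) v → (i ∣_ U).ker ≤ c.ker := by
    intro T a c hac
    rw [Scheme.ker_of_isAffine, Scheme.ker_of_isAffine]
    refine Scheme.IdealSheafData.le_of_isAffine ?_
    simp only [Scheme.IdealSheafData.ofIdealTop_ideal]
    refine Ideal.map_mono ?_
    refine hker.trans ?_
    rw [Ideal.span_le]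
    rintro _ ⟨k, rfl⟩
    have h1 := congr($(hac).appTop (coord S ⟨Sum.inr k⟩))
    rw [Scheme.Hom.comp_appTop, CommRingCat.comp_apply, homOfVector_appTop_coord,
      Scheme.Hom.comp_appTop, CommRingCat.comp_apply, homOfVector_appTop_coord] at h1
    simp only [Sum.elim_inr, map_zero] at h1
    exact h1.symm
  refine ⟨⟨hcomm⟩, ⟨PullbackCone.IsLimit.mk _
    (fun s => IsClosedImmersion.lift (i ∣_ U) s.snd (hH _ s.fst s.snd s.condition))
    (fun s => ?_) (fun s => IsClosedImmersion.lift_fac _ _ _) (fun s l _ h2 => ?_)⟩⟩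
  · refine AffineSpace.hom_ext ?_ (fun j => ?_)
    · have h1 := congr($(s.condition) ≫ 𝔸(ULift.{u} (Fin m ⊕ Fin n); S) ↘ S)
      rw [Category.assoc, homOfVector_over, Category.assoc, homOfVector_over] at h1
      rw [Category.assoc, homOfVector_over, h1, ← w, ← morphismRestrict_ι_assoc,
        IsClosedImmersion.lift_fac_assoc]
    · have h1 := congr($(s.condition).appTop (coord S ⟨Sum.inl j.down⟩))
      rw [Scheme.Hom.comp_appTop, CommRingCat.comp_apply, homOfVector_appTop_coord,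
        Scheme.Hom.comp_appTop, CommRingCat.comp_apply, homOfVector_appTop_coord] at h1
      simp only [Sum.elim_inl] at h1
      rw [Scheme.Hom.comp_appTop, CommRingCat.comp_apply, homOfVector_appTop_coord, h1,
        ← CommRingCat.comp_apply, ← Scheme.Hom.comp_appTop, IsClosedImmersion.lift_fac]
  · rw [← cancel_mono (i ∣_ U), IsClosedImmersion.lift_fac]
    exact h2

/-- Étaleness of a chart `U ⟶ 𝔸(σ; S)` over an affine open `W` of `S` from the ring map
`Γ(S, W)[σ] → Γ(X, U)`. -/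
theorem etale_homOfVector_of_appLE {X S : Scheme.{u}} (p : X ⟶ S) (W : S.Opens) (U : X.Opens)
    (hW : IsAffineOpen W) (hU : IsAffineOpen U) (e : U ≤ p ⁻¹ᵁ W) {σ : Type} (t : σ → Γ(X, U))
    (h : (MvPolynomial.eval₂Hom (p.appLE W U e).hom t).Etale) :
    Etale (homOfVector (U.ι ≫ p) (fun j : ULift.{u} σ => U.topIso.inv (t j.down))) := by
  have h1 : U.ι ≫ p = p.resLE W U e ≫ W.ι := (Scheme.Hom.resLE_comp_ι p e).symm
  rw [h1, ← homOfVector_comp_map]
  haveI := isOpenImmersion_map (ULift.{u} σ) W.ι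
  haveI : IsAffine (U : Scheme.{u}) := hU
  haveI : IsAffine (W : Scheme.{u}) := hW
  have happ : (p.resLE W U e).appTop = W.topIso.hom ≫ p.appLE W U e ≫ U.topIso.inv :=
    Scheme.Hom.resLE_app_top p e
  haveI : Etale (homOfVector (p.resLE W U e) (fun j : ULift.{u} σ => U.topIso.inv (t j.down))) := by
    apply Groth.Agent.Lib.Seat18.SecChartSch.etale_homOfVector_of_isAffine
    have h2 : MvPolynomial.eval₂Hom (p.resLE W U e).appTop.hom
        (fun j : ULift.{u} σ => U.topIso.inv (t j.down)) =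
        U.topIso.inv.hom.comp ((MvPolynomial.eval₂Hom (p.appLE W U e).hom t).comp
          ((MvPolynomial.rename ULift.down :
              MvPolynomial (ULift.{u} σ) Γ(S, W) →ₐ[Γ(S, W)] MvPolynomial σ Γ(S, W)).toRingHom.comp
            (MvPolynomial.map W.topIso.hom.hom))) := by
      apply MvPolynomial.ringHom_ext
      · intro r
        simp only [RingHom.comp_apply, MvPolynomial.coe_eval₂Hom, MvPolynomial.eval₂_C,
          AlgHom.toRingHom_eq_coe, RingHom.coe_coe, MvPolynomial.map_C, MvPolynomial.rename_C]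
        rw [happ]
        rfl
      · intro j
        simp only [RingHom.comp_apply, MvPolynomial.coe_eval₂Hom, MvPolynomial.eval₂_X,
          AlgHom.toRingHom_eq_coe, RingHom.coe_coe, MvPolynomial.map_X, MvPolynomial.rename_X]
    rw [h2]
    refine RingHom.Etale.stableUnderComposition _ _ ?_ (RingHom.Etale.of_bijective
      (ConcreteCategory.bijective_of_isIso U.topIso.inv))
    refine RingHom.Etale.stableUnderComposition _ _ ?_ h
    refine RingHom.Etale.of_bijective ?_
    rw [RingHom.coe_comp]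
    refine Function.Bijective.comp ?_ ?_
    · exact ⟨MvPolynomial.rename_injective _ ULift.down_injective,
        MvPolynomial.rename_surjective _ ULift.down_surjective⟩
    · exact ⟨MvPolynomial.map_injective _ (ConcreteCategory.bijective_of_isIso W.topIso.hom).1,
        MvPolynomial.map_surjective _ (ConcreteCategory.bijective_of_isIso W.topIso.hom).2⟩
  infer_instance

theorem morphismRestrict_appTop_eq {X Y : Scheme.{u}} (i : Y ⟶ X) (U : X.Opens) :
    (i ∣_ U).appTop = U.topIso.hom ≫ i.app U ≫ (i ⁻¹ᵁ U).topIso.inv := by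
  have h1 : i ∣_ U = i.resLE U (i ⁻¹ᵁ U) le_rfl :=
    (Scheme.Hom.resLE_eq_morphismRestrict (f := i) (U := U)).symm
  rw [h1]
  have h2 := Scheme.Hom.resLE_app_top i (U := U) (V := i ⁻¹ᵁ U) le_rfl
  rw [Scheme.Hom.appLE_eq_app] at h2
  exact h2

theorem exists_structure {S X Y : Scheme.{u}} (pX : X ⟶ S) [Smooth pX]
    (i : Y ⟶ X) [IsClosedImmersion i] [Smooth (i ≫ pX)] (y : Y) :
    ∃ (U : X.Opens) (_ : IsAffineOpen U) (m n : ℕ)
      (v : ULift.{u} (Fin m ⊕ Fin n) → Γ((U : Scheme.{u}), ⊤)),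
      i y ∈ U ∧ Etale (homOfVector (U.ι ≫ pX) v) ∧
      (∀ k : Fin n, (i ∣_ U).appTop (v ⟨Sum.inr k⟩) = 0) ∧
      RingHom.ker (i ∣_ U).appTop.hom ≤ Ideal.span (Set.range fun k : Fin n => v ⟨Sum.inr k⟩) := by
  classical
  obtain ⟨W, hW, hsW, -⟩ :=
    exists_isAffineOpen_mem_and_subset (X := S) (x := pX (i y)) (U := ⊤) trivial
  obtain ⟨V₀, hV₀, hxV₀, hV₀W'⟩ := exists_isAffineOpen_mem_and_subset (X := X) (x := i y)
    (U := pX ⁻¹ᵁ W) hsW
  have hV₀W : V₀ ≤ pX ⁻¹ᵁ W := hV₀W'
  clear hV₀W'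
  have hVY : IsAffineOpen (i ⁻¹ᵁ V₀) := hV₀.preimage i
  have hVYW : i ⁻¹ᵁ V₀ ≤ (i ≫ pX) ⁻¹ᵁ W := fun z hz => hV₀W hz
  letI : Algebra Γ(S, W) Γ(X, V₀) := (pX.appLE W V₀ hV₀W).hom.toAlgebra
  letI : Algebra Γ(S, W) Γ(Y, i ⁻¹ᵁ V₀) := ((i ≫ pX).appLE W (i ⁻¹ᵁ V₀) hVYW).hom.toAlgebra
  haveI : Algebra.Smooth Γ(S, W) Γ(X, V₀) := pX.smooth_appLE hW hV₀ hV₀W
  haveI : Algebra.Smooth Γ(S, W) Γ(Y, i ⁻¹ᵁ V₀) := (i ≫ pX).smooth_appLE hW hVY hVYW
  let ι : Γ(X, V₀) →ₐ[Γ(S, W)] Γ(Y, i ⁻¹ᵁ V₀) :=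
    { (i.app V₀).hom with
      commutes' := fun a => by
        change (pX.appLE W V₀ hV₀W ≫ i.app V₀) a = (i ≫ pX).appLE W (i ⁻¹ᵁ V₀) hVYW a
        rw [Scheme.Hom.app_eq_appLE, Scheme.Hom.appLE_comp_appLE] }
  have hιsurj : Function.Surjective ι := i.app_surjective V₀ hV₀
  have hJfg : (RingHom.ker ι.toRingHom).FG :=
    Algebra.FinitePresentation.ker_fG_of_surjective ι hιsurj
  haveI : Algebra.Smooth Γ(S, W) (Γ(X, V₀) ⧸ RingHom.ker ι.toRingHom) :=
    Algebra.Smooth.of_equiv (Ideal.quotientKerAlgEquivOfSurjective hιsurj).symm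
  have hJq : RingHom.ker ι.toRingHom ≤ (hV₀.primeIdealOf ⟨i y, hxV₀⟩).asIdeal := by
    intro x hx
    by_contra hxq
    have h1 : i y ∈ X.basicOpen x :=
      (Groth.Agent.Lib.Seat18.SecChartSch.mem_basicOpen_iff_notMem_primeIdealOf hV₀ _ hxV₀ x).mpr hxq
    have h2 : y ∈ i ⁻¹ᵁ X.basicOpen x := h1
    rw [Scheme.preimage_basicOpen] at h2
    have h3 : (i.app V₀) x = 0 := hx
    rw [h3, Scheme.basicOpen_zero] at h2
    exact h2
  haveI : Algebra.IsSmoothAt Γ(S, W) (hV₀.primeIdealOf ⟨i y, hxV₀⟩).asIdeal := inferInstance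
  obtain ⟨m, n, b, g, f, hfq, hgJ, hf⟩ :=
    Groth.Agent.Lib.Seat18.ClosedChart.exists_chart_of_smooth_quotient Γ(S, W)
      (RingHom.ker ι.toRingHom) hJfg (hV₀.primeIdealOf ⟨i y, hxV₀⟩).asIdeal hJq
  have hU : IsAffineOpen (X.basicOpen f) := hV₀.basicOpen f
  haveI := hV₀.isLocalization_basicOpen f
  obtain ⟨hét, hJmap⟩ := hf f dvd_rfl Γ(X, X.basicOpen f)
  have hxU : i y ∈ X.basicOpen f :=
    (Groth.Agent.Lib.Seat18.SecChartSch.mem_basicOpen_iff_notMem_primeIdealOf hV₀ _ hxV₀ f).mpr hfq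
  refine ⟨X.basicOpen f, hU, m, n,
    fun j => (X.basicOpen f).topIso.inv
      (X.presheaf.map (homOfLE (X.basicOpen_le f)).op (Sum.elim b g j.down)), hxU, ?_, ?_, ?_⟩
  · have e : X.basicOpen f ≤ pX ⁻¹ᵁ W := (X.basicOpen_le f).trans hV₀W
    refine etale_homOfVector_of_appLE pX W (X.basicOpen f) hW hU e
      (fun j : Fin m ⊕ Fin n => X.presheaf.map (homOfLE (X.basicOpen_le f)).op (Sum.elim b g j)) ?_
    have h3 : MvPolynomial.eval₂Hom (pX.appLE W (X.basicOpen f) e).hom
        (fun j : Fin m ⊕ Fin n => X.presheaf.map (homOfLE (X.basicOpen_le f)).op (Sum.elim b g j)) =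
        (algebraMap Γ(X, V₀) Γ(X, X.basicOpen f)).comp
          (MvPolynomial.aeval (Sum.elim b g) :
            MvPolynomial (Fin m ⊕ Fin n) Γ(S, W) →ₐ[Γ(S, W)] Γ(X, V₀)).toRingHom := by
      apply MvPolynomial.ringHom_ext
      · intro r
        simp only [RingHom.comp_apply, MvPolynomial.coe_eval₂Hom, MvPolynomial.eval₂_C,
          AlgHom.toRingHom_eq_coe, RingHom.coe_coe, MvPolynomial.aeval_C]
        have h4 := Scheme.Hom.appLE_map pX hV₀W (homOfLE (X.basicOpen_le f)).op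
        exact (congr($h4 r)).symm
      · intro j
        simp only [RingHom.comp_apply, MvPolynomial.coe_eval₂Hom, MvPolynomial.eval₂_X,
          AlgHom.toRingHom_eq_coe, RingHom.coe_coe, MvPolynomial.aeval_X]
        rfl
    rw [h3]
    exact hét
  · intro k
    have h2 : (i.app V₀) (g k) = 0 := hgJ k
    have key : (i.app (X.basicOpen f))
        (X.presheaf.map (homOfLE (X.basicOpen_le f)).op (g k)) = 0 := by
      rw [← CommRingCat.comp_apply, Scheme.Hom.naturality, CommRingCat.comp_apply, h2, map_zero]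
    have h1 : (X.basicOpen f).topIso.hom ((X.basicOpen f).topIso.inv
        (X.presheaf.map (homOfLE (X.basicOpen_le f)).op (g k))) =
        X.presheaf.map (homOfLE (X.basicOpen_le f)).op (g k) := by
      rw [← CommRingCat.comp_apply, Iso.inv_hom_id]
      rfl
    rw [morphismRestrict_appTop_eq]
    change (i ⁻¹ᵁ X.basicOpen f).topIso.inv ((i.app (X.basicOpen f))
      ((X.basicOpen f).topIso.hom ((X.basicOpen f).topIso.inv
        (X.presheaf.map (homOfLE (X.basicOpen_le f)).op (g k))))) = 0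
    rw [h1, key, map_zero]
  · intro x hx
    -- transport to `Γ(X, U)`
    have hx' : (X.basicOpen f).topIso.hom x ∈ RingHom.ker (i.app (X.basicOpen f)).hom := by
      rw [RingHom.mem_ker]
      have h0 : (i ∣_ X.basicOpen f).appTop x = 0 := hx
      rw [morphismRestrict_appTop_eq] at h0
      have h1 : (i ⁻¹ᵁ X.basicOpen f).topIso.inv ((i.app (X.basicOpen f))
          ((X.basicOpen f).topIso.hom x)) = 0 := h0
      have hinj := (ConcreteCategory.bijective_of_isIso (i ⁻¹ᵁ X.basicOpen f).topIso.inv).1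
      exact hinj (h1.trans (map_zero _).symm)
    have hk1 : RingHom.ker (i.app (X.basicOpen f)).hom =
        i.ker.ideal (X.affineBasicOpen (U := ⟨V₀, hV₀⟩) f) :=
      (Scheme.Hom.ker_apply i (X.affineBasicOpen (U := ⟨V₀, hV₀⟩) f)).symm
    have hk2 := i.ker.map_ideal_basicOpen ⟨V₀, hV₀⟩ f
    have hk3 : i.ker.ideal ⟨V₀, hV₀⟩ = RingHom.ker ι.toRingHom :=
      Scheme.Hom.ker_apply i ⟨V₀, hV₀⟩
    rw [hk1, ← hk2, hk3] at hx'
    have hx'' : (X.basicOpen f).topIso.hom x ∈
        Ideal.span (Set.range fun k => (algebraMap Γ(X, V₀) Γ(X, X.basicOpen f)) (g k)) := by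
      rw [← hJmap]
      exact hx'
    have h5 : x = (X.basicOpen f).topIso.inv ((X.basicOpen f).topIso.hom x) := by
      rw [← CommRingCat.comp_apply, Iso.hom_inv_id]
      rfl
    rw [h5]
    have h6 := Ideal.mem_map_of_mem (X.basicOpen f).topIso.inv.hom hx''
    rw [Ideal.map_span, ← Set.range_comp] at h6
    exact h6

end Groth.Agent.Lib.Seat18.ClosedChartSch
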