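import Mathlib
import Groth.Agent.Lib.Helper20EtLocalSch
import Groth.Agent.Lib.Helper6SmRegSch
import Groth.Agent.Lib.Helper28Catenary
import Groth.Agent.Lib.Helper10CurveFlat
import Groth.Agent.Lib.Helper4FibDimL
import Groth.Agent.Lib.Helper6LfpComp

/-!
# Seat 18: pointwise criterion for a map of smooth curves over an algebraically closed field
to be étale

Uses prior libraries: `Helper20EtLocalSch` (étale neighbourhood from stalk conditions),
`Helper6SmRegSch` (stalks of smooth schemes over a field are regular), `Helper28Catenary`
(regular local rings are integrally closed), `Helper10CurveFlat` (Dedekind stalks, flatness),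
`Helper4FibDimL` (`dim X = sup dim 𝒪_{X,x}`).
-/

universe u

open AlgebraicGeometry CategoryTheory IsLocalRing TopologicalSpace

namespace Groth.Agent.Lib.Seat18.CurveEtale

/-- In an integral scheme of dimension one, the local ring at a closed point is not a field. -/
theorem not_isField_stalk_of_isClosed {X : Scheme.{u}} [IsIntegral X]
    (hdX : topologicalKrullDim X = 1) (x : X) (hx : IsClosed ({x} : Set X)) :
    ¬ IsField (X.presheaf.stalk x) := by
  intro hF
  have h0 : ringKrullDim (X.presheaf.stalk x) = 0 := ringKrullDim_eq_zero_of_isField hF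
  rw [ringKrullDim_stalk_eq_coheight] at h0
  have hmax : IsMax x := by
    have : Order.coheight x = 0 := by exact_mod_cast h0
    exact Order.coheight_eq_zero.mp this
  have hxη : genericPoint X ⤳ x := genericPoint_specializes x
  have hηx : x ⤳ genericPoint X := hmax (show x ≤ genericPoint X from hxη)
  have heq : genericPoint X = x := (hxη.antisymm hηx).eq
  have hall : ∀ z : X, z = x := by
    intro z
    have hz : x ⤳ z := heq ▸ genericPoint_specializes z
    have : z ∈ closure ({x} : Set X) := hz.mem_closure
    rw [hx.closure_eq] at this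
    exact this
  have hdim : topologicalKrullDim X = 0 := by
    rw [Groth.Agent.Lib.Helper4.FibDim.topologicalKrullDim_eq_iSup_ringKrullDim_stalk]
    have : ∀ z : X, ringKrullDim (X.presheaf.stalk z) = 0 := by
      intro z
      rw [hall z]
      exact ringKrullDim_eq_zero_of_isField hF
    simp only [this]
    have : Nonempty X := ⟨x⟩
    exact ciSup_const
  rw [hdim] at hdX
  exact zero_ne_one hdX

open Groth.Agent.Lib.Helper20.EtLocal in
/-- Pointwise criterion for étaleness of a map of smooth curves over an algebraically closed
field. -/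
theorem etale_nbhd_iff (k : Type u) [Field k] [IsAlgClosed k] {X Y : Scheme.{u}}
    (pX : X ⟶ Spec (CommRingCat.of k)) (pY : Y ⟶ Spec (CommRingCat.of k)) (φ : X ⟶ Y)
    (w : φ ≫ pY = pX)
    [IsIntegral X] [Smooth pX] (hdX : topologicalKrullDim X = 1)
    [IsIntegral Y] [Smooth pY] (hdY : topologicalKrullDim Y = 1)
    (x : X) (hx : IsClosed ({x} : Set X)) :
    (∃ U : X.Opens, x ∈ U ∧ Etale (U.ι ≫ φ)) ↔
      Ideal.map (φ.stalkMap x).hom (IsLocalRing.maximalIdeal (Y.presheaf.stalk (φ.base x))) =
        IsLocalRing.maximalIdeal (X.presheaf.stalk x) := by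
  have hlftc : LocallyOfFiniteType (φ ≫ pY) := by rw [w]; infer_instance
  have hlft : LocallyOfFiniteType φ := locallyOfFiniteType_of_comp φ pY
  have hlfp : LocallyOfFinitePresentation φ :=
    Groth.Agent.Lib.Helper6.locallyOfFinitePresentation_of_comp (g := pY) inferInstance
      (by rw [w]; infer_instance)
  algebraize [(φ.stalkMap x).hom]
  have hess : Algebra.EssFiniteType (Y.presheaf.stalk (φ x)) (X.presheaf.stalk x) := by
    rw [← RingHom.essFiniteType_algebraMap, RingHom.algebraMap_toAlgebra]
    exact LocallyOfFiniteType.stalkMap φ x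
  have hloc : IsLocalHom (algebraMap (Y.presheaf.stalk (φ x)) (X.presheaf.stalk x)) :=
    inferInstanceAs <| IsLocalHom (φ.stalkMap x).hom
  constructor
  · rintro ⟨U, hxU, hU⟩
    have h1 := formallyUnramified_stalkMap_of_nbhd φ x U hxU
    have : Algebra.FormallyUnramified (Y.presheaf.stalk (φ x)) (X.presheaf.stalk x) := by
      rw [← RingHom.formallyUnramified_algebraMap, RingHom.algebraMap_toAlgebra]
      exact h1
    exact Algebra.FormallyUnramified.map_maximalIdeal
  · intro hm
    -- the residue field extension is trivial
    have hsurj : Function.Surjective (φ.residueFieldMap x).hom := by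
      intro a
      let iX := residueFieldIsoBase pX x hx
      let g : CommRingCat.of k ⟶ Y.residueField (φ x) :=
        Spec.preimage (Y.fromSpecResidueField (φ x) ≫ pY)
      have hg : iX.inv = g ≫ φ.residueFieldMap x := by
        apply Spec.map_injective
        rw [SpecMap_residueFieldIsoBase_inv, Spec.map_comp, Spec.map_preimage,
          Scheme.Hom.SpecMap_residueFieldMap_fromSpecResidueField_assoc, w]
      refine ⟨g.hom (iX.hom.hom a), ?_⟩
      have : (g ≫ φ.residueFieldMap x).hom (iX.hom.hom a) = a := by
        rw [← hg]
        change (iX.hom ≫ iX.inv).hom a = a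
        rw [Iso.hom_inv_id]
        rfl
      exact this
    have hsep : Algebra.IsSeparable (ResidueField (Y.presheaf.stalk (φ x)))
        (ResidueField (X.presheaf.stalk x)) := by
      refine ⟨fun a => ?_⟩
      obtain ⟨b, rfl⟩ := hsurj a
      exact isSeparable_algebraMap (F := ResidueField (Y.presheaf.stalk (φ x)))
        (K := ResidueField (X.presheaf.stalk x)) b
    have hunr : Algebra.FormallyUnramified (Y.presheaf.stalk (φ x)) (X.presheaf.stalk x) :=
      Algebra.FormallyUnramified.of_map_maximalIdeal hm
    have H1 : (φ.stalkMap x).hom.FormallyUnramified := by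
      have := hunr
      rwa [← RingHom.formallyUnramified_algebraMap, RingHom.algebraMap_toAlgebra] at this
    -- flatness
    have hreg : IsRegularLocalRing (Y.presheaf.stalk (φ x)) :=
      Groth.Agent.Lib.Helper6.SmRegSch.isRegularLocalRing_stalk_of_smooth_over_field k Y pY (φ x)
    have hicl : IsIntegrallyClosed (Y.presheaf.stalk (φ x)) :=
      Groth.Agent.Lib.Helper28.isIntegrallyClosed_of_isRegularLocalRing _
    have : IsLocallyNoetherian Y := LocallyOfFiniteType.isLocallyNoetherian pY
    have hded : IsDedekindDomain (Y.presheaf.stalk (φ x)) :=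
      Groth.Agent.Lib.Helper10.CurveFlat.isDedekindDomain_stalk Y hdY.le (φ x) hicl
    have hinj : Function.Injective (φ.stalkMap x).hom := by
      rw [RingHom.injective_iff_ker_eq_bot]
      by_contra hker
      have hprime : (RingHom.ker (φ.stalkMap x).hom).IsPrime := RingHom.ker_isPrime _
      have hmax : (RingHom.ker (φ.stalkMap x).hom).IsMaximal := hprime.isMaximal hker
      have heq : RingHom.ker (φ.stalkMap x).hom = maximalIdeal _ := eq_maximalIdeal hmax
      have hbot : Ideal.map (φ.stalkMap x).hom (maximalIdeal (Y.presheaf.stalk (φ x))) = ⊥ := by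
        rw [← heq]
        exact (Ideal.map_eq_bot_iff_le_ker _).mpr le_rfl
      rw [hm] at hbot
      exact not_isField_stalk_of_isClosed hdX x hx (isField_iff_maximalIdeal_eq.mpr hbot)
    have H2 : (φ.stalkMap x).hom.Flat :=
      Groth.Agent.Lib.Helper10.CurveFlat.flat_of_injective_of_isDedekindDomain _ hinj
    exact exists_etale_nbhd φ x H1 H2

end Groth.Agent.Lib.Seat18.CurveEtale
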