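import Mathlib
import Groth.Agent.Lib.Helper4DimFormulaW
import Groth.Agent.Lib.Helper10RedInd

/-!
# Lifting integral curves along surjective morphisms of proper schemes over a field (seat 18)
-/

set_option linter.style.haveILetI false
set_option autoImplicit false

universe u
open CategoryTheory CategoryTheory.Limits AlgebraicGeometry TopologicalSpace

namespace Groth.Agent.Lib.Seat18.CurveOnto

open Groth.Agent.Lib.Helper4.VarDim Groth.Agent.Lib.Helper4.DimFormula

/-- The reduced induced structure on the closure of a point is integral. -/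
theorem isIntegral_vanishingIdeal_closure (Y : Scheme.{u}) (η : Y) :
    IsIntegral (Scheme.IdealSheafData.vanishingIdeal
      ⟨closure ({η} : Set Y), isClosed_closure⟩).subscheme := by
  let Z : Closeds Y := ⟨closure ({η} : Set Y), isClosed_closure⟩
  haveI : IsReduced (Scheme.IdealSheafData.vanishingIdeal Z).subscheme :=
    Groth.Agent.Lib.Helper10.RedInd.isReduced_subscheme_vanishingIdeal Z
  have hirr : IsIrreducible (closure ({η} : Set Y)) := isIrreducible_singleton.closure
  have hrange : Set.range (Scheme.IdealSheafData.vanishingIdeal Z).subschemeι =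
      closure ({η} : Set Y) := by
    rw [Scheme.IdealSheafData.range_subschemeι, Scheme.IdealSheafData.coe_support_vanishingIdeal]
    rfl
  haveI : IrreducibleSpace (closure ({η} : Set Y)) := Subtype.irreducibleSpace hirr
  let e : (Scheme.IdealSheafData.vanishingIdeal Z).subscheme ≃ₜ closure ({η} : Set Y) :=
    ((Scheme.IdealSheafData.vanishingIdeal Z).subschemeι.isEmbedding.toHomeomorph).trans
      (Homeomorph.setCongr hrange)
  haveI : IrreducibleSpace (Scheme.IdealSheafData.vanishingIdeal Z).subscheme :=
    e.symm.surjective.irreducibleSpace e.symm.continuous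
  exact isIntegral_of_irreducibleSpace_of_isReduced _

theorem main (k : Type u) [Field k] (X Y : Scheme.{u})
    [X.Over (Spec (CommRingCat.of k))] [IsProper (X ↘ (Spec (CommRingCat.of k)))]
    [Y.Over (Spec (CommRingCat.of k))] [IsProper (Y ↘ (Spec (CommRingCat.of k)))]
    (f : Y ⟶ X) (hf : f ≫ (X ↘ (Spec (CommRingCat.of k))) = Y ↘ (Spec (CommRingCat.of k)))
    [Surjective f]
    (C : X.IdealSheafData) [IsIntegral C.subscheme]
    (hC : topologicalKrullDim (C.support : Set X) = 1) :
    ∃ C' : Y.IdealSheafData, IsIntegral C'.subscheme ∧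
      topologicalKrullDim (C'.support : Set Y) = 1 ∧
      f.base '' (C'.support : Set Y) = (C.support : Set X) := by
  haveI : IsProper (f ≫ (X ↘ (Spec (CommRingCat.of k)))) := by rw [hf]; infer_instance
  haveI : IsProper f := IsProper.of_comp f (X ↘ (Spec (CommRingCat.of k)))
  -- a point over the generic point of `C`
  obtain ⟨y0, hy0⟩ := f.surjective (C.subschemeι (genericPoint C.subscheme))
  have hξ : closure ({f y0} : Set X) = (C.support : Set X) := by
    rw [hy0]
    have h1 : closure ({genericPoint C.subscheme} : Set C.subscheme) = Set.univ :=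
      (genericPoint_spec C.subscheme).def
    have h2 := C.subschemeι.isClosedEmbedding.isClosedMap.closure_image_eq_of_continuous
      C.subschemeι.continuous ({genericPoint C.subscheme} : Set C.subscheme)
    rw [Set.image_singleton] at h2
    rw [h2, h1, Set.image_univ, Scheme.IdealSheafData.range_subschemeι]
  -- a closed point of the fibre
  haveI : Nonempty (f.fiber (f y0)) := ⟨f.asFiber y0⟩
  obtain ⟨z, -, hz⟩ := IsClosed.exists_closed_singleton (X := f.fiber (f y0)) isClosed_univ
    Set.univ_nonempty
  let η : Y := f.fiberι (f y0) z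
  have hη : f η = f y0 := by
    have : η ∈ Set.range (f.fiberι (f y0)) := ⟨z, rfl⟩
    rw [f.range_fiberι] at this
    exact this
  letI : (f.fiber (f y0)).Over (Spec (CommRingCat.of (X.residueField (f y0)))) :=
    ⟨f.fiberToSpecResidueField (f y0)⟩
  haveI : LocallyOfFiniteType ((f.fiber (f y0)) ↘
      Spec (CommRingCat.of (X.residueField (f y0)))) :=
    locallyOfFiniteType_fiberToSpecResidueField f _
  have h0 : trdegNat (X.residueField (f y0)) (f.fiber (f y0)) z = 0 :=
    trdegNat_eq_of_trdeg_eq _ _ z 0 (by
      rw [trdeg_eq_zero_of_isClosed (X.residueField (f y0)) (f.fiber (f y0)) _ hz]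
      simp)
  have h1 := trdegNat_eq_add_fiber k f hf (f y0) z η rfl
  rw [h0, add_zero, hη] at h1
  have hdimη : topologicalKrullDim (closure ({η} : Set Y)) = 1 := by
    rw [topologicalKrullDim_closure_singleton k Y η, h1,
      ← topologicalKrullDim_closure_singleton k X (f y0), hξ]
    exact hC
  refine ⟨Scheme.IdealSheafData.vanishingIdeal ⟨closure ({η} : Set Y), isClosed_closure⟩,
    isIntegral_vanishingIdeal_closure Y η, ?_, ?_⟩
  · rw [Scheme.IdealSheafData.coe_support_vanishingIdeal]
    exact hdimη
  · rw [Scheme.IdealSheafData.coe_support_vanishingIdeal]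
    show f '' closure ({η} : Set Y) = _
    rw [← f.isClosedMap.closure_image_eq_of_continuous f.continuous, Set.image_singleton, hη, hξ]

end Groth.Agent.Lib.Seat18.CurveOnto
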