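import Mathlib.AlgebraicGeometry.FunctionField
import Mathlib.AlgebraicGeometry.Noetherian
import Mathlib.AlgebraicGeometry.Morphisms.Separated
import Mathlib.AlgebraicGeometry.Stalk
import Mathlib.RingTheory.DiscreteValuationRing.TFAE
import Mathlib.RingTheory.KrullDimension.Field
import Mathlib.RingTheory.Valuation.ValuationSubring

/-!
# Local rings of codimension one points as valuation subrings of the function field (seat 35)

* `isDiscreteValuationRing_of_dim_one`: a Noetherian integrally closed local domain of Krull
  dimension one is a discrete valuation ring.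
* `valSubring A K`: a discrete valuation ring `A` with fraction field `K` as a `ValuationSubring K`.
* `eq_of_range_stalk_eq`: on an integral separated scheme, two points whose local rings have the same
  image in the function field are equal.
-/

set_option autoImplicit false
universe u

namespace Groth.Agent.Lib.Seat35.StalkDVR

open AlgebraicGeometry CategoryTheory IsLocalRing

section algebra

theorem isDiscreteValuationRing_of_dim_one (R : Type*) [CommRing R] [IsDomain R] [IsLocalRing R]
    [IsNoetherianRing R] [IsIntegrallyClosed R] (h : ringKrullDim R = 1) :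
    IsDiscreteValuationRing R := by
  have hnf : ¬ IsField R := fun hf => by
    rw [ringKrullDim_eq_zero_of_isField hf] at h
    exact zero_ne_one h
  have hdim : Ring.KrullDimLE 1 R := Ring.krullDimLE_iff.mpr h.le
  have hprime : ∀ P : Ideal R, P ≠ ⊥ → P.IsPrime → P = maximalIdeal R := fun P hP hPp =>
    IsLocalRing.eq_maximalIdeal (hPp.isMaximal_of_ne_bot hP)
  have h03 : IsPrincipalIdealRing R ↔ (IsIntegrallyClosed R ∧
      ∀ P : Ideal R, P ≠ ⊥ → P.IsPrime → P = maximalIdeal R) :=
    (tfae_of_isNoetherianRing_of_isLocalRing_of_isDomain R).out 0 3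
  have hpir : IsPrincipalIdealRing R := h03.mpr ⟨inferInstance, hprime⟩
  exact { not_a_field' := fun hm => hnf (IsLocalRing.isField_iff_maximalIdeal_eq.mpr hm) }

variable (A : Type*) (K : Type*) [CommRing A] [IsDomain A] [IsDiscreteValuationRing A] [Field K]
  [Algebra A K] [IsFractionRing A K]

/-- A discrete valuation ring with fraction field `K`, as a valuation subring of `K`. -/
noncomputable def valSubring : ValuationSubring K :=
  { (algebraMap A K).range with
    mem_or_inv_mem' := fun x => by
      rcases ValuationRing.isInteger_or_isInteger A x with ⟨a, ha⟩ | ⟨a, ha⟩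
      · exact Or.inl ⟨a, ha⟩
      · exact Or.inr ⟨a, ha⟩ }

theorem mem_valSubring (x : K) : x ∈ valSubring A K ↔ ∃ a : A, algebraMap A K a = x := Iff.rfl

/-- The ring isomorphism `A ≃+* valSubring A K`. -/
noncomputable def equivValSubring : A ≃+* valSubring A K :=
  RingEquiv.ofBijective
    ((algebraMap A K).codRestrict (valSubring A K).toSubring fun a => ⟨a, rfl⟩)
    ⟨fun a b hab => IsFractionRing.injective A K (congrArg Subtype.val hab),
      fun ⟨_, a, ha⟩ => ⟨a, Subtype.ext ha⟩⟩

@[simp] theorem coe_equivValSubring (a : A) : ((equivValSubring A K a : valSubring A K) : K) = algebraMap A K a :=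
  rfl

theorem isDiscreteValuationRing_valSubring : IsDiscreteValuationRing (valSubring A K) :=
  IsDiscreteValuationRing.RingEquivClass.isDiscreteValuationRing (equivValSubring A K)

end algebra

section geometry

variable (X : Scheme.{u}) [IsIntegral X]

/-- The canonical ring homomorphism from a stalk to the function field, as a morphism. -/
noncomputable abbrev stalkToFF (x : X) : X.presheaf.stalk x ⟶ X.functionField :=
  X.presheaf.stalkSpecializes ((genericPoint_spec X).specializes trivial)

theorem stalkToFF_hom (x : X) : (stalkToFF X x).hom = algebraMap (X.presheaf.stalk x) X.functionField :=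
  rfl

theorem isDominant_Spec_map_stalkToFF (x : X) : IsDominant (Spec.map (stalkToFF X x)) := by
  constructor
  show DenseRange (PrimeSpectrum.comap (stalkToFF X x).hom)
  rw [PrimeSpectrum.denseRange_comap_iff_ker_le_nilRadical, stalkToFF_hom,
    (RingHom.injective_iff_ker_eq_bot _).mp (IsFractionRing.injective _ _)]
  exact bot_le

theorem eq_of_range_stalk_eq [X.IsSeparated] (x y : X)
    (h : (algebraMap (X.presheaf.stalk x) X.functionField).range =
      (algebraMap (X.presheaf.stalk y) X.functionField).range) : x = y := by
  -- the induced isomorphism of the local rings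
  have hinjx : Function.Injective (algebraMap (X.presheaf.stalk x) X.functionField) :=
    IsFractionRing.injective _ _
  have hinjy : Function.Injective (algebraMap (X.presheaf.stalk y) X.functionField) :=
    IsFractionRing.injective _ _
  have hex : ∀ a : X.presheaf.stalk y, ∃ b : X.presheaf.stalk x,
      algebraMap (X.presheaf.stalk x) X.functionField b =
        algebraMap (X.presheaf.stalk y) X.functionField a := by
    intro a
    have : algebraMap (X.presheaf.stalk y) X.functionField a ∈
        (algebraMap (X.presheaf.stalk x) X.functionField).range := by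
      rw [h]; exact ⟨a, rfl⟩
    exact this
  choose g hg using hex
  have hex' : ∀ b : X.presheaf.stalk x, ∃ a : X.presheaf.stalk y, g a = b := by
    intro b
    have : algebraMap (X.presheaf.stalk x) X.functionField b ∈
        (algebraMap (X.presheaf.stalk y) X.functionField).range := by
      rw [← h]; exact ⟨b, rfl⟩
    obtain ⟨a, ha⟩ := this
    exact ⟨a, hinjx (by rw [hg, ha])⟩
  let G : X.presheaf.stalk y →+* X.presheaf.stalk x :=
    { toFun := g
      map_one' := hinjx (by rw [hg, map_one, map_one])
      map_mul' := fun a b => hinjx (by rw [hg, map_mul, map_mul, hg, hg])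
      map_zero' := hinjx (by rw [hg, map_zero, map_zero])
      map_add' := fun a b => hinjx (by rw [hg, map_add, map_add, hg, hg]) }
  have hGbij : Function.Bijective G :=
    ⟨fun a b hab => hinjy (by rw [← hg a, ← hg b]; exact congrArg _ hab), hex'⟩
  have hGloc : IsLocalHom G := by
    let e := RingEquiv.ofBijective G hGbij
    have : IsLocalHom (e : X.presheaf.stalk y →+* X.presheaf.stalk x) := inferInstance
    exact this
  let Gc : X.presheaf.stalk y ⟶ X.presheaf.stalk x := CommRingCat.ofHom G
  have hGφ : Gc ≫ stalkToFF X x = stalkToFF X y := by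
    ext a
    exact hg a
  -- the two morphisms `Spec O_x ⟶ X`
  let l₁ : Spec (X.presheaf.stalk x) ⟶ X := X.fromSpecStalk x
  let l₂ : Spec (X.presheaf.stalk x) ⟶ X := Spec.map Gc ≫ X.fromSpecStalk y
  have hdom := isDominant_Spec_map_stalkToFF X x
  have hsep : IsSeparated (Limits.terminal.from X) := Scheme.IsSeparated.isSeparated_terminal_from
  have hl : l₁ = l₂ := by
    refine ext_of_isDominant_of_isSeparated (Limits.terminal.from X) (Limits.terminal.hom_ext _ _)
      (Spec.map (stalkToFF X x)) ?_
    rw [Scheme.SpecMap_stalkSpecializes_fromSpecStalk]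
    show _ = Spec.map (stalkToFF X x) ≫ Spec.map Gc ≫ X.fromSpecStalk y
    rw [← Spec.map_comp_assoc, hGφ, Scheme.SpecMap_stalkSpecializes_fromSpecStalk]
  have h1 : l₁ (closedPoint (X.presheaf.stalk x)) = x := Scheme.fromSpecStalk_closedPoint
  have h2 : l₂ (closedPoint (X.presheaf.stalk x)) = y := by
    have hc : Spec.map Gc (closedPoint (X.presheaf.stalk x)) =
        closedPoint (X.presheaf.stalk y) := IsLocalRing.comap_closedPoint G
    have h3 : l₂ (closedPoint (X.presheaf.stalk x)) =
        X.fromSpecStalk y (Spec.map Gc (closedPoint (X.presheaf.stalk x))) := rfl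
    rw [h3, hc]
    exact Scheme.fromSpecStalk_closedPoint
  rw [← h1, hl, h2]

end geometry

end Groth.Agent.Lib.Seat35.StalkDVR
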