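import Mathlib
import Groth.Prelude.Def_CurvBase
import Groth.Agent.Lib.Seat18CurveEtale
import Groth.Agent.Lib.Helper6RegSm2
import Groth.Agent.Lib.Helper20SmoothDescSch
import Groth.Agent.Lib.Helper19ComplDVR
import Groth.Agent.Lib.Seat35StalkDVR

/-!
# Seat 18: smoothness of curves at closed points with separable residue field

* `mem_smoothLocus_of_isRegularLocalRing`: a closed-or-not point `x` of a scheme locally of finite
  presentation over a field `k`, with regular local ring and `κ(x)/k` separable, is a smooth point.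
* `isDiscreteValuationRing_iff_mem_smoothLocus` (S1556), `smooth_of_smooth_off` (S13844).
-/

universe u

open AlgebraicGeometry CategoryTheory IsLocalRing TopologicalSpace

namespace Groth.Agent.Lib.Seat18.CurveSmooth

attribute [local instance] Curv2.resAlgebra

/-- Regular local ring + separable residue field ⇒ smooth point. -/
theorem mem_smoothLocus_of_isRegularLocalRing (k : Type u) [Field k] (X : Scheme.{u})
    [X.Over (Spec (CommRingCat.of k))]
    [LocallyOfFinitePresentation (X ↘ (Spec (CommRingCat.of k)))] (x : X)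
    [Algebra.IsSeparable k (X.residueField x)]
    [IsRegularLocalRing (X.presheaf.stalk x)] :
    x ∈ (X ↘ (Spec (CommRingCat.of k))).smoothLocus := by
  set g := X ↘ (Spec (CommRingCat.of k)) with hg
  obtain ⟨W, hW, hxW, -⟩ := exists_isAffineOpen_mem_and_subset (X := X) (x := x)
    (U := ⊤) trivial
  have hU := isAffineOpen_top (Spec (CommRingCat.of k))
  have hWU : W ≤ g ⁻¹ᵁ ⊤ := le_top
  have hfp := g.finitePresentation_appLE hU hW hWU
  rw [Scheme.Hom.mem_smoothLocus, formallySmooth_stalkMap_iff ⊤ hU W hW hWU hxW]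
  let e₁ : k ≃+* Γ(Spec (CommRingCat.of k), ⊤) :=
    (Scheme.ΓSpecIso (CommRingCat.of k)).commRingCatIsoToRingEquiv.symm
  let _ : Field Γ(Spec (CommRingCat.of k), ⊤) :=
    (e₁.symm.toMulEquiv.isField (Field.toIsField k)).toField
  algebraize [(g.appLE ⊤ W hWU).hom]
  set q' : Ideal Γ(X, W) := (hW.primeIdealOf ⟨x, hxW⟩).asIdeal with hq'
  let _ := X.presheaf.algebra_section_stalk ⟨x, hxW⟩
  have := hW.isLocalization_stalk ⟨x, hxW⟩
  let e' : Localization.AtPrime q' ≃ₐ[Γ(X, W)] X.presheaf.stalk x :=
    IsLocalization.algEquiv q'.primeCompl (Localization.AtPrime q') (X.presheaf.stalk x)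
  have : IsRegularLocalRing (Localization.AtPrime q') :=
    IsRegularLocalRing.of_ringEquiv e'.toRingEquiv.symm
  -- the residue fields
  let e₂ : X.residueField x ≃+* q'.ResidueField :=
    (IsLocalRing.ResidueField.mapEquiv e'.toRingEquiv).symm
  have he : RingHom.comp (algebraMap Γ(Spec (CommRingCat.of k), ⊤) q'.ResidueField) ↑e₁ =
      RingHom.comp ↑e₂ (algebraMap k (X.residueField x)) := by
    ext c
    simp only [RingHom.comp_apply, RingHom.coe_coe]
    change _ = (IsLocalRing.ResidueField.mapEquiv e'.toRingEquiv).symm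
      (IsLocalRing.residue _ (Curv2.stalkMap k X x c))
    rw [RingEquiv.eq_symm_apply]
    have h1 : algebraMap Γ(Spec (CommRingCat.of k), ⊤) q'.ResidueField (e₁ c) =
        IsLocalRing.residue _ (algebraMap Γ(X, W) (Localization.AtPrime q')
          (algebraMap Γ(Spec (CommRingCat.of k), ⊤) Γ(X, W) (e₁ c))) := rfl
    have h2 : ∀ z, IsLocalRing.ResidueField.mapEquiv e'.toRingEquiv (IsLocalRing.residue _ z) =
        IsLocalRing.residue _ (e' z) := fun z => rfl
    rw [h1, h2, e'.commutes]
    congr 1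
    simp only [Curv2.stalkMap, Coh.toGlobal, RingHom.comp_apply]
    exact (TopCat.Presheaf.germ_res_apply X.presheaf (homOfLE (le_top : W ≤ ⊤)) x hxW _)
  have hsep : Algebra.IsSeparable Γ(Spec (CommRingCat.of k), ⊤) q'.ResidueField :=
    Algebra.IsSeparable.of_equiv_equiv e₁ e₂ he
  have : Algebra.FormallyEtale Γ(Spec (CommRingCat.of k), ⊤) q'.ResidueField :=
    Algebra.FormallyEtale.of_isSeparable _ _
  have : Algebra.FormallySmooth Γ(Spec (CommRingCat.of k), ⊤) q'.ResidueField := inferInstance
  exact Groth.Agent.Lib.Helper6.RegSm.isSmoothAt_of_isRegularLocalRing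
    Γ(Spec (CommRingCat.of k), ⊤) Γ(X, W) q'

/-- On an integral scheme of dimension one, locally Noetherian, the local ring at a closed
point has Krull dimension one. -/
theorem ringKrullDim_stalk_eq_one {X : Scheme.{u}} [IsIntegral X]
    (hdim : topologicalKrullDim X = 1) (x : X) (hx : IsClosed ({x} : Set X)) :
    ringKrullDim (X.presheaf.stalk x) = 1 := by
  have hle : ringKrullDim (X.presheaf.stalk x) ≤ 1 :=
    hdim ▸ Groth.Agent.Lib.Helper4.FibDim.ringKrullDim_stalk_le_topologicalKrullDim X x
  have hnf := Groth.Agent.Lib.Seat18.CurveEtale.not_isField_stalk_of_isClosed hdim x hx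
  have hn0 : ¬ ringKrullDim (X.presheaf.stalk x) ≤ 0 := fun h => by
    have : Ring.KrullDimLE 0 (X.presheaf.stalk x) := Ring.krullDimLE_iff.mpr h
    exact hnf Ring.KrullDimLE.isField_of_isDomain
  exact le_antisymm hle (Order.succ_le_of_lt (lt_of_not_ge hn0))

/-- S1556. -/
theorem isDiscreteValuationRing_iff_mem_smoothLocus (k : Type u) [Field k] (X : Scheme.{u})
    [X.Over (Spec (CommRingCat.of k))] [IsIntegral X]
    [LocallyOfFinitePresentation (X ↘ (Spec (CommRingCat.of k)))]
    (hdim : topologicalKrullDim X = 1) (x : X) (hx : IsClosed ({x} : Set X))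
    [Algebra.IsSeparable k (X.residueField x)] :
    IsDiscreteValuationRing (X.presheaf.stalk x) ↔
      x ∈ (X ↘ (Spec (CommRingCat.of k))).smoothLocus := by
  have : IsLocallyNoetherian X :=
    LocallyOfFiniteType.isLocallyNoetherian (X ↘ (Spec (CommRingCat.of k)))
  constructor
  · intro hdvr
    have : IsRegularLocalRing (X.presheaf.stalk x) := inferInstance
    exact mem_smoothLocus_of_isRegularLocalRing k X x
  · intro hxs
    rw [Scheme.Hom.mem_smoothLocus] at hxs
    obtain ⟨U, hxU, hU⟩ :=
      Groth.Agent.Lib.Helper20.FlatDesc.exists_smooth_nbhd (X ↘ (Spec (CommRingCat.of k))) x hxs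
    have hreg' : IsRegularLocalRing (X.presheaf.stalk x) := by
      obtain ⟨y, rfl⟩ : ∃ y : (U : Scheme.{u}), U.ι y = x := ⟨⟨x, hxU⟩, rfl⟩
      have hreg : IsRegularLocalRing ((U : Scheme.{u}).presheaf.stalk y) :=
        Groth.Agent.Lib.Helper6.SmRegSch.isRegularLocalRing_stalk_of_smooth_over_field k U
          (U.ι ≫ (X ↘ (Spec (CommRingCat.of k)))) y
      exact IsRegularLocalRing.of_ringEquiv
        (asIso (U.ι.stalkMap y)).commRingCatIsoToRingEquiv.symm
    have h1 := ringKrullDim_stalk_eq_one hdim x hx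
    obtain ⟨_, h⟩ := (Groth.Agent.Lib.Helper19.isDiscreteValuationRing_iff_regular_dim_one
      (X.presheaf.stalk x)).mpr ⟨hreg', h1⟩
    exact h

/-- S13844. -/
theorem smooth_of_smooth_off (K : Type u) [Field K] (C : Scheme.{u})
    [C.Over (Spec (CommRingCat.of K))] [IsIntegral C]
    [LocallyOfFinitePresentation (C ↘ (Spec (CommRingCat.of K)))]
    (hN : ∀ x : C, IsIntegrallyClosed (C.presheaf.stalk x))
    (hdim : topologicalKrullDim C = 1) (S : Set C)
    (hS : ∀ x ∈ S, IsClosed ({x} : Set C) ∧ Algebra.IsSeparable K (C.residueField x))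
    (hsm : ∀ x : C, x ∉ S → x ∈ (C ↘ (Spec (CommRingCat.of K))).smoothLocus) :
    AlgebraicGeometry.Smooth (C ↘ (Spec (CommRingCat.of K))) := by
  have : IsLocallyNoetherian C :=
    LocallyOfFiniteType.isLocallyNoetherian (C ↘ (Spec (CommRingCat.of K)))
  rw [← Scheme.Hom.smoothLocus_eq_top_iff, eq_top_iff]
  intro x _
  by_cases hxS : x ∈ S
  · obtain ⟨hx, hsep⟩ := hS x hxS
    have h1 := ringKrullDim_stalk_eq_one hdim x hx
    have := hN x
    have hdvr : IsDiscreteValuationRing (C.presheaf.stalk x) :=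
      Groth.Agent.Lib.Seat35.StalkDVR.isDiscreteValuationRing_of_dim_one _ h1
    exact (isDiscreteValuationRing_iff_mem_smoothLocus K C hdim x hx).mp hdvr
  · exact hsm x hxS

end Groth.Agent.Lib.Seat18.CurveSmooth
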