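import Mathlib
import Groth.Prelude.Def_Curv2
import Groth.Agent.Lib.Helper3CompDim
import Groth.Agent.Lib.Helper4DimFormulaW

/-!
# `dim O_{X_K,y} + trdeg_K κ(y) = dim O_{X,x} + trdeg_k κ(x)` (seat 18)
-/

set_option linter.style.haveILetI false
set_option autoImplicit false

universe u
open CategoryTheory CategoryTheory.Limits AlgebraicGeometry TensorProduct

namespace Groth.Agent.Lib.Seat18.DimBC

open Groth.Agent.Lib.Helper4.VarDim Groth.Agent.Lib.Helper4.DimFormula

attribute [local instance] Curv2.stalkAlgebra Curv2.resAlgebra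

/-- `Spec k` over itself by the identity. -/
@[reducible] noncomputable def overSelf (k : Type u) [Field k] :
    (Spec (CommRingCat.of k)).Over (Spec (CommRingCat.of k)) := ⟨𝟙 _⟩

lemma trdegNat_Spec_eq_zero (k : Type u) [Field k] (s : Spec (CommRingCat.of k)) :
    @trdegNat k _ (Spec (CommRingCat.of k)) (overSelf k) s = 0 := by
  letI := overSelf k
  haveI : LocallyOfFiniteType ((Spec (CommRingCat.of k)) ↘ Spec (CommRingCat.of k)) :=
    inferInstanceAs (LocallyOfFiniteType (𝟙 (Spec (CommRingCat.of k))))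
  have h := topologicalKrullDim_closure_singleton k (Spec (CommRingCat.of k)) s
  haveI : Subsingleton (Spec (CommRingCat.of k)) := by
    change Subsingleton (PrimeSpectrum k); infer_instance
  have h2 : topologicalKrullDim (closure ({s} : Set (Spec (CommRingCat.of k)))) ≤ 0 :=
    topologicalKrullDim_zero_of_discreteTopology _
  rw [h] at h2
  have : (trdegNat k (Spec (CommRingCat.of k)) s : WithBot ℕ∞) ≤ ((0 : ℕ) : WithBot ℕ∞) := h2
  exact Nat.le_zero.mp (by exact_mod_cast this)

/-- `ptTrdeg` of the structure morphism is the transcendence degree over `k`. -/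
theorem ptTrdeg_eq_of_trdeg_eq (k : Type u) [Field k] (X : Scheme.{u})
    [X.Over (Spec (CommRingCat.of k))] [LocallyOfFiniteType (X ↘ Spec (CommRingCat.of k))]
    (x : X) (a : ℕ) (ha : Algebra.trdeg k (X.residueField x) = a) :
    ptTrdeg (X ↘ Spec (CommRingCat.of k)) x = a := by
  letI := overSelf k
  haveI : LocallyOfFiniteType ((Spec (CommRingCat.of k)) ↘ Spec (CommRingCat.of k)) :=
    inferInstanceAs (LocallyOfFiniteType (𝟙 (Spec (CommRingCat.of k))))
  have hf : (X ↘ Spec (CommRingCat.of k)) ≫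
      ((Spec (CommRingCat.of k)) ↘ Spec (CommRingCat.of k)) = (X ↘ Spec (CommRingCat.of k)) :=
    Category.comp_id _
  have h1 := trdegNat_eq_add_ptTrdeg k (X ↘ Spec (CommRingCat.of k)) hf x
  rw [trdegNat_Spec_eq_zero, zero_add] at h1
  rw [← h1]
  exact trdegNat_eq_of_trdeg_eq k X x a ha

theorem cancel_aux (q : WithBot ℕ∞) (n a a' : ℕ)
    (h : (q + (n : WithBot ℕ∞)) + (a' : WithBot ℕ∞) = (n : WithBot ℕ∞) + (a : WithBot ℕ∞)) :
    q + (a' : WithBot ℕ∞) = (a : WithBot ℕ∞) := by
  induction q using WithBot.recBotCoe with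
  | bot =>
    exfalso
    rw [WithBot.bot_add, WithBot.bot_add] at h
    have h' : (⊥ : WithBot ℕ∞) = (((n + a : ℕ) : ℕ∞) : WithBot ℕ∞) := by
      rw [h]; push_cast; rfl
    exact WithBot.bot_ne_coe h'
  | coe m =>
    induction m using ENat.recTopCoe with
    | top =>
      exfalso
      have e1 : ∀ j : ℕ, (j : WithBot ℕ∞) = ((j : ℕ∞) : WithBot ℕ∞) := fun j => rfl
      rw [e1 n, e1 a', e1 a, ← WithBot.coe_add, ← WithBot.coe_add, ← WithBot.coe_add,
        top_add, top_add] at h
      have h' := WithBot.coe_injective h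
      rw [← Nat.cast_add] at h'
      exact ENat.top_ne_natCast _ h'
    | coe m =>
      have h' : (((m + n + a' : ℕ) : ℕ∞) : WithBot ℕ∞) = (((n + a : ℕ) : ℕ∞) : WithBot ℕ∞) := by
        push_cast
        exact_mod_cast h
      have h2 : m + n + a' = n + a := by exact_mod_cast WithBot.coe_injective h'
      have h3 : m + a' = a := by omega
      have : (((m + a' : ℕ) : ℕ∞) : WithBot ℕ∞) = (((a : ℕ) : ℕ∞) : WithBot ℕ∞) := by rw [h3]
      push_cast at this
      exact_mod_cast this

theorem main (k : Type u) [Field k] (X : Scheme.{u}) [X.Over (Spec (CommRingCat.of k))]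
    [LocallyOfFiniteType (X ↘ (Spec (CommRingCat.of k)))]
    (K : Type u) [Field K] [Algebra k K] (y : ↥(Curv2.bc k X K)) (a a' : ℕ)
    (ha : Algebra.trdeg k (X.residueField (Curv2.bcFst k X K y)) = a)
    (ha' : letI : (Curv2.bc k X K).Over (Spec (CommRingCat.of K)) := ⟨Curv2.bcSnd k X K⟩
      Algebra.trdeg K ((Curv2.bc k X K).residueField y) = a') :
    ringKrullDim ((Curv2.bc k X K).presheaf.stalk y) + (a' : WithBot ℕ∞) =
        ringKrullDim (X.presheaf.stalk (Curv2.bcFst k X K y)) + (a : WithBot ℕ∞) ∧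
      ringKrullDim (↥((Curv2.bc k X K).presheaf.stalk y) ⧸
        Ideal.map ((Curv2.bcFst k X K).stalkMap y).hom
          (IsLocalRing.maximalIdeal ↥(X.presheaf.stalk (Curv2.bcFst k X K y)))) +
          (a' : WithBot ℕ∞) = (a : WithBot ℕ∞) := by
  letI : (Curv2.bc k X K).Over (Spec (CommRingCat.of K)) := ⟨Curv2.bcSnd k X K⟩
  let f := X ↘ Spec (CommRingCat.of k)
  let sK := Spec.map (CommRingCat.ofHom (algebraMap k K))
  let π := Curv2.bcFst k X K
  haveI : LocallyOfFiniteType (Curv2.bcSnd k X K) :=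
    inferInstanceAs (LocallyOfFiniteType (pullback.snd f sK))
  haveI : LocallyOfFiniteType ((Curv2.bc k X K) ↘ Spec (CommRingCat.of K)) :=
    inferInstanceAs (LocallyOfFiniteType (pullback.snd f sK))
  haveI : IsLocallyNoetherian X := LocallyOfFiniteType.isLocallyNoetherian f
  haveI : IsLocallyNoetherian (Curv2.bc k X K) :=
    LocallyOfFiniteType.isLocallyNoetherian (pullback.snd f sK)
  have hpb : IsPullback π (Curv2.bcSnd k X K) f sK := IsPullback.of_hasPullback f sK
  have hbc := Groth.Agent.Lib.Helper3.LocDimBC.localDim_eq_of_isPullback_onePoint f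
    (Curv2.bcSnd k X K) π sK hpb y
  have hX := Groth.Agent.Lib.Helper3.CompDim.localDim_eq_stalk_add_ptTrdeg
    (K := CommRingCat.of k) (Field.toIsField k) f (π y)
  have hXK := Groth.Agent.Lib.Helper3.CompDim.localDim_eq_stalk_add_ptTrdeg
    (K := CommRingCat.of K) (Field.toIsField K) (Curv2.bcSnd k X K) y
  have h1 : ptTrdeg f (π y) = a := ptTrdeg_eq_of_trdeg_eq k X (π y) a ha
  have h2 : ptTrdeg (Curv2.bcSnd k X K) y = a' :=
    ptTrdeg_eq_of_trdeg_eq K (Curv2.bc k X K) y a' ha'
  rw [h1] at hX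
  rw [h2] at hXK
  have hpart1 : ringKrullDim ((Curv2.bc k X K).presheaf.stalk y) + (a' : WithBot ℕ∞) =
      ringKrullDim (X.presheaf.stalk (π y)) + (a : WithBot ℕ∞) := by
    rw [← hXK, ← hX, hbc]
  refine ⟨hpart1, ?_⟩
  -- the flat dimension formula
  haveI : IsNoetherianRing (X.presheaf.stalk (π y)) := inferInstance
  haveI : IsNoetherianRing ((Curv2.bc k X K).presheaf.stalk y) := inferInstance
  haveI : Flat sK := inferInstance
  haveI : Flat π := inferInstance
  have hfl : (π.stalkMap y).hom.Flat := Flat.stalkMap π y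
  have hloc : IsLocalHom (π.stalkMap y).hom := inferInstance
  algebraize [(π.stalkMap y).hom]
  haveI : IsLocalHom (algebraMap (X.presheaf.stalk (π y))
      ((Curv2.bc k X K).presheaf.stalk y)) := hloc
  have hd := Groth.Agent.Lib.Helper28.ringKrullDim_eq_add_of_flat
    (R := X.presheaf.stalk (π y)) (S := (Curv2.bc k X K).presheaf.stalk y)
    (Ideal.map (π.stalkMap y).hom (IsLocalRing.maximalIdeal (X.presheaf.stalk (π y)))) rfl
  obtain ⟨n, hn⟩ := Groth.Agent.Lib.Helper5.exists_nat_ringKrullDim_eq (X.presheaf.stalk (π y))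
  rw [hd, hn] at hpart1
  exact cancel_aux _ n a a' hpart1

end Groth.Agent.Lib.Seat18.DimBC
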