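import Mathlib
import Groth.Agent.Lib.Helper6OmProjA

/-!
# Seat 18: kernels of surjections from smooth algebras dying at primes

General lemmas used for S6841:
* `map_eq_bot_of_le`: an ideal dying at a generization `Q ≤ P` dies at `P` if `E_P` is a domain.
* `map_ker_eq_bot_of_formallySmooth`: kernel of a surjection `E → F` of `P'`-algebras with `E`
  Noetherian and unramified, `F` smooth at `q`, dies at the preimage of `q`.
* `isSmoothAt_of_map_ker_eq_bot`: transfer of smoothness at a prime along a surjection whose kernel
  dies there.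
* `nonempty_atPrimeAwayEquiv`: `A_𝔭 ≃ (A_f)_{𝔭 A_f}`.
-/

set_option autoImplicit false
set_option linter.style.haveILetI false
universe u

namespace Groth.Agent.Lib.Seat18.DvrSmA

open IsLocalRing

section K
variable {E : Type*} [CommRing E]

/-- if an ideal dies at a generization `Q ≤ P` and `E_P` is a domain, it dies at `P`. -/
theorem map_eq_bot_of_le (N : Ideal E) (P Q : Ideal E) [P.IsPrime] [Q.IsPrime] (hQP : Q ≤ P)
    [IsDomain (Localization.AtPrime P)]
    (hQ : N.map (algebraMap E (Localization.AtPrime Q)) = ⊥) :
    N.map (algebraMap E (Localization.AtPrime P)) = ⊥ := by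
  rw [eq_bot_iff, Ideal.map_le_iff_le_comap]
  intro x hx
  rw [Ideal.mem_comap, Ideal.mem_bot]
  have h0 : algebraMap E (Localization.AtPrime Q) x = 0 := by
    have : algebraMap E (Localization.AtPrime Q) x ∈
        N.map (algebraMap E (Localization.AtPrime Q)) := Ideal.mem_map_of_mem _ hx
    rwa [hQ, Ideal.mem_bot] at this
  rw [IsLocalization.map_eq_zero_iff Q.primeCompl] at h0
  obtain ⟨s, hs⟩ := h0
  have h1 : algebraMap E (Localization.AtPrime P) s.1 *
      algebraMap E (Localization.AtPrime P) x = 0 := by
    rw [← map_mul, hs, map_zero]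
  rcases mul_eq_zero.mp h1 with h | h
  · exfalso
    rw [IsLocalization.map_eq_zero_iff P.primeCompl] at h
    obtain ⟨t, ht⟩ := h
    have : t.1 * s.1 ∈ Q := ht ▸ Q.zero_mem
    rcases Ideal.IsPrime.mem_or_mem inferInstance this with h' | h'
    · exact t.2 (hQP h')
    · exact s.2 h'
  · exact h

end K

section S
variable (P' : Type u) {E F : Type u} [CommRing P'] [CommRing E] [CommRing F] [Algebra P' E]
  [Algebra P' F]

/-- the kernel of a surjection `E → F` of `P'`-algebras, with `E` Noetherian and formally unramified
over `P'` and `F` formally smooth over `P'` at `q`, dies in the local ring of `E` at the preimage of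
`q`. -/
theorem map_ker_eq_bot_of_formallySmooth [IsNoetherianRing E] [Algebra.FormallyUnramified P' E]
    (φ : E →ₐ[P'] F) (hφ : Function.Surjective φ) (q : Ideal F) [q.IsPrime]
    (Q : Ideal E) [Q.IsPrime] (hQ : Q = q.comap φ.toRingHom)
    [Algebra.FormallySmooth P' (Localization.AtPrime q)] :
    (RingHom.ker φ.toRingHom).map (algebraMap E (Localization.AtPrime Q)) = ⊥ := by
  let ψ : Localization.AtPrime Q →+* Localization.AtPrime q :=
    Localization.localRingHom Q q φ.toRingHom hQ
  letI : Algebra (Localization.AtPrime Q) (Localization.AtPrime q) := ψ.toAlgebra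
  have hψ : ∀ y, algebraMap (Localization.AtPrime Q) (Localization.AtPrime q) y = ψ y :=
    fun _ => rfl
  haveI : IsScalarTower P' (Localization.AtPrime Q) (Localization.AtPrime q) := by
    refine IsScalarTower.of_algebraMap_eq (fun c => ?_)
    rw [hψ, IsScalarTower.algebraMap_apply P' E (Localization.AtPrime Q),
      Localization.localRingHom_to_map,
      IsScalarTower.algebraMap_apply P' F (Localization.AtPrime q)]
    simp
  have hsurj : Function.Surjective
      (algebraMap (Localization.AtPrime Q) (Localization.AtPrime q)) :=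
    Groth.Agent.Lib.Helper6.OmProj.localRingHom_surjective φ.toRingHom hφ q Q hQ
  haveI : Algebra.FormallyEtale E (Localization.AtPrime Q) := .of_isLocalization Q.primeCompl
  haveI : Algebra.FormallyUnramified P' (Localization.AtPrime Q) :=
    Algebra.FormallyUnramified.comp P' E _
  haveI : Algebra.FormallySmooth (Localization.AtPrime Q) (Localization.AtPrime q) :=
    Algebra.FormallySmooth.of_restrictScalars P' _ _
  have hidem := (Algebra.FormallySmooth.iff_of_surjective hsurj).mp inferInstance
  set I := RingHom.ker (algebraMap (Localization.AtPrime Q) (Localization.AtPrime q)) with hI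
  haveI : IsNoetherianRing (Localization.AtPrime Q) :=
    IsLocalization.isNoetherianRing Q.primeCompl _ inferInstance
  have hfg : I.FG := (isNoetherianRing_iff_ideal_fg _).mp inferInstance I
  have hIbot : I = ⊥ := by
    refine Submodule.eq_bot_of_le_smul_of_le_jacobson_bot I I hfg ?_ ?_
    · rw [smul_eq_mul]
      exact hidem.ge
    · refine le_trans ?_ (IsLocalRing.maximalIdeal_le_jacobson _)
      exact IsLocalRing.le_maximalIdeal (RingHom.ker_ne_top _)
  rw [eq_bot_iff, Ideal.map_le_iff_le_comap]
  intro x hx
  rw [Ideal.mem_comap, Ideal.mem_bot]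
  have : algebraMap E (Localization.AtPrime Q) x ∈ I := by
    rw [hI, RingHom.mem_ker, hψ, Localization.localRingHom_to_map]
    rw [show φ.toRingHom x = 0 from hx, map_zero]
  rwa [hIbot, Ideal.mem_bot] at this

end S

section F
variable (R : Type u) {E F : Type u} [CommRing R] [CommRing E] [CommRing F] [Algebra R E]
  [Algebra R F]

/-- if the kernel of a surjection `E → F` dies at the preimage `P` of `p` and `E` is smooth at `P`,
then `F` is smooth at `p`. -/
theorem isSmoothAt_of_map_ker_eq_bot (φ : E →ₐ[R] F) (hφ : Function.Surjective φ)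
    (p : Ideal F) [p.IsPrime] (P : Ideal E) [P.IsPrime] (hP : P = p.comap φ.toRingHom)
    [hsm : Algebra.IsSmoothAt R P]
    (hbot : (RingHom.ker φ.toRingHom).map (algebraMap E (Localization.AtPrime P)) = ⊥) :
    Algebra.IsSmoothAt R p := by
  let ψ : Localization.AtPrime P →+* Localization.AtPrime p :=
    Localization.localRingHom P p φ.toRingHom hP
  have hsurj : Function.Surjective ψ :=
    Groth.Agent.Lib.Helper6.OmProj.localRingHom_surjective φ.toRingHom hφ p P hP
  have hinj : Function.Injective ψ := by
    rw [injective_iff_map_eq_zero]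
    intro y hy
    obtain ⟨x, hx, s, rfl⟩ := Groth.Agent.Lib.Helper6.OmProj.exists_of_localRingHom_eq_zero
      φ.toRingHom hφ p P hP y hy
    have h0 : algebraMap E (Localization.AtPrime P) x = 0 := by
      have : algebraMap E (Localization.AtPrime P) x ∈
          (RingHom.ker φ.toRingHom).map (algebraMap E (Localization.AtPrime P)) :=
        Ideal.mem_map_of_mem _ hx
      rwa [hbot, Ideal.mem_bot] at this
    rw [IsLocalization.mk'_eq_mul_mk'_one, h0, zero_mul]
  let ψA : Localization.AtPrime P →ₐ[R] Localization.AtPrime p :=
    { ψ with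
      commutes' := fun r => by
        show ψ (algebraMap R (Localization.AtPrime P) r) = _
        rw [IsScalarTower.algebraMap_apply R E (Localization.AtPrime P),
          Localization.localRingHom_to_map,
          IsScalarTower.algebraMap_apply R F (Localization.AtPrime p)]
        simp }
  have hfs : Algebra.FormallySmooth R (Localization.AtPrime P) := hsm
  exact Algebra.FormallySmooth.of_equiv (AlgEquiv.ofBijective ψA ⟨hinj, hsurj⟩)

end F

section L
variable {A : Type u} [CommRing A] (f : A) (𝔭 : Ideal A) [𝔭.IsPrime]

theorem isPrime_map_away (hf : f ∉ 𝔭) : (𝔭.map (algebraMap A (Localization.Away f))).IsPrime :=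
  IsLocalization.isPrime_of_isPrime_disjoint (.powers f) _ _ ‹_›
    ((Ideal.disjoint_powers_iff_notMem_of_isPrime _).mpr hf)

theorem comap_map_away (hf : f ∉ 𝔭) :
    (𝔭.map (algebraMap A (Localization.Away f))).comap (algebraMap A (Localization.Away f)) = 𝔭 :=
  IsLocalization.under_map_of_isPrime_disjoint (.powers f) _ ‹_›
    ((Ideal.disjoint_powers_iff_notMem_of_isPrime _).mpr hf)

/-- `A_𝔭 ≃ (A_f)_{𝔭 A_f}` for `f ∉ 𝔭`. -/
theorem nonempty_atPrimeAwayEquiv (hf : f ∉ 𝔭)
    [(𝔭.map (algebraMap A (Localization.Away f))).IsPrime] :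
    Nonempty (Localization.AtPrime 𝔭 ≃ₐ[A]
      Localization.AtPrime (𝔭.map (algebraMap A (Localization.Away f)))) := by
  haveI h1 : IsLocalization.AtPrime
      (Localization.AtPrime (𝔭.map (algebraMap A (Localization.Away f))))
      ((𝔭.map (algebraMap A (Localization.Away f))).comap
        (algebraMap A (Localization.Away f))) :=
    IsLocalization.isLocalization_isLocalization_atPrime_isLocalization (.powers f) _ _
  haveI : IsLocalization.AtPrime
      (Localization.AtPrime (𝔭.map (algebraMap A (Localization.Away f)))) 𝔭 := by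
    convert h1
    exact (comap_map_away f 𝔭 hf).symm
  exact ⟨IsLocalization.algEquiv 𝔭.primeCompl _ _⟩

end L

end Groth.Agent.Lib.Seat18.DvrSmA
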