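import Mathlib
import Groth.Agent.Lib.Helper20SuppBC
import Groth.Agent.Lib.Helper6TowerAt

/-!
# Seat 18: coordinates adapted to a map `A → Λ` into a local ring with `Λ ⊗ Ω_{A/R}` free

* `span_tmul_D`, `exists_basis_tmul_D`: a basis of `Λ ⊗_A Ω_{A/R}` of the form `1 ⊗ d a_i`.
* `isUnramifiedAt_comap_maximalIdeal`: if the `1 ⊗ d (x_i)` span `Λ ⊗_A Ω_{A/R}` then `A` is unramified
  over `P'` at the preimage of the maximal ideal of `Λ`.
* `isSmoothAt_ker_of_basis`: if the `1 ⊗ d (X_i)` form a basis of `Λ ⊗_A Ω_{A/R}` (`Λ` a domain) and `A`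
  is smooth over `R` at `ker (A → Λ)`, then `A` is smooth over `R[X_i]` there.
-/

set_option autoImplicit false
set_option linter.style.haveILetI false
universe u

namespace Groth.Agent.Lib.Seat18.DvrSmB

open TensorProduct KaehlerDifferential IsLocalRing

section Span
variable (R : Type u) {A : Type u} (Λ : Type u) [CommRing R] [CommRing A] [Algebra R A]
  [CommRing Λ] [Algebra A Λ]

/-- `Λ ⊗_A Ω_{A/R}` is spanned by the classes `1 ⊗ d a`. -/
theorem span_tmul_D :
    Submodule.span Λ (Set.range (fun a : A => (1 : Λ) ⊗ₜ[A] D R A a)) = ⊤ := by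
  rw [eq_top_iff]
  rintro t -
  induction t using TensorProduct.induction_on with
  | zero => exact Submodule.zero_mem _
  | add x y hx hy => exact Submodule.add_mem _ hx hy
  | tmul c ω =>
    have hω : ω ∈ Submodule.span A (Set.range (D R A)) := by
      rw [KaehlerDifferential.span_range_derivation]; trivial
    induction hω using Submodule.span_induction with
    | mem x hx =>
      obtain ⟨b, rfl⟩ := hx
      have : c ⊗ₜ[A] D R A b = c • ((1 : Λ) ⊗ₜ[A] D R A b) := by
        rw [TensorProduct.smul_tmul', smul_eq_mul, mul_one]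
      rw [this]
      exact Submodule.smul_mem _ _ (Submodule.subset_span ⟨b, rfl⟩)
    | zero => rw [TensorProduct.tmul_zero]; exact Submodule.zero_mem _
    | add x y _ _ hx hy => rw [TensorProduct.tmul_add]; exact Submodule.add_mem _ hx hy
    | smul a x _ hx =>
      have : c ⊗ₜ[A] (a • x) = (algebraMap A Λ a) • (c ⊗ₜ[A] x) := by
        rw [TensorProduct.smul_tmul', smul_eq_mul, ← TensorProduct.smul_tmul, Algebra.smul_def,
          mul_comm]
      rw [this]
      exact Submodule.smul_mem _ _ hx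

/-- over a local ring `Λ`, a free `Λ ⊗_A Ω_{A/R}` has a basis of the form `1 ⊗ d (a i)`. -/
theorem exists_basis_tmul_D [IsLocalRing Λ] [Algebra.FiniteType R A]
    [Module.Free Λ (Λ ⊗[A] Ω[A⁄R])] :
    ∃ (κ : Type u) (a : κ → A) (b : Module.Basis κ Λ (Λ ⊗[A] Ω[A⁄R])),
      ∀ i, b i = (1 : Λ) ⊗ₜ[A] D R A (a i) := by
  haveI : Module.Finite Λ (Λ ⊗[A] Ω[A⁄R]) := inferInstance
  haveI : Module.FinitePresentation Λ (Λ ⊗[A] Ω[A⁄R]) :=
    Module.finitePresentation_of_projective _ _
  exact Module.exists_basis_of_span_of_flat (R := Λ) _ (span_tmul_D R Λ)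

end Span

section Unram
variable (R : Type u) {A Λ : Type u} (P' : Type u) [CommRing R] [CommRing P'] [CommRing A]
  [CommRing Λ] [Algebra R P'] [Algebra P' A] [Algebra R A] [IsScalarTower R P' A] [Algebra A Λ]
  [IsLocalRing Λ]

/-- if the classes `1 ⊗ d (x i)`, `x i ∈ P'`, span `Λ ⊗_A Ω_{A/R}`, then `A` is unramified over `P'`
at the preimage of the maximal ideal of `Λ`. -/
theorem isUnramifiedAt_comap_maximalIdeal [Algebra.FiniteType R A] {κ : Type*} (x : κ → P')
    (hspan : Submodule.span Λ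
      (Set.range fun i => (1 : Λ) ⊗ₜ[A] D R A (algebraMap P' A (x i))) = ⊤) :
    Algebra.IsUnramifiedAt P' ((maximalIdeal Λ).comap (algebraMap A Λ)) := by
  haveI : Algebra.FiniteType P' A := Algebra.FiniteType.of_restrictScalars_finiteType R P' A
  let μ : Ω[A⁄R] →ₗ[A] Ω[A⁄P'] := KaehlerDifferential.map R P' A A
  have hμ : Function.Surjective μ := KaehlerDifferential.map_surjective R P' A
  let ν : Λ ⊗[A] Ω[A⁄R] →ₗ[Λ] Λ ⊗[A] Ω[A⁄P'] := μ.baseChange Λ
  have hν : Function.Surjective ν := LinearMap.baseChange_surjective Λ hμ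
  have hzero : ∀ t, ν t = 0 := by
    intro t
    have ht : t ∈ Submodule.span Λ
        (Set.range fun i => (1 : Λ) ⊗ₜ[A] D R A (algebraMap P' A (x i))) := by
      rw [hspan]; trivial
    induction ht using Submodule.span_induction with
    | mem y hy =>
      obtain ⟨i, rfl⟩ := hy
      simp only [ν, μ, LinearMap.baseChange_tmul, KaehlerDifferential.map_D]
      rw [Algebra.algebraMap_self_apply, Derivation.map_algebraMap, TensorProduct.tmul_zero]
    | zero => exact map_zero _
    | add y z _ _ hy hz => rw [map_add, hy, hz, add_zero]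
    | smul c y _ hy => rw [map_smul, hy, smul_zero]
  haveI hsub : Subsingleton (Λ ⊗[A] Ω[A⁄P']) := by
    refine ⟨fun y z => ?_⟩
    obtain ⟨y', rfl⟩ := hν y
    obtain ⟨z', rfl⟩ := hν z
    rw [hzero, hzero]
  have hmem : (⟨(maximalIdeal Λ).comap (algebraMap A Λ), inferInstance⟩ : PrimeSpectrum A) ∈
      Algebra.unramifiedLocus P' A := by
    rw [Algebra.unramifiedLocus_eq_compl_support, Set.mem_compl_iff]
    intro h
    have h2 := Groth.Agent.Lib.Helper20.SuppBC.mem_support_baseChange_of_comap (A := A) (B := Λ)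
      (N := Ω[A⁄P']) (IsLocalRing.closedPoint Λ) h
    rw [Module.support_eq_empty] at h2
    exact h2
  exact hmem

end Unram

section Smooth
variable (R : Type u) {A Λ : Type u} [CommRing R] [CommRing A] [CommRing Λ] [Algebra R A]
  [Algebra A Λ] [IsDomain Λ] (κ : Type u) [Finite κ]
  [Algebra (MvPolynomial κ R) A] [IsScalarTower R (MvPolynomial κ R) A]

/-- if the classes `1 ⊗ d (X i)` form a basis of `Λ ⊗_A Ω_{A/R}` and `A` is smooth over `R` at the
kernel of `A → Λ`, then `A` is smooth over `R[X]` at this prime. -/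
theorem isSmoothAt_ker_of_basis [Algebra.FinitePresentation R A]
    (b : Module.Basis κ Λ (Λ ⊗[A] Ω[A⁄R]))
    (hb : ∀ i, b i = (1 : Λ) ⊗ₜ[A] D R A (algebraMap (MvPolynomial κ R) A (MvPolynomial.X i)))
    [(RingHom.ker (algebraMap A Λ)).IsPrime]
    (hq : Algebra.IsSmoothAt R (RingHom.ker (algebraMap A Λ))) :
    Algebra.IsSmoothAt (MvPolynomial κ R) (RingHom.ker (algebraMap A Λ)) := by
  classical
  haveI : Fintype κ := Fintype.ofFinite κ
  set 𝔮 := RingHom.ker (algebraMap A Λ) with h𝔮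
  rw [Groth.Agent.Lib.Helper6.TowerAt.isSmoothAt_iff_injective_lTensor R (MvPolynomial κ R) A 𝔮 hq]
  let K := 𝔮.ResidueField
  let L := FractionRing Λ
  -- the embedding `K → L`
  have hf₁ : 𝔮 ≤ RingHom.ker (IsScalarTower.toAlgHom A A L) := by
    intro a ha
    rw [RingHom.mem_ker]
    show algebraMap A L a = 0
    rw [IsScalarTower.algebraMap_apply A Λ L, RingHom.mem_ker.mp ha, map_zero]
  have hf₂ : 𝔮.primeCompl ≤ (IsUnit.submonoid L).comap (IsScalarTower.toAlgHom A A L) := by
    intro a ha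
    show IsUnit (algebraMap A L a)
    rw [IsScalarTower.algebraMap_apply A Λ L]
    refine IsUnit.mk0 _ ?_
    intro h0
    apply ha
    show a ∈ 𝔮
    rw [h𝔮, RingHom.mem_ker]
    exact (IsFractionRing.injective Λ L) (h0.trans (map_zero _).symm)
  let ι : K →ₐ[A] L := Ideal.ResidueField.liftₐ 𝔮 (IsScalarTower.toAlgHom A A L) hf₁ hf₂
  have hι : Function.Injective ι := (ι : K →+* L).injective
  let Ψ : K ⊗[A] Ω[A⁄R] →ₗ[A] L ⊗[A] Ω[A⁄R] := ι.toLinearMap.rTensor Ω[A⁄R]
  -- the `L`-basis of `L ⊗_A Ω`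
  let B2 : Module.Basis κ L (L ⊗[A] Ω[A⁄R]) :=
    (b.baseChange L).map (TensorProduct.AlgebraTensorModule.cancelBaseChange A Λ L L Ω[A⁄R])
  have hB2 : ∀ i, B2 i =
      (1 : L) ⊗ₜ[A] D R A (algebraMap (MvPolynomial κ R) A (MvPolynomial.X i)) := by
    intro i
    simp only [B2, Module.Basis.map_apply, Module.Basis.baseChange_apply, hb,
      TensorProduct.AlgebraTensorModule.cancelBaseChange_tmul, one_smul]
  -- linear independence over `K`
  let w : κ → K ⊗[A] Ω[A⁄R] :=
    fun i => (1 : K) ⊗ₜ[A] D R A (algebraMap (MvPolynomial κ R) A (MvPolynomial.X i))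
  have hw : ∀ c : κ → K, ∑ i, c i • w i = 0 → ∀ i, c i = 0 := by
    intro c hc i
    have h1 : Ψ (∑ i, c i • w i) = ∑ i, ι (c i) • B2 i := by
      rw [map_sum]
      refine Finset.sum_congr rfl (fun j _ => ?_)
      rw [hB2]
      simp only [w, Ψ, TensorProduct.smul_tmul', smul_eq_mul, mul_one, LinearMap.rTensor_tmul,
        AlgHom.toLinearMap_apply]
    rw [hc, map_zero] at h1
    have h2 := (Fintype.linearIndependent_iff.mp B2.linearIndependent) (fun i => ι (c i)) h1.symm i
    exact hι (h2.trans (map_zero ι).symm)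
  -- the `K`-basis of the source
  let B1 : Module.Basis κ K (K ⊗[A] (A ⊗[MvPolynomial κ R] Ω[MvPolynomial κ R⁄R])) :=
    ((KaehlerDifferential.mvPolynomialBasis R κ).baseChange A).baseChange K
  let gK : K ⊗[A] (A ⊗[MvPolynomial κ R] Ω[MvPolynomial κ R⁄R]) →ₗ[K] K ⊗[A] Ω[A⁄R] :=
    (mapBaseChange R (MvPolynomial κ R) A).baseChange K
  have hgK : ∀ z, (mapBaseChange R (MvPolynomial κ R) A).lTensor K z = gK z := fun z => rfl
  have hgB1 : ∀ i, gK (B1 i) = w i := by
    intro i
    simp only [gK, B1, w, Module.Basis.baseChange_apply, LinearMap.baseChange_tmul,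
      KaehlerDifferential.mvPolynomialBasis_apply, mapBaseChange_tmul, map_D, one_smul]
  rw [injective_iff_map_eq_zero]
  intro z hz
  rw [hgK] at hz
  have hz' : ∑ i, B1.repr z i • w i = 0 := by
    rw [← hz]
    conv_rhs => rw [← B1.sum_repr z]
    rw [map_sum]
    refine Finset.sum_congr rfl (fun j _ => ?_)
    rw [map_smul, hgB1]
  have hrepr := hw (fun i => B1.repr z i) hz'
  rw [← B1.sum_repr z]
  exact Finset.sum_eq_zero (fun j _ => by rw [hrepr j, zero_smul])

end Smooth

end Groth.Agent.Lib.Seat18.DvrSmB
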