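import Mathlib
import Groth.Agent.Lib.Seat18Slice

/-!
# Seat 18: smooth effective Cartier divisors through a point of a smooth morphism (scheme level)
-/

set_option autoImplicit false
set_option linter.style.haveILetI false
set_option linter.unusedSectionVars false
universe u

open AlgebraicGeometry CategoryTheory IsLocalRing TopologicalSpace TensorProduct KaehlerDifferential

namespace Groth.Agent.Lib.Seat18.SliceSch

/-- If `f` is smooth on the open `W`, then the ring map of `f` between affine opens `V` and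
`U ≤ W ⊓ f⁻¹V` is smooth. -/
theorem smooth_appLE_of_le {X S : Scheme.{u}} (f : X ⟶ S) (W : X.Opens) (hW : Smooth (W.ι ≫ f))
    {V : S.Opens} (hV : IsAffineOpen V) {U : X.Opens} (hU : IsAffineOpen U) (hUW : U ≤ W)
    (e : U ≤ f ⁻¹ᵁ V) : (f.appLE V U e).hom.Smooth := by
  have hrange : Set.range hU.fromSpec ⊆ Set.range W.ι := by
    rw [hU.range_fromSpec, Scheme.Opens.range_ι]
    exact hUW
  have h1 : IsOpenImmersion.lift W.ι hU.fromSpec hrange ≫ W.ι = hU.fromSpec :=
    IsOpenImmersion.lift_fac _ _ _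
  have : IsOpenImmersion (IsOpenImmersion.lift W.ι hU.fromSpec hrange) :=
    IsOpenImmersion.of_comp _ W.ι
  have h2 : Smooth (hU.fromSpec ≫ f) := by
    rw [← h1, Category.assoc]
    infer_instance
  rw [← hV.SpecMap_appLE_fromSpec f hU e] at h2
  have inst1 := (MorphismProperty.IsStableUnderBaseChange.hasOfPostcompProperty_monomorphisms
    (P := @Smooth.{u}))
  have inst2 : MorphismProperty.HasOfPostcompProperty @Smooth.{u} @IsOpenImmersion.{u} :=
    MorphismProperty.HasOfPostcompProperty.of_le _ (.monomorphisms Scheme)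
      (fun _ _ f _ ↦ inferInstanceAs (Mono f))
  have h3 : Smooth (Spec.map (f.appLE V U e)) :=
    MorphismProperty.of_postcomp (W := @Smooth) (W' := @IsOpenImmersion) _ hV.fromSpec
      inferInstance h2
  exact (HasRingHomProperty.Spec_iff (P := @Smooth)).mp h3

/-- **Smooth effective Cartier divisor through a point** (stalk form): if `f` is smooth near `x`
and `h ∈ O_{X,x}` has `dh ∉ 𝔪 • Ω_{O_{X,x}/O_{S,f x}}`, then `h` extends to a nonzerodivisor `h'` on
an affine open neighbourhood `U` of `x` with `V(h')` smooth over `S`. -/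
theorem exists_smooth_effCartier {X S : Scheme.{u}} (f : X ⟶ S) (x : X)
    (W : X.Opens) (hxW : x ∈ W) (hW : Smooth (W.ι ≫ f))
    (h : ↑(X.presheaf.stalk x))
    (hd : letI := (f.stalkMap x).hom.toAlgebra
      D ↑(S.presheaf.stalk (f x)) ↑(X.presheaf.stalk x) h ∉
        maximalIdeal ↑(X.presheaf.stalk x) •
          (⊤ : Submodule ↑(X.presheaf.stalk x) Ω[↑(X.presheaf.stalk x)⁄↑(S.presheaf.stalk (f x))])) :
    ∃ (U : X.Opens) (hU : IsAffineOpen U) (hx : x ∈ U) (h' : Γ(X, U)),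
      X.presheaf.germ U x hx h' = h ∧ h' ∈ nonZeroDivisors Γ(X, U) ∧
      Smooth (Spec.map (CommRingCat.ofHom (Ideal.Quotient.mk (Ideal.span {h'}))) ≫
        hU.fromSpec ≫ f) := by
  classical
  obtain ⟨V, hV, hfxV, -⟩ := exists_isAffineOpen_mem_and_subset (X := S) (x := f x)
    (U := ⊤) trivial
  obtain ⟨U₁, hxU₁, s, hs⟩ := TopCat.Presheaf.exists_germ_eq X.presheaf h
  obtain ⟨U₀, hU₀, hxU₀, hU₀le⟩ := exists_isAffineOpen_mem_and_subset (X := X) (x := x)
    (U := W ⊓ f ⁻¹ᵁ V ⊓ U₁) ⟨⟨hxW, hfxV⟩, hxU₁⟩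
  have hU₀W : U₀ ≤ W := fun y hy => (hU₀le hy).1.1
  have e : U₀ ≤ f ⁻¹ᵁ V := fun y hy => (hU₀le hy).1.2
  have hU₀U₁ : U₀ ≤ U₁ := fun y hy => (hU₀le hy).2
  set h₀ : Γ(X, U₀) := X.presheaf.map (homOfLE hU₀U₁).op s with hh₀def
  have hh₀ : X.presheaf.germ U₀ x hxU₀ h₀ = h := by
    rw [← hs]
    exact TopCat.Presheaf.germ_res_apply X.presheaf (homOfLE hU₀U₁) x hxU₀ s
  have hsm := smooth_appLE_of_le f W hW hV hU₀ hU₀W e
  algebraize [(f.appLE V U₀ e).hom]
  set q : Ideal Γ(X, U₀) := (hU₀.primeIdealOf ⟨x, hxU₀⟩).asIdeal with hq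
  haveI : Algebra.FormallySmooth Γ(X, U₀) (Localization.AtPrime q) :=
    Algebra.FormallySmooth.of_isLocalization q.primeCompl
  haveI : Algebra.IsSmoothAt Γ(S, V) q :=
    Algebra.FormallySmooth.comp Γ(S, V) Γ(X, U₀) (Localization.AtPrime q)
  -- algebra structures for the transport of `hd`
  letI algBR' : Algebra Γ(X, U₀) (X.presheaf.stalk x) :=
    X.presheaf.algebra_section_stalk ⟨x, hxU₀⟩
  haveI hloc : IsLocalization.AtPrime (X.presheaf.stalk x) q := hU₀.isLocalization_stalk ⟨x, hxU₀⟩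
  let eR : Localization.AtPrime q ≃ₐ[Γ(X, U₀)] X.presheaf.stalk x :=
    IsLocalization.algEquiv q.primeCompl _ _
  letI algRR' : Algebra (Localization.AtPrime q) (X.presheaf.stalk x) :=
    (eR : Localization.AtPrime q →+* X.presheaf.stalk x).toAlgebra
  haveI : IsScalarTower Γ(X, U₀) (Localization.AtPrime q) (X.presheaf.stalk x) :=
    IsScalarTower.of_algebraMap_eq fun b => (eR.commutes b).symm
  letI algAA' : Algebra Γ(S, V) (S.presheaf.stalk (f x)) :=
    S.presheaf.algebra_section_stalk ⟨f x, hfxV⟩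
  letI algA'R' : Algebra (S.presheaf.stalk (f x)) (X.presheaf.stalk x) :=
    (f.stalkMap x).hom.toAlgebra
  letI algAR' : Algebra Γ(S, V) (X.presheaf.stalk x) :=
    ((algebraMap Γ(X, U₀) (X.presheaf.stalk x)).comp (algebraMap Γ(S, V) Γ(X, U₀))).toAlgebra
  haveI : IsScalarTower Γ(S, V) Γ(X, U₀) (X.presheaf.stalk x) := IsScalarTower.of_algebraMap_eq' rfl
  haveI : IsScalarTower Γ(S, V) (Localization.AtPrime q) (X.presheaf.stalk x) :=
    IsScalarTower.of_algebraMap_eq fun a => by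
      rw [IsScalarTower.algebraMap_apply Γ(S, V) Γ(X, U₀) (X.presheaf.stalk x),
        IsScalarTower.algebraMap_apply Γ(S, V) Γ(X, U₀) (Localization.AtPrime q),
        ← IsScalarTower.algebraMap_apply Γ(X, U₀) (Localization.AtPrime q) (X.presheaf.stalk x)]
  haveI : IsScalarTower Γ(S, V) (S.presheaf.stalk (f x)) (X.presheaf.stalk x) :=
    IsScalarTower.of_algebraMap_eq fun a => by
      change X.presheaf.germ U₀ x hxU₀ ((f.appLE V U₀ e).hom a) =
        (f.stalkMap x).hom (S.presheaf.germ V (f x) hfxV a)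
      rw [Scheme.Hom.germ_stalkMap_apply]
      exact TopCat.Presheaf.germ_res_apply X.presheaf (homOfLE e) x hxU₀ _
  haveI : IsLocalHom (algebraMap (Localization.AtPrime q) (X.presheaf.stalk x)) :=
    ⟨fun a ha => by
      have h1 : IsUnit (eR a) := ha
      have h2 := h1.map eR.symm
      simpa using h2⟩
  have hd' : D Γ(S, V) (Localization.AtPrime q) (algebraMap Γ(X, U₀) (Localization.AtPrime q) h₀) ∉
      maximalIdeal (Localization.AtPrime q) •
        (⊤ : Submodule (Localization.AtPrime q) Ω[Localization.AtPrime q⁄Γ(S, V)]) := by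
    intro hmem
    apply hd
    have := Groth.Agent.Lib.Seat18.Slice.D_algebraMap_mem_smul_top Γ(S, V) (S.presheaf.stalk (f x))
      (Localization.AtPrime q) (X.presheaf.stalk x) _ hmem
    rw [← IsScalarTower.algebraMap_apply Γ(X, U₀) (Localization.AtPrime q) (X.presheaf.stalk x)]
      at this
    have h2 : algebraMap Γ(X, U₀) (X.presheaf.stalk x) h₀ = h := hh₀
    rw [h2] at this
    exact this
  obtain ⟨f₀, hf₀q, H⟩ := Groth.Agent.Lib.Seat18.Slice.exists_smooth_slice_one Γ(S, V) q h₀ hd'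
  have hU : IsAffineOpen (X.basicOpen f₀) := hU₀.basicOpen f₀
  have hUU₀ : X.basicOpen f₀ ≤ U₀ := X.basicOpen_le f₀
  have hxU : x ∈ X.basicOpen f₀ := by
    rw [Scheme.mem_basicOpen _ _ x hxU₀]
    exact IsLocalization.map_units (X.presheaf.stalk x) (⟨f₀, hf₀q⟩ : q.primeCompl)
  haveI : IsLocalization.Away f₀ Γ(X, X.basicOpen f₀) := hU₀.isLocalization_basicOpen f₀
  obtain ⟨hnzd, hsmooth⟩ := H f₀ dvd_rfl Γ(X, X.basicOpen f₀)
  refine ⟨X.basicOpen f₀, hU, hxU, algebraMap Γ(X, U₀) Γ(X, X.basicOpen f₀) h₀, ?_, hnzd, ?_⟩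
  · rw [← hh₀]
    exact TopCat.Presheaf.germ_res_apply X.presheaf (homOfLE hUU₀) x hxU h₀
  · have e' : X.basicOpen f₀ ≤ f ⁻¹ᵁ V := hUU₀.trans e
    rw [← hV.SpecMap_appLE_fromSpec f hU e', ← Category.assoc, ← Spec.map_comp]
    have h3 : Smooth (Spec.map (f.appLE V (X.basicOpen f₀) e' ≫ CommRingCat.ofHom
        (Ideal.Quotient.mk (Ideal.span {algebraMap Γ(X, U₀) Γ(X, X.basicOpen f₀) h₀})))) := by
      rw [HasRingHomProperty.Spec_iff (P := @Smooth)]
      have key : (f.appLE V (X.basicOpen f₀) e' ≫ CommRingCat.ofHom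
          (Ideal.Quotient.mk (Ideal.span {algebraMap Γ(X, U₀) Γ(X, X.basicOpen f₀) h₀}))).hom =
          (Ideal.Quotient.mk (Ideal.span {algebraMap Γ(X, U₀) Γ(X, X.basicOpen f₀) h₀})).comp
            ((algebraMap Γ(X, U₀) Γ(X, X.basicOpen f₀)).comp (algebraMap Γ(S, V) Γ(X, U₀))) := by
        rw [← Scheme.Hom.appLE_map f e (homOfLE hUU₀).op]
        rfl
      rw [key]
      exact hsmooth
    infer_instance


end Groth.Agent.Lib.Seat18.SliceSch
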