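import Mathlib
import Groth.Agent.Lib.Seat18SliceSch
import Groth.Agent.Lib.Helper10FibStalk

/-!
# Seat 18: a function with nonzero differential at a non-generic point of a smooth fibre
-/

set_option autoImplicit false
set_option linter.style.haveILetI false
set_option linter.unusedSectionVars false
universe u

open AlgebraicGeometry CategoryTheory IsLocalRing TopologicalSpace TensorProduct KaehlerDifferential

namespace Groth.Agent.Lib.Seat18.SliceFib

/-- Functoriality of the condition `D x ∈ I • Ω` (general ideals). -/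
lemma D_algebraMap_mem_smul_top' (A A' R R' : Type*) [CommRing A] [CommRing A'] [CommRing R]
    [CommRing R'] [Algebra A R] [Algebra A' R'] [Algebra A A'] [Algebra R R'] [Algebra A R']
    [IsScalarTower A A' R'] [IsScalarTower A R R'] (I : Ideal R) (J : Ideal R')
    (hIJ : ∀ a ∈ I, algebraMap R R' a ∈ J) (x : R)
    (hx : D A R x ∈ I • (⊤ : Submodule R Ω[R⁄A])) :
    D A' R' (algebraMap R R' x) ∈ J • (⊤ : Submodule R' Ω[R'⁄A']) := by
  rw [← KaehlerDifferential.map_D A A' R R']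
  refine Submodule.smul_induction_on hx (fun a ha m _ => ?_) (fun y z hy hz => ?_)
  · rw [map_smul, algebra_compatible_smul R' a]
    exact Submodule.smul_mem_smul (hIJ a ha) Submodule.mem_top
  · rw [map_add]
    exact Submodule.add_mem _ hy hz

section Alg

variable (A' R' : Type u) [CommRing A'] [CommRing R'] [IsLocalRing A'] [IsLocalRing R']
  [Algebra A' R'] [IsLocalHom (algebraMap A' R')]

/-- Let `A' → R'` be a local homomorphism of local rings, formally smooth and essentially of finite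
type, with formally smooth residue field extension. If `𝔪_{A'} R' ≠ 𝔪_{R'}` (the fibre is not a
field), there is `h ∈ 𝔪_{R'}` with `dh ∉ 𝔪_{R'} Ω_{R'/A'}`. -/
theorem exists_D_notMem [Algebra.FormallySmooth A' R'] [Algebra.EssFiniteType A' R']
    [Algebra (A' ⧸ maximalIdeal A') (ResidueField R')] [Algebra A' (ResidueField R')]
    [IsScalarTower A' (A' ⧸ maximalIdeal A') (ResidueField R')]
    [IsScalarTower A' R' (ResidueField R')]
    [Algebra.FormallySmooth (A' ⧸ maximalIdeal A') (ResidueField R')]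
    (hne : (maximalIdeal A').map (algebraMap A' R') ≠ maximalIdeal R') :
    ∃ h ∈ maximalIdeal R', D A' R' h ∉ maximalIdeal R' • (⊤ : Submodule R' Ω[R'⁄A']) := by
  classical
  set I : Ideal R' := (maximalIdeal A').map (algebraMap A' R') with hI
  have hIle : I ≤ maximalIdeal R' := by
    rw [hI, Ideal.map_le_iff_le_comap]
    intro a ha
    rw [Ideal.mem_comap, mem_maximalIdeal, mem_nonunits_iff] at *
    exact fun hu => ha (isUnit_of_map_unit (algebraMap A' R') a hu)
  haveI : Algebra.FormallySmooth (A' ⧸ maximalIdeal A') (R' ⧸ I) :=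
    Algebra.FormallySmooth.of_equiv
      (Algebra.TensorProduct.quotIdealMapEquivQuotTensor R' (maximalIdeal A')).symm
  letI algFκ : Algebra (R' ⧸ I) (ResidueField R') :=
    (Ideal.Quotient.lift I (residue R')
      (fun a ha => (residue_eq_zero_iff a).mpr (hIle ha))).toAlgebra
  have hFκ : ∀ r : R', algebraMap (R' ⧸ I) (ResidueField R') (Ideal.Quotient.mk I r) =
      residue R' r := fun r => rfl
  haveI : IsScalarTower (A' ⧸ maximalIdeal A') (R' ⧸ I) (ResidueField R') :=
    IsScalarTower.of_algebraMap_eq (by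
      intro z
      obtain ⟨a, rfl⟩ := Ideal.Quotient.mk_surjective z
      rw [Ideal.Quotient.algebraMap_quotient_map_quotient, hFκ]
      have h1 : algebraMap (A' ⧸ maximalIdeal A') (ResidueField R') (Ideal.Quotient.mk _ a) =
          algebraMap A' (ResidueField R') a :=
        (IsScalarTower.algebraMap_apply A' (A' ⧸ maximalIdeal A') (ResidueField R') a).symm
      rw [h1, IsScalarTower.algebraMap_apply A' R' (ResidueField R') a]
      rfl)
  have hsurj : Function.Surjective (algebraMap (R' ⧸ I) (ResidueField R')) := fun z => by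
    obtain ⟨r, rfl⟩ := residue_surjective z
    exact ⟨Ideal.Quotient.mk I r, rfl⟩
  obtain ⟨l, hl⟩ := (Algebra.FormallySmooth.iff_split_injection (R := A' ⧸ maximalIdeal A')
    (P := R' ⧸ I) (A := ResidueField R') hsurj).mp inferInstance
  have hinj : Function.Injective
      (kerCotangentToTensor (A' ⧸ maximalIdeal A') (R' ⧸ I) (ResidueField R')) := fun a b hab => by
    have := congrArg l hab
    rwa [← LinearMap.comp_apply, ← LinearMap.comp_apply, hl] at this
  set 𝔫 : Ideal (R' ⧸ I) := RingHom.ker (algebraMap (R' ⧸ I) (ResidueField R')) with h𝔫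
  have h𝔫mem : ∀ r : R', Ideal.Quotient.mk I r ∈ 𝔫 ↔ r ∈ maximalIdeal R' := fun r => by
    rw [h𝔫, RingHom.mem_ker, hFκ, residue_eq_zero_iff]
  haveI : Algebra.EssFiniteType A' (R' ⧸ I) := Algebra.EssFiniteType.comp A' R' (R' ⧸ I)
  haveI : Algebra.EssFiniteType (A' ⧸ maximalIdeal A') (R' ⧸ I) :=
    Algebra.EssFiniteType.of_comp A' (A' ⧸ maximalIdeal A') (R' ⧸ I)
  haveI : IsNoetherianRing (A' ⧸ maximalIdeal A') :=
    inferInstanceAs (IsNoetherianRing (ResidueField A'))
  haveI : IsNoetherianRing (R' ⧸ I) :=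
    Algebra.EssFiniteType.isNoetherianRing (A' ⧸ maximalIdeal A') (R' ⧸ I)
  have h𝔫ne : 𝔫 ≠ ⊥ := by
    intro h0
    apply hne
    apply le_antisymm hIle
    intro r hr
    have : Ideal.Quotient.mk I r ∈ 𝔫 := (h𝔫mem r).mpr hr
    rw [h0, Ideal.mem_bot, Ideal.Quotient.eq_zero_iff_mem] at this
    exact this
  haveI : Nontrivial (R' ⧸ I) := Ideal.Quotient.nontrivial_iff.mpr
    (fun h => (maximalIdeal.isMaximal R').ne_top (top_le_iff.mp (h ▸ hIle)))
  haveI : IsLocalRing (R' ⧸ I) :=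
    IsLocalRing.of_surjective' (Ideal.Quotient.mk I) Ideal.Quotient.mk_surjective
  have h𝔫jac : 𝔫 ≤ Ideal.jacobson ⊥ := by
    rw [IsLocalRing.jacobson_eq_maximalIdeal ⊥ bot_ne_top]
    exact IsLocalRing.le_maximalIdeal (RingHom.ker_ne_top _)
  have hsq : ¬ (𝔫 ≤ 𝔫 ^ 2) := by
    intro hle
    apply h𝔫ne
    exact Submodule.eq_bot_of_le_smul_of_le_jacobson_bot 𝔫 𝔫 (IsNoetherian.noetherian 𝔫)
      (by rwa [smul_eq_mul, ← pow_two]) h𝔫jac
  obtain ⟨hbar, hbar𝔫, hbarsq⟩ := SetLike.not_le_iff_exists.mp hsq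
  obtain ⟨h, rfl⟩ := Ideal.Quotient.mk_surjective hbar
  refine ⟨h, (h𝔫mem h).mp hbar𝔫, fun hmem => ?_⟩
  have h1 : D (A' ⧸ maximalIdeal A') (R' ⧸ I) (Ideal.Quotient.mk I h) ∈
      𝔫 • (⊤ : Submodule (R' ⧸ I) Ω[(R' ⧸ I)⁄(A' ⧸ maximalIdeal A')]) :=
    D_algebraMap_mem_smul_top' A' (A' ⧸ maximalIdeal A') R' (R' ⧸ I) (maximalIdeal R') 𝔫
      (fun a ha => (h𝔫mem a).mpr ha) h hmem
  have h2 : (1 : ResidueField R') ⊗ₜ[R' ⧸ I]
      D (A' ⧸ maximalIdeal A') (R' ⧸ I) (Ideal.Quotient.mk I h) = 0 := by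
    refine Submodule.smul_induction_on h1 (fun a ha m _ => ?_) (fun y z hy hz => ?_)
    · rw [TensorProduct.tmul_smul, TensorProduct.smul_tmul', Algebra.smul_def, mul_one,
        (RingHom.mem_ker).mp ha, TensorProduct.zero_tmul]
    · rw [TensorProduct.tmul_add, hy, hz, add_zero]
  have h3 : kerCotangentToTensor (A' ⧸ maximalIdeal A') (R' ⧸ I) (ResidueField R')
      (Ideal.toCotangent _ ⟨Ideal.Quotient.mk I h, hbar𝔫⟩) = 0 := by
    rw [kerCotangentToTensor_toCotangent]
    exact h2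
  have h4 := hinj (h3.trans (map_zero _).symm)
  rw [Ideal.toCotangent_eq_zero] at h4
  exact hbarsq h4

end Alg

section Sch

variable {X S : Scheme.{u}} (f : X ⟶ S)

/-- If `f` is smooth on the open `W ∋ x`, the map of local rings at `x` is formally smooth and
essentially of finite type. -/
theorem stalkMap_props (W : X.Opens) (hW : Smooth (W.ι ≫ f)) (x : X) (hxW : x ∈ W) :
    (f.stalkMap x).hom.FormallySmooth ∧ (f.stalkMap x).hom.EssFiniteType := by
  obtain ⟨y, rfl⟩ : ∃ y : (W : Scheme.{u}), W.ι y = x := ⟨⟨x, hxW⟩, rfl⟩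
  have h1 : ((W.ι ≫ f).stalkMap y).hom.FormallySmooth := by
    have hy : y ∈ (W.ι ≫ f).smoothLocus := (W.ι ≫ f).smoothLocus_eq_top ▸ trivial
    exact hy
  have h2 : ((W.ι ≫ f).stalkMap y).hom.EssFiniteType := LocallyOfFiniteType.stalkMap _ y
  rw [Scheme.Hom.stalkMap_comp] at h1 h2
  exact ⟨(RingHom.FormallySmooth.respectsIso.cancel_right_isIso (f.stalkMap (W.ι y))
      (W.ι.stalkMap y)).mp h1,
    (RingHom.EssFiniteType.respectsIso.cancel_right_isIso (f.stalkMap (W.ι y))
      (W.ι.stalkMap y)).mp h2⟩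

/-- If the local ring of the fibre at `z` is not a field, then `𝔪_s O_{X,z} ≠ 𝔪_z`. -/
theorem map_maximalIdeal_ne_of_fiber (s : S) (z : f.fiber s)
    (hgen : maximalIdeal ((f.fiber s).presheaf.stalk z) ≠ ⊥) :
    (maximalIdeal (S.presheaf.stalk (f (f.fiberι s z)))).map (f.stalkMap (f.fiberι s z)).hom ≠
      maximalIdeal (X.presheaf.stalk (f.fiberι s z)) := by
  intro heq
  apply hgen
  have hker := Groth.Agent.Lib.Helper10.FibStalk.ker_eq_map f s z
  rw [heq] at hker
  have hsurj : Function.Surjective ((f.fiberι s).stalkMap z).hom :=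
    (f.fiberι s).stalkMap_surjective z
  rw [eq_bot_iff]
  intro y hy
  obtain ⟨a, rfl⟩ := hsurj y
  rw [Ideal.mem_bot, ← RingHom.mem_ker, hker, mem_maximalIdeal, mem_nonunits_iff]
  intro hu
  exact (mem_nonunits_iff.mp ((mem_maximalIdeal _).mp hy)) (hu.map _)

end Sch

section Main

variable {X S : Scheme.{u}} (f : X ⟶ S)

/-- S9724 with the fibre condition phrased as `𝔪_s O_{X,x} ≠ 𝔪_x`. -/
theorem exists_smooth_effCartier_of_ne (x : X)
    (W : X.Opens) (hxW : x ∈ W) (hW : Smooth (W.ι ≫ f))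
    (hsep : letI := (f.residueFieldMap x).hom.toAlgebra
      Algebra.FormallySmooth (S.residueField (f x)) (X.residueField x))
    (hne : (maximalIdeal (S.presheaf.stalk (f x))).map (f.stalkMap x).hom ≠
      maximalIdeal (X.presheaf.stalk x)) :
    ∃ (U : X.Opens) (hU : IsAffineOpen U) (hx : x ∈ U) (h' : Γ(X, U)),
      h' ∈ nonZeroDivisors Γ(X, U) ∧
      X.presheaf.germ U x hx h' ∈ maximalIdeal ↑(X.presheaf.stalk x) ∧
      Smooth (Spec.map (CommRingCat.ofHom (Ideal.Quotient.mk (Ideal.span {h'}))) ≫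
        hU.fromSpec ≫ f) := by
  obtain ⟨hfs, heft⟩ := stalkMap_props f W hW x hxW
  letI i1 : Algebra ↑(S.presheaf.stalk (f x)) ↑(X.presheaf.stalk x) := (f.stalkMap x).hom.toAlgebra
  haveI : IsLocalHom (algebraMap ↑(S.presheaf.stalk (f x)) ↑(X.presheaf.stalk x)) :=
    inferInstanceAs (IsLocalHom (f.stalkMap x).hom)
  haveI : Algebra.FormallySmooth ↑(S.presheaf.stalk (f x)) ↑(X.presheaf.stalk x) := hfs
  haveI : Algebra.EssFiniteType ↑(S.presheaf.stalk (f x)) ↑(X.presheaf.stalk x) := heft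
  letI i2 : Algebra (↑(S.presheaf.stalk (f x)) ⧸ maximalIdeal ↑(S.presheaf.stalk (f x)))
      (ResidueField ↑(X.presheaf.stalk x)) := (f.residueFieldMap x).hom.toAlgebra
  letI i3 : Algebra ↑(S.presheaf.stalk (f x)) (ResidueField ↑(X.presheaf.stalk x)) :=
    ((residue ↑(X.presheaf.stalk x)).comp (f.stalkMap x).hom).toAlgebra
  haveI : IsScalarTower ↑(S.presheaf.stalk (f x))
      (↑(S.presheaf.stalk (f x)) ⧸ maximalIdeal ↑(S.presheaf.stalk (f x)))
      (ResidueField ↑(X.presheaf.stalk x)) :=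
    IsScalarTower.of_algebraMap_eq (fun a => rfl)
  haveI : IsScalarTower ↑(S.presheaf.stalk (f x)) ↑(X.presheaf.stalk x)
      (ResidueField ↑(X.presheaf.stalk x)) :=
    IsScalarTower.of_algebraMap_eq (fun _ => rfl)
  haveI : Algebra.FormallySmooth
      (↑(S.presheaf.stalk (f x)) ⧸ maximalIdeal ↑(S.presheaf.stalk (f x)))
      (ResidueField ↑(X.presheaf.stalk x)) := hsep
  obtain ⟨h, hm, hd⟩ := exists_D_notMem ↑(S.presheaf.stalk (f x)) ↑(X.presheaf.stalk x) hne
  obtain ⟨U, hU, hx, h', h1, h2, h3⟩ :=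
    Groth.Agent.Lib.Seat18.SliceSch.exists_smooth_effCartier f x W hxW hW h hd
  exact ⟨U, hU, hx, h', h2, h1 ▸ hm, h3⟩

/-- S9724. -/
theorem exists_smooth_effCartier_of_fiber (x : X)
    (W : X.Opens) (hxW : x ∈ W) (hW : Smooth (W.ι ≫ f))
    (hsep : letI := (f.residueFieldMap x).hom.toAlgebra
      Algebra.FormallySmooth (S.residueField (f x)) (X.residueField x))
    (hgen : maximalIdeal ↑((f.fiber (f x)).presheaf.stalk (f.asFiber x)) ≠ ⊥) :
    ∃ (U : X.Opens) (hU : IsAffineOpen U) (hx : x ∈ U) (h' : Γ(X, U)),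
      h' ∈ nonZeroDivisors Γ(X, U) ∧
      X.presheaf.germ U x hx h' ∈ maximalIdeal ↑(X.presheaf.stalk x) ∧
      Smooth (Spec.map (CommRingCat.ofHom (Ideal.Quotient.mk (Ideal.span {h'}))) ≫
        hU.fromSpec ≫ f) := by
  have h0 := map_maximalIdeal_ne_of_fiber f (f x) (f.asFiber x) hgen
  have key : ∀ y : X, y = x →
      (maximalIdeal (S.presheaf.stalk (f y))).map (f.stalkMap y).hom ≠
        maximalIdeal (X.presheaf.stalk y) →
      (maximalIdeal (S.presheaf.stalk (f x))).map (f.stalkMap x).hom ≠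
        maximalIdeal (X.presheaf.stalk x) := by
    rintro y rfl hy
    exact hy
  exact exists_smooth_effCartier_of_ne f x W hxW hW hsep (key _ (f.fiberι_asFiber x) h0)

end Main

end Groth.Agent.Lib.Seat18.SliceFib
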