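import Mathlib
import Groth.Agent.Lib.Seat18SliceFib

/-!
# Seat 18: étale slices through a point with unramified residue field
-/

set_option autoImplicit false
set_option linter.style.haveILetI false
set_option linter.unusedSectionVars false
universe u

open AlgebraicGeometry CategoryTheory IsLocalRing TopologicalSpace TensorProduct KaehlerDifferential

namespace Groth.Agent.Lib.Seat18.EtSlice

section Alg

variable (A : Type u) {B : Type u} [CommRing A] [CommRing B] [Algebra A B]

/-- If `κ(q)` is formally unramified over `A`, every element of `κ(q) ⊗ Ω_{B_q/A}` is of the form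
`1 ⊗ dh` with `h ∈ q B_q`. -/
theorem exists_one_tmul_D_eq (q : Ideal B) [q.IsPrime]
    [Algebra.FormallyUnramified A (ResidueField (Localization.AtPrime q))]
    (t : ResidueField (Localization.AtPrime q) ⊗[Localization.AtPrime q]
      Ω[Localization.AtPrime q⁄A]) :
    ∃ h ∈ maximalIdeal (Localization.AtPrime q),
      (1 : ResidueField (Localization.AtPrime q)) ⊗ₜ[Localization.AtPrime q]
        D A (Localization.AtPrime q) h = t := by
  have hrange := KaehlerDifferential.range_kerCotangentToTensor A (Localization.AtPrime q)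
    (ResidueField (Localization.AtPrime q)) IsLocalRing.residue_surjective
  have ht : t ∈ LinearMap.range (kerCotangentToTensor A (Localization.AtPrime q)
      (ResidueField (Localization.AtPrime q))) := by
    rw [hrange]
    simp only [Submodule.restrictScalars_mem, LinearMap.mem_ker]
    exact Subsingleton.elim _ _
  obtain ⟨c, rfl⟩ := ht
  obtain ⟨y, rfl⟩ := Ideal.toCotangent_surjective _ c
  refine ⟨y, ?_, ?_⟩
  · have h0 : algebraMap (Localization.AtPrime q) (ResidueField (Localization.AtPrime q))
        (y : Localization.AtPrime q) = 0 := y.2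
    exact (IsLocalRing.residue_eq_zero_iff _).mp h0
  · rw [kerCotangentToTensor_toCotangent]

end Alg

section Alg2

variable (A : Type u) {B : Type u} [CommRing A] [CommRing B] [Algebra A B]

/-- **Étale slice (algebra).** `B` finitely presented over `A`, smooth at `q`, with `κ(q)` formally
unramified over `A` (i.e. `q` closed in its fibre with separable residue extension). Then there are
`g i ∈ q` and `f ∉ q` such that `B_{f'} ⧸ (g)` is étale over `A` for every multiple `f'` of `f`. -/
theorem exists_etale_quotient [Algebra.FinitePresentation A B]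
    (q : Ideal B) [q.IsPrime] [Algebra.IsSmoothAt A q]
    [Algebra.FormallyUnramified A (ResidueField (Localization.AtPrime q))] :
    ∃ (n : ℕ) (g : Fin n → B) (_ : ∀ i, g i ∈ q) (f : B) (_ : f ∉ q),
      ∀ (f' : B), f ∣ f' → ∀ (Bf : Type u) [CommRing Bf] [Algebra B Bf]
        [IsLocalization.Away f' Bf],
        ((Ideal.Quotient.mk (Ideal.span (Set.range fun i => algebraMap B Bf (g i)))).comp
          ((algebraMap B Bf).comp (algebraMap A B))).Etale := by
  classical
  haveI hsm : Algebra.FormallySmooth A (Localization.AtPrime q) := ‹Algebra.IsSmoothAt A q›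
  haveI : Module.Projective (Localization.AtPrime q) Ω[Localization.AtPrime q⁄A] :=
    ((Algebra.formallySmooth_iff (R := A) (A := Localization.AtPrime q)).mp hsm).1
  haveI : Module.Finite (Localization.AtPrime q) Ω[Localization.AtPrime q⁄A] := inferInstance
  haveI : Module.Free (Localization.AtPrime q) Ω[Localization.AtPrime q⁄A] :=
    Module.free_of_flat_of_isLocalRing
  set n := Module.finrank (ResidueField (Localization.AtPrime q))
    (ResidueField (Localization.AtPrime q) ⊗[Localization.AtPrime q]
      Ω[Localization.AtPrime q⁄A]) with hn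
  let e : Module.Basis (Fin n) (ResidueField (Localization.AtPrime q))
      (ResidueField (Localization.AtPrime q) ⊗[Localization.AtPrime q]
        Ω[Localization.AtPrime q⁄A]) := Module.finBasis _ _
  choose h hhm hhe using fun i => exists_one_tmul_D_eq A q (e i)
  have key : ∀ i, ∃ (g : B) (s : q.primeCompl),
      h i * algebraMap B (Localization.AtPrime q) s = algebraMap B (Localization.AtPrime q) g :=
    fun i => by
      obtain ⟨⟨g, s⟩, hgs⟩ := IsLocalization.surj q.primeCompl (h i)
      exact ⟨g, s, hgs⟩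
  choose g s hgs using key
  have hgq : ∀ i, g i ∈ q := fun i => by
    rw [← IsLocalization.AtPrime.to_map_mem_maximal_iff (Localization.AtPrime q) q, ← hgs]
    exact Ideal.mul_mem_right _ _ (hhm i)
  have hDg : ∀ i, (1 : ResidueField (Localization.AtPrime q)) ⊗ₜ[Localization.AtPrime q]
      D A (Localization.AtPrime q) (algebraMap B (Localization.AtPrime q) (g i)) =
      residue (Localization.AtPrime q) (algebraMap B (Localization.AtPrime q) (s i)) • e i := by
    intro i
    rw [← hgs, Derivation.leibniz, TensorProduct.tmul_add, TensorProduct.tmul_smul,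
      TensorProduct.tmul_smul, ← hhe i]
    have h1 : h i • ((1 : ResidueField (Localization.AtPrime q)) ⊗ₜ[Localization.AtPrime q]
        D A (Localization.AtPrime q) (algebraMap B (Localization.AtPrime q) (s i))) = 0 := by
      rw [TensorProduct.smul_tmul', Algebra.smul_def, mul_one,
        IsLocalRing.ResidueField.algebraMap_eq, (IsLocalRing.residue_eq_zero_iff _).mpr (hhm i),
        TensorProduct.zero_tmul]
    rw [h1, zero_add, TensorProduct.smul_tmul', TensorProduct.smul_tmul', Algebra.smul_def,
      IsLocalRing.ResidueField.algebraMap_eq, smul_eq_mul]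
  -- linear independence
  have hres : ∀ i, residue (Localization.AtPrime q)
      (algebraMap B (Localization.AtPrime q) (s i)) ≠ 0 := fun i => by
    rw [Ne, IsLocalRing.residue_eq_zero_iff,
      IsLocalization.AtPrime.to_map_mem_maximal_iff (Localization.AtPrime q) q]
    exact (s i).2
  have hu : LinearIndependent (ResidueField (Localization.AtPrime q))
      (fun i => (1 : ResidueField (Localization.AtPrime q)) ⊗ₜ[Localization.AtPrime q]
        D A (Localization.AtPrime q) (algebraMap B (Localization.AtPrime q) (g i))) := by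
    have := e.linearIndependent.units_smul (fun i => Units.mk0 _ (hres i))
    convert this using 1
    funext i
    rw [hDg i]
    rfl
  obtain ⟨f, hfq, m, b, hrm, H⟩ := Groth.Agent.Lib.Seat18.Slice.exists_etale_slice A q g hu
  have hm0 : m = 0 := by
    have h1 : Module.finrank (Localization.AtPrime q) Ω[Localization.AtPrime q⁄A] = n := by
      rw [hn, Module.finrank_baseChange]
    omega
  subst hm0
  refine ⟨n, g, hgq, f, hfq, fun f' hff' Bf _ _ _ => ?_⟩
  obtain ⟨-, het⟩ := H f' hff' Bf
  have h1 : (algebraMap A (MvPolynomial (Fin 0) A)).Etale :=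
    RingHom.Etale.of_bijective (MvPolynomial.isEmptyAlgEquiv A (Fin 0)).symm.bijective
  have h3 := RingHom.Etale.stableUnderComposition _ _ h1 het
  convert h3 using 1
  ext a
  simp

end Alg2

section Sch

variable {X S : Scheme.{u}} (f : X ⟶ S)

/-- In an affine chart, the residue field at `x` is formally unramified over the base ring when
`κ(x)/κ(f x)` is separable algebraic. -/
theorem formallyUnramified_residueField_chart (x : X)
    {V : S.Opens} (hV : IsAffineOpen V) {U : X.Opens} (hU : IsAffineOpen U) (e : U ≤ f ⁻¹ᵁ V)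
    (hxU : x ∈ U)
    (hsep : @Algebra.IsSeparable (S.residueField (f x)) (X.residueField x) _ _
      (f.residueFieldMap x).hom.toAlgebra) :
    letI := (f.appLE V U e).hom.toAlgebra
    Algebra.FormallyUnramified Γ(S, V)
      (ResidueField (Localization.AtPrime (hU.primeIdealOf ⟨x, hxU⟩).asIdeal)) := by
  letI := (f.appLE V U e).hom.toAlgebra
  set q := (hU.primeIdealOf ⟨x, hxU⟩).asIdeal with hq
  letI algBR' : Algebra Γ(X, U) (X.presheaf.stalk x) := X.presheaf.algebra_section_stalk ⟨x, hxU⟩
  haveI hloc : IsLocalization.AtPrime (X.presheaf.stalk x) q := hU.isLocalization_stalk ⟨x, hxU⟩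
  let eR : Localization.AtPrime q ≃ₐ[Γ(X, U)] X.presheaf.stalk x :=
    IsLocalization.algEquiv q.primeCompl _ _
  let ebar : ResidueField (Localization.AtPrime q) ≃+* ResidueField (X.presheaf.stalk x) :=
    ResidueField.mapEquiv eR.toRingEquiv
  have hfx : f x ∈ V := e hxU
  have h1 : (S.presheaf.germ V (f x) hfx).hom.FormallyUnramified := by
    letI := S.presheaf.algebra_section_stalk ⟨f x, hfx⟩
    haveI := hV.isLocalization_stalk ⟨f x, hfx⟩
    exact RingHom.formallyUnramified_algebraMap.mpr
      (Algebra.FormallyUnramified.of_isLocalization (hV.primeIdealOf ⟨f x, hfx⟩).asIdeal.primeCompl)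
  have h2 : (residue (S.presheaf.stalk (f x))).FormallyUnramified :=
    .of_surjective residue_surjective
  have h3 : (f.residueFieldMap x).hom.FormallyUnramified :=
    @Algebra.FormallyUnramified.of_isSeparable _ _ _ _ (f.residueFieldMap x).hom.toAlgebra hsep
  have h4 : (ebar.symm : ResidueField (X.presheaf.stalk x) →+*
      ResidueField (Localization.AtPrime q)).FormallyUnramified :=
    .of_surjective ebar.symm.surjective
  have h := ((h1.comp h2).comp h3).comp h4
  rw [← RingHom.formallyUnramified_algebraMap]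
  convert h using 1
  ext a
  have key : ebar (algebraMap Γ(S, V) (ResidueField (Localization.AtPrime q)) a) =
      (f.residueFieldMap x).hom (residue _ (S.presheaf.germ V (f x) hfx a)) := by
    have hL : algebraMap Γ(S, V) (ResidueField (Localization.AtPrime q)) a =
        residue _ (algebraMap Γ(X, U) (Localization.AtPrime q) ((f.appLE V U e).hom a)) := rfl
    have hE : ∀ z, ebar (residue _ z) = residue _ (eR z) := fun z => rfl
    rw [hL, hE, eR.commutes]
    change residue _ (X.presheaf.germ U x hxU ((f.appLE V U e).hom a)) =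
      residue _ ((f.stalkMap x).hom (S.presheaf.germ V (f x) hfx a))
    congr 1
    rw [Scheme.Hom.germ_stalkMap_apply]
    exact TopCat.Presheaf.germ_res_apply X.presheaf (homOfLE e) x hxU _
  exact (ebar.symm_apply_eq.mpr key.symm).symm

end Sch

section Main

/-- Étale morphisms are locally quasi-finite. -/
theorem locallyQuasiFinite_of_etale {X Y : Scheme.{u}} (f : X ⟶ Y) [hf : Etale f] :
    LocallyQuasiFinite f := by
  rw [HasRingHomProperty.eq_affineLocally @LocallyQuasiFinite]
  rw [HasRingHomProperty.eq_affineLocally @Etale] at hf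
  refine affineLocally_le (fun {R S} _ _ {φ} hφ => ?_) f hf
  letI := φ.toAlgebra
  haveI h1 : Algebra.Etale R S := hφ
  have : Algebra.QuasiFinite R S := inferInstance
  exact this

variable {X S : Scheme.{u}} (f : X ⟶ S)

/-- **Étale slice through a point** (S0413). -/
theorem exists_etale_slice_through [Smooth f] (x : X)
    (hsep : @Algebra.IsSeparable (S.residueField (f x)) (X.residueField x) _ _
      (f.residueFieldMap x).hom.toAlgebra) :
    ∃ (Z : Scheme.{u}) (i : Z ⟶ X) (z : Z), IsImmersion i ∧ Etale (i ≫ f) ∧ i z = x ∧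
      ∀ z' : ↑Z, f (i z') = f x → z' = z := by
  classical
  obtain ⟨V, hV, hfxV, -⟩ := exists_isAffineOpen_mem_and_subset (X := S) (x := f x)
    (U := ⊤) trivial
  obtain ⟨U₀, hU₀, hxU₀, hU₀le⟩ := exists_isAffineOpen_mem_and_subset (X := X) (x := x)
    (U := f ⁻¹ᵁ V) hfxV
  have e : U₀ ≤ f ⁻¹ᵁ V := hU₀le
  have hsm := f.smooth_appLE hV hU₀ e
  have hunr := formallyUnramified_residueField_chart f x hV hU₀ e hxU₀ hsep
  algebraize [(f.appLE V U₀ e).hom]
  set q : Ideal Γ(X, U₀) := (hU₀.primeIdealOf ⟨x, hxU₀⟩).asIdeal with hq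
  haveI : Algebra.FormallySmooth Γ(X, U₀) (Localization.AtPrime q) :=
    Algebra.FormallySmooth.of_isLocalization q.primeCompl
  haveI : Algebra.IsSmoothAt Γ(S, V) q :=
    Algebra.FormallySmooth.comp Γ(S, V) Γ(X, U₀) (Localization.AtPrime q)
  haveI : Algebra.FormallyUnramified Γ(S, V) (ResidueField (Localization.AtPrime q)) := hunr
  obtain ⟨n, g, hgq, f₀, hf₀q, H⟩ := exists_etale_quotient Γ(S, V) q
  letI algBR' : Algebra Γ(X, U₀) (X.presheaf.stalk x) :=
    X.presheaf.algebra_section_stalk ⟨x, hxU₀⟩
  haveI hloc : IsLocalization.AtPrime (X.presheaf.stalk x) q := hU₀.isLocalization_stalk ⟨x, hxU₀⟩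
  have hU : IsAffineOpen (X.basicOpen f₀) := hU₀.basicOpen f₀
  have hUU₀ : X.basicOpen f₀ ≤ U₀ := X.basicOpen_le f₀
  have hxU : x ∈ X.basicOpen f₀ := by
    rw [Scheme.mem_basicOpen _ _ x hxU₀]
    exact IsLocalization.map_units (X.presheaf.stalk x) (⟨f₀, hf₀q⟩ : q.primeCompl)
  haveI : IsLocalization.Away f₀ Γ(X, X.basicOpen f₀) := hU₀.isLocalization_basicOpen f₀
  have het := H f₀ dvd_rfl Γ(X, X.basicOpen f₀)
  have hgm : ∀ i, X.presheaf.germ U₀ x hxU₀ (g i) ∈ maximalIdeal (X.presheaf.stalk x) := fun i =>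
    (IsLocalization.AtPrime.to_map_mem_maximal_iff (X.presheaf.stalk x) q (g i)).mpr (hgq i)
  set J : Ideal Γ(X, X.basicOpen f₀) :=
    Ideal.span (Set.range fun i => algebraMap Γ(X, U₀) Γ(X, X.basicOpen f₀) (g i)) with hJ
  let i₀ : Spec (CommRingCat.of (Γ(X, X.basicOpen f₀) ⧸ J)) ⟶ X :=
    Spec.map (CommRingCat.ofHom (Ideal.Quotient.mk J)) ≫ hU.fromSpec
  haveI hi₀ : IsImmersion i₀ := inferInstance
  have e' : X.basicOpen f₀ ≤ f ⁻¹ᵁ V := hUU₀.trans e
  haveI het₀ : Etale (i₀ ≫ f) := by
    have h3 : Etale (Spec.map (f.appLE V (X.basicOpen f₀) e' ≫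
        CommRingCat.ofHom (Ideal.Quotient.mk J))) := by
      rw [HasRingHomProperty.Spec_iff (P := @Etale)]
      have key : (f.appLE V (X.basicOpen f₀) e' ≫ CommRingCat.ofHom (Ideal.Quotient.mk J)).hom =
          (Ideal.Quotient.mk J).comp ((algebraMap Γ(X, U₀) Γ(X, X.basicOpen f₀)).comp
            (algebraMap Γ(S, V) Γ(X, U₀))) := by
        rw [← Scheme.Hom.appLE_map f e (homOfLE hUU₀).op]
        rfl
      rw [key]
      exact het
    have hfac : i₀ ≫ f = Spec.map (f.appLE V (X.basicOpen f₀) e' ≫
        CommRingCat.ofHom (Ideal.Quotient.mk J)) ≫ hV.fromSpec := by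
      simp only [i₀, Category.assoc, Spec.map_comp]
      rw [hV.SpecMap_appLE_fromSpec f hU e']
    rw [hfac]
    infer_instance
  let y : Spec Γ(X, X.basicOpen f₀) := hU.primeIdealOf ⟨x, hxU⟩
  have hy : hU.fromSpec y = x := hU.fromSpec_primeIdealOf ⟨x, hxU⟩
  have hJy : J ≤ y.asIdeal := by
    rw [hJ, Ideal.span_le]
    rintro _ ⟨i, rfl⟩
    letI : Algebra Γ(X, X.basicOpen f₀) (X.presheaf.stalk x) :=
      X.presheaf.algebra_section_stalk ⟨x, hxU⟩
    haveI : IsLocalization.AtPrime (X.presheaf.stalk x) y.asIdeal :=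
      hU.isLocalization_stalk ⟨x, hxU⟩
    rw [SetLike.mem_coe,
      ← IsLocalization.AtPrime.to_map_mem_maximal_iff (X.presheaf.stalk x) y.asIdeal]
    have h4 : algebraMap Γ(X, X.basicOpen f₀) (X.presheaf.stalk x)
        (algebraMap Γ(X, U₀) Γ(X, X.basicOpen f₀) (g i)) = X.presheaf.germ U₀ x hxU₀ (g i) :=
      TopCat.Presheaf.germ_res_apply X.presheaf (homOfLE hUU₀) x hxU (g i)
    rw [h4]
    exact hgm i
  obtain ⟨z₀, hz₀⟩ : ∃ z₀ : Spec (CommRingCat.of (Γ(X, X.basicOpen f₀) ⧸ J)),
      Spec.map (CommRingCat.ofHom (Ideal.Quotient.mk J)) z₀ = y := by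
    have : y ∈ Set.range (PrimeSpectrum.comap (Ideal.Quotient.mk J)) := by
      rw [range_comap_of_surjective _ _ Ideal.Quotient.mk_surjective, Ideal.mk_ker]
      exact hJy
    exact this
  have hiz₀ : i₀ z₀ = x := by
    simp only [i₀, Scheme.Hom.comp_apply]
    rw [hz₀, hy]
  haveI := locallyQuasiFinite_of_etale (i₀ ≫ f)
  have hdisc := (i₀ ≫ f).isDiscrete_preimage_singleton (f x)
  have hz₀mem : z₀ ∈ (i₀ ≫ f) ⁻¹' {f x} := by
    simp only [Set.mem_preimage, Scheme.Hom.comp_apply, hiz₀, Set.mem_singleton_iff]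
  obtain ⟨O, hO, hOeq⟩ := isDiscrete_iff_forall_mem_exists_isOpen.mp hdisc z₀ hz₀mem
  let O' : (Spec (CommRingCat.of (Γ(X, X.basicOpen f₀) ⧸ J))).Opens := ⟨O, hO⟩
  have hz₀O : z₀ ∈ O := by
    have : z₀ ∈ O ∩ (i₀ ≫ f) ⁻¹' {f x} := hOeq ▸ Set.mem_singleton z₀
    exact this.1
  refine ⟨O', O'.ι ≫ i₀, ⟨z₀, hz₀O⟩, inferInstance, ?_, ?_, ?_⟩
  · rw [Category.assoc]
    infer_instance
  · exact hiz₀
  · intro z' hz'
    have h5 : (O'.ι z') ∈ O ∩ (i₀ ≫ f) ⁻¹' {f x} := by
      refine ⟨z'.2, ?_⟩
      simpa only [Set.mem_preimage, Scheme.Hom.comp_apply, Set.mem_singleton_iff] using hz'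
    rw [hOeq] at h5
    exact Subtype.ext h5

end Main

end Groth.Agent.Lib.Seat18.EtSlice
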