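import Mathlib.RingTheory.Smooth.Locus
import Mathlib.RingTheory.RingHom.Etale
import Mathlib.RingTheory.FinitePresentation
import Mathlib.RingTheory.Localization.Away.Basic
import Mathlib.RingTheory.LocalRing.ResidueField.Defs
import Mathlib.RingTheory.Kaehler.Basic
import Mathlib.RingTheory.Kaehler.JacobiZariski
import Mathlib.RingTheory.Etale.Locus
import Mathlib.RingTheory.Smooth.StandardSmoothOfFree
import Mathlib.LinearAlgebra.Dimension.Finrank
import Mathlib.RingTheory.Jacobson.Ring
import Mathlib.FieldTheory.Finite.Basic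
import Mathlib.FieldTheory.Perfect

/-!
# Etale coordinates with prescribed residue field at a smooth point over a finite residue field
-/

set_option autoImplicit false
open TensorProduct
universe u

namespace Groth.Agent.Lib.Seat18.EtaleChart

/-- Jacobi–Zariski: if `A ⊗_P Ω[P/k] → Ω[A/k]` is bijective and `H¹(L_{A/k}) = 0` then
`A` is formally étale over `P`. -/
theorem formallyEtale_of_bijective_mapBaseChange (k P A : Type u) [CommRing k] [CommRing P] [CommRing A]
    [Algebra k P] [Algebra P A] [Algebra k A] [IsScalarTower k P A]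
    [Subsingleton (Algebra.H1Cotangent k A)]
    (h : Function.Bijective (KaehlerDifferential.mapBaseChange k P A)) :
    Algebra.FormallyEtale P A := by
  constructor
  · have hex := KaehlerDifferential.exact_mapBaseChange_map k P A
    have hs := KaehlerDifferential.map_surjective k P A
    refine ⟨fun x y => ?_⟩
    obtain ⟨x', rfl⟩ := hs x
    obtain ⟨y', rfl⟩ := hs y
    obtain ⟨x'', rfl⟩ := h.2 x'
    obtain ⟨y'', rfl⟩ := h.2 y'
    rw [hex.apply_apply_eq_zero, hex.apply_apply_eq_zero]
  · have h1 := Algebra.H1Cotangent.exact_map_δ k P A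
    have h2 := Algebra.H1Cotangent.exact_δ_mapBaseChange k P A
    have hδ : ∀ x, Algebra.H1Cotangent.δ k P A x = 0 := fun x =>
      h.1 (by rw [h2.apply_apply_eq_zero, map_zero])
    have h0 : ∀ x : Algebra.H1Cotangent P A, x = 0 := by
      intro x
      obtain ⟨z, rfl⟩ := (h1 x).mp (hδ x)
      rw [Subsingleton.elim z 0, map_zero]
    exact ⟨fun x y => by rw [h0 x, h0 y]⟩

/-- If the differentials of the images of the variables form a basis of `Ω[A/k]`, then
`A ⊗_P Ω[P/k] → Ω[A/k]` is bijective, `P = k[X_i]`. -/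
theorem bijective_mapBaseChange_of_basis {k A : Type u} {ι : Type} [CommRing k] [CommRing A]
    [Algebra k A] [Algebra (MvPolynomial ι k) A] [IsScalarTower k (MvPolynomial ι k) A]
    (b' : Module.Basis ι A (Ω[A⁄k]))
    (hb' : ∀ i, b' i = KaehlerDifferential.D k A (algebraMap (MvPolynomial ι k) A (MvPolynomial.X i))) :
    Function.Bijective (KaehlerDifferential.mapBaseChange k (MvPolynomial ι k) A) := by
  let bP := KaehlerDifferential.mvPolynomialBasis k ι
  let B : Module.Basis ι A (A ⊗[MvPolynomial ι k] Ω[MvPolynomial ι k⁄k]) := bP.baseChange A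
  have h : KaehlerDifferential.mapBaseChange k (MvPolynomial ι k) A =
      (B.equiv b' (Equiv.refl ι)).toLinearMap := by
    apply B.ext
    intro i
    rw [LinearEquiv.coe_coe, Module.Basis.equiv_apply]
    simp only [B, bP, Module.Basis.baseChange_apply, KaehlerDifferential.mvPolynomialBasis_apply,
      KaehlerDifferential.mapBaseChange_tmul, KaehlerDifferential.map_D, one_smul, Equiv.refl_apply,
      hb']
  rw [h]
  exact (B.equiv b' (Equiv.refl ι)).bijective

/-- Over a local ring, perturbing a basis by elements of `𝔪 M` gives a basis. -/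
theorem exists_basis_of_sub_mem {A M : Type*} {ι : Type} [CommRing A] [IsLocalRing A] [AddCommGroup M]
    [Module A M] [Finite ι] (b : Module.Basis ι A M) (v' : ι → M)
    (h : ∀ i, v' i - b i ∈ (IsLocalRing.maximalIdeal A) • (⊤ : Submodule A M)) :
    ∃ b' : Module.Basis ι A M, ∀ i, b' i = v' i := by
  have : Module.Free A M := .of_basis b
  have : Module.Finite A M := .of_basis b
  have hmk : (TensorProduct.mk A (IsLocalRing.ResidueField A) M 1) ∘ v' =
      ⇑(b.baseChange (IsLocalRing.ResidueField A)) := by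
    funext i
    rw [Function.comp_apply, Module.Basis.baseChange_apply]
    have h1 : v' i - b i ∈ LinearMap.ker (TensorProduct.mk A (A ⧸ IsLocalRing.maximalIdeal A) M 1) := by
      rw [LinearMap.ker_tensorProductMk]; exact h i
    rw [LinearMap.mem_ker, map_sub, sub_eq_zero] at h1
    exact h1
  have hbij : Function.Bijective (Finsupp.linearCombination (IsLocalRing.ResidueField A)
      ((TensorProduct.mk A (IsLocalRing.ResidueField A) M 1) ∘ v')) := by
    rw [hmk, ← Module.Basis.coe_repr_symm]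
    exact (b.baseChange _).repr.symm.bijective
  have hb := Module.IsLocalRing.linearCombination_bijective_of_flat v' hbij
  refine ⟨Module.Basis.mk (v := v') hb.1 ?_, fun i => Module.Basis.mk_apply _ _ i⟩
  rw [← Finsupp.range_linearCombination, LinearMap.range_eq_top.mpr hb.2]

section Local

variable (k : Type u) [CommRing k] (R : Type u) [CommRing R] [Algebra k R]
  [Algebra.FinitePresentation k R] (m : Ideal R) [m.IsMaximal]

/-- A basis of `Ω[R_m/k]` consisting of differentials of elements of `R`. -/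
theorem exists_basis_D [Algebra.IsSmoothAt k m] :
    ∃ (κ : Type u) (a : κ → R) (b : Module.Basis κ (Localization.AtPrime m) (Ω[Localization.AtPrime m⁄k])),
      ∀ i, b i = KaehlerDifferential.D k (Localization.AtPrime m) (algebraMap R (Localization.AtPrime m) (a i)) := by
  obtain ⟨κ, a, b, hb⟩ := Module.exists_basis_of_span_of_flat _
    (KaehlerDifferential.span_range_map_derivation_of_isLocalization k R (Localization.AtPrime m) m.primeCompl)
  refine ⟨κ, fun i => (a i), b, fun i => ?_⟩
  rw [hb]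
  simp

omit [Algebra.FinitePresentation k R] in
/-- The cardinality of a basis of `Ω[R_m/k]` is the dimension of the fibre of `Ω[R/k]` at `m`. -/
theorem card_basis_eq {κ : Type*} [Fintype κ]
    (b : Module.Basis κ (Localization.AtPrime m) (Ω[Localization.AtPrime m⁄k])) :
    Fintype.card κ = Module.finrank (R ⧸ m) ((R ⧸ m) ⊗[R] Ω[R⁄k]) := by
  let A := Localization.AtPrime m
  let K := m.ResidueField
  let _ : Field (R ⧸ m) := Ideal.Quotient.field m
  let e1 : A ⊗[R] Ω[R⁄k] ≃ₗ[A] Ω[A⁄k] := KaehlerDifferential.tensorKaehlerEquivOfFormallyEtale k R A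
  let e2 : K ⊗[A] (A ⊗[R] Ω[R⁄k]) ≃ₗ[K] K ⊗[R] Ω[R⁄k] :=
    AlgebraTensorModule.cancelBaseChange R A K K Ω[R⁄k]
  let e3 : K ⊗[R ⧸ m] ((R ⧸ m) ⊗[R] Ω[R⁄k]) ≃ₗ[K] K ⊗[R] Ω[R⁄k] :=
    AlgebraTensorModule.cancelBaseChange R (R ⧸ m) K K Ω[R⁄k]
  let e4 : K ⊗[A] (A ⊗[R] Ω[R⁄k]) ≃ₗ[K] K ⊗[A] Ω[A⁄k] :=
    AlgebraTensorModule.congr (LinearEquiv.refl K K) e1
  have : Module.Free A Ω[A⁄k] := Module.Free.of_basis b
  have h1 : Module.finrank K (K ⊗[A] Ω[A⁄k]) = Fintype.card κ := by
    rw [Module.finrank_baseChange, Module.finrank_eq_card_basis b]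
  have h2 : Module.finrank K (K ⊗[R ⧸ m] ((R ⧸ m) ⊗[R] Ω[R⁄k])) =
      Module.finrank (R ⧸ m) ((R ⧸ m) ⊗[R] Ω[R⁄k]) := Module.finrank_baseChange
  rw [← h1, ← h2]
  exact LinearEquiv.finrank_eq (e4.symm ≪≫ₗ e2 ≪≫ₗ e3.symm)

end Local

theorem finite_quotient (k R : Type u) [CommRing k] [IsLocalRing k] [Finite (IsLocalRing.ResidueField k)]
    [CommRing R] [Algebra k R] [Algebra.FiniteType k R] (m : Ideal R) [m.IsMaximal]
    (hm : m.comap (algebraMap k R) = IsLocalRing.maximalIdeal k) : Finite (R ⧸ m) := by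
  have : m.LiesOver (IsLocalRing.maximalIdeal k) := ⟨hm.symm⟩
  let _ : Field (R ⧸ m) := Ideal.Quotient.field m
  have h1 : Algebra.FiniteType k (R ⧸ m) :=
    Algebra.FiniteType.of_surjective (Ideal.Quotient.mkₐ k m) Ideal.Quotient.mk_surjective
  have h2 : Algebra.FiniteType (k ⧸ IsLocalRing.maximalIdeal k) (R ⧸ m) :=
    Algebra.FiniteType.of_restrictScalars_finiteType k _ _
  have h3 : Finite (k ⧸ IsLocalRing.maximalIdeal k) := ‹Finite (IsLocalRing.ResidueField k)›
  have h4 : Module.Finite (k ⧸ IsLocalRing.maximalIdeal k) (R ⧸ m) :=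
    finite_of_finite_type_of_isJacobsonRing _ _
  exact Module.finite_of_finite (k ⧸ IsLocalRing.maximalIdeal k)

theorem exists_generator_add_pow {R : Type u} [CommRing R] (m : Ideal R) [m.IsMaximal] [Finite (R ⧸ m)] (a₀ : R) :
    ∃ (p : ℕ) (y : R), (p : R) ∈ m ∧ 0 < p ∧
      ∀ z : R ⧸ m, z = 0 ∨ ∃ j : ℕ, z = (Ideal.Quotient.mk m (a₀ + y ^ p)) ^ j := by
  let _ : Field (R ⧸ m) := Ideal.Quotient.field m
  let p := ringChar (R ⧸ m)
  have hp : p.Prime := CharP.char_is_prime (R ⧸ m) p
  have : Fact p.Prime := ⟨hp⟩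
  have hpm : (p : R) ∈ m := by
    rw [← Ideal.Quotient.eq_zero_iff_mem, map_natCast]
    exact CharP.cast_eq_zero _ _
  obtain ⟨u, hu⟩ := IsCyclic.exists_monoid_generator (α := (R ⧸ m)ˣ)
  obtain ⟨yb, hyb⟩ := surjective_frobenius (R ⧸ m) p ((u : R ⧸ m) - Ideal.Quotient.mk m a₀)
  obtain ⟨y, rfl⟩ := Ideal.Quotient.mk_surjective yb
  refine ⟨p, y, hpm, hp.pos, fun z => ?_⟩
  have hθ : Ideal.Quotient.mk m (a₀ + y ^ p) = (u : R ⧸ m) := by
    rw [map_add, map_pow, ← frobenius_def, hyb]; ring
  by_cases hz : z = 0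
  · exact Or.inl hz
  · right
    obtain ⟨j, hj⟩ := hu (Units.mk0 z hz)
    refine ⟨j, ?_⟩
    rw [hθ]
    have := congrArg (fun w : (R ⧸ m)ˣ => (w : R ⧸ m)) hj
    simpa using this.symm

theorem etaleAt_of_basis (k : Type u) [CommRing k] (R : Type u) [CommRing R] [Algebra k R]
    [Algebra.FinitePresentation k R] (m : Ideal R) [m.IsMaximal] [Algebra.IsSmoothAt k m] (d : ℕ)
    (a' : Fin d → R)
    (b' : Module.Basis (Fin d) (Localization.AtPrime m) (Ω[Localization.AtPrime m⁄k]))
    (hb' : ∀ i, b' i = KaehlerDifferential.D k (Localization.AtPrime m)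
      (algebraMap R (Localization.AtPrime m) (a' i))) :
    ∃ g : R, g ∉ m ∧ ∃ φ : MvPolynomial (Fin d) k →ₐ[k] Localization.Away g,
      φ.toRingHom.Etale ∧ ∀ i, φ (MvPolynomial.X i) = algebraMap R (Localization.Away g) (a' i) := by
  let P := MvPolynomial (Fin d) k
  let φ₀ : P →ₐ[k] R := MvPolynomial.aeval a'
  let _ : Algebra P R := φ₀.toRingHom.toAlgebra
  have : IsScalarTower k P R := IsScalarTower.of_algebraMap_eq' φ₀.comp_algebraMap.symm
  have hX : ∀ i, algebraMap P R (MvPolynomial.X i) = a' i := fun i => MvPolynomial.aeval_X a' i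
  have hbij : Function.Bijective (KaehlerDifferential.mapBaseChange k P (Localization.AtPrime m)) := by
    apply bijective_mapBaseChange_of_basis b'
    intro i
    rw [hb', IsScalarTower.algebraMap_apply P R (Localization.AtPrime m), hX]
  have hE : Algebra.FormallyEtale P (Localization.AtPrime m) :=
    formallyEtale_of_bijective_mapBaseChange k P (Localization.AtPrime m) hbij
  have : Algebra.FinitePresentation P R :=
    Algebra.FinitePresentation.of_restrict_scalars_finitePresentation k P R
  obtain ⟨g, hg, hEt⟩ := Algebra.exists_etale_of_isEtaleAt (R := P) m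
  refine ⟨g, hg, IsScalarTower.toAlgHom k P (Localization.Away g), ?_, fun i => ?_⟩
  · exact RingHom.etale_algebraMap.mpr hEt
  · rw [IsScalarTower.toAlgHom_apply, IsScalarTower.algebraMap_apply P R (Localization.Away g), hX]

theorem surjective_of_generator {R : Type u} [CommRing R] (m : Ideal R) [m.IsMaximal] (g : R) (hg : g ∉ m)
    (θ : R) (hθ : ∀ z : R ⧸ m, z = 0 ∨ ∃ j : ℕ, z = (Ideal.Quotient.mk m θ) ^ j)
    {P : Type*} [CommRing P] (φ : P →+* Localization.Away g) (x : P)
    (hx : φ x = algebraMap R (Localization.Away g) θ) :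
    Function.Surjective ((Ideal.Quotient.mk (m.map (algebraMap R (Localization.Away g)))).comp φ) := by
  intro w
  obtain ⟨w', rfl⟩ := Ideal.Quotient.mk_surjective w
  obtain ⟨r, ⟨_, n, rfl⟩, rfl⟩ := IsLocalization.exists_mk'_eq (Submonoid.powers g) w'
  have hg' : Ideal.Quotient.mk m g ≠ 0 := by
    rwa [Ne, Ideal.Quotient.eq_zero_iff_mem]
  obtain ⟨hb, hhb⟩ := Ideal.Quotient.exists_inv hg'
  obtain ⟨h, rfl⟩ := Ideal.Quotient.mk_surjective hb
  set q := m.map (algebraMap R (Localization.Away g)) with hq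
  have hmq : ∀ s : R, s ∈ m → Ideal.Quotient.mk q (algebraMap R (Localization.Away g) s) = 0 := by
    intro s hs
    rw [Ideal.Quotient.eq_zero_iff_mem]
    exact Ideal.mem_map_of_mem _ hs
  have hgh : Ideal.Quotient.mk q (algebraMap R _ g) * Ideal.Quotient.mk q (algebraMap R _ h) = 1 := by
    have h1 : g * h - 1 ∈ m := by
      rw [← Ideal.Quotient.eq_zero_iff_mem, map_sub, map_mul, hhb, map_one, sub_self]
    have h2 := hmq _ h1
    rw [map_sub, map_sub, map_mul, map_mul, map_one, map_one, sub_eq_zero] at h2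
    exact h2
  have key : Ideal.Quotient.mk q (IsLocalization.mk' (Localization.Away g) r
      (⟨g ^ n, n, rfl⟩ : Submonoid.powers g)) =
      Ideal.Quotient.mk q (algebraMap R _ (r * h ^ n)) := by
    have h3 : IsLocalization.mk' (Localization.Away g) r (⟨g ^ n, n, rfl⟩ : Submonoid.powers g) *
        algebraMap R _ (g ^ n) = algebraMap R _ r := IsLocalization.mk'_spec _ _ _
    have h4 := congrArg (Ideal.Quotient.mk q) h3
    rw [map_mul] at h4
    rw [map_mul, map_mul, ← h4, map_pow, map_pow, map_pow, map_pow, mul_assoc, ← mul_pow, hgh, one_pow,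
      mul_one]
  rcases hθ (Ideal.Quotient.mk m (r * h ^ n)) with h0 | ⟨j, hj⟩
  · refine ⟨0, ?_⟩
    rw [map_zero, key]
    exact (hmq _ (Ideal.Quotient.eq_zero_iff_mem.mp h0)).symm
  · refine ⟨x ^ j, ?_⟩
    rw [RingHom.comp_apply, map_pow, hx, key, ← map_pow, ← sub_eq_zero, ← map_sub, ← map_sub]
    apply hmq
    rw [← Ideal.Quotient.eq_zero_iff_mem, map_sub, map_pow, hj, sub_self]

theorem exists_etale_chart
    (k : Type u) [CommRing k] [IsLocalRing k] [Finite (IsLocalRing.ResidueField k)]
    (R : Type u) [CommRing R] [Algebra k R] [Algebra.FinitePresentation k R]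
    (m : Ideal R) [m.IsMaximal] (hm : m.comap (algebraMap k R) = IsLocalRing.maximalIdeal k)
    [Algebra.IsSmoothAt k m] (d : ℕ) (hd : 0 < d)
    (hdim : Module.finrank (R ⧸ m) ((R ⧸ m) ⊗[R] Ω[R⁄k]) = d) :
    ∃ g : R, g ∉ m ∧ ∃ φ : MvPolynomial (Fin d) k →ₐ[k] Localization.Away g,
      φ.toRingHom.Etale ∧
      Function.Surjective
        ((Ideal.Quotient.mk (m.map (algebraMap R (Localization.Away g)))).comp φ.toRingHom) := by
  obtain ⟨κ, a, b, hb⟩ := exists_basis_D k R m
  have : Finite κ := Module.Finite.finite_basis b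
  let _ : Fintype κ := Fintype.ofFinite κ
  have hcard : Fintype.card κ = d := (card_basis_eq k R m b).trans hdim
  let e : κ ≃ Fin d := Fintype.equivFinOfCardEq hcard
  let b₁ := b.reindex e
  let a₁ : Fin d → R := a ∘ e.symm
  have hb₁ : ∀ i, b₁ i = KaehlerDifferential.D k (Localization.AtPrime m)
      (algebraMap R (Localization.AtPrime m) (a₁ i)) := by
    intro i
    rw [Module.Basis.reindex_apply, hb]
    rfl
  let i₀ : Fin d := ⟨0, hd⟩
  have : Finite (R ⧸ m) := finite_quotient k R m hm
  obtain ⟨p, y, hpm, hp0, hgen⟩ := exists_generator_add_pow m (a₁ i₀)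
  let a' : Fin d → R := Function.update a₁ i₀ (a₁ i₀ + y ^ p)
  let v' : Fin d → Ω[Localization.AtPrime m⁄k] := fun i =>
    KaehlerDifferential.D k (Localization.AtPrime m) (algebraMap R (Localization.AtPrime m) (a' i))
  have hv' : ∀ i, v' i - b₁ i ∈ (IsLocalRing.maximalIdeal (Localization.AtPrime m)) •
      (⊤ : Submodule (Localization.AtPrime m) (Ω[Localization.AtPrime m⁄k])) := by
    intro i
    by_cases hi : i = i₀
    · subst hi
      have h1 : v' i₀ - b₁ i₀ = ((p : Localization.AtPrime m) *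
          (algebraMap R (Localization.AtPrime m) y) ^ (p - 1)) •
          KaehlerDifferential.D k (Localization.AtPrime m) (algebraMap R (Localization.AtPrime m) y) := by
        simp only [v', a', Function.update_self, hb₁, map_add, map_pow, add_sub_cancel_left,
          Derivation.leibniz_pow, mul_smul]
        rw [Nat.cast_smul_eq_nsmul]
      rw [h1]
      refine Submodule.smul_mem_smul (Ideal.mul_mem_right _ _ ?_) Submodule.mem_top
      have : ((p : R) : R) ∈ m := hpm
      have h2 : algebraMap R (Localization.AtPrime m) (p : R) ∈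
          IsLocalRing.maximalIdeal (Localization.AtPrime m) :=
        (IsLocalization.AtPrime.to_map_mem_maximal_iff (Localization.AtPrime m) m (p : R)).mpr hpm
      rwa [map_natCast] at h2
    · have : v' i = b₁ i := by
        simp only [v', a', Function.update_of_ne hi, hb₁]
      rw [this, sub_self]
      exact Submodule.zero_mem _
  obtain ⟨b', hb'⟩ := exists_basis_of_sub_mem b₁ v' hv'
  obtain ⟨g, hg, φ, hφ, hφX⟩ := etaleAt_of_basis k R m d a' b' hb'
  refine ⟨g, hg, φ, hφ, ?_⟩
  exact surjective_of_generator m g hg (a₁ i₀ + y ^ p) hgen φ.toRingHom (MvPolynomial.X i₀)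
    (by
      have := hφX i₀
      simp only [a', Function.update_self] at this
      exact this)

end Groth.Agent.Lib.Seat18.EtaleChart
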