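import Groth.Agent.Lib.Seat18AffLift
import Groth.Prelude.Def_FinFr
import Mathlib.RingTheory.Unramified.Field
import Mathlib.AlgebraicGeometry.Morphisms.Immersion
import Mathlib.AlgebraicGeometry.Morphisms.FiniteType
import Mathlib.AlgebraicGeometry.Noetherian

/-!
# The fixed-point scheme of the Frobenius on `X ×_k K` is unramified over `K`
-/

set_option autoImplicit false
universe u
open CategoryTheory AlgebraicGeometry Limits
open Groth.Agent.Lib.Seat18.AffLift

namespace Groth.Agent.Lib.Seat18.FrobFix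

section Criterion

variable {K : Type u} [Field K] {Y : Scheme.{u}} (p : Y ⟶ Spec (CommRingCat.of K))

/-- "`Spec B`-points of `Y` over `K` landing in `W` are determined by their restriction to `Spec (B/I)`". -/
def UniqueLiftOn (W : Y.Opens) : Prop :=
  ∀ (B : Type u) [CommRing B] (I : Ideal B), I ^ 2 = ⊥ →
    ∀ x₁ x₂ : Spec (CommRingCat.of B) ⟶ Y,
      Set.range x₁.base ⊆ W → Set.range x₂.base ⊆ W → x₁ ≫ p = x₂ ≫ p →
      thk I ≫ x₁ = thk I ≫ x₂ → x₁ = x₂

/-- The `K`-algebra structure map of the sections over an affine open. -/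
noncomputable def strHom {W : Y.Opens} (hW : IsAffineOpen W) : CommRingCat.of K ⟶ Γ(Y, W) :=
  Spec.preimage (hW.fromSpec ≫ p)

lemma map_strHom {W : Y.Opens} (hW : IsAffineOpen W) : Spec.map (strHom p hW) = hW.fromSpec ≫ p :=
  Spec.map_preimage _

lemma finiteType_strHom [LocallyOfFiniteType p] {W : Y.Opens} (hW : IsAffineOpen W) :
    (strHom p hW).hom.FiniteType := by
  have : LocallyOfFiniteType (Spec.map (strHom p hW)) := by
    rw [map_strHom]; infer_instance
  exact (HasRingHomProperty.Spec_iff (P := @LocallyOfFiniteType)).mp this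

lemma formallyUnramified_strHom {W : Y.Opens} (hW : IsAffineOpen W) (H : UniqueLiftOn p W) :
    (strHom p hW).hom.FormallyUnramified := by
  algebraize [(strHom p hW).hom]
  rw [RingHom.FormallyUnramified]
  rw [Algebra.FormallyUnramified.iff_comp_injective]
  intro B _ _ I hI g₁ g₂ hg
  have hcomm : ∀ g : Γ(Y, W) →ₐ[K] B,
      (Spec.map (CommRingCat.ofHom g.toRingHom) ≫ hW.fromSpec) ≫ p =
        Spec.map (CommRingCat.ofHom (algebraMap K B)) := by
    intro g
    rw [Category.assoc, ← map_strHom, ← Spec.map_comp]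
    congr 1
    ext c
    exact g.commutes c
  have hrange : ∀ g : Γ(Y, W) →ₐ[K] B,
      Set.range (Spec.map (CommRingCat.ofHom g.toRingHom) ≫ hW.fromSpec).base ⊆ W := by
    intro g
    rintro _ ⟨x, rfl⟩
    have : (Spec.map (CommRingCat.ofHom g.toRingHom) ≫ hW.fromSpec).base x =
        hW.fromSpec.base ((Spec.map (CommRingCat.ofHom g.toRingHom)).base x) := by
      simp
    rw [this]
    have h2 := hW.range_fromSpec
    have h3 : hW.fromSpec.base ((Spec.map (CommRingCat.ofHom g.toRingHom)).base x) ∈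
        Set.range hW.fromSpec.base := ⟨_, rfl⟩
    rw [h2] at h3
    exact h3
  have hthk : ∀ g : Γ(Y, W) →ₐ[K] B,
      thk I ≫ Spec.map (CommRingCat.ofHom g.toRingHom) ≫ hW.fromSpec =
        Spec.map (CommRingCat.ofHom ((Ideal.Quotient.mkₐ K I).comp g).toRingHom) ≫ hW.fromSpec := by
    intro g
    rw [← Category.assoc, ← Spec.map_comp]
    rfl
  have key := H B I hI _ _ (hrange g₁) (hrange g₂) ((hcomm g₁).trans (hcomm g₂).symm)
    (by rw [hthk, hthk, hg])
  have key2 := (cancel_mono hW.fromSpec).mp key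
  have key3 := Spec.map_injective key2
  ext a
  exact congrArg (fun φ => φ.hom a) key3

lemma isReduced_sections [LocallyOfFiniteType p] {W : Y.Opens} (hW : IsAffineOpen W)
    (H : UniqueLiftOn p W) : _root_.IsReduced Γ(Y, W) := by
  have h1 := finiteType_strHom p hW
  have h2 := formallyUnramified_strHom p hW H
  algebraize [(strHom p hW).hom]
  rw [RingHom.FormallyUnramified] at h2
  rw [RingHom.FiniteType] at h1
  exact Algebra.FormallyUnramified.isReduced_of_field K Γ(Y, W)

lemma finite_sections [LocallyOfFiniteType p] {W : Y.Opens} (hW : IsAffineOpen W)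
    (H : UniqueLiftOn p W) : Finite (PrimeSpectrum Γ(Y, W)) := by
  have h1 := finiteType_strHom p hW
  have h2 := formallyUnramified_strHom p hW H
  algebraize [(strHom p hW).hom]
  rw [RingHom.FormallyUnramified] at h2
  rw [RingHom.FiniteType] at h1
  have := Algebra.FormallyUnramified.finite_of_free (R := K) (S := Γ(Y, W))
  have : IsArtinianRing Γ(Y, W) := isArtinian_of_tower K inferInstance
  infer_instance

lemma finite_of_uniqueLiftOn [LocallyOfFiniteType p] {W : Y.Opens} (hW : IsAffineOpen W)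
    (H : UniqueLiftOn p W) : (W : Set Y).Finite := by
  have h0 := finite_sections p hW H
  have : Finite ↥(Spec Γ(Y, W)) := h0
  rw [← hW.range_fromSpec]
  exact Set.finite_range _

theorem isReduced_of_uniqueLiftOn [LocallyOfFiniteType p]
    (H : ∀ y : Y, ∃ W : Y.Opens, IsAffineOpen W ∧ y ∈ W ∧ UniqueLiftOn p W) : IsReduced Y := by
  choose W hW hy HW using H
  have hcov : TopologicalSpace.IsOpenCover W := by
    rw [TopologicalSpace.IsOpenCover, eq_top_iff]
    intro y _
    exact TopologicalSpace.Opens.mem_iSup.mpr ⟨y, hy y⟩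
  have : ∀ y, IsReduced ((Y.openCoverOfIsOpenCover W hcov).X y) := by
    intro y
    change IsReduced (W y).toScheme
    have := isReduced_sections p (hW y) (HW y)
    have : IsReduced (Spec Γ(Y, W y)) := (affine_isReduced_iff _).mpr this
    exact isReduced_of_isOpenImmersion (hW y).isoSpec.hom
  exact IsReduced.of_openCover _ (Y.openCoverOfIsOpenCover W hcov)

theorem finite_of_uniqueLiftOn_of_compact [LocallyOfFiniteType p] [CompactSpace Y]
    (H : ∀ y : Y, ∃ W : Y.Opens, IsAffineOpen W ∧ y ∈ W ∧ UniqueLiftOn p W) : Finite Y := by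
  choose W hW hy HW using H
  obtain ⟨t, ht⟩ := isCompact_univ.elim_finite_subcover (fun y => ((W y : Y.Opens) : Set Y))
    (fun y => (W y).isOpen) (fun y _ => Set.mem_iUnion.mpr ⟨y, hy y⟩)
  rw [← Set.finite_univ_iff]
  refine Set.Finite.subset ?_ ht
  exact Set.Finite.biUnion t.finite_toSet (fun y _ => finite_of_uniqueLiftOn p (hW y) (HW y))

end Criterion

section Frob

variable {k : Type u} [Field k] [Finite k]

/-- Two Frobenius-fixed `Spec B`-points of an affine `k`-scheme that agree on `Spec (B/I)`, `I² = 0`, are equal. -/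
lemma eq_of_frob_fixed {U : Scheme.{u}} [IsAffine U] (FU : U ⟶ U)
    (hFU : ∀ s : Γ(U, ⊤), FU.appTop.hom s = s ^ Nat.card k)
    (B : Type u) [CommRing B] (I : Ideal B) (hI : I ^ 2 = ⊥)
    (t : Spec (CommRingCat.of B) ⟶ Spec (CommRingCat.of k))
    (z₁ z₂ : Spec (CommRingCat.of B) ⟶ U) (h₁ : z₁ ≫ FU = z₁) (h₂ : z₂ ≫ FU = z₂)
    (h : thk I ≫ z₁ = thk I ≫ z₂) : z₁ = z₂ := by
  have : Fintype k := Fintype.ofFinite k
  let ψ : CommRingCat.of k ⟶ CommRingCat.of B := Spec.preimage t
  let _ : Algebra k B := ψ.hom.toAlgebra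
  let fr : B →+* B := (FiniteField.frobeniusAlgHom k B).toRingHom
  have hfr : ∀ b : B, fr b = b ^ Nat.card k := by
    intro b
    rw [Nat.card_eq_fintype_card]
    rfl
  have hcard : 2 ≤ Nat.card k := by
    rw [Nat.card_eq_fintype_card]
    exact Fintype.one_lt_card
  have h0 : ∀ a ∈ I, fr a = 0 := by
    intro a ha
    rw [hfr]
    have h2 : a ^ 2 = 0 := by
      have := Ideal.pow_mem_pow ha 2
      rwa [hI, Ideal.mem_bot] at this
    obtain ⟨m, hm⟩ := Nat.exists_eq_add_of_le hcard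
    rw [hm, pow_add, h2, zero_mul]
  let lft : B ⧸ I →+* B := Ideal.Quotient.lift I fr h0
  have hlft : CommRingCat.ofHom fr = CommRingCat.ofHom (Ideal.Quotient.mk I) ≫ CommRingCat.ofHom lft := by
    ext b
    rfl
  have hfrS : ∀ s : Γ(Spec (CommRingCat.of B), ⊤),
      (Spec.map (CommRingCat.ofHom fr)).appTop.hom s = s ^ Nat.card k := by
    intro s
    have hn := Scheme.ΓSpecIso_naturality (CommRingCat.ofHom fr)
    have h2 := congrArg (fun φ => φ.hom s) hn
    simp only [CommRingCat.hom_comp, RingHom.coe_comp, Function.comp_apply] at h2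
    apply (ConcreteCategory.injective_of_mono_of_preservesPullback (Scheme.ΓSpecIso (CommRingCat.of B)).hom)
    rw [map_pow]
    exact h2.trans (hfr _)
  have hnat : ∀ z : Spec (CommRingCat.of B) ⟶ U, z ≫ FU = Spec.map (CommRingCat.ofHom fr) ≫ z := by
    intro z
    apply ext_of_isAffine
    ext s
    simp only [Scheme.Hom.comp_appTop, CommRingCat.hom_comp, RingHom.coe_comp, Function.comp_apply]
    rw [hFU s, hfrS, map_pow]
  have e : ∀ z : Spec (CommRingCat.of B) ⟶ U, z ≫ FU = z →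
      z = Spec.map (CommRingCat.ofHom lft) ≫ thk I ≫ z := by
    intro z hz
    rw [← Category.assoc, ← Spec.map_comp, ← hlft, ← hnat, hz]
  rw [e z₁ h₁, e z₂ h₂, h]

variable {X : Scheme.{u}} (FX : X ⟶ X) (hle : ∀ U : X.Opens, U ≤ FX ⁻¹ᵁ U)
  (hFapp : ∀ (U : X.Opens) (s : Γ(X, U)), (FX.appLE U U (hle U)).hom s = s ^ Nat.card k)

omit [Field k] [Finite k] in
include hFapp in
lemma resLE_appTop (U : X.Opens) (s : Γ(U.toScheme, ⊤)) :
    (FX.resLE U U (hle U)).appTop.hom s = s ^ Nat.card k := by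
  have h := Scheme.Hom.resLE_app_top FX (hle U)
  have h2 : (FX.resLE U U (hle U)).appTop.hom s =
      (U.topIso.hom ≫ FX.appLE U U (hle U) ≫ U.topIso.inv).hom s :=
    congrArg (fun φ => φ.hom s) h
  rw [h2]
  simp only [CommRingCat.hom_comp, RingHom.coe_comp, Function.comp_apply]
  rw [hFapp, map_pow]
  congr 1
  exact congrArg (fun φ => φ.hom s) U.topIso.hom_inv_id

variable {K : Type u} [Field K] [Algebra k K] (f : X ⟶ Spec (CommRingCat.of k))
  (F : FinFr.ext K f ⟶ FinFr.ext K f)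
  (hF1 : F ≫ FinFr.extπ K f = FinFr.extπ K f ≫ FX)
  (hF2 : F ≫ FinFr.extStr K f = FinFr.extStr K f)

/-- the graph of `F` -/
noncomputable abbrev gr : FinFr.ext K f ⟶ pullback (FinFr.extStr K f) (FinFr.extStr K f) :=
  pullback.lift (𝟙 _) F (by rw [hF2, Category.id_comp])

/-- the diagonal -/
noncomputable abbrev dg : FinFr.ext K f ⟶ pullback (FinFr.extStr K f) (FinFr.extStr K f) :=
  pullback.lift (𝟙 _) (𝟙 _) rfl

/-- the fixed point scheme, unfolded -/
noncomputable abbrev Fix : Scheme.{u} := pullback (gr f F hF2) (dg (K := K) f)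

omit [Finite k] in
lemma fix_eq : FinFr.fixScheme (FinFr.extStr K f) F hF2 = Fix f F hF2 := rfl

/-- the first projection from the fixed point scheme -/
noncomputable abbrev fixι : Fix f F hF2 ⟶ FinFr.ext K f :=
  pullback.fst _ _

omit [Finite k] in
instance : IsImmersion (dg (K := K) f) :=
  inferInstanceAs (IsImmersion (pullback.diagonal (FinFr.extStr K f)))

omit [Finite k] in
lemma fst_eq_snd : fixι f F hF2 = pullback.snd (gr f F hF2) (dg (K := K) f) := by
  have h := pullback.condition (f := gr f F hF2) (g := dg (K := K) f)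
  have h1 := congrArg (fun φ => φ ≫ pullback.fst _ _) h
  simpa only [Category.assoc, pullback.lift_fst, Category.comp_id] using h1

omit [Finite k] in
lemma fixι_comp_F : fixι f F hF2 ≫ F = fixι f F hF2 := by
  have h := pullback.condition (f := gr f F hF2) (g := dg (K := K) f)
  have h2 := congrArg (fun φ => φ ≫ pullback.snd _ _) h
  simp only [Category.assoc, pullback.lift_snd, Category.comp_id] at h2
  rw [h2, ← fst_eq_snd]

omit [Finite k] in
lemma fix_hom_ext {T : Scheme.{u}} (x₁ x₂ : T ⟶ Fix f F hF2)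
    (h : x₁ ≫ fixι f F hF2 = x₂ ≫ fixι f F hF2) : x₁ = x₂ := by
  apply pullback.hom_ext h
  rw [← fst_eq_snd]
  exact h

include hFapp hF1 in
theorem uniqueLiftOn_fix {U : X.Opens} (hU : IsAffineOpen U)
    (W : (Fix f F hF2).Opens)
    (hWU : W ≤ (fixι f F hF2 ≫ FinFr.extπ K f) ⁻¹ᵁ U) :
    UniqueLiftOn (fixι f F hF2 ≫ FinFr.extStr K f) W := by
  intro B _ I hI x₁ x₂ hr₁ hr₂ hp hthk
  have : IsAffine U.toScheme := hU
  -- the `X`-components
  have hz : ∀ x : Spec (CommRingCat.of B) ⟶ Fix f F hF2,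
      (x ≫ fixι f F hF2 ≫ FinFr.extπ K f) ≫ FX = x ≫ fixι f F hF2 ≫ FinFr.extπ K f := by
    intro x
    rw [Category.assoc, Category.assoc, ← hF1, ← Category.assoc (fixι f F hF2), fixι_comp_F]
  have hrange : ∀ x : Spec (CommRingCat.of B) ⟶ Fix f F hF2,
      Set.range x.base ⊆ W →
      Set.range (x ≫ fixι f F hF2 ≫ FinFr.extπ K f).base ⊆ Set.range U.ι.base := by
    intro x hx
    rw [Scheme.Opens.range_ι]
    rintro _ ⟨y, rfl⟩
    have hy : x.base y ∈ W := hx ⟨y, rfl⟩
    have := hWU hy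
    simpa using this
  let z₁ := IsOpenImmersion.lift U.ι (x₁ ≫ fixι f F hF2 ≫ FinFr.extπ K f) (hrange x₁ hr₁)
  let z₂ := IsOpenImmersion.lift U.ι (x₂ ≫ fixι f F hF2 ≫ FinFr.extπ K f) (hrange x₂ hr₂)
  have hz₁ : z₁ ≫ U.ι = x₁ ≫ fixι f F hF2 ≫ FinFr.extπ K f := IsOpenImmersion.lift_fac _ _ _
  have hz₂ : z₂ ≫ U.ι = x₂ ≫ fixι f F hF2 ≫ FinFr.extπ K f := IsOpenImmersion.lift_fac _ _ _
  have hfix₁ : z₁ ≫ FX.resLE U U (hle U) = z₁ := by
    rw [← cancel_mono U.ι, Category.assoc, Scheme.Hom.resLE_comp_ι, ← Category.assoc, hz₁, hz x₁]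
  have hfix₂ : z₂ ≫ FX.resLE U U (hle U) = z₂ := by
    rw [← cancel_mono U.ι, Category.assoc, Scheme.Hom.resLE_comp_ι, ← Category.assoc, hz₂, hz x₂]
  have hthk' : thk I ≫ z₁ = thk I ≫ z₂ := by
    rw [← cancel_mono U.ι, Category.assoc, Category.assoc, hz₁, hz₂, ← Category.assoc, hthk,
      Category.assoc]
  have hzz : z₁ = z₂ := eq_of_frob_fixed (k := k) (FX.resLE U U (hle U)) (resLE_appTop FX hle hFapp U)
    B I hI (x₁ ≫ fixι f F hF2 ≫ FinFr.extπ K f ≫ f) z₁ z₂ hfix₁ hfix₂ hthk'
  apply fix_hom_ext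
  apply pullback.hom_ext
  · have := congrArg (fun φ => φ ≫ U.ι) hzz
    simp only [hz₁, hz₂] at this
    simpa using this
  · simpa using hp

include hFapp hF1 in
theorem exists_uniqueLiftOn_fix (y : Fix f F hF2) :
    ∃ W : (Fix f F hF2).Opens, IsAffineOpen W ∧ y ∈ W ∧
      UniqueLiftOn (fixι f F hF2 ≫ FinFr.extStr K f) W := by
  obtain ⟨U, hU, hyU, -⟩ := exists_isAffineOpen_mem_and_subset (U := ⊤)
    (x := (fixι f F hF2 ≫ FinFr.extπ K f).base y) (by simp)
  have hy : y ∈ (fixι f F hF2 ≫ FinFr.extπ K f) ⁻¹ᵁ U := hyU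
  obtain ⟨W, hW, hyW, hWU⟩ := exists_isAffineOpen_mem_and_subset hy
  exact ⟨W, hW, hyW, uniqueLiftOn_fix FX hle hFapp f F hF1 hF2 hU W hWU⟩

include hFapp hF1 in
theorem isReduced_fix [LocallyOfFiniteType f] : IsReduced (Fix f F hF2) :=
  isReduced_of_uniqueLiftOn (fixι f F hF2 ≫ FinFr.extStr K f)
    (exists_uniqueLiftOn_fix FX hle hFapp f F hF1 hF2)

include hFapp hF1 in
theorem finite_fix [LocallyOfFiniteType f] [QuasiCompact f] : Finite (Fix f F hF2) := by
  have : CompactSpace (FinFr.ext K f) :=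
    QuasiCompact.compactSpace_of_compactSpace (FinFr.extStr K f)
  have : IsNoetherian (FinFr.ext K f) := { }
  have : TopologicalSpace.NoetherianSpace (Fix f F hF2) :=
    (fixι f F hF2).isEmbedding.isInducing.noetherianSpace
  exact finite_of_uniqueLiftOn_of_compact (fixι f F hF2 ≫ FinFr.extStr K f)
    (exists_uniqueLiftOn_fix FX hle hFapp f F hF1 hF2)

end Frob

end Groth.Agent.Lib.Seat18.FrobFix
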