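import Groth.Agent.Lib.Seat18FrobFix
import Mathlib.AlgebraicGeometry.AlgClosed.Basic
import Mathlib.AlgebraicGeometry.Morphisms.Integral
import Mathlib.FieldTheory.Finite.GaloisField

/-!
# Orbits of the Frobenius `F = Frob_X × id` on `X ×_k k̄` and fibres of `X ×_k k̄ ⟶ X`
-/

set_option autoImplicit false
universe u
open CategoryTheory AlgebraicGeometry Limits
open Groth.Agent.Lib.Seat18.AffLift

namespace Groth.Agent.Lib.Seat18.FrobOrbit

/-- Naturality of the `q`-power Frobenius for `Spec B`-points of an affine scheme. -/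
lemma comp_frob_affine {U : Scheme.{u}} [IsAffine U] (FU : U ⟶ U) (q : ℕ)
    (hFU : ∀ s : Γ(U, ⊤), FU.appTop.hom s = s ^ q) {B : Type u} [CommRing B] (fr : B →+* B)
    (hfr : ∀ b, fr b = b ^ q) (z : Spec (CommRingCat.of B) ⟶ U) :
    z ≫ FU = Spec.map (CommRingCat.ofHom fr) ≫ z := by
  have hfrS : ∀ s : Γ(Spec (CommRingCat.of B), ⊤),
      (Spec.map (CommRingCat.ofHom fr)).appTop.hom s = s ^ q := by
    intro s
    have hn := Scheme.ΓSpecIso_naturality (CommRingCat.ofHom fr)
    have h2 := congrArg (fun φ => φ.hom s) hn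
    simp only [CommRingCat.hom_comp, RingHom.coe_comp, Function.comp_apply] at h2
    apply (ConcreteCategory.injective_of_mono_of_preservesPullback (Scheme.ΓSpecIso (CommRingCat.of B)).hom)
    rw [map_pow]
    exact h2.trans (hfr _)
  apply ext_of_isAffine
  ext s
  simp only [Scheme.Hom.comp_appTop, CommRingCat.hom_comp, RingHom.coe_comp, Function.comp_apply]
  rw [hFU s, hfrS, map_pow]

/-- Naturality of the Frobenius for field-valued points of an arbitrary scheme. -/
lemma comp_frob_field {k : Type u} {X : Scheme.{u}} (FX : X ⟶ X) (hle : ∀ U : X.Opens, U ≤ FX ⁻¹ᵁ U)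
    (hFapp : ∀ (U : X.Opens) (s : Γ(X, U)), (FX.appLE U U (hle U)).hom s = s ^ Nat.card k)
    {K : Type u} [Field K] (fr : K →+* K) (hfr : ∀ b, fr b = b ^ Nat.card k)
    (c : Spec (CommRingCat.of K) ⟶ X) : c ≫ FX = Spec.map (CommRingCat.ofHom fr) ≫ c := by
  obtain ⟨U, hU, hxU, -⟩ := exists_isAffineOpen_mem_and_subset (U := ⊤)
    (x := c.base (IsLocalRing.closedPoint K)) (by simp)
  have : IsAffine U.toScheme := hU
  have hrange : Set.range c.base ⊆ Set.range U.ι.base := by
    rw [Scheme.Opens.range_ι]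
    rintro _ ⟨y, rfl⟩
    have : y = IsLocalRing.closedPoint K :=
      @Subsingleton.elim _ (inferInstanceAs (Subsingleton (Spec (CommRingCat.of K)))) _ _
    rw [this]
    exact hxU
  let c' := IsOpenImmersion.lift U.ι c hrange
  have hc' : c' ≫ U.ι = c := IsOpenImmersion.lift_fac _ _ _
  have h1 := comp_frob_affine (FX.resLE U U (hle U)) (Nat.card k)
    (Groth.Agent.Lib.Seat18.FrobFix.resLE_appTop FX hle hFapp U) fr hfr c'
  rw [← hc', Category.assoc, ← Scheme.Hom.resLE_comp_ι _ (hle U), ← Category.assoc, h1,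
    Category.assoc]

/-- Iterates of an endomorphism. -/
def iter {C : Type*} [Category C] {X : C} (F : X ⟶ X) : ℕ → (X ⟶ X)
  | 0 => 𝟙 X
  | n + 1 => iter F n ≫ F

lemma iter_comp_eq {C : Type*} [Category C] {X Y : C} (F : X ⟶ X) (p : X ⟶ Y) (h : F ≫ p = p) (n : ℕ) :
    iter F n ≫ p = p := by
  induction n with
  | zero => exact Category.id_comp _
  | succ n ih => rw [iter, Category.assoc, h, ih]

lemma iter_image_subset {X : Scheme.{u}} (F : X ⟶ X) (W : Set X) (h : F.base '' W ⊆ W) (n : ℕ) :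
    (iter F n).base '' W ⊆ W := by
  induction n with
  | zero =>
    rintro _ ⟨w, hw, rfl⟩
    exact hw
  | succ n ih =>
    rintro _ ⟨w, hw, rfl⟩
    have h1 : (iter F n).base w ∈ W := ih ⟨w, hw, rfl⟩
    have h2 : F.base ((iter F n).base w) ∈ W := h ⟨_, h1, rfl⟩
    simpa [iter] using h2

theorem embeddings_differ_by_frobenius (k L K : Type*) [Field k] [Fintype k] [Field L] [Algebra k L]
    [Module.Finite k L] [Field K] [Algebra k K] (α β : L →ₐ[k] K) :
    ∃ n : ℕ, ∀ l, α l = (β l) ^ (Fintype.card k ^ n) := by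
  have : Finite L := Module.finite_of_finite k
  let _ : Algebra L K := β.toRingHom.toAlgebra
  have : IsScalarTower k L K := IsScalarTower.of_algebraMap_eq fun x => (β.commutes x).symm
  let e := Normal.algHomEquivAut k K L
  have h1 : e.symm (e α) = α := e.symm_apply_apply α
  obtain ⟨j, hj⟩ := (FiniteField.bijective_frobeniusAlgEquivOfAlgebraic_pow k L).2 (e α)
  refine ⟨j.1, fun l => ?_⟩
  have h2 : α l = β ((e α) l) := by
    conv_lhs => rw [← h1]
    rfl
  rw [h2, ← hj]
  simp only [AlgEquiv.coe_pow, FiniteField.coe_frobeniusAlgEquivOfAlgebraic_iterate, map_pow]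

lemma exists_desc {X : Scheme.{u}} {K : Type u} [Field K] (a : Spec (CommRingCat.of K) ⟶ X) (ξ : X)
    (h : a.base (IsLocalRing.closedPoint K) = ξ) :
    ∃ α : X.residueField ξ ⟶ CommRingCat.of K, a = Spec.map α ≫ X.fromSpecResidueField ξ := by
  subst h
  exact ⟨_, (Scheme.descResidueField_stalkClosedPointTo_fromSpecResidueField K X a).symm⟩

lemma pow_coe {K : Type*} [CommRing K] (fr : K →+* K) (q : ℕ) (hfr : ∀ b, fr b = b ^ q) (n : ℕ) (x : K) :
    (fr ^ n) x = x ^ (q ^ n) := by
  have h : ⇑fr = (· ^ q) := funext hfr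
  rw [RingHom.coe_pow, h, pow_iterate]

variable {k : Type u} [Field k] [Finite k] {K : Type u} [Field K] [Algebra k K]
  {X : Scheme.{u}} (f : X ⟶ Spec (CommRingCat.of k))

theorem exists_pow_comp_eq [LocallyOfFiniteType f] (fr : K →+* K) (hfr : ∀ b, fr b = b ^ Nat.card k)
    (a b : Spec (CommRingCat.of K) ⟶ X) (ha : a ≫ f = FinFr.specι k K) (hb : b ≫ f = FinFr.specι k K)
    (ξ : X) (hξ : IsClosed {ξ}) (haξ : a.base (IsLocalRing.closedPoint K) = ξ)
    (hbξ : b.base (IsLocalRing.closedPoint K) = ξ) :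
    ∃ n : ℕ, a = Spec.map (CommRingCat.ofHom (fr ^ n)) ≫ b := by
  have : Fintype k := Fintype.ofFinite k
  obtain ⟨α, rfl⟩ := exists_desc a ξ haξ
  obtain ⟨β, rfl⟩ := exists_desc b ξ hbξ
  let ψ : CommRingCat.of k ⟶ X.residueField ξ := Spec.preimage (X.fromSpecResidueField ξ ≫ f)
  have hψ : Spec.map ψ = X.fromSpecResidueField ξ ≫ f := Spec.map_preimage _
  let _ : Algebra k (X.residueField ξ) := ψ.hom.toAlgebra
  have hcomm : ∀ γ : X.residueField ξ ⟶ CommRingCat.of K,
      (Spec.map γ ≫ X.fromSpecResidueField ξ) ≫ f = FinFr.specι k K →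
      ∀ c : k, γ.hom (algebraMap k (X.residueField ξ) c) = algebraMap k K c := by
    intro γ hγ c
    rw [Category.assoc, ← hψ, ← Spec.map_comp] at hγ
    have := Spec.map_injective hγ
    exact congrArg (fun φ => φ.hom c) this
  let α' : X.residueField ξ →ₐ[k] K := ⟨α.hom, hcomm α ha⟩
  let β' : X.residueField ξ →ₐ[k] K := ⟨β.hom, hcomm β hb⟩
  have hfin : Module.Finite k (X.residueField ξ) := by
    have h1 : IsClosedImmersion (X.fromSpecResidueField ξ) := isClosed_singleton_iff_isClosedImmersion.mp hξ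
    have h2 : LocallyOfFiniteType (Spec.map ψ) := by rw [hψ]; infer_instance
    have h3 : IsFinite (Spec.map ψ) := isFinite_iff_locallyOfFiniteType_of_jacobsonSpace.mpr h2
    exact (IsFinite.SpecMap_iff ψ).mp h3
  obtain ⟨n, hn⟩ := embeddings_differ_by_frobenius k (X.residueField ξ) K α' β'
  refine ⟨n, ?_⟩
  have hαβ : α = β ≫ CommRingCat.ofHom (fr ^ n) := by
    ext l
    have := hn l
    rw [← Nat.card_eq_fintype_card] at this
    change α.hom l = (fr ^ n) (β.hom l)
    rw [pow_coe fr (Nat.card k) hfr]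
    exact this
  rw [hαβ, Spec.map_comp, Category.assoc]


variable (FX : X ⟶ X) (hle : ∀ U : X.Opens, U ≤ FX ⁻¹ᵁ U)
  (hFapp : ∀ (U : X.Opens) (s : Γ(X, U)), (FX.appLE U U (hle U)).hom s = s ^ Nat.card k)
  (F : FinFr.ext K f ⟶ FinFr.ext K f)
  (hF1 : F ≫ FinFr.extπ K f = FinFr.extπ K f ≫ FX)
  (hF2 : F ≫ FinFr.extStr K f = FinFr.extStr K f)

include hFapp hF1 in
omit [Finite k] in
lemma iter_comp_π (fr : K →+* K) (hfr : ∀ b, fr b = b ^ Nat.card k) (n : ℕ)
    (c : Spec (CommRingCat.of K) ⟶ FinFr.ext K f) :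
    (c ≫ iter F n) ≫ FinFr.extπ K f =
      Spec.map (CommRingCat.ofHom (fr ^ n)) ≫ c ≫ FinFr.extπ K f := by
  induction n with
  | zero =>
    have : CommRingCat.ofHom (fr ^ 0) = 𝟙 (CommRingCat.of K) := rfl
    rw [this, Spec.map_id, Category.id_comp]
    simp [iter]
  | succ n ih =>
    have h1 : (c ≫ iter F (n + 1)) ≫ FinFr.extπ K f = ((c ≫ iter F n) ≫ FinFr.extπ K f) ≫ FX := by
      simp only [iter, Category.assoc, hF1]
    have h2 : CommRingCat.ofHom (fr ^ n) ≫ CommRingCat.ofHom fr = CommRingCat.ofHom (fr ^ (n + 1)) := by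
      rw [pow_succ']; rfl
    rw [h1, comp_frob_field FX hle hFapp fr hfr, ih, ← Category.assoc, ← Spec.map_comp, h2]

include hFapp hF1 hF2 in
theorem closed_descends_iff [IsAlgClosed K] [Algebra.IsAlgebraic k K] [LocallyOfFiniteType f]
    (hFb : FX.base = 𝟙 _) (W : Set ↑(FinFr.ext K f)) (hW : IsClosed W) :
    (∃ Y : Set X, IsClosed Y ∧ (FinFr.extπ K f).base ⁻¹' Y = W) ↔ F.base '' W ⊆ W := by
  have : Fintype k := Fintype.ofFinite k
  constructor
  · rintro ⟨Y, -, rfl⟩ _ ⟨w, hw, rfl⟩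
    have h1 : (FinFr.extπ K f).base (F.base w) = FX.base ((FinFr.extπ K f).base w) := by
      have := congrArg (fun φ => φ.base w) hF1
      simpa using this
    rw [Set.mem_preimage, h1, hFb]
    exact hw
  · intro hFW
    let fr : K →+* K := (FiniteField.frobeniusAlgHom k K).toRingHom
    have hfr : ∀ b, fr b = b ^ Nat.card k := by
      intro b
      rw [Nat.card_eq_fintype_card]
      rfl
    have hint0 : IsIntegralHom (FinFr.specι k K) := by
      rw [IsIntegralHom.SpecMap_iff]
      exact algebraMap_isIntegral_iff.mpr inferInstance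
    have hint : IsIntegralHom (FinFr.extπ K f) := inferInstance
    have hcm : IsClosedMap (FinFr.extπ K f).base := (FinFr.extπ K f).isClosedMap
    refine ⟨(FinFr.extπ K f).base '' W, hcm _ hW, ?_⟩
    refine Set.Subset.antisymm ?_ (Set.subset_preimage_image _ _)
    have hZ : IsClosed ((FinFr.extπ K f).base ⁻¹' ((FinFr.extπ K f).base '' W)) :=
      (hcm _ hW).preimage (FinFr.extπ K f).continuous
    have : JacobsonSpace ↑(FinFr.ext K f) := LocallyOfFiniteType.jacobsonSpace (FinFr.extStr K f)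
    rw [← closure_inter_closedPoints hZ]
    apply hW.closure_subset_iff.mpr
    rintro z ⟨⟨w0, hw0W, hw0⟩, hz⟩
    have hz' : IsClosed {z} := hz
    have hξ : IsClosed {(FinFr.extπ K f).base z} := by
      have := hcm _ hz'
      simpa using this
    have hne : (W ∩ (FinFr.extπ K f).base ⁻¹' {(FinFr.extπ K f).base z}).Nonempty := ⟨w0, hw0W, hw0⟩
    have hcl : IsClosed (W ∩ (FinFr.extπ K f).base ⁻¹' {(FinFr.extπ K f).base z}) :=
      hW.inter (hξ.preimage (FinFr.extπ K f).continuous)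
    obtain ⟨w, ⟨hwW, hwξ⟩, hw⟩ := nonempty_inter_closedPoints hne hcl.isLocallyClosed
    have hw' : IsClosed {w} := hw
    let zb := pointOfClosedPoint (FinFr.extStr K f) z hz'
    let wb := pointOfClosedPoint (FinFr.extStr K f) w hw'
    have hzb : zb ≫ FinFr.extStr K f = 𝟙 _ := pointOfClosedPoint_comp _ _ _
    have hwb : wb ≫ FinFr.extStr K f = 𝟙 _ := pointOfClosedPoint_comp _ _ _
    have hzpt : zb.base (IsLocalRing.closedPoint K) = z := pointOfClosedPoint_apply _ _ _ _
    have hwpt : wb.base (IsLocalRing.closedPoint K) = w := pointOfClosedPoint_apply _ _ _ _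
    have hover : ∀ c : Spec (CommRingCat.of K) ⟶ FinFr.ext K f, c ≫ FinFr.extStr K f = 𝟙 _ →
        (c ≫ FinFr.extπ K f) ≫ f = FinFr.specι k K := by
      intro c hc
      rw [Category.assoc, pullback.condition, ← Category.assoc, hc, Category.id_comp]
    obtain ⟨n, hn⟩ := exists_pow_comp_eq f fr hfr (zb ≫ FinFr.extπ K f) (wb ≫ FinFr.extπ K f)
      (hover zb hzb) (hover wb hwb) ((FinFr.extπ K f).base z) hξ
      (by change (FinFr.extπ K f).base (zb.base _) = _; rw [hzpt])
      (by change (FinFr.extπ K f).base (wb.base _) = _; rw [hwpt]; exact hwξ)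
    have hzw : zb = wb ≫ iter F n := by
      apply pullback.hom_ext
      · rw [hn, iter_comp_π f FX hle hFapp F hF1 fr hfr]
      · rw [hzb, Category.assoc, iter_comp_eq F _ hF2, hwb]
    have hzw' : z = (iter F n).base w := by
      rw [← hzpt, hzw, ← hwpt]
      rfl
    rw [hzw']
    exact iter_image_subset F W hFW n ⟨w, hwW, rfl⟩

end Groth.Agent.Lib.Seat18.FrobOrbit
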