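import Mathlib
import Groth.Prelude.Def_Found
import Groth.Prelude.Def_EGA4b
import Groth.Agent.Lib.Helper6SepNorm

/-!
# An intrinsic form of "geometrically normal over a field" for morphisms (seat 18)

`GN g` for `g : Z ⟶ T` (intended: `T` the spectrum of a field): every base change of `Z` along a
finite morphism from the spectrum of a field has integrally closed domains as local rings.
-/

set_option linter.style.haveILetI false
set_option autoImplicit false

universe u
open CategoryTheory CategoryTheory.Limits AlgebraicGeometry TensorProduct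

namespace Groth.Agent.Lib.Seat18.GeomNormMor

/-- a normal domain. -/
def NQ (R : Type u) [CommRing R] : Prop := IsDomain R ∧ IsIntegrallyClosed R

theorem NQ.of_ringEquiv {R S : Type u} [CommRing R] [CommRing S] (e : R ≃+* S) (h : NQ R) :
    NQ S := by
  haveI := h.1
  haveI := h.2
  exact ⟨e.symm.toMulEquiv.isDomain R, IsIntegrallyClosed.of_equiv e⟩

/-- all base changes along finite morphisms from spectra of fields have normal local rings. -/
def GN {Z T : Scheme.{u}} (g : Z ⟶ T) : Prop :=
  ∀ (L : Type u) [Field L] (t : Spec (CommRingCat.of L) ⟶ T), IsFinite t →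
    ∀ w : ↥(pullback g t), NQ ((pullback g t).presheaf.stalk w)

theorem regular_of_openImmersion {A B : Scheme.{u}} (m : A ⟶ B) [IsOpenImmersion m] (a : A)
    (h : NQ (B.presheaf.stalk (m.base a))) :
    NQ (A.presheaf.stalk a) :=
  NQ.of_ringEquiv (asIso (m.stalkMap a)).commRingCatIsoToRingEquiv h

theorem regular_of_openImmersion' {A B : Scheme.{u}} (m : A ⟶ B) [IsOpenImmersion m] (a : A)
    (h : NQ (A.presheaf.stalk a)) :
    NQ (B.presheaf.stalk (m.base a)) :=
  NQ.of_ringEquiv (asIso (m.stalkMap a)).commRingCatIsoToRingEquiv.symm h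

theorem GN.comp_openImmersion {Z' Z T : Scheme.{u}} (j : Z' ⟶ Z) [IsOpenImmersion j] (g : Z ⟶ T)
    (h : GN g) : GN (j ≫ g) := by
  intro L _ t ht w
  let m := pullback.map (j ≫ g) t g t j (𝟙 _) (𝟙 _) (by simp) (by simp)
  exact regular_of_openImmersion m w (h L t ht (m.base w))

theorem GN.of_cover {Z T : Scheme.{u}} (g : Z ⟶ T)
    (h : ∀ z : Z, ∃ (Z' : Scheme.{u}) (j : Z' ⟶ Z), IsOpenImmersion j ∧ z ∈ Set.range j.base ∧
      GN (j ≫ g)) : GN g := by
  intro L _ t ht w
  obtain ⟨Z', j, hj, hz, hg⟩ := h ((pullback.fst g t).base w)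
  let m := pullback.map (j ≫ g) t g t j (𝟙 _) (𝟙 _) (by simp) (by simp)
  have hr : w ∈ Set.range m.base := by
    rw [Scheme.Pullback.range_map]
    exact ⟨hz, by simp⟩
  obtain ⟨w', rfl⟩ := hr
  exact regular_of_openImmersion' m w' (hg L t ht w')

theorem GN.of_comp_iso {Z T T' : Scheme.{u}} (g : Z ⟶ T) (e : T ≅ T') (h : GN (g ≫ e.hom)) :
    GN g := by
  intro L _ t ht w
  let m := pullback.map g t (g ≫ e.hom) (t ≫ e.hom) (𝟙 _) (𝟙 _) e.hom (by simp) (by simp)
  have ht' : IsFinite (t ≫ e.hom) := inferInstance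
  exact regular_of_openImmersion m w (h L (t ≫ e.hom) ht' (m.base w))

theorem GN.comp_iso_iff {Z T T' : Scheme.{u}} (g : Z ⟶ T) (e : T ≅ T') :
    GN (g ≫ e.hom) ↔ GN g := by
  refine ⟨GN.of_comp_iso g e, fun h => ?_⟩
  refine GN.of_comp_iso (g ≫ e.hom) e.symm ?_
  simpa using h

theorem GN.of_arrow_iso {Z T Z' T' : Scheme.{u}} {g : Z ⟶ T} {g' : Z' ⟶ T'}
    (e : Arrow.mk g ≅ Arrow.mk g') (h : GN g') : GN g := by
  have hw : g = e.hom.left ≫ g' ≫ e.inv.right := by
    have := e.hom.w
    simp only [Arrow.mk_hom] at this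
    have h2 : e.hom.right ≫ e.inv.right = 𝟙 T := by
      rw [← Arrow.comp_right, e.hom_inv_id]; rfl
    rw [← Category.assoc, this, Category.assoc, h2]
    exact (Category.comp_id g).symm
  rw [hw]
  haveI : IsIso e.hom.left := inferInstance
  have h1 : GN (g' ≫ e.inv.right) :=
    (GN.comp_iso_iff g' (Arrow.rightFunc.mapIso e.symm)).mpr h
  exact GN.comp_openImmersion e.hom.left _ h1

theorem GN.arrow_iso_iff {Z T Z' T' : Scheme.{u}} {g : Z ⟶ T} {g' : Z' ⟶ T'}
    (e : Arrow.mk g ≅ Arrow.mk g') : GN g ↔ GN g' :=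
  ⟨GN.of_arrow_iso e.symm, GN.of_arrow_iso e⟩

theorem isNormalRing_iff_stalk (P : Type u) [CommRing P] :
    EGA4.IsNormalRing P ↔
      ∀ Q : PrimeSpectrum P, NQ ((Spec (CommRingCat.of P)).presheaf.stalk Q) := by
  have key : ∀ Q : PrimeSpectrum P, Nonempty (Localization.AtPrime Q.asIdeal ≃+*
      (Spec (CommRingCat.of P)).presheaf.stalk Q) := by
    intro Q
    letI : Algebra P ((Spec (CommRingCat.of P)).presheaf.stalk Q) :=
      AlgebraicGeometry.StructureSheaf.stalkAlgebra P Q
    haveI : IsLocalization.AtPrime ((Spec (CommRingCat.of P)).presheaf.stalk Q) Q.asIdeal :=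
      AlgebraicGeometry.StructureSheaf.IsLocalization.to_stalk P Q
    let e : Localization.AtPrime Q.asIdeal ≃ₐ[P] (Spec (CommRingCat.of P)).presheaf.stalk Q :=
      IsLocalization.algEquiv Q.asIdeal.primeCompl _ _
    exact ⟨e.toRingEquiv⟩
  constructor
  · intro h Q
    obtain ⟨e⟩ := key Q
    exact NQ.of_ringEquiv e (h Q.asIdeal)
  · intro h p hp
    obtain ⟨e⟩ := key ⟨p, hp⟩
    exact NQ.of_ringEquiv e.symm (h ⟨p, hp⟩)

/-- the affine case: for an algebra `A` over a field `K`, `GN` of `Spec A ⟶ Spec K`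
is geometric normality of `A` over `K`. -/
theorem GN_specMap_iff (K A : Type u) [Field K] [CommRing A] [Algebra K A] :
    GN (Spec.map (CommRingCat.ofHom (algebraMap K A))) ↔ EGA4.IsGeomNormal K A := by
  constructor
  · intro h L _ _ hfin
    haveI := hfin
    let t : Spec (CommRingCat.of L) ⟶ Spec (CommRingCat.of K) :=
      Spec.map (CommRingCat.ofHom (algebraMap K L))
    have ht : IsFinite t := by
      rw [IsFinite.SpecMap_iff]
      exact RingHom.finite_algebraMap.mpr hfin
    have hreg := h L t ht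
    let e := pullbackSpecIso K A L
    have hreg' : ∀ s : Spec (CommRingCat.of (A ⊗[K] L)),
        NQ ((Spec (CommRingCat.of (A ⊗[K] L))).presheaf.stalk s) := by
      intro s
      exact regular_of_openImmersion e.inv s (hreg (e.inv.base s))
    have h2 : EGA4.IsNormalRing (A ⊗[K] L) := (isNormalRing_iff_stalk _).mpr hreg'
    exact Groth.Agent.Lib.Helper6.SepNorm.isNormalRing_of_ringEquiv
      (Algebra.TensorProduct.comm K A L).toRingEquiv h2
  · intro h L _ t ht w
    obtain ⟨φ, rfl⟩ := Spec.map_surjective t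
    rw [IsFinite.SpecMap_iff] at ht
    letI : Algebra K L := φ.hom.toAlgebra
    haveI : Module.Finite K L := ht
    have hreg : EGA4.IsNormalRing (L ⊗[K] A) := h L inferInstance
    have h2 : EGA4.IsNormalRing (A ⊗[K] L) :=
      Groth.Agent.Lib.Helper6.SepNorm.isNormalRing_of_ringEquiv
        (Algebra.TensorProduct.comm K L A).toRingEquiv hreg
    let e := pullbackSpecIso K A L
    have := (isNormalRing_iff_stalk (A ⊗[K] L)).mp h2 (e.hom.base w)
    exact regular_of_openImmersion e.hom w this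

end Groth.Agent.Lib.Seat18.GeomNormMor
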