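import Mathlib
import Groth.Prelude.Def_Found
import Groth.Agent.Lib.Helper4RectDepthB

/-!
# An intrinsic form of "geometrically regular over a field" for morphisms (seat 18)

`GR g` for `g : Z ⟶ T` (intended: `T` the spectrum of a field): every base change of `Z` along a
finite morphism from the spectrum of a field has regular local rings.
-/

set_option linter.style.haveILetI false
set_option autoImplicit false

universe u
open CategoryTheory CategoryTheory.Limits AlgebraicGeometry TensorProduct

namespace Groth.Agent.Lib.Seat18.GeomRegMor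

/-- all base changes along finite morphisms from spectra of fields have regular local rings. -/
def GR {Z T : Scheme.{u}} (g : Z ⟶ T) : Prop :=
  ∀ (L : Type u) [Field L] (t : Spec (CommRingCat.of L) ⟶ T), IsFinite t →
    ∀ w : ↥(pullback g t), IsRegularLocalRing ((pullback g t).presheaf.stalk w)

theorem regular_of_openImmersion {A B : Scheme.{u}} (m : A ⟶ B) [IsOpenImmersion m] (a : A)
    (h : IsRegularLocalRing (B.presheaf.stalk (m.base a))) :
    IsRegularLocalRing (A.presheaf.stalk a) :=
  IsRegularLocalRing.of_ringEquiv (asIso (m.stalkMap a)).commRingCatIsoToRingEquiv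

theorem regular_of_openImmersion' {A B : Scheme.{u}} (m : A ⟶ B) [IsOpenImmersion m] (a : A)
    (h : IsRegularLocalRing (A.presheaf.stalk a)) :
    IsRegularLocalRing (B.presheaf.stalk (m.base a)) :=
  IsRegularLocalRing.of_ringEquiv (asIso (m.stalkMap a)).commRingCatIsoToRingEquiv.symm

theorem GR.comp_openImmersion {Z' Z T : Scheme.{u}} (j : Z' ⟶ Z) [IsOpenImmersion j] (g : Z ⟶ T)
    (h : GR g) : GR (j ≫ g) := by
  intro L _ t ht w
  let m := pullback.map (j ≫ g) t g t j (𝟙 _) (𝟙 _) (by simp) (by simp)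
  exact regular_of_openImmersion m w (h L t ht (m.base w))

theorem GR.of_cover {Z T : Scheme.{u}} (g : Z ⟶ T)
    (h : ∀ z : Z, ∃ (Z' : Scheme.{u}) (j : Z' ⟶ Z), IsOpenImmersion j ∧ z ∈ Set.range j.base ∧
      GR (j ≫ g)) : GR g := by
  intro L _ t ht w
  obtain ⟨Z', j, hj, hz, hg⟩ := h ((pullback.fst g t).base w)
  let m := pullback.map (j ≫ g) t g t j (𝟙 _) (𝟙 _) (by simp) (by simp)
  have hr : w ∈ Set.range m.base := by
    rw [Scheme.Pullback.range_map]
    exact ⟨hz, by simp⟩
  obtain ⟨w', rfl⟩ := hr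
  exact regular_of_openImmersion' m w' (hg L t ht w')

theorem GR.of_comp_iso {Z T T' : Scheme.{u}} (g : Z ⟶ T) (e : T ≅ T') (h : GR (g ≫ e.hom)) :
    GR g := by
  intro L _ t ht w
  let m := pullback.map g t (g ≫ e.hom) (t ≫ e.hom) (𝟙 _) (𝟙 _) e.hom (by simp) (by simp)
  have ht' : IsFinite (t ≫ e.hom) := inferInstance
  exact regular_of_openImmersion m w (h L (t ≫ e.hom) ht' (m.base w))

theorem GR.comp_iso_iff {Z T T' : Scheme.{u}} (g : Z ⟶ T) (e : T ≅ T') :
    GR (g ≫ e.hom) ↔ GR g := by
  refine ⟨GR.of_comp_iso g e, fun h => ?_⟩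
  refine GR.of_comp_iso (g ≫ e.hom) e.symm ?_
  simpa using h

theorem GR.of_arrow_iso {Z T Z' T' : Scheme.{u}} {g : Z ⟶ T} {g' : Z' ⟶ T'}
    (e : Arrow.mk g ≅ Arrow.mk g') (h : GR g') : GR g := by
  have hw : g = e.hom.left ≫ g' ≫ e.inv.right := by
    have := e.hom.w
    simp only [Arrow.mk_hom] at this
    have h2 : e.hom.right ≫ e.inv.right = 𝟙 T := by
      rw [← Arrow.comp_right, e.hom_inv_id]; rfl
    rw [← Category.assoc, this, Category.assoc, h2]
    exact (Category.comp_id g).symm
  rw [hw]
  haveI : IsIso e.hom.left := inferInstance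
  have h1 : GR (g' ≫ e.inv.right) :=
    (GR.comp_iso_iff g' (Arrow.rightFunc.mapIso e.symm)).mpr h
  exact GR.comp_openImmersion e.hom.left _ h1

theorem GR.arrow_iso_iff {Z T Z' T' : Scheme.{u}} {g : Z ⟶ T} {g' : Z' ⟶ T'}
    (e : Arrow.mk g ≅ Arrow.mk g') : GR g ↔ GR g' :=
  ⟨GR.of_arrow_iso e.symm, GR.of_arrow_iso e⟩

/-- the affine case: for a Noetherian algebra `A` over a field `K`, `GR` of `Spec A ⟶ Spec K`
is geometric regularity of `A` over `K`. -/
theorem GR_specMap_iff (K A : Type u) [Field K] [CommRing A] [Algebra K A] [IsNoetherianRing A] :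
    GR (Spec.map (CommRingCat.ofHom (algebraMap K A))) ↔ CAlg.IsGeometricallyRegular K A := by
  constructor
  · intro h L _ _ hfin
    haveI := hfin
    let t : Spec (CommRingCat.of L) ⟶ Spec (CommRingCat.of K) :=
      Spec.map (CommRingCat.ofHom (algebraMap K L))
    have ht : IsFinite t := by
      rw [IsFinite.SpecMap_iff]
      exact RingHom.finite_algebraMap.mpr hfin
    have hreg := h L t ht
    let e := pullbackSpecIso K A L
    have hreg' : ∀ s : Spec (CommRingCat.of (A ⊗[K] L)),
        IsRegularLocalRing ((Spec (CommRingCat.of (A ⊗[K] L))).presheaf.stalk s) := by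
      intro s
      exact regular_of_openImmersion e.inv s (hreg (e.inv.base s))
    haveI : Algebra.EssFiniteType A (A ⊗[K] L) := inferInstance
    haveI : IsNoetherianRing (A ⊗[K] L) := Algebra.EssFiniteType.isNoetherianRing A _
    haveI : IsLocallyNoetherian (Spec (CommRingCat.of (A ⊗[K] L))) := inferInstance
    haveI h1 : IsRegularRing Γ(Spec (CommRingCat.of (A ⊗[K] L)), ⊤) :=
      Groth.Agent.Lib.Helper4.RectDepth.isRegularRing_sections hreg' (isAffineOpen_top _)
    haveI h2 : IsRegularRing (A ⊗[K] L) :=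
      IsRegularRing.of_ringEquiv
        (Scheme.ΓSpecIso (CommRingCat.of (A ⊗[K] L))).commRingCatIsoToRingEquiv
    exact IsRegularRing.of_ringEquiv (Algebra.TensorProduct.comm K A L).toRingEquiv
  · intro h L _ t ht w
    obtain ⟨φ, rfl⟩ := Spec.map_surjective t
    rw [IsFinite.SpecMap_iff] at ht
    letI : Algebra K L := φ.hom.toAlgebra
    haveI : Module.Finite K L := ht
    haveI hreg : IsRegularRing (L ⊗[K] A) := h L inferInstance
    haveI : IsRegularRing (A ⊗[K] L) :=
      IsRegularRing.of_ringEquiv (Algebra.TensorProduct.comm K L A).toRingEquiv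
    let e := pullbackSpecIso K A L
    have := (Groth.Agent.Lib.Helper4.RectDepth.stalk_spec_facts (A ⊗[K] L) (e.hom.base w)).1
    exact regular_of_openImmersion e.hom w this

end Groth.Agent.Lib.Seat18.GeomRegMor
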