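import Mathlib
import Groth.Agent.Lib.Seat18GR
import Groth.Agent.Lib.Helper10DVRFibre2

/-!
# Regular ring maps on affine charts versus geometrically regular fibres (seat 18)
-/

set_option linter.style.haveILetI false
set_option autoImplicit false

universe u
open CategoryTheory CategoryTheory.Limits AlgebraicGeometry TensorProduct

namespace Groth.Agent.Lib.Seat18.GeomRegFib

open Groth.Agent.Lib.Seat18.GeomRegMor

variable {X Y : Scheme.{u}} (f : X ⟶ Y)

theorem isIso_SpecMap {R S : CommRingCat.{u}} (φ : R ⟶ S) [IsIso φ] : IsIso (Spec.map φ) :=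
  inferInstanceAs (IsIso (Scheme.Spec.map φ.op))

section chart

variable {U : X.Opens} {V : Y.Opens} (hU : IsAffineOpen U) (hV : IsAffineOpen V)
  (hUV : U ≤ f ⁻¹ᵁ V) (p : PrimeSpectrum Γ(Y, V))

include hV in
theorem isIso_SpecMap_res : IsIso (Spec.map (hV.fromSpec.residueFieldMap p)) := by
  haveI : IsIso (hV.fromSpec.residueFieldMap p) :=
    inferInstanceAs (IsIso (hV.fromSpec.residueFieldMap (show ↥(Spec Γ(Y, V)) from p)))
  exact isIso_SpecMap _

/-- the open immersion from the fibre of an affine chart into the fibre of `f`. -/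
noncomputable def chartMap :
    pullback (Spec.map (f.appLE V U hUV)) ((Spec Γ(Y, V)).fromSpecResidueField p) ⟶
      pullback f (Y.fromSpecResidueField (hV.fromSpec.base p)) :=
  pullback.map (Spec.map (f.appLE V U hUV)) ((Spec Γ(Y, V)).fromSpecResidueField p) f
    (Y.fromSpecResidueField (hV.fromSpec.base p))
    hU.fromSpec (Spec.map (hV.fromSpec.residueFieldMap p)) hV.fromSpec
    (hV.SpecMap_appLE_fromSpec f hU hUV)
    (Scheme.Hom.SpecMap_residueFieldMap_fromSpecResidueField hV.fromSpec p).symm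

instance : IsOpenImmersion (chartMap f hU hV hUV p) := by
  unfold chartMap
  haveI : IsIso (Spec.map (hV.fromSpec.residueFieldMap p)) := isIso_SpecMap_res hV p
  haveI : IsOpenImmersion (Spec.map (hV.fromSpec.residueFieldMap p)) := inferInstance
  haveI : Mono hV.fromSpec := inferInstance
  infer_instance

theorem chartMap_snd :
    chartMap f hU hV hUV p ≫ pullback.snd f (Y.fromSpecResidueField (hV.fromSpec.base p)) =
      pullback.snd (Spec.map (f.appLE V U hUV)) ((Spec Γ(Y, V)).fromSpecResidueField p) ≫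
        Spec.map (hV.fromSpec.residueFieldMap p) := by
  unfold chartMap
  exact pullback.lift_snd _ _ _

theorem range_chartMap :
    Set.range (chartMap f hU hV hUV p).base =
      (pullback.fst f (Y.fromSpecResidueField (hV.fromSpec.base p))).base ⁻¹' U := by
  rw [chartMap, Scheme.Pullback.range_map]
  have h2 : Set.range (Spec.map (hV.fromSpec.residueFieldMap p)).base = Set.univ := by
    haveI : IsIso (Spec.map (hV.fromSpec.residueFieldMap p)) := isIso_SpecMap_res hV p
    rw [Set.range_eq_univ]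
    exact (Spec.map (hV.fromSpec.residueFieldMap p)).homeomorph.surjective
  rw [h2, hU.range_fromSpec]
  simp

theorem GR_chart_iff :
    letI := (f.appLE V U hUV).hom.toAlgebra
    GR (chartMap f hU hV hUV p ≫ pullback.snd f (Y.fromSpecResidueField (hV.fromSpec.base p))) ↔
      GR (Spec.map (CommRingCat.ofHom
        (algebraMap p.asIdeal.ResidueField (p.asIdeal.Fiber Γ(X, U))))) := by
  letI := (f.appLE V U hUV).hom.toAlgebra
  haveI : IsIso (Spec.map (hV.fromSpec.residueFieldMap p)) := isIso_SpecMap_res hV p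
  rw [chartMap_snd]
  rw [show Spec.map (hV.fromSpec.residueFieldMap p) =
    (asIso (Spec.map (hV.fromSpec.residueFieldMap p))).hom from rfl, GR.comp_iso_iff]
  exact GR.arrow_iso_iff (Spec.fiberToSpecResidueFieldIso Γ(Y, V) Γ(X, U) p)

end chart

/-- affine opens of a scheme over a field: `GR` of the restricted structure map is geometric
regularity of the ring of sections. -/
theorem GR_ι_iff {Z : Scheme.{u}} (K : Type u) [Field K] (g : Z ⟶ Spec (CommRingCat.of K))
    {W : Z.Opens} (hW : IsAffineOpen W) [IsNoetherianRing Γ(Z, W)] :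
    letI : Algebra K Γ(Z, W) := ((Scheme.ΓSpecIso (CommRingCat.of K)).inv ≫ g.appTop ≫
      Z.presheaf.map (homOfLE le_top).op).hom.toAlgebra
    GR (W.ι ≫ g) ↔ CAlg.IsGeometricallyRegular K Γ(Z, W) := by
  letI : Algebra K Γ(Z, W) := ((Scheme.ΓSpecIso (CommRingCat.of K)).inv ≫ g.appTop ≫
      Z.presheaf.map (homOfLE le_top).op).hom.toAlgebra
  have h1 : GR (W.ι ≫ g) ↔ GR (hW.fromSpec ≫ g) := by
    constructor
    · intro h
      have : hW.fromSpec ≫ g = hW.isoSpec.inv ≫ (W.ι ≫ g) := by
        rw [IsAffineOpen.fromSpec, Category.assoc]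
      rw [this]
      exact GR.comp_openImmersion _ _ h
    · intro h
      have : W.ι ≫ g = hW.isoSpec.hom ≫ (hW.fromSpec ≫ g) := by
        rw [IsAffineOpen.fromSpec, Category.assoc, Iso.hom_inv_id_assoc]
      rw [this]
      exact GR.comp_openImmersion _ _ h
  rw [h1, Groth.Agent.Lib.Helper10.DVRFibre.fromSpec_comp g hW]
  exact GR_specMap_iff K Γ(Z, W)

section main

/-- from the charts to the fibres. -/
theorem GR_fiber_of_charts
    (h : ∀ (U : X.Opens) (V : Y.Opens) (_ : IsAffineOpen U) (_ : IsAffineOpen V)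
      (hUV : U ≤ f ⁻¹ᵁ V) (p : PrimeSpectrum Γ(Y, V)),
      letI := (f.appLE V U hUV).hom.toAlgebra
      GR (Spec.map (CommRingCat.ofHom
        (algebraMap p.asIdeal.ResidueField (p.asIdeal.Fiber Γ(X, U)))))) (y : Y) :
    GR (pullback.snd f (Y.fromSpecResidueField y)) := by
  refine GR.of_cover _ fun z => ?_
  have hx : f.base ((pullback.fst f (Y.fromSpecResidueField y)).base z) = y := by
    have : (pullback.fst f (Y.fromSpecResidueField y)).base z ∈ Set.range (f.fiberι y).base :=
      ⟨z, rfl⟩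
    rw [f.range_fiberι y] at this
    exact this
  obtain ⟨_, ⟨V, (hV : IsAffineOpen V), rfl⟩, hyV, -⟩ :=
    Y.isBasis_affineOpens.exists_subset_of_mem_open (Set.mem_univ y) isOpen_univ
  have hxV : (pullback.fst f (Y.fromSpecResidueField y)).base z ∈ f ⁻¹ᵁ V := by
    show f.base _ ∈ V
    rw [hx]; exact hyV
  obtain ⟨_, ⟨U, (hU : IsAffineOpen U), rfl⟩, hxU, (hUV : U ≤ f ⁻¹ᵁ V)⟩ :=
    X.isBasis_affineOpens.exists_subset_of_mem_open hxV (f ⁻¹ᵁ V).2
  obtain ⟨p, rfl⟩ : ∃ p : PrimeSpectrum Γ(Y, V), hV.fromSpec.base p = y :=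
    ⟨hV.primeIdealOf ⟨y, hyV⟩, hV.fromSpec_primeIdealOf _⟩
  refine ⟨_, chartMap f hU hV hUV p, inferInstance, ?_, ?_⟩
  · rw [range_chartMap]
    exact hxU
  · exact (GR_chart_iff f hU hV hUV p).mpr (h U V hU hV hUV p)

/-- from the fibres to the charts. -/
theorem GR_chart_of_fiber {U : X.Opens} {V : Y.Opens} (hU : IsAffineOpen U) (hV : IsAffineOpen V)
    (hUV : U ≤ f ⁻¹ᵁ V) (p : PrimeSpectrum Γ(Y, V))
    (h : GR (pullback.snd f (Y.fromSpecResidueField (hV.fromSpec.base p)))) :
    letI := (f.appLE V U hUV).hom.toAlgebra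
    GR (Spec.map (CommRingCat.ofHom
      (algebraMap p.asIdeal.ResidueField (p.asIdeal.Fiber Γ(X, U))))) :=
  (GR_chart_iff f hU hV hUV p).mp (GR.comp_openImmersion _ _ h)

/-- the fibre ring of a chart is Noetherian if the fibre is locally Noetherian. -/
theorem isNoetherianRing_fiber_chart {U : X.Opens} {V : Y.Opens} (hU : IsAffineOpen U)
    (hV : IsAffineOpen V) (hUV : U ≤ f ⁻¹ᵁ V) (p : PrimeSpectrum Γ(Y, V))
    [hN : IsLocallyNoetherian (f.fiber (hV.fromSpec.base p))] :
    letI := (f.appLE V U hUV).hom.toAlgebra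
    IsNoetherianRing (p.asIdeal.Fiber Γ(X, U)) := by
  letI := (f.appLE V U hUV).hom.toAlgebra
  haveI : IsLocallyNoetherian (pullback f (Y.fromSpecResidueField (hV.fromSpec.base p))) := hN
  haveI h1 : IsLocallyNoetherian
      (pullback (Spec.map (f.appLE V U hUV)) ((Spec Γ(Y, V)).fromSpecResidueField p)) :=
    isLocallyNoetherian_of_isOpenImmersion (chartMap f hU hV hUV p)
  let e := Spec.fiberToSpecResidueFieldIso Γ(Y, V) Γ(X, U) p
  haveI : IsLocallyNoetherian (Arrow.mk ((Spec.map (CommRingCat.ofHom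
      (algebraMap Γ(Y, V) Γ(X, U)))).fiberToSpecResidueField p)).left := h1
  haveI : IsIso e.inv.left := inferInstance
  have h2 : IsLocallyNoetherian (Spec (CommRingCat.of (p.asIdeal.Fiber Γ(X, U)))) :=
    isLocallyNoetherian_of_isOpenImmersion e.inv.left
  exact isLocallyNoetherian_Spec.mp h2

theorem main (hN : ∀ y : Y, IsLocallyNoetherian (f.fiber y)) :
    (∀ (U : X.Opens) (V : Y.Opens) (hU : IsAffineOpen U) (hV : IsAffineOpen V)
        (hUV : U ≤ f ⁻¹ᵁ V),
        letI := (f.appLE V U hUV).hom.toAlgebra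
        CAlg.IsRegularHom Γ(Y, V) Γ(X, U)) ↔
      Flat f ∧ ∀ (y : Y) (W : (f.fiber y).Opens), IsAffineOpen W →
        letI : Algebra ↑(Y.residueField y) ↑Γ(f.fiber y, W) :=
          ((Scheme.ΓSpecIso (Y.residueField y)).inv ≫ (f.fiberToSpecResidueField y).appTop ≫
          (f.fiber y).presheaf.map (homOfLE le_top).op).hom.toAlgebra
        IsNoetherianRing ↑Γ(f.fiber y, W) ∧
          CAlg.IsGeometricallyRegular ↑(Y.residueField y) ↑Γ(f.fiber y, W) := by
  constructor
  · intro h
    have hflat : Flat f := by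
      rw [HasRingHomProperty.iff_appLE (P := @Flat)]
      intro V U e
      exact (h U.1 V.1 U.2 V.2 e).1
    refine ⟨hflat, fun y W hW => ?_⟩
    haveI := hN y
    haveI hNW : IsNoetherianRing Γ(f.fiber y, W) :=
      IsLocallyNoetherian.component_noetherian ⟨W, hW⟩
    refine ⟨hNW, ?_⟩
    have hGR : GR (pullback.snd f (Y.fromSpecResidueField y)) := by
      refine GR_fiber_of_charts f (fun U V hU hV hUV p => ?_) y
      letI := (f.appLE V U hUV).hom.toAlgebra
      obtain ⟨-, hfib⟩ := h U V hU hV hUV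
      obtain ⟨hn, hg⟩ := hfib p.asIdeal
      haveI := hn
      exact (GR_specMap_iff _ _).mpr hg
    have := GR.comp_openImmersion W.ι _ hGR
    exact (GR_ι_iff (Y.residueField y) (f.fiberToSpecResidueField y) hW).mp this
  · rintro ⟨hflat, h⟩ U V hU hV hUV
    letI := (f.appLE V U hUV).hom.toAlgebra
    refine ⟨?_, fun p hp => ?_⟩
    · exact (HasRingHomProperty.iff_appLE (P := @Flat)).mp hflat ⟨V, hV⟩ ⟨U, hU⟩ hUV
    · let P : PrimeSpectrum Γ(Y, V) := ⟨p, hp⟩
      haveI := hN (hV.fromSpec.base P)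
      haveI hn : IsNoetherianRing (p.Fiber Γ(X, U)) :=
        isNoetherianRing_fiber_chart f hU hV hUV P
      refine ⟨hn, ?_⟩
      have hGR : GR (f.fiberToSpecResidueField (hV.fromSpec.base P)) := by
        refine GR.of_cover _ fun z => ?_
        obtain ⟨_, ⟨(W : (f.fiber (hV.fromSpec.base P)).Opens), (hW : IsAffineOpen W), rfl⟩,
            hzW, -⟩ :=
          (f.fiber (hV.fromSpec.base P)).isBasis_affineOpens.exists_subset_of_mem_open
            (Set.mem_univ z) isOpen_univ
        haveI : IsNoetherianRing Γ(f.fiber (hV.fromSpec.base P), W) :=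
          IsLocallyNoetherian.component_noetherian ⟨W, hW⟩
        refine ⟨(W : Scheme.{u}), W.ι, inferInstance, ?_, ?_⟩
        · rw [Scheme.Opens.range_ι]; exact hzW
        · exact (GR_ι_iff _ (f.fiberToSpecResidueField _) hW).mpr (h _ W hW).2
      exact (GR_specMap_iff _ _).mp (GR_chart_of_fiber f hU hV hUV P hGR)

end main

end Groth.Agent.Lib.Seat18.GeomRegFib
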