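import Mathlib
import Groth.Agent.Lib.Seat18GN
import Groth.Agent.Lib.Seat18GRFib
import Groth.Agent.Lib.Helper6GeomBC
import Groth.Agent.Lib.Helper5FibreLN
import Groth.Agent.Lib.Helper12Flat

/-!
# Normal ring maps on affine charts versus geometrically normal fibres; fppf base change
(seat 18)
-/

set_option linter.style.haveILetI false
set_option autoImplicit false

universe u
open CategoryTheory CategoryTheory.Limits AlgebraicGeometry TensorProduct

namespace Groth.Agent.Lib.Seat18.GeomNormFib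

open Groth.Agent.Lib.Seat18.GeomNormMor Groth.Agent.Lib.Seat18.GeomRegFib

variable {X Y : Scheme.{u}} (f : X ⟶ Y)

section chart

variable {U : X.Opens} {V : Y.Opens} (hU : IsAffineOpen U) (hV : IsAffineOpen V)
  (hUV : U ≤ f ⁻¹ᵁ V) (p : PrimeSpectrum Γ(Y, V))

theorem GN_chart_iff :
    letI := (f.appLE V U hUV).hom.toAlgebra
    GN (chartMap f hU hV hUV p ≫ pullback.snd f (Y.fromSpecResidueField (hV.fromSpec.base p))) ↔
      GN (Spec.map (CommRingCat.ofHom
        (algebraMap p.asIdeal.ResidueField (p.asIdeal.Fiber Γ(X, U))))) := by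
  letI := (f.appLE V U hUV).hom.toAlgebra
  haveI : IsIso (Spec.map (hV.fromSpec.residueFieldMap p)) := isIso_SpecMap_res hV p
  rw [chartMap_snd]
  rw [show Spec.map (hV.fromSpec.residueFieldMap p) =
    (asIso (Spec.map (hV.fromSpec.residueFieldMap p))).hom from rfl, GN.comp_iso_iff]
  exact GN.arrow_iso_iff (Spec.fiberToSpecResidueFieldIso Γ(Y, V) Γ(X, U) p)

end chart

theorem GN_ι_iff {Z : Scheme.{u}} (K : Type u) [Field K] (g : Z ⟶ Spec (CommRingCat.of K))
    {W : Z.Opens} (hW : IsAffineOpen W) :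
    letI : Algebra K Γ(Z, W) := ((Scheme.ΓSpecIso (CommRingCat.of K)).inv ≫ g.appTop ≫
      Z.presheaf.map (homOfLE le_top).op).hom.toAlgebra
    GN (W.ι ≫ g) ↔ EGA4.IsGeomNormal K Γ(Z, W) := by
  letI : Algebra K Γ(Z, W) := ((Scheme.ΓSpecIso (CommRingCat.of K)).inv ≫ g.appTop ≫
      Z.presheaf.map (homOfLE le_top).op).hom.toAlgebra
  have h1 : GN (W.ι ≫ g) ↔ GN (hW.fromSpec ≫ g) := by
    constructor
    · intro h
      have : hW.fromSpec ≫ g = hW.isoSpec.inv ≫ (W.ι ≫ g) := by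
        rw [IsAffineOpen.fromSpec, Category.assoc]
      rw [this]
      exact GN.comp_openImmersion _ _ h
    · intro h
      have : W.ι ≫ g = hW.isoSpec.hom ≫ (hW.fromSpec ≫ g) := by
        rw [IsAffineOpen.fromSpec, Category.assoc, Iso.hom_inv_id_assoc]
      rw [this]
      exact GN.comp_openImmersion _ _ h
  rw [h1, Groth.Agent.Lib.Helper10.DVRFibre.fromSpec_comp g hW]
  exact GN_specMap_iff K Γ(Z, W)

section main

theorem GN_fiber_of_charts
    (h : ∀ (U : X.Opens) (V : Y.Opens) (_ : IsAffineOpen U) (_ : IsAffineOpen V)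
      (hUV : U ≤ f ⁻¹ᵁ V) (p : PrimeSpectrum Γ(Y, V)),
      letI := (f.appLE V U hUV).hom.toAlgebra
      GN (Spec.map (CommRingCat.ofHom
        (algebraMap p.asIdeal.ResidueField (p.asIdeal.Fiber Γ(X, U)))))) (y : Y) :
    GN (pullback.snd f (Y.fromSpecResidueField y)) := by
  refine GN.of_cover _ fun z => ?_
  have hx : f.base ((pullback.fst f (Y.fromSpecResidueField y)).base z) = y := by
    have : (pullback.fst f (Y.fromSpecResidueField y)).base z ∈ Set.range (f.fiberι y).base :=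
      ⟨z, rfl⟩
    rw [f.range_fiberι y] at this
    exact this
  obtain ⟨_, ⟨V, (hV : IsAffineOpen V), rfl⟩, hyV, -⟩ :=
    Y.isBasis_affineOpens.exists_subset_of_mem_open (Set.mem_univ y) isOpen_univ
  have hxV : (pullback.fst f (Y.fromSpecResidueField y)).base z ∈ f ⁻¹ᵁ V := by
    show f.base _ ∈ V
    rw [hx]; exact hyV
  obtain ⟨_, ⟨U, (hU : IsAffineOpen U), rfl⟩, hxU, (hUV : U ≤ f ⁻¹ᵁ V)⟩ :=
    X.isBasis_affineOpens.exists_subset_of_mem_open hxV (f ⁻¹ᵁ V).2
  obtain ⟨p, rfl⟩ : ∃ p : PrimeSpectrum Γ(Y, V), hV.fromSpec.base p = y :=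
    ⟨hV.primeIdealOf ⟨y, hyV⟩, hV.fromSpec_primeIdealOf _⟩
  refine ⟨_, chartMap f hU hV hUV p, inferInstance, ?_, ?_⟩
  · rw [range_chartMap]
    exact hxU
  · exact (GN_chart_iff f hU hV hUV p).mpr (h U V hU hV hUV p)

theorem GN_chart_of_fiber {U : X.Opens} {V : Y.Opens} (hU : IsAffineOpen U) (hV : IsAffineOpen V)
    (hUV : U ≤ f ⁻¹ᵁ V) (p : PrimeSpectrum Γ(Y, V))
    (h : GN (pullback.snd f (Y.fromSpecResidueField (hV.fromSpec.base p)))) :
    letI := (f.appLE V U hUV).hom.toAlgebra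
    GN (Spec.map (CommRingCat.ofHom
      (algebraMap p.asIdeal.ResidueField (p.asIdeal.Fiber Γ(X, U))))) :=
  (GN_chart_iff f hU hV hUV p).mp (GN.comp_openImmersion _ _ h)

theorem main_normal :
    (∀ (U : X.Opens) (V : Y.Opens) (hU : IsAffineOpen U) (hV : IsAffineOpen V)
        (hUV : U ≤ f ⁻¹ᵁ V),
        letI := (f.appLE V U hUV).hom.toAlgebra
        EGA4.IsNormalHom Γ(Y, V) Γ(X, U)) ↔
      Flat f ∧ ∀ y : Y, GN (f.fiberToSpecResidueField y) := by
  constructor
  · intro h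
    have hflat : Flat f := by
      rw [HasRingHomProperty.iff_appLE (P := @Flat)]
      intro V U e
      exact (h U.1 V.1 U.2 V.2 e).1
    refine ⟨hflat, fun y => ?_⟩
    refine GN_fiber_of_charts f (fun U V hU hV hUV p => ?_) y
    letI := (f.appLE V U hUV).hom.toAlgebra
    obtain ⟨-, hfib⟩ := h U V hU hV hUV
    exact (GN_specMap_iff _ _).mpr (hfib p.asIdeal)
  · rintro ⟨hflat, h⟩ U V hU hV hUV
    letI := (f.appLE V U hUV).hom.toAlgebra
    refine ⟨?_, fun p hp => ?_⟩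
    · exact (HasRingHomProperty.iff_appLE (P := @Flat)).mp hflat ⟨V, hV⟩ ⟨U, hU⟩ hUV
    · let P : PrimeSpectrum Γ(Y, V) := ⟨p, hp⟩
      exact (GN_specMap_iff _ _).mp (GN_chart_of_fiber f hU hV hUV P (h _))

end main

section field

variable (K K' : Type u) [Field K] [Field K'] [Algebra K K'] [Algebra.EssFiniteType K K']

theorem GN_spec_bc (A : Type u) [CommRing A] [Algebra K A] :
    GN (Spec.map (CommRingCat.ofHom (algebraMap K A))) ↔
      GN (pullback.snd (Spec.map (CommRingCat.ofHom (algebraMap K A)))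
        (Spec.map (CommRingCat.ofHom (algebraMap K K')))) := by
  rw [GN_specMap_iff, Groth.Agent.Lib.Helper6.GeomBC.main2675 K A K', ← GN_specMap_iff]
  refine (GN.arrow_iso_iff ?_).symm
  refine Arrow.isoMk (pullbackSymmetry _ _ ≪≫ pullbackSpecIso K K' A) (Iso.refl _) ?_
  simp only [Arrow.mk_left, Arrow.mk_right, Iso.trans_hom, Arrow.mk_hom, Iso.refl_hom,
    Category.assoc, Category.comp_id]
  rw [pullbackSpecIso_hom_fst', pullbackSymmetry_hom_comp_fst]

theorem GN_affine_bc {V : Scheme.{u}} [IsAffine V]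
    (c : V ⟶ Spec (CommRingCat.of K)) :
    GN c ↔ GN (pullback.snd c (Spec.map (CommRingCat.ofHom (algebraMap K K')))) := by
  set t := Spec.map (CommRingCat.ofHom (algebraMap K K')) with ht
  let ψ : CommRingCat.of K ⟶ Γ(V, ⊤) := Spec.preimage (V.isoSpec.inv ≫ c)
  have hψ : Spec.map ψ = V.isoSpec.inv ≫ c := Spec.map_preimage _
  letI : Algebra K Γ(V, ⊤) := ψ.hom.toAlgebra
  have hψ' : ψ = CommRingCat.ofHom (algebraMap K Γ(V, ⊤)) := rfl
  have h1 : GN c ↔ GN (Spec.map ψ) := by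
    refine (GN.arrow_iso_iff (Arrow.isoMk V.isoSpec.symm (Iso.refl _) ?_)).symm
    show V.isoSpec.inv ≫ c = Spec.map ψ ≫ 𝟙 _
    rw [Category.comp_id, hψ]
  have e₁ : Spec.map ψ ≫ 𝟙 _ = V.isoSpec.inv ≫ c := by rw [Category.comp_id, hψ]
  have e₂ : t ≫ 𝟙 _ = 𝟙 _ ≫ t := by simp
  have h2 : GN (pullback.snd c t) ↔ GN (pullback.snd (Spec.map ψ) t) := by
    refine (GN.arrow_iso_iff (Arrow.isoMk (asIso (pullback.map (Spec.map ψ) t c t V.isoSpec.inv
      (𝟙 _) (𝟙 _) e₁ e₂)) (Iso.refl _) ?_)).symm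
    show pullback.map (Spec.map ψ) t c t V.isoSpec.inv (𝟙 _) (𝟙 _) e₁ e₂ ≫ pullback.snd c t =
      pullback.snd (Spec.map ψ) t ≫ 𝟙 _
    exact pullback.lift_snd _ _ _
  rw [h1, h2, hψ']
  exact GN_spec_bc K K' Γ(V, ⊤)

theorem GN_pullback_bc {F : Scheme.{u}} (a : F ⟶ Spec (CommRingCat.of K)) :
    GN a ↔ GN (pullback.snd a (Spec.map (CommRingCat.ofHom (algebraMap K K')))) := by
  set t := Spec.map (CommRingCat.ofHom (algebraMap K K')) with ht
  have key : ∀ i : F.affineCover.I₀, GN (F.affineCover.f i ≫ a) ↔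
      GN (pullback.snd (F.affineCover.f i ≫ a) t) := fun i =>
    GN_affine_bc K K' (F.affineCover.f i ≫ a)
  have hm : ∀ i : F.affineCover.I₀,
      pullback.map (F.affineCover.f i ≫ a) t a t (F.affineCover.f i) (𝟙 _) (𝟙 _)
        (by simp) (by simp) ≫ pullback.snd a t = pullback.snd (F.affineCover.f i ≫ a) t := by
    intro i
    exact (pullback.lift_snd _ _ _).trans (Category.comp_id _)
  constructor
  · intro h
    refine GN.of_cover _ fun z => ?_
    obtain ⟨i, w, hw⟩ := F.affineCover.exists_eq ((pullback.fst a t).base z)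
    refine ⟨_, pullback.map (F.affineCover.f i ≫ a) t a t (F.affineCover.f i) (𝟙 _) (𝟙 _)
        (by simp) (by simp), inferInstance, ?_, ?_⟩
    · rw [Scheme.Pullback.range_map]
      exact ⟨⟨w, hw⟩, by simp⟩
    · rw [hm i]
      exact (key i).mp (GN.comp_openImmersion _ _ h)
  · intro h
    refine GN.of_cover _ fun z => ?_
    obtain ⟨i, w, hw⟩ := F.affineCover.exists_eq z
    refine ⟨_, F.affineCover.f i, inferInstance, ⟨w, hw⟩, ?_⟩
    refine (key i).mpr ?_
    rw [← hm i]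
    exact GN.comp_openImmersion _ _ h

end field

section fibre

theorem GN_of_isPullback {K K' : Type u} [Field K] [Field K']
    (φ : CommRingCat.of K ⟶ CommRingCat.of K')
    (hφ : φ.hom.EssFiniteType) {F F' : Scheme.{u}}
    {a : F ⟶ Spec (CommRingCat.of K)} {a' : F' ⟶ Spec (CommRingCat.of K')} {h : F' ⟶ F}
    (hpb : IsPullback h a' a (Spec.map φ)) : GN a ↔ GN a' := by
  letI : Algebra K K' := φ.hom.toAlgebra
  haveI : Algebra.EssFiniteType K K' := hφ
  have h1 := GN_pullback_bc (K := K) (K' := K') a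
  rw [h1]
  refine GN.arrow_iso_iff (Arrow.isoMk hpb.isoPullback.symm (Iso.refl _) ?_)
  show hpb.isoPullback.inv ≫ a' = pullback.snd a (Spec.map φ) ≫ 𝟙 _
  rw [Category.comp_id]
  exact hpb.isoPullback_inv_snd

variable {X' Y' : Scheme.{u}} {f} {f' : X' ⟶ Y'} {g' : X' ⟶ X} {g : Y' ⟶ Y}

theorem GN_fiber_iff_of_isPullback [LocallyOfFiniteType g] (hc : IsPullback g' f' f g) (y' : Y') :
    GN (f.fiberToSpecResidueField (g.base y')) ↔ GN (f'.fiberToSpecResidueField y') :=
  GN_of_isPullback (g.residueFieldMap y')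
    (Groth.Agent.Lib.Helper5.FibreLN.essFiniteType_residueFieldMap y')
    (isPullback_fiberToSpecResidueField_of_isPullback hc y')

theorem normal_iff_of_fppf (f : X ⟶ Y) (f' : X' ⟶ Y') (g' : X' ⟶ X) (g : Y' ⟶ Y) [Flat g]
    [LocallyOfFinitePresentation g] [Surjective g] (hc : IsPullback g' f' f g) :
    ((∀ y : Y, IsLocallyNoetherian (f.fiber y)) ∧
      (∀ (U : X.Opens) (V : Y.Opens) (hU : IsAffineOpen U) (hV : IsAffineOpen V)
        (hUV : U ≤ f ⁻¹ᵁ V),
        letI := (f.appLE V U hUV).hom.toAlgebra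
        EGA4.IsNormalHom Γ(Y, V) Γ(X, U))) ↔
      ((∀ y' : Y', IsLocallyNoetherian (f'.fiber y')) ∧
        (∀ (U : X'.Opens) (V : Y'.Opens) (hU : IsAffineOpen U) (hV : IsAffineOpen V)
          (hUV : U ≤ f' ⁻¹ᵁ V),
          letI := (f'.appLE V U hUV).hom.toAlgebra
          EGA4.IsNormalHom Γ(Y', V) Γ(X', U))) := by
  haveI hg'surj : Surjective g' := MorphismProperty.of_isPullback hc.flip ‹Surjective g›
  haveI hg'flat : Flat g' := MorphismProperty.of_isPullback hc.flip ‹Flat g›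
  constructor
  · rintro ⟨hN, hreg⟩
    have hN' : ∀ y' : Y', IsLocallyNoetherian (f'.fiber y') := fun y' =>
      Groth.Agent.Lib.Helper5.FibreLN.fiber_isLocallyNoetherian_of_isPullback hc y' (hN _)
    refine ⟨hN', ?_⟩
    rw [main_normal f']
    rw [main_normal f] at hreg
    obtain ⟨hflat, hGN⟩ := hreg
    exact ⟨MorphismProperty.of_isPullback hc hflat, fun y' =>
      (GN_fiber_iff_of_isPullback hc y').mp (hGN _)⟩
  · rintro ⟨hN', hreg'⟩
    have hN : ∀ y : Y, IsLocallyNoetherian (f.fiber y) := by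
      intro y
      obtain ⟨y', rfl⟩ := g.surjective y
      exact Groth.Agent.Lib.Helper5.FibreLN.fiber_isLocallyNoetherian_descend hc y' (hN' y')
    refine ⟨hN, ?_⟩
    rw [main_normal f]
    rw [main_normal f'] at hreg'
    obtain ⟨hflat', hGN'⟩ := hreg'
    refine ⟨?_, fun y => ?_⟩
    · haveI : Flat (g' ≫ f) := by
        rw [hc.w]
        infer_instance
      exact Groth.Agent.Lib.Helper12.flat_of_comp_of_flat_of_surjective g' f
    · obtain ⟨y', rfl⟩ := g.surjective y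
      exact (GN_fiber_iff_of_isPullback hc y').mpr (hGN' y')

end fibre

end Groth.Agent.Lib.Seat18.GeomNormFib
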