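import Mathlib
import Groth.Agent.Lib.Seat18GRFib
import Groth.Agent.Lib.Helper6GeomBC
import Groth.Agent.Lib.Helper5FibreLN
import Groth.Agent.Lib.Helper12Flat

/-!
# `GR` under essentially finite type field extensions; regular morphisms and fppf base change
(seat 18)
-/

set_option linter.style.haveILetI false
set_option autoImplicit false

universe u
open CategoryTheory CategoryTheory.Limits AlgebraicGeometry TensorProduct

namespace Groth.Agent.Lib.Seat18.GeomRegBC

open Groth.Agent.Lib.Seat18.GeomRegMor Groth.Agent.Lib.Seat18.GeomRegFib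

section field

variable (K K' : Type u) [Field K] [Field K'] [Algebra K K'] [Algebra.EssFiniteType K K']

theorem GR_spec_bc (A : Type u) [CommRing A] [Algebra K A] [IsNoetherianRing A] :
    GR (Spec.map (CommRingCat.ofHom (algebraMap K A))) ↔
      GR (pullback.snd (Spec.map (CommRingCat.ofHom (algebraMap K A)))
        (Spec.map (CommRingCat.ofHom (algebraMap K K')))) := by
  haveI : Algebra.EssFiniteType A (A ⊗[K] K') := inferInstance
  haveI hN1 : IsNoetherianRing (A ⊗[K] K') := Algebra.EssFiniteType.isNoetherianRing A _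
  haveI : IsNoetherianRing (K' ⊗[K] A) :=
    isNoetherianRing_of_ringEquiv _ (Algebra.TensorProduct.comm K A K').toRingEquiv
  rw [GR_specMap_iff, Groth.Agent.Lib.Helper6.GeomBC.main2674 K A K', ← GR_specMap_iff]
  refine (GR.arrow_iso_iff ?_).symm
  refine Arrow.isoMk (pullbackSymmetry _ _ ≪≫ pullbackSpecIso K K' A) (Iso.refl _) ?_
  simp only [Arrow.mk_left, Arrow.mk_right, Iso.trans_hom, Arrow.mk_hom, Iso.refl_hom,
    Category.assoc, Category.comp_id]
  rw [pullbackSpecIso_hom_fst', pullbackSymmetry_hom_comp_fst]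

theorem GR_affine_bc {V : Scheme.{u}} [IsAffine V] [IsLocallyNoetherian V]
    (c : V ⟶ Spec (CommRingCat.of K)) :
    GR c ↔ GR (pullback.snd c (Spec.map (CommRingCat.ofHom (algebraMap K K')))) := by
  set t := Spec.map (CommRingCat.ofHom (algebraMap K K')) with ht
  let ψ : CommRingCat.of K ⟶ Γ(V, ⊤) := Spec.preimage (V.isoSpec.inv ≫ c)
  have hψ : Spec.map ψ = V.isoSpec.inv ≫ c := Spec.map_preimage _
  letI : Algebra K Γ(V, ⊤) := ψ.hom.toAlgebra
  haveI : IsNoetherianRing Γ(V, ⊤) :=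
    IsLocallyNoetherian.component_noetherian ⟨⊤, isAffineOpen_top V⟩
  have hψ' : ψ = CommRingCat.ofHom (algebraMap K Γ(V, ⊤)) := rfl
  have h1 : GR c ↔ GR (Spec.map ψ) := by
    refine (GR.arrow_iso_iff (Arrow.isoMk V.isoSpec.symm (Iso.refl _) ?_)).symm
    show V.isoSpec.inv ≫ c = Spec.map ψ ≫ 𝟙 _
    rw [Category.comp_id, hψ]
  have e₁ : Spec.map ψ ≫ 𝟙 _ = V.isoSpec.inv ≫ c := by rw [Category.comp_id, hψ]
  have e₂ : t ≫ 𝟙 _ = 𝟙 _ ≫ t := by simp
  have h2 : GR (pullback.snd c t) ↔ GR (pullback.snd (Spec.map ψ) t) := by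
    refine (GR.arrow_iso_iff (Arrow.isoMk (asIso (pullback.map (Spec.map ψ) t c t V.isoSpec.inv
      (𝟙 _) (𝟙 _) e₁ e₂)) (Iso.refl _) ?_)).symm
    show pullback.map (Spec.map ψ) t c t V.isoSpec.inv (𝟙 _) (𝟙 _) e₁ e₂ ≫ pullback.snd c t =
      pullback.snd (Spec.map ψ) t ≫ 𝟙 _
    exact pullback.lift_snd _ _ _
  rw [h1, h2, hψ']
  exact GR_spec_bc K K' Γ(V, ⊤)

/-- `GR` is invariant under base change along an essentially finite type field extension
(locally Noetherian source). -/
theorem GR_pullback_bc {F : Scheme.{u}} [IsLocallyNoetherian F]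
    (a : F ⟶ Spec (CommRingCat.of K)) :
    GR a ↔ GR (pullback.snd a (Spec.map (CommRingCat.ofHom (algebraMap K K')))) := by
  set t := Spec.map (CommRingCat.ofHom (algebraMap K K')) with ht
  have key : ∀ i : F.affineCover.I₀, GR (F.affineCover.f i ≫ a) ↔
      GR (pullback.snd (F.affineCover.f i ≫ a) t) := by
    intro i
    haveI : IsLocallyNoetherian (F.affineCover.X i) :=
      isLocallyNoetherian_of_isOpenImmersion (F.affineCover.f i)
    exact GR_affine_bc K K' (F.affineCover.f i ≫ a)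
  have hm : ∀ i : F.affineCover.I₀,
      pullback.map (F.affineCover.f i ≫ a) t a t (F.affineCover.f i) (𝟙 _) (𝟙 _)
        (by simp) (by simp) ≫ pullback.snd a t = pullback.snd (F.affineCover.f i ≫ a) t := by
    intro i
    exact (pullback.lift_snd _ _ _).trans (Category.comp_id _)
  constructor
  · intro h
    refine GR.of_cover _ fun z => ?_
    obtain ⟨i, w, hw⟩ := F.affineCover.exists_eq ((pullback.fst a t).base z)
    refine ⟨_, pullback.map (F.affineCover.f i ≫ a) t a t (F.affineCover.f i) (𝟙 _) (𝟙 _)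
        (by simp) (by simp), inferInstance, ?_, ?_⟩
    · rw [Scheme.Pullback.range_map]
      exact ⟨⟨w, hw⟩, by simp⟩
    · rw [hm i]
      exact (key i).mp (GR.comp_openImmersion _ _ h)
  · intro h
    refine GR.of_cover _ fun z => ?_
    obtain ⟨i, w, hw⟩ := F.affineCover.exists_eq z
    refine ⟨_, F.affineCover.f i, inferInstance, ⟨w, hw⟩, ?_⟩
    refine (key i).mpr ?_
    rw [← hm i]
    exact GR.comp_openImmersion _ _ h

end field

section fibre

theorem GR_of_isPullback {K K' : Type u} [Field K] [Field K']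
    (φ : CommRingCat.of K ⟶ CommRingCat.of K')
    (hφ : φ.hom.EssFiniteType) {F F' : Scheme.{u}} [IsLocallyNoetherian F]
    {a : F ⟶ Spec (CommRingCat.of K)} {a' : F' ⟶ Spec (CommRingCat.of K')} {h : F' ⟶ F}
    (hpb : IsPullback h a' a (Spec.map φ)) : GR a ↔ GR a' := by
  letI : Algebra K K' := φ.hom.toAlgebra
  haveI : Algebra.EssFiniteType K K' := hφ
  have h1 := GR_pullback_bc (K := K) (K' := K') a
  rw [h1]
  refine GR.arrow_iso_iff (Arrow.isoMk hpb.isoPullback.symm (Iso.refl _) ?_)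
  show hpb.isoPullback.inv ≫ a' = pullback.snd a (Spec.map φ) ≫ 𝟙 _
  rw [Category.comp_id]
  exact hpb.isoPullback_inv_snd

variable {X Y X' Y' : Scheme.{u}} {f : X ⟶ Y} {f' : X' ⟶ Y'} {g' : X' ⟶ X} {g : Y' ⟶ Y}

theorem GR_fiber_iff_of_isPullback [LocallyOfFiniteType g] (hc : IsPullback g' f' f g) (y' : Y')
    [IsLocallyNoetherian (f.fiber (g.base y'))] :
    GR (f.fiberToSpecResidueField (g.base y')) ↔ GR (f'.fiberToSpecResidueField y') :=
  GR_of_isPullback (g.residueFieldMap y')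
    (Groth.Agent.Lib.Helper5.FibreLN.essFiniteType_residueFieldMap y')
    (isPullback_fiberToSpecResidueField_of_isPullback hc y')

theorem GR_fiber_iff_affine (f : X ⟶ Y) (y : Y) [IsLocallyNoetherian (f.fiber y)] :
    GR (f.fiberToSpecResidueField y) ↔ ∀ (W : (f.fiber y).Opens), IsAffineOpen W →
      letI : Algebra ↑(Y.residueField y) ↑Γ(f.fiber y, W) :=
        ((Scheme.ΓSpecIso (Y.residueField y)).inv ≫ (f.fiberToSpecResidueField y).appTop ≫
        (f.fiber y).presheaf.map (homOfLE le_top).op).hom.toAlgebra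
      IsNoetherianRing ↑Γ(f.fiber y, W) ∧
        CAlg.IsGeometricallyRegular ↑(Y.residueField y) ↑Γ(f.fiber y, W) := by
  constructor
  · intro h W hW
    haveI hNW : IsNoetherianRing Γ(f.fiber y, W) :=
      IsLocallyNoetherian.component_noetherian ⟨W, hW⟩
    exact ⟨hNW, (GR_ι_iff (Y.residueField y) (f.fiberToSpecResidueField y) hW).mp
      (GR.comp_openImmersion W.ι _ h)⟩
  · intro h
    refine GR.of_cover _ fun z => ?_
    obtain ⟨_, ⟨(W : (f.fiber y).Opens), (hW : IsAffineOpen W), rfl⟩, hzW, -⟩ :=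
      (f.fiber y).isBasis_affineOpens.exists_subset_of_mem_open (Set.mem_univ z) isOpen_univ
    haveI : IsNoetherianRing Γ(f.fiber y, W) :=
      IsLocallyNoetherian.component_noetherian ⟨W, hW⟩
    refine ⟨(W : Scheme.{u}), W.ι, inferInstance, ?_, ?_⟩
    · rw [Scheme.Opens.range_ι]; exact hzW
    · exact (GR_ι_iff _ (f.fiberToSpecResidueField _) hW).mpr (h W hW).2

theorem main' (f : X ⟶ Y) (hN : ∀ y : Y, IsLocallyNoetherian (f.fiber y)) :
    (∀ (U : X.Opens) (V : Y.Opens) (hU : IsAffineOpen U) (hV : IsAffineOpen V)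
        (hUV : U ≤ f ⁻¹ᵁ V),
        letI := (f.appLE V U hUV).hom.toAlgebra
        CAlg.IsRegularHom Γ(Y, V) Γ(X, U)) ↔
      Flat f ∧ ∀ y : Y, GR (f.fiberToSpecResidueField y) := by
  rw [main f hN]
  refine and_congr Iff.rfl (forall_congr' fun y => ?_)
  haveI := hN y
  exact (GR_fiber_iff_affine f y).symm

theorem regular_iff_of_fppf (f : X ⟶ Y) (f' : X' ⟶ Y') (g' : X' ⟶ X) (g : Y' ⟶ Y) [Flat g]
    [LocallyOfFinitePresentation g] [Surjective g] (hc : IsPullback g' f' f g) :
    ((∀ y : Y, IsLocallyNoetherian (f.fiber y)) ∧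
      (∀ (U : X.Opens) (V : Y.Opens) (hU : IsAffineOpen U) (hV : IsAffineOpen V)
        (hUV : U ≤ f ⁻¹ᵁ V),
        letI := (f.appLE V U hUV).hom.toAlgebra
        CAlg.IsRegularHom Γ(Y, V) Γ(X, U))) ↔
      ((∀ y' : Y', IsLocallyNoetherian (f'.fiber y')) ∧
        (∀ (U : X'.Opens) (V : Y'.Opens) (hU : IsAffineOpen U) (hV : IsAffineOpen V)
          (hUV : U ≤ f' ⁻¹ᵁ V),
          letI := (f'.appLE V U hUV).hom.toAlgebra
          CAlg.IsRegularHom Γ(Y', V) Γ(X', U))) := by
  haveI hg'surj : Surjective g' := MorphismProperty.of_isPullback hc.flip ‹Surjective g›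
  haveI hg'flat : Flat g' := MorphismProperty.of_isPullback hc.flip ‹Flat g›
  constructor
  · rintro ⟨hN, hreg⟩
    have hN' : ∀ y' : Y', IsLocallyNoetherian (f'.fiber y') := fun y' =>
      Groth.Agent.Lib.Helper5.FibreLN.fiber_isLocallyNoetherian_of_isPullback hc y' (hN _)
    refine ⟨hN', ?_⟩
    rw [main' f' hN']
    rw [main' f hN] at hreg
    obtain ⟨hflat, hGR⟩ := hreg
    refine ⟨MorphismProperty.of_isPullback hc hflat, fun y' => ?_⟩
    haveI := hN (g.base y')
    exact (GR_fiber_iff_of_isPullback hc y').mp (hGR _)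
  · rintro ⟨hN', hreg'⟩
    have hN : ∀ y : Y, IsLocallyNoetherian (f.fiber y) := by
      intro y
      obtain ⟨y', rfl⟩ := g.surjective y
      exact Groth.Agent.Lib.Helper5.FibreLN.fiber_isLocallyNoetherian_descend hc y' (hN' y')
    refine ⟨hN, ?_⟩
    rw [main' f hN]
    rw [main' f' hN'] at hreg'
    obtain ⟨hflat', hGR'⟩ := hreg'
    refine ⟨?_, fun y => ?_⟩
    · haveI : Flat (g' ≫ f) := by
        rw [hc.w]
        infer_instance
      exact Groth.Agent.Lib.Helper12.flat_of_comp_of_flat_of_surjective g' f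
    · obtain ⟨y', rfl⟩ := g.surjective y
      haveI := hN (g.base y')
      exact (GR_fiber_iff_of_isPullback hc y').mpr (hGR' y')

end fibre

end Groth.Agent.Lib.Seat18.GeomRegBC
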