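import Mathlib.AlgebraicGeometry.ResidueField
import Mathlib.AlgebraicGeometry.PullbackCarrier
import Mathlib.FieldTheory.IsAlgClosed.AlgebraicClosure
import Mathlib.RingTheory.Adjoin.Field

/-!
# Fibres of `X ×_k k̄ ⟶ X` are orbits of `Aut(k̄/k)`
-/

set_option autoImplicit false
universe u
open CategoryTheory AlgebraicGeometry Limits

namespace Groth.Agent.Lib.Seat18.GaloisOrbit

/-- Two `k`-embeddings of an algebraically closed algebraic extension `K/k` into a field differ by an
automorphism of `K/k`. -/
theorem exists_algEquiv_comp_eq (k K Ω : Type*) [Field k] [Field K] [Algebra k K] [IsAlgClosed K]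
    [Algebra.IsAlgebraic k K] [Field Ω] [Algebra k Ω] (ix iy : K →ₐ[k] Ω) :
    ∃ σ : K ≃ₐ[k] K, ∀ c, iy c = ix (σ c) := by
  have hmem : ∀ c, iy c ∈ ix.range := by
    intro c
    have hint : IsIntegral k (iy c) := (Algebra.IsIntegral.isIntegral (R := k) c).map iy
    exact hint.mem_range_algHom_of_minpoly_splits (IsAlgClosed.splits _) ix
  let e := AlgEquiv.ofInjective ix ix.injective
  let σ₀ : K →ₐ[k] K := e.symm.toAlgHom.comp (iy.codRestrict ix.range hmem)
  have hσ₀ : ∀ c, ix (σ₀ c) = iy c := by
    intro c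
    have h1 : (e (σ₀ c) : Ω) = ix (σ₀ c) := rfl
    rw [← h1]
    simp [σ₀]
  let σ := (Algebra.IsAlgebraic.algEquivEquivAlgHom k K).symm σ₀
  refine ⟨σ, fun c => ?_⟩
  have h2 : (σ : K →ₐ[k] K) = σ₀ := (Algebra.IsAlgebraic.algEquivEquivAlgHom k K).apply_symm_apply σ₀
  have h3 : σ c = σ₀ c := congrArg (fun φ : K →ₐ[k] K => φ c) h2
  rw [h3, hσ₀]

theorem fibre_eq_orbit {k : Type u} [Field k] {K : Type u} [Field K] [Algebra k K] [IsAlgClosed K]
    [Algebra.IsAlgebraic k K] {X : Scheme.{u}} (f : X ⟶ Spec (CommRingCat.of k))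
    (g : Spec (CommRingCat.of K) ⟶ Spec (CommRingCat.of k))
    (hg : g = Spec.map (CommRingCat.ofHom (algebraMap k K)))
    (τ : (K ≃ₐ[k] K) → (pullback f g ⟶ pullback f g))
    (hτ1 : ∀ σ, τ σ ≫ pullback.fst f g = pullback.fst f g)
    (hτ2 : ∀ σ, τ σ ≫ pullback.snd f g =
        pullback.snd f g ≫ Spec.map (CommRingCat.ofHom (σ : K →+* K)))
    (x y : ↑(pullback f g)) :
    (pullback.fst f g).base x = (pullback.fst f g).base y ↔ ∃ σ, (τ σ).base x = y := by
  constructor
  · intro h
    obtain ⟨w, hw1, hw2⟩ := Scheme.Pullback.exists_preimage_pullback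
      (f := pullback.fst f g) (g := pullback.fst f g) x y h
    let P := pullback (pullback.fst f g) (pullback.fst f g)
    let c : Spec (P.residueField w) ⟶ P := P.fromSpecResidueField w
    let xb := c ≫ pullback.fst (pullback.fst f g) (pullback.fst f g)
    let yb := c ≫ pullback.snd (pullback.fst f g) (pullback.fst f g)
    have hxy : xb ≫ pullback.fst f g = yb ≫ pullback.fst f g := by
      simp only [xb, yb, Category.assoc, pullback.condition]
    have hcpt : ∀ s, c.base s = w := fun s => Scheme.fromSpecResidueField_apply w s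
    let ix : CommRingCat.of K ⟶ P.residueField w := Spec.preimage (xb ≫ pullback.snd f g)
    let iy : CommRingCat.of K ⟶ P.residueField w := Spec.preimage (yb ≫ pullback.snd f g)
    have hix : Spec.map ix = xb ≫ pullback.snd f g := Spec.map_preimage _
    have hiy : Spec.map iy = yb ≫ pullback.snd f g := Spec.map_preimage _
    have hcompat : CommRingCat.ofHom (algebraMap k K) ≫ ix = CommRingCat.ofHom (algebraMap k K) ≫ iy := by
      apply Spec.map_injective
      rw [Spec.map_comp, Spec.map_comp, hix, hiy, ← hg]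
      have e1 : (xb ≫ pullback.snd f g) ≫ g = (xb ≫ pullback.fst f g) ≫ f := by
        simp only [Category.assoc, pullback.condition]
      have e2 : (yb ≫ pullback.snd f g) ≫ g = (yb ≫ pullback.fst f g) ≫ f := by
        simp only [Category.assoc, pullback.condition]
      rw [e1, e2, hxy]
    let _ : Algebra k (P.residueField w) := (CommRingCat.ofHom (algebraMap k K) ≫ ix).hom.toAlgebra
    let ix' : K →ₐ[k] P.residueField w := ⟨ix.hom, fun _ => rfl⟩
    let iy' : K →ₐ[k] P.residueField w :=
      ⟨iy.hom, fun a => (congrArg (fun φ => φ.hom a) hcompat).symm⟩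
    obtain ⟨σ, hσ⟩ := exists_algEquiv_comp_eq k K (P.residueField w) ix' iy'
    refine ⟨σ, ?_⟩
    have hστ : xb ≫ τ σ = yb := by
      apply pullback.hom_ext
      · rw [Category.assoc, hτ1, hxy]
      · rw [Category.assoc, hτ2, ← Category.assoc, ← hix, ← hiy, ← Spec.map_comp]
        congr 1
        ext a
        exact (hσ a).symm
    have hx : xb.base (IsLocalRing.closedPoint _) = x := by
      exact (congrArg (pullback.fst (pullback.fst f g) (pullback.fst f g)).base (hcpt _)).trans hw1
    have hy : yb.base (IsLocalRing.closedPoint _) = y := by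
      exact (congrArg (pullback.snd (pullback.fst f g) (pullback.fst f g)).base (hcpt _)).trans hw2
    rw [← hx, ← hy, ← hστ]
    rfl
  · rintro ⟨σ, rfl⟩
    have := congrArg (fun φ => φ.base x) (hτ1 σ)
    exact this.symm

end Groth.Agent.Lib.Seat18.GaloisOrbit
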