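import Mathlib
import Groth.Agent.Lib.Helper3SmDim
import Groth.Agent.Lib.Helper4DimFormulaAN

/-!
# Generic smoothness on the source in characteristic zero (seat 18)
-/

set_option linter.style.haveILetI false
set_option autoImplicit false

universe u
open CategoryTheory CategoryTheory.Limits AlgebraicGeometry

namespace Groth.Agent.Lib.Seat18.GenSmooth

open Groth.Agent.Lib.Helper4.DimFormula Groth.Agent.Lib.Helper3.SmDim

/-- Transcendence degree is invariant under bijections of both rings. -/
theorem trdeg_eq_of_square {A B kA kB : Type u} [CommRing A] [Nontrivial A] [CommRing B]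
    [Field kA] [Field kB]
    (φ : A →+* B) (rA : A →+* kA) (rB : B →+* kB) (ψ : kA →+* kB)
    (hcomm : ψ.comp rA = rB.comp φ)
    (hA : Function.Bijective rA) (hB : Function.Bijective rB) :
    @Algebra.trdeg A B _ _ φ.toAlgebra = @Algebra.trdeg kA kB _ _ ψ.toAlgebra := by
  letI := φ.toAlgebra
  letI := rA.toAlgebra
  letI := rB.toAlgebra
  letI := ψ.toAlgebra
  letI : Algebra A kB := (rB.comp φ).toAlgebra
  haveI : IsScalarTower A B kB := IsScalarTower.of_algebraMap_eq fun _ => rfl
  haveI : IsScalarTower A kA kB := IsScalarTower.of_algebraMap_eq fun a => by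
    change (rB.comp φ) a = (ψ.comp rA) a
    rw [hcomm]
  have hφ : Function.Injective φ := by
    have h1 : Function.Injective (rB.comp φ) := by
      rw [← hcomm]
      exact ψ.injective.comp hA.1
    exact Function.Injective.of_comp (f := rB) h1
  haveI : FaithfulSMul A B := (faithfulSMul_iff_algebraMap_injective _ _).mpr hφ
  haveI : FaithfulSMul B kB := (faithfulSMul_iff_algebraMap_injective _ _).mpr hB.1
  haveI : FaithfulSMul A kA := (faithfulSMul_iff_algebraMap_injective _ _).mpr hA.1
  haveI : FaithfulSMul kA kB := (faithfulSMul_iff_algebraMap_injective _ _).mpr ψ.injective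
  have h1 := trdeg_add_eq A B (A := kB)
  have h2 := trdeg_add_eq A kA (A := kB)
  haveI : Nontrivial B := hφ.nontrivial
  haveI : Algebra.IsAlgebraic B kB := by
    have hs : Function.Surjective (algebraMap B kB) := hB.2
    haveI := Algebra.isIntegral_of_surjective hs
    exact Algebra.IsIntegral.isAlgebraic
  haveI : Algebra.IsAlgebraic A kA := by
    have hs : Function.Surjective (algebraMap A kA) := hA.2
    haveI := Algebra.isIntegral_of_surjective hs
    exact Algebra.IsIntegral.isAlgebraic
  have e1 : Algebra.trdeg B kB = 0 := trdeg_eq_zero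
  have e2 : Algebra.trdeg A kA = 0 := trdeg_eq_zero
  rw [e1, add_zero] at h1
  rw [e2, zero_add] at h2
  exact h1.trans h2.symm

attribute [local instance] Curv2.resAlgebra

/-- If the local ring at `x` and at `f x` are fields, the transcendence degree of the stalk map
is `ptTrdeg f x`. -/
theorem trdeg_stalkMap_eq_ptTrdeg {X Y : Scheme.{u}} (f : X ⟶ Y) [LocallyOfFiniteType f] (x : X)
    (hX : IsField (X.presheaf.stalk x)) (hY : IsField (Y.presheaf.stalk (f.base x))) :
    @Algebra.trdeg (Y.presheaf.stalk (f.base x)) (X.presheaf.stalk x) _ _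
      (f.stalkMap x).hom.toAlgebra = (ptTrdeg f x : Cardinal.{u}) := by
  rw [← trdeg_eq_ptTrdeg f x]
  have hbij : ∀ (R : Type u) [CommRing R] [IsLocalRing R], IsField R →
      Function.Bijective (IsLocalRing.residue R) := by
    intro R _ _ hR
    letI := hR.toField
    exact ⟨(IsLocalRing.residue R).injective, IsLocalRing.residue_surjective⟩
  exact trdeg_eq_of_square (f.stalkMap x).hom (Y.residue (f.base x)).hom (X.residue x).hom
    (f.residueFieldMap x).hom (by
      rw [← CommRingCat.hom_comp, ← CommRingCat.hom_comp, Scheme.residue_residueFieldMap])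
    (hbij _ hY) (hbij _ hX)

theorem main (X Y : Scheme.{u}) [IsIntegral X] [IsIntegral Y] [IsNoetherian X] [IsNoetherian Y]
    (π : X ⟶ Y) [LocallyOfFiniteType π]
    (hdom : π.base (genericPoint X) = genericPoint Y) [CharZero Y.functionField]
    (n : ℕ) (hn : @Algebra.trdeg (Y.presheaf.stalk (π.base (genericPoint X))) X.functionField _ _
      (π.stalkMap (genericPoint X)).hom.toAlgebra = n) :
    ∃ U : X.Opens, (U : Set X).Nonempty ∧ SmoothOfRelativeDimension n (U.ι ≫ π) := by
  have hA : IsField (Y.presheaf.stalk (π.base (genericPoint X))) := by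
    rw [hdom]; exact Field.toIsField Y.functionField
  have hB : IsField (X.presheaf.stalk (genericPoint X)) := Field.toIsField X.functionField
  have hchar : CharZero (Y.presheaf.stalk (π.base (genericPoint X))) := by
    rw [hdom]; infer_instance
  -- the generic point lies in the smooth locus
  have hmem : genericPoint X ∈ π.smoothLocus := by
    rw [Scheme.Hom.mem_smoothLocus]
    have := LocallyOfFiniteType.stalkMap π (genericPoint X)
    algebraize [(π.stalkMap (genericPoint X)).hom]
    letI : Field (Y.presheaf.stalk (π.base (genericPoint X))) := hA.toField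
    haveI : PerfectField (Y.presheaf.stalk (π.base (genericPoint X))) := PerfectField.ofCharZero
    exact Algebra.FormallySmooth.of_perfectField
  have hsm : Smooth (π.smoothLocus.ι ≫ π) := by
    rw [← Scheme.Hom.smoothLocus_eq_top_iff, ← Scheme.Hom.preimage_smoothLocus_eq]
    exact π.smoothLocus.ι_preimage_self
  let ξ' : π.smoothLocus.toScheme := ⟨genericPoint X, hmem⟩
  -- the generic point lies in every nonempty open
  have hgen : ∀ W : π.smoothLocus.toScheme.Opens, (W : Set π.smoothLocus.toScheme).Nonempty →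
      ξ' ∈ W := by
    intro W hW
    have h1 : (π.smoothLocus.ι ''ᵁ W : Set X).Nonempty := by
      obtain ⟨w, hw⟩ := hW
      exact ⟨π.smoothLocus.ι w, w, hw, rfl⟩
    have h2 : genericPoint X ∈ (π.smoothLocus.ι ''ᵁ W : Set X) :=
      ((genericPoint_spec X).mem_open_set_iff (π.smoothLocus.ι ''ᵁ W).2).mpr
        (by simpa using h1)
    obtain ⟨w, hw, hwe⟩ := h2
    have : w = ξ' := π.smoothLocus.ι.isOpenEmbedding.injective hwe
    rwa [this] at hw
  -- the fibre dimension at the generic point
  have hdim : FlatMor.fibreDimAt (π.smoothLocus.ι ≫ π) ξ' = (n : WithBot ℕ∞) := by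
    rw [fibreDimAt_eq_ptTrdeg_of_maximal (π.smoothLocus.ι ≫ π) ξ' (by
      intro y _ hy
      have h1 : π.smoothLocus.ι ξ' ⤳ π.smoothLocus.ι y :=
        (genericPoint_spec X).specializes (Set.mem_univ _)
      have h2 : ξ' ⤳ y := π.smoothLocus.ι.isOpenEmbedding.isInducing.specializes_iff.mp h1
      exact (h2.antisymm hy).eq.symm ▸ rfl)]
    rw [ptTrdeg_comp_of_isPreimmersion π.smoothLocus.ι π ξ']
    have h3 := trdeg_stalkMap_eq_ptTrdeg π (genericPoint X) hB hA
    have h4 : ((ptTrdeg π (genericPoint X) : ℕ) : Cardinal.{u}) = (n : Cardinal.{u}) :=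
      h3.symm.trans hn
    have h5 : ptTrdeg π (genericPoint X) = n := by exact_mod_cast h4
    show ((ptTrdeg π (genericPoint X) : ℕ) : WithBot ℕ∞) = _
    rw [h5]
  refine ⟨π.smoothLocus, ⟨genericPoint X, hmem⟩, ⟨fun x => ?_⟩⟩
  obtain ⟨V, hV, W, hW, hxW, e, hstd⟩ := Smooth.exists_isStandardSmooth (π.smoothLocus.ι ≫ π) x
  obtain ⟨m, hm⟩ := exists_relDim_of_isStandardSmooth _ hstd
  have hξW : ξ' ∈ W := hgen W ⟨x, hxW⟩
  have h1 := fibreDimAt_eq_of_chart (π.smoothLocus.ι ≫ π) m ξ' hV hW hξW e hm
  rw [hdim] at h1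
  have h2 : n = m := by exact_mod_cast h1
  subst h2
  exact ⟨V, hV, W, hW, hxW, e, hm⟩

end Groth.Agent.Lib.Seat18.GenSmooth
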