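import Mathlib
import Groth.Prelude.Def_Curv2
import Groth.Agent.Lib.Helper28RegDescent

/-!
# Geometric regularity at a point descends from a base change `X_{k'}` to `X` (seat 18)
-/

set_option linter.style.haveILetI false
set_option autoImplicit false

universe u
open CategoryTheory CategoryTheory.Limits AlgebraicGeometry TensorProduct

namespace Groth.Agent.Lib.Seat18.GeomRegBcDesc

/-- Regularity descends along flat local homomorphisms of local rings (no Noetherian hypothesis
on the source). -/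
theorem regular_desc (A B : Type u) [CommRing A] [CommRing B] [IsLocalRing A] [IsLocalRing B]
    (f : A →+* B) [IsLocalHom f] (hf : f.Flat) (h : IsRegularLocalRing B) :
    IsRegularLocalRing A := by
  algebraize [f]
  haveI : IsLocalHom (algebraMap A B) := by rwa [RingHom.algebraMap_toAlgebra]
  haveI : Module.FaithfullyFlat A B := Module.FaithfullyFlat.of_flat_of_isLocalHom
  haveI : IsNoetherianRing A :=
    Groth.Agent.Lib.Helper28.isNoetherianRing_of_faithfullyFlat (R := A) (S := B)
  exact Groth.Agent.Lib.Helper28.isRegularLocalRing_of_flat_of_isLocalHom A B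

theorem isGeomRegularAt_of_bc (k : Type u) [Field k] (X : Scheme.{u})
    [X.Over (Spec (CommRingCat.of k))] (k' : Type u) [Field k'] [Algebra k k']
    (x' : ↥(Curv2.bc k X k'))
    (h : @Curv2.IsGeomRegularAt k' _ (Curv2.bc k X k') ⟨Curv2.bcSnd k X k'⟩ x') :
    Curv2.IsGeomRegularAt k X (Curv2.bcFst k X k' x') := by
  intro K _ _ hK y hxy
  letI : (Curv2.bc k X k').Over (Spec (CommRingCat.of k')) := ⟨Curv2.bcSnd k X k'⟩
  obtain ⟨w, hw1, hw2⟩ := Scheme.Pullback.exists_preimage_pullback
    (f := Curv2.bcFst k X K) (g := Curv2.bcFst k X k') y x' hxy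
  let W := pullback (Curv2.bcFst k X K) (Curv2.bcFst k X k')
  haveI : Algebra.EssFiniteType k K := IntermediateField.fg_top_iff.mp hK
  let R : Type u := k' ⊗[k] K
  have hY2 : Curv2.bcFst k X k' ≫ (X ↘ Spec (CommRingCat.of k)) =
      Curv2.bcSnd k X k' ≫ Spec.map (CommRingCat.ofHom (algebraMap k k')) := pullback.condition
  have hY1 : Curv2.bcFst k X K ≫ (X ↘ Spec (CommRingCat.of k)) =
      Curv2.bcSnd k X K ≫ Spec.map (CommRingCat.ofHom (algebraMap k K)) := pullback.condition
  have hWc : pullback.fst (Curv2.bcFst k X K) (Curv2.bcFst k X k') ≫ Curv2.bcFst k X K =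
      pullback.snd (Curv2.bcFst k X K) (Curv2.bcFst k X k') ≫ Curv2.bcFst k X k' :=
    pullback.condition
  let π₀ : W ⟶ pullback (Spec.map (CommRingCat.ofHom (algebraMap k k')))
      (Spec.map (CommRingCat.ofHom (algebraMap k K))) :=
    pullback.lift (pullback.snd _ _ ≫ Curv2.bcSnd k X k') (pullback.fst _ _ ≫ Curv2.bcSnd k X K)
      (by rw [Category.assoc, Category.assoc, ← hY2, ← hY1, ← reassoc_of% hWc])
  let π : W ⟶ Spec (CommRingCat.of R) := π₀ ≫ (pullbackSpecIso k k' K).hom
  let incR : K →+* R :=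
    RingHomClass.toRingHom (Algebra.TensorProduct.includeRight (R := k) (A := k') (B := K))
  have hπ1 : π ≫ Spec.map (CommRingCat.ofHom (algebraMap k' R)) =
      pullback.snd _ _ ≫ Curv2.bcSnd k X k' := by
    simp only [π, Category.assoc]
    rw [pullbackSpecIso_hom_fst']
    exact pullback.lift_fst _ _ _
  have hπ2 : π ≫ Spec.map (CommRingCat.ofHom
      incR) =
      pullback.fst _ _ ≫ Curv2.bcSnd k X K := by
    simp only [π, Category.assoc]
    rw [pullbackSpecIso_hom_snd]
    exact pullback.lift_snd _ _ _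
  let p : Spec (CommRingCat.of R) := π w
  haveI : p.asIdeal.IsPrime := p.isPrime
  let Ω : Type u := p.asIdeal.ResidueField
  haveI : Algebra.EssFiniteType k' R := inferInstance
  haveI : Algebra.EssFiniteType k' Ω := Algebra.EssFiniteType.comp k' R Ω
  have hΩfg : (⊤ : IntermediateField k' Ω).FG := IntermediateField.fg_top k' Ω
  let s : Spec (W.residueField w) ⟶ W := W.fromSpecResidueField w
  let ρ : CommRingCat.of Ω ⟶ W.residueField w :=
    (Scheme.Spec.residueFieldIso (CommRingCat.of R) p).inv ≫ π.residueFieldMap w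
  let ιp : Spec (CommRingCat.of Ω) ⟶ Spec (CommRingCat.of R) :=
    Spec.map (CommRingCat.ofHom (algebraMap R Ω))
  have hρ : Spec.map ρ ≫ ιp = s ≫ π := by
    simp only [ρ, ιp, s, Spec.map_comp, Category.assoc]
    rw [Scheme.Spec.map_residueFieldIso_inv_eq_fromSpecResidueField]
    exact Scheme.Hom.SpecMap_residueFieldMap_fromSpecResidueField π w
  let a' : Spec (CommRingCat.of Ω) ⟶ Spec (CommRingCat.of k') :=
    Spec.map (CommRingCat.ofHom (algebraMap k' Ω))
  let φ : K →+* Ω := (algebraMap R Ω).comp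
    incR
  let a : Spec (CommRingCat.of Ω) ⟶ Spec (CommRingCat.of K) := Spec.map (CommRingCat.ofHom φ)
  have hιa' : ιp ≫ Spec.map (CommRingCat.ofHom (algebraMap k' R)) = a' := by
    simp only [ιp, a', ← Spec.map_comp]
    congr 1
  have hιa : ιp ≫ Spec.map (CommRingCat.ofHom
      incR) = a := by
    simp only [ιp, a, ← Spec.map_comp]
    rfl
  have hcomp : a' ≫ Spec.map (CommRingCat.ofHom (algebraMap k k')) =
      a ≫ Spec.map (CommRingCat.ofHom (algebraMap k K)) := by
    rw [← hιa', ← hιa, Category.assoc, Category.assoc]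
    congr 1
    rw [← pullbackSpecIso_inv_fst' k k' K, ← pullbackSpecIso_inv_snd k k' K, Category.assoc,
      Category.assoc, pullback.condition]
  -- the second base change
  let Z := Curv2.bc k' (Curv2.bc k X k') Ω
  have hσc : (s ≫ pullback.snd _ _) ≫ Curv2.bcSnd k X k' = Spec.map ρ ≫ a' := by
    rw [← hιa', ← Category.assoc (Spec.map ρ), hρ, Category.assoc, Category.assoc, hπ1]
  let σ : Spec (W.residueField w) ⟶ Z := pullback.lift (s ≫ pullback.snd _ _) (Spec.map ρ) hσc
  have hZ : Curv2.bcFst k' (Curv2.bc k X k') Ω ≫ Curv2.bcSnd k X k' =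
      Curv2.bcSnd k' (Curv2.bc k X k') Ω ≫ Spec.map (CommRingCat.ofHom (algebraMap k' Ω)) :=
    pullback.condition
  let g : Z ⟶ Curv2.bc k X K :=
    pullback.lift (Curv2.bcFst k' (Curv2.bc k X k') Ω ≫ Curv2.bcFst k X k')
      (Curv2.bcSnd k' (Curv2.bc k X k') Ω ≫ a) (by
        rw [Category.assoc, Category.assoc, ← hcomp, hY2, reassoc_of% hZ])
  have hg1 : g ≫ Curv2.bcFst k X K =
      Curv2.bcFst k' (Curv2.bc k X k') Ω ≫ Curv2.bcFst k X k' := pullback.lift_fst _ _ _
  have hg2 : g ≫ Curv2.bcSnd k X K = Curv2.bcSnd k' (Curv2.bc k X k') Ω ≫ a :=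
    pullback.lift_snd _ _ _
  have hσ1 : σ ≫ Curv2.bcFst k' (Curv2.bc k X k') Ω = s ≫ pullback.snd _ _ :=
    pullback.lift_fst _ _ _
  have hσ2 : σ ≫ Curv2.bcSnd k' (Curv2.bc k X k') Ω = Spec.map ρ := pullback.lift_snd _ _ _
  have hσg : σ ≫ g = s ≫ pullback.fst _ _ := by
    apply pullback.hom_ext
    · rw [Category.assoc, hg1, reassoc_of% hσ1, Category.assoc, hWc]
    · rw [Category.assoc, hg2, reassoc_of% hσ2, ← hιa, ← Category.assoc (Spec.map ρ), hρ]
      have h3 : (s ≫ π) ≫ Spec.map (CommRingCat.ofHom incR) =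
          s ≫ (π ≫ Spec.map (CommRingCat.ofHom incR)) := Category.assoc _ _ _
      rw [h3, hπ2]
      exact (Category.assoc _ _ _).symm
  -- `g` is flat
  have hA : IsPullback (Curv2.bcFst k' (Curv2.bc k X k') Ω) (Curv2.bcSnd k' (Curv2.bc k X k') Ω)
      (Curv2.bcSnd k X k') (Spec.map (CommRingCat.ofHom (algebraMap k' Ω))) :=
    IsPullback.of_hasPullback _ _
  have hB : IsPullback (Curv2.bcFst k X k') (Curv2.bcSnd k X k') (X ↘ Spec (CommRingCat.of k))
      (Spec.map (CommRingCat.ofHom (algebraMap k k'))) := IsPullback.of_hasPullback _ _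
  have hC : IsPullback (Curv2.bcFst k X K) (Curv2.bcSnd k X K) (X ↘ Spec (CommRingCat.of k))
      (Spec.map (CommRingCat.ofHom (algebraMap k K))) := IsPullback.of_hasPullback _ _
  have hAB := hA.paste_horiz hB
  have hbig : IsPullback (g ≫ Curv2.bcFst k X K) (Curv2.bcSnd k' (Curv2.bc k X k') Ω)
      (X ↘ Spec (CommRingCat.of k)) (a ≫ Spec.map (CommRingCat.ofHom (algebraMap k K))) := by
    rw [hg1, ← hcomp]
    exact hAB
  have hG : IsPullback g (Curv2.bcSnd k' (Curv2.bc k X k') Ω) (Curv2.bcSnd k X K) a :=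
    IsPullback.of_right hbig hg2 hC
  have hflat_a : Flat a := by
    rw [HasRingHomProperty.Spec_iff (P := @Flat)]
    algebraize [φ]
    show φ.Flat
    rw [← φ.algebraMap_toAlgebra, RingHom.flat_algebraMap_iff]
    infer_instance
  have hflat_g : Flat g := MorphismProperty.of_isPullback (P := @Flat) hG.flip hflat_a
  -- the point
  let pt : Spec (W.residueField w) := IsLocalRing.closedPoint (W.residueField w)
  have hx''1 : Curv2.bcFst k' (Curv2.bc k X k') Ω (σ pt) = x' := by
    rw [← Scheme.Hom.comp_apply, hσ1, Scheme.Hom.comp_apply, Scheme.fromSpecResidueField_apply, hw2]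
  have hx''2 : g (σ pt) = y := by
    rw [← Scheme.Hom.comp_apply, hσg, Scheme.Hom.comp_apply, Scheme.fromSpecResidueField_apply, hw1]
  have hP := h Ω hΩfg (σ pt) hx''1
  subst hx''2
  exact regular_desc _ _ (g.stalkMap (σ pt)).hom (Flat.stalkMap g (σ pt)) hP

end Groth.Agent.Lib.Seat18.GeomRegBcDesc
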