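import Mathlib
import Groth.Prelude.Def_Found
import Groth.Agent.Lib.Helper28RegDescent

/-!
# Geometric regularity descends along faithfully flat maps of `k`-algebras (seat 18)
-/

set_option linter.style.haveILetI false
set_option autoImplicit false

universe u
open TensorProduct

namespace Groth.Agent.Lib.Seat18.GeomRegDesc

/-- Base change of a faithfully flat algebra `A → B` over `k` along `k → K` (tensoring on the
right): `A ⊗[k] K → B ⊗[k] K` is faithfully flat. -/
theorem faithfullyFlat_map_right (k A B K : Type u) [CommRing k] [CommRing A] [CommRing B]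
    [CommRing K] [Algebra k A] [Algebra k B] [Algebra A B] [IsScalarTower k A B] [Algebra k K]
    [Module.FaithfullyFlat A B] :
    (Algebra.TensorProduct.map (IsScalarTower.toAlgHom k A B)
      (AlgHom.id k K)).toRingHom.FaithfullyFlat := by
  letI alg : Algebra (A ⊗[k] K) (B ⊗[k] K) :=
    (Algebra.TensorProduct.map (IsScalarTower.toAlgHom k A B) (AlgHom.id k K)).toRingHom.toAlgebra
  haveI tower : IsScalarTower A (A ⊗[k] K) (B ⊗[k] K) := by
    refine IsScalarTower.of_algebraMap_eq fun a => ?_
    change _ = Algebra.TensorProduct.map (IsScalarTower.toAlgHom k A B) (AlgHom.id k K)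
      (algebraMap A (A ⊗[k] K) a)
    rw [Algebra.TensorProduct.algebraMap_apply, Algebra.TensorProduct.algebraMap_apply]
    simp
  have hpush : Algebra.IsPushout A B (A ⊗[k] K) (B ⊗[k] K) := by
    refine Algebra.IsPushout.tensorProduct_tensorProduct k K A B ?_
    ext s
    change Algebra.TensorProduct.map (IsScalarTower.toAlgHom k A B) (AlgHom.id k K)
      ((1 : A) ⊗ₜ[k] s) = (1 : B) ⊗ₜ[k] s
    simp
  have h0 : (algebraMap A B).FaithfullyFlat :=
    RingHom.faithfullyFlat_algebraMap_iff.mpr inferInstance
  exact RingHom.FaithfullyFlat.isStableUnderBaseChange A B (A ⊗[k] K) (B ⊗[k] K) h0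

/-- Geometric regularity descends along a faithfully flat map of `k`-algebras. -/
theorem isGeometricallyRegular_of_faithfullyFlat (k A B : Type u) [Field k] [CommRing A]
    [CommRing B] [Algebra k A] [Algebra k B] [Algebra A B] [IsScalarTower k A B]
    [Module.FaithfullyFlat A B] (hB : CAlg.IsGeometricallyRegular k B) :
    CAlg.IsGeometricallyRegular k A := by
  intro k' _ _ hfin
  have hB' : IsRegularRing (k' ⊗[k] B) := hB k' hfin
  haveI hB'' : IsRegularRing (B ⊗[k] k') :=
    IsRegularRing.of_ringEquiv (Algebra.TensorProduct.comm k k' B).toRingEquiv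
  have hff := faithfullyFlat_map_right k A B k'
  letI alg : Algebra (A ⊗[k] k') (B ⊗[k] k') :=
    (Algebra.TensorProduct.map (IsScalarTower.toAlgHom k A B) (AlgHom.id k k')).toRingHom.toAlgebra
  haveI : Module.FaithfullyFlat (A ⊗[k] k') (B ⊗[k] k') := hff
  haveI : IsRegularRing (A ⊗[k] k') :=
    Groth.Agent.Lib.Helper28.isRegularRing_of_faithfullyFlat (R := A ⊗[k] k') (S := B ⊗[k] k')
  exact IsRegularRing.of_ringEquiv (Algebra.TensorProduct.comm k A k').toRingEquiv

end Groth.Agent.Lib.Seat18.GeomRegDesc
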