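import Mathlib
import Groth.Agent.S7606
import Groth.Agent.Lib.Seat18GeomRegDesc

/-!
# Geometric regularity at a point descends along a morphism flat at that point (seat 18)
-/

set_option linter.style.haveILetI false
set_option autoImplicit false

universe u
open CategoryTheory CategoryTheory.Limits AlgebraicGeometry
attribute [local instance] Curv2.stalkAlgebra
open Variety

namespace Groth.Agent.Lib.Seat18.GeomRegDescSch

/-- the stalk map of a morphism of `k`-schemes is compatible with the structure maps from `k`. -/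
theorem stalkMap_comp_stalkMap (k : Type u) [Field k] (X Y : Scheme.{u})
    [X.Over (Spec (CommRingCat.of k))] [Y.Over (Spec (CommRingCat.of k))] (f : X ⟶ Y)
    (hf : f ≫ (Y ↘ (Spec (CommRingCat.of k))) = X ↘ (Spec (CommRingCat.of k))) (x : X) :
    (f.stalkMap x).hom.comp (Curv2.stalkMap k Y (f.base x)) = Curv2.stalkMap k X x := by
  ext c
  simp only [Curv2.stalkMap, Coh.toGlobal, RingHom.comp_apply]
  rw [← hf]
  simp only [Scheme.Hom.comp_appTop, CommRingCat.hom_comp, RingHom.comp_apply]
  have := Scheme.Hom.germ_stalkMap f ⊤ x trivial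
  have h2 := congrArg (fun g => g.hom (((Y ↘ Spec (CommRingCat.of k)).appTop).hom
    ((Scheme.ΓSpecIso (CommRingCat.of k)).inv.hom c))) this
  simp only [CommRingCat.hom_comp, RingHom.comp_apply] at h2
  exact h2

theorem isGeomRegularAt_descends_flat (k : Type u) [Field k] (X Y : Scheme.{u})
    [X.Over (Spec (CommRingCat.of k))] [Y.Over (Spec (CommRingCat.of k))]
    [IsLocallyNoetherian X] [IsLocallyNoetherian Y] (f : X ⟶ Y)
    (hf : f ≫ (Y ↘ (Spec (CommRingCat.of k))) = X ↘ (Spec (CommRingCat.of k)))
    (x : X) (hflat : (f.stalkMap x).hom.Flat) (hx : Curv2.IsGeomRegularAt k X x) :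
    Curv2.IsGeomRegularAt k Y (f.base x) := by
  have h1 := Groth.Agent.S7606.result k X x
  have h2 := Groth.Agent.S7606.result k Y (f.base x)
  have hXreg : CAlg.IsGeometricallyRegular k (X.presheaf.stalk x) := h1.2.1 (h1.1.1 hx)
  refine h2.1.2 (h2.2.2 ?_)
  letI algf : Algebra (Y.presheaf.stalk (f.base x)) (X.presheaf.stalk x) :=
    (f.stalkMap x).hom.toAlgebra
  haveI : IsScalarTower k (Y.presheaf.stalk (f.base x)) (X.presheaf.stalk x) := by
    refine IsScalarTower.of_algebraMap_eq fun c => ?_
    exact (congrArg (fun g => g c) (stalkMap_comp_stalkMap k X Y f hf x)).symm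
  haveI : Module.Flat (Y.presheaf.stalk (f.base x)) (X.presheaf.stalk x) := hflat
  haveI : IsLocalHom (algebraMap (Y.presheaf.stalk (f.base x)) (X.presheaf.stalk x)) :=
    inferInstanceAs (IsLocalHom (f.stalkMap x).hom)
  haveI : Module.FaithfullyFlat (Y.presheaf.stalk (f.base x)) (X.presheaf.stalk x) :=
    Module.FaithfullyFlat.of_flat_of_isLocalHom
  exact Groth.Agent.Lib.Seat18.GeomRegDesc.isGeometricallyRegular_of_faithfullyFlat k
    (Y.presheaf.stalk (f.base x)) (X.presheaf.stalk x) hXreg

end Groth.Agent.Lib.Seat18.GeomRegDescSch
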