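import Mathlib
import Groth.Prelude.Def_FlatCA
import Groth.Agent.Lib.Helper4TensorDim
import Groth.Agent.Lib.Helper20SuppBC

/-!
# Base change of a one-step dévissage (seat 55)

* pasting and permanence lemmas for `Algebra.IsPushout` squares (`isPushout_right`,
  `surjective_of_isPushout`, `finitePresentation_of_isPushout`, `moduleFinite_of_isPushout`,
  `nonempty_equiv_of_isBaseChange`);
* `smoothRelDim_of_isPushout`, `geomIrredFibres_of_isPushout`: the scheme-theoretic conditions
  `FlatCA.SmoothRelDim`, `FlatCA.GeomIrredFibres` are stable under ring pushouts;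
* `supportDim_fiberMod`: `dim Supp (N ⊗ κ(p)) = dim κ(p) ⊗ S/J` when `Supp N = V(J)`;
* `ringKrullDim_fibre_baseChange`: invariance of the fibre dimension under base change;
* `main`: `FlatCA.IsOneStepDevissage` is stable under base change.
-/

set_option autoImplicit false
set_option linter.style.haveILetI false
set_option linter.unusedSectionVars false
universe u
open TensorProduct CategoryTheory AlgebraicGeometry

namespace Groth.Agent.Lib.Seat55.DevBC


section Pushout

variable {R R' S S' C C' : Type*} [CommRing R] [CommRing R'] [CommRing S] [CommRing S']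
  [CommRing C] [CommRing C']
  [Algebra R R'] [Algebra R S] [Algebra R' S'] [Algebra R S'] [Algebra S S']
  [IsScalarTower R R' S'] [IsScalarTower R S S']
  [Algebra S C] [Algebra R C] [IsScalarTower R S C]
  [Algebra R' C'] [Algebra R C'] [Algebra C C'] [IsScalarTower R R' C'] [IsScalarTower R C C']
  [Algebra S' C'] [IsScalarTower R' S' C'] [Algebra S C'] [IsScalarTower S S' C']
  [IsScalarTower S C C']

/-- pasting of pushout squares: if `S' = R' ⊗ S` and `C' = R' ⊗ C` then `C' = S' ⊗_S C`. -/
theorem isPushout_right [Algebra.IsPushout R R' S S'] [Algebra.IsPushout R R' C C'] :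
    Algebra.IsPushout S S' C C' := by
  haveI : IsScalarTower R S' C' := IsScalarTower.of_algebraMap_eq fun x => by
    rw [IsScalarTower.algebraMap_apply R R' C', IsScalarTower.algebraMap_apply R' S' C',
      ← IsScalarTower.algebraMap_apply R R' S']
  haveI h1 : Algebra.IsPushout R S R' S' := Algebra.IsPushout.symm inferInstance
  haveI h2 : Algebra.IsPushout R C R' C' := Algebra.IsPushout.symm inferInstance
  exact ((Algebra.IsPushout.comp_iff R S R' (S' := S') (T := C) (T' := C')).1 h2).symm

end Pushout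



section Square

variable {S S' C C' : Type*} [CommRing S] [CommRing S'] [CommRing C] [CommRing C']
  [Algebra S S'] [Algebra S C] [Algebra S' C'] [Algebra S C'] [Algebra C C']
  [IsScalarTower S S' C'] [IsScalarTower S C C'] [Algebra.IsPushout S S' C C']

theorem surjective_of_isPushout (h : Function.Surjective (algebraMap S C)) :
    Function.Surjective (algebraMap S' C') := by
  have hp : Algebra.IsPushout S C S' C' := Algebra.IsPushout.symm inferInstance
  intro x
  induction x using hp.out.inductionOn with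
  | zero => exact ⟨0, map_zero _⟩
  | tmul m =>
    exact ⟨m, rfl⟩
  | smul c x hx =>
    obtain ⟨s, rfl⟩ := h c
    obtain ⟨y, rfl⟩ := hx
    refine ⟨s • y, ?_⟩
    rw [Algebra.smul_def, map_mul, ← IsScalarTower.algebraMap_apply, algebraMap_smul,
      Algebra.smul_def]
  | add x y hx hy =>
    obtain ⟨a, rfl⟩ := hx
    obtain ⟨b, rfl⟩ := hy
    exact ⟨a + b, map_add _ _ _⟩

theorem finitePresentation_of_isPushout [Algebra.FinitePresentation S C] :
    Algebra.FinitePresentation S' C' :=
  Algebra.FinitePresentation.equiv (Algebra.IsPushout.equiv S S' C C')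

theorem moduleFinite_of_isPushout [Module.Finite S C] : Module.Finite S' C' :=
  Module.Finite.equiv (Algebra.IsPushout.equiv S S' C C').toLinearEquiv

end Square

section Mod

variable {C C' G G' : Type*} [CommRing C] [CommRing C'] [Algebra C C']
  [AddCommGroup G] [Module C G] [AddCommGroup G'] [Module C' G'] [Module C G']
  [IsScalarTower C C' G']

theorem moduleFinite_of_isBaseChange (g : G →ₗ[C] G') (hg : IsBaseChange C' g)
    [Module.Finite C G] : Module.Finite C' G' :=
  Module.Finite.equiv hg.equiv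

end Mod



section Iso

variable {S S' C C' : Type*} [CommRing S] [CommRing S'] [CommRing C] [CommRing C']
  [Algebra S S'] [Algebra S C] [Algebra S' C'] [Algebra S C'] [Algebra C C']
  [IsScalarTower S S' C'] [IsScalarTower S C C'] [Algebra.IsPushout S S' C C']
  {N G N' G' : Type*} [AddCommGroup N] [Module S N] [AddCommGroup G] [Module C G] [Module S G]
  [IsScalarTower S C G]
  [AddCommGroup N'] [Module S' N'] [Module S N'] [IsScalarTower S S' N']
  [AddCommGroup G'] [Module C' G'] [Module S' G'] [IsScalarTower S' C' G'] [Module C G']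
  [IsScalarTower C C' G']

theorem nonempty_equiv_of_isBaseChange (e : N ≃ₗ[S] G) (f : N →ₗ[S] N') (hf : IsBaseChange S' f)
    (g : G →ₗ[C] G') (hg : IsBaseChange C' g) : Nonempty (N' ≃ₗ[S'] G') := by
  let e1 : N' ≃ₗ[S'] S' ⊗[S] N := hf.equiv.symm
  let e2 : S' ⊗[S] N ≃ₗ[S'] S' ⊗[S] G :=
    TensorProduct.AlgebraTensorModule.congr (LinearEquiv.refl S' S') e
  let e3 : S' ⊗[S] G ≃ₗ[S'] C' ⊗[C] G := (Algebra.IsPushout.cancelBaseChange S S' C C' G).symm
  let e4 : C' ⊗[C] G ≃ₗ[S'] G' := hg.equiv.restrictScalars S'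
  exact ⟨e1 ≪≫ₗ e2 ≪≫ₗ e3 ≪≫ₗ e4⟩

end Iso



section Sch

variable {R R' D D' : Type u} [CommRing R] [CommRing R'] [CommRing D] [CommRing D']
  [Algebra R R'] [Algebra R D] [Algebra R' D'] [Algebra R D'] [Algebra D D']
  [IsScalarTower R R' D'] [IsScalarTower R D D'] [Algebra.IsPushout R R' D D']

theorem isPullback_Spec :
    IsPullback (Spec.map (CommRingCat.ofHom (algebraMap D D')))
      (Spec.map (CommRingCat.ofHom (algebraMap R' D')))
      (Spec.map (CommRingCat.ofHom (algebraMap R D)))
      (Spec.map (CommRingCat.ofHom (algebraMap R R'))) :=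
  (isPullback_SpecMap_of_isPushout _ _ _ _ (CommRingCat.isPushout_of_isPushout R R' D D')).flip

theorem smoothRelDim_of_isPushout (n : ℕ) (h : FlatCA.SmoothRelDim n R D) :
    FlatCA.SmoothRelDim n R' D' :=
  haveI := smoothOfRelativeDimension_isStableUnderBaseChange n
  MorphismProperty.of_isPullback (P := @SmoothOfRelativeDimension n)
    (isPullback_Spec (R := R) (R' := R') (D := D) (D' := D')) h

theorem geomIrredFibres_of_isPushout (h : FlatCA.GeomIrredFibres R D) :
    FlatCA.GeomIrredFibres R' D' :=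
  MorphismProperty.of_isPullback (P := @GeometricallyIrreducible)
    (isPullback_Spec (R := R) (R' := R') (D := D) (D' := D')) h

end Sch



section SuppDim

variable {R : Type u} [CommRing R] (p : Ideal R) [p.IsPrime] (S : Type u) [CommRing S]
  [Algebra R S] (N : Type u) [AddCommGroup N] [Module S N] [Module R N] [IsScalarTower R S N]
  [Module.Finite S N]

attribute [local instance] Algebra.TensorProduct.rightAlgebra

theorem support_fiberMod (J : Ideal S) (hJ : Module.support S N = PrimeSpectrum.zeroLocus J) :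
    Module.support (p.Fiber S) (FlatCA.fiberMod p S N) =
      PrimeSpectrum.zeroLocus
        (J.map (Algebra.TensorProduct.includeRight (R := R) (A := p.ResidueField) (B := S))) := by
  ext q
  change q ∈ Module.support (p.Fiber S) ((p.Fiber S) ⊗[S] N) ↔ _
  rw [Groth.Agent.Lib.Helper20.SuppBC.mem_support_baseChange_iff, hJ]
  rw [PrimeSpectrum.mem_zeroLocus, PrimeSpectrum.mem_zeroLocus, SetLike.coe_subset_coe,
    SetLike.coe_subset_coe, Ideal.map_le_iff_le_comap]
  rfl

theorem supportDim_fiberMod (J : Ideal S) (hJ : Module.support S N = PrimeSpectrum.zeroLocus J) :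
    Module.supportDim (p.Fiber S) (FlatCA.fiberMod p S N) =
      ringKrullDim (p.ResidueField ⊗[R] (S ⧸ J)) := by
  rw [Module.supportDim, support_fiberMod p S N J hJ, ← ringKrullDim_quotient]
  exact (RingEquiv.ringKrullDim
    (Algebra.TensorProduct.tensorQuotientEquiv (R := R) R S p.ResidueField J).toRingEquiv).symm

end SuppDim



section DimBC

variable {R R' S S' : Type u} [CommRing R] [CommRing R'] [CommRing S] [CommRing S']
  [Algebra R R'] [Algebra R S] [Algebra R' S'] [Algebra R S'] [Algebra S S']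
  [IsScalarTower R R' S'] [IsScalarTower R S S'] [Algebra.IsPushout R R' S S']
  [Algebra.FiniteType R S]
  (k k' : Type u) [Field k] [Field k'] [Algebra R k] [Algebra R' k'] [Algebra R k'] [Algebra k k']
  [IsScalarTower R R' k'] [IsScalarTower R k k']

/-- the ring isomorphism `k' ⊗[R'] (S'/JS') ≃ k' ⊗[k] (k ⊗[R] S/J)`. -/
noncomputable def fibreQuotEquiv (J : Ideal S) :
    k' ⊗[R'] (S' ⧸ J.map (algebraMap S S')) ≃+* k' ⊗[k] (k ⊗[R] (S ⧸ J)) :=
  let e1 : (S' ⧸ J.map (algebraMap S S')) ≃ₐ[R'] S' ⊗[S] (S ⧸ J) :=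
    (Algebra.TensorProduct.quotIdealMapEquivTensorQuot S' J).restrictScalars R'
  let e2 : S' ⊗[S] (S ⧸ J) ≃ₐ[R'] R' ⊗[R] (S ⧸ J) :=
    Algebra.IsPushout.cancelBaseChangeAlg R R' S S' (S ⧸ J)
  let e3 : k' ⊗[R'] (S' ⧸ J.map (algebraMap S S')) ≃ₐ[R'] k' ⊗[R'] (R' ⊗[R] (S ⧸ J)) :=
    Algebra.TensorProduct.congr AlgEquiv.refl (e1.trans e2)
  let e4 : k' ⊗[R'] (R' ⊗[R] (S ⧸ J)) ≃ₐ[R'] k' ⊗[R] (S ⧸ J) :=
    Algebra.TensorProduct.cancelBaseChange R R' R' k' (S ⧸ J)
  let e5 : k' ⊗[k] (k ⊗[R] (S ⧸ J)) ≃ₐ[k] k' ⊗[R] (S ⧸ J) :=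
    Algebra.TensorProduct.cancelBaseChange R k k k' (S ⧸ J)
  (e3.trans e4).toRingEquiv.trans e5.toRingEquiv.symm

theorem ringKrullDim_fibre_baseChange (J : Ideal S) :
    ringKrullDim (k' ⊗[R'] (S' ⧸ J.map (algebraMap S S'))) = ringKrullDim (k ⊗[R] (S ⧸ J)) := by
  rw [ringKrullDim_eq_of_ringEquiv (S := k' ⊗[k] (k ⊗[R] (S ⧸ J)))
      (fibreQuotEquiv (R := R) (R' := R') (S := S) (S' := S') k k' J),
    ringKrullDim_eq_of_ringEquiv (S := (k ⊗[R] (S ⧸ J)) ⊗[k] k')
      (Algebra.TensorProduct.comm k k' (k ⊗[R] (S ⧸ J))).toRingEquiv]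
  haveI : Algebra.FiniteType R (S ⧸ J) :=
    Algebra.FiniteType.of_surjective (Ideal.Quotient.mkₐ R J) (Ideal.Quotient.mkₐ_surjective R J)
  rw [Groth.Agent.Lib.Helper4.TensorDim.ringKrullDim_tensor_eq_add k (k ⊗[R] (S ⧸ J)) k',
    ringKrullDim_eq_zero_of_field, add_zero]

end DimBC


section Main

attribute [local instance] Algebra.TensorProduct.rightAlgebra

theorem support_of_isBaseChange {S S' N N' : Type u} [CommRing S] [CommRing S'] [Algebra S S']
    [AddCommGroup N] [Module S N] [Module.Finite S N] [AddCommGroup N'] [Module S' N'] [Module S N']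
    [IsScalarTower S S' N'] (f : N →ₗ[S] N') (hf : IsBaseChange S' f) (J : Ideal S)
    (hJ : Module.support S N = PrimeSpectrum.zeroLocus J) :
    Module.support S' N' = PrimeSpectrum.zeroLocus (J.map (algebraMap S S')) := by
  rw [← hf.equiv.support_eq]
  ext q
  rw [Groth.Agent.Lib.Helper20.SuppBC.mem_support_baseChange_iff, hJ]
  rw [PrimeSpectrum.mem_zeroLocus, PrimeSpectrum.mem_zeroLocus, SetLike.coe_subset_coe,
    SetLike.coe_subset_coe, Ideal.map_le_iff_le_comap]
  rfl

theorem supportDim_fiberMod_baseChange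
    (R S : Type u) [CommRing R] [CommRing S] [Algebra R S] [Algebra.FiniteType R S]
    (N : Type u) [AddCommGroup N] [Module S N] [Module R N] [IsScalarTower R S N] [Module.Finite S N]
    (p : Ideal R) [p.IsPrime]
    (R' : Type u) [CommRing R'] [Algebra R R'] (p' : Ideal R') [p'.IsPrime] [hp' : p'.LiesOver p]
    (S' : Type u) [CommRing S']
    [Algebra R' S'] [Algebra R S'] [Algebra S S'] [IsScalarTower R R' S'] [IsScalarTower R S S']
    [Algebra.IsPushout R R' S S']
    (N' : Type u) [AddCommGroup N'] [Module S' N'] [Module R' N'] [IsScalarTower R' S' N']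
    [Module S N'] [IsScalarTower S S' N'] (f : N →ₗ[S] N') (hf : IsBaseChange S' f) :
    Module.supportDim (p'.Fiber S') (FlatCA.fiberMod p' S' N') =
      Module.supportDim (p.Fiber S) (FlatCA.fiberMod p S N) := by
  have hJ : Module.support S N = PrimeSpectrum.zeroLocus (Module.annihilator S N) :=
    Module.support_eq_zeroLocus
  have hJ' := support_of_isBaseChange f hf _ hJ
  haveI : Module.Finite S' N' := Module.Finite.equiv hf.equiv
  letI : Algebra p.ResidueField p'.ResidueField :=
    (Ideal.ResidueField.mapₐ p p' (Algebra.ofId R R') hp'.over).toRingHom.toAlgebra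
  haveI : IsScalarTower R p.ResidueField p'.ResidueField :=
    IsScalarTower.of_algebraMap_eq fun r =>
      ((Ideal.ResidueField.mapₐ p p' (Algebra.ofId R R') hp'.over).commutes r).symm
  rw [supportDim_fiberMod p' S' N' _ hJ', supportDim_fiberMod p S N _ hJ]
  exact ringKrullDim_fibre_baseChange (R := R) (R' := R') (S := S) (S' := S')
    p.ResidueField p'.ResidueField (Module.annihilator S N)

theorem main
    (R S : Type u) [CommRing R] [CommRing S] [Algebra R S] [Algebra.FiniteType R S]
    (N : Type u) [AddCommGroup N] [Module S N] [Module R N] [IsScalarTower R S N] [Module.Finite S N]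
    (p : Ideal R) [p.IsPrime]
    (C D G : Type u) [CommRing C] [CommRing D] [Algebra S C] [Algebra R C] [IsScalarTower R S C]
    [Algebra R D] [Algebra D C] [IsScalarTower R D C] [AddCommGroup G] [Module C G] [Module S G]
    [IsScalarTower S C G] (n : ℕ)
    (h : FlatCA.IsOneStepDevissage R S N p C D G n)
    (R' : Type u) [CommRing R'] [Algebra R R'] (p' : Ideal R') [p'.IsPrime] [p'.LiesOver p]
    (S' C' D' : Type u) [CommRing S'] [CommRing C'] [CommRing D']
    [Algebra R' S'] [Algebra R S'] [Algebra S S'] [IsScalarTower R R' S'] [IsScalarTower R S S']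
    [Algebra.IsPushout R R' S S']
    [Algebra R' C'] [Algebra R C'] [Algebra C C'] [IsScalarTower R R' C'] [IsScalarTower R C C']
    [Algebra.IsPushout R R' C C']
    [Algebra R' D'] [Algebra R D'] [Algebra D D'] [IsScalarTower R R' D'] [IsScalarTower R D D']
    [Algebra.IsPushout R R' D D']
    [Algebra S' C'] [IsScalarTower R' S' C'] [Algebra S C'] [IsScalarTower S S' C'] [IsScalarTower S C C']
    [Algebra D' C'] [IsScalarTower R' D' C'] [Algebra D C'] [IsScalarTower D D' C'] [IsScalarTower D C C']
    (N' : Type u) [AddCommGroup N'] [Module S' N'] [Module R' N'] [IsScalarTower R' S' N']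
    [Module S N'] [IsScalarTower S S' N'] (f : N →ₗ[S] N') (hf : IsBaseChange S' f)
    (G' : Type u) [AddCommGroup G'] [Module C' G'] [Module S' G'] [IsScalarTower S' C' G']
    [Module C G'] [IsScalarTower C C' G'] (g : G →ₗ[C] G') (hg : IsBaseChange C' g) :
    FlatCA.IsOneStepDevissage R' S' N' p' C' D' G' n := by
  obtain ⟨⟨e⟩, hsurj, hfp, hfinDC, hfinCG, hsm, hirr, hdim⟩ := h
  haveI hSC : Algebra.IsPushout S S' C C' := isPushout_right (R := R) (R' := R')
  haveI hDC : Algebra.IsPushout D D' C C' :=
    isPushout_right (R := R) (R' := R') (S := D) (S' := D')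
  refine ⟨nonempty_equiv_of_isBaseChange e f hf g hg,
    surjective_of_isPushout (S := S) (C := C) hsurj,
    finitePresentation_of_isPushout (S := S) (C := C),
    moduleFinite_of_isPushout (S := D) (C := C),
    moduleFinite_of_isBaseChange g hg,
    smoothRelDim_of_isPushout n hsm, geomIrredFibres_of_isPushout hirr, ?_⟩
  rw [supportDim_fiberMod_baseChange R S N p R' p' S' N' f hf]
  exact hdim

end Main

end Groth.Agent.Lib.Seat55.DevBC
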