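import Mathlib
import Groth.Prelude.Def_FlatCA
import Groth.Agent.Lib.Seat55DevBC

/-!
# Base change of a one-step dévissage at a point, trivial residue field extension (seat 55)

For `R → R'` with primes `p' / p` such that `κ(p) → κ(p')` is bijective, and a pushout `S' = R' ⊗ S`:
* `exists_mul_sub_mem`, `exists_mul_sub_mem_map`: every element of `R'` (resp. `S'`) is, up to a
  unit of `κ(p)` and modulo `p'`, in the image of `R` (resp. `S`);
* `le_of_comap_le`, `eq_of_comap_eq`: a prime of `S'` over `p'` is determined by its contraction to `S`;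
* `fiberPt`, `comap_fiberPt`, `fiberIdeal_eq`: `FlatCA.fiberIdeal p q` is the prime of the fibre ring
  attached to `q`;
* `fiberEquiv`: `κ(p) ⊗ S ≃+* κ(p') ⊗ S'`;
* `localDim_eq_of_homeomorph`, `localDim_fiber_baseChange`;
* `residueField_map_bijective`, `isTranscendenceBasis_transport`, `adjoin_transport`,
  `purelyTranscendental_baseChange`;
* `main`: S12239.
-/

set_option autoImplicit false
set_option linter.style.haveILetI false
set_option linter.unusedSectionVars false
universe u
open TensorProduct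

namespace Groth.Agent.Lib.Seat55.DevAtBC

open Groth.Agent.Lib.Seat55.DevBC


section K0

variable {R : Type u} [CommRing R] (p : Ideal R) [p.IsPrime]

theorem exists_mul_eq (ζ : p.ResidueField) :
    ∃ a b : R, b ∉ p ∧ algebraMap R p.ResidueField b * ζ = algebraMap R p.ResidueField a := by
  obtain ⟨t, rfl⟩ := IsLocalRing.residue_surjective ζ
  obtain ⟨⟨a, b⟩, rfl⟩ := IsLocalization.mk'_surjective p.primeCompl t
  refine ⟨a, b, b.2, ?_⟩
  rw [IsScalarTower.algebraMap_apply R (Localization.AtPrime p) p.ResidueField,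
    IsScalarTower.algebraMap_apply R (Localization.AtPrime p) p.ResidueField,
    IsLocalRing.ResidueField.algebraMap_eq, ← map_mul]
  congr 1
  rw [mul_comm]
  exact IsLocalization.mk'_spec _ a b

variable {R' : Type u} [CommRing R'] [Algebra R R'] (p' : Ideal R') [p'.IsPrime]
  [hp' : p'.LiesOver p]

theorem exists_mul_sub_mem
    (hκ : Function.Surjective (Ideal.ResidueField.mapₐ p p' (Algebra.ofId R R') hp'.over))
    (r' : R') : ∃ a b : R, b ∉ p ∧ algebraMap R R' b * r' - algebraMap R R' a ∈ p' := by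
  obtain ⟨ζ, hζ⟩ := hκ (algebraMap R' p'.ResidueField r')
  obtain ⟨a, b, hb, hab⟩ := exists_mul_eq p ζ
  refine ⟨a, b, hb, ?_⟩
  rw [← Ideal.algebraMap_residueField_eq_zero, map_sub, map_mul, sub_eq_zero, ← hζ]
  have h1 : ∀ r : R, algebraMap R' p'.ResidueField (algebraMap R R' r) =
      Ideal.ResidueField.mapₐ p p' (Algebra.ofId R R') hp'.over (algebraMap R p.ResidueField r) := by
    intro r
    rw [AlgHom.commutes, ← IsScalarTower.algebraMap_apply]
  rw [h1, h1, ← map_mul, hab]

end K0



section K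

variable {R R' S S' : Type u} [CommRing R] [CommRing R'] [CommRing S] [CommRing S']
  [Algebra R R'] [Algebra R S] [Algebra R' S'] [Algebra R S'] [Algebra S S']
  [IsScalarTower R R' S'] [IsScalarTower R S S'] [Algebra.IsPushout R R' S S']
  (p : Ideal R) [p.IsPrime] (p' : Ideal R') [p'.IsPrime] [hp' : p'.LiesOver p]

theorem exists_mul_sub_mem_map
    (hκ : Function.Surjective (Ideal.ResidueField.mapₐ p p' (Algebra.ofId R R') hp'.over))
    (x : S') : ∃ (b : R) (s : S), b ∉ p ∧
      algebraMap R S' b * x - algebraMap S S' s ∈ p'.map (algebraMap R' S') := by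
  have hpo : Algebra.IsPushout R R' S S' := inferInstance
  induction x using hpo.out.inductionOn with
  | zero => exact ⟨1, 0, (Ideal.ne_top_iff_one p).1 (Ideal.IsPrime.ne_top'), by simp⟩
  | tmul s =>
    refine ⟨1, s, (Ideal.ne_top_iff_one p).1 (Ideal.IsPrime.ne_top'), ?_⟩
    have : (IsScalarTower.toAlgHom R S S').toLinearMap s = algebraMap S S' s := rfl
    rw [this, map_one, one_mul, sub_self]
    exact Ideal.zero_mem _
  | smul r' x hx =>
    obtain ⟨b, s, hb, h⟩ := hx
    obtain ⟨a, c, hc, hac⟩ := exists_mul_sub_mem p p' hκ r'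
    refine ⟨c * b, a • s, fun hcb => (Ideal.IsPrime.mem_or_mem ‹p.IsPrime› hcb).elim hc hb, ?_⟩
    have e : algebraMap R S' (c * b) * (r' • x) - algebraMap S S' (a • s) =
        algebraMap R' S' (algebraMap R R' c * r' - algebraMap R R' a) * (algebraMap R S' b * x) +
          algebraMap R S' a * (algebraMap R S' b * x - algebraMap S S' s) := by
      rw [Algebra.smul_def r' x, Algebra.smul_def a s, map_mul, map_sub, map_mul, map_mul,
        ← IsScalarTower.algebraMap_apply R R' S', ← IsScalarTower.algebraMap_apply R R' S',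
        ← IsScalarTower.algebraMap_apply R S S']
      ring
    rw [e]
    exact Ideal.add_mem _ (Ideal.mul_mem_right _ _ (Ideal.mem_map_of_mem _ hac))
      (Ideal.mul_mem_left _ _ h)
  | add x y hx hy =>
    obtain ⟨b₁, s₁, hb₁, h₁⟩ := hx
    obtain ⟨b₂, s₂, hb₂, h₂⟩ := hy
    refine ⟨b₁ * b₂, b₂ • s₁ + b₁ • s₂,
      fun hcb => (Ideal.IsPrime.mem_or_mem ‹p.IsPrime› hcb).elim hb₁ hb₂, ?_⟩
    have e : algebraMap R S' (b₁ * b₂) * (x + y) - algebraMap S S' (b₂ • s₁ + b₁ • s₂) =
        algebraMap R S' b₂ * (algebraMap R S' b₁ * x - algebraMap S S' s₁) +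
          algebraMap R S' b₁ * (algebraMap R S' b₂ * y - algebraMap S S' s₂) := by
      rw [map_add, Algebra.smul_def b₂ s₁, Algebra.smul_def b₁ s₂, map_mul, map_mul, map_mul,
        ← IsScalarTower.algebraMap_apply R S S', ← IsScalarTower.algebraMap_apply R S S']
      ring
    rw [e]
    exact Ideal.add_mem _ (Ideal.mul_mem_left _ _ h₁) (Ideal.mul_mem_left _ _ h₂)

theorem le_of_comap_le
    (hκ : Function.Surjective (Ideal.ResidueField.mapₐ p p' (Algebra.ofId R R') hp'.over))
    (Q₁ Q₂ : Ideal S') [Q₂.IsPrime] (h₁ : p'.map (algebraMap R' S') ≤ Q₁)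
    (h₂ : Q₂.comap (algebraMap R' S') = p')
    (h : Q₁.comap (algebraMap S S') ≤ Q₂.comap (algebraMap S S')) : Q₁ ≤ Q₂ := by
  intro x hx
  obtain ⟨b, s, hb, hbs⟩ := exists_mul_sub_mem_map (S := S) p p' hκ x
  have hs1 : algebraMap S S' s ∈ Q₁ := by
    have := Ideal.sub_mem _ (Ideal.mul_mem_left Q₁ (algebraMap R S' b) hx) (h₁ hbs)
    rwa [sub_sub_cancel] at this
  have hs2 : algebraMap S S' s ∈ Q₂ := h hs1
  have h₂' : p'.map (algebraMap R' S') ≤ Q₂ := by
    rw [Ideal.map_le_iff_le_comap, h₂]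
  have hbx : algebraMap R S' b * x ∈ Q₂ := by
    have := Ideal.add_mem _ (h₂' hbs) hs2
    rwa [sub_add_cancel] at this
  rcases Ideal.IsPrime.mem_or_mem ‹Q₂.IsPrime› hbx with hb' | hx'
  · exfalso
    apply hb
    rw [IsScalarTower.algebraMap_apply R R' S'] at hb'
    have : algebraMap R R' b ∈ p' := by rw [← h₂]; exact hb'
    rw [hp'.over]
    exact this
  · exact hx'

theorem eq_of_comap_eq
    (hκ : Function.Surjective (Ideal.ResidueField.mapₐ p p' (Algebra.ofId R R') hp'.over))
    (Q₁ Q₂ : Ideal S') [Q₁.IsPrime] [Q₂.IsPrime]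
    (h₁ : Q₁.comap (algebraMap R' S') = p') (h₂ : Q₂.comap (algebraMap R' S') = p')
    (h : Q₁.comap (algebraMap S S') = Q₂.comap (algebraMap S S')) : Q₁ = Q₂ := by
  have h₁' : p'.map (algebraMap R' S') ≤ Q₁ := by rw [Ideal.map_le_iff_le_comap, h₁]
  have h₂' : p'.map (algebraMap R' S') ≤ Q₂ := by rw [Ideal.map_le_iff_le_comap, h₂]
  exact le_antisymm (le_of_comap_le p p' hκ Q₁ Q₂ h₁' h₂ h.le)
    (le_of_comap_le p p' hκ Q₂ Q₁ h₂' h₁ h.ge)

end K



section F

variable {R S : Type u} [CommRing R] [CommRing S] [Algebra R S] (p : Ideal R) [p.IsPrime]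
  (q : Ideal S) [q.IsPrime] [hq : q.LiesOver p]

/-- the point of the fibre ring attached to a prime of `S` over `p`. -/
noncomputable def fiberPt : PrimeSpectrum (p.Fiber S) :=
  PrimeSpectrum.preimageEquivFiber R S ⟨p, inferInstance⟩
    ⟨⟨q, inferInstance⟩, PrimeSpectrum.ext hq.over.symm⟩

theorem comap_fiberPt :
    (fiberPt p q).asIdeal.comap
      (Algebra.TensorProduct.includeRight (R := R) (A := p.ResidueField) (B := S)).toRingHom = q := by
  have h := (PrimeSpectrum.preimageEquivFiber R S ⟨p, inferInstance⟩).left_inv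
    ⟨⟨q, inferInstance⟩, PrimeSpectrum.ext hq.over.symm⟩
  have h2 := congrArg (fun z => z.1.asIdeal) h
  exact h2

theorem fiberIdeal_eq : FlatCA.fiberIdeal p q = (fiberPt p q).asIdeal := by
  apply le_antisymm
  · unfold FlatCA.fiberIdeal
    rw [Ideal.map_le_iff_le_comap]
    exact (comap_fiberPt p q).ge
  · intro x hx
    obtain ⟨r, hr, s, e⟩ := Ideal.Fiber.exists_smul_eq_one_tmul p x
    have hs : s ∈ q := by
      rw [← comap_fiberPt p q, Ideal.mem_comap]
      have : (1 : p.ResidueField) ⊗ₜ[R] s ∈ (fiberPt p q).asIdeal := by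
        rw [← e]
        exact Submodule.smul_of_tower_mem _ r hx
      exact this
    have h1 : (1 : p.ResidueField) ⊗ₜ[R] s ∈ FlatCA.fiberIdeal p q :=
      Ideal.mem_map_of_mem _ hs
    have hu : IsUnit (algebraMap R p.ResidueField r) := by
      rw [isUnit_iff_ne_zero, Ne, Ideal.algebraMap_residueField_eq_zero]
      exact hr
    obtain ⟨u, hu⟩ := hu
    have h2 : x = (↑u⁻¹ : p.ResidueField) • (r • x) := by
      rw [← algebraMap_smul p.ResidueField r x, smul_smul, ← hu, Units.inv_mul, one_smul]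
    rw [h2, e]
    exact Submodule.smul_of_tower_mem _ _ h1

end F



section Phi

variable {R R' S S' : Type u} [CommRing R] [CommRing R'] [CommRing S] [CommRing S']
  [Algebra R R'] [Algebra R S] [Algebra R' S'] [Algebra R S'] [Algebra S S']
  [IsScalarTower R R' S'] [IsScalarTower R S S'] [Algebra.IsPushout R R' S S']
  (p : Ideal R) [p.IsPrime] (p' : Ideal R') [p'.IsPrime] [hp' : p'.LiesOver p]

/-- the isomorphism of fibre rings when the residue field extension is trivial. -/
noncomputable def fiberEquiv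
    (hκ : Function.Bijective (Ideal.ResidueField.mapₐ p p' (Algebra.ofId R R') hp'.over)) :
    p.Fiber S ≃+* p'.Fiber S' :=
  let σ : p.ResidueField ≃ₐ[R] p'.ResidueField :=
    AlgEquiv.ofBijective (Ideal.ResidueField.mapₐ p p' (Algebra.ofId R R') hp'.over) hκ
  let Φ1 : p.ResidueField ⊗[R] S ≃ₐ[R] p'.ResidueField ⊗[R] S :=
    Algebra.TensorProduct.congr σ AlgEquiv.refl
  let Φ2 : p'.ResidueField ⊗[R'] (R' ⊗[R] S) ≃ₐ[R'] p'.ResidueField ⊗[R] S :=
    Algebra.TensorProduct.cancelBaseChange R R' R' p'.ResidueField S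
  let Φ3 : p'.ResidueField ⊗[R'] (R' ⊗[R] S) ≃ₐ[R'] p'.ResidueField ⊗[R'] S' :=
    Algebra.TensorProduct.congr AlgEquiv.refl (Algebra.IsPushout.equiv R R' S S')
  Φ1.toRingEquiv.trans (Φ2.symm.toRingEquiv.trans Φ3.toRingEquiv)

theorem fiberEquiv_tmul
    (hκ : Function.Bijective (Ideal.ResidueField.mapₐ p p' (Algebra.ofId R R') hp'.over))
    (c : p.ResidueField) (s : S) :
    fiberEquiv (S := S) (S' := S') p p' hκ (c ⊗ₜ[R] s) =
      (Ideal.ResidueField.mapₐ p p' (Algebra.ofId R R') hp'.over c) ⊗ₜ[R'] (algebraMap S S' s) := by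
  simp [fiberEquiv, Algebra.IsPushout.equiv_tmul]

end Phi



section LD

variable {X Y : Type*} [TopologicalSpace X] [TopologicalSpace Y]

theorem localDim_le_of_homeomorph (e : X ≃ₜ Y) (x : X) :
    FlatMor.localDim X x ≤ FlatMor.localDim Y (e x) := by
  unfold FlatMor.localDim
  refine le_iInf fun V => ?_
  let U : {U : TopologicalSpace.Opens X // x ∈ U} :=
    ⟨⟨e ⁻¹' (V.1 : Set Y), V.1.2.preimage e.continuous⟩, V.2⟩
  refine (iInf_le _ U).trans ?_
  let e' : (U.1 : Set X) ≃ₜ (V.1 : Set Y) := e.subtype (fun _ => Iff.rfl)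
  exact (IsHomeomorph.topologicalKrullDim_eq _ e'.isHomeomorph).le

theorem localDim_eq_of_homeomorph (e : X ≃ₜ Y) (x : X) :
    FlatMor.localDim X x = FlatMor.localDim Y (e x) := by
  apply le_antisymm (localDim_le_of_homeomorph e x)
  have := localDim_le_of_homeomorph e.symm (e x)
  rwa [e.symm_apply_apply] at this

end LD




section L3

attribute [local instance] Algebra.TensorProduct.rightAlgebra

variable {R : Type u} [CommRing R] {p : Ideal R} [p.IsPrime] {S : Type u} [CommRing S] [Algebra R S]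

theorem fiber_ext (Q₁ Q₂ : PrimeSpectrum (p.Fiber S))
    (h : Q₁.asIdeal.comap (Algebra.TensorProduct.includeRight (R := R) (A := p.ResidueField)
      (B := S)).toRingHom = Q₂.asIdeal.comap (Algebra.TensorProduct.includeRight (R := R)
      (A := p.ResidueField) (B := S)).toRingHom) : Q₁ = Q₂ := by
  apply (PrimeSpectrum.preimageEquivFiber R S ⟨p, inferInstance⟩).symm.injective
  apply Subtype.ext
  apply PrimeSpectrum.ext
  exact h

end L3

section L3'

attribute [local instance] Algebra.TensorProduct.rightAlgebra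

theorem localDim_fiber_baseChange
    (R S : Type u) [CommRing R] [CommRing S] [Algebra R S]
    (N : Type u) [AddCommGroup N] [Module S N] [Module R N] [IsScalarTower R S N] [Module.Finite S N]
    (p : Ideal R) [p.IsPrime] (q : Ideal S) [q.IsPrime] [q.LiesOver p] (n : ℕ)
    (h1 : ∃ (ξ : PrimeSpectrum (p.Fiber S)) (hξ : ξ ∈ Module.support (p.Fiber S) (FlatCA.fiberMod p S N)),
      ξ.asIdeal = FlatCA.fiberIdeal p q ∧
      FlatMor.localDim (Module.support (p.Fiber S) (FlatCA.fiberMod p S N)) ⟨ξ, hξ⟩ = n)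
    (R' : Type u) [CommRing R'] [Algebra R R'] (p' : Ideal R') [p'.IsPrime] [hp' : p'.LiesOver p]
    (hκ : Function.Bijective (Ideal.ResidueField.mapₐ p p' (Algebra.ofId R R') hp'.over))
    (S' : Type u) [CommRing S']
    [Algebra R' S'] [Algebra R S'] [Algebra S S'] [IsScalarTower R R' S'] [IsScalarTower R S S']
    [Algebra.IsPushout R R' S S']
    (N' : Type u) [AddCommGroup N'] [Module S' N'] [Module R' N'] [IsScalarTower R' S' N']
    [Module S N'] [IsScalarTower S S' N'] (f : N →ₗ[S] N') (hf : IsBaseChange S' f)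
    (q' : Ideal S') [q'.IsPrime] [hq'q : q'.LiesOver q] [q'.LiesOver p'] :
    ∃ (ξ' : PrimeSpectrum (p'.Fiber S')) (hξ' : ξ' ∈ Module.support (p'.Fiber S') (FlatCA.fiberMod p' S' N')),
      ξ'.asIdeal = FlatCA.fiberIdeal p' q' ∧
      FlatMor.localDim (Module.support (p'.Fiber S') (FlatCA.fiberMod p' S' N')) ⟨ξ', hξ'⟩ = n := by
  obtain ⟨ξ, hξ, hξq, hdim⟩ := h1
  have hJ : Module.support S N = PrimeSpectrum.zeroLocus (Module.annihilator S N) :=
    Module.support_eq_zeroLocus
  have hJ' := support_of_isBaseChange f hf _ hJ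
  haveI : Module.Finite S' N' := Module.Finite.equiv hf.equiv
  have hS := support_fiberMod p S N _ hJ
  have hS' := support_fiberMod p' S' N' _ hJ'
  set Φ := fiberEquiv (S := S) (S' := S') p p' hκ with hΦ
  have hΦincl : ∀ s : S, Φ ((1 : p.ResidueField) ⊗ₜ[R] s) =
      (1 : p'.ResidueField) ⊗ₜ[R'] (algebraMap S S' s) := by
    intro s
    rw [hΦ, fiberEquiv_tmul, map_one]
  -- contraction compatibility
  have hcomap : ∀ x' : PrimeSpectrum (p'.Fiber S'),
      ((PrimeSpectrum.comap (Φ : p.Fiber S →+* p'.Fiber S')) x').asIdeal.comap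
        (Algebra.TensorProduct.includeRight (R := R) (A := p.ResidueField) (B := S)).toRingHom =
      (x'.asIdeal.comap (Algebra.TensorProduct.includeRight (R := R') (A := p'.ResidueField)
        (B := S')).toRingHom).comap (algebraMap S S') := by
    intro x'
    ext s
    simp only [Ideal.mem_comap, PrimeSpectrum.comap_asIdeal]
    change Φ ((1 : p.ResidueField) ⊗ₜ[R] s) ∈ x'.asIdeal ↔ _
    rw [hΦincl]
    rfl
  have hξeq : ξ = fiberPt p q := PrimeSpectrum.ext (hξq.trans (fiberIdeal_eq p q))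
  let ξ' : PrimeSpectrum (p'.Fiber S') := fiberPt p' q'
  have hξ'ξ : PrimeSpectrum.comap (Φ : p.Fiber S →+* p'.Fiber S') ξ' = ξ := by
    apply fiber_ext
    rw [hcomap, comap_fiberPt, hξeq, comap_fiberPt]
    exact hq'q.over.symm
  have hiff : ∀ x' : PrimeSpectrum (p'.Fiber S'),
      x' ∈ Module.support (p'.Fiber S') (FlatCA.fiberMod p' S' N') ↔
      PrimeSpectrum.comap (Φ : p.Fiber S →+* p'.Fiber S') x' ∈
        Module.support (p.Fiber S) (FlatCA.fiberMod p S N) := by
    intro x'
    rw [hS, hS', PrimeSpectrum.mem_zeroLocus, PrimeSpectrum.mem_zeroLocus, SetLike.coe_subset_coe,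
      SetLike.coe_subset_coe, Ideal.map_le_iff_le_comap, Ideal.map_le_iff_le_comap,
      Ideal.map_le_iff_le_comap]
    rw [show Ideal.comap (Algebra.TensorProduct.includeRight (R := R) (A := p.ResidueField) (B := S))
      ((PrimeSpectrum.comap (Φ : p.Fiber S →+* p'.Fiber S')) x').asIdeal = _ from hcomap x']
    rfl
  have hξ' : ξ' ∈ Module.support (p'.Fiber S') (FlatCA.fiberMod p' S' N') := by
    rw [hiff, hξ'ξ]; exact hξ
  refine ⟨ξ', hξ', (fiberIdeal_eq p' q').symm, ?_⟩
  let e : Module.support (p'.Fiber S') (FlatCA.fiberMod p' S' N') ≃ₜ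
      Module.support (p.Fiber S) (FlatCA.fiberMod p S N) :=
    (PrimeSpectrum.homeomorphOfRingEquiv Φ).symm.subtype hiff
  rw [localDim_eq_of_homeomorph e ⟨ξ', hξ'⟩, ← hdim]
  congr 1
  exact Subtype.ext hξ'ξ

end L3'



section T

variable {K K' L L' : Type*} [Field K] [Field K'] [Field L] [Field L'] [Algebra K L] [Algebra K' L']
  (σ : K →+* K') (ψ : L →+* L')
  (h : (algebraMap K' L').comp σ = ψ.comp (algebraMap K L))
  {ι : Type*} (x : ι → L)

include h in
theorem isTranscendenceBasis_transport (hσ : Function.Surjective σ) (hψ : Function.Bijective ψ)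
    (hx : IsTranscendenceBasis K x) : IsTranscendenceBasis K' (ψ ∘ x) := by
  refine ⟨hx.1.ringHom_of_comp_eq σ ψ hσ hψ.1 h, fun s' hs' hsub => ?_⟩
  let s : Set L := ψ ⁻¹' s'
  have hs : AlgebraicIndepOn K id s := by
    have h1 : AlgebraicIndependent K' (ψ ∘ (fun a : s => (a : L))) := by
      have : (ψ ∘ (fun a : s => (a : L))) =
          (fun b : s' => (b : L')) ∘ (fun a : s => (⟨ψ a, a.2⟩ : s')) := rfl
      rw [this]
      refine AlgebraicIndependent.comp hs' _ ?_
      intro a b hab
      apply Subtype.ext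
      apply hψ.1
      exact congrArg Subtype.val hab
    exact h1.of_ringHom_of_comp_eq σ ψ σ.injective h
  have hsub' : Set.range x ⊆ s := by
    rintro _ ⟨i, rfl⟩
    exact hsub ⟨i, rfl⟩
  have := hx.2 s hs hsub'
  rw [Set.range_comp, this]
  exact Set.image_preimage_eq _ hψ.2

include h in
theorem adjoin_transport (hψ : Function.Surjective ψ)
    (hx : IntermediateField.adjoin K (Set.range x) = ⊤) :
    IntermediateField.adjoin K' (Set.range (ψ ∘ x)) = ⊤ := by
  rw [eq_top_iff]
  rintro η -
  obtain ⟨ζ, rfl⟩ := hψ η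
  have hζ : ζ ∈ IntermediateField.adjoin K (Set.range x) := by rw [hx]; trivial
  induction hζ using IntermediateField.adjoin_induction with
  | mem y hy =>
    obtain ⟨i, rfl⟩ := hy
    exact IntermediateField.subset_adjoin _ _ ⟨i, rfl⟩
  | algebraMap c =>
    have : ψ (algebraMap K L c) = algebraMap K' L' (σ c) := (RingHom.congr_fun h c).symm
    rw [this]
    exact IntermediateField.algebraMap_mem _ _
  | add a b _ _ ha hb => rw [map_add]; exact add_mem ha hb
  | inv a _ ha => rw [map_inv₀]; exact inv_mem ha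
  | mul a b _ _ ha hb => rw [map_mul]; exact mul_mem ha hb

end T

section R

variable {R R' D D' : Type u} [CommRing R] [CommRing R'] [CommRing D] [CommRing D']
  [Algebra R R'] [Algebra R D] [Algebra R' D'] [Algebra R D'] [Algebra D D']
  [IsScalarTower R R' D'] [IsScalarTower R D D'] [Algebra.IsPushout R R' D D']
  (p : Ideal R) [p.IsPrime] (p' : Ideal R') [p'.IsPrime] [hp' : p'.LiesOver p]
  (y : Ideal D) [y.IsPrime] (y' : Ideal D') [y'.IsPrime] [hy' : y'.LiesOver y]
  [hy'p' : y'.LiesOver p']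

theorem residueField_map_bijective
    (hκ : Function.Surjective (Ideal.ResidueField.mapₐ p p' (Algebra.ofId R R') hp'.over)) :
    Function.Bijective (Ideal.ResidueField.mapₐ y y' (Algebra.ofId D D') hy'.over) := by
  refine ⟨RingHom.injective _, ?_⟩
  set ψ := Ideal.ResidueField.mapₐ y y' (Algebra.ofId D D') hy'.over with hψ
  have hψalg : ∀ d : D, ψ (algebraMap D y.ResidueField d) =
      algebraMap D' y'.ResidueField (algebraMap D D' d) := by
    intro d
    rw [AlgHom.commutes, ← IsScalarTower.algebraMap_apply]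
  -- the range of `ψ` as a subfield
  let F : Subfield y'.ResidueField := (ψ : y.ResidueField →+* y'.ResidueField).fieldRange
  have hF : ∀ d' : D', algebraMap D' y'.ResidueField d' ∈ F := by
    intro d'
    obtain ⟨b, d, hb, hbd⟩ := exists_mul_sub_mem_map (S := D) p p' hκ d'
    have hmem : algebraMap R D' b * d' - algebraMap D D' d ∈ y' := by
      have : p'.map (algebraMap R' D') ≤ y' := by
        rw [Ideal.map_le_iff_le_comap]
        exact hy'p'.over.le
      exact this hbd
    rw [← Ideal.algebraMap_residueField_eq_zero, map_sub, map_mul, sub_eq_zero] at hmem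
    have hb1 : algebraMap D' y'.ResidueField (algebraMap R D' b) ∈ F := by
      rw [IsScalarTower.algebraMap_apply R D D', ← hψalg]
      exact ⟨_, rfl⟩
    have hb0 : algebraMap D' y'.ResidueField (algebraMap R D' b) ≠ 0 := by
      rw [Ne, Ideal.algebraMap_residueField_eq_zero]
      intro hmem'
      apply hb
      rw [hp'.over, Ideal.mem_comap, hy'p'.over, Ideal.mem_comap,
        ← IsScalarTower.algebraMap_apply]
      exact hmem'
    have hd1 : algebraMap D' y'.ResidueField (algebraMap D D' d) ∈ F := by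
      rw [← hψalg]; exact ⟨_, rfl⟩
    have : algebraMap D' y'.ResidueField d' =
        (algebraMap D' y'.ResidueField (algebraMap R D' b))⁻¹ *
          algebraMap D' y'.ResidueField (algebraMap D D' d) := by
      rw [← hmem, inv_mul_cancel_left₀ hb0]
    rw [this]
    exact mul_mem (inv_mem hb1) hd1
  intro η
  obtain ⟨a', b', hb', hab⟩ := exists_mul_eq y' η
  have hb0 : algebraMap D' y'.ResidueField b' ≠ 0 := by
    rw [Ne, Ideal.algebraMap_residueField_eq_zero]; exact hb'
  have : η = (algebraMap D' y'.ResidueField b')⁻¹ * algebraMap D' y'.ResidueField a' := by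
    rw [← hab, inv_mul_cancel_left₀ hb0]
  have hη : η ∈ F := by
    rw [this]; exact mul_mem (inv_mem (hF b')) (hF a')
  obtain ⟨ζ, hζ⟩ := hη
  exact ⟨ζ, hζ⟩

end R



section P

variable {R R' D D' : Type u} [CommRing R] [CommRing R'] [CommRing D] [CommRing D']
  [Algebra R R'] [Algebra R D] [Algebra R' D'] [Algebra R D'] [Algebra D D']
  [IsScalarTower R R' D'] [IsScalarTower R D D'] [Algebra.IsPushout R R' D D']
  (p : Ideal R) [p.IsPrime] (p' : Ideal R') [p'.IsPrime] [hp' : p'.LiesOver p]
  (y : Ideal D) [y.IsPrime] [hy : y.LiesOver p] (y' : Ideal D') [y'.IsPrime] [hy' : y'.LiesOver y]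
  [hy'p' : y'.LiesOver p']

theorem purelyTranscendental_baseChange
    (hκ : Function.Bijective (Ideal.ResidueField.mapₐ p p' (Algebra.ofId R R') hp'.over))
    (h4 : FlatCA.PurelyTranscendental p y) : FlatCA.PurelyTranscendental p' y' := by
  unfold FlatCA.PurelyTranscendental at h4 ⊢
  obtain ⟨ι, x, hx, hadj⟩ := h4
  letI a1 : Algebra p.ResidueField y.ResidueField :=
    (Ideal.ResidueField.mapₐ p y (Algebra.ofId R D) hy.over).toRingHom.toAlgebra
  letI a2 : Algebra p'.ResidueField y'.ResidueField :=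
    (Ideal.ResidueField.mapₐ p' y' (Algebra.ofId R' D') hy'p'.over).toRingHom.toAlgebra
  let σ : p.ResidueField →+* p'.ResidueField :=
    (Ideal.ResidueField.mapₐ p p' (Algebra.ofId R R') hp'.over).toRingHom
  let ψ : y.ResidueField →+* y'.ResidueField :=
    (Ideal.ResidueField.mapₐ y y' (Algebra.ofId D D') hy'.over).toRingHom
  have hcomp : (algebraMap p'.ResidueField y'.ResidueField).comp σ =
      ψ.comp (algebraMap p.ResidueField y.ResidueField) := by
    apply Ideal.ResidueField.ringHom_ext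
    ext r
    change (Ideal.ResidueField.mapₐ p' y' (Algebra.ofId R' D') hy'p'.over)
        ((Ideal.ResidueField.mapₐ p p' (Algebra.ofId R R') hp'.over) (algebraMap R p.ResidueField r)) =
      (Ideal.ResidueField.mapₐ y y' (Algebra.ofId D D') hy'.over)
        ((Ideal.ResidueField.mapₐ p y (Algebra.ofId R D) hy.over) (algebraMap R p.ResidueField r))
    rw [AlgHom.commutes, AlgHom.commutes, IsScalarTower.algebraMap_apply R R' p'.ResidueField,
      AlgHom.commutes, IsScalarTower.algebraMap_apply R D y.ResidueField, AlgHom.commutes,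
      IsScalarTower.algebraMap_apply R' D' y'.ResidueField,
      IsScalarTower.algebraMap_apply D D' y'.ResidueField,
      ← IsScalarTower.algebraMap_apply R R' D', ← IsScalarTower.algebraMap_apply R D D']
  have hψ : Function.Bijective ψ :=
    residueField_map_bijective (R := R) (R' := R') p p' y y' hκ.2
  exact ⟨ι, ψ ∘ x, isTranscendenceBasis_transport σ ψ hcomp x hκ.2 hψ hx,
    adjoin_transport σ ψ hcomp x hψ.2 hadj⟩

end P


section Main

theorem main
    (R S : Type u) [CommRing R] [CommRing S] [Algebra R S] [Algebra.FiniteType R S]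
    (N : Type u) [AddCommGroup N] [Module S N] [Module R N] [IsScalarTower R S N] [Module.Finite S N]
    (p : Ideal R) [p.IsPrime] (q : Ideal S) [q.IsPrime] [q.LiesOver p]
    (C D G : Type u) [CommRing C] [CommRing D] [Algebra S C] [Algebra R C] [IsScalarTower R S C]
    [Algebra R D] [Algebra D C] [IsScalarTower R D C] [AddCommGroup G] [Module C G] [Module S G]
    [IsScalarTower S C G] (n : ℕ)
    (h : FlatCA.IsOneStepDevissage R S N p C D G n)
    (z : Ideal C) [z.IsPrime] (y : Ideal D) [y.IsPrime] [hzq : z.LiesOver q] [hzy : z.LiesOver y]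
    [y.LiesOver p]
    (h1 : ∃ (ξ : PrimeSpectrum (p.Fiber S)) (hξ : ξ ∈ Module.support (p.Fiber S) (FlatCA.fiberMod p S N)),
      ξ.asIdeal = FlatCA.fiberIdeal p q ∧
      FlatMor.localDim (Module.support (p.Fiber S) (FlatCA.fiberMod p S N)) ⟨ξ, hξ⟩ = n)
    (h3 : ∀ (z₁ : Ideal C) [z₁.IsPrime], z₁.LiesOver y → z₁ = z)
    (h4 : FlatCA.PurelyTranscendental p y)
    (R' : Type u) [CommRing R'] [Algebra R R'] (p' : Ideal R') [p'.IsPrime] [hp' : p'.LiesOver p]
    (hκ : Function.Bijective (Ideal.ResidueField.mapₐ p p' (Algebra.ofId R R') hp'.over))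
    (S' C' D' : Type u) [CommRing S'] [CommRing C'] [CommRing D']
    [Algebra R' S'] [Algebra R S'] [Algebra S S'] [IsScalarTower R R' S'] [IsScalarTower R S S']
    [Algebra.IsPushout R R' S S']
    [Algebra R' C'] [Algebra R C'] [Algebra C C'] [IsScalarTower R R' C'] [IsScalarTower R C C']
    [Algebra.IsPushout R R' C C']
    [Algebra R' D'] [Algebra R D'] [Algebra D D'] [IsScalarTower R R' D'] [IsScalarTower R D D']
    [Algebra.IsPushout R R' D D']
    [Algebra S' C'] [IsScalarTower R' S' C'] [Algebra S C'] [IsScalarTower S S' C'] [IsScalarTower S C C']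
    [Algebra D' C'] [IsScalarTower R' D' C'] [Algebra D C'] [IsScalarTower D D' C'] [IsScalarTower D C C']
    (N' : Type u) [AddCommGroup N'] [Module S' N'] [Module R' N'] [IsScalarTower R' S' N']
    [Module S N'] [IsScalarTower S S' N'] (f : N →ₗ[S] N') (hf : IsBaseChange S' f)
    (G' : Type u) [AddCommGroup G'] [Module C' G'] [Module S' G'] [IsScalarTower S' C' G']
    [Module C G'] [IsScalarTower C C' G'] (g : G →ₗ[C] G') (hg : IsBaseChange C' g)
    (q' : Ideal S') [q'.IsPrime] [hq'q : q'.LiesOver q] [hq'p' : q'.LiesOver p']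
    (z' : Ideal C') [z'.IsPrime] [hz'z : z'.LiesOver z] [hz'p' : z'.LiesOver p']
    (y' : Ideal D') [y'.IsPrime] [hy'y : y'.LiesOver y] [hy'p' : y'.LiesOver p'] :
    (∀ (q₁ : Ideal S') [q₁.IsPrime], q₁.LiesOver q → q₁.LiesOver p' → q₁ = q') ∧
    FlatCA.IsOneStepDevissage R' S' N' p' C' D' G' n ∧
    (∃ (ξ' : PrimeSpectrum (p'.Fiber S')) (hξ' : ξ' ∈ Module.support (p'.Fiber S') (FlatCA.fiberMod p' S' N')),
      ξ'.asIdeal = FlatCA.fiberIdeal p' q' ∧
      FlatMor.localDim (Module.support (p'.Fiber S') (FlatCA.fiberMod p' S' N')) ⟨ξ', hξ'⟩ = n) ∧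
    z'.LiesOver q' ∧ z'.LiesOver y' ∧
    (∀ (z₁ : Ideal C') [z₁.IsPrime], z₁.LiesOver y' → z₁ = z') ∧
    FlatCA.PurelyTranscendental p' y' := by
  -- uniqueness over `S'`
  have huniq : ∀ (q₁ : Ideal S') [q₁.IsPrime], q₁.LiesOver q → q₁.LiesOver p' → q₁ = q' := by
    intro q₁ _ h₁ h₂
    refine eq_of_comap_eq (S := S) p p' hκ.2 q₁ q' h₂.over.symm hq'p'.over.symm ?_
    exact h₁.over.symm.trans hq'q.over
  -- comap identities for `z'`
  have hzS' : (z'.comap (algebraMap S' C')).comap (algebraMap S S') = q := by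
    rw [Ideal.comap_comap, ← IsScalarTower.algebraMap_eq, IsScalarTower.algebraMap_eq S C C',
      ← Ideal.comap_comap]
    rw [show Ideal.comap (algebraMap C C') z' = z from hz'z.over.symm]
    exact hzq.over.symm
  have hzR' : (z'.comap (algebraMap S' C')).comap (algebraMap R' S') = p' := by
    rw [Ideal.comap_comap, ← IsScalarTower.algebraMap_eq]
    exact hz'p'.over.symm
  have hzD' : (z'.comap (algebraMap D' C')).comap (algebraMap D D') = y := by
    rw [Ideal.comap_comap, ← IsScalarTower.algebraMap_eq, IsScalarTower.algebraMap_eq D C C',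
      ← Ideal.comap_comap]
    rw [show Ideal.comap (algebraMap C C') z' = z from hz'z.over.symm]
    exact hzy.over.symm
  have hzDR' : (z'.comap (algebraMap D' C')).comap (algebraMap R' D') = p' := by
    rw [Ideal.comap_comap, ← IsScalarTower.algebraMap_eq]
    exact hz'p'.over.symm
  refine ⟨huniq, DevBC.main R S N p C D G n h R' p' S' C' D' N' f hf G' g hg,
    localDim_fiber_baseChange R S N p q n h1 R' p' hκ S' N' f hf q', ?_, ?_, ?_, ?_⟩
  · -- `z'` lies over `q'`
    constructor
    exact (huniq (z'.comap (algebraMap S' C')) ⟨hzS'.symm⟩ ⟨hzR'.symm⟩).symm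
  · -- `z'` lies over `y'`
    constructor
    refine (eq_of_comap_eq (S := D) p p' hκ.2 (z'.comap (algebraMap D' C')) y' hzDR'
      hy'p'.over.symm ?_).symm
    rw [hzD']
    exact hy'y.over
  · -- uniqueness of `z'`
    intro z₁ _ hz₁
    have hz₁R' : z₁.comap (algebraMap R' C') = p' := by
      rw [IsScalarTower.algebraMap_eq R' D' C', ← Ideal.comap_comap]
      rw [show Ideal.comap (algebraMap D' C') z₁ = y' from hz₁.over.symm]
      exact hy'p'.over.symm
    have hw : (z₁.comap (algebraMap C C')).LiesOver y := by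
      constructor
      change y = Ideal.comap (algebraMap D C) (Ideal.comap (algebraMap C C') z₁)
      rw [Ideal.comap_comap, ← IsScalarTower.algebraMap_eq, IsScalarTower.algebraMap_eq D D' C',
        ← Ideal.comap_comap]
      rw [show Ideal.comap (algebraMap D' C') z₁ = y' from hz₁.over.symm]
      exact hy'y.over
    have hwz := h3 (z₁.comap (algebraMap C C')) hw
    refine eq_of_comap_eq (S := C) p p' hκ.2 z₁ z' hz₁R' hz'p'.over.symm ?_
    rw [hwz]
    exact hz'z.over
  · exact purelyTranscendental_baseChange (R := R) (R' := R') p p' y y' hκ h4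

end Main

end Groth.Agent.Lib.Seat55.DevAtBC
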