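import Mathlib
import Groth.Prelude.Def_FlatCA
import Groth.Agent.Lib.Seat55DevAtBC

/-!
# Local dimension and open embeddings (seat 55)

* `localDim_le_topologicalKrullDim`, `localDim_open_subtype`, `localDim_eq_of_isOpenEmbedding`:
  `FlatMor.localDim` is bounded by the dimension and invariant under open embeddings;
* `supportDim_eq_topologicalKrullDim`: for a finite module the dimension of the support is the
  topological Krull dimension of the support.
-/

set_option autoImplicit false
set_option linter.style.haveILetI false
set_option linter.unusedSectionVars false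
universe u
open TensorProduct Topology

namespace Groth.Agent.Lib.Seat55.ShrinkTop

variable {X Y : Type*} [TopologicalSpace X] [TopologicalSpace Y]

theorem localDim_le_topologicalKrullDim (x : X) :
    FlatMor.localDim X x ≤ topologicalKrullDim X := by
  unfold FlatMor.localDim
  exact (iInf_le _ ⟨⊤, trivial⟩).trans (topologicalKrullDim_subspace_le X _)

theorem localDim_open_subtype (U : TopologicalSpace.Opens X) (u : U) :
    FlatMor.localDim U u = FlatMor.localDim X u.1 := by
  unfold FlatMor.localDim
  apply le_antisymm
  · refine le_iInf fun V => ?_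
    let W : {W : TopologicalSpace.Opens U // u ∈ W} :=
      ⟨⟨Subtype.val ⁻¹' (V.1 : Set X), V.1.2.preimage continuous_subtype_val⟩, V.2⟩
    refine (iInf_le _ W).trans ?_
    let f : ((W.1 : Set U)) → ((V.1 : Set X)) := fun x => ⟨x.1.1, x.2⟩
    have hf : Continuous f :=
      Continuous.subtype_mk (continuous_subtype_val.comp continuous_subtype_val) _
    have hind : IsInducing f := by
      refine IsInducing.of_comp hf continuous_subtype_val ?_
      exact (IsInducing.subtypeVal.comp IsInducing.subtypeVal :
        IsInducing ((Subtype.val : U → X) ∘ (Subtype.val : ((W.1 : Set U)) → U)))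
    exact hind.topologicalKrullDim_le
  · refine le_iInf fun V => ?_
    have hopen : IsOpen (Subtype.val '' (V.1 : Set U)) := U.2.isOpenMap_subtype_val _ V.1.2
    let W : {W : TopologicalSpace.Opens X // u.1 ∈ W} :=
      ⟨⟨Subtype.val '' (V.1 : Set U), hopen⟩, ⟨u, V.2, rfl⟩⟩
    refine (iInf_le _ W).trans ?_
    have hmem : ∀ x : ((W.1 : Set X)), x.1 ∈ U := by
      rintro ⟨_, ⟨v, _, rfl⟩⟩; exact v.2
    have hmem' : ∀ x : ((W.1 : Set X)), (⟨x.1, hmem x⟩ : U) ∈ V.1 := by
      rintro ⟨_, ⟨v, hv, rfl⟩⟩; exact hv
    let f : ((W.1 : Set X)) → ((V.1 : Set U)) := fun x => ⟨⟨x.1, hmem x⟩, hmem' x⟩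
    have hf : Continuous f :=
      Continuous.subtype_mk (Continuous.subtype_mk continuous_subtype_val _) _
    have hind : IsInducing f := by
      refine IsInducing.of_comp hf (continuous_subtype_val.comp continuous_subtype_val) ?_
      exact IsInducing.subtypeVal
    exact hind.topologicalKrullDim_le

theorem localDim_eq_of_isOpenEmbedding {ε : Y → X} (hε : IsOpenEmbedding ε) (y : Y) :
    FlatMor.localDim Y y = FlatMor.localDim X (ε y) := by
  let U : TopologicalSpace.Opens X := ⟨Set.range ε, hε.isOpen_range⟩
  let e : Y ≃ₜ U := hε.isEmbedding.toHomeomorph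
  rw [Groth.Agent.Lib.Seat55.DevAtBC.localDim_eq_of_homeomorph e y, localDim_open_subtype U (e y)]
  rfl

theorem supportDim_eq_topologicalKrullDim (A M : Type*) [CommRing A] [AddCommGroup M] [Module A M]
    [Module.Finite A M] :
    Module.supportDim A M = topologicalKrullDim (Module.support A M) := by
  rw [Module.supportDim_eq_ringKrullDim_quotient_annihilator,
    ← PrimeSpectrum.topologicalKrullDim_eq_ringKrullDim]
  have hsurj : Function.Surjective (Ideal.Quotient.mk (Module.annihilator A M)) :=
    Ideal.Quotient.mk_surjective
  have hemb := (PrimeSpectrum.isClosedEmbedding_comap_of_surjective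
    (A ⧸ Module.annihilator A M) _ hsurj).isEmbedding
  have hrange : Set.range (PrimeSpectrum.comap (Ideal.Quotient.mk (Module.annihilator A M))) =
      Module.support A M := by
    rw [_root_.range_comap_of_surjective _ _ hsurj, Ideal.mk_ker,
      Module.support_eq_zeroLocus]
  let e : PrimeSpectrum (A ⧸ Module.annihilator A M) ≃ₜ Module.support A M :=
    hemb.toHomeomorph.trans (Homeomorph.setCongr hrange)
  exact IsHomeomorph.topologicalKrullDim_eq _ e.isHomeomorph

end Groth.Agent.Lib.Seat55.ShrinkTop
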