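import Mathlib
import Groth.Agent.Lib.Helper14LocalDim
import Groth.Agent.Lib.Seat33StdSmoothEmb
import Groth.Agent.Lib.Helper3SmDim
import Groth.Agent.Lib.Seat55ShrinkTop
import Groth.Agent.S9408
import Groth.Agent.S5341
import Groth.Agent.Lib.Helper5RLR

/-!
# Jacobian criterion over a field: smoothness vs. `dim Ω ⊗ κ ≤ dim_q` (seat 18)
-/

set_option linter.style.haveILetI false
set_option autoImplicit false

universe u
open CategoryTheory CategoryTheory.Limits AlgebraicGeometry TensorProduct

namespace Groth.Agent.Lib.Seat18.JacField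

open Groth.Agent.Lib.Helper14.LocalDim

section RingA

variable {k D T : Type u} [Field k] [CommRing D] [CommRing T] [Algebra k D] [Algebra k T]
  [Algebra.FiniteType k D] [Algebra.FiniteType k T]

include k in
/-- local dimension of the spectrum of a finite type algebra over a field. -/
theorem localDim_eq_height_add (p : Ideal T) [p.IsPrime] :
    ∃ n e : ℕ, p.height = n ∧ ringKrullDim (T ⧸ p) = e ∧
      FlatMor.localDim (PrimeSpectrum T) ⟨p, inferInstance⟩ = ((n + e : ℕ) : WithBot ℕ∞) := by
  obtain ⟨n, e, hn, he, -, he'⟩ := exists_dims (k := k) p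
  exact ⟨n, e, hn, he, localDim_eq (k := k) p n e hn he he'⟩

theorem ringKrullDim_quotient_comap_eq (φ : D →+* T) (hφ : Function.Surjective φ) (p : Ideal T) :
    ringKrullDim (D ⧸ p.comap φ) = ringKrullDim (T ⧸ p) := by
  have hs : Function.Surjective ((Ideal.Quotient.mk p).comp φ) :=
    Ideal.Quotient.mk_surjective.comp hφ
  have hker : RingHom.ker ((Ideal.Quotient.mk p).comp φ) = p.comap φ := by
    rw [RingHom.ker_eq_comap_bot, ← Ideal.comap_comap, ← RingHom.ker_eq_comap_bot, Ideal.mk_ker]
  exact ringKrullDim_eq_of_ringEquiv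
    ((Ideal.quotEquivOfEq hker.symm).trans (RingHom.quotientKerEquivOfSurjective hs))

theorem height_comap_le_of_localDim_le (φ : D →ₐ[k] T) (hφ : Function.Surjective φ)
    (p : Ideal T) [p.IsPrime]
    (h : FlatMor.localDim (PrimeSpectrum D)
        ⟨p.comap (φ : D →+* T), Ideal.comap_isPrime _ _⟩ ≤
      FlatMor.localDim (PrimeSpectrum T) ⟨p, inferInstance⟩) :
    (p.comap (φ : D →+* T)).height ≤ p.height := by
  haveI : (p.comap (φ : D →+* T)).IsPrime := Ideal.comap_isPrime _ _
  obtain ⟨n, e, hn, he, hl⟩ := localDim_eq_height_add (k := k) p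
  obtain ⟨n', e', hn', he', hl'⟩ := localDim_eq_height_add (k := k) (p.comap (φ : D →+* T))
  have hee : e' = e := by
    have h1 := ringKrullDim_quotient_comap_eq (φ : D →+* T) hφ p
    rw [he, he'] at h1
    exact_mod_cast h1
  rw [hl, hl'] at h
  have h2 : n' + e' ≤ n + e := by exact_mod_cast h
  rw [hn, hn']
  have : n' ≤ n := by omega
  exact_mod_cast this

end RingA

section RingB

variable {D T : Type u} [CommRing D] [CommRing T]

theorem localRingHom_surjective (φ : D →+* T) (hφ : Function.Surjective φ) (p : Ideal T)
    [p.IsPrime] [(p.comap φ).IsPrime] :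
    Function.Surjective (Localization.localRingHom (p.comap φ) p φ rfl) := by
  intro y
  obtain ⟨t, s, rfl⟩ := IsLocalization.exists_mk'_eq p.primeCompl y
  obtain ⟨d, rfl⟩ := hφ t
  obtain ⟨d', hd'⟩ := hφ s.1
  have hd'mem : d' ∈ (p.comap φ).primeCompl := by
    intro hmem
    apply s.2
    rw [← hd']
    exact hmem
  refine ⟨IsLocalization.mk' _ d ⟨d', hd'mem⟩, ?_⟩
  rw [Localization.localRingHom_mk']
  congr 1
  exact Subtype.ext hd'

theorem localRingHom_bijective_of_height_le [IsNoetherianRing D] (φ : D →+* T)
    (hφ : Function.Surjective φ) (p : Ideal T)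
    [p.IsPrime] [(p.comap φ).IsPrime] [IsDomain (Localization.AtPrime (p.comap φ))]
    (h : (p.comap φ).height ≤ p.height) :
    Function.Bijective (Localization.localRingHom (p.comap φ) p φ rfl) := by
  refine ⟨?_, localRingHom_surjective φ hφ p⟩
  set ψ := Localization.localRingHom (p.comap φ) p φ rfl with hψ
  rw [injective_iff_map_eq_zero]
  intro x hx
  by_contra hx0
  have hxreg : x ∈ nonZeroDivisors (Localization.AtPrime (p.comap φ)) :=
    mem_nonZeroDivisors_of_ne_zero hx0
  have h1 := ringKrullDim_quotient_succ_le_of_nonZeroDivisor hxreg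
  -- `T_p` is a quotient of `D_{p'} / (x)`
  have hle : Ideal.span {x} ≤ RingHom.ker ψ := by
    rw [Ideal.span_le, Set.singleton_subset_iff]
    exact hx
  let ψ' : Localization.AtPrime (p.comap φ) ⧸ Ideal.span {x} →+* Localization.AtPrime p :=
    Ideal.Quotient.lift _ ψ (fun a ha => hle ha)
  have hψ' : Function.Surjective ψ' := by
    intro y
    obtain ⟨z, rfl⟩ := localRingHom_surjective φ hφ p y
    exact ⟨Ideal.Quotient.mk _ z, by simp [ψ', hψ]⟩
  have h2 := ringKrullDim_le_of_surjective ψ' hψ'
  have h3 : ringKrullDim (Localization.AtPrime p) = p.height :=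
    IsLocalization.AtPrime.ringKrullDim_eq_height p _
  have h4 : ringKrullDim (Localization.AtPrime (p.comap φ)) = (p.comap φ).height :=
    IsLocalization.AtPrime.ringKrullDim_eq_height (p.comap φ) _
  obtain ⟨n', hn'⟩ := ENat.ne_top_iff_exists.mp (Ideal.height_ne_top_of_isPrime (I := p.comap φ))
  rw [h4] at h1
  rw [h3] at h2
  have h5 : (((p.comap φ).height : ℕ∞) : WithBot ℕ∞) ≤ ((p.height : ℕ∞) : WithBot ℕ∞) := by
    exact_mod_cast h
  have h6 : ringKrullDim (Localization.AtPrime (p.comap φ) ⧸ Ideal.span {x}) + 1 ≤
      ringKrullDim (Localization.AtPrime (p.comap φ) ⧸ Ideal.span {x}) :=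
    h1.trans (h5.trans h2)
  -- impossible as the dimension is finite and nonnegative
  have h7 : ringKrullDim (Localization.AtPrime (p.comap φ) ⧸ Ideal.span {x}) ≤
      ((n' : ℕ∞) : WithBot ℕ∞) := by
    have := ringKrullDim_quotient_le (Ideal.span {x} : Ideal (Localization.AtPrime (p.comap φ)))
    rw [h4, ← hn'] at this
    exact this
  have hnt : Nontrivial (Localization.AtPrime (p.comap φ) ⧸ Ideal.span {x}) := by
    rw [Ideal.Quotient.nontrivial_iff]
    intro htop
    have : (1 : Localization.AtPrime (p.comap φ)) ∈ RingHom.ker ψ := hle (htop ▸ trivial)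
    rw [RingHom.mem_ker, map_one] at this
    exact one_ne_zero this
  have h8 : (0 : WithBot ℕ∞) ≤
      ringKrullDim (Localization.AtPrime (p.comap φ) ⧸ Ideal.span {x}) :=
    ringKrullDim_nonneg_of_nontrivial
  generalize ringKrullDim (Localization.AtPrime (p.comap φ) ⧸ Ideal.span {x}) = c at h6 h7 h8
  induction c using WithBot.recBotCoe with
  | bot => simp at h8
  | coe c =>
    induction c using ENat.recTopCoe with
    | top =>
      have : (⊤ : ℕ∞) ≤ (n' : ℕ∞) := by exact_mod_cast h7
      simp at this
    | coe c =>
      have : c + 1 ≤ c := by exact_mod_cast h6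
      omega

end RingB

section RingC

variable {k D T : Type u} [Field k] [CommRing D] [CommRing T] [Algebra k D] [Algebra k T]

theorem isSmoothAt_of_localRingHom_bijective [Algebra.Smooth k D] (φ : D →ₐ[k] T) (p : Ideal T)
    [p.IsPrime] [(p.comap (φ : D →+* T)).IsPrime]
    (hb : Function.Bijective (Localization.localRingHom (p.comap (φ : D →+* T)) p
      (φ : D →+* T) rfl)) :
    Algebra.IsSmoothAt k p := by
  haveI : Algebra.FormallySmooth D (Localization.AtPrime (p.comap (φ : D →+* T))) :=
    Algebra.FormallySmooth.of_isLocalization (p.comap (φ : D →+* T)).primeCompl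
  haveI : Algebra.FormallySmooth k (Localization.AtPrime (p.comap (φ : D →+* T))) :=
    Algebra.FormallySmooth.comp k D _
  let e0 : Localization.AtPrime (p.comap (φ : D →+* T)) ≃+* Localization.AtPrime p :=
    RingEquiv.ofBijective _ hb
  let e : Localization.AtPrime (p.comap (φ : D →+* T)) ≃ₐ[k] Localization.AtPrime p :=
    { e0 with
      commutes' := fun c => by
        show Localization.localRingHom (p.comap (φ : D →+* T)) p (φ : D →+* T) rfl
          (algebraMap k (Localization.AtPrime (p.comap (φ : D →+* T))) c) = _
        rw [IsScalarTower.algebraMap_apply k D (Localization.AtPrime (p.comap (φ : D →+* T))),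
          Localization.localRingHom_to_map,
          IsScalarTower.algebraMap_apply k T (Localization.AtPrime p)]
        congr 1
        exact φ.commutes c }
  exact Algebra.FormallySmooth.of_equiv e

theorem localDim_eq_of_isStandardSmoothOfRelativeDimension (r : ℕ)
    [Algebra.IsStandardSmoothOfRelativeDimension r k D] (z : PrimeSpectrum D) :
    FlatMor.localDim (PrimeSpectrum D) z = (r : WithBot ℕ∞) := by
  let f : CommRingCat.of k ⟶ CommRingCat.of D := CommRingCat.ofHom (algebraMap k D)
  have hf : f.hom.IsStandardSmoothOfRelativeDimension r :=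
    (RingHom.isStandardSmoothOfRelativeDimension_algebraMap r).mpr inferInstance
  have h1 := Groth.Agent.Lib.Helper3.SmDim.fibreDimAt_SpecMap_of_isStandardSmoothOfRelativeDimension
    f r hf z
  haveI : Subsingleton (Spec (CommRingCat.of k)) :=
    inferInstanceAs (Subsingleton (PrimeSpectrum k))
  have h2 := Groth.Agent.S5341.fibreDimAt_eq_localDim_of_subsingleton (Spec.map f) z
  rw [h2] at h1
  exact h1

end RingC

section Finrank

variable {k S : Type u} [Field k] [CommRing S] [Algebra k S]

theorem finrank_residueField_tensor_kaehler (q : Ideal S) [q.IsPrime] (h : S) (hq : h ∉ q) (n : ℕ)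
    [Algebra.IsStandardSmoothOfRelativeDimension n k (Localization.Away h)] :
    Module.finrank q.ResidueField (q.ResidueField ⊗[S] Ω[S⁄k]) = n := by
  have hu : IsUnit (algebraMap S q.ResidueField h) := by
    rw [isUnit_iff_ne_zero]
    intro h0
    exact hq (Ideal.algebraMap_residueField_eq_zero.mp h0)
  let ψ : Localization.Away h →+* q.ResidueField := IsLocalization.Away.lift h hu
  letI : Algebra (Localization.Away h) q.ResidueField := ψ.toAlgebra
  haveI : IsScalarTower S (Localization.Away h) q.ResidueField :=
    IsScalarTower.of_algebraMap_eq fun s => (IsLocalization.Away.lift_eq h hu s).symm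
  have hb1 : IsBaseChange (Localization.Away h)
      (KaehlerDifferential.map k k S (Localization.Away h)) :=
    IsLocalizedModule.isBaseChange (Submonoid.powers h) (Localization.Away h) _
  have hb2 : IsBaseChange q.ResidueField
      (TensorProduct.mk (Localization.Away h) q.ResidueField Ω[Localization.Away h⁄k] 1) :=
    TensorProduct.isBaseChange (Localization.Away h) _ _
  have hb3 := IsBaseChange.comp hb1 hb2
  have e := hb3.equiv
  haveI : Nontrivial (Localization.Away h) := RingHom.domain_nontrivial ψ
  haveI : Algebra.IsStandardSmooth k (Localization.Away h) :=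
    Algebra.IsStandardSmoothOfRelativeDimension.isStandardSmooth n
  rw [e.finrank_eq, Module.finrank_baseChange]
  exact Module.finrank_eq_of_rank_eq
    (Algebra.IsStandardSmoothOfRelativeDimension.rank_kaehlerDifferential n)

end Finrank

section Main

variable {k S : Type u} [Field k] [CommRing S] [Algebra k S] [Algebra.FiniteType k S]

theorem exists_relDim {A : Type u} [CommRing A] [Algebra k A] [h : Algebra.IsStandardSmooth k A] :
    ∃ n : ℕ, Algebra.IsStandardSmoothOfRelativeDimension n k A := by
  obtain ⟨_, _, _, _, ⟨P⟩⟩ := h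
  exact ⟨_, ⟨_, _, _, ‹_›, P, rfl⟩⟩

theorem main (q : Ideal S) [q.IsPrime] :
    Algebra.IsSmoothAt k q ↔
      ((Module.finrank q.ResidueField (q.ResidueField ⊗[S] Ω[S⁄k]) : ℕ∞) : WithBot ℕ∞) ≤
        FlatMor.localDim (PrimeSpectrum S) ⟨q, inferInstance⟩ := by
  haveI : Algebra.FinitePresentation k S :=
    Algebra.FinitePresentation.of_finiteType.mp inferInstance
  constructor
  · intro hsm
    obtain ⟨h, hhq, hstd⟩ := Algebra.IsSmoothAt.exists_notMem_isStandardSmooth k q
    obtain ⟨n, hn⟩ := exists_relDim (k := k) (A := Localization.Away h)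
    rw [finrank_residueField_tensor_kaehler (k := k) q h hhq n]
    have hε : Topology.IsOpenEmbedding
        (PrimeSpectrum.comap (algebraMap S (Localization.Away h))) :=
      PrimeSpectrum.localization_away_isOpenEmbedding (Localization.Away h) h
    obtain ⟨y, hy⟩ : ∃ y, PrimeSpectrum.comap (algebraMap S (Localization.Away h)) y =
        (⟨q, inferInstance⟩ : PrimeSpectrum S) := by
      have : (⟨q, inferInstance⟩ : PrimeSpectrum S) ∈
          Set.range (PrimeSpectrum.comap (algebraMap S (Localization.Away h))) := by
        rw [PrimeSpectrum.localization_away_comap_range _ h]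
        exact hhq
      exact this
    rw [← hy, ← Groth.Agent.Lib.Seat55.ShrinkTop.localDim_eq_of_isOpenEmbedding hε y,
      localDim_eq_of_isStandardSmoothOfRelativeDimension (k := k) n y]
    exact le_refl _
  · intro hle
    generalize hr : Module.finrank q.ResidueField (q.ResidueField ⊗[S] Ω[S⁄k]) = r at hle
    obtain ⟨g, hgq, D, _, _, hD, φ, hφ⟩ :=
      Groth.Agent.Lib.Seat33.StdSmoothEmb.exists_stdSmooth_surj k S q r hr
    haveI := hD
    have hε : Topology.IsOpenEmbedding
        (PrimeSpectrum.comap (algebraMap S (Localization.Away g))) :=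
      PrimeSpectrum.localization_away_isOpenEmbedding (Localization.Away g) g
    obtain ⟨y, hy⟩ : ∃ y, PrimeSpectrum.comap (algebraMap S (Localization.Away g)) y =
        (⟨q, inferInstance⟩ : PrimeSpectrum S) := by
      have : (⟨q, inferInstance⟩ : PrimeSpectrum S) ∈
          Set.range (PrimeSpectrum.comap (algebraMap S (Localization.Away g))) := by
        rw [PrimeSpectrum.localization_away_comap_range _ g]
        exact hgq
      exact this
    haveI : y.asIdeal.IsPrime := y.isPrime
    haveI hp' : (y.asIdeal.comap (φ : D →+* Localization.Away g)).IsPrime :=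
      Ideal.comap_isPrime _ _
    haveI : Algebra.IsStandardSmooth k D :=
      Algebra.IsStandardSmoothOfRelativeDimension.isStandardSmooth r
    haveI : Algebra.Smooth k D := inferInstance
    haveI : Algebra.FiniteType k D := inferInstance
    haveI : Algebra.FiniteType S (Localization.Away g) :=
      IsLocalization.finiteType_of_monoid_fg (Submonoid.powers g) _
    haveI : Algebra.FiniteType k (Localization.Away g) :=
      Algebra.FiniteType.trans (inferInstance : Algebra.FiniteType k S) inferInstance
    haveI : IsNoetherianRing D := Algebra.FiniteType.isNoetherianRing k D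
    have h1 : FlatMor.localDim (PrimeSpectrum (Localization.Away g)) y =
        FlatMor.localDim (PrimeSpectrum S) ⟨q, inferInstance⟩ := by
      rw [← hy]
      exact Groth.Agent.Lib.Seat55.ShrinkTop.localDim_eq_of_isOpenEmbedding hε y
    have h2 := localDim_eq_of_isStandardSmoothOfRelativeDimension (k := k) (D := D) r
      ⟨y.asIdeal.comap (φ : D →+* Localization.Away g), hp'⟩
    have h3 : FlatMor.localDim (PrimeSpectrum D)
          ⟨y.asIdeal.comap (φ : D →+* Localization.Away g), Ideal.comap_isPrime _ _⟩ ≤
        FlatMor.localDim (PrimeSpectrum (Localization.Away g)) ⟨y.asIdeal, inferInstance⟩ := by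
      rw [h2]
      exact hle.trans h1.symm.le
    have h4 := height_comap_le_of_localDim_le φ hφ y.asIdeal h3
    haveI : IsRegularRing D := Groth.Agent.S9408.isRegularRing_of_smooth k D
    haveI : IsRegularLocalRing (Localization.AtPrime
        (y.asIdeal.comap (φ : D →+* Localization.Away g))) :=
      (isRegularRing_iff.mp inferInstance) _
    haveI : IsDomain (Localization.AtPrime (y.asIdeal.comap (φ : D →+* Localization.Away g))) :=
      Groth.Agent.Lib.Helper5.isDomain_of_isRegularLocalRing _
    have hb := localRingHom_bijective_of_height_le (φ : D →+* Localization.Away g) hφ y.asIdeal h4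
    have hsm : Algebra.IsSmoothAt k y.asIdeal :=
      isSmoothAt_of_localRingHom_bijective φ y.asIdeal hb
    have hmem : y ∈ Algebra.smoothLocus k (Localization.Away g) := hsm
    rw [← Algebra.smoothLocus_comap_of_isLocalization g] at hmem
    have : (⟨q, inferInstance⟩ : PrimeSpectrum S) ∈ Algebra.smoothLocus k S := by
      rw [← hy]
      exact hmem
    exact this

end Main

end Groth.Agent.Lib.Seat18.JacField
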