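import Mathlib
import Groth.Prelude.Def_Curv2
import Groth.Agent.Lib.Helper5FiberStalk
import Groth.Agent.Lib.Helper28FlatNormal

/-!
# `m_x O_{X_K, y} = m_y` when the dimensions agree and `κ(x) ⊗_k K` is reduced (seat 18)
-/

set_option linter.style.haveILetI false
set_option autoImplicit false

universe u
open CategoryTheory CategoryTheory.Limits AlgebraicGeometry TensorProduct

namespace Groth.Agent.Lib.Seat18.MaxIdealBC

attribute [local instance] Curv2.resAlgebra

/-- `Curv2.resMap` is the canonical map `k → κ(x)` (copied from helper6's `specMap_resMap`). -/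
theorem specMap_resMap (k : Type u) [Field k] (X : Scheme.{u}) [X.Over (Spec (CommRingCat.of k))]
    (x : X) :
    Spec.map (CommRingCat.ofHom (Curv2.resMap k X x)) =
      X.fromSpecResidueField x ≫ (X ↘ Spec (CommRingCat.of k)) := by
  have hψ : CommRingCat.ofHom (Curv2.resMap k X x) =
      (Scheme.ΓSpecIso (CommRingCat.of k)).inv ≫ (X ↘ Spec (CommRingCat.of k)).appTop ≫
        X.presheaf.germ ⊤ x trivial ≫ X.residue x := rfl
  rw [hψ]
  apply ext_of_isAffine
  rw [← cancel_mono (Scheme.ΓSpecIso (X.residueField x)).hom, Scheme.ΓSpecIso_naturality]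
  unfold Scheme.fromSpecResidueField
  rw [Scheme.Hom.comp_appTop, Scheme.Hom.comp_appTop, Scheme.fromSpecStalk_appTop]
  simp only [Category.assoc]
  rw [Scheme.ΓSpecIso_naturality]
  simp

theorem withBot_le_zero_of_add_eq (a : WithBot ℕ∞) (n : ℕ) (h : a + n = n) : a ≤ 0 := by
  induction a using WithBot.recBotCoe with
  | bot => exact bot_le
  | coe m =>
    induction m using ENat.recTopCoe with
    | top =>
      exfalso
      have h' : ((⊤ + (n : ℕ∞) : ℕ∞) : WithBot ℕ∞) = ((n : ℕ∞) : WithBot ℕ∞) := by
        exact_mod_cast h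
      rw [top_add] at h'
      have := WithBot.coe_injective h'
      exact ENat.top_ne_natCast n this
    | coe m =>
      have h' : (((m + n : ℕ) : ℕ∞) : WithBot ℕ∞) = (((n : ℕ) : ℕ∞) : WithBot ℕ∞) := by
        exact_mod_cast h
      have h2 : m + n = n := by exact_mod_cast WithBot.coe_injective h'
      have : m = 0 := by omega
      subst this
      exact le_rfl

/-- the fibre of `X_K → X` over `x` is `Spec (κ(x) ⊗_k K)`. -/
theorem isReduced_fiber (k : Type u) [Field k] (X : Scheme.{u}) [X.Over (Spec (CommRingCat.of k))]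
    (K : Type u) [Field K] [Algebra k K] (x : X)
    (hred : _root_.IsReduced (X.residueField x ⊗[k] K)) :
    IsReduced ((Curv2.bcFst k X K).fiber x) := by
  let f := X ↘ Spec (CommRingCat.of k)
  let sK := Spec.map (CommRingCat.ofHom (algebraMap k K))
  let π := Curv2.bcFst k X K
  let ι := X.fromSpecResidueField x
  have h1 : IsPullback (pullback.fst π ι) (pullback.snd π ι) π ι := IsPullback.of_hasPullback π ι
  have h2 : IsPullback (pullback.snd f sK) π sK f := (IsPullback.of_hasPullback f sK).flip
  have h3 := (h1.paste_horiz h2).flip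
  have hι : ι ≫ f = Spec.map (CommRingCat.ofHom (algebraMap k (X.residueField x))) :=
    (specMap_resMap k X x).symm
  rw [hι] at h3
  have e : pullback π ι ≅ Spec (CommRingCat.of (X.residueField x ⊗[k] K)) :=
    h3.isoPullback ≪≫ pullbackSpecIso k (X.residueField x) K
  haveI : IsReduced (Spec (CommRingCat.of (X.residueField x ⊗[k] K))) := by
    haveI : _root_.IsReduced ↑(CommRingCat.of (X.residueField x ⊗[k] K)) := hred
    infer_instance
  haveI : IsIso e.hom := inferInstance
  haveI : IsOpenImmersion e.hom := inferInstance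
  have hr : IsReduced (pullback π ι) := isReduced_of_isOpenImmersion e.hom
  exact hr

theorem main (k : Type u) [Field k] (X : Scheme.{u}) [X.Over (Spec (CommRingCat.of k))]
    [LocallyOfFiniteType (X ↘ (Spec (CommRingCat.of k)))]
    (K : Type u) [Field K] [Algebra k K] (y : ↥(Curv2.bc k X K))
    (hdim : ringKrullDim ↥(X.presheaf.stalk (Curv2.bcFst k X K y)) =
      ringKrullDim ↥((Curv2.bc k X K).presheaf.stalk y))
    (hred : _root_.IsReduced (X.residueField (Curv2.bcFst k X K y) ⊗[k] K)) :
    Ideal.map ((Curv2.bcFst k X K).stalkMap y).hom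
      (IsLocalRing.maximalIdeal ↥(X.presheaf.stalk (Curv2.bcFst k X K y))) =
      IsLocalRing.maximalIdeal ↥((Curv2.bc k X K).presheaf.stalk y) := by
  let f := X ↘ Spec (CommRingCat.of k)
  let sK := Spec.map (CommRingCat.ofHom (algebraMap k K))
  let π := Curv2.bcFst k X K
  haveI : IsLocallyNoetherian X := LocallyOfFiniteType.isLocallyNoetherian f
  haveI : IsLocallyNoetherian (Curv2.bc k X K) :=
    LocallyOfFiniteType.isLocallyNoetherian (pullback.snd f sK)
  haveI : IsNoetherianRing (X.presheaf.stalk (π y)) := inferInstance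
  haveI : IsNoetherianRing ((Curv2.bc k X K).presheaf.stalk y) := inferInstance
  set J : Ideal ((Curv2.bc k X K).presheaf.stalk y) := Ideal.map (π.stalkMap y).hom
    (IsLocalRing.maximalIdeal (X.presheaf.stalk (π y))) with hJ
  obtain ⟨e⟩ := Groth.Agent.Lib.Helper5.FiberStalk.nonempty_stalk_asFiber_equiv π y
  haveI : IsReduced (π.fiber (π y)) := isReduced_fiber k X K (π y) hred
  haveI : _root_.IsReduced ((π.fiber (π y)).presheaf.stalk (π.asFiber y)) := inferInstance
  haveI hQred : _root_.IsReduced ((Curv2.bc k X K).presheaf.stalk y ⧸ J) :=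
    isReduced_of_injective e.symm.toRingHom e.symm.injective
  -- dimension
  haveI : Flat sK := inferInstance
  haveI : Flat π := inferInstance
  have hfl : (π.stalkMap y).hom.Flat := Flat.stalkMap π y
  have hloc : IsLocalHom (π.stalkMap y).hom := inferInstance
  algebraize [(π.stalkMap y).hom]
  haveI : IsLocalHom (algebraMap (X.presheaf.stalk (π y))
      ((Curv2.bc k X K).presheaf.stalk y)) := hloc
  have hd := Groth.Agent.Lib.Helper28.ringKrullDim_eq_add_of_flat
    (R := X.presheaf.stalk (π y)) (S := (Curv2.bc k X K).presheaf.stalk y) J rfl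
  obtain ⟨n, hn⟩ := Groth.Agent.Lib.Helper5.exists_nat_ringKrullDim_eq (X.presheaf.stalk (π y))
  have hdim' : ringKrullDim ((Curv2.bc k X K).presheaf.stalk y) = n := hdim.symm.trans hn
  rw [hdim', hn] at hd
  have hle : ringKrullDim ((Curv2.bc k X K).presheaf.stalk y ⧸ J) ≤ 0 :=
    withBot_le_zero_of_add_eq _ n hd.symm
  have hK : Ring.KrullDimLE 0 ((Curv2.bc k X K).presheaf.stalk y ⧸ J) :=
    Ring.krullDimLE_iff.mpr hle
  have hmin := (Ideal.krullDimLE_zero_quotient_iff_forall_minimalPrimes_isMaximal (I := J)).mp hK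
  have hJne : J ≠ ⊤ := by
    intro h
    have hle : J ≤ IsLocalRing.maximalIdeal ((Curv2.bc k X K).presheaf.stalk y) := by
      rw [hJ, Ideal.map_le_iff_le_comap]
      exact (IsLocalRing.maximalIdeal_comap (π.stalkMap y).hom).ge
    rw [h] at hle
    exact (IsLocalRing.maximalIdeal.isMaximal _).ne_top (top_le_iff.mp hle)
  have hrad : J.IsRadical := (Ideal.isRadical_iff_quotient_reduced J).mpr hQred
  obtain ⟨P, hP⟩ := Ideal.nonempty_minimalPrimes hJne
  have hPmax := hmin P hP
  have hPeq : P = IsLocalRing.maximalIdeal _ := IsLocalRing.eq_maximalIdeal hPmax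
  apply le_antisymm
  · rw [Ideal.map_le_iff_le_comap]
    exact (IsLocalRing.maximalIdeal_comap (π.stalkMap y).hom).ge
  · show IsLocalRing.maximalIdeal _ ≤ J
    rw [← hrad.radical, ← Ideal.sInf_minimalPrimes]
    refine le_sInf fun Q hQ => ?_
    rw [IsLocalRing.eq_maximalIdeal (hmin Q hQ)]

end Groth.Agent.Lib.Seat18.MaxIdealBC
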