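import Mathlib
import Groth.Agent.Lib.Seat18Slice

/-!
# Seat 18: an étale quotient of a localization of a smooth algebra through a closed subscheme that
surjects from the base (same-universe core of S18416)
-/

set_option autoImplicit false
set_option linter.style.haveILetI false
universe u v v' w w'

open TensorProduct IsLocalRing KaehlerDifferential Groth.Agent.Lib.Seat18.Slice

namespace Groth.Agent.Lib.Seat18.QuotEtale

theorem core (C B : Type u) [CommRing C] [CommRing B] [Algebra C B] [Algebra.Smooth C B]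
    (J : Ideal B) (hsurj : Function.Surjective ((Ideal.Quotient.mk J).comp (algebraMap C B)))
    (x : PrimeSpectrum (B ⧸ J)) :
    ∃ f : B, Ideal.Quotient.mk J f ∉ x.asIdeal ∧
      ∀ (Bf : Type u) [CommRing Bf] [Algebra B Bf] [IsLocalization.Away f Bf],
      ∃ J₀ : Ideal Bf, J₀ ≤ J.map (algebraMap B Bf) ∧
        ((Ideal.Quotient.mk J₀).comp ((algebraMap B Bf).comp (algebraMap C B))).Etale := by
  classical
  let q : Ideal B := x.asIdeal.comap (Ideal.Quotient.mk J)
  haveI : q.IsPrime := Ideal.comap_isPrime _ _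
  haveI : Algebra.IsSmoothAt C q := inferInstance
  obtain ⟨m, b, bΩ, hbΩ⟩ := exists_basis_extension C q (r := 0) (fun i => i.elim0)
    linearIndependent_empty_type
  let bΩ' : Module.Basis (Fin m) (Localization.AtPrime q) Ω[Localization.AtPrime q⁄C] :=
    bΩ.reindex (Equiv.emptySum (Fin 0) (Fin m))
  have hc : ∀ j, ∃ c : C, Ideal.Quotient.mk J (algebraMap C B c) = Ideal.Quotient.mk J (b j) :=
    fun j => hsurj _
  choose c hc using hc
  let g : Fin m → B := fun j => b j - algebraMap C B (c j)
  have hgJ : ∀ j, g j ∈ J := by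
    intro j
    rw [← Ideal.Quotient.eq_zero_iff_mem]
    simp only [g, map_sub, hc, sub_self]
  have hg : ∀ j, bΩ' j =
      D C (Localization.AtPrime q) (algebraMap B (Localization.AtPrime q) (g j)) := by
    intro j
    have h1 : bΩ' j = bΩ (Sum.inr j) := by
      simp [bΩ']
    rw [h1, hbΩ]
    simp only [Sum.elim_inr, g, map_sub]
    rw [← IsScalarTower.algebraMap_apply C B (Localization.AtPrime q), Derivation.map_algebraMap,
      sub_zero]
  have hu : LinearIndependent (ResidueField (Localization.AtPrime q))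
      (fun i => (1 : ResidueField (Localization.AtPrime q)) ⊗ₜ[Localization.AtPrime q]
        D C (Localization.AtPrime q) (algebraMap B (Localization.AtPrime q) (g i))) := by
    have h1 := (bΩ'.baseChange (ResidueField (Localization.AtPrime q))).linearIndependent
    convert h1 using 1
    funext i
    rw [Module.Basis.baseChange_apply, hg]
  obtain ⟨f, hfq, m', b', hrank, hf⟩ := exists_etale_slice C q g hu
  have hm' : m' = 0 := by
    rw [Module.finrank_eq_card_basis bΩ'] at hrank
    simp at hrank
    exact hrank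
  subst hm'
  refine ⟨f, hfq, ?_⟩
  intro Bf _ _ _
  obtain ⟨-, hét⟩ := hf f dvd_rfl Bf
  refine ⟨Ideal.span (Set.range fun i => algebraMap B Bf (g i)), ?_, ?_⟩
  · rw [Ideal.span_le]
    rintro _ ⟨i, rfl⟩
    exact Ideal.mem_map_of_mem _ (hgJ i)
  · have h0 : (MvPolynomial.C : C →+* MvPolynomial (Fin 0) C).Etale :=
      RingHom.Etale.of_bijective (MvPolynomial.isEmptyAlgEquiv C (Fin 0)).symm.bijective
    have h1 := RingHom.Etale.stableUnderComposition _ _ h0 hét
    convert h1 using 1
    ext r
    simp

section Transport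

variable {C : Type v} {C' : Type v'} {Q : Type w} {Q' : Type w'} [CommRing C] [CommRing C']
  [CommRing Q] [CommRing Q']

/-- Étaleness of ring maps transports along ring isomorphisms (across universes). -/
theorem etale_transport (eC : C ≃+* C') (eQ : Q ≃+* Q') (ψ : C →+* Q) (ψ' : C' →+* Q')
    (h : ∀ c, eQ (ψ c) = ψ' (eC c)) (hψ' : ψ'.Etale) : ψ.Etale := by
  letI : Algebra C C' := eC.toRingHom.toAlgebra
  letI : Algebra C' Q' := ψ'.toAlgebra
  letI : Algebra C Q' := (ψ'.comp eC.toRingHom).toAlgebra
  letI : Algebra C Q := ψ.toAlgebra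
  haveI : IsScalarTower C C' Q' := IsScalarTower.of_algebraMap_eq' rfl
  haveI : Algebra.Etale C' Q' := hψ'
  haveI : Algebra.Etale C C' :=
    Algebra.Etale.of_equiv (R := C) (A := C)
      ({ eC with commutes' := fun _ => rfl } : C ≃ₐ[C] C')
  haveI : Algebra.Etale C Q' := Algebra.Etale.comp C C' Q'
  exact Algebra.Etale.of_equiv (R := C) (A := Q')
    ({ eQ.symm with
        commutes' := fun c => by
          change eQ.symm (ψ' (eC c)) = ψ c
          rw [← h, RingEquiv.symm_apply_apply] } : Q' ≃ₐ[C] Q)

/-- Smoothness of ring maps transports along ring isomorphisms (across universes). -/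
theorem smooth_transport (eC : C ≃+* C') (eQ : Q ≃+* Q') (ψ : C →+* Q) (ψ' : C' →+* Q')
    (h : ∀ c, eQ (ψ c) = ψ' (eC c)) (hψ' : ψ'.Smooth) : ψ.Smooth := by
  letI : Algebra C C' := eC.toRingHom.toAlgebra
  letI : Algebra C' Q' := ψ'.toAlgebra
  letI : Algebra C Q' := (ψ'.comp eC.toRingHom).toAlgebra
  letI : Algebra C Q := ψ.toAlgebra
  haveI : IsScalarTower C C' Q' := IsScalarTower.of_algebraMap_eq' rfl
  haveI : Algebra.Smooth C' Q' := hψ'
  haveI : Algebra.Smooth C C' :=
    Algebra.Smooth.of_equiv (R := C) (A := C)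
      ({ eC with commutes' := fun _ => rfl } : C ≃ₐ[C] C')
  haveI : Algebra.Smooth C Q' := Algebra.Smooth.comp C C' Q'
  exact Algebra.Smooth.of_equiv (R := C) (A := Q')
    ({ eQ.symm with
        commutes' := fun c => by
          change eQ.symm (ψ' (eC c)) = ψ c
          rw [← h, RingEquiv.symm_apply_apply] } : Q' ≃ₐ[C] Q)

end Transport

end Groth.Agent.Lib.Seat18.QuotEtale
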