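import Mathlib
import Groth.Prelude.Def_Curv2
import Groth.Agent.Lib.Helper6GeomInt
import Groth.Agent.Lib.Helper6SepCl2
import Groth.Agent.Lib.Helper6GeomComp3
import Groth.Agent.Lib.Helper12GeomConn
import Groth.Agent.Lib.Helper11SmInt

/-!
# An integral scheme of finite type over a field with a smooth rational point is geometrically
integral (seat 18)
-/

set_option linter.style.haveILetI false
set_option autoImplicit false

universe u
open CategoryTheory CategoryTheory.Limits AlgebraicGeometry TensorProduct

namespace Groth.Agent.Lib.Seat18.RatPtGeomInt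

/-- A rational point gives a section of the structure morphism. -/
theorem exists_section_of_resMap_surjective (k : Type u) [Field k] (X : Scheme.{u})
    [X.Over (Spec (CommRingCat.of k))] (x : X)
    (hx : Function.Surjective (Curv2.resMap k X x)) :
    ∃ σ : Spec (CommRingCat.of k) ⟶ X, σ ≫ (X ↘ Spec (CommRingCat.of k)) = 𝟙 _ ∧
      Set.range σ = {x} := by
  have hbij : Function.Bijective (Curv2.resMap k X x) := ⟨(Curv2.resMap k X x).injective, hx⟩
  let e : k ≃+* X.residueField x := RingEquiv.ofBijective _ hbij
  refine ⟨Spec.map (CommRingCat.ofHom e.symm.toRingHom) ≫ X.fromSpecResidueField x, ?_, ?_⟩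
  · rw [Category.assoc, ← Groth.Agent.Lib.Helper6.GeomComp.specMap_resMap k X x, ← Spec.map_comp,
      ← Spec.map_id]
    congr 1
    ext c
    exact e.symm_apply_apply c
  · ext z
    constructor
    · rintro ⟨t, rfl⟩
      rw [Scheme.Hom.comp_apply, Scheme.fromSpecResidueField_apply]
      rfl
    · rintro rfl
      haveI : Nonempty (Spec (CommRingCat.of k)) := inferInstance
      obtain ⟨t⟩ := (inferInstance : Nonempty (Spec (CommRingCat.of k)))
      exact ⟨t, by rw [Scheme.Hom.comp_apply, Scheme.fromSpecResidueField_apply]⟩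

theorem main (k : Type u) [Field k] (X : Scheme.{u}) [X.Over (Spec (CommRingCat.of k))]
    [IsIntegral X] [LocallyOfFiniteType (X ↘ (Spec (CommRingCat.of k)))]
    [QuasiCompact (X ↘ (Spec (CommRingCat.of k)))]
    (x : ↥X) (hx : Function.Surjective (Curv2.resMap k X x))
    (hsm : x ∈ (X ↘ (Spec (CommRingCat.of k))).smoothLocus) :
    GeometricallyIntegral (X ↘ (Spec (CommRingCat.of k))) := by
  let f : X ⟶ Spec (CommRingCat.of k) := X ↘ (Spec (CommRingCat.of k))
  let U : X.Opens := f.smoothLocus
  haveI : Nonempty U := ⟨⟨x, hsm⟩⟩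
  -- `X` is Noetherian
  haveI : IsLocallyNoetherian X := LocallyOfFiniteType.isLocallyNoetherian f
  haveI : CompactSpace X := QuasiCompact.compactSpace_of_compactSpace f
  haveI : IsNoetherian X := {}
  haveI : TopologicalSpace.NoetherianSpace U :=
    U.ι.isOpenEmbedding.isInducing.noetherianSpace
  -- `U` is smooth over `k`
  have hUsm : Smooth (U.ι ≫ f) := by
    rw [← Scheme.Hom.smoothLocus_eq_top_iff, ← Scheme.Hom.preimage_smoothLocus_eq]
    exact U.ι_preimage_self
  -- the section
  obtain ⟨σ, hσf, hσr⟩ := exists_section_of_resMap_surjective k X x hx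
  have hσU : Set.range σ ⊆ Set.range U.ι := by
    rw [hσr, Scheme.Opens.range_ι]
    exact Set.singleton_subset_iff.mpr hsm
  let σU : Spec (CommRingCat.of k) ⟶ U := IsOpenImmersion.lift U.ι σ hσU
  have hσU' : σU ≫ (U.ι ≫ f) = 𝟙 _ := by
    rw [← Category.assoc, IsOpenImmersion.lift_fac, hσf]
  haveI : IsIntegral U := inferInstance
  haveI : ConnectedSpace U := inferInstance
  have hgc : GeometricallyConnected (U.ι ≫ f) :=
    Groth.Agent.Lib.Helper12.GeomConn.geometricallyConnected_of_section _ σU hσU'
  -- base change to the algebraic closure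
  let K : Type u := AlgebraicClosure k
  let sK : Spec (CommRingCat.of K) ⟶ Spec (CommRingCat.of k) :=
    Spec.map (CommRingCat.ofHom (algebraMap k K))
  let XK : Scheme.{u} := pullback f sK
  let π : XK ⟶ X := pullback.fst f sK
  let P : Scheme.{u} := pullback π U.ι
  let p1 : P ⟶ XK := pullback.fst π U.ι
  let p2 : P ⟶ U := pullback.snd π U.ι
  let g' : P ⟶ Spec (CommRingCat.of K) := p1 ≫ pullback.snd f sK
  have hP : IsPullback p2 g' (U.ι ≫ f) sK :=
    ((IsPullback.of_hasPullback π U.ι).paste_horiz (IsPullback.of_hasPullback f sK).flip).flip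
  haveI : Smooth g' := MorphismProperty.of_isPullback (P := @Smooth) hP hUsm
  haveI : ConnectedSpace P := hgc.geometrically_connectedSpace sK p2 g' hP
  -- `XK` is Noetherian
  haveI : IsLocallyNoetherian XK := LocallyOfFiniteType.isLocallyNoetherian (pullback.snd f sK)
  haveI : CompactSpace XK := QuasiCompact.compactSpace_of_compactSpace (pullback.snd f sK)
  haveI : IsNoetherian XK := {}
  haveI : IsLocallyNoetherian P := isLocallyNoetherian_of_isOpenImmersion p1
  haveI : TopologicalSpace.NoetherianSpace P := p1.isOpenEmbedding.isInducing.noetherianSpace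
  haveI : CompactSpace P := TopologicalSpace.NoetherianSpace.compactSpace P
  haveI : IsNoetherian P := {}
  haveI : IsIntegral P :=
    Groth.Agent.Lib.Helper11SmInt.isIntegral_of_connected_of_isDomain_stalk
      (fun y => Groth.Agent.Lib.Helper11SmInt.isDomain_stalk_of_smooth K g' y)
  -- `p1` has dense range
  have hUd : Dense (U : Set X) := U.2.dense ⟨x, hsm⟩
  haveI : UniversallyOpen sK := inferInstance
  have hπo : IsOpenMap π := π.isOpenMap
  have hrange : Set.range p1 = π ⁻¹' (U : Set X) := by
    rw [Scheme.Pullback.range_fst, Scheme.Opens.range_ι]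
  have hdense : Dense (Set.range p1) := by
    rw [hrange]
    exact hUd.preimage hπo
  -- `XK` is irreducible
  haveI : IrreducibleSpace XK := by
    have h1 : IsIrreducible (Set.range p1) := by
      rw [← Set.image_univ]
      exact (IrreducibleSpace.isIrreducible_univ P).image p1 p1.continuous.continuousOn
    have h2 : IsIrreducible (closure (Set.range p1)) := h1.closure
    rw [hdense.closure_eq] at h2
    exact (irreducibleSpace_def _).mpr h2
  -- `XK` is reduced
  haveI : IsDominant U.ι := ⟨by
    rw [DenseRange, Scheme.Opens.range_ι]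
    exact hUd⟩
  haveI : IsSchemeTheoreticallyDominant U.ι := IsSchemeTheoreticallyDominant.of_isDominant _
  haveI : Flat sK := inferInstance
  haveI : Flat π := inferInstance
  haveI : IsSchemeTheoreticallyDominant p1 :=
    IsSchemeTheoreticallyDominant.of_isPullback (IsPullback.of_hasPullback π U.ι).flip
  haveI : IsReduced XK := IsSchemeTheoreticallyDominant.isReduced p1
  haveI : IsIntegral XK := isIntegral_of_irreducibleSpace_of_isReduced XK
  -- conclude
  letI : XK.Over (Spec (CommRingCat.of K)) := ⟨pullback.snd f sK⟩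
  have hfin := Groth.Agent.Lib.Helper6.SepCl.geometricallyIntegral_of_isAlgClosed K XK
  exact (Groth.Agent.Lib.Helper6.geometricallyIntegral_iff_bcStr (K := K) f).mpr hfin

end Groth.Agent.Lib.Seat18.RatPtGeomInt
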