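import Mathlib
import Groth.Agent.Lib.Seat18ClosedChart

/-!
# Seat 18: the kernel of a section of a smooth algebra is locally generated by a regular sequence

* `isWeaklyRegular_X`: distinct variables form a weakly regular sequence in a polynomial ring over
  any commutative ring.
* `exists_regular_generators_of_section`: for a finitely presented `A`-algebra `B` with a retraction
  `σ : B → A`, smooth at a prime `q ⊇ ker σ`, there is `f ∉ q` such that `(ker σ) B_f` is generated
  by a regular sequence.
-/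

set_option autoImplicit false
set_option linter.style.haveILetI false
universe u

namespace Groth.Agent.Lib.Seat18.RegSec

open MvPolynomial

section Vars

variable {σ : Type*} (A : Type*) [CommRing A] {n : ℕ} (v : Fin n → σ)

theorem ofList_take_ofFn (i : ℕ) :
    Ideal.ofList ((List.ofFn (fun k : Fin n => (X (v k) : MvPolynomial σ A))).take i) =
      Ideal.span (X '' (v '' {k : Fin n | k.val < i}) : Set (MvPolynomial σ A)) := by
  unfold Ideal.ofList
  congr 1
  ext p
  simp only [Set.mem_ofPred_eq, List.mem_take_iff_getElem, List.length_ofFn, List.getElem_ofFn,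
    Set.mem_image]
  constructor
  · rintro ⟨j, hj, rfl⟩
    have hj' : j < i ∧ j < n := by
      rw [lt_min_iff] at hj
      exact hj
    exact ⟨v ⟨j, hj'.2⟩, ⟨⟨j, hj'.2⟩, hj'.1, rfl⟩, rfl⟩
  · rintro ⟨_, ⟨l, hl, rfl⟩, rfl⟩
    exact ⟨l, lt_min hl l.2, rfl⟩

/-- distinct variables form a weakly regular sequence. -/
theorem isWeaklyRegular_X (hv : Function.Injective v) :
    RingTheory.Sequence.IsWeaklyRegular (MvPolynomial σ A)
      (List.ofFn (fun k : Fin n => (X (v k) : MvPolynomial σ A))) := by
  classical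
  rw [RingTheory.Sequence.isWeaklyRegular_iff]
  intro i hi
  have hi' : i < n := by simpa using hi
  rw [isSMulRegular_iff_right_eq_zero_of_smul]
  intro y hy
  obtain ⟨p, rfl⟩ := Submodule.Quotient.mk_surjective _ y
  rw [← Submodule.Quotient.mk_smul, Submodule.Quotient.mk_eq_zero] at hy
  rw [Submodule.Quotient.mk_eq_zero]
  rw [ofList_take_ofFn A v i, smul_eq_mul, Ideal.mul_top] at hy ⊢
  rw [List.getElem_ofFn, smul_eq_mul] at hy
  rw [mem_ideal_span_X_image] at hy ⊢
  intro m hm
  have hm' : Finsupp.single (v ⟨i, hi'⟩) 1 + m ∈ (X (v ⟨i, hi'⟩) * p).support := by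
    rw [mem_support_iff, coeff_X_mul]
    exact mem_support_iff.mp hm
  obtain ⟨j, ⟨k, hk, rfl⟩, hj⟩ := hy _ hm'
  refine ⟨v k, ⟨k, hk, rfl⟩, ?_⟩
  have hne : v ⟨i, hi'⟩ ≠ v k := by
    intro h
    have := hv h
    have hk' : k.val < i := hk
    rw [← this] at hk'
    exact lt_irrefl _ hk'
  rwa [Finsupp.add_apply, Finsupp.single_eq_of_ne hne.symm, zero_add] at hj

end Vars

section Main

variable (A : Type u) {B : Type u} [CommRing A] [CommRing B] [Algebra A B]

set_option maxHeartbeats 1000000 in
/-- the kernel of a retraction of a finitely presented algebra, smooth at a prime containing the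
kernel, is generated by a regular sequence on a basic open neighbourhood of that prime. -/
theorem exists_regular_generators_of_section [Algebra.FinitePresentation A B]
    (σ : B →+* A) (hσ : ∀ a, σ (algebraMap A B a) = a)
    (q : Ideal B) [q.IsPrime] (hq : RingHom.ker σ ≤ q) [Algebra.IsSmoothAt A q] :
    ∃ f : B, f ∉ q ∧ ∀ (Bf : Type u) [CommRing Bf] [Algebra B Bf] [IsLocalization.Away f Bf],
      ∃ rs : List Bf, RingTheory.Sequence.IsRegular Bf rs ∧
        (RingHom.ker σ).map (algebraMap B Bf) = Ideal.ofList rs := by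
  classical
  let σA : B →ₐ[A] A := { σ with commutes' := hσ }
  have hσsurj : Function.Surjective σA := fun a => ⟨algebraMap A B a, hσ a⟩
  have hker : RingHom.ker σ = RingHom.ker σA := Ideal.ext fun x => Iff.rfl
  rw [hker] at hq ⊢
  have hJ : (RingHom.ker σA).FG :=
    Algebra.FinitePresentation.ker_fG_of_surjective σA hσsurj
  let e : (B ⧸ RingHom.ker σA) ≃ₐ[A] A := Ideal.quotientKerAlgEquivOfSurjective hσsurj
  haveI : Algebra.Smooth A A := {}
  haveI : Algebra.Smooth A (B ⧸ RingHom.ker σA) := Algebra.Smooth.of_equiv e.symm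
  obtain ⟨m, n, b, g, f, hfq, hg, H⟩ :=
    Groth.Agent.Lib.Seat18.ClosedChart.exists_chart_of_smooth_quotient A (RingHom.ker σA) hJ q hq
  refine ⟨f, hfq, ?_⟩
  intro Bf _ _ _
  obtain ⟨hét, hspan⟩ := H f dvd_rfl Bf
  set ψ : MvPolynomial (Fin m ⊕ Fin n) A →+* Bf := (algebraMap B Bf).comp
    (MvPolynomial.aeval (Sum.elim b g) : MvPolynomial (Fin m ⊕ Fin n) A →ₐ[A] B).toRingHom with hψ
  letI : Algebra (MvPolynomial (Fin m ⊕ Fin n) A) Bf := ψ.toAlgebra
  haveI : Algebra.Etale (MvPolynomial (Fin m ⊕ Fin n) A) Bf := RingHom.etale_algebraMap.mp hét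
  haveI : Module.Flat (MvPolynomial (Fin m ⊕ Fin n) A) Bf := inferInstance
  have hw := (isWeaklyRegular_X A (fun k : Fin n => (Sum.inr k : Fin m ⊕ Fin n))
    Sum.inr_injective).of_flat (S := Bf)
  have hmap : (List.ofFn (fun k : Fin n => (X (Sum.inr k) : MvPolynomial (Fin m ⊕ Fin n) A))).map
      (algebraMap (MvPolynomial (Fin m ⊕ Fin n) A) Bf) =
      List.ofFn (fun k : Fin n => algebraMap B Bf (g k)) := by
    rw [List.map_ofFn]
    congr 1
    funext k
    simp [RingHom.algebraMap_toAlgebra, hψ]
  rw [hmap] at hw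
  have hofList : Ideal.ofList (List.ofFn (fun k : Fin n => algebraMap B Bf (g k))) =
      Ideal.span (Set.range fun k => algebraMap B Bf (g k)) := by
    unfold Ideal.ofList
    congr 1
    ext x
    simp [List.mem_ofFn]
  refine ⟨List.ofFn (fun k : Fin n => algebraMap B Bf (g k)), ⟨hw, ?_⟩, ?_⟩
  · rw [smul_eq_mul, Ideal.mul_top, hofList, ← hspan]
    intro htop
    have hqf : (q.map (algebraMap B Bf)).IsPrime :=
      IsLocalization.isPrime_of_isPrime_disjoint (.powers f) _ _ ‹_›
        ((Ideal.disjoint_powers_iff_notMem_of_isPrime _).mpr hfq)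
    exact hqf.ne_top (top_le_iff.mp (htop ▸ Ideal.map_mono hq))
  · rw [hofList, hspan]

end Main

end Groth.Agent.Lib.Seat18.RegSec
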