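import Mathlib
import Groth.Prelude.Def_CurvBase

/-!
# Seat 18: residue field separable over the base field at a ramified point (algebra part)

`R → S` a local homomorphism of local `k`-algebras with `𝔪_R S ⊆ 𝔪_S ^ 2`, residue field
extension formally smooth (e.g. separable), `Ω[S⁄k]` cyclic and `𝔪_S ≠ 𝔪_S ^ 2`.  Then
`Ω[κ(S)⁄k] = 0`.
-/

universe u

open IsLocalRing AlgebraicGeometry CategoryTheory

namespace Groth.Agent.Lib.Seat18.TameSep

section Algebra

variable {k R S : Type u} [Field k] [CommRing R] [CommRing S] [IsLocalRing R] [IsLocalRing S]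
  [Algebra k R] [Algebra k S]

/-- Key algebraic statement. -/
theorem subsingleton_kaehler_residueField (g : R →ₐ[k] S) [IsLocalHom g.toRingHom]
    (h2 : (maximalIdeal R).map g.toRingHom ≤ maximalIdeal S ^ 2)
    (hsm : @Algebra.FormallySmooth (ResidueField R) (ResidueField S) _ _
      (ResidueField.map g.toRingHom).toAlgebra)
    (ω : Ω[S⁄k]) (hω : Submodule.span S {ω} = ⊤)
    (a : S) (ha : a ∈ maximalIdeal S) (ha2 : a ∉ maximalIdeal S ^ 2) :
    Subsingleton (Ω[ResidueField S⁄k]) := by
  classical
  set I : Ideal S := maximalIdeal S ^ 2 with hI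
  have hIm : I ≤ maximalIdeal S := Ideal.pow_le_self two_ne_zero
  -- the truncation `S₂ = S / 𝔪²` and its maps
  let π : S →ₐ[k] S ⧸ I := Ideal.Quotient.mkₐ k I
  let res₂ : S ⧸ I →ₐ[k] ResidueField S := Ideal.Quotient.factorₐ k hIm
  -- the map from the residue field of `R`
  let φ₀ : ResidueField R →ₐ[k] S ⧸ I :=
    Ideal.Quotient.liftₐ (maximalIdeal R) (π.comp g) (by
      intro r hr
      have : g r ∈ I := h2 (Ideal.mem_map_of_mem _ hr)
      simpa [π, Ideal.Quotient.eq_zero_iff_mem] using this)
  let alg1 : Algebra (ResidueField R) (ResidueField S) := (ResidueField.map g.toRingHom).toAlgebra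
  let alg2 : Algebra (ResidueField R) (S ⧸ I) := φ₀.toRingHom.toAlgebra
  have hres : ∀ z : ResidueField R, res₂ (φ₀ z) = ResidueField.map g.toRingHom z := by
    intro z
    obtain ⟨r, rfl⟩ := Ideal.Quotient.mk_surjective z
    rfl
  let res₂' : S ⧸ I →ₐ[ResidueField R] ResidueField S :=
    { res₂.toRingHom with
      commutes' := fun z => hres z }
  have hsurj : Function.Surjective res₂' := Ideal.Quotient.factor_surjective hIm
  have hker : RingHom.ker (res₂' : S ⧸ I →+* ResidueField S) =
      (maximalIdeal S).map (Ideal.Quotient.mk I) := Ideal.Quotient.factor_ker hIm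
  have hsq : ((maximalIdeal S).map (Ideal.Quotient.mk I)) ^ 2 = ⊥ := by
    rw [← Ideal.map_pow, ← hI, Ideal.map_quotient_self]
  have hnil : IsNilpotent (RingHom.ker (res₂' : S ⧸ I →+* ResidueField S)) := by
    rw [hker]; exact ⟨2, hsq⟩
  let σ : ResidueField S →ₐ[ResidueField R] S ⧸ I :=
    Algebra.FormallySmooth.liftOfSurjective (AlgHom.id _ _) res₂' hsurj hnil
  have hσ : ∀ z, res₂ (σ z) = z := fun z =>
    Algebra.FormallySmooth.liftOfSurjective_apply (AlgHom.id _ _) res₂' hsurj hnil z
  -- `σ` is a `k`-algebra map
  have hσk : ∀ c : k, σ (algebraMap k (ResidueField S) c) = algebraMap k (S ⧸ I) c := by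
    intro c
    have h1 : algebraMap k (ResidueField S) c =
        algebraMap (ResidueField R) (ResidueField S) (algebraMap k (ResidueField R) c) := by
      change _ = ResidueField.map g.toRingHom (residue R (algebraMap k R c))
      rw [ResidueField.map_residue]
      change _ = residue S (g (algebraMap k R c))
      rw [g.commutes]; rfl
    rw [h1, σ.commutes]
    change φ₀ (algebraMap k (ResidueField R) c) = _
    rw [φ₀.commutes]
  -- the second lift of the residue map
  let ρ : S →ₐ[k] S ⧸ I :=
    { (σ.toRingHom.comp (residue S)) with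
      commutes' := fun c => by
        change σ (residue S (algebraMap k S c)) = _
        exact hσk c }
  set J : Ideal (S ⧸ I) := (maximalIdeal S).map (Ideal.Quotient.mk I) with hJ
  have hρ : (Ideal.Quotient.mkₐ k J).comp ρ = IsScalarTower.toAlgHom k S ((S ⧸ I) ⧸ J) := by
    ext s
    change Ideal.Quotient.mk J (σ (residue S s)) = Ideal.Quotient.mk J (Ideal.Quotient.mk I s)
    rw [Ideal.Quotient.eq, ← hker, RingHom.mem_ker, map_sub]
    change res₂ (σ (residue S s)) - res₂ (Ideal.Quotient.mk I s) = 0
    rw [hσ]; exact sub_self _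
  let D : Derivation k S J := derivationToSquareZeroOfLift J hsq ρ hρ
  have hDa : (D a : S ⧸ I) = - Ideal.Quotient.mk I a := by
    rw [derivationToSquareZeroOfLift_apply]
    change σ (residue S a) - Ideal.Quotient.mk I a = _
    rw [(residue_eq_zero_iff a).mpr ha, map_zero, zero_sub]
  have hDa0 : D a ≠ 0 := by
    intro h0
    apply ha2
    have : (D a : S ⧸ I) = 0 := by rw [h0]; rfl
    rw [hDa, neg_eq_zero, Ideal.Quotient.eq_zero_iff_mem] at this
    exact this
  -- `da = λ ω` with `λ` a unit
  have hmem : KaehlerDifferential.D k S a ∈ Submodule.span S {ω} := by rw [hω]; trivial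
  obtain ⟨l, hl⟩ := Submodule.mem_span_singleton.mp hmem
  have hlunit : IsUnit l := by
    by_contra hl'
    apply hDa0
    have hlm : l ∈ maximalIdeal S := (mem_maximalIdeal l).mpr hl'
    have : D a = D.liftKaehlerDifferential (KaehlerDifferential.D k S a) := by
      rw [Derivation.liftKaehlerDifferential_comp_D]
    rw [this, ← hl, map_smul]
    ext
    rw [Submodule.coe_smul_of_tower, Algebra.smul_def]
    have h1 : algebraMap S (S ⧸ I) l ∈ J := Ideal.mem_map_of_mem _ hlm
    have h2' : ((D.liftKaehlerDifferential ω : J) : S ⧸ I) ∈ J := (D.liftKaehlerDifferential ω).2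
    have : algebraMap S (S ⧸ I) l * ((D.liftKaehlerDifferential ω : J) : S ⧸ I) ∈ J ^ 2 := by
      rw [pow_two]; exact Ideal.mul_mem_mul h1 h2'
    rw [hsq] at this
    simpa using this
  -- conclude
  have hsurjΩ := KaehlerDifferential.map_surjective_of_surjective k k S (ResidueField S)
    (Ideal.Quotient.mk_surjective)
  refine ⟨fun x y => ?_⟩
  have key : ∀ z : Ω[ResidueField S⁄k], z = 0 := by
    intro z
    obtain ⟨w, rfl⟩ := hsurjΩ z
    have hw : w ∈ Submodule.span S {ω} := by rw [hω]; trivial
    obtain ⟨c, rfl⟩ := Submodule.mem_span_singleton.mp hw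
    have hω' : ω = (hlunit.unit⁻¹ : Sˣ) • KaehlerDifferential.D k S a := by
      rw [← hl, Units.smul_def, smul_smul, IsUnit.val_inv_mul, one_smul]
    rw [hω', map_smul, Units.smul_def, map_smul, KaehlerDifferential.map_D]
    have : algebraMap S (ResidueField S) a = 0 := (residue_eq_zero_iff a).mpr ha
    rw [this, map_zero, smul_zero, smul_zero]
  rw [key x, key y]

end Algebra

section Chart

variable (k A : Type u) [Field k] [CommRing A] [Algebra k A]

/-- The `k`-algebra map `k[X] → k[X₀]` is injective. -/
theorem aeval_X_injective :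
    Function.Injective (Polynomial.aeval (R := k) (MvPolynomial.X (0 : Fin 1) : MvPolynomial (Fin 1) k)) := by
  have : ((MvPolynomial.aeval (fun _ : Fin 1 => (Polynomial.X : Polynomial k))).comp
      (Polynomial.aeval (R := k) (MvPolynomial.X (0 : Fin 1) : MvPolynomial (Fin 1) k))) =
      AlgHom.id k _ := by
    ext; simp
  intro f g hfg
  have h1 := AlgHom.congr_fun this f
  have h2 := AlgHom.congr_fun this g
  simp only [AlgHom.comp_apply, AlgHom.id_apply] at h1 h2
  rw [← h1, ← h2, hfg]

theorem chart_props [Algebra.IsStandardSmoothOfRelativeDimension 1 k A] (m : Ideal A) [m.IsMaximal]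
    (S : Type u) [CommRing S] [Algebra A S] [Algebra k S] [IsScalarTower k A S]
    [IsLocalization.AtPrime S m] [IsLocalRing S] :
    (∃ ω : Ω[S⁄k], Submodule.span S {ω} = ⊤) ∧ maximalIdeal S ≠ ⊥ := by
  classical
  obtain ⟨φ, hφ⟩ := Algebra.IsStandardSmoothOfRelativeDimension.exists_etale_mvPolynomial 1 k A
  let P := MvPolynomial (Fin 1) k
  let algPA : Algebra P A := φ.toRingHom.toAlgebra
  have : IsScalarTower k P A := IsScalarTower.of_algebraMap_eq' φ.comp_algebraMap.symm
  have etPA : Algebra.Etale P A := by
    rw [← RingHom.etale_algebraMap]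
    exact hφ
  let algPS : Algebra P S := ((algebraMap A S).comp (algebraMap P A)).toAlgebra
  have : IsScalarTower P A S := IsScalarTower.of_algebraMap_eq' rfl
  have : IsScalarTower k P S := IsScalarTower.of_algebraMap_eq (fun c => by
    rw [IsScalarTower.algebraMap_apply P A S, ← IsScalarTower.algebraMap_apply k P A,
      ← IsScalarTower.algebraMap_apply k A S])
  have : Algebra.FormallyEtale A S := Algebra.FormallyEtale.of_isLocalization m.primeCompl
  have : Algebra.FormallyEtale P S := Algebra.FormallyEtale.comp P A S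
  have : Module.Flat A S := IsLocalization.flat S m.primeCompl
  have : Module.Flat P S := Module.Flat.trans P A S
  refine ⟨⟨KaehlerDifferential.D k S (algebraMap P S (MvPolynomial.X 0)), ?_⟩, ?_⟩
  · -- cyclicity of the differentials
    have hex := KaehlerDifferential.exact_mapBaseChange_map k P S
    have hsurj : Function.Surjective (KaehlerDifferential.mapBaseChange k P S) := by
      intro z
      have : KaehlerDifferential.map k P S S z = 0 := Subsingleton.elim _ _
      exact (hex z).mp this
    rw [eq_top_iff]
    rintro z -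
    obtain ⟨t, rfl⟩ := hsurj z
    induction t using TensorProduct.induction_on with
    | zero => simp
    | add x y hx hy => rw [map_add]; exact Submodule.add_mem _ hx hy
    | tmul s η =>
      rw [KaehlerDifferential.mapBaseChange_tmul]
      refine Submodule.smul_mem _ _ ?_
      have hη : η ∈ Submodule.span P (Set.range (KaehlerDifferential.mvPolynomialBasis k (Fin 1))) := by
        rw [(KaehlerDifferential.mvPolynomialBasis k (Fin 1)).span_eq]; trivial
      induction hη using Submodule.span_induction with
      | mem x hx =>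
        obtain ⟨i, rfl⟩ := hx
        rw [KaehlerDifferential.mvPolynomialBasis_apply, KaehlerDifferential.map_D]
        have : i = 0 := Subsingleton.elim _ _
        subst this
        exact Submodule.subset_span rfl
      | zero => simp
      | add x y _ _ hx hy => rw [map_add]; exact Submodule.add_mem _ hx hy
      | smul c x _ hx =>
        rw [LinearMap.map_smul_of_tower, algebra_compatible_smul S c]
        exact Submodule.smul_mem _ _ hx
  · -- the maximal ideal is nonzero
    have : Algebra.IsStandardSmooth k A :=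
      Algebra.IsStandardSmoothOfRelativeDimension.isStandardSmooth 1
    have : Algebra.FiniteType k A := inferInstance
    let : Field (A ⧸ m) := Ideal.Quotient.field m
    have : Module.Finite k (A ⧸ m) := finite_of_finite_type_of_isJacobsonRing k (A ⧸ m)
    let t : A ⧸ m := Ideal.Quotient.mk m (algebraMap P A (MvPolynomial.X 0))
    have ht : IsIntegral k t := Algebra.IsIntegral.isIntegral t
    let f := minpoly k t
    have hf0 : f ≠ 0 := minpoly.ne_zero ht
    let p : P := Polynomial.aeval (MvPolynomial.X (0 : Fin 1) : P) f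
    have hp0 : p ≠ 0 := fun h => hf0 (aeval_X_injective k (by rw [map_zero]; exact h))
    have hpm : algebraMap P A p ∈ m := by
      rw [← Ideal.Quotient.eq_zero_iff_mem]
      have : Ideal.Quotient.mk m (algebraMap P A p) =
          ((Ideal.Quotient.mkₐ k m).comp (IsScalarTower.toAlgHom k P A)) p := rfl
      rw [this, ← Polynomial.aeval_algHom_apply]
      exact minpoly.aeval k t
    have hmem : algebraMap P S p ∈ maximalIdeal S := by
      rw [IsScalarTower.algebraMap_apply P A S]
      exact (IsLocalization.AtPrime.to_map_mem_maximal_iff S m _).mpr hpm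
    have hne : algebraMap P S p ≠ 0 := by
      have hreg : IsSMulRegular P p := (IsRegular.of_ne_zero hp0).left.isSMulRegular
      have := IsSMulRegular.of_flat (S := S) hreg
      intro h0
      rw [h0] at this
      have h1 : (0 : S) • (1 : S) = (0 : S) • (0 : S) := by simp
      exact one_ne_zero (this h1)
    intro hbot
    rw [hbot] at hmem
    exact hne hmem

end Chart

section Final

variable (k A : Type u) [Field k] [CommRing A] [Algebra k A]

theorem isSeparable_of_chart [Algebra.IsStandardSmoothOfRelativeDimension 1 k A]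
    (m : Ideal A) [m.IsMaximal]
    (S : Type u) [CommRing S] [Algebra A S] [Algebra k S] [IsScalarTower k A S]
    [IsLocalization.AtPrime S m] [IsLocalRing S]
    (R : Type u) [CommRing R] [IsLocalRing R] [Algebra k R]
    (g : R →ₐ[k] S) [IsLocalHom g.toRingHom] (e : ℕ)
    (he : (maximalIdeal R).map g.toRingHom = maximalIdeal S ^ e) (h2 : 2 ≤ e)
    (hsep : @Algebra.IsSeparable (ResidueField R) (ResidueField S) _ _
      (ResidueField.map g.toRingHom).toAlgebra)
    (algκ : Algebra k (ResidueField S))
    (hκ : ∀ c, algebraMap k (ResidueField S) c = residue S (algebraMap k S c)) :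
    Algebra.IsSeparable k (ResidueField S) := by
  obtain rfl : algκ = ResidueField.algebra S := Algebra.algebra_ext _ _ hκ
  obtain ⟨⟨ω, hω⟩, hne⟩ := chart_props k A m S
  have : Algebra.IsStandardSmooth k A :=
    Algebra.IsStandardSmoothOfRelativeDimension.isStandardSmooth 1
  have : IsNoetherianRing A := Algebra.FiniteType.isNoetherianRing k A
  have : IsNoetherianRing S := IsLocalization.isNoetherianRing m.primeCompl S inferInstance
  have : Algebra.EssFiniteType A S := Algebra.EssFiniteType.of_isLocalization S m.primeCompl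
  have : Algebra.EssFiniteType k S := Algebra.EssFiniteType.comp k A S
  have : Algebra.EssFiniteType k (ResidueField S) := Algebra.EssFiniteType.comp k S _
  -- an element of `𝔪 \ 𝔪²`
  have hne2 : ¬ maximalIdeal S ≤ maximalIdeal S ^ 2 := by
    intro hle
    apply hne
    apply Submodule.eq_bot_of_le_smul_of_le_jacobson_bot (maximalIdeal S) (maximalIdeal S)
      (IsNoetherian.noetherian _)
    · rwa [pow_two, ← smul_eq_mul] at hle
    · exact (maximalIdeal_le_jacobson _)
  obtain ⟨a, ha, ha2⟩ := SetLike.not_le_iff_exists.mp hne2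
  have hsm : @Algebra.FormallySmooth (ResidueField R) (ResidueField S) _ _
      (ResidueField.map g.toRingHom).toAlgebra := by
    let := (ResidueField.map g.toRingHom).toAlgebra
    have := Algebra.FormallyEtale.of_isSeparable (ResidueField R) (ResidueField S)
    infer_instance
  have hsub := subsingleton_kaehler_residueField g
    (he.le.trans (Ideal.pow_le_pow_right h2)) hsm ω hω a ha ha2
  have : Algebra.FormallyUnramified k (ResidueField S) := ⟨hsub⟩
  exact Algebra.FormallyUnramified.isSeparable k (ResidueField S)

end Final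

section Geometry

variable (k : Type u) [Field k] (X : Scheme.{u}) [X.Over (Spec (CommRingCat.of k))]

/-- The ring map `k → Γ(X, V)`. -/
noncomputable def secMap (V : X.Opens) : k →+* Γ(X, V) :=
  (X.presheaf.map (homOfLE (le_top : V ≤ ⊤)).op).hom.comp
    (Coh.toGlobal (X ↘ Spec (CommRingCat.of k)))

theorem exists_chart [SmoothOfRelativeDimension 1 (X ↘ Spec (CommRingCat.of k))] (x : X) :
    ∃ (V : X.Opens) (_ : IsAffineOpen V) (_ : x ∈ V),
      (secMap k X V).IsStandardSmoothOfRelativeDimension 1 := by
  obtain ⟨U, hU, V, hV, hxV, e, h⟩ :=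
    SmoothOfRelativeDimension.exists_isStandardSmoothOfRelativeDimension (n := 1)
      (f := X ↘ Spec (CommRingCat.of k)) x
  have hUtop : U = ⊤ := by
    ext y
    simp only [TopologicalSpace.Opens.coe_top, Set.mem_univ, iff_true]
    have hy : y = (X ↘ Spec (CommRingCat.of k)) x :=
      @Subsingleton.elim (PrimeSpectrum k) _ _ _
    rw [hy]
    exact e hxV
  subst hUtop
  refine ⟨V, hV, hxV, ?_⟩
  let ε : k ≃+* Γ(Spec (CommRingCat.of k), ⊤) :=
    (Scheme.ΓSpecIso (CommRingCat.of k)).symm.commRingCatIsoToRingEquiv
  have hcomp : secMap k X V = (((X ↘ Spec (CommRingCat.of k)).appLE ⊤ V e).hom).comp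
      ε.toRingHom := by
    ext c
    simp only [secMap, Coh.toGlobal, Scheme.Hom.appLE, RingHom.comp_apply]
    rfl
  rw [hcomp]
  exact RingHom.isStandardSmoothOfRelativeDimension_respectsIso.2 _ _ h

attribute [local instance] Curv2.resAlgebra

theorem isSeparable_residueField
    (Y : Scheme.{u}) [Y.Over (Spec (CommRingCat.of k))]
    [SmoothOfRelativeDimension 1 (X ↘ Spec (CommRingCat.of k))]
    (f : X ⟶ Y) (hf : f ≫ (Y ↘ Spec (CommRingCat.of k)) = X ↘ Spec (CommRingCat.of k))
    (x : X) (hx : IsClosed ({x} : Set X)) (e : ℕ)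
    (he : (IsLocalRing.maximalIdeal (Y.presheaf.stalk (f.base x))).map (f.stalkMap x).hom =
      IsLocalRing.maximalIdeal (X.presheaf.stalk x) ^ e)
    (h2 : 2 ≤ e)
    (hsep : @Algebra.IsSeparable (Y.residueField (f.base x)) (X.residueField x) _ _
      (f.residueFieldMap x).hom.toAlgebra) :
    Algebra.IsSeparable k (X.residueField x) := by
  obtain ⟨V, hV, hxV, hstd⟩ := exists_chart k X x
  let algA : Algebra k Γ(X, V) := (secMap k X V).toAlgebra
  let algS : Algebra k (X.presheaf.stalk x) := Curv2.stalkAlgebra k X x
  let algR : Algebra k (Y.presheaf.stalk (f.base x)) := Curv2.stalkAlgebra k Y (f.base x)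
  let algAS : Algebra Γ(X, V) (X.presheaf.stalk x) :=
    TopCat.Presheaf.algebra_section_stalk X.presheaf ⟨x, hxV⟩
  have : Algebra.IsStandardSmoothOfRelativeDimension 1 k Γ(X, V) := hstd
  have : IsScalarTower k Γ(X, V) (X.presheaf.stalk x) := IsScalarTower.of_algebraMap_eq' (by
    ext c
    simp only [RingHom.algebraMap_toAlgebra, Curv2.stalkMap, secMap, RingHom.comp_apply]
    exact (TopCat.Presheaf.germ_res_apply X.presheaf _ x hxV _).symm)
  have hmax : (hV.primeIdealOf ⟨x, hxV⟩).asIdeal.IsMaximal :=
    hV.primeIdealOf_isMaximal_of_isClosed ⟨x, hxV⟩ hx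
  have hloc : IsLocalization.AtPrime (X.presheaf.stalk x) (hV.primeIdealOf ⟨x, hxV⟩).asIdeal :=
    hV.isLocalization_stalk ⟨x, hxV⟩
  let g : Y.presheaf.stalk (f.base x) →ₐ[k] X.presheaf.stalk x :=
    { (f.stalkMap x).hom with
      commutes' := fun c => by
        simp only [RingHom.algebraMap_toAlgebra, Curv2.stalkMap, RingHom.comp_apply, Coh.toGlobal]
        refine (Scheme.Hom.germ_stalkMap_apply f ⊤ x trivial _).trans ?_
        have h2 : ∀ z, f.appTop.hom ((Y ↘ Spec (CommRingCat.of k)).appTop.hom z) =
            (X ↘ Spec (CommRingCat.of k)).appTop.hom z := by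
          intro z
          rw [← hf, Scheme.Hom.comp_appTop]
          rfl
        exact congrArg _ (h2 _) }
  have : IsLocalHom g.toRingHom := inferInstanceAs (IsLocalHom (f.stalkMap x).hom)
  exact isSeparable_of_chart k Γ(X, V) (hV.primeIdealOf ⟨x, hxV⟩).asIdeal
    (X.presheaf.stalk x) (Y.presheaf.stalk (f.base x)) g e he h2 hsep _ (fun c => rfl)

end Geometry

end Groth.Agent.Lib.Seat18.TameSep
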