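import Mathlib
import Groth.Prelude.Def_CurvBase
import Groth.Agent.Lib.Seat18TameSep

/-!
# Seat 18: the local ring of a smooth curve at a closed point with separable residue field

Ring level: `A` standard smooth of relative dimension one over a field `k`, `m` a maximal ideal,
`S = A_m`, `κ(S)/k` separable.  Then `𝔪_S` is principal, nonzero, and `Ω[S⁄k]` is free of rank one
on `d s` for every generator (or irreducible element) `s`.
-/

universe u

open IsLocalRing AlgebraicGeometry CategoryTheory TensorProduct

namespace Groth.Agent.Lib.Seat18.SmCurve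

open Groth.Agent.Lib.Seat18.TameSep

section Deriv

variable {k S : Type u} [Field k] [CommRing S] [IsLocalRing S] [Algebra k S]

/-- If the residue field is formally smooth over `k`, an element `b ∈ 𝔪` with `d b ∈ 𝔪 Ω` lies in
`𝔪 ^ 2`. -/
theorem mem_sq_of_D_mem_smul [Algebra.FormallySmooth k (ResidueField S)]
    (b : S) (hb : b ∈ maximalIdeal S)
    (hd : KaehlerDifferential.D k S b ∈ (maximalIdeal S) • (⊤ : Submodule S (Ω[S⁄k]))) :
    b ∈ maximalIdeal S ^ 2 := by
  classical
  set I : Ideal S := maximalIdeal S ^ 2 with hI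
  have hIm : I ≤ maximalIdeal S := Ideal.pow_le_self two_ne_zero
  let res₂ : S ⧸ I →ₐ[k] ResidueField S := Ideal.Quotient.factorₐ k hIm
  have hsurj : Function.Surjective res₂ := Ideal.Quotient.factor_surjective hIm
  have hker : RingHom.ker (res₂ : S ⧸ I →+* ResidueField S) =
      (maximalIdeal S).map (Ideal.Quotient.mk I) := Ideal.Quotient.factor_ker hIm
  have hsq : ((maximalIdeal S).map (Ideal.Quotient.mk I)) ^ 2 = ⊥ := by
    rw [← Ideal.map_pow, ← hI, Ideal.map_quotient_self]
  have hnil : IsNilpotent (RingHom.ker (res₂ : S ⧸ I →+* ResidueField S)) := by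
    rw [hker]; exact ⟨2, hsq⟩
  let σ : ResidueField S →ₐ[k] S ⧸ I :=
    Algebra.FormallySmooth.liftOfSurjective (AlgHom.id _ _) res₂ hsurj hnil
  have hσ : ∀ z, res₂ (σ z) = z := fun z =>
    Algebra.FormallySmooth.liftOfSurjective_apply (AlgHom.id _ _) res₂ hsurj hnil z
  let ρ : S →ₐ[k] S ⧸ I := σ.comp (IsScalarTower.toAlgHom k S (ResidueField S))
  set J : Ideal (S ⧸ I) := (maximalIdeal S).map (Ideal.Quotient.mk I) with hJ
  have hρ : (Ideal.Quotient.mkₐ k J).comp ρ = IsScalarTower.toAlgHom k S ((S ⧸ I) ⧸ J) := by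
    ext s
    change Ideal.Quotient.mk J (σ (residue S s)) = Ideal.Quotient.mk J (Ideal.Quotient.mk I s)
    rw [Ideal.Quotient.eq, ← hker, RingHom.mem_ker, map_sub]
    change res₂ (σ (residue S s)) - res₂ (Ideal.Quotient.mk I s) = 0
    rw [hσ]; exact sub_self _
  let D : Derivation k S J := derivationToSquareZeroOfLift J hsq ρ hρ
  have hDb : (D b : S ⧸ I) = - Ideal.Quotient.mk I b := by
    rw [derivationToSquareZeroOfLift_apply]
    change σ (residue S b) - Ideal.Quotient.mk I b = _
    rw [(residue_eq_zero_iff b).mpr hb, map_zero, zero_sub]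
  -- the linear map kills `𝔪 Ω`
  have hkill : ∀ w ∈ (maximalIdeal S) • (⊤ : Submodule S (Ω[S⁄k])),
      D.liftKaehlerDifferential w = 0 := by
    intro w hw
    refine Submodule.smul_induction_on hw (fun r hr n _ => ?_) (fun x y hx hy => ?_)
    · rw [map_smul]
      ext
      rw [Submodule.coe_smul_of_tower, Algebra.smul_def]
      have h1 : algebraMap S (S ⧸ I) r ∈ J := Ideal.mem_map_of_mem _ hr
      have h2' : ((D.liftKaehlerDifferential n : J) : S ⧸ I) ∈ J := (D.liftKaehlerDifferential n).2
      have : algebraMap S (S ⧸ I) r * ((D.liftKaehlerDifferential n : J) : S ⧸ I) ∈ J ^ 2 := by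
        rw [pow_two]; exact Ideal.mul_mem_mul h1 h2'
      rw [hsq] at this
      simpa using this
    · rw [map_add, hx, hy, add_zero]
  have h0 : D b = 0 := by
    have : D b = D.liftKaehlerDifferential (KaehlerDifferential.D k S b) := by
      rw [Derivation.liftKaehlerDifferential_comp_D]
    rw [this, hkill _ hd]
  have : (D b : S ⧸ I) = 0 := by rw [h0]; rfl
  rw [hDb, neg_eq_zero, Ideal.Quotient.eq_zero_iff_mem] at this
  exact this

end Deriv

section Structure

variable (k A : Type u) [Field k] [CommRing A] [Algebra k A]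

/-- A basis of the differentials of the stalk. -/
theorem chart_basis [Algebra.IsStandardSmoothOfRelativeDimension 1 k A] (m : Ideal A) [m.IsPrime]
    (S : Type u) [CommRing S] [Algebra A S] [Algebra k S] [IsScalarTower k A S]
    [IsLocalization.AtPrime S m] :
    ∃ t : S, Function.Bijective (fun r : S => r • KaehlerDifferential.D k S t) := by
  classical
  obtain ⟨φ, hφ⟩ := Algebra.IsStandardSmoothOfRelativeDimension.exists_etale_mvPolynomial 1 k A
  let P := MvPolynomial (Fin 1) k
  let algPA : Algebra P A := φ.toRingHom.toAlgebra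
  have : IsScalarTower k P A := IsScalarTower.of_algebraMap_eq' φ.comp_algebraMap.symm
  have etPA : Algebra.Etale P A := by
    rw [← RingHom.etale_algebraMap]
    exact hφ
  let algPS : Algebra P S := ((algebraMap A S).comp (algebraMap P A)).toAlgebra
  have : IsScalarTower P A S := IsScalarTower.of_algebraMap_eq' rfl
  have : IsScalarTower k P S := IsScalarTower.of_algebraMap_eq (fun c => by
    rw [IsScalarTower.algebraMap_apply P A S, ← IsScalarTower.algebraMap_apply k P A,
      ← IsScalarTower.algebraMap_apply k A S])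
  have : Algebra.FormallyEtale A S := Algebra.FormallyEtale.of_isLocalization m.primeCompl
  have : Algebra.FormallyEtale P S := Algebra.FormallyEtale.comp P A S
  let b : Module.Basis (Fin 1) S (Ω[S⁄k]) :=
    ((KaehlerDifferential.mvPolynomialBasis k (Fin 1)).baseChange S).map
      (KaehlerDifferential.tensorKaehlerEquivOfFormallyEtale k P S)
  have hb0 : b 0 = KaehlerDifferential.D k S (algebraMap P S (MvPolynomial.X 0)) := by
    simp only [b, Module.Basis.map_apply, Module.Basis.baseChange_apply,
      KaehlerDifferential.tensorKaehlerEquivOfFormallyEtale_apply,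
      KaehlerDifferential.mvPolynomialBasis_apply]
    rw [KaehlerDifferential.mapBaseChange_tmul, one_smul, KaehlerDifferential.map_D]
  refine ⟨algebraMap P S (MvPolynomial.X 0), ?_, ?_⟩
  · intro r r' h
    simp only [← hb0] at h
    have := congrArg (fun w => b.repr w 0) h
    simpa using this
  · intro w
    refine ⟨b.repr w 0, ?_⟩
    simp only [← hb0]
    conv_rhs => rw [← b.sum_repr w]
    simp

theorem stalk_structure [Algebra.IsStandardSmoothOfRelativeDimension 1 k A] (m : Ideal A)
    [m.IsMaximal] (S : Type u) [CommRing S] [Algebra A S] [Algebra k S] [IsScalarTower k A S]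
    [IsLocalization.AtPrime S m] [IsLocalRing S] [Algebra.IsSeparable k (ResidueField S)] :
    ∃ a : S, maximalIdeal S = Ideal.span {a} ∧ a ≠ 0 ∧
      Function.Bijective (fun r : S => r • KaehlerDifferential.D k S a) := by
  classical
  obtain ⟨t, ht⟩ := chart_basis k A m S
  have hne : maximalIdeal S ≠ ⊥ := (chart_props k A m S).2
  have : Algebra.IsStandardSmooth k A :=
    Algebra.IsStandardSmoothOfRelativeDimension.isStandardSmooth 1
  have : IsNoetherianRing A := Algebra.FiniteType.isNoetherianRing k A
  have : IsNoetherianRing S := IsLocalization.isNoetherianRing m.primeCompl S inferInstance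
  have : Algebra.FormallyEtale k (ResidueField S) := Algebra.FormallyEtale.of_isSeparable _ _
  set ω := KaehlerDifferential.D k S t with hω
  let e : S ≃ₗ[S] Ω[S⁄k] := LinearEquiv.ofBijective (LinearMap.toSpanSingleton S (Ω[S⁄k]) ω) ht
  have he : ∀ r, e r = r • ω := fun r => rfl
  let ε : Ω[S⁄k] →ₗ[S] ResidueField S := (Algebra.linearMap S (ResidueField S)) ∘ₗ e.symm.toLinearMap
  -- an element of `𝔪` whose differential generates
  have hex : ∃ a ∈ maximalIdeal S, ε (KaehlerDifferential.D k S a) ≠ 0 := by
    by_contra hcon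
    push Not at hcon
    let ε' : ResidueField S ⊗[S] Ω[S⁄k] →ₗ[ResidueField S] ResidueField S :=
      LinearMap.liftBaseChange (ResidueField S) ε
    have hsurj : Function.Surjective (KaehlerDifferential.kerCotangentToTensor k S (ResidueField S)) := by
      intro z
      have hz : KaehlerDifferential.mapBaseChange k S (ResidueField S) z = 0 := Subsingleton.elim _ _
      exact (KaehlerDifferential.exact_kerCotangentToTensor_mapBaseChange k S (ResidueField S)
        Ideal.Quotient.mk_surjective z).mp hz
    have hzero : ∀ z, ε' z = 0 := by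
      intro z
      obtain ⟨c, rfl⟩ := hsurj z
      obtain ⟨y, rfl⟩ := Ideal.toCotangent_surjective _ c
      rw [KaehlerDifferential.kerCotangentToTensor_toCotangent]
      simp only [ε', LinearMap.liftBaseChange_tmul, one_smul]
      apply hcon
      have := y.2
      rw [RingHom.mem_ker] at this
      exact (residue_eq_zero_iff _).mp this
    have h1 : ε' (1 ⊗ₜ ω) = 1 := by
      simp only [ε', LinearMap.liftBaseChange_tmul, one_smul, ε, LinearMap.comp_apply]
      have : e.symm ω = 1 := by
        rw [LinearEquiv.symm_apply_eq, he, one_smul]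
      simp [this]
    rw [hzero] at h1
    exact zero_ne_one h1
  obtain ⟨a, ham, haε⟩ := hex
  set l := e.symm (KaehlerDifferential.D k S a) with hl
  have hla : KaehlerDifferential.D k S a = l • ω := by
    rw [← he, hl, LinearEquiv.apply_symm_apply]
  have hlunit : IsUnit l := by
    by_contra hnu
    apply haε
    change algebraMap S (ResidueField S) l = 0
    exact (residue_eq_zero_iff l).mpr ((mem_maximalIdeal l).mpr hnu)
  have hbij : Function.Bijective (fun r : S => r • KaehlerDifferential.D k S a) := by
    have : (fun r : S => r • KaehlerDifferential.D k S a) = (fun r : S => r • ω) ∘ (fun r : S => r * l) := by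
      funext r
      simp only [Function.comp_apply, hla, smul_smul]
    rw [this]
    exact ht.comp (IsUnit.isUnit_iff_mulRight_bijective.mp hlunit)
  have hm : maximalIdeal S = Ideal.span {a} := by
    apply le_antisymm
    · apply Submodule.le_of_le_smul_of_le_jacobson_bot (I := maximalIdeal S)
        (IsNoetherian.noetherian _) (maximalIdeal_le_jacobson _)
      intro b hb
      obtain ⟨c, hc⟩ := hbij.2 (KaehlerDifferential.D k S b)
      obtain ⟨c', hc'⟩ := hbij.2 (KaehlerDifferential.D k S c)
      have hmem : b - c * a ∈ maximalIdeal S :=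
        sub_mem hb (Ideal.mul_mem_left _ _ ham)
      have hD : KaehlerDifferential.D k S (b - c * a) = - (a • KaehlerDifferential.D k S c) := by
        rw [map_sub, Derivation.leibniz, ← hc]
        simp only
        abel
      have hsq := mem_sq_of_D_mem_smul (k := k) (b - c * a) hmem (by
        rw [hD]
        exact neg_mem (Submodule.smul_mem_smul ham trivial))
      have : b = c * a + (b - c * a) := by ring
      rw [this]
      refine Submodule.add_mem_sup (Ideal.mem_span_singleton'.mpr ⟨c, rfl⟩) ?_
      rwa [smul_eq_mul, ← pow_two]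
    · rw [Ideal.span_singleton_le_iff_mem]; exact ham
  refine ⟨a, hm, ?_, hbij⟩
  intro ha0
  apply hne
  rw [hm, ha0]
  simp

theorem bijective_smul_D_of_irreducible [Algebra.IsStandardSmoothOfRelativeDimension 1 k A]
    (m : Ideal A) [m.IsMaximal] (S : Type u) [CommRing S] [Algebra A S] [Algebra k S]
    [IsScalarTower k A S] [IsLocalization.AtPrime S m] [IsLocalRing S]
    [Algebra.IsSeparable k (ResidueField S)] (s : S) (hs : Irreducible s) :
    Function.Bijective (fun r : S => r • KaehlerDifferential.D k S s) := by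
  obtain ⟨a, hm, ha0, hbij⟩ := stalk_structure k A m S
  have ham : a ∈ maximalIdeal S := by rw [hm]; exact Ideal.mem_span_singleton_self a
  have hsm : s ∈ maximalIdeal S := (mem_maximalIdeal s).mpr hs.not_isUnit
  rw [hm] at hsm
  obtain ⟨c, rfl⟩ := Ideal.mem_span_singleton'.mp hsm
  have hc : IsUnit c := (hs.isUnit_or_isUnit rfl).resolve_right ((mem_maximalIdeal a).mp ham)
  obtain ⟨c', hc'⟩ := hbij.2 (KaehlerDifferential.D k S c)
  have hD : KaehlerDifferential.D k S (c * a) = (c + a * c') • KaehlerDifferential.D k S a := by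
    rw [Derivation.leibniz, ← hc']
    simp only [add_smul, mul_smul]
  have hu : IsUnit (c + a * c') := by
    by_contra h
    have h1 : c + a * c' ∈ maximalIdeal S := (mem_maximalIdeal _).mpr h
    have h2 : a * c' ∈ maximalIdeal S := Ideal.mul_mem_right _ _ ham
    have h3 : c ∈ maximalIdeal S := by
      have := sub_mem h1 h2
      simpa using this
    exact (mem_maximalIdeal c).mp h3 hc
  have : (fun r : S => r • KaehlerDifferential.D k S (c * a)) =
      (fun r : S => r • KaehlerDifferential.D k S a) ∘ (fun r : S => r * (c + a * c')) := by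
    funext r
    simp only [Function.comp_apply, hD, smul_smul]
  rw [this]
  exact hbij.comp (IsUnit.isUnit_iff_mulRight_bijective.mp hu)

end Structure

section Geometry

variable (k : Type u) [Field k] (X : Scheme.{u}) [X.Over (Spec (CommRingCat.of k))]

theorem exists_chart_of_open (x : X)
    (hsm : ∃ U : X.Opens, x ∈ U ∧
      SmoothOfRelativeDimension 1 (U.ι ≫ (X ↘ (Spec (CommRingCat.of k))))) :
    ∃ (V : X.Opens) (_ : IsAffineOpen V) (_ : x ∈ V),
      (secMap k X V).IsStandardSmoothOfRelativeDimension 1 := by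
  obtain ⟨U, hxU, hU⟩ := hsm
  obtain ⟨U₀, hU₀, V', hV', hxV', e, h⟩ :=
    hU.exists_isStandardSmoothOfRelativeDimension ⟨x, hxU⟩
  have hUtop : U₀ = ⊤ := by
    ext y
    simp only [TopologicalSpace.Opens.coe_top, Set.mem_univ, iff_true]
    have hy : y = (U.ι ≫ (X ↘ Spec (CommRingCat.of k))) ⟨x, hxU⟩ :=
      @Subsingleton.elim (PrimeSpectrum k) _ _ _
    rw [hy]
    exact e hxV'
  subst hUtop
  let V : X.Opens := U.ι ''ᵁ V'
  have hV : IsAffineOpen V := hV'.image_of_isOpenImmersion U.ι
  have hxV : x ∈ V := ⟨⟨x, hxU⟩, hxV', rfl⟩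
  refine ⟨V, hV, hxV, ?_⟩
  let ε : k ≃+* Γ(Spec (CommRingCat.of k), ⊤) :=
    (Scheme.ΓSpecIso (CommRingCat.of k)).symm.commRingCatIsoToRingEquiv
  have e' : V ≤ (X ↘ Spec (CommRingCat.of k)) ⁻¹ᵁ ⊤ := le_top
  have hcomp1 : secMap k X V = (((X ↘ Spec (CommRingCat.of k)).appLE ⊤ V e').hom).comp
      ε.toRingHom := by
    ext c
    simp only [secMap, Coh.toGlobal, Scheme.Hom.appLE, RingHom.comp_apply]
    rfl
  have hcomp2 : (X ↘ Spec (CommRingCat.of k)).appLE ⊤ V e' =
      (U.ι ≫ (X ↘ Spec (CommRingCat.of k))).appLE ⊤ V' e ≫ (U.ι.appIso V').inv := by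
    rw [← Scheme.Hom.appLE_comp_appLE _ _ ⊤ V V' e' (by
      rw [← Scheme.Hom.preimage_image_eq U.ι V']), Category.assoc, ← Scheme.Hom.appIso_hom',
      Iso.hom_inv_id, Category.comp_id]
  rw [hcomp1, hcomp2]
  apply RingHom.isStandardSmoothOfRelativeDimension_respectsIso.2
  exact RingHom.isStandardSmoothOfRelativeDimension_respectsIso.1 _
    (U.ι.appIso V').symm.commRingCatIsoToRingEquiv h

attribute [local instance] Curv2.resAlgebra Curv2.stalkAlgebra

theorem bijective_smul_D_stalk (x : X) (hx : IsClosed ({x} : Set X))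
    (hsm : ∃ U : X.Opens, x ∈ U ∧
      SmoothOfRelativeDimension 1 (U.ι ≫ (X ↘ (Spec (CommRingCat.of k)))))
    (hsep : Algebra.IsSeparable k (X.residueField x))
    (s : X.presheaf.stalk x) (hs : Irreducible s) :
    Function.Bijective
      (fun a : X.presheaf.stalk x => a • KaehlerDifferential.D k (X.presheaf.stalk x) s) := by
  obtain ⟨V, hV, hxV, hstd⟩ := exists_chart_of_open k X x hsm
  let algA : Algebra k Γ(X, V) := (secMap k X V).toAlgebra
  let algAS : Algebra Γ(X, V) (X.presheaf.stalk x) :=
    TopCat.Presheaf.algebra_section_stalk X.presheaf ⟨x, hxV⟩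
  have : Algebra.IsStandardSmoothOfRelativeDimension 1 k Γ(X, V) := hstd
  have : IsScalarTower k Γ(X, V) (X.presheaf.stalk x) := IsScalarTower.of_algebraMap_eq' (by
    ext c
    simp only [RingHom.algebraMap_toAlgebra, Curv2.stalkMap, secMap, RingHom.comp_apply]
    exact (TopCat.Presheaf.germ_res_apply X.presheaf _ x hxV _).symm)
  have hmax : (hV.primeIdealOf ⟨x, hxV⟩).asIdeal.IsMaximal :=
    hV.primeIdealOf_isMaximal_of_isClosed ⟨x, hxV⟩ hx
  have hloc : IsLocalization.AtPrime (X.presheaf.stalk x) (hV.primeIdealOf ⟨x, hxV⟩).asIdeal :=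
    hV.isLocalization_stalk ⟨x, hxV⟩
  have halg : Curv2.resAlgebra k X x = ResidueField.algebra (X.presheaf.stalk x) :=
    Algebra.algebra_ext _ _ (fun c => rfl)
  have hsep' : @Algebra.IsSeparable k (ResidueField (X.presheaf.stalk x)) _ _
      (ResidueField.algebra (X.presheaf.stalk x)) := halg ▸ hsep
  exact bijective_smul_D_of_irreducible k Γ(X, V) (hV.primeIdealOf ⟨x, hxV⟩).asIdeal
    (X.presheaf.stalk x) s hs

end Geometry
end Groth.Agent.Lib.Seat18.SmCurve
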