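import Mathlib
import Groth.Agent.Lib.Helper5FlatCMFibres
import Groth.Agent.Lib.Helper5TensorSk
import Groth.Agent.Lib.Helper6SmRk

/-!
# `(S_n)` and `(R_n)` of local rings along a morphism smooth near a point (seat 18)
-/

set_option linter.style.haveILetI false
set_option autoImplicit false

universe u
open CategoryTheory CategoryTheory.Limits AlgebraicGeometry

namespace Groth.Agent.Lib.Seat18.SmSkRk

open Groth.Agent.Lib.Helper28 Groth.Agent.Lib.Helper5 Groth.Agent.Lib.Helper5.FlatCMFibres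
  Groth.Agent.Lib.Helper5.CodepthOpen Groth.Agent.Lib.Helper5.TensorSk

section Ring

variable {A B : Type u} [CommRing A] [CommRing B] [IsNoetherianRing A] [IsNoetherianRing B]
  [Algebra A B] [Algebra.Smooth A B]

omit [IsNoetherianRing A] [IsNoetherianRing B] in
theorem fibre_regular (p : Ideal A) [p.IsPrime] : IsRegularRing (p.Fiber B) := by
  haveI : Algebra.Smooth p.ResidueField (p.Fiber B) := inferInstance
  exact Groth.Agent.S9408.isRegularRing_of_smooth p.ResidueField _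

theorem hasSk_iff (n : ℕ) (Q : Ideal B) [Q.IsPrime] :
    LocCoh.HasSk n (Localization.AtPrime Q) (Localization.AtPrime Q) ↔
      LocCoh.HasSk n (Localization.AtPrime (Q.comap (algebraMap A B)))
        (Localization.AtPrime (Q.comap (algebraMap A B))) := by
  haveI : Module.Flat A B := inferInstance
  have hF : ∀ (Q : Ideal B) [Q.IsPrime],
      LocCoh.IsCohenMacaulayLocalRing (EGA4.FibLocRing A B Q) :=
    forall_isCohenMacaulayRing_fiber_iff.mp (fun p _ => by
      haveI := fibre_regular (B := B) p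
      exact isCohenMacaulayRing_of_isRegularRing _)
  have h1 := hasSkAt_iff_of_cm_fibres n hF Q
  have e : ∀ (R : Type u) [CommRing R] [IsNoetherianRing R] (p : Ideal R) [p.IsPrime],
      EGA4.HasSkAt n R R p ↔
        LocCoh.HasSk n (Localization.AtPrime p) (Localization.AtPrime p) := by
    intro R _ _ p _
    rw [hasSkAt_self_iff, hasSk_localization_atPrime_iff]
    refine forall_congr' fun q => forall_congr' fun hq => forall_congr' fun hle => ?_
    rw [show ((n : ℕ) : WithBot ℕ∞) = (((n : ℕ) : ℕ∞) : WithBot ℕ∞) from rfl, ← WithBot.coe_min,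
      WithBot.coe_le_coe]
  rw [← e, ← e]
  exact h1.symm

theorem hasRk_iff (n : ℕ) (Q : Ideal B) [Q.IsPrime] :
    LocCoh.HasRk n (Localization.AtPrime Q) ↔
      LocCoh.HasRk n (Localization.AtPrime (Q.comap (algebraMap A B))) := by
  haveI : Module.Flat A B := inferInstance
  constructor
  · exact hasRk_localization_comap_of_flat n Q
  · intro hA
    rw [hasRk_localization_atPrime_iff] at hA ⊢
    intro Q₁ hQ₁ hle hht
    have hfib' := (forall_hasRk_fiber_iff (A := A) (B := B) n).mp (fun p _ => by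
      haveI := fibre_regular (B := B) p
      exact Groth.Agent.Lib.Helper6.SmRk.hasRk_of_isRegularRing n _)
    have hloc : IsLocalRing (EGA4.FibLocRing A B Q₁) := isLocalRing_fibLocRing Q₁
    rw [height_eq_height_fibLocRing_add (A := A) Q₁] at hht
    have hP1 : (Q₁.comap (algebraMap A B)).height ≤ (n : ℕ∞) := le_add_self.trans hht
    have hF1 : (IsLocalRing.maximalIdeal (EGA4.FibLocRing A B Q₁)).height ≤ (n : ℕ∞) :=
      le_self_add.trans hht
    have hAreg := hA (Q₁.comap (algebraMap A B)) (Ideal.comap_mono hle) hP1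
    have hFreg : IsRegularLocalRing (EGA4.FibLocRing A B Q₁) := by
      apply hfib' Q₁
      rw [← IsLocalRing.maximalIdeal_height_eq_ringKrullDim]
      have h : (n : WithBot ℕ∞) = ((n : ℕ∞) : WithBot ℕ∞) := rfl
      rw [h, WithBot.coe_le_coe]
      exact hF1
    exact isRegularLocalRing_localization_of_fibLocRing Q₁ hAreg hFreg

theorem hasSk_iff' (n : ℕ) (Q : Ideal B) [Q.IsPrime] (P : Ideal A) [P.IsPrime]
    (hP : Q.comap (algebraMap A B) = P) :
    LocCoh.HasSk n (Localization.AtPrime Q) (Localization.AtPrime Q) ↔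
      LocCoh.HasSk n (Localization.AtPrime P) (Localization.AtPrime P) := by
  subst hP
  exact hasSk_iff n Q

theorem hasRk_iff' (n : ℕ) (Q : Ideal B) [Q.IsPrime] (P : Ideal A) [P.IsPrime]
    (hP : Q.comap (algebraMap A B) = P) :
    LocCoh.HasRk n (Localization.AtPrime Q) ↔ LocCoh.HasRk n (Localization.AtPrime P) := by
  subst hP
  exact hasRk_iff n Q

end Ring

theorem hasRk_of_ringEquiv {R S : Type u} [CommRing R] [CommRing S] (e : R ≃+* S) (n : ℕ)
    (h : LocCoh.HasRk n R) : LocCoh.HasRk n S := by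
  intro q hq hht
  have hp : (q.comap (e : R →+* S)).IsPrime := Ideal.comap_isPrime _ _
  have h2 : (q.comap (e : R →+* S)).height = q.height := RingEquiv.height_comap e q
  have h1 := h (q.comap (e : R →+* S)) (by rw [h2]; exact hht)
  exact IsRegularLocalRing.of_ringEquiv
    (Localization.localRingEquiv (q.comap (e : R →+* S)) q e rfl)

theorem exists_smooth_chart {X Y : Scheme.{u}} (f : X ⟶ Y) (x : X)
    (hx : ∃ U : X.Opens, x ∈ U ∧ Smooth (U.ι ≫ f)) :
    ∃ (V : Y.Opens) (_ : IsAffineOpen V) (W : X.Opens) (_ : IsAffineOpen W) (_ : x ∈ W)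
      (e : W ≤ f ⁻¹ᵁ V), (f.appLE V W e).hom.IsStandardSmooth := by
  obtain ⟨U, hxU, hU⟩ := hx
  obtain ⟨V, hV, W', hW', hxW', e, h⟩ := Smooth.exists_isStandardSmooth (U.ι ≫ f) ⟨x, hxU⟩
  let W : X.Opens := U.ι ''ᵁ W'
  have hW : IsAffineOpen W := hW'.image_of_isOpenImmersion U.ι
  have hxW : x ∈ W := ⟨⟨x, hxU⟩, hxW', rfl⟩
  have e' : W ≤ f ⁻¹ᵁ V := by
    rintro _ ⟨w, hw, rfl⟩
    exact e hw
  refine ⟨V, hV, W, hW, hxW, e', ?_⟩
  have hcomp2 : f.appLE V W e' = (U.ι ≫ f).appLE V W' e ≫ (U.ι.appIso W').inv := by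
    rw [← Scheme.Hom.appLE_comp_appLE _ _ V W W' e' (by
      rw [← Scheme.Hom.preimage_image_eq U.ι W']), Category.assoc, ← Scheme.Hom.appIso_hom',
      Iso.hom_inv_id, Category.comp_id]
  rw [hcomp2]
  exact RingHom.isStandardSmooth_respectsIso.1 _
    (U.ι.appIso W').symm.commRingCatIsoToRingEquiv h

theorem main {X Y : Scheme.{u}} (f : X ⟶ Y)
    [IsLocallyNoetherian Y] [LocallyOfFiniteType f] (x : X)
    (hx : ∃ U : X.Opens, x ∈ U ∧ Smooth (U.ι ≫ f)) (n : ℕ) :
    (LocCoh.HasSk n (X.presheaf.stalk x) (X.presheaf.stalk x) ↔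
        LocCoh.HasSk n (Y.presheaf.stalk (f.base x)) (Y.presheaf.stalk (f.base x))) ∧
      (LocCoh.HasRk n (X.presheaf.stalk x) ↔ LocCoh.HasRk n (Y.presheaf.stalk (f.base x))) := by
  haveI : IsLocallyNoetherian X := LocallyOfFiniteType.isLocallyNoetherian f
  obtain ⟨V, hV, W, hW, hxW, e, hstd⟩ := exists_smooth_chart f x hx
  haveI : IsNoetherianRing Γ(Y, V) := IsLocallyNoetherian.component_noetherian ⟨V, hV⟩
  haveI : IsNoetherianRing Γ(X, W) := IsLocallyNoetherian.component_noetherian ⟨W, hW⟩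
  letI : Algebra Γ(Y, V) Γ(X, W) := (f.appLE V W e).hom.toAlgebra
  haveI : Algebra.IsStandardSmooth Γ(Y, V) Γ(X, W) := hstd.toAlgebra
  haveI : Algebra.Smooth Γ(Y, V) Γ(X, W) := inferInstance
  let Q : Ideal Γ(X, W) := (hW.primeIdealOf ⟨x, hxW⟩).asIdeal
  let P : Ideal Γ(Y, V) := (hV.primeIdealOf ⟨f x, e hxW⟩).asIdeal
  haveI : Q.IsPrime := (hW.primeIdealOf ⟨x, hxW⟩).isPrime
  haveI : P.IsPrime := (hV.primeIdealOf ⟨f x, e hxW⟩).isPrime
  have hPQ : Q.comap (algebraMap Γ(Y, V) Γ(X, W)) = P :=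
    congrArg PrimeSpectrum.asIdeal (IsAffineOpen.comap_primeIdealOf_appLE V hV W hW e hxW)
  letI algX : Algebra Γ(X, W) (X.presheaf.stalk x) :=
    TopCat.Presheaf.algebra_section_stalk X.presheaf ⟨x, hxW⟩
  letI algY : Algebra Γ(Y, V) (Y.presheaf.stalk (f x)) :=
    TopCat.Presheaf.algebra_section_stalk Y.presheaf ⟨f x, e hxW⟩
  haveI hlocX : IsLocalization.AtPrime (X.presheaf.stalk x) Q := hW.isLocalization_stalk ⟨x, hxW⟩
  haveI hlocY : IsLocalization.AtPrime (Y.presheaf.stalk (f x)) P :=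
    hV.isLocalization_stalk ⟨f x, e hxW⟩
  let eX : Localization.AtPrime Q ≃+* X.presheaf.stalk x :=
    (IsLocalization.algEquiv Q.primeCompl (Localization.AtPrime Q)
      (X.presheaf.stalk x)).toRingEquiv
  let eY : Localization.AtPrime P ≃+* Y.presheaf.stalk (f x) :=
    (IsLocalization.algEquiv P.primeCompl (Localization.AtPrime P)
      (Y.presheaf.stalk (f x))).toRingEquiv
  have hS := hasSk_iff' (A := Γ(Y, V)) (B := Γ(X, W)) n Q P hPQ
  have hR := hasRk_iff' (A := Γ(Y, V)) (B := Γ(X, W)) n Q P hPQ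
  refine ⟨⟨fun h => ?_, fun h => ?_⟩, ⟨fun h => ?_, fun h => ?_⟩⟩
  · exact hasSk_self_of_ringEquiv eY n (hS.mp (hasSk_self_of_ringEquiv eX.symm n h))
  · exact hasSk_self_of_ringEquiv eX n (hS.mpr (hasSk_self_of_ringEquiv eY.symm n h))
  · exact hasRk_of_ringEquiv eY n (hR.mp (hasRk_of_ringEquiv eX.symm n h))
  · exact hasRk_of_ringEquiv eX n (hR.mpr (hasRk_of_ringEquiv eY.symm n h))

end Groth.Agent.Lib.Seat18.SmSkRk
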