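import Mathlib
import Groth.Prelude.Def_Grpd
import Groth.Prelude.Def_AlgGrp
import Groth.Agent.Lib.Helper12Act

/-!
# The action groupoid of a group scheme action (helper19)

For an action `a : G ×_S X ⟶ X` the groupoid scheme `(X, G ×_S X, s = pr₂, t = a)`.
-/

set_option autoImplicit false
set_option linter.unusedSectionVars false
universe u

open CategoryTheory CategoryTheory.Limits MonoidalCategory CartesianMonoidalCategory MonObj GrpObj
  AlgebraicGeometry
open Groth.Agent.Lib.Helper12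

namespace Groth.Agent.Lib.Seat19.ActGrpd

variable {S : Scheme.{u}} {G X : Over S} [GrpObj G] (a : AlgGrp.Action G X)

/-- the unit section `x ↦ (1, x)` -/
noncomputable def eO : X ⟶ G ⊗ X := lift (1 : X ⟶ G) (𝟙 X)

/-- the inverse `(g, x) ↦ (g⁻¹, g x)` -/
noncomputable def iO : G ⊗ X ⟶ G ⊗ X := lift (fst G X)⁻¹ a.act

/-- composable pairs, as an object over `S` -/
noncomputable abbrev P : Over S :=
  Over.mk (pullback.fst (snd G X).left a.act.left ≫ (G ⊗ X).hom)

noncomputable def p1 : P a ⟶ G ⊗ X := Over.homMk (pullback.fst (snd G X).left a.act.left) rfl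

theorem p2_aux : pullback.snd (snd G X).left a.act.left ≫ (G ⊗ X).hom =
    pullback.fst (snd G X).left a.act.left ≫ (G ⊗ X).hom := by
  calc pullback.snd (snd G X).left a.act.left ≫ (G ⊗ X).hom
      = pullback.snd (snd G X).left a.act.left ≫ a.act.left ≫ X.hom := by rw [Over.w a.act]
    _ = pullback.fst (snd G X).left a.act.left ≫ (snd G X).left ≫ X.hom := by
        rw [← Category.assoc, ← pullback.condition, Category.assoc]
    _ = _ := by rw [Over.w (snd G X)]

noncomputable def p2 : P a ⟶ G ⊗ X :=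
  Over.homMk (pullback.snd (snd G X).left a.act.left) (p2_aux a)

theorem p1_snd_eq : p1 a ≫ snd G X = p2 a ≫ a.act := by
  apply Over.OverMorphism.ext
  exact pullback.condition

/-- composition `((g, x), (h, y)) ↦ (g h, y)` (defined when `x = h y`) -/
noncomputable def cO : P a ⟶ G ⊗ X :=
  lift ((p1 a ≫ fst G X) * (p2 a ≫ fst G X)) (p2 a ≫ snd G X)

/-- the pairing of two composable points -/
noncomputable def pair {T : Over S} (α β : T ⟶ G ⊗ X) (h : α ≫ snd G X = β ≫ a.act) : T ⟶ P a :=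
  Over.homMk (pullback.lift α.left β.left (congrArg (fun f => f.left) h)) (by
    show pullback.lift α.left β.left _ ≫ pullback.fst _ _ ≫ (G ⊗ X).hom = T.hom
    rw [pullback.lift_fst_assoc, Over.w α])

theorem pair_p1 {T : Over S} (α β : T ⟶ G ⊗ X) (h : α ≫ snd G X = β ≫ a.act) :
    pair a α β h ≫ p1 a = α := by
  apply Over.OverMorphism.ext
  exact pullback.lift_fst _ _ _

theorem pair_p2 {T : Over S} (α β : T ⟶ G ⊗ X) (h : α ≫ snd G X = β ≫ a.act) :
    pair a α β h ≫ p2 a = β := by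
  apply Over.OverMorphism.ext
  exact pullback.lift_snd _ _ _

theorem pair_cO {T : Over S} (α β : T ⟶ G ⊗ X) (h : α ≫ snd G X = β ≫ a.act) :
    pair a α β h ≫ cO a = lift ((α ≫ fst G X) * (β ≫ fst G X)) (β ≫ snd G X) := by
  unfold cO
  rw [comp_lift, MonObj.comp_mul, ← Category.assoc, ← Category.assoc, ← Category.assoc,
    pair_p1, pair_p2]

theorem lift_cO {T : Over S} (α β : T ⟶ G ⊗ X) (h : α ≫ snd G X = β ≫ a.act) :
    pullback.lift α.left β.left (congrArg (fun f => f.left) h) ≫ (cO a).left =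
      (lift ((α ≫ fst G X) * (β ≫ fst G X)) (β ≫ snd G X)).left :=
  congrArg (fun f => f.left) (pair_cO a α β h)

theorem lift_cO' {T : Over S} (α β : T.left ⟶ (G ⊗ X).left)
    (h : α ≫ (snd G X).left = β ≫ a.act.left)
    (α' β' : T ⟶ G ⊗ X) (hα : α'.left = α) (hβ : β'.left = β) :
    pullback.lift α β h ≫ (cO a).left =
      (lift ((α' ≫ fst G X) * (β' ≫ fst G X)) (β' ≫ snd G X)).left := by
  subst hα hβ
  exact lift_cO a α' β' (Over.OverMorphism.ext h)

/-- a scheme-valued point of `G ×_S X` as a morphism over `S` -/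
noncomputable abbrev pt {T : Scheme.{u}} (π : T ⟶ S) (α : T ⟶ (G ⊗ X).left)
    (h : α ≫ (G ⊗ X).hom = π) : Over.mk π ⟶ G ⊗ X :=
  Over.homMk α h

theorem lift_fst_snd' {T : Over S} (α : T ⟶ G ⊗ X) : lift (α ≫ fst G X) (α ≫ snd G X) = α := by
  apply CartesianMonoidalCategory.hom_ext <;> simp

theorem hom_second {T : Scheme.{u}} (α β : T ⟶ (G ⊗ X).left)
    (h : α ≫ (snd G X).left = β ≫ a.act.left) : β ≫ (G ⊗ X).hom = α ≫ (G ⊗ X).hom := by
  calc β ≫ (G ⊗ X).hom = β ≫ a.act.left ≫ X.hom := by rw [Over.w a.act]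
    _ = α ≫ (snd G X).left ≫ X.hom := by rw [← Category.assoc, ← h, Category.assoc]
    _ = _ := by rw [Over.w (snd G X)]

theorem eO_snd : (eO : X ⟶ G ⊗ X) ≫ snd G X = 𝟙 X := by
  unfold eO
  rw [lift_snd]

theorem eO_fst : (eO : X ⟶ G ⊗ X) ≫ fst G X = 1 := by
  unfold eO
  rw [lift_fst]

theorem eO_act : (eO : X ⟶ G ⊗ X) ≫ a.act = 𝟙 X := by
  unfold eO
  rw [act_one]

theorem iO_snd : iO a ≫ snd G X = a.act := by
  unfold iO
  rw [lift_snd]

theorem iO_fst : iO a ≫ fst G X = (fst G X)⁻¹ := by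
  unfold iO
  rw [lift_fst]

theorem iO_act : iO a ≫ a.act = snd G X := by
  unfold iO
  rw [lift_inv_act_act]

/-- the action groupoid `(X, G ×_S X, pr₂, a)` -/
noncomputable def grpd : Grpd.GroupoidScheme S where
  U := X.left
  R := (G ⊗ X).left
  pU := X.hom
  pR := (G ⊗ X).hom
  s := (snd G X).left
  t := a.act.left
  e := (eO : X ⟶ G ⊗ X).left
  i := (iO a).left
  c := (cO a).left
  s_over := Over.w (snd G X)
  t_over := Over.w a.act
  comp_s := by
    intro T α β h
    have hβ := hom_second a α β h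
    rw [lift_cO' a (T := Over.mk (α ≫ (G ⊗ X).hom)) α β h (pt _ α rfl) (pt _ β hβ) rfl rfl]
    show (lift _ _ ≫ snd G X).left = _
    rw [lift_snd]
    rfl
  comp_t := by
    intro T α β h
    have hβ := hom_second a α β h
    rw [lift_cO' a (T := Over.mk (α ≫ (G ⊗ X).hom)) α β h (pt _ α rfl) (pt _ β hβ) rfl rfl]
    show (lift _ _ ≫ a.act).left = _
    have h' : pt (α ≫ (G ⊗ X).hom) α rfl ≫ snd G X = pt (α ≫ (G ⊗ X).hom) β hβ ≫ a.act :=
      Over.OverMorphism.ext h
    rw [act_mul, lift_fst_snd', ← h', lift_fst_snd']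
    rfl
  assoc := by
    intro T α β g3 h₁ h₂
    have hβ := hom_second a α β h₁
    have hγ := (hom_second a β g3 h₂).trans hβ
    have e1 := lift_cO' a (T := Over.mk (α ≫ (G ⊗ X).hom)) α β h₁ (pt _ α rfl) (pt _ β hβ) rfl rfl
    have e2 := lift_cO' a (T := Over.mk (α ≫ (G ⊗ X).hom)) β g3 h₂ (pt _ β hβ) (pt _ g3 hγ) rfl rfl
    rw [lift_cO' a (T := Over.mk (α ≫ (G ⊗ X).hom)) _ g3 _ _ (pt _ g3 hγ) e1.symm rfl,
      lift_cO' a (T := Over.mk (α ≫ (G ⊗ X).hom)) α _ _ (pt _ α rfl) _ rfl e2.symm]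
    congr 1
    simp only [lift_fst, lift_snd, _root_.mul_assoc]
  e_s := congrArg (fun f => f.left) (eO_snd (G := G) (X := X))
  e_t := congrArg (fun f => f.left) (eO_act a)
  comp_e := by
    intro T α
    refine (lift_cO' a (T := Over.mk (α ≫ (G ⊗ X).hom)) α _ _ (pt _ α rfl)
      (pt _ α rfl ≫ snd G X ≫ eO) rfl rfl).trans ?_
    conv_rhs => rw [show α = (pt (α ≫ (G ⊗ X).hom) α rfl).left from rfl]
    congr 1
    apply CartesianMonoidalCategory.hom_ext
    · simp [eO_fst, MonObj.comp_one]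
    · simp [eO_snd]
  e_comp := by
    intro T α
    refine (lift_cO' a (T := Over.mk (α ≫ (G ⊗ X).hom)) _ α _ (pt _ α rfl ≫ a.act ≫ eO)
      (pt _ α rfl) rfl rfl).trans ?_
    conv_rhs => rw [show α = (pt (α ≫ (G ⊗ X).hom) α rfl).left from rfl]
    congr 1
    apply CartesianMonoidalCategory.hom_ext
    · simp [eO_fst, MonObj.comp_one]
    · simp
  i_s := congrArg (fun f => f.left) (iO_snd a)
  i_t := congrArg (fun f => f.left) (iO_act a)
  comp_i := by
    intro T α
    refine (lift_cO' a (T := Over.mk (α ≫ (G ⊗ X).hom)) α _ _ (pt _ α rfl)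
      (pt _ α rfl ≫ iO a) rfl rfl).trans ?_
    show _ = (pt (α ≫ (G ⊗ X).hom) α rfl ≫ a.act ≫ eO).left
    congr 1
    apply CartesianMonoidalCategory.hom_ext
    · simp [eO_fst, iO_fst, MonObj.comp_one, GrpObj.comp_inv]
    · simp [eO_snd, iO_snd]
  i_comp := by
    intro T α
    refine (lift_cO' a (T := Over.mk (α ≫ (G ⊗ X).hom)) _ α _ (pt _ α rfl ≫ iO a)
      (pt _ α rfl) rfl rfl).trans ?_
    show _ = (pt (α ≫ (G ⊗ X).hom) α rfl ≫ snd G X ≫ eO).left
    congr 1
    apply CartesianMonoidalCategory.hom_ext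
    · simp [eO_fst, iO_fst, MonObj.comp_one, GrpObj.comp_inv]
    · simp [eO_snd]

end Groth.Agent.Lib.Seat19.ActGrpd
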