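import Mathlib
import Groth.Prelude.Def_Grpd
import Groth.Prelude.Def_AlgGrp
import Groth.Prelude.Def_Mor2
import Groth.Agent.Lib.Seat19ActGrpd

/-!
# Properties of the action groupoid (helper19)
-/

set_option autoImplicit false
set_option linter.unusedSectionVars false
set_option linter.style.haveILetI false
universe u

open CategoryTheory CategoryTheory.Limits MonoidalCategory CartesianMonoidalCategory MonObj GrpObj
  AlgebraicGeometry
open Groth.Agent.Lib.Helper12

namespace Groth.Agent.Lib.Seat19.ActGrpd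

/-- finitely many points of an open subscheme of an affine scheme lie in an affine open -/
theorem exists_affine_of_finite {X : Scheme.{u}} {R : CommRingCat.{u}} (i : X ⟶ Spec R)
    [IsOpenImmersion i] (F : Set X) (hF : F.Finite) :
    ∃ W : X.Opens, IsAffineOpen W ∧ F ⊆ W := by
  classical
  rcases F.eq_empty_or_nonempty with rfl | ⟨x₀, hx₀⟩
  · exact ⟨⊥, isAffineOpen_bot X, Set.empty_subset _⟩
  let Ω : Set (PrimeSpectrum R) := Set.range i
  have hΩ : IsOpen Ω := i.isOpenEmbedding.isOpen_range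
  let I : Ideal R := PrimeSpectrum.vanishingIdeal Ωᶜ
  have hI : PrimeSpectrum.zeroLocus (I : Set R) = Ωᶜ := by
    rw [PrimeSpectrum.zeroLocus_vanishingIdeal_eq_closure, hΩ.isClosed_compl.closure_eq]
  have hnot : ¬ ((I : Set R) ⊆ ⋃ x ∈ (↑hF.toFinset : Set X), ((i x : PrimeSpectrum R).asIdeal)) := by
    rw [Ideal.subset_union_prime (f := fun x : X => (i x : PrimeSpectrum R).asIdeal) x₀ x₀
      (fun x _ _ _ => (i x : PrimeSpectrum R).isPrime)]
    rintro ⟨x, -, hx⟩
    have : (i x : PrimeSpectrum R) ∈ PrimeSpectrum.zeroLocus (I : Set R) := hx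
    rw [hI] at this
    exact this ⟨x, rfl⟩
  obtain ⟨f, hfI, hf⟩ := Set.not_subset.mp hnot
  have hfF : ∀ x ∈ F, f ∉ (i x : PrimeSpectrum R).asIdeal := by
    intro x hx hfx
    apply hf
    simp only [Set.mem_iUnion]
    exact ⟨x, by simpa using hx, hfx⟩
  have hD : (PrimeSpectrum.basicOpen f : Set (PrimeSpectrum R)) ⊆ Ω := by
    intro p hp
    by_contra hpΩ
    have : p ∈ PrimeSpectrum.zeroLocus (I : Set R) := by
      rw [hI]
      exact hpΩ
    exact hp (this hfI)
  refine ⟨i ⁻¹ᵁ PrimeSpectrum.basicOpen f,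
    (IsAffineOpen.Spec_basicOpen f).preimage_of_isOpenImmersion i hD, ?_⟩
  intro x hx
  exact hfF x hx

variable {S : Scheme.{u}} {G X : Over S} [GrpObj G] (a : AlgGrp.Action G X)

theorem s_finLocFree (hG : Mor2.IsFinLocFree G.hom) : Mor2.IsFinLocFree (grpd a).s := by
  obtain ⟨h1, h2, h3⟩ := hG
  haveI := h1
  haveI := h2
  haveI := h3
  exact ⟨inferInstanceAs (IsFinite (pullback.snd G.hom X.hom)),
    inferInstanceAs (Flat (pullback.snd G.hom X.hom)),
    inferInstanceAs (LocallyOfFinitePresentation (pullback.snd G.hom X.hom))⟩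

theorem mono_aux (hfree : ∀ (T : Over S) (g : T ⟶ G) (x : T ⟶ X),
    lift g x ≫ a.act = x → g = toUnit T ≫ η[G]) {T : Scheme.{u}} (α β : T ⟶ (G ⊗ X).left)
    (ht : α ≫ a.act.left = β ≫ a.act.left) (hs : α ≫ (snd G X).left = β ≫ (snd G X).left) :
    α = β := by
  have hβ : β ≫ (G ⊗ X).hom = α ≫ (G ⊗ X).hom := by
    calc β ≫ (G ⊗ X).hom = β ≫ (snd G X).left ≫ X.hom := by rw [Over.w (snd G X)]
      _ = α ≫ (snd G X).left ≫ X.hom := by rw [← Category.assoc, ← hs, Category.assoc]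
      _ = _ := by rw [Over.w (snd G X)]
  have hs' : pt (α ≫ (G ⊗ X).hom) α rfl ≫ snd G X = pt (α ≫ (G ⊗ X).hom) β hβ ≫ snd G X :=
    Over.OverMorphism.ext hs
  have ht' : pt (α ≫ (G ⊗ X).hom) α rfl ≫ a.act = pt (α ≫ (G ⊗ X).hom) β hβ ≫ a.act :=
    Over.OverMorphism.ext ht
  suffices hh : pt (α ≫ (G ⊗ X).hom) α rfl = pt (α ≫ (G ⊗ X).hom) β hβ from
    congrArg (fun f => f.left) hh
  generalize pt (α ≫ (G ⊗ X).hom) α rfl = α' at hs' ht' ⊢
  generalize pt (α ≫ (G ⊗ X).hom) β hβ = β' at hs' ht' ⊢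
  have hg : (β' ≫ fst G X)⁻¹ * (α' ≫ fst G X) = 1 := by
    rw [Hom.one_def]
    apply hfree _ _ (α' ≫ snd G X)
    calc lift ((β' ≫ fst G X)⁻¹ * (α' ≫ fst G X)) (α' ≫ snd G X) ≫ a.act
        = lift (β' ≫ fst G X)⁻¹ (lift (α' ≫ fst G X) (α' ≫ snd G X) ≫ a.act) ≫ a.act :=
          act_mul a _ _ _
      _ = lift (β' ≫ fst G X)⁻¹ (lift (β' ≫ fst G X) (α' ≫ snd G X) ≫ a.act) ≫ a.act := by
          congr 2
          rw [lift_fst_snd', hs', lift_fst_snd', ht']
      _ = lift ((β' ≫ fst G X)⁻¹ * (β' ≫ fst G X)) (α' ≫ snd G X) ≫ a.act :=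
          (act_mul a _ _ _).symm
      _ = α' ≫ snd G X := by rw [inv_mul_cancel, act_one]
  have hfst : α' ≫ fst G X = β' ≫ fst G X := (inv_mul_eq_one.mp hg).symm
  apply CartesianMonoidalCategory.hom_ext
  · exact hfst
  · exact hs'

theorem mono_j (hfree : ∀ (T : Over S) (g : T ⟶ G) (x : T ⟶ X),
    lift g x ≫ a.act = x → g = toUnit T ≫ η[G]) : Mono (grpd a).j := by
  constructor
  intro T α β h
  have ht0 : α ≫ (grpd a).t = β ≫ (grpd a).t := by
    have e : (grpd a).j ≫ pullback.fst _ _ = (grpd a).t := pullback.lift_fst _ _ _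
    rw [← e, ← Category.assoc, h, Category.assoc]
  have hs0 : α ≫ (grpd a).s = β ≫ (grpd a).s := by
    have e : (grpd a).j ≫ pullback.snd _ _ = (grpd a).s := pullback.lift_snd _ _ _
    rw [← e, ← Category.assoc, h, Category.assoc]
  exact mono_aux a hfree α β ht0 hs0

theorem s_apply_eq (r : ↥(G ⊗ X).left) :
    X.hom ((snd G X).left r) = X.hom (a.act.left r) := by
  have h1 : ((snd G X).left ≫ X.hom) r = (a.act.left ≫ X.hom) r := by
    rw [Over.w (snd G X), Over.w a.act]
  exact h1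

set_option backward.isDefEq.respectTransparency.types false in
/-- every orbit lies in an affine open, in each of the three cases -/
theorem exists_affine_orbit (hG : Mor2.IsFinLocFree G.hom)
    (h3 : IsAffineHom X.hom ∨ (∃ (R : CommRingCat.{u}) (i : X.left ⟶ Spec R), IsOpenImmersion i) ∨
      UniversallyInjective G.hom) (u : ↥X.left) :
    ∃ W : X.left.Opens, IsAffineOpen W ∧ ∀ r : ↥(G ⊗ X).left, (snd G X).left r = u →
      a.act.left r ∈ W := by
  rcases h3 with h | ⟨R, i, hi⟩ | h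
  · obtain ⟨V, hV, huV, -⟩ := exists_isAffineOpen_mem_and_subset
      (x := X.hom u) (U := ⊤) trivial
    refine ⟨X.hom ⁻¹ᵁ V, hV.preimage X.hom, ?_⟩
    intro r hr
    show X.hom (a.act.left r) ∈ V
    rw [← s_apply_eq a r, hr]
    exact huV
  · obtain ⟨h1, h2, h3'⟩ := s_finLocFree a hG
    haveI : IsFinite (snd G X).left := h1
    have hfin : ((snd G X).left ⁻¹' {u}).Finite := (snd G X).left.finite_preimage_singleton u
    obtain ⟨W, hW, hWF⟩ := exists_affine_of_finite i (a.act.left '' ((snd G X).left ⁻¹' {u}))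
      (hfin.image _)
    exact ⟨W, hW, fun r hr => hWF ⟨r, hr, rfl⟩⟩
  · haveI : UniversallyInjective G.hom := h
    haveI : UniversallyInjective (pullback.snd G.hom X.hom) :=
      MorphismProperty.pullback_snd (P := @UniversallyInjective) _ _ h
    obtain ⟨W, hW, huW, -⟩ := exists_isAffineOpen_mem_and_subset
      (x := u) (U := ⊤) trivial
    refine ⟨W, hW, ?_⟩
    intro r hr
    have hinj : Function.Injective (snd G X).left :=
      Scheme.Hom.injective (pullback.snd G.hom X.hom)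
    have he : (snd G X).left ((eO : X ⟶ G ⊗ X).left u) = u := by
      have : ((eO : X ⟶ G ⊗ X).left ≫ (snd G X).left) u = u := by
        rw [show (eO : X ⟶ G ⊗ X).left ≫ (snd G X).left = 𝟙 _ from
          congrArg (fun f => f.left) (eO_snd (G := G) (X := X))]
        rfl
      exact this
    have hr' : r = (eO : X ⟶ G ⊗ X).left u := hinj (hr.trans he.symm)
    rw [hr']
    have : ((eO : X ⟶ G ⊗ X).left ≫ a.act.left) u = u := by
      rw [show (eO : X ⟶ G ⊗ X).left ≫ a.act.left = 𝟙 _ from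
        congrArg (fun f => f.left) (eO_act a)]
      rfl
    have h2 : a.act.left ((eO : X ⟶ G ⊗ X).left u) = u := this
    rw [h2]
    exact huW

end Groth.Agent.Lib.Seat19.ActGrpd
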