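import Mathlib

/-!
# The local ring `R(x)` (helper19)

For a local ring `R` with maximal ideal `m`, `Kx R` is the localization of `R[X]` at the prime
`m R[X]`.  It is a local ring, faithfully flat over `R`, with infinite residue field.
-/

set_option autoImplicit false
universe u

open Polynomial

namespace Groth.Agent.Lib.Seat19.Kx

variable (R : Type u) [CommRing R] [IsLocalRing R]

/-- the prime `m R[X]`. -/
noncomputable def mX : Ideal R[X] := (IsLocalRing.maximalIdeal R).map (C : R →+* R[X])

instance : (mX R).IsPrime := by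
  unfold mX
  infer_instance

/-- `R(x)`. -/
abbrev Kx : Type u := Localization.AtPrime (mX R)

instance flat : Module.Flat R (Kx R) := Module.Flat.trans R R[X] (Kx R)

instance isLocalHom : IsLocalHom (algebraMap R (Kx R)) := by
  constructor
  intro a ha
  by_contra hna
  have hm : a ∈ IsLocalRing.maximalIdeal R := hna
  have h1 : (C a : R[X]) ∈ mX R := Ideal.mem_map_of_mem _ hm
  have h2 : algebraMap R[X] (Kx R) (C a) ∈ IsLocalRing.maximalIdeal (Kx R) := by
    rw [← Localization.AtPrime.comap_maximalIdeal (I := mX R)] at h1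
    exact h1
  have h3 : algebraMap R (Kx R) a = algebraMap R[X] (Kx R) (C a) := by
    rw [IsScalarTower.algebraMap_apply R R[X] (Kx R)]
    rfl
  rw [h3] at ha
  exact h2 ha

instance faithfullyFlat : Module.FaithfullyFlat R (Kx R) :=
  Module.FaithfullyFlat.of_flat_of_isLocalHom

instance infinite_residueField : Infinite (IsLocalRing.ResidueField (Kx R)) := by
  let f : ℕ → IsLocalRing.ResidueField (Kx R) := fun n =>
    IsLocalRing.residue (Kx R) (algebraMap R[X] (Kx R) (X ^ n))
  apply Infinite.of_injective f
  intro n m hnm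
  by_contra hne
  have h1 : IsLocalRing.residue (Kx R) (algebraMap R[X] (Kx R) (X ^ n - X ^ m)) = 0 := by
    rw [map_sub, map_sub]
    exact sub_eq_zero.mpr hnm
  have h2 : algebraMap R[X] (Kx R) (X ^ n - X ^ m) ∈ IsLocalRing.maximalIdeal (Kx R) := by
    rwa [IsLocalRing.residue_eq_zero_iff] at h1
  have h3 : (X ^ n - X ^ m : R[X]) ∈ mX R := by
    rw [← Localization.AtPrime.comap_maximalIdeal (I := mX R)]
    exact h2
  unfold mX at h3
  rw [Ideal.mem_map_C_iff] at h3
  have h4 := h3 n
  rw [coeff_sub, coeff_X_pow, coeff_X_pow, if_pos rfl, if_neg hne, sub_zero] at h4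
  exact (IsLocalRing.maximalIdeal.isMaximal R).ne_top ((Ideal.eq_top_iff_one _).mpr h4)

end Groth.Agent.Lib.Seat19.Kx
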