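import Mathlib

/-!
# Pushouts of commutative rings are stable under tensoring (helper19)

`face`: for a `K`-algebra hom `f : A → B` and a `K`-algebra `K'`, the square
`A → B`, `A → K' ⊗ A`, `K' ⊗ A → K' ⊗ B`, `B → K' ⊗ B` is a pushout.
`cube`: tensoring a pushout square of `K`-algebras with `K'` gives a pushout square.
`face_comp`: the square `K'' ⊗ A → K' ⊗ A`, `K'' ⊗ B → K' ⊗ B` is a pushout.
-/

set_option autoImplicit false
universe u

open CategoryTheory CategoryTheory.Limits TensorProduct

namespace Groth.Agent.Lib.Seat19.PO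

variable {K : Type u} [CommRing K]

section
variable (K' : Type u) [CommRing K'] [Algebra K K']
variable {A B : Type u} [CommRing A] [CommRing B] [Algebra K A] [Algebra K B]

/-- `a ↦ 1 ⊗ a` as a morphism of `CommRingCat`. -/
noncomputable abbrev incR (A : Type u) [CommRing A] [Algebra K A] :
    CommRingCat.of A ⟶ CommRingCat.of (K' ⊗[K] A) :=
  CommRingCat.ofHom (Algebra.TensorProduct.includeRight (R := K) (A := K') (B := A)).toRingHom

/-- `K' ⊗ f` as a morphism of `CommRingCat`. -/
noncomputable abbrev tmap (f : A →ₐ[K] B) :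
    CommRingCat.of (K' ⊗[K] A) ⟶ CommRingCat.of (K' ⊗[K] B) :=
  CommRingCat.ofHom (Algebra.TensorProduct.map (AlgHom.id K' K') f).toRingHom

theorem incR_tmap (f : A →ₐ[K] B) :
    incR K' A ≫ tmap K' f = CommRingCat.ofHom f.toRingHom ≫ incR K' B := by
  ext a
  simp

theorem face (f : A →ₐ[K] B) :
    IsPushout (incR K' A) (CommRingCat.ofHom f.toRingHom) (tmap K' f) (incR K' B) := by
  have top := CommRingCat.isPushout_tensorProduct K K' A
  have outer := CommRingCat.isPushout_tensorProduct K K' B
  have e1 : CommRingCat.ofHom (algebraMap K B) =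
      CommRingCat.ofHom (algebraMap K A) ≫ CommRingCat.ofHom f.toRingHom := by
    ext k
    simp
  have e2 : (CommRingCat.ofHom (S := K' ⊗[K] B) Algebra.TensorProduct.includeLeftRingHom) =
      (CommRingCat.ofHom (S := K' ⊗[K] A) Algebra.TensorProduct.includeLeftRingHom) ≫
        tmap K' f := by
    ext k
    simp
  rw [e1, e2] at outer
  exact outer.of_top (incR_tmap K' f) top

end

section
variable (K' : Type u) [CommRing K'] [Algebra K K']
variable {R S T P : Type u} [CommRing R] [CommRing S] [CommRing T] [CommRing P]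
  [Algebra K R] [Algebra K S] [Algebra K T] [Algebra K P]

theorem cube (f : R →ₐ[K] S) (g : R →ₐ[K] T) (inl : S →ₐ[K] P) (inr : T →ₐ[K] P)
    (h : IsPushout (CommRingCat.ofHom f.toRingHom) (CommRingCat.ofHom g.toRingHom)
      (CommRingCat.ofHom inl.toRingHom) (CommRingCat.ofHom inr.toRingHom)) :
    IsPushout (tmap K' f) (tmap K' g) (tmap K' inl) (tmap K' inr) := by
  have h1 := h.paste_vert (face K' inr).flip
  rw [← incR_tmap K' g, ← incR_tmap K' inl] at h1
  refine h1.of_top ?_ (face K' f).flip
  have hw := h.w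
  have hw' : ∀ r : R, inl (f r) = inr (g r) := fun r => congrArg (fun φ => φ.hom r) hw
  ext x
  · simp
  · simp [hw']

end

section
variable {K'' K' : Type u} [CommRing K''] [CommRing K'] [Algebra K K''] [Algebra K K']
variable {A B : Type u} [CommRing A] [CommRing B] [Algebra K A] [Algebra K B]

/-- `ψ ⊗ A` as a morphism of `CommRingCat`. -/
noncomputable abbrev lmap (ψ : K'' →ₐ[K] K') (A : Type u) [CommRing A] [Algebra K A] :
    CommRingCat.of (K'' ⊗[K] A) ⟶ CommRingCat.of (K' ⊗[K] A) :=
  CommRingCat.ofHom (Algebra.TensorProduct.map ψ (AlgHom.id K A)).toRingHom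

theorem face_comp (ψ : K'' →ₐ[K] K') (f : A →ₐ[K] B) :
    IsPushout (tmap K'' f) (lmap ψ A) (lmap ψ B) (tmap K' f) := by
  have t := face K'' f
  have s := face K' f
  have e1 : incR K' A = incR K'' A ≫ lmap ψ A := by
    ext a
    simp
  have e2 : incR K' B = incR K'' B ≫ lmap ψ B := by
    ext a
    simp
  rw [e1, e2] at s
  refine (s.of_left ?_ t).flip
  ext x
  · simp
  · simp

end

end Groth.Agent.Lib.Seat19.PO
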