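import Mathlib
import Groth.Agent.Lib.Helper2RetCharpoly

/-!
# Pointwise criterion for the "norm" of a finite projective algebra (helper19)

For a finite projective `R`-algebra `S` (a retract of `R^n`), and `b : S`, let `χ` be the
characteristic polynomial of `(b - 1) ⊕ 0` on `S ⊕ Q ≅ R^n` (`IsRCP R S n (b - 1) χ`). Then
`χ.eval (-1)` is, up to sign, the determinant of multiplication by `b` on `S`, and for a prime `p`
of `R`: `χ.eval (-1) ∈ p` iff some prime of `S` over `p` contains `b`.
-/

set_option autoImplicit false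
universe u

open Polynomial TensorProduct
open Groth.Agent.Lib.Helper2.RetCharpoly

namespace Groth.Agent.Lib.Seat19.NormCrit

attribute [local instance] Algebra.TensorProduct.rightAlgebra

/-- Over a field: if `-1` is a root of the characteristic polynomial of `(β - 1) ⊕ 0`, then `β` is a
zero divisor. -/
theorem exists_mul_eq_zero_of_eval {k P : Type*} [Field k] [CommRing P] [Algebra k P] {n : ℕ}
    (β : P) (χ : k[X]) (h : IsRCP k P n (β - 1) χ) (h0 : χ.eval (-1) = 0) :
    ∃ w : P, w ≠ 0 ∧ β * w = 0 := by
  obtain ⟨r, rfl⟩ := h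
  set m : P →ₗ[k] P := Algebra.lmul k P (β - 1) with hm
  have h1 : r.cp m = (r.endo m).charpoly := by
    unfold Ret.cp
    rw [← LinearMap.toMatrix_eq_toMatrix', LinearMap.charpoly_toMatrix]
  rw [h1] at h0
  have h2 : Module.End.HasEigenvalue (r.endo m) (-1) :=
    (Module.End.hasEigenvalue_iff_isRoot_charpoly _ _).mpr h0
  obtain ⟨v, hv⟩ := h2.exists_hasEigenvector
  have hv1 : r.endo m v = (-1 : k) • v := Module.End.mem_eigenspace_iff.mp hv.1
  have hv2 : v ≠ 0 := hv.2
  refine ⟨r.p v, ?_, ?_⟩
  · intro hpv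
    apply hv2
    have : r.endo m v = 0 := by
      simp only [Ret.endo, LinearMap.comp_apply, hpv, map_zero]
    rw [this] at hv1
    have h3 : v = -((-1 : k) • v) := by simp
    rw [h3, ← hv1, neg_zero]
  · have h3 := congrArg r.p hv1
    simp only [Ret.endo, LinearMap.comp_apply, Ret.pi_apply, map_smul] at h3
    have h4 : m (r.p v) = (β - 1) * r.p v := by rw [hm]; rfl
    rw [h4] at h3
    have : β * r.p v = (β - 1) * r.p v + r.p v := by ring
    rw [this, h3]
    simp

/-- The criterion: `χ.eval (-1) ∈ p` iff some prime of `S` over `p` contains `b`. -/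
theorem eval_mem_iff {R S : Type*} [CommRing R] [CommRing S] [Algebra R S] {n : ℕ} (b : S)
    (χ : R[X]) (h : IsRCP R S n (b - 1) χ) (p : Ideal R) [p.IsPrime] :
    χ.eval (-1) ∈ p ↔ ∃ q : Ideal S, q.IsPrime ∧ q.comap (algebraMap R S) = p ∧ b ∈ q := by
  constructor
  · intro hp
    let k := p.ResidueField
    let P := k ⊗[R] S
    have hbc : IsRCP k P n (algebraMap S P (b - 1)) (χ.map (algebraMap R k)) := h.bc
    have e1 : algebraMap S P (b - 1) = algebraMap S P b - 1 := by
      rw [map_sub, map_one]
    rw [e1] at hbc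
    have h0 : (χ.map (algebraMap R k)).eval (-1) = 0 := by
      have : (-1 : k) = algebraMap R k (-1) := by simp
      rw [this, Polynomial.eval_map_apply, Ideal.algebraMap_residueField_eq_zero]
      exact hp
    obtain ⟨w, hw, hbw⟩ := exists_mul_eq_zero_of_eval (algebraMap S P b) _ hbc h0
    have hnu : ¬ IsUnit (algebraMap S P b) := by
      intro hu
      apply hw
      have := hu.mul_right_eq_zero.mp hbw
      exact this
    obtain ⟨M, hM, hbM⟩ := exists_max_ideal_of_mem_nonunits hnu
    refine ⟨M.comap (algebraMap S P), inferInstance, ?_, hbM⟩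
    rw [Ideal.comap_comap, ← IsScalarTower.algebraMap_eq, IsScalarTower.algebraMap_eq R k P,
      ← Ideal.comap_comap]
    have : M.comap (algebraMap k P) = ⊥ := by
      have hne : M.comap (algebraMap k P) ≠ ⊤ := Ideal.comap_ne_top _ hM.ne_top
      exact (Ideal.eq_bot_or_top _).resolve_right hne
    rw [this, ← RingHom.ker_eq_comap_bot, Ideal.ker_algebraMap_residueField]
  · rintro ⟨q, hq, hqp, hbq⟩
    have h1 : aeval (b - 1) χ = 0 := h.aeval_eq_zero
    have h2 : (b - 1) - algebraMap R S (-1) ∣ aeval (b - 1) χ - aeval (algebraMap R S (-1)) χ := by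
      rw [aeval_def, aeval_def, eval₂_eq_eval_map, eval₂_eq_eval_map]
      exact Polynomial.sub_dvd_eval_sub _ _ _
    have h3 : (b - 1) - algebraMap R S (-1) = b := by
      rw [map_neg, map_one]; ring
    rw [h3, h1, zero_sub, aeval_algebraMap_apply] at h2
    have h4 : algebraMap R S (χ.eval (-1)) ∈ q := by
      have := Ideal.mem_of_dvd q h2 hbq
      simpa using this
    rw [← hqp]
    exact h4

end Groth.Agent.Lib.Seat19.NormCrit
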