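import Mathlib
import Groth.Agent.Lib.Helper2RetCharpoly
import Groth.Agent.Lib.Seat19NormCrit

/-!
# Ring-level finite locally free groupoids (helper19)

`RGrpd K A B D` is the ring-level shadow of a groupoid scheme `(U, R, s, t, c)` with `U = Spec A`,
`R = Spec B`, `R ×_{s,U,t} R = Spec D`, everything over a base ring `K` (on which source and target
agree), with `s` finite locally free.  The two pushout squares are exactly those used in the norm
argument.  Main results: the coefficients of the characteristic polynomial of `τ f` are invariant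
(`RGrpd.map_σ_eq_map_τ`), `A` is integral over the invariants, and the orbit theorem
(`RGrpd.exists_prime_of_comap_eq`).
-/

set_option autoImplicit false
set_option linter.style.haveILetI false
universe v u

open CategoryTheory CategoryTheory.Limits Polynomial
open Groth.Agent.Lib.Helper2.RetCharpoly

namespace Groth.Agent.Lib.Seat19.RG

/-- Ring-level groupoid datum. -/
structure RGrpd (K : Type v) (A B D : Type u) [CommRing K] [CommRing A] [CommRing B] [CommRing D]
    [Algebra K A] [Algebra K B] [Algebra K D] where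
  σ : A →ₐ[K] B
  τ : A →ₐ[K] B
  ε : B →ₐ[K] A
  p0 : B →ₐ[K] D
  p1 : B →ₐ[K] D
  c : B →ₐ[K] D
  hεσ : ∀ a, ε (σ a) = a
  hετ : ∀ a, ε (τ a) = a
  hcτ : ∀ a, c (τ a) = p0 (τ a)
  hcσ : ∀ a, c (σ a) = p1 (σ a)
  po1 : IsPushout (CommRingCat.ofHom σ.toRingHom) (CommRingCat.ofHom τ.toRingHom)
    (CommRingCat.ofHom p0.toRingHom) (CommRingCat.ofHom p1.toRingHom)
  po2 : IsPushout (CommRingCat.ofHom σ.toRingHom) (CommRingCat.ofHom σ.toRingHom)
    (CommRingCat.ofHom c.toRingHom) (CommRingCat.ofHom p1.toRingHom)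
  fin : letI := σ.toRingHom.toAlgebra; Module.Finite A B
  proj : letI := σ.toRingHom.toAlgebra; Module.Projective A B

namespace RGrpd

variable {K : Type v} {A B D : Type u} [CommRing K] [CommRing A] [CommRing B] [CommRing D]
  [Algebra K A] [Algebra K B] [Algebra K D] (G : RGrpd K A B D)

/-- the ring of invariants -/
abbrev inv : Subring A := RingHom.eqLocus G.σ.toRingHom G.τ.toRingHom

theorem hp (a : A) : G.p0 (G.σ a) = G.p1 (G.τ a) := by
  have := congrArg (fun φ => φ.hom a) G.po1.w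
  exact this

theorem exists_isRCP : letI := G.σ.toRingHom.toAlgebra;
    ∃ n, ∀ b : B, ∃ χ, IsRCP A B n b χ := by
  letI := G.σ.toRingHom.toAlgebra
  haveI := G.fin
  haveI := G.proj
  exact Groth.Agent.Lib.Helper2.RetCharpoly.exists_isRCP A B

/-- invariance of the characteristic polynomial of `τ f`. -/
theorem map_σ_eq_map_τ (n : ℕ) (f : A) (χ : A[X])
    (hχ : letI := G.σ.toRingHom.toAlgebra; IsRCP A B n (G.τ f) χ) :
    χ.map G.σ.toRingHom = χ.map G.τ.toRingHom := by
  have e1 := isRCP_cat G.po1 n (G.τ f) χ hχ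
  have e2 := isRCP_cat G.po2 n (G.τ f) χ hχ
  have hc : (CommRingCat.ofHom G.c.toRingHom).hom (G.τ f) =
      (CommRingCat.ofHom G.p0.toRingHom).hom (G.τ f) := G.hcτ f
  rw [hc] at e2
  letI := (CommRingCat.ofHom G.p1.toRingHom).hom.toAlgebra
  exact IsRCP.unique e2 e1

theorem coeff_mem_inv (n : ℕ) (f : A) (χ : A[X])
    (hχ : letI := G.σ.toRingHom.toAlgebra; IsRCP A B n (G.τ f) χ) (k : ℕ) :
    χ.coeff k ∈ G.inv := by
  have := congrArg (fun q => q.coeff k) (G.map_σ_eq_map_τ n f χ hχ)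
  simp only [Polynomial.coeff_map] at this
  exact this

theorem eval_mem_inv (n : ℕ) (f : A) (χ : A[X])
    (hχ : letI := G.σ.toRingHom.toAlgebra; IsRCP A B n (G.τ f) χ) (x : A) (hx : x ∈ G.inv) :
    χ.eval x ∈ G.inv := by
  rw [Polynomial.eval_eq_sum_range]
  refine Subring.sum_mem _ fun k _ => ?_
  exact Subring.mul_mem _ (G.coeff_mem_inv n f χ hχ k) (Subring.pow_mem _ hx k)

/-- `A` is integral over the invariants. -/
theorem isIntegral : Algebra.IsIntegral G.inv A := by
  obtain ⟨n, hn⟩ := G.exists_isRCP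
  constructor
  intro f
  obtain ⟨χ, hχ⟩ := hn (G.τ f)
  have h0 : (letI := G.σ.toRingHom.toAlgebra; aeval (G.τ f) χ) = 0 := by
    letI := G.σ.toRingHom.toAlgebra
    exact hχ.aeval_eq_zero
  have hmonic : χ.Monic := by
    letI := G.σ.toRingHom.toAlgebra
    exact hχ.monic
  have h1 : eval₂ (RingHom.id _) f χ = 0 := by
    have h2 : eval₂ G.σ.toRingHom (G.τ f) χ = 0 := h0
    have h3 := congrArg G.ε.toRingHom h2
    rw [Polynomial.hom_eval₂, map_zero] at h3
    have h4 : G.ε.toRingHom.comp G.σ.toRingHom = RingHom.id _ := RingHom.ext G.hεσ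
    have h5 : G.ε.toRingHom (G.τ f) = f := G.hετ f
    rwa [h4, h5] at h3
  have hsub : (↑χ.coeffs : Set A) ⊆ G.inv := by
    intro a ha
    obtain ⟨k, -, rfl⟩ := Polynomial.mem_coeffs_iff.mp ha
    exact G.coeff_mem_inv n f χ hχ k
  refine ⟨χ.toSubring G.inv hsub, (Polynomial.monic_toSubring _ _ _).mpr hmonic, ?_⟩
  have h5 : (χ.toSubring G.inv hsub).map (Subring.subtype G.inv) = χ :=
    Polynomial.map_toSubring _ _ _
  rw [← h5, Polynomial.eval₂_map] at h1
  exact h1

/-- the norm-like function: there is an invariant function `N f` vanishing at `p` iff `τ f`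
vanishes at some point of the fibre of `σ` over `p`. -/
theorem exists_norm (f : A) : ∃ N : A, N ∈ G.inv ∧ ∀ (p : Ideal A) [p.IsPrime],
    (N ∈ p ↔ ∃ q : Ideal B, q.IsPrime ∧ q.comap G.σ.toRingHom = p ∧ G.τ f ∈ q) := by
  obtain ⟨n, hn⟩ := G.exists_isRCP
  obtain ⟨χ, hχ⟩ := hn (G.τ (f - 1))
  refine ⟨χ.eval (-1), ?_, ?_⟩
  · exact G.eval_mem_inv n (f - 1) χ hχ (-1) (Subring.neg_mem _ (Subring.one_mem _))
  · intro p _
    letI := G.σ.toRingHom.toAlgebra
    have hχ' : IsRCP A B n (G.τ f - 1) χ := by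
      have : G.τ (f - 1) = G.τ f - 1 := by rw [map_sub, map_one]
      rw [← this]
      exact hχ
    exact Groth.Agent.Lib.Seat19.NormCrit.eval_mem_iff (G.τ f) χ hχ' p

end RGrpd

/-- The orbit argument in pure ring form. -/
theorem orbit_core {A B : Type*} [CommRing A] [CommRing B] (σ τ : A →+* B) (ε : B →+* A)
    (hεσ : ∀ a, ε (σ a) = a) (hετ : ∀ a, ε (τ a) = a)
    (hfin : letI := σ.toAlgebra; Module.Finite A B)
    (hint : Algebra.IsIntegral (RingHom.eqLocus σ τ) A)
    (hN : ∀ f : A, ∃ N : A, N ∈ RingHom.eqLocus σ τ ∧ ∀ (p : Ideal A) [p.IsPrime],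
      (N ∈ p ↔ ∃ q : Ideal B, q.IsPrime ∧ q.comap σ = p ∧ τ f ∈ q))
    (P₀ P₁ : Ideal A) [P₀.IsPrime] [P₁.IsPrime]
    (h : P₀.comap (RingHom.eqLocus σ τ).subtype = P₁.comap (RingHom.eqLocus σ τ).subtype) :
    ∃ Q : Ideal B, Q.IsPrime ∧ Q.comap τ = P₀ ∧ Q.comap σ = P₁ := by
  classical
  by_contra hcon
  push Not at hcon
  letI := σ.toAlgebra
  haveI := hfin
  have hfinT : (P₁.primesOver B).Finite := Algebra.QuasiFinite.finite_primesOver P₁
  set T : Finset (Ideal B) := hfinT.toFinset with hT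
  have hTmem : ∀ Q, Q ∈ T ↔ Q.IsPrime ∧ Q.comap σ = P₁ := by
    intro Q
    rw [hT, Set.Finite.mem_toFinset]
    constructor
    · rintro ⟨h1, h2⟩
      exact ⟨h1, h2.over.symm⟩
    · rintro ⟨h1, h2⟩
      exact ⟨h1, ⟨h2.symm⟩⟩
  -- contraction to the invariants agrees along orbits
  have hcontr : ∀ Q : Ideal B, (Q.comap τ).comap (RingHom.eqLocus σ τ).subtype =
      (Q.comap σ).comap (RingHom.eqLocus σ τ).subtype := by
    intro Q
    ext x
    simp only [Ideal.mem_comap, Subring.coe_subtype]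
    rw [x.2]
  have hnot : ¬ ((P₀ : Set A) ⊆ ⋃ Q ∈ (↑T : Set (Ideal B)), (Q.comap τ : Ideal A)) := by
    intro hsub
    have hprime : ∀ Q ∈ T, Q ≠ ⊥ → Q ≠ ⊥ → (Q.comap τ).IsPrime := by
      intro Q hQ _ _
      haveI := ((hTmem Q).mp hQ).1
      exact Ideal.comap_isPrime τ Q
    obtain ⟨Q, hQT, hle⟩ := (Ideal.subset_union_prime (f := fun Q : Ideal B => Q.comap τ) ⊥ ⊥
      hprime).mp hsub
    obtain ⟨hQp, hQσ⟩ := (hTmem Q).mp hQT
    haveI := hQp
    apply hcon Q hQp _ hQσ
    -- incomparability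
    by_contra hne
    have hlt : P₀ < Q.comap τ := lt_of_le_of_ne hle (Ne.symm hne)
    have := Ideal.IsIntegral.comap_lt_comap (R := RingHom.eqLocus σ τ) hlt
    have e1 : (Q.comap τ).comap (algebraMap (RingHom.eqLocus σ τ) A) =
        P₀.comap (algebraMap (RingHom.eqLocus σ τ) A) := by
      have := hcontr Q
      rw [hQσ, ← h] at this
      exact this
    rw [e1] at this
    exact lt_irrefl _ this
  obtain ⟨f, hf0, hfT⟩ := Set.not_subset.mp hnot
  obtain ⟨N, hNinv, hNp⟩ := hN f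
  have hN0 : N ∈ P₀ := by
    rw [hNp P₀]
    refine ⟨P₀.comap ε, Ideal.comap_isPrime ε P₀, ?_, ?_⟩
    · ext a
      simp only [Ideal.mem_comap, hεσ]
    · simp only [Ideal.mem_comap, hετ]
      exact hf0
  have hN1 : N ∈ P₁ := by
    have : (⟨N, hNinv⟩ : RingHom.eqLocus σ τ) ∈ P₀.comap (RingHom.eqLocus σ τ).subtype := hN0
    rw [h] at this
    exact this
  obtain ⟨q, hq, hqσ, hqf⟩ := (hNp P₁).mp hN1
  apply hfT
  simp only [Set.mem_iUnion]
  exact ⟨q, (hTmem q).mpr ⟨hq, hqσ⟩, hqf⟩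

namespace RGrpd

variable {K : Type v} {A B D : Type u} [CommRing K] [CommRing A] [CommRing B] [CommRing D]
  [Algebra K A] [Algebra K B] [Algebra K D] (G : RGrpd K A B D)

/-- Orbit theorem: two primes of `A` with the same contraction to the invariants are the target and
source of a prime of `B`. -/
theorem exists_prime_of_comap_eq (P₀ P₁ : Ideal A) [P₀.IsPrime] [P₁.IsPrime]
    (h : P₀.comap G.inv.subtype = P₁.comap G.inv.subtype) :
    ∃ Q : Ideal B, Q.IsPrime ∧ Q.comap G.τ.toRingHom = P₀ ∧ Q.comap G.σ.toRingHom = P₁ :=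
  orbit_core G.σ.toRingHom G.τ.toRingHom G.ε.toRingHom G.hεσ G.hετ G.fin G.isIntegral
    G.exists_norm P₀ P₁ h

end RGrpd

end Groth.Agent.Lib.Seat19.RG
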