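import Mathlib
import Groth.Agent.Lib.Helper2RetCharpoly
import Groth.Agent.Lib.Seat19RG
import Groth.Agent.Lib.Seat19PO

/-!
# Base change of ring-level groupoids (helper19)
-/

set_option autoImplicit false
set_option linter.style.haveILetI false
universe u

open CategoryTheory CategoryTheory.Limits Polynomial TensorProduct
open Groth.Agent.Lib.Helper2.RetCharpoly
open Groth.Agent.Lib.Seat19.PO

namespace Groth.Agent.Lib.Seat19.RG

/-- finiteness and projectivity pass through pushouts of commutative rings -/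
theorem finite_projective_cat {R S T P : CommRingCat.{u}} {f : R ⟶ S} {g : R ⟶ T} {inl : S ⟶ P}
    {inr : T ⟶ P} (h : IsPushout f g inl inr)
    (hfin : letI := f.hom.toAlgebra; Module.Finite R S)
    (hproj : letI := f.hom.toAlgebra; Module.Projective R S) :
    letI := inr.hom.toAlgebra; Module.Finite T P ∧ Module.Projective T P := by
  algebraize [f.hom, g.hom, inl.hom, inr.hom, inl.hom.comp f.hom]
  have : IsScalarTower R T P := .of_algebraMap_eq' <| congr($(h.1.1).hom)
  have h1 : Algebra.IsPushout R S T P := CommRingCat.isPushout_iff_isPushout.mp h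
  have h2 : Algebra.IsPushout R T S P := h1.symm
  haveI : Module.Finite R S := hfin
  haveI : Module.Projective R S := hproj
  let e : T ⊗[R] S ≃ₐ[T] P := Algebra.IsPushout.equiv R T S P
  exact ⟨Module.Finite.equiv e.toLinearEquiv, Module.Projective.of_equiv e.toLinearEquiv⟩

/-- retracts pass through pushouts of commutative rings -/
theorem ret_cat {R S T P : CommRingCat.{u}} {f : R ⟶ S} {g : R ⟶ T} {inl : S ⟶ P}
    {inr : T ⟶ P} (h : IsPushout f g inl inr) (n : ℕ)
    (hr : letI := f.hom.toAlgebra; Nonempty (Ret R S n)) :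
    letI := inr.hom.toAlgebra; Nonempty (Ret T P n) := by
  algebraize [f.hom, g.hom, inl.hom, inr.hom, inl.hom.comp f.hom]
  have : IsScalarTower R T P := .of_algebraMap_eq' <| congr($(h.1.1).hom)
  have h1 : Algebra.IsPushout R S T P := CommRingCat.isPushout_iff_isPushout.mp h
  have h2 : Algebra.IsPushout R T S P := h1.symm
  obtain ⟨r⟩ := hr
  exact ⟨r.bc⟩

namespace RGrpd

variable {K A B D : Type u} [CommRing K] [CommRing A] [CommRing B] [CommRing D]
  [Algebra K A] [Algebra K B] [Algebra K D] (G : RGrpd K A B D)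

/-- `B` is a retract of `A^n` (through `σ`). -/
def HasRet (n : ℕ) : Prop := letI := G.σ.toRingHom.toAlgebra; Nonempty (Ret A B n)

theorem exists_hasRet : ∃ n, G.HasRet n := by
  letI := G.σ.toRingHom.toAlgebra
  haveI := G.fin
  haveI := G.proj
  exact exists_ret A B

theorem HasRet.exists_isRCP {n : ℕ} (h : G.HasRet n) (b : B) :
    letI := G.σ.toRingHom.toAlgebra; ∃ χ, IsRCP A B n b χ := by
  letI := G.σ.toRingHom.toAlgebra
  obtain ⟨r⟩ := h
  exact ⟨_, r, rfl⟩

variable (K' : Type u) [CommRing K'] [Algebra K K']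

theorem bc_aux1 (f : A →ₐ[K] B) (g : B →ₐ[K] A) (h : ∀ a, g (f a) = a) (x : K' ⊗[K] A) :
    Algebra.TensorProduct.map (AlgHom.id K' K') g
      (Algebra.TensorProduct.map (AlgHom.id K' K') f x) = x := by
  induction x using TensorProduct.induction_on with
  | zero => simp
  | tmul k a => simp [h]
  | add x y hx hy => simp only [map_add, hx, hy]

theorem bc_aux2 (f : A →ₐ[K] B) (g g' : B →ₐ[K] D) (h : ∀ a, g (f a) = g' (f a))
    (x : K' ⊗[K] A) :
    Algebra.TensorProduct.map (AlgHom.id K' K') g
      (Algebra.TensorProduct.map (AlgHom.id K' K') f x) =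
    Algebra.TensorProduct.map (AlgHom.id K' K') g'
      (Algebra.TensorProduct.map (AlgHom.id K' K') f x) := by
  induction x using TensorProduct.induction_on with
  | zero => simp
  | tmul k a => simp [h]
  | add x y hx hy => simp only [map_add, hx, hy]

/-- base change of the ring-level groupoid along `K → K'`. -/
noncomputable def bc : RGrpd K' (K' ⊗[K] A) (K' ⊗[K] B) (K' ⊗[K] D) where
  σ := Algebra.TensorProduct.map (AlgHom.id K' K') G.σ
  τ := Algebra.TensorProduct.map (AlgHom.id K' K') G.τ
  ε := Algebra.TensorProduct.map (AlgHom.id K' K') G.ε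
  p0 := Algebra.TensorProduct.map (AlgHom.id K' K') G.p0
  p1 := Algebra.TensorProduct.map (AlgHom.id K' K') G.p1
  c := Algebra.TensorProduct.map (AlgHom.id K' K') G.c
  hεσ := bc_aux1 K' G.σ G.ε G.hεσ
  hετ := bc_aux1 K' G.τ G.ε G.hετ
  hcτ := bc_aux2 K' G.τ G.c G.p0 G.hcτ
  hcσ := bc_aux2 K' G.σ G.c G.p1 G.hcσ
  po1 := cube K' G.σ G.τ G.p0 G.p1 G.po1
  po2 := cube K' G.σ G.σ G.c G.p1 G.po2
  fin := (finite_projective_cat (face K' G.σ).flip G.fin G.proj).1
  proj := (finite_projective_cat (face K' G.σ).flip G.fin G.proj).2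

theorem HasRet.bc {n : ℕ} (h : G.HasRet n) : (G.bc K').HasRet n :=
  ret_cat (face K' G.σ).flip n h

end RGrpd

end Groth.Agent.Lib.Seat19.RG

namespace Groth.Agent.Lib.Seat19.RG

namespace RGrpd

variable {K A B D : Type u} [CommRing K] [CommRing A] [CommRing B] [CommRing D]
  [Algebra K A] [Algebra K B] [Algebra K D] (G : RGrpd K A B D)

/-- every invariant comes from the base ring `K`. -/
def InvSurj : Prop := ∀ a ∈ G.inv, a ∈ Set.range (algebraMap K A)

variable (K' : Type u) [CommRing K'] [Algebra K K']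

theorem algebraMap_mem_inv (k : K) : algebraMap K A k ∈ G.inv := by
  show G.σ (algebraMap K A k) = G.τ (algebraMap K A k)
  rw [AlgHom.commutes, AlgHom.commutes]

/-- Flat base change of invariants. -/
theorem InvSurj.bc_of_flat [Module.Flat K K'] (h : G.InvSurj) : (G.bc K').InvSurj := by
  intro x hx
  let f : K →ₗ[K] A := Algebra.linearMap K A
  let g : A →ₗ[K] B := G.σ.toLinearMap - G.τ.toLinearMap
  have hexact : Function.Exact f g := by
    intro a
    constructor
    · intro ha
      have : G.σ a = G.τ a := by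
        have : G.σ a - G.τ a = 0 := ha
        exact sub_eq_zero.mp this
      exact h a this
    · rintro ⟨k, rfl⟩
      show G.σ (algebraMap K A k) - G.τ (algebraMap K A k) = 0
      rw [AlgHom.commutes, AlgHom.commutes, sub_self]
  have hexact' := Module.Flat.lTensor_exact K' hexact
  have h1 : ∀ z : K' ⊗[K] A, g.lTensor K' z = (G.bc K').σ z - (G.bc K').τ z := by
    intro z
    induction z using TensorProduct.induction_on with
    | zero => simp
    | tmul k a =>
      simp [g, RGrpd.bc]
    | add x y hx hy =>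
      simp only [map_add]
      rw [hx, hy]
      ring
  have hgx : g.lTensor K' x = 0 := by
    rw [h1]
    exact sub_eq_zero.mpr hx
  obtain ⟨y, hy⟩ := (hexact' x).mp hgx
  refine ⟨TensorProduct.rid K K' y, ?_⟩
  rw [← hy]
  clear hy
  induction y using TensorProduct.induction_on with
  | zero => simp
  | tmul k' k =>
    simp only [TensorProduct.rid_tmul, LinearMap.lTensor_tmul, f, Algebra.linearMap_apply,
      Algebra.TensorProduct.algebraMap_apply, Algebra.algebraMap_self, RingHom.id_apply]
    rw [Algebra.algebraMap_eq_smul_one, TensorProduct.tmul_smul, TensorProduct.smul_tmul']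
  | add x y hx hy => simp only [map_add, hx, hy]


theorem map_map_comm {K'' : Type u} [CommRing K''] [Algebra K K''] (ψ : K'' →ₐ[K] K')
    (g : A →ₐ[K] B) (F : K'' ⊗[K] A) :
    Algebra.TensorProduct.map ψ (AlgHom.id K B)
        (Algebra.TensorProduct.map (AlgHom.id K'' K'') g F) =
      Algebra.TensorProduct.map (AlgHom.id K' K') g
        (Algebra.TensorProduct.map ψ (AlgHom.id K A) F) := by
  induction F using TensorProduct.induction_on with
  | zero => simp
  | tmul k a => simp
  | add x y hx hy => simp only [map_add, hx, hy]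

/-- Universal invariance: after any base change `K → K'` (with `K` the invariants), the
characteristic polynomial of `τ' f` has coefficients coming from `K'`. -/
theorem exists_poly (h : G.InvSurj) {n : ℕ} (hr : G.HasRet n) (f : K' ⊗[K] A) :
    ∃ P : K'[X], letI := (G.bc K').σ.toRingHom.toAlgebra;
      IsRCP (K' ⊗[K] A) (K' ⊗[K] B) n ((G.bc K').τ f) (P.map (algebraMap K' (K' ⊗[K] A))) := by
  let K'' := MvPolynomial K' K
  let ψ : K'' →ₐ[K] K' := MvPolynomial.aeval id
  have hψ : Function.Surjective ψ := fun k' => ⟨MvPolynomial.X k', by simp only [ψ]; rw [MvPolynomial.aeval_X]; rfl⟩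
  have hsurj : Function.Surjective (Algebra.TensorProduct.map ψ (AlgHom.id K A)) :=
    TensorProduct.map_surjective hψ Function.surjective_id
  obtain ⟨F, hF⟩ := hsurj f
  obtain ⟨χ, hχ⟩ := RGrpd.HasRet.exists_isRCP (G.bc K'') (RGrpd.HasRet.bc G K'' hr) ((G.bc K'').τ F)
  have hcoef : ∀ k, χ.coeff k ∈ Set.range (algebraMap K'' (K'' ⊗[K] A)) := fun k =>
    (RGrpd.InvSurj.bc_of_flat G K'' h) _ ((G.bc K'').coeff_mem_inv n F χ hχ k)
  have hlift : χ ∈ Polynomial.lifts (algebraMap K'' (K'' ⊗[K] A)) :=
    (Polynomial.lifts_iff_coeff_lifts χ).mpr hcoef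
  obtain ⟨P, hP⟩ := hlift
  refine ⟨P.map ψ.toRingHom, ?_⟩
  have e1 := isRCP_cat (face_comp ψ G.σ) n ((G.bc K'').τ F) χ hχ
  have e2 : (lmap ψ B).hom ((G.bc K'').τ F) = (G.bc K').τ f := by
    rw [← hF]
    exact map_map_comm K' ψ G.τ F
  have e3 : χ.map (lmap ψ A).hom = (P.map ψ.toRingHom).map (algebraMap K' (K' ⊗[K] A)) := by
    rw [← hP, Polynomial.coe_mapRingHom, Polynomial.map_map, Polynomial.map_map]
    congr 1
  rw [e2, e3] at e1
  exact e1
end RGrpd

end Groth.Agent.Lib.Seat19.RG
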