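import Mathlib
import Groth.Agent.Lib.Helper2RetCharpoly
import Groth.Agent.Lib.Helper27SemiLocalBasis
import Groth.Agent.Lib.Seat19RGbc
import Groth.Agent.S7486

/-!
# The local case of the finite flat quotient theorem, ring level (helper19)
-/

set_option autoImplicit false
set_option linter.style.haveILetI false
universe u

open CategoryTheory CategoryTheory.Limits Polynomial TensorProduct
open Groth.Agent.Lib.Helper2.RetCharpoly

namespace Groth.Agent.Lib.Seat19.RG

theorem finrank_quotient_tensor_eq_rankAtStalk {R M : Type*} [CommRing R] [AddCommGroup M]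
    [Module R M] [Module.Finite R M] [Module.Flat R M] (P : Ideal R) [hP : P.IsMaximal] :
    Module.finrank (R ⧸ P) ((R ⧸ P) ⊗[R] M) = Module.rankAtStalk M ⟨P, hP.isPrime⟩ := by
  letI := Ideal.Quotient.field P
  rw [Module.rankAtStalk_eq]
  let k := P.ResidueField
  let e : k ⊗[R ⧸ P] ((R ⧸ P) ⊗[R] M) ≃ₗ[k] k ⊗[R] M :=
    AlgebraTensorModule.cancelBaseChange R (R ⧸ P) k k M
  show _ = Module.finrank k (k ⊗[R] M)
  rw [← e.finrank_eq]
  exact (Module.finrank_baseChange (R := k) (S := R ⧸ P) (M' := (R ⧸ P) ⊗[R] M)).symm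

namespace RGrpd

variable {K A B D : Type u} [CommRing K] [CommRing A] [CommRing B] [CommRing D]
  [Algebra K A] [Algebra K B] [Algebra K D] (G : RGrpd K A B D)

/-- `A` is integral over `K` when `K` surjects onto the invariants. -/
theorem isIntegral_base (h : G.InvSurj) : Algebra.IsIntegral K A := by
  let θ : K →+* G.inv := (algebraMap K A).codRestrict G.inv (G.algebraMap_mem_inv)
  letI : Algebra K G.inv := θ.toAlgebra
  haveI : IsScalarTower K G.inv A := IsScalarTower.of_algebraMap_eq (fun _ => rfl)
  have hθ : Function.Surjective (algebraMap K G.inv) := by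
    intro x
    obtain ⟨k, hk⟩ := h x.1 x.2
    exact ⟨k, Subtype.ext hk⟩
  haveI : Algebra.IsIntegral K G.inv := Algebra.isIntegral_of_surjective hθ
  haveI : Algebra.IsIntegral G.inv A := G.isIntegral
  exact Algebra.IsIntegral.trans (R := K) (A := G.inv) (B := A)

/-- all maximal ideals of `A` have the same contraction to the invariants when `K` is local. -/
theorem comap_inv_eq_of_isMaximal [IsLocalRing K] (h : G.InvSurj) (M M' : Ideal A)
    [M.IsMaximal] [M'.IsMaximal] : M.comap G.inv.subtype = M'.comap G.inv.subtype := by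
  haveI := G.isIntegral_base h
  have h1 : M.comap (algebraMap K A) = IsLocalRing.maximalIdeal K :=
    IsLocalRing.eq_maximalIdeal (Ideal.isMaximal_comap_of_isIntegral_of_isMaximal M)
  have h2 : M'.comap (algebraMap K A) = IsLocalRing.maximalIdeal K :=
    IsLocalRing.eq_maximalIdeal (Ideal.isMaximal_comap_of_isIntegral_of_isMaximal M')
  ext x
  obtain ⟨k, hk⟩ := h x.1 x.2
  simp only [Ideal.mem_comap, Subring.coe_subtype, ← hk]
  rw [← Ideal.mem_comap, ← Ideal.mem_comap, h1, h2]

theorem finite_maximalSpectrum [IsLocalRing K] (h : G.InvSurj) : Finite (MaximalSpectrum A) := by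
  classical
  rcases isEmpty_or_nonempty (MaximalSpectrum A) with hE | ⟨⟨M₁⟩⟩
  · infer_instance
  letI := G.σ.toRingHom.toAlgebra
  haveI : Module.Finite A B := G.fin
  have hfinT : (M₁.asIdeal.primesOver B).Finite := Algebra.QuasiFinite.finite_primesOver _
  haveI : Finite (M₁.asIdeal.primesOver B) := hfinT
  haveI := M₁.isMaximal
  have key : ∀ M : MaximalSpectrum A, ∃ Q : Ideal B, Q.IsPrime ∧ Q.comap G.τ.toRingHom = M.asIdeal ∧
      Q.comap G.σ.toRingHom = M₁.asIdeal := by
    intro M
    haveI := M.isMaximal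
    exact G.exists_prime_of_comap_eq M.asIdeal M₁.asIdeal
      (G.comap_inv_eq_of_isMaximal h M.asIdeal M₁.asIdeal)
  choose Q hQ1 hQ2 hQ3 using key
  let f : MaximalSpectrum A → M₁.asIdeal.primesOver B := fun M =>
    ⟨Q M, hQ1 M, ⟨(hQ3 M).symm⟩⟩
  apply Finite.of_injective f
  intro M M' hMM'
  have : Q M = Q M' := congrArg Subtype.val hMM'
  apply MaximalSpectrum.ext
  rw [← hQ2 M, ← hQ2 M', this]

/-- the rank of `B` over `A` (through `σ`) is constant along orbits. -/
theorem finrank_comap_τ_eq (Q : PrimeSpectrum B) :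
    G.σ.toRingHom.finrank (PrimeSpectrum.comap G.τ.toRingHom Q) =
      G.σ.toRingHom.finrank (PrimeSpectrum.comap G.σ.toRingHom Q) := by
  have hflat : G.σ.toRingHom.Flat := by
    letI := G.σ.toRingHom.toAlgebra
    haveI : Module.Projective A B := G.proj
    show Module.Flat A B
    infer_instance
  have hfin : G.σ.toRingHom.Finite := G.fin
  have e1 := CommRingCat.finrank_eq_of_isPushout G.po1 hflat hfin Q
  have e2 := CommRingCat.finrank_eq_of_isPushout G.po2 hflat hfin Q
  exact e1.symm.trans e2


/-- over a local base, `B` is free over `A` (through `σ`). -/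
theorem free_of_isLocalRing [IsLocalRing K] (h : G.InvSurj) :
    letI := G.σ.toRingHom.toAlgebra; Module.Free A B := by
  letI := G.σ.toRingHom.toAlgebra
  haveI : Module.Finite A B := G.fin
  haveI : Module.Projective A B := G.proj
  haveI := G.finite_maximalSpectrum h
  rcases isEmpty_or_nonempty (MaximalSpectrum A) with hE | ⟨⟨M₁⟩⟩
  · exact Module.free_of_flat_of_finrank_eq A B 0 (fun P => (hE.false P).elim)
  haveI := M₁.isMaximal
  refine Module.free_of_flat_of_finrank_eq A B
    (Module.rankAtStalk B ⟨M₁.asIdeal, M₁.isMaximal.isPrime⟩) (fun P => ?_)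
  haveI := P.isMaximal
  rw [finrank_quotient_tensor_eq_rankAtStalk]
  obtain ⟨Q, hQ, hQτ, hQσ⟩ := G.exists_prime_of_comap_eq P.asIdeal M₁.asIdeal
    (G.comap_inv_eq_of_isMaximal h P.asIdeal M₁.asIdeal)
  have := G.finrank_comap_τ_eq ⟨Q, hQ⟩
  have e1 : PrimeSpectrum.comap G.τ.toRingHom ⟨Q, hQ⟩ = ⟨P.asIdeal, P.isMaximal.isPrime⟩ :=
    PrimeSpectrum.ext hQτ
  have e2 : PrimeSpectrum.comap G.σ.toRingHom ⟨Q, hQ⟩ = ⟨M₁.asIdeal, M₁.isMaximal.isPrime⟩ :=
    PrimeSpectrum.ext hQσ
  rw [e1, e2] at this
  exact this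

/-- the generation hypothesis coming from `j` being a monomorphism:
`B` is generated, as an `A`-module through `σ`, by the image of `τ`. -/
def SpanTau : Prop :=
  letI := G.σ.toRingHom.toAlgebra
  Submodule.span A (Set.range G.τ) = ⊤

/-- over a local base with infinite residue field, there is a basis of `B` over `A` of the form
`τ (x i)`. -/
theorem exists_basis_tau [IsLocalRing K] [Infinite (IsLocalRing.ResidueField K)] (h : G.InvSurj)
    (hJ : G.SpanTau) :
    letI := G.σ.toRingHom.toAlgebra
    ∃ (n : ℕ) (x : Fin n → A) (b : Module.Basis (Fin n) A B), ∀ i, b i = G.τ (x i) := by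
  letI := G.σ.toRingHom.toAlgebra
  haveI : Module.Finite A B := G.fin
  haveI : Module.Free A B := G.free_of_isLocalRing h
  haveI := G.finite_maximalSpectrum h
  haveI := G.isIntegral_base h
  haveI : IsScalarTower K A B := IsScalarTower.of_algebraMap_eq (fun k => (G.σ.commutes k).symm)
  have hBA : (IsLocalRing.maximalIdeal K).map (algebraMap K A) ≤ (⊥ : Ideal A).jacobson := by
    rw [Ideal.jacobson]
    refine le_sInf ?_
    rintro J ⟨-, hJmax⟩
    rw [Ideal.map_le_iff_le_comap]
    haveI := hJmax
    exact (IsLocalRing.eq_maximalIdeal (Ideal.isMaximal_comap_of_isIntegral_of_isMaximal J)).ge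
  let N : Submodule K B := LinearMap.range G.τ.toLinearMap
  have hN : Submodule.span A (N : Set B) = ⊤ := by
    have : (N : Set B) = Set.range G.τ := by
      ext y
      simp [N]
    rw [this]
    exact hJ
  obtain ⟨b, hb⟩ := Groth.Agent.Lib.Helper27SemiLocalBasis.main hBA N hN
  have hb' : ∀ i, ∃ a : A, G.τ a = b i := fun i => by
    obtain ⟨a, ha⟩ := hb i
    exact ⟨a, ha⟩
  choose x hx using hb'
  exact ⟨_, x, b, fun i => (hx i).symm⟩

/-- The local case: over a local base with infinite residue field, `A` is finite free over `K` and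
`A ⊗[K] A → B` is bijective. -/
theorem local_case [IsLocalRing K] [Infinite (IsLocalRing.ResidueField K)] (h : G.InvSurj)
    (hinj : Function.Injective (algebraMap K A)) (hJ : G.SpanTau) :
    Module.Free K A ∧ Module.Finite K A ∧
      Function.Bijective (Algebra.TensorProduct.productMap G.τ G.σ) := by
  obtain ⟨n, x₀, b₀, hb₀⟩ := G.exists_basis_tau h hJ
  let I := ULift.{u} (Fin n)
  let x : I → A := fun i => x₀ i.down
  let σ := G.σ.toRingHom
  let τ := G.τ.toRingHom
  letI := G.σ.toRingHom.toAlgebra
  let b : Module.Basis I A B := b₀.reindex Equiv.ulift.symm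
  have hb : ∀ i, b i = τ (x i) := by
    intro i
    simp only [b, Module.Basis.reindex_apply, Equiv.symm_symm]
    exact hb₀ i.down
  have hlc : ∀ f : I →₀ A, Finsupp.linearCombination A b f = f.sum fun i a => σ a * τ (x i) := by
    intro f
    rw [Finsupp.linearCombination_apply]
    refine Finsupp.sum_congr fun i _ => ?_
    rw [hb, Algebra.smul_def]
    rfl
  have LI_B : ∀ f g : I →₀ A, (f.sum fun i a => σ a * τ (x i)) =
      (g.sum fun i a => σ a * τ (x i)) → f = g := by
    intro f g hfg
    rw [← hlc, ← hlc] at hfg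
    have := congrArg b.repr hfg
    simpa using this
  have SP_B : ∀ β : B, ∃ f : I →₀ A, β = f.sum fun i a => σ a * τ (x i) := by
    intro β
    refine ⟨b.repr β, ?_⟩
    rw [← hlc, Module.Basis.linearCombination_repr]
  have LI_D : ∀ f g : I →₀ B, (f.sum fun i β => G.p1.toRingHom β * G.p0.toRingHom (τ (x i))) =
      (g.sum fun i β => G.p1.toRingHom β * G.p0.toRingHom (τ (x i))) → f = g := by
    intro f g hfg
    exact Groth.Agent.S7486.li_of_isPushout G.po1 (fun i => τ (x i)) ⟨b, hb⟩ f g hfg
  have hrepr0 : ∀ a : A, ∃ f : I →₀ A, (∀ i, σ (f i) = τ (f i)) ∧ a = f.sum fun i r => r * x i :=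
    Groth.Agent.S7486.exists_repr σ τ G.ε.toRingHom G.p0.toRingHom G.p1.toRingHom G.c.toRingHom
      G.hεσ G.hετ G.hcτ G.hcσ G.hp x SP_B LI_D
  -- representation with coefficients in K
  have hreprK : ∀ a : A, ∃ f : I →₀ K, a = f.sum fun i k => k • x i := by
    intro a
    obtain ⟨f, hf1, hf2⟩ := hrepr0 a
    have hk : ∀ i, ∃ k : K, algebraMap K A k = f i := fun i => h (f i) (hf1 i)
    choose kk hkk using hk
    refine ⟨Finsupp.onFinset f.support kk (fun i hi => ?_), ?_⟩
    · rw [Finsupp.mem_support_iff]
      intro h0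
      apply hi
      have := hkk i
      rw [h0] at this
      exact hinj (by rw [this, map_zero])
    · rw [hf2, Finsupp.sum, Finsupp.sum]
      have hsub : (Finsupp.onFinset f.support kk (fun i hi => by
          rw [Finsupp.mem_support_iff]
          intro h0
          apply hi
          have := hkk i
          rw [h0] at this
          exact hinj (by rw [this, map_zero]))).support ⊆ f.support :=
        Finsupp.support_onFinset_subset
      rw [Finset.sum_subset hsub]
      · refine Finset.sum_congr rfl fun i _ => ?_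
        rw [Finsupp.onFinset_apply, Algebra.smul_def, hkk]
      · intro i _ hi
        rw [Finsupp.notMem_support_iff] at hi
        rw [hi, zero_smul]
  have hli : LinearIndependent K x := by
    rw [linearIndependent_iff]
    intro l hl
    rw [Finsupp.linearCombination_apply] at hl
    let f : I →₀ A := l.mapRange (algebraMap K A) (map_zero _)
    have h1 : (f.sum fun i a => σ a * τ (x i)) = ((0 : I →₀ A).sum fun i a => σ a * τ (x i)) := by
      rw [Finsupp.sum_zero_index, Finsupp.sum_mapRange_index (by intro i; simp)]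
      have := congrArg τ hl
      rw [map_zero, map_finsuppSum] at this
      rw [← this]
      refine Finsupp.sum_congr fun i _ => ?_
      rw [Algebra.smul_def, map_mul]
      congr 1
      exact G.algebraMap_mem_inv (l i)
    have h2 := LI_B _ _ h1
    ext i
    have := DFunLike.congr_fun h2 i
    simp only [f, Finsupp.mapRange_apply, Finsupp.coe_zero, Pi.zero_apply] at this
    show l i = 0
    exact hinj (by rw [this, map_zero])
  have hsp : ⊤ ≤ Submodule.span K (Set.range x) := by
    intro a _
    obtain ⟨f, hf⟩ := hreprK a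
    rw [hf]
    refine Submodule.sum_mem _ fun i _ => ?_
    exact Submodule.smul_mem _ _ (Submodule.subset_span ⟨i, rfl⟩)
  let bK : Module.Basis I K A := Module.Basis.mk hli hsp
  refine ⟨Module.Free.of_basis bK, Module.Finite.of_basis bK, ?_⟩
  -- bijectivity
  set φ := Algebra.TensorProduct.productMap G.τ G.σ with hφdef
  have hφ : ∀ a a' : A, φ (a ⊗ₜ a') = τ a * σ a' := fun a a' => by
    simp [φ, τ, σ]
  have hrepr : ∀ z : A ⊗[K] A, ∃ g : I →₀ A, z = g.sum fun i a => x i ⊗ₜ[K] a := by
    intro z
    induction z using TensorProduct.induction_on with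
    | zero => exact ⟨0, by simp⟩
    | tmul a a' =>
      obtain ⟨f, hf⟩ := hreprK a
      refine ⟨f.mapRange (fun k => k • a') (zero_smul _ a'), ?_⟩
      rw [Finsupp.sum_mapRange_index (by intro i; simp)]
      conv_lhs => rw [hf]
      rw [Finsupp.sum, TensorProduct.sum_tmul]
      refine Finset.sum_congr rfl fun i _ => ?_
      rw [TensorProduct.smul_tmul]
    | add z w hz hw =>
      obtain ⟨g1, rfl⟩ := hz
      obtain ⟨g2, rfl⟩ := hw
      refine ⟨g1 + g2, ?_⟩
      rw [Finsupp.sum_add_index' (by intro i; simp) (by intro i a b; rw [TensorProduct.tmul_add])]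
  have hφsum : ∀ g : I →₀ A, φ (g.sum fun i a => x i ⊗ₜ[K] a) =
      g.sum fun i a => σ a * τ (x i) := by
    intro g
    rw [map_finsuppSum]
    refine Finsupp.sum_congr fun i _ => ?_
    rw [hφ, mul_comm]
  constructor
  · rw [injective_iff_map_eq_zero]
    intro z hz
    obtain ⟨g, rfl⟩ := hrepr z
    rw [hφsum] at hz
    have h0 : g = 0 := LI_B g 0 (by rw [hz, Finsupp.sum_zero_index])
    rw [h0, Finsupp.sum_zero_index]
  · intro β
    obtain ⟨g, hg⟩ := SP_B β
    exact ⟨g.sum fun i a => x i ⊗ₜ[K] a, by rw [hφsum, hg]⟩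
end RGrpd

end Groth.Agent.Lib.Seat19.RG
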