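import Mathlib
import Groth.Agent.Lib.Seat19Kx
import Groth.Agent.Lib.Seat19Local

/-!
# The finite flat quotient theorem, ring level (helper19)
-/

set_option autoImplicit false
set_option linter.style.haveILetI false
universe u

open CategoryTheory CategoryTheory.Limits Polynomial TensorProduct
open Groth.Agent.Lib.Seat19.Kx

namespace Groth.Agent.Lib.Seat19.RG

/-- A module is zero if it dies after base change to `K_p(x)` for all maximal ideals `p`. -/
theorem subsingleton_of_forall_tensor {K : Type u} [CommRing K] (N : Type*) [AddCommGroup N]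
    [Module K N]
    (h : ∀ (p : Ideal K) [p.IsMaximal], Subsingleton ((Kx (Localization.AtPrime p)) ⊗[K] N)) :
    Subsingleton N := by
  apply Module.subsingleton_of_localization_maximal (R := K)
    (fun P => Localization P.primeCompl ⊗[K] N)
    (fun P => TensorProduct.mk K (Localization P.primeCompl) N 1)
  intro P hP
  let Kp := Localization.AtPrime P
  let K' := Kx Kp
  have e : K' ⊗[Kp] (Kp ⊗[K] N) ≃ₗ[K'] K' ⊗[K] N :=
    AlgebraTensorModule.cancelBaseChange K Kp K' K' N
  haveI : Subsingleton (K' ⊗[K] N) := h P
  haveI : Subsingleton (K' ⊗[Kp] (Kp ⊗[K] N)) := e.toEquiv.subsingleton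
  exact (Module.FaithfullyFlat.subsingleton_tensorProduct_iff_right Kp K').mp inferInstance

namespace RGrpd

variable {K A B D : Type u} [CommRing K] [CommRing A] [CommRing B] [CommRing D]
  [Algebra K A] [Algebra K B] [Algebra K D] (G : RGrpd K A B D)

theorem SpanTau.bc (hJ : G.SpanTau) (K' : Type u) [CommRing K'] [Algebra K K'] :
    (G.bc K').SpanTau := by
  letI algA : Algebra A B := G.σ.toRingHom.toAlgebra
  letI algA' : Algebra (K' ⊗[K] A) (K' ⊗[K] B) := (G.bc K').σ.toRingHom.toAlgebra
  show Submodule.span (K' ⊗[K] A) (Set.range (G.bc K').τ) = ⊤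
  rw [eq_top_iff]
  rintro z -
  induction z using TensorProduct.induction_on with
  | zero => exact Submodule.zero_mem _
  | add x y hx hy => exact Submodule.add_mem _ hx hy
  | tmul k b =>
    have hb : b ∈ Submodule.span A (Set.range G.τ) := by
      have : Submodule.span A (Set.range G.τ) = ⊤ := hJ
      rw [this]
      trivial
    induction hb using Submodule.span_induction with
    | mem b hb =>
      obtain ⟨a, rfl⟩ := hb
      have e1 : k ⊗ₜ[K] G.τ a = (k ⊗ₜ[K] (1 : A)) • (G.bc K').τ (1 ⊗ₜ a) := by
        rw [Algebra.smul_def]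
        show _ = (G.bc K').σ (k ⊗ₜ 1) * (G.bc K').τ (1 ⊗ₜ a)
        simp [RGrpd.bc]
      rw [e1]
      exact Submodule.smul_mem _ _ (Submodule.subset_span ⟨_, rfl⟩)
    | zero =>
      rw [TensorProduct.tmul_zero]
      exact Submodule.zero_mem _
    | add b1 b2 _ _ h1 h2 =>
      rw [TensorProduct.tmul_add]
      exact Submodule.add_mem _ h1 h2
    | smul a b _ hb =>
      have e1 : k ⊗ₜ[K] (a • b) = ((1 : K') ⊗ₜ[K] a) • (k ⊗ₜ[K] b) := by
        rw [Algebra.smul_def, Algebra.smul_def]
        show _ = (G.bc K').σ (1 ⊗ₜ a) * _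
        simp [RGrpd.bc]
        rfl
      rw [e1]
      exact Submodule.smul_mem _ _ hb

/-- the conclusions of the local case after base change to `K_p(x)`. -/
theorem local_conclusion (h : G.InvSurj) (hinj : Function.Injective (algebraMap K A))
    (hJ : G.SpanTau) (p : Ideal K) [p.IsMaximal] :
    Module.Free (Kx (Localization.AtPrime p)) (Kx (Localization.AtPrime p) ⊗[K] A) ∧
    Module.Finite (Kx (Localization.AtPrime p)) (Kx (Localization.AtPrime p) ⊗[K] A) ∧
    Function.Bijective (Algebra.TensorProduct.productMap
      (G.bc (Kx (Localization.AtPrime p))).τ (G.bc (Kx (Localization.AtPrime p))).σ) := by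
  let Kp := Localization.AtPrime p
  let K' := Kx Kp
  haveI : Module.Flat K K' := Module.Flat.trans K Kp K'
  have hinj' : Function.Injective (algebraMap K' (K' ⊗[K] A)) :=
    Algebra.TensorProduct.includeLeft_injective (S := K') hinj
  exact (G.bc K').local_case (RGrpd.InvSurj.bc_of_flat G K' h) hinj' (RGrpd.SpanTau.bc G hJ K')

theorem flat_of_mono (h : G.InvSurj) (hinj : Function.Injective (algebraMap K A))
    (hJ : G.SpanTau) : Module.Flat K A := by
  apply Module.flat_of_isLocalized_maximal K A
    (fun P => Localization P.primeCompl ⊗[K] A)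
    (fun P => TensorProduct.mk K (Localization P.primeCompl) A 1)
  intro P hP
  let Kp := Localization.AtPrime P
  let K' := Kx Kp
  obtain ⟨hfree, -, -⟩ := G.local_conclusion h hinj hJ P
  haveI : Module.Free K' (K' ⊗[K] A) := hfree
  have e : K' ⊗[Kp] (Kp ⊗[K] A) ≃ₗ[K'] K' ⊗[K] A :=
    AlgebraTensorModule.cancelBaseChange K Kp K' K' A
  haveI : Module.Flat K' (K' ⊗[Kp] (Kp ⊗[K] A)) := Module.Flat.of_linearEquiv e
  haveI : Module.Flat Kp (Kp ⊗[K] A) := Module.Flat.of_flat_tensorProduct Kp (Kp ⊗[K] A) K'
  exact Module.Flat.trans K Kp (Kp ⊗[K] A)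

theorem productMap_surjective (hJ : G.SpanTau) :
    Function.Surjective (Algebra.TensorProduct.productMap G.τ G.σ) := by
  letI algA : Algebra A B := G.σ.toRingHom.toAlgebra
  intro b
  have hb : b ∈ Submodule.span A (Set.range G.τ) := by
    have : Submodule.span A (Set.range G.τ) = ⊤ := hJ
    rw [this]
    trivial
  induction hb using Submodule.span_induction with
  | mem b hb =>
    obtain ⟨a, rfl⟩ := hb
    exact ⟨a ⊗ₜ 1, by simp⟩
  | zero => exact ⟨0, map_zero _⟩
  | add b1 b2 _ _ h1 h2 =>
    obtain ⟨z1, rfl⟩ := h1
    obtain ⟨z2, rfl⟩ := h2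
    exact ⟨z1 + z2, map_add _ _ _⟩
  | smul a b _ hb =>
    obtain ⟨z, rfl⟩ := hb
    refine ⟨(1 ⊗ₜ a) * z, ?_⟩
    rw [map_mul, Algebra.smul_def]
    simp
    rfl

theorem lTensor_productMap_eq (K' : Type u) [CommRing K'] [Algebra K K']
    (z : K' ⊗[K] (A ⊗[K] A)) :
    (Algebra.TensorProduct.productMap G.τ G.σ).toLinearMap.lTensor K' z =
      Algebra.TensorProduct.productMap (G.bc K').τ (G.bc K').σ
        (AlgebraTensorModule.distribBaseChange K K' A A z) := by
  induction z using TensorProduct.induction_on with
  | zero => simp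
  | add x y hx hy => simp only [map_add, hx, hy]
  | tmul k w =>
    induction w using TensorProduct.induction_on with
    | zero => simp
    | add x y hx hy =>
      rw [TensorProduct.tmul_add, map_add, map_add, map_add, hx, hy]
    | tmul a a' =>
      simp [RGrpd.bc]

theorem productMap_injective (h : G.InvSurj) (hinj : Function.Injective (algebraMap K A))
    (hJ : G.SpanTau) : Function.Injective (Algebra.TensorProduct.productMap G.τ G.σ) := by
  let φ : A ⊗[K] A →ₗ[K] B := (Algebra.TensorProduct.productMap G.τ G.σ).toLinearMap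
  have hsub : Subsingleton (LinearMap.ker φ) := by
    apply subsingleton_of_forall_tensor (K := K)
    intro p hp
    let Kp := Localization.AtPrime p
    let K' := Kx Kp
    haveI : Module.Flat K K' := Module.Flat.trans K Kp K'
    obtain ⟨-, -, hbij⟩ := G.local_conclusion h hinj hJ p
    have hφinj : Function.Injective (φ.lTensor K') := by
      intro z w hzw
      rw [G.lTensor_productMap_eq K' z, G.lTensor_productMap_eq K' w] at hzw
      exact (AlgebraTensorModule.distribBaseChange K K' A A).injective (hbij.1 hzw)
    have hιinj : Function.Injective ((LinearMap.ker φ).subtype.lTensor K') :=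
      Module.Flat.lTensor_preserves_injective_linearMap _ (Submodule.injective_subtype _)
    have hcomp : ∀ z, φ.lTensor K' ((LinearMap.ker φ).subtype.lTensor K' z) = 0 := by
      intro z
      rw [← LinearMap.comp_apply, ← LinearMap.lTensor_comp]
      have : φ ∘ₗ (LinearMap.ker φ).subtype = 0 := by
        ext x
        exact x.2
      rw [this, LinearMap.lTensor_zero, LinearMap.zero_apply]
    constructor
    intro x y
    apply hιinj
    apply hφinj
    rw [hcomp, hcomp]
  rw [injective_iff_map_eq_zero]
  intro z hz
  have hzk : z ∈ LinearMap.ker φ := hz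
  have := Subsingleton.elim (⟨z, hzk⟩ : LinearMap.ker φ) 0
  exact congrArg Subtype.val this


theorem faithfullyFlat_of_mono (h : G.InvSurj) (hinj : Function.Injective (algebraMap K A))
    (hJ : G.SpanTau) : Module.FaithfullyFlat K A := by
  haveI := G.flat_of_mono h hinj hJ
  haveI := G.isIntegral_base h
  haveI : FaithfulSMul K A := (faithfulSMul_iff_algebraMap_injective K A).mpr hinj
  exact Module.FaithfullyFlat.of_comap_surjective (Algebra.IsIntegral.comap_surjective K A)

/-- `A` is a finite and finitely presented `K`-algebra. -/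
theorem finite_fp_of_mono (h : G.InvSurj) (hinj : Function.Injective (algebraMap K A))
    (hJ : G.SpanTau) : Module.Finite K A ∧ Algebra.FinitePresentation K A := by
  haveI := G.faithfullyFlat_of_mono h hinj hJ
  letI algA : Algebra A B := G.σ.toRingHom.toAlgebra
  haveI : IsScalarTower K A B := IsScalarTower.of_algebraMap_eq (fun k => (G.σ.commutes k).symm)
  haveI : Module.Finite A B := G.fin
  haveI : Module.Projective A B := G.proj
  haveI : Module.FinitePresentation A B := Module.finitePresentation_of_projective A B
  haveI : Algebra.FinitePresentation A B := Algebra.FinitePresentation.of_finitePresentation A B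
  let ψ : A ⊗[K] A →ₐ[A] B :=
    Algebra.TensorProduct.lift (Algebra.ofId A B) G.τ (fun _ _ => Commute.all _ _)
  have hψ : ∀ z, ψ z = Algebra.TensorProduct.productMap G.τ G.σ (TensorProduct.comm K A A z) := by
    intro z
    induction z using TensorProduct.induction_on with
    | zero => simp
    | add x y hx hy => simp only [map_add, hx, hy]
    | tmul a a' =>
      simp only [ψ, Algebra.TensorProduct.lift_tmul, TensorProduct.comm_tmul,
        Algebra.TensorProduct.productMap_apply_tmul]
      rw [mul_comm]
      rfl
  have hbij : Function.Bijective ψ := by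
    have h1 : Function.Bijective (Algebra.TensorProduct.productMap G.τ G.σ) :=
      ⟨G.productMap_injective h hinj hJ, G.productMap_surjective hJ⟩
    have h2 : (ψ : A ⊗[K] A → B) =
        (Algebra.TensorProduct.productMap G.τ G.σ) ∘ (TensorProduct.comm K A A) := funext hψ
    rw [h2]
    exact h1.comp (TensorProduct.comm K A A).bijective
  let e : A ⊗[K] A ≃ₐ[A] B := AlgEquiv.ofBijective ψ hbij
  haveI : Module.Finite A (A ⊗[K] A) := Module.Finite.equiv e.symm.toLinearEquiv
  haveI : Algebra.FinitePresentation A (A ⊗[K] A) := Algebra.FinitePresentation.equiv e.symm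
  exact ⟨Module.Finite.of_finite_tensorProduct_of_faithfullyFlat A,
    Algebra.FinitePresentation.of_finitePresentation_tensorProduct_of_faithfullyFlat A⟩
end RGrpd

end Groth.Agent.Lib.Seat19.RG
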