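import Mathlib
import Groth.Prelude.Def_Grpd
import Groth.Agent.S1880
import Groth.Agent.Lib.Seat19RG

/-!
# From an affine groupoid scheme to ring-level data (helper19)
-/

set_option autoImplicit false
set_option linter.style.haveILetI false
universe v u

open CategoryTheory CategoryTheory.Limits AlgebraicGeometry
open Groth.Agent.Lib.Seat19.RG

namespace Groth.Agent.Lib.Seat19.RGofG

variable {S : Scheme.{u}} (G : Grpd.GroupoidScheme S)

theorem comp_appTop_apply {X Y Z : Scheme.{u}} (f : X ⟶ Y) (g : Y ⟶ Z) (a : Γ(Z, ⊤)) :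
    (f ≫ g).appTop.hom a = f.appTop.hom (g.appTop.hom a) := by
  rw [Scheme.Hom.comp_appTop]
  rfl

theorem hεσ (a : Γ(G.U, ⊤)) : G.e.appTop.hom (G.s.appTop.hom a) = a := by
  rw [← comp_appTop_apply, G.e_s]
  simp

theorem hετ (a : Γ(G.U, ⊤)) : G.e.appTop.hom (G.t.appTop.hom a) = a := by
  rw [← comp_appTop_apply, G.e_t]
  simp

theorem hcτ (a : Γ(G.U, ⊤)) : G.c.appTop.hom (G.t.appTop.hom a) =
    (pullback.fst G.s G.t).appTop.hom (G.t.appTop.hom a) := by
  rw [← comp_appTop_apply, ← comp_appTop_apply, Groth.Agent.S1880.c_t G]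

theorem hcσ (a : Γ(G.U, ⊤)) : G.c.appTop.hom (G.s.appTop.hom a) =
    (pullback.snd G.s G.t).appTop.hom (G.s.appTop.hom a) := by
  rw [← comp_appTop_apply, ← comp_appTop_apply, Groth.Agent.S1880.c_s G]

theorem hp (a : Γ(G.U, ⊤)) : (pullback.fst G.s G.t).appTop.hom (G.s.appTop.hom a) =
    (pullback.snd G.s G.t).appTop.hom (G.t.appTop.hom a) := by
  rw [← comp_appTop_apply, ← comp_appTop_apply, pullback.condition]

section
variable [IsAffine G.U] [IsAffine G.R] [IsFinite G.s] [Flat G.s] [LocallyOfFinitePresentation G.s]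

/-- The ring-level datum of an affine groupoid scheme with `s` finite locally free, over any base
ring `K` on which everything is compatible. -/
noncomputable def ofGroupoid (K : Type v) [CommRing K] [Algebra K Γ(G.U, ⊤)] [Algebra K Γ(G.R, ⊤)]
    [Algebra K Γ(pullback G.s G.t, ⊤)]
    (h1 : ∀ k : K, G.s.appTop.hom (algebraMap K Γ(G.U, ⊤) k) = algebraMap K Γ(G.R, ⊤) k)
    (h2 : ∀ k : K, G.t.appTop.hom (algebraMap K Γ(G.U, ⊤) k) = algebraMap K Γ(G.R, ⊤) k)
    (h3 : ∀ k : K, (pullback.snd G.s G.t).appTop.hom (algebraMap K Γ(G.R, ⊤) k) =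
      algebraMap K Γ(pullback G.s G.t, ⊤) k) :
    RGrpd K Γ(G.U, ⊤) Γ(G.R, ⊤) Γ(pullback G.s G.t, ⊤) where
  σ := { G.s.appTop.hom with commutes' := h1 }
  τ := { G.t.appTop.hom with commutes' := h2 }
  ε := { G.e.appTop.hom with
    commutes' := fun k => by
      show G.e.appTop.hom (algebraMap K Γ(G.R, ⊤) k) = _
      rw [← h1, hεσ] }
  p0 := { (pullback.fst G.s G.t).appTop.hom with
    commutes' := fun k => by
      show (pullback.fst G.s G.t).appTop.hom (algebraMap K Γ(G.R, ⊤) k) = _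
      rw [← h1, hp, h2, h3] }
  p1 := { (pullback.snd G.s G.t).appTop.hom with commutes' := h3 }
  c := { G.c.appTop.hom with
    commutes' := fun k => by
      show G.c.appTop.hom (algebraMap K Γ(G.R, ⊤) k) = _
      rw [← h1, hcσ, h1, h3] }
  hεσ := hεσ G
  hετ := hετ G
  hcτ := hcτ G
  hcσ := hcσ G
  po1 := isPushout_appTop_of_isPullback (IsPullback.of_hasPullback G.s G.t)
  po2 := isPushout_appTop_of_isPullback (Groth.Agent.S1880.isPullback_c G)
  fin := by
    letI := G.s.appTop.hom.toAlgebra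
    exact G.s.finite_appTop
  proj := by
    letI := G.s.appTop.hom.toAlgebra
    have hfin : Module.Finite Γ(G.U, ⊤) Γ(G.R, ⊤) := G.s.finite_appTop
    have hflat : Module.Flat Γ(G.U, ⊤) Γ(G.R, ⊤) := G.s.flat_appTop
    have hfp : Algebra.FinitePresentation Γ(G.U, ⊤) Γ(G.R, ⊤) := G.s.finitePresentation_appTop
    have : Module.FinitePresentation Γ(G.U, ⊤) Γ(G.R, ⊤) :=
      Module.FinitePresentation.of_finite_of_finitePresentation _ _
    exact Module.Flat.projective_of_finitePresentation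

/-- The datum over `ℤ`. -/
noncomputable def ofGroupoidInt : RGrpd ℤ Γ(G.U, ⊤) Γ(G.R, ⊤) Γ(pullback G.s G.t, ⊤) :=
  ofGroupoid G ℤ (fun k => by simp) (fun k => by simp) (fun k => by simp)

theorem ofGroupoidInt_inv : (ofGroupoidInt G).inv = G.invariants := rfl

end

end Groth.Agent.Lib.Seat19.RGofG
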