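import Mathlib
import Groth.Prelude.Def_Grpd
import Groth.Agent.Lib.Seat19RGofG

/-!
# `U → Spec C` is surjective with fibres the orbits (helper19)
-/

set_option autoImplicit false
set_option linter.style.haveILetI false
universe u

open CategoryTheory CategoryTheory.Limits AlgebraicGeometry
open Groth.Agent.Lib.Seat19.RG Groth.Agent.Lib.Seat19.RGofG

namespace Groth.Agent.Lib.Seat19.Quot1

variable {S : Scheme.{u}} (G : Grpd.GroupoidScheme S)

theorem toQuot_apply (u : G.U) :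
    G.toQuot u = PrimeSpectrum.comap G.invariants.subtype (G.U.toSpecΓ u) := by
  unfold Grpd.GroupoidScheme.toQuot
  rw [Scheme.Hom.comp_apply, Spec.map_apply]
  rfl

theorem s_toQuot : G.s ≫ G.toQuot = G.t ≫ G.toQuot := by
  unfold Grpd.GroupoidScheme.toQuot
  rw [Scheme.toSpecΓ_naturality_assoc, Scheme.toSpecΓ_naturality_assoc, ← Spec.map_comp,
    ← Spec.map_comp]
  congr 2
  ext x
  exact x.2

theorem toSpecΓ_s (r : G.R) :
    G.U.toSpecΓ (G.s r) = PrimeSpectrum.comap G.s.appTop.hom (G.R.toSpecΓ r) := by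
  rw [← Scheme.Hom.comp_apply, Scheme.toSpecΓ_naturality, Scheme.Hom.comp_apply, Spec.map_apply]

theorem toSpecΓ_t (r : G.R) :
    G.U.toSpecΓ (G.t r) = PrimeSpectrum.comap G.t.appTop.hom (G.R.toSpecΓ r) := by
  rw [← Scheme.Hom.comp_apply, Scheme.toSpecΓ_naturality, Scheme.Hom.comp_apply, Spec.map_apply]

variable [IsAffine G.U] [IsAffine G.R] [IsFinite G.s] [Flat G.s] [LocallyOfFinitePresentation G.s]

theorem toQuot_surjective : Function.Surjective G.toQuot := by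
  have hint : Algebra.IsIntegral G.invariants Γ(G.U, ⊤) := (ofGroupoidInt G).isIntegral
  intro m
  have hm : (⊥ : Ideal Γ(G.U, ⊤)).comap (algebraMap G.invariants Γ(G.U, ⊤)) ≤
      (show PrimeSpectrum G.invariants from m).asIdeal := by
    intro x hx
    have hx0 : (x : Γ(G.U, ⊤)) = 0 := hx
    have : x = 0 := Subtype.ext hx0
    rw [this]
    exact Ideal.zero_mem _
  haveI : (show PrimeSpectrum G.invariants from m).asIdeal.IsPrime :=
    (show PrimeSpectrum G.invariants from m).isPrime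
  obtain ⟨Q, -, hQ, hQm⟩ := Ideal.exists_ideal_over_prime_of_isIntegral
    (show PrimeSpectrum G.invariants from m).asIdeal ⊥ hm
  obtain ⟨u, hu⟩ := G.U.toSpecΓ.homeomorph.surjective (⟨Q, hQ⟩ : PrimeSpectrum Γ(G.U, ⊤))
  refine ⟨u, ?_⟩
  rw [toQuot_apply]
  rw [Scheme.Hom.homeomorph_apply] at hu
  rw [hu]
  exact PrimeSpectrum.ext hQm

theorem toQuot_eq_iff (u₀ u₁ : G.U) :
    G.toQuot u₀ = G.toQuot u₁ ↔ ∃ r : G.R, G.t r = u₀ ∧ G.s r = u₁ := by
  constructor
  · intro h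
    rw [toQuot_apply, toQuot_apply] at h
    set P₀ : PrimeSpectrum Γ(G.U, ⊤) := G.U.toSpecΓ u₀ with hP₀
    set P₁ : PrimeSpectrum Γ(G.U, ⊤) := G.U.toSpecΓ u₁ with hP₁
    haveI := P₀.isPrime
    haveI := P₁.isPrime
    have h' : P₀.asIdeal.comap (ofGroupoidInt G).inv.subtype =
        P₁.asIdeal.comap (ofGroupoidInt G).inv.subtype := congrArg PrimeSpectrum.asIdeal h
    obtain ⟨Q, hQ, hQτ, hQσ⟩ := (ofGroupoidInt G).exists_prime_of_comap_eq P₀.asIdeal P₁.asIdeal h'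
    obtain ⟨r, hr⟩ := G.R.toSpecΓ.homeomorph.surjective (⟨Q, hQ⟩ : PrimeSpectrum Γ(G.R, ⊤))
    rw [Scheme.Hom.homeomorph_apply] at hr
    refine ⟨r, ?_, ?_⟩
    · apply G.U.toSpecΓ.homeomorph.injective
      rw [Scheme.Hom.homeomorph_apply, Scheme.Hom.homeomorph_apply, toSpecΓ_t, hr]
      exact PrimeSpectrum.ext hQτ
    · apply G.U.toSpecΓ.homeomorph.injective
      rw [Scheme.Hom.homeomorph_apply, Scheme.Hom.homeomorph_apply, toSpecΓ_s, hr]
      exact PrimeSpectrum.ext hQσ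
  · rintro ⟨r, rfl, rfl⟩
    rw [← Scheme.Hom.comp_apply, ← Scheme.Hom.comp_apply, s_toQuot]

end Groth.Agent.Lib.Seat19.Quot1
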