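import Mathlib
import Groth.Agent.Lib.Helper2RetCharpoly
import Groth.Agent.Lib.Seat19RGbc

/-!
# Geometric points of the quotient of a ring-level groupoid (helper19)
-/

set_option autoImplicit false
set_option linter.style.haveILetI false
universe u

open CategoryTheory CategoryTheory.Limits Polynomial TensorProduct
open Groth.Agent.Lib.Helper2.RetCharpoly
open Groth.Agent.Lib.Seat19.PO

namespace Groth.Agent.Lib.Seat19.RG

attribute [local instance] Algebra.TensorProduct.rightAlgebra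

/-- Over a field, the characteristic polynomial of a scalar `lam` acting on a nonzero retract of
`k^n` has `lam` as a root, and all its nonzero roots equal `lam`. -/
theorem scalar_root {k P : Type*} [Field k] [CommRing P] [Algebra k P] [Nontrivial P] {n : ℕ}
    (lam : k) (χ : k[X]) (h : IsRCP k P n (algebraMap k P lam) χ) :
    χ.IsRoot lam ∧ ∀ μ : k, μ ≠ 0 → χ.IsRoot μ → μ = lam := by
  obtain ⟨r, rfl⟩ := h
  set m : P →ₗ[k] P := Algebra.lmul k P (algebraMap k P lam) with hm
  have hmv : ∀ w : P, m w = lam • w := by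
    intro w
    rw [hm, Algebra.smul_def]
    rfl
  have h1 : r.cp m = (r.endo m).charpoly := by
    unfold Ret.cp
    rw [← LinearMap.toMatrix_eq_toMatrix', LinearMap.charpoly_toMatrix]
  rw [h1]
  constructor
  · rw [← Module.End.hasEigenvalue_iff_isRoot_charpoly]
    apply Module.End.hasEigenvalue_of_hasEigenvector (x := r.i 1)
    refine ⟨Module.End.mem_eigenspace_iff.mpr ?_, ?_⟩
    · simp only [Ret.endo, LinearMap.comp_apply, Ret.pi_apply, hmv, map_smul]
    · intro h0
      have := congrArg r.p h0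
      rw [Ret.pi_apply, map_zero] at this
      exact one_ne_zero this
  · intro μ hμ hroot
    rw [← Module.End.hasEigenvalue_iff_isRoot_charpoly] at hroot
    obtain ⟨v, hv⟩ := hroot.exists_hasEigenvector
    have hv1 : r.endo m v = μ • v := Module.End.mem_eigenspace_iff.mp hv.1
    have hv2 : v ≠ 0 := hv.2
    have h3 := congrArg r.p hv1
    simp only [Ret.endo, LinearMap.comp_apply, Ret.pi_apply, map_smul, hmv] at h3
    by_contra hne
    have h4 : (lam - μ) • r.p v = 0 := by rw [sub_smul, h3, sub_self]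
    have h5 : r.p v = 0 := by
      rcases smul_eq_zero.mp h4 with h | h
      · exact absurd (sub_eq_zero.mp h).symm hne
      · exact h
    have h6 : μ • v = 0 := by
      rw [← hv1]
      simp only [Ret.endo, LinearMap.comp_apply, h5, map_zero]
    rcases smul_eq_zero.mp h6 with h | h
    · exact hμ h
    · exact hv2 h

/-- Extending a ring hom into an algebraically closed field along an integral extension. -/
theorem exists_extension_of_isIntegral {R A : Type*} [CommRing R] [CommRing A] [Algebra R A]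
    [Algebra.IsIntegral R A] (hinj : Function.Injective (algebraMap R A)) (k : Type*) [Field k]
    [IsAlgClosed k] (μ : R →+* k) : ∃ x : A →+* k, x.comp (algebraMap R A) = μ := by
  haveI : (RingHom.ker μ).IsPrime := RingHom.ker_isPrime μ
  have hle : (⊥ : Ideal A).comap (algebraMap R A) ≤ RingHom.ker μ := by
    intro x hx
    have hx0 : algebraMap R A x = 0 := hx
    have : x = 0 := hinj (by rw [hx0, map_zero])
    rw [this]
    exact Ideal.zero_mem _
  obtain ⟨P, -, hP, hPμ⟩ := Ideal.exists_ideal_over_prime_of_isIntegral (RingHom.ker μ) ⊥ hle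
  haveI := hP
  -- μ̄ : R ⧸ comap P → k
  let μbar : R ⧸ P.comap (algebraMap R A) →+* k :=
    Ideal.Quotient.lift _ μ (fun a ha => by rw [hPμ] at ha; exact ha)
  have hμbar : Function.Injective μbar := by
    rw [injective_iff_map_eq_zero]
    intro z hz
    obtain ⟨a, rfl⟩ := Ideal.Quotient.mk_surjective z
    have : μ a = 0 := by
      rw [← hz]
      exact (Ideal.Quotient.lift_mk _ μ _).symm
    rw [Ideal.Quotient.eq_zero_iff_mem, hPμ]
    exact this
  letI : Algebra (R ⧸ P.comap (algebraMap R A)) k := μbar.toAlgebra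
  haveI : IsDomain (R ⧸ P.comap (algebraMap R A)) := Ideal.Quotient.isDomain _
  haveI : IsDomain (A ⧸ P) := Ideal.Quotient.isDomain _
  haveI : Module.IsTorsionFree (R ⧸ P.comap (algebraMap R A)) (A ⧸ P) :=
    Module.isTorsionFree_iff_algebraMap_injective.mpr (Ideal.algebraMap_quotient_injective)
  haveI : Module.IsTorsionFree (R ⧸ P.comap (algebraMap R A)) k :=
    Module.isTorsionFree_iff_algebraMap_injective.mpr hμbar
  haveI : Algebra.IsIntegral (R ⧸ P.comap (algebraMap R A)) (A ⧸ P) := inferInstance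
  let φ : (A ⧸ P) →ₐ[R ⧸ P.comap (algebraMap R A)] k := IsAlgClosed.lift
  refine ⟨φ.toRingHom.comp (Ideal.Quotient.mk P), ?_⟩
  ext a
  have h1 : (Ideal.Quotient.mk P) (algebraMap R A a) =
      algebraMap (R ⧸ P.comap (algebraMap R A)) (A ⧸ P) (Ideal.Quotient.mk _ a) := rfl
  show φ ((Ideal.Quotient.mk P) (algebraMap R A a)) = μ a
  rw [h1, φ.commutes]
  rfl

namespace RGrpd

variable {K A B D : Type u} [CommRing K] [CommRing A] [CommRing B] [CommRing D]
  [Algebra K A] [Algebra K B] [Algebra K D] (G : RGrpd K A B D)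

theorem root_of_inv {n : ℕ} (k : Type u) [Field k] [Algebra K k] (f : k ⊗[K] A)
    (hf : f ∈ (G.bc k).inv) (P : k[X])
    (hP : letI := (G.bc k).σ.toRingHom.toAlgebra;
      IsRCP (k ⊗[K] A) (k ⊗[K] B) n ((G.bc k).τ f) (P.map (algebraMap k (k ⊗[K] A))))
    (y : k ⊗[K] A →ₐ[k] k) :
    P.IsRoot (y f) ∧ ∀ μ : k, μ ≠ 0 → P.IsRoot μ → μ = y f := by
  let fσ : CommRingCat.of (k ⊗[K] A) ⟶ CommRingCat.of (k ⊗[K] B) :=
    CommRingCat.ofHom (G.bc k).σ.toRingHom
  let fy : CommRingCat.of (k ⊗[K] A) ⟶ CommRingCat.of k := CommRingCat.ofHom y.toRingHom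
  have hpo := IsPushout.of_hasPushout fσ fy
  have hbc := isRCP_cat hpo n ((G.bc k).τ f) _ hP
  have e1 : (P.map (algebraMap k (k ⊗[K] A))).map fy.hom = P := by
    rw [Polynomial.map_map]
    have : fy.hom.comp (algebraMap k (k ⊗[K] A)) = RingHom.id k := by
      ext c
      show y (algebraMap k (k ⊗[K] A) c) = c
      rw [AlgHom.commutes]
      rfl
    rw [this, Polynomial.map_id]
  rw [e1] at hbc
  have hτσ : (G.bc k).τ f = fσ.hom f := hf.symm
  have e2 : (pushout.inl fσ fy).hom ((G.bc k).τ f) = (pushout.inr fσ fy).hom (y f) := by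
    rw [hτσ]
    exact congrArg (fun φ => φ.hom f) (pushout.condition (f := fσ) (g := fy))
  rw [e2] at hbc
  letI : Algebra k (pushout fσ fy : CommRingCat.{u}) := (pushout.inr fσ fy).hom.toAlgebra
  haveI : Nontrivial (pushout fσ fy : CommRingCat.{u}) := by
    let g : CommRingCat.of (k ⊗[K] B) ⟶ CommRingCat.of k :=
      CommRingCat.ofHom (y.toRingHom.comp (G.bc k).ε.toRingHom)
    have hg : fσ ≫ g = fy ≫ 𝟙 _ := by
      refine CommRingCat.hom_ext (RingHom.ext fun a => ?_)
      show y ((G.bc k).ε ((G.bc k).σ a)) = y a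
      rw [(G.bc k).hεσ]
    exact (pushout.desc g (𝟙 _) hg).hom.domain_nontrivial
  exact scalar_root (y f) P hbc

/-- Two `k`-points of `k ⊗ A` agree on the invariants of the base-changed groupoid. -/
theorem eq_on_inv_bc (h : G.InvSurj) (k : Type u) [Field k] [Algebra K k] (f : k ⊗[K] A)
    (hf : f ∈ (G.bc k).inv) (y₀ y₁ : k ⊗[K] A →ₐ[k] k) : y₀ f = y₁ f := by
  obtain ⟨n, hr⟩ := G.exists_hasRet
  obtain ⟨P, hP⟩ := G.exists_poly k h hr f
  obtain ⟨a0, b0⟩ := G.root_of_inv k f hf P hP y₀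
  obtain ⟨a1, b1⟩ := G.root_of_inv k f hf P hP y₁
  by_cases h0 : y₀ f = 0
  · by_cases h1 : y₁ f = 0
    · rw [h0, h1]
    · exact (b0 _ h1 a1).symm
  · exact b1 _ h0 a0


/-- Geometric points: two ring homs `A → k` (`k` algebraically closed) agreeing on `K` (assumed to be
all the invariants) are the target and source of a ring hom `B → k`. -/
theorem exists_hom_of_eq (h : G.InvSurj) (k : Type u) [Field k] [IsAlgClosed k] (x₀ x₁ : A →+* k)
    (hx : x₀.comp (algebraMap K A) = x₁.comp (algebraMap K A)) :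
    ∃ r : B →+* k, r.comp G.τ.toRingHom = x₀ ∧ r.comp G.σ.toRingHom = x₁ := by
  letI : Algebra K k := (x₀.comp (algebraMap K A)).toAlgebra
  let X₀ : A →ₐ[K] k := { x₀ with commutes' := fun c => rfl }
  let X₁ : A →ₐ[K] k := { x₁ with commutes' := fun c => (congrArg (fun φ => φ c) hx).symm }
  let y₀ : k ⊗[K] A →ₐ[k] k :=
    Algebra.TensorProduct.lift (AlgHom.id k k) X₀ (fun _ _ => Commute.all _ _)
  let y₁ : k ⊗[K] A →ₐ[k] k :=
    Algebra.TensorProduct.lift (AlgHom.id k k) X₁ (fun _ _ => Commute.all _ _)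
  have hy₀ : ∀ a : A, y₀ (1 ⊗ₜ a) = x₀ a := by
    intro a
    simp only [y₀, Algebra.TensorProduct.lift_tmul, map_one, one_mul]
    rfl
  have hy₁ : ∀ a : A, y₁ (1 ⊗ₜ a) = x₁ a := by
    intro a
    simp only [y₁, Algebra.TensorProduct.lift_tmul, map_one, one_mul]
    rfl
  let G' := G.bc k
  haveI hP₀ : (RingHom.ker y₀.toRingHom).IsPrime := RingHom.ker_isPrime _
  haveI hP₁ : (RingHom.ker y₁.toRingHom).IsPrime := RingHom.ker_isPrime _
  have hcomap : (RingHom.ker y₀.toRingHom).comap G'.inv.subtype =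
      (RingHom.ker y₁.toRingHom).comap G'.inv.subtype := by
    ext f
    simp only [Ideal.mem_comap, RingHom.mem_ker, Subring.coe_subtype]
    have := G.eq_on_inv_bc h k f.1 f.2 y₀ y₁
    show y₀ f.1 = 0 ↔ y₁ f.1 = 0
    rw [this]
  obtain ⟨Q, hQ, hQτ, hQσ⟩ := G'.exists_prime_of_comap_eq _ _ hcomap
  haveI := hQ
  -- elements of A' are scalars modulo the kernels
  have hmod₀ : ∀ z : k ⊗[K] A, G'.τ z - algebraMap k (k ⊗[K] B) (y₀ z) ∈ Q := by
    intro z
    have h1 : z - algebraMap k (k ⊗[K] A) (y₀ z) ∈ RingHom.ker y₀.toRingHom := by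
      rw [RingHom.mem_ker]
      show y₀ (z - algebraMap k (k ⊗[K] A) (y₀ z)) = 0
      rw [map_sub, AlgHom.commutes]
      simp
    rw [← hQτ] at h1
    have h2 : G'.τ (z - algebraMap k (k ⊗[K] A) (y₀ z)) ∈ Q := h1
    rwa [map_sub, AlgHom.commutes] at h2
  have hmod₁ : ∀ z : k ⊗[K] A, G'.σ z - algebraMap k (k ⊗[K] B) (y₁ z) ∈ Q := by
    intro z
    have h1 : z - algebraMap k (k ⊗[K] A) (y₁ z) ∈ RingHom.ker y₁.toRingHom := by
      rw [RingHom.mem_ker]
      show y₁ (z - algebraMap k (k ⊗[K] A) (y₁ z)) = 0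
      rw [map_sub, AlgHom.commutes]
      simp
    rw [← hQσ] at h1
    have h2 : G'.σ (z - algebraMap k (k ⊗[K] A) (y₁ z)) ∈ Q := h1
    rwa [map_sub, AlgHom.commutes] at h2
  -- the residue ring of Q is k
  let fk : k →+* (k ⊗[K] B) ⧸ Q := (Ideal.Quotient.mk Q).comp (algebraMap k (k ⊗[K] B))
  have hfk : fk.IsIntegral := by
    intro x
    obtain ⟨b, rfl⟩ := Ideal.Quotient.mk_surjective x
    letI := G'.σ.toRingHom.toAlgebra
    haveI : Module.Finite (k ⊗[K] A) (k ⊗[K] B) := G'.fin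
    obtain ⟨p, hp, hpb⟩ := Algebra.IsIntegral.isIntegral (R := k ⊗[K] A) b
    refine ⟨p.map y₁.toRingHom, hp.map _, ?_⟩
    rw [Polynomial.eval₂_map]
    have hcomp : fk.comp y₁.toRingHom = (Ideal.Quotient.mk Q).comp G'.σ.toRingHom := by
      refine RingHom.ext fun z => ?_
      show (Ideal.Quotient.mk Q) (algebraMap k (k ⊗[K] B) (y₁ z)) = (Ideal.Quotient.mk Q) (G'.σ z)
      rw [eq_comm, Ideal.Quotient.eq]
      exact hmod₁ z
    rw [hcomp, ← Polynomial.hom_eval₂]
    have : Polynomial.eval₂ G'.σ.toRingHom b p = 0 := hpb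
    rw [this, map_zero]
  have hbij := IsAlgClosed.ringHom_bijective_of_isIntegral fk hfk
  let ek : k ≃+* (k ⊗[K] B) ⧸ Q := RingEquiv.ofBijective fk hbij
  let r' : k ⊗[K] B →+* k := ek.symm.toRingHom.comp (Ideal.Quotient.mk Q)
  have hr'alg : ∀ c : k, r' (algebraMap k (k ⊗[K] B) c) = c := by
    intro c
    show ek.symm (fk c) = c
    exact ek.symm_apply_apply c
  have hr'Q : ∀ b ∈ Q, r' b = 0 := by
    intro b hb
    show ek.symm ((Ideal.Quotient.mk Q) b) = 0
    rw [Ideal.Quotient.eq_zero_iff_mem.mpr hb, map_zero]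
  have hr'τ : ∀ z, r' (G'.τ z) = y₀ z := by
    intro z
    have := hr'Q _ (hmod₀ z)
    rw [map_sub, hr'alg, sub_eq_zero] at this
    exact this
  have hr'σ : ∀ z, r' (G'.σ z) = y₁ z := by
    intro z
    have := hr'Q _ (hmod₁ z)
    rw [map_sub, hr'alg, sub_eq_zero] at this
    exact this
  refine ⟨r'.comp (Algebra.TensorProduct.includeRight (R := K) (A := k) (B := B)).toRingHom,
    ?_, ?_⟩
  · ext a
    show r' (1 ⊗ₜ G.τ a) = x₀ a
    have : (1 : k) ⊗ₜ[K] G.τ a = G'.τ (1 ⊗ₜ a) := by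
      simp [G', RGrpd.bc]
    rw [this, hr'τ, hy₀]
  · ext a
    show r' (1 ⊗ₜ G.σ a) = x₁ a
    have : (1 : k) ⊗ₜ[K] G.σ a = G'.σ (1 ⊗ₜ a) := by
      simp [G', RGrpd.bc]
    rw [this, hr'σ, hy₁]
end RGrpd

end Groth.Agent.Lib.Seat19.RG
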