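import Mathlib
import Groth.Prelude.Def_Grpd
import Groth.Agent.Lib.Seat19RGofG
import Groth.Agent.Lib.Seat19RGpts
import Groth.Agent.Lib.Seat19Quot1

/-!
# Geometric points of `U → Spec C` (helper19)
-/

set_option autoImplicit false
set_option linter.style.haveILetI false
set_option linter.unusedSectionVars false
universe u

open CategoryTheory CategoryTheory.Limits AlgebraicGeometry
open Groth.Agent.Lib.Seat19.RG Groth.Agent.Lib.Seat19.RGofG

namespace Groth.Agent.Lib.Seat19.Quot2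

variable {S : Scheme.{u}} (G : Grpd.GroupoidScheme S)

/-- `Γ(R)` as an algebra over the invariants (through `s`). -/
@[reducible] noncomputable def algB : Algebra G.invariants Γ(G.R, ⊤) :=
  (G.s.appTop.hom.comp G.invariants.subtype).toAlgebra

/-- `Γ(R ×_U R)` as an algebra over the invariants. -/
@[reducible] noncomputable def algD : Algebra G.invariants Γ(pullback G.s G.t, ⊤) :=
  ((pullback.snd G.s G.t).appTop.hom.comp (G.s.appTop.hom.comp G.invariants.subtype)).toAlgebra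

section
variable [IsAffine G.U] [IsAffine G.R] [IsFinite G.s] [Flat G.s] [LocallyOfFinitePresentation G.s]

/-- The ring-level datum over the ring of invariants. -/
noncomputable def ofGroupoidInv :
    @RGrpd G.invariants Γ(G.U, ⊤) Γ(G.R, ⊤) Γ(pullback G.s G.t, ⊤) _ _ _ _ _ (algB G) (algD G) :=
  letI := algB G
  letI := algD G
  ofGroupoid G G.invariants (fun _ => rfl) (fun k => k.2.symm) (fun _ => rfl)

theorem ofGroupoidInv_invSurj :
    letI := algB G
    letI := algD G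
    (ofGroupoidInv G).InvSurj := by
  intro a ha
  exact ⟨⟨a, ha⟩, rfl⟩

theorem ofGroupoidInv_σ (a : Γ(G.U, ⊤)) :
    letI := algB G
    letI := algD G
    (ofGroupoidInv G).σ a = G.s.appTop.hom a := rfl

theorem ofGroupoidInv_τ (a : Γ(G.U, ⊤)) :
    letI := algB G
    letI := algD G
    (ofGroupoidInv G).τ a = G.t.appTop.hom a := rfl

/-- morphisms from `Spec k` into an affine scheme come from ring homs -/
theorem exists_eq_specMap {X : Scheme.{u}} [IsAffine X] {R : CommRingCat.{u}} (x : Spec R ⟶ X) :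
    ∃ φ : Γ(X, ⊤) ⟶ R, x = Spec.map φ ≫ X.isoSpec.inv := by
  refine ⟨Spec.preimage (x ≫ X.isoSpec.hom), ?_⟩
  rw [Spec.map_preimage, Category.assoc, Iso.hom_inv_id, Category.comp_id]

theorem specMap_toQuot {R : CommRingCat.{u}} (φ : Γ(G.U, ⊤) ⟶ R) :
    (Spec.map φ ≫ G.U.isoSpec.inv) ≫ G.toQuot =
      Spec.map (CommRingCat.ofHom G.invariants.subtype ≫ φ) := by
  unfold Grpd.GroupoidScheme.toQuot
  rw [Category.assoc, Scheme.isoSpec_inv_toSpecΓ_assoc, ← Spec.map_comp]

theorem specMap_t {R : CommRingCat.{u}} (ρ : Γ(G.R, ⊤) ⟶ R) :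
    (Spec.map ρ ≫ G.R.isoSpec.inv) ≫ G.t = Spec.map (G.t.appTop ≫ ρ) ≫ G.U.isoSpec.inv := by
  rw [Category.assoc, ← Scheme.isoSpec_inv_naturality, Spec.map_comp, Category.assoc]

theorem specMap_s {R : CommRingCat.{u}} (ρ : Γ(G.R, ⊤) ⟶ R) :
    (Spec.map ρ ≫ G.R.isoSpec.inv) ≫ G.s = Spec.map (G.s.appTop ≫ ρ) ≫ G.U.isoSpec.inv := by
  rw [Category.assoc, ← Scheme.isoSpec_inv_naturality, Spec.map_comp, Category.assoc]

theorem specMap_isoSpec_inv_inj {X : Scheme.{u}} [IsAffine X] {R : CommRingCat.{u}}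
    {φ ψ : Γ(X, ⊤) ⟶ R} (h : Spec.map φ ≫ X.isoSpec.inv = Spec.map ψ ≫ X.isoSpec.inv) : φ = ψ := by
  apply Spec.map_injective
  exact (cancel_mono X.isoSpec.inv).mp h

theorem lift_kpoint (k : Type u) [Field k] [IsAlgClosed k]
    (m : Spec (CommRingCat.of k) ⟶ Spec (CommRingCat.of G.invariants)) :
    ∃ x : Spec (CommRingCat.of k) ⟶ G.U, x ≫ G.toQuot = m := by
  have hint : Algebra.IsIntegral G.invariants Γ(G.U, ⊤) := (ofGroupoidInt G).isIntegral
  obtain ⟨x, hx⟩ := exists_extension_of_isIntegral (R := G.invariants) (A := Γ(G.U, ⊤))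
    Subtype.val_injective k (Spec.preimage m).hom
  refine ⟨Spec.map (CommRingCat.ofHom x) ≫ G.U.isoSpec.inv, ?_⟩
  rw [specMap_toQuot]
  have : CommRingCat.ofHom G.invariants.subtype ≫ CommRingCat.ofHom x = Spec.preimage m := by
    ext a
    exact congrArg (fun φ => φ a) hx
  rw [this, Spec.map_preimage]

theorem kpoints_eq_iff (k : Type u) [Field k] [IsAlgClosed k]
    (x₀ x₁ : Spec (CommRingCat.of k) ⟶ G.U) :
    x₀ ≫ G.toQuot = x₁ ≫ G.toQuot ↔
      ∃ r : Spec (CommRingCat.of k) ⟶ G.R, r ≫ G.t = x₀ ∧ r ≫ G.s = x₁ := by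
  constructor
  · intro h
    obtain ⟨φ₀, rfl⟩ := exists_eq_specMap x₀
    obtain ⟨φ₁, rfl⟩ := exists_eq_specMap x₁
    rw [specMap_toQuot, specMap_toQuot] at h
    have h' := Spec.map_injective h
    letI := algB G
    letI := algD G
    have hx : φ₀.hom.comp (algebraMap G.invariants Γ(G.U, ⊤)) =
        φ₁.hom.comp (algebraMap G.invariants Γ(G.U, ⊤)) := by
      ext a
      exact congrArg (fun ψ => ψ.hom a) h'
    obtain ⟨r, hrτ, hrσ⟩ := (ofGroupoidInv G).exists_hom_of_eq (ofGroupoidInv_invSurj G) k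
      φ₀.hom φ₁.hom hx
    refine ⟨Spec.map (CommRingCat.ofHom r) ≫ G.R.isoSpec.inv, ?_, ?_⟩
    · rw [specMap_t]
      congr 2
      ext a
      exact congrArg (fun ψ => ψ a) hrτ
    · rw [specMap_s]
      congr 2
      ext a
      exact congrArg (fun ψ => ψ a) hrσ
  · rintro ⟨r, rfl, rfl⟩
    rw [Category.assoc, Category.assoc, Groth.Agent.Lib.Seat19.Quot1.s_toQuot]

end

end Groth.Agent.Lib.Seat19.Quot2
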