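import Mathlib
import Groth.Prelude.Def_Grpd
import Groth.Agent.Lib.Seat19Quot2
import Groth.Agent.Lib.Seat19Global

/-!
# The finite flat quotient theorem for an equivalence relation, scheme level (helper19)
-/

set_option autoImplicit false
set_option linter.style.haveILetI false
set_option linter.unusedSectionVars false
universe u

open CategoryTheory CategoryTheory.Limits AlgebraicGeometry TensorProduct
open Groth.Agent.Lib.Seat19.RG Groth.Agent.Lib.Seat19.RGofG Groth.Agent.Lib.Seat19.Quot2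

namespace Groth.Agent.Lib.Seat19.FFQ

variable {S : Scheme.{u}} (G : Grpd.GroupoidScheme S)

/-- the ring map `Γ(U) ⊗_ℤ Γ(U) → Γ(R)`, `a ⊗ a' ↦ t♯ a * s♯ a'`. -/
noncomputable def prodZ : Γ(G.U, ⊤) ⊗[ℤ] Γ(G.U, ⊤) →ₐ[ℤ] Γ(G.R, ⊤) :=
  Algebra.TensorProduct.productMap G.t.appTop.hom.toIntAlgHom G.s.appTop.hom.toIntAlgHom

theorem prodZ_left : (CommRingCat.ofHom (Algebra.TensorProduct.includeLeft
      (R := ℤ) (S := ℤ) (A := Γ(G.U, ⊤)) (B := Γ(G.U, ⊤))).toRingHom) ≫
      CommRingCat.ofHom (prodZ G).toRingHom = G.t.appTop := by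
  refine CommRingCat.hom_ext (RingHom.ext fun a => ?_)
  simp [prodZ]

theorem prodZ_right : (CommRingCat.ofHom (Algebra.TensorProduct.includeRight
      (R := ℤ) (A := Γ(G.U, ⊤)) (B := Γ(G.U, ⊤))).toRingHom) ≫
      CommRingCat.ofHom (prodZ G).toRingHom = G.s.appTop := by
  refine CommRingCat.hom_ext (RingHom.ext fun a => ?_)
  simp [prodZ]

section
variable [IsAffine G.U] [IsAffine G.R] [IsFinite G.s] [Flat G.s] [LocallyOfFinitePresentation G.s]

theorem epi_prodZ [Mono G.j] : Epi (CommRingCat.ofHom (prodZ G).toRingHom) := by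
  constructor
  intro Z g h hgh
  apply specMap_isoSpec_inv_inj
  rw [← cancel_mono G.j]
  have hj1 : G.j ≫ pullback.fst _ _ = G.t := pullback.lift_fst _ _ _
  have hj2 : G.j ≫ pullback.snd _ _ = G.s := pullback.lift_snd _ _ _
  have key1 : ∀ x : Γ(G.R, ⊤) ⟶ Z, ((Spec.map x ≫ G.R.isoSpec.inv) ≫ G.j) ≫ pullback.fst _ _ =
      Spec.map (G.t.appTop ≫ x) ≫ G.U.isoSpec.inv := by
    intro x
    rw [Category.assoc, hj1, specMap_t]
  have key2 : ∀ x : Γ(G.R, ⊤) ⟶ Z, ((Spec.map x ≫ G.R.isoSpec.inv) ≫ G.j) ≫ pullback.snd _ _ =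
      Spec.map (G.s.appTop ≫ x) ≫ G.U.isoSpec.inv := by
    intro x
    rw [Category.assoc, hj2, specMap_s]
  apply pullback.hom_ext
  · rw [key1, key1, ← prodZ_left, Category.assoc, Category.assoc, hgh]
  · rw [key2, key2, ← prodZ_right, Category.assoc, Category.assoc, hgh]

theorem prodZ_surjective [Mono G.j] : Function.Surjective (prodZ G) := by
  haveI := epi_prodZ G
  have hfin : (CommRingCat.ofHom (prodZ G).toRingHom).hom.Finite := by
    apply RingHom.Finite.of_comp_finite (f := (Algebra.TensorProduct.includeRight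
      (R := ℤ) (A := Γ(G.U, ⊤)) (B := Γ(G.U, ⊤))).toRingHom)
    have : (CommRingCat.ofHom (prodZ G).toRingHom).hom.comp (Algebra.TensorProduct.includeRight
      (R := ℤ) (A := Γ(G.U, ⊤)) (B := Γ(G.U, ⊤))).toRingHom = G.s.appTop.hom := by
      ext a
      simp [prodZ]
    rw [this]
    exact G.s.finite_appTop
  exact RingHom.surjective_of_epi_of_finite _ hfin

theorem spanTau [Mono G.j] :
    letI := algB G
    letI := algD G
    (ofGroupoidInv G).SpanTau := by
  letI := algB G
  letI := algD G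
  letI algA : Algebra Γ(G.U, ⊤) Γ(G.R, ⊤) := (ofGroupoidInv G).σ.toRingHom.toAlgebra
  show Submodule.span Γ(G.U, ⊤) (Set.range (ofGroupoidInv G).τ) = ⊤
  rw [eq_top_iff]
  rintro b -
  obtain ⟨z, rfl⟩ := prodZ_surjective G b
  induction z using TensorProduct.induction_on with
  | zero => simp
  | add x y hx hy =>
    rw [map_add]
    exact Submodule.add_mem _ hx hy
  | tmul a a' =>
    have : prodZ G (a ⊗ₜ a') = a' • (ofGroupoidInv G).τ a := by
      rw [Algebra.smul_def, mul_comm]
      simp [prodZ]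
      rfl
    rw [this]
    exact Submodule.smul_mem _ _ (Submodule.subset_span ⟨a, rfl⟩)

/-- `Γ(U)` is finite, flat and finitely presented over the invariants. -/
theorem ring_props [Mono G.j] :
    Module.Flat G.invariants Γ(G.U, ⊤) ∧ Module.Finite G.invariants Γ(G.U, ⊤) ∧
      Algebra.FinitePresentation G.invariants Γ(G.U, ⊤) := by
  letI := algB G
  letI := algD G
  have h := ofGroupoidInv_invSurj G
  have hinj : Function.Injective (algebraMap G.invariants Γ(G.U, ⊤)) := Subtype.val_injective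
  have hJ := spanTau G
  exact ⟨(ofGroupoidInv G).flat_of_mono h hinj hJ,
    ((ofGroupoidInv G).finite_fp_of_mono h hinj hJ).1,
    ((ofGroupoidInv G).finite_fp_of_mono h hinj hJ).2⟩

theorem productMap_bijective [Mono G.j] :
    letI := algB G
    letI := algD G
    Function.Bijective (Algebra.TensorProduct.productMap (ofGroupoidInv G).τ (ofGroupoidInv G).σ) := by
  letI := algB G
  letI := algD G
  have h := ofGroupoidInv_invSurj G
  have hinj : Function.Injective (algebraMap G.invariants Γ(G.U, ⊤)) := Subtype.val_injective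
  have hJ := spanTau G
  exact ⟨(ofGroupoidInv G).productMap_injective h hinj hJ, (ofGroupoidInv G).productMap_surjective hJ⟩

theorem isPushout_inv [Mono G.j] :
    IsPushout (CommRingCat.ofHom G.invariants.subtype) (CommRingCat.ofHom G.invariants.subtype)
      G.t.appTop G.s.appTop := by
  letI := algB G
  letI := algD G
  let e : Γ(G.U, ⊤) ⊗[G.invariants] Γ(G.U, ⊤) ≃+* Γ(G.R, ⊤) :=
    RingEquiv.ofBijective (Algebra.TensorProduct.productMap (ofGroupoidInv G).τ (ofGroupoidInv G).σ)
      (productMap_bijective G)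
  refine (CommRingCat.isPushout_tensorProduct G.invariants Γ(G.U, ⊤) Γ(G.U, ⊤)).of_iso
    (Iso.refl _) (Iso.refl _) (Iso.refl _) e.toCommRingCatIso ?_ ?_ ?_ ?_
  · rfl
  · rfl
  · refine CommRingCat.hom_ext (RingHom.ext fun a => ?_)
    show e (a ⊗ₜ 1) = G.t.appTop.hom a
    show Algebra.TensorProduct.productMap (ofGroupoidInv G).τ (ofGroupoidInv G).σ (a ⊗ₜ 1) = _
    rw [Algebra.TensorProduct.productMap_apply_tmul, map_one, mul_one]
    rfl
  · refine CommRingCat.hom_ext (RingHom.ext fun a => ?_)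
    show e (1 ⊗ₜ a) = G.s.appTop.hom a
    show Algebra.TensorProduct.productMap (ofGroupoidInv G).τ (ofGroupoidInv G).σ (1 ⊗ₜ a) = _
    rw [Algebra.TensorProduct.productMap_apply_tmul, map_one, one_mul]
    rfl

theorem isPullback_toQuot [Mono G.j] : IsPullback G.t G.s G.toQuot G.toQuot := by
  have h := isPullback_SpecMap_of_isPushout _ _ _ _ (isPushout_inv G)
  refine h.of_iso G.R.isoSpec.symm G.U.isoSpec.symm G.U.isoSpec.symm (Iso.refl _) ?_ ?_ ?_ ?_
  · exact Scheme.isoSpec_inv_naturality G.t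
  · exact Scheme.isoSpec_inv_naturality G.s
  · unfold Grpd.GroupoidScheme.toQuot
    simp
  · unfold Grpd.GroupoidScheme.toQuot
    simp

theorem toQuot_props [Mono G.j] :
    IsFinite G.toQuot ∧ Flat G.toQuot ∧ LocallyOfFinitePresentation G.toQuot := by
  obtain ⟨hflat, hfin, hfp⟩ := ring_props G
  unfold Grpd.GroupoidScheme.toQuot
  have h1 : IsFinite (Spec.map (CommRingCat.ofHom G.invariants.subtype)) := by
    rw [IsFinite.SpecMap_iff]
    exact RingHom.finite_algebraMap.mpr hfin
  have h2 : Flat (Spec.map (CommRingCat.ofHom G.invariants.subtype)) := by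
    rw [Flat.SpecMap_iff]
    exact RingHom.flat_algebraMap_iff.mpr hflat
  have h3 : LocallyOfFinitePresentation (Spec.map (CommRingCat.ofHom G.invariants.subtype)) := by
    rw [LocallyOfFinitePresentation.SpecMap_iff]
    exact RingHom.finitePresentation_algebraMap.mpr hfp
  exact ⟨inferInstance, inferInstance, inferInstance⟩

theorem main [Mono G.j] :
    (IsFinite G.toQuot ∧ Flat G.toQuot ∧ LocallyOfFinitePresentation G.toQuot) ∧
      ∃ φ : G.R ≅ pullback G.toQuot G.toQuot,
        φ.hom ≫ pullback.fst G.toQuot G.toQuot = G.t ∧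
          φ.hom ≫ pullback.snd G.toQuot G.toQuot = G.s :=
  ⟨toQuot_props G, (isPullback_toQuot G).isoPullback,
    (isPullback_toQuot G).isoPullback_hom_fst, (isPullback_toQuot G).isoPullback_hom_snd⟩

end

end Groth.Agent.Lib.Seat19.FFQ
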