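import Mathlib
import Groth.Prelude.Def_Grpd
import Groth.Agent.Lib.Helper2Grpd

/-!
# Sub-groupoid schemes (helper19)

Given a groupoid scheme `G` and monomorphisms `a : U' ⟶ G.U`, `b : R' ⟶ G.R` with compatible
source/target maps such that `R'` is "full" (every `T`-point of `R` with source and target in `U'`
lifts to `R'`), we build the induced groupoid scheme on `(U', R')`.
-/

set_option autoImplicit false
universe u

open CategoryTheory CategoryTheory.Limits AlgebraicGeometry
open Groth.Agent.Lib.Helper2.Grpd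

namespace Groth.Agent.Lib.Seat19.Sub

variable {S : Scheme.{u}} (G : Grpd.GroupoidScheme S)

/-- data of a full sub-groupoid -/
structure SubData where
  U' : Scheme.{u}
  R' : Scheme.{u}
  a : U' ⟶ G.U
  b : R' ⟶ G.R
  ma : Mono a
  mb : Mono b
  s' : R' ⟶ U'
  t' : R' ⟶ U'
  hs : s' ≫ a = b ≫ G.s
  ht : t' ≫ a = b ≫ G.t
  lift : ∀ {T : Scheme.{u}} (α : T ⟶ G.R) (x y : T ⟶ U'), α ≫ G.t = x ≫ a → α ≫ G.s = y ≫ a →
    (T ⟶ R')
  lift_fac : ∀ {T : Scheme.{u}} (α : T ⟶ G.R) (x y : T ⟶ U') (h1 : α ≫ G.t = x ≫ a)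
    (h2 : α ≫ G.s = y ≫ a), lift α x y h1 h2 ≫ b = α

namespace SubData

variable {G} (D : SubData G)

attribute [instance] SubData.ma SubData.mb

theorem c_t : G.c ≫ G.t = pullback.fst G.s G.t ≫ G.t := by
  have := G.comp_t (pullback.fst G.s G.t) (pullback.snd G.s G.t) pullback.condition
  have h : pullback.lift (pullback.fst G.s G.t) (pullback.snd G.s G.t) pullback.condition = 𝟙 _ := by
    apply pullback.hom_ext <;> simp
  rwa [h, Category.id_comp] at this

theorem c_s : G.c ≫ G.s = pullback.snd G.s G.t ≫ G.s := by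
  have := G.comp_s (pullback.fst G.s G.t) (pullback.snd G.s G.t) pullback.condition
  have h : pullback.lift (pullback.fst G.s G.t) (pullback.snd G.s G.t) pullback.condition = 𝟙 _ := by
    apply pullback.hom_ext <;> simp
  rwa [h, Category.id_comp] at this

/-- the map on composable pairs -/
noncomputable def cmap : pullback D.s' D.t' ⟶ pullback G.s G.t :=
  pullback.map D.s' D.t' G.s G.t D.b D.b D.a D.hs D.ht

/-- identity -/
noncomputable def e' : D.U' ⟶ D.R' :=
  D.lift (D.a ≫ G.e) (𝟙 _) (𝟙 _)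
    (by rw [Category.assoc, G.e_t, Category.comp_id, Category.id_comp])
    (by rw [Category.assoc, G.e_s, Category.comp_id, Category.id_comp])

/-- inverse -/
noncomputable def i' : D.R' ⟶ D.R' :=
  D.lift (D.b ≫ G.i) D.s' D.t'
    (by rw [Category.assoc, G.i_t, D.hs])
    (by rw [Category.assoc, G.i_s, D.ht])

/-- composition -/
noncomputable def c' : pullback D.s' D.t' ⟶ D.R' :=
  D.lift (D.cmap ≫ G.c) (pullback.fst _ _ ≫ D.t') (pullback.snd _ _ ≫ D.s')
    (by
      rw [Category.assoc, c_t, Category.assoc, D.ht]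
      unfold cmap
      rw [pullback.lift_fst_assoc, Category.assoc])
    (by
      rw [Category.assoc, c_s, Category.assoc, D.hs]
      unfold cmap
      rw [pullback.lift_snd_assoc, Category.assoc])

@[reassoc]
theorem e'_b : D.e' ≫ D.b = D.a ≫ G.e := D.lift_fac _ _ _ _ _

@[reassoc]
theorem i'_b : D.i' ≫ D.b = D.b ≫ G.i := D.lift_fac _ _ _ _ _

@[reassoc]
theorem c'_b : D.c' ≫ D.b = D.cmap ≫ G.c := D.lift_fac _ _ _ _ _

theorem cond_b {T : Scheme.{u}} (α β : T ⟶ D.R') (h : α ≫ D.s' = β ≫ D.t') :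
    (α ≫ D.b) ≫ G.s = (β ≫ D.b) ≫ G.t := by
  rw [Category.assoc, ← D.hs, Category.assoc, ← D.ht, reassoc_of% h]

theorem lift_c'_b {T : Scheme.{u}} (α β : T ⟶ D.R') (h : α ≫ D.s' = β ≫ D.t') :
    (pullback.lift α β h ≫ D.c') ≫ D.b = comp G (α ≫ D.b) (β ≫ D.b) (D.cond_b α β h) := by
  rw [Category.assoc, c'_b, ← Category.assoc]
  unfold comp
  congr 1
  unfold cmap
  apply pullback.hom_ext
  · simp only [pullback.map, Category.assoc, pullback.lift_fst, pullback.lift_fst_assoc]
  · simp only [pullback.map, Category.assoc, pullback.lift_snd, pullback.lift_snd_assoc]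

/-- the induced groupoid scheme -/
@[reducible] noncomputable def grpd : Grpd.GroupoidScheme S where
  U := D.U'
  R := D.R'
  pU := D.a ≫ G.pU
  pR := D.b ≫ G.pR
  s := D.s'
  t := D.t'
  e := D.e'
  i := D.i'
  c := D.c'
  s_over := by rw [reassoc_of% D.hs, G.s_over]
  t_over := by rw [reassoc_of% D.ht, G.t_over]
  comp_s := by
    intro T α β h
    rw [← cancel_mono D.a, Category.assoc, D.hs, ← Category.assoc, D.lift_c'_b, comp_s,
      Category.assoc, Category.assoc, D.hs]
  comp_t := by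
    intro T α β h
    rw [← cancel_mono D.a, Category.assoc, D.ht, ← Category.assoc, D.lift_c'_b, comp_t,
      Category.assoc, Category.assoc, D.ht]
  assoc := by
    intro T α β γ h₁ h₂
    rw [← cancel_mono D.b]
    refine (D.lift_c'_b _ _ _).trans ?_
    refine Eq.trans ?_ (D.lift_c'_b _ _ _).symm
    refine (comp_congr G _ (D.lift_c'_b α β h₁) rfl).trans ?_
    refine Eq.trans ?_ (comp_congr G _ rfl (D.lift_c'_b β γ h₂)).symm
    exact comp_assoc G _ _ _ (D.cond_b α β h₁) (D.cond_b β γ h₂)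
  e_s := by
    rw [← cancel_mono D.a, Category.assoc, D.hs, e'_b_assoc, G.e_s, Category.comp_id,
      Category.id_comp]
  e_t := by
    rw [← cancel_mono D.a, Category.assoc, D.ht, e'_b_assoc, G.e_t, Category.comp_id,
      Category.id_comp]
  comp_e := by
    intro T α
    rw [← cancel_mono D.b, D.lift_c'_b]
    refine comp_e G (α ≫ D.b) _ ?_ _
    rw [Category.assoc, Category.assoc, e'_b, reassoc_of% D.hs, Category.assoc]
  e_comp := by
    intro T α
    rw [← cancel_mono D.b, D.lift_c'_b]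
    refine e_comp G (α ≫ D.b) _ ?_ _
    rw [Category.assoc, Category.assoc, e'_b, reassoc_of% D.ht, Category.assoc]
  i_s := by
    rw [← cancel_mono D.a, Category.assoc, D.hs, i'_b_assoc, G.i_s, D.ht]
  i_t := by
    rw [← cancel_mono D.a, Category.assoc, D.ht, i'_b_assoc, G.i_t, D.hs]
  comp_i := by
    intro T α
    rw [← cancel_mono D.b, D.lift_c'_b]
    have h1 : (α ≫ D.i') ≫ D.b = (α ≫ D.b) ≫ G.i := by
      rw [Category.assoc, i'_b, Category.assoc]
    rw [comp_congr G _ rfl h1, comp_i]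
    rw [Category.assoc, Category.assoc, Category.assoc, e'_b, reassoc_of% D.ht]
  i_comp := by
    intro T α
    rw [← cancel_mono D.b, D.lift_c'_b]
    have h1 : (α ≫ D.i') ≫ D.b = (α ≫ D.b) ≫ G.i := by
      rw [Category.assoc, i'_b, Category.assoc]
    rw [comp_congr G _ h1 rfl, i_comp]
    rw [Category.assoc, Category.assoc, Category.assoc, e'_b, reassoc_of% D.hs]

end SubData

end Groth.Agent.Lib.Seat19.Sub

namespace Groth.Agent.Lib.Seat19.Sub

variable {S : Scheme.{u}} (G : Grpd.GroupoidScheme S)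

/-- the data restricting a groupoid scheme to an invariant open of `U` -/
@[reducible] noncomputable def restrictData (W : G.U.Opens) (hW : G.s ⁻¹ᵁ W = G.t ⁻¹ᵁ W) : SubData G where
  U' := W
  R' := (G.s ⁻¹ᵁ W : G.R.Opens)
  a := W.ι
  b := (G.s ⁻¹ᵁ W).ι
  ma := inferInstance
  mb := inferInstance
  s' := G.s.resLE W (G.s ⁻¹ᵁ W) le_rfl
  t' := G.t.resLE W (G.s ⁻¹ᵁ W) hW.le
  hs := Scheme.Hom.resLE_comp_ι _ _
  ht := Scheme.Hom.resLE_comp_ι _ _
  lift := fun {T} α x y _ h2 => IsOpenImmersion.lift (G.s ⁻¹ᵁ W).ι α (by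
    rw [Scheme.Opens.range_ι]
    rintro _ ⟨z, rfl⟩
    show G.s (α z) ∈ W
    rw [← Scheme.Hom.comp_apply, h2, Scheme.Hom.comp_apply]
    exact (y z).2)
  lift_fac := fun {T} α x y _ _ => IsOpenImmersion.lift_fac _ _ _

/-- the restriction of a groupoid scheme to an invariant open of `U` -/
@[reducible] noncomputable def restrict (W : G.U.Opens) (hW : G.s ⁻¹ᵁ W = G.t ⁻¹ᵁ W) : Grpd.GroupoidScheme S :=
  (restrictData G W hW).grpd

variable (W : G.U.Opens) (hW : G.s ⁻¹ᵁ W = G.t ⁻¹ᵁ W)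

theorem restrict_U : (restrict G W hW).U = W := rfl
theorem restrict_R : (restrict G W hW).R = (G.s ⁻¹ᵁ W : G.R.Opens) := rfl
theorem restrict_s : (restrict G W hW).s = G.s.resLE W (G.s ⁻¹ᵁ W) le_rfl := rfl
theorem restrict_t : (restrict G W hW).t = G.t.resLE W (G.s ⁻¹ᵁ W) hW.le := rfl

end Groth.Agent.Lib.Seat19.Sub
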