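import Mathlib
import Groth.Prelude.Def_Grpd
import Groth.Agent.Lib.Seat19Sub

/-!
# Local quotients of a groupoid scheme on invariant opens (helper19)

For an invariant open `W ⊆ U` of a groupoid scheme we define the ring `Inv W ⊆ Γ(U, W)` of invariant
functions, `Y W = Spec (Inv W)` and `p W : W ⟶ Y W`, with restriction maps.
-/

set_option autoImplicit false
set_option linter.unusedSectionVars false
universe u

open CategoryTheory CategoryTheory.Limits AlgebraicGeometry Opposite

namespace Groth.Agent.Lib.Seat19.LocQ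

variable {S : Scheme.{u}} (G : Grpd.GroupoidScheme S)

/-- an open of `U` is invariant if its preimages under `s` and `t` agree -/
def IsInv (W : G.U.Opens) : Prop := G.s ⁻¹ᵁ W = G.t ⁻¹ᵁ W

section
variable (W : G.U.Opens) (hW : IsInv G W)

/-- `s♯` over `W` -/
noncomputable def σ : Γ(G.U, W) →+* Γ(G.R, G.s ⁻¹ᵁ W) := (G.s.appLE W (G.s ⁻¹ᵁ W) le_rfl).hom

/-- `t♯` over `W` (with values in sections over `s⁻¹ W = t⁻¹ W`) -/
noncomputable def τ : Γ(G.U, W) →+* Γ(G.R, G.s ⁻¹ᵁ W) := (G.t.appLE W (G.s ⁻¹ᵁ W) hW.le).hom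

/-- the ring of invariant functions on `W` -/
noncomputable def Inv : Subring Γ(G.U, W) := RingHom.eqLocus (σ G W) (τ G W hW)

/-- the local quotient `Spec (Inv W)` -/
noncomputable abbrev Y : Scheme.{u} := Spec (CommRingCat.of (Inv G W hW))

/-- the local quotient map -/
noncomputable def p : (W : Scheme.{u}) ⟶ Y G W hW :=
  W.toSpecΓ ≫ Spec.map (CommRingCat.ofHom (Inv G W hW).subtype)

theorem mem_Inv (a : Γ(G.U, W)) : a ∈ Inv G W hW ↔ σ G W a = τ G W hW a := Iff.rfl

end

theorem preimage_le {W O : G.U.Opens} (h : O ≤ W) : G.s ⁻¹ᵁ O ≤ G.s ⁻¹ᵁ W := fun _ hx => h hx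

section res
variable {W O : G.U.Opens} (hW : IsInv G W) (hO : IsInv G O) (h : O ≤ W)

theorem σ_res (a : Γ(G.U, W)) :
    σ G O ((G.U.presheaf.map (homOfLE h).op).hom a) =
      (G.R.presheaf.map (homOfLE (preimage_le G h)).op).hom (σ G W a) := by
  unfold σ
  rw [← CommRingCat.comp_apply, ← CommRingCat.comp_apply, Scheme.Hom.map_appLE,
    Scheme.Hom.appLE_map]

theorem τ_res (a : Γ(G.U, W)) :
    τ G O hO ((G.U.presheaf.map (homOfLE h).op).hom a) =
      (G.R.presheaf.map (homOfLE (preimage_le G h)).op).hom (τ G W hW a) := by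
  unfold τ
  rw [← CommRingCat.comp_apply, ← CommRingCat.comp_apply, Scheme.Hom.map_appLE,
    Scheme.Hom.appLE_map]

/-- restriction of invariant functions -/
noncomputable def ρ : Inv G W hW →+* Inv G O hO :=
  ((G.U.presheaf.map (homOfLE h).op).hom.comp (Inv G W hW).subtype).codRestrict (Inv G O hO) (by
    intro a
    show σ G O _ = τ G O hO _
    rw [RingHom.comp_apply, σ_res G h, τ_res G hW hO h]
    exact congrArg _ a.2)

theorem ρ_coe (a : Inv G W hW) :
    (ρ G hW hO h a : Γ(G.U, O)) = (G.U.presheaf.map (homOfLE h).op).hom a.1 := rfl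

/-- the transition map between local quotients -/
noncomputable def φ : Y G O hO ⟶ Y G W hW := Spec.map (CommRingCat.ofHom (ρ G hW hO h))

theorem p_φ : p G O hO ≫ φ G hW hO h = G.U.homOfLE h ≫ p G W hW := by
  unfold p φ
  rw [Category.assoc, ← Spec.map_comp, ← Scheme.Opens.toSpecΓ_SpecMap_presheaf_map_assoc,
    ← Spec.map_comp]
  rfl

end res

section functoriality
variable {W O O' : G.U.Opens} (hW : IsInv G W) (hO : IsInv G O) (hO' : IsInv G O')

theorem φ_id : φ G hW hW le_rfl = 𝟙 _ := by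
  unfold φ
  have : ρ G hW hW le_rfl = RingHom.id _ := by
    ext a
    rw [ρ_coe]
    simp
  rw [this]
  exact Spec.map_id _

theorem φ_comp (h : O ≤ W) (h' : O' ≤ O) :
    φ G hO hO' h' ≫ φ G hW hO h = φ G hW hO' (h'.trans h) := by
  unfold φ
  rw [← Spec.map_comp]
  congr 1
  refine CommRingCat.hom_ext (RingHom.ext fun a => Subtype.ext ?_)
  show (ρ G hO hO' h' (ρ G hW hO h a) : Γ(G.U, O')) = (ρ G hW hO' (h'.trans h) a : Γ(G.U, O'))
  rw [ρ_coe, ρ_coe, ρ_coe, ← CommRingCat.comp_apply, ← Functor.map_comp]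
  rfl

end functoriality

end Groth.Agent.Lib.Seat19.LocQ
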