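import Mathlib
import Groth.Prelude.Def_Grpd
import Groth.Agent.S1880

/-!
# Point-level calculus in a groupoid scheme (helper19)

Orbits `t (s⁻¹ x)` on the underlying sets, and the saturated interior
`sat Z = {x | orbit x ⊆ Z}` of a set `Z`, which is open when `Z` is open and `s` is closed, and is
`R`-invariant.
-/

set_option autoImplicit false
universe u

open CategoryTheory CategoryTheory.Limits AlgebraicGeometry

namespace Groth.Agent.Lib.Seat19.GrpdPts

variable {S : Scheme.{u}} (G : Grpd.GroupoidScheme S)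

theorem s_e (x : G.U) : G.s (G.e x) = x := by
  rw [← Scheme.Hom.comp_apply, G.e_s]; rfl

theorem t_e (x : G.U) : G.t (G.e x) = x := by
  rw [← Scheme.Hom.comp_apply, G.e_t]; rfl

theorem s_i (r : G.R) : G.s (G.i r) = G.t r := by
  rw [← Scheme.Hom.comp_apply, G.i_s]

theorem t_i (r : G.R) : G.t (G.i r) = G.s r := by
  rw [← Scheme.Hom.comp_apply, G.i_t]

/-- composition on points -/
theorem exists_comp (r₁ r₂ : G.R) (h : G.s r₁ = G.t r₂) :
    ∃ r₃ : G.R, G.s r₃ = G.s r₂ ∧ G.t r₃ = G.t r₁ := by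
  obtain ⟨z, hz1, hz2⟩ := Scheme.Pullback.exists_preimage_pullback (f := G.s) (g := G.t) r₁ r₂ h
  refine ⟨G.c z, ?_, ?_⟩
  · rw [← Scheme.Hom.comp_apply, Groth.Agent.S1880.c_s G, Scheme.Hom.comp_apply, hz2]
  · rw [← Scheme.Hom.comp_apply, Groth.Agent.S1880.c_t G, Scheme.Hom.comp_apply, hz1]

/-- the saturated interior of a set -/
def sat (Z : Set G.U) : Set G.U := {x | ∀ r : G.R, G.s r = x → G.t r ∈ Z}

theorem sat_subset (Z : Set G.U) : sat G Z ⊆ Z := by
  intro x hx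
  have := hx (G.e x) (s_e G x)
  rwa [t_e] at this

theorem sat_mono {Z Z' : Set G.U} (h : Z ⊆ Z') : sat G Z ⊆ sat G Z' :=
  fun _ hx r hr => h (hx r hr)

theorem sat_compl (Z : Set G.U) : (sat G Z)ᶜ = G.s '' (G.t ⁻¹' Zᶜ) := by
  ext x
  simp only [sat, Set.mem_compl_iff, Set.mem_setOf_eq, not_forall, Set.mem_image,
    Set.mem_preimage]
  constructor
  · rintro ⟨r, hr, hz⟩
    exact ⟨r, hz, hr⟩
  · rintro ⟨r, hz, hr⟩
    exact ⟨r, hr, hz⟩

theorem isOpen_sat [UniversallyClosed G.s] {Z : Set G.U} (hZ : IsOpen Z) : IsOpen (sat G Z) := by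
  rw [← isClosed_compl_iff, sat_compl]
  apply G.s.isClosedMap
  exact (isClosed_compl_iff.mpr hZ).preimage G.t.continuous

/-- the invariance: the orbit of `s ρ` is contained in `Z` iff that of `t ρ` is. -/
theorem s_mem_sat_iff (Z : Set G.U) (ρ : G.R) : G.s ρ ∈ sat G Z ↔ G.t ρ ∈ sat G Z := by
  constructor
  · intro h r hr
    -- r : tρ → y, ρ : sρ → tρ ; r ∘ ρ : sρ → y
    obtain ⟨r₃, h1, h2⟩ := exists_comp G r ρ hr
    rw [← h2]
    exact h r₃ h1
  · intro h r hr
    -- r : sρ → y, iρ : tρ → sρ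
    obtain ⟨r₃, h1, h2⟩ := exists_comp G r (G.i ρ) (by rw [hr, t_i])
    rw [← h2]
    exact h r₃ (by rw [h1, s_i])

theorem preimage_sat (Z : Set G.U) : G.s ⁻¹' (sat G Z) = G.t ⁻¹' (sat G Z) := by
  ext ρ
  exact s_mem_sat_iff G Z ρ

/-- if the orbit of `u` is in `Z` then the orbit of `u` is in `sat Z`. -/
theorem orbit_subset_sat (Z : Set G.U) (u : G.U) (hu : u ∈ sat G Z) (r : G.R) (hr : G.s r = u) :
    G.t r ∈ sat G Z := by
  rw [← s_mem_sat_iff, hr]
  exact hu

theorem sat_sat (Z : Set G.U) : sat G (sat G Z) = sat G Z := by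
  apply Set.Subset.antisymm (sat_subset G _)
  intro x hx r hr
  exact orbit_subset_sat G Z x hx r hr

end Groth.Agent.Lib.Seat19.GrpdPts
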