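import Mathlib
import Groth.Prelude.Def_Grpd
import Groth.Agent.Lib.Seat19Quot1
import Groth.Agent.Lib.Seat19GrpdPts

/-!
# `U → Spec C` is integral, open, and an epimorphism (helper19)
-/

set_option autoImplicit false
set_option linter.style.haveILetI false
set_option linter.unusedSectionVars false
universe u

open CategoryTheory CategoryTheory.Limits AlgebraicGeometry
open Groth.Agent.Lib.Seat19.RG Groth.Agent.Lib.Seat19.RGofG Groth.Agent.Lib.Seat19.Quot1

namespace Groth.Agent.Lib.Seat19.Quot3

variable {S : Scheme.{u}} (G : Grpd.GroupoidScheme S)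

section
variable [IsAffine G.U] [IsAffine G.R] [IsFinite G.s] [Flat G.s] [LocallyOfFinitePresentation G.s]

instance toQuot_isIntegralHom : IsIntegralHom G.toQuot := by
  unfold Grpd.GroupoidScheme.toQuot
  have : IsIntegralHom (Spec.map (CommRingCat.ofHom G.invariants.subtype)) := by
    rw [IsIntegralHom.SpecMap_iff]
    have hint : Algebra.IsIntegral G.invariants Γ(G.U, ⊤) := (ofGroupoidInt G).isIntegral
    exact algebraMap_isIntegral_iff.mpr hint
  infer_instance

theorem toQuot_isClosedMap : IsClosedMap G.toQuot := G.toQuot.isClosedMap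

theorem toQuot_isQuotientMap : Topology.IsQuotientMap G.toQuot :=
  (toQuot_isClosedMap G).isQuotientMap G.toQuot.continuous (toQuot_surjective G)

theorem toQuot_isOpenMap [Flat G.t] [LocallyOfFinitePresentation G.t] : IsOpenMap G.toQuot := by
  intro O hO
  rw [← (toQuot_isQuotientMap G).isOpen_preimage]
  have : G.toQuot ⁻¹' (G.toQuot '' O) = G.t '' (G.s ⁻¹' O) := by
    ext x
    constructor
    · rintro ⟨y, hy, hxy⟩
      obtain ⟨r, hr1, hr2⟩ := (toQuot_eq_iff G x y).mp hxy.symm
      exact ⟨r, by rw [Set.mem_preimage, hr2]; exact hy, hr1⟩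
    · rintro ⟨r, hr, rfl⟩
      exact ⟨G.s r, hr, (toQuot_eq_iff G _ _).mpr ⟨r, rfl, rfl⟩ |>.symm⟩
  rw [this]
  exact G.t.isOpenMap _ (hO.preimage G.s.continuous)

end

/-- a surjective morphism which is injective on sections over all opens is an epimorphism -/
theorem epi_of_surjective_of_app_injective {X Y : Scheme.{u}} (p : X ⟶ Y)
    (hs : Function.Surjective p) (hi : ∀ V : Y.Opens, Function.Injective (p.app V)) : Epi p := by
  constructor
  intro Z g₁ g₂ h
  have hb : g₁.base = g₂.base := by
    ext y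
    obtain ⟨x, rfl⟩ := hs y
    have := congrArg (fun f : X ⟶ Z => f x) h
    simpa using this
  refine Scheme.Hom.ext hb (fun V => ?_)
  haveI : Mono (p.app (g₂ ⁻¹ᵁ V)) := ConcreteCategory.mono_of_injective _ (hi _)
  rw [← cancel_mono (p.app (g₂ ⁻¹ᵁ V)), Category.assoc, p.naturality, ← Category.assoc,
    ← Scheme.Hom.comp_app, ← Scheme.Hom.comp_app, Scheme.Hom.congr_app h V]
  erw [Category.assoc, ← Functor.map_comp]
  have : ∀ (O : (TopologicalSpace.Opens X)ᵒᵖ) (m : O ⟶ O), X.presheaf.map m = 𝟙 _ := by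
    intro O m
    rw [Subsingleton.elim m (𝟙 O), X.presheaf.map_id]
  erw [this, Category.comp_id]

theorem toQuot_appTop : G.toQuot.appTop =
    (Scheme.ΓSpecIso (CommRingCat.of G.invariants)).hom ≫
      CommRingCat.ofHom G.invariants.subtype := by
  unfold Grpd.GroupoidScheme.toQuot
  rw [Scheme.Hom.comp_appTop, Scheme.toSpecΓ_appTop, Scheme.ΓSpecIso_naturality]

theorem toQuot_appTop_injective : Function.Injective G.toQuot.appTop := by
  rw [toQuot_appTop]
  intro a b hab
  have h1 : Function.Injective (Scheme.ΓSpecIso (CommRingCat.of G.invariants)).hom :=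
    (ConcreteCategory.bijective_of_isIso _).1
  apply h1
  exact Subtype.val_injective hab

instance [IsAffine G.U] : IsSchemeTheoreticallyDominant G.toQuot := by
  constructor
  rw [Scheme.ker_of_isAffine]
  have : RingHom.ker G.toQuot.appTop.hom = ⊥ :=
    (RingHom.injective_iff_ker_eq_bot _).mp (toQuot_appTop_injective G)
  rw [this]
  apply Scheme.IdealSheafData.ext_of_isAffine
  simp

/-- affine targets: the quotient map is a coequalizer with respect to affine schemes -/
theorem exists_desc_of_isAffine (Z : Scheme.{u}) [IsAffine Z] (f : G.U ⟶ Z)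
    (hf : G.s ≫ f = G.t ≫ f) :
    ∃ g : Spec (CommRingCat.of G.invariants) ⟶ Z, G.toQuot ≫ g = f := by
  have hmem : ∀ z : Γ(Z, ⊤), f.appTop.hom z ∈ G.invariants := by
    intro z
    show G.s.appTop.hom (f.appTop.hom z) = G.t.appTop.hom (f.appTop.hom z)
    have h1 := congrArg (fun φ : G.R ⟶ Z => φ.appTop) hf
    simp only [Scheme.Hom.comp_appTop] at h1
    exact congrArg (fun ψ => ψ.hom z) h1
  let φ : Γ(Z, ⊤) ⟶ CommRingCat.of G.invariants :=
    CommRingCat.ofHom (f.appTop.hom.codRestrict G.invariants hmem)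
  have hφ : φ ≫ CommRingCat.ofHom G.invariants.subtype = f.appTop := rfl
  refine ⟨Spec.map φ ≫ Z.isoSpec.inv, ?_⟩
  unfold Grpd.GroupoidScheme.toQuot
  rw [Category.assoc, ← Category.assoc (Spec.map _), ← Spec.map_comp, hφ,
    ← Scheme.toSpecΓ_naturality_assoc, Scheme.toSpecΓ_isoSpec_inv, Category.comp_id]

section
variable [IsAffine G.U] [IsAffine G.R] [IsFinite G.s] [Flat G.s] [LocallyOfFinitePresentation G.s]

instance epi_toQuot : Epi G.toQuot :=
  epi_of_surjective_of_app_injective _ (toQuot_surjective G) (fun V => G.toQuot.app_injective V)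

end

end Groth.Agent.Lib.Seat19.Quot3
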