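import Mathlib
import Groth.Prelude.Def_Grpd
import Groth.Agent.Lib.Seat19LocQ
import Groth.Agent.Lib.Seat19Quot1
import Groth.Agent.Lib.Seat19Quot3

/-!
# Local quotients: properties from the affine theory (helper19)
-/

set_option autoImplicit false
set_option linter.unusedSectionVars false
set_option linter.style.haveILetI false
universe u

open CategoryTheory CategoryTheory.Limits AlgebraicGeometry Opposite
open Groth.Agent.Lib.Seat19.Sub

namespace Groth.Agent.Lib.Seat19.LocQ

variable {S : Scheme.{u}} (G : Grpd.GroupoidScheme S)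
variable (W : G.U.Opens) (hW : IsInv G W)

/-- the restricted groupoid -/
noncomputable abbrev H : Grpd.GroupoidScheme S := restrict G W hW

section instances
variable [IsFinite G.s] [Flat G.s] [LocallyOfFinitePresentation G.s]

theorem isAffine_HU (hWa : IsAffineOpen W) : IsAffine (H G W hW).U := hWa

theorem isAffine_HR (hWa : IsAffineOpen W) : IsAffine (H G W hW).R := hWa.preimage G.s

instance : IsFinite (H G W hW).s := by
  show IsFinite (G.s.resLE W (G.s ⁻¹ᵁ W) le_rfl)
  rw [Scheme.Hom.resLE_eq_morphismRestrict]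
  infer_instance

instance : Flat (H G W hW).s := by
  show Flat (G.s.resLE W (G.s ⁻¹ᵁ W) le_rfl)
  rw [Scheme.Hom.resLE_eq_morphismRestrict]
  infer_instance

instance : LocallyOfFinitePresentation (H G W hW).s := by
  show LocallyOfFinitePresentation (G.s.resLE W (G.s ⁻¹ᵁ W) le_rfl)
  rw [Scheme.Hom.resLE_eq_morphismRestrict]
  infer_instance

end instances

section tinstances
variable [IsFinite G.t] [Flat G.t] [LocallyOfFinitePresentation G.t]

instance : IsFinite (H G W hW).t := by
  show IsFinite (G.t.resLE W (G.s ⁻¹ᵁ W) hW.le)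
  rw [Scheme.Hom.resLE_congr G.t _ rfl hW @IsFinite, Scheme.Hom.resLE_eq_morphismRestrict]
  infer_instance

instance : Flat (H G W hW).t := by
  show Flat (G.t.resLE W (G.s ⁻¹ᵁ W) hW.le)
  rw [Scheme.Hom.resLE_congr G.t _ rfl hW @Flat, Scheme.Hom.resLE_eq_morphismRestrict]
  infer_instance

instance : LocallyOfFinitePresentation (H G W hW).t := by
  show LocallyOfFinitePresentation (G.t.resLE W (G.s ⁻¹ᵁ W) hW.le)
  rw [Scheme.Hom.resLE_congr G.t _ rfl hW @LocallyOfFinitePresentation,
    Scheme.Hom.resLE_eq_morphismRestrict]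
  infer_instance

end tinstances

theorem H_s_appTop : (H G W hW).s.appTop =
    W.topIso.hom ≫ G.s.appLE W (G.s ⁻¹ᵁ W) le_rfl ≫ (G.s ⁻¹ᵁ W).topIso.inv :=
  Scheme.Hom.resLE_app_top _ _

theorem H_t_appTop : (H G W hW).t.appTop =
    W.topIso.hom ≫ G.t.appLE W (G.s ⁻¹ᵁ W) hW.le ≫ (G.s ⁻¹ᵁ W).topIso.inv :=
  Scheme.Hom.resLE_app_top _ _

theorem mem_invariants_iff (a : Γ((W : Scheme.{u}), ⊤)) :
    a ∈ (H G W hW).invariants ↔ W.topIso.hom a ∈ Inv G W hW := by
  show (H G W hW).s.appTop.hom a = (H G W hW).t.appTop.hom a ↔ _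
  have hs : (H G W hW).s.appTop.hom a =
      (G.s ⁻¹ᵁ W).topIso.inv.hom (σ G W (W.topIso.hom.hom a)) := by
    rw [H_s_appTop]
    rfl
  have ht : (H G W hW).t.appTop.hom a =
      (G.s ⁻¹ᵁ W).topIso.inv.hom (τ G W hW (W.topIso.hom.hom a)) := by
    rw [H_t_appTop]
    rfl
  rw [hs, ht, mem_Inv]
  have hinj : Function.Injective (G.s ⁻¹ᵁ W).topIso.inv.hom :=
    (ConcreteCategory.bijective_of_isIso (G.s ⁻¹ᵁ W).topIso.inv).1
  exact hinj.eq_iff

/-- the identification of the invariants of the restricted groupoid with `Inv W` -/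
noncomputable def ψ : Inv G W hW ≃+* (H G W hW).invariants where
  toFun b := ⟨W.topIso.inv b.1, by
    rw [mem_invariants_iff]
    have : W.topIso.hom (W.topIso.inv b.1) = b.1 := by
      rw [← CommRingCat.comp_apply, Iso.inv_hom_id]
      rfl
    rw [this]
    exact b.2⟩
  invFun a := ⟨W.topIso.hom a.1, (mem_invariants_iff G W hW a.1).mp a.2⟩
  left_inv b := by
    apply Subtype.ext
    show W.topIso.hom (W.topIso.inv b.1) = b.1
    rw [← CommRingCat.comp_apply, Iso.inv_hom_id]
    rfl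
  right_inv a := by
    apply Subtype.ext
    show W.topIso.inv (W.topIso.hom a.1) = a.1
    rw [← CommRingCat.comp_apply, Iso.hom_inv_id]
    rfl
  map_mul' x y := Subtype.ext (map_mul W.topIso.inv.hom x.1 y.1)
  map_add' x y := Subtype.ext (map_add W.topIso.inv.hom x.1 y.1)

/-- `p` is the quotient map of the restricted groupoid, up to the identification `ψ`. -/
theorem p_eq : p G W hW = (H G W hW).toQuot ≫
    Spec.map (CommRingCat.ofHom (ψ G W hW).toRingHom) := by
  unfold p Grpd.GroupoidScheme.toQuot Scheme.Opens.toSpecΓ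
  rw [Category.assoc, Category.assoc, ← Spec.map_comp, ← Spec.map_comp]
  rfl

instance : IsIso (Spec.map (CommRingCat.ofHom (ψ G W hW).toRingHom)) := by
  have : IsIso (CommRingCat.ofHom (ψ G W hW).toRingHom) :=
    (ψ G W hW).toCommRingCatIso.isIso_hom
  infer_instance

section props
variable [IsFinite G.s] [Flat G.s] [LocallyOfFinitePresentation G.s] (hWa : IsAffineOpen W)
include hWa

theorem p_surjective : Function.Surjective (p G W hW) := by
  haveI := isAffine_HU G W hW hWa
  haveI := isAffine_HR G W hW hWa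
  rw [p_eq]
  intro y
  obtain ⟨y', rfl⟩ := (Spec.map (CommRingCat.ofHom (ψ G W hW).toRingHom)).homeomorph.surjective y
  obtain ⟨x, rfl⟩ := Quot1.toQuot_surjective (H G W hW) y'
  exact ⟨x, rfl⟩

theorem p_eq_iff (x y : (W : Scheme.{u})) :
    p G W hW x = p G W hW y ↔ ∃ r : G.R, G.t r = x.1 ∧ G.s r = y.1 := by
  haveI := isAffine_HU G W hW hWa
  haveI := isAffine_HR G W hW hWa
  rw [p_eq, Scheme.Hom.comp_apply, Scheme.Hom.comp_apply]
  have hinj : Function.Injective (Spec.map (CommRingCat.ofHom (ψ G W hW).toRingHom)) :=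
    (Spec.map (CommRingCat.ofHom (ψ G W hW).toRingHom)).homeomorph.injective
  rw [hinj.eq_iff, Quot1.toQuot_eq_iff]
  constructor
  · rintro ⟨r, h1, h2⟩
    refine ⟨r.1, ?_, ?_⟩
    · rw [← h1]
      exact (Scheme.Hom.coe_resLE_apply _ _ _).symm
    · rw [← h2]
      exact (Scheme.Hom.coe_resLE_apply _ _ _).symm
  · rintro ⟨r, h1, h2⟩
    have hr : r ∈ G.s ⁻¹ᵁ W := by
      show G.s r ∈ W
      rw [h2]
      exact y.2
    refine ⟨⟨r, hr⟩, Subtype.ext ?_, Subtype.ext ?_⟩
    · rw [← h1]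
      exact Scheme.Hom.coe_resLE_apply _ _ _
    · rw [← h2]
      exact Scheme.Hom.coe_resLE_apply _ _ _

theorem p_isIntegralHom : IsIntegralHom (p G W hW) := by
  haveI := isAffine_HU G W hW hWa
  haveI := isAffine_HR G W hW hWa
  rw [p_eq]
  infer_instance

theorem p_isOpenMap [Flat G.t] [LocallyOfFinitePresentation G.t] : IsOpenMap (p G W hW) := by
  haveI := isAffine_HU G W hW hWa
  haveI := isAffine_HR G W hW hWa
  rw [p_eq]
  exact (Spec.map (CommRingCat.ofHom (ψ G W hW).toRingHom)).homeomorph.isOpenMap.comp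
    (Quot3.toQuot_isOpenMap (H G W hW))

theorem p_epi : Epi (p G W hW) := by
  haveI := isAffine_HU G W hW hWa
  haveI := isAffine_HR G W hW hWa
  rw [p_eq]
  infer_instance

theorem p_desc_affine (Z : Scheme.{u}) [IsAffine Z] (f : (W : Scheme.{u}) ⟶ Z)
    (hf : (H G W hW).s ≫ f = (H G W hW).t ≫ f) : ∃ g : Y G W hW ⟶ Z, p G W hW ≫ g = f := by
  obtain ⟨g, hg⟩ := Quot3.exists_desc_of_isAffine (H G W hW) Z f hf
  refine ⟨inv (Spec.map (CommRingCat.ofHom (ψ G W hW).toRingHom)) ≫ g, ?_⟩
  rw [p_eq, Category.assoc, IsIso.hom_inv_id_assoc, hg]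

end props

end Groth.Agent.Lib.Seat19.LocQ
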