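import Mathlib

/-!
# Equalizers commute with localization away from an invariant element (helper19)
-/

set_option autoImplicit false
set_option linter.style.haveILetI false

namespace Groth.Agent.Lib.Seat19.EqLoc

variable {A A' B B' : Type*} [CommRing A] [CommRing A'] [CommRing B] [CommRing B']
  [Algebra A A'] [Algebra B B']
  (σ τ : A →+* B) (σ' τ' : A' →+* B')
  (hσ : σ'.comp (algebraMap A A') = (algebraMap B B').comp σ)
  (hτ : τ'.comp (algebraMap A A') = (algebraMap B B').comp τ)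

include hσ hτ in
/-- the induced map on equalizers -/
theorem map_mem (a : RingHom.eqLocus σ τ) :
    algebraMap A A' a.1 ∈ RingHom.eqLocus σ' τ' := by
  show σ' (algebraMap A A' a.1) = τ' (algebraMap A A' a.1)
  have h1 := RingHom.congr_fun hσ a.1
  have h2 := RingHom.congr_fun hτ a.1
  simp only [RingHom.comp_apply] at h1 h2
  rw [h1, h2]
  exact congrArg _ a.2

/-- the induced map on equalizers -/
def ρ : RingHom.eqLocus σ τ →+* RingHom.eqLocus σ' τ' :=
  ((algebraMap A A').comp (RingHom.eqLocus σ τ).subtype).codRestrict _ (map_mem σ τ σ' τ' hσ hτ)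

theorem isLocalization_away (c : A) (hc : σ c = τ c)
    [IsLocalization.Away c A'] [IsLocalization.Away (σ c) B'] :
    letI := (ρ σ τ σ' τ' hσ hτ).toAlgebra
    IsLocalization.Away (⟨c, hc⟩ : RingHom.eqLocus σ τ) (RingHom.eqLocus σ' τ') := by
  letI := (ρ σ τ σ' τ' hσ hτ).toAlgebra
  have hσc : ∀ a, σ' (algebraMap A A' a) = algebraMap B B' (σ a) := fun a =>
    RingHom.congr_fun hσ a
  have hτc : ∀ a, τ' (algebraMap A A' a) = algebraMap B B' (τ a) := fun a =>
    RingHom.congr_fun hτ a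
  have hu : IsUnit (algebraMap A A' c) := IsLocalization.Away.algebraMap_isUnit c
  apply IsLocalization.Away.mk
  · -- unit
    obtain ⟨u, hu'⟩ := hu
    have hinv : (↑u⁻¹ : A') ∈ RingHom.eqLocus σ' τ' := by
      show σ' ↑u⁻¹ = τ' ↑u⁻¹
      have e1 : σ' ↑u⁻¹ * σ' (algebraMap A A' c) = 1 := by
        rw [← map_mul, ← hu', Units.inv_mul, map_one]
      have e2 : τ' ↑u⁻¹ * τ' (algebraMap A A' c) = 1 := by
        rw [← map_mul, ← hu', Units.inv_mul, map_one]
      have e3 : σ' (algebraMap A A' c) = τ' (algebraMap A A' c) := by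
        rw [hσc, hτc, hc]
      rw [← e3] at e2
      calc σ' ↑u⁻¹ = σ' ↑u⁻¹ * (τ' ↑u⁻¹ * σ' (algebraMap A A' c)) := by rw [e2, mul_one]
        _ = (σ' ↑u⁻¹ * σ' (algebraMap A A' c)) * τ' ↑u⁻¹ := by ring
        _ = τ' ↑u⁻¹ := by rw [e1, one_mul]
    refine ⟨⟨⟨algebraMap A A' c, map_mem σ τ σ' τ' hσ hτ ⟨c, hc⟩⟩, ⟨↑u⁻¹, hinv⟩, ?_, ?_⟩, rfl⟩
    · apply Subtype.ext
      show algebraMap A A' c * ↑u⁻¹ = 1
      rw [← hu', Units.mul_inv]
    · apply Subtype.ext
      show ↑u⁻¹ * algebraMap A A' c = 1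
      rw [← hu', Units.inv_mul]
  · -- surjectivity
    intro z
    obtain ⟨n, a, hna⟩ := IsLocalization.Away.surj c z.1
    have hz : σ' z.1 = τ' z.1 := z.2
    have e1 : algebraMap B B' (σ a) = algebraMap B B' (τ a) := by
      rw [← hσc, ← hτc, ← hna, map_mul, map_mul, map_pow, map_pow, hz, hσc, hτc, hc]
    obtain ⟨m, hm⟩ := IsLocalization.Away.exists_of_eq (σ c) e1
    have hmem : c ^ m * a ∈ RingHom.eqLocus σ τ := by
      show σ (c ^ m * a) = τ (c ^ m * a)
      rw [map_mul, map_mul, map_pow, map_pow, hm, hc]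
    refine ⟨n + m, ⟨c ^ m * a, hmem⟩, Subtype.ext ?_⟩
    show z.1 * (algebraMap A A' c) ^ (n + m) = algebraMap A A' (c ^ m * a)
    rw [pow_add, ← mul_assoc, hna, map_mul, map_pow, mul_comm]
  · -- injectivity up to powers
    intro x y hxy
    have h1 : algebraMap A A' x.1 = algebraMap A A' y.1 := congrArg Subtype.val hxy
    obtain ⟨n, hn⟩ := IsLocalization.Away.exists_of_eq c h1
    exact ⟨n, Subtype.ext hn⟩

end Groth.Agent.Lib.Seat19.EqLoc
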