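import Mathlib
import Groth.Prelude.Def_Grpd
import Groth.Agent.Lib.Seat19NormCrit
import Groth.Agent.Lib.Seat19GrpdPts

/-!
# Invariant affine open neighbourhoods in a finite locally free groupoid (helper19)
-/

set_option autoImplicit false
set_option linter.style.haveILetI false
universe u

open CategoryTheory CategoryTheory.Limits AlgebraicGeometry Polynomial
open Groth.Agent.Lib.Helper2.RetCharpoly

namespace Groth.Agent.Lib.Seat19.InvOpen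

/-- A finite set of points of an affine open `V`, contained in an open `Z`, lies in a basic open
`D(f) ⊆ Z` with `f ∈ Γ(V)`. -/
theorem exists_basicOpen_finite {X : Scheme.{u}} {V : X.Opens} (hV : IsAffineOpen V) (Z : X.Opens)
    (T : Set X) (hT : T.Finite) (hTV : T ⊆ V) (hTZ : T ⊆ Z) :
    ∃ f : Γ(X, V), X.basicOpen f ≤ Z ∧ T ⊆ X.basicOpen f := by
  classical
  rcases T.eq_empty_or_nonempty with hTe | ⟨x₀, hx₀⟩
  · refine ⟨0, ?_, ?_⟩
    · rw [Scheme.basicOpen_zero]; exact bot_le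
    · rw [hTe]; exact Set.empty_subset _
  set Z' : (Spec Γ(X, V)).Opens := hV.fromSpec ⁻¹ᵁ Z with hZ'
  have hcl : IsClosed ((Z' : Set (Spec Γ(X, V)))ᶜ) := Z'.2.isClosed_compl
  obtain ⟨I, hI⟩ := (PrimeSpectrum.isClosed_iff_zeroLocus_ideal _).mp hcl
  have hinj : Function.Injective hV.fromSpec := hV.fromSpec.isOpenEmbedding.injective
  set T' : Set (PrimeSpectrum Γ(X, V)) := hV.fromSpec ⁻¹' T with hT'
  have hT'fin : T'.Finite := hT.preimage hinj.injOn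
  have hT'Z : ∀ p ∈ T', ¬ ((I : Set Γ(X, V)) ⊆ p.asIdeal) := by
    intro p hp hIp
    have h1 : p ∈ PrimeSpectrum.zeroLocus (I : Set Γ(X, V)) := (PrimeSpectrum.mem_zeroLocus _ _).mpr hIp
    rw [← hI] at h1
    exact h1 (hTZ hp)
  have hnot : ¬ ((I : Set Γ(X, V)) ⊆ ⋃ p ∈ (↑hT'fin.toFinset : Set (PrimeSpectrum Γ(X, V))),
      (p.asIdeal : Set Γ(X, V))) := by
    intro hsub
    obtain ⟨p, hp, hle⟩ := (Ideal.subset_union_prime (f := fun p : PrimeSpectrum Γ(X, V) => p.asIdeal)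
      (hV.primeIdealOf ⟨x₀, hTV hx₀⟩) (hV.primeIdealOf ⟨x₀, hTV hx₀⟩)
      (fun p _ _ _ => p.isPrime)).mp hsub
    exact hT'Z p ((Set.Finite.mem_toFinset _).mp hp) hle
  obtain ⟨f, hfI, hfT⟩ := Set.not_subset.mp hnot
  refine ⟨f, ?_, ?_⟩
  · rw [← hV.fromSpec_image_basicOpen]
    rintro _ ⟨p, hp, rfl⟩
    by_contra hpZ
    have h1 : p ∈ ((Z' : Set (Spec Γ(X, V)))ᶜ) := hpZ
    rw [hI] at h1
    exact hp (((PrimeSpectrum.mem_zeroLocus _ _).mp h1) hfI)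
  · intro x hx
    rw [← hV.fromSpec_image_basicOpen]
    refine ⟨hV.primeIdealOf ⟨x, hTV hx⟩, ?_, hV.fromSpec_primeIdealOf ⟨x, hTV hx⟩⟩
    intro hmem
    apply hfT
    simp only [Set.mem_iUnion]
    refine ⟨hV.primeIdealOf ⟨x, hTV hx⟩, ?_, hmem⟩
    rw [Finset.mem_coe, Set.Finite.mem_toFinset]
    show hV.fromSpec (hV.primeIdealOf ⟨x, hTV hx⟩) ∈ T
    rw [hV.fromSpec_primeIdealOf]
    exact hx

theorem toSpecΓ_apply_map {X Y : Scheme.{u}} (φ : Y ⟶ X) (y : Y) :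
    X.toSpecΓ (φ y) = PrimeSpectrum.comap φ.appTop.hom (Y.toSpecΓ y) := by
  rw [← Scheme.Hom.comp_apply, Scheme.toSpecΓ_naturality, Scheme.Hom.comp_apply, Spec.map_apply]

theorem mem_basicOpen_iff_toSpecΓ {X : Scheme.{u}} (N : Γ(X, ⊤)) (x : X) :
    x ∈ X.basicOpen N ↔ N ∉ (X.toSpecΓ x).asIdeal := by
  rw [← Scheme.toSpecΓ_preimage_basicOpen]
  rfl

theorem exists_norm_affine {X Y : Scheme.{u}} [IsAffine X] [IsAffine Y] (φ : Y ⟶ X) [IsFinite φ]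
    [Flat φ] [LocallyOfFinitePresentation φ] (g : Γ(Y, ⊤)) :
    ∃ N : Γ(X, ⊤), ∀ x : X, x ∈ X.basicOpen N ↔ ∀ y : Y, φ y = x → y ∈ Y.basicOpen g := by
  letI := φ.appTop.hom.toAlgebra
  have hfin : Module.Finite Γ(X, ⊤) Γ(Y, ⊤) := φ.finite_appTop
  have hflat : Module.Flat Γ(X, ⊤) Γ(Y, ⊤) := φ.flat_appTop
  have hfp : Algebra.FinitePresentation Γ(X, ⊤) Γ(Y, ⊤) := φ.finitePresentation_appTop
  have : Module.FinitePresentation Γ(X, ⊤) Γ(Y, ⊤) :=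
    Module.FinitePresentation.of_finite_of_finitePresentation _ _
  have hproj : Module.Projective Γ(X, ⊤) Γ(Y, ⊤) := Module.Flat.projective_of_finitePresentation
  obtain ⟨n, hn⟩ := exists_isRCP Γ(X, ⊤) Γ(Y, ⊤)
  obtain ⟨χ, hχ⟩ := hn (g - 1)
  refine ⟨χ.eval (-1), fun x => ?_⟩
  rw [mem_basicOpen_iff_toSpecΓ]
  haveI := (X.toSpecΓ x).isPrime
  rw [Groth.Agent.Lib.Seat19.NormCrit.eval_mem_iff g χ hχ (X.toSpecΓ x).asIdeal]
  constructor
  · intro h y hy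
    by_contra hyg
    apply h
    rw [mem_basicOpen_iff_toSpecΓ, not_not] at hyg
    refine ⟨(Y.toSpecΓ y).asIdeal, (Y.toSpecΓ y).isPrime, ?_, hyg⟩
    rw [← hy, toSpecΓ_apply_map]
    rfl
  · rintro h ⟨q, hq, hqx, hgq⟩
    obtain ⟨y, hy⟩ := Y.toSpecΓ.homeomorph.surjective (⟨q, hq⟩ : PrimeSpectrum Γ(Y, ⊤))
    rw [Scheme.Hom.homeomorph_apply] at hy
    have hyx : φ y = x := by
      apply X.toSpecΓ.homeomorph.injective
      rw [Scheme.Hom.homeomorph_apply, Scheme.Hom.homeomorph_apply, toSpecΓ_apply_map, hy]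
      exact PrimeSpectrum.ext hqx
    have := h y hyx
    rw [mem_basicOpen_iff_toSpecΓ, hy] at this
    exact this hgq

open Groth.Agent.Lib.Seat19.GrpdPts

variable {S : Scheme.{u}} (G : Grpd.GroupoidScheme S)

theorem exists_invariant_affine_open [IsFinite G.s] [Flat G.s] [LocallyOfFinitePresentation G.s]
    (u : G.U) (V : G.U.Opens) (hV : IsAffineOpen V) (huV : ∀ r : G.R, G.s r = u → G.t r ∈ V) :
    ∃ W : G.U.Opens, IsAffineOpen W ∧ u ∈ W ∧ G.s ⁻¹ᵁ W = G.t ⁻¹ᵁ W := by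
  -- the saturated interior of V
  let W' : G.U.Opens := ⟨sat G V, isOpen_sat G V.2⟩
  have huW' : u ∈ sat G (V : Set G.U) := huV
  -- the orbit of u
  set O : Set G.U := G.t '' (G.s ⁻¹' {u}) with hO
  have hOfin : O.Finite := (G.s.finite_preimage_singleton u).image _
  have hOW' : O ⊆ W' := by
    rintro _ ⟨r, hr, rfl⟩
    exact orbit_subset_sat G V u huW' r hr
  have hOV : O ⊆ V := fun x hx => sat_subset G V (hOW' hx)
  obtain ⟨f, hfW', hOf⟩ := exists_basicOpen_finite hV W' O hOfin hOV hOW'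
  set V₁ : G.U.Opens := G.U.basicOpen f with hV₁def
  have hV₁ : IsAffineOpen V₁ := hV.basicOpen f
  set R₁ : G.R.Opens := G.s ⁻¹ᵁ V₁ with hR₁def
  have hR₁ : IsAffineOpen R₁ := hV₁.preimage G.s
  haveI : IsAffine V₁.toScheme := hV₁
  haveI : IsAffine R₁.toScheme := hR₁
  have hR : R₁ ≤ G.t ⁻¹ᵁ V := by
    intro ρ hρ
    have h1 : G.s ρ ∈ sat G (V : Set G.U) := hfW' hρ
    exact h1 ρ rfl
  let g₀ : Γ(G.R, G.t ⁻¹ᵁ V) := G.t.app V f
  let g' : Γ(G.R, R₁) := G.R.presheaf.map (homOfLE hR).op g₀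
  have hg' : ∀ ρ : G.R, ρ ∈ G.R.basicOpen g' ↔ ρ ∈ R₁ ∧ G.t ρ ∈ V₁ := by
    intro ρ
    have h1 : G.R.basicOpen g' = R₁ ⊓ G.R.basicOpen g₀ := Scheme.basicOpen_res _ _ _
    have h2 : G.R.basicOpen g₀ = G.t ⁻¹ᵁ V₁ := (Scheme.preimage_basicOpen G.t f).symm
    rw [h1, h2]
    rfl
  let g₁ : Γ(R₁.toScheme, ⊤) := R₁.topIso.inv g'
  have hg₁ : ∀ y : R₁.toScheme, y ∈ R₁.toScheme.basicOpen g₁ ↔ G.t y.1 ∈ V₁ := by
    intro y
    have h1 : R₁.ι ''ᵁ R₁.toScheme.basicOpen g₁ = G.R.basicOpen g' :=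
      Scheme.Opens.ι_image_basicOpen_topIso_inv R₁ g'
    have h2 : y ∈ R₁.toScheme.basicOpen g₁ ↔ y.1 ∈ G.R.basicOpen g' := by
      rw [← h1]
      constructor
      · intro hy
        exact ⟨y, hy, rfl⟩
      · rintro ⟨y', hy', hyy'⟩
        have : y' = y := Subtype.ext hyy'
        rwa [← this]
    rw [h2, hg']
    exact ⟨fun h => h.2, fun h => ⟨y.2, h⟩⟩
  obtain ⟨N₁, hN₁⟩ := exists_norm_affine (G.s ∣_ V₁) g₁
  let N : Γ(G.U, V₁) := V₁.topIso.hom N₁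
  have hNN₁ : N₁ = V₁.topIso.inv N :=
    (Iso.hom_inv_id_apply (C := CommRingCat) V₁.topIso N₁).symm
  let W : G.U.Opens := G.U.basicOpen N
  have hWV₁ : W ≤ V₁ := Scheme.basicOpen_le _ _
  have hWmem : ∀ x : V₁.toScheme, x.1 ∈ W ↔ x ∈ V₁.toScheme.basicOpen N₁ := by
    intro x
    have h1 : V₁.ι ''ᵁ V₁.toScheme.basicOpen (V₁.topIso.inv N) = G.U.basicOpen N :=
      Scheme.Opens.ι_image_basicOpen_topIso_inv V₁ N
    rw [hNN₁]
    show x.1 ∈ G.U.basicOpen N ↔ _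
    rw [← h1]
    constructor
    · rintro ⟨x', hx', hxx'⟩
      have : x' = x := Subtype.ext hxx'
      rwa [← this]
    · intro hx
      exact ⟨x, hx, rfl⟩
  have hWsat : (W : Set G.U) = sat G (V₁ : Set G.U) := by
    ext x
    constructor
    · intro hx r hr
      have hxV₁ : x ∈ V₁ := hWV₁ hx
      have h1 := (hN₁ ⟨x, hxV₁⟩).mp ((hWmem ⟨x, hxV₁⟩).mp hx)
      have hrR₁ : r ∈ R₁ := by
        show G.s r ∈ V₁
        rw [hr]; exact hxV₁
      let y : R₁.toScheme := ⟨r, hrR₁⟩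
      have h2 := h1 y (Subtype.ext ((morphismRestrict_base_coe G.s V₁ y).trans hr))
      exact (hg₁ y).mp h2
    · intro hx
      have hxV₁ : x ∈ V₁ := sat_subset G _ hx
      apply (hWmem ⟨x, hxV₁⟩).mpr
      apply (hN₁ ⟨x, hxV₁⟩).mpr
      intro y hy
      apply (hg₁ y).mpr
      apply hx y.1
      have := congrArg Subtype.val hy
      exact (morphismRestrict_base_coe G.s V₁ y).symm.trans this
  refine ⟨W, hV₁.basicOpen N, ?_, ?_⟩
  · show u ∈ (W : Set G.U)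
    rw [hWsat]
    intro r hr
    exact hOf ⟨r, hr, rfl⟩
  · ext ρ
    show G.s ρ ∈ (W : Set G.U) ↔ G.t ρ ∈ (W : Set G.U)
    rw [hWsat]
    exact s_mem_sat_iff G _ ρ

end Groth.Agent.Lib.Seat19.InvOpen
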