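import Mathlib
import Groth.Prelude.Def_Grpd
import Groth.Agent.Lib.Seat19LocQ
import Groth.Agent.Lib.Seat19EqLoc
import Groth.Agent.Lib.Seat19InvOpen

/-!
# Local quotients: basic opens of invariant functions (helper19)
-/

set_option autoImplicit false
set_option linter.unusedSectionVars false
set_option linter.style.haveILetI false
universe u

open CategoryTheory CategoryTheory.Limits AlgebraicGeometry Opposite

namespace Groth.Agent.Lib.Seat19.LocQ

variable {S : Scheme.{u}} (G : Grpd.GroupoidScheme S)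
variable (W : G.U.Opens) (hW : IsInv G W) (c : Inv G W hW)

/-- the basic open of an invariant function -/
noncomputable abbrev D : G.U.Opens := G.U.basicOpen c.1

theorem D_le : D G W hW c ≤ W := G.U.basicOpen_le _

theorem preimage_s_D : G.s ⁻¹ᵁ (D G W hW c) = G.R.basicOpen (σ G W c.1) := by
  unfold σ Scheme.Hom.appLE
  rw [CommRingCat.hom_comp, RingHom.comp_apply]
  erw [Scheme.basicOpen_res]
  rw [← Scheme.preimage_basicOpen]
  exact (inf_eq_right.mpr (preimage_le G (D_le G W hW c))).symm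

theorem preimage_t_D : G.t ⁻¹ᵁ (D G W hW c) = G.R.basicOpen (τ G W hW c.1) := by
  unfold τ Scheme.Hom.appLE
  rw [CommRingCat.hom_comp, RingHom.comp_apply]
  erw [Scheme.basicOpen_res]
  rw [← Scheme.preimage_basicOpen, hW]
  refine (inf_eq_right.mpr ?_).symm
  intro x hx
  exact D_le G W hW c hx

theorem D_inv : IsInv G (D G W hW c) := by
  show G.s ⁻¹ᵁ _ = G.t ⁻¹ᵁ _
  rw [preimage_s_D, preimage_t_D]
  congr 1
  exact c.2

theorem p_apply (x : (W : Scheme.{u})) :
    p G W hW x = PrimeSpectrum.comap (Inv G W hW).subtype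
      (PrimeSpectrum.comap W.topIso.inv.hom ((W : Scheme.{u}).toSpecΓ x)) := by
  unfold p Scheme.Opens.toSpecΓ
  rw [Scheme.Hom.comp_apply, Scheme.Hom.comp_apply]
  rfl

theorem mem_D_iff (x : (W : Scheme.{u})) :
    x.1 ∈ D G W hW c ↔ c ∉ (p G W hW x).asIdeal := by
  rw [p_apply]
  have h1 : x.1 ∈ D G W hW c ↔ x ∈ (W : Scheme.{u}).basicOpen (W.topIso.inv c.1) := by
    have := Scheme.Opens.ι_image_basicOpen_topIso_inv (U := W) c.1
    show x.1 ∈ G.U.basicOpen c.1 ↔ _
    rw [← this]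
    exact Scheme.Opens.mem_ι_image_iff (U := W)
  rw [h1, Groth.Agent.Lib.Seat19.InvOpen.mem_basicOpen_iff_toSpecΓ]
  rfl

section loc
variable (hWa : IsAffineOpen W) [IsAffineHom G.s]
include hWa

theorem isLocalization_D :
    letI := (ρ G hW (D_inv G W hW c) (D_le G W hW c)).toAlgebra
    IsLocalization.Away c (Inv G (D G W hW c) (D_inv G W hW c)) := by
  letI algA : Algebra Γ(G.U, W) Γ(G.U, D G W hW c) :=
    (G.U.presheaf.map (homOfLE (D_le G W hW c)).op).hom.toAlgebra
  letI algB : Algebra Γ(G.R, G.s ⁻¹ᵁ W) Γ(G.R, G.s ⁻¹ᵁ (D G W hW c)) :=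
    (G.R.presheaf.map (homOfLE (preimage_le G (D_le G W hW c))).op).hom.toAlgebra
  haveI : IsLocalization.Away c.1 Γ(G.U, D G W hW c) := hWa.isLocalization_basicOpen c.1
  haveI : IsLocalization.Away (σ G W c.1) Γ(G.R, G.s ⁻¹ᵁ (D G W hW c)) :=
    (hWa.preimage G.s).isLocalization_of_eq_basicOpen (σ G W c.1)
      (homOfLE (preimage_le G (D_le G W hW c))) (preimage_s_D G W hW c)
  have hσ : (σ G (D G W hW c)).comp (algebraMap Γ(G.U, W) Γ(G.U, D G W hW c)) =
      (algebraMap Γ(G.R, G.s ⁻¹ᵁ W) Γ(G.R, G.s ⁻¹ᵁ (D G W hW c))).comp (σ G W) :=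
    RingHom.ext fun a => σ_res G (D_le G W hW c) a
  have hτ : (τ G (D G W hW c) (D_inv G W hW c)).comp
      (algebraMap Γ(G.U, W) Γ(G.U, D G W hW c)) =
      (algebraMap Γ(G.R, G.s ⁻¹ᵁ W) Γ(G.R, G.s ⁻¹ᵁ (D G W hW c))).comp (τ G W hW) :=
    RingHom.ext fun a => τ_res G hW (D_inv G W hW c) (D_le G W hW c) a
  exact EqLoc.isLocalization_away (σ G W) (τ G W hW) (σ G (D G W hW c))
    (τ G (D G W hW c) (D_inv G W hW c)) hσ hτ c.1 c.2

theorem φ_D_isOpenImmersion :
    IsOpenImmersion (φ G hW (D_inv G W hW c) (D_le G W hW c)) := by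
  letI := (ρ G hW (D_inv G W hW c) (D_le G W hW c)).toAlgebra
  haveI := isLocalization_D G W hW c hWa
  exact IsOpenImmersion.of_isLocalization c

theorem φ_D_range :
    Set.range (φ G hW (D_inv G W hW c) (D_le G W hW c)) =
      (PrimeSpectrum.basicOpen c : Set (PrimeSpectrum (Inv G W hW))) := by
  letI := (ρ G hW (D_inv G W hW c) (D_le G W hW c)).toAlgebra
  haveI := isLocalization_D G W hW c hWa
  exact PrimeSpectrum.localization_away_comap_range _ c

end loc

end Groth.Agent.Lib.Seat19.LocQ
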