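import Mathlib
import Groth.Prelude.Def_Grpd
import Groth.Agent.Lib.Seat19LocQ2
import Groth.Agent.Lib.Seat19LocQ3

/-!
# Local quotients: transition maps are open immersions (helper19)
-/

set_option autoImplicit false
set_option linter.unusedSectionVars false
set_option linter.style.haveILetI false
universe u

open CategoryTheory CategoryTheory.Limits AlgebraicGeometry Opposite

namespace Groth.Agent.Lib.Seat19.LocQ

variable {S : Scheme.{u}} (G : Grpd.GroupoidScheme S)

theorem isInv_inf {W₁ W₂ : G.U.Opens} (h₁ : IsInv G W₁) (h₂ : IsInv G W₂) : IsInv G (W₁ ⊓ W₂) := by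
  show G.s ⁻¹ᵁ (W₁ ⊓ W₂) = G.t ⁻¹ᵁ (W₁ ⊓ W₂)
  rw [Scheme.Hom.preimage_inf, Scheme.Hom.preimage_inf, h₁, h₂]

section
variable [IsFinite G.s] [Flat G.s] [LocallyOfFinitePresentation G.s]
  [Flat G.t] [LocallyOfFinitePresentation G.t]
variable (W : G.U.Opens) (hW : IsInv G W) (hWa : IsAffineOpen W)
include hWa

/-- invariant basic opens form a basis of the invariant opens inside an invariant affine open -/
theorem exists_D_le (O : G.U.Opens) (hO : IsInv G O) (hOW : O ≤ W) (x : G.U) (hx : x ∈ O) :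
    ∃ c : Inv G W hW, x ∈ D G W hW c ∧ D G W hW c ≤ O := by
  let O' : Set (W : Scheme.{u}) := {y | y.1 ∈ O}
  have hO' : IsOpen O' := O.isOpen.preimage continuous_subtype_val
  have hV : IsOpen (p G W hW '' O') := p_isOpenMap G W hW hWa _ hO'
  let x' : (W : Scheme.{u}) := ⟨x, hOW hx⟩
  have hxV : p G W hW x' ∈ p G W hW '' O' := ⟨x', hx, rfl⟩
  obtain ⟨_, ⟨c, rfl⟩, hxc, hcV⟩ :=
    PrimeSpectrum.isTopologicalBasis_basic_opens.exists_subset_of_mem_open hxV hV
  refine ⟨c, ?_, ?_⟩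
  · exact (mem_D_iff G W hW c x').mpr hxc
  · intro y hy
    let y' : (W : Scheme.{u}) := ⟨y, D_le G W hW c hy⟩
    have hyc : p G W hW y' ∈ (PrimeSpectrum.basicOpen c : Set (PrimeSpectrum _)) :=
      (mem_D_iff G W hW c y').mp hy
    obtain ⟨z, hz, hzy⟩ := hcV hyc
    obtain ⟨r, hr1, hr2⟩ := (p_eq_iff G W hW hWa z y').mp hzy
    have h1 : r ∈ G.t ⁻¹ᵁ O := by
      show G.t r ∈ O
      rw [hr1]
      exact hz
    rw [← hO] at h1
    have h2 : G.s r ∈ O := h1
    rw [hr2] at h2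
    exact h2

end

section
variable {W O : G.U.Opens} (hW : IsInv G W) (hO : IsInv G O) (h : O ≤ W) (c : Inv G W hW)

theorem D_res_eq (hc : D G W hW c ≤ O) : D G O hO (ρ G hW hO h c) = D G W hW c := by
  show G.U.basicOpen (ρ G hW hO h c).1 = G.U.basicOpen c.1
  rw [ρ_coe]
  erw [Scheme.basicOpen_res]
  exact inf_eq_right.mpr hc

end

section
variable [IsAffineHom G.s]
variable {W : G.U.Opens} (hW : IsInv G W) (hWa : IsAffineOpen W) (c : Inv G W hW)
include hWa

theorem φ_isOpenImmersion_of_eq (O' : G.U.Opens) (hO' : IsInv G O') (e : O' = D G W hW c) :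
    IsOpenImmersion (φ G hW hO' (e.le.trans (D_le G W hW c))) := by
  subst e
  exact φ_D_isOpenImmersion G W hW c hWa

theorem φ_range_of_eq (O' : G.U.Opens) (hO' : IsInv G O') (e : O' = D G W hW c) :
    Set.range (φ G hW hO' (e.le.trans (D_le G W hW c))) =
      (PrimeSpectrum.basicOpen c : Set (PrimeSpectrum (Inv G W hW))) := by
  subst e
  exact φ_D_range G W hW c hWa

end

section
variable [IsFinite G.s] [Flat G.s] [LocallyOfFinitePresentation G.s]
  [Flat G.t] [LocallyOfFinitePresentation G.t]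
variable {W O : G.U.Opens} (hW : IsInv G W) (hO : IsInv G O) (h : O ≤ W)
  (hWa : IsAffineOpen W) (hOa : IsAffineOpen O)
include hWa hOa

theorem φ_apply_p (x : (O : Scheme.{u})) :
    φ G hW hO h (p G O hO x) = p G W hW ⟨x.1, h x.2⟩ := by
  rw [← Scheme.Hom.comp_apply, p_φ, Scheme.Hom.comp_apply]
  congr 1
  apply Subtype.ext
  exact Scheme.homOfLE_apply _ _

theorem φ_injective : Function.Injective (φ G hW hO h) := by
  intro y₁ y₂ hy
  obtain ⟨x₁, rfl⟩ := p_surjective G O hO hOa y₁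
  obtain ⟨x₂, rfl⟩ := p_surjective G O hO hOa y₂
  rw [φ_apply_p G hW hO h hWa hOa, φ_apply_p G hW hO h hWa hOa] at hy
  obtain ⟨r, hr1, hr2⟩ := (p_eq_iff G W hW hWa _ _).mp hy
  exact (p_eq_iff G O hO hOa _ _).mpr ⟨r, hr1, hr2⟩

theorem φ_isOpenImmersion : IsOpenImmersion (φ G hW hO h) := by
  apply IsOpenImmersion.of_forall_source_exists _ (φ_injective G hW hO h hWa hOa)
  intro y
  obtain ⟨x, rfl⟩ := p_surjective G O hO hOa y
  obtain ⟨c, hxc, hcO⟩ := exists_D_le G W hW hWa O hO h x.1 x.2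
  have e : D G W hW c = D G O hO (ρ G hW hO h c) := (D_res_eq G hW hO h c hcO).symm
  have hD := D_inv G W hW c
  refine ⟨Y G (D G W hW c) hD, φ G hO hD (e.le.trans (D_le G O hO _)), ?_, ?_, ?_⟩
  · exact φ_isOpenImmersion_of_eq G hO hOa (ρ G hW hO h c) _ hD e
  · show p G O hO x ∈ Set.range _
    rw [φ_range_of_eq G hO hOa (ρ G hW hO h c) _ hD e]
    refine (mem_D_iff G O hO _ x).mp ?_
    rw [D_res_eq G hW hO h c hcO]
    exact hxc
  · rw [φ_comp]
    exact φ_D_isOpenImmersion G W hW c hWa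

end

end Groth.Agent.Lib.Seat19.LocQ
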