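import Mathlib
import Groth.Prelude.Def_Grpd
import Groth.Agent.Lib.Seat19LocQ4

/-!
# Gluing the local quotients of a finite locally free groupoid (helper19)
-/

set_option autoImplicit false
set_option linter.unusedSectionVars false
set_option linter.style.haveILetI false
universe u

open CategoryTheory CategoryTheory.Limits AlgebraicGeometry Opposite
open Groth.Agent.Lib.Seat19.LocQ

namespace Groth.Agent.Lib.Seat19.Glue

variable {S : Scheme.{u}} (G : Grpd.GroupoidScheme S)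

/-- invariant affine opens of `U` -/
structure IA where
  W : G.U.Opens
  inv : IsInv G W
  aff : IsAffineOpen W

instance : Preorder (IA G) := Preorder.lift (IA.W (G := G))

variable {G} in
theorem IA.le_def {i j : IA G} : i ≤ j ↔ i.W ≤ j.W := Iff.rfl

section
variable [IsFinite G.s] [Flat G.s] [LocallyOfFinitePresentation G.s]
  [Flat G.t] [LocallyOfFinitePresentation G.t]

/-- the diagram of local quotients -/
noncomputable def F : IA G ⥤ Scheme.{u} where
  obj i := Y G i.W i.inv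
  map {i j} f := φ G j.inv i.inv (leOfHom f)
  map_id i := φ_id G i.inv
  map_comp {i j k} f g := (φ_comp G k.inv j.inv i.inv (leOfHom g) (leOfHom f)).symm

instance {i j : IA G} (f : i ⟶ j) : IsOpenImmersion ((F G).map f) :=
  φ_isOpenImmersion G j.inv i.inv (leOfHom f) j.aff i.aff

variable {G} in
/-- the basic open of an invariant function as an element of `IA` -/
noncomputable def IA.basic (j : IA G) (c : Inv G j.W j.inv) : IA G where
  W := D G j.W j.inv c
  inv := D_inv G j.W j.inv c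
  aff := j.aff.basicOpen c.1

variable {G} in
theorem IA.basic_le (j : IA G) (c : Inv G j.W j.inv) : j.basic c ≤ j := D_le G j.W j.inv c

/-- refinement: a point in two invariant affine opens lies in a smaller one -/
theorem exists_le_le (i j : IA G) (x : G.U) (hi : x ∈ i.W) (hj : x ∈ j.W) :
    ∃ l : IA G, l ≤ i ∧ l ≤ j ∧ x ∈ l.W := by
  obtain ⟨c, hxc, hc⟩ := exists_D_le G j.W j.inv j.aff (i.W ⊓ j.W) (isInv_inf G i.inv j.inv)
    inf_le_right x ⟨hi, hj⟩
  exact ⟨j.basic c, hc.trans inf_le_left, hc.trans inf_le_right, hxc⟩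

theorem F_map_p {i j : IA G} (f : i ⟶ j) (x : (i.W : Scheme.{u})) :
    (F G).map f (p G i.W i.inv x) = p G j.W j.inv ⟨x.1, leOfHom f x.2⟩ :=
  φ_apply_p G j.inv i.inv (leOfHom f) j.aff i.aff x

instance : ((F G) ⋙ Scheme.forget).IsLocallyDirected where
  cond := by
    intro i j k fi fj xi xj hx
    obtain ⟨a, rfl⟩ := p_surjective G i.W i.inv i.aff xi
    obtain ⟨b, rfl⟩ := p_surjective G j.W j.inv j.aff xj
    have hx' : (F G).map fi (p G i.W i.inv a) = (F G).map fj (p G j.W j.inv b) := hx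
    rw [F_map_p, F_map_p] at hx'
    obtain ⟨r, hr1, hr2⟩ := (p_eq_iff G k.W k.inv k.aff _ _).mp hx'
    have hbi : b.1 ∈ i.W := by
      have h1 : r ∈ G.t ⁻¹ᵁ i.W := by
        show G.t r ∈ i.W
        rw [hr1]
        exact a.2
      rw [← i.inv] at h1
      have h2 : G.s r ∈ i.W := h1
      rwa [hr2] at h2
    obtain ⟨l, hli, hlj, hbl⟩ := exists_le_le G i j b.1 hbi b.2
    refine ⟨l, homOfLE hli, homOfLE hlj, p G l.W l.inv ⟨b.1, hbl⟩, ?_, ?_⟩
    · show (F G).map (homOfLE hli) (p G l.W l.inv ⟨b.1, hbl⟩) = p G i.W i.inv a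
      refine (F_map_p G (homOfLE hli) ⟨b.1, hbl⟩).trans ?_
      exact ((p_eq_iff G i.W i.inv i.aff _ _).mpr ⟨r, hr1, hr2⟩).symm
    · show (F G).map (homOfLE hlj) (p G l.W l.inv ⟨b.1, hbl⟩) = p G j.W j.inv b
      exact F_map_p G (homOfLE hlj) ⟨b.1, hbl⟩

/-- the glued quotient -/
noncomputable abbrev Yg : Scheme.{u} := colimit (F G)

/-- the charts of the glued quotient -/
noncomputable abbrev ι (i : IA G) : Y G i.W i.inv ⟶ Yg G := colimit.ι (F G) i

instance (i : IA G) : IsOpenImmersion (ι G i) :=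
  inferInstanceAs (IsOpenImmersion (colimit.ι (F G) i))

theorem ι_w {i j : IA G} (h : i ≤ j) : φ G j.inv i.inv h ≫ ι G j = ι G i :=
  colimit.w (F G) (homOfLE h)

theorem ι_jointly_surjective (y : Yg G) : ∃ (i : IA G) (z : Y G i.W i.inv), ι G i z = y :=
  Scheme.IsLocallyDirected.ι_jointly_surjective (F G) y

section cover
variable (hcov : ∀ x : G.U, ∃ i : IA G, x ∈ i.W)

/-- the cover of `U` by invariant affine opens -/
@[simps I₀ X f]
noncomputable def cover : G.U.OpenCover where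
  I₀ := IA G
  X i := i.W
  f i := i.W.ι
  mem₀ := by
    rw [Scheme.presieve₀_mem_precoverage_iff]
    refine ⟨fun x ↦ ?_, inferInstance⟩
    obtain ⟨i, hi⟩ := hcov x
    use i
    simpa

instance : Preorder (cover G hcov).I₀ := inferInstanceAs (Preorder (IA G))

theorem cover_directed (i j : IA G) (x : ↑(pullback i.W.ι j.W.ι)) :
    ∃ (l : IA G) (hli : l ≤ i) (hlj : l ≤ j) (y : (l.W : Scheme.{u})),
      pullback.lift (G.U.homOfLE (IA.le_def.mp hli)) (G.U.homOfLE (IA.le_def.mp hlj))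
        (by simp) y = x := by
  let u : G.U := (pullback.fst i.W.ι j.W.ι ≫ i.W.ι) x
  have hui : u ∈ i.W := by
    show (pullback.fst i.W.ι j.W.ι ≫ i.W.ι) x ∈ i.W
    rw [Scheme.Hom.comp_apply]
    exact (pullback.fst i.W.ι j.W.ι x).2
  have huj : u ∈ j.W := by
    show (pullback.fst i.W.ι j.W.ι ≫ i.W.ι) x ∈ j.W
    rw [pullback.condition, Scheme.Hom.comp_apply]
    exact (pullback.snd i.W.ι j.W.ι x).2
  obtain ⟨l, hli, hlj, hul⟩ := exists_le_le G i j u hui huj
  let y : (l.W : Scheme.{u}) := ⟨u, hul⟩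
  refine ⟨l, hli, hlj, y, ?_⟩
  apply (pullback.fst i.W.ι j.W.ι ≫ i.W.ι).isOpenEmbedding.injective
  rw [← Scheme.Hom.comp_apply, pullback.lift_fst_assoc, Scheme.homOfLE_ι]
  rfl

noncomputable instance : (cover G hcov).LocallyDirected where
  trans {i j} hij := G.U.homOfLE (leOfHom hij)
  trans_id i := Scheme.homOfLE_rfl _ _
  trans_comp hij hjk := (Scheme.homOfLE_homOfLE _ _ _).symm
  w hij := Scheme.homOfLE_ι _ _
  property_trans hij := inferInstanceAs (IsOpenImmersion (G.U.homOfLE _))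
  directed {i j} x := by
    obtain ⟨l, hli, hlj, y, hy⟩ := cover_directed G i j x
    exact ⟨l, homOfLE hli, homOfLE hlj, y, hy⟩


theorem compat (i j : IA G) (h : i ≤ j) :
    G.U.homOfLE (IA.le_def.mp h) ≫ p G j.W j.inv ≫ ι G j = p G i.W i.inv ≫ ι G i := by
  rw [← Category.assoc, ← p_φ G j.inv i.inv (IA.le_def.mp h), Category.assoc, ι_w G h]

/-- the glued quotient map -/
noncomputable def pg : G.U ⟶ Yg G :=
  (cover G hcov).glueMorphismsOfLocallyDirected (fun i => p G i.W i.inv ≫ ι G i)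
    (fun {i j} hij => compat G i j (leOfHom hij))

theorem ι_pg (i : IA G) : i.W.ι ≫ pg G hcov = p G i.W i.inv ≫ ι G i :=
  (cover G hcov).map_glueMorphismsOfLocallyDirected (fun i => p G i.W i.inv ≫ ι G i)
    (fun {i j} hij => compat G i j (leOfHom hij)) i

theorem pg_apply (i : IA G) (x : (i.W : Scheme.{u})) :
    pg G hcov x.1 = ι G i (p G i.W i.inv x) := by
  have := congrArg (fun f : (i.W : Scheme.{u}) ⟶ Yg G => f x) (ι_pg G hcov i)
  simp only [Scheme.Hom.comp_apply] at this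
  exact this

theorem ι_eq_ι_iff {i j : IA G} (xi : Y G i.W i.inv) (xj : Y G j.W j.inv) :
    ι G i xi = ι G j xj ↔ ∃ (k : IA G) (hki : k ≤ i) (hkj : k ≤ j) (x : Y G k.W k.inv),
      φ G i.inv k.inv hki x = xi ∧ φ G j.inv k.inv hkj x = xj := by
  refine (Scheme.IsLocallyDirected.ι_eq_ι_iff (F := F G) (i := i) (j := j) (xi := xi)
    (xj := xj)).trans ?_
  constructor
  · rintro ⟨k, fi, fj, x, h1, h2⟩
    exact ⟨k, leOfHom fi, leOfHom fj, x, h1, h2⟩
  · rintro ⟨k, hki, hkj, x, h1, h2⟩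
    exact ⟨k, homOfLE hki, homOfLE hkj, x, h1, h2⟩

theorem mem_of_rel (i : IA G) (r : G.R) : G.t r ∈ i.W ↔ G.s r ∈ i.W := by
  have h1 : G.t r ∈ i.W ↔ r ∈ G.t ⁻¹ᵁ i.W := Iff.rfl
  have h2 : G.s r ∈ i.W ↔ r ∈ G.s ⁻¹ᵁ i.W := Iff.rfl
  rw [h1, h2, i.inv]

theorem pg_mem_range_iff (i : IA G) (x : G.U) : pg G hcov x ∈ Set.range (ι G i) ↔ x ∈ i.W := by
  constructor
  · rintro ⟨z, hz⟩
    obtain ⟨j, hj⟩ := hcov x
    have h1 := pg_apply G hcov j ⟨x, hj⟩
    rw [show ((⟨x, hj⟩ : (j.W : Scheme.{u})) : G.U) = x from rfl] at h1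
    rw [h1] at hz
    obtain ⟨k, hki, hkj, w, hw1, hw2⟩ := (ι_eq_ι_iff G z _).mp hz
    obtain ⟨o, rfl⟩ := p_surjective G k.W k.inv k.aff w
    rw [φ_apply_p G j.inv k.inv hkj j.aff k.aff] at hw2
    obtain ⟨r, hr1, hr2⟩ := (p_eq_iff G j.W j.inv j.aff _ _).mp hw2
    have h3 : G.t r ∈ i.W := by
      rw [hr1]
      exact hki o.2
    have h4 := (mem_of_rel G i r).mp h3
    rwa [hr2] at h4
  · intro hx
    exact ⟨_, (pg_apply G hcov i ⟨x, hx⟩).symm⟩

theorem pg_surjective : Function.Surjective (pg G hcov) := by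
  intro y
  obtain ⟨i, z, rfl⟩ := ι_jointly_surjective G y
  obtain ⟨x, rfl⟩ := p_surjective G i.W i.inv i.aff z
  exact ⟨x.1, pg_apply G hcov i x⟩

theorem pg_eq_iff (x y : G.U) :
    pg G hcov x = pg G hcov y ↔ ∃ r : G.R, G.t r = x ∧ G.s r = y := by
  obtain ⟨i, hi⟩ := hcov x
  constructor
  · intro h
    have hy : y ∈ i.W := by
      rw [← pg_mem_range_iff G hcov, ← h, pg_mem_range_iff G hcov]
      exact hi
    have h1 := pg_apply G hcov i ⟨x, hi⟩
    have h2 := pg_apply G hcov i ⟨y, hy⟩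
    rw [show ((⟨x, hi⟩ : (i.W : Scheme.{u})) : G.U) = x from rfl] at h1
    rw [show ((⟨y, hy⟩ : (i.W : Scheme.{u})) : G.U) = y from rfl] at h2
    rw [h1, h2] at h
    have h3 := (ι G i).isOpenEmbedding.injective h
    exact (p_eq_iff G i.W i.inv i.aff _ _).mp h3
  · rintro ⟨r, rfl, rfl⟩
    have hy : G.s r ∈ i.W := (mem_of_rel G i r).mp hi
    have h1 := pg_apply G hcov i ⟨G.t r, hi⟩
    have h2 := pg_apply G hcov i ⟨G.s r, hy⟩
    rw [show ((⟨G.t r, hi⟩ : (i.W : Scheme.{u})) : G.U) = G.t r from rfl] at h1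
    rw [show ((⟨G.s r, hy⟩ : (i.W : Scheme.{u})) : G.U) = G.s r from rfl] at h2
    rw [h1, h2]
    congr 1
    exact (p_eq_iff G i.W i.inv i.aff _ _).mpr ⟨r, rfl, rfl⟩

theorem pg_isOpenMap : IsOpenMap (pg G hcov) := by
  intro O hO
  have : pg G hcov '' O = ⋃ i : IA G, ι G i '' (p G i.W i.inv '' {x | x.1 ∈ O}) := by
    ext y
    simp only [Set.mem_image, Set.mem_iUnion]
    constructor
    · rintro ⟨x, hx, rfl⟩
      obtain ⟨i, hi⟩ := hcov x
      exact ⟨i, _, ⟨⟨x, hi⟩, hx, rfl⟩, (pg_apply G hcov i ⟨x, hi⟩).symm⟩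
    · rintro ⟨i, _, ⟨x, hx, rfl⟩, rfl⟩
      exact ⟨x.1, hx, pg_apply G hcov i x⟩
  rw [this]
  refine isOpen_iUnion fun i => ?_
  apply (ι G i).isOpenEmbedding.isOpenMap
  apply p_isOpenMap G i.W i.inv i.aff
  exact hO.preimage continuous_subtype_val

end cover

end

end Groth.Agent.Lib.Seat19.Glue
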