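import Mathlib
import Groth.Prelude.Def_Grpd
import Groth.Agent.Lib.Seat19Glue

/-!
# The glued quotient: invariance, integrality, affineness (helper19)
-/

set_option autoImplicit false
set_option linter.unusedSectionVars false
set_option linter.style.haveILetI false
universe u

open CategoryTheory CategoryTheory.Limits AlgebraicGeometry Opposite
open Groth.Agent.Lib.Seat19.LocQ

namespace Groth.Agent.Lib.Seat19.Glue

variable {S : Scheme.{u}} (G : Grpd.GroupoidScheme S)

/-- the local quotient map coequalizes the restricted source and target -/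
theorem s'_p (W : G.U.Opens) (hW : IsInv G W) :
    G.s.resLE W (G.s ⁻¹ᵁ W) le_rfl ≫ p G W hW = G.t.resLE W (G.s ⁻¹ᵁ W) hW.le ≫ p G W hW := by
  unfold p
  rw [← Scheme.Opens.toSpecΓ_SpecMap_appLE_assoc, ← Scheme.Opens.toSpecΓ_SpecMap_appLE_assoc,
    ← Spec.map_comp, ← Spec.map_comp]
  congr 2
  refine CommRingCat.hom_ext (RingHom.ext fun a => ?_)
  exact a.2

section
variable [IsFinite G.s] [Flat G.s] [LocallyOfFinitePresentation G.s]
  [Flat G.t] [LocallyOfFinitePresentation G.t]
variable (hcov : ∀ x : G.U, ∃ i : IA G, x ∈ i.W)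

/-- the cover of `R` by the preimages of the invariant affine opens -/
noncomputable def coverR : G.R.OpenCover :=
  G.R.openCoverOfIsOpenCover (fun i : IA G => G.s ⁻¹ᵁ i.W) (TopologicalSpace.IsOpenCover.mk (by
    rw [eq_top_iff]
    rintro r -
    obtain ⟨i, hi⟩ := hcov (G.s r)
    exact TopologicalSpace.Opens.mem_iSup.mpr ⟨i, hi⟩))

theorem t_pg_aux (i : IA G) :
    (G.s ⁻¹ᵁ i.W).ι ≫ G.t ≫ pg G hcov = (G.s ⁻¹ᵁ i.W).ι ≫ G.s ≫ pg G hcov := by
  rw [← Scheme.Hom.resLE_comp_ι_assoc G.t i.inv.le, ← Scheme.Hom.resLE_comp_ι_assoc G.s le_rfl,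
    ι_pg, ← Category.assoc, ← Category.assoc, s'_p]

theorem t_pg : G.t ≫ pg G hcov = G.s ≫ pg G hcov := by
  apply (coverR G hcov).hom_ext
  intro i
  exact t_pg_aux G hcov i

/-- the cover of the glued quotient by the local quotients -/
@[simps I₀ X f]
noncomputable def coverY : (Yg G).OpenCover where
  I₀ := IA G
  X i := Y G i.W i.inv
  f i := ι G i
  mem₀ := by
    rw [Scheme.presieve₀_mem_precoverage_iff]
    refine ⟨fun y ↦ ?_, inferInstance⟩
    obtain ⟨i, z, hz⟩ := ι_jointly_surjective G y
    exact ⟨i, z, hz⟩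

theorem isPullback_pg (i : IA G) :
    IsPullback (p G i.W i.inv) i.W.ι (ι G i) (pg G hcov) := by
  apply IsOpenImmersion.isPullback _ _ _ _ (ι_pg G hcov i)
  rw [Scheme.Opens.opensRange_ι]
  ext x
  exact pg_mem_range_iff G hcov i x

set_option backward.isDefEq.respectTransparency.types false in
theorem pg_isIntegralHom : IsIntegralHom (pg G hcov) := by
  apply IsZariskiLocalAtTarget.of_openCover (P := @IsIntegralHom) (coverY G)
  intro i
  have h := (isPullback_pg G hcov i).flip
  have e : h.isoPullback.hom ≫ pullback.snd _ _ = p G i.W i.inv := h.isoPullback_hom_snd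
  show IsIntegralHom (pullback.snd (pg G hcov) (ι G i))
  rw [← MorphismProperty.cancel_left_of_respectsIso @IsIntegralHom h.isoPullback.hom, e]
  exact p_isIntegralHom G i.W i.inv i.aff

/-- the top element when `U` is affine -/
noncomputable def topIA [IsAffine G.U] : IA G where
  W := ⊤
  inv := rfl
  aff := isAffineOpen_top G.U

theorem isAffine_Yg [IsAffine G.U] : IsAffine (Yg G) := by
  have hle : ∀ i : IA G, i ≤ topIA G := fun i => IA.le_def.mpr le_top
  haveI : IsIso (ι G (topIA G)) := by
    apply isIso_of_isOpenImmersion_of_opensRange_eq_top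
    rw [eq_top_iff]
    rintro y -
    obtain ⟨i, z, rfl⟩ := ι_jointly_surjective G y
    refine ⟨φ G (topIA G).inv i.inv (hle i) z, ?_⟩
    rw [← Scheme.Hom.comp_apply, ι_w G (hle i)]
  exact IsAffine.of_isIso (inv (ι G (topIA G)))

end

end Groth.Agent.Lib.Seat19.Glue
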