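import Mathlib
import Groth.Prelude.Def_Grpd
import Groth.Agent.Lib.Seat19Glue2
import Groth.Agent.Lib.Seat19Quot2

/-!
# The glued quotient: `R → U ×_Y U` is surjective (helper19)
-/

set_option autoImplicit false
set_option linter.unusedSectionVars false
set_option linter.style.haveILetI false
universe u

open CategoryTheory CategoryTheory.Limits AlgebraicGeometry Opposite
open Groth.Agent.Lib.Seat19.LocQ

namespace Groth.Agent.Lib.Seat19.Glue

variable {S : Scheme.{u}} (G : Grpd.GroupoidScheme S)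

section
variable [IsFinite G.s] [Flat G.s] [LocallyOfFinitePresentation G.s]
  [Flat G.t] [LocallyOfFinitePresentation G.t]
variable (hcov : ∀ x : G.U, ∃ i : IA G, x ∈ i.W)

theorem lift_surjective (w : G.t ≫ pg G hcov = G.s ≫ pg G hcov) :
    Function.Surjective (pullback.lift G.t G.s w) := by
  intro z
  let K := (pullback (pg G hcov) (pg G hcov)).residueField z
  let k := AlgebraicClosure K
  let ξ : Spec (CommRingCat.of k) ⟶ pullback (pg G hcov) (pg G hcov) :=
    Spec.map (CommRingCat.ofHom (algebraMap K k)) ≫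
      (pullback (pg G hcov) (pg G hcov)).fromSpecResidueField z
  have hξ : ∀ a, ξ a = z := fun a => by
    rw [Scheme.Hom.comp_apply, Scheme.fromSpecResidueField_apply]
  let x₀ : Spec (CommRingCat.of k) ⟶ G.U := ξ ≫ pullback.fst _ _
  let x₁ : Spec (CommRingCat.of k) ⟶ G.U := ξ ≫ pullback.snd _ _
  have hx : x₀ ≫ pg G hcov = x₁ ≫ pg G hcov := by
    simp only [x₀, x₁, Category.assoc, pullback.condition]
  let pt : Spec (CommRingCat.of k) := IsLocalRing.closedPoint k
  have hpt : ∀ a : Spec (CommRingCat.of k), a = pt := fun a => Subsingleton.elim _ _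
  obtain ⟨i, hi⟩ := hcov (x₀ pt)
  have h0 : Set.range x₀ ⊆ Set.range i.W.ι := by
    rintro _ ⟨a, rfl⟩
    rw [Scheme.Opens.range_ι, hpt a]
    exact hi
  have h1 : Set.range x₁ ⊆ Set.range i.W.ι := by
    rintro _ ⟨a, rfl⟩
    rw [Scheme.Opens.range_ι, hpt a]
    show x₁ pt ∈ i.W
    rw [← pg_mem_range_iff G hcov i]
    have := congrArg (fun f : Spec (CommRingCat.of k) ⟶ Yg G => f pt) hx
    simp only [Scheme.Hom.comp_apply] at this
    rw [← this, pg_mem_range_iff G hcov i]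
    exact hi
  let x₀' : Spec (CommRingCat.of k) ⟶ (i.W : Scheme.{u}) := IsOpenImmersion.lift i.W.ι x₀ h0
  let x₁' : Spec (CommRingCat.of k) ⟶ (i.W : Scheme.{u}) := IsOpenImmersion.lift i.W.ι x₁ h1
  have hx' : x₀' ≫ p G i.W i.inv = x₁' ≫ p G i.W i.inv := by
    rw [← cancel_mono (ι G i), Category.assoc, Category.assoc, ← ι_pg G hcov i,
      IsOpenImmersion.lift_fac_assoc, IsOpenImmersion.lift_fac_assoc]
    exact hx
  rw [p_eq, ← Category.assoc, ← Category.assoc, cancel_mono] at hx'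
  haveI := isAffine_HU G i.W i.inv i.aff
  haveI := isAffine_HR G i.W i.inv i.aff
  obtain ⟨r', hr1, hr2⟩ :=
    (Groth.Agent.Lib.Seat19.Quot2.kpoints_eq_iff (H G i.W i.inv) k x₀' x₁').mp hx'
  let r : Spec (CommRingCat.of k) ⟶ G.R := r' ≫ (G.s ⁻¹ᵁ i.W).ι
  have hr : r ≫ pullback.lift G.t G.s w = ξ := by
    apply pullback.hom_ext
    · rw [Category.assoc, pullback.lift_fst]
      show (r' ≫ (G.s ⁻¹ᵁ i.W).ι) ≫ G.t = x₀
      rw [Category.assoc, ← Scheme.Hom.resLE_comp_ι G.t i.inv.le, ← Category.assoc]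
      have : r' ≫ G.t.resLE i.W (G.s ⁻¹ᵁ i.W) i.inv.le = x₀' := hr1
      rw [this]
      exact IsOpenImmersion.lift_fac _ _ _
    · rw [Category.assoc, pullback.lift_snd]
      show (r' ≫ (G.s ⁻¹ᵁ i.W).ι) ≫ G.s = x₁
      rw [Category.assoc, ← Scheme.Hom.resLE_comp_ι G.s le_rfl, ← Category.assoc]
      have : r' ≫ G.s.resLE i.W (G.s ⁻¹ᵁ i.W) le_rfl = x₁' := hr2
      rw [this]
      exact IsOpenImmersion.lift_fac _ _ _
  refine ⟨r pt, ?_⟩
  rw [← Scheme.Hom.comp_apply, hr, hξ]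

end

end Groth.Agent.Lib.Seat19.Glue
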