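import Mathlib
import Groth.Prelude.Def_Grpd
import Groth.Agent.Lib.Seat19Glue2

/-!
# The glued quotient is a coequalizer in the category of schemes (helper19)
-/

set_option autoImplicit false
set_option linter.unusedSectionVars false
set_option linter.style.haveILetI false
universe u

open CategoryTheory CategoryTheory.Limits AlgebraicGeometry Opposite
open Groth.Agent.Lib.Seat19.LocQ

namespace Groth.Agent.Lib.Seat19.Glue

variable {S : Scheme.{u}} (G : Grpd.GroupoidScheme S)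

section
variable [IsFinite G.s] [Flat G.s] [LocallyOfFinitePresentation G.s]
  [Flat G.t] [LocallyOfFinitePresentation G.t]
variable (hcov : ∀ x : G.U, ∃ i : IA G, x ∈ i.W)
variable {Z : Scheme.{u}} (f : G.U ⟶ Z) (hf : G.t ≫ f = G.s ≫ f)

/-- invariant affine opens mapping into an affine open of the target -/
abbrev IAf : Type u := {i : IA G // ∃ Z' : Z.Opens, IsAffineOpen Z' ∧ i.W ≤ f ⁻¹ᵁ Z'}

include hf in
theorem isInv_preimage (Z' : Z.Opens) : IsInv G (f ⁻¹ᵁ Z') := by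
  show G.s ⁻¹ᵁ (f ⁻¹ᵁ Z') = G.t ⁻¹ᵁ (f ⁻¹ᵁ Z')
  rw [← Scheme.Hom.comp_preimage, ← Scheme.Hom.comp_preimage, hf]

include hf hcov in
theorem exists_IAf_mem (x : G.U) : ∃ i : IAf G f, x ∈ i.1.W := by
  obtain ⟨Z', hZ'a, hxZ', -⟩ := exists_isAffineOpen_mem_and_subset (x := f x)
    (U := ⊤) trivial
  obtain ⟨j, hj⟩ := hcov x
  have hO : IsInv G (j.W ⊓ f ⁻¹ᵁ Z') := isInv_inf G j.inv (isInv_preimage G f hf Z')
  obtain ⟨c, hxc, hc⟩ := exists_D_le G j.W j.inv j.aff (j.W ⊓ f ⁻¹ᵁ Z') hO inf_le_left x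
    ⟨hj, hxZ'⟩
  exact ⟨⟨j.basic c, Z', hZ'a, hc.trans inf_le_right⟩, hxc⟩

/-- the cover of the glued quotient adapted to `f` -/
@[simps I₀ X f]
noncomputable def coverYf : (Yg G).OpenCover where
  I₀ := IAf G f
  X i := Y G i.1.W i.1.inv
  f i := ι G i.1
  mem₀ := by
    rw [Scheme.presieve₀_mem_precoverage_iff]
    refine ⟨fun y ↦ ?_, fun i => inferInstanceAs (IsOpenImmersion (ι G i.1))⟩
    obtain ⟨x, rfl⟩ := pg_surjective G hcov y
    obtain ⟨i, hi⟩ := exists_IAf_mem G hcov f hf x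
    exact ⟨i, p G i.1.W i.1.inv ⟨x, hi⟩, (pg_apply G hcov i.1 ⟨x, hi⟩).symm⟩

instance : Preorder (coverYf G hcov f hf).I₀ := inferInstanceAs (Preorder (IAf G f))

theorem coverYf_directed (i j : IAf G f) (x : ↑(pullback (ι G i.1) (ι G j.1))) :
    ∃ (k : IAf G f) (hki : k ≤ i) (hkj : k ≤ j) (y : Y G k.1.W k.1.inv),
      pullback.lift (φ G i.1.inv k.1.inv hki) (φ G j.1.inv k.1.inv hkj)
        (by rw [ι_w G hki, ι_w G hkj]) y = x := by
  have hx : ι G i.1 (pullback.fst (ι G i.1) (ι G j.1) x) =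
      ι G j.1 (pullback.snd (ι G i.1) (ι G j.1) x) := by
    rw [← Scheme.Hom.comp_apply, ← Scheme.Hom.comp_apply, pullback.condition]
  obtain ⟨k₀, hki, hkj, w, hw1, hw2⟩ := (ι_eq_ι_iff G _ _).mp hx
  obtain ⟨Z', hZ'a, hZ'⟩ := i.2
  refine ⟨⟨k₀, Z', hZ'a, (IA.le_def.mp hki).trans hZ'⟩, hki, hkj, w, ?_⟩
  apply (pullback.fst (ι G i.1) (ι G j.1) ≫ ι G i.1).isOpenEmbedding.injective
  rw [← Scheme.Hom.comp_apply, pullback.lift_fst_assoc, Scheme.Hom.comp_apply, hw1,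
    Scheme.Hom.comp_apply]

noncomputable instance : (coverYf G hcov f hf).LocallyDirected where
  trans {i j} hij := φ G j.1.inv i.1.inv (leOfHom hij)
  trans_id i := φ_id G i.1.inv
  trans_comp {i j k} hij hjk := (φ_comp G k.1.inv j.1.inv i.1.inv (leOfHom hjk) (leOfHom hij)).symm
  w {i j} hij := ι_w G (leOfHom hij)
  property_trans {i j} hij := φ_isOpenImmersion G j.1.inv i.1.inv (leOfHom hij) j.1.aff i.1.aff
  directed {i j} x := by
    obtain ⟨k, hki, hkj, y, hy⟩ := coverYf_directed G f i j x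
    exact ⟨k, homOfLE hki, homOfLE hkj, y, hy⟩

include hf in
theorem exists_g (i : IAf G f) :
    ∃ g : Y G i.1.W i.1.inv ⟶ Z, p G i.1.W i.1.inv ≫ g = i.1.W.ι ≫ f := by
  obtain ⟨Z', hZ'a, hZ'⟩ := i.2
  have hr : Set.range (i.1.W.ι ≫ f) ⊆ Set.range Z'.ι := by
    rintro _ ⟨a, rfl⟩
    rw [Scheme.Opens.range_ι, Scheme.Hom.comp_apply]
    exact hZ' a.2
  let fi : (i.1.W : Scheme.{u}) ⟶ (Z' : Scheme.{u}) := IsOpenImmersion.lift Z'.ι (i.1.W.ι ≫ f) hr
  have hfi : fi ≫ Z'.ι = i.1.W.ι ≫ f := IsOpenImmersion.lift_fac _ _ _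
  haveI : IsAffine (Z' : Scheme.{u}) := hZ'a
  have hinv : (H G i.1.W i.1.inv).s ≫ fi = (H G i.1.W i.1.inv).t ≫ fi := by
    rw [← cancel_mono Z'.ι, Category.assoc, Category.assoc, hfi]
    show G.s.resLE i.1.W (G.s ⁻¹ᵁ i.1.W) le_rfl ≫ i.1.W.ι ≫ f =
      G.t.resLE i.1.W (G.s ⁻¹ᵁ i.1.W) i.1.inv.le ≫ i.1.W.ι ≫ f
    rw [Scheme.Hom.resLE_comp_ι_assoc, Scheme.Hom.resLE_comp_ι_assoc, hf]
  obtain ⟨g', hg'⟩ := p_desc_affine G i.1.W i.1.inv i.1.aff (Z' : Scheme.{u}) fi hinv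
  exact ⟨g' ≫ Z'.ι, by rw [← Category.assoc, hg', hfi]⟩

/-- the local descents -/
noncomputable def gi (i : IAf G f) : Y G i.1.W i.1.inv ⟶ Z := (exists_g G f hf i).choose

theorem p_gi (i : IAf G f) : p G i.1.W i.1.inv ≫ gi G f hf i = i.1.W.ι ≫ f :=
  (exists_g G f hf i).choose_spec

theorem gi_compat (k i : IAf G f) (h : k ≤ i) :
    φ G i.1.inv k.1.inv h ≫ gi G f hf i = gi G f hf k := by
  haveI := p_epi G k.1.W k.1.inv k.1.aff
  rw [← cancel_epi (p G k.1.W k.1.inv), ← Category.assoc, p_φ, Category.assoc, p_gi, p_gi,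
    ← Category.assoc, Scheme.homOfLE_ι]

/-- the descended morphism -/
noncomputable def desc : Yg G ⟶ Z :=
  (coverYf G hcov f hf).glueMorphismsOfLocallyDirected (fun i => gi G f hf i)
    (fun {i j} hij => gi_compat G f hf i j (leOfHom hij))

theorem ι_desc (i : IAf G f) : ι G i.1 ≫ desc G hcov f hf = gi G f hf i :=
  (coverYf G hcov f hf).map_glueMorphismsOfLocallyDirected (fun i => gi G f hf i)
    (fun {i j} hij => gi_compat G f hf i j (leOfHom hij)) i

/-- the cover of `U` adapted to `f` -/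
noncomputable def coverUf : G.U.OpenCover :=
  G.U.openCoverOfIsOpenCover (fun i : IAf G f => i.1.W) (TopologicalSpace.IsOpenCover.mk (by
    rw [eq_top_iff]
    rintro x -
    obtain ⟨i, hi⟩ := exists_IAf_mem G hcov f hf x
    exact TopologicalSpace.Opens.mem_iSup.mpr ⟨i, hi⟩))

theorem pg_desc_aux (i : IAf G f) :
    i.1.W.ι ≫ pg G hcov ≫ desc G hcov f hf = i.1.W.ι ≫ f := by
  rw [← Category.assoc, ι_pg, Category.assoc, ι_desc, p_gi]

theorem pg_desc : pg G hcov ≫ desc G hcov f hf = f := by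
  apply (coverUf G hcov f hf).hom_ext
  intro i
  exact pg_desc_aux G hcov f hf i

theorem desc_uniq_aux (m : Yg G ⟶ Z) (hm : pg G hcov ≫ m = f) (i : IAf G f) :
    ι G i.1 ≫ m = ι G i.1 ≫ desc G hcov f hf := by
  haveI := p_epi G i.1.W i.1.inv i.1.aff
  rw [← cancel_epi (p G i.1.W i.1.inv), ← Category.assoc, ← Category.assoc, ← ι_pg G hcov,
    Category.assoc, Category.assoc, hm, pg_desc]

theorem desc_uniq (m : Yg G ⟶ Z) (hm : pg G hcov ≫ m = f) : m = desc G hcov f hf := by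
  apply (coverYf G hcov f hf).hom_ext
  intro i
  exact desc_uniq_aux G hcov f hf m hm i

end

section
variable [IsFinite G.s] [Flat G.s] [LocallyOfFinitePresentation G.s]
  [Flat G.t] [LocallyOfFinitePresentation G.t]
variable (hcov : ∀ x : G.U, ∃ i : IA G, x ∈ i.W)

/-- the glued quotient is a coequalizer of `(t, s)` in the category of schemes -/
noncomputable def isColimit (w : G.t ≫ pg G hcov = G.s ≫ pg G hcov) :
    IsColimit (Cofork.ofπ (pg G hcov) w) :=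
  Cofork.IsColimit.mk _ (fun s => desc G hcov s.π s.condition)
    (fun s => pg_desc G hcov s.π s.condition)
    (fun s m hm => desc_uniq G hcov s.π s.condition m hm)

end

end Groth.Agent.Lib.Seat19.Glue
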