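import Mathlib
import Groth.Prelude.Def_Grpd
import Groth.Prelude.Def_Mor2
import Groth.Agent.Lib.Seat19Glue3
import Groth.Agent.Lib.Seat19Glue4
import Groth.Agent.Lib.Seat19InvOpen
import Groth.Agent.S7461

/-!
# The quotient of a finite locally free groupoid: assembly (helper19)
-/

set_option autoImplicit false
set_option linter.unusedSectionVars false
set_option linter.style.haveILetI false
universe u

open CategoryTheory CategoryTheory.Limits AlgebraicGeometry Opposite
open Groth.Agent.Lib.Seat19.LocQ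

namespace Groth.Agent.Lib.Seat19.Glue

variable {S : Scheme.{u}} (G : Grpd.GroupoidScheme S)

theorem t_eq : G.t = G.i ≫ G.s := G.i_s.symm

theorem isFinite_t [IsFinite G.s] : IsFinite G.t := by
  rw [t_eq]
  haveI : IsIso G.i := inferInstance
  infer_instance

theorem flat_t [Flat G.s] : Flat G.t := by
  rw [t_eq]
  haveI : IsIso G.i := inferInstance
  infer_instance

theorem lfp_t [LocallyOfFinitePresentation G.s] : LocallyOfFinitePresentation G.t := by
  rw [t_eq]
  haveI : IsIso G.i := inferInstance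
  infer_instance

theorem exists_cover [IsFinite G.s] [Flat G.s] [LocallyOfFinitePresentation G.s]
    (hb : ∀ x : G.U, ∃ V : G.U.Opens, IsAffineOpen V ∧
      G.t.base '' (G.s.base ⁻¹' {x}) ⊆ (V : Set G.U)) :
    ∀ x : G.U, ∃ i : IA G, x ∈ i.W := by
  intro x
  obtain ⟨V, hV, hxV⟩ := hb x
  obtain ⟨W, hWa, hxW, hW⟩ := Groth.Agent.Lib.Seat19.InvOpen.exists_invariant_affine_open G x V hV
    (fun r hr => hxV ⟨r, hr, rfl⟩)
  exact ⟨⟨W, hW, hWa⟩, hxW⟩

theorem main (ha : Mor2.IsFinLocFree G.s)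
    (hb : ∀ x : G.U, ∃ V : G.U.Opens, IsAffineOpen V ∧
      G.t.base '' (G.s.base ⁻¹' {x}) ⊆ (V : Set G.U)) :
    ∃ (Y : Scheme.{u}) (p : G.U ⟶ Y) (w : G.t ≫ p = G.s ≫ p),
      Nonempty (IsColimit (Cofork.ofπ p w)) ∧ IsIntegralHom p ∧ Surjective p ∧ IsOpenMap p.base ∧
      (∀ x y : G.U, p.base x = p.base y ↔ ∃ r : G.R, G.t.base r = x ∧ G.s.base r = y) ∧
      Function.Surjective (pullback.lift G.t G.s w).base ∧ (IsAffine G.U → IsAffine Y) := by
  obtain ⟨h1, h2, h3⟩ := ha
  haveI := h1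
  haveI := h2
  haveI := h3
  haveI := flat_t G
  haveI := lfp_t G
  have hcov := exists_cover G hb
  refine ⟨Yg G, pg G hcov, t_pg G hcov, ⟨isColimit G hcov _⟩, pg_isIntegralHom G hcov,
    ⟨pg_surjective G hcov⟩, pg_isOpenMap G hcov, pg_eq_iff G hcov, lift_surjective G hcov _, ?_⟩
  intro hU
  exact isAffine_Yg G

end Groth.Agent.Lib.Seat19.Glue
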