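import Mathlib
import Groth.Prelude.Def_Grpd
import Groth.Prelude.Def_Mor2
import Groth.Agent.Lib.Seat19Glue5
import Groth.Agent.Lib.Seat19FFQ

/-!
# The quotient of a finite locally free equivalence relation (helper19)

`R ≅ U ×_Y U` and `U ⟶ Y` is finite locally free.
-/

set_option autoImplicit false
set_option linter.unusedSectionVars false
set_option linter.style.haveILetI false
universe u

open CategoryTheory CategoryTheory.Limits AlgebraicGeometry Opposite
open Groth.Agent.Lib.Seat19.LocQ Groth.Agent.Lib.Seat19.Sub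

namespace Groth.Agent.Lib.Seat19.Glue

variable {S : Scheme.{u}} (G : Grpd.GroupoidScheme S)

/-- a full sub-groupoid of an equivalence relation is an equivalence relation -/
theorem mono_j_sub (D : SubData G) [Mono G.j] : Mono D.grpd.j := by
  constructor
  intro T α β h
  have h1 : α ≫ D.t' = β ≫ D.t' := by
    have := congrArg (fun f => f ≫ pullback.fst _ _) h
    simpa only [Category.assoc, Grpd.GroupoidScheme.j, pullback.lift_fst] using this
  have h2 : α ≫ D.s' = β ≫ D.s' := by
    have := congrArg (fun f => f ≫ pullback.snd _ _) h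
    simpa only [Category.assoc, Grpd.GroupoidScheme.j, pullback.lift_snd] using this
  rw [← cancel_mono D.b, ← cancel_mono G.j]
  apply pullback.hom_ext
  · simp only [Category.assoc, Grpd.GroupoidScheme.j, pullback.lift_fst]
    rw [← D.ht, reassoc_of% h1]
  · simp only [Category.assoc, Grpd.GroupoidScheme.j, pullback.lift_snd]
    rw [← D.hs, reassoc_of% h2]

instance mono_j_H [Mono G.j] (W : G.U.Opens) (hW : IsInv G W) : Mono (H G W hW).j :=
  mono_j_sub G (restrictData G W hW)

section loc
variable [IsFinite G.s] [Flat G.s] [LocallyOfFinitePresentation G.s]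
  [Flat G.t] [LocallyOfFinitePresentation G.t] [Mono G.j]
variable (W : G.U.Opens) (hW : IsInv G W) (hWa : IsAffineOpen W)
include hWa

theorem p_props : IsFinite (p G W hW) ∧ Flat (p G W hW) ∧
    LocallyOfFinitePresentation (p G W hW) := by
  haveI := isAffine_HU G W hW hWa
  haveI := isAffine_HR G W hW hWa
  obtain ⟨h1, h2, h3⟩ := Groth.Agent.Lib.Seat19.FFQ.toQuot_props (H G W hW)
  rw [p_eq]
  exact ⟨inferInstance, inferInstance, inferInstance⟩

theorem isPullback_p : IsPullback (G.t.resLE W (G.s ⁻¹ᵁ W) hW.le)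
    (G.s.resLE W (G.s ⁻¹ᵁ W) le_rfl) (p G W hW) (p G W hW) := by
  haveI := isAffine_HU G W hW hWa
  haveI := isAffine_HR G W hW hWa
  have h := Groth.Agent.Lib.Seat19.FFQ.isPullback_toQuot (H G W hW)
  rw [p_eq]
  refine h.of_iso (Iso.refl _) (Iso.refl _) (Iso.refl _)
    (asIso (Spec.map (CommRingCat.ofHom (ψ G W hW).toRingHom))) ?_ ?_ ?_ ?_
  · simp
  · simp
  · simp
  · simp

end loc

section glob
variable [IsFinite G.s] [Flat G.s] [LocallyOfFinitePresentation G.s]
  [Flat G.t] [LocallyOfFinitePresentation G.t]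
variable (hcov : ∀ x : G.U, ∃ i : IA G, x ∈ i.W)

theorem pg_of_local (P : MorphismProperty Scheme.{u}) [IsZariskiLocalAtTarget P]
    (hP : ∀ i : IA G, P (p G i.W i.inv)) : P (pg G hcov) := by
  apply IsZariskiLocalAtTarget.of_openCover (P := P) (coverY G)
  intro i
  have h := (isPullback_pg G hcov i).flip
  have e : h.isoPullback.hom ≫ pullback.snd _ _ = p G i.W i.inv := h.isoPullback_hom_snd
  show P (pullback.snd (pg G hcov) (ι G i))
  rw [← MorphismProperty.cancel_left_of_respectsIso P h.isoPullback.hom, e]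
  exact hP i

variable [Mono G.j]

set_option backward.isDefEq.respectTransparency.types false in
theorem pg_isFinite : IsFinite (pg G hcov) :=
  pg_of_local G hcov @IsFinite fun i => (p_props G i.W i.inv i.aff).1

set_option backward.isDefEq.respectTransparency.types false in
theorem pg_flat : Flat (pg G hcov) :=
  pg_of_local G hcov @Flat fun i => (p_props G i.W i.inv i.aff).2.1

set_option backward.isDefEq.respectTransparency.types false in
theorem pg_lfp : LocallyOfFinitePresentation (pg G hcov) :=
  pg_of_local G hcov @LocallyOfFinitePresentation fun i => (p_props G i.W i.inv i.aff).2.2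

theorem mono_lift (w : G.t ≫ pg G hcov = G.s ≫ pg G hcov) :
    Mono (pullback.lift G.t G.s w) := by
  constructor
  intro T α β h
  rw [← cancel_mono G.j]
  apply pullback.hom_ext
  · simp only [Category.assoc, Grpd.GroupoidScheme.j, pullback.lift_fst]
    have := congrArg (fun f => f ≫ pullback.fst _ _) h
    simpa only [Category.assoc, pullback.lift_fst] using this
  · simp only [Category.assoc, Grpd.GroupoidScheme.j, pullback.lift_snd]
    have := congrArg (fun f => f ≫ pullback.snd _ _) h
    simpa only [Category.assoc, pullback.lift_snd] using this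

theorem ι_lift (i : IA G) (w : G.t ≫ pg G hcov = G.s ≫ pg G hcov) :
    (G.s ⁻¹ᵁ i.W).ι ≫ pullback.lift G.t G.s w =
      (isPullback_p G i.W i.inv i.aff).isoPullback.hom ≫
        pullback.map (p G i.W i.inv) (p G i.W i.inv) (pg G hcov) (pg G hcov) i.W.ι i.W.ι (ι G i)
          (ι_pg G hcov i).symm (ι_pg G hcov i).symm := by
  apply pullback.hom_ext
  · rw [Category.assoc, pullback.lift_fst, Category.assoc, pullback.lift_fst,
      IsPullback.isoPullback_hom_fst_assoc, Scheme.Hom.resLE_comp_ι]
  · rw [Category.assoc, pullback.lift_snd, Category.assoc, pullback.lift_snd,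
      IsPullback.isoPullback_hom_snd_assoc, Scheme.Hom.resLE_comp_ι]

theorem isOpenImmersion_lift (w : G.t ≫ pg G hcov = G.s ≫ pg G hcov) :
    IsOpenImmersion (pullback.lift G.t G.s w) := by
  haveI := mono_lift G hcov w
  refine IsOpenImmersion.of_forall_source_exists _ (Scheme.Hom.injective _) ?_
  intro r
  obtain ⟨i, hi⟩ := hcov (G.s r)
  refine ⟨(G.s ⁻¹ᵁ i.W : G.R.Opens), (G.s ⁻¹ᵁ i.W).ι, inferInstance, ?_, ?_⟩
  · rw [Scheme.Opens.opensRange_ι]
    exact hi
  · rw [ι_lift G hcov i w]
    infer_instance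

theorem isIso_lift (w : G.t ≫ pg G hcov = G.s ≫ pg G hcov) :
    IsIso (pullback.lift G.t G.s w) := by
  haveI := isOpenImmersion_lift G hcov w
  apply isIso_of_isOpenImmersion_of_opensRange_eq_top
  rw [eq_top_iff]
  rintro z -
  exact lift_surjective G hcov w z

theorem isPullback_pg_pg : IsPullback G.t G.s (pg G hcov) (pg G hcov) := by
  have w := t_pg G hcov
  haveI := isIso_lift G hcov w
  refine IsPullback.of_iso_pullback ⟨w⟩ (asIso (pullback.lift G.t G.s w)) ?_ ?_
  · exact pullback.lift_fst _ _ _
  · exact pullback.lift_snd _ _ _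

end glob

theorem main2 (ha : Mor2.IsFinLocFree G.s)
    (hb : ∀ x : G.U, ∃ V : G.U.Opens, IsAffineOpen V ∧
      G.t.base '' (G.s.base ⁻¹' {x}) ⊆ (V : Set G.U))
    [Mono G.j] (Y : Scheme.{u}) (p : G.U ⟶ Y) (w : G.t ≫ p = G.s ≫ p)
    (hc : IsColimit (Cofork.ofπ p w)) :
    IsPullback G.t G.s p p ∧ Mor2.IsFinLocFree p := by
  obtain ⟨h1, h2, h3⟩ := ha
  haveI := h1
  haveI := h2
  haveI := h3
  haveI := flat_t G
  haveI := lfp_t G
  have hcov := exists_cover G hb
  let e : Yg G ≅ Y := (isColimit G hcov (t_pg G hcov)).coconePointUniqueUpToIso hc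
  have he : pg G hcov ≫ e.hom = p :=
    (isColimit G hcov (t_pg G hcov)).comp_coconePointUniqueUpToIso_hom hc WalkingParallelPair.one
  rw [← he]
  constructor
  · refine (isPullback_pg_pg G hcov).of_iso (Iso.refl _) (Iso.refl _) (Iso.refl _) e ?_ ?_ ?_ ?_
    · simp
    · simp
    · simp
    · simp
  · haveI := pg_isFinite G hcov
    haveI := pg_flat G hcov
    haveI := pg_lfp G hcov
    exact ⟨inferInstance, inferInstance, inferInstance⟩

end Groth.Agent.Lib.Seat19.Glue
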