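import Mathlib
import Groth.Prelude.Def_Grpd
import Groth.Agent.Lib.Seat19Glue6

/-!
# The finite locally free quotient, all properties in one statement (helper19)
-/

set_option autoImplicit false
set_option linter.unusedSectionVars false
set_option linter.style.haveILetI false
universe u

open CategoryTheory CategoryTheory.Limits AlgebraicGeometry Opposite
open Groth.Agent.Lib.Seat19.LocQ Groth.Agent.Lib.Seat19.Sub

namespace Groth.Agent.Lib.Seat19.Glue

variable {S : Scheme.{u}} (G : Grpd.GroupoidScheme S)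

section
variable [IsFinite G.s] [Flat G.s] [LocallyOfFinitePresentation G.s]
  [Flat G.t] [LocallyOfFinitePresentation G.t]
variable (hcov : ∀ x : G.U, ∃ i : IA G, x ∈ i.W)

/-- the glued quotient is a coequalizer of `(s, t)` in the category of schemes -/
noncomputable def isColimit' (w : G.s ≫ pg G hcov = G.t ≫ pg G hcov) :
    IsColimit (Cofork.ofπ (pg G hcov) w) :=
  Cofork.IsColimit.mk _ (fun s => desc G hcov s.π s.condition.symm)
    (fun s => pg_desc G hcov s.π s.condition.symm)
    (fun s m hm => desc_uniq G hcov s.π s.condition.symm m hm)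

end

theorem main3 [IsFinite G.s] [Flat G.s] [LocallyOfFinitePresentation G.s]
    (haff : ∀ x : ↥G.U, ∃ V : G.U.Opens, IsAffineOpen V ∧
      G.t.base '' (G.s.base ⁻¹' {x}) ⊆ (V : Set ↥G.U)) :
    ∃ (Y : Scheme.{u}) (q : G.U ⟶ Y) (w : G.s ≫ q = G.t ≫ q),
      Nonempty (IsColimit (Cofork.ofπ q w)) ∧ IsAffineHom q ∧ IsIntegralHom q ∧ Surjective q ∧
      (∀ x x' : ↥G.U, q.base x = q.base x' ↔ ∃ r : ↥G.R, G.s.base r = x ∧ G.t.base r = x') ∧
      (Mono G.j → IsFinite q ∧ Flat q ∧ LocallyOfFinitePresentation q ∧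
        IsIso (pullback.lift G.t G.s w.symm : G.R ⟶ pullback q q)) := by
  haveI := flat_t G
  haveI := lfp_t G
  have hcov := exists_cover G haff
  have hint := pg_isIntegralHom G hcov
  refine ⟨Yg G, pg G hcov, (t_pg G hcov).symm, ⟨isColimit' G hcov _⟩, inferInstance, hint,
    ⟨pg_surjective G hcov⟩, ?_, ?_⟩
  · intro x x'
    rw [eq_comm, pg_eq_iff G hcov x' x]
    constructor
    · rintro ⟨r, h1, h2⟩
      exact ⟨r, h2, h1⟩
    · rintro ⟨r, h1, h2⟩
      exact ⟨r, h2, h1⟩
  · intro hj
    haveI := hj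
    exact ⟨pg_isFinite G hcov, pg_flat G hcov, pg_lfp G hcov, isIso_lift G hcov _⟩

end Groth.Agent.Lib.Seat19.Glue
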