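import Mathlib
import Groth.Prelude.Def_Grpd
import Groth.Prelude.Def_Mor2
import Groth.Prelude.Def_QuotSh
import Groth.Prelude.Def_AlgSp
import Groth.Agent.Lib.Seat19Glue7
import Groth.Agent.Lib.Helper12QuotSh

/-!
# The finite locally free quotient as an fppf quotient sheaf (helper19)
-/

set_option autoImplicit false
set_option linter.unusedSectionVars false
set_option linter.style.haveILetI false
universe u

open CategoryTheory CategoryTheory.Limits AlgebraicGeometry Opposite
open Groth.Agent.Lib.Seat19.LocQ Groth.Agent.Lib.Seat19.Sub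

namespace Groth.Agent.Lib.Seat19.Glue

variable {S : Scheme.{u}} (G : Grpd.GroupoidScheme S)

/-- it is enough to find, in each nonempty closed subset, one point whose class lies in an affine
open -/
theorem exists_cover_of_closed [IsFinite G.s] [Flat G.s] [LocallyOfFinitePresentation G.s]
    (h3 : ∀ Z : Set ↥G.U, IsClosed Z → Z.Nonempty →
      ∃ u ∈ Z, ∃ W : G.U.Opens, IsAffineOpen W ∧ ∀ r : ↥G.R, G.s r = u → G.t r ∈ W) :
    ∀ x : G.U, ∃ i : IA G, x ∈ i.W := by
  by_contra hne
  obtain ⟨x, hx'⟩ := not_forall.mp hne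
  have hx : ∀ i : IA G, x ∉ i.W := fun i hi => hx' ⟨i, hi⟩
  let Wtot : G.U.Opens := ⨆ i : IA G, i.W
  have hZ : IsClosed ((Wtot : Set G.U)ᶜ) := Wtot.isOpen.isClosed_compl
  have hxZ : x ∈ ((Wtot : Set G.U)ᶜ) := by
    intro hxW
    obtain ⟨i, hi⟩ := TopologicalSpace.Opens.mem_iSup.mp hxW
    exact hx i hi
  obtain ⟨u, huZ, W, hW, hr⟩ := h3 _ hZ ⟨x, hxZ⟩
  obtain ⟨W', hWa, huW, hW'⟩ :=
    Groth.Agent.Lib.Seat19.InvOpen.exists_invariant_affine_open G u W hW hr
  exact huZ (TopologicalSpace.Opens.mem_iSup.mpr ⟨⟨W', hW', hWa⟩, huW⟩)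

/-- an equivalence relation in the sense of `AlgSp.IsEqvRel` has `j` a monomorphism -/
theorem mono_j_of_isEqvRel
    (heq : AlgSp.IsEqvRel (Over.homMk G.s G.s_over : Over.mk G.pR ⟶ Over.mk G.pU)
      (Over.homMk G.t G.t_over : Over.mk G.pR ⟶ Over.mk G.pU)) : Mono G.j := by
  constructor
  intro T α β h
  have h1 : α ≫ G.t = β ≫ G.t := by
    have := congrArg (fun f => f ≫ pullback.fst _ _) h
    simpa only [Category.assoc, Grpd.GroupoidScheme.j, pullback.lift_fst] using this
  have h2 : α ≫ G.s = β ≫ G.s := by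
    have := congrArg (fun f => f ≫ pullback.snd _ _) h
    simpa only [Category.assoc, Grpd.GroupoidScheme.j, pullback.lift_snd] using this
  have hβ : β ≫ G.pR = α ≫ G.pR := by
    rw [← G.t_over, ← Category.assoc, ← Category.assoc, h1]
  let a : Over.mk (α ≫ G.pR) ⟶ Over.mk G.pR := Over.homMk α rfl
  let b : Over.mk (α ≫ G.pR) ⟶ Over.mk G.pR := Over.homMk β hβ
  have hab : a = b := by
    apply heq.injective
    · apply Over.OverMorphism.ext
      exact h1
    · apply Over.OverMorphism.ext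
      exact h2
  exact congrArg CommaMorphism.left hab

theorem main4 (hs : Mor2.IsFinLocFree G.s)
    (hj : Mono G.j)
    (h3 : ∀ Z : Set ↥G.U, IsClosed Z → Z.Nonempty →
      ∃ u ∈ Z, ∃ W : G.U.Opens, IsAffineOpen W ∧ ∀ r : ↥G.R, G.s r = u → G.t r ∈ W) :
    ∃ (M : Over S) (m : Over.mk G.pU ⟶ M), Mor2.IsFinLocFree m.left ∧
      IsPullback G.t G.s m.left m.left ∧
      QuotSh.IsQuotient Scheme.fppfPrecoverage
        (Over.homMk G.s G.s_over : Over.mk G.pR ⟶ Over.mk G.pU)
        (Over.homMk G.t G.t_over : Over.mk G.pR ⟶ Over.mk G.pU) m := by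
  obtain ⟨h1, h2, h3'⟩ := hs
  haveI := h1
  haveI := h2
  haveI := h3'
  haveI := flat_t G
  haveI := lfp_t G
  have hcov := exists_cover_of_closed G h3
  let pY : Yg G ⟶ S := desc G hcov G.pU (G.t_over.trans G.s_over.symm)
  have hpY : pg G hcov ≫ pY = G.pU := pg_desc G hcov _ _
  haveI := pg_isFinite G hcov
  haveI := pg_flat G hcov
  haveI := pg_lfp G hcov
  haveI : Surjective (pg G hcov) := ⟨pg_surjective G hcov⟩
  have hpb := isPullback_pg_pg G hcov
  refine ⟨Over.mk pY, Over.homMk (pg G hcov) hpY,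
    ⟨pg_isFinite G hcov, pg_flat G hcov, pg_lfp G hcov⟩, hpb, ?_⟩
  apply Groth.Agent.Lib.Helper12.QuotShLib.isQuotient_of_isKernelPair
  · refine IsPullback.of_map (Over.forget S) ?_ ?_
    · apply Over.OverMorphism.ext
      simp only [Over.comp_left, Over.homMk_left]
      exact hpb.w.symm
    · exact hpb.flip
  · exact Scheme.Hom.singleton_mem_fppfPrecoverage (pg G hcov)

end Groth.Agent.Lib.Seat19.Glue
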