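import Mathlib

/-!
# Descent of (quasi-)separatedness along finite flat surjective morphisms (helper19)

If `m : U ⟶ M` is surjective and quasi-compact and `m ≫ f` is quasi-separated, so is `f`.
If moreover `m` is finite and flat and `m ≫ f` is separated, so is `f`.
-/

set_option autoImplicit false
set_option linter.unusedSectionVars false
set_option linter.style.haveILetI false
universe u

open CategoryTheory CategoryTheory.Limits AlgebraicGeometry Opposite

namespace Groth.Agent.Lib.Seat19.SepDesc

/-- quasi-compactness descends along surjective quasi-compact morphisms -/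
theorem quasiCompact_of_isPullback {A X Y Z : Scheme.{u}} {fst : A ⟶ X} {snd : A ⟶ Y}
    {f : X ⟶ Z} {g : Y ⟶ Z} (h : IsPullback fst snd f g) [Surjective f] [QuasiCompact f]
    [QuasiCompact fst] : QuasiCompact g := by
  constructor
  intro V hV hVc
  have h1 : IsCompact (f ⁻¹' V) := QuasiCompact.isCompact_preimage V hV hVc
  have h2 : IsCompact (fst ⁻¹' (f ⁻¹' V)) :=
    QuasiCompact.isCompact_preimage _ (hV.preimage f.continuous) h1
  have h3 : snd.base '' (fst.base ⁻¹' (f.base ⁻¹' V)) = g.base ⁻¹' V := by
    rw [Scheme.image_preimage_eq_of_isPullback h, Set.image_preimage_eq _ f.surjective]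
  rw [← h3]
  exact h2.image snd.continuous

variable {U M B : Scheme.{u}} (m : U ⟶ M) (f : M ⟶ B)

/-- the comparison `U ×_M U ⟶ U ×_B U` -/
noncomputable abbrev jj : pullback m m ⟶ pullback (m ≫ f) (m ≫ f) :=
  pullback.map m m (m ≫ f) (m ≫ f) (𝟙 _) (𝟙 _) f (Category.id_comp _).symm (Category.id_comp _).symm

/-- the map `U ×_B U ⟶ M ×_B M` -/
noncomputable abbrev mm : pullback (m ≫ f) (m ≫ f) ⟶ pullback f f :=
  pullback.map (m ≫ f) (m ≫ f) f f m m (𝟙 _) (Category.comp_id _) (Category.comp_id _)

theorem isPullback_jj : IsPullback (pullback.fst m m ≫ m) (jj m f) (pullback.diagonal f) (mm m f) :=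
  pullback_map_diagonal_isPullback m m f

theorem mm_of (P : MorphismProperty Scheme.{u}) [P.IsStableUnderBaseChange]
    [P.IsStableUnderComposition] (hm : P m) : P (mm m f) :=
  MorphismProperty.pullbackMap (P := P) (f := m ≫ f) (g := m ≫ f) (f' := f) (g' := f) hm hm rfl rfl

theorem jj_fst : jj m f ≫ pullback.fst (m ≫ f) (m ≫ f) = pullback.fst m m :=
  (pullback.lift_fst _ _ _).trans (Category.comp_id _)

set_option backward.isDefEq.respectTransparency.types false in
theorem quasiSeparated_of_comp [Surjective m] [QuasiCompact m] [QuasiSeparated (m ≫ f)] :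
    QuasiSeparated f := by
  constructor
  haveI : QuasiCompact (jj m f ≫ pullback.fst (m ≫ f) (m ≫ f)) := by
    rw [jj_fst]
    infer_instance
  haveI : QuasiCompact (jj m f) := QuasiCompact.of_comp (jj m f) (pullback.fst (m ≫ f) (m ≫ f))
  haveI : Surjective (mm m f) := mm_of m f @Surjective inferInstance
  haveI : QuasiCompact (mm m f) := mm_of m f @QuasiCompact inferInstance
  exact quasiCompact_of_isPullback (isPullback_jj m f).flip

set_option backward.isDefEq.respectTransparency.types false in
theorem isSeparated_of_comp [Surjective m] [Flat m] [IsFinite m] [IsSeparated (m ≫ f)] :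
    IsSeparated f := by
  constructor
  haveI : UniversallyClosed (jj m f ≫ pullback.fst (m ≫ f) (m ≫ f)) := by
    rw [jj_fst]
    infer_instance
  haveI : UniversallyClosed (jj m f) :=
    UniversallyClosed.of_comp_of_isSeparated (jj m f) (pullback.fst (m ≫ f) (m ≫ f))
  haveI : Surjective (mm m f) := mm_of m f @Surjective inferInstance
  haveI : QuasiCompact (mm m f) := mm_of m f @QuasiCompact inferInstance
  haveI : Flat (mm m f) := mm_of m f @Flat inferInstance
  have huc : UniversallyClosed (pullback.diagonal f) :=
    MorphismProperty.of_isPullback_of_descendsAlong (P := @UniversallyClosed)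
      (Q := @Surjective ⊓ @Flat ⊓ @QuasiCompact) (isPullback_jj m f).flip
      ⟨⟨inferInstance, inferInstance⟩, inferInstance⟩ inferInstance
  exact IsClosedImmersion.of_isPreimmersion _ (pullback.diagonal f).isClosedMap.isClosed_range

theorem quasiSeparatedSpace_of_surjective [Surjective m] [QuasiCompact m]
    [QuasiSeparatedSpace U] : QuasiSeparatedSpace M := by
  rw [quasiSeparatedSpace_iff_quasiSeparated] at *
  haveI : QuasiSeparated (m ≫ terminal.from M) := by
    rw [terminal.comp_from]
    infer_instance
  exact quasiSeparated_of_comp m (terminal.from M)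

theorem isSeparated_of_surjective [Surjective m] [Flat m] [IsFinite m]
    [U.IsSeparated] : M.IsSeparated := by
  rw [Scheme.isSeparated_iff] at *
  haveI : IsSeparated (m ≫ terminal.from M) := by
    rw [terminal.comp_from]
    infer_instance
  exact isSeparated_of_comp m (terminal.from M)

end Groth.Agent.Lib.Seat19.SepDesc
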