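import Mathlib
import Groth.Prelude.Def_Grpd
import Groth.Prelude.Def_Mor2
import Groth.Prelude.Def_QuotSh
import Groth.Prelude.Def_AlgSp
import Groth.Agent.Lib.Seat19SepDesc
import Groth.Agent.Lib.Helper12QuotSh

/-!
# Separation properties of a finite locally free quotient (helper19)
-/

set_option autoImplicit false
set_option linter.unusedSectionVars false
set_option linter.style.haveILetI false
universe u

open CategoryTheory CategoryTheory.Limits AlgebraicGeometry Opposite

namespace Groth.Agent.Lib.Seat19.Glue9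

open Groth.Agent.Lib.Helper12.QuotShLib

/-- a quotient map for the fppf topology is surjective -/
theorem surjective_of_isQuotient {S : Scheme.{u}} {R U Y : Over S} (s t : R ⟶ U) (q : U ⟶ Y)
    (hq : QuotSh.IsQuotient Scheme.fppfPrecoverage s t q) : Surjective q.left := by
  obtain ⟨w, hiso⟩ := hq
  have hepi : Epi (QuotSh.repMap Scheme.fppfPrecoverage q) := by
    have hπ : QuotSh.quotπ Scheme.fppfPrecoverage s t ≫
        QuotSh.quotDesc Scheme.fppfPrecoverage q w = QuotSh.repMap Scheme.fppfPrecoverage q :=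
      coequalizer.π_desc _ _
    rw [← hπ]
    have : Epi (QuotSh.quotπ Scheme.fppfPrecoverage s t) := coequalizer.π_epi
    infer_instance
  obtain ⟨R', hR', hlift⟩ := exists_cover_of_epi Scheme.fppfPrecoverage q hepi
  obtain ⟨I, Z, φ, rfl⟩ := Presieve.exists_eq_ofArrows R'
  let 𝒰 : Scheme.Cover Scheme.fppfPrecoverage Y.left := ⟨⟨I, Z, φ⟩, hR'⟩
  refine ⟨fun x => ?_⟩
  obtain ⟨j, y, hy⟩ := 𝒰.exists_eq x
  obtain ⟨l, hl⟩ := hlift (φ j) ⟨j⟩
  refine ⟨l.left y, ?_⟩
  rw [← Scheme.Hom.comp_apply, hl]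
  exact hy

theorem main5 {S : Scheme.{u}} (G : Grpd.GroupoidScheme S)
    (M : Over S) (m : Over.mk G.pU ⟶ M) (hm : Mor2.IsFinLocFree m.left)
    (hq : QuotSh.IsQuotient Scheme.fppfPrecoverage
      (Over.homMk G.s G.s_over : Over.mk G.pR ⟶ Over.mk G.pU)
      (Over.homMk G.t G.t_over : Over.mk G.pR ⟶ Over.mk G.pU) m) :
    (QuasiSeparated G.pU → QuasiSeparated M.hom) ∧
      (QuasiSeparatedSpace ↥G.U → QuasiSeparatedSpace ↥M.left) ∧
      (IsSeparated G.pU → IsSeparated M.hom) ∧ (G.U.IsSeparated → M.left.IsSeparated) := by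
  obtain ⟨h1, h2, h3⟩ := hm
  haveI := h1
  haveI := h2
  haveI := h3
  haveI : Surjective m.left := surjective_of_isQuotient _ _ m hq
  have hw : m.left ≫ M.hom = G.pU := Over.w m
  refine ⟨?_, ?_, ?_, ?_⟩
  · intro h
    haveI : QuasiSeparated (m.left ≫ M.hom) := by rw [hw]; exact h
    exact Groth.Agent.Lib.Seat19.SepDesc.quasiSeparated_of_comp m.left M.hom
  · intro h
    haveI : QuasiSeparatedSpace ↥(Over.mk G.pU).left := h
    exact Groth.Agent.Lib.Seat19.SepDesc.quasiSeparatedSpace_of_surjective m.left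
  · intro h
    haveI : IsSeparated (m.left ≫ M.hom) := by rw [hw]; exact h
    exact Groth.Agent.Lib.Seat19.SepDesc.isSeparated_of_comp m.left M.hom
  · intro h
    haveI : (Over.mk G.pU).left.IsSeparated := h
    exact Groth.Agent.Lib.Seat19.SepDesc.isSeparated_of_surjective m.left

end Groth.Agent.Lib.Seat19.Glue9
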