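import Mathlib
import Groth.Prelude.Def_Grpd
import Groth.Prelude.Def_AlgGrp
import Groth.Prelude.Def_Mor2
import Groth.Prelude.Def_NonAbH2
import Groth.Agent.Lib.Seat19ActGrpd2
import Groth.Agent.Lib.Seat19Glue8
import Groth.Agent.Lib.Seat19Glue9

/-!
# Quotient of a free action of a finite locally free group scheme (helper19)
-/

set_option autoImplicit false
set_option linter.unusedSectionVars false
set_option linter.style.haveILetI false
universe u

open CategoryTheory CategoryTheory.Limits MonoidalCategory CartesianMonoidalCategory MonObj GrpObj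
  AlgebraicGeometry
open Groth.Agent.Lib.Helper12

namespace Groth.Agent.Lib.Seat19.ActGrpd

theorem main {S : Scheme.{u}} (G X : Over S) [GrpObj G]
    (a : AlgGrp.Action G X) (hG : Mor2.IsFinLocFree G.hom)
    (hfree : ∀ (T : Over S) (g : T ⟶ G) (x : T ⟶ X), lift g x ≫ a.act = x → g = toUnit T ≫ η[G])
    (h3 : IsAffineHom X.hom ∨ (∃ (R : CommRingCat.{u}) (i : X.left ⟶ Spec R), IsOpenImmersion i) ∨
      UniversallyInjective G.hom) :
    ∃ (M : Over S) (q : X ⟶ M), QuotSh.IsQuotient Scheme.fppfPrecoverage (snd G X) a.act q ∧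
      IsPullback a.act.left (snd G X).left q.left q.left ∧
      NonAbH1.IsLocallyTrivialFor Scheme.fppfPrecoverage (Over.mk q.left) := by
  obtain ⟨M, m, hm, hpb, hq⟩ := Groth.Agent.Lib.Seat19.Glue.main4 (grpd a) (s_finLocFree a hG)
    (mono_j a hfree) (fun Z _ hne => by
      obtain ⟨u, hu⟩ := hne
      obtain ⟨W, hW, hWo⟩ := exists_affine_orbit a hG h3 u
      exact ⟨u, hu, W, hW, hWo⟩)
  refine ⟨M, m, hq, hpb, ?_⟩
  obtain ⟨h1, h2, h3'⟩ := hm
  haveI := h1
  haveI := h2
  haveI := h3'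
  haveI : Surjective m.left := Groth.Agent.Lib.Seat19.Glue9.surjective_of_isQuotient _ _ _ hq
  refine ⟨Presieve.singleton m.left, Scheme.Hom.singleton_mem_fppfPrecoverage m.left, ?_⟩
  rintro S' f ⟨⟩
  exact ⟨𝟙 _, Category.id_comp _⟩

end Groth.Agent.Lib.Seat19.ActGrpd
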