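import Mathlib.NumberTheory.Padics.PadicVal.Basic
import Mathlib.Data.Nat.Choose.Multinomial
import Mathlib.Data.Nat.Digits.Lemmas
import Mathlib.Data.Nat.Choose.Factorization

/-!
# Combinatorial lemmas for Ax's theorem (Seat 19)

`rho Q x` is the representative in `{1, …, Q}` of `x` modulo `Q` for `x > 0`, and `0` for `x = 0`.
We prove the digit-sum inequality `(p - 1) * ∑_{l < a} rho (p^a - 1) (p^l x) ≤ s_p(x) * (p^a - 1)` and the
formula for the `p`-adic valuation of a multinomial coefficient in terms of digit sums.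
-/

namespace Groth.Agent.Lib.Seat19.AxDigits

open Finset

/-- The representative in `{1, …, Q}` of `x` modulo `Q` if `x > 0`, and `0` if `x = 0`. -/
def rho (Q x : ℕ) : ℕ := if x = 0 then 0 else (x - 1) % Q + 1

theorem rho_zero (Q : ℕ) : rho Q 0 = 0 := by simp [rho]

theorem rho_eq_zero_iff {Q x : ℕ} : rho Q x = 0 ↔ x = 0 := by
  unfold rho; split_ifs with h <;> simp [h]

theorem rho_pos {Q x : ℕ} (hx : x ≠ 0) : 0 < rho Q x := by
  rcases Nat.eq_zero_or_pos (rho Q x) with h | h
  · exact absurd (rho_eq_zero_iff.mp h) hx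
  · exact h

theorem rho_le {Q : ℕ} (hQ : 0 < Q) (x : ℕ) : rho Q x ≤ Q := by
  unfold rho; split_ifs with h
  · exact Nat.zero_le _
  · exact Nat.succ_le_of_lt (Nat.mod_lt _ hQ)

theorem rho_modEq (Q x : ℕ) : rho Q x ≡ x [MOD Q] := by
  unfold rho; split_ifs with h
  · subst h; rfl
  · have hx : x = (x - 1) + 1 := by omega
    conv_rhs => rw [hx]
    exact Nat.ModEq.add_right 1 (Nat.mod_modEq _ _)

theorem rho_le_self (Q x : ℕ) : rho Q x ≤ x := by
  unfold rho; split_ifs with h
  · exact Nat.zero_le _
  · have := Nat.mod_le (x - 1) Q; omega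

theorem rho_eq_self {Q x : ℕ} (hx : x ≤ Q) : rho Q x = x := by
  unfold rho; split_ifs with h
  · exact h.symm
  · rw [Nat.mod_eq_of_lt (by omega)]; omega

/-- `rho Q` only depends on the class modulo `Q` and on whether the argument is zero. -/
theorem rho_congr {Q x y : ℕ} (hQ : 0 < Q) (h : x ≡ y [MOD Q]) (h0 : x = 0 ↔ y = 0) :
    rho Q x = rho Q y := by
  by_cases hx : x = 0
  · have hy : y = 0 := h0.mp hx
    subst hx; subst hy; rfl
  · have hy : y ≠ 0 := fun hy => hx (h0.mpr hy)
    have h1 : rho Q x ≡ rho Q y [MOD Q] := ((rho_modEq Q x).trans h).trans (rho_modEq Q y).symm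
    have hxp := rho_pos (Q := Q) hx
    have hyp := rho_pos (Q := Q) hy
    have hxl := rho_le hQ x
    have hyl := rho_le hQ y
    -- both in [1, Q] and congruent mod Q
    have h2 : (rho Q x - 1) % Q = (rho Q y - 1) % Q := by
      have : rho Q x - 1 ≡ rho Q y - 1 [MOD Q] := by
        apply Nat.ModEq.add_right_cancel' 1
        rwa [Nat.sub_add_cancel hxp, Nat.sub_add_cancel hyp]
      exact this
    rw [Nat.mod_eq_of_lt (by omega), Nat.mod_eq_of_lt (by omega)] at h2
    omega

theorem rho_add_le {Q : ℕ} (hQ : 0 < Q) (x y : ℕ) : rho Q (x + y) ≤ rho Q x + rho Q y := by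
  by_cases hx : x = 0
  · subst hx; simp [rho_zero]
  by_cases hy : y = 0
  · subst hy; simp [rho_zero]
  by_cases hle : rho Q x + rho Q y ≤ Q
  · have hxp := rho_pos (Q := Q) hx
    have : rho Q (x + y) = rho Q (rho Q x + rho Q y) := by
      apply rho_congr hQ
      · exact ((rho_modEq Q x).add (rho_modEq Q y)).symm
      · constructor
        · intro h; omega
        · intro h; omega
    rw [this, rho_eq_self hle]
  · have := rho_le hQ (x + y); omega

theorem rho_mul_le {Q : ℕ} (hQ : 0 < Q) (n y : ℕ) : rho Q (n * y) ≤ n * rho Q y := by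
  induction n with
  | zero => simp [rho_zero]
  | succ n ih =>
    rw [Nat.succ_mul, Nat.succ_mul]
    exact (rho_add_le hQ _ _).trans (Nat.add_le_add_right ih _)

theorem rho_succ_mul {Q : ℕ} (hQ : 0 < Q) (y : ℕ) : rho Q ((Q + 1) * y) = rho Q y := by
  apply rho_congr hQ
  · have : (Q + 1) * y = Q * y + y := by ring
    rw [this]
    calc Q * y + y ≡ 0 + y [MOD Q] := Nat.ModEq.add_right y (by simp [Nat.ModEq])
      _ = y := by simp
  · constructor
    · intro h
      rcases Nat.mul_eq_zero.mp h with h | h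
      · omega
      · exact h
    · intro h; simp [h]

/-- `(p - 1) * ∑_{l < a} p^l = p^a - 1`. -/
theorem sub_one_mul_geom (p a : ℕ) (hp : 1 ≤ p) :
    (p - 1) * ∑ l ∈ range a, p ^ l = p ^ a - 1 := by
  induction a with
  | zero => simp
  | succ a ih =>
    rw [sum_range_succ, mul_add, ih]
    have h1 : 1 ≤ p ^ a := Nat.one_le_pow _ _ hp
    have h2 : p ^ (a + 1) = p * p ^ a := by ring
    have h3 : (p - 1) * p ^ a = p * p ^ a - p ^ a := by
      rw [Nat.sub_mul, one_mul]
    have h4 : p ^ a ≤ p * p ^ a := Nat.le_mul_of_pos_left _ hp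
    omega

/-- The digit-sum inequality. -/
theorem digit_sum_ineq (p a : ℕ) (hp : 2 ≤ p) (ha : 0 < a) (x : ℕ) :
    (p - 1) * ∑ l ∈ range a, rho (p ^ a - 1) (p ^ l * x) ≤ (Nat.digits p x).sum * (p ^ a - 1) := by
  have hQ : 0 < p ^ a - 1 := by
    have : 2 ^ a ≤ p ^ a := Nat.pow_le_pow_left hp a
    have : 2 ≤ 2 ^ a := by
      calc 2 = 2 ^ 1 := by norm_num
        _ ≤ 2 ^ a := Nat.pow_le_pow_right (by norm_num) ha
    omega
  have hQ1 : p ^ a - 1 + 1 = p ^ a := by omega
  induction x using Nat.strong_induction_on with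
  | _ x ih =>
    by_cases hx : x = 0
    · subst hx; simp [rho_zero]
    · have hxpos : 0 < x := Nat.pos_of_ne_zero hx
      have hdig : Nat.digits p x = (x % p) :: Nat.digits p (x / p) :=
        Nat.digits_def' hp hxpos
      rw [hdig, List.sum_cons]
      have hlt : x / p < x := Nat.div_lt_self hxpos hp
      have ih' := ih (x / p) hlt
      -- shift lemma
      have hshift : ∑ l ∈ range a, rho (p ^ a - 1) (p ^ (l + 1) * (x / p)) =
          ∑ l ∈ range a, rho (p ^ a - 1) (p ^ l * (x / p)) := by
        have e1 := sum_range_succ' (fun l => rho (p ^ a - 1) (p ^ l * (x / p))) a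
        have e2 := sum_range_succ (fun l => rho (p ^ a - 1) (p ^ l * (x / p))) a
        have e3 : rho (p ^ a - 1) (p ^ a * (x / p)) = rho (p ^ a - 1) (p ^ 0 * (x / p)) := by
          have := rho_succ_mul hQ (x / p)
          rw [hQ1] at this
          simpa using this
        omega
      have hterm : ∀ l ∈ range a, rho (p ^ a - 1) (p ^ l * x) ≤
          (x % p) * p ^ l + rho (p ^ a - 1) (p ^ (l + 1) * (x / p)) := by
        intro l hl
        have hl' : l < a := mem_range.mp hl
        have hx' : p ^ l * x = (x % p) * p ^ l + p ^ (l + 1) * (x / p) := by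
          conv_lhs => rw [← Nat.mod_add_div x p]
          ring
        rw [hx']
        refine (rho_add_le hQ _ _).trans (Nat.add_le_add_right ?_ _)
        refine (rho_mul_le hQ _ _).trans (Nat.mul_le_mul_left _ ?_)
        exact rho_le_self _ _
      have hsum : ∑ l ∈ range a, rho (p ^ a - 1) (p ^ l * x) ≤
          (x % p) * ∑ l ∈ range a, p ^ l + ∑ l ∈ range a, rho (p ^ a - 1) (p ^ l * (x / p)) := by
        rw [← hshift, mul_sum, ← sum_add_distrib]
        exact sum_le_sum hterm
      calc (p - 1) * ∑ l ∈ range a, rho (p ^ a - 1) (p ^ l * x)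
          ≤ (p - 1) * ((x % p) * ∑ l ∈ range a, p ^ l +
              ∑ l ∈ range a, rho (p ^ a - 1) (p ^ l * (x / p))) := Nat.mul_le_mul_left _ hsum
        _ = (x % p) * ((p - 1) * ∑ l ∈ range a, p ^ l) +
              (p - 1) * ∑ l ∈ range a, rho (p ^ a - 1) (p ^ l * (x / p)) := by ring
        _ ≤ (x % p) * (p ^ a - 1) + (Nat.digits p (x / p)).sum * (p ^ a - 1) := by
            rw [sub_one_mul_geom p a (by omega)]
            exact Nat.add_le_add_left ih' _
        _ = (x % p + (Nat.digits p (x / p)).sum) * (p ^ a - 1) := by ring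

end Groth.Agent.Lib.Seat19.AxDigits

namespace Groth.Agent.Lib.Seat19.AxDigits

open Finset Nat

/-- Non-truncated form of Kummer's theorem with digit sums. -/
theorem sub_one_mul_padicValNat_choose_add (p : ℕ) [hp : Fact p.Prime] (n k : ℕ) :
    (p - 1) * padicValNat p (Nat.choose (k + n) k) + (Nat.digits p (k + n)).sum =
      (Nat.digits p k).sum + (Nat.digits p n).sum := by
  have h1 : (k + n).choose k * k ! * n ! = (k + n)! := by
    have := Nat.add_choose_mul_factorial_mul_factorial n k
    rw [add_comm n k] at this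
    rw [← this]; ring
  have hc : (k + n).choose k ≠ 0 := (Nat.choose_pos (Nat.le_add_right k n)).ne'
  have h2 : padicValNat p ((k + n)!) =
      padicValNat p ((k + n).choose k) + padicValNat p (k !) + padicValNat p (n !) := by
    rw [← h1, padicValNat.mul (mul_ne_zero hc (Nat.factorial_ne_zero _)) (Nat.factorial_ne_zero _),
      padicValNat.mul hc (Nat.factorial_ne_zero _)]
  have h3 := sub_one_mul_padicValNat_factorial (p := p) (k + n)
  have h4 := sub_one_mul_padicValNat_factorial (p := p) k
  have h5 := sub_one_mul_padicValNat_factorial (p := p) n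
  have h6 := Nat.digit_sum_le p (k + n)
  have h7 := Nat.digit_sum_le p k
  have h8 := Nat.digit_sum_le p n
  rw [h2, mul_add, mul_add, h4, h5] at h3
  omega

/-- `(p - 1) v_p(multinomial) + s_p(∑ f) = ∑ s_p(f i)`. -/
theorem sub_one_mul_padicValNat_multinomial {ι : Type*} (p : ℕ) [hp : Fact p.Prime]
    (s : Finset ι) (f : ι → ℕ) :
    (p - 1) * padicValNat p (Nat.multinomial s f) + (Nat.digits p (∑ i ∈ s, f i)).sum =
      ∑ i ∈ s, (Nat.digits p (f i)).sum := by
  induction s using Finset.cons_induction with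
  | empty => simp
  | cons a s ha ih =>
    rw [Nat.multinomial_cons ha, sum_cons, sum_cons,
      padicValNat.mul (Nat.choose_pos (Nat.le_add_right _ _)).ne' (Nat.multinomial_pos s f).ne',
      mul_add]
    have := sub_one_mul_padicValNat_choose_add p (∑ i ∈ s, f i) (f a)
    omega

/-- The base `p` digit sum of `p ^ t * x` is that of `x`. -/
theorem digits_sum_pow_mul (p : ℕ) (hp : 2 ≤ p) (t x : ℕ) :
    (Nat.digits p (p ^ t * x)).sum = (Nat.digits p x).sum := by
  by_cases hx : x = 0
  · subst hx; simp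
  · rw [Nat.digits_base_pow_mul (by omega) (Nat.pos_of_ne_zero hx)]
    simp

/-- The base `p` digit sum of `p ^ a - 1` is `a * (p - 1)`. -/
theorem digits_sum_pow_sub_one (p : ℕ) (hp : 2 ≤ p) (a : ℕ) :
    (Nat.digits p (p ^ a - 1)).sum = a * (p - 1) := by
  induction a with
  | zero => simp
  | succ a ih =>
    have h1 : 1 ≤ p ^ a := Nat.one_le_pow _ _ (by omega)
    have h2 : p ^ (a + 1) - 1 = (p - 1) + p * (p ^ a - 1) := by
      have : p ^ (a + 1) = p * p ^ a := by ring
      have h3 : p * (p ^ a - 1) = p * p ^ a - p := by rw [Nat.mul_sub, mul_one]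
      have h4 : p ≤ p * p ^ a := Nat.le_mul_of_pos_right _ (by omega)
      omega
    rw [h2, Nat.digits_add p (by omega) (p - 1) _ (by omega) (Or.inl (by omega))]
    simp [ih]; ring

end Groth.Agent.Lib.Seat19.AxDigits
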