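import Groth.Agent.Lib.Seat19AxDigits
import Mathlib.Algebra.BigOperators.ModEq

/-!
# The key divisibility estimate for Ax's theorem (Seat 19)
-/

namespace Groth.Agent.Lib.Seat19.AxKey

open Finset Nat Groth.Agent.Lib.Seat19.AxDigits

variable {ι : Type*}

/-- One "Frobenius twist" of the estimate. -/
theorem twist_estimate (Q : ℕ) (hQ : 0 < Q) (N d j : ℕ) (hd : 0 < d) (hj : j * d < N)
    (S : Finset ι) (e : ι → Fin N → ℕ) (he : ∀ m ∈ S, ∑ i, e m i ≤ d)
    (κ κ' : ι → ℕ)
    (hκ' : ∀ m ∈ S, (κ' m = 0 ↔ κ m = 0))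
    (hT : Q ∣ ∑ m ∈ S, κ' m)
    (hU' : ∀ i, Q ∣ ∑ m ∈ S, κ' m * e m i) :
    Q * (j + 1) ≤ ∑ m ∈ S, κ' m +
      Q * (univ.filter (fun i : Fin N => ∑ m ∈ S, κ m * e m i = 0)).card := by
  classical
  set E := (univ.filter (fun i : Fin N => ∑ m ∈ S, κ m * e m i = 0)).card with hE
  obtain ⟨g, hg⟩ := hT
  -- zero pattern agrees
  have hzero : ∀ i : Fin N, (∑ m ∈ S, κ' m * e m i = 0 ↔ ∑ m ∈ S, κ m * e m i = 0) := by
    intro i
    simp only [sum_eq_zero_iff, mul_eq_zero]
    constructor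
    · intro h m hm
      rcases h m hm with h | h
      · exact Or.inl ((hκ' m hm).mp h)
      · exact Or.inr h
    · intro h m hm
      rcases h m hm with h | h
      · exact Or.inl ((hκ' m hm).mpr h)
      · exact Or.inr h
  -- lower bound
  have hlow : Q * (N - E) ≤ ∑ i : Fin N, ∑ m ∈ S, κ' m * e m i := by
    have hcard : (univ.filter (fun i : Fin N => ¬ ∑ m ∈ S, κ m * e m i = 0)).card = N - E := by
      have := card_filter_add_card_filter_not (s := (univ : Finset (Fin N)))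
        (fun i : Fin N => ∑ m ∈ S, κ m * e m i = 0)
      rw [Finset.card_univ, Fintype.card_fin] at this
      omega
    calc Q * (N - E) = ∑ i ∈ univ.filter (fun i : Fin N => ¬ ∑ m ∈ S, κ m * e m i = 0), Q := by
          rw [sum_const, hcard, smul_eq_mul, mul_comm]
      _ ≤ ∑ i ∈ univ.filter (fun i : Fin N => ¬ ∑ m ∈ S, κ m * e m i = 0),
            ∑ m ∈ S, κ' m * e m i := by
          apply sum_le_sum
          intro i hi
          have hi' : ¬ ∑ m ∈ S, κ m * e m i = 0 := (mem_filter.mp hi).2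
          have hne : ∑ m ∈ S, κ' m * e m i ≠ 0 := fun h => hi' ((hzero i).mp h)
          exact Nat.le_of_dvd (Nat.pos_of_ne_zero hne) (hU' i)
      _ ≤ ∑ i : Fin N, ∑ m ∈ S, κ' m * e m i :=
          sum_le_sum_of_subset (filter_subset _ _)
  -- upper bound
  have hup : ∑ i : Fin N, ∑ m ∈ S, κ' m * e m i ≤ d * (Q * g) := by
    rw [sum_comm, ← hg, mul_sum]
    apply sum_le_sum
    intro m hm
    rw [← mul_sum, mul_comm]
    exact Nat.mul_le_mul_right _ (he m hm)
  have h1 : Q * (N - E) ≤ Q * (d * g) := by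
    calc Q * (N - E) ≤ d * (Q * g) := hlow.trans hup
      _ = Q * (d * g) := by ring
  have h2 : N - E ≤ d * g := Nat.le_of_mul_le_mul_left h1 hQ
  have h3 : j + 1 ≤ g + E := by
    by_contra hcon
    have hle : g + E ≤ j := by omega
    have h4 : d * g + E ≤ d * (g + E) := by
      have : E ≤ d * E := Nat.le_mul_of_pos_left _ hd
      rw [mul_add]; omega
    have h5 : d * (g + E) ≤ d * j := Nat.mul_le_mul_left _ hle
    have h6 : d * j = j * d := mul_comm _ _
    omega
  calc Q * (j + 1) ≤ Q * (g + E) := Nat.mul_le_mul_left _ h3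
    _ = ∑ m ∈ S, κ' m + Q * E := by rw [hg]; ring

/-- The key divisibility for Ax's theorem. -/
theorem key_dvd (p a : ℕ) [hp : Fact p.Prime] (ha : 0 < a) (N d j M : ℕ) (hd : 0 < d)
    (hj : j * d < N) (S : Finset ι) (e : ι → Fin N → ℕ) (he : ∀ m ∈ S, ∑ i, e m i ≤ d)
    (κ : ι → ℕ) (hκ : ∑ m ∈ S, κ m = (p ^ a - 1) * p ^ (a * M))
    (hU : ∀ i, (p ^ a - 1) ∣ ∑ m ∈ S, κ m * e m i) :
    p ^ (a * j) ∣ Nat.multinomial S κ *
      (p ^ a) ^ (univ.filter (fun i : Fin N => ∑ m ∈ S, κ m * e m i = 0)).card := by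
  classical
  have hp2 : 2 ≤ p := hp.out.two_le
  set Q := p ^ a - 1 with hQdef
  have hQ : 0 < Q := by
    have : 2 ^ a ≤ p ^ a := Nat.pow_le_pow_left hp2 a
    have : 2 ≤ 2 ^ a := by
      calc 2 = 2 ^ 1 := by norm_num
        _ ≤ 2 ^ a := Nat.pow_le_pow_right (by norm_num) ha
    omega
  have hQ1 : Q + 1 = p ^ a := by omega
  set E := (univ.filter (fun i : Fin N => ∑ m ∈ S, κ m * e m i = 0)).card with hE
  set v := padicValNat p (Nat.multinomial S κ) with hv
  -- p^l ≡ ? : twisting keeps divisibility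
  have htw : ∀ l : ℕ, Q * (j + 1) ≤ ∑ m ∈ S, rho Q (p ^ l * κ m) + Q * E := by
    intro l
    apply twist_estimate Q hQ N d j hd hj S e he κ (fun m => rho Q (p ^ l * κ m))
    · intro m _
      rw [rho_eq_zero_iff]
      constructor
      · intro h
        rcases Nat.mul_eq_zero.mp h with h | h
        · exact absurd h (pow_ne_zero _ hp.out.ne_zero)
        · exact h
      · intro h; simp [h]
    · -- Q ∣ ∑ rho (p^l κ_m)
      have h1 : ∑ m ∈ S, rho Q (p ^ l * κ m) ≡ ∑ m ∈ S, p ^ l * κ m [MOD Q] := by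
        apply Nat.ModEq.sum
        intro m _
        exact rho_modEq Q _
      rw [← mul_sum, hκ] at h1
      have h2 : p ^ l * (Q * p ^ (a * M)) ≡ 0 [MOD Q] := by
        rw [Nat.modEq_zero_iff_dvd]
        exact Dvd.dvd.mul_left (Dvd.intro _ rfl) _
      exact (Nat.modEq_zero_iff_dvd).mp (h1.trans h2)
    · intro i
      have h1 : ∑ m ∈ S, rho Q (p ^ l * κ m) * e m i ≡ ∑ m ∈ S, (p ^ l * κ m) * e m i [MOD Q] := by
        apply Nat.ModEq.sum
        intro m _
        exact (rho_modEq Q _).mul_right _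
      have h2 : ∑ m ∈ S, (p ^ l * κ m) * e m i = p ^ l * ∑ m ∈ S, κ m * e m i := by
        rw [mul_sum]; apply sum_congr rfl; intro m _; ring
      rw [h2] at h1
      have h3 : p ^ l * ∑ m ∈ S, κ m * e m i ≡ 0 [MOD Q] := by
        rw [Nat.modEq_zero_iff_dvd]
        exact Dvd.dvd.mul_left (hU i) _
      exact (Nat.modEq_zero_iff_dvd).mp (h1.trans h3)
  -- sum over l < a
  have hsum : a * (Q * (j + 1)) ≤ ∑ l ∈ range a, ∑ m ∈ S, rho Q (p ^ l * κ m) + a * (Q * E) := by
    have := sum_le_sum (s := range a) (fun l _ => htw l)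
    simp only [sum_const, card_range, smul_eq_mul, sum_add_distrib] at this
    exact this
  -- digit-sum inequality summed over S
  have hdig : (p - 1) * ∑ l ∈ range a, ∑ m ∈ S, rho Q (p ^ l * κ m) ≤
      (∑ m ∈ S, (Nat.digits p (κ m)).sum) * Q := by
    rw [sum_comm, mul_sum, sum_mul]
    apply sum_le_sum
    intro m _
    exact digit_sum_ineq p a hp2 ha (κ m)
  -- the multinomial valuation
  have hmult := sub_one_mul_padicValNat_multinomial p S κ
  rw [hκ, mul_comm (p ^ a - 1) (p ^ (a * M)), digits_sum_pow_mul p hp2,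
    digits_sum_pow_sub_one p hp2] at hmult
  -- combine
  have hp1 : 0 < p - 1 := by omega
  have hmain : a * j ≤ v + a * E := by
    have h1 : (p - 1) * (a * (Q * (j + 1))) ≤
        (p - 1) * (∑ l ∈ range a, ∑ m ∈ S, rho Q (p ^ l * κ m)) + (p - 1) * (a * (Q * E)) := by
      rw [← mul_add]; exact Nat.mul_le_mul_left _ hsum
    have h2 : (p - 1) * (a * (Q * (j + 1))) ≤
        ((p - 1) * v + a * (p - 1)) * Q + (p - 1) * (a * (Q * E)) := by
      rw [hmult]; exact h1.trans (Nat.add_le_add_right hdig _)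
    have h3 : ((p - 1) * Q) * (a * (j + 1)) ≤ ((p - 1) * Q) * (v + a + a * E) := by
      calc ((p - 1) * Q) * (a * (j + 1)) = (p - 1) * (a * (Q * (j + 1))) := by ring
        _ ≤ ((p - 1) * v + a * (p - 1)) * Q + (p - 1) * (a * (Q * E)) := h2
        _ = ((p - 1) * Q) * (v + a + a * E) := by ring
    have h4 := Nat.le_of_mul_le_mul_left h3 (Nat.mul_pos hp1 hQ)
    have h5 : a * (j + 1) = a * j + a := by ring
    omega
  have hvdvd : p ^ v ∣ Nat.multinomial S κ := pow_padicValNat_dvd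
  calc p ^ (a * j) ∣ p ^ (v + a * E) := pow_dvd_pow _ hmain
    _ = p ^ v * (p ^ a) ^ E := by rw [pow_add, pow_mul]
    _ ∣ Nat.multinomial S κ * (p ^ a) ^ E := Nat.mul_dvd_mul_right hvdvd _

end Groth.Agent.Lib.Seat19.AxKey
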