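import Mathlib.RingTheory.WittVector.Complete
import Mathlib.RingTheory.WittVector.Teichmuller
import Mathlib.RingTheory.WittVector.Domain
import Mathlib.FieldTheory.Finite.Basic
import Mathlib.FieldTheory.Perfect
import Mathlib.NumberTheory.Basic

/-!
# Witt vector input for Ax's theorem (Seat 19)

For a finite field `k` of characteristic `p` we use `𝕎 k` as a characteristic zero lift, with the
Teichmüller representatives.
-/

namespace Groth.Agent.Lib.Seat19.AxWitt

open Finset WittVector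

variable (p : ℕ) [hp : Fact p.Prime] (k : Type*) [Field k] [Fintype k] [CharP k p]

local notation "𝕎" => WittVector p

theorem constantCoeff_teichmuller (x : k) :
    (WittVector.constantCoeff (teichmuller p x) : k) = x :=
  teichmuller_coeff_zero p x

/-- Divisibility of a natural number by `p ^ m` can be checked in `𝕎 k`. -/
theorem natCast_dvd_descent (m n : ℕ) (h : ((p : 𝕎 k) ^ m) ∣ (n : 𝕎 k)) : p ^ m ∣ n := by
  induction m generalizing n with
  | zero => simp
  | succ m ih =>
    have h1 : (p : 𝕎 k) ∣ (n : 𝕎 k) := Dvd.dvd.trans (Dvd.intro_left _ (by rw [← pow_succ])) h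
    have h2 : (n : k) = 0 := by
      obtain ⟨w, hw⟩ := h1
      have := congrArg (WittVector.constantCoeff (p := p) (R := k)) hw
      rw [map_natCast, map_mul, map_natCast, CharP.cast_eq_zero k p, zero_mul] at this
      exact this
    have h3 : p ∣ n := (CharP.cast_eq_zero_iff k p n).mp h2
    obtain ⟨n', rfl⟩ := h3
    obtain ⟨w, hw⟩ := h
    have h4 : ((p : 𝕎 k) ^ m) ∣ (n' : 𝕎 k) := by
      refine ⟨w, ?_⟩
      have hp0 : (p : 𝕎 k) ≠ 0 := WittVector.p_nonzero p k
      apply mul_left_cancel₀ hp0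
      rw [Nat.cast_mul] at hw
      rw [hw, pow_succ]; ring
    rw [pow_succ, mul_comm]
    exact Nat.mul_dvd_mul_left p (ih n' h4)

/-- Elements of `𝕎 k` with vanishing constant coefficient are divisible by `p`. -/
theorem p_dvd_of_coeff_zero (y : 𝕎 k) (h : y.coeff 0 = 0) : (p : 𝕎 k) ∣ y := by
  have := (WittVector.mem_span_p_iff_coeff_zero_eq_zero (p := p) (k := k) y).mpr h
  exact Ideal.mem_span_singleton.mp this

/-- `y ^ D` vanishes modulo `p ^ m` when `y.coeff 0 = 0`. -/
theorem pow_dvd_of_coeff_zero (D m : ℕ) (hm2 : m ≤ D) (y : 𝕎 k) (h : y.coeff 0 = 0) :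
    ((p : 𝕎 k) ^ m) ∣ y ^ D := by
  obtain ⟨w, rfl⟩ := p_dvd_of_coeff_zero p k y h
  rw [mul_pow]
  exact Dvd.dvd.mul_right (pow_dvd_pow _ hm2) _

/-- `y ^ D` is `1` modulo `p ^ m` when `y.coeff 0 ≠ 0`, for `D = (q - 1) p ^ (a M)`. -/
theorem pow_sub_one_dvd_of_coeff_ne_zero (a M m : ℕ) (hq : Fintype.card k = p ^ a)
    (hm1 : m ≤ a * M + 1) (y : 𝕎 k) (h : y.coeff 0 ≠ 0) :
    ((p : 𝕎 k) ^ m) ∣ y ^ ((p ^ a - 1) * p ^ (a * M)) - 1 := by
  -- y^(q-1) ≡ 1 mod p
  have h1 : (p : 𝕎 k) ∣ y ^ (p ^ a - 1) - 1 := by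
    apply p_dvd_of_coeff_zero
    have h2 : (WittVector.constantCoeff (y ^ (p ^ a - 1) - 1) : k) = 0 := by
      rw [map_sub, map_pow, map_one, ← hq]
      have : (WittVector.constantCoeff y : k) ≠ 0 := h
      rw [FiniteField.pow_card_sub_one_eq_one _ this, sub_self]
    exact h2
  have h3 := dvd_sub_pow_of_dvd_sub h1 (a * M)
  rw [one_pow, ← pow_mul] at h3
  exact Dvd.dvd.trans (pow_dvd_pow _ hm1) h3

/-- Power sums of Teichmüller representatives: exponent zero. -/
theorem sum_teichmuller_pow_zero : ∑ x : k, (teichmuller p x) ^ 0 = (Fintype.card k : 𝕎 k) := by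
  simp

/-- Power sums of Teichmüller representatives vanish unless `q - 1` divides the exponent. -/
theorem sum_teichmuller_pow_eq_zero (u : ℕ) (hu : ¬ (Fintype.card k - 1) ∣ u) :
    ∑ x : k, (teichmuller p x) ^ u = (0 : 𝕎 k) := by
  classical
  -- find g with g^u ≠ 1
  have h1 : ¬ ∀ x : kˣ, x ^ u = 1 := fun h => hu ((FiniteField.forall_pow_eq_one_iff k u).mp h)
  push Not at h1
  obtain ⟨g, hg⟩ := h1
  have hsum : ∑ x : k, (teichmuller p x) ^ u =
      (teichmuller p ((g : k) ^ u)) * ∑ x : k, (teichmuller p x) ^ u := by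
    rw [mul_sum]
    have := Fintype.sum_equiv (Equiv.mulLeft₀ (g : k) g.ne_zero)
      (fun x => (teichmuller p ((g : k) ^ u)) * (teichmuller p x) ^ u)
      (fun x => (teichmuller p x) ^ u) (fun x => by
        simp only [Equiv.mulLeft₀_apply, map_mul, map_pow, mul_pow])
    exact this.symm
  have hne : teichmuller p ((g : k) ^ u) ≠ (1 : 𝕎 k) := by
    intro h
    have := congrArg (fun w : 𝕎 k => w.coeff 0) h
    simp only [teichmuller_coeff_zero, WittVector.one_coeff_zero] at this
    apply hg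
    ext
    simpa using this
  have h2 : (teichmuller p ((g : k) ^ u) - 1) * ∑ x : k, (teichmuller p x) ^ u = 0 := by
    rw [sub_mul, one_mul, ← hsum, sub_self]
  rcases mul_eq_zero.mp h2 with h | h
  · exact absurd (sub_eq_zero.mp h) hne
  · exact h

end Groth.Agent.Lib.Seat19.AxWitt
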