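import Groth.Agent.Lib.Seat19AxKey
import Groth.Agent.Lib.Seat19AxWitt
import Mathlib.Algebra.MvPolynomial.Eval
import Mathlib.Algebra.Order.Antidiag.Pi

/-!
# Ax's theorem (Seat 19)

Let `k` be a finite field with `q` elements and `F` a polynomial in `N` variables all of whose monomials
have degree at most `d > 0`. If `j * d < N` then `q ^ j` divides the number of zeros of `F` in `k ^ N`.
-/

namespace Groth.Agent.Lib.Seat19.AxMain

open Finset WittVector Groth.Agent.Lib.Seat19.AxDigits Groth.Agent.Lib.Seat19.AxKey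
  Groth.Agent.Lib.Seat19.AxWitt

variable (p : ℕ) [hp : Fact p.Prime] (k : Type*) [Field k] [Fintype k] [CharP k p]

local notation "𝕎" => WittVector p

/-- The Teichmüller lift of the value of `F` at `x`. -/
noncomputable def lift {N : ℕ} (F : MvPolynomial (Fin N) k) (x : Fin N → k) : 𝕎 k :=
  ∑ e ∈ F.support, teichmuller p (F.coeff e) * ∏ i, teichmuller p (x i) ^ (e i)

theorem lift_coeff_zero {N : ℕ} (F : MvPolynomial (Fin N) k) (x : Fin N → k) :
    (lift p k F x).coeff 0 = MvPolynomial.eval x F := by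
  have h : (lift p k F x).coeff 0 = WittVector.constantCoeff (lift p k F x) := rfl
  rw [h, lift, map_sum, MvPolynomial.eval_eq']
  apply sum_congr rfl
  intro e _
  simp only [map_mul, map_prod, map_pow, constantCoeff_teichmuller]

/-- Expansion of one `D`-th power, in a general commutative ring. -/
theorem pow_expand {A : Type*} [CommRing A] {ι : Type*} [DecidableEq ι] {N : ℕ} (S : Finset ι)
    (c : ι → A) (e : ι → Fin N → ℕ) (y : Fin N → A) (D : ℕ) :
    (∑ m ∈ S, c m * ∏ i, y i ^ (e m i)) ^ D =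
      ∑ κ ∈ piAntidiag S D, (Nat.multinomial S κ : A) *
        ((∏ m ∈ S, c m ^ κ m) * ∏ i : Fin N, y i ^ (∑ m ∈ S, κ m * e m i)) := by
  rw [sum_pow_eq_sum_piAntidiag]
  apply sum_congr rfl
  intro κ _
  have h2 : ∀ m ∈ S, (c m * ∏ i, y i ^ (e m i)) ^ κ m =
      c m ^ κ m * ∏ i : Fin N, y i ^ (κ m * e m i) := by
    intro m _
    rw [mul_pow, ← prod_pow]
    refine congrArg (fun z => c m ^ κ m * z) ?_
    apply prod_congr rfl
    intro i _
    rw [← pow_mul, mul_comm]
  rw [prod_congr rfl h2, prod_mul_distrib, prod_comm]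
  refine congrArg (fun z => (Nat.multinomial S κ : A) * ((∏ m ∈ S, c m ^ κ m) * z)) ?_
  apply prod_congr rfl
  intro i _
  rw [prod_pow_eq_pow_sum]

/-- Summing the expansion over all points, in a general commutative ring. -/
theorem sum_pow_expand {A : Type*} [CommRing A] {ι : Type*} [DecidableEq ι] {N : ℕ} (S : Finset ι)
    (c : ι → A) (e : ι → Fin N → ℕ) {κ₀ : Type*} [Fintype κ₀] [DecidableEq κ₀]
    (τ : κ₀ → A) (D : ℕ) :
    ∑ x : Fin N → κ₀, (∑ m ∈ S, c m * ∏ i, τ (x i) ^ (e m i)) ^ D =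
      ∑ κ ∈ piAntidiag S D, (Nat.multinomial S κ : A) *
        ((∏ m ∈ S, c m ^ κ m) * ∏ i : Fin N, ∑ t : κ₀, τ t ^ (∑ m ∈ S, κ m * e m i)) := by
  have h1 : ∀ x : Fin N → κ₀, (∑ m ∈ S, c m * ∏ i, τ (x i) ^ (e m i)) ^ D =
      ∑ κ ∈ piAntidiag S D, (Nat.multinomial S κ : A) *
        ((∏ m ∈ S, c m ^ κ m) * ∏ i : Fin N, τ (x i) ^ (∑ m ∈ S, κ m * e m i)) :=
    fun x => pow_expand S c e (fun i => τ (x i)) D
  rw [Fintype.sum_congr _ _ h1, sum_comm]
  apply sum_congr rfl
  intro κ _
  rw [← mul_sum, ← mul_sum]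
  refine congrArg (fun z => (Nat.multinomial S κ : A) * ((∏ m ∈ S, c m ^ κ m) * z)) ?_
  rw [prod_univ_sum]
  simp only [Fintype.piFinset_univ]

/-- The expansion of the `D`-th power sum. -/
theorem sum_lift_pow {N : ℕ} (F : MvPolynomial (Fin N) k) (D : ℕ) :
    ∑ x : Fin N → k, lift p k F x ^ D =
      ∑ κ ∈ piAntidiag F.support D, (Nat.multinomial F.support κ : 𝕎 k) *
        ((∏ e ∈ F.support, teichmuller p (F.coeff e) ^ κ e) *
          ∏ i : Fin N, ∑ t : k, teichmuller p t ^ (∑ e ∈ F.support, κ e * e i)) := by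
  classical
  exact sum_pow_expand F.support (fun e => teichmuller p (F.coeff e)) (fun e i => e i)
    (fun t => teichmuller p t) D

/-- Each term of the expansion is divisible by `p ^ (a * j)`. -/
theorem term_dvd {N : ℕ} (F : MvPolynomial (Fin N) k) (a d j : ℕ) (ha : 0 < a)
    (hq : Fintype.card k = p ^ a) (hd : 0 < d) (hj : j * d < N)
    (hF : ∀ e ∈ F.support, ∑ i, e i ≤ d) (κ : (Fin N →₀ ℕ) → ℕ)
    (hκ : ∑ e ∈ F.support, κ e = (p ^ a - 1) * p ^ (a * j)) :
    ((p : 𝕎 k) ^ (a * j)) ∣ (Nat.multinomial F.support κ : 𝕎 k) *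
        ((∏ e ∈ F.support, teichmuller p (F.coeff e) ^ κ e) *
          ∏ i : Fin N, ∑ t : k, teichmuller p t ^ (∑ e ∈ F.support, κ e * e i)) := by
  classical
  by_cases hU : ∀ i : Fin N, (p ^ a - 1) ∣ ∑ e ∈ F.support, κ e * e i
  · -- use the key estimate
    have hkey := key_dvd p a ha N d j j hd hj F.support (fun e i => e i) hF κ hκ hU
    set Z := univ.filter (fun i : Fin N => ∑ e ∈ F.support, κ e * e i = 0) with hZ
    have hprod : ∏ i : Fin N, ∑ t : k, teichmuller p t ^ (∑ e ∈ F.support, κ e * e i) =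
        ((p ^ a : ℕ) : 𝕎 k) ^ Z.card *
          ∏ i ∈ univ.filter (fun i : Fin N => ¬ ∑ e ∈ F.support, κ e * e i = 0),
            ∑ t : k, teichmuller p t ^ (∑ e ∈ F.support, κ e * e i) := by
      rw [← prod_filter_mul_prod_filter_not univ
        (fun i : Fin N => ∑ e ∈ F.support, κ e * e i = 0)]
      congr 1
      rw [← prod_const]
      apply prod_congr rfl
      intro i hi
      rw [(mem_filter.mp hi).2, sum_teichmuller_pow_zero, hq]
    rw [hprod]
    have hcast : ((p : 𝕎 k) ^ (a * j)) ∣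
        ((Nat.multinomial F.support κ * (p ^ a) ^ Z.card : ℕ) : 𝕎 k) := by
      obtain ⟨w, hw⟩ := hkey
      refine ⟨(w : 𝕎 k), ?_⟩
      rw [hw]; push_cast; ring
    obtain ⟨w, hw⟩ := hcast
    refine ⟨w * ((∏ e ∈ F.support, teichmuller p (F.coeff e) ^ κ e) *
      ∏ i ∈ univ.filter (fun i : Fin N => ¬ ∑ e ∈ F.support, κ e * e i = 0),
            ∑ t : k, teichmuller p t ^ (∑ e ∈ F.support, κ e * e i)), ?_⟩
    push_cast at hw
    calc _ = ((Nat.multinomial F.support κ : 𝕎 k) * ((p : 𝕎 k) ^ a) ^ Z.card) *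
          ((∏ e ∈ F.support, teichmuller p (F.coeff e) ^ κ e) *
            ∏ i ∈ univ.filter (fun i : Fin N => ¬ ∑ e ∈ F.support, κ e * e i = 0),
              ∑ t : k, teichmuller p t ^ (∑ e ∈ F.support, κ e * e i)) := by
            push_cast; ring
      _ = _ := by rw [hw]; ring
  · push Not at hU
    obtain ⟨i, hi⟩ := hU
    have : ∑ t : k, teichmuller p t ^ (∑ e ∈ F.support, κ e * e i) = (0 : 𝕎 k) := by
      apply sum_teichmuller_pow_eq_zero
      rwa [hq]
    rw [prod_eq_zero (mem_univ i) this, mul_zero, mul_zero]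
    exact dvd_zero _

/-- Ax's theorem for polynomials whose monomials have degree at most `d`. -/
theorem ax_card_nonzeros {N : ℕ} (F : MvPolynomial (Fin N) k) (a d j : ℕ) (ha : 0 < a)
    (hq : Fintype.card k = p ^ a) (hd : 0 < d) (hj : j * d < N)
    (hF : ∀ e ∈ F.support, ∑ i, e i ≤ d) [DecidableEq k] :
    p ^ (a * j) ∣ (univ.filter (fun x : Fin N → k => MvPolynomial.eval x F ≠ 0)).card := by
  classical
  apply natCast_dvd_descent p k
  set D := (p ^ a - 1) * p ^ (a * j) with hD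
  have hp2 : 2 ≤ p := hp.out.two_le
  -- the power sum is divisible
  have h1 : ((p : 𝕎 k) ^ (a * j)) ∣ ∑ x : Fin N → k, lift p k F x ^ D := by
    rw [sum_lift_pow]
    apply dvd_sum
    intro κ hκ
    exact term_dvd p k F a d j ha hq hd hj hF κ (mem_piAntidiag.mp hκ).1
  -- the power sum is congruent to the count
  have h2 : ((p : 𝕎 k) ^ (a * j)) ∣ ∑ x : Fin N → k, lift p k F x ^ D -
      ((univ.filter (fun x : Fin N → k => MvPolynomial.eval x F ≠ 0)).card : 𝕎 k) := by
    have hcard : ((univ.filter (fun x : Fin N → k => MvPolynomial.eval x F ≠ 0)).card : 𝕎 k) =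
        ∑ x : Fin N → k, (if MvPolynomial.eval x F ≠ 0 then (1 : 𝕎 k) else 0) := by
      rw [sum_ite, sum_const_zero, add_zero, sum_const, nsmul_eq_mul, mul_one]
    rw [hcard, ← sum_sub_distrib]
    apply dvd_sum
    intro x _
    have hmle : a * j ≤ D := by
      have h3 : a * j < p ^ (a * j) := Nat.lt_pow_self (by omega)
      have h4 : 1 ≤ p ^ a - 1 := by
        have : 2 ^ a ≤ p ^ a := Nat.pow_le_pow_left hp2 a
        have : 2 ≤ 2 ^ a := by
          calc 2 = 2 ^ 1 := by norm_num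
            _ ≤ 2 ^ a := Nat.pow_le_pow_right (by norm_num) ha
        omega
      calc a * j ≤ p ^ (a * j) := h3.le
        _ ≤ (p ^ a - 1) * p ^ (a * j) := Nat.le_mul_of_pos_left _ h4
    split_ifs with hx
    · apply pow_sub_one_dvd_of_coeff_ne_zero p k a j (a * j) hq (by omega)
      rwa [lift_coeff_zero]
    · rw [sub_zero]
      apply pow_dvd_of_coeff_zero p k D (a * j) hmle
      rw [lift_coeff_zero]
      push Not at hx
      exact hx
  have := dvd_sub h1 h2
  rwa [sub_sub_cancel] at this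

end Groth.Agent.Lib.Seat19.AxMain

namespace Groth.Agent.Lib.Seat19.AxMain

open Finset

/-- Ax's theorem: `q ^ j` divides the number of zeros. -/
theorem ax_card_zeros (k : Type*) [Field k] [Fintype k] [DecidableEq k] {N : ℕ}
    (F : MvPolynomial (Fin N) k) (d j : ℕ) (hd : 0 < d) (hj : j * d < N)
    (hF : ∀ e ∈ F.support, ∑ i, e i ≤ d) :
    Fintype.card k ^ j ∣ Fintype.card {x : Fin N → k // MvPolynomial.eval x F = 0} := by
  classical
  obtain ⟨p, hchar⟩ := CharP.exists k
  have : Fact p.Prime := ⟨CharP.char_is_prime k p⟩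
  obtain ⟨a, -, hq⟩ := FiniteField.card k p
  have ha : 0 < (a : ℕ) := a.pos
  have h1 := ax_card_nonzeros p k F a d j ha hq hd hj hF
  rw [pow_mul, ← hq] at h1
  have hjN : j ≤ N := by
    have : j * 1 ≤ j * d := Nat.mul_le_mul_left _ hd
    omega
  have h2 : Fintype.card k ^ j ∣ Fintype.card (Fin N → k) := by
    rw [Fintype.card_fun, Fintype.card_fin]
    exact pow_dvd_pow _ hjN
  have h3 : Fintype.card {x : Fin N → k // MvPolynomial.eval x F = 0} +
      (univ.filter (fun x : Fin N → k => MvPolynomial.eval x F ≠ 0)).card =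
      Fintype.card (Fin N → k) := by
    rw [Fintype.card_subtype]
    exact card_filter_add_card_filter_not (s := (univ : Finset (Fin N → k)))
      (fun x => MvPolynomial.eval x F = 0)
  exact (Nat.dvd_add_iff_left h1).mpr (h3 ▸ h2)

end Groth.Agent.Lib.Seat19.AxMain
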