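import Mathlib
import Groth.Prelude.Def_QuotSh
import Groth.Agent.Lib.Helper9QuotSh
import Groth.Agent.Lib.Helper12QuotSh

/-!
# Points of quotient sheaves (seat 19)

For a pre-relation `s t : R ⟶ U` of schemes over `S` and a precoverage `K`:
* `secOf`, `secOf_injective`, `secOf_comp`: maps `h_V ⟶ G` into a sheaf are sections of `G` over `V`;
* `hom_ext_of_cover`: two such maps agreeing on a covering sieve are equal;
* `exists_lift_locally`: every section of `U/R` over `T` lifts to `U` locally on `T`;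
* `eqvGen_locally`: two points of `U` with the same image in `U/R` are locally related;
* `exists_rel_of_eq`: for an equivalence relation and a subcanonical topology they are related.
-/

set_option autoImplicit false
universe u

open CategoryTheory Limits AlgebraicGeometry Opposite

namespace Groth.Agent.Lib.Seat19.QuotPts

variable (K : Precoverage Scheme.{u}) {S : Scheme.{u}}

/-- the representable presheaf of `V`, lifted one universe -/
abbrev pre (V : Over S) : (Over S)ᵒᵖ ⥤ Type (u + 1) := yoneda.obj V ⋙ uliftFunctor.{u + 1, u}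

/-- the map of representable presheaves induced by `g` -/
abbrev preMap {V W : Over S} (g : V ⟶ W) : pre V ⟶ pre W :=
  Functor.whiskerRight (yoneda.map g) uliftFunctor.{u + 1, u}

/-- the unit `h_V^{pre} ⟶ h_V` of sheafification -/
noncomputable abbrev η (V : Over S) : pre V ⟶ (QuotSh.rep K V).obj :=
  toSheafify (QuotSh.J K S) (pre V)

/-- the value of a map `h_V ⟶ G` at a point `x : W ⟶ V`. -/
noncomputable def ev {V : Over S} {G : QuotSh.Sh K S} (a : QuotSh.rep K V ⟶ G) {W : Over S}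
    (x : W ⟶ V) : G.obj.obj (op W) :=
  a.hom.app (op W) ((η K V).app (op W) ⟨x⟩)

/-- the section of `G` over `V` given by a map `h_V ⟶ G`. -/
noncomputable def secOf {V : Over S} {G : QuotSh.Sh K S} (a : QuotSh.rep K V ⟶ G) :
    G.obj.obj (op V) := ev K a (𝟙 V)

lemma ev_eq_map {V : Over S} {G : QuotSh.Sh K S} (a : QuotSh.rep K V ⟶ G) {W : Over S}
    (x : W ⟶ V) : ev K a x = G.obj.map x.op (secOf K a) := by
  have h1 : (⟨x⟩ : ULift.{u + 1} (W ⟶ V)) = (pre V).map x.op ⟨𝟙 V⟩ := by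
    apply ULift.ext
    change x = x ≫ 𝟙 V
    rw [Category.comp_id]
  have h2 := ConcreteCategory.congr_hom ((η K V ≫ a.hom).naturality x.op)
    (⟨𝟙 V⟩ : ULift.{u + 1} (V ⟶ V))
  unfold secOf ev
  rw [h1]
  exact h2

lemma ev_comp {V V' : Over S} {G : QuotSh.Sh K S} (g : V' ⟶ V) (a : QuotSh.rep K V ⟶ G)
    {W : Over S} (x : W ⟶ V') : ev K (QuotSh.repMap K g ≫ a) x = ev K a (x ≫ g) := by
  have h1 : preMap g ≫ η K V = η K V' ≫ (QuotSh.repMap K g).hom :=
    toSheafify_naturality (QuotSh.J K S) (preMap g)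
  have h2 : (preMap g ≫ η K V).app (op W) (⟨x⟩ : ULift.{u + 1} (W ⟶ V')) =
      (η K V' ≫ (QuotSh.repMap K g).hom).app (op W) ⟨x⟩ := by rw [h1]
  unfold ev
  change a.hom.app (op W) ((QuotSh.repMap K g).hom.app (op W) ((η K V').app (op W) ⟨x⟩)) = _
  exact congrArg (a.hom.app (op W)) h2.symm

lemma secOf_comp {V V' : Over S} {G : QuotSh.Sh K S} (g : V' ⟶ V) (a : QuotSh.rep K V ⟶ G) :
    secOf K (QuotSh.repMap K g ≫ a) = G.obj.map g.op (secOf K a) := by
  unfold secOf
  rw [ev_comp, Category.id_comp, ev_eq_map]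
  rfl

lemma ev_comp_hom {V : Over S} {G G' : QuotSh.Sh K S} (a : QuotSh.rep K V ⟶ G) (b : G ⟶ G')
    {W : Over S} (x : W ⟶ V) : ev K (a ≫ b) x = b.hom.app (op W) (ev K a x) := rfl

theorem secOf_injective {V : Over S} {G : QuotSh.Sh K S} (a b : QuotSh.rep K V ⟶ G)
    (h : secOf K a = secOf K b) : a = b := by
  apply Sheaf.hom_ext
  apply sheafify_hom_ext _ _ _ G.property
  ext W x
  have h1 : ev K a x.down = ev K b x.down := by rw [ev_eq_map, ev_eq_map, h]
  exact h1

/-- maps `h_T ⟶ G` into a sheaf which agree on a covering sieve are equal. -/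
theorem hom_ext_of_cover {T : Over S} {G : QuotSh.Sh K S} (a b : QuotSh.rep K T ⟶ G)
    (𝓡 : Sieve T) (h𝓡 : 𝓡 ∈ QuotSh.J K S T)
    (h : ∀ ⦃W : Over S⦄ (f : W ⟶ T), 𝓡 f → QuotSh.repMap K f ≫ a = QuotSh.repMap K f ≫ b) :
    a = b := by
  apply secOf_injective
  have hsep := ((isSheaf_iff_isSheaf_of_type _ _).mp G.property 𝓡 h𝓡).isSeparatedFor
  refine hsep.ext fun W f hf => ?_
  have := congrArg (secOf K) (h f hf)
  rw [secOf_comp, secOf_comp] at this
  exact this

section Rel

variable {R U : Over S} (s t : R ⟶ U)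

/-- the relation on `T`-points of `U` generated by `T`-points of `R`. -/
def rel (T : Over S) (x y : ULift.{u + 1} (T ⟶ U)) : Prop :=
  ∃ r : T ⟶ R, r ≫ s = x.down ∧ r ≫ t = y.down

lemma rel_comp {T T' : Over S} (f : T' ⟶ T) {x y : ULift.{u + 1} (T ⟶ U)}
    (h : rel s t T x y) : rel s t T' ⟨f ≫ x.down⟩ ⟨f ≫ y.down⟩ := by
  obtain ⟨r, h1, h2⟩ := h
  exact ⟨f ≫ r, by rw [Category.assoc, h1], by rw [Category.assoc, h2]⟩

/-- the presheaf quotient `T ↦ U(T)/R(T)` -/
def relPre : (Over S)ᵒᵖ ⥤ Type (u + 1) where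
  obj T := Quot (rel s t T.unop)
  map {T T'} f := ↾(Quot.map (fun x => (⟨f.unop ≫ x.down⟩ : ULift.{u + 1} (T'.unop ⟶ U)))
    (fun _ _ h => rel_comp s t f.unop h))
  map_id T := by
    ext x
    induction x using Quot.inductionOn with
    | h x => exact congrArg _ (ULift.ext _ _ (Category.id_comp _))
  map_comp f g := by
    ext x
    induction x using Quot.inductionOn with
    | h x => exact congrArg _ (ULift.ext _ _ (Category.assoc _ _ _))

/-- the quotient map `h_U ⟶ U/R` of presheaves -/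
def relπ : pre U ⟶ relPre s t where
  app T := ↾(fun x => Quot.mk (rel s t T.unop) x)
  naturality _ _ _ := rfl

lemma rel_condition : preMap s ≫ relπ s t = preMap t ≫ relπ s t := by
  ext T r
  exact Quot.sound ⟨r.down, rfl, rfl⟩

/-- `U/R` is the coequalizer of `h_R ⇉ h_U` in presheaves -/
noncomputable def relIsColimit : IsColimit (Cofork.ofπ (relπ s t) (rel_condition s t)) :=
  Cofork.IsColimit.mk _
    (fun c =>
      { app := fun T => ↾(Quot.lift (fun x => c.π.app T x) (by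
          rintro x₁ x₂ ⟨r, h1, h2⟩
          have h3 : (preMap s ≫ c.π).app T (⟨r⟩ : ULift.{u + 1} (T.unop ⟶ R)) =
              (preMap t ≫ c.π).app T ⟨r⟩ := by
            rw [c.condition]
          have e1 : (⟨r ≫ s⟩ : ULift.{u + 1} (T.unop ⟶ U)) = x₁ := ULift.ext _ _ h1
          have e2 : (⟨r ≫ t⟩ : ULift.{u + 1} (T.unop ⟶ U)) = x₂ := ULift.ext _ _ h2
          change c.π.app T x₁ = c.π.app T x₂
          exact ((congrArg (c.π.app T) e1).symm.trans h3).trans (congrArg (c.π.app T) e2)))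
        naturality := fun T T' f => by
          ext x
          induction x using Quot.inductionOn with
          | h x => exact ConcreteCategory.congr_hom (c.π.naturality f) x })
    (fun c => rfl)
    (fun c m hm => by
      ext T x
      induction x using Quot.inductionOn with
      | h x =>
        have h2 : (relπ s t ≫ m).app T x = c.π.app T x := by rw [← hm]; rfl
        exact h2)

/-- sheafification functor -/
noncomputable abbrev Fsh : ((Over S)ᵒᵖ ⥤ Type (u + 1)) ⥤ QuotSh.Sh K S :=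
  presheafToSheaf (QuotSh.J K S) (Type (u + 1))

/-- the quotient sheaf is the sheafification of the presheaf quotient. -/
theorem exists_quotIso :
    ∃ e : QuotSh.quot K s t ≅ (Fsh K).obj (relPre s t),
      QuotSh.quotπ K s t ≫ e.hom = (Fsh K).map (relπ s t) := by
  have hc : IsColimit (Cofork.ofπ ((Fsh K).map (relπ s t))
      (by rw [← (Fsh K).map_comp, ← (Fsh K).map_comp, rel_condition]) :
      Cofork ((Fsh K).map (preMap s)) ((Fsh K).map (preMap t))) :=
    (isColimitMapCoconeCoforkEquiv (Fsh K) (rel_condition s t))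
      (isColimitOfPreserves (Fsh K) (relIsColimit s t))
  let e := (coequalizerIsCoequalizer ((Fsh K).map (preMap s))
    ((Fsh K).map (preMap t))).coconePointUniqueUpToIso hc
  have he : coequalizer.π _ _ ≫ e.hom = (Fsh K).map (relπ s t) :=
    IsColimit.comp_coconePointUniqueUpToIso_hom (coequalizerIsCoequalizer ((Fsh K).map (preMap s))
      ((Fsh K).map (preMap t))) hc WalkingParallelPair.one
  exact ⟨e, he⟩

instance epi_quotπ : Epi (QuotSh.quotπ K s t) := coequalizer.π_epi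

/-- every section of `U/R` lifts to `U` locally. -/
theorem exists_lift_locally {T : Over S} (σ : QuotSh.rep K T ⟶ QuotSh.quot K s t) :
    ∃ 𝓡 ∈ QuotSh.J K S T, ∀ ⦃W : Over S⦄ (f : W ⟶ T), 𝓡 f →
      ∃ x : W ⟶ U, QuotSh.repMap K x ≫ QuotSh.quotπ K s t = QuotSh.repMap K f ≫ σ := by
  let 𝓡 : Sieve T :=
    { arrows := fun W f => ∃ x : W ⟶ U,
        QuotSh.repMap K x ≫ QuotSh.quotπ K s t = QuotSh.repMap K f ≫ σ
      downward_closed := by
        rintro W W' f ⟨x, hx⟩ g
        refine ⟨g ≫ x, ?_⟩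
        rw [Groth.Agent.Lib.Helper9.repMap_comp, Groth.Agent.Lib.Helper9.repMap_comp,
          Category.assoc, Category.assoc, hx] }
  refine ⟨𝓡, ?_, fun W f hf => hf⟩
  have hls : Sheaf.IsLocallySurjective (QuotSh.quotπ K s t) :=
    (Sheaf.isLocallySurjective_iff_epi _).mpr inferInstance
  have h1 := Presheaf.imageSieve_mem (QuotSh.J K S) (QuotSh.quotπ K s t).hom (U := op T)
    (secOf K σ)
  refine (QuotSh.J K S).transitive h1 𝓡 ?_
  rintro W f ⟨υ, hυ⟩
  have h2 := Presheaf.imageSieve_mem (QuotSh.J K S) (η K U) (U := op W) υ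
  refine (QuotSh.J K S).superset_covering ?_ h2
  rintro W' g ⟨x', hx'⟩
  refine ⟨x'.down, ?_⟩
  apply secOf_injective
  rw [secOf_comp, Groth.Agent.Lib.Helper9.repMap_comp, Category.assoc, secOf_comp, secOf_comp,
    ← ev_eq_map]
  change (QuotSh.quotπ K s t).hom.app (op W') ((η K U).app (op W') ⟨x'.down⟩) = _
  have e1 : (⟨x'.down⟩ : ULift.{u + 1} (W' ⟶ U)) = x' := rfl
  rw [e1, hx']
  have h3 := ConcreteCategory.congr_hom ((QuotSh.quotπ K s t).hom.naturality g.op) υ
  refine h3.trans ?_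
  change (QuotSh.quot K s t).obj.map g.op ((QuotSh.quotπ K s t).hom.app (op W) υ) = _
  rw [hυ]

lemma secOf_repMap_comp {V : Over S} {G : QuotSh.Sh K S} (a : QuotSh.rep K V ⟶ G) {W : Over S}
    (x : W ⟶ V) : secOf K (QuotSh.repMap K x ≫ a) = ev K a x := by
  unfold secOf
  rw [ev_comp, Category.id_comp]

/-- two points of `U` with the same image in `U/R` are locally related. -/
theorem eqvGen_locally {T : Over S} (x y : T ⟶ U)
    (h : QuotSh.repMap K x ≫ QuotSh.quotπ K s t = QuotSh.repMap K y ≫ QuotSh.quotπ K s t) :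
    ∃ 𝓡 ∈ QuotSh.J K S T, ∀ ⦃W : Over S⦄ (f : W ⟶ T), 𝓡 f →
      Relation.EqvGen (rel s t W) ⟨f ≫ x⟩ ⟨f ≫ y⟩ := by
  obtain ⟨e, he⟩ := exists_quotIso K s t
  have h1 : QuotSh.repMap K x ≫ (Fsh K).map (relπ s t) =
      QuotSh.repMap K y ≫ (Fsh K).map (relπ s t) := by
    rw [← he, ← Category.assoc, h, Category.assoc]
  have hnat : relπ s t ≫ toSheafify (QuotSh.J K S) (relPre s t) =
      η K U ≫ ((Fsh K).map (relπ s t)).hom :=
    toSheafify_naturality (QuotSh.J K S) (relπ s t)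
  have key : ∀ z : T ⟶ U, secOf K (QuotSh.repMap K z ≫ (Fsh K).map (relπ s t)) =
      (toSheafify (QuotSh.J K S) (relPre s t)).app (op T) (Quot.mk _ ⟨z⟩) := by
    intro z
    rw [secOf_repMap_comp]
    have : (η K U ≫ ((Fsh K).map (relπ s t)).hom).app (op T) (⟨z⟩ : ULift.{u + 1} (T ⟶ U)) =
        (relπ s t ≫ toSheafify (QuotSh.J K S) (relPre s t)).app (op T) ⟨z⟩ := by rw [hnat]
    exact this
  have h2 : (toSheafify (QuotSh.J K S) (relPre s t)).app (op T) (Quot.mk _ ⟨x⟩) =
      (toSheafify (QuotSh.J K S) (relPre s t)).app (op T) (Quot.mk _ ⟨y⟩) := by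
    rw [← key, ← key, h1]
  refine ⟨_, Presheaf.equalizerSieve_mem (QuotSh.J K S) (toSheafify (QuotSh.J K S) (relPre s t))
    (X := op T) (Quot.mk _ ⟨x⟩) (Quot.mk _ ⟨y⟩) h2, ?_⟩
  intro W f hf
  exact Quot.eqvGen_exact hf

lemma rel_equivalence [IsEquivalenceRelation s t] (W : Over S) : Equivalence (rel s t W) := by
  obtain ⟨E⟩ := (inferInstance : IsEquivalenceRelation s t).nonempty_equivalenceRelation
  refine ⟨fun x => ?_, ?_, ?_⟩
  · refine ⟨x.down ≫ E.toReflexiveRelation.r, ?_, ?_⟩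
    · rw [Category.assoc, E.toReflexiveRelation.reflexivity₁, Category.comp_id]
    · rw [Category.assoc, E.toReflexiveRelation.reflexivity₂, Category.comp_id]
  · rintro x y ⟨r, h1, h2⟩
    refine ⟨r ≫ E.toSymmetricRelation.s, ?_, ?_⟩
    · rw [Category.assoc, E.toSymmetricRelation.symmetry₁, h2]
    · rw [Category.assoc, E.toSymmetricRelation.symmetry₂, h1]
  · rintro x y z ⟨r₁, h1, h2⟩ ⟨r₂, h3, h4⟩
    let l := PullbackCone.IsLimit.lift E.toTransitiveRelation.isLimit r₁ r₂ (by rw [h2, h3])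
    have hl1 : l ≫ E.toTransitiveRelation.c.fst = r₁ := PullbackCone.IsLimit.lift_fst _ _ _ _
    have hl2 : l ≫ E.toTransitiveRelation.c.snd = r₂ := PullbackCone.IsLimit.lift_snd _ _ _ _
    refine ⟨l ≫ E.toTransitiveRelation.t, ?_, ?_⟩
    · rw [Category.assoc, E.toTransitiveRelation.transitivity₁, ← Category.assoc, hl1, h1]
    · rw [Category.assoc, E.toTransitiveRelation.transitivity₂, ← Category.assoc, hl2, h4]

lemma rel_mono [IsEquivalenceRelation s t] {W : Over S} (r r' : W ⟶ R) (h1 : r ≫ s = r' ≫ s)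
    (h2 : r ≫ t = r' ≫ t) : r = r' := by
  obtain ⟨E⟩ := (inferInstance : IsEquivalenceRelation s t).nonempty_equivalenceRelation
  exact E.toReflexiveRelation.right_cancellation r r' h1 h2

/-- for an equivalence relation and a subcanonical topology, two points of `U` with the same image
in `U/R` are related. -/
theorem exists_rel_of_eq [(QuotSh.J K S).Subcanonical] [IsEquivalenceRelation s t]
    {T : Over S} (x y : T ⟶ U)
    (h : QuotSh.repMap K x ≫ QuotSh.quotπ K s t = QuotSh.repMap K y ≫ QuotSh.quotπ K s t) :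
    ∃ r : T ⟶ R, r ≫ s = x ∧ r ≫ t = y := by
  obtain ⟨𝓡, h𝓡, hl⟩ := eqvGen_locally K s t x y h
  have hl' : ∀ ⦃W : Over S⦄ (f : W ⟶ T), 𝓡 f → ∃ r : W ⟶ R, r ≫ s = f ≫ x ∧ r ≫ t = f ≫ y :=
    fun W f hf => ((rel_equivalence s t W).eqvGen_iff.mp (hl f hf))
  choose ρ hρ1 hρ2 using hl'
  have hshR : Presieve.IsSheaf (QuotSh.J K S) (yoneda.obj R) :=
    GrothendieckTopology.Subcanonical.isSheaf_of_isRepresentable _
  have hshU : Presieve.IsSheaf (QuotSh.J K S) (yoneda.obj U) :=
    GrothendieckTopology.Subcanonical.isSheaf_of_isRepresentable _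
  have hcompat : Presieve.FamilyOfElements.Compatible (P := yoneda.obj R) (R := 𝓡.arrows)
      (fun W f hf => ρ f hf) := by
    intro Y₁ Y₂ W g₁ g₂ f₁ f₂ h₁ h₂ hcomm
    change g₁ ≫ ρ f₁ h₁ = g₂ ≫ ρ f₂ h₂
    apply rel_mono s t
    · rw [Category.assoc, Category.assoc, hρ1, hρ1, ← Category.assoc, ← Category.assoc, hcomm]
    · rw [Category.assoc, Category.assoc, hρ2, hρ2, ← Category.assoc, ← Category.assoc, hcomm]
  have hglue : ∀ ⦃W : Over S⦄ (f : W ⟶ T) (hf : 𝓡 f),
      f ≫ (hshR 𝓡 h𝓡).amalgamate _ hcompat = ρ f hf :=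
    fun W f hf => (hshR 𝓡 h𝓡).valid_glue hcompat f hf
  refine ⟨(hshR 𝓡 h𝓡).amalgamate _ hcompat, ?_, ?_⟩
  · refine (hshU 𝓡 h𝓡).isSeparatedFor.ext fun W f hf => ?_
    change f ≫ _ ≫ s = f ≫ x
    rw [← Category.assoc, hglue f hf, hρ1]
  · refine (hshU 𝓡 h𝓡).isSeparatedFor.ext fun W f hf => ?_
    change f ≫ _ ≫ t = f ≫ y
    rw [← Category.assoc, hglue f hf, hρ2]

end Rel

end Groth.Agent.Lib.Seat19.QuotPts
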