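import Mathlib
import Groth.Prelude.Def_QuotSh
import Groth.Agent.Lib.Seat19QuotPts
import Groth.Agent.Lib.Helper12Flat

/-!
# Equivalence relations with open graph: points of the fpqc quotient sheaf (seat 19)
-/

set_option autoImplicit false
universe u

open CategoryTheory Limits AlgebraicGeometry Opposite MonoidalCategory CartesianMonoidalCategory
open Groth.Agent.Lib.Seat19.QuotPts

namespace Groth.Agent.Lib.Seat19.OpenGraph

variable {S : Scheme.{u}}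

section Basic

/-- factorisation through an open immersion in `Over S`. -/
lemma exists_lift_of_range_subset {X Z Y : Over S} (i : Z ⟶ X) [IsOpenImmersion i.left] (p : Y ⟶ X)
    (h : Set.range p.left.base ⊆ Set.range i.left.base) : ∃ z : Y ⟶ Z, z ≫ i = p := by
  refine ⟨Over.homMk (IsOpenImmersion.lift i.left p.left h) ?_, ?_⟩
  · rw [← Over.w i, ← Category.assoc, IsOpenImmersion.lift_fac, Over.w p]
  · apply Over.OverMorphism.ext
    simp [IsOpenImmersion.lift_fac]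

lemma range_subset_of_fac {X Z Y : Over S} (i : Z ⟶ X) (p : Y ⟶ X) (z : Y ⟶ Z) (hz : z ≫ i = p) :
    Set.range p.left.base ⊆ Set.range i.left.base := by
  rw [← hz, Over.comp_left, Scheme.Hom.comp_base, TopCat.coe_comp]
  exact Set.range_comp_subset_range _ _

/-- the residue field point of `Y` at `y`, over `S`. -/
noncomputable def kpt (Y : Over S) (y : Y.left) : Over S :=
  Over.mk (Y.left.fromSpecResidueField y ≫ Y.hom)

/-- the inclusion of the residue field point. -/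
noncomputable def kι (Y : Over S) (y : Y.left) : kpt Y y ⟶ Y :=
  Over.homMk (Y.left.fromSpecResidueField y) rfl

lemma range_kι (Y : Over S) (y : Y.left) : Set.range (kι Y y).left.base = {y} :=
  Scheme.range_fromSpecResidueField y

lemma range_kι_comp {Y X : Over S} (y : Y.left) (p : Y ⟶ X) :
    Set.range (kι Y y ≫ p).left.base = {p.left.base y} := by
  rw [Over.comp_left, Scheme.Hom.comp_base, TopCat.coe_comp, Set.range_comp, range_kι,
    Set.image_singleton]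

end Basic

section Gen

/-- flatness can be checked on a jointly surjective family of flat maps. -/
lemma flat_of_forall_exists {Y Z : Scheme.{u}} (g : Y ⟶ Z)
    (h : ∀ y : Y, ∃ (X : Scheme.{u}) (f : X ⟶ Y) (x : X), f.base x = y ∧ Flat f ∧ Flat (f ≫ g)) :
    Flat g := by
  rw [Flat.iff_flat_stalkMap]
  intro y
  obtain ⟨X, f, x, rfl, hf, hfg⟩ := h y
  have h2 : (f.stalkMap x).hom.Flat := Flat.stalkMap f x
  set φ := (g.stalkMap (f.base x)).hom with hφ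
  set ψ := (f.stalkMap x).hom with hψ
  have h1 : (ψ.comp φ).Flat := by
    have := Flat.stalkMap (f ≫ g) x
    rw [Scheme.Hom.stalkMap_comp] at this
    exact this
  have hloc : IsLocalHom ψ := inferInstance
  algebraize [φ, ψ, ψ.comp φ]
  have : IsLocalHom (algebraMap (Y.presheaf.stalk (f.base x)) (X.presheaf.stalk x)) := hloc
  have : Module.FaithfullyFlat (Y.presheaf.stalk (f.base x)) (X.presheaf.stalk x) :=
    Module.FaithfullyFlat.of_flat_of_isLocalHom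
  exact Groth.Agent.Lib.Helper12.flat_of_faithfullyFlat_of_flat_comp _
    (Y.presheaf.stalk (f.base x)) (X.presheaf.stalk x)

variable {R U : Over S} (s t : R ⟶ U)

lemma exists_sym [IsEquivalenceRelation s t] : ∃ e : R ≅ R, e.hom ≫ s = t ∧ e.hom ≫ t = s := by
  obtain ⟨E⟩ := (inferInstance : IsEquivalenceRelation s t).nonempty_equivalenceRelation
  have h1 : E.toSymmetricRelation.s ≫ s = t := E.toSymmetricRelation.symmetry₁
  have h2 : E.toSymmetricRelation.s ≫ t = s := E.toSymmetricRelation.symmetry₂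
  have h3 : E.toSymmetricRelation.s ≫ E.toSymmetricRelation.s = 𝟙 R := by
    apply rel_mono s t
    · rw [Category.assoc, h1, h2, Category.id_comp]
    · rw [Category.assoc, h2, h1, Category.id_comp]
  exact ⟨⟨E.toSymmetricRelation.s, E.toSymmetricRelation.s, h3, h3⟩, h1, h2⟩

lemma flat_t [IsEquivalenceRelation s t] [Flat s.left] : Flat t.left := by
  obtain ⟨e, h1, -⟩ := exists_sym s t
  have : IsIso e.hom.left := (inferInstance : IsIso ((Over.forget S).mapIso e).hom)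
  rw [← h1, Over.comp_left]
  infer_instance

lemma quasiCompact_t [IsEquivalenceRelation s t] [QuasiCompact s.left] : QuasiCompact t.left := by
  obtain ⟨e, h1, -⟩ := exists_sym s t
  have : IsIso e.hom.left := (inferInstance : IsIso ((Over.forget S).mapIso e).hom)
  rw [← h1, Over.comp_left]
  infer_instance

end Gen

section InO

variable {R U : Over S} (s t : R ⟶ U)

/-- the point `(a, b)(y)` of `U × U` lies in the image of `(t, s)`. -/
def InO {Y : Over S} (a b : Y ⟶ U) (y : Y.left) : Prop :=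
  (lift a b).left.base y ∈ Set.range (lift t s).left.base

lemma inO_comp {Y Y' : Over S} (h : Y' ⟶ Y) (a b : Y ⟶ U) (y' : Y'.left) :
    InO s t (h ≫ a) (h ≫ b) y' ↔ InO s t a b (h.left.base y') := by
  unfold InO
  rw [← comp_lift, Over.comp_left, Scheme.Hom.comp_base, TopCat.coe_comp]
  rfl

variable [hc : IsOpenImmersion (lift t s).left]

lemma inO_iff {Y : Over S} (a b : Y ⟶ U) (y : Y.left) :
    InO s t a b y ↔ ∃ r : kpt Y y ⟶ R, r ≫ t = kι Y y ≫ a ∧ r ≫ s = kι Y y ≫ b := by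
  constructor
  · intro h
    obtain ⟨r, hr⟩ := exists_lift_of_range_subset (lift t s) (kι Y y ≫ lift a b) (by
      rw [range_kι_comp]
      exact Set.singleton_subset_iff.mpr h)
    refine ⟨r, ?_, ?_⟩
    · have := congrArg (fun f => f ≫ fst U U) hr
      simpa using this
    · have := congrArg (fun f => f ≫ snd U U) hr
      simpa using this
  · rintro ⟨r, h1, h2⟩
    have h3 : r ≫ lift t s = kι Y y ≫ lift a b := by
      rw [comp_lift, comp_lift, h1, h2]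
    have h4 := range_subset_of_fac (lift t s) (kι Y y ≫ lift a b) r h3
    rw [range_kι_comp] at h4
    exact Set.singleton_subset_iff.mp h4

lemma inO_all_iff {Y : Over S} (a b : Y ⟶ U) :
    (∀ y, InO s t a b y) ↔ ∃ r : Y ⟶ R, r ≫ t = a ∧ r ≫ s = b := by
  constructor
  · intro h
    obtain ⟨r, hr⟩ := exists_lift_of_range_subset (lift t s) (lift a b) (by
      rintro _ ⟨y, rfl⟩
      exact h y)
    refine ⟨r, ?_, ?_⟩
    · have := congrArg (fun f => f ≫ fst U U) hr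
      simpa using this
    · have := congrArg (fun f => f ≫ snd U U) hr
      simpa using this
  · rintro ⟨r, h1, h2⟩ y
    have h3 : r ≫ lift t s = lift a b := by rw [comp_lift, h1, h2]
    exact range_subset_of_fac (lift t s) (lift a b) r h3 ⟨y, rfl⟩

variable [IsEquivalenceRelation s t]

lemma inO_congr {Y : Over S} (a b₁ b₂ : Y ⟶ U) (ρ : Y ⟶ R) (h1 : ρ ≫ s = b₁) (h2 : ρ ≫ t = b₂)
    (y : Y.left) : InO s t a b₁ y ↔ InO s t a b₂ y := by
  have hE := rel_equivalence s t (kpt Y y)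
  have h12 : rel s t (kpt Y y) ⟨kι Y y ≫ b₁⟩ ⟨kι Y y ≫ b₂⟩ :=
    ⟨kι Y y ≫ ρ, by rw [Category.assoc, h1], by rw [Category.assoc, h2]⟩
  rw [inO_iff, inO_iff]
  constructor
  · rintro ⟨r, e1, e2⟩
    have h3 : rel s t (kpt Y y) ⟨kι Y y ≫ b₁⟩ ⟨kι Y y ≫ a⟩ := ⟨r, e2, e1⟩
    obtain ⟨r', e3, e4⟩ := hE.trans (hE.symm h12) h3
    exact ⟨r', e4, e3⟩
  · rintro ⟨r, e1, e2⟩
    have h3 : rel s t (kpt Y y) ⟨kι Y y ≫ b₂⟩ ⟨kι Y y ≫ a⟩ := ⟨r, e2, e1⟩
    obtain ⟨r', e3, e4⟩ := hE.trans h12 h3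
    exact ⟨r', e4, e3⟩

end InO

section Construct

local notation "𝕂" => Scheme.fpqcPrecoverage

instance : (QuotSh.J 𝕂 S).Subcanonical := inferInstance

/-- covering sieves of the fpqc topology are jointly surjective. -/
lemma exists_mem_range_of_mem_fpqc {V : Scheme.{u}} (𝓢 : Sieve V) (h𝓢 : 𝓢 ∈ Scheme.fpqcTopology V)
    (v : V) : ∃ (V' : Scheme.{u}) (h : V' ⟶ V), 𝓢 h ∧ v ∈ Set.range h.base := by
  rw [Precoverage.mem_toGrothendieck_iff_of_isStableUnderComposition] at h𝓢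
  obtain ⟨P, hP, hle⟩ := h𝓢
  have h2 := hP.2.1
  rw [Scheme.jointlySurjectivePrecoverage, Presieve.mem_comap_jointlySurjectivePrecoverage_iff] at h2
  obtain ⟨V', h, hh, hv⟩ := h2 v
  exact ⟨V', h, hle _ h hh, hv⟩

variable {R U : Over S} (s t : R ⟶ U) {T : Over S}
  (σ : QuotSh.rep 𝕂 T ⟶ QuotSh.quot 𝕂 s t)

/-- `x` is a lift of the section `σ` along `p`. -/
def IsLift {Y : Over S} (p : Y ⟶ T) (x : Y ⟶ U) : Prop :=
  QuotSh.repMap 𝕂 x ≫ QuotSh.quotπ 𝕂 s t = QuotSh.repMap 𝕂 p ≫ σ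

variable {s t σ}

lemma IsLift.comp {Y Y' : Over S} {p : Y ⟶ T} {x : Y ⟶ U} (h : IsLift s t σ p x) (g : Y' ⟶ Y) :
    IsLift s t σ (g ≫ p) (g ≫ x) := by
  unfold IsLift at h ⊢
  rw [Groth.Agent.Lib.Helper9.repMap_comp, Groth.Agent.Lib.Helper9.repMap_comp,
    Category.assoc, Category.assoc, h]

variable [IsEquivalenceRelation s t] [hc : IsOpenImmersion (lift t s).left]

lemma inO_lift_congr {Y : Over S} {p : Y ⟶ T} {x₁ x₂ : Y ⟶ U} (h₁ : IsLift s t σ p x₁)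
    (h₂ : IsLift s t σ p x₂) (a : Y ⟶ U) (y : Y.left) :
    InO s t a x₁ y ↔ InO s t a x₂ y := by
  obtain ⟨ρ, e1, e2⟩ := exists_rel_of_eq 𝕂 s t x₁ x₂ (h₁.trans h₂.symm)
  exact inO_congr s t a x₁ x₂ ρ e1 e2 y

variable (s t σ)

/-- the open subset of `U × T` of points `(u, τ)` with `[u] = σ(τ)`. -/
theorem exists_open : ∃ Z : (U ⊗ T).left.Opens,
    ∀ (V : Scheme.{u}) (g : V ⟶ (U ⊗ T).left) (x : Over.mk (g ≫ (U ⊗ T).hom) ⟶ U),
      IsLift s t σ ((Over.homMk g : Over.mk (g ≫ (U ⊗ T).hom) ⟶ U ⊗ T) ≫ snd U T) x →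
      ∀ v : V, g.base v ∈ Z ↔
        InO s t ((Over.homMk g : Over.mk (g ≫ (U ⊗ T).hom) ⟶ U ⊗ T) ≫ fst U T) x v := by
  obtain ⟨𝓡, h𝓡, hl⟩ := exists_lift_locally 𝕂 s t σ
  choose ξ hξ using hl
  let 𝓢 : Sieve (U ⊗ T).left := Sieve.overEquiv (U ⊗ T) (𝓡.pullback (snd U T))
  have h𝓢 : 𝓢 ∈ Scheme.fpqcTopology (U ⊗ T).left :=
    (GrothendieckTopology.mem_over_iff _ _).mp ((QuotSh.J 𝕂 S).pullback_stable (snd U T) h𝓡)
  have hmem : ∀ {V : Scheme.{u}} (g : V ⟶ (U ⊗ T).left), 𝓢 g →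
      𝓡 ((Over.homMk g : Over.mk (g ≫ (U ⊗ T).hom) ⟶ U ⊗ T) ≫ snd U T) :=
    fun g hg => (Sieve.overEquiv_iff _ _).mp hg
  let fam : Presieve.FamilyOfElements (continuousMapPresheaf.{0, u} Prop) 𝓢.arrows :=
    fun V g hg => ⟨fun v => InO s t ((Over.homMk g : Over.mk (g ≫ (U ⊗ T).hom) ⟶ U ⊗ T) ≫ fst U T)
      (ξ _ (hmem g hg)) v, by
        rw [continuous_Prop]
        exact (IsOpenImmersion.isOpen_range (lift t s).left).preimage
          (Scheme.Hom.continuous _)⟩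
  have hsh := (isSheaf_iff_isSheaf_of_type _ _).mp
    (isSheaf_fpqcTopology_continuousMapPresheaf.{0, u} Prop) 𝓢 h𝓢
  have hcompat : fam.Compatible := by
    intro V₁ V₂ Y h₁ h₂ g₁ g₂ hg₁ hg₂ hcomm
    apply ContinuousMap.ext
    intro y
    apply propext
    let Ŷ : Over S := Over.mk (h₁ ≫ g₁ ≫ (U ⊗ T).hom)
    let ĥ₁ : Ŷ ⟶ Over.mk (g₁ ≫ (U ⊗ T).hom) := Over.homMk h₁ rfl
    let ĥ₂ : Ŷ ⟶ Over.mk (g₂ ≫ (U ⊗ T).hom) := Over.homMk h₂ (by
      change h₂ ≫ g₂ ≫ (U ⊗ T).hom = h₁ ≫ g₁ ≫ (U ⊗ T).hom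
      rw [← Category.assoc, ← hcomm, Category.assoc])
    have hĝ : ĥ₁ ≫ (Over.homMk g₁ : Over.mk (g₁ ≫ (U ⊗ T).hom) ⟶ U ⊗ T) =
        ĥ₂ ≫ (Over.homMk g₂ : Over.mk (g₂ ≫ (U ⊗ T).hom) ⟶ U ⊗ T) := by
      apply Over.OverMorphism.ext
      exact hcomm
    have e1 := inO_comp s t ĥ₁ ((Over.homMk g₁ : Over.mk (g₁ ≫ (U ⊗ T).hom) ⟶ U ⊗ T) ≫ fst U T)
      (ξ _ (hmem g₁ hg₁)) y
    have e2 := inO_comp s t ĥ₂ ((Over.homMk g₂ : Over.mk (g₂ ≫ (U ⊗ T).hom) ⟶ U ⊗ T) ≫ fst U T)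
      (ξ _ (hmem g₂ hg₂)) y
    have l1 : IsLift s t σ (ĥ₁ ≫ (Over.homMk g₁ : Over.mk (g₁ ≫ (U ⊗ T).hom) ⟶ U ⊗ T) ≫ snd U T)
        (ĥ₁ ≫ ξ _ (hmem g₁ hg₁)) := IsLift.comp (hξ _ (hmem g₁ hg₁)) ĥ₁
    have l2 : IsLift s t σ (ĥ₂ ≫ (Over.homMk g₂ : Over.mk (g₂ ≫ (U ⊗ T).hom) ⟶ U ⊗ T) ≫ snd U T)
        (ĥ₂ ≫ ξ _ (hmem g₂ hg₂)) := IsLift.comp (hξ _ (hmem g₂ hg₂)) ĥ₂
    rw [← Category.assoc, ← hĝ, Category.assoc] at l2
    have e3 := inO_lift_congr l1 l2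
      (ĥ₁ ≫ (Over.homMk g₁ : Over.mk (g₁ ≫ (U ⊗ T).hom) ⟶ U ⊗ T) ≫ fst U T) y
    rw [← Category.assoc, ← hĝ, Category.assoc] at e2
    exact e1.symm.trans (e3.trans e2)
  let χ : C((U ⊗ T).left, Prop) := hsh.amalgamate fam hcompat
  have hχ : ∀ {V : Scheme.{u}} (g : V ⟶ (U ⊗ T).left) (hg : 𝓢 g) (v : V),
      χ (g.base v) ↔ InO s t ((Over.homMk g : Over.mk (g ≫ (U ⊗ T).hom) ⟶ U ⊗ T) ≫ fst U T)
        (ξ _ (hmem g hg)) v := by
    intro V g hg v
    have h1 : (χ.comp g.base.hom : C(V, Prop)) = fam g hg := hsh.valid_glue hcompat g hg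
    have h2 := DFunLike.congr_fun h1 v
    exact Iff.of_eq h2
  refine ⟨⟨{p | χ p}, continuous_Prop.mp χ.continuous⟩, ?_⟩
  intro V g x hx v
  obtain ⟨V', h, hh, v', rfl⟩ := exists_mem_range_of_mem_fpqc (𝓢.pullback g)
    (Scheme.fpqcTopology.pullback_stable g h𝓢) v
  have hh' : 𝓢 (h ≫ g) := hh
  let ĥ : Over.mk ((h ≫ g) ≫ (U ⊗ T).hom) ⟶ Over.mk (g ≫ (U ⊗ T).hom) :=
    Over.homMk h (by simp)
  have hĝ : ĥ ≫ (Over.homMk g : Over.mk (g ≫ (U ⊗ T).hom) ⟶ U ⊗ T) =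
      (Over.homMk (h ≫ g) : Over.mk ((h ≫ g) ≫ (U ⊗ T).hom) ⟶ U ⊗ T) := by
    apply Over.OverMorphism.ext
    rfl
  have e1 := hχ (h ≫ g) hh' v'
  have l1 := hξ _ (hmem (h ≫ g) hh')
  have l2 : IsLift s t σ (ĥ ≫ (Over.homMk g : Over.mk (g ≫ (U ⊗ T).hom) ⟶ U ⊗ T) ≫ snd U T)
      (ĥ ≫ x) := IsLift.comp hx ĥ
  rw [← Category.assoc, hĝ] at l2
  have e2 := inO_lift_congr l1 l2
    ((Over.homMk (h ≫ g) : Over.mk ((h ≫ g) ≫ (U ⊗ T).hom) ⟶ U ⊗ T) ≫ fst U T) v'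
  have e3 := inO_comp s t ĥ ((Over.homMk g : Over.mk (g ≫ (U ⊗ T).hom) ⟶ U ⊗ T) ≫ fst U T) x v'
  rw [← Category.assoc, hĝ] at e3
  change χ (g.base (h.base v')) ↔ _
  have e0 : g.base (h.base v') = (h ≫ g).base v' := rfl
  rw [e0]
  exact e1.trans (e2.trans e3)

/-- the property characterising the open subset `Z` of `U × T`. -/
def IsGraphOpen (Z : (U ⊗ T).left.Opens) : Prop :=
  ∀ (Y : Over S) (p : Y ⟶ U ⊗ T) (x : Y ⟶ U), IsLift s t σ (p ≫ snd U T) x →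
    ∀ y : Y.left, p.left.base y ∈ Z ↔ InO s t (p ≫ fst U T) x y

theorem exists_isGraphOpen : ∃ Z : (U ⊗ T).left.Opens, IsGraphOpen s t σ Z := by
  obtain ⟨Z, hZ⟩ := exists_open s t σ
  refine ⟨Z, ?_⟩
  intro Y p x hx y
  let e : Over.mk (p.left ≫ (U ⊗ T).hom) ⟶ Y :=
    Over.homMk (𝟙 _) ((Category.id_comp _).trans (Over.w p).symm)
  have he : e ≫ p = (Over.homMk p.left : Over.mk (p.left ≫ (U ⊗ T).hom) ⟶ U ⊗ T) := by
    apply Over.OverMorphism.ext
    simp [e]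
  have l1 : IsLift s t σ (e ≫ p ≫ snd U T) (e ≫ x) := IsLift.comp hx e
  rw [← Category.assoc, he] at l1
  have h1 := hZ Y.left p.left (e ≫ x) l1 y
  have h2 := inO_comp s t e (p ≫ fst U T) x y
  rw [← Category.assoc, he] at h2
  have h3 : e.left.base y = y := by simp [e]
  rw [h3] at h2
  exact h1.trans h2

variable {s t σ}

lemma inO_self {Y : Over S} (a : Y ⟶ U) (y : Y.left) : InO s t a a y := by
  obtain ⟨r, h1, h2⟩ := (rel_equivalence s t Y).refl ⟨a⟩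
  exact (inO_all_iff s t a a).mpr ⟨r, h2, h1⟩ y

/-- a point of `U × T` lies in `Z` iff its first component lifts `σ` at its second component. -/
theorem key {Z : (U ⊗ T).left.Opens} (hZ : IsGraphOpen s t σ Z) {T' : Over S} (p : T' ⟶ U ⊗ T) :
    Set.range p.left.base ⊆ (Z : Set (U ⊗ T).left) ↔
      IsLift s t σ (p ≫ snd U T) (p ≫ fst U T) := by
  constructor
  · intro hrange
    obtain ⟨𝓡, h𝓡, hl⟩ := exists_lift_locally 𝕂 s t σ
    refine hom_ext_of_cover 𝕂 _ _ (𝓡.pullback (p ≫ snd U T))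
      ((QuotSh.J 𝕂 S).pullback_stable _ h𝓡) ?_
    intro V h hh
    obtain ⟨x, hx⟩ := hl _ hh
    have hx' : IsLift s t σ ((h ≫ p) ≫ snd U T) x := by
      unfold IsLift
      rw [hx, Category.assoc]
    have h1 : ∀ v : V.left, InO s t ((h ≫ p) ≫ fst U T) x v := by
      intro v
      refine (hZ V (h ≫ p) x hx' v).mp (hrange ⟨h.left.base v, ?_⟩)
      rw [Over.comp_left, Scheme.Hom.comp_base, TopCat.coe_comp]
      rfl
    obtain ⟨r, hr1, hr2⟩ := (inO_all_iff s t _ _).mp h1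
    rw [← Category.assoc, ← Groth.Agent.Lib.Helper9.repMap_comp, ← Category.assoc h p, ← hr1,
      Groth.Agent.Lib.Helper9.repMap_comp, Category.assoc, ← QuotSh.quot_condition,
      ← Category.assoc, ← Groth.Agent.Lib.Helper9.repMap_comp, hr2, hx,
      Groth.Agent.Lib.Helper9.repMap_comp, Category.assoc]
  · intro hl
    rintro _ ⟨y, rfl⟩
    exact (hZ T' p (p ≫ fst U T) hl y).mpr (inO_self _ y)

/-- the open subscheme `Z`, over `S`. -/
noncomputable def Zo (Z : (U ⊗ T).left.Opens) : Over S := Over.mk (Z.ι ≫ (U ⊗ T).hom)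

/-- the inclusion of `Z`. -/
noncomputable def Zi (Z : (U ⊗ T).left.Opens) : Zo Z ⟶ U ⊗ T := Over.homMk Z.ι rfl

instance (Z : (U ⊗ T).left.Opens) : IsOpenImmersion (Zi Z).left := by
  change IsOpenImmersion Z.ι
  infer_instance

lemma range_Zi (Z : (U ⊗ T).left.Opens) :
    Set.range (Zi Z).left.base = (Z : Set (U ⊗ T).left) := by
  change Set.range Z.ι.base = _
  exact Z.range_ι

theorem key' {Z : (U ⊗ T).left.Opens} (hZ : IsGraphOpen s t σ Z) {T' : Over S} (p : T' ⟶ U ⊗ T) :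
    (∃ z : T' ⟶ Zo Z, z ≫ Zi Z = p) ↔ IsLift s t σ (p ≫ snd U T) (p ≫ fst U T) := by
  rw [← key hZ p, ← range_Zi]
  constructor
  · rintro ⟨z, hz⟩
    exact range_subset_of_fac _ _ z hz
  · intro h
    exact exists_lift_of_range_subset _ _ h

omit [IsEquivalenceRelation s t] hc in
lemma isLift_whisker {T' : Over S} (r : T' ⟶ R ⊗ T) :
    IsLift s t σ ((r ≫ (s ▷ T)) ≫ snd U T) ((r ≫ (s ▷ T)) ≫ fst U T) ↔
      IsLift s t σ ((r ≫ (t ▷ T)) ≫ snd U T) ((r ≫ (t ▷ T)) ≫ fst U T) := by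
  unfold IsLift
  have e1 : (r ≫ (s ▷ T)) ≫ snd U T = r ≫ snd R T := by
    rw [Category.assoc, whiskerRight_snd]
  have e2 : (r ≫ (t ▷ T)) ≫ snd U T = r ≫ snd R T := by
    rw [Category.assoc, whiskerRight_snd]
  have e3 : (r ≫ (s ▷ T)) ≫ fst U T = (r ≫ fst R T) ≫ s := by
    rw [Category.assoc, whiskerRight_fst, Category.assoc]
  have e4 : (r ≫ (t ▷ T)) ≫ fst U T = (r ≫ fst R T) ≫ t := by
    rw [Category.assoc, whiskerRight_fst, Category.assoc]
  rw [e1, e2, e3, e4, Groth.Agent.Lib.Helper9.repMap_comp (g := s),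
    Groth.Agent.Lib.Helper9.repMap_comp (g := t), Category.assoc, Category.assoc,
    QuotSh.quot_condition]

/-- `Z` is stable under `R`. -/
theorem stable {Z : (U ⊗ T).left.Opens} (hZ : IsGraphOpen s t σ Z) (T' : Over S)
    (r : T' ⟶ R ⊗ T) :
    (∃ z : T' ⟶ Zo Z, z ≫ Zi Z = r ≫ (s ▷ T)) ↔ (∃ z : T' ⟶ Zo Z, z ≫ Zi Z = r ≫ (t ▷ T)) := by
  rw [key' hZ, key' hZ]
  exact isLift_whisker r

theorem isLift_Zi {Z : (U ⊗ T).left.Opens} (hZ : IsGraphOpen s t σ Z) :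
    IsLift s t σ (Zi Z ≫ snd U T) (Zi Z ≫ fst U T) :=
  (key' hZ (Zi Z)).mp ⟨𝟙 _, Category.id_comp _⟩

theorem exact {Z : (U ⊗ T).left.Opens} (hZ : IsGraphOpen s t σ Z) (T' : Over S)
    (z₁ z₂ : T' ⟶ Zo Z) (h : z₁ ≫ Zi Z ≫ snd U T = z₂ ≫ Zi Z ≫ snd U T) :
    ∃ r : T' ⟶ R, r ≫ s = z₁ ≫ Zi Z ≫ fst U T ∧ r ≫ t = z₂ ≫ Zi Z ≫ fst U T := by
  have l1 := (isLift_Zi hZ).comp z₁
  have l2 := (isLift_Zi hZ).comp z₂
  unfold IsLift at l1 l2
  rw [h] at l1
  exact exists_rel_of_eq 𝕂 s t _ _ (l1.trans l2.symm)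

theorem surjective_Zi_snd {Z : (U ⊗ T).left.Opens} (hZ : IsGraphOpen s t σ Z) :
    Surjective (Zi Z ≫ snd U T).left := by
  refine ⟨fun τ => ?_⟩
  obtain ⟨𝓡, h𝓡, hl⟩ := exists_lift_locally 𝕂 s t σ
  obtain ⟨W', f', hf', w, rfl⟩ := exists_mem_range_of_mem_fpqc _
    ((GrothendieckTopology.mem_over_iff _ _).mp h𝓡) τ
  have hf'' := (Sieve.overEquiv_iff _ _).mp hf'
  obtain ⟨x, hx⟩ := hl _ hf''
  let p : Over.mk (f' ≫ T.hom) ⟶ U ⊗ T := lift x (Over.homMk f')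
  have hp : IsLift s t σ (p ≫ snd U T) (p ≫ fst U T) := by
    unfold IsLift
    rw [lift_snd, lift_fst]
    exact hx
  obtain ⟨z, hz⟩ := (key' hZ p).mpr hp
  refine ⟨z.left.base w, ?_⟩
  have e1 : z ≫ Zi Z ≫ snd U T = Over.homMk f' := by
    rw [← Category.assoc, hz, lift_snd]
  have e2 := congrArg (fun φ => φ.left.base w) e1
  simpa using e2

/-- for a lift `x` of `σ` over `W`, the base change of `Z ⟶ T` to `W` is the base change of `t`
along `x`. -/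
theorem exists_isPullback {Z : (U ⊗ T).left.Opens} (hZ : IsGraphOpen s t σ Z) {W : Over S}
    (f : W ⟶ T) (x : W ⟶ U) (hx : IsLift s t σ f x) :
    ∃ ζ : pullback t x ⟶ Zo Z, IsPullback ζ (pullback.snd t x) (Zi Z ≫ snd U T) f := by
  let p : pullback t x ⟶ U ⊗ T := lift (pullback.fst t x ≫ s) (pullback.snd t x ≫ f)
  have hp : IsLift s t σ (p ≫ snd U T) (p ≫ fst U T) := by
    unfold IsLift
    rw [lift_snd, lift_fst, Groth.Agent.Lib.Helper9.repMap_comp, Category.assoc,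
      QuotSh.quot_condition, ← Category.assoc, ← Groth.Agent.Lib.Helper9.repMap_comp,
      pullback.condition, Groth.Agent.Lib.Helper9.repMap_comp, Category.assoc, hx,
      Groth.Agent.Lib.Helper9.repMap_comp, Category.assoc]
  obtain ⟨ζ, hζ⟩ := (key' hZ p).mpr hp
  have hmono : Mono (Zi Z) := by
    have : Mono (Zi Z).left := inferInstance
    exact (Over.forget S).mono_of_mono_map this
  refine ⟨ζ, ⟨⟨?_⟩, ⟨PullbackCone.IsLimit.mk _ ?_ ?_ ?_ ?_⟩⟩⟩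
  · rw [← Category.assoc, hζ, lift_snd]
  · intro c
    have l1 := (isLift_Zi hZ).comp c.fst
    have l2 := hx.comp c.snd
    unfold IsLift at l1 l2
    have hc' : c.fst ≫ Zi Z ≫ snd U T = c.snd ≫ f := c.condition
    rw [hc'] at l1
    exact pullback.lift (exists_rel_of_eq 𝕂 s t _ _ (l1.trans l2.symm)).choose c.snd
      (exists_rel_of_eq 𝕂 s t _ _ (l1.trans l2.symm)).choose_spec.2
  · intro c
    have l1 := (isLift_Zi hZ).comp c.fst
    have l2 := hx.comp c.snd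
    unfold IsLift at l1 l2
    have hc' : c.fst ≫ Zi Z ≫ snd U T = c.snd ≫ f := c.condition
    rw [hc'] at l1
    have hr := (exists_rel_of_eq 𝕂 s t _ _ (l1.trans l2.symm)).choose_spec
    rw [← cancel_mono (Zi Z), Category.assoc, hζ]
    apply CartesianMonoidalCategory.hom_ext
    · rw [Category.assoc, lift_fst, ← Category.assoc, pullback.lift_fst, hr.1, Category.assoc]
    · rw [Category.assoc, lift_snd, ← Category.assoc, pullback.lift_snd, Category.assoc, hc']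
  · intro c
    exact pullback.lift_snd _ _ _
  · intro c m hm1 hm2
    have l1 := (isLift_Zi hZ).comp c.fst
    have l2 := hx.comp c.snd
    unfold IsLift at l1 l2
    have hc' : c.fst ≫ Zi Z ≫ snd U T = c.snd ≫ f := c.condition
    rw [hc'] at l1
    have hr := (exists_rel_of_eq 𝕂 s t _ _ (l1.trans l2.symm)).choose_spec
    apply pullback.hom_ext
    · rw [pullback.lift_fst]
      apply rel_mono s t
      · rw [hr.1, ← hm1, Category.assoc, Category.assoc, ← Category.assoc ζ, hζ, lift_fst]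
      · rw [hr.2, ← hm2, Category.assoc, Category.assoc, pullback.condition]
    · rw [pullback.lift_snd, hm2]

theorem flat_Zi_snd [Flat s.left] {Z : (U ⊗ T).left.Opens} (hZ : IsGraphOpen s t σ Z) :
    Flat (Zi Z ≫ snd U T).left := by
  have hft : Flat t.left := flat_t s t
  apply flat_of_forall_exists
  intro z
  obtain ⟨𝓡, h𝓡, hl⟩ := exists_lift_locally 𝕂 s t σ
  have h1 := (GrothendieckTopology.mem_over_iff _ _).mp h𝓡
  rw [Precoverage.mem_toGrothendieck_iff_of_isStableUnderComposition] at h1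
  obtain ⟨P, hP, hle⟩ := h1
  have h2 := hP.2.1
  rw [Scheme.jointlySurjectivePrecoverage, Presieve.mem_comap_jointlySurjectivePrecoverage_iff] at h2
  obtain ⟨W', f', hf', w, hw⟩ := h2 ((Zi Z ≫ snd U T).left.base z)
  have hflat : Flat f' := hP.2.2 hf'
  have hf'' := (Sieve.overEquiv_iff _ _).mp (hle _ f' hf')
  obtain ⟨x, hx⟩ := hl _ hf''
  obtain ⟨ζ, hpb⟩ := exists_isPullback hZ (Over.homMk f' : Over.mk (f' ≫ T.hom) ⟶ T) x hx
  have hpb' : IsPullback ζ.left (pullback.snd t x).left (Zi Z ≫ snd U T).left f' :=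
    hpb.map (Over.forget S)
  have hpbt : IsPullback (pullback.fst t x).left (pullback.snd t x).left t.left x.left :=
    (IsPullback.of_hasPullback t x).map (Over.forget S)
  obtain ⟨c, hc1, hc2⟩ := Scheme.exists_preimage_of_isPullback hpb' z w hw.symm
  refine ⟨_, ζ.left, c, hc1, ?_, ?_⟩
  · exact MorphismProperty.of_isPullback (P := @Flat) hpb'.flip hflat
  · rw [hpb'.w]
    have : Flat (pullback.snd t x).left := MorphismProperty.of_isPullback (P := @Flat) hpbt hft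
    infer_instance

theorem quasiCompact_Zi_snd [QuasiCompact s.left] {Z : (U ⊗ T).left.Opens}
    (hZ : IsGraphOpen s t σ Z) : QuasiCompact (Zi Z ≫ snd U T).left := by
  have hqt : QuasiCompact t.left := quasiCompact_t s t
  rw [quasiCompact_iff_forall_isAffineOpen]
  intro V hV
  obtain ⟨𝓡, h𝓡, hl⟩ := exists_lift_locally 𝕂 s t σ
  have h1 := (GrothendieckTopology.mem_over_iff _ _).mp h𝓡
  rw [Precoverage.mem_toGrothendieck_iff_of_isStableUnderComposition] at h1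
  obtain ⟨P, hP, hle⟩ := h1
  obtain ⟨𝒰, h𝒰, rfl⟩ := Scheme.mem_propQCPrecoverage_iff_exists_quasiCompactCover.mp hP
  obtain ⟨n, idx, Vi, hVi, hcov⟩ :=
    QuasiCompactCover.exists_isAffineOpen_of_isCompact 𝒰.toPreZeroHypercover hV.isCompact
  have hmem : ∀ i : Fin n, 𝓡 (Over.homMk (𝒰.f (idx i)) :
      Over.mk (𝒰.f (idx i) ≫ T.hom) ⟶ T) :=
    fun i => (Sieve.overEquiv_iff _ _).mp (hle _ _ ⟨idx i⟩)
  choose x hx using fun i => hl _ (hmem i)
  choose ζ hpb using fun i => exists_isPullback hZ _ (x i) (hx i)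
  have hpb' : ∀ i, IsPullback (ζ i).left (pullback.snd t (x i)).left (Zi Z ≫ snd U T).left
      (𝒰.f (idx i)) := fun i => (hpb i).map (Over.forget S)
  have hpbt : ∀ i, IsPullback (pullback.fst t (x i)).left (pullback.snd t (x i)).left t.left
      (x i).left := fun i => (IsPullback.of_hasPullback t (x i)).map (Over.forget S)
  have hqc : ∀ i, QuasiCompact (pullback.snd t (x i)).left :=
    fun i => MorphismProperty.of_isPullback (P := @QuasiCompact) (hpbt i) hqt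
  have hcomp : ∀ i, IsCompact ((pullback.snd t (x i)).left.base ⁻¹' (Vi i : Set (𝒰.X (idx i)))) :=
    fun i => (hqc i).1 _ (Vi i).isOpen (hVi i).isCompact
  have heq : ((Zi Z ≫ snd U T).left ⁻¹ᵁ V : Set (Zo Z).left) =
      ⋃ i, (ζ i).left.base ''
        ((pullback.snd t (x i)).left.base ⁻¹' (Vi i : Set (𝒰.X (idx i)))) := by
    ext z
    simp only [Set.mem_iUnion, Set.mem_image]
    constructor
    · intro hz
      have hz' : (Zi Z ≫ snd U T).left.base z ∈ (V : Set T.left) := hz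
      rw [← hcov] at hz'
      simp only [Set.mem_iUnion, Set.mem_image] at hz'
      obtain ⟨i, w, hw, hwz⟩ := hz'
      obtain ⟨c, hc1, hc2⟩ := Scheme.exists_preimage_of_isPullback (hpb' i) z w hwz.symm
      refine ⟨i, c, ?_, hc1⟩
      change (pullback.snd t (x i)).left.base c ∈ Vi i
      rw [hc2]
      exact hw
    · rintro ⟨i, c, hc, rfl⟩
      change (Zi Z ≫ snd U T).left.base ((ζ i).left.base c) ∈ (V : Set T.left)
      rw [← hcov]
      simp only [Set.mem_iUnion, Set.mem_image]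
      refine ⟨i, (pullback.snd t (x i)).left.base c, hc, ?_⟩
      have := congrArg (fun φ => φ.base c) (hpb' i).w
      exact this.symm
  rw [heq]
  exact isCompact_iUnion fun i => (hcomp i).image (Scheme.Hom.continuous _)

omit hc in
/-- any `R`-stable open subscheme of `U × T`, surjective over `T`, on which `σ` is induced by the
first projection, represents the points `(u, τ)` with `[u] = σ(τ)`. -/
theorem char_of_props {Zc : Over S} (i : Zc ⟶ U ⊗ T) [IsOpenImmersion i.left]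
    (hst : ∀ (T' : Over S) (r : T' ⟶ R ⊗ T),
      (∃ z : T' ⟶ Zc, z ≫ i = r ≫ (s ▷ T)) ↔ (∃ z : T' ⟶ Zc, z ≫ i = r ≫ (t ▷ T)))
    (hsurj : Surjective (i ≫ snd U T).left)
    (h7 : IsLift s t σ (i ≫ snd U T) (i ≫ fst U T)) {T' : Over S} (p : T' ⟶ U ⊗ T) :
    (∃ z : T' ⟶ Zc, z ≫ i = p) ↔ IsLift s t σ (p ≫ snd U T) (p ≫ fst U T) := by
  constructor
  · rintro ⟨z, rfl⟩
    have := h7.comp z
    rwa [← Category.assoc, ← Category.assoc] at this
  · intro hl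
    let a := pullback.fst (p ≫ snd U T) (i ≫ snd U T)
    let z := pullback.snd (p ≫ snd U T) (i ≫ snd U T)
    have hcond : a ≫ p ≫ snd U T = z ≫ i ≫ snd U T := pullback.condition
    have hsq : IsPullback a.left z.left (p ≫ snd U T).left (i ≫ snd U T).left :=
      (IsPullback.of_hasPullback (p ≫ snd U T) (i ≫ snd U T)).map (Over.forget S)
    have ha : Surjective a.left := MorphismProperty.of_isPullback (P := @Surjective) hsq.flip hsurj
    have l1 := hl.comp a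
    have l2 := h7.comp z
    unfold IsLift at l1 l2
    rw [hcond] at l1
    obtain ⟨r, hr1, hr2⟩ := exists_rel_of_eq 𝕂 s t _ _ (l2.trans l1.symm)
    let ρ : pullback (p ≫ snd U T) (i ≫ snd U T) ⟶ R ⊗ T := lift r (z ≫ i ≫ snd U T)
    have e1 : ρ ≫ (s ▷ T) = z ≫ i := by
      apply CartesianMonoidalCategory.hom_ext
      · rw [Category.assoc, whiskerRight_fst, ← Category.assoc, lift_fst, hr1, Category.assoc]
      · rw [Category.assoc, whiskerRight_snd, lift_snd, Category.assoc]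
    have e2 : ρ ≫ (t ▷ T) = a ≫ p := by
      apply CartesianMonoidalCategory.hom_ext
      · rw [Category.assoc, whiskerRight_fst, ← Category.assoc, lift_fst, hr2, Category.assoc]
      · rw [Category.assoc, whiskerRight_snd, lift_snd, Category.assoc, hcond]
    obtain ⟨z', hz'⟩ := (hst _ ρ).mp ⟨z, e1.symm⟩
    rw [e2] at hz'
    apply exists_lift_of_range_subset
    rintro _ ⟨y, rfl⟩
    obtain ⟨y', rfl⟩ := ha.surj y
    have h3 := range_subset_of_fac i (a ≫ p) z' hz'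
    apply h3
    refine ⟨y', ?_⟩
    rw [Over.comp_left, Scheme.Hom.comp_base, TopCat.coe_comp]
    rfl

omit hc in
/-- uniqueness of the open subscheme. -/
theorem unique_of_props {Z₁ Z₂ : Over S} (i₁ : Z₁ ⟶ U ⊗ T) (i₂ : Z₂ ⟶ U ⊗ T)
    [IsOpenImmersion i₁.left] [IsOpenImmersion i₂.left]
    (hst₁ : ∀ (T' : Over S) (r : T' ⟶ R ⊗ T),
      (∃ z : T' ⟶ Z₁, z ≫ i₁ = r ≫ (s ▷ T)) ↔ (∃ z : T' ⟶ Z₁, z ≫ i₁ = r ≫ (t ▷ T)))
    (hst₂ : ∀ (T' : Over S) (r : T' ⟶ R ⊗ T),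
      (∃ z : T' ⟶ Z₂, z ≫ i₂ = r ≫ (s ▷ T)) ↔ (∃ z : T' ⟶ Z₂, z ≫ i₂ = r ≫ (t ▷ T)))
    (hsurj₁ : Surjective (i₁ ≫ snd U T).left) (hsurj₂ : Surjective (i₂ ≫ snd U T).left)
    (h7₁ : IsLift s t σ (i₁ ≫ snd U T) (i₁ ≫ fst U T))
    (h7₂ : IsLift s t σ (i₂ ≫ snd U T) (i₂ ≫ fst U T)) :
    ∃ e : Z₁ ≅ Z₂, e.hom ≫ i₂ = i₁ := by
  obtain ⟨e₁, he₁⟩ := (char_of_props i₂ hst₂ hsurj₂ h7₂ i₁).mpr h7₁
  obtain ⟨e₂, he₂⟩ := (char_of_props i₁ hst₁ hsurj₁ h7₁ i₂).mpr h7₂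
  have hm₁ : Mono i₁ := by
    have : Mono i₁.left := inferInstance
    exact (Over.forget S).mono_of_mono_map this
  have hm₂ : Mono i₂ := by
    have : Mono i₂.left := inferInstance
    exact (Over.forget S).mono_of_mono_map this
  refine ⟨⟨e₁, e₂, ?_, ?_⟩, he₁⟩
  · rw [← cancel_mono i₁, Category.assoc, he₂, he₁, Category.id_comp]
  · rw [← cancel_mono i₂, Category.assoc, he₁, he₂, Category.id_comp]

end Construct

section Main

local notation "𝕂" => Scheme.fpqcPrecoverage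

/-- **Points of the fpqc quotient by an equivalence relation with open graph** (S6049). -/
theorem main {R U : Over S} (s t : R ⟶ U)
    [IsEquivalenceRelation s t]
    [Flat s.left] [Surjective s.left] [QuasiCompact s.left]
    (hc : IsOpenImmersion (lift t s).left)
    (T : Over S) (σ : QuotSh.rep 𝕂 T ⟶ QuotSh.quot 𝕂 s t) :
    (∃ (Z : Over S) (i : Z ⟶ U ⊗ T), IsOpenImmersion i.left ∧
      (∀ (T' : Over S) (r : T' ⟶ R ⊗ T),
        (∃ z : T' ⟶ Z, z ≫ i = r ≫ (s ▷ T)) ↔ (∃ z : T' ⟶ Z, z ≫ i = r ≫ (t ▷ T))) ∧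
      Flat (i ≫ snd U T).left ∧ Surjective (i ≫ snd U T).left ∧
      QuasiCompact (i ≫ snd U T).left ∧
      (∀ (T' : Over S) (z₁ z₂ : T' ⟶ Z), z₁ ≫ i ≫ snd U T = z₂ ≫ i ≫ snd U T →
        ∃ r : T' ⟶ R, r ≫ s = z₁ ≫ i ≫ fst U T ∧ r ≫ t = z₂ ≫ i ≫ fst U T) ∧
      QuotSh.repMap 𝕂 (i ≫ fst U T) ≫ QuotSh.quotπ 𝕂 s t =
        QuotSh.repMap 𝕂 (i ≫ snd U T) ≫ σ) ∧
    (∀ (Z Z' : Over S) (i : Z ⟶ U ⊗ T) (i' : Z' ⟶ U ⊗ T),
      IsOpenImmersion i.left → IsOpenImmersion i'.left →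
      (∀ (T' : Over S) (r : T' ⟶ R ⊗ T),
        (∃ z : T' ⟶ Z, z ≫ i = r ≫ (s ▷ T)) ↔ (∃ z : T' ⟶ Z, z ≫ i = r ≫ (t ▷ T))) →
      (∀ (T' : Over S) (r : T' ⟶ R ⊗ T),
        (∃ z : T' ⟶ Z', z ≫ i' = r ≫ (s ▷ T)) ↔ (∃ z : T' ⟶ Z', z ≫ i' = r ≫ (t ▷ T))) →
      Flat (i ≫ snd U T).left → Surjective (i ≫ snd U T).left →
      QuasiCompact (i ≫ snd U T).left →
      Flat (i' ≫ snd U T).left → Surjective (i' ≫ snd U T).left →
      QuasiCompact (i' ≫ snd U T).left →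
      (∀ (T' : Over S) (z₁ z₂ : T' ⟶ Z), z₁ ≫ i ≫ snd U T = z₂ ≫ i ≫ snd U T →
        ∃ r : T' ⟶ R, r ≫ s = z₁ ≫ i ≫ fst U T ∧ r ≫ t = z₂ ≫ i ≫ fst U T) →
      (∀ (T' : Over S) (z₁ z₂ : T' ⟶ Z'), z₁ ≫ i' ≫ snd U T = z₂ ≫ i' ≫ snd U T →
        ∃ r : T' ⟶ R, r ≫ s = z₁ ≫ i' ≫ fst U T ∧ r ≫ t = z₂ ≫ i' ≫ fst U T) →
      QuotSh.repMap 𝕂 (i ≫ fst U T) ≫ QuotSh.quotπ 𝕂 s t =
        QuotSh.repMap 𝕂 (i ≫ snd U T) ≫ σ →
      QuotSh.repMap 𝕂 (i' ≫ fst U T) ≫ QuotSh.quotπ 𝕂 s t =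
        QuotSh.repMap 𝕂 (i' ≫ snd U T) ≫ σ →
      ∃ e : Z ≅ Z', e.hom ≫ i' = i) := by
  constructor
  · obtain ⟨Z, hZ⟩ := exists_isGraphOpen s t σ
    exact ⟨Zo Z, Zi Z, inferInstance, stable hZ, flat_Zi_snd hZ, surjective_Zi_snd hZ,
      quasiCompact_Zi_snd hZ, exact hZ, isLift_Zi hZ⟩
  · intro Z Z' i i' hi hi' hst hst' _ hsurj _ _ hsurj' _ _ _ h7 h7'
    exact unique_of_props i i' hst hst' hsurj hsurj' h7 h7'

end Main

end Groth.Agent.Lib.Seat19.OpenGraph
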