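import Mathlib
import Groth.Prelude.Def_QuotSh
import Groth.Agent.Lib.Seat19QuotPts
import Groth.Agent.Lib.Seat19OpenGraph

/-!
# Subschemes of `U × T` representing `h_U ×_{U/R} h_T` (seat 19)

Generic consequences of the representing property (`Rep`), for the fpqc topology and an equivalence
relation `s t : R ⟶ U`: stability under `R`, exactness, and flat/surjective/quasi-compact over `T`.
-/

set_option autoImplicit false
universe u

open CategoryTheory Limits AlgebraicGeometry Opposite MonoidalCategory CartesianMonoidalCategory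
open Groth.Agent.Lib.Seat19.QuotPts Groth.Agent.Lib.Seat19.OpenGraph

namespace Groth.Agent.Lib.Seat19.GraphPts

variable {S : Scheme.{u}}

local notation "𝕂" => Scheme.fpqcPrecoverage

variable {R U : Over S} (s t : R ⟶ U) {T : Over S}
  (σ : QuotSh.rep 𝕂 T ⟶ QuotSh.quot 𝕂 s t)

/-- `i : Zc ⟶ U × T` is a monomorphism representing the points `(u, τ)` with `[u] = σ(τ)`. -/
structure Rep {Zc : Over S} (ii : Zc ⟶ U ⊗ T) : Prop where
  mono : Mono ii
  key : ∀ {T' : Over S} (p : T' ⟶ U ⊗ T),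
    (∃ z : T' ⟶ Zc, z ≫ ii = p) ↔ IsLift s t σ (p ≫ snd U T) (p ≫ fst U T)

variable {s t σ}

variable [IsEquivalenceRelation s t]

omit [IsEquivalenceRelation s t] in
lemma isLift_whisker {T' : Over S} (r : T' ⟶ R ⊗ T) :
    IsLift s t σ ((r ≫ (s ▷ T)) ≫ snd U T) ((r ≫ (s ▷ T)) ≫ fst U T) ↔
      IsLift s t σ ((r ≫ (t ▷ T)) ≫ snd U T) ((r ≫ (t ▷ T)) ≫ fst U T) := by
  unfold IsLift
  have e1 : (r ≫ (s ▷ T)) ≫ snd U T = r ≫ snd R T := by
    rw [Category.assoc, whiskerRight_snd]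
  have e2 : (r ≫ (t ▷ T)) ≫ snd U T = r ≫ snd R T := by
    rw [Category.assoc, whiskerRight_snd]
  have e3 : (r ≫ (s ▷ T)) ≫ fst U T = (r ≫ fst R T) ≫ s := by
    rw [Category.assoc, whiskerRight_fst, Category.assoc]
  have e4 : (r ≫ (t ▷ T)) ≫ fst U T = (r ≫ fst R T) ≫ t := by
    rw [Category.assoc, whiskerRight_fst, Category.assoc]
  rw [e1, e2, e3, e4, Groth.Agent.Lib.Helper9.repMap_comp (g := s),
    Groth.Agent.Lib.Helper9.repMap_comp (g := t), Category.assoc, Category.assoc,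
    QuotSh.quot_condition]

/-- `Z` is stable under `R`. -/
theorem stable {Zc : Over S} {ii : Zc ⟶ U ⊗ T} (hZ : Rep s t σ ii) (T' : Over S)
    (r : T' ⟶ R ⊗ T) :
    (∃ z : T' ⟶ Zc, z ≫ ii = r ≫ (s ▷ T)) ↔ (∃ z : T' ⟶ Zc, z ≫ ii = r ≫ (t ▷ T)) := by
  rw [hZ.key, hZ.key]
  exact isLift_whisker r

theorem isLift_i {Zc : Over S} {ii : Zc ⟶ U ⊗ T} (hZ : Rep s t σ ii) :
    IsLift s t σ (ii ≫ snd U T) (ii ≫ fst U T) :=
  (hZ.key (ii)).mp ⟨𝟙 _, Category.id_comp _⟩

theorem exact {Zc : Over S} {ii : Zc ⟶ U ⊗ T} (hZ : Rep s t σ ii) (T' : Over S)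
    (z₁ z₂ : T' ⟶ Zc) (h : z₁ ≫ ii ≫ snd U T = z₂ ≫ ii ≫ snd U T) :
    ∃ r : T' ⟶ R, r ≫ s = z₁ ≫ ii ≫ fst U T ∧ r ≫ t = z₂ ≫ ii ≫ fst U T := by
  have l1 := (isLift_i hZ).comp z₁
  have l2 := (isLift_i hZ).comp z₂
  unfold IsLift at l1 l2
  rw [h] at l1
  exact exists_rel_of_eq 𝕂 s t _ _ (l1.trans l2.symm)

theorem surjective_i_snd {Zc : Over S} {ii : Zc ⟶ U ⊗ T} (hZ : Rep s t σ ii) :
    Surjective (ii ≫ snd U T).left := by
  refine ⟨fun τ => ?_⟩
  obtain ⟨𝓡, h𝓡, hl⟩ := exists_lift_locally 𝕂 s t σ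
  obtain ⟨W', f', hf', w, rfl⟩ := exists_mem_range_of_mem_fpqc _
    ((GrothendieckTopology.mem_over_iff _ _).mp h𝓡) τ
  have hf'' := (Sieve.overEquiv_iff _ _).mp hf'
  obtain ⟨x, hx⟩ := hl _ hf''
  let p : Over.mk (f' ≫ T.hom) ⟶ U ⊗ T := lift x (Over.homMk f')
  have hp : IsLift s t σ (p ≫ snd U T) (p ≫ fst U T) := by
    unfold IsLift
    rw [lift_snd, lift_fst]
    exact hx
  obtain ⟨z, hz⟩ := (hZ.key p).mpr hp
  refine ⟨z.left.base w, ?_⟩
  have e1 : z ≫ ii ≫ snd U T = Over.homMk f' := by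
    rw [← Category.assoc, hz, lift_snd]
  have e2 := congrArg (fun φ => φ.left.base w) e1
  simpa using e2

/-- for a lift `x` of `σ` over `W`, the base change of `Z ⟶ T` to `W` is the base change of `t`
along `x`. -/
theorem exists_isPullback {Zc : Over S} {ii : Zc ⟶ U ⊗ T} (hZ : Rep s t σ ii) {W : Over S}
    (f : W ⟶ T) (x : W ⟶ U) (hx : IsLift s t σ f x) :
    ∃ ζ : pullback t x ⟶ Zc, IsPullback ζ (pullback.snd t x) (ii ≫ snd U T) f := by
  let p : pullback t x ⟶ U ⊗ T := lift (pullback.fst t x ≫ s) (pullback.snd t x ≫ f)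
  have hp : IsLift s t σ (p ≫ snd U T) (p ≫ fst U T) := by
    unfold IsLift
    rw [lift_snd, lift_fst, Groth.Agent.Lib.Helper9.repMap_comp, Category.assoc,
      QuotSh.quot_condition, ← Category.assoc, ← Groth.Agent.Lib.Helper9.repMap_comp,
      pullback.condition, Groth.Agent.Lib.Helper9.repMap_comp, Category.assoc, hx,
      Groth.Agent.Lib.Helper9.repMap_comp, Category.assoc]
  obtain ⟨ζ, hζ⟩ := (hZ.key p).mpr hp
  have hmono : Mono ii := hZ.mono
  refine ⟨ζ, ⟨⟨?_⟩, ⟨PullbackCone.IsLimit.mk _ ?_ ?_ ?_ ?_⟩⟩⟩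
  · rw [← Category.assoc, hζ, lift_snd]
  · intro c
    have l1 := (isLift_i hZ).comp c.fst
    have l2 := hx.comp c.snd
    unfold IsLift at l1 l2
    have hc' : c.fst ≫ ii ≫ snd U T = c.snd ≫ f := c.condition
    rw [hc'] at l1
    exact pullback.lift (exists_rel_of_eq 𝕂 s t _ _ (l1.trans l2.symm)).choose c.snd
      (exists_rel_of_eq 𝕂 s t _ _ (l1.trans l2.symm)).choose_spec.2
  · intro c
    have l1 := (isLift_i hZ).comp c.fst
    have l2 := hx.comp c.snd
    unfold IsLift at l1 l2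
    have hc' : c.fst ≫ ii ≫ snd U T = c.snd ≫ f := c.condition
    rw [hc'] at l1
    have hr := (exists_rel_of_eq 𝕂 s t _ _ (l1.trans l2.symm)).choose_spec
    rw [← cancel_mono (ii), Category.assoc, hζ]
    apply CartesianMonoidalCategory.hom_ext
    · rw [Category.assoc, lift_fst, ← Category.assoc, pullback.lift_fst, hr.1, Category.assoc]
    · rw [Category.assoc, lift_snd, ← Category.assoc, pullback.lift_snd, Category.assoc, hc']
  · intro c
    exact pullback.lift_snd _ _ _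
  · intro c m hm1 hm2
    have l1 := (isLift_i hZ).comp c.fst
    have l2 := hx.comp c.snd
    unfold IsLift at l1 l2
    have hc' : c.fst ≫ ii ≫ snd U T = c.snd ≫ f := c.condition
    rw [hc'] at l1
    have hr := (exists_rel_of_eq 𝕂 s t _ _ (l1.trans l2.symm)).choose_spec
    apply pullback.hom_ext
    · rw [pullback.lift_fst]
      apply rel_mono s t
      · rw [hr.1, ← hm1, Category.assoc, Category.assoc, ← Category.assoc ζ, hζ, lift_fst]
      · rw [hr.2, ← hm2, Category.assoc, Category.assoc, pullback.condition]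
    · rw [pullback.lift_snd, hm2]

theorem flat_i_snd [Flat s.left] {Zc : Over S} {ii : Zc ⟶ U ⊗ T} (hZ : Rep s t σ ii) :
    Flat (ii ≫ snd U T).left := by
  have hft : Flat t.left := flat_t s t
  apply flat_of_forall_exists
  intro z
  obtain ⟨𝓡, h𝓡, hl⟩ := exists_lift_locally 𝕂 s t σ
  have h1 := (GrothendieckTopology.mem_over_iff _ _).mp h𝓡
  rw [Precoverage.mem_toGrothendieck_iff_of_isStableUnderComposition] at h1
  obtain ⟨P, hP, hle⟩ := h1
  have h2 := hP.2.1
  rw [Scheme.jointlySurjectivePrecoverage, Presieve.mem_comap_jointlySurjectivePrecoverage_iff] at h2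
  obtain ⟨W', f', hf', w, hw⟩ := h2 ((ii ≫ snd U T).left.base z)
  have hflat : Flat f' := hP.2.2 hf'
  have hf'' := (Sieve.overEquiv_iff _ _).mp (hle _ f' hf')
  obtain ⟨x, hx⟩ := hl _ hf''
  obtain ⟨ζ, hpb⟩ := exists_isPullback hZ (Over.homMk f' : Over.mk (f' ≫ T.hom) ⟶ T) x hx
  have hpb' : IsPullback ζ.left (pullback.snd t x).left (ii ≫ snd U T).left f' :=
    hpb.map (Over.forget S)
  have hpbt : IsPullback (pullback.fst t x).left (pullback.snd t x).left t.left x.left :=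
    (IsPullback.of_hasPullback t x).map (Over.forget S)
  obtain ⟨c, hc1, hc2⟩ := Scheme.exists_preimage_of_isPullback hpb' z w hw.symm
  refine ⟨_, ζ.left, c, hc1, ?_, ?_⟩
  · exact MorphismProperty.of_isPullback (P := @Flat) hpb'.flip hflat
  · rw [hpb'.w]
    have : Flat (pullback.snd t x).left := MorphismProperty.of_isPullback (P := @Flat) hpbt hft
    infer_instance

theorem quasiCompact_i_snd [QuasiCompact s.left] {Zc : Over S} {ii : Zc ⟶ U ⊗ T}
    (hZ : Rep s t σ ii) : QuasiCompact (ii ≫ snd U T).left := by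
  have hqt : QuasiCompact t.left := quasiCompact_t s t
  rw [quasiCompact_iff_forall_isAffineOpen]
  intro V hV
  obtain ⟨𝓡, h𝓡, hl⟩ := exists_lift_locally 𝕂 s t σ
  have h1 := (GrothendieckTopology.mem_over_iff _ _).mp h𝓡
  rw [Precoverage.mem_toGrothendieck_iff_of_isStableUnderComposition] at h1
  obtain ⟨P, hP, hle⟩ := h1
  obtain ⟨𝒰, h𝒰, rfl⟩ := Scheme.mem_propQCPrecoverage_iff_exists_quasiCompactCover.mp hP
  obtain ⟨n, idx, Vi, hVi, hcov⟩ :=
    QuasiCompactCover.exists_isAffineOpen_of_isCompact 𝒰.toPreZeroHypercover hV.isCompact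
  have hmem : ∀ i : Fin n, 𝓡 (Over.homMk (𝒰.f (idx i)) :
      Over.mk (𝒰.f (idx i) ≫ T.hom) ⟶ T) :=
    fun i => (Sieve.overEquiv_iff _ _).mp (hle _ _ ⟨idx i⟩)
  choose x hx using fun i => hl _ (hmem i)
  choose ζ hpb using fun i => exists_isPullback hZ _ (x i) (hx i)
  have hpb' : ∀ i, IsPullback (ζ i).left (pullback.snd t (x i)).left (ii ≫ snd U T).left
      (𝒰.f (idx i)) := fun i => (hpb i).map (Over.forget S)
  have hpbt : ∀ i, IsPullback (pullback.fst t (x i)).left (pullback.snd t (x i)).left t.left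
      (x i).left := fun i => (IsPullback.of_hasPullback t (x i)).map (Over.forget S)
  have hqc : ∀ i, QuasiCompact (pullback.snd t (x i)).left :=
    fun i => MorphismProperty.of_isPullback (P := @QuasiCompact) (hpbt i) hqt
  have hcomp : ∀ i, IsCompact ((pullback.snd t (x i)).left.base ⁻¹' (Vi i : Set (𝒰.X (idx i)))) :=
    fun i => (hqc i).1 _ (Vi i).isOpen (hVi i).isCompact
  have heq : ((ii ≫ snd U T).left ⁻¹ᵁ V : Set (Zc).left) =
      ⋃ i, (ζ i).left.base ''
        ((pullback.snd t (x i)).left.base ⁻¹' (Vi i : Set (𝒰.X (idx i)))) := by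
    ext z
    simp only [Set.mem_iUnion, Set.mem_image]
    constructor
    · intro hz
      have hz' : (ii ≫ snd U T).left.base z ∈ (V : Set T.left) := hz
      rw [← hcov] at hz'
      simp only [Set.mem_iUnion, Set.mem_image] at hz'
      obtain ⟨i, w, hw, hwz⟩ := hz'
      obtain ⟨c, hc1, hc2⟩ := Scheme.exists_preimage_of_isPullback (hpb' i) z w hwz.symm
      refine ⟨i, c, ?_, hc1⟩
      change (pullback.snd t (x i)).left.base c ∈ Vi i
      rw [hc2]
      exact hw
    · rintro ⟨i, c, hc, rfl⟩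
      change (ii ≫ snd U T).left.base ((ζ i).left.base c) ∈ (V : Set T.left)
      rw [← hcov]
      simp only [Set.mem_iUnion, Set.mem_image]
      refine ⟨i, (pullback.snd t (x i)).left.base c, hc, ?_⟩
      have := congrArg (fun φ => φ.base c) (hpb' i).w
      exact this.symm
  rw [heq]
  exact isCompact_iUnion fun i => (hcomp i).image (Scheme.Hom.continuous _)


end Groth.Agent.Lib.Seat19.GraphPts
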