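import Mathlib.Tactic
import Mathlib.AlgebraicGeometry.Sites.Fpqc
import Groth.Prelude.Def_NonAbH2

/-!
# Gluing morphisms of schemes along fpqc covering families, and descent along locally split morphisms (seat 27)

* `existsUnique_glue`: for a covering family `R ∈ K X` (`K ≤ fpqc` precoverage), a compatible family of
  morphisms `S' ⟶ Y` (`S' ⟶ X` in `R`) glues to a unique `X ⟶ Y` (representable presheaves are fpqc sheaves).
* `hom_ext_of_cover`: the separatedness part.
* `existsUnique_desc`: in `Over S`, a morphism `φ : E ⟶ Y` which coequalises the kernel pair of `p : E ⟶ B` on points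
  descends uniquely to `B ⟶ Y`, provided `p` acquires sections on a `K`-covering family of `B`
  (`NonAbH1.IsLocallyTrivialFor K (Over.mk p.left)`).
-/

set_option autoImplicit false
universe u

open CategoryTheory AlgebraicGeometry CategoryTheory.Limits Opposite

namespace Groth.Agent.Lib.Seat27.Descent

variable {K : Precoverage Scheme.{u}}

theorem isSheafFor_yoneda (hK : K ≤ Scheme.fpqcPrecoverage) {X : Scheme.{u}} (Y : Scheme.{u})
    (R : Presieve X) (hR : R ∈ K X) : Presieve.IsSheafFor (yoneda.obj Y) R := by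
  rw [Presieve.isSheafFor_iff_generate]
  have h1 : Presieve.IsSheaf Scheme.fpqcTopology (yoneda.obj Y) :=
    GrothendieckTopology.Subcanonical.isSheaf_of_isRepresentable _
  exact h1 _ (Precoverage.generate_mem_toGrothendieck (hK X hR))

theorem existsUnique_glue (hK : K ≤ Scheme.fpqcPrecoverage) {X Y : Scheme.{u}} (R : Presieve X)
    (hR : R ∈ K X) (φ : ∀ ⦃S' : Scheme.{u}⦄ (f : S' ⟶ X), R f → (S' ⟶ Y))
    (hφ : ∀ ⦃S₁ S₂ T : Scheme.{u}⦄ (f₁ : S₁ ⟶ X) (f₂ : S₂ ⟶ X) (h₁ : R f₁) (h₂ : R f₂)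
      (a : T ⟶ S₁) (b : T ⟶ S₂), a ≫ f₁ = b ≫ f₂ → a ≫ φ f₁ h₁ = b ≫ φ f₂ h₂) :
    ∃! ψ : X ⟶ Y, ∀ ⦃S' : Scheme.{u}⦄ (f : S' ⟶ X) (h : R f), f ≫ ψ = φ f h := by
  have hs := isSheafFor_yoneda hK Y R hR
  let x : Presieve.FamilyOfElements (yoneda.obj Y) R := fun S' f h => φ f h
  have hx : x.Compatible := by
    intro Y₁ Y₂ Z g₁ g₂ f₁ f₂ h₁ h₂ hcomm
    exact hφ f₁ f₂ h₁ h₂ g₁ g₂ hcomm
  obtain ⟨ψ, hψ, huniq⟩ := hs x hx
  refine ⟨ψ, fun S' f h => hψ f h, fun ψ' hψ' => huniq ψ' (fun S' f h => hψ' f h)⟩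

theorem hom_ext_of_cover (hK : K ≤ Scheme.fpqcPrecoverage) {X Y : Scheme.{u}} (R : Presieve X)
    (hR : R ∈ K X) (ψ₁ ψ₂ : X ⟶ Y)
    (h : ∀ ⦃S' : Scheme.{u}⦄ (f : S' ⟶ X), R f → f ≫ ψ₁ = f ≫ ψ₂) : ψ₁ = ψ₂ :=
  (isSheafFor_yoneda hK Y R hR).isSeparatedFor.ext (fun _ _ hf => h _ hf)

section Over

variable {S : Scheme.{u}}

/-- Descent along a morphism which acquires sections on a covering family: a morphism out of `E` which is constant
on the fibres of `p : E ⟶ B` (on points) factors uniquely through `p`. -/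
theorem existsUnique_desc (hK : K ≤ Scheme.fpqcPrecoverage) [K.IsStableUnderBaseChange]
    {E B Y : Over S} (p : E ⟶ B)
    (hp : NonAbH1.IsLocallyTrivialFor K (Over.mk p.left : Over B.left))
    (φ : E ⟶ Y)
    (hφ : ∀ (T : Over S) (x y : T ⟶ E), x ≫ p = y ≫ p → x ≫ φ = y ≫ φ) :
    ∃! ψ : B ⟶ Y, p ≫ ψ = φ := by
  obtain ⟨R, hR, hsec⟩ := hp
  choose s hs using hsec
  -- the key invariance at the level of schemes
  have hinv : ∀ ⦃T : Scheme.{u}⦄ (x y : T ⟶ E.left), x ≫ p.left = y ≫ p.left →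
      x ≫ φ.left = y ≫ φ.left := by
    intro T x y hxy
    let TS : Over S := Over.mk (x ≫ E.hom)
    have hy : y ≫ E.hom = TS.hom := by
      change y ≫ E.hom = x ≫ E.hom
      rw [← Over.w p, ← Category.assoc, ← hxy, Category.assoc]
    have := hφ TS (Over.homMk x rfl) (Over.homMk y hy) (by
      apply Over.OverMorphism.ext
      simpa using hxy)
    have h2 := congrArg Over.Hom.left this
    simpa using h2
  -- glue
  obtain ⟨ψ₀, hψ₀, huniq⟩ := existsUnique_glue hK (Y := Y.left) R hR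
    (fun S' f hf => s f hf ≫ φ.left) (by
      intro S₁ S₂ T f₁ f₂ h₁ h₂ a b hab
      rw [← Category.assoc, ← Category.assoc]
      apply hinv
      rw [Category.assoc, Category.assoc]
      have e1 : s f₁ h₁ ≫ p.left = f₁ := hs f₁ h₁
      have e2 : s f₂ h₂ ≫ p.left = f₂ := hs f₂ h₂
      rw [e1, e2, hab])
  have hs' : ∀ ⦃S' : Scheme.{u}⦄ (f : S' ⟶ B.left) (hf : R f), s f hf ≫ p.left = f :=
    fun S' f hf => hs f hf
  -- the glued morphism is over `S`
  have hover : ψ₀ ≫ Y.hom = B.hom := by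
    apply hom_ext_of_cover hK R hR
    intro S' f hf
    rw [← Category.assoc, hψ₀ f hf, Category.assoc, Over.w φ]
    calc s f hf ≫ E.hom = s f hf ≫ p.left ≫ B.hom := by rw [Over.w p]
      _ = f ≫ B.hom := by rw [← Category.assoc, hs' f hf]
  -- it factors `φ`
  have hfac : p.left ≫ ψ₀ = φ.left := by
    apply hom_ext_of_cover hK (R.pullbackArrows p.left) (Precoverage.pullbackArrows_mem p.left hR)
    rintro T g ⟨Z, f, hf⟩
    rw [← Category.assoc, ← pullback.condition, Category.assoc, hψ₀ f hf, ← Category.assoc]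
    apply hinv
    rw [Category.assoc, hs' f hf, pullback.condition]
  refine ⟨Over.homMk ψ₀ hover, ?_, ?_⟩
  · apply Over.OverMorphism.ext
    simpa using hfac
  · intro ψ' hψ'
    apply Over.OverMorphism.ext
    change ψ'.left = ψ₀
    apply huniq
    intro S' f hf
    have h1 : p.left ≫ ψ'.left = φ.left := by
      have := congrArg Over.Hom.left hψ'
      simpa using this
    calc f ≫ ψ'.left = (s f hf ≫ p.left) ≫ ψ'.left := by rw [hs' f hf]
      _ = s f hf ≫ φ.left := by rw [Category.assoc, h1]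

end Over

end Groth.Agent.Lib.Seat27.Descent
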