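import Mathlib

/-!
# Seat58: faithfully flat descent for algebras, functor-of-points form (pure algebra)

`A → A'` a flat ring map, `C'` an `A'`-algebra.  A *ring-level descent datum* `RDD A A' C'` is a
family of maps between the sets of `A`-algebra maps `C' → R` over two `A`-algebra maps
`a₀ a₁ : A' → R`, natural in `R`, the identity for `a₀ = a₁` and transitive (the functor-of-points
form of an isomorphism `C' ⊗ A' ≅ A' ⊗ C'` with the cocycle condition).  From it we build the
`A`-subalgebra `C ⊆ C'` of invariants and prove `A' ⊗[A] C ≅ C'` (`bijective_lam`), the invariance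
of the restriction to `C` under the transport maps (`Φ_apply_of_mem`) and the unique extension of
algebra maps from `C` (`existsUnique_extension`).
-/

set_option autoImplicit false
universe u
open TensorProduct

namespace Groth.Agent.Lib.Seat58.DescAlg

section Coalg

variable {A A' : Type u} [CommRing A] [CommRing A'] [Algebra A A']
variable {M' : Type u} [AddCommGroup M'] [Module A M'] [Module A' M'] [IsScalarTower A A' M']

/-- `δ : A' ⊗ M' → M'`, `x ⊗ u ↦ x • u` -/
noncomputable abbrev δ : A' ⊗[A] M' →ₗ[A] M' := TensorProduct.lift (Algebra.lsmul A A M').toLinearMap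

lemma δ_tmul (x : A') (u : M') : δ (A := A) (x ⊗ₜ[A] u) = x • u := by simp [δ]

/-- Descent for coalgebras of the comonad `A' ⊗[A] -` along a flat ring map: the module of
invariants `M = {u | ψ u = 1 ⊗ u}` satisfies `A' ⊗ M ≃ M'`. -/
theorem coalg_descent [Module.Flat A A'] (ψ : M' →ₗ[A] A' ⊗[A] M')
    (hlin : ∀ (x : A') (u : M'), ψ (x • u) = x • ψ u)
    (hcounit : ∀ u, δ (A := A) (ψ u) = u)
    (hcoassoc : ∀ u, LinearMap.lTensor A' ψ (ψ u) =
      LinearMap.lTensor A' (TensorProduct.mk A A' M' 1) (ψ u))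
    (M : Submodule A M') (hM : ∀ u, u ∈ M ↔ ψ u = (1 : A') ⊗ₜ[A] u) :
    Function.Bijective (δ (A := A) (A' := A') (M' := M') ∘ₗ LinearMap.lTensor A' M.subtype) := by
  set η : M' →ₗ[A] A' ⊗[A] M' := TensorProduct.mk A A' M' 1 with hη
  have hexact : Function.Exact M.subtype (ψ - η) := by
    have hMker : M = LinearMap.ker (ψ - η) := by
      ext u
      rw [hM, LinearMap.mem_ker, LinearMap.sub_apply, sub_eq_zero]
      rfl
    rw [hMker]
    exact LinearMap.exact_subtype_ker_map _
  have hexact' := Module.Flat.lTensor_exact A' hexact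
  have hι : Function.Injective (LinearMap.lTensor A' M.subtype) :=
    Module.Flat.lTensor_preserves_injective_linearMap _ M.subtype_injective
  have hkey : ∀ s : A' ⊗[A] M, ψ (δ (A := A) (LinearMap.lTensor A' M.subtype s)) =
      LinearMap.lTensor A' M.subtype s := by
    intro s
    induction s using TensorProduct.induction_on with
    | zero => simp
    | tmul a m =>
      rw [LinearMap.lTensor_tmul, Submodule.subtype_apply, δ_tmul, hlin, (hM m).mp m.2,
        TensorProduct.smul_tmul', smul_eq_mul, mul_one]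
    | add a b ha hb => simp only [map_add, ha, hb]
  constructor
  · rw [injective_iff_map_eq_zero]
    intro s hs
    apply hι
    rw [map_zero, ← hkey s]
    rw [LinearMap.comp_apply] at hs
    rw [hs, map_zero]
  · intro u
    have h0 : LinearMap.lTensor A' (ψ - η) (ψ u) = 0 := by
      rw [LinearMap.lTensor_sub, LinearMap.sub_apply, hcoassoc, sub_self]
    obtain ⟨s, hs⟩ := (hexact' _).mp h0
    exact ⟨s, by rw [LinearMap.comp_apply, hs, hcounit]⟩

end Coalg

section Alg

open Algebra.TensorProduct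

variable (A A' C' : Type u) [CommRing A] [CommRing A'] [CommRing C'] [Algebra A A'] [Algebra A' C']
  [Algebra A C'] [IsScalarTower A A' C']

/-- the structure map `A' → C'` as a map of `A`-algebras -/
abbrev jm : A' →ₐ[A] C' := IsScalarTower.toAlgHom A A' C'

/-- `A`-algebra maps `C' → R` over a given `A`-algebra map `a : A' → R` -/
abbrev L (R : Type u) [CommRing R] [Algebra A R] (a : A' →ₐ[A] R) : Type u :=
  {c : C' →ₐ[A] R // c.comp (jm A A' C') = a}

/-- Ring-level descent datum on the `A'`-algebra `C'` relative to `A → A'`, in functor-of-points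
form. -/
structure RDD where
  Φ : ∀ {R : Type u} [CommRing R] [Algebra A R] (a₀ a₁ : A' →ₐ[A] R), L A A' C' R a₀ → L A A' C' R a₁
  nat : ∀ {R R' : Type u} [CommRing R] [Algebra A R] [CommRing R'] [Algebra A R'] (g : R →ₐ[A] R')
    (a₀ a₁ : A' →ₐ[A] R) (c : L A A' C' R a₀),
    (Φ (g.comp a₀) (g.comp a₁) ⟨g.comp c.1, by rw [AlgHom.comp_assoc, c.2]⟩).1 = g.comp (Φ a₀ a₁ c).1
  self : ∀ {R : Type u} [CommRing R] [Algebra A R] (a : A' →ₐ[A] R) (c : L A A' C' R a), Φ a a c = c
  comp : ∀ {R : Type u} [CommRing R] [Algebra A R] (a₀ a₁ a₂ : A' →ₐ[A] R) (c : L A A' C' R a₀),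
    Φ a₁ a₂ (Φ a₀ a₁ c) = Φ a₀ a₂ c

variable {A A' C'}

namespace RDD

variable (D : RDD A A' C')

lemma Φ_congr {R : Type u} [CommRing R] [Algebra A R] {a₀ a₀' a₁ a₁' : A' →ₐ[A] R}
    (h₀ : a₀ = a₀') (h₁ : a₁ = a₁') (c : L A A' C' R a₀) (c' : L A A' C' R a₀') (hc : c.1 = c'.1) :
    (D.Φ a₀ a₁ c).1 = (D.Φ a₀' a₁' c').1 := by
  subst h₀ h₁
  have : c = c' := Subtype.ext hc
  rw [this]

/-- the coaction `C' → A' ⊗ C'`: transport of the universal point -/
noncomputable def ψ : C' →ₐ[A] A' ⊗[A] C' :=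
  (D.Φ ((includeRight : C' →ₐ[A] A' ⊗[A] C').comp (jm A A' C')) includeLeft ⟨includeRight, rfl⟩).1

lemma ψ_comp_jm : D.ψ.comp (jm A A' C') = includeLeft :=
  (D.Φ ((includeRight : C' →ₐ[A] A' ⊗[A] C').comp (jm A A' C')) includeLeft ⟨includeRight, rfl⟩).2

lemma ψ_algebraMap (x : A') : D.ψ (algebraMap A' C' x) = x ⊗ₜ[A] (1 : C') := by
  have := congrArg (fun f => f x) D.ψ_comp_jm
  simpa using this

/-- Yoneda: every transport map is induced by the coaction. -/
lemma Φ_eq {R : Type u} [CommRing R] [Algebra A R] (a₀ a₁ : A' →ₐ[A] R) (c : L A A' C' R a₀) :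
    (D.Φ a₀ a₁ c).1 = (lift a₁ c.1 (fun _ _ => Commute.all _ _)).comp D.ψ := by
  set g : A' ⊗[A] C' →ₐ[A] R := lift a₁ c.1 (fun _ _ => Commute.all _ _) with hg
  have h1 : g.comp includeLeft = a₁ := AlgHom.ext fun x => by simp [g]
  have h2 : g.comp includeRight = c.1 := AlgHom.ext fun x => by simp [g]
  have h0 : g.comp ((includeRight : C' →ₐ[A] A' ⊗[A] C').comp (jm A A' C')) = a₀ := by
    rw [← AlgHom.comp_assoc, h2, c.2]
  have := D.nat g ((includeRight : C' →ₐ[A] A' ⊗[A] C').comp (jm A A' C')) includeLeft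
    ⟨includeRight, rfl⟩
  change _ = g.comp (D.Φ ((includeRight : C' →ₐ[A] A' ⊗[A] C').comp (jm A A' C')) includeLeft
    ⟨includeRight, rfl⟩).1
  rw [← this]
  exact D.Φ_congr h0.symm h1.symm c _ h2.symm

/-- counit: `δ ∘ ψ = id` -/
lemma counit (u : C') : δ (A := A) (A' := A') (M' := C') (D.ψ u) = u := by
  have h := D.Φ_eq (jm A A' C') (jm A A' C') ⟨AlgHom.id A C', AlgHom.id_comp _⟩
  rw [D.self] at h
  have h' := congrArg (fun f => f u) h
  simp only [AlgHom.coe_id, id_eq, AlgHom.comp_apply] at h'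
  have l : ∀ t : A' ⊗[A] C', δ (A := A) (A' := A') (M' := C') t =
      (lift (jm A A' C') (AlgHom.id A C') (fun _ _ => Commute.all _ _)) t := by
    intro t
    induction t using TensorProduct.induction_on with
    | zero => simp
    | tmul a m => simp [δ, Algebra.smul_def]
    | add a b ha hb => simp only [map_add, ha, hb]
  rw [l]
  exact h'.symm

/-- coassociativity: `(id ⊗ ψ) ∘ ψ = (id ⊗ includeRight) ∘ ψ` -/
lemma coassoc (u : C') : LinearMap.lTensor A' D.ψ.toLinearMap (D.ψ u) =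
    LinearMap.lTensor A' (TensorProduct.mk A A' C' 1) (D.ψ u) := by
  -- the three points of `A' ⊗ (A' ⊗ C')`
  let R₃ := A' ⊗[A] (A' ⊗[A] C')
  let ir : A' ⊗[A] C' →ₐ[A] R₃ := includeRight
  let b₀ : A' →ₐ[A] R₃ := ir.comp ((includeRight : C' →ₐ[A] A' ⊗[A] C').comp (jm A A' C'))
  let b₁ : A' →ₐ[A] R₃ := ir.comp includeLeft
  let b₂ : A' →ₐ[A] R₃ := includeLeft
  let c₀ : L A A' C' R₃ b₀ := ⟨ir.comp includeRight, rfl⟩
  have hcomp := D.comp b₀ b₁ b₂ c₀
  -- first transport
  have e1 : (D.Φ b₀ b₁ c₀).1 = ir.comp D.ψ := by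
    rw [D.Φ_eq]
    congr 1
    apply Algebra.TensorProduct.ext'
    intro a c
    simp only [lift_tmul, b₁, c₀, ir, AlgHom.comp_apply, includeLeft_apply, includeRight_apply]
    rw [← map_mul, tmul_mul_tmul, mul_one, one_mul]
  -- second transport
  have e2 : (D.Φ b₁ b₂ (D.Φ b₀ b₁ c₀)).1 = (Algebra.TensorProduct.map (AlgHom.id A A') D.ψ).comp D.ψ := by
    rw [D.Φ_eq]
    congr 1
    apply Algebra.TensorProduct.ext'
    intro a c
    rw [lift_tmul, e1]
    rw [Algebra.TensorProduct.map_tmul]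
    change (a ⊗ₜ[A] (1 : A' ⊗[A] C')) * ((1 : A') ⊗ₜ[A] D.ψ c) = a ⊗ₜ[A] D.ψ c
    rw [tmul_mul_tmul, mul_one, one_mul]
  have e3 : (D.Φ b₀ b₂ c₀).1 =
      (Algebra.TensorProduct.map (AlgHom.id A A') (includeRight : C' →ₐ[A] A' ⊗[A] C')).comp D.ψ := by
    rw [D.Φ_eq]
    congr 1
    apply Algebra.TensorProduct.ext'
    intro a c
    rw [lift_tmul, Algebra.TensorProduct.map_tmul]
    change (a ⊗ₜ[A] (1 : A' ⊗[A] C')) * ((1 : A') ⊗ₜ[A] ((1 : A') ⊗ₜ[A] c)) = a ⊗ₜ[A] ((1 : A') ⊗ₜ[A] c)
    rw [tmul_mul_tmul, mul_one, one_mul]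
  rw [hcomp, e3] at e2
  have h' := congrArg (fun f => f u) e2
  simp only [AlgHom.comp_apply] at h'
  have l1 : ∀ t : A' ⊗[A] C', Algebra.TensorProduct.map (AlgHom.id A A') D.ψ t =
      LinearMap.lTensor A' D.ψ.toLinearMap t := by
    intro t
    induction t using TensorProduct.induction_on with
    | zero => simp
    | tmul a m => simp
    | add a b ha hb => simp only [map_add, ha, hb]
  have l2 : ∀ t : A' ⊗[A] C',
      Algebra.TensorProduct.map (AlgHom.id A A') (includeRight : C' →ₐ[A] A' ⊗[A] C') t =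
      LinearMap.lTensor A' (TensorProduct.mk A A' C' 1) t := by
    intro t
    induction t using TensorProduct.induction_on with
    | zero => simp
    | tmul a m => simp
    | add a b ha hb => simp only [map_add, ha, hb]
  rw [← l1, ← l2, h']

/-- the subalgebra of invariants -/
noncomputable def C : Subalgebra A C' := AlgHom.equalizer D.ψ includeRight

lemma mem_C (z : C') : z ∈ D.C ↔ D.ψ z = (1 : A') ⊗ₜ[A] z := by
  rw [C, AlgHom.mem_equalizer]
  rfl

/-- the comparison map `A' ⊗ C → C'` -/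
noncomputable def lam : A' ⊗[A] D.C →ₐ[A] C' :=
  lift (jm A A' C') D.C.val (fun _ _ => Commute.all _ _)

lemma lam_tmul (a : A') (z : D.C) : D.lam (a ⊗ₜ z) = algebraMap A' C' a * (z : C') := by
  simp [lam]

theorem bijective_lam [Module.Flat A A'] : Function.Bijective D.lam := by
  have hlin : ∀ (x : A') (u : C'), D.ψ.toLinearMap (x • u) = x • D.ψ.toLinearMap u := by
    intro x u
    simp only [AlgHom.toLinearMap_apply]
    rw [Algebra.smul_def, map_mul, D.ψ_algebraMap, Algebra.smul_def,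
      Algebra.TensorProduct.algebraMap_apply, Algebra.algebraMap_self_apply]
  have key := coalg_descent (A := A) (A' := A') (M' := C') D.ψ.toLinearMap hlin D.counit D.coassoc
    (Subalgebra.toSubmodule D.C) (fun u => by
      rw [Subalgebra.mem_toSubmodule, D.mem_C]; rfl)
  have e : ⇑D.lam = ⇑(δ (A := A) (A' := A') (M' := C') ∘ₗ
      LinearMap.lTensor A' (Subalgebra.toSubmodule D.C).subtype) := by
    funext t
    induction t using TensorProduct.induction_on with
    | zero => simp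
    | tmul a m => simp [lam_tmul, δ, Algebra.smul_def]
    | add a b ha hb => simp only [map_add, ha, hb]
  rw [e]
  exact key

/-- the restriction to the invariants is unchanged by transport -/
lemma Φ_apply_of_mem {R : Type u} [CommRing R] [Algebra A R] (a₀ a₁ : A' →ₐ[A] R)
    (c : L A A' C' R a₀) {z : C'} (hz : z ∈ D.C) : (D.Φ a₀ a₁ c).1 z = c.1 z := by
  rw [D.Φ_eq, AlgHom.comp_apply, (D.mem_C z).mp hz]
  simp

/-- unique extension of an algebra map on the invariants to `C'` over a given point of `A'` -/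
theorem existsUnique_extension [Module.Flat A A'] {R : Type u} [CommRing R] [Algebra A R]
    (a : A' →ₐ[A] R) (c₀ : D.C →ₐ[A] R) :
    ∃! c : C' →ₐ[A] R, c.comp (jm A A' C') = a ∧ c.comp D.C.val = c₀ := by
  let e : (A' ⊗[A] D.C) ≃ₐ[A] C' := AlgEquiv.ofBijective D.lam D.bijective_lam
  let g : A' ⊗[A] D.C →ₐ[A] R := lift a c₀ (fun _ _ => Commute.all _ _)
  have he : ∀ t, e t = D.lam t := fun t => rfl
  refine ⟨g.comp e.symm.toAlgHom, ⟨?_, ?_⟩, ?_⟩
  · apply AlgHom.ext
    intro x
    have : e.symm (algebraMap A' C' x) = x ⊗ₜ (1 : D.C) := by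
      rw [AlgEquiv.symm_apply_eq, he, lam_tmul]; simp
    simp [this, g]
  · apply AlgHom.ext
    intro z
    have : e.symm (z : C') = (1 : A') ⊗ₜ z := by
      rw [AlgEquiv.symm_apply_eq, he, lam_tmul]; simp
    simp [this, g]
  · rintro c ⟨h1, h2⟩
    apply AlgHom.ext
    intro y
    obtain ⟨t, rfl⟩ := e.surjective y
    change c (e t) = g (e.symm (e t))
    rw [AlgEquiv.symm_apply_apply, he]
    induction t using TensorProduct.induction_on with
    | zero => simp
    | tmul x z =>
      rw [lam_tmul, map_mul]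
      have e1 : c (algebraMap A' C' x) = a x := congrArg (fun f => f x) h1
      have e2 : c (z : C') = c₀ z := congrArg (fun f => f z) h2
      rw [e1, e2]
      simp [g]
    | add s t hs ht => simp only [map_add, hs, ht]

end RDD

end Alg

section RingHomForm

variable {A A' C' : Type u} [CommRing A] [CommRing A'] [CommRing C'] (i : A →+* A') (j : A' →+* C')

/-- ring maps `C' → R` over a given ring map `a : A' → R` -/
abbrev L' (R : Type u) [CommRing R] (a : A' →+* R) : Type u := {c : C' →+* R // c.comp j = a}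

/-- Ring-level descent datum in ring-hom form (no `Algebra` instances). -/
structure RDD' where
  Φ : ∀ {R : Type u} [CommRing R] (a₀ a₁ : A' →+* R), a₀.comp i = a₁.comp i → L' j R a₀ → L' j R a₁
  nat : ∀ {R R' : Type u} [CommRing R] [CommRing R'] (g : R →+* R') (a₀ a₁ : A' →+* R)
    (h : a₀.comp i = a₁.comp i) (c : L' j R a₀),
    (Φ (g.comp a₀) (g.comp a₁) (by rw [RingHom.comp_assoc, h, RingHom.comp_assoc])
      ⟨g.comp c.1, by rw [RingHom.comp_assoc, c.2]⟩).1 = g.comp (Φ a₀ a₁ h c).1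
  self : ∀ {R : Type u} [CommRing R] (a : A' →+* R) (c : L' j R a), Φ a a rfl c = c
  comp : ∀ {R : Type u} [CommRing R] (a₀ a₁ a₂ : A' →+* R) (h₀₁ : a₀.comp i = a₁.comp i)
    (h₁₂ : a₁.comp i = a₂.comp i) (c : L' j R a₀),
    Φ a₁ a₂ h₁₂ (Φ a₀ a₁ h₀₁ c) = Φ a₀ a₂ (h₀₁.trans h₁₂) c

variable {i j}

lemma RDD'.Φ_congr (D : RDD' i j) {R : Type u} [CommRing R] {a₀ a₀' a₁ a₁' : A' →+* R}
    (h₀ : a₀ = a₀') (h₁ : a₁ = a₁') (h : a₀.comp i = a₁.comp i) (h' : a₀'.comp i = a₁'.comp i)
    (c : L' j R a₀) (c' : L' j R a₀') (hc : c.1 = c'.1) :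
    (D.Φ a₀ a₁ h c).1 = (D.Φ a₀' a₁' h' c').1 := by
  subst h₀ h₁
  have : c = c' := Subtype.ext hc
  rw [this]

/-- Effective descent for algebras along a flat ring map, ring-hom form: there are a ring `C₀`
under `A` with a map `ι : C₀ → C'` whose values are invariant under all transport maps and such
that maps out of `C'` over a point of `A'` are the same as maps out of `C₀` over its restriction. -/
theorem RDD'.main (D : RDD' i j) (hi : i.Flat) :
    ∃ (C₀ : Type u) (_ : CommRing C₀) (k : A →+* C₀) (ι : C₀ →+* C'), ι.comp k = j.comp i ∧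
      (∀ (R : Type u) [CommRing R] (a₀ a₁ : A' →+* R) (h : a₀.comp i = a₁.comp i) (c : L' j R a₀)
        (z : C₀), (D.Φ a₀ a₁ h c).1 (ι z) = c.1 (ι z)) ∧
      (∀ (R : Type u) [CommRing R] (a : A' →+* R) (c₀ : C₀ →+* R), c₀.comp k = a.comp i →
        ∃! c : C' →+* R, c.comp j = a ∧ c.comp ι = c₀) := by
  letI := i.toAlgebra
  letI := j.toAlgebra
  letI := (j.comp i).toAlgebra
  haveI : IsScalarTower A A' C' := IsScalarTower.of_algebraMap_eq (fun _ => rfl)
  haveI : Module.Flat A A' := hi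
  have hjm : (jm A A' C' : A' →+* C') = j := rfl
  -- the algebra form of the datum
  have hcomp : ∀ {R : Type u} [CommRing R] [Algebra A R] (a₀ a₁ : A' →ₐ[A] R),
      (a₀ : A' →+* R).comp i = (a₁ : A' →+* R).comp i := fun a₀ a₁ =>
    (a₀.comp_algebraMap).trans (a₁.comp_algebraMap).symm
  have hL : ∀ {R : Type u} [CommRing R] [Algebra A R] (a₀ : A' →ₐ[A] R) (c : L A A' C' R a₀),
      (c.1 : C' →+* R).comp j = (a₀ : A' →+* R) := fun a₀ c =>
    RingHom.ext fun x => AlgHom.congr_fun c.2 x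
  let mkAlg : ∀ {R : Type u} [CommRing R] [Algebra A R] (a₁ : A' →ₐ[A] R)
      (r : L' j R (a₁ : A' →+* R)), L A A' C' R a₁ := fun {R} _ _ a₁ r =>
    ⟨{ toRingHom := r.1
       commutes' := fun x => by
        have : r.1 (j (i x)) = a₁ (i x) := congrArg (fun f => f (i x)) r.2
        change r.1 (j (i x)) = _
        rw [this]
        exact a₁.commutes x }, AlgHom.ext fun x => congrArg (fun f => f x) r.2⟩
  let E : RDD A A' C' :=
    { Φ := fun {R} _ _ a₀ a₁ c =>
        mkAlg a₁ (D.Φ (a₀ : A' →+* R) (a₁ : A' →+* R) (hcomp a₀ a₁) ⟨(c.1 : C' →+* R), hL a₀ c⟩)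
      nat := fun {R R'} _ _ _ _ g a₀ a₁ c => by
        apply AlgHom.ext
        intro y
        have := D.nat (g : R →+* R') (a₀ : A' →+* R) (a₁ : A' →+* R)
          (hcomp a₀ a₁) ⟨(c.1 : C' →+* R), hL a₀ c⟩
        exact congrArg (fun f => f y) this
      self := fun {R} _ _ a c => by
        apply Subtype.ext
        apply AlgHom.ext
        intro y
        have := D.self (a : A' →+* R) ⟨(c.1 : C' →+* R), hL a c⟩
        exact congrArg (fun f => f.1 y) this
      comp := fun {R} _ _ a₀ a₁ a₂ c => by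
        apply Subtype.ext
        apply AlgHom.ext
        intro y
        have := D.comp (a₀ : A' →+* R) (a₁ : A' →+* R) (a₂ : A' →+* R) (hcomp a₀ a₁)
          (hcomp a₁ a₂) ⟨(c.1 : C' →+* R), hL a₀ c⟩
        exact congrArg (fun f => f.1 y) this }
  refine ⟨E.C, inferInstance, algebraMap A E.C, (E.C.val : E.C →+* C'), ?_, ?_, ?_⟩
  · ext x
    rfl
  · intro R _ a₀ a₁ h c z
    letI : Algebra A R := (a₀.comp i).toAlgebra
    have h₀ : ∀ x : A, a₀ (algebraMap A A' x) = algebraMap A R x := fun x => rfl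
    have h₁ : ∀ x : A, a₁ (algebraMap A A' x) = algebraMap A R x := fun x =>
      (congrArg (fun f => f x) h).symm
    have h₂ : ∀ x : A, c.1 (algebraMap A C' x) = algebraMap A R x := fun x =>
      congrArg (fun f => f (i x)) c.2
    let a₀' : A' →ₐ[A] R := ⟨a₀, h₀⟩
    let a₁' : A' →ₐ[A] R := ⟨a₁, h₁⟩
    let c' : L A A' C' R a₀' := ⟨⟨c.1, h₂⟩, AlgHom.ext fun x => congrArg (fun f => f x) c.2⟩
    exact E.Φ_apply_of_mem a₀' a₁' c' z.2
  · intro R _ a c₀ hc₀
    letI : Algebra A R := (a.comp i).toAlgebra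
    have h₀ : ∀ x : A, a (algebraMap A A' x) = algebraMap A R x := fun x => rfl
    have h₁ : ∀ x : A, c₀ (algebraMap A E.C x) = algebraMap A R x := fun x =>
      congrArg (fun f => f x) hc₀
    let a' : A' →ₐ[A] R := ⟨a, h₀⟩
    let c₀' : E.C →ₐ[A] R := ⟨c₀, h₁⟩
    obtain ⟨c, ⟨hc1, hc2⟩, huniq⟩ := E.existsUnique_extension a' c₀'
    refine ⟨(c : C' →+* R), ⟨?_, ?_⟩, ?_⟩
    · ext x
      exact congrArg (fun f => f x) hc1
    · ext z
      exact congrArg (fun f => f z) hc2
    · rintro d ⟨hd1, hd2⟩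
      have h₂ : ∀ x : A, d (algebraMap A C' x) = algebraMap A R x := fun x =>
        congrArg (fun f => f (i x)) hd1
      let d' : C' →ₐ[A] R := ⟨d, h₂⟩
      have e1 : d'.comp (jm A A' C') = a' := AlgHom.ext fun x => congrArg (fun f => f x) hd1
      have e2 : d'.comp E.C.val = c₀' := AlgHom.ext fun z => congrArg (fun f => f z) hd2
      have := huniq d' ⟨e1, e2⟩
      rw [← this]
      rfl

end RingHomForm

end Groth.Agent.Lib.Seat58.DescAlg
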