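import Groth.Prelude.Def_DescFam
import Groth.Agent.Lib.Seat58DescAlg

/-!
# Seat58: effective descent for affine schemes along a flat morphism of affine schemes

`p : X ⟶ S` a flat morphism of affine schemes, `D : Desc.SchDD p` a descent datum whose scheme
is affine: `D` is effective (`exists_iso_toDD`).
-/

set_option autoImplicit false
set_option linter.unusedSectionVars false
set_option backward.isDefEq.respectTransparency false
set_option backward.isDefEq.respectTransparency.types false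
universe u
open CategoryTheory CategoryTheory.Limits AlgebraicGeometry Desc

namespace Groth.Agent.Lib.Seat58.DescAffine

section Pt

/-- the `R`-point of the affine scheme `Y` attached to a ring map `Γ(Y) → R` -/
noncomputable def pt (Y : Scheme.{u}) [IsAffine Y] {R : CommRingCat.{u}} (g : Γ(Y, ⊤) ⟶ R) :
    Spec R ⟶ Y :=
  Spec.map g ≫ Y.isoSpec.inv

lemma pt_comp {Y Y' : Scheme.{u}} [IsAffine Y] [IsAffine Y'] (y : Y ⟶ Y') {R : CommRingCat.{u}}
    (g : Γ(Y, ⊤) ⟶ R) : pt Y g ≫ y = pt Y' (y.appTop ≫ g) := by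
  rw [pt, pt, Category.assoc, ← Scheme.isoSpec_inv_naturality, Spec.map_comp, Category.assoc]

lemma map_pt (Y : Scheme.{u}) [IsAffine Y] {R R' : CommRingCat.{u}} (h : R ⟶ R')
    (g : Γ(Y, ⊤) ⟶ R) : Spec.map h ≫ pt Y g = pt Y (g ≫ h) := by
  rw [pt, pt, Spec.map_comp, Category.assoc]

lemma pt_injective (Y : Scheme.{u}) [IsAffine Y] {R : CommRingCat.{u}} {g g' : Γ(Y, ⊤) ⟶ R}
    (h : pt Y g = pt Y g') : g = g' := by
  rw [pt, pt, cancel_mono] at h
  exact Spec.map_injective h

lemma exists_pt (Y : Scheme.{u}) [IsAffine Y] {R : CommRingCat.{u}} (t : Spec R ⟶ Y) :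
    ∃ g, pt Y g = t :=
  ⟨Spec.preimage (t ≫ Y.isoSpec.hom), by
    rw [pt, Spec.map_preimage, Category.assoc, Iso.hom_inv_id, Category.comp_id]⟩

/-- ring maps `Γ(Y) → R` are the `R`-points of the affine scheme `Y` -/
noncomputable def ptEquiv (Y : Scheme.{u}) [IsAffine Y] (R : CommRingCat.{u}) :
    (Γ(Y, ⊤) ⟶ R) ≃ (Spec R ⟶ Y) where
  toFun := pt Y
  invFun t := Spec.preimage (t ≫ Y.isoSpec.hom)
  left_inv g := by
    apply pt_injective Y
    rw [pt, Spec.map_preimage, Category.assoc, Iso.hom_inv_id, Category.comp_id]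
  right_inv t := by
    rw [pt, Spec.map_preimage, Category.assoc, Iso.hom_inv_id, Category.comp_id]

@[simp] lemma ptEquiv_apply (Y : Scheme.{u}) [IsAffine Y] {R : CommRingCat.{u}} (g : Γ(Y, ⊤) ⟶ R) :
    ptEquiv Y R g = pt Y g := rfl

lemma pt_ptEquiv_symm (Y : Scheme.{u}) [IsAffine Y] {R : CommRingCat.{u}} (t : Spec R ⟶ Y) :
    pt Y ((ptEquiv Y R).symm t) = t := (ptEquiv Y R).apply_symm_apply t

/-- every morphism to an affine scheme factors through `T ⟶ Spec Γ(T)` -/
lemma fac {T Y : Scheme.{u}} [IsAffine Y] (t : T ⟶ Y) : T.toSpecΓ ≫ pt Y t.appTop = t := by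
  rw [pt, ← Category.assoc, ← Scheme.toSpecΓ_naturality, Category.assoc,
    Scheme.toSpecΓ_isoSpec_inv, Category.comp_id]

end Pt

section DD

variable {X S : Scheme.{u}} {p : X ⟶ S}

lemma φ_congr (D : SchDD p) {T : Scheme.{u}} {x₀ x₀' x₁ x₁' : T ⟶ X} (e₀ : x₀ = x₀') (e₁ : x₁ = x₁')
    (h : x₀ ≫ p = x₁ ≫ p) (h' : x₀' ≫ p = x₁' ≫ p) (v : Lifts D.obj x₀) (v' : Lifts D.obj x₀')
    (hv : v.1 = v'.1) : (D.φ x₀ x₁ h v).1 = (D.φ x₀' x₁' h' v').1 := by
  subst e₀ e₁
  have : v = v' := Subtype.ext hv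
  rw [this]

variable [IsAffine X] [IsAffine S] (D : SchDD p) [IsAffine D.obj.left]

/-- a ring map out of `Γ(X)` as a point of `X` -/
noncomputable abbrev xpt {R : Type u} [CommRing R] (a : Γ(X, ⊤) →+* R) : Spec (CommRingCat.of R) ⟶ X :=
  pt X (CommRingCat.ofHom a)

lemma xpt_comp_p {R : Type u} [CommRing R] (a : Γ(X, ⊤) →+* R) :
    xpt a ≫ p = pt S (CommRingCat.ofHom (a.comp p.appTop.hom)) := by
  rw [xpt, pt_comp]
  rfl

lemma xpt_eq {R : Type u} [CommRing R] {a₀ a₁ : Γ(X, ⊤) →+* R}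
    (h : a₀.comp p.appTop.hom = a₁.comp p.appTop.hom) : xpt a₀ ≫ p = xpt a₁ ≫ p := by
  rw [xpt_comp_p, xpt_comp_p, h]

/-- a ring map out of `Γ(V)` over a point of `X`, as a lift -/
noncomputable def vpt {R : Type u} [CommRing R] {a : Γ(X, ⊤) →+* R}
    (c : DescAlg.L' D.obj.hom.appTop.hom R a) : Lifts D.obj (xpt a) :=
  ⟨pt D.obj.left (CommRingCat.ofHom c.1), by
    rw [pt_comp, xpt]
    congr 1
    ext x
    exact congrArg (fun f => f x) c.2⟩

/-- a lift over a point of `X` as a ring map out of `Γ(V)` -/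
noncomputable def ofLift {R : Type u} [CommRing R] {a : Γ(X, ⊤) →+* R} (v : Lifts D.obj (xpt a)) :
    DescAlg.L' D.obj.hom.appTop.hom R a :=
  ⟨((ptEquiv D.obj.left (CommRingCat.of R)).symm v.1).hom, by
    have h1 : pt D.obj.left ((ptEquiv D.obj.left (CommRingCat.of R)).symm v.1) ≫ D.obj.hom = xpt a := by
      rw [pt_ptEquiv_symm]; exact v.2
    rw [pt_comp] at h1
    have h2 := pt_injective X h1
    ext x
    exact congrArg (fun f => f.hom x) h2⟩

lemma vpt_ofLift {R : Type u} [CommRing R] {a : Γ(X, ⊤) →+* R} (v : Lifts D.obj (xpt a)) :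
    vpt D (ofLift D v) = v := by
  apply Subtype.ext
  change pt D.obj.left (CommRingCat.ofHom ((ptEquiv D.obj.left (CommRingCat.of R)).symm v.1).hom) = _
  exact pt_ptEquiv_symm _ _

lemma ofLift_vpt {R : Type u} [CommRing R] {a : Γ(X, ⊤) →+* R}
    (c : DescAlg.L' D.obj.hom.appTop.hom R a) : ofLift D (vpt D c) = c := by
  apply Subtype.ext
  change ((ptEquiv D.obj.left (CommRingCat.of R)).symm (pt D.obj.left (CommRingCat.ofHom c.1))).hom = _
  rw [← ptEquiv_apply, Equiv.symm_apply_apply]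
  rfl

lemma ofLift_val_eq {R : Type u} [CommRing R] {a a' : Γ(X, ⊤) →+* R} (v : Lifts D.obj (xpt a))
    (v' : Lifts D.obj (xpt a')) (h : v.1 = v'.1) : (ofLift D v).1 = (ofLift D v').1 := by
  change ((ptEquiv D.obj.left (CommRingCat.of R)).symm v.1).hom =
    ((ptEquiv D.obj.left (CommRingCat.of R)).symm v'.1).hom
  rw [h]

/-- the ring-level descent datum of a descent datum of affine schemes -/
noncomputable def rdd : DescAlg.RDD' p.appTop.hom D.obj.hom.appTop.hom where
  Φ a₀ a₁ h c := ofLift D (D.φ (xpt a₀) (xpt a₁) (xpt_eq h) (vpt D c))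
  nat {R R'} _ _ g a₀ a₁ h c := by
    have hg : ∀ a : Γ(X, ⊤) →+* R, Spec.map (CommRingCat.ofHom g) ≫ xpt a = xpt (g.comp a) := by
      intro a
      rw [xpt, map_pt]
      rfl
    have hnat := D.φ_natural (Spec.map (CommRingCat.ofHom g)) (xpt a₀) (xpt a₁) (xpt_eq h)
      (by rw [hg, hg]; exact xpt_eq (by rw [RingHom.comp_assoc, h, RingHom.comp_assoc]))
      (vpt D c) ⟨Spec.map (CommRingCat.ofHom g) ≫ (vpt D c).1, by
        rw [Category.assoc, (vpt D c).2]⟩ rfl
    -- the left side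
    have e1 : (D.φ (xpt (g.comp a₀)) (xpt (g.comp a₁))
        (xpt_eq (by rw [RingHom.comp_assoc, h, RingHom.comp_assoc]))
        (vpt D ⟨g.comp c.1, by rw [RingHom.comp_assoc, c.2]⟩)).1 =
        Spec.map (CommRingCat.ofHom g) ≫ (D.φ (xpt a₀) (xpt a₁) (xpt_eq h) (vpt D c)).1 := by
      rw [← hnat]
      refine φ_congr D (hg a₀).symm (hg a₁).symm _ _ _ _ ?_
      change pt D.obj.left (CommRingCat.ofHom (g.comp c.1)) =
        Spec.map (CommRingCat.ofHom g) ≫ pt D.obj.left (CommRingCat.ofHom c.1)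
      rw [map_pt]
      rfl
    -- translate back
    set w := D.φ (xpt a₀) (xpt a₁) (xpt_eq h) (vpt D c) with hw
    have e2 : vpt D (⟨g.comp (ofLift D w).1, by rw [RingHom.comp_assoc, (ofLift D w).2]⟩ :
        DescAlg.L' D.obj.hom.appTop.hom R' (g.comp a₁)) =
        ⟨Spec.map (CommRingCat.ofHom g) ≫ w.1, by rw [Category.assoc, w.2, hg]⟩ := by
      apply Subtype.ext
      change pt D.obj.left (CommRingCat.ofHom (g.comp (ofLift D w).1)) = _
      have : CommRingCat.ofHom (g.comp (ofLift D w).1) =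
          CommRingCat.ofHom (ofLift D w).1 ≫ CommRingCat.ofHom g := rfl
      rw [this, ← map_pt]
      congr 1
      exact congrArg Subtype.val (vpt_ofLift D w)
    change (ofLift D _).1 = g.comp (ofLift D w).1
    have e3 := congrArg (fun l => (ofLift D l).1) e2
    simp only [ofLift_vpt] at e3
    rw [e3]
    exact ofLift_val_eq D _ _ e1
  self a c := by
    rw [D.φ_self, ofLift_vpt]
  comp a₀ a₁ a₂ h₀₁ h₁₂ c := by
    rw [vpt_ofLift, D.φ_comp]

end DD

section Main

/-- a morphism of affine schemes inducing bijections on `Spec R`-points is an isomorphism -/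
lemma isIso_of_bijective_pts {V P : Scheme.{u}} [IsAffine V] [IsAffine P] (e : V ⟶ P)
    (h : ∀ R : CommRingCat.{u}, Function.Bijective (fun s : Spec R ⟶ V => s ≫ e)) : IsIso e := by
  obtain ⟨s, hs⟩ := (h Γ(P, ⊤)).2 P.isoSpec.inv
  have hs' : s ≫ e = P.isoSpec.inv := hs
  refine ⟨⟨P.isoSpec.hom ≫ s, ?_, ?_⟩⟩
  · have : V.isoSpec.inv ≫ (e ≫ P.isoSpec.hom ≫ s) = V.isoSpec.inv ≫ 𝟙 V := by
      apply (h Γ(V, ⊤)).1
      change (V.isoSpec.inv ≫ (e ≫ P.isoSpec.hom ≫ s)) ≫ e = (V.isoSpec.inv ≫ 𝟙 V) ≫ e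
      simp only [Category.assoc, hs', Iso.hom_inv_id, Category.comp_id]
    exact (cancel_epi _).1 this
  · rw [Category.assoc, hs', Iso.hom_inv_id]

variable {X S : Scheme.{u}} {p : X ⟶ S}

/-- a morphism of descent data whose underlying morphism of schemes is an isomorphism is an
isomorphism -/
noncomputable def isoOfIsIso {D D' : SchDD p} (f : D ⟶ D') (h : IsIso f.hom.left) : D ≅ D' where
  hom := f
  inv := ⟨Over.homMk (inv f.hom.left) (by rw [IsIso.inv_comp_eq, Over.w]),
    fun T x₀ x₁ hh v w hw => by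
      have hw' : w.1 = v.1 ≫ inv f.hom.left := hw
      have hv : v.1 = w.1 ≫ f.hom.left := by
        rw [hw', Category.assoc, IsIso.inv_hom_id, Category.comp_id]
      have := f.comm x₀ x₁ hh w v hv
      change _ = _ ≫ inv f.hom.left
      rw [this, Category.assoc, IsIso.hom_inv_id, Category.comp_id]⟩
  hom_inv_id := by
    apply SchDD.hom_ext
    apply Over.OverMorphism.ext
    simp
  inv_hom_id := by
    apply SchDD.hom_ext
    apply Over.OverMorphism.ext
    simp

variable [IsAffine X] [IsAffine S]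

/-- **Effective descent for affine schemes over an affine base along a flat morphism of affine
schemes.** -/
theorem exists_iso_toDD [Flat p] (D : SchDD p) [IsAffine D.obj.left] :
    ∃ U : Over S, Nonempty ((toDD p).obj U ≅ D) := by
  have hflat : p.appTop.hom.Flat :=
    (HasRingHomProperty.iff_of_isAffine (P := @Flat)).1 inferInstance
  obtain ⟨C₀, _, k, ι, hk, hinv, hext⟩ := (rdd D).main hflat
  let U : Over S := Over.mk (pt S (CommRingCat.ofHom k))
  let r : D.obj.left ⟶ Spec (CommRingCat.of C₀) :=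
    D.obj.left.toSpecΓ ≫ Spec.map (CommRingCat.ofHom ι)
  have hr : ∀ {R : CommRingCat.{u}} (g : Γ(D.obj.left, ⊤) ⟶ R),
      pt D.obj.left g ≫ r = Spec.map (CommRingCat.ofHom ι ≫ g) := by
    intro R g
    change (Spec.map g ≫ D.obj.left.isoSpec.inv) ≫ D.obj.left.toSpecΓ ≫ _ = _
    rw [Category.assoc, ← Category.assoc D.obj.left.isoSpec.inv]
    have : D.obj.left.isoSpec.inv ≫ D.obj.left.toSpecΓ = 𝟙 _ := D.obj.left.isoSpec.inv_hom_id
    rw [this, Category.id_comp, Spec.map_comp]
  have hkι : CommRingCat.ofHom k ≫ CommRingCat.ofHom ι = (D.obj.hom ≫ p).appTop := by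
    rw [Scheme.Hom.comp_appTop]
    ext x
    exact congrArg (fun f => f x) hk
  have hqr : D.obj.hom ≫ p = r ≫ U.hom := by
    change _ = (D.obj.left.toSpecΓ ≫ Spec.map (CommRingCat.ofHom ι)) ≫
      (Spec.map (CommRingCat.ofHom k) ≫ S.isoSpec.inv)
    rw [Category.assoc, ← Category.assoc (Spec.map (CommRingCat.ofHom ι)), ← Spec.map_comp, hkι]
    exact (fac (D.obj.hom ≫ p)).symm
  let e : D.obj.left ⟶ pullback p U.hom := pullback.lift D.obj.hom r hqr
  have he1 : e ≫ pullback.fst p U.hom = D.obj.hom := pullback.lift_fst _ _ _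
  have he2 : e ≫ pullback.snd p U.hom = r := pullback.lift_snd _ _ _
  -- invariance of `r` under the transport maps
  have hinvT : ∀ {T : Scheme.{u}} (x₀ x₁ : T ⟶ X) (h : x₀ ≫ p = x₁ ≫ p) (v : Lifts D.obj x₀),
      (D.φ x₀ x₁ h v).1 ≫ r = v.1 ≫ r := by
    intro T x₀ x₁ h v
    let a₀ : Γ(X, ⊤) →+* Γ(T, ⊤) := x₀.appTop.hom
    let a₁ : Γ(X, ⊤) →+* Γ(T, ⊤) := x₁.appTop.hom
    have h' : a₀.comp p.appTop.hom = a₁.comp p.appTop.hom := by
      have := congrArg Scheme.Hom.appTop h
      rw [Scheme.Hom.comp_appTop, Scheme.Hom.comp_appTop] at this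
      ext x
      exact congrArg (fun f => f.hom x) this
    let c : DescAlg.L' D.obj.hom.appTop.hom Γ(T, ⊤) a₀ := ⟨v.1.appTop.hom, by
      have := congrArg Scheme.Hom.appTop v.2
      rw [Scheme.Hom.comp_appTop] at this
      ext x
      exact congrArg (fun f => f.hom x) this⟩
    have f₀ : T.toSpecΓ ≫ xpt a₀ = x₀ := fac x₀
    have f₁ : T.toSpecΓ ≫ xpt a₁ = x₁ := fac x₁
    have fv : T.toSpecΓ ≫ (vpt D c).1 = v.1 := fac v.1
    set w := D.φ (xpt a₀) (xpt a₁) (xpt_eq h') (vpt D c) with hw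
    have hnat := D.φ_natural T.toSpecΓ (xpt a₀) (xpt a₁) (xpt_eq h')
      (by rw [f₀, f₁]; exact h) (vpt D c) ⟨T.toSpecΓ ≫ (vpt D c).1, by
        rw [Category.assoc, (vpt D c).2]⟩ rfl
    have e1 : (D.φ x₀ x₁ h v).1 = T.toSpecΓ ≫ w.1 :=
      (φ_congr D f₀.symm f₁.symm _ _ _ _ fv.symm).trans hnat
    have e2 : w.1 ≫ r = (vpt D c).1 ≫ r := by
      have hw2 : w.1 = pt D.obj.left (CommRingCat.ofHom (ofLift D w).1) :=
        (congrArg Subtype.val (vpt_ofLift D w)).symm
      rw [hw2]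
      change _ = pt D.obj.left (CommRingCat.ofHom c.1) ≫ r
      rw [hr, hr]
      congr 1
      ext z
      exact hinv Γ(T, ⊤) a₀ a₁ h' c z
    rw [e1, Category.assoc, e2, ← Category.assoc, fv]
  -- `e` is an isomorphism
  have : IsAffine U.left := inferInstanceAs (IsAffine (Spec (CommRingCat.of C₀)))
  have hiso : IsIso e := by
    apply isIso_of_bijective_pts
    intro R
    constructor
    · intro v v' hvv
      have hvv' : v ≫ e = v' ≫ e := hvv
      obtain ⟨g, rfl⟩ := exists_pt D.obj.left v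
      obtain ⟨g', rfl⟩ := exists_pt D.obj.left v'
      have h1 : D.obj.hom.appTop ≫ g = D.obj.hom.appTop ≫ g' := by
        have := congrArg (fun t => t ≫ pullback.fst p U.hom) hvv'
        rw [Category.assoc, Category.assoc, he1, pt_comp, pt_comp] at this
        exact pt_injective X this
      have h2 : CommRingCat.ofHom ι ≫ g = CommRingCat.ofHom ι ≫ g' := by
        have := congrArg (fun t => t ≫ pullback.snd p U.hom) hvv'
        rw [Category.assoc, Category.assoc, he2, hr, hr] at this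
        exact Spec.map_injective this
      have hcompat : (g.hom.comp ι).comp k = (g.hom.comp D.obj.hom.appTop.hom).comp p.appTop.hom := by
        rw [RingHom.comp_assoc, hk, RingHom.comp_assoc]
      obtain ⟨c, -, huniq⟩ := hext R (g.hom.comp D.obj.hom.appTop.hom) (g.hom.comp ι) hcompat
      have e1 := huniq g.hom ⟨rfl, rfl⟩
      have e2 := huniq g'.hom ⟨by
        ext x
        exact (congrArg (fun f => f.hom x) h1).symm, by
        ext x
        exact (congrArg (fun f => f.hom x) h2).symm⟩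
      have : g = g' := by
        ext x
        rw [e1, e2]
      rw [this]
    · intro s
      obtain ⟨a, ha⟩ := exists_pt X (s ≫ pullback.fst p U.hom)
      let c₀ : CommRingCat.of C₀ ⟶ R := Spec.preimage (s ≫ pullback.snd p U.hom)
      have hc₀ : Spec.map c₀ = s ≫ pullback.snd p U.hom := Spec.map_preimage _
      have hcond : p.appTop ≫ a = CommRingCat.ofHom k ≫ c₀ := by
        apply pt_injective S
        rw [← pt_comp, ha, ← map_pt, hc₀, Category.assoc, Category.assoc]
        exact congrArg (fun t => s ≫ t) (pullback.condition (f := p) (g := U.hom))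
      have hcompat : c₀.hom.comp k = a.hom.comp p.appTop.hom := by
        ext x
        exact (congrArg (fun f => f.hom x) hcond).symm
      obtain ⟨c, ⟨hc1, hc2⟩, -⟩ := hext R a.hom c₀.hom hcompat
      refine ⟨pt D.obj.left (CommRingCat.ofHom c), ?_⟩
      change pt D.obj.left (CommRingCat.ofHom c) ≫ e = s
      apply pullback.hom_ext
      · rw [Category.assoc, he1, pt_comp, ← ha]
        congr 1
        ext x
        exact congrArg (fun f => f x) hc1
      · rw [Category.assoc, he2, hr, ← hc₀]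
        congr 1
        ext x
        exact congrArg (fun f => f x) hc2
  -- the morphism of descent data
  let f : D ⟶ (toDD p).obj U :=
    ⟨Over.homMk e he1, fun T x₀ x₁ h v w hw => by
      have hw' : w.1 = v.1 ≫ e := hw
      change (canMap p U x₀ x₁ h w).1 = (D.φ x₀ x₁ h v).1 ≫ e
      rw [canMap_val]
      apply pullback.hom_ext
      · rw [pullback.lift_fst, Category.assoc, he1]
        exact (D.φ x₀ x₁ h v).2.symm
      · rw [pullback.lift_snd, Category.assoc, he2, hinvT, hw', Category.assoc, he2]⟩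
  exact ⟨U, ⟨(isoOfIsIso f hiso).symm⟩⟩

end Main

end Groth.Agent.Lib.Seat58.DescAffine
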