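import Groth.Prelude.Def_DescFam

/-!
# Seat43: Yoneda-style construction of morphisms of descent data (`Desc.SchDDFam`)

A morphism of descent data `D₁ ⟶ D₂` relative to a family `f` can be given by a natural
transformation on the sets of `T`-points over points of the `X i`, compatible with the gluing
bijections.
-/

set_option autoImplicit false
set_option backward.isDefEq.respectTransparency false
set_option backward.isDefEq.respectTransparency.types false
universe w' w u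
open CategoryTheory CategoryTheory.Limits AlgebraicGeometry Desc

namespace Groth.Agent.Lib.Seat43.DescYoneda

variable {S : Scheme.{u}} {ι : Type w} {X : ι → Scheme.{u}} {f : ∀ i, X i ⟶ S}

/-- The universal point of `V` over its structure morphism. -/
def univLift {Y : Scheme.{u}} (V : Over Y) : Lifts V V.hom := ⟨𝟙 _, Category.id_comp _⟩

/-- Data of a natural map on points, compatible with gluing bijections. -/
structure PtMap (D₁ D₂ : SchDDFam f) where
  m : ∀ ⦃T : Scheme.{u}⦄ ⦃i : ι⦄ (x : T ⟶ X i), Lifts (D₁.obj i) x → Lifts (D₂.obj i) x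
  nat : ∀ ⦃T T' : Scheme.{u}⦄ (r : T' ⟶ T) ⦃i : ι⦄ (x : T ⟶ X i) (y : T' ⟶ X i) (_ : r ≫ x = y)
    (v : Lifts (D₁.obj i) x) (v' : Lifts (D₁.obj i) y), v'.1 = r ≫ v.1 → (m y v').1 = r ≫ (m x v).1
  compat : ∀ ⦃T : Scheme.{u}⦄ ⦃i j : ι⦄ (x₀ : T ⟶ X i) (x₁ : T ⟶ X j) (h : x₀ ≫ f i = x₁ ≫ f j)
    (v : Lifts (D₁.obj i) x₀), m x₁ (D₁.φ x₀ x₁ h v) = D₂.φ x₀ x₁ h (m x₀ v)

namespace PtMap

variable {D₁ D₂ : SchDDFam f} (P : PtMap D₁ D₂)

/-- the underlying morphism of schemes -/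
def left (i : ι) : (D₁.obj i).left ⟶ (D₂.obj i).left := (P.m (D₁.obj i).hom (univLift (D₁.obj i))).1

lemma left_w (i : ι) : P.left i ≫ (D₂.obj i).hom = (D₁.obj i).hom :=
  (P.m (D₁.obj i).hom (univLift (D₁.obj i))).2

lemma comp_left {T : Scheme.{u}} {i : ι} (x : T ⟶ X i) (v : Lifts (D₁.obj i) x) :
    v.1 ≫ P.left i = (P.m x v).1 := by
  have := P.nat v.1 (D₁.obj i).hom x v.2 (univLift (D₁.obj i)) v (by simp [univLift])
  exact this.symm

/-- the morphism of descent data defined by a natural map on points -/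
def toHom : D₁ ⟶ D₂ where
  hom i := Over.homMk (P.left i) (P.left_w i)
  comm T i j x₀ x₁ h v w hw := by
    have e : w = P.m x₀ v := Subtype.ext (by rw [hw]; exact P.comp_left x₀ v)
    subst e
    rw [← P.compat]
    exact (P.comp_left x₁ _).symm

@[simp] lemma toHom_hom_left (i : ι) : (P.toHom.hom i).left = P.left i := rfl

lemma comp_toHom {T : Scheme.{u}} {i : ι} (x : T ⟶ X i) (v : Lifts (D₁.obj i) x) :
    v.1 ≫ (P.toHom.hom i).left = (P.m x v).1 := P.comp_left x v

end PtMap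

/-- two morphisms of descent data agreeing on all points are equal -/
lemma hom_ext_points {D₁ D₂ : SchDDFam f} (a b : D₁ ⟶ D₂)
    (h : ∀ ⦃T : Scheme.{u}⦄ ⦃i : ι⦄ (x : T ⟶ X i) (v : Lifts (D₁.obj i) x),
      v.1 ≫ (a.hom i).left = v.1 ≫ (b.hom i).left) : a = b := by
  apply SchDDFam.hom_ext
  funext i
  apply Over.OverMorphism.ext
  have := h (D₁.obj i).hom (univLift (D₁.obj i))
  simpa [univLift] using this

/-- Pointwise bijections, natural and compatible with gluing. -/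
structure PtEquiv (D₁ D₂ : SchDDFam f) where
  e : ∀ ⦃T : Scheme.{u}⦄ ⦃i : ι⦄ (x : T ⟶ X i), Lifts (D₁.obj i) x ≃ Lifts (D₂.obj i) x
  nat : ∀ ⦃T T' : Scheme.{u}⦄ (r : T' ⟶ T) ⦃i : ι⦄ (x : T ⟶ X i) (y : T' ⟶ X i) (_ : r ≫ x = y)
    (v : Lifts (D₁.obj i) x) (v' : Lifts (D₁.obj i) y), v'.1 = r ≫ v.1 → (e y v').1 = r ≫ (e x v).1
  compat : ∀ ⦃T : Scheme.{u}⦄ ⦃i j : ι⦄ (x₀ : T ⟶ X i) (x₁ : T ⟶ X j) (h : x₀ ≫ f i = x₁ ≫ f j)
    (v : Lifts (D₁.obj i) x₀), e x₁ (D₁.φ x₀ x₁ h v) = D₂.φ x₀ x₁ h (e x₀ v)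

namespace PtEquiv

variable {D₁ D₂ : SchDDFam f} (E : PtEquiv D₁ D₂)

/-- the forward map on points -/
def fwd : PtMap D₁ D₂ where
  m _ _ x := E.e x
  nat := E.nat
  compat := E.compat

/-- the backward map on points -/
def bwd : PtMap D₂ D₁ where
  m _ _ x := (E.e x).symm
  nat T T' r i x y hy v v' hv := by
    -- v' = r ≫ v; apply nat to the preimages
    have h1 : r ≫ ((E.e x).symm v).1 ≫ (D₁.obj i).hom = y := by
      rw [((E.e x).symm v).2, hy]
    let u' : Lifts (D₁.obj i) y := ⟨r ≫ ((E.e x).symm v).1, by rw [Category.assoc]; exact h1⟩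
    have h2 := E.nat r x y hy ((E.e x).symm v) u' rfl
    rw [Equiv.apply_symm_apply] at h2
    have h3 : E.e y u' = v' := Subtype.ext (by rw [h2, hv])
    rw [← h3, Equiv.symm_apply_apply]
  compat T i j x₀ x₁ h v := by
    apply (E.e x₁).injective
    rw [Equiv.apply_symm_apply, E.compat, Equiv.apply_symm_apply]

/-- the isomorphism of descent data defined by natural pointwise bijections -/
def toIso : D₁ ≅ D₂ where
  hom := E.fwd.toHom
  inv := E.bwd.toHom
  hom_inv_id := by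
    apply hom_ext_points
    intro T i x v
    rw [SchDDFam.comp_hom, Over.comp_left, ← Category.assoc, E.fwd.comp_toHom x v]
    rw [E.bwd.comp_toHom x (E.fwd.m x v)]
    simp [fwd, bwd]
  inv_hom_id := by
    apply hom_ext_points
    intro T i x v
    rw [SchDDFam.comp_hom, Over.comp_left, ← Category.assoc, E.bwd.comp_toHom x v]
    rw [E.fwd.comp_toHom x (E.bwd.m x v)]
    simp [fwd, bwd]

lemma comp_toIso_hom {T : Scheme.{u}} {i : ι} (x : T ⟶ X i) (v : Lifts (D₁.obj i) x) :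
    v.1 ≫ (E.toIso.hom.hom i).left = (E.e x v).1 := E.fwd.comp_toHom x v

end PtEquiv

end Groth.Agent.Lib.Seat43.DescYoneda
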