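import Groth.Agent.Lib.Seat43ZarDescGlue
import Groth.Agent.Lib.Seat43DescYoneda

/-!
# Essential surjectivity of pullback of descent data along a Zariski refinement (seat 43)
-/

set_option autoImplicit false
set_option backward.isDefEq.respectTransparency false
set_option backward.isDefEq.respectTransparency.types false
set_option linter.unusedSectionVars false
set_option linter.unusedVariables false
universe u
open CategoryTheory CategoryTheory.Limits AlgebraicGeometry Desc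

namespace Groth.Agent.Lib.Seat43.ZarDescRefine

open Groth.Agent.Lib.Helper12.DescFF Groth.Agent.Lib.Seat43.ZarDescGlue

variable {ι κ : Type u} {S : Scheme.{u}} {U : ι → Scheme.{u}} {V : κ → Scheme.{u}}
  (u : ∀ i, U i ⟶ S) (v : ∀ j, V j ⟶ S) (α : ι → κ) (g : ∀ i, U i ⟶ V (α i))
  (w : ∀ i, g i ≫ v (α i) = u i ≫ 𝟙 S)

/-- the indices over `j` -/
abbrev Idx (j : κ) : Type u := {i : ι // α i = j}

/-- the refinement maps with target `V j` -/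
def g' (j : κ) (i : Idx α j) : U i.1 ⟶ V j := g i.1 ≫ eqToHom (congrArg V i.2)

include w in
lemma g'_v (j : κ) (i : Idx α j) : g' α g j i ≫ v j = u i.1 := by
  obtain ⟨i, rfl⟩ := i
  simp [g', w]

lemma g'_self (i : ι) : g' α g (α i) ⟨i, rfl⟩ = g i := by
  simp [g']

variable (D' : SchDDFam u)

include w in
lemma restr_compat {j : κ} {T : Scheme.{u}} {i i' : Idx α j} (x₀ : T ⟶ U i.1) (x₁ : T ⟶ U i'.1)
    (h : x₀ ≫ g' α g j i = x₁ ≫ g' α g j i') : x₀ ≫ u i.1 = x₁ ≫ u i'.1 := by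
  rw [← g'_v u v α g w j i, ← g'_v u v α g w j i', ← Category.assoc, h, Category.assoc]

/-- the descent datum restricted to the indices over `j`, relative to `V j` -/
def restr (j : κ) : SchDDFam (g' α g j) where
  obj i := D'.obj i.1
  φ T i i' x₀ x₁ h := D'.φ x₀ x₁ (restr_compat u v α g w x₀ x₁ h)
  φ_natural T T' c i i' x₀ x₁ h y₀ y₁ e₀ e₁ h' p p' hp :=
    D'.φ_natural c x₀ x₁ _ y₀ y₁ e₀ e₁ _ p p' hp
  φ_self T i x p := D'.φ_self x p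
  φ_comp T i i' i'' x₀ x₁ x₂ h₀₁ h₁₂ p := D'.φ_comp x₀ x₁ x₂ _ _ p

variable [hop : ∀ (j : κ) (i : Idx α j), IsOpenImmersion (g' α g j i)]
  (hcov : ∀ j, Presieve.ofArrows (fun i : Idx α j => U i.1) (g' α g j) ∈
    Scheme.zariskiPrecoverage (V j))

/-- the glued scheme over `V j` -/
noncomputable def Zs (j : κ) : Scheme.{u} := Z (g' α g j) (restr u v α g w D' j)

/-- its structure morphism -/
noncomputable def zeta (j : κ) : Zs u v α g w D' j ⟶ V j := ζ (g' α g j) (restr u v α g w D' j)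

/-- the glued scheme as an object over `V j` -/
noncomputable def Zo (j : κ) : Over (V j) := Over.mk (zeta u v α g w D' j)

/-- the charts -/
noncomputable def ch (j : κ) (i : Idx α j) : (D'.obj i.1).left ⟶ Zs u v α g w D' j :=
  chart (g' α g j) (restr u v α g w D' j) i

/-- the sieve of morphisms to `T` over which `t : T ⟶ V j` factors through a member of the cover -/
def cov {T : Scheme.{u}} (j : κ) (t : T ⟶ V j) : Sieve T where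
  arrows T' c := ∃ (i : Idx α j) (s : T' ⟶ U i.1), s ≫ g' α g j i = c ≫ t
  downward_closed := by
    rintro T' T'' c ⟨i, s, hs⟩ d
    exact ⟨i, d ≫ s, by rw [Category.assoc, hs, Category.assoc]⟩

include hcov in
lemma cov_mem {T : Scheme.{u}} (j : κ) (t : T ⟶ V j) : cov α g j t ∈ Scheme.fpqcTopology T := by
  have h1 := Precoverage.generate_mem_toGrothendieck
    (Scheme.zariskiPrecoverage_le_fpqcPrecoverage _ (hcov j))
  have h2 := Scheme.fpqcTopology.pullback_stable t h1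
  refine Scheme.fpqcTopology.superset_covering ?_ h2
  intro T' c hc
  obtain ⟨Y, h, g'', ⟨i⟩, e⟩ := hc
  exact ⟨i, h, e⟩

/-- morphisms to a scheme agreeing on a covering sieve are equal -/
lemma ext_of_cov {T Y : Scheme.{u}} (R : Sieve T) (hR : R ∈ Scheme.fpqcTopology T) (a b : T ⟶ Y)
    (h : ∀ (T' : Scheme.{u}) (c : T' ⟶ T), R c → c ≫ a = c ≫ b) : a = b := by
  have hsheaf := (GrothendieckTopology.Subcanonical.isSheaf_of_isRepresentable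
    (J := Scheme.fpqcTopology) (yoneda.obj Y)) _ hR
  exact hsheaf.isSeparatedFor.ext (fun T' c hc => h T' c hc)

local notation "G'" => g' α g
local notation "R'" => restr u v α g w D'
local notation "ZS" => Zs u v α g w D'
local notation "ZE" => zeta u v α g w D'
local notation "ZO" => Zo u v α g w D'
local notation "CH" => ch u v α g w D'

include w in
lemma compat_ss {T T' : Scheme.{u}} {j j' : κ} (x₀ : T ⟶ V j) (x₁ : T ⟶ V j')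
    (h : x₀ ≫ v j = x₁ ≫ v j') (c : T' ⟶ T) (i : Idx α j) (s : T' ⟶ U i.1)
    (hs : s ≫ G' j i = c ≫ x₀) (i' : Idx α j') (s' : T' ⟶ U i'.1) (hs' : s' ≫ G' j' i' = c ≫ x₁) :
    s ≫ u i.1 = s' ≫ u i'.1 := by
  rw [← g'_v u v α g w j i, ← g'_v u v α g w j' i', ← Category.assoc, hs, ← Category.assoc, hs',
    Category.assoc, h, Category.assoc]

lemma loc_cond {T T' : Scheme.{u}} {j : κ} (x₀ : T ⟶ V j) (r : Lifts (ZO j) x₀) (c : T' ⟶ T)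
    (i : Idx α j) (s : T' ⟶ U i.1) (hs : s ≫ G' j i = c ≫ x₀) :
    (c ≫ r.1) ≫ ζ (G' j) (R' j) = s ≫ G' j i := by
  rw [Category.assoc, hs]
  congr 1
  exact r.2

/-- the local point of `r` on the chart `i`, over `c` -/
noncomputable def lp {T T' : Scheme.{u}} {j : κ} (x₀ : T ⟶ V j) (r : Lifts (ZO j) x₀) (c : T' ⟶ T)
    (i : Idx α j) (s : T' ⟶ U i.1) (hs : s ≫ G' j i = c ≫ x₀) : Lifts (D'.obj i.1) s :=
  loc (G' j) (R' j) (c ≫ r.1) i s (loc_cond u v α g w D' x₀ r c i s hs)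

lemma lp_ch {T T' : Scheme.{u}} {j : κ} (x₀ : T ⟶ V j) (r : Lifts (ZO j) x₀) (c : T' ⟶ T)
    (i : Idx α j) (s : T' ⟶ U i.1) (hs : s ≫ G' j i = c ≫ x₀) :
    (lp u v α g w D' x₀ r c i s hs).1 ≫ CH j i = c ≫ r.1 :=
  loc_chart (G' j) (R' j) _ i s _

lemma lp_unique {T T' : Scheme.{u}} {j : κ} (x₀ : T ⟶ V j) (r : Lifts (ZO j) x₀) (c : T' ⟶ T)
    (i : Idx α j) (s : T' ⟶ U i.1) (hs : s ≫ G' j i = c ≫ x₀) (p : Lifts (D'.obj i.1) s)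
    (hp : p.1 ≫ CH j i = c ≫ r.1) : p = lp u v α g w D' x₀ r c i s hs :=
  loc_unique (G' j) (R' j) _ i s _ p hp

lemma lp_φ {T T' : Scheme.{u}} {j : κ} (x₀ : T ⟶ V j) (r : Lifts (ZO j) x₀) (c : T' ⟶ T)
    (i : Idx α j) (s : T' ⟶ U i.1) (hs : s ≫ G' j i = c ≫ x₀)
    (i₂ : Idx α j) (s₂ : T' ⟶ U i₂.1) (hs₂ : s₂ ≫ G' j i₂ = c ≫ x₀) (hh : s ≫ u i.1 = s₂ ≫ u i₂.1) :
    D'.φ s s₂ hh (lp u v α g w D' x₀ r c i s hs) = lp u v α g w D' x₀ r c i₂ s₂ hs₂ :=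
  loc_φ (G' j) (R' j) (c ≫ r.1) i i₂ s s₂ _ _

lemma lp_nat {T T' T'' : Scheme.{u}} {j : κ} (x₀ : T ⟶ V j) (r : Lifts (ZO j) x₀) (c : T' ⟶ T)
    (i : Idx α j) (s : T' ⟶ U i.1) (hs : s ≫ G' j i = c ≫ x₀) (d : T'' ⟶ T')
    (hs' : (d ≫ s) ≫ G' j i = (d ≫ c) ≫ x₀) :
    (lp u v α g w D' x₀ r (d ≫ c) i (d ≫ s) hs').1 = d ≫ (lp u v α g w D' x₀ r c i s hs).1 :=
  loc_nat (G' j) (R' j) d (c ≫ r.1) i s _ _ _ (by rw [Category.assoc]) rfl _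

/-- the local value of the transported point -/
noncomputable def lval {T T' : Scheme.{u}} {j j' : κ} (x₀ : T ⟶ V j) (x₁ : T ⟶ V j')
    (h : x₀ ≫ v j = x₁ ≫ v j') (r : Lifts (ZO j) x₀) (c : T' ⟶ T)
    (i : Idx α j) (s : T' ⟶ U i.1) (hs : s ≫ G' j i = c ≫ x₀)
    (i' : Idx α j') (s' : T' ⟶ U i'.1) (hs' : s' ≫ G' j' i' = c ≫ x₁) : T' ⟶ ZS j' :=
  (D'.φ s s' (compat_ss u v α g w x₀ x₁ h c i s hs i' s' hs')
    (lp u v α g w D' x₀ r c i s hs)).1 ≫ CH j' i'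

lemma lval_indep {T T' : Scheme.{u}} {j j' : κ} (x₀ : T ⟶ V j) (x₁ : T ⟶ V j')
    (h : x₀ ≫ v j = x₁ ≫ v j') (r : Lifts (ZO j) x₀) (c : T' ⟶ T)
    (i : Idx α j) (s : T' ⟶ U i.1) (hs : s ≫ G' j i = c ≫ x₀)
    (i' : Idx α j') (s' : T' ⟶ U i'.1) (hs' : s' ≫ G' j' i' = c ≫ x₁)
    (i₂ : Idx α j) (s₂ : T' ⟶ U i₂.1) (hs₂ : s₂ ≫ G' j i₂ = c ≫ x₀)
    (i₂' : Idx α j') (s₂' : T' ⟶ U i₂'.1) (hs₂' : s₂' ≫ G' j' i₂' = c ≫ x₁) :
    lval u v α g w D' x₀ x₁ h r c i s hs i' s' hs' =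
      lval u v α g w D' x₀ x₁ h r c i₂ s₂ hs₂ i₂' s₂' hs₂' := by
  unfold lval
  have h12 : s ≫ u i.1 = s₂ ≫ u i₂.1 := compat_ss u v α g w x₀ x₀ rfl c i s hs i₂ s₂ hs₂
  have h1'2' : s' ≫ G' j' i' = s₂' ≫ G' j' i₂' := hs'.trans hs₂'.symm
  rw [← lp_φ u v α g w D' x₀ r c i s hs i₂ s₂ hs₂ h12, D'.φ_comp]
  have key := φ_chart (G' j') (R' j') s' s₂' h1'2'
    (D'.φ s s' (compat_ss u v α g w x₀ x₁ h c i s hs i' s' hs') (lp u v α g w D' x₀ r c i s hs))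
  refine Eq.trans key.symm ?_
  show ((D'.φ s' s₂' _ (D'.φ s s' _ _)).1) ≫ _ = _
  rw [D'.φ_comp]
  rfl

lemma lval_indep' {T T' : Scheme.{u}} {j j' : κ} (x₀ : T ⟶ V j) (x₁ : T ⟶ V j')
    (h : x₀ ≫ v j = x₁ ≫ v j') (r : Lifts (ZO j) x₀) (c c₂ : T' ⟶ T) (ec : c = c₂)
    (i : Idx α j) (s : T' ⟶ U i.1) (hs : s ≫ G' j i = c ≫ x₀)
    (i' : Idx α j') (s' : T' ⟶ U i'.1) (hs' : s' ≫ G' j' i' = c ≫ x₁)
    (i₂ : Idx α j) (s₂ : T' ⟶ U i₂.1) (hs₂ : s₂ ≫ G' j i₂ = c₂ ≫ x₀)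
    (i₂' : Idx α j') (s₂' : T' ⟶ U i₂'.1) (hs₂' : s₂' ≫ G' j' i₂' = c₂ ≫ x₁) :
    lval u v α g w D' x₀ x₁ h r c i s hs i' s' hs' =
      lval u v α g w D' x₀ x₁ h r c₂ i₂ s₂ hs₂ i₂' s₂' hs₂' := by
  subst ec
  exact lval_indep u v α g w D' x₀ x₁ h r c i s hs i' s' hs' i₂ s₂ hs₂ i₂' s₂' hs₂'

lemma lval_nat {T T' T'' : Scheme.{u}} {j j' : κ} (x₀ : T ⟶ V j) (x₁ : T ⟶ V j')
    (h : x₀ ≫ v j = x₁ ≫ v j') (r : Lifts (ZO j) x₀) (c : T' ⟶ T)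
    (i : Idx α j) (s : T' ⟶ U i.1) (hs : s ≫ G' j i = c ≫ x₀)
    (i' : Idx α j') (s' : T' ⟶ U i'.1) (hs' : s' ≫ G' j' i' = c ≫ x₁) (d : T'' ⟶ T')
    (hsd : (d ≫ s) ≫ G' j i = (d ≫ c) ≫ x₀) (hsd' : (d ≫ s') ≫ G' j' i' = (d ≫ c) ≫ x₁) :
    lval u v α g w D' x₀ x₁ h r (d ≫ c) i (d ≫ s) hsd i' (d ≫ s') hsd' =
      d ≫ lval u v α g w D' x₀ x₁ h r c i s hs i' s' hs' := by
  unfold lval
  rw [← Category.assoc]
  congr 1
  exact φ_nat D' d s s' _ _ _ rfl rfl _ _ _ (lp_nat u v α g w D' x₀ r c i s hs d hsd)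

lemma lval_zeta {T T' : Scheme.{u}} {j j' : κ} (x₀ : T ⟶ V j) (x₁ : T ⟶ V j')
    (h : x₀ ≫ v j = x₁ ≫ v j') (r : Lifts (ZO j) x₀) (c : T' ⟶ T)
    (i : Idx α j) (s : T' ⟶ U i.1) (hs : s ≫ G' j i = c ≫ x₀)
    (i' : Idx α j') (s' : T' ⟶ U i'.1) (hs' : s' ≫ G' j' i' = c ≫ x₁) :
    lval u v α g w D' x₀ x₁ h r c i s hs i' s' hs' ≫ ZE j' = c ≫ x₁ := by
  unfold lval
  rw [Category.assoc]
  have : CH j' i' ≫ ZE j' = (D'.obj i'.1).hom ≫ G' j' i' := chart_ζ (G' j') (R' j') i'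
  rw [this, ← Category.assoc, (D'.φ s s' _ _).2, hs']

/-- the sieve on which both points factor through members of the covers -/
def cov2 {T : Scheme.{u}} (j j' : κ) (x₀ : T ⟶ V j) (x₁ : T ⟶ V j') : Sieve T :=
  cov α g j x₀ ⊓ cov α g j' x₁

include hcov in
lemma cov2_mem {T : Scheme.{u}} (j j' : κ) (x₀ : T ⟶ V j) (x₁ : T ⟶ V j') :
    cov2 α g j j' x₀ x₁ ∈ Scheme.fpqcTopology T :=
  Scheme.fpqcTopology.intersection_covering (cov_mem α g hcov j x₀) (cov_mem α g hcov j' x₁)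

include hcov in
/-- existence of the transported point -/
lemma exists_transport {T : Scheme.{u}} {j j' : κ} (x₀ : T ⟶ V j) (x₁ : T ⟶ V j')
    (h : x₀ ≫ v j = x₁ ≫ v j') (r : Lifts (ZO j) x₀) :
    ∃ r' : Lifts (ZO j') x₁, ∀ (T' : Scheme.{u}) (c : T' ⟶ T)
      (i : Idx α j) (s : T' ⟶ U i.1) (hs : s ≫ G' j i = c ≫ x₀)
      (i' : Idx α j') (s' : T' ⟶ U i'.1) (hs' : s' ≫ G' j' i' = c ≫ x₁),
      c ≫ r'.1 = lval u v α g w D' x₀ x₁ h r c i s hs i' s' hs' := by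
  have hR := cov2_mem α g hcov j j' x₀ x₁
  have hsheaf := (GrothendieckTopology.Subcanonical.isSheaf_of_isRepresentable
    (J := Scheme.fpqcTopology) (yoneda.obj (ZS j'))) _ hR
  let x : Presieve.FamilyOfElements (yoneda.obj (ZS j')) (cov2 α g j j' x₀ x₁).arrows :=
    fun T' c hc => lval u v α g w D' x₀ x₁ h r c hc.1.choose hc.1.choose_spec.choose
      hc.1.choose_spec.choose_spec hc.2.choose hc.2.choose_spec.choose hc.2.choose_spec.choose_spec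
  have hx : x.Compatible := by
    intro Y₁ Y₂ Y g₁ g₂ f₁ f₂ h₁ h₂ e
    change g₁ ≫ lval u v α g w D' x₀ x₁ h r f₁ _ _ _ _ _ _ =
      g₂ ≫ lval u v α g w D' x₀ x₁ h r f₂ _ _ _ _ _ _
    rw [← lval_nat u v α g w D' x₀ x₁ h r f₁ _ _ _ _ _ _ g₁
        (by rw [Category.assoc, h₁.1.choose_spec.choose_spec, Category.assoc])
        (by rw [Category.assoc, h₁.2.choose_spec.choose_spec, Category.assoc]),
      ← lval_nat u v α g w D' x₀ x₁ h r f₂ _ _ _ _ _ _ g₂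
        (by rw [Category.assoc, h₂.1.choose_spec.choose_spec, Category.assoc])
        (by rw [Category.assoc, h₂.2.choose_spec.choose_spec, Category.assoc])]
    exact lval_indep' u v α g w D' x₀ x₁ h r _ _ e _ _ _ _ _ _ _ _ _ _ _ _
  have hval : ∀ (T' : Scheme.{u}) (c : T' ⟶ T)
      (i : Idx α j) (s : T' ⟶ U i.1) (hs : s ≫ G' j i = c ≫ x₀)
      (i' : Idx α j') (s' : T' ⟶ U i'.1) (hs' : s' ≫ G' j' i' = c ≫ x₁),
      c ≫ hsheaf.amalgamate x hx = lval u v α g w D' x₀ x₁ h r c i s hs i' s' hs' := by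
    intro T' c i s hs i' s' hs'
    have hc : (cov2 α g j j' x₀ x₁).arrows c := ⟨⟨i, s, hs⟩, ⟨i', s', hs'⟩⟩
    have := hsheaf.valid_glue hx c hc
    refine Eq.trans this ?_
    exact lval_indep u v α g w D' x₀ x₁ h r c _ _ _ _ _ _ _ _ _ _ _ _
  refine ⟨⟨hsheaf.amalgamate x hx, ?_⟩, hval⟩
  apply ext_of_cov _ hR
  rintro T' c ⟨⟨i, s, hs⟩, ⟨i', s', hs'⟩⟩
  rw [← Category.assoc, hval T' c i s hs i' s' hs']
  exact lval_zeta u v α g w D' x₀ x₁ h r c i s hs i' s' hs'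

/-- the transport of points of the glued schemes -/
noncomputable def tr {T : Scheme.{u}} {j j' : κ} (x₀ : T ⟶ V j) (x₁ : T ⟶ V j')
    (h : x₀ ≫ v j = x₁ ≫ v j') (r : Lifts (ZO j) x₀) : Lifts (ZO j') x₁ :=
  (exists_transport u v α g w D' hcov x₀ x₁ h r).choose

lemma tr_spec {T T' : Scheme.{u}} {j j' : κ} (x₀ : T ⟶ V j) (x₁ : T ⟶ V j')
    (h : x₀ ≫ v j = x₁ ≫ v j') (r : Lifts (ZO j) x₀) (c : T' ⟶ T)
    (i : Idx α j) (s : T' ⟶ U i.1) (hs : s ≫ G' j i = c ≫ x₀)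
    (i' : Idx α j') (s' : T' ⟶ U i'.1) (hs' : s' ≫ G' j' i' = c ≫ x₁) :
    c ≫ (tr u v α g w D' hcov x₀ x₁ h r).1 = lval u v α g w D' x₀ x₁ h r c i s hs i' s' hs' :=
  (exists_transport u v α g w D' hcov x₀ x₁ h r).choose_spec T' c i s hs i' s' hs'

lemma tr_unique {T : Scheme.{u}} {j j' : κ} (x₀ : T ⟶ V j) (x₁ : T ⟶ V j')
    (h : x₀ ≫ v j = x₁ ≫ v j') (r : Lifts (ZO j) x₀) (r' : Lifts (ZO j') x₁) (R : Sieve T)
    (hR : R ∈ Scheme.fpqcTopology T)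
    (H : ∀ (T' : Scheme.{u}) (c : T' ⟶ T), R c → ∃ (i : Idx α j) (s : T' ⟶ U i.1)
      (hs : s ≫ G' j i = c ≫ x₀) (i' : Idx α j') (s' : T' ⟶ U i'.1)
      (hs' : s' ≫ G' j' i' = c ≫ x₁), c ≫ r'.1 = lval u v α g w D' x₀ x₁ h r c i s hs i' s' hs') :
    r' = tr u v α g w D' hcov x₀ x₁ h r := by
  apply Subtype.ext
  apply ext_of_cov R hR
  intro T' c hc
  obtain ⟨i, s, hs, i', s', hs', e⟩ := H T' c hc
  rw [e, tr_spec]

lemma tr_self {T : Scheme.{u}} {j : κ} (x : T ⟶ V j) (r : Lifts (ZO j) x) :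
    tr u v α g w D' hcov x x rfl r = r := by
  symm
  apply tr_unique u v α g w D' hcov x x rfl r r (cov α g j x) (cov_mem α g hcov j x)
  rintro T' c ⟨i, s, hs⟩
  refine ⟨i, s, hs, i, s, hs, ?_⟩
  unfold lval
  rw [D'.φ_self, lp_ch]

lemma tr_comp {T : Scheme.{u}} {j₀ j₁ j₂ : κ} (x₀ : T ⟶ V j₀) (x₁ : T ⟶ V j₁) (x₂ : T ⟶ V j₂)
    (h₀₁ : x₀ ≫ v j₀ = x₁ ≫ v j₁) (h₁₂ : x₁ ≫ v j₁ = x₂ ≫ v j₂) (r : Lifts (ZO j₀) x₀) :
    tr u v α g w D' hcov x₁ x₂ h₁₂ (tr u v α g w D' hcov x₀ x₁ h₀₁ r) =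
      tr u v α g w D' hcov x₀ x₂ (h₀₁.trans h₁₂) r := by
  apply tr_unique u v α g w D' hcov x₀ x₂ (h₀₁.trans h₁₂) r _
    (cov2 α g j₀ j₁ x₀ x₁ ⊓ cov α g j₂ x₂)
    (Scheme.fpqcTopology.intersection_covering (cov2_mem α g hcov j₀ j₁ x₀ x₁)
      (cov_mem α g hcov j₂ x₂))
  rintro T' c ⟨⟨⟨i₀, s₀, hs₀⟩, ⟨i₁, s₁, hs₁⟩⟩, ⟨i₂, s₂, hs₂⟩⟩
  refine ⟨i₀, s₀, hs₀, i₂, s₂, hs₂, ?_⟩
  rw [tr_spec u v α g w D' hcov x₁ x₂ h₁₂ _ c i₁ s₁ hs₁ i₂ s₂ hs₂]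
  unfold lval
  have key : lp u v α g w D' x₁ (tr u v α g w D' hcov x₀ x₁ h₀₁ r) c i₁ s₁ hs₁ =
      D'.φ s₀ s₁ (compat_ss u v α g w x₀ x₁ h₀₁ c i₀ s₀ hs₀ i₁ s₁ hs₁)
        (lp u v α g w D' x₀ r c i₀ s₀ hs₀) := by
    symm
    apply lp_unique
    rw [tr_spec u v α g w D' hcov x₀ x₁ h₀₁ r c i₀ s₀ hs₀ i₁ s₁ hs₁]
    rfl
  rw [key, D'.φ_comp]

lemma lp_congr {T T₂ T' : Scheme.{u}} {j : κ} {x₀ : T ⟶ V j} {x₀' : T₂ ⟶ V j}
    (r : Lifts (ZO j) x₀) (r₂ : Lifts (ZO j) x₀') (c : T' ⟶ T) (c₂ : T' ⟶ T₂)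
    (e : c ≫ r.1 = c₂ ≫ r₂.1) (i : Idx α j) (s : T' ⟶ U i.1) (hs : s ≫ G' j i = c ≫ x₀)
    (hs₂ : s ≫ G' j i = c₂ ≫ x₀') :
    lp u v α g w D' x₀ r c i s hs = lp u v α g w D' x₀' r₂ c₂ i s hs₂ :=
  loc_eq_of_eq (G' j) (R' j) e i s _ _

lemma tr_nat {T T₂ : Scheme.{u}} (e : T₂ ⟶ T) {j j' : κ} (x₀ : T ⟶ V j) (x₁ : T ⟶ V j')
    (h : x₀ ≫ v j = x₁ ≫ v j') (y₀ : T₂ ⟶ V j) (y₁ : T₂ ⟶ V j') (e₀ : e ≫ x₀ = y₀)
    (e₁ : e ≫ x₁ = y₁) (h' : y₀ ≫ v j = y₁ ≫ v j') (p : Lifts (ZO j) x₀) (p' : Lifts (ZO j) y₀)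
    (hp : p'.1 = e ≫ p.1) :
    (tr u v α g w D' hcov y₀ y₁ h' p').1 = e ≫ (tr u v α g w D' hcov x₀ x₁ h p).1 := by
  subst e₀ e₁
  apply ext_of_cov _ (cov2_mem α g hcov j j' (e ≫ x₀) (e ≫ x₁))
  rintro T' c ⟨⟨i, s, hs⟩, ⟨i', s', hs'⟩⟩
  have hs2 : s ≫ G' j i = (c ≫ e) ≫ x₀ := by rw [hs, Category.assoc]
  have hs2' : s' ≫ G' j' i' = (c ≫ e) ≫ x₁ := by rw [hs', Category.assoc]
  rw [tr_spec u v α g w D' hcov (e ≫ x₀) (e ≫ x₁) h' p' c i s hs i' s' hs', ← Category.assoc,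
    tr_spec u v α g w D' hcov x₀ x₁ h p (c ≫ e) i s hs2 i' s' hs2']
  unfold lval
  rw [lp_congr u v α g w D' p' p c (c ≫ e) (by rw [hp, Category.assoc]) i s hs hs2]

/-- the glued descent datum relative to the family `v` -/
noncomputable def glued : SchDDFam v where
  obj j := ZO j
  φ T j j' x₀ x₁ h :=
    { toFun := tr u v α g w D' hcov x₀ x₁ h
      invFun := tr u v α g w D' hcov x₁ x₀ h.symm
      left_inv := fun r => by rw [tr_comp, tr_self]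
      right_inv := fun r => by rw [tr_comp, tr_self] }
  φ_natural T T' e j j' x₀ x₁ h y₀ y₁ e₀ e₁ h' p p' hp :=
    tr_nat u v α g w D' hcov e x₀ x₁ h y₀ y₁ e₀ e₁ h' p p' hp
  φ_self T j x r := tr_self u v α g w D' hcov x r
  φ_comp T j₀ j₁ j₂ x₀ x₁ x₂ h₀₁ h₁₂ r := tr_comp u v α g w D' hcov x₀ x₁ x₂ h₀₁ h₁₂ r

local notation "GLU" => glued u v α g w D' hcov

lemma self_cond {T : Scheme.{u}} {i : ι} (x : T ⟶ U i) :
    x ≫ G' (α i) ⟨i, rfl⟩ = 𝟙 T ≫ x ≫ g i := by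
  rw [g'_self, Category.id_comp]

/-- points of the glued scheme over `x ≫ g i` are points of `D'.obj i` over `x` -/
noncomputable def ptEquiv {T : Scheme.{u}} {i : ι} (x : T ⟶ U i) :
    Lifts (ZO (α i)) (x ≫ g i) ≃ Lifts (D'.obj i) x where
  toFun r := lp u v α g w D' (x ≫ g i) r (𝟙 T) ⟨i, rfl⟩ x (self_cond α g x)
  invFun p := ⟨p.1 ≫ CH (α i) ⟨i, rfl⟩, by
    have : CH (α i) ⟨i, rfl⟩ ≫ ZE (α i) = (D'.obj i).hom ≫ G' (α i) ⟨i, rfl⟩ :=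
      chart_ζ (G' (α i)) (R' (α i)) ⟨i, rfl⟩
    show (p.1 ≫ CH (α i) ⟨i, rfl⟩) ≫ ZE (α i) = x ≫ g i
    rw [Category.assoc, this, ← Category.assoc, p.2, g'_self]⟩
  left_inv r := by
    apply Subtype.ext
    show (lp u v α g w D' (x ≫ g i) r (𝟙 T) ⟨i, rfl⟩ x _).1 ≫ CH (α i) ⟨i, rfl⟩ = r.1
    rw [lp_ch, Category.id_comp]
  right_inv p :=
    (lp_unique u v α g w D' (x ≫ g i) _ (𝟙 T) ⟨i, rfl⟩ x (self_cond α g x) p
      (by rw [Category.id_comp])).symm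

/-- the comparison of points -/
noncomputable def ptE {T : Scheme.{u}} {i : ι} (x : T ⟶ U i) :
    Lifts ((pullDDFamObj w GLU).obj i) x ≃ Lifts (D'.obj i) x :=
  (liftsPullbackEquiv ((GLU).obj (α i)) (g i) x).trans (ptEquiv u v α g w D' x)

lemma ptE_val {T : Scheme.{u}} {i : ι} (x : T ⟶ U i) (p : Lifts ((pullDDFamObj w GLU).obj i) x) :
    ptE u v α g w D' hcov x p = lp u v α g w D' (x ≫ g i)
      (liftsPullbackEquiv ((GLU).obj (α i)) (g i) x p) (𝟙 T) ⟨i, rfl⟩ x (self_cond α g x) := rfl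

/-- the pointwise bijections between the pulled back glued datum and the original datum -/
noncomputable def ptEquivData : Groth.Agent.Lib.Seat43.DescYoneda.PtEquiv (pullDDFamObj w GLU) D' where
  e T i x := ptE u v α g w D' hcov x
  nat T T' c i x y hy p p' hp := by
    subst hy
    rw [ptE_val, ptE_val]
    have h1 := lp_nat u v α g w D' (x ≫ g i) (liftsPullbackEquiv ((GLU).obj (α i)) (g i) x p) (𝟙 T)
      ⟨i, rfl⟩ x (self_cond α g x) c (by rw [Category.comp_id, g'_self, Category.assoc])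
    rw [← h1]
    congr 1
    apply lp_congr
    show 𝟙 T' ≫ (p'.1 ≫ pullback.fst _ _) = (c ≫ 𝟙 T) ≫ (p.1 ≫ pullback.fst _ _)
    rw [hp]
    simp
  compat T i i' x₀ x₁ h p := by
    rw [ptE_val, ptE_val]
    have e1 : liftsPullbackEquiv ((GLU).obj (α i')) (g i') x₁ ((pullDDFamObj w GLU).φ x₀ x₁ h p) =
        tr u v α g w D' hcov (x₀ ≫ g i) (x₁ ≫ g i') (pull_compat w x₀ x₁ h)
          (liftsPullbackEquiv ((GLU).obj (α i)) (g i) x₀ p) := by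
      show liftsPullbackEquiv ((GLU).obj (α i')) (g i') x₁
        ((liftsPullbackEquiv ((GLU).obj (α i')) (g i') x₁).symm _) = _
      rw [Equiv.apply_symm_apply]
      rfl
    rw [e1]
    symm
    refine lp_unique u v α g w D' (x₁ ≫ g i') _ (𝟙 T) ⟨i', rfl⟩ x₁ (self_cond α g x₁) _ ?_
    rw [tr_spec u v α g w D' hcov (x₀ ≫ g i) (x₁ ≫ g i') (pull_compat w x₀ x₁ h) _ (𝟙 T)
      ⟨i, rfl⟩ x₀ (self_cond α g x₀) ⟨i', rfl⟩ x₁ (self_cond α g x₁)]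
    rfl

/-- the pulled back glued datum is isomorphic to the original datum -/
noncomputable def pullGluedIso : (pullDDFam w).obj GLU ≅ D' :=
  (ptEquivData u v α g w D' hcov).toIso

end Groth.Agent.Lib.Seat43.ZarDescRefine
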