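import Groth.Agent.Lib.Seat58DescEff
import Groth.Agent.S9851
import Groth.Agent.S9856

/-!
# Seat58: reduction of effectiveness over an affine base to a single morphism of affine schemes

Let `P` be a property of morphisms stable under base change and finite disjoint unions such that
descent data with `P` relative to flat surjective morphisms of affine schemes are effective.  Then
descent data with `P` relative to any fpqc covering family of an affine scheme are effective
(`isEffective_of_affine_base`), and hence relative to any fpqc covering family of any scheme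
(`isEffective_of_fpqc`).
-/

set_option autoImplicit false
set_option backward.isDefEq.respectTransparency false
set_option backward.isDefEq.respectTransparency.types false
set_option linter.unusedSectionVars false
set_option linter.unusedVariables false
universe w' w u
open CategoryTheory CategoryTheory.Limits AlgebraicGeometry Desc

namespace Groth.Agent.Lib.Seat58.DescAffBase

open Groth.Agent.Lib.Helper12.DescFF Groth.Agent.Lib.Seat43.DescYoneda
open Groth.Agent.Lib.Seat58.DescTwoStep Groth.Agent.Lib.Seat58.DescEff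

section extensive

/-- universe-general version of `FinitaryPreExtensive.isIso_sigmaDesc_fst` -/
lemma isIso_sigmaDesc_fst' {C : Type*} [Category C] [HasPullbacks C] [FinitaryPreExtensive C]
    {α : Type w} [Finite α]
    {X : C} {Z : α → C} (π : (a : α) → Z a ⟶ X) {Y : C} (f : Y ⟶ X) (hπ : IsIso (Sigma.desc π)) :
    IsIso (Sigma.desc ((fun _ ↦ pullback.fst _ _) : (a : α) → pullback f (π a) ⟶ _)) := by
  let c := (Cofan.mk _ ((fun _ ↦ pullback.fst _ _) : (a : α) → pullback f (π a) ⟶ _))
  apply c.nonempty_isColimit_iff_isIso_sigmaDesc.mp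
  have hau : IsUniversalColimit (Cofan.mk X π) := FinitaryPreExtensive.isUniversal_finiteCoproducts
    ((Cofan.nonempty_isColimit_iff_isIso_sigmaDesc _).mpr hπ).some
  refine hau.nonempty_isColimit_of_pullbackCone_left _ (𝟙 _) _ _ (fun i ↦ ?_)
    (PullbackCone.mk (𝟙 _) f (by simp)) (IsPullback.id_horiz f).isLimit _ (Iso.refl _)
    (by simp) (by simp [c]) (by simp [pullback.condition, c])
  exact pullback.isLimit _ _

variable (P : MorphismProperty Scheme.{u}) [P.RespectsIso]

/-- stability under finite disjoint unions indexed by `Fin m` gives stability under disjoint unions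
indexed by any finite type -/
lemma sigmaMap_of_finite
    (h2 : ∀ (m : ℕ) (Y V : Fin m → Scheme.{u}) (q : ∀ j, Y j ⟶ V j), (∀ j, P (q j)) →
      P (Limits.Sigma.map q))
    {K : Type w} [Finite K] (Y V : K → Scheme.{u}) (q : ∀ k, Y k ⟶ V k) (hq : ∀ k, P (q k)) :
    P (Limits.Sigma.map q) := by
  obtain ⟨n, ⟨e⟩⟩ := Finite.exists_equiv_fin K
  have h := h2 n (Y ∘ e.symm) (V ∘ e.symm) (fun j => q (e.symm j)) (fun j => hq _)
  have key : (Sigma.reindex e.symm Y).hom ≫ Limits.Sigma.map q =
      Limits.Sigma.map (fun j => q (e.symm j)) ≫ (Sigma.reindex e.symm V).hom := by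
    apply Sigma.hom_ext
    intro j
    simp
    exact congrArg (q (e.symm j) ≫ ·) (Sigma.ι_reindex_hom e.symm V j).symm
  rw [← P.cancel_left_of_respectsIso (Sigma.reindex e.symm Y).hom, key,
    P.cancel_right_of_respectsIso]
  exact h

/-- a morphism to a finite coproduct has `P` if its base changes to the summands have `P` -/
lemma of_sigma_pullback
    (h2 : ∀ (m : ℕ) (Y V : Fin m → Scheme.{u}) (q : ∀ j, Y j ⟶ V j), (∀ j, P (q j)) →
      P (Limits.Sigma.map q))
    {K : Type w} [Finite K] (V : K → Scheme.{u}) {Y : Scheme.{u}} (y : Y ⟶ ∐ V)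
    (hy : ∀ k, P (pullback.snd y (Sigma.ι V k))) : P y := by
  have hiso : IsIso (Sigma.desc (fun k => pullback.fst y (Sigma.ι V k))) := by
    apply isIso_sigmaDesc_fst' (Sigma.ι V) y
    have : Sigma.desc (Sigma.ι V) = 𝟙 _ := by
      apply Sigma.hom_ext
      intro k
      simp
    rw [this]
    infer_instance
  have key : Sigma.desc (fun k => pullback.fst y (Sigma.ι V k)) ≫ y =
      Limits.Sigma.map (fun k => pullback.snd y (Sigma.ι V k)) := by
    apply Sigma.hom_ext
    intro k
    simp [pullback.condition]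
  rw [← P.cancel_left_of_respectsIso (Sigma.desc (fun k => pullback.fst y (Sigma.ι V k))), key]
  exact sigmaMap_of_finite P h2 _ _ _ hy

end extensive

section affineBase

variable (P : MorphismProperty Scheme.{u}) [P.IsStableUnderBaseChange]

/-- a finite family of morphisms from affine schemes to an affine scheme which is flat and jointly
surjective is an fpqc covering -/
lemma finite_affine_mem_fpqcPrecoverage {S : Scheme.{u}} [IsAffine S] {K : Type u} [Finite K]
    (Wk : K → Scheme.{u}) [∀ k, IsAffine (Wk k)] (wk : ∀ k, Wk k ⟶ S) [∀ k, Flat (wk k)]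
    (hsurj : ∀ x : S, ∃ k, x ∈ Set.range (wk k)) :
    Presieve.ofArrows Wk wk ∈ Scheme.fpqcPrecoverage S := by
  refine ⟨?_, (Scheme.ofArrows_mem_precoverage_iff _).mpr ⟨hsurj, fun k => inferInstance⟩⟩
  let E : PreZeroHypercover.{u} S := ⟨K, Wk, wk⟩
  change E.presieve₀ ∈ Scheme.qcPrecoverage S
  rw [Scheme.presieve₀_mem_qcPrecoverage_iff]
  constructor
  intro V hV
  exact .of_finite_of_isSpectralMap (fun k => (wk k).isSpectralMap) (fun x _ => hsurj x) V.2
    hV.isCompact

theorem isEffective_of_affine_base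
    (h2 : ∀ (m : ℕ) (Y V : Fin m → Scheme.{u}) (q : ∀ j, Y j ⟶ V j), (∀ j, P (q j)) →
      P (Limits.Sigma.map q))
    (h3 : ∀ (X S : Scheme.{u}) (p : X ⟶ S), IsAffine X → IsAffine S → Flat p → Surjective p →
      ∀ D : Desc.SchDD p, P D.obj.hom → ∃ U : Over S, Nonempty ((Desc.toDD p).obj U ≅ D))
    {ι : Type u} {S : Scheme.{u}} [IsAffine S] {U : ι → Scheme.{u}} (u : ∀ i, U i ⟶ S)
    (hu : Presieve.ofArrows U u ∈ Scheme.fpqcPrecoverage S) (D : SchDDFam u)
    (hD : ∀ i, P (D.obj i).hom) : D.IsEffective := by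
  have hflat : ∀ i, Flat (u i) := ((Scheme.ofArrows_mem_precoverage_iff _).mp hu.2).2
  let E : PreZeroHypercover.{u} S := ⟨ι, U, u⟩
  have hqc : QuasiCompactCover E := Scheme.presieve₀_mem_qcPrecoverage_iff.mp hu.1
  obtain ⟨n, a, W, hW, hU⟩ := QuasiCompactCover.exists_isAffineOpen_of_isCompact E
    (U := ⊤) (by simpa using isCompact_univ)
  -- the finite affine refinement
  let Wk : ULift.{u} (Fin n) → Scheme.{u} := fun k => (W k.down : Scheme.{u})
  let wk : ∀ k, Wk k ⟶ S := fun k => (W k.down).ι ≫ u (a k.down)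
  have hWaff : ∀ k, IsAffine (Wk k) := fun k => hW k.down
  have hwflat : ∀ k, Flat (wk k) := fun k => by
    have := hflat (a k.down)
    change Flat ((W k.down).ι ≫ u (a k.down))
    infer_instance
  have hsurj : ∀ x : S, ∃ k, x ∈ Set.range (wk k) := by
    intro x
    have hx : x ∈ ((⊤ : S.Opens) : Set S) := trivial
    rw [← hU] at hx
    obtain ⟨k, y, hy, hyx⟩ := Set.mem_iUnion.mp hx
    exact ⟨⟨k⟩, ⟨y, hy⟩, hyx⟩
  have hwk : Presieve.ofArrows Wk wk ∈ Scheme.fpqcPrecoverage S :=
    finite_affine_mem_fpqcPrecoverage Wk wk hsurj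
  have hFF := Groth.Agent.S9856.result wk u hwk hu (fun k => a k.down) (fun k => (W k.down).ι)
    (fun k => rfl)
  have w₀ : ∀ k, (W k.down).ι ≫ u (a k.down) = wk k ≫ 𝟙 S := fun k => (Category.comp_id _).symm
  have hFull : (pullDDFam w₀).Full := hFF.1
  have hFaith : (pullDDFam w₀).Faithful := hFF.2
  refine isEffective_of_pull w₀ D ?_
  -- the single morphism from the disjoint union
  have hEq := Groth.Agent.S9851.result wk
  obtain ⟨DX, ⟨eX⟩⟩ := hEq.essSurj.mem_essImage ((pullDDFam w₀).obj D)
  have hPX : P DX.obj.hom := by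
    apply of_sigma_pullback P h2 Wk
    intro k
    have e := isoApp eX k
    have h1 : P (pullback.snd (D.obj (a k.down)).hom (W k.down).ι) := P.pullback_snd _ _ (hD _)
    have h2' := Over.w e.hom
    have : pullback.snd DX.obj.hom (Sigma.ι Wk k) =
        e.hom.left ≫ pullback.snd (D.obj (a k.down)).hom (W k.down).ι := h2'.symm
    rw [this, P.cancel_left_of_respectsIso]
    exact h1
  have hpflat : Flat (Sigma.desc wk) := by
    rw [IsZariskiLocalAtSource.iff_of_openCover (P := @Flat) (sigmaOpenCover _)]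
    intro k
    change Flat (Sigma.ι Wk k ≫ Sigma.desc wk)
    rw [Sigma.ι_desc]
    exact hwflat k
  have hpsurj : Surjective (Sigma.desc wk) := by
    constructor
    intro x
    obtain ⟨k, y, hy⟩ := hsurj x
    refine ⟨Sigma.ι Wk k y, ?_⟩
    rw [← Scheme.Hom.comp_apply, Sigma.ι_desc]
    exact hy
  obtain ⟨Z, ⟨eZ⟩⟩ := h3 (∐ Wk) S (Sigma.desc wk) inferInstance inferInstance hpflat hpsurj DX hPX
  refine ⟨Z, ⟨?_⟩⟩
  have w₁ : ∀ k, Sigma.ι Wk k ≫ (fun _ : PUnit.{u + 1} => Sigma.desc wk) PUnit.unit = wk k ≫ 𝟙 S :=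
    fun k => (Sigma.ι_desc wk k).trans (Category.comp_id (wk k)).symm
  have e1 : (pullDDFam (f := fun _ : PUnit.{u + 1} => Sigma.desc wk) (f' := wk)
      (α := fun _ => PUnit.unit) (p' := fun k => Sigma.ι Wk k) w₁).obj
        ((toDDFam (fun _ : PUnit.{u + 1} => Sigma.desc wk)).obj Z) ≅ (toDDFam wk).obj Z :=
    pullCanIso w₁ Z
  have e2 : (toDDFam (fun _ : PUnit.{u + 1} => Sigma.desc wk)).obj Z ≅
      (SchDDFam.ofSchDD.{u} (Sigma.desc wk)).obj DX :=
    (SchDDFam.ofSchDD.{u} (Sigma.desc wk)).mapIso eZ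
  exact e1.symm ≪≫ (pullDDFam (f := fun _ : PUnit.{u + 1} => Sigma.desc wk) (f' := wk)
      (α := fun _ => PUnit.unit) (p' := fun k => Sigma.ι Wk k) w₁).mapIso e2 ≪≫ eX

/-- Reduction of effectiveness of descent data with `P` relative to fpqc covering families to the
case of a flat surjective morphism of affine schemes. -/
theorem isEffective_of_fpqc
    (h2 : ∀ (m : ℕ) (Y V : Fin m → Scheme.{u}) (q : ∀ j, Y j ⟶ V j), (∀ j, P (q j)) →
      P (Limits.Sigma.map q))
    (h3 : ∀ (X S : Scheme.{u}) (p : X ⟶ S), IsAffine X → IsAffine S → Flat p → Surjective p →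
      ∀ D : Desc.SchDD p, P D.obj.hom → ∃ U : Over S, Nonempty ((Desc.toDD p).obj U ≅ D))
    {ι : Type u} {S : Scheme.{u}} {U : ι → Scheme.{u}} (u : ∀ i, U i ⟶ S)
    (hu : Presieve.ofArrows U u ∈ Scheme.fpqcPrecoverage S) (D : SchDDFam u)
    (hD : ∀ i, P (D.obj i).hom) : D.IsEffective := by
  have hs : Presieve.ofArrows S.affineCover.X S.affineCover.f ∈ Scheme.zariskiPrecoverage S :=
    S.affineCover.mem₀
  apply isEffective_of_zariski_local u S.affineCover.f hu hs D
  intro a
  apply isEffective_of_affine_base P h2 h3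
  · have hbc : Presieve.ofArrows (fun i : ι => pullback (u i) (S.affineCover.f a))
        (fun i => pullback.snd (u i) (S.affineCover.f a)) ∈
          Scheme.fpqcPrecoverage (S.affineCover.X a) :=
      Precoverage.mem_coverings_of_isPullback u hu (S.affineCover.f a) _
        (fun i => pullback.fst (u i) (S.affineCover.f a))
        (fun i => (IsPullback.of_hasPullback (u i) (S.affineCover.f a)).flip)
    convert hbc using 1
    funext Y f
    apply propext
    constructor
    · rintro ⟨⟨⟨b, i⟩, hb⟩⟩
      obtain rfl : b = a := hb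
      have : g' Prod.fst (fun k : S.affineCover.I₀ × ι => pullback.snd (u k.2) (S.affineCover.f k.1)) b
          ⟨(b, i), rfl⟩ = pullback.snd (u i) (S.affineCover.f b) := by simp [g']
      rw [this]
      exact ⟨i⟩
    · rintro ⟨i⟩
      have : pullback.snd (u i) (S.affineCover.f a) =
          g' Prod.fst (fun k : S.affineCover.I₀ × ι => pullback.snd (u k.2) (S.affineCover.f k.1)) a
            ⟨(a, i), rfl⟩ := by simp [g']
      rw [this]
      exact Presieve.ofArrows.mk (⟨(a, i), rfl⟩ : Idx Prod.fst a)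
  · intro i
    exact P.pullback_snd _ _ (hD _)

end affineBase

end Groth.Agent.Lib.Seat58.DescAffBase
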