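import Mathlib
import Groth.Prelude.Def_DescFam
import Groth.Agent.Lib.Helper12Descent
import Groth.Agent.Lib.Helper12Torsor
import Groth.Agent.Lib.Seat27Descent
import Groth.Agent.S6044

/-!
# Descent of closed subschemes given by a local condition on points (seat 19)

`exists_sub`: let `P` be a condition on `T₀`-points of a scheme `X` which is stable under precomposition and
fpqc-local on `T₀`.  If on an fpqc covering family `g i : V i ⟶ X` the condition is represented by closed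
subschemes `Z i ⟶ V i`, then it is represented by a closed subscheme `W ⟶ X`.
-/

set_option autoImplicit false
universe u

open CategoryTheory Limits AlgebraicGeometry

namespace Groth.Agent.Lib.Seat19.SubDesc

/-- gluing morphisms along an fpqc covering family given by arrows. -/
theorem glue_ofArrows {T₀ Y : Scheme.{u}} {κ : Type*} (A : κ → Scheme.{u}) (π : ∀ k, A k ⟶ T₀)
    (hπ : Presieve.ofArrows A π ∈ Scheme.fpqcPrecoverage T₀) (x : ∀ k, A k ⟶ Y)
    (hx : ∀ (k l : κ) (Z : Scheme.{u}) (a : Z ⟶ A k) (b : Z ⟶ A l),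
      a ≫ π k = b ≫ π l → a ≫ x k = b ≫ x l) :
    ∃! ψ : T₀ ⟶ Y, ∀ k, π k ≫ ψ = x k := by
  have hs := Groth.Agent.Lib.Seat27.Descent.isSheafFor_yoneda (K := Scheme.fpqcPrecoverage)
    (le_refl _) Y _ hπ
  rw [Presieve.isSheafFor_arrows_iff] at hs
  exact hs x (fun k l Z a b hab => hx k l Z a b hab)

variable {X : Scheme.{u}} {ι : Type u} {V : ι → Scheme.{u}} (g : ∀ i, V i ⟶ X)
  (Z : ∀ i, Over (V i)) [hm : ∀ i, Mono (Z i).hom]
  (P : ∀ ⦃T₀ : Scheme.{u}⦄, (T₀ ⟶ X) → Prop)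
  (hP : ∀ (i : ι) ⦃T₀ : Scheme.{u}⦄ (y : T₀ ⟶ V i),
    (∃ v : T₀ ⟶ (Z i).left, v ≫ (Z i).hom = y) ↔ P (y ≫ g i))

instance subsingleton_lifts (i : ι) {T₀ : Scheme.{u}} (y : T₀ ⟶ V i) :
    Subsingleton (Desc.Lifts (Z i) y) :=
  ⟨fun a b => Subtype.ext ((cancel_mono (Z i).hom).mp (a.2.trans b.2.symm))⟩

omit hm in
include hP in
lemma transfer_exists {T₀ : Scheme.{u}} {i j : ι} (x₀ : T₀ ⟶ V i) (x₁ : T₀ ⟶ V j)
    (h : x₀ ≫ g i = x₁ ≫ g j) (v : Desc.Lifts (Z i) x₀) :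
    ∃ v' : T₀ ⟶ (Z j).left, v' ≫ (Z j).hom = x₁ := by
  rw [hP j x₁, ← h, ← hP i x₀]
  exact ⟨v.1, v.2⟩

/-- transfer of points along the local condition. -/
noncomputable def transfer {T₀ : Scheme.{u}} {i j : ι} (x₀ : T₀ ⟶ V i) (x₁ : T₀ ⟶ V j)
    (h : x₀ ≫ g i = x₁ ≫ g j) (v : Desc.Lifts (Z i) x₀) : Desc.Lifts (Z j) x₁ :=
  ⟨(transfer_exists g Z P hP x₀ x₁ h v).choose, (transfer_exists g Z P hP x₀ x₁ h v).choose_spec⟩

/-- the descent datum attached to local representing monomorphisms. -/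
noncomputable def dd : Desc.SchDDFam g where
  obj := Z
  φ T i j x₀ x₁ h :=
    { toFun := transfer g Z P hP x₀ x₁ h
      invFun := transfer g Z P hP x₁ x₀ h.symm
      left_inv := fun v => Subsingleton.elim _ _
      right_inv := fun v => Subsingleton.elim _ _ }
  φ_natural T T' a i j x₀ x₁ h y₀ y₁ hy₀ hy₁ h' v v' hv' := by
    rw [← cancel_mono (Z j).hom, Category.assoc]
    exact (transfer g Z P hP y₀ y₁ h' v').2.trans
      (hy₁.symm.trans (congrArg (a ≫ ·) (transfer g Z P hP x₀ x₁ h v).2).symm)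
  φ_self T i x v := Subsingleton.elim _ _
  φ_comp T i j k x₀ x₁ x₂ h₀₁ h₁₂ v := Subsingleton.elim _ _

omit hm in
include hP in
/-- **descent of closed subschemes defined by a local condition**. -/
theorem exists_sub (hg : Presieve.ofArrows V g ∈ Scheme.fpqcPrecoverage X)
    (hZ : ∀ i, IsClosedImmersion (Z i).hom)
    (hPcomp : ∀ ⦃T₀ T₁ : Scheme.{u}⦄ (q : T₀ ⟶ X) (h : T₁ ⟶ T₀), P q → P (h ≫ q))
    (hPloc : ∀ ⦃T₀ : Scheme.{u}⦄ (q : T₀ ⟶ X) (R₀ : Presieve T₀),
      R₀ ∈ Scheme.fpqcPrecoverage T₀ → (∀ ⦃T₁ : Scheme.{u}⦄ (f : T₁ ⟶ T₀), R₀ f → P (f ≫ q)) → P q) :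
    ∃ (W : Scheme.{u}) (w : W ⟶ X), IsClosedImmersion w ∧
      ∀ ⦃T₀ : Scheme.{u}⦄ (q : T₀ ⟶ X), (∃ z : T₀ ⟶ W, z ≫ w = q) ↔ P q := by
  have hm : ∀ i, Mono (Z i).hom := fun i => inferInstance
  obtain ⟨W, ⟨e⟩⟩ := Groth.Agent.S6044.result g hg (dd g Z P hP) hZ
  obtain ⟨a, b, hab, hba, hw1, hw2⟩ : ∃ (a : ∀ i, pullback (g i) W.hom ⟶ (Z i).left)
      (b : ∀ i, (Z i).left ⟶ pullback (g i) W.hom), (∀ i, a i ≫ b i = 𝟙 _) ∧
      (∀ i, b i ≫ a i = 𝟙 _) ∧ (∀ i, a i ≫ (Z i).hom = pullback.fst (g i) W.hom) ∧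
      (∀ i, b i ≫ pullback.fst (g i) W.hom = (Z i).hom) := by
    refine ⟨fun i => (e.hom.hom i).left, fun i => (e.inv.hom i).left, fun i => ?_, fun i => ?_,
      fun i => Over.w (e.hom.hom i), fun i => Over.w (e.inv.hom i)⟩
    · have h1 : e.hom.hom i ≫ e.inv.hom i = 𝟙 _ := by
        rw [← Desc.SchDDFam.comp_hom, e.hom_inv_id, Desc.SchDDFam.id_hom]
      exact congrArg (fun φ => φ.left) h1
    · have h1 : e.inv.hom i ≫ e.hom.hom i = 𝟙 _ := by
        rw [← Desc.SchDDFam.comp_hom, e.inv_hom_id, Desc.SchDDFam.id_hom]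
      exact congrArg (fun φ => φ.left) h1
  have key1 : ∀ (i : ι) ⦃T₀ : Scheme.{u}⦄ (y : T₀ ⟶ V i),
      (∃ z : T₀ ⟶ W.left, z ≫ W.hom = y ≫ g i) ↔ P (y ≫ g i) := by
    intro i T₀ y
    rw [← hP i y]
    constructor
    · rintro ⟨z, hz⟩
      refine ⟨pullback.lift y z hz.symm ≫ a i, ?_⟩
      rw [Category.assoc, hw1]
      exact pullback.lift_fst _ _ _
    · rintro ⟨v, hv⟩
      refine ⟨v ≫ b i ≫ pullback.snd (g i) W.hom, ?_⟩
      rw [Category.assoc, Category.assoc, ← pullback.condition, ← Category.assoc _ _ (g i), hw2,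
        ← Category.assoc, hv]
  have hci : IsClosedImmersion W.hom := by
    refine Groth.Agent.Lib.Helper12.of_mem_fpqcPrecoverage
      Groth.Agent.Lib.Helper12.descendsAlong_isClosedImmersion W.hom _ hg ?_
    rintro Y' f ⟨i⟩
    have e1 : pullback.snd W.hom (g i) =
        (pullbackSymmetry W.hom (g i)).hom ≫ a i ≫ (Z i).hom := by
      rw [hw1, pullbackSymmetry_hom_comp_fst]
    have hiso : IsIso (a i) := ⟨b i, hab i, hba i⟩
    have := hZ i
    rw [e1]
    infer_instance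
  refine ⟨W.left, W.hom, hci, ?_⟩
  intro T₀ q
  constructor
  · rintro ⟨z, rfl⟩
    refine hPloc _ ((Presieve.ofArrows V g).pullbackArrows (z ≫ W.hom))
      (Precoverage.pullbackArrows_mem _ hg) ?_
    rintro T₁ f ⟨_, _, ⟨i⟩⟩
    rw [← pullback.condition]
    exact (key1 i _).mp ⟨pullback.snd (g i) (z ≫ W.hom) ≫ z, by
      rw [Category.assoc, pullback.condition]⟩
  · intro hq
    have hloc : ∀ i, ∃ z : pullback (g i) q ⟶ W.left,
        z ≫ W.hom = pullback.snd (g i) q ≫ q := by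
      intro i
      rw [← pullback.condition]
      apply (key1 i _).mpr
      rw [pullback.condition]
      exact hPcomp q _ hq
    choose zz hzz using hloc
    have hmemq : Presieve.ofArrows (fun i => pullback (g i) q) (fun i => pullback.snd (g i) q) ∈
        Scheme.fpqcPrecoverage T₀ := by
      rw [Presieve.ofArrows_pullback]
      exact Precoverage.pullbackArrows_mem q hg
    have hmono : Mono W.hom := inferInstance
    obtain ⟨ψ, hψ, -⟩ := glue_ofArrows _ _ hmemq zz (by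
      intro k l Z₀ a b hab
      rw [← cancel_mono W.hom, Category.assoc, Category.assoc, hzz, hzz, ← Category.assoc,
        ← Category.assoc, hab])
    refine ⟨ψ, ?_⟩
    refine Groth.Agent.Lib.Seat27.Descent.hom_ext_of_cover (K := Scheme.fpqcPrecoverage)
      (le_refl _) _ hmemq _ _ ?_
    rintro S' f ⟨i⟩
    rw [← Category.assoc, hψ, hzz]

end Groth.Agent.Lib.Seat19.SubDesc
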