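import Mathlib
import Groth.Prelude.Def_QuotSh
import Groth.Prelude.Def_DescFam
import Groth.Agent.Lib.Seat19GraphPts
import Groth.Agent.Lib.Helper12Descent
import Groth.Agent.Lib.Helper12Torsor
import Groth.Agent.Lib.Seat27Descent
import Groth.Agent.S6044
import Groth.Agent.Lib.Seat19SubDesc

/-!
# Equivalence relations with closed graph: points of the fpqc quotient sheaf (seat 19)
-/

set_option autoImplicit false
universe u

open CategoryTheory Limits AlgebraicGeometry Opposite MonoidalCategory CartesianMonoidalCategory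
open Groth.Agent.Lib.Seat19.QuotPts Groth.Agent.Lib.Seat19.OpenGraph
open Groth.Agent.Lib.Seat19.GraphPts

namespace Groth.Agent.Lib.Seat19.ClosedGraph

variable {S : Scheme.{u}}

local notation "𝕂" => Scheme.fpqcPrecoverage

/-- an fpqc covering sieve contains a small covering family. -/
lemma exists_small_family {X : Scheme.{u}} (𝓢 : Sieve X) (h𝓢 : 𝓢 ∈ Scheme.fpqcTopology X) :
    ∃ (ι : Type u) (V : ι → Scheme.{u}) (g : ∀ i, V i ⟶ X),
      Presieve.ofArrows V g ∈ Scheme.fpqcPrecoverage X ∧ ∀ i, 𝓢 (g i) := by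
  rw [Precoverage.mem_toGrothendieck_iff_of_isStableUnderComposition] at h𝓢
  obtain ⟨P, hP, hle⟩ := h𝓢
  rw [Precoverage.mem_iff_exists_zeroHypercover] at hP
  obtain ⟨E, rfl⟩ := hP
  have : Precoverage.Small.{u} Scheme.fpqcPrecoverage.{u} :=
    Scheme.instSmallPropQCPrecoverage (P := @Flat)
  let E' := Precoverage.ZeroHypercover.restrictIndexOfSmall.{u} E
  refine ⟨E'.I₀, E'.X, E'.f, E'.mem₀, fun i => hle _ _ ?_⟩
  exact ⟨_⟩

variable {R U : Over S} (s t : R ⟶ U) {T : Over S}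
  (σ : QuotSh.rep 𝕂 T ⟶ QuotSh.quot 𝕂 s t)

/-- `p` has first component lifting `σ` at its second component. -/
def GoodO {T' : Over S} (p : T' ⟶ U ⊗ T) : Prop :=
  IsLift s t σ (p ≫ snd U T) (p ≫ fst U T)

/-- scheme-level version of `GoodO`. -/
def Good {T₀ : Scheme.{u}} (q : T₀ ⟶ (U ⊗ T).left) : Prop :=
  GoodO s t σ (Over.homMk q : Over.mk (q ≫ (U ⊗ T).hom) ⟶ U ⊗ T)

variable {s t σ}

lemma GoodO.comp {T' T'' : Over S} {p : T' ⟶ U ⊗ T} (hp : GoodO s t σ p) (h : T'' ⟶ T') :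
    GoodO s t σ (h ≫ p) := by
  have := IsLift.comp hp h
  unfold GoodO
  rwa [← Category.assoc, ← Category.assoc] at this

lemma goodO_of_sieve {T' : Over S} (p : T' ⟶ U ⊗ T) (𝓡' : Sieve T') (h𝓡' : 𝓡' ∈ QuotSh.J 𝕂 S T')
    (h : ∀ ⦃W : Over S⦄ (f : W ⟶ T'), 𝓡' f → GoodO s t σ (f ≫ p)) : GoodO s t σ p := by
  refine hom_ext_of_cover 𝕂 _ _ 𝓡' h𝓡' ?_
  intro W f hf
  have := h f hf
  unfold GoodO IsLift at this
  rw [Category.assoc, Category.assoc, Groth.Agent.Lib.Helper9.repMap_comp _ f (p ≫ fst U T),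
    Groth.Agent.Lib.Helper9.repMap_comp _ f (p ≫ snd U T), Category.assoc, Category.assoc] at this
  exact this

lemma good_iff_goodO {T' : Over S} (p : T' ⟶ U ⊗ T) : Good s t σ p.left ↔ GoodO s t σ p := by
  let e : Over.mk (p.left ≫ (U ⊗ T).hom) ≅ T' :=
    Over.isoMk (Iso.refl _) ((Category.id_comp _).trans (Over.w p).symm)
  have he : e.hom ≫ p = (Over.homMk p.left : Over.mk (p.left ≫ (U ⊗ T).hom) ⟶ U ⊗ T) := by
    apply Over.OverMorphism.ext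
    simp [e]
  unfold Good
  rw [← he]
  constructor
  · intro h
    have := h.comp e.inv
    rwa [Iso.inv_hom_id_assoc] at this
  · intro h
    exact h.comp e.hom

lemma Good.comp {T₀ T₁ : Scheme.{u}} {q : T₀ ⟶ (U ⊗ T).left} (hq : Good s t σ q) (h : T₁ ⟶ T₀) :
    Good s t σ (h ≫ q) := by
  let ĥ : Over.mk ((h ≫ q) ≫ (U ⊗ T).hom) ⟶ Over.mk (q ≫ (U ⊗ T).hom) := Over.homMk h (by simp)
  have he : ĥ ≫ (Over.homMk q : Over.mk (q ≫ (U ⊗ T).hom) ⟶ U ⊗ T) =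
      (Over.homMk (h ≫ q) : Over.mk ((h ≫ q) ≫ (U ⊗ T).hom) ⟶ U ⊗ T) := by
    apply Over.OverMorphism.ext
    rfl
  unfold Good
  rw [← he]
  exact GoodO.comp hq ĥ

lemma good_of_cover {T₀ : Scheme.{u}} (q : T₀ ⟶ (U ⊗ T).left) (R₀ : Presieve T₀)
    (hR₀ : R₀ ∈ Scheme.fpqcPrecoverage T₀)
    (h : ∀ ⦃T₁ : Scheme.{u}⦄ (f : T₁ ⟶ T₀), R₀ f → Good s t σ (f ≫ q)) : Good s t σ q := by
  unfold Good
  refine goodO_of_sieve _ ((Sieve.overEquiv (Over.mk (q ≫ (U ⊗ T).hom))).symm (Sieve.generate R₀))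
    (GrothendieckTopology.overEquiv_symm_mem_over _ _ _
      (Precoverage.generate_mem_toGrothendieck hR₀)) ?_
  intro W f hf
  rw [Sieve.overEquiv_symm_iff] at hf
  obtain ⟨T₁, a, h₁, hh₁, hfac⟩ := hf
  have hg := h h₁ hh₁
  let â : W ⟶ Over.mk ((h₁ ≫ q) ≫ (U ⊗ T).hom) := Over.homMk a (by
    have := Over.w f
    change a ≫ (h₁ ≫ q) ≫ (U ⊗ T).hom = W.hom
    rw [← this, ← hfac]
    simp)
  have he : â ≫ (Over.homMk (h₁ ≫ q) : Over.mk ((h₁ ≫ q) ≫ (U ⊗ T).hom) ⟶ U ⊗ T) =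
      f ≫ (Over.homMk q : Over.mk (q ≫ (U ⊗ T).hom) ⟶ U ⊗ T) := by
    apply Over.OverMorphism.ext
    change a ≫ h₁ ≫ q = f.left ≫ q
    rw [← hfac, Category.assoc]
  rw [← he]
  exact GoodO.comp hg â

section Local

variable [IsEquivalenceRelation s t]

/-- the map `V ⟶ U × U` with components the `U`-component of `g` and a lift `x` of `σ`. -/
noncomputable def cmap {V : Scheme.{u}} (g : V ⟶ (U ⊗ T).left)
    (x : Over.mk (g ≫ (U ⊗ T).hom) ⟶ U) : Over.mk (g ≫ (U ⊗ T).hom) ⟶ U ⊗ U :=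
  lift ((Over.homMk g : Over.mk (g ≫ (U ⊗ T).hom) ⟶ U ⊗ T) ≫ fst U T) x

variable (s t) in
/-- the local closed subscheme of `V`. -/
noncomputable abbrev Zloc {V : Scheme.{u}} (g : V ⟶ (U ⊗ T).left)
    (x : Over.mk (g ≫ (U ⊗ T).hom) ⟶ U) : Scheme.{u} :=
  pullback (lift t s).left (cmap g x).left

variable (s t) in
/-- the inclusion of the local closed subscheme. -/
noncomputable abbrev ιloc {V : Scheme.{u}} (g : V ⟶ (U ⊗ T).left)
    (x : Over.mk (g ≫ (U ⊗ T).hom) ⟶ U) : Zloc s t g x ⟶ V :=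
  pullback.snd (lift t s).left (cmap g x).left

theorem lifts_iff {V : Scheme.{u}} (g : V ⟶ (U ⊗ T).left) (x : Over.mk (g ≫ (U ⊗ T).hom) ⟶ U)
    (hx : IsLift s t σ ((Over.homMk g : Over.mk (g ≫ (U ⊗ T).hom) ⟶ U ⊗ T) ≫ snd U T) x)
    {T₀ : Scheme.{u}} (y : T₀ ⟶ V) :
    (∃ v : T₀ ⟶ Zloc s t g x, v ≫ ιloc s t g x = y) ↔ Good s t σ (y ≫ g) := by
  let ŷ : Over.mk ((y ≫ g) ≫ (U ⊗ T).hom) ⟶ Over.mk (g ≫ (U ⊗ T).hom) := Over.homMk y (by simp)
  have he : ŷ ≫ (Over.homMk g : Over.mk (g ≫ (U ⊗ T).hom) ⟶ U ⊗ T) =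
      (Over.homMk (y ≫ g) : Over.mk ((y ≫ g) ≫ (U ⊗ T).hom) ⟶ U ⊗ T) := by
    apply Over.OverMorphism.ext
    rfl
  have hx' : IsLift s t σ ((ŷ ≫ (Over.homMk g : Over.mk (g ≫ (U ⊗ T).hom) ⟶ U ⊗ T)) ≫ snd U T)
      (ŷ ≫ x) := by
    have := hx.comp ŷ
    rwa [← Category.assoc] at this
  unfold Good GoodO
  rw [← he]
  constructor
  · rintro ⟨v, hv⟩
    let ρ₀ : T₀ ⟶ R.left := v ≫ pullback.fst (lift t s).left (cmap g x).left
    have hρ₀ : ρ₀ ≫ (lift t s).left = y ≫ (cmap g x).left := by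
      rw [Category.assoc, pullback.condition, ← Category.assoc, hv]
    let ρ : Over.mk ((y ≫ g) ≫ (U ⊗ T).hom) ⟶ R := Over.homMk ρ₀ (by
      have e1 : ρ₀ ≫ R.hom = ρ₀ ≫ (lift t s).left ≫ (U ⊗ U).hom := by rw [Over.w (lift t s)]
      have e2 : (cmap g x).left ≫ (U ⊗ U).hom = g ≫ (U ⊗ T).hom := Over.w (cmap g x)
      change ρ₀ ≫ R.hom = (y ≫ g) ≫ (U ⊗ T).hom
      rw [e1, reassoc_of% hρ₀, e2, Category.assoc])
    have hρ : ρ ≫ lift t s = ŷ ≫ cmap g x := by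
      apply Over.OverMorphism.ext
      exact hρ₀
    have h1 : ρ ≫ t = (ŷ ≫ (Over.homMk g : Over.mk (g ≫ (U ⊗ T).hom) ⟶ U ⊗ T)) ≫ fst U T := by
      have := congrArg (fun f => f ≫ fst U U) hρ
      simpa [cmap] using this
    have h2 : ρ ≫ s = ŷ ≫ x := by
      have := congrArg (fun f => f ≫ snd U U) hρ
      simpa [cmap] using this
    unfold IsLift at hx' ⊢
    rw [← hx', ← h1, ← h2, Groth.Agent.Lib.Helper9.repMap_comp, Groth.Agent.Lib.Helper9.repMap_comp]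
    calc (QuotSh.repMap 𝕂 ρ ≫ QuotSh.repMap 𝕂 t) ≫ QuotSh.quotπ 𝕂 s t
        = QuotSh.repMap 𝕂 ρ ≫ (QuotSh.repMap 𝕂 t ≫ QuotSh.quotπ 𝕂 s t) := Category.assoc _ _ _
      _ = QuotSh.repMap 𝕂 ρ ≫ (QuotSh.repMap 𝕂 s ≫ QuotSh.quotπ 𝕂 s t) := by
          rw [QuotSh.quot_condition]
      _ = (QuotSh.repMap 𝕂 ρ ≫ QuotSh.repMap 𝕂 s) ≫ QuotSh.quotπ 𝕂 s t :=
          (Category.assoc _ _ _).symm
  · intro hgood
    unfold IsLift at hx' hgood
    obtain ⟨ρ, h2, h1⟩ := exists_rel_of_eq 𝕂 s t (ŷ ≫ x)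
      ((ŷ ≫ (Over.homMk g : Over.mk (g ≫ (U ⊗ T).hom) ⟶ U ⊗ T)) ≫ fst U T) (hx'.trans hgood.symm)
    have hρ : ρ ≫ lift t s = ŷ ≫ cmap g x := by
      apply CartesianMonoidalCategory.hom_ext
      · simp only [Category.assoc, lift_fst, cmap]
        exact h1.trans (Category.assoc _ _ _)
      · simp only [Category.assoc, lift_snd, cmap]
        exact h2
    have hρ₀ : ρ.left ≫ (lift t s).left = y ≫ (cmap g x).left :=
      congrArg (fun f => f.left) hρ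
    exact ⟨pullback.lift ρ.left y hρ₀, pullback.lift_snd _ _ _⟩

end Local

section Construct

variable [IsEquivalenceRelation s t] (hc : IsClosedImmersion (lift t s).left)

include hc in
/-- the closed subscheme of `U × T` representing `Good`. -/
theorem exists_good_rep : ∃ (W : Scheme.{u}) (w : W ⟶ (U ⊗ T).left), IsClosedImmersion w ∧
    ∀ ⦃T₀ : Scheme.{u}⦄ (q : T₀ ⟶ (U ⊗ T).left), (∃ z : T₀ ⟶ W, z ≫ w = q) ↔ Good s t σ q := by
  obtain ⟨𝓡, h𝓡, hl⟩ := exists_lift_locally 𝕂 s t σ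
  have h𝓢 : Sieve.overEquiv (U ⊗ T) (𝓡.pullback (snd U T)) ∈
      Scheme.fpqcTopology (U ⊗ T).left :=
    (GrothendieckTopology.mem_over_iff _ _).mp
      (GrothendieckTopology.pullback_stable _ (snd U T) h𝓡)
  obtain ⟨ι', V, g, hg, hmem⟩ := exists_small_family _ h𝓢
  have hmem' : ∀ i, 𝓡 ((Over.homMk (g i) : Over.mk (g i ≫ (U ⊗ T).hom) ⟶ U ⊗ T) ≫ snd U T) :=
    fun i => (Sieve.overEquiv_iff _ _).mp (hmem i)
  choose x hx using fun i => hl _ (hmem' i)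
  refine Groth.Agent.Lib.Seat19.SubDesc.exists_sub g (fun i => Over.mk (ιloc s t (g i) (x i)))
    (fun T₀ q => Good s t σ q) (fun i T₀ y => lifts_iff (g i) (x i) (hx i) y) hg
    (fun i => ?_) (fun T₀ T₁ q h hq => hq.comp h)
    (fun T₀ q R₀ hR₀ h => good_of_cover q R₀ hR₀ h)
  change IsClosedImmersion (pullback.snd (lift t s).left (cmap (g i) (x i)).left)
  infer_instance

include hc in
/-- existence of the representing closed subscheme. -/
theorem exists_rep : ∃ (Zc : Over S) (ii : Zc ⟶ U ⊗ T), IsClosedImmersion ii.left ∧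
    Rep s t σ ii := by
  obtain ⟨W, w, hw, hkey⟩ := exists_good_rep (σ := σ) hc
  refine ⟨Over.mk (w ≫ (U ⊗ T).hom), Over.homMk w rfl, hw, ?_, ?_⟩
  · have : Mono w := inferInstance
    exact (Over.forget S).mono_of_mono_map (by simpa using this)
  · intro T' p
    change _ ↔ GoodO s t σ p
    rw [← good_iff_goodO, ← hkey]
    constructor
    · rintro ⟨z, rfl⟩
      exact ⟨z.left, rfl⟩
    · rintro ⟨z₀, hz₀⟩
      refine ⟨Over.homMk z₀ ?_, ?_⟩
      · change z₀ ≫ w ≫ (U ⊗ T).hom = T'.hom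
        rw [← Category.assoc, hz₀, Over.w p]
      · apply Over.OverMorphism.ext
        exact hz₀

end Construct

section Unique

variable [IsEquivalenceRelation s t]

/-- characterisation of the points of a stable flat surjective quasi-compact monomorphism
inducing `σ`. -/
theorem rep_of_props {Zc : Over S} (i : Zc ⟶ U ⊗ T) [Mono i.left]
    (hst : ∀ (T' : Over S) (r : T' ⟶ R ⊗ T),
      (∃ z : T' ⟶ Zc, z ≫ i = r ≫ (s ▷ T)) ↔ (∃ z : T' ⟶ Zc, z ≫ i = r ≫ (t ▷ T)))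
    (hflat : Flat (i ≫ snd U T).left) (hsurj : Surjective (i ≫ snd U T).left)
    (hqc : QuasiCompact (i ≫ snd U T).left)
    (h7 : IsLift s t σ (i ≫ snd U T) (i ≫ fst U T)) : Rep s t σ i := by
  have hmono : Mono i := (Over.forget S).mono_of_mono_map (by simpa using ‹Mono i.left›)
  refine ⟨hmono, ?_⟩
  intro T' p
  constructor
  · rintro ⟨z, rfl⟩
    have := h7.comp z
    rwa [← Category.assoc, ← Category.assoc] at this
  · intro hl
    let a := pullback.fst (p ≫ snd U T) (i ≫ snd U T)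
    let z := pullback.snd (p ≫ snd U T) (i ≫ snd U T)
    have hcond : a ≫ p ≫ snd U T = z ≫ i ≫ snd U T := pullback.condition
    have hsq : IsPullback a.left z.left (p ≫ snd U T).left (i ≫ snd U T).left :=
      (IsPullback.of_hasPullback (p ≫ snd U T) (i ≫ snd U T)).map (Over.forget S)
    have ha1 : Surjective a.left := MorphismProperty.of_isPullback (P := @Surjective) hsq.flip hsurj
    have ha2 : Flat a.left := MorphismProperty.of_isPullback (P := @Flat) hsq.flip hflat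
    have ha3 : QuasiCompact a.left :=
      MorphismProperty.of_isPullback (P := @QuasiCompact) hsq.flip hqc
    have l1 := hl.comp a
    have l2 := h7.comp z
    unfold IsLift at l1 l2
    rw [hcond] at l1
    obtain ⟨r, hr1, hr2⟩ := exists_rel_of_eq 𝕂 s t _ _ (l2.trans l1.symm)
    let ρ : pullback (p ≫ snd U T) (i ≫ snd U T) ⟶ R ⊗ T := lift r (z ≫ i ≫ snd U T)
    have e1 : ρ ≫ (s ▷ T) = z ≫ i := by
      apply CartesianMonoidalCategory.hom_ext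
      · rw [Category.assoc, whiskerRight_fst, ← Category.assoc, lift_fst, hr1, Category.assoc]
      · rw [Category.assoc, whiskerRight_snd, lift_snd, Category.assoc]
    have e2 : ρ ≫ (t ▷ T) = a ≫ p := by
      apply CartesianMonoidalCategory.hom_ext
      · rw [Category.assoc, whiskerRight_fst, ← Category.assoc, lift_fst, hr2, Category.assoc]
      · rw [Category.assoc, whiskerRight_snd, lift_snd, Category.assoc, hcond]
    obtain ⟨z', hz'⟩ := (hst _ ρ).mp ⟨z, e1.symm⟩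
    rw [e2] at hz'
    have hz'l : z'.left ≫ i.left = a.left ≫ p.left := congrArg (fun φ => φ.left) hz'
    have hcoh : ∀ {Z₀ : Scheme.{u}} (g₁ g₂ : Z₀ ⟶ (pullback (p ≫ snd U T) (i ≫ snd U T)).left),
        g₁ ≫ a.left = g₂ ≫ a.left → g₁ ≫ z'.left = g₂ ≫ z'.left := by
      intro Z₀ g₁ g₂ h
      rw [← cancel_mono i.left, Category.assoc, Category.assoc, hz'l, ← Category.assoc,
        ← Category.assoc, h]
    let gl : T'.left ⟶ Zc.left := EffectiveEpi.desc a.left z'.left hcoh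
    have hgl : a.left ≫ gl = z'.left := EffectiveEpi.fac a.left z'.left hcoh
    have hgi : gl ≫ i.left = p.left := by
      rw [← cancel_epi a.left, ← Category.assoc, hgl, hz'l]
    refine ⟨Over.homMk gl ?_, ?_⟩
    · rw [← Over.w i, ← Category.assoc, hgi, Over.w p]
    · apply Over.OverMorphism.ext
      exact hgi

/-- two representing monomorphisms are uniquely isomorphic. -/
theorem Rep.unique {Z₁ Z₂ : Over S} {i₁ : Z₁ ⟶ U ⊗ T} {i₂ : Z₂ ⟶ U ⊗ T}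
    (h₁ : Rep s t σ i₁) (h₂ : Rep s t σ i₂) : ∃ e : Z₁ ≅ Z₂, e.hom ≫ i₂ = i₁ := by
  obtain ⟨e₁, he₁⟩ := (h₂.key i₁).mpr (isLift_i h₁)
  obtain ⟨e₂, he₂⟩ := (h₁.key i₂).mpr (isLift_i h₂)
  have hm₁ : Mono i₁ := h₁.mono
  have hm₂ : Mono i₂ := h₂.mono
  refine ⟨⟨e₁, e₂, ?_, ?_⟩, he₁⟩
  · rw [← cancel_mono i₁, Category.assoc, he₂, he₁, Category.id_comp]
  · rw [← cancel_mono i₂, Category.assoc, he₁, he₂, Category.id_comp]

end Unique

section Main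

/-- **Points of the fpqc quotient by an equivalence relation with closed graph** (S6042). -/
theorem main {R U : Over S} (s t : R ⟶ U)
    [IsEquivalenceRelation s t]
    [Flat s.left] [Surjective s.left] [QuasiCompact s.left]
    (hc : IsClosedImmersion (lift t s).left)
    (T : Over S) (σ : QuotSh.rep 𝕂 T ⟶ QuotSh.quot 𝕂 s t) :
    (∃ (Z : Over S) (i : Z ⟶ U ⊗ T), IsClosedImmersion i.left ∧
      (∀ (T' : Over S) (r : T' ⟶ R ⊗ T),
        (∃ z : T' ⟶ Z, z ≫ i = r ≫ (s ▷ T)) ↔ (∃ z : T' ⟶ Z, z ≫ i = r ≫ (t ▷ T))) ∧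
      Flat (i ≫ snd U T).left ∧ Surjective (i ≫ snd U T).left ∧
      QuasiCompact (i ≫ snd U T).left ∧
      (∀ (T' : Over S) (z₁ z₂ : T' ⟶ Z), z₁ ≫ i ≫ snd U T = z₂ ≫ i ≫ snd U T →
        ∃ r : T' ⟶ R, r ≫ s = z₁ ≫ i ≫ fst U T ∧ r ≫ t = z₂ ≫ i ≫ fst U T) ∧
      QuotSh.repMap 𝕂 (i ≫ fst U T) ≫ QuotSh.quotπ 𝕂 s t =
        QuotSh.repMap 𝕂 (i ≫ snd U T) ≫ σ) ∧
    (∀ (Z Z' : Over S) (i : Z ⟶ U ⊗ T) (i' : Z' ⟶ U ⊗ T),
      IsClosedImmersion i.left → IsClosedImmersion i'.left →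
      (∀ (T' : Over S) (r : T' ⟶ R ⊗ T),
        (∃ z : T' ⟶ Z, z ≫ i = r ≫ (s ▷ T)) ↔ (∃ z : T' ⟶ Z, z ≫ i = r ≫ (t ▷ T))) →
      (∀ (T' : Over S) (r : T' ⟶ R ⊗ T),
        (∃ z : T' ⟶ Z', z ≫ i' = r ≫ (s ▷ T)) ↔ (∃ z : T' ⟶ Z', z ≫ i' = r ≫ (t ▷ T))) →
      Flat (i ≫ snd U T).left → Surjective (i ≫ snd U T).left →
      QuasiCompact (i ≫ snd U T).left →
      Flat (i' ≫ snd U T).left → Surjective (i' ≫ snd U T).left →
      QuasiCompact (i' ≫ snd U T).left →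
      (∀ (T' : Over S) (z₁ z₂ : T' ⟶ Z), z₁ ≫ i ≫ snd U T = z₂ ≫ i ≫ snd U T →
        ∃ r : T' ⟶ R, r ≫ s = z₁ ≫ i ≫ fst U T ∧ r ≫ t = z₂ ≫ i ≫ fst U T) →
      (∀ (T' : Over S) (z₁ z₂ : T' ⟶ Z'), z₁ ≫ i' ≫ snd U T = z₂ ≫ i' ≫ snd U T →
        ∃ r : T' ⟶ R, r ≫ s = z₁ ≫ i' ≫ fst U T ∧ r ≫ t = z₂ ≫ i' ≫ fst U T) →
      QuotSh.repMap 𝕂 (i ≫ fst U T) ≫ QuotSh.quotπ 𝕂 s t =
        QuotSh.repMap 𝕂 (i ≫ snd U T) ≫ σ →
      QuotSh.repMap 𝕂 (i' ≫ fst U T) ≫ QuotSh.quotπ 𝕂 s t =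
        QuotSh.repMap 𝕂 (i' ≫ snd U T) ≫ σ →
      ∃ e : Z ≅ Z', e.hom ≫ i' = i) := by
  refine ⟨?_, ?_⟩
  · obtain ⟨Zc, ii, hci, hZ⟩ := exists_rep (σ := σ) hc
    exact ⟨Zc, ii, hci, stable hZ, flat_i_snd hZ, surjective_i_snd hZ, quasiCompact_i_snd hZ,
      exact hZ, isLift_i hZ⟩
  · intro Z Z' i i' hi hi' hst hst' hf hs hq hf' hs' hq' _ _ h7 h7'
    have hm : Mono i.left := inferInstance
    have hm' : Mono i'.left := inferInstance
    exact Rep.unique (rep_of_props i hst hf hs hq h7) (rep_of_props i' hst' hf' hs' hq' h7')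

end Main

end Groth.Agent.Lib.Seat19.ClosedGraph
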