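import Mathlib
import Groth.Prelude.Def_QuotSh
import Groth.Agent.Lib.Seat19ClosedGraph
import Groth.Agent.Lib.Helper9QuotSh
import Groth.Agent.Lib.Helper12QuotSh

/-!
# The fppf quotient by an equivalence relation with closed graph is an fpqc sheaf (seat 19)
-/

set_option autoImplicit false
universe u

open CategoryTheory Limits AlgebraicGeometry Opposite MonoidalCategory CartesianMonoidalCategory
open Groth.Agent.Lib.Seat19.QuotPts Groth.Agent.Lib.Seat19.OpenGraph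
open Groth.Agent.Lib.Seat19.GraphPts

namespace Groth.Agent.Lib.Seat19.FppfFpqc

variable {S : Scheme.{u}}

local notation "𝕂" => Scheme.fpqcPrecoverage
local notation "𝕃" => Scheme.fppfPrecoverage

section Sec

variable (K : Precoverage Scheme.{u})

/-- every section of a sheaf over `V` is given by a map from `h_V`. -/
theorem exists_hom_of_sec {V : Over S} (G : QuotSh.Sh K S) (ξ : G.obj.obj (op V)) :
    ∃ a : QuotSh.rep K V ⟶ G, secOf K a = ξ := by
  let ψ : pre V ⟶ G.obj :=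
    { app := fun W => ↾(fun x : ULift.{u + 1} (W.unop ⟶ V) => G.obj.map x.down.op ξ)
      naturality := by
        intro W W' g
        ext x
        change G.obj.map (g.unop ≫ x.down).op ξ = G.obj.map g (G.obj.map x.down.op ξ)
        rw [op_comp, Functor.map_comp]
        rfl }
  refine ⟨⟨sheafifyLift (QuotSh.J K S) ψ G.property⟩, ?_⟩
  have h1 : η K V ≫ sheafifyLift (QuotSh.J K S) ψ G.property = ψ :=
    toSheafify_sheafifyLift _ _ _
  have h2 := congrArg (fun φ => φ.app (op V) (⟨𝟙 V⟩ : ULift.{u + 1} (V ⟶ V))) h1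
  unfold secOf ev
  refine h2.trans ?_
  change G.obj.map (𝟙 V).op ξ = ξ
  rw [op_id, G.obj.map_id]
  rfl

end Sec

section PropDesc

variable {R U : Over S} {s t : R ⟶ U} {T : Over S}
  {σ : QuotSh.rep 𝕂 T ⟶ QuotSh.quot 𝕂 s t} [IsEquivalenceRelation s t]

/-- a property of `t` which descends along fpqc coverings holds for `Z ⟶ T`. -/
theorem prop_i_snd (P : MorphismProperty Scheme.{u}) [IsZariskiLocalAtTarget P]
    [P.IsStableUnderBaseChange]
    (hP : P.DescendsAlong (@Surjective ⊓ @Flat ⊓ @QuasiCompact : MorphismProperty Scheme.{u}))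
    (ht : P t.left) {Zc : Over S} {ii : Zc ⟶ U ⊗ T} (hZ : Rep s t σ ii) :
    P (ii ≫ snd U T).left := by
  obtain ⟨𝓡, h𝓡, hl⟩ := exists_lift_locally 𝕂 s t σ
  have h1 := (GrothendieckTopology.mem_over_iff _ _).mp h𝓡
  rw [Precoverage.mem_toGrothendieck_iff_of_isStableUnderComposition] at h1
  obtain ⟨Q, hQ, hle⟩ := h1
  refine Groth.Agent.Lib.Helper12.of_mem_fpqcPrecoverage hP _ Q hQ ?_
  intro W' f' hf'
  have hf'' := (Sieve.overEquiv_iff _ _).mp (hle _ f' hf')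
  obtain ⟨x, hx⟩ := hl _ hf''
  obtain ⟨ζ, hpb⟩ := exists_isPullback hZ (Over.homMk f' : Over.mk (f' ≫ T.hom) ⟶ T) x hx
  have hpb' : IsPullback ζ.left (pullback.snd t x).left (ii ≫ snd U T).left f' :=
    hpb.map (Over.forget S)
  have hpbt : IsPullback (pullback.fst t x).left (pullback.snd t x).left t.left x.left :=
    (IsPullback.of_hasPullback t x).map (Over.forget S)
  have h2 : P (pullback.snd t x).left := P.of_isPullback hpbt ht
  rw [← hpb'.isoPullback_inv_snd]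
  exact (P.cancel_left_of_respectsIso _ _).mpr h2

lemma lfp_t [LocallyOfFinitePresentation s.left] : LocallyOfFinitePresentation t.left := by
  obtain ⟨e, h1, -⟩ := exists_sym s t
  have : IsIso e.hom.left := (inferInstance : IsIso ((Over.forget S).mapIso e).hom)
  rw [← h1, Over.comp_left]
  infer_instance

theorem lfp_i_snd [LocallyOfFinitePresentation s.left] {Zc : Over S} {ii : Zc ⟶ U ⊗ T}
    (hZ : Rep s t σ ii) : LocallyOfFinitePresentation (ii ≫ snd U T).left := by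
  have : IsZariskiLocalAtTarget @LocallyOfFinitePresentation.{u} :=
    HasRingHomProperty.instIsZariskiLocalAtTarget (P := @LocallyOfFinitePresentation)
      (Q := RingHom.FinitePresentation)
  exact prop_i_snd @LocallyOfFinitePresentation inferInstance (lfp_t (s := s) (t := t)) hZ

end PropDesc

section Compare

variable {R U : Over S} (s t : R ⟶ U)

lemma J_le : QuotSh.J 𝕃 S ≤ QuotSh.J 𝕂 S := by
  intro Y 𝓢 h
  rw [GrothendieckTopology.mem_over_iff] at h ⊢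
  exact Scheme.fppfTopology_le_fpqcTopology _ h

/-- the fpqc quotient sheaf, as an fppf sheaf. -/
noncomputable def G : QuotSh.Sh 𝕃 S :=
  ⟨(QuotSh.quot 𝕂 s t).obj, (isSheaf_iff_isSheaf_of_type _ _).mpr
    (Presieve.isSheaf_of_le _ J_le ((isSheaf_iff_isSheaf_of_type _ _).mp
      (QuotSh.quot 𝕂 s t).property))⟩

/-- the map `h_U ⟶ U/R` (fpqc quotient) of fppf sheaves. -/
noncomputable def a : QuotSh.rep 𝕃 U ⟶ G s t :=
  ⟨sheafifyLift (QuotSh.J 𝕃 S) (η 𝕂 U ≫ (QuotSh.quotπ 𝕂 s t).hom) (G s t).property⟩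

lemma η_a : η 𝕃 U ≫ (a s t).hom = η 𝕂 U ≫ (QuotSh.quotπ 𝕂 s t).hom :=
  toSheafify_sheafifyLift _ _ _

lemma a_condition : QuotSh.repMap 𝕃 s ≫ a s t = QuotSh.repMap 𝕃 t ≫ a s t := by
  apply Sheaf.hom_ext
  apply sheafify_hom_ext _ _ _ (G s t).property
  have e1 : ∀ g : R ⟶ U, η 𝕃 R ≫ (QuotSh.repMap 𝕃 g ≫ a s t).hom =
      preMap g ≫ η 𝕂 U ≫ (QuotSh.quotπ 𝕂 s t).hom := by
    intro g
    have h1 : preMap g ≫ η 𝕃 U = η 𝕃 R ≫ (QuotSh.repMap 𝕃 g).hom :=
      toSheafify_naturality (QuotSh.J 𝕃 S) (preMap g)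
    change η 𝕃 R ≫ (QuotSh.repMap 𝕃 g).hom ≫ (a s t).hom = _
    exact ((Category.assoc _ _ _).symm.trans (congrArg (· ≫ (a s t).hom) h1.symm)).trans
      ((Category.assoc _ _ _).trans (congrArg (preMap g ≫ ·) (η_a s t)))
  have h2 : ∀ g : R ⟶ U, preMap g ≫ η 𝕂 U = η 𝕂 R ≫ (QuotSh.repMap 𝕂 g).hom :=
    fun g => toSheafify_naturality (QuotSh.J 𝕂 S) (preMap g)
  refine (e1 s).trans (Eq.trans ?_ (e1 t).symm)
  rw [← Category.assoc, h2 s, ← Category.assoc, h2 t, Category.assoc, Category.assoc]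
  congr 1
  exact congrArg (fun φ => φ.hom) (QuotSh.quot_condition 𝕂 s t)

/-- the comparison map from the fppf quotient to the fpqc quotient. -/
noncomputable def c' : QuotSh.quot 𝕃 s t ⟶ G s t :=
  coequalizer.desc (a s t) (a_condition s t)

lemma π_c' : QuotSh.quotπ 𝕃 s t ≫ c' s t = a s t := coequalizer.π_desc _ _

lemma c'_cls {W : Over S} (x : W ⟶ U) :
    (c' s t).hom.app (op W) (ev 𝕃 (QuotSh.quotπ 𝕃 s t) x) = ev 𝕂 (QuotSh.quotπ 𝕂 s t) x := by
  have h1 : (c' s t).hom.app (op W) (ev 𝕃 (QuotSh.quotπ 𝕃 s t) x) =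
      ev 𝕃 (QuotSh.quotπ 𝕃 s t ≫ c' s t) x := rfl
  rw [h1, π_c']
  have h2 := congrArg (fun φ => φ.app (op W) (⟨x⟩ : ULift.{u + 1} (W ⟶ U))) (η_a s t)
  exact h2

lemma c'_natural {T W : Over S} (f : W ⟶ T) (ξ : (QuotSh.quot 𝕃 s t).obj.obj (op T)) :
    (c' s t).hom.app (op W) ((QuotSh.quot 𝕃 s t).obj.map f.op ξ) =
      (QuotSh.quot 𝕂 s t).obj.map f.op ((c' s t).hom.app (op T) ξ) :=
  ConcreteCategory.congr_hom ((c' s t).hom.naturality f.op) ξ

lemma secOf_cls (K : Precoverage Scheme.{u}) {W : Over S} (y : W ⟶ U) :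
    secOf K (QuotSh.repMap K y ≫ QuotSh.quotπ K s t) = ev K (QuotSh.quotπ K s t) y := by
  unfold secOf
  rw [ev_comp, Category.id_comp]

variable [IsEquivalenceRelation s t]

theorem c'_injective (T : Over S) : Function.Injective ((c' s t).hom.app (op T)) := by
  intro ξ ξ' h
  obtain ⟨σ, rfl⟩ := exists_hom_of_sec 𝕃 (QuotSh.quot 𝕃 s t) ξ
  obtain ⟨σ', rfl⟩ := exists_hom_of_sec 𝕃 (QuotSh.quot 𝕃 s t) ξ'
  congr 1
  obtain ⟨𝓡₁, h𝓡₁, hl₁⟩ := exists_lift_locally 𝕃 s t σ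
  obtain ⟨𝓡₂, h𝓡₂, hl₂⟩ := exists_lift_locally 𝕃 s t σ'
  refine hom_ext_of_cover 𝕃 σ σ' (𝓡₁ ⊓ 𝓡₂)
    ((QuotSh.J 𝕃 S).intersection_covering h𝓡₁ h𝓡₂) ?_
  intro W f hf
  obtain ⟨x, hx⟩ := hl₁ f hf.1
  obtain ⟨x', hx'⟩ := hl₂ f hf.2
  rw [← hx, ← hx']
  have hcls : ∀ (y : W ⟶ U) (τ : QuotSh.rep 𝕃 T ⟶ QuotSh.quot 𝕃 s t),
      QuotSh.repMap 𝕃 y ≫ QuotSh.quotπ 𝕃 s t = QuotSh.repMap 𝕃 f ≫ τ →
      ev 𝕂 (QuotSh.quotπ 𝕂 s t) y =
        (QuotSh.quot 𝕂 s t).obj.map f.op ((c' s t).hom.app (op T) (secOf 𝕃 τ)) := by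
    intro y τ hy
    rw [← c'_cls, ← secOf_cls, hy, secOf_comp, c'_natural]
  have hk : QuotSh.repMap 𝕂 x ≫ QuotSh.quotπ 𝕂 s t = QuotSh.repMap 𝕂 x' ≫ QuotSh.quotπ 𝕂 s t := by
    apply secOf_injective
    rw [secOf_cls, secOf_cls, hcls x σ hx, hcls x' σ' hx', h]
  obtain ⟨r, hr1, hr2⟩ := exists_rel_of_eq 𝕂 s t x x' hk
  rw [← hr1, ← hr2, Groth.Agent.Lib.Helper9.repMap_comp, Groth.Agent.Lib.Helper9.repMap_comp,
    Category.assoc, Category.assoc, QuotSh.quot_condition]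

theorem c'_surjective [Flat s.left] [Surjective s.left] [LocallyOfFinitePresentation s.left]
    (hc : IsClosedImmersion (lift t s).left) (T : Over S) :
    Function.Surjective ((c' s t).hom.app (op T)) := by
  intro ζ
  obtain ⟨σ, rfl⟩ := exists_hom_of_sec 𝕂 (QuotSh.quot 𝕂 s t) ζ
  obtain ⟨Zc, ii, hci, hZ⟩ := Groth.Agent.Lib.Seat19.ClosedGraph.exists_rep (σ := σ) hc
  have hfl : Flat (ii ≫ snd U T).left := flat_i_snd hZ
  have hsu : Surjective (ii ≫ snd U T).left := surjective_i_snd hZ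
  have hlfp : LocallyOfFinitePresentation (ii ≫ snd U T).left := lfp_i_snd hZ
  obtain ⟨σ', hσ', -⟩ := Groth.Agent.Lib.Helper9.existsUnique_quotSection s t (ii ≫ fst U T)
    (ii ≫ snd U T) (fun T' z₁ z₂ h => by
      obtain ⟨r, h1, h2⟩ := GraphPts.exact hZ T' z₁ z₂ (by simpa using h)
      exact ⟨r, by simpa using h1, by simpa using h2⟩)
  refine ⟨secOf 𝕃 σ', ?_⟩
  obtain ⟨σ₁, hσ₁⟩ := exists_hom_of_sec 𝕂 (QuotSh.quot 𝕂 s t)
    ((c' s t).hom.app (op T) (secOf 𝕃 σ'))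
  refine hσ₁.symm.trans ?_
  congr 1
  have hmem : Presieve.singleton (ii ≫ snd U T).left ∈ 𝕂 T.left :=
    Scheme.fppfPrecoverage_le_fpqcPrecoverage _ (Scheme.Hom.singleton_mem_fppfPrecoverage _)
  have hepi : Epi (QuotSh.repMap 𝕂 (ii ≫ snd U T)) :=
    Groth.Agent.Lib.Helper12.QuotShLib.epi_repMap_of_singleton_mem 𝕂 _ hmem
  rw [← cancel_epi (QuotSh.repMap 𝕂 (ii ≫ snd U T))]
  apply secOf_injective
  have h7 : QuotSh.repMap 𝕂 (ii ≫ fst U T) ≫ QuotSh.quotπ 𝕂 s t =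
      QuotSh.repMap 𝕂 (ii ≫ snd U T) ≫ σ := isLift_i hZ
  rw [secOf_comp, hσ₁, ← h7, secOf_cls, ← c'_cls, ← secOf_cls, hσ', secOf_comp, c'_natural]

/-- **the fppf quotient by an equivalence relation with closed graph is an fpqc sheaf** (S6043). -/
theorem isSheaf [Flat s.left] [Surjective s.left] [LocallyOfFinitePresentation s.left]
    (hc : IsClosedImmersion (lift t s).left) :
    Presheaf.IsSheaf (QuotSh.J 𝕂 S) (QuotSh.quot 𝕃 s t).obj := by
  have hiso : IsIso (c' s t).hom := by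
    rw [NatTrans.isIso_iff_isIso_app]
    intro W
    rw [isIso_iff_bijective]
    exact ⟨c'_injective s t W.unop, c'_surjective s t hc W.unop⟩
  exact (Presheaf.isSheaf_of_iso_iff (asIso (c' s t).hom)).mpr (QuotSh.quot 𝕂 s t).property

end Compare

end Groth.Agent.Lib.Seat19.FppfFpqc
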