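import Mathlib
import Groth.Prelude.Def_QuotSh
import Groth.Prelude.Def_DescFam
import Groth.Agent.Lib.Seat19FppfFpqc
import Groth.Agent.Lib.Helper9QuotSh
import Groth.Agent.Lib.Helper9ShfGrp
import Groth.Agent.Lib.Helper12QuotSh
import Groth.Agent.Lib.Helper12AffineDescent
import Groth.Agent.S9858
import Groth.Agent.S1133

/-!
# An fppf sheaf which is fppf-locally representable by a relatively affine scheme is representable (seat 19)
-/

set_option autoImplicit false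
universe u

open CategoryTheory Limits AlgebraicGeometry Opposite
open Groth.Agent.Lib.Seat19.QuotPts Groth.Agent.Lib.Seat19.FppfFpqc
open Groth.Agent.Lib.Helper9 Groth.Agent.Lib.Helper12.QuotShLib

namespace Groth.Agent.Lib.Seat19.LocAff

local notation "𝕃" => Scheme.fppfPrecoverage

section General

variable (K : Precoverage Scheme.{u}) {S : Scheme.{u}}

/-- maps out of a sheaf are determined on representables. -/
theorem hom_ext_rep {F G : QuotSh.Sh K S} (f g : F ⟶ G)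
    (h : ∀ (W : Over S) (b : QuotSh.rep K W ⟶ F), b ≫ f = b ≫ g) : f = g := by
  apply Sheaf.hom_ext
  ext W w
  obtain ⟨b, hb⟩ := exists_hom_of_sec K F (V := W.unop) w
  have h1 := congrArg (secOf K) (h W.unop b)
  have h2 : f.hom.app (op W.unop) (secOf K b) = g.hom.app (op W.unop) (secOf K b) := h1
  rw [hb] at h2
  exact h2

/-- affine descent data relative to an fpqc covering family are effective. -/
theorem affine_effective {ι : Type u} {X : ι → Scheme.{u}}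
    (f : ∀ i, X i ⟶ S) (hf : Presieve.ofArrows X f ∈ Scheme.fpqcPrecoverage S)
    (D : Desc.SchDDFam f) (hD : ∀ i, IsAffineHom (D.obj i).hom) : D.IsEffective := by
  have h3 : ∀ (X S : Scheme.{u}) (p : X ⟶ S), IsAffine X → IsAffine S → Flat p → Surjective p →
      ∀ D : Desc.SchDD p, IsAffineHom D.obj.hom →
        ∃ U : Over S, Nonempty ((Desc.toDD p).obj U ≅ D) := by
    intro X S p hX hS hp _ D hD
    have : IsAffine D.obj.left := isAffine_of_isAffineHom D.obj.hom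
    exact Groth.Agent.Lib.Seat58.DescAffine.exists_iso_toDD D
  exact Groth.Agent.S9858.result @IsAffineHom Groth.Agent.S1133.isAffineHom_sigmaMap h3 f hf D hD

end General

section Main

variable {S S' : Scheme.{u}} (f : S' ⟶ S)
  (Z : QuotSh.Sh 𝕃 S) (T' : Over S) (a : T' ⟶ Over.mk f)
  (φ : QuotSh.rep 𝕃 T' ≅ Z ⨯ QuotSh.rep 𝕃 (Over.mk f))
  (hφ : φ.hom ≫ prod.snd = QuotSh.repMap 𝕃 a)

/-- the point of `T'` with class `ζ` lying over `x`. -/
noncomputable def pt {W : Over S} (ζ : QuotSh.rep 𝕃 W ⟶ Z) (x : W ⟶ Over.mk f) : W ⟶ T' :=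
  (repFunctorFullyFaithful 𝕃).preimage (prod.lift ζ (QuotSh.repMap 𝕃 x) ≫ φ.inv)

lemma repMap_pt {W : Over S} (ζ : QuotSh.rep 𝕃 W ⟶ Z) (x : W ⟶ Over.mk f) :
    QuotSh.repMap 𝕃 (pt f Z T' φ ζ x) = prod.lift ζ (QuotSh.repMap 𝕃 x) ≫ φ.inv :=
  (repFunctorFullyFaithful 𝕃).map_preimage _

lemma repMap_injective {V W : Over S} (g₁ g₂ : V ⟶ W)
    (h : QuotSh.repMap 𝕃 g₁ = QuotSh.repMap 𝕃 g₂) : g₁ = g₂ :=
  (repFunctorFullyFaithful 𝕃).map_injective h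

/-- the class in `Z` of a point of `T'`. -/
noncomputable def cls {W : Over S} (v : W ⟶ T') : QuotSh.rep 𝕃 W ⟶ Z :=
  QuotSh.repMap 𝕃 v ≫ φ.hom ≫ prod.fst

include hφ in
lemma pt_a {W : Over S} (ζ : QuotSh.rep 𝕃 W ⟶ Z) (x : W ⟶ Over.mk f) :
    pt f Z T' φ ζ x ≫ a = x := by
  apply repMap_injective
  rw [repMap_comp, repMap_pt, ← hφ, Category.assoc, Iso.inv_hom_id_assoc, prod.lift_snd]

lemma cls_pt {W : Over S} (ζ : QuotSh.rep 𝕃 W ⟶ Z) (x : W ⟶ Over.mk f) :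
    cls f Z T' φ (pt f Z T' φ ζ x) = ζ := by
  unfold cls
  rw [repMap_pt, Category.assoc, Iso.inv_hom_id_assoc, prod.lift_fst]

include hφ in
lemma pt_cls {W : Over S} (v : W ⟶ T') : pt f Z T' φ (cls f Z T' φ v) (v ≫ a) = v := by
  apply repMap_injective
  rw [repMap_pt]
  have h1 : prod.lift (cls f Z T' φ v) (QuotSh.repMap 𝕃 (v ≫ a)) = QuotSh.repMap 𝕃 v ≫ φ.hom := by
    apply Limits.prod.hom_ext
    · rw [prod.lift_fst, Category.assoc]
      rfl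
    · rw [prod.lift_snd, Category.assoc, hφ, repMap_comp]
  rw [h1, Category.assoc, Iso.hom_inv_id, Category.comp_id]

lemma cls_comp {W W' : Over S} (g : W' ⟶ W) (v : W ⟶ T') :
    cls f Z T' φ (g ≫ v) = QuotSh.repMap 𝕃 g ≫ cls f Z T' φ v := by
  unfold cls
  rw [repMap_comp, Category.assoc]

lemma pt_comp {W W' : Over S} (g : W' ⟶ W) (ζ : QuotSh.rep 𝕃 W ⟶ Z) (x : W ⟶ Over.mk f) :
    pt f Z T' φ (QuotSh.repMap 𝕃 g ≫ ζ) (g ≫ x) = g ≫ pt f Z T' φ ζ x := by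
  apply repMap_injective
  rw [repMap_pt, repMap_comp 𝕃 g (pt f Z T' φ ζ x), repMap_pt, ← Category.assoc]
  congr 1
  apply Limits.prod.hom_ext
  · rw [prod.lift_fst, Category.assoc, prod.lift_fst]
  · rw [prod.lift_snd, Category.assoc, prod.lift_snd, repMap_comp]

end Main

section DD

variable {S S' : Scheme.{u}} {f : S' ⟶ S}
  {Z : QuotSh.Sh 𝕃 S} {T' : Over S} {a : T' ⟶ Over.mk f}
  {φ : QuotSh.rep 𝕃 T' ≅ Z ⨯ QuotSh.rep 𝕃 (Over.mk f)}
  (hφ : φ.hom ≫ prod.snd = QuotSh.repMap 𝕃 a)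

/-- a scheme-level lift as a morphism over `S`. -/
def vh {T₀ : Scheme.{u}} (m : T₀ ⟶ S) {x : T₀ ⟶ S'} (hx : x ≫ f = m)
    (v : Desc.Lifts (Over.mk a.left : Over S') x) : Over.mk m ⟶ T' :=
  Over.homMk v.1 (by
    have h1 : v.1 ≫ a.left = x := v.2
    have h2 : a.left ≫ f = T'.hom := Over.w a
    change v.1 ≫ T'.hom = m
    rw [← h2, ← Category.assoc, h1, hx])

/-- a scheme-level point of `S'` as a morphism over `S`. -/
def xh {T₀ : Scheme.{u}} (m : T₀ ⟶ S) (x : T₀ ⟶ S') (hx : x ≫ f = m) :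
    Over.mk m ⟶ Over.mk f := Over.homMk x hx

lemma vh_a {T₀ : Scheme.{u}} (m : T₀ ⟶ S) {x : T₀ ⟶ S'} (hx : x ≫ f = m)
    (v : Desc.Lifts (Over.mk a.left : Over S') x) : vh m hx v ≫ a = xh m x hx := by
  apply Over.OverMorphism.ext
  exact v.2

/-- transport of lifts along the sheaf isomorphism. -/
noncomputable def core {T₀ : Scheme.{u}} (m : T₀ ⟶ S) (x₀ x₁ : T₀ ⟶ S') (h₀ : x₀ ≫ f = m)
    (h₁ : x₁ ≫ f = m) (v : Desc.Lifts (Over.mk a.left : Over S') x₀) :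
    Desc.Lifts (Over.mk a.left : Over S') x₁ :=
  ⟨(pt f Z T' φ (cls f Z T' φ (vh m h₀ v)) (xh m x₁ h₁)).left,
    congrArg (fun g => g.left) (pt_a f Z T' a φ hφ (cls f Z T' φ (vh m h₀ v)) (xh m x₁ h₁))⟩

lemma vh_core {T₀ : Scheme.{u}} (m : T₀ ⟶ S) (x₀ x₁ : T₀ ⟶ S') (h₀ : x₀ ≫ f = m)
    (h₁ : x₁ ≫ f = m) (v : Desc.Lifts (Over.mk a.left : Over S') x₀) :
    vh m h₁ (core hφ m x₀ x₁ h₀ h₁ v) = pt f Z T' φ (cls f Z T' φ (vh m h₀ v)) (xh m x₁ h₁) := by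
  apply Over.OverMorphism.ext
  rfl

lemma core_core {T₀ : Scheme.{u}} (m : T₀ ⟶ S) (x₀ x₁ x₂ : T₀ ⟶ S') (h₀ : x₀ ≫ f = m)
    (h₁ : x₁ ≫ f = m) (h₂ : x₂ ≫ f = m) (v : Desc.Lifts (Over.mk a.left : Over S') x₀) :
    core hφ m x₁ x₂ h₁ h₂ (core hφ m x₀ x₁ h₀ h₁ v) = core hφ m x₀ x₂ h₀ h₂ v := by
  apply Subtype.ext
  change (pt f Z T' φ (cls f Z T' φ (vh m h₁ (core hφ m x₀ x₁ h₀ h₁ v))) (xh m x₂ h₂)).left = _
  rw [vh_core, cls_pt]
  rfl

lemma core_self {T₀ : Scheme.{u}} (m : T₀ ⟶ S) (x : T₀ ⟶ S') (h : x ≫ f = m)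
    (v : Desc.Lifts (Over.mk a.left : Over S') x) : core hφ m x x h h v = v := by
  apply Subtype.ext
  change (pt f Z T' φ (cls f Z T' φ (vh m h v)) (xh m x h)).left = _
  rw [← vh_a m h v, pt_cls f Z T' a φ hφ]
  rfl

lemma core_congr {T₀ : Scheme.{u}} {m m' : T₀ ⟶ S} (hm : m = m') (x₀ x₁ : T₀ ⟶ S')
    (h₀ : x₀ ≫ f = m) (h₁ : x₁ ≫ f = m) (h₀' : x₀ ≫ f = m') (h₁' : x₁ ≫ f = m')
    (v : Desc.Lifts (Over.mk a.left : Over S') x₀) :
    core hφ m x₀ x₁ h₀ h₁ v = core hφ m' x₀ x₁ h₀' h₁' v := by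
  subst hm
  rfl

lemma core_natural {T₀ T₀' : Scheme.{u}} (g : T₀' ⟶ T₀) (m : T₀ ⟶ S) (m' : T₀' ⟶ S)
    (hm : g ≫ m = m') (x₀ x₁ : T₀ ⟶ S') (h₀ : x₀ ≫ f = m) (h₁ : x₁ ≫ f = m)
    (h₀' : (g ≫ x₀) ≫ f = m') (h₁' : (g ≫ x₁) ≫ f = m')
    (v : Desc.Lifts (Over.mk a.left : Over S') x₀)
    (v' : Desc.Lifts (Over.mk a.left : Over S') (g ≫ x₀)) (hv' : v'.1 = g ≫ v.1) :
    (core hφ m' (g ≫ x₀) (g ≫ x₁) h₀' h₁' v').1 = g ≫ (core hφ m x₀ x₁ h₀ h₁ v).1 := by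
  subst hm
  let gh : Over.mk (g ≫ m) ⟶ Over.mk m := Over.homMk g rfl
  have e1 : vh (g ≫ m) h₀' v' = gh ≫ vh m h₀ v := by
    apply Over.OverMorphism.ext
    exact hv'
  have e2 : xh (g ≫ m) (g ≫ x₁) h₁' = gh ≫ xh m x₁ h₁ := by
    apply Over.OverMorphism.ext
    rfl
  change (pt f Z T' φ (cls f Z T' φ (vh (g ≫ m) h₀' v')) (xh (g ≫ m) (g ≫ x₁) h₁')).left = _
  rw [e1, e2, cls_comp, pt_comp]
  rfl

/-- the descent datum on `T'` relative to `f` induced by the sheaf isomorphism. -/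
noncomputable def DD : Desc.SchDDFam (fun _ : PUnit.{u + 1} => f) where
  obj _ := Over.mk a.left
  φ T₀ i j x₀ x₁ h :=
    { toFun := core hφ (x₀ ≫ f) x₀ x₁ rfl h.symm
      invFun := core hφ (x₀ ≫ f) x₁ x₀ h.symm rfl
      left_inv := fun v => by rw [core_core, core_self]
      right_inv := fun v => by rw [core_core, core_self] }
  φ_natural T₀ T₀' g i j x₀ x₁ h y₀ y₁ hy₀ hy₁ h' v v' hv' := by
    subst hy₀ hy₁
    exact core_natural hφ g (x₀ ≫ f) ((g ≫ x₀) ≫ f) (Category.assoc _ _ _).symm x₀ x₁ rfl h.symm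
      rfl h'.symm v v' hv'
  φ_self T₀ i x v := core_self hφ _ x rfl v
  φ_comp T₀ i j k x₀ x₁ x₂ h₀₁ h₁₂ v := by
    change core hφ (x₁ ≫ f) x₁ x₂ rfl h₁₂.symm (core hφ (x₀ ≫ f) x₀ x₁ rfl h₀₁.symm v) =
      core hφ (x₀ ≫ f) x₀ x₂ rfl (h₀₁.trans h₁₂).symm v
    rw [core_congr hφ h₀₁.symm x₁ x₂ rfl h₁₂.symm h₀₁.symm (h₀₁.trans h₁₂).symm, core_core]

/-- a map out of `T'` which is invariant under the descent datum does not see the `S'`-component. -/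
lemma pt_b_indep {Y : Scheme.{u}} (b₀ : T'.left ⟶ Y)
    (hb : ∀ ⦃T₀ : Scheme.{u}⦄ (x₀ x₁ : T₀ ⟶ S') (h : x₀ ≫ f = x₁ ≫ f)
      (v : Desc.Lifts (Over.mk a.left : Over S') x₀), ((DD hφ).φ (i := PUnit.unit) (j := PUnit.unit) x₀ x₁ h v).1 ≫ b₀ = v.1 ≫ b₀)
    {W : Over S} (ζ : QuotSh.rep 𝕃 W ⟶ Z) (x₀ x₁ : W ⟶ Over.mk f) :
    (pt f Z T' φ ζ x₁).left ≫ b₀ = (pt f Z T' φ ζ x₀).left ≫ b₀ := by
  let v : Desc.Lifts (Over.mk a.left : Over S') x₀.left :=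
    ⟨(pt f Z T' φ ζ x₀).left, congrArg (fun g => g.left) (pt_a f Z T' a φ hφ ζ x₀)⟩
  have h : x₀.left ≫ f = x₁.left ≫ f := (Over.w x₀).trans (Over.w x₁).symm
  have h1 := hb x₀.left x₁.left h v
  have h2 : ((DD hφ).φ (i := PUnit.unit) (j := PUnit.unit) x₀.left x₁.left h v) =
      core hφ W.hom x₀.left x₁.left (Over.w x₀) (Over.w x₁) v :=
    core_congr hφ (Over.w x₀) x₀.left x₁.left rfl h.symm (Over.w x₀) (Over.w x₁) v
  have h3 : (core hφ W.hom x₀.left x₁.left (Over.w x₀) (Over.w x₁) v).1 =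
      (pt f Z T' φ ζ x₁).left := by
    have e1 : vh W.hom (Over.w x₀) v = pt f Z T' φ ζ x₀ := rfl
    change (pt f Z T' φ (cls f Z T' φ (vh W.hom (Over.w x₀) v))
      (xh W.hom x₁.left (Over.w x₁))).left = _
    rw [e1, cls_pt]
    rfl
  rw [← h3, ← h2]
  exact h1

end DD

section Final

set_option backward.isDefEq.respectTransparency.types false in
lemma isZariskiLocalAtTarget_isAffineHom : IsZariskiLocalAtTarget @IsAffineHom.{u} := inferInstance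

variable {S S' : Scheme.{u}} (f : S' ⟶ S) [Flat f] [Surjective f] [LocallyOfFinitePresentation f]
  (Z : QuotSh.Sh 𝕃 S) (T' : Over S) (a : T' ⟶ Over.mk f) [IsAffineHom a.left]
  (φ : QuotSh.rep 𝕃 T' ≅ Z ⨯ QuotSh.rep 𝕃 (Over.mk f))
  (hφ : φ.hom ≫ prod.snd = QuotSh.repMap 𝕃 a)

include hφ in
/-- **an fppf sheaf which is fppf-locally represented by a relatively affine scheme is
represented by a relatively affine scheme** (S5232). -/
theorem main : ∃ T : Over S, IsAffineHom T.hom ∧ Nonempty (QuotSh.rep 𝕃 T ≅ Z) := by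
  have hsing : Presieve.singleton f ∈ Scheme.fpqcPrecoverage S :=
    Scheme.fppfPrecoverage_le_fpqcPrecoverage _ (Scheme.Hom.singleton_mem_fppfPrecoverage f)
  have hmem : Presieve.ofArrows (fun _ : PUnit.{u + 1} => S') (fun _ => f) ∈
      Scheme.fpqcPrecoverage S := by
    rw [Presieve.ofArrows_pUnit]
    exact hsing
  obtain ⟨T, ⟨e⟩⟩ := affine_effective _ hmem (DD hφ) (fun _ => ‹IsAffineHom a.left›)
  obtain ⟨ε, ε', hεε', hε'ε, hε1, hε2, hcomm⟩ : ∃ (ε : pullback f T.hom ⟶ T'.left)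
      (ε' : T'.left ⟶ pullback f T.hom), ε ≫ ε' = 𝟙 _ ∧ ε' ≫ ε = 𝟙 _ ∧
      ε ≫ a.left = pullback.fst f T.hom ∧ ε' ≫ pullback.fst f T.hom = a.left ∧
      (∀ ⦃T₀ : Scheme.{u}⦄ (x₀ x₁ : T₀ ⟶ S') (h : x₀ ≫ f = x₁ ≫ f)
        (v : Desc.Lifts (Over.mk a.left : Over S') x₀),
        ((DD hφ).φ (i := PUnit.unit) (j := PUnit.unit) x₀ x₁ h v).1 ≫ ε' ≫ pullback.snd f T.hom =
          v.1 ≫ ε' ≫ pullback.snd f T.hom) := by
    refine ⟨(e.hom.hom ⟨⟩).left, (e.inv.hom ⟨⟩).left, ?_, ?_, Over.w (e.hom.hom ⟨⟩),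
      Over.w (e.inv.hom ⟨⟩), ?_⟩
    · have h1 : e.hom.hom ⟨⟩ ≫ e.inv.hom ⟨⟩ = 𝟙 _ := by
        rw [← Desc.SchDDFam.comp_hom, e.hom_inv_id, Desc.SchDDFam.id_hom]
      exact congrArg (fun g => g.left) h1
    · have h1 : e.inv.hom ⟨⟩ ≫ e.hom.hom ⟨⟩ = 𝟙 _ := by
        rw [← Desc.SchDDFam.comp_hom, e.inv_hom_id, Desc.SchDDFam.id_hom]
      exact congrArg (fun g => g.left) h1
    · intro T₀ x₀ x₁ h v
      let ε'₀ : T'.left ⟶ pullback f T.hom := (e.inv.hom ⟨⟩).left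
      have hε'₀ : ε'₀ ≫ pullback.fst f T.hom = a.left := Over.w (e.inv.hom ⟨⟩)
      have hw : (v.1 ≫ ε'₀) ≫ pullback.fst f T.hom = x₀ := by
        rw [Category.assoc, hε'₀]
        exact v.2
      have h1 := e.inv.comm (i := PUnit.unit) (j := PUnit.unit) x₀ x₁ h v ⟨v.1 ≫ ε'₀, hw⟩ rfl
      change ((DD hφ).φ (i := PUnit.unit) (j := PUnit.unit) x₀ x₁ h v).1 ≫ ε'₀ ≫
        pullback.snd f T.hom = v.1 ≫ ε'₀ ≫ pullback.snd f T.hom
      have h2 : (((Desc.toDDFam fun _ : PUnit.{u + 1} => f).obj T).φ (i := PUnit.unit)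
          (j := PUnit.unit) x₀ x₁ h ⟨v.1 ≫ ε'₀, hw⟩).1 ≫ pullback.snd f T.hom =
          (v.1 ≫ ε'₀) ≫ pullback.snd f T.hom := by
        change (Desc.canMapFam (fun _ : PUnit.{u + 1} => f) T (i := PUnit.unit) (j := PUnit.unit)
          x₀ x₁ h ⟨v.1 ≫ ε'₀, hw⟩).1 ≫
          pullback.snd f T.hom = _
        rw [Desc.canMapFam_val, pullback.lift_snd]
      exact (((Category.assoc _ _ _).symm.trans
        (congrArg (· ≫ pullback.snd f T.hom) h1).symm).trans h2).trans (Category.assoc _ _ _)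
  have hisoε : IsIso ε := ⟨ε', hεε', hε'ε⟩
  have hisoε' : IsIso ε' := ⟨ε, hε'ε, hεε'⟩
  have haff : IsAffineHom T.hom := by
    have := isZariskiLocalAtTarget_isAffineHom.{u}
    refine Groth.Agent.Lib.Helper12.of_mem_fpqcPrecoverage
      Groth.Agent.Lib.Helper12.descendsAlong_isAffineHom T.hom (Presieve.singleton f) hsing ?_
    rintro Y' f' ⟨⟩
    have e1 : pullback.snd T.hom f = (pullbackSymmetry T.hom f).hom ≫ ε ≫ a.left := by
      rw [hε1, pullbackSymmetry_hom_comp_fst]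
    rw [e1]
    infer_instance
  let b₀ : T'.left ⟶ T.left := ε' ≫ pullback.snd f T.hom
  have hb₀ : b₀ ≫ T.hom = T'.hom := by
    rw [Category.assoc, ← pullback.condition, ← Category.assoc, hε2]
    exact Over.w a
  let b : T' ⟶ T := Over.homMk b₀ hb₀
  have hK1 : ∀ {W : Over S} (ζ : QuotSh.rep 𝕃 W ⟶ Z) (x₀ x₁ : W ⟶ Over.mk f),
      pt f Z T' φ ζ x₁ ≫ b = pt f Z T' φ ζ x₀ ≫ b := by
    intro W ζ x₀ x₁
    apply Over.OverMorphism.ext
    exact pt_b_indep hφ b₀ (fun T₀ y₀ y₁ h v => hcomm y₀ y₁ h v) ζ x₀ x₁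
  let E := QuotSh.rep 𝕃 (Over.mk f)
  let θ : Z ⨯ E ⟶ QuotSh.rep 𝕃 T := φ.inv ≫ QuotSh.repMap 𝕃 b
  have hT : IsTerminal (QuotSh.rep 𝕃 (Over.mk (𝟙 S))) :=
    IsTerminal.isTerminalObj (repFunctor 𝕃 S) _ Over.mkIdTerminal
  let fS : Over.mk f ⟶ Over.mk (𝟙 S) := Over.homMk f (Category.comp_id _)
  have hepiE : Epi (QuotSh.repMap 𝕃 fS) := by
    have h1 : Flat fS.left := ‹Flat f›
    have h2 : Surjective fS.left := ‹Surjective f›
    have h3 : LocallyOfFinitePresentation fS.left := ‹LocallyOfFinitePresentation f›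
    exact epi_repMap_fppf fS
  have hpb : IsPullback (prod.fst : Z ⨯ E ⟶ Z) prod.snd (hT.from Z) (hT.from E) :=
    IsPullback.of_is_product (limit.isLimit _) hT
  have hE : hT.from E = QuotSh.repMap 𝕃 fS := hT.hom_ext _ _
  have hepi : Epi (prod.fst : Z ⨯ E ⟶ Z) :=
    ToposLike.epi_of_isPullback hpb (by rw [hE]; exact hepiE)
  obtain ⟨θ', hθ'⟩ := ToposLike.exists_desc_of_epi (prod.fst : Z ⨯ E ⟶ Z) hepi θ (by
    intro W a₁ a₂ h12
    apply hom_ext_rep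
    intro W₀ c
    let ζ : QuotSh.rep 𝕃 W₀ ⟶ Z := c ≫ a₁ ≫ prod.fst
    let y₁ : W₀ ⟶ Over.mk f := (repFunctorFullyFaithful 𝕃).preimage (c ≫ a₁ ≫ prod.snd)
    let y₂ : W₀ ⟶ Over.mk f := (repFunctorFullyFaithful 𝕃).preimage (c ≫ a₂ ≫ prod.snd)
    have hy₁ : QuotSh.repMap 𝕃 y₁ = c ≫ a₁ ≫ prod.snd :=
      (repFunctorFullyFaithful 𝕃).map_preimage _
    have hy₂ : QuotSh.repMap 𝕃 y₂ = c ≫ a₂ ≫ prod.snd :=
      (repFunctorFullyFaithful 𝕃).map_preimage _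
    have e1 : c ≫ a₁ = prod.lift ζ (QuotSh.repMap 𝕃 y₁) := by
      apply Limits.prod.hom_ext
      · rw [prod.lift_fst, Category.assoc]
      · rw [prod.lift_snd, Category.assoc, hy₁]
    have e2 : c ≫ a₂ = prod.lift ζ (QuotSh.repMap 𝕃 y₂) := by
      apply Limits.prod.hom_ext
      · rw [prod.lift_fst, Category.assoc, ← h12]
      · rw [prod.lift_snd, Category.assoc, hy₂]
    have e3 : ∀ y : W₀ ⟶ Over.mk f, prod.lift ζ (QuotSh.repMap 𝕃 y) ≫ θ =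
        QuotSh.repMap 𝕃 (pt f Z T' φ ζ y ≫ b) := by
      intro y
      rw [repMap_comp, repMap_pt, Category.assoc]
    calc c ≫ a₁ ≫ θ = (c ≫ a₁) ≫ θ := (Category.assoc _ _ _).symm
      _ = QuotSh.repMap 𝕃 (pt f Z T' φ ζ y₁ ≫ b) := by rw [e1, e3]
      _ = QuotSh.repMap 𝕃 (pt f Z T' φ ζ y₂ ≫ b) := by rw [hK1 ζ y₂ y₁]
      _ = (c ≫ a₂) ≫ θ := by rw [e2, e3]
      _ = c ≫ a₂ ≫ θ := Category.assoc _ _ _)
  have hepib : Epi (QuotSh.repMap 𝕃 b) := by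
    have h1 : Flat b.left := by
      change Flat (ε' ≫ pullback.snd f T.hom)
      infer_instance
    have h2 : Surjective b.left := by
      change Surjective (ε' ≫ pullback.snd f T.hom)
      infer_instance
    have h3 : LocallyOfFinitePresentation b.left := by
      change LocallyOfFinitePresentation (ε' ≫ pullback.snd f T.hom)
      infer_instance
    exact epi_repMap_fppf b
  have hepiθ : Epi θ := by
    change Epi (φ.inv ≫ QuotSh.repMap 𝕃 b)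
    infer_instance
  have hepiθ' : Epi θ' := by
    have : Epi ((prod.fst : Z ⨯ E ⟶ Z) ≫ θ') := by rw [hθ']; exact hepiθ
    exact epi_of_epi (prod.fst : Z ⨯ E ⟶ Z) θ'
  have hmonoθ' : Mono θ' := by
    constructor
    intro W c₁ c₂ h12
    apply hom_ext_rep
    intro W₀ d
    let W₁ : Over S := Over.mk (pullback.fst W₀.hom f ≫ W₀.hom)
    let q : W₁ ⟶ W₀ := Over.homMk (pullback.fst W₀.hom f) rfl
    let x : W₁ ⟶ Over.mk f := Over.homMk (pullback.snd W₀.hom f) pullback.condition.symm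
    have hq : Epi (QuotSh.repMap 𝕃 q) := by
      have h1 : Flat q.left := by
        change Flat (pullback.fst W₀.hom f)
        infer_instance
      have h2 : Surjective q.left := by
        change Surjective (pullback.fst W₀.hom f)
        infer_instance
      have h3 : LocallyOfFinitePresentation q.left := by
        change LocallyOfFinitePresentation (pullback.fst W₀.hom f)
        infer_instance
      exact epi_repMap_fppf q
    rw [← cancel_epi (QuotSh.repMap 𝕃 q)]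
    have hζ : (QuotSh.repMap 𝕃 q ≫ d ≫ c₁) ≫ θ' = (QuotSh.repMap 𝕃 q ≫ d ≫ c₂) ≫ θ' := by
      simp only [Category.assoc, h12]
    have hb : ∀ ζ : QuotSh.rep 𝕃 W₁ ⟶ Z,
        QuotSh.repMap 𝕃 (pt f Z T' φ ζ x ≫ b) = ζ ≫ θ' := by
      intro ζ
      rw [repMap_comp, repMap_pt, Category.assoc]
      change prod.lift ζ _ ≫ θ = _
      rw [← hθ', ← Category.assoc, prod.lift_fst]
    have h3 : pt f Z T' φ (QuotSh.repMap 𝕃 q ≫ d ≫ c₁) x ≫ b =
        pt f Z T' φ (QuotSh.repMap 𝕃 q ≫ d ≫ c₂) x ≫ b :=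
      repMap_injective _ _ (by rw [hb, hb, hζ])
    have hv : pt f Z T' φ (QuotSh.repMap 𝕃 q ≫ d ≫ c₁) x =
        pt f Z T' φ (QuotSh.repMap 𝕃 q ≫ d ≫ c₂) x := by
      apply Over.OverMorphism.ext
      rw [← cancel_mono ε']
      apply pullback.hom_ext
      · rw [Category.assoc, Category.assoc, hε2]
        have e1 := congrArg (fun g => g.left) (pt_a f Z T' a φ hφ (QuotSh.repMap 𝕃 q ≫ d ≫ c₁) x)
        have e2 := congrArg (fun g => g.left) (pt_a f Z T' a φ hφ (QuotSh.repMap 𝕃 q ≫ d ≫ c₂) x)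
        exact e1.trans e2.symm
      · rw [Category.assoc, Category.assoc]
        exact congrArg (fun g => g.left) h3
    have h4 := congrArg (cls f Z T' φ) hv
    rwa [cls_pt, cls_pt] at h4
  have hiso : IsIso θ' := ToposLike.isIso_of_mono_of_epi θ' hmonoθ' hepiθ'
  exact ⟨T, haff, ⟨(asIso θ').symm⟩⟩

end Final

end Groth.Agent.Lib.Seat19.LocAff
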