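import Mathlib
import Groth.Prelude.Def_QuotSh
import Groth.Prelude.Def_DescFam
import Groth.Agent.Lib.Seat19LocAff

/-!
# Relative local representability (seat 19)

Let `z : Z ⟶ h_T` be a map of fppf sheaves over `S`, `p : T' ⟶ T` an fppf cover and suppose that
`Z ×_{h_T} h_{T'}` is represented by a scheme `T''` over `T'`.  Then `T''` carries a canonical
descent datum relative to `p`; if it is effective, `Z` is representable by a scheme over `T`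
whose base change to `T'` is `T''`.  (Relative form of `Seat19LocAff`.)
-/

set_option autoImplicit false
universe u

open CategoryTheory Limits AlgebraicGeometry Opposite
open Groth.Agent.Lib.Seat19.QuotPts Groth.Agent.Lib.Seat19.FppfFpqc
open Groth.Agent.Lib.Helper9 Groth.Agent.Lib.Helper12.QuotShLib
open Groth.Agent.Lib.Seat19.LocAff (hom_ext_rep repMap_injective)

namespace Groth.Agent.Lib.Seat19.LocRep

local notation "𝕃" => Scheme.fppfPrecoverage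

section Main

variable {S : Scheme.{u}} {T T' T'' : Over S} (p : T' ⟶ T) (a : T'' ⟶ T')
  {Z : QuotSh.Sh 𝕃 S} (z : Z ⟶ QuotSh.rep 𝕃 T) (ζ'' : QuotSh.rep 𝕃 T'' ⟶ Z)
  (hpb : IsPullback ζ'' (QuotSh.repMap 𝕃 a) z (QuotSh.repMap 𝕃 p))

include hpb in
/-- the point of `T''` with class `ζ` lying over `x`. -/
noncomputable def pt {W : Over S} (ζ : QuotSh.rep 𝕃 W ⟶ Z) (x : W ⟶ T')
    (h : ζ ≫ z = QuotSh.repMap 𝕃 (x ≫ p)) : W ⟶ T'' :=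
  (repFunctorFullyFaithful 𝕃).preimage
    (hpb.lift ζ (QuotSh.repMap 𝕃 x) (h.trans (repMap_comp 𝕃 x p)))

lemma repMap_pt {W : Over S} (ζ : QuotSh.rep 𝕃 W ⟶ Z) (x : W ⟶ T')
    (h : ζ ≫ z = QuotSh.repMap 𝕃 (x ≫ p)) :
    QuotSh.repMap 𝕃 (pt p a z ζ'' hpb ζ x h) =
      hpb.lift ζ (QuotSh.repMap 𝕃 x) (h.trans (repMap_comp 𝕃 x p)) :=
  (repFunctorFullyFaithful 𝕃).map_preimage _

lemma pt_congr {W : Over S} {ζ ζ' : QuotSh.rep 𝕃 W ⟶ Z} {x x' : W ⟶ T'} (hζ : ζ = ζ')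
    (hx : x = x') (h : ζ ≫ z = QuotSh.repMap 𝕃 (x ≫ p))
    (h' : ζ' ≫ z = QuotSh.repMap 𝕃 (x' ≫ p)) :
    pt p a z ζ'' hpb ζ x h = pt p a z ζ'' hpb ζ' x' h' := by
  subst hζ hx
  rfl

/-- the class in `Z` of a point of `T''`. -/
noncomputable def cls {W : Over S} (v : W ⟶ T'') : QuotSh.rep 𝕃 W ⟶ Z :=
  QuotSh.repMap 𝕃 v ≫ ζ''

include hpb in
lemma cls_z {W : Over S} (v : W ⟶ T'') :
    cls ζ'' v ≫ z = QuotSh.repMap 𝕃 ((v ≫ a) ≫ p) := by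
  unfold cls
  rw [Category.assoc, hpb.w, repMap_comp, repMap_comp, Category.assoc]

lemma pt_a {W : Over S} (ζ : QuotSh.rep 𝕃 W ⟶ Z) (x : W ⟶ T')
    (h : ζ ≫ z = QuotSh.repMap 𝕃 (x ≫ p)) : pt p a z ζ'' hpb ζ x h ≫ a = x := by
  apply repMap_injective
  rw [repMap_comp, repMap_pt, hpb.lift_snd]

lemma cls_pt {W : Over S} (ζ : QuotSh.rep 𝕃 W ⟶ Z) (x : W ⟶ T')
    (h : ζ ≫ z = QuotSh.repMap 𝕃 (x ≫ p)) : cls ζ'' (pt p a z ζ'' hpb ζ x h) = ζ := by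
  unfold cls
  rw [repMap_pt, hpb.lift_fst]

lemma pt_cls {W : Over S} (v : W ⟶ T'') :
    pt p a z ζ'' hpb (cls ζ'' v) (v ≫ a) (cls_z p a z ζ'' hpb v) = v := by
  apply repMap_injective
  rw [repMap_pt]
  apply hpb.hom_ext
  · rw [hpb.lift_fst]
    rfl
  · rw [hpb.lift_snd, repMap_comp]

lemma cls_comp {W W' : Over S} (g : W' ⟶ W) (v : W ⟶ T'') :
    cls ζ'' (g ≫ v) = QuotSh.repMap 𝕃 g ≫ cls ζ'' v := by
  unfold cls
  rw [repMap_comp, Category.assoc]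

lemma pt_comp {W W' : Over S} (g : W' ⟶ W) (ζ : QuotSh.rep 𝕃 W ⟶ Z) (x : W ⟶ T')
    (h : ζ ≫ z = QuotSh.repMap 𝕃 (x ≫ p))
    (h' : (QuotSh.repMap 𝕃 g ≫ ζ) ≫ z = QuotSh.repMap 𝕃 ((g ≫ x) ≫ p)) :
    pt p a z ζ'' hpb (QuotSh.repMap 𝕃 g ≫ ζ) (g ≫ x) h' = g ≫ pt p a z ζ'' hpb ζ x h := by
  apply repMap_injective
  rw [repMap_pt, repMap_comp 𝕃 g (pt p a z ζ'' hpb ζ x h), repMap_pt]
  apply hpb.hom_ext
  · rw [hpb.lift_fst, Category.assoc, hpb.lift_fst]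
  · rw [hpb.lift_snd, Category.assoc, hpb.lift_snd, repMap_comp]

end Main

section DD

variable {S : Scheme.{u}} {T T' T'' : Over S} {p : T' ⟶ T} {a : T'' ⟶ T'}
  {Z : QuotSh.Sh 𝕃 S} {z : Z ⟶ QuotSh.rep 𝕃 T} {ζ'' : QuotSh.rep 𝕃 T'' ⟶ Z}
  (hpb : IsPullback ζ'' (QuotSh.repMap 𝕃 a) z (QuotSh.repMap 𝕃 p))

/-- a scheme-level point of `T'` as a morphism over `S`. -/
def xh {T₀ : Scheme.{u}} (m : T₀ ⟶ S) (x : T₀ ⟶ T'.left) (hx : x ≫ T'.hom = m) :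
    Over.mk m ⟶ T' := Over.homMk x hx

/-- a scheme-level lift as a morphism over `S`. -/
def vh {T₀ : Scheme.{u}} (m : T₀ ⟶ S) {x : T₀ ⟶ T'.left} (hx : x ≫ T'.hom = m)
    (v : Desc.Lifts (Over.mk a.left : Over T'.left) x) : Over.mk m ⟶ T'' :=
  Over.homMk v.1 (by
    have h1 : v.1 ≫ a.left = x := v.2
    have h2 : a.left ≫ T'.hom = T''.hom := Over.w a
    change v.1 ≫ T''.hom = m
    rw [← h2, ← Category.assoc, h1, hx])

lemma vh_a {T₀ : Scheme.{u}} (m : T₀ ⟶ S) {x : T₀ ⟶ T'.left} (hx : x ≫ T'.hom = m)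
    (v : Desc.Lifts (Over.mk a.left : Over T'.left) x) : vh m hx v ≫ a = xh m x hx := by
  apply Over.OverMorphism.ext
  exact v.2

lemma xh_p_eq {T₀ : Scheme.{u}} (m : T₀ ⟶ S) (x₀ x₁ : T₀ ⟶ T'.left) (h₀ : x₀ ≫ T'.hom = m)
    (h₁ : x₁ ≫ T'.hom = m) (h : x₀ ≫ p.left = x₁ ≫ p.left) :
    xh m x₀ h₀ ≫ p = xh m x₁ h₁ ≫ p := by
  apply Over.OverMorphism.ext
  exact h

include hpb in
lemma core_aux {T₀ : Scheme.{u}} (m : T₀ ⟶ S) (x₀ x₁ : T₀ ⟶ T'.left) (h₀ : x₀ ≫ T'.hom = m)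
    (h₁ : x₁ ≫ T'.hom = m) (h : x₀ ≫ p.left = x₁ ≫ p.left)
    (v : Desc.Lifts (Over.mk a.left : Over T'.left) x₀) :
    cls ζ'' (vh m h₀ v) ≫ z = QuotSh.repMap 𝕃 (xh m x₁ h₁ ≫ p) := by
  rw [cls_z p a z ζ'' hpb, vh_a, xh_p_eq m x₀ x₁ h₀ h₁ h]

/-- transport of lifts along the sheaf isomorphism. -/
noncomputable def core {T₀ : Scheme.{u}} (m : T₀ ⟶ S) (x₀ x₁ : T₀ ⟶ T'.left)
    (h₀ : x₀ ≫ T'.hom = m) (h₁ : x₁ ≫ T'.hom = m) (h : x₀ ≫ p.left = x₁ ≫ p.left)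
    (v : Desc.Lifts (Over.mk a.left : Over T'.left) x₀) :
    Desc.Lifts (Over.mk a.left : Over T'.left) x₁ :=
  ⟨(pt p a z ζ'' hpb (cls ζ'' (vh m h₀ v)) (xh m x₁ h₁) (core_aux hpb m x₀ x₁ h₀ h₁ h v)).left,
    congrArg (fun g => g.left)
      (pt_a p a z ζ'' hpb (cls ζ'' (vh m h₀ v)) (xh m x₁ h₁) (core_aux hpb m x₀ x₁ h₀ h₁ h v))⟩

lemma vh_core {T₀ : Scheme.{u}} (m : T₀ ⟶ S) (x₀ x₁ : T₀ ⟶ T'.left)
    (h₀ : x₀ ≫ T'.hom = m) (h₁ : x₁ ≫ T'.hom = m) (h : x₀ ≫ p.left = x₁ ≫ p.left)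
    (v : Desc.Lifts (Over.mk a.left : Over T'.left) x₀) :
    vh m h₁ (core hpb m x₀ x₁ h₀ h₁ h v) =
      pt p a z ζ'' hpb (cls ζ'' (vh m h₀ v)) (xh m x₁ h₁) (core_aux hpb m x₀ x₁ h₀ h₁ h v) := by
  apply Over.OverMorphism.ext
  rfl

lemma core_core {T₀ : Scheme.{u}} (m : T₀ ⟶ S) (x₀ x₁ x₂ : T₀ ⟶ T'.left)
    (h₀ : x₀ ≫ T'.hom = m) (h₁ : x₁ ≫ T'.hom = m) (h₂ : x₂ ≫ T'.hom = m)
    (h₀₁ : x₀ ≫ p.left = x₁ ≫ p.left) (h₁₂ : x₁ ≫ p.left = x₂ ≫ p.left)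
    (v : Desc.Lifts (Over.mk a.left : Over T'.left) x₀) :
    core hpb m x₁ x₂ h₁ h₂ h₁₂ (core hpb m x₀ x₁ h₀ h₁ h₀₁ v) =
      core hpb m x₀ x₂ h₀ h₂ (h₀₁.trans h₁₂) v := by
  apply Subtype.ext
  change (pt p a z ζ'' hpb (cls ζ'' (vh m h₁ (core hpb m x₀ x₁ h₀ h₁ h₀₁ v))) (xh m x₂ h₂) _).left =
    (pt p a z ζ'' hpb (cls ζ'' (vh m h₀ v)) (xh m x₂ h₂) _).left
  congr 1
  apply pt_congr
  · rw [vh_core, cls_pt]
  · rfl

lemma core_self {T₀ : Scheme.{u}} (m : T₀ ⟶ S) (x : T₀ ⟶ T'.left) (h : x ≫ T'.hom = m)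
    (v : Desc.Lifts (Over.mk a.left : Over T'.left) x) : core hpb m x x h h rfl v = v := by
  apply Subtype.ext
  change (pt p a z ζ'' hpb (cls ζ'' (vh m h v)) (xh m x h) _).left = _
  have e1 : pt p a z ζ'' hpb (cls ζ'' (vh m h v)) (xh m x h) (core_aux hpb m x x h h rfl v) =
      pt p a z ζ'' hpb (cls ζ'' (vh m h v)) (vh m h v ≫ a) (cls_z p a z ζ'' hpb _) :=
    pt_congr p a z ζ'' hpb rfl (vh_a m h v).symm _ _
  rw [e1, pt_cls]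
  rfl

lemma core_congr {T₀ : Scheme.{u}} {m m' : T₀ ⟶ S} (hm : m = m') (x₀ x₁ : T₀ ⟶ T'.left)
    (h₀ : x₀ ≫ T'.hom = m) (h₁ : x₁ ≫ T'.hom = m) (h₀' : x₀ ≫ T'.hom = m')
    (h₁' : x₁ ≫ T'.hom = m') (h : x₀ ≫ p.left = x₁ ≫ p.left)
    (v : Desc.Lifts (Over.mk a.left : Over T'.left) x₀) :
    core hpb m x₀ x₁ h₀ h₁ h v = core hpb m' x₀ x₁ h₀' h₁' h v := by
  subst hm
  rfl

lemma core_natural {T₀ T₀' : Scheme.{u}} (g : T₀' ⟶ T₀) (m : T₀ ⟶ S) (m' : T₀' ⟶ S)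
    (hm : g ≫ m = m') (x₀ x₁ : T₀ ⟶ T'.left) (h₀ : x₀ ≫ T'.hom = m) (h₁ : x₁ ≫ T'.hom = m)
    (h : x₀ ≫ p.left = x₁ ≫ p.left)
    (h₀' : (g ≫ x₀) ≫ T'.hom = m') (h₁' : (g ≫ x₁) ≫ T'.hom = m')
    (h' : (g ≫ x₀) ≫ p.left = (g ≫ x₁) ≫ p.left)
    (v : Desc.Lifts (Over.mk a.left : Over T'.left) x₀)
    (v' : Desc.Lifts (Over.mk a.left : Over T'.left) (g ≫ x₀)) (hv' : v'.1 = g ≫ v.1) :
    (core hpb m' (g ≫ x₀) (g ≫ x₁) h₀' h₁' h' v').1 = g ≫ (core hpb m x₀ x₁ h₀ h₁ h v).1 := by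
  subst hm
  let gh : Over.mk (g ≫ m) ⟶ Over.mk m := Over.homMk g rfl
  have e1 : vh (g ≫ m) h₀' v' = gh ≫ vh m h₀ v := by
    apply Over.OverMorphism.ext
    exact hv'
  have e2 : xh (g ≫ m) (g ≫ x₁) h₁' = gh ≫ xh m x₁ h₁ := by
    apply Over.OverMorphism.ext
    rfl
  have e3 : cls ζ'' (vh (g ≫ m) h₀' v') = QuotSh.repMap 𝕃 gh ≫ cls ζ'' (vh m h₀ v) := by
    rw [e1, cls_comp]
  have hh : (QuotSh.repMap 𝕃 gh ≫ cls ζ'' (vh m h₀ v)) ≫ z =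
      QuotSh.repMap 𝕃 ((gh ≫ xh m x₁ h₁) ≫ p) := by
    rw [← e3, ← e2]
    exact core_aux hpb (g ≫ m) (g ≫ x₀) (g ≫ x₁) h₀' h₁' h' v'
  change (pt p a z ζ'' hpb (cls ζ'' (vh (g ≫ m) h₀' v')) (xh (g ≫ m) (g ≫ x₁) h₁') _).left = _
  have e4 : pt p a z ζ'' hpb (cls ζ'' (vh (g ≫ m) h₀' v')) (xh (g ≫ m) (g ≫ x₁) h₁')
      (core_aux hpb (g ≫ m) (g ≫ x₀) (g ≫ x₁) h₀' h₁' h' v') =
      pt p a z ζ'' hpb (QuotSh.repMap 𝕃 gh ≫ cls ζ'' (vh m h₀ v)) (gh ≫ xh m x₁ h₁) hh :=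
    pt_congr p a z ζ'' hpb e3 e2 _ _
  rw [e4, pt_comp p a z ζ'' hpb gh _ _ (core_aux hpb m x₀ x₁ h₀ h₁ h v)]
  rfl

lemma hom_eq_of {T₀ : Scheme.{u}} (x₀ x₁ : T₀ ⟶ T'.left) (h : x₀ ≫ p.left = x₁ ≫ p.left) :
    x₁ ≫ T'.hom = x₀ ≫ T'.hom := by
  have h2 : p.left ≫ T.hom = T'.hom := Over.w p
  rw [← h2, ← Category.assoc, ← Category.assoc, h]

/-- the descent datum on `T''` relative to `p` induced by the cartesian square of sheaves. -/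
noncomputable def DD : Desc.SchDDFam (fun _ : PUnit.{u + 1} => p.left) where
  obj _ := Over.mk a.left
  φ T₀ i j x₀ x₁ h :=
    { toFun := core hpb (x₀ ≫ T'.hom) x₀ x₁ rfl (hom_eq_of x₀ x₁ h) h
      invFun := core hpb (x₀ ≫ T'.hom) x₁ x₀ (hom_eq_of x₀ x₁ h) rfl h.symm
      left_inv := fun v => by rw [core_core, core_self]
      right_inv := fun v => by rw [core_core, core_self] }
  φ_natural T₀ T₀' g i j x₀ x₁ h y₀ y₁ hy₀ hy₁ h' v v' hv' := by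
    subst hy₀ hy₁
    exact core_natural hpb g (x₀ ≫ T'.hom) ((g ≫ x₀) ≫ T'.hom) (Category.assoc _ _ _).symm x₀ x₁
      rfl (hom_eq_of x₀ x₁ h) h rfl (hom_eq_of (g ≫ x₀) (g ≫ x₁) h') h' v v' hv'
  φ_self T₀ i x v := core_self hpb _ x rfl v
  φ_comp T₀ i j k x₀ x₁ x₂ h₀₁ h₁₂ v := by
    change core hpb (x₁ ≫ T'.hom) x₁ x₂ rfl (hom_eq_of x₁ x₂ h₁₂) h₁₂
        (core hpb (x₀ ≫ T'.hom) x₀ x₁ rfl (hom_eq_of x₀ x₁ h₀₁) h₀₁ v) =
      core hpb (x₀ ≫ T'.hom) x₀ x₂ rfl (hom_eq_of x₀ x₂ (h₀₁.trans h₁₂)) (h₀₁.trans h₁₂) v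
    rw [core_congr hpb (hom_eq_of x₀ x₁ h₀₁) x₁ x₂ rfl (hom_eq_of x₁ x₂ h₁₂) (hom_eq_of x₀ x₁ h₀₁)
      (hom_eq_of x₀ x₂ (h₀₁.trans h₁₂)) h₁₂, core_core]

/-- a map out of `T''` which is invariant under the descent datum does not see the
`T'`-component. -/
lemma pt_b_indep {Y : Scheme.{u}} (b₀ : T''.left ⟶ Y)
    (hb : ∀ ⦃T₀ : Scheme.{u}⦄ (x₀ x₁ : T₀ ⟶ T'.left) (h : x₀ ≫ p.left = x₁ ≫ p.left)
      (v : Desc.Lifts (Over.mk a.left : Over T'.left) x₀),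
      ((DD hpb).φ (i := PUnit.unit) (j := PUnit.unit) x₀ x₁ h v).1 ≫ b₀ = v.1 ≫ b₀)
    {W : Over S} (ζ : QuotSh.rep 𝕃 W ⟶ Z) (x₀ x₁ : W ⟶ T')
    (h₀ : ζ ≫ z = QuotSh.repMap 𝕃 (x₀ ≫ p)) (h₁ : ζ ≫ z = QuotSh.repMap 𝕃 (x₁ ≫ p)) :
    (pt p a z ζ'' hpb ζ x₁ h₁).left ≫ b₀ = (pt p a z ζ'' hpb ζ x₀ h₀).left ≫ b₀ := by
  let v : Desc.Lifts (Over.mk a.left : Over T'.left) x₀.left :=
    ⟨(pt p a z ζ'' hpb ζ x₀ h₀).left, congrArg (fun g => g.left) (pt_a p a z ζ'' hpb ζ x₀ h₀)⟩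
  have hxp : x₀ ≫ p = x₁ ≫ p := repMap_injective _ _ (h₀.symm.trans h₁)
  have h : x₀.left ≫ p.left = x₁.left ≫ p.left := congrArg (fun g => g.left) hxp
  have h1 := hb x₀.left x₁.left h v
  have h2 : ((DD hpb).φ (i := PUnit.unit) (j := PUnit.unit) x₀.left x₁.left h v) =
      core hpb W.hom x₀.left x₁.left (Over.w x₀) (Over.w x₁) h v :=
    core_congr hpb (Over.w x₀) x₀.left x₁.left rfl (hom_eq_of x₀.left x₁.left h) (Over.w x₀)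
      (Over.w x₁) h v
  have h3 : (core hpb W.hom x₀.left x₁.left (Over.w x₀) (Over.w x₁) h v).1 =
      (pt p a z ζ'' hpb ζ x₁ h₁).left := by
    have e1 : vh W.hom (Over.w x₀) v = pt p a z ζ'' hpb ζ x₀ h₀ := rfl
    change (pt p a z ζ'' hpb (cls ζ'' (vh W.hom (Over.w x₀) v))
      (xh W.hom x₁.left (Over.w x₁)) _).left = _
    congr 1
    apply pt_congr
    · rw [e1, cls_pt]
    · rfl
  rw [← h3, ← h2]
  exact h1

end DD

section Final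

variable {S : Scheme.{u}} {T T' T'' : Over S} {p : T' ⟶ T} {a : T'' ⟶ T'}
  {Z : QuotSh.Sh 𝕃 S} {z : Z ⟶ QuotSh.rep 𝕃 T} {ζ'' : QuotSh.rep 𝕃 T'' ⟶ Z}
  (hpb : IsPullback ζ'' (QuotSh.repMap 𝕃 a) z (QuotSh.repMap 𝕃 p))
  [Flat p.left] [Surjective p.left] [LocallyOfFinitePresentation p.left]

/-- **relative local representability**: if the canonical descent datum on `T''` relative to the
fppf cover `p` is effective, then `Z` is represented by a scheme `W` over `T` whose base change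
to `T'` is `T''`. -/
theorem main (heff : (DD hpb).IsEffective) :
    ∃ (W : Over T.left) (e : QuotSh.rep 𝕃 (Over.mk (W.hom ≫ T.hom)) ≅ Z)
      (ε : pullback p.left W.hom ≅ T''.left),
      e.hom ≫ z = QuotSh.repMap 𝕃 (Over.homMk W.hom rfl : Over.mk (W.hom ≫ T.hom) ⟶ T) ∧
      ε.hom ≫ a.left = pullback.fst p.left W.hom := by
  obtain ⟨W, ⟨e⟩⟩ := heff
  obtain ⟨ε, ε', hεε', hε'ε, hε1, hε2, hcomm⟩ : ∃ (ε : pullback p.left W.hom ⟶ T''.left)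
      (ε' : T''.left ⟶ pullback p.left W.hom), ε ≫ ε' = 𝟙 _ ∧ ε' ≫ ε = 𝟙 _ ∧
      ε ≫ a.left = pullback.fst p.left W.hom ∧ ε' ≫ pullback.fst p.left W.hom = a.left ∧
      (∀ ⦃T₀ : Scheme.{u}⦄ (x₀ x₁ : T₀ ⟶ T'.left) (h : x₀ ≫ p.left = x₁ ≫ p.left)
        (v : Desc.Lifts (Over.mk a.left : Over T'.left) x₀),
        ((DD hpb).φ (i := PUnit.unit) (j := PUnit.unit) x₀ x₁ h v).1 ≫ ε' ≫
            pullback.snd p.left W.hom =
          v.1 ≫ ε' ≫ pullback.snd p.left W.hom) := by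
    refine ⟨(e.hom.hom ⟨⟩).left, (e.inv.hom ⟨⟩).left, ?_, ?_, Over.w (e.hom.hom ⟨⟩),
      Over.w (e.inv.hom ⟨⟩), ?_⟩
    · have h1 : e.hom.hom ⟨⟩ ≫ e.inv.hom ⟨⟩ = 𝟙 _ := by
        rw [← Desc.SchDDFam.comp_hom, e.hom_inv_id, Desc.SchDDFam.id_hom]
      exact congrArg (fun g => g.left) h1
    · have h1 : e.inv.hom ⟨⟩ ≫ e.hom.hom ⟨⟩ = 𝟙 _ := by
        rw [← Desc.SchDDFam.comp_hom, e.inv_hom_id, Desc.SchDDFam.id_hom]
      exact congrArg (fun g => g.left) h1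
    · intro T₀ x₀ x₁ h v
      let ε'₀ : T''.left ⟶ pullback p.left W.hom := (e.inv.hom ⟨⟩).left
      have hε'₀ : ε'₀ ≫ pullback.fst p.left W.hom = a.left := Over.w (e.inv.hom ⟨⟩)
      have hw : (v.1 ≫ ε'₀) ≫ pullback.fst p.left W.hom = x₀ := by
        rw [Category.assoc, hε'₀]
        exact v.2
      have h1 := e.inv.comm (i := PUnit.unit) (j := PUnit.unit) x₀ x₁ h v ⟨v.1 ≫ ε'₀, hw⟩ rfl
      change ((DD hpb).φ (i := PUnit.unit) (j := PUnit.unit) x₀ x₁ h v).1 ≫ ε'₀ ≫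
        pullback.snd p.left W.hom = v.1 ≫ ε'₀ ≫ pullback.snd p.left W.hom
      have h2 : (((Desc.toDDFam fun _ : PUnit.{u + 1} => p.left).obj W).φ (i := PUnit.unit)
          (j := PUnit.unit) x₀ x₁ h ⟨v.1 ≫ ε'₀, hw⟩).1 ≫ pullback.snd p.left W.hom =
          (v.1 ≫ ε'₀) ≫ pullback.snd p.left W.hom := by
        change (Desc.canMapFam (fun _ : PUnit.{u + 1} => p.left) W (i := PUnit.unit)
          (j := PUnit.unit) x₀ x₁ h ⟨v.1 ≫ ε'₀, hw⟩).1 ≫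
          pullback.snd p.left W.hom = _
        rw [Desc.canMapFam_val, pullback.lift_snd]
      exact (((Category.assoc _ _ _).symm.trans
        (congrArg (· ≫ pullback.snd p.left W.hom) h1).symm).trans h2).trans (Category.assoc _ _ _)
  have hisoε : IsIso ε := ⟨ε', hεε', hε'ε⟩
  have hisoε' : IsIso ε' := ⟨ε, hε'ε, hεε'⟩
  let W' : Over S := Over.mk (W.hom ≫ T.hom)
  let w : W' ⟶ T := Over.homMk W.hom rfl
  let b₀ : T''.left ⟶ W.left := ε' ≫ pullback.snd p.left W.hom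
  have hb₀w : b₀ ≫ W.hom = a.left ≫ p.left := by
    rw [Category.assoc, ← pullback.condition, ← Category.assoc, hε2]
  have hb₀ : b₀ ≫ W'.hom = T''.hom := by
    change b₀ ≫ W.hom ≫ T.hom = T''.hom
    rw [← Category.assoc, hb₀w, Category.assoc]
    have h1 : p.left ≫ T.hom = T'.hom := Over.w p
    have h2 : a.left ≫ T'.hom = T''.hom := Over.w a
    rw [h1, h2]
  let b : T'' ⟶ W' := Over.homMk b₀ hb₀
  have hbw : b ≫ w = a ≫ p := by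
    apply Over.OverMorphism.ext
    exact hb₀w
  have hK1 : ∀ {W₀ : Over S} (ζ : QuotSh.rep 𝕃 W₀ ⟶ Z) (x₀ x₁ : W₀ ⟶ T')
      (h₀ : ζ ≫ z = QuotSh.repMap 𝕃 (x₀ ≫ p)) (h₁ : ζ ≫ z = QuotSh.repMap 𝕃 (x₁ ≫ p)),
      pt p a z ζ'' hpb ζ x₁ h₁ ≫ b = pt p a z ζ'' hpb ζ x₀ h₀ ≫ b := by
    intro W₀ ζ x₀ x₁ h₀ h₁
    apply Over.OverMorphism.ext
    exact pt_b_indep hpb b₀ (fun T₀ y₀ y₁ h v => hcomm y₀ y₁ h v) ζ x₀ x₁ h₀ h₁
  have hepiζ'' : Epi ζ'' := ToposLike.epi_of_isPullback hpb (epi_repMap_fppf p)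
  obtain ⟨θ', hθ'⟩ := ToposLike.exists_desc_of_epi ζ'' hepiζ'' (QuotSh.repMap 𝕃 b) (by
    intro Y a₁ a₂ h12
    apply hom_ext_rep
    intro W₀ c
    let v₁ : W₀ ⟶ T'' := (repFunctorFullyFaithful 𝕃).preimage (c ≫ a₁)
    let v₂ : W₀ ⟶ T'' := (repFunctorFullyFaithful 𝕃).preimage (c ≫ a₂)
    have hv₁ : QuotSh.repMap 𝕃 v₁ = c ≫ a₁ := (repFunctorFullyFaithful 𝕃).map_preimage _
    have hv₂ : QuotSh.repMap 𝕃 v₂ = c ≫ a₂ := (repFunctorFullyFaithful 𝕃).map_preimage _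
    have hcls : cls ζ'' v₁ = cls ζ'' v₂ := by
      unfold cls
      rw [hv₁, hv₂, Category.assoc, Category.assoc, h12]
    have h₁ : cls ζ'' v₁ ≫ z = QuotSh.repMap 𝕃 ((v₁ ≫ a) ≫ p) := cls_z p a z ζ'' hpb v₁
    have h₂ : cls ζ'' v₁ ≫ z = QuotSh.repMap 𝕃 ((v₂ ≫ a) ≫ p) := by
      rw [hcls]
      exact cls_z p a z ζ'' hpb v₂
    have e₁ : v₁ = pt p a z ζ'' hpb (cls ζ'' v₁) (v₁ ≫ a) h₁ := (pt_cls p a z ζ'' hpb v₁).symm
    have e₂ : v₂ = pt p a z ζ'' hpb (cls ζ'' v₁) (v₂ ≫ a) h₂ :=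
      (pt_cls p a z ζ'' hpb v₂).symm.trans (pt_congr p a z ζ'' hpb hcls.symm rfl _ _)
    have e₃ : v₁ ≫ b = v₂ ≫ b := by
      rw [e₁, e₂]
      exact hK1 _ _ _ h₂ h₁
    calc c ≫ a₁ ≫ QuotSh.repMap 𝕃 b = (c ≫ a₁) ≫ QuotSh.repMap 𝕃 b :=
          (Category.assoc _ _ _).symm
      _ = QuotSh.repMap 𝕃 (v₁ ≫ b) := by rw [repMap_comp, hv₁]
      _ = QuotSh.repMap 𝕃 (v₂ ≫ b) := by rw [e₃]
      _ = (c ≫ a₂) ≫ QuotSh.repMap 𝕃 b := by rw [repMap_comp, hv₂]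
      _ = c ≫ a₂ ≫ QuotSh.repMap 𝕃 b := Category.assoc _ _ _)
  have hθ'w : θ' ≫ QuotSh.repMap 𝕃 w = z := by
    rw [← cancel_epi ζ'', ← Category.assoc, hθ', ← repMap_comp, hbw, repMap_comp]
    exact hpb.w.symm
  have hepib : Epi (QuotSh.repMap 𝕃 b) := by
    have h1 : Flat b.left := by
      change Flat (ε' ≫ pullback.snd p.left W.hom)
      infer_instance
    have h2 : Surjective b.left := by
      change Surjective (ε' ≫ pullback.snd p.left W.hom)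
      infer_instance
    have h3 : LocallyOfFinitePresentation b.left := by
      change LocallyOfFinitePresentation (ε' ≫ pullback.snd p.left W.hom)
      infer_instance
    exact epi_repMap_fppf b
  have hepiθ' : Epi θ' := by
    have : Epi (ζ'' ≫ θ') := by rw [hθ']; exact hepib
    exact epi_of_epi ζ'' θ'
  have hmonoθ' : Mono θ' := by
    constructor
    intro Y c₁ c₂ h12
    apply hom_ext_rep
    intro W₀ d
    have hz12 : (d ≫ c₁) ≫ z = (d ≫ c₂) ≫ z := by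
      rw [← hθ'w]
      simp only [Category.assoc]
      rw [reassoc_of% h12]
    let n : W₀ ⟶ T := (repFunctorFullyFaithful 𝕃).preimage ((d ≫ c₁) ≫ z)
    have hn : QuotSh.repMap 𝕃 n = (d ≫ c₁) ≫ z := (repFunctorFullyFaithful 𝕃).map_preimage _
    let W₁ : Over S := Over.mk (pullback.fst n.left p.left ≫ W₀.hom)
    let q : W₁ ⟶ W₀ := Over.homMk (pullback.fst n.left p.left) rfl
    let x : W₁ ⟶ T' := Over.homMk (pullback.snd n.left p.left) (by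
      have h1 : p.left ≫ T.hom = T'.hom := Over.w p
      have h2 : n.left ≫ T.hom = W₀.hom := Over.w n
      change pullback.snd n.left p.left ≫ T'.hom = pullback.fst n.left p.left ≫ W₀.hom
      rw [← h1, ← Category.assoc, ← pullback.condition, Category.assoc, h2])
    have hqn : q ≫ n = x ≫ p := by
      apply Over.OverMorphism.ext
      exact pullback.condition
    have hq : Epi (QuotSh.repMap 𝕃 q) := by
      have h1 : Flat q.left := by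
        change Flat (pullback.fst n.left p.left)
        infer_instance
      have h2 : Surjective q.left := by
        change Surjective (pullback.fst n.left p.left)
        infer_instance
      have h3 : LocallyOfFinitePresentation q.left := by
        change LocallyOfFinitePresentation (pullback.fst n.left p.left)
        infer_instance
      exact epi_repMap_fppf q
    rw [← cancel_epi (QuotSh.repMap 𝕃 q)]
    have hh₁ : (QuotSh.repMap 𝕃 q ≫ d ≫ c₁) ≫ z = QuotSh.repMap 𝕃 (x ≫ p) := by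
      rw [← hqn, repMap_comp, hn]
      simp only [Category.assoc]
    have hh₂ : (QuotSh.repMap 𝕃 q ≫ d ≫ c₂) ≫ z = QuotSh.repMap 𝕃 (x ≫ p) := by
      rw [← hqn, repMap_comp, hn, hz12]
      simp only [Category.assoc]
    have hζ : (QuotSh.repMap 𝕃 q ≫ d ≫ c₁) ≫ θ' = (QuotSh.repMap 𝕃 q ≫ d ≫ c₂) ≫ θ' := by
      simp only [Category.assoc, h12]
    have hb : ∀ (ζ : QuotSh.rep 𝕃 W₁ ⟶ Z) (h : ζ ≫ z = QuotSh.repMap 𝕃 (x ≫ p)),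
        QuotSh.repMap 𝕃 (pt p a z ζ'' hpb ζ x h ≫ b) = ζ ≫ θ' := by
      intro ζ h
      rw [repMap_comp, ← hθ', ← Category.assoc]
      congr 1
      exact cls_pt p a z ζ'' hpb ζ x h
    have h3 : pt p a z ζ'' hpb (QuotSh.repMap 𝕃 q ≫ d ≫ c₁) x hh₁ ≫ b =
        pt p a z ζ'' hpb (QuotSh.repMap 𝕃 q ≫ d ≫ c₂) x hh₂ ≫ b :=
      repMap_injective _ _ (by rw [hb, hb, hζ])
    have hv : pt p a z ζ'' hpb (QuotSh.repMap 𝕃 q ≫ d ≫ c₁) x hh₁ =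
        pt p a z ζ'' hpb (QuotSh.repMap 𝕃 q ≫ d ≫ c₂) x hh₂ := by
      apply Over.OverMorphism.ext
      rw [← cancel_mono ε']
      apply pullback.hom_ext
      · rw [Category.assoc, Category.assoc, hε2]
        have e1 := congrArg (fun g => g.left)
          (pt_a p a z ζ'' hpb (QuotSh.repMap 𝕃 q ≫ d ≫ c₁) x hh₁)
        have e2 := congrArg (fun g => g.left)
          (pt_a p a z ζ'' hpb (QuotSh.repMap 𝕃 q ≫ d ≫ c₂) x hh₂)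
        exact e1.trans e2.symm
      · rw [Category.assoc, Category.assoc]
        exact congrArg (fun g => g.left) h3
    have h4 := congrArg (cls ζ'') hv
    rwa [cls_pt, cls_pt] at h4
  have hiso : IsIso θ' := ToposLike.isIso_of_mono_of_epi θ' hmonoθ' hepiθ'
  refine ⟨W, (asIso θ').symm, ⟨ε, ε', hεε', hε'ε⟩, ?_, hε1⟩
  change inv θ' ≫ z = QuotSh.repMap 𝕃 w
  rw [IsIso.inv_comp_eq, hθ'w]

end Final

end Groth.Agent.Lib.Seat19.LocRep
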