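import Groth.Prelude.Def_DescFam

/-!
# Descent data relative to a family with exactly one member (seat 58)

For a family `f i : X i ⟶ S` indexed by a type with a unique element, a descent datum relative to `f`
is effective as soon as the associated descent datum relative to the single morphism `f default` is.
(The prelude has this for the index type `PUnit` only.)
-/

set_option autoImplicit false
set_option backward.isDefEq.respectTransparency false
set_option backward.isDefEq.respectTransparency.types false
universe w u
open CategoryTheory CategoryTheory.Limits AlgebraicGeometry Desc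

namespace Groth.Agent.Lib.Seat58.DescOne

variable {S : Scheme.{u}} {ι : Type w} [Unique ι] {X : ι → Scheme.{u}} (f : ∀ i, X i ⟶ S)

/-- the descent datum relative to the single morphism `f default` -/
def single (D : SchDDFam f) : SchDD (f default) where
  obj := D.obj default
  φ _ x₀ x₁ h := D.φ x₀ x₁ h
  φ_natural _ _ g x₀ x₁ h h' v v' hv' :=
    D.φ_natural g x₀ x₁ h (g ≫ x₀) (g ≫ x₁) rfl rfl h' v v' hv'
  φ_self _ x v := D.φ_self x v
  φ_comp _ x₀ x₁ x₂ h₀₁ h₁₂ v := D.φ_comp x₀ x₁ x₂ h₀₁ h₁₂ v

/-- transport from the default index -/
def tr {A : ι → Sort*} (a : A default) (i : ι) : A i := (Unique.eq_default i).symm ▸ a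

lemma tr_default {A : ι → Sort*} (a : A default) : tr a default = a := rfl

variable {f}

/-- a morphism of descent data relative to `f` from a morphism of the associated single data -/
def homOfSingle {D D' : SchDDFam f} (a : single f D ⟶ single f D') : D ⟶ D' where
  hom := tr (A := fun i => D.obj i ⟶ D'.obj i) a.hom
  comm T i j x₀ x₁ h v w hw := by
    obtain rfl := Unique.eq_default i
    obtain rfl := Unique.eq_default j
    exact a.comm x₀ x₁ h v w hw

lemma homOfSingle_hom_default {D D' : SchDDFam f} (a : single f D ⟶ single f D') :
    (homOfSingle a).hom default = a.hom := rfl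

lemma homOfSingle_id (D : SchDDFam f) : homOfSingle (𝟙 (single f D)) = 𝟙 D := by
  apply SchDDFam.hom_ext
  funext i
  obtain rfl := Unique.eq_default i
  rfl

lemma homOfSingle_comp {D D' D'' : SchDDFam f} (a : single f D ⟶ single f D')
    (b : single f D' ⟶ single f D'') : homOfSingle (a ≫ b) = homOfSingle a ≫ homOfSingle b := by
  apply SchDDFam.hom_ext
  funext i
  obtain rfl := Unique.eq_default i
  rfl

/-- an isomorphism of descent data relative to `f` from an isomorphism of the single data -/
def isoOfSingle {D D' : SchDDFam f} (e : single f D ≅ single f D') : D ≅ D' where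
  hom := homOfSingle e.hom
  inv := homOfSingle e.inv
  hom_inv_id := by rw [← homOfSingle_comp, e.hom_inv_id, homOfSingle_id]
  inv_hom_id := by rw [← homOfSingle_comp, e.inv_hom_id, homOfSingle_id]

lemma single_toDDFam (U : Over S) : single f ((toDDFam f).obj U) = (toDD (f default)).obj U := rfl

/-- **A descent datum relative to a one-member family is effective if its single datum is.** -/
theorem isEffective_of_single (D : SchDDFam f)
    (h : ∃ U : Over S, Nonempty ((toDD (f default)).obj U ≅ single f D)) : D.IsEffective := by
  obtain ⟨U, ⟨e⟩⟩ := h
  exact ⟨U, ⟨isoOfSingle (D := (toDDFam f).obj U) (D' := D) e⟩⟩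

end Groth.Agent.Lib.Seat58.DescOne
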