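import Mathlib
import Groth.Prelude.Def_AlgSp
import Groth.Prelude.Def_AlgSpRep
import Groth.Agent.Lib.Seat19LocRep
import Groth.Agent.Lib.Seat58DescOne
import Groth.Agent.S9876

/-!
# Local representability in the language of `AlgSp.yon` (seat 19)

* `exists_rep`: `f : G ⟶ F` a map of fppf sheaves, `ξ : h_T ⟶ F`, `p : T' ⟶ T` an fppf cover such
  that the base change of `f` along `h_p ≫ ξ` is represented by `a : T'' ⟶ T'`; if descent data on
  `a` relative to `p` are effective then the base change of `f` along `ξ` is representable.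
* `repWith_of_chart`: the chart criterion with an effective descent hypothesis (S9894).
* `isAlgSpace_of_representable`: sheaf form of the prior S9876.
-/

set_option autoImplicit false
universe u

open CategoryTheory Limits AlgebraicGeometry Opposite
open Groth.Agent.Lib.Helper9 Groth.Agent.Lib.Helper12.QuotShLib

namespace Groth.Agent.Lib.Seat19.LocRepY

local notation "𝕃" => Scheme.fppfPrecoverage

variable {S : Scheme.{u}}

/-- the comparison `rep T ≅ h_T`. -/
noncomputable abbrev eY (T : Over S) : QuotSh.rep 𝕃 T ≅ (AlgSp.yon S).obj T :=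
  (repFunctorIso 𝕃 (S := S)).app T

lemma eY_nat {T T' : Over S} (p : T' ⟶ T) :
    QuotSh.repMap 𝕃 p ≫ (eY T).hom = (eY T').hom ≫ (AlgSp.yon S).map p :=
  (repFunctorIso 𝕃 (S := S)).hom.naturality p

lemma eY_nat' {T T' : Over S} (p : T' ⟶ T) :
    (AlgSp.yon S).map p ≫ (eY T).inv = (eY T').inv ≫ QuotSh.repMap 𝕃 p := by
  rw [Iso.comp_inv_eq, Category.assoc, eY_nat, Iso.inv_hom_id_assoc]

/-- **local representability**, `yon` form. -/
theorem exists_rep {F G : AlgSp.Sp S} (f : G ⟶ F) {T T' T'' : Over S}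
    (ξ : (AlgSp.yon S).obj T ⟶ F)
    (p : T' ⟶ T) [Flat p.left] [Surjective p.left] [LocallyOfFinitePresentation p.left]
    (a : T'' ⟶ T') (fst'' : (AlgSp.yon S).obj T'' ⟶ G)
    (hpb : IsPullback fst'' ((AlgSp.yon S).map a) f ((AlgSp.yon S).map p ≫ ξ))
    (heff : ∀ D : Desc.SchDDFam (fun _ : PUnit.{u + 1} => p.left),
      D.obj PUnit.unit = Over.mk a.left → D.IsEffective) :
    ∃ (W : Over T.left) (fstW : (AlgSp.yon S).obj (Over.mk (W.hom ≫ T.hom)) ⟶ G)
      (ε : pullback p.left W.hom ≅ T''.left),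
      IsPullback fstW ((AlgSp.yon S).map (Over.homMk W.hom rfl : Over.mk (W.hom ≫ T.hom) ⟶ T))
        f ξ ∧
      ε.hom ≫ a.left = pullback.fst p.left W.hom := by
  let Z : AlgSp.Sp S := pullback f ξ
  let z₀ : Z ⟶ (AlgSp.yon S).obj T := pullback.snd f ξ
  let ζ₀ : (AlgSp.yon S).obj T'' ⟶ Z :=
    pullback.lift fst'' ((AlgSp.yon S).map a ≫ (AlgSp.yon S).map p)
      (hpb.w.trans (Category.assoc _ _ _).symm)
  have hleft : IsPullback ζ₀ ((AlgSp.yon S).map a) z₀ ((AlgSp.yon S).map p) := by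
    refine IsPullback.of_right (h₁₂ := pullback.fst f ξ) (h₂₂ := ξ) (v₁₃ := f) ?_ ?_
      (IsPullback.of_hasPullback f ξ)
    · have e1 : ζ₀ ≫ pullback.fst f ξ = fst'' := pullback.lift_fst _ _ _
      rw [e1]
      exact hpb
    · exact pullback.lift_snd _ _ _
  have hpb' : IsPullback ((eY T'').hom ≫ ζ₀) (QuotSh.repMap 𝕃 a) (z₀ ≫ (eY T).inv)
      (QuotSh.repMap 𝕃 p) := by
    refine IsPullback.of_iso hleft (eY T'').symm (Iso.refl _) (eY T').symm (eY T).symm ?_ ?_ ?_ ?_
    · exact (Category.comp_id _).trans (Iso.inv_hom_id_assoc (eY T'') ζ₀).symm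
    · exact eY_nat' a
    · exact (Category.id_comp _).symm
    · exact eY_nat' p
  obtain ⟨W, e, ε, he, hε⟩ := Groth.Agent.Lib.Seat19.LocRep.main hpb'
    (heff (Groth.Agent.Lib.Seat19.LocRep.DD hpb') rfl)
  let W' : Over S := Over.mk (W.hom ≫ T.hom)
  let w : W' ⟶ T := Over.homMk W.hom rfl
  refine ⟨W, (eY W').inv ≫ e.hom ≫ pullback.fst f ξ, ε, ?_, hε⟩
  refine IsPullback.of_iso (IsPullback.of_hasPullback f ξ) (e.symm ≪≫ eY W') (Iso.refl _)
    (Iso.refl _) (Iso.refl _) ?_ ?_ ?_ ?_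
  · change pullback.fst f ξ ≫ 𝟙 _ =
      (e.inv ≫ (eY W').hom) ≫ (eY W').inv ≫ e.hom ≫ pullback.fst f ξ
    rw [Category.comp_id, Category.assoc, Iso.hom_inv_id_assoc, Iso.inv_hom_id_assoc]
  · have h1 : e.hom ≫ z₀ ≫ (eY T).inv = QuotSh.repMap 𝕃 w := he
    have h2 : z₀ = e.inv ≫ QuotSh.repMap 𝕃 w ≫ (eY T).hom := by
      rw [← h1]
      simp only [Category.assoc]
      rw [Iso.inv_hom_id, Category.comp_id, Iso.inv_hom_id_assoc]
    change pullback.snd f ξ ≫ 𝟙 _ = (e.inv ≫ (eY W').hom) ≫ (AlgSp.yon S).map w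
    rw [Category.comp_id, Category.assoc, ← eY_nat]
    exact h2
  · simp
  · simp

/-- the chart criterion with effective descent: `RepWith P f` from one chart (S9894). -/
theorem repWith_of_chart (P : MorphismProperty Scheme.{u})
    [P.IsStableUnderBaseChange] [P.IsLocalAtTarget Scheme.fppfPrecoverage]
    (hdesc : ∀ ⦃X' S' : Scheme.{u}⦄ (p : X' ⟶ S'), Surjective p → Flat p →
      LocallyOfFinitePresentation p →
      ∀ D : Desc.SchDD p, P D.obj.hom → (Desc.toDD p).essImage D)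
    {F G : AlgSp.Sp S} (f : G ⟶ F) {U V : Over S} (q : (AlgSp.yon S).obj U ⟶ F)
    (hqe : AlgSp.RepWith @Etale q) (hqs : AlgSp.RepWith @Surjective q)
    (fst : (AlgSp.yon S).obj V ⟶ G)
    (g : V ⟶ U) (sq : IsPullback fst ((AlgSp.yon S).map g) f q) (hP : P g.left) :
    AlgSp.RepWith P f := by
  have hfull : (AlgSp.yon S).Full :=
    ((QuotSh.J 𝕃 S).fullyFaithfulUliftYoneda.{u + 1}).full
  have hfaith : (AlgSp.yon S).Faithful :=
    ((QuotSh.J 𝕃 S).fullyFaithfulUliftYoneda.{u + 1}).faithful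
  apply MorphismProperty.relative.of_exists
  intro T ξ
  let T' : Over S := hqe.1.pullback ξ
  let p : T' ⟶ T := hqe.1.snd ξ
  let ξ' : (AlgSp.yon S).obj T' ⟶ (AlgSp.yon S).obj U := hqe.1.fst ξ
  have hT' : IsPullback ξ' ((AlgSp.yon S).map p) q ξ := hqe.1.isPullback ξ
  have het : Etale p.left := hqe.2 ξ ξ' p hT'
  have hsurj : Surjective p.left := hqs.2 ξ ξ' p hT'
  have hflat : Flat p.left := inferInstance
  have hlfp : LocallyOfFinitePresentation p.left := inferInstance
  let c' : T' ⟶ U := (AlgSp.yon S).preimage ξ'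
  have hc' : (AlgSp.yon S).map c' = ξ' := (AlgSp.yon S).map_preimage ξ'
  let T'' : Over S := pullback c' g
  let a : T'' ⟶ T' := pullback.fst c' g
  have hsq0 : IsPullback (pullback.snd c' g) a g c' := (IsPullback.of_hasPullback c' g).flip
  have hPa : P a.left := P.of_isPullback (hsq0.map (Over.forget S)) hP
  have hleft : IsPullback ((AlgSp.yon S).map (pullback.snd c' g)) ((AlgSp.yon S).map a)
      ((AlgSp.yon S).map g) ((AlgSp.yon S).map c') := hsq0.map (AlgSp.yon S)
  have hbig : IsPullback ((AlgSp.yon S).map (pullback.snd c' g) ≫ fst) ((AlgSp.yon S).map a) f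
      ((AlgSp.yon S).map p ≫ ξ) := by
    have h1 := hleft.paste_horiz sq
    rw [hc', hT'.w] at h1
    exact h1
  obtain ⟨W, fstW, ε, hpbW, hε⟩ := exists_rep f ξ p a _ hbig (by
    intro D hD
    refine Groth.Agent.Lib.Seat58.DescOne.isEffective_of_single D ?_
    refine hdesc p.left hsurj hflat hlfp _ ?_
    change P (D.obj PUnit.unit).hom
    rw [hD]
    exact hPa)
  refine ⟨Over.mk (W.hom ≫ T.hom), fstW, Over.homMk W.hom rfl, hpbW, ?_⟩
  change P W.hom
  refine MorphismProperty.IsLocalAtTarget.of_forall_pullbackSnd (P := P)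
    (K := Scheme.fppfPrecoverage) (R := Presieve.singleton p.left)
    (Scheme.Hom.singleton_mem_fppfPrecoverage p.left) ?_
  intro U' g' _ hg'
  obtain ⟨⟩ := hg'
  have e1 : pullback.snd W.hom p.left =
      (pullbackSymmetry W.hom p.left).hom ≫ ε.hom ≫ a.left := by
    rw [hε, pullbackSymmetry_hom_comp_fst]
  rw [e1]
  exact (P.cancel_left_of_respectsIso _ _).mpr ((P.cancel_left_of_respectsIso _ _).mpr hPa)

/-- sheaf form of the prior S9876: a sheaf with a representable map to an algebraic space is an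
algebraic space. -/
theorem isAlgSpace_of_representable (F : AlgSp.Space S) {G : AlgSp.Sp S} (f : G ⟶ F.obj)
    (hf : AlgSp.Representable f) : AlgSp.IsAlgSpace G := by
  rw [← AlgSp.isAlgSpaceP_obj_iff]
  refine Groth.Agent.S9876.result S F G.obj f.hom ?_
  intro T g
  let g' : (AlgSp.yon S).obj T ⟶ F.obj := ⟨g⟩
  obtain ⟨b, snd, fst, h⟩ := hf g'
  exact ⟨b, snd, fst.hom, h.map (sheafToPresheaf _ _)⟩

end Groth.Agent.Lib.Seat19.LocRepY
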