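import Mathlib
import Groth.Prelude.Def_QuotSh
import Groth.Prelude.Def_AlgSp
import Groth.Agent.Lib.Seat19QuotPts
import Groth.Agent.Lib.Seat19OpenGraph
import Groth.Agent.Lib.Seat19FppfFpqc
import Groth.Agent.Lib.Seat19LocAff
import Groth.Agent.Lib.Helper9QuotSh
import Groth.Agent.Lib.Helper12QuotSh
import Groth.Agent.S6045

/-!
# The quotient of a restricted equivalence relation is an open subsheaf (seat 19)
-/

set_option autoImplicit false
universe u

open CategoryTheory Limits AlgebraicGeometry Opposite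
open Groth.Agent.Lib.Seat19.QuotPts Groth.Agent.Lib.Seat19.FppfFpqc
open Groth.Agent.Lib.Helper9 Groth.Agent.Lib.Helper12.QuotShLib

namespace Groth.Agent.Lib.Seat19.QuotOpen

local notation "𝕃" => Scheme.fppfPrecoverage

section General

variable (K : Precoverage Scheme.{u}) {S : Scheme.{u}}

/-- gluing maps `h_W ⟶ G` into a sheaf along a covering sieve. -/
theorem exists_glue_of_cover {T : Over S} {G : QuotSh.Sh K S} (𝓡 : Sieve T)
    (h𝓡 : 𝓡 ∈ QuotSh.J K S T)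
    (η : ∀ ⦃W : Over S⦄ (f : W ⟶ T), 𝓡 f → (QuotSh.rep K W ⟶ G))
    (hη : ∀ ⦃W W' : Over S⦄ (f : W ⟶ T) (hf : 𝓡 f) (h : W' ⟶ W),
      QuotSh.repMap K h ≫ η f hf = η (h ≫ f) (𝓡.downward_closed hf h)) :
    ∃ η₀ : QuotSh.rep K T ⟶ G, ∀ ⦃W : Over S⦄ (f : W ⟶ T) (hf : 𝓡 f),
      QuotSh.repMap K f ≫ η₀ = η f hf := by
  have hsh := (isSheaf_iff_isSheaf_of_type _ _).mp G.property 𝓡 h𝓡
  let x : Presieve.FamilyOfElements G.obj 𝓡.arrows := fun W f hf => secOf K (η f hf)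
  have hx : x.Compatible := by
    rw [Presieve.compatible_iff_sieveCompatible]
    intro W W' f h hf
    change secOf K (η (h ≫ f) _) = G.obj.map h.op (secOf K (η f hf))
    rw [← secOf_comp, hη f hf h]
  obtain ⟨ξ₀, hξ₀, -⟩ := hsh x hx
  obtain ⟨η₀, hη₀⟩ := exists_hom_of_sec K G ξ₀
  refine ⟨η₀, fun W f hf => ?_⟩
  apply secOf_injective
  rw [secOf_comp, hη₀]
  exact hξ₀ f hf

/-- an fppf covering sieve contains a small covering family. -/
lemma exists_small_family_fppf {X : Scheme.{u}} (𝓢 : Sieve X) (h𝓢 : 𝓢 ∈ Scheme.fppfTopology X) :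
    ∃ (ι' : Type u) (V : ι' → Scheme.{u}) (g : ∀ i, V i ⟶ X),
      Presieve.ofArrows V g ∈ Scheme.fppfPrecoverage X ∧ ∀ i, 𝓢 (g i) := by
  rw [Precoverage.mem_toGrothendieck_iff_of_isStableUnderComposition] at h𝓢
  obtain ⟨P, hP, hle⟩ := h𝓢
  rw [Precoverage.mem_iff_exists_zeroHypercover] at hP
  obtain ⟨E, rfl⟩ := hP
  have : Precoverage.Small.{u} Scheme.fppfPrecoverage.{u} := by
    unfold Scheme.fppfPrecoverage
    infer_instance
  let E' := Precoverage.ZeroHypercover.restrictIndexOfSmall.{u} E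
  refine ⟨E'.I₀, E'.X, E'.f, E'.mem₀, fun i => hle _ _ ?_⟩
  exact ⟨_⟩

end General

section EqvRel

variable {S : Scheme.{u}} {R U : Over S} {s t : R ⟶ U}

/-- an equivalence relation on points is an equivalence relation in Mathlib's sense. -/
theorem isEquivalenceRelation_of_isEqvRel (h : AlgSp.IsEqvRel s t) : IsEquivalenceRelation s t := by
  obtain ⟨r, hr1, hr2⟩ := (h.equivalence U).refl (𝟙 U)
  obtain ⟨σ, hσ1, hσ2⟩ := (h.equivalence R).symm ⟨𝟙 R, Category.id_comp t, Category.id_comp s⟩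
  have h1 : ∃ r : pullback t s ⟶ R, r ≫ t = pullback.snd t s ≫ t ∧ r ≫ s = pullback.snd t s ≫ s :=
    ⟨pullback.snd t s, rfl, rfl⟩
  have h2 : ∃ r : pullback t s ⟶ R, r ≫ t = pullback.snd t s ≫ s ∧ r ≫ s = pullback.fst t s ≫ s :=
    ⟨pullback.fst t s, pullback.condition, rfl⟩
  obtain ⟨τ, hτ1, hτ2⟩ := (h.equivalence (pullback t s)).trans h1 h2
  exact ⟨⟨{ right_cancellation := fun Y f g e1 e2 => h.injective _ f g e2 e1
            r := r
            reflexivity₁ := hr2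
            reflexivity₂ := hr1
            s := σ
            symmetry₁ := hσ2
            symmetry₂ := hσ1
            c := pullback.cone t s
            isLimit := pullback.isLimit t s
            t := τ
            transitivity₁ := hτ2
            transitivity₂ := hτ1 }⟩⟩

end EqvRel

section Restrict

variable {S : Scheme.{u}} {R U R' U' : Over S} (s t : R ⟶ U) (g : U' ⟶ U) (s' t' : R' ⟶ U')
  (r : R' ⟶ R)
  (hsq : IsPullback (prod.lift t' s') r (prod.map g g) (prod.lift t s))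

include hsq in
lemma r_t : r ≫ t = t' ≫ g := by
  have h1 := congrArg (fun m => m ≫ (prod.fst : U ⨯ U ⟶ U)) hsq.w
  simp only [Category.assoc, prod.lift_fst, prod.map_fst] at h1
  rw [← Category.assoc, prod.lift_fst] at h1
  exact h1.symm

include hsq in
lemma r_s : r ≫ s = s' ≫ g := by
  have h1 := congrArg (fun m => m ≫ (prod.snd : U ⨯ U ⟶ U)) hsq.w
  simp only [Category.assoc, prod.lift_snd, prod.map_snd] at h1
  rw [← Category.assoc, prod.lift_snd] at h1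
  exact h1.symm

include hsq in
/-- points of the restricted relation. -/
lemma exists_rel' {W : Over S} (a b : W ⟶ U') (ρ : W ⟶ R) (h1 : ρ ≫ s = a ≫ g)
    (h2 : ρ ≫ t = b ≫ g) : ∃ ρ' : W ⟶ R', ρ' ≫ s' = a ∧ ρ' ≫ t' = b := by
  have hw : prod.lift b a ≫ prod.map g g = ρ ≫ prod.lift t s := by
    apply Limits.prod.hom_ext
    · simp only [Category.assoc, prod.map_fst, prod.lift_fst]
      rw [← Category.assoc, prod.lift_fst, h2]
    · simp only [Category.assoc, prod.map_snd, prod.lift_snd]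
      rw [← Category.assoc, prod.lift_snd, h1]
  refine ⟨hsq.lift (prod.lift b a) ρ hw, ?_, ?_⟩
  · have := congrArg (fun m => m ≫ (prod.snd : U' ⨯ U' ⟶ U')) (hsq.lift_fst (prod.lift b a) ρ hw)
    simp only [Category.assoc, prod.lift_snd] at this
    exact this
  · have := congrArg (fun m => m ≫ (prod.fst : U' ⨯ U' ⟶ U')) (hsq.lift_fst (prod.lift b a) ρ hw)
    simp only [Category.assoc, prod.lift_fst] at this
    exact this

variable (φ : QuotSh.quot 𝕃 s' t' ⟶ QuotSh.quot 𝕃 s t)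
  (hφ : QuotSh.quotπ 𝕃 s' t' ≫ φ = QuotSh.repMap 𝕃 g ≫ QuotSh.quotπ 𝕃 s t)

include hφ in
lemma cls_g {W : Over S} (u : W ⟶ U') :
    QuotSh.repMap 𝕃 u ≫ QuotSh.quotπ 𝕃 s' t' ≫ φ =
      QuotSh.repMap 𝕃 (u ≫ g) ≫ QuotSh.quotπ 𝕃 s t := by
  rw [hφ, ← Category.assoc, ← repMap_comp]

include hsq hφ in
/-- the map of quotient sheaves induced by a restriction is a monomorphism. -/
theorem mono_φ [IsEquivalenceRelation s t] : Mono φ := by
  constructor
  intro A c₁ c₂ h12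
  apply Groth.Agent.Lib.Seat19.LocAff.hom_ext_rep
  intro W₀ d
  have h12' : (d ≫ c₁) ≫ φ = (d ≫ c₂) ≫ φ := by rw [Category.assoc, Category.assoc, h12]
  obtain ⟨𝓡₁, h𝓡₁, hl₁⟩ := exists_lift_locally 𝕃 s' t' (d ≫ c₁)
  obtain ⟨𝓡₂, h𝓡₂, hl₂⟩ := exists_lift_locally 𝕃 s' t' (d ≫ c₂)
  refine hom_ext_of_cover 𝕃 _ _ (𝓡₁ ⊓ 𝓡₂)
    ((QuotSh.J 𝕃 S).intersection_covering h𝓡₁ h𝓡₂) ?_
  intro W f hf
  obtain ⟨u₁, hu₁⟩ := hl₁ f hf.1
  obtain ⟨u₂, hu₂⟩ := hl₂ f hf.2
  rw [← hu₁, ← hu₂]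
  have hk : QuotSh.repMap 𝕃 (u₁ ≫ g) ≫ QuotSh.quotπ 𝕃 s t =
      QuotSh.repMap 𝕃 (u₂ ≫ g) ≫ QuotSh.quotπ 𝕃 s t := by
    rw [← cls_g s t g s' t' φ hφ, ← cls_g s t g s' t' φ hφ, ← Category.assoc, hu₁,
      ← Category.assoc _ _ φ, hu₂]
    simp only [Category.assoc]
    rw [h12]
  obtain ⟨ρ, hρ1, hρ2⟩ := exists_rel_of_eq 𝕃 s t _ _ hk
  obtain ⟨ρ', hρ'1, hρ'2⟩ := exists_rel' s t g s' t' r hsq u₁ u₂ ρ hρ1 hρ2
  rw [← hρ'1, ← hρ'2, repMap_comp, repMap_comp, Category.assoc, Category.assoc,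
    QuotSh.quot_condition]

end Restrict

section Topology

variable {S : Scheme.{u}} {R U U' : Over S} (s t : R ⟶ U) (g : U' ⟶ U)

/-- the map `U' ×_U R ⟶ U` induced by `s`. -/
noncomputable abbrev h₀ : pullback g.left t.left ⟶ U.left := pullback.snd g.left t.left ≫ s.left

/-- the set of points of `U` equivalent to a point of `U'`. -/
def WU : Set U.left := Set.range (h₀ s t g).base

lemma isOpen_WU [Flat s.left] [LocallyOfFinitePresentation s.left] [Flat g.left]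
    [LocallyOfFinitePresentation g.left] : IsOpen (WU s t g) :=
  (h₀ s t g).isOpenMap.isOpen_range

/-- `a` lands in the open set `WU`. -/
def InW {V : Over S} (a : V ⟶ U) : Prop := ∀ z : V.left, a.left.base z ∈ WU s t g

variable {s t g}

lemma inW_of_rel {V : Over S} (u' : V ⟶ U') (ρ : V ⟶ R) (h : ρ ≫ t = u' ≫ g) :
    InW s t g (ρ ≫ s) := by
  intro z
  have hcond : u'.left ≫ g.left = ρ.left ≫ t.left := congrArg (fun m => m.left) h.symm
  refine ⟨(pullback.lift u'.left ρ.left hcond).base z, ?_⟩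
  have e : pullback.lift u'.left ρ.left hcond ≫ h₀ s t g = (ρ ≫ s).left := by
    rw [← Category.assoc, pullback.lift_snd]
    rfl
  have := congrArg (fun m => m.base z) e
  simpa using this

variable (s t g) in
lemma exists_chart [Flat s.left] [LocallyOfFinitePresentation s.left] [Flat g.left]
    [LocallyOfFinitePresentation g.left] {V : Over S} (a : V ⟶ U) :
    ∃ (P : Over S) (p : P ⟶ V) (u' : P ⟶ U') (ρ : P ⟶ R), Flat p.left ∧
      LocallyOfFinitePresentation p.left ∧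
      Set.range p.left.base = a.left.base ⁻¹' WU s t g ∧ ρ ≫ s = p ≫ a ∧ ρ ≫ t = u' ≫ g := by
  let q := pullback.snd a.left (h₀ s t g)
  have hc : pullback.fst a.left (h₀ s t g) ≫ a.left = q ≫ pullback.snd g.left t.left ≫ s.left :=
    pullback.condition
  have hR : pullback.fst a.left (h₀ s t g) ≫ V.hom = (q ≫ pullback.snd g.left t.left) ≫ R.hom := by
    rw [← Over.w a, ← Category.assoc, hc, ← Over.w s]
    simp only [Category.assoc]
  have hU' : pullback.fst a.left (h₀ s t g) ≫ V.hom = (q ≫ pullback.fst g.left t.left) ≫ U'.hom := by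
    rw [hR, ← Over.w t, ← Over.w g]
    simp only [Category.assoc]
    rw [pullback.condition_assoc]
  refine ⟨Over.mk (pullback.fst a.left (h₀ s t g) ≫ V.hom),
    Over.homMk (pullback.fst a.left (h₀ s t g)) rfl,
    Over.homMk (q ≫ pullback.fst g.left t.left) hU'.symm,
    Over.homMk (q ≫ pullback.snd g.left t.left) hR.symm, ?_, ?_, ?_, ?_, ?_⟩
  · change Flat (pullback.fst a.left (h₀ s t g))
    infer_instance
  · change LocallyOfFinitePresentation (pullback.fst a.left (h₀ s t g))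
    infer_instance
  · exact Scheme.Pullback.range_fst a.left (h₀ s t g)
  · apply Over.OverMorphism.ext
    change (q ≫ pullback.snd g.left t.left) ≫ s.left = pullback.fst a.left (h₀ s t g) ≫ a.left
    rw [hc, Category.assoc]
  · apply Over.OverMorphism.ext
    change (q ≫ pullback.snd g.left t.left) ≫ t.left = (q ≫ pullback.fst g.left t.left) ≫ g.left
    rw [Category.assoc, Category.assoc, pullback.condition]

lemma inW_sat [IsEquivalenceRelation s t] [Flat s.left] [LocallyOfFinitePresentation s.left]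
    [Flat g.left] [LocallyOfFinitePresentation g.left] {V : Over S} (a b : V ⟶ U) (ρ : V ⟶ R)
    (h1 : ρ ≫ s = a) (h2 : ρ ≫ t = b) (z : V.left) (hz : a.left.base z ∈ WU s t g) :
    b.left.base z ∈ WU s t g := by
  obtain ⟨P, p, u', ρ', -, -, hrange, e1, e2⟩ := exists_chart s t g a
  have hz' : z ∈ Set.range p.left.base := by rw [hrange]; exact hz
  obtain ⟨ω, rfl⟩ := hz'
  have E := rel_equivalence s t P
  have r1 : rel s t P ⟨p ≫ a⟩ ⟨p ≫ b⟩ :=
    ⟨p ≫ ρ, by rw [Category.assoc, h1], by rw [Category.assoc, h2]⟩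
  have r2 : rel s t P ⟨p ≫ a⟩ ⟨u' ≫ g⟩ := ⟨ρ', e1, e2⟩
  obtain ⟨ρ₁, h3, h4⟩ := E.trans (E.symm r1) r2
  have h5 := inW_of_rel (s := s) u' ρ₁ h4 ω
  have h6 : ρ₁ ≫ s = p ≫ b := h3
  rw [h6] at h5
  simpa using h5

end Topology

section Local

variable {S : Scheme.{u}} {R U R' U' : Over S} (s t : R ⟶ U) (g : U' ⟶ U) (s' t' : R' ⟶ U')
  (r : R' ⟶ R)
  (hsq : IsPullback (prod.lift t' s') r (prod.map g g) (prod.lift t s))
  (φ : QuotSh.quot 𝕃 s' t' ⟶ QuotSh.quot 𝕃 s t)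
  (hφ : QuotSh.quotπ 𝕃 s' t' ≫ φ = QuotSh.repMap 𝕃 g ≫ QuotSh.quotπ 𝕃 s t)
  [IsEquivalenceRelation s t] [Flat s.left] [LocallyOfFinitePresentation s.left]
  [Flat g.left] [LocallyOfFinitePresentation g.left]

include hsq hφ in
/-- the class of a point `a` of `U` comes from `U'/R'` iff `a` lands in the open set `WU`. -/
theorem exists_iff_inW {V : Over S} (a : V ⟶ U) :
    (∃ η : QuotSh.rep 𝕃 V ⟶ QuotSh.quot 𝕃 s' t',
      η ≫ φ = QuotSh.repMap 𝕃 a ≫ QuotSh.quotπ 𝕃 s t) ↔ InW s t g a := by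
  constructor
  · rintro ⟨η, hη⟩ z
    obtain ⟨𝓡, h𝓡, hl⟩ := exists_lift_locally 𝕃 s' t' η
    have h1 : Sieve.overEquiv V 𝓡 ∈ Scheme.fpqcTopology V.left :=
      Scheme.fppfTopology_le_fpqcTopology _ ((GrothendieckTopology.mem_over_iff _ _).mp h𝓡)
    obtain ⟨W', f', hf', w, rfl⟩ :=
      Groth.Agent.Lib.Seat19.OpenGraph.exists_mem_range_of_mem_fpqc _ h1 z
    have hf'' := (Sieve.overEquiv_iff _ _).mp hf'
    obtain ⟨u', hu'⟩ := hl _ hf''
    have hk : QuotSh.repMap 𝕃 ((Over.homMk f' : Over.mk (f' ≫ V.hom) ⟶ V) ≫ a) ≫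
        QuotSh.quotπ 𝕃 s t = QuotSh.repMap 𝕃 (u' ≫ g) ≫ QuotSh.quotπ 𝕃 s t := by
      rw [← cls_g s t g s' t' φ hφ, ← Category.assoc, hu', Category.assoc, hη, repMap_comp,
        Category.assoc]
    obtain ⟨ρ, hρ1, hρ2⟩ := exists_rel_of_eq 𝕃 s t _ _ hk
    have h5 := inW_of_rel (s := s) u' ρ hρ2 w
    rw [hρ1] at h5
    simpa using h5
  · intro ha
    obtain ⟨P, p, u', ρ, hfl, hlfp, hrange, e1, e2⟩ := exists_chart s t g a
    have hsurj : Surjective p.left := by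
      refine ⟨fun z => ?_⟩
      have : z ∈ Set.range p.left.base := by rw [hrange]; exact ha z
      exact this
    obtain ⟨σ, hσ, -⟩ := existsUnique_quotSection s' t' u' p (fun T' z₁ z₂ h12 => by
      have E := rel_equivalence s t T'
      have r1 : rel s t T' ⟨z₁ ≫ p ≫ a⟩ ⟨z₁ ≫ u' ≫ g⟩ :=
        ⟨z₁ ≫ ρ, by rw [Category.assoc, e1], by rw [Category.assoc, e2]⟩
      have r2 : rel s t T' ⟨z₁ ≫ p ≫ a⟩ ⟨z₂ ≫ u' ≫ g⟩ :=
        ⟨z₂ ≫ ρ, by rw [Category.assoc, e1, ← Category.assoc, ← h12, Category.assoc],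
          by rw [Category.assoc, e2]⟩
      obtain ⟨ρ₂, h3, h4⟩ := E.trans (E.symm r1) r2
      exact exists_rel' s t g s' t' r hsq (z₁ ≫ u') (z₂ ≫ u') ρ₂
        (h3.trans (Category.assoc _ _ _).symm) (h4.trans (Category.assoc _ _ _).symm))
    refine ⟨σ, ?_⟩
    have hepi : Epi (QuotSh.repMap 𝕃 p) := epi_repMap_fppf p
    rw [← cancel_epi (QuotSh.repMap 𝕃 p), ← Category.assoc, ← hσ, Category.assoc,
      cls_g s t g s' t' φ hφ, ← e2, repMap_comp, Category.assoc, ← QuotSh.quot_condition,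
      ← Category.assoc, ← repMap_comp, e1, repMap_comp, Category.assoc]

end Local

section Pred

variable (K : Precoverage Scheme.{u}) {S : Scheme.{u}} {T : Over S}
  (PO : ∀ ⦃T₁ : Over S⦄, (T₁ ⟶ T) → Prop)
  (hcomp : ∀ ⦃T₁ T₂ : Over S⦄ (p : T₁ ⟶ T) (k : T₂ ⟶ T₁), PO p → PO (k ≫ p))
  (hloc : ∀ ⦃T₁ : Over S⦄ (p : T₁ ⟶ T) (𝓡 : Sieve T₁), 𝓡 ∈ QuotSh.J K S T₁ →
    (∀ ⦃W : Over S⦄ (f : W ⟶ T₁), 𝓡 f → PO (f ≫ p)) → PO p)

/-- the scheme-level version of a predicate on points over `S`. -/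
def PS {T₀ : Scheme.{u}} (q : T₀ ⟶ T.left) : Prop :=
  PO (Over.homMk q : Over.mk (q ≫ T.hom) ⟶ T)

include hcomp in
lemma pS_iff {T₁ : Over S} (p : T₁ ⟶ T) : PS PO p.left ↔ PO p := by
  let e : Over.mk (p.left ≫ T.hom) ≅ T₁ :=
    Over.isoMk (Iso.refl _) ((Category.id_comp _).trans (Over.w p).symm)
  have he : e.hom ≫ p = (Over.homMk p.left : Over.mk (p.left ≫ T.hom) ⟶ T) := by
    apply Over.OverMorphism.ext
    simp [e]
  unfold PS
  rw [← he]
  constructor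
  · intro h
    have := hcomp _ e.inv h
    rwa [Iso.inv_hom_id_assoc] at this
  · intro h
    exact hcomp _ e.hom h

include hcomp in
lemma pS_comp {T₀ T₁ : Scheme.{u}} (q : T₀ ⟶ T.left) (hq : PS PO q) (h : T₁ ⟶ T₀) :
    PS PO (h ≫ q) := by
  let ĥ : Over.mk ((h ≫ q) ≫ T.hom) ⟶ Over.mk (q ≫ T.hom) := Over.homMk h (by simp)
  have he : ĥ ≫ (Over.homMk q : Over.mk (q ≫ T.hom) ⟶ T) =
      (Over.homMk (h ≫ q) : Over.mk ((h ≫ q) ≫ T.hom) ⟶ T) := by
    apply Over.OverMorphism.ext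
    rfl
  unfold PS
  rw [← he]
  exact hcomp _ ĥ hq

include hcomp hloc in
lemma pS_of_cover {T₀ : Scheme.{u}} (q : T₀ ⟶ T.left) (R₀ : Presieve T₀) (hR₀ : R₀ ∈ K T₀)
    (h : ∀ ⦃T₁ : Scheme.{u}⦄ (f : T₁ ⟶ T₀), R₀ f → PS PO (f ≫ q)) : PS PO q := by
  unfold PS
  refine hloc _ ((Sieve.overEquiv (Over.mk (q ≫ T.hom))).symm (Sieve.generate R₀))
    (GrothendieckTopology.overEquiv_symm_mem_over _ _ _
      (Precoverage.generate_mem_toGrothendieck hR₀)) ?_
  intro W f hf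
  rw [Sieve.overEquiv_symm_iff] at hf
  obtain ⟨T₁, a, h₁, hh₁, hfac⟩ := hf
  have hg := h h₁ hh₁
  let â : W ⟶ Over.mk ((h₁ ≫ q) ≫ T.hom) := Over.homMk a (by
    have := Over.w f
    change a ≫ (h₁ ≫ q) ≫ T.hom = W.hom
    rw [← this, ← hfac]
    simp)
  have he : â ≫ (Over.homMk (h₁ ≫ q) : Over.mk ((h₁ ≫ q) ≫ T.hom) ⟶ T) =
      f ≫ (Over.homMk q : Over.mk (q ≫ T.hom) ⟶ T) := by
    apply Over.OverMorphism.ext
    change a ≫ h₁ ≫ q = f.left ≫ q
    rw [← hfac, Category.assoc]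
  rw [← he]
  exact hcomp _ â hg

end Pred

section Assemble

variable {S : Scheme.{u}} {R U R' U' : Over S} (s t : R ⟶ U) (g : U' ⟶ U) (s' t' : R' ⟶ U')
  (r : R' ⟶ R)
  (hsq : IsPullback (prod.lift t' s') r (prod.map g g) (prod.lift t s))
  (φ : QuotSh.quot 𝕃 s' t' ⟶ QuotSh.quot 𝕃 s t)
  (hφ : QuotSh.quotπ 𝕃 s' t' ≫ φ = QuotSh.repMap 𝕃 g ≫ QuotSh.quotπ 𝕃 s t)
  [IsEquivalenceRelation s t] [Flat s.left] [LocallyOfFinitePresentation s.left]
  [Flat g.left] [LocallyOfFinitePresentation g.left]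
  {T : Over S} (ξ : QuotSh.rep 𝕃 T ⟶ QuotSh.quot 𝕃 s t)

/-- the restriction of `ξ` along `p` comes from `U'/R'`. -/
def PO ⦃T₁ : Over S⦄ (p : T₁ ⟶ T) : Prop :=
  ∃ η : QuotSh.rep 𝕃 T₁ ⟶ QuotSh.quot 𝕃 s' t', η ≫ φ = QuotSh.repMap 𝕃 p ≫ ξ

omit [IsEquivalenceRelation s t] [Flat s.left] [LocallyOfFinitePresentation s.left] in
lemma pO_comp ⦃T₁ T₂ : Over S⦄ (p : T₁ ⟶ T) (k : T₂ ⟶ T₁) (h : PO s t s' t' φ ξ p) :
    PO s t s' t' φ ξ (k ≫ p) := by
  obtain ⟨η, hη⟩ := h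
  exact ⟨QuotSh.repMap 𝕃 k ≫ η, by rw [Category.assoc, hη, repMap_comp, Category.assoc]⟩

omit [IsEquivalenceRelation s t] [Flat s.left] [LocallyOfFinitePresentation s.left] in
lemma pO_loc [Mono φ] ⦃T₁ : Over S⦄ (p : T₁ ⟶ T) (𝓡 : Sieve T₁) (h𝓡 : 𝓡 ∈ QuotSh.J 𝕃 S T₁)
    (h : ∀ ⦃W : Over S⦄ (f : W ⟶ T₁), 𝓡 f → PO s t s' t' φ ξ (f ≫ p)) : PO s t s' t' φ ξ p := by
  choose η hη using h
  obtain ⟨η₀, hη₀⟩ := exists_glue_of_cover 𝕃 𝓡 h𝓡 η (by
    intro W W' f hf k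
    rw [← cancel_mono φ, Category.assoc, hη, hη]
    simp only [repMap_comp, Category.assoc])
  refine ⟨η₀, ?_⟩
  refine hom_ext_of_cover 𝕃 _ _ 𝓡 h𝓡 ?_
  intro W f hf
  rw [← Category.assoc, hη₀ f hf, hη, repMap_comp, Category.assoc]

include hsq hφ in
/-- the open subset of `T` over which `ξ` comes from `U'/R'`. -/
theorem exists_open_rep [Mono φ] : ∃ VT : T.left.Opens, ∀ ⦃T₀ : Scheme.{u}⦄ (q : T₀ ⟶ T.left),
    PS (PO s t s' t' φ ξ) q ↔ ∀ z : T₀, q.base z ∈ VT := by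
  obtain ⟨𝓡, h𝓡, hl⟩ := exists_lift_locally 𝕃 s t ξ
  have h𝓢 : Sieve.overEquiv T 𝓡 ∈ Scheme.fppfTopology T.left :=
    (GrothendieckTopology.mem_over_iff _ _).mp h𝓡
  obtain ⟨ι', V, gg, hgg, hmem⟩ := exists_small_family_fppf _ h𝓢
  have hmem' : ∀ i, 𝓡 (Over.homMk (gg i) : Over.mk (gg i ≫ T.hom) ⟶ T) :=
    fun i => (Sieve.overEquiv_iff _ _).mp (hmem i)
  choose x hx using fun i => hl _ (hmem' i)
  let O : ∀ i, (V i).Opens := fun i =>
    ⟨(x i).left.base ⁻¹' WU s t g, (isOpen_WU s t g).preimage (x i).left.continuous⟩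
  have hcompat : ∀ i j (z : ↥(pullback (gg i) (gg j))),
      (pullback.fst (gg i) (gg j)).base z ∈ O i ↔ (pullback.snd (gg i) (gg j)).base z ∈ O j := by
    intro i j z
    let Vij : Over S := Over.mk (pullback.fst (gg i) (gg j) ≫ gg i ≫ T.hom)
    let p₁ : Vij ⟶ Over.mk (gg i ≫ T.hom) := Over.homMk (pullback.fst (gg i) (gg j)) rfl
    let p₂ : Vij ⟶ Over.mk (gg j ≫ T.hom) := Over.homMk (pullback.snd (gg i) (gg j)) (by
      change pullback.snd (gg i) (gg j) ≫ gg j ≫ T.hom = pullback.fst (gg i) (gg j) ≫ gg i ≫ T.hom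
      rw [pullback.condition_assoc])
    have e12 : p₁ ≫ (Over.homMk (gg i) : Over.mk (gg i ≫ T.hom) ⟶ T) =
        p₂ ≫ (Over.homMk (gg j) : Over.mk (gg j ≫ T.hom) ⟶ T) := by
      apply Over.OverMorphism.ext
      exact pullback.condition
    have hk : QuotSh.repMap 𝕃 (p₁ ≫ x i) ≫ QuotSh.quotπ 𝕃 s t =
        QuotSh.repMap 𝕃 (p₂ ≫ x j) ≫ QuotSh.quotπ 𝕃 s t := by
      rw [repMap_comp, Category.assoc, hx i, ← Category.assoc, ← repMap_comp, e12, repMap_comp,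
        Category.assoc, ← hx j, ← Category.assoc, ← repMap_comp]
    obtain ⟨ρ, hρ1, hρ2⟩ := exists_rel_of_eq 𝕃 s t _ _ hk
    obtain ⟨ρ', hρ'1, hρ'2⟩ := exists_rel_of_eq 𝕃 s t _ _ hk.symm
    constructor
    · intro hz
      exact inW_sat (g := g) (p₁ ≫ x i) (p₂ ≫ x j) ρ hρ1 hρ2 z hz
    · intro hz
      exact inW_sat (g := g) (p₂ ≫ x j) (p₁ ≫ x i) ρ' hρ'1 hρ'2 z hz
  obtain ⟨VT, hVT⟩ := Groth.Agent.S6045.exists_open gg
    (Scheme.fppfPrecoverage_le_fpqcPrecoverage _ hgg) O hcompat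
  refine ⟨VT, ?_⟩
  intro T₀ q
  -- the base-changed cover of `T₀`
  let Tq : Over S := Over.mk (q ≫ T.hom)
  let qh : Tq ⟶ T := Over.homMk q
  let Ti : ι' → Over S := fun i => Over.mk (pullback.snd (gg i) q ≫ q ≫ T.hom)
  let k₁ : ∀ i, Ti i ⟶ Tq := fun i => Over.homMk (pullback.snd (gg i) q) rfl
  let k₂ : ∀ i, Ti i ⟶ Over.mk (gg i ≫ T.hom) := fun i => Over.homMk (pullback.fst (gg i) q) (by
    change pullback.fst (gg i) q ≫ gg i ≫ T.hom = pullback.snd (gg i) q ≫ q ≫ T.hom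
    rw [pullback.condition_assoc])
  have e12 : ∀ i, k₁ i ≫ qh = k₂ i ≫ (Over.homMk (gg i) : Over.mk (gg i ≫ T.hom) ⟶ T) := by
    intro i
    apply Over.OverMorphism.ext
    exact pullback.condition.symm
  have hclaim : ∀ i, PO s t s' t' φ ξ (k₁ i ≫ qh) ↔ InW s t g (k₂ i ≫ x i) := by
    intro i
    rw [← exists_iff_inW s t g s' t' r hsq φ hφ]
    unfold PO
    rw [e12 i, repMap_comp, Category.assoc, ← hx i, ← Category.assoc, ← repMap_comp]
  have hInW : ∀ i, InW s t g (k₂ i ≫ x i) ↔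
      ∀ w : ↥(pullback (gg i) q), q.base ((pullback.snd (gg i) q).base w) ∈ VT := by
    intro i
    have h1 : ∀ w : ↥(pullback (gg i) q), q.base ((pullback.snd (gg i) q).base w) =
        (gg i).base ((pullback.fst (gg i) q).base w) := by
      intro w
      have := congrArg (fun m => m.base w) (pullback.condition (f := gg i) (g := q))
      simpa using this.symm
    constructor
    · intro h w
      rw [h1]
      have h2 : (pullback.fst (gg i) q).base w ∈ (gg i) ⁻¹ᵁ VT := by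
        rw [hVT i]
        exact h w
      exact h2
    · intro h w
      have h2 : (pullback.fst (gg i) q).base w ∈ (gg i) ⁻¹ᵁ VT := by
        change (gg i).base ((pullback.fst (gg i) q).base w) ∈ VT
        rw [← h1]
        exact h w
      rw [hVT i] at h2
      exact h2
  have hcov : Presieve.ofArrows (fun i => pullback (gg i) q) (fun i => pullback.snd (gg i) q) ∈
      Scheme.fppfPrecoverage T₀ := by
    rw [Presieve.ofArrows_pullback]
    exact Precoverage.pullbackArrows_mem q hgg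
  constructor
  · intro hq z
    have hjs : Presieve.ofArrows V gg ∈ Scheme.jointlySurjectivePrecoverage T.left :=
      Scheme.fppfPrecoverage_le_fpqcPrecoverage _ hgg |>.2.1
    rw [Scheme.jointlySurjectivePrecoverage,
      Presieve.mem_comap_jointlySurjectivePrecoverage_iff] at hjs
    obtain ⟨_, _, ⟨i⟩, v, hv⟩ := hjs (q.base z)
    obtain ⟨w, -, hw2⟩ := Scheme.Pullback.exists_preimage_pullback v z hv
    have h3 := (hInW i).mp ((hclaim i).mp (pO_comp s t s' t' φ ξ qh (k₁ i) hq)) w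
    rw [hw2] at h3
    exact h3
  · intro hq
    refine pS_of_cover 𝕃 (PO s t s' t' φ ξ) (pO_comp s t s' t' φ ξ)
      (pO_loc s t s' t' φ ξ) q _ hcov ?_
    rintro T₁ f ⟨i⟩
    exact (pS_iff (PO s t s' t' φ ξ) (pO_comp s t s' t' φ ξ) (k₁ i ≫ qh)).mpr
      ((hclaim i).mpr ((hInW i).mpr (fun w => hq _)))

include hsq hφ in
/-- the pullback of `U'/R' ⟶ U/R` along a section over `T` is an open subscheme of `T`. -/
theorem exists_pullback_rep [Mono φ] : ∃ (W : Over S) (ιT : W ⟶ T)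
    (η : QuotSh.rep 𝕃 W ⟶ QuotSh.quot 𝕃 s' t'), IsOpenImmersion ιT.left ∧
      IsPullback η (QuotSh.repMap 𝕃 ιT) φ ξ := by
  obtain ⟨VT, hVT⟩ := exists_open_rep s t g s' t' r hsq φ hφ ξ
  let W : Over S := Over.mk (VT.ι ≫ T.hom)
  let ιT : W ⟶ T := Over.homMk VT.ι rfl
  have hcomp := pO_comp s t s' t' φ ξ
  have hP : PO s t s' t' φ ξ ιT := by
    refine (pS_iff _ hcomp ιT).mp ((hVT VT.ι).mpr (fun z => ?_))
    exact z.2
  obtain ⟨η, hη⟩ := hP
  refine ⟨W, ιT, η, (inferInstance : IsOpenImmersion VT.ι), ?_⟩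
  let ψ : QuotSh.rep 𝕃 W ⟶ pullback φ ξ := pullback.lift η (QuotSh.repMap 𝕃 ιT) hη
  have hmonoι : Mono ιT := by
    have : Mono ιT.left := (inferInstance : Mono VT.ι)
    exact (Over.forget S).mono_of_mono_map this
  have hmono : Mono ψ := by
    have h1 : Mono (QuotSh.repMap 𝕃 ιT) := (repFunctor 𝕃 S).map_mono ιT
    have : Mono (ψ ≫ pullback.snd φ ξ) := by
      rw [pullback.lift_snd]
      exact h1
    exact mono_of_mono ψ (pullback.snd φ ξ)
  have hepi : Epi ψ := by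
    constructor
    intro Y m₁ m₂ h12
    apply Groth.Agent.Lib.Seat19.LocAff.hom_ext_rep
    intro W₀ c
    let τ : W₀ ⟶ T := (repFunctorFullyFaithful 𝕃).preimage (c ≫ pullback.snd φ ξ)
    have hτ : QuotSh.repMap 𝕃 τ = c ≫ pullback.snd φ ξ :=
      (repFunctorFullyFaithful 𝕃).map_preimage _
    have hPτ : PO s t s' t' φ ξ τ :=
      ⟨c ≫ pullback.fst φ ξ, by rw [Category.assoc, pullback.condition, ← Category.assoc, hτ]⟩
    have hz := (hVT τ.left).mp ((pS_iff _ hcomp τ).mpr hPτ)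
    have hrange : Set.range τ.left.base ⊆ Set.range VT.ι.base := by
      rintro _ ⟨z, rfl⟩
      rw [Scheme.Opens.range_ι]
      exact hz z
    let l₀ : W₀.left ⟶ VT.toScheme := IsOpenImmersion.lift VT.ι τ.left hrange
    have hl₀ : l₀ ≫ VT.ι = τ.left := IsOpenImmersion.lift_fac _ _ _
    let l : W₀ ⟶ W := Over.homMk l₀ (by
      change l₀ ≫ VT.ι ≫ T.hom = W₀.hom
      rw [← Category.assoc, hl₀, Over.w τ])
    have hl : l ≫ ιT = τ := by
      apply Over.OverMorphism.ext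
      exact hl₀
    have hc : c = QuotSh.repMap 𝕃 l ≫ ψ := by
      apply pullback.hom_ext
      · rw [Category.assoc, pullback.lift_fst, ← cancel_mono φ, Category.assoc, Category.assoc,
          hη, pullback.condition, ← Category.assoc, ← hτ, ← Category.assoc, ← repMap_comp, hl]
      · rw [Category.assoc, pullback.lift_snd, ← repMap_comp, hl, hτ]
    rw [hc, Category.assoc, Category.assoc, h12]
  have hiso : IsIso ψ := ToposLike.isIso_of_mono_of_epi ψ hmono hepi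
  exact IsPullback.of_iso_pullback ⟨hη⟩ (asIso ψ) (pullback.lift_fst _ _ _)
    (pullback.lift_snd _ _ _)

end Assemble

section Final

variable {S : Scheme.{u}} {R U R' U' : Over S} (s t : R ⟶ U) (g : U' ⟶ U) (s' t' : R' ⟶ U')
  (r : R' ⟶ R)
  (hsq : IsPullback (prod.lift t' s') r (prod.map g g) (prod.lift t s))
  (hR : AlgSp.IsEqvRel s t)
  [Flat s.left] [LocallyOfFinitePresentation s.left]
  [Flat g.left] [LocallyOfFinitePresentation g.left]
  (φ : QuotSh.quot 𝕃 s' t' ⟶ QuotSh.quot 𝕃 s t)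
  (hφ : QuotSh.quotπ 𝕃 s' t' ≫ φ = QuotSh.repMap 𝕃 g ≫ QuotSh.quotπ 𝕃 s t)

include hsq hR hφ in
/-- **the map of fppf quotient sheaves induced by a flat locally finitely presented restriction is
representable by open immersions** (S9870). -/
theorem repWith : AlgSp.RepWith @IsOpenImmersion φ := by
  have := isEquivalenceRelation_of_isEqvRel hR
  have hmono : Mono φ := mono_φ s t g s' t' r hsq φ hφ
  have hfull : (AlgSp.yon S).Full :=
    ((QuotSh.J 𝕃 S).fullyFaithfulUliftYoneda.{u + 1}).full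
  have hfaith : (AlgSp.yon S).Faithful :=
    ((QuotSh.J 𝕃 S).fullyFaithfulUliftYoneda.{u + 1}).faithful
  apply MorphismProperty.relative.of_exists
  intro T ξ
  let eT : QuotSh.rep 𝕃 T ≅ (AlgSp.yon S).obj T := (repFunctorIso 𝕃 (S := S)).app T
  obtain ⟨W, ιT, η, hopen, hpb⟩ := exists_pullback_rep s t g s' t' r hsq φ hφ (eT.hom ≫ ξ)
  let eW : QuotSh.rep 𝕃 W ≅ (AlgSp.yon S).obj W := (repFunctorIso 𝕃 (S := S)).app W
  refine ⟨W, eW.inv ≫ η, ιT, ?_, hopen⟩
  refine IsPullback.of_iso hpb eW (Iso.refl _) eT (Iso.refl _) ?_ ?_ ?_ ?_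
  · exact (Category.comp_id _).trans (Iso.hom_inv_id_assoc eW η).symm
  · exact (repFunctorIso 𝕃 (S := S)).hom.naturality ιT
  · simp
  · simp

end Final

end Groth.Agent.Lib.Seat19.QuotOpen
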