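import Mathlib
import Groth.Prelude.Def_AlgSp
import Groth.Agent.Lib.Seat19LocRepY
import Groth.Agent.Lib.Seat19QuotOpen
import Groth.Agent.Lib.Helper12Torsor

/-!
# The quotient map of an etale equivalence relation is a presentation (seat 19)

* `rho_nat`: naturality of the frozen `QuotSh.repIsoUliftYoneda`.
* `prop_of_cover`: a property of the represented base change of a map of sheaves which descends
  along fpqc covers can be checked after an fppf cover of the base.
* `isKernelPair_yon`: `h_R = h_U ×_{U/R} h_U` for an equivalence relation.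
* `repWith_quotπ`: the quotient map is representable with property `P` if `U/R` is an algebraic
  space, `s` has `P` and `P` descends.
-/

set_option autoImplicit false
universe u

open CategoryTheory Limits AlgebraicGeometry Opposite
open Groth.Agent.Lib.Seat19.QuotPts Groth.Agent.Lib.Seat19.FppfFpqc
open Groth.Agent.Lib.Helper9 Groth.Agent.Lib.Helper12.QuotShLib

namespace Groth.Agent.Lib.Seat19.Present

local notation "𝕃" => Scheme.fppfPrecoverage

variable {S : Scheme.{u}}

/-- naturality of the comparison `rep V ≅ h_V` of the prelude. -/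
lemma rho_nat {V W : Over S} (g : V ⟶ W) :
    (AlgSp.yon S).map g ≫ (QuotSh.repIsoUliftYoneda 𝕃 W).inv =
      (QuotSh.repIsoUliftYoneda 𝕃 V).inv ≫ QuotSh.repMap 𝕃 g :=
  (sheafificationNatIso (QuotSh.J 𝕃 S) (Type (u + 1))).hom.naturality ((AlgSp.yon S).map g)

lemma rho_nat' {V W : Over S} (g : V ⟶ W) :
    QuotSh.repMap 𝕃 g ≫ (QuotSh.repIsoUliftYoneda 𝕃 W).hom =
      (QuotSh.repIsoUliftYoneda 𝕃 V).hom ≫ (AlgSp.yon S).map g := by
  rw [← Iso.inv_comp_eq, ← Category.assoc, ← rho_nat, Category.assoc, Iso.inv_hom_id,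
    Category.comp_id]

section Cover

variable (P : MorphismProperty Scheme.{u}) [P.IsStableUnderBaseChange]
  [IsZariskiLocalAtTarget P]
  (hP : P.DescendsAlong (@Surjective ⊓ @Flat ⊓ @QuasiCompact : MorphismProperty Scheme.{u}))

include hP in
/-- a descending property of the represented base change can be checked on an fpqc cover. -/
theorem prop_of_cover {F G : AlgSp.Sp S} (f : G ⟶ F) {T V : Over S}
    (ξ : (AlgSp.yon S).obj T ⟶ F) (v : V ⟶ T) (fstV : (AlgSp.yon S).obj V ⟶ G)
    (hV : IsPullback fstV ((AlgSp.yon S).map v) f ξ)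
    {ι' : Type u} (Ti : ι' → Over S) (gi : ∀ i, Ti i ⟶ T)
    (hcov : Presieve.ofArrows (fun i => (Ti i).left) (fun i => (gi i).left) ∈
      Scheme.fpqcPrecoverage T.left)
    (Vi : ι' → Over S) (vi : ∀ i, Vi i ⟶ Ti i) (fi : ∀ i, (AlgSp.yon S).obj (Vi i) ⟶ G)
    (hVi : ∀ i, IsPullback (fi i) ((AlgSp.yon S).map (vi i)) f ((AlgSp.yon S).map (gi i) ≫ ξ))
    (hPi : ∀ i, P (vi i).left) : P v.left := by
  have hfull : (AlgSp.yon S).Full :=
    ((QuotSh.J 𝕃 S).fullyFaithfulUliftYoneda.{u + 1}).full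
  have hfaith : (AlgSp.yon S).Faithful :=
    ((QuotSh.J 𝕃 S).fullyFaithfulUliftYoneda.{u + 1}).faithful
  have hresp : P.RespectsIso := MorphismProperty.IsStableUnderBaseChange.respectsIso
  refine Groth.Agent.Lib.Helper12.of_mem_fpqcPrecoverage hP v.left _ hcov ?_
  rintro Y' f' ⟨i⟩
  -- the pullback in `Over S`
  have hW : IsPullback (pullback.fst v (gi i)) (pullback.snd v (gi i)) v (gi i) :=
    IsPullback.of_hasPullback v (gi i)
  have hWl : IsPullback (pullback.fst v (gi i)).left (pullback.snd v (gi i)).left v.left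
      (gi i).left := hW.map (Over.forget S)
  have e1 : pullback.snd v.left (gi i).left =
      hWl.isoPullback.inv ≫ (pullback.snd v (gi i)).left := by
    rw [Iso.eq_inv_comp]
    exact hWl.isoPullback_hom_snd
  rw [e1]
  refine (P.cancel_left_of_respectsIso _ _).mpr ?_
  -- compare with `Vi i`
  have hWy : IsPullback ((AlgSp.yon S).map (pullback.snd v (gi i)))
      ((AlgSp.yon S).map (pullback.fst v (gi i))) ((AlgSp.yon S).map (gi i))
      ((AlgSp.yon S).map v) := hW.flip.map (AlgSp.yon S)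
  have hbig : IsPullback ((AlgSp.yon S).map (pullback.fst v (gi i)) ≫ fstV)
      ((AlgSp.yon S).map (pullback.snd v (gi i))) f ((AlgSp.yon S).map (gi i) ≫ ξ) :=
    (hWy.flip.paste_horiz hV)
  let e : (AlgSp.yon S).obj (pullback v (gi i)) ≅ (AlgSp.yon S).obj (Vi i) :=
    hbig.isoIsPullback _ _ (hVi i)
  have he : e.hom ≫ (AlgSp.yon S).map (vi i) = (AlgSp.yon S).map (pullback.snd v (gi i)) :=
    IsPullback.isoIsPullback_hom_snd _ _ hbig (hVi i)
  let ε : pullback v (gi i) ≅ Vi i := (AlgSp.yon S).preimageIso e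
  have hε : ε.hom ≫ vi i = pullback.snd v (gi i) := by
    apply (AlgSp.yon S).map_injective
    rw [Functor.map_comp]
    change (AlgSp.yon S).map ((AlgSp.yon S).preimage e.hom) ≫ _ = _
    rw [Functor.map_preimage]
    exact he
  have e2 : (pullback.snd v (gi i)).left = ε.hom.left ≫ (vi i).left := by
    rw [← hε]
    rfl
  rw [e2]
  have hiso : IsIso ε.hom.left := (Over.forget S).map_isIso ε.hom
  exact (P.cancel_left_of_respectsIso _ _).mpr (hPi i)

end Cover

section Quot

variable {R U : Over S} (s t : R ⟶ U)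

/-- the quotient map on `h_U`. -/
noncomputable abbrev πY : (AlgSp.yon S).obj U ⟶ QuotSh.quot 𝕃 s t :=
  (QuotSh.repIsoUliftYoneda 𝕃 U).inv ≫ QuotSh.quotπ 𝕃 s t

/-- `h_R = h_U ×_{U/R} h_U`. -/
theorem isKernelPair_yon (h : AlgSp.IsEqvRel s t) :
    IsPullback ((AlgSp.yon S).map t) ((AlgSp.yon S).map s) (πY s t) (πY s t) := by
  have := Groth.Agent.Lib.Seat19.QuotOpen.isEquivalenceRelation_of_isEqvRel h
  obtain ⟨e⟩ := IsEquivalenceRelation.nonempty_equivalenceRelation (p₁ := s) (p₂ := t)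
  have : JointlyMono₂ s t := e.toReflexiveRelation.toJointlyMono₂
  have : JointlyMono₂ ((repFunctor 𝕃 S).map s) ((repFunctor 𝕃 S).map t) :=
    jointlyMono₂_map (repFunctor 𝕃 S) s t
  have e' : EquivalenceRelation (QuotSh.repMap 𝕃 s) (QuotSh.repMap 𝕃 t) :=
    equivalenceRelationMap (repFunctor 𝕃 S) s t e
  have hk : IsKernelPair (QuotSh.quotπ 𝕃 s t) (QuotSh.repMap 𝕃 s) (QuotSh.repMap 𝕃 t) :=
    sheaf_isKernelPair_of_isColimit (QuotSh.J 𝕃 S) e' (QuotSh.quotπ 𝕃 s t)
      (QuotSh.quot_condition 𝕃 s t) (coequalizerIsCoequalizer _ _)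
  have hk' : IsPullback (QuotSh.repMap 𝕃 t) (QuotSh.repMap 𝕃 s) (QuotSh.quotπ 𝕃 s t)
      (QuotSh.quotπ 𝕃 s t) := hk.flip
  refine IsPullback.of_iso hk' (QuotSh.repIsoUliftYoneda 𝕃 R) (QuotSh.repIsoUliftYoneda 𝕃 U)
    (QuotSh.repIsoUliftYoneda 𝕃 U) (Iso.refl _) (rho_nat' t) (rho_nat' s) ?_ ?_
  · exact (Category.comp_id _).trans (Iso.hom_inv_id_assoc _ _).symm
  · exact (Category.comp_id _).trans (Iso.hom_inv_id_assoc _ _).symm

variable (P : MorphismProperty Scheme.{u}) [P.IsStableUnderBaseChange]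
  [IsZariskiLocalAtTarget P]
  (hP : P.DescendsAlong (@Surjective ⊓ @Flat ⊓ @QuasiCompact : MorphismProperty Scheme.{u}))

include hP in
/-- if `U/R` is an algebraic space, the quotient map has every descending property of `s`. -/
theorem repWith_quotπ (h : AlgSp.IsEqvRel s t)
    (hq : AlgSp.IsAlgSpace (QuotSh.quot 𝕃 s t)) (hs : P s.left) :
    AlgSp.RepWith P (πY s t) := by
  have hfull : (AlgSp.yon S).Full :=
    ((QuotSh.J 𝕃 S).fullyFaithfulUliftYoneda.{u + 1}).full
  have hfaith : (AlgSp.yon S).Faithful :=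
    ((QuotSh.J 𝕃 S).fullyFaithfulUliftYoneda.{u + 1}).faithful
  have hrep : AlgSp.Representable (πY s t) := hq.representable_from_yon (πY s t)
  refine MorphismProperty.relative_of_snd hrep (fun T ξ => ?_)
  change P (hrep.snd ξ).left
  have hV := hrep.isPullback ξ
  let ξ' : QuotSh.rep 𝕃 T ⟶ QuotSh.quot 𝕃 s t := (QuotSh.repIsoUliftYoneda 𝕃 T).hom ≫ ξ
  obtain ⟨𝓡, h𝓡, hl⟩ := exists_lift_locally 𝕃 s t ξ'
  have h𝓢 : Sieve.overEquiv T 𝓡 ∈ Scheme.fppfTopology T.left :=
    (GrothendieckTopology.mem_over_iff _ _).mp h𝓡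
  obtain ⟨ι', Vc, gg, hgg, hmem⟩ :=
    Groth.Agent.Lib.Seat19.QuotOpen.exists_small_family_fppf _ h𝓢
  have hmem' : ∀ i, 𝓡 (Over.homMk (gg i) : Over.mk (gg i ≫ T.hom) ⟶ T) :=
    fun i => (Sieve.overEquiv_iff _ _).mp (hmem i)
  choose x hx using fun i => hl _ (hmem' i)
  let Ti : ι' → Over S := fun i => Over.mk (gg i ≫ T.hom)
  let gi : ∀ i, Ti i ⟶ T := fun i => Over.homMk (gg i)
  have hxy : ∀ i, (AlgSp.yon S).map (x i) ≫ πY s t = (AlgSp.yon S).map (gi i) ≫ ξ := by
    intro i
    have h1 : QuotSh.repMap 𝕃 (x i) ≫ QuotSh.quotπ 𝕃 s t =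
        QuotSh.repMap 𝕃 (gi i) ≫ (QuotSh.repIsoUliftYoneda 𝕃 T).hom ≫ ξ := hx i
    change (AlgSp.yon S).map (x i) ≫ (QuotSh.repIsoUliftYoneda 𝕃 U).inv ≫ QuotSh.quotπ 𝕃 s t = _
    rw [← Category.assoc, rho_nat, Category.assoc, h1, ← Category.assoc, ← rho_nat,
      Category.assoc, Iso.inv_hom_id_assoc]
  have hker := isKernelPair_yon s t h
  refine prop_of_cover P hP (πY s t) ξ (hrep.snd ξ) (hrep.fst ξ) hV Ti gi
    (Scheme.fppfPrecoverage_le_fpqcPrecoverage _ hgg)
    (fun i => pullback (x i) s) (fun i => pullback.fst (x i) s)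
    (fun i => (AlgSp.yon S).map (pullback.snd (x i) s) ≫ (AlgSp.yon S).map t) ?_ ?_
  · intro i
    have h0 : IsPullback (pullback.snd (x i) s) (pullback.fst (x i) s) s (x i) :=
      (IsPullback.of_hasPullback (x i) s).flip
    have h1 := (h0.map (AlgSp.yon S)).paste_horiz hker
    rw [hxy i] at h1
    exact h1
  · intro i
    have h0 : IsPullback (pullback.snd (x i) s) (pullback.fst (x i) s) s (x i) :=
      (IsPullback.of_hasPullback (x i) s).flip
    exact P.of_isPullback (h0.map (Over.forget S)) hs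

/-- the source map of an equivalence relation is surjective (it has a section). -/
lemma surjective_left_of_isEqvRel {R U : Over S} {s t : R ⟶ U} (h : AlgSp.IsEqvRel s t) :
    Surjective s.left := by
  obtain ⟨r, -, hr2⟩ := (h.equivalence U).refl (𝟙 U)
  have h1 : r.left ≫ s.left = 𝟙 U.left := congrArg (fun m => m.left) hr2
  refine ⟨fun x => ⟨r.left.base x, ?_⟩⟩
  have h2 := congrArg (fun m => m.base x) h1
  simpa using h2

set_option backward.isDefEq.respectTransparency.types false in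
lemma isZariskiLocalAtTarget_etale : IsZariskiLocalAtTarget @Etale.{u} := inferInstance

set_option backward.isDefEq.respectTransparency.types false in
lemma isZariskiLocalAtTarget_surjective : IsZariskiLocalAtTarget @Surjective.{u} := inferInstance

/-- the quotient map of an etale equivalence relation is a presentation, once `U/R` is known to
be an algebraic space (S9869). -/
theorem isPresentation (h : AlgSp.IsEtaleEqvRel s t)
    (hq : AlgSp.IsAlgSpace (QuotSh.quot 𝕃 s t)) :
    AlgSp.IsPresentation s t (πY s t) := by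
  have := isZariskiLocalAtTarget_etale.{u}
  have := isZariskiLocalAtTarget_surjective.{u}
  exact ⟨h, repWith_quotπ s t @Etale inferInstance h.toIsEqvRel hq h.etale_left,
    repWith_quotπ s t @Surjective inferInstance h.toIsEqvRel hq
      (surjective_left_of_isEqvRel h.toIsEqvRel),
    isKernelPair_yon s t h.toIsEqvRel⟩

end Quot

end Groth.Agent.Lib.Seat19.Present
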