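import Mathlib
import Groth.Prelude.Def_AlgSp
import Groth.Agent.Lib.Seat19LocRepY
import Groth.Agent.Lib.Seat19Present

/-!
# A sheaf with an etale surjective representable chart is an algebraic space (seat 19)

Everything is proved relative to the hypothesis `HSepLqf`: descent data relative to one fppf cover
whose morphism is separated, locally quasi-finite and locally of finite type are effective.

* `isPullback_diag_of_isPullback`: `A₁ ×_F A₂` is the pullback of the diagonal of `F` along
  `q₁ × q₂`.
* `representable_diag_of_chart`: `q : h_U ⟶ F` representable, etale, surjective ⇒ the diagonal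
  of `F` is representable.
* `isAlgSpace_of_chart`.
-/

set_option autoImplicit false
universe u

open CategoryTheory Limits AlgebraicGeometry Opposite
open Groth.Agent.Lib.Helper9 Groth.Agent.Lib.Helper12.QuotShLib

namespace Groth.Agent.Lib.Seat19.Boot

local notation "𝕃" => Scheme.fppfPrecoverage

/-- effective descent for separated, locally quasi-finite morphisms along one fppf cover. -/
def HSepLqf : Prop :=
  ∀ {X S : Scheme.{u}} (p : X ⟶ S) [Flat p] [Surjective p] [LocallyOfFinitePresentation p]
    (D : Desc.SchDD p) [IsSeparated D.obj.hom] [LocallyQuasiFinite D.obj.hom]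
    [LocallyOfFiniteType D.obj.hom], ∃ U : Over S, Nonempty ((Desc.toDD p).obj U ≅ D)

section Cat

variable {C : Type*} [Category C] [HasBinaryProducts C]

omit [HasBinaryProducts C] in
lemma isPullback_of_exists_unique' {P X Y Z : C} {fst : P ⟶ X} {snd : P ⟶ Y} {f : X ⟶ Z}
    {g : Y ⟶ Z} (w : fst ≫ f = snd ≫ g)
    (hex : ∀ {W : C} (a : W ⟶ X) (b : W ⟶ Y), a ≫ f = b ≫ g →
      ∃ l : W ⟶ P, l ≫ fst = a ∧ l ≫ snd = b)
    (huniq : ∀ {W : C} (l l' : W ⟶ P), l ≫ fst = l' ≫ fst → l ≫ snd = l' ≫ snd → l = l') :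
    IsPullback fst snd f g :=
  IsPullback.of_isLimit' ⟨w⟩ (PullbackCone.IsLimit.mk _
    (fun s => (hex s.fst s.snd s.condition).choose)
    (fun s => (hex s.fst s.snd s.condition).choose_spec.1)
    (fun s => (hex s.fst s.snd s.condition).choose_spec.2)
    (fun s _ h₁ h₂ => huniq _ _
      (h₁.trans (hex s.fst s.snd s.condition).choose_spec.1.symm)
      (h₂.trans (hex s.fst s.snd s.condition).choose_spec.2.symm)))

/-- `A₁ ×_F A₂` is the pullback of the diagonal of `F` along `q₁ × q₂`. -/
theorem isPullback_diag_of_isPullback {K A₁ A₂ F : C} {k₁ : K ⟶ A₁} {k₂ : K ⟶ A₂} {q₁ : A₁ ⟶ F}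
    {q₂ : A₂ ⟶ F} (h : IsPullback k₁ k₂ q₁ q₂) :
    IsPullback (k₁ ≫ q₁) (prod.lift k₁ k₂) (Limits.diag F) (prod.map q₁ q₂) := by
  refine isPullback_of_exists_unique' ?_ ?_ ?_
  · apply Limits.prod.hom_ext
    · simp [prod.lift_fst]
    · simp [prod.lift_snd, h.w]
  · intro W x y hxy
    have h1 : x = (y ≫ prod.fst) ≫ q₁ := by
      have := congrArg (fun m => m ≫ (prod.fst : F ⨯ F ⟶ F)) hxy
      simpa [prod.lift_fst] using this
    have h2 : x = (y ≫ prod.snd) ≫ q₂ := by
      have := congrArg (fun m => m ≫ (prod.snd : F ⨯ F ⟶ F)) hxy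
      simpa [prod.lift_snd] using this
    refine ⟨h.lift (y ≫ prod.fst) (y ≫ prod.snd) (h1.symm.trans h2), ?_, ?_⟩
    · rw [← Category.assoc, h.lift_fst, ← h1]
    · apply Limits.prod.hom_ext
      · rw [Category.assoc, prod.lift_fst, h.lift_fst]
      · rw [Category.assoc, prod.lift_snd, h.lift_snd]
  · intro W l l' _ h2
    apply h.hom_ext
    · have := congrArg (fun m => m ≫ (prod.fst : A₁ ⨯ A₂ ⟶ A₁)) h2
      simpa [prod.lift_fst] using this
    · have := congrArg (fun m => m ≫ (prod.snd : A₁ ⨯ A₂ ⟶ A₂)) h2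
      simpa [prod.lift_snd] using this

end Cat

variable {S : Scheme.{u}}

section Chart

variable (H : HSepLqf.{u}) {F : AlgSp.Sp S} {U : Over S} (q : (AlgSp.yon S).obj U ⟶ F)
  (hqe : AlgSp.RepWith @Etale q) (hqs : AlgSp.RepWith @Surjective q)

include H hqe hqs in
/-- a sheaf with a representable etale surjective chart has representable diagonal. -/
theorem representable_diag_of_chart : AlgSp.Representable (Limits.diag F) := by
  have hfull : (AlgSp.yon S).Full :=
    ((QuotSh.J 𝕃 S).fullyFaithfulUliftYoneda.{u + 1}).full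
  have hfaith : (AlgSp.yon S).Faithful :=
    ((QuotSh.J 𝕃 S).fullyFaithfulUliftYoneda.{u + 1}).faithful
  intro B ξ
  let c : (AlgSp.yon S).obj B ⟶ F := ξ ≫ prod.fst
  let c₂ : (AlgSp.yon S).obj B ⟶ F := ξ ≫ prod.snd
  -- the cover on which both components lift to `U`
  let B₁ : Over S := hqe.1.pullback c
  let p₁ : B₁ ⟶ B := hqe.1.snd c
  have h₁ : IsPullback (hqe.1.fst c) ((AlgSp.yon S).map p₁) q c := hqe.1.isPullback c
  let B' : Over S := hqe.1.pullback ((AlgSp.yon S).map p₁ ≫ c₂)
  let p₂ : B' ⟶ B₁ := hqe.1.snd ((AlgSp.yon S).map p₁ ≫ c₂)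
  have h₂ : IsPullback (hqe.1.fst ((AlgSp.yon S).map p₁ ≫ c₂)) ((AlgSp.yon S).map p₂) q
      ((AlgSp.yon S).map p₁ ≫ c₂) := hqe.1.isPullback _
  let p : B' ⟶ B := p₂ ≫ p₁
  have het₁ : Etale p₁.left := hqe.2 c _ p₁ h₁
  have hsu₁ : Surjective p₁.left := hqs.2 c _ p₁ h₁
  have het₂ : Etale p₂.left := hqe.2 _ _ p₂ h₂
  have hsu₂ : Surjective p₂.left := hqs.2 _ _ p₂ h₂
  have hpl : p.left = p₂.left ≫ p₁.left := rfl
  have hfl : Flat p.left := by rw [hpl]; infer_instance
  have hsu : Surjective p.left := by rw [hpl]; infer_instance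
  have hlfp : LocallyOfFinitePresentation p.left := by rw [hpl]; infer_instance
  let a : B' ⟶ U := (AlgSp.yon S).preimage ((AlgSp.yon S).map p₂ ≫ hqe.1.fst c)
  let a₂ : B' ⟶ U := (AlgSp.yon S).preimage (hqe.1.fst ((AlgSp.yon S).map p₁ ≫ c₂))
  have ha : (AlgSp.yon S).map a ≫ q = (AlgSp.yon S).map p ≫ c := by
    change (AlgSp.yon S).map ((AlgSp.yon S).preimage _) ≫ q = _
    rw [Functor.map_preimage, Category.assoc, h₁.w, Functor.map_comp, Category.assoc]
  have ha₂ : (AlgSp.yon S).map a₂ ≫ q = (AlgSp.yon S).map p ≫ c₂ := by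
    change (AlgSp.yon S).map ((AlgSp.yon S).preimage _) ≫ q = _
    rw [Functor.map_preimage, h₂.w, Functor.map_comp, Category.assoc]
  -- the kernel pair of the chart
  let R : Over S := hqe.1.pullback q
  let s : R ⟶ U := hqe.1.snd q
  let t : R ⟶ U := (AlgSp.yon S).preimage (hqe.1.fst q)
  have hR : IsPullback ((AlgSp.yon S).map t) ((AlgSp.yon S).map s) q q := by
    change IsPullback ((AlgSp.yon S).map ((AlgSp.yon S).preimage _)) _ q q
    rw [Functor.map_preimage]
    exact hqe.1.isPullback q
  have hets : Etale s.left := hqe.2 q _ s (hqe.1.isPullback q)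
  let j : R ⟶ U ⨯ U := prod.lift t s
  have hjmono : Mono j := by
    constructor
    intro W x y hxy
    apply (AlgSp.yon S).map_injective
    apply hR.hom_ext
    · rw [← Functor.map_comp, ← Functor.map_comp]
      have := congrArg (fun m => m ≫ (prod.fst : U ⨯ U ⟶ U)) hxy
      simp only [Category.assoc, prod.lift_fst, j] at this
      rw [this]
    · rw [← Functor.map_comp, ← Functor.map_comp]
      have := congrArg (fun m => m ≫ (prod.snd : U ⨯ U ⟶ U)) hxy
      simp only [Category.assoc, prod.lift_snd, j] at this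
      rw [this]
  have hjl : Mono j.left := inferInstance
  have hjlft : LocallyOfFiniteType j.left := by
    have e1 : j.left ≫ (prod.snd : U ⨯ U ⟶ U).left = s.left := by
      rw [← Over.comp_left, prod.lift_snd]
    have : LocallyOfFiniteType (j.left ≫ (prod.snd : U ⨯ U ⟶ U).left) := by
      rw [e1]; infer_instance
    exact locallyOfFiniteType_of_comp j.left (prod.snd : U ⨯ U ⟶ U).left
  -- the representing object over the cover
  let T'' : Over S := pullback (prod.lift a a₂) j
  let a'' : T'' ⟶ B' := pullback.fst (prod.lift a a₂) j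
  let r'' : T'' ⟶ R := pullback.snd (prod.lift a a₂) j
  have hsq0 : IsPullback r'' a'' j (prod.lift a a₂) :=
    (IsPullback.of_hasPullback (prod.lift a a₂) j).flip
  have hsql : IsPullback r''.left a''.left j.left (prod.lift a a₂).left :=
    hsq0.map (Over.forget S)
  have ha''mono : Mono a''.left :=
    (MorphismProperty.monomorphisms Scheme.{u}).of_isPullback hsql hjl
  have ha''lft : LocallyOfFiniteType a''.left :=
    MorphismProperty.of_isPullback (P := @LocallyOfFiniteType) hsql hjlft
  -- the sheaf-level pullback square over the cover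
  have hd1 : IsPullback ((AlgSp.yon S).map t ≫ q)
      (prod.lift ((AlgSp.yon S).map t) ((AlgSp.yon S).map s)) (Limits.diag F) (prod.map q q) :=
    isPullback_diag_of_isPullback hR
  have hpc : (AlgSp.yon S).map j ≫ prodComparison (AlgSp.yon S) U U =
      prod.lift ((AlgSp.yon S).map t) ((AlgSp.yon S).map s) := by
    apply Limits.prod.hom_ext
    · rw [Category.assoc, prodComparison_fst, ← Functor.map_comp, prod.lift_fst, prod.lift_fst]
    · rw [Category.assoc, prodComparison_snd, ← Functor.map_comp, prod.lift_snd, prod.lift_snd]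
  have hd2 : IsPullback ((AlgSp.yon S).map t ≫ q) ((AlgSp.yon S).map j) (Limits.diag F)
      (prodComparison (AlgSp.yon S) U U ≫ prod.map q q) := by
    refine IsPullback.of_iso hd1 (Iso.refl _) (Iso.refl _)
      (asIso (prodComparison (AlgSp.yon S) U U)).symm (Iso.refl _) ?_ ?_ ?_ ?_
    · simp
    · change prod.lift _ _ ≫ inv (prodComparison (AlgSp.yon S) U U) = 𝟙 _ ≫ _
      rw [Category.id_comp, IsIso.comp_inv_eq, hpc]
    · simp
    · change prod.map q q ≫ 𝟙 _ = inv (prodComparison (AlgSp.yon S) U U) ≫ _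
      rw [Category.comp_id, IsIso.inv_hom_id_assoc]
  have hbig : IsPullback ((AlgSp.yon S).map r'' ≫ (AlgSp.yon S).map t ≫ q)
      ((AlgSp.yon S).map a'') (Limits.diag F) ((AlgSp.yon S).map p ≫ ξ) := by
    have h1 := (hsq0.map (AlgSp.yon S)).paste_horiz hd2
    have e1 : (AlgSp.yon S).map (prod.lift a a₂) ≫ prodComparison (AlgSp.yon S) U U ≫
        prod.map q q = (AlgSp.yon S).map p ≫ ξ := by
      apply Limits.prod.hom_ext
      · simp only [Category.assoc, prod.map_fst]
        rw [reassoc_of% (prodComparison_fst (AlgSp.yon S) (A := U) (B := U)),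
          ← Functor.map_comp_assoc, prod.lift_fst, ha]
      · simp only [Category.assoc, prod.map_snd]
        rw [reassoc_of% (prodComparison_snd (AlgSp.yon S) (A := U) (B := U)),
          ← Functor.map_comp_assoc, prod.lift_snd, ha₂]
    rw [e1] at h1
    exact h1
  obtain ⟨W, fstW, ε, hpbW, -⟩ := Groth.Agent.Lib.Seat19.LocRepY.exists_rep (Limits.diag F) ξ p a''
    _ hbig (by
    intro D hD
    refine Groth.Agent.Lib.Seat58.DescOne.isEffective_of_single D ?_
    have i1 : IsSeparated (D.obj PUnit.unit).hom := by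
      rw [hD]; exact (inferInstance : IsSeparated a''.left)
    have i2 : LocallyOfFiniteType (D.obj PUnit.unit).hom := by
      rw [hD]; exact ha''lft
    have i3 : LocallyQuasiFinite (D.obj PUnit.unit).hom := by
      rw [hD]; exact (inferInstance : LocallyQuasiFinite a''.left)
    exact @H _ _ p.left hfl hsu hlfp (Groth.Agent.Lib.Seat58.DescOne.single _ D) i1 i3 i2)
  exact ⟨_, _, fstW, hpbW⟩

include H hqe hqs in
/-- a sheaf with a representable etale surjective chart is an algebraic space. -/
theorem isAlgSpace_of_chart : AlgSp.IsAlgSpace F :=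
  ⟨representable_diag_of_chart H q hqe hqs, ⟨U, q, hqe, hqs⟩⟩

end Chart

set_option backward.isDefEq.respectTransparency.types false in
lemma repWith_etale_isMultiplicative : (AlgSp.RepWith (S := S) @Etale).IsMultiplicative :=
  AlgSp.repWith_isMultiplicative _

set_option backward.isDefEq.respectTransparency.types false in
lemma repWith_surjective_isMultiplicative :
    (AlgSp.RepWith (S := S) @Surjective).IsMultiplicative :=
  AlgSp.repWith_isMultiplicative _

/-- an fppf sheaf receiving a representable etale surjective map from an algebraic space is an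
algebraic space (S9873, relative to `HSepLqf`). -/
theorem isAlgSpace_of_space_chart (H : HSepLqf.{u}) (X : AlgSp.Space S) {F : AlgSp.Sp S}
    (f : X.obj ⟶ F) (he : AlgSp.RepWith @Etale f) (hs : AlgSp.RepWith @Surjective f) :
    AlgSp.IsAlgSpace F := by
  obtain ⟨U, p, hpe, hps⟩ := X.property.atlas
  have := repWith_etale_isMultiplicative (S := S)
  have := repWith_surjective_isMultiplicative (S := S)
  exact isAlgSpace_of_chart H (p ≫ f) ((AlgSp.RepWith @Etale).comp_mem _ _ hpe he)
    ((AlgSp.RepWith @Surjective).comp_mem _ _ hps hs)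

end Groth.Agent.Lib.Seat19.Boot
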