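import Mathlib
import Groth.Prelude.Def_QuotSh
import Groth.Agent.Lib.Seat19QuotOpen

/-!
# Sections of `U/R` lift to `U` along a single fppf cover (seat 19)

`exists_single_cover`: for `ξ : h_T ⟶ U/R` there are one flat, surjective, locally finitely
presented `p : T' ⟶ T` and `x : T' ⟶ U` with `h_x ≫ π = h_p ≫ ξ` (disjoint union of a small
covering family on which `ξ` lifts).
-/

set_option autoImplicit false
universe u

open CategoryTheory Limits AlgebraicGeometry Opposite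
open Groth.Agent.Lib.Seat19.QuotPts Groth.Agent.Lib.Seat19.FppfFpqc
open Groth.Agent.Lib.Helper9 Groth.Agent.Lib.Helper12.QuotShLib

namespace Groth.Agent.Lib.Seat19.SingleCover

local notation "𝕃" => Scheme.fppfPrecoverage

set_option backward.isDefEq.respectTransparency.types false in
lemma isZariskiLocalAtSource_flat : IsZariskiLocalAtSource @Flat.{u} := inferInstance

set_option backward.isDefEq.respectTransparency.types false in
lemma isZariskiLocalAtSource_lfp :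
    IsZariskiLocalAtSource @LocallyOfFinitePresentation.{u} := inferInstance

variable {S : Scheme.{u}} {R U : Over S} (s t : R ⟶ U)

/-- every section of `U/R` lifts to `U` along one fppf cover. -/
theorem exists_single_cover {T : Over S} (ξ : QuotSh.rep 𝕃 T ⟶ QuotSh.quot 𝕃 s t) :
    ∃ (T' : Over S) (p : T' ⟶ T) (x : T' ⟶ U), Flat p.left ∧ Surjective p.left ∧
      LocallyOfFinitePresentation p.left ∧
      QuotSh.repMap 𝕃 x ≫ QuotSh.quotπ 𝕃 s t = QuotSh.repMap 𝕃 p ≫ ξ := by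
  obtain ⟨𝓡, h𝓡, hl⟩ := exists_lift_locally 𝕃 s t ξ
  have h𝓢 : Sieve.overEquiv T 𝓡 ∈ Scheme.fppfTopology T.left :=
    (GrothendieckTopology.mem_over_iff _ _).mp h𝓡
  obtain ⟨ι', Vc, gg, hgg, hmem⟩ :=
    Groth.Agent.Lib.Seat19.QuotOpen.exists_small_family_fppf _ h𝓢
  have hmem' : ∀ i, 𝓡 (Over.homMk (gg i) : Over.mk (gg i ≫ T.hom) ⟶ T) :=
    fun i => (Sieve.overEquiv_iff _ _).mp (hmem i)
  choose x hx using fun i => hl _ (hmem' i)
  let 𝒰 : Scheme.Cover Scheme.fppfPrecoverage T.left := ⟨⟨ι', Vc, gg⟩, hgg⟩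
  have hprop : ∀ i, Flat (gg i) ∧ LocallyOfFinitePresentation (gg i) := fun i => 𝒰.map_prop i
  have hfl : ∀ i, Flat (gg i) := fun i => (hprop i).1
  have hlfp : ∀ i, LocallyOfFinitePresentation (gg i) := fun i => (hprop i).2
  let σ : ∐ Vc ⟶ T.left := Sigma.desc gg
  have := isZariskiLocalAtSource_flat.{u}
  have := isZariskiLocalAtSource_lfp.{u}
  have hσfl : Flat σ := IsZariskiLocalAtSource.sigmaDesc (P := @Flat) hfl
  have hσlfp : LocallyOfFinitePresentation σ :=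
    IsZariskiLocalAtSource.sigmaDesc (P := @LocallyOfFinitePresentation) hlfp
  have hσsurj : Surjective σ := by
    refine ⟨fun z => ?_⟩
    obtain ⟨i, w, hw⟩ := 𝒰.exists_eq z
    refine ⟨(Sigma.ι Vc i) w, ?_⟩
    rw [← Scheme.Hom.comp_apply, Sigma.ι_desc]
    exact hw
  let T' : Over S := Over.mk (σ ≫ T.hom)
  let p : T' ⟶ T := Over.homMk σ rfl
  let xl : ∐ Vc ⟶ U.left := Sigma.desc (fun i => (x i).left)
  have hxl : xl ≫ U.hom = σ ≫ T.hom := by
    apply Sigma.hom_ext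
    intro i
    rw [Sigma.ι_desc_assoc, Sigma.ι_desc_assoc]
    exact Over.w (x i)
  let xT : T' ⟶ U := Over.homMk xl hxl
  refine ⟨T', p, xT, hσfl, hσsurj, hσlfp, ?_⟩
  -- the covering sieve of `T'` generated by the inclusions
  let Ti' : ι' → Over S := fun i => Over.mk (Sigma.ι Vc i ≫ σ ≫ T.hom)
  let ιh : ∀ i, Ti' i ⟶ T' := fun i => Over.homMk (Sigma.ι Vc i) rfl
  let 𝓡' : Sieve T' := Sieve.generate (Presieve.ofArrows Ti' ιh)
  have h𝓡' : 𝓡' ∈ QuotSh.J 𝕃 S T' := by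
    refine (GrothendieckTopology.mem_over_iff _ _).mpr ?_
    rw [Precoverage.mem_toGrothendieck_iff_of_isStableUnderComposition]
    refine ⟨Presieve.ofArrows Vc (Sigma.ι Vc),
      Scheme.zariskiPrecoverage_le_fppfPrecoverage _ (sigmaOpenCover Vc).mem₀, ?_⟩
    rintro Y f ⟨i⟩
    refine (Sieve.overEquiv_iff _ _).mpr ?_
    exact ⟨_, 𝟙 _, ιh i, ⟨i⟩, Category.id_comp _⟩
  refine hom_ext_of_cover 𝕃 _ _ 𝓡' h𝓡' ?_
  rintro W f ⟨Y, k, g, ⟨i⟩, rfl⟩
  let ki : Ti' i ⟶ Over.mk (gg i ≫ T.hom) := Over.homMk (𝟙 _) (by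
    change 𝟙 _ ≫ gg i ≫ T.hom = Sigma.ι Vc i ≫ σ ≫ T.hom
    rw [Category.id_comp, Sigma.ι_desc_assoc])
  have e1 : ιh i ≫ xT = ki ≫ x i := by
    apply Over.OverMorphism.ext
    change Sigma.ι Vc i ≫ xl = 𝟙 _ ≫ (x i).left
    rw [Sigma.ι_desc, Category.id_comp]
  have e2 : ιh i ≫ p = ki ≫ (Over.homMk (gg i) : Over.mk (gg i ≫ T.hom) ⟶ T) := by
    apply Over.OverMorphism.ext
    change Sigma.ι Vc i ≫ σ = 𝟙 _ ≫ gg i
    rw [Sigma.ι_desc, Category.id_comp]
  calc QuotSh.repMap 𝕃 (k ≫ ιh i) ≫ QuotSh.repMap 𝕃 xT ≫ QuotSh.quotπ 𝕃 s t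
      = QuotSh.repMap 𝕃 (k ≫ ki) ≫ QuotSh.repMap 𝕃 (x i) ≫ QuotSh.quotπ 𝕃 s t := by
        rw [← Category.assoc, ← repMap_comp, Category.assoc, e1, ← Category.assoc, repMap_comp,
          Category.assoc]
    _ = QuotSh.repMap 𝕃 (k ≫ ki) ≫
        QuotSh.repMap 𝕃 (Over.homMk (gg i) : Over.mk (gg i ≫ T.hom) ⟶ T) ≫ ξ := by rw [hx i]
    _ = QuotSh.repMap 𝕃 (k ≫ ιh i) ≫ QuotSh.repMap 𝕃 p ≫ ξ := by
        rw [← Category.assoc, ← repMap_comp, Category.assoc, ← e2, ← Category.assoc, repMap_comp,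
          Category.assoc]

end Groth.Agent.Lib.Seat19.SingleCover
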