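import Mathlib
import Groth.Prelude.Def_AlgSp
import Groth.Agent.Lib.Seat19Boot
import Groth.Agent.Lib.Seat19SingleCover

/-!
# The quotient of an etale equivalence relation with separated source map (seat 19)

Relative to `Boot.HSepLqf` (effective descent for separated locally quasi-finite morphisms):
if `s, t : R ⟶ U` is an etale equivalence relation with `s` separated then `h_U ⟶ U/R` is
representable, etale and surjective, and `U/R` is an algebraic space.
-/

set_option autoImplicit false
universe u

open CategoryTheory Limits AlgebraicGeometry Opposite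
open Groth.Agent.Lib.Seat19.QuotPts Groth.Agent.Lib.Seat19.FppfFpqc
open Groth.Agent.Lib.Helper9 Groth.Agent.Lib.Helper12.QuotShLib
open Groth.Agent.Lib.Seat19.Present Groth.Agent.Lib.Seat19.Boot

namespace Groth.Agent.Lib.Seat19.QuotSp

local notation "𝕃" => Scheme.fppfPrecoverage

theorem locallyQuasiFinite_of_etale {X S : Scheme.{u}} (f : X ⟶ S) [Etale f] :
    LocallyQuasiFinite f := by
  constructor
  intro U hU V hV e
  have h1 := f.etale_appLE hU hV e
  algebraize [(f.appLE U V e).hom]
  have : Algebra.Etale Γ(S, U) Γ(X, V) := h1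
  exact RingHom.quasiFinite_algebraMap.mpr inferInstance

variable {S : Scheme.{u}} {R U : Over S} (s t : R ⟶ U)

section Sep

variable (H : HSepLqf.{u}) (h : AlgSp.IsEtaleEqvRel s t) (hsep : IsSeparated s.left)
  (P : MorphismProperty Scheme.{u}) [P.IsStableUnderBaseChange] [IsZariskiLocalAtTarget P]
  (hP : P.DescendsAlong (@Surjective ⊓ @Flat ⊓ @QuasiCompact : MorphismProperty Scheme.{u}))

include H h hsep hP in
/-- the quotient map has every descending property of `s` (separated case). -/
theorem repWith_πY_of_separated (hs : P s.left) : AlgSp.RepWith P (πY s t) := by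
  have hfull : (AlgSp.yon S).Full :=
    ((QuotSh.J 𝕃 S).fullyFaithfulUliftYoneda.{u + 1}).full
  have hfaith : (AlgSp.yon S).Faithful :=
    ((QuotSh.J 𝕃 S).fullyFaithfulUliftYoneda.{u + 1}).faithful
  have hresp : P.RespectsIso := MorphismProperty.IsStableUnderBaseChange.respectsIso
  have hets : Etale s.left := h.etale_left
  apply MorphismProperty.relative.of_exists
  intro T ξ
  let ξ' : QuotSh.rep 𝕃 T ⟶ QuotSh.quot 𝕃 s t := (QuotSh.repIsoUliftYoneda 𝕃 T).hom ≫ ξ
  obtain ⟨T', p, x, hfl, hsurj, hlfp, hx⟩ :=
    Groth.Agent.Lib.Seat19.SingleCover.exists_single_cover s t ξ'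
  have hxy : (AlgSp.yon S).map x ≫ πY s t = (AlgSp.yon S).map p ≫ ξ := by
    have h1 : QuotSh.repMap 𝕃 x ≫ QuotSh.quotπ 𝕃 s t =
        QuotSh.repMap 𝕃 p ≫ (QuotSh.repIsoUliftYoneda 𝕃 T).hom ≫ ξ := hx
    change (AlgSp.yon S).map x ≫ (QuotSh.repIsoUliftYoneda 𝕃 U).inv ≫ QuotSh.quotπ 𝕃 s t = _
    rw [← Category.assoc, rho_nat, Category.assoc, h1, ← Category.assoc, ← rho_nat,
      Category.assoc, Iso.inv_hom_id_assoc]
  have hker := isKernelPair_yon s t h.toIsEqvRel
  let T'' : Over S := pullback x s
  let a : T'' ⟶ T' := pullback.fst x s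
  have h0 : IsPullback (pullback.snd x s) a s x := (IsPullback.of_hasPullback x s).flip
  have h0l : IsPullback (pullback.snd x s).left a.left s.left x.left := h0.map (Over.forget S)
  have hbig : IsPullback ((AlgSp.yon S).map (pullback.snd x s) ≫ (AlgSp.yon S).map t)
      ((AlgSp.yon S).map a) (πY s t) ((AlgSp.yon S).map p ≫ ξ) := by
    have h1 := (h0.map (AlgSp.yon S)).paste_horiz hker
    rw [hxy] at h1
    exact h1
  have hPa : P a.left := P.of_isPullback h0l hs
  have hasep : IsSeparated a.left :=
    MorphismProperty.of_isPullback (P := @IsSeparated) h0l hsep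
  have haet : Etale a.left := MorphismProperty.of_isPullback (P := @Etale) h0l hets
  have halqf : LocallyQuasiFinite a.left := locallyQuasiFinite_of_etale a.left
  have halft : LocallyOfFiniteType a.left := inferInstance
  obtain ⟨W, fstW, ε, hpbW, hε⟩ := Groth.Agent.Lib.Seat19.LocRepY.exists_rep (πY s t) ξ p a _ hbig
    (by
      intro D hD
      refine Groth.Agent.Lib.Seat58.DescOne.isEffective_of_single D ?_
      have i1 : IsSeparated (D.obj PUnit.unit).hom := by
        rw [hD]; exact hasep
      have i2 : LocallyOfFiniteType (D.obj PUnit.unit).hom := by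
        rw [hD]; exact halft
      have i3 : LocallyQuasiFinite (D.obj PUnit.unit).hom := by
        rw [hD]; exact halqf
      exact @H _ _ p.left hfl hsurj hlfp (Groth.Agent.Lib.Seat58.DescOne.single _ D) i1 i3 i2)
  refine ⟨Over.mk (W.hom ≫ T.hom), fstW, Over.homMk W.hom rfl, hpbW, ?_⟩
  change P W.hom
  have hsing : Presieve.singleton p.left ∈ Scheme.fpqcPrecoverage T.left :=
    Scheme.fppfPrecoverage_le_fpqcPrecoverage _ (Scheme.Hom.singleton_mem_fppfPrecoverage p.left)
  refine Groth.Agent.Lib.Helper12.of_mem_fpqcPrecoverage hP W.hom (Presieve.singleton p.left)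
    hsing ?_
  rintro Y' f' ⟨⟩
  have e1 : pullback.snd W.hom p.left =
      (pullbackSymmetry W.hom p.left).hom ≫ ε.hom ≫ a.left := by
    rw [hε, pullbackSymmetry_hom_comp_fst]
  rw [e1]
  exact (P.cancel_left_of_respectsIso _ _).mpr ((P.cancel_left_of_respectsIso _ _).mpr hPa)

include H h hsep in
/-- `U/R` is an algebraic space for an etale equivalence relation with separated source map. -/
theorem isAlgSpace_quot_of_separated : AlgSp.IsAlgSpace (QuotSh.quot 𝕃 s t) := by
  have := isZariskiLocalAtTarget_etale.{u}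
  have := isZariskiLocalAtTarget_surjective.{u}
  exact isAlgSpace_of_chart H (πY s t)
    (repWith_πY_of_separated s t H h hsep @Etale inferInstance h.etale_left)
    (repWith_πY_of_separated s t H h hsep @Surjective inferInstance
      (surjective_left_of_isEqvRel h.toIsEqvRel))

end Sep

end Groth.Agent.Lib.Seat19.QuotSp
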