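import Mathlib
import Groth.Prelude.Def_AlgSp

/-!
# Separation and gluing of maps `h_W ⟶ G` along fppf covering families (seat 47)

`G` an fppf sheaf over `S`, `W` a scheme over `S`, `g k : W k ⟶ W` a jointly surjective family of
flat morphisms locally of finite presentation.
-/

set_option autoImplicit false
universe u
open CategoryTheory CategoryTheory.Limits AlgebraicGeometry Opposite

namespace Groth.Agent.Lib.Seat47.FamSheaf

variable {S : Scheme.{u}}

/-- the Yoneda bijection -/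
noncomputable def yE (T : Over S) (P : AlgSp.Sp S) :
    ((AlgSp.yon S).obj T ⟶ P) ≃ P.obj.obj (op T) :=
  GrothendieckTopology.uliftYonedaEquiv.{u + 1} (AlgSp.J S)

lemma yE_symm_map {X : AlgSp.Sp S} {T T' : Over S} (g : T' ⟶ T) (ξ : X.obj.obj (op T)) :
    (yE T' X).symm (X.obj.map g.op ξ) = (AlgSp.yon S).map g ≫ (yE T X).symm ξ :=
  ((AlgSp.J S).uliftYonedaEquiv_symm_naturality_left g X ξ).symm

lemma map_yE {G : AlgSp.Sp S} {T T' : Over S} (g : T' ⟶ T) (a : (AlgSp.yon S).obj T ⟶ G) :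
    G.obj.map g.op (yE T G a) = yE T' G ((AlgSp.yon S).map g ≫ a) := by
  apply (yE T' G).symm.injective
  rw [yE_symm_map, Equiv.symm_apply_apply, Equiv.symm_apply_apply]

/-- a jointly surjective family of flat morphisms locally of finite presentation generates a
covering sieve of the fppf topology over `S`. -/
lemma generate_ofArrows_mem_J {W : Over S} {K : Type*} (Wk : K → Over S) (g : ∀ k, Wk k ⟶ W)
    (hP : ∀ k, Flat (g k).left ∧ LocallyOfFinitePresentation (g k).left)
    (hsurj : ∀ w : W.left, ∃ k, w ∈ Set.range (g k).left) :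
    Sieve.generate (Presieve.ofArrows Wk g) ∈ AlgSp.J S W := by
  rw [GrothendieckTopology.mem_over_iff]
  have hmem : Presieve.ofArrows (fun k => (Wk k).left) (fun k => (g k).left) ∈
      Scheme.fppfPrecoverage W.left := by
    rw [Scheme.fppfPrecoverage, Scheme.ofArrows_mem_precoverage_iff]
    exact ⟨hsurj, fun k => ⟨(hP k).1, (hP k).2⟩⟩
  refine GrothendieckTopology.superset_covering _ ?_
    (Precoverage.generate_mem_toGrothendieck hmem)
  rintro V q ⟨V', a, b, hb, rfl⟩
  obtain ⟨k⟩ := hb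
  rw [Sieve.overEquiv_iff]
  refine ⟨Wk k, Over.homMk a (by simp), g k, ⟨k⟩, ?_⟩
  apply Over.OverMorphism.ext
  simp

/-- separation: two maps `h_W ⟶ G` that agree on a covering family are equal. -/
lemma sep {W : Over S} {K : Type*} (Wk : K → Over S) (g : ∀ k, Wk k ⟶ W)
    (hcov : Sieve.generate (Presieve.ofArrows Wk g) ∈ AlgSp.J S W)
    {G : AlgSp.Sp S} (l l' : (AlgSp.yon S).obj W ⟶ G)
    (h : ∀ k, (AlgSp.yon S).map (g k) ≫ l = (AlgSp.yon S).map (g k) ≫ l') : l = l' := by
  apply (yE W G).injective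
  have hG : Presieve.IsSheaf (AlgSp.J S) G.obj := (isSheaf_iff_isSheaf_of_type _ _).1 G.property
  refine (hG _ hcov).isSeparatedFor.ext ?_
  rintro V q ⟨V', a, b, hb, rfl⟩
  obtain ⟨k⟩ := hb
  rw [op_comp, G.obj.map_comp]
  have e1 : ∀ m : (AlgSp.yon S).obj W ⟶ G, G.obj.map a.op (G.obj.map (g k).op (yE W G m)) =
      yE V G ((AlgSp.yon S).map a ≫ (AlgSp.yon S).map (g k) ≫ m) := by
    intro m
    rw [map_yE, map_yE]
  show G.obj.map a.op (G.obj.map (g k).op (yE W G l)) = G.obj.map a.op (G.obj.map (g k).op (yE W G l'))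
  rw [e1, e1, h k]

/-- gluing: a compatible family of maps `h_{W k} ⟶ G` on a covering family descends. -/
lemma glue {W : Over S} {K : Type*} (Wk : K → Over S) (g : ∀ k, Wk k ⟶ W)
    (hcov : Sieve.generate (Presieve.ofArrows Wk g) ∈ AlgSp.J S W)
    {G : AlgSp.Sp S} (l : ∀ k, (AlgSp.yon S).obj (Wk k) ⟶ G)
    (hl : ∀ (k m : K) (Z : Over S) (p : Z ⟶ Wk k) (q : Z ⟶ Wk m), p ≫ g k = q ≫ g m →
      (AlgSp.yon S).map p ≫ l k = (AlgSp.yon S).map q ≫ l m) :
    ∃ L : (AlgSp.yon S).obj W ⟶ G, ∀ k, (AlgSp.yon S).map (g k) ≫ L = l k := by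
  have hG : Presieve.IsSheaf (AlgSp.J S) G.obj := (isSheaf_iff_isSheaf_of_type _ _).1 G.property
  have h1 : (Presieve.ofArrows Wk g).IsSheafFor G.obj :=
    (Presieve.isSheafFor_iff_generate _).2 (hG _ hcov)
  rw [Presieve.isSheafFor_arrows_iff] at h1
  obtain ⟨t, ht, -⟩ := h1 (fun k => yE (Wk k) G (l k)) (by
    intro k m Z p q hpq
    rw [map_yE, map_yE, hl k m Z p q hpq])
  refine ⟨(yE W G).symm t, fun k => ?_⟩
  apply (yE (Wk k) G).injective
  rw [← map_yE, Equiv.apply_symm_apply]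
  exact ht k

end Groth.Agent.Lib.Seat47.FamSheaf
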