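import Mathlib.AlgebraicGeometry.Morphisms.Flat
import Mathlib.AlgebraicGeometry.Morphisms.FiniteType
import Mathlib.AlgebraicGeometry.Morphisms.FinitePresentation
import Mathlib.RingTheory.RingHom.Flat
import Mathlib.RingTheory.RingHom.FiniteType
import Mathlib.RingTheory.RingHom.FinitePresentation

/-!
# Seat 47: retracts

Ring level: if `B → A → C → A` with `A → C → A` the identity and `B → C` flat / of finite type / of finite
presentation, then so is `B → A`.

Scheme level: if `r : X' ⟶ V'` has a section `s` and `r ≫ m` is flat / locally of finite type / locally of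
finite presentation, then so is `m`.
-/

set_option autoImplicit false

universe u

open CategoryTheory CategoryTheory.Limits AlgebraicGeometry

namespace Groth.Agent.Lib.Seat47.Retract

section Ring

variable {B A C : Type u} [CommRing B] [CommRing A] [CommRing C]

theorem flat_of_retract (m : B →+* A) (r : A →+* C) (s : C →+* A)
    (hsr : s.comp r = RingHom.id A) (h : (r.comp m).Flat) : m.Flat := by
  letI algA : Algebra B A := m.toAlgebra
  letI algC : Algebra B C := (r.comp m).toAlgebra
  change Module.Flat B A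
  haveI : Module.Flat B C := h
  let i : A →ₗ[B] C :=
    { toFun := r
      map_add' := map_add r
      map_smul' := fun b a => by
        change r (m b * a) = r (m b) * r a
        exact map_mul r _ _ }
  let p : C →ₗ[B] A :=
    { toFun := s
      map_add' := map_add s
      map_smul' := fun b c => by
        change s (r (m b) * c) = m b * s c
        rw [map_mul]
        congr 1
        exact RingHom.congr_fun hsr (m b) }
  refine Module.Flat.of_retract i p ?_
  ext a
  exact RingHom.congr_fun hsr a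

theorem surjective_of_retract (r : A →+* C) (s : C →+* A) (hsr : s.comp r = RingHom.id A) :
    Function.Surjective s := fun a => ⟨r a, RingHom.congr_fun hsr a⟩

theorem finiteType_of_retract (m : B →+* A) (r : A →+* C) (s : C →+* A)
    (hsr : s.comp r = RingHom.id A) (h : (r.comp m).FiniteType) : m.FiniteType := by
  have h1 := RingHom.FiniteType.comp_surjective h (surjective_of_retract r s hsr)
  rwa [← RingHom.comp_assoc, hsr, RingHom.id_comp] at h1

/-- the kernel of a retraction of a finitely generated algebra is finitely generated. -/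
theorem ker_fg_of_retract (m : B →+* A) (r : A →+* C) (s : C →+* A)
    (hsr : s.comp r = RingHom.id A) (h : (r.comp m).FiniteType) : (RingHom.ker s).FG := by
  letI algC : Algebra B C := (r.comp m).toAlgebra
  have hft : Algebra.FiniteType B C := h
  obtain ⟨t, ht⟩ := hft.out
  have hsr' : ∀ a, s (r a) = a := fun a => RingHom.congr_fun hsr a
  let J : Ideal C := Ideal.span ((fun c => c - r (s c)) '' (t : Set C))
  have hJ : ∀ c : C, c - r (s c) ∈ J := by
    intro c
    have hc : c ∈ Algebra.adjoin B (t : Set C) := by rw [ht]; trivial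
    induction hc using Algebra.adjoin_induction with
    | mem x hx => exact Ideal.subset_span ⟨x, hx, rfl⟩
    | algebraMap b =>
      change r (m b) - r (s (r (m b))) ∈ J
      rw [hsr', sub_self]
      exact J.zero_mem
    | add x y _ _ hx hy =>
      have : x + y - r (s (x + y)) = (x - r (s x)) + (y - r (s y)) := by
        rw [map_add, map_add]; ring
      rw [this]
      exact J.add_mem hx hy
    | mul x y _ _ hx hy =>
      have : x * y - r (s (x * y)) = x * (y - r (s y)) + (x - r (s x)) * r (s y) := by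
        rw [map_mul, map_mul]; ring
      rw [this]
      exact J.add_mem (J.mul_mem_left _ hy) (J.mul_mem_right _ hx)
  have hker : RingHom.ker s = J := by
    apply le_antisymm
    · intro c hc
      rw [RingHom.mem_ker] at hc
      have := hJ c
      rwa [hc, map_zero, sub_zero] at this
    · rw [Ideal.span_le]
      rintro _ ⟨c, -, rfl⟩
      change _ ∈ RingHom.ker s
      rw [RingHom.mem_ker, map_sub, hsr', sub_self]
  rw [hker]
  exact Submodule.fg_span ((t.finite_toSet).image _)

theorem finitePresentation_of_retract (m : B →+* A) (r : A →+* C) (s : C →+* A)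
    (hsr : s.comp r = RingHom.id A) (h : (r.comp m).FinitePresentation) : m.FinitePresentation := by
  have h1 := RingHom.FinitePresentation.comp_surjective h (surjective_of_retract r s hsr)
    (ker_fg_of_retract m r s hsr (RingHom.FiniteType.of_finitePresentation h))
  rwa [← RingHom.comp_assoc, hsr, RingHom.id_comp] at h1

end Ring

section Scheme

open TopologicalSpace

/-- A property of morphisms of schemes given affine-locally by a property `Q` of ring maps passes to retracts of the
source, when `Q` passes to retracts of ring maps. -/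
theorem of_retract (P : MorphismProperty Scheme.{u})
    (Q : ∀ {R T : Type u} [CommRing R] [CommRing T], (R →+* T) → Prop) [HasRingHomProperty P Q]
    (hQ : RingHom.StableUnderCompositionWithLocalizationAwaySource Q)
    (hret : ∀ {B A C : Type u} [CommRing B] [CommRing A] [CommRing C] (m : B →+* A) (r : A →+* C)
      (s : C →+* A), s.comp r = RingHom.id A → Q (r.comp m) → Q m)
    {X' V' W : Scheme.{u}} (r : X' ⟶ V') (s : V' ⟶ X') (hsr : s ≫ r = 𝟙 V') (m : V' ⟶ W)
    (h : P (r ≫ m)) : P m := by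
  rw [HasRingHomProperty.iff_exists_appLE (P := P) hQ]
  intro y
  have hsry : ∀ z : V', r (s z) = z := fun z => by
    rw [← Scheme.Hom.comp_apply, hsr]; rfl
  -- affine open of `W` around `m y`
  obtain ⟨W₀, hW₀, hmy, -⟩ := Opens.isBasis_iff_nbhd.mp W.isBasis_affineOpens
    (Opens.mem_top (m y))
  -- affine open of `V'` around `y` inside the preimage
  obtain ⟨V₀, hV₀, hyV₀, hV₀W₀⟩ := Opens.isBasis_iff_nbhd.mp V'.isBasis_affineOpens
    (show y ∈ m ⁻¹ᵁ W₀ from hmy)
  -- affine open of `X'` around `s y` inside the preimage of `V₀`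
  obtain ⟨X₀, hX₀, hsyX₀, hX₀V₀⟩ := Opens.isBasis_iff_nbhd.mp X'.isBasis_affineOpens
    (show s y ∈ r ⁻¹ᵁ V₀ from by rw [Scheme.Hom.mem_preimage, hsry]; exact hyV₀)
  -- basic open of `V₀` around `y` inside `s⁻¹ X₀`
  obtain ⟨f, hf₁, hf₂⟩ := IsAffineOpen.exists_basicOpen_le hV₀
    (V := s ⁻¹ᵁ X₀ ⊓ V₀) ⟨y, ⟨hsyX₀, hyV₀⟩⟩ hyV₀
  let V₁ : V'.Opens := V'.basicOpen f
  have hV₁ : IsAffineOpen V₁ := hV₀.basicOpen f
  have hV₁V₀ : V₁ ≤ V₀ := V'.basicOpen_le f
  let g : Γ(X', X₀) := r.appLE V₀ X₀ hX₀V₀ f
  let X₁ : X'.Opens := X'.basicOpen g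
  have hX₁ : IsAffineOpen X₁ := hX₀.basicOpen g
  have hX₁eq : X₁ = X₀ ⊓ r ⁻¹ᵁ V₁ := by
    change X'.basicOpen (r.appLE V₀ X₀ hX₀V₀ f) = _
    rw [Scheme.Hom.appLE, CommRingCat.comp_apply, Scheme.basicOpen_res, Scheme.preimage_basicOpen]
  have e₂ : X₁ ≤ r ⁻¹ᵁ V₁ := by rw [hX₁eq]; exact inf_le_right
  have e₃ : V₁ ≤ s ⁻¹ᵁ X₁ := by
    intro z hz
    rw [hX₁eq]
    refine ⟨(hf₁ hz).1, ?_⟩
    change r (s z) ∈ V₁
    rw [hsry]
    exact hz
  have e₁ : V₁ ≤ m ⁻¹ᵁ W₀ := hV₁V₀.trans hV₀W₀
  refine ⟨⟨W₀, hW₀⟩, ⟨V₁, hV₁⟩, hf₂, e₁, ?_⟩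
  have e₄ : X₁ ≤ (r ≫ m) ⁻¹ᵁ W₀ := e₂.trans ((Opens.map r.base).map (homOfLE e₁)).le
  have hQ1 : Q ((r ≫ m).appLE W₀ X₁ e₄).hom :=
    HasRingHomProperty.appLE P (r ≫ m) h ⟨W₀, hW₀⟩ ⟨X₁, hX₁⟩ e₄
  have hcomp : m.appLE W₀ V₁ e₁ ≫ r.appLE V₁ X₁ e₂ = (r ≫ m).appLE W₀ X₁ e₄ :=
    Scheme.Hom.appLE_comp_appLE r m W₀ V₁ X₁ e₁ e₂
  have hid : r.appLE V₁ X₁ e₂ ≫ s.appLE X₁ V₁ e₃ = 𝟙 _ := by
    rw [Scheme.Hom.appLE_comp_appLE]
    have key : ∀ (t : V' ⟶ V') (ht : t = 𝟙 V') (e : V₁ ≤ t ⁻¹ᵁ V₁), t.appLE V₁ V₁ e = 𝟙 _ := by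
      intro t ht e
      subst ht
      rw [Scheme.Hom.appLE, Scheme.Hom.id_app]
      exact (Category.id_comp _).trans (V'.presheaf.map_id (Opposite.op V₁))
    exact key _ hsr _
  refine hret (m.appLE W₀ V₁ e₁).hom (r.appLE V₁ X₁ e₂).hom (s.appLE X₁ V₁ e₃).hom ?_ ?_
  · rw [← CommRingCat.hom_comp, hid]
    rfl
  · rw [← CommRingCat.hom_comp, hcomp]
    exact hQ1

theorem flat_of_section {X' V' W : Scheme.{u}} (r : X' ⟶ V') (s : V' ⟶ X') (hsr : s ≫ r = 𝟙 V')
    (m : V' ⟶ W) (h : Flat (r ≫ m)) : Flat m :=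
  of_retract @Flat RingHom.Flat
    (RingHom.Flat.stableUnderComposition.stableUnderCompositionWithLocalizationAway
      RingHom.Flat.holdsForLocalizationAway).left
    (fun m r s hsr h => flat_of_retract m r s hsr h) r s hsr m h

theorem locallyOfFiniteType_of_section {X' V' W : Scheme.{u}} (r : X' ⟶ V') (s : V' ⟶ X')
    (hsr : s ≫ r = 𝟙 V') (m : V' ⟶ W) (h : LocallyOfFiniteType (r ≫ m)) : LocallyOfFiniteType m :=
  of_retract @LocallyOfFiniteType RingHom.FiniteType
    (RingHom.finiteType_stableUnderComposition.stableUnderCompositionWithLocalizationAway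
      RingHom.finiteType_holdsForLocalizationAway).left
    (fun m r s hsr h => finiteType_of_retract m r s hsr h) r s hsr m h

theorem locallyOfFinitePresentation_of_section {X' V' W : Scheme.{u}} (r : X' ⟶ V') (s : V' ⟶ X')
    (hsr : s ≫ r = 𝟙 V') (m : V' ⟶ W) (h : LocallyOfFinitePresentation (r ≫ m)) :
    LocallyOfFinitePresentation m :=
  of_retract @LocallyOfFinitePresentation RingHom.FinitePresentation
    (RingHom.finitePresentation_stableUnderComposition.stableUnderCompositionWithLocalizationAway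
      RingHom.finitePresentation_holdsForLocalizationAway).left
    (fun m r s hsr h => finitePresentation_of_retract m r s hsr h) r s hsr m h

end Scheme

end Groth.Agent.Lib.Seat47.Retract
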