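import Mathlib
import Groth.Prelude.Def_AlgSp
import Groth.Prelude.Def_AlgSp4
import Groth.Agent.Lib.Helper12QuotSh
import Groth.Agent.Lib.Helper12LocPCases
import Groth.Agent.Lib.Seat47Retract
import Groth.Agent.Lib.Seat47FamSheaf
import Groth.Agent.S9874
import Groth.Agent.S9947

/-!
# `LocP P` descends along fppf-locally surjective maps on the source (seat 43)

`g : X ⟶ Y` a surjection of fppf sheaves, `h : Y ⟶ Z`; if `g ≫ h` has `LocP P` then `h` has
`LocP P`, for `P` = flat, locally of finite type, locally of finite presentation.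
-/

set_option autoImplicit false
universe u
open CategoryTheory CategoryTheory.Limits AlgebraicGeometry Opposite

namespace Groth.Agent.Lib.Seat43.LocSurj

open Groth.Agent.Lib.Helper12.QuotShLib
open Groth.Agent.Lib.Seat47.FamSheaf

variable {S : Scheme.{u}}

/-- a covering sieve of the fppf topology over `S` has, through every point, a member which is
flat and locally of finite presentation. -/
lemma exists_flat_lfp_mem {V : Over S} (R : Sieve V) (hR : R ∈ AlgSp.J S V) (v : ↥V.left) :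
    ∃ (T : Over S) (c : T ⟶ V), R.arrows c ∧ Flat c.left ∧ LocallyOfFinitePresentation c.left ∧
      v ∈ Set.range c.left := by
  rw [GrothendieckTopology.mem_over_iff] at hR
  obtain ⟨R', hR', hle⟩ :=
    (Precoverage.mem_toGrothendieck_iff_of_isStableUnderComposition
      (J := Scheme.fppfPrecoverage.{u})).1 hR
  obtain ⟨T, t, ht, hv⟩ := hR'.1 v
  obtain @⟨T, t, ht⟩ := ht
  have hP : (@Flat ⊓ @LocallyOfFinitePresentation : MorphismProperty Scheme.{u}) t := hR'.2 ht
  have h1 := hle _ _ ht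
  rw [Sieve.overEquiv_iff] at h1
  exact ⟨Over.mk (t ≫ V.hom), Over.homMk t rfl, h1, hP.1, hP.2, hv⟩

/-- local lifts of a section along a surjection of fppf sheaves. -/
lemma exists_local_lift {X Y : AlgSp.Sp S} (g : X ⟶ Y) (hg : Sheaf.IsLocallySurjective g)
    {V : Over S} (b : (AlgSp.yon S).obj V ⟶ Y) (v : ↥V.left) :
    ∃ (T : Over S) (c : T ⟶ V) (s : (AlgSp.yon S).obj T ⟶ X), Flat c.left ∧
      LocallyOfFinitePresentation c.left ∧ v ∈ Set.range c.left ∧
      s ≫ g = (AlgSp.yon S).map c ≫ b := by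
  have : Presheaf.IsLocallySurjective (AlgSp.J S) g.hom := hg
  have hmem := Presheaf.imageSieve_mem (AlgSp.J S) g.hom (U := op V) (yE V Y b)
  obtain ⟨T, c, hc, hfl, hfp, hv⟩ := exists_flat_lfp_mem _ hmem v
  obtain ⟨t, ht⟩ := hc
  refine ⟨T, c, (yE T X).symm t, hfl, hfp, hv, ?_⟩
  apply (yE T Y).injective
  have e1 : yE T Y ((yE T X).symm t ≫ g) = g.hom.app (op T) t := by
    have := (AlgSp.J S).uliftYonedaEquiv_comp ((yE T X).symm t) g
    simpa [yE] using this
  rw [e1, ← map_yE]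
  exact ht

open Groth.Agent.Lib.Helper12.LocPCases in
/-- **Main lemma.** If `g` is a surjection of fppf sheaves and `g ≫ h` has `LocP P`, then `h` has
`LocP P`, for `P` fppf local on the source, containing flat lfp morphisms and passing to retracts. -/
theorem locP_of_comp {P : MorphismProperty Scheme.{u}} (hP : Good P)
    (hloc : P.IsLocalAtSource Scheme.fppfPrecoverage.{u})
    (hflp : ∀ {A B : Scheme.{u}} (q : A ⟶ B), Flat q → LocallyOfFinitePresentation q → P q)
    (hret : ∀ {X' V' W : Scheme.{u}} (r : X' ⟶ V') (s : V' ⟶ X'), s ≫ r = 𝟙 V' →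
      ∀ (m : V' ⟶ W), P (r ≫ m) → P m)
    {X Y Z : AlgSp.Sp S} (hX : AlgSp.IsAlgSpace X) (hY : AlgSp.IsAlgSpace Y)
    (hZ : AlgSp.IsAlgSpace Z) (g : X ⟶ Y) (h : Y ⟶ Z) (hg : Sheaf.IsLocallySurjective g)
    (hgh : AlgSp.LocP P (g ≫ h)) : AlgSp.LocP P h := by
  have := hP.comp
  have := hP.bc
  intro V W b c k hb hc hcomm
  choose T cT s hfl hfp hv hs using fun v : ↥V.left => exists_local_lift g hg b v
  have hcov : Presieve.ofArrows (fun v => (T v).left) (fun v => (cT v).left) ∈
      Scheme.fppfPrecoverage V.left := by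
    rw [Scheme.fppfPrecoverage, Scheme.ofArrows_mem_precoverage_iff]
    exact ⟨fun v => ⟨v, hv v⟩, fun v => ⟨hfl v, hfp v⟩⟩
  refine hloc.of_forall_comp hcov ?_
  rintro _ _ ⟨v⟩
  -- fix the member `T v`
  have hPc : P (cT v).left := hflp _ (hfl v) (hfp v)
  have hyT : AlgSp.LocP P ((AlgSp.yon S).map (cT v) ≫ b) :=
    hP.locP_comp (AlgSp.IsAlgSpace.yon_obj V) hY _ _
      (Groth.Agent.Lib.Helper12.LocPGen.locP_yon_map_of P hP.hEt hP.hcancel (cT v) hPc)
      (Groth.Agent.S9947.locP_of_repWith_etale P hP.hEt b hb)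
  -- the fibre product `X_T`
  have sqT := IsPullback.of_hasPullback g ((AlgSp.yon S).map (cT v) ≫ b)
  have hXT : AlgSp.IsAlgSpace (pullback g ((AlgSp.yon S).map (cT v) ≫ b)) :=
    Groth.Agent.S9874.isAlgSpace_of_isPullback hY.diag hX (AlgSp.IsAlgSpace.yon_obj (T v)) sqT
  have hprX : AlgSp.LocP P (pullback.fst g ((AlgSp.yon S).map (cT v) ≫ b)) :=
    hP.locP_baseChange (AlgSp.IsAlgSpace.yon_obj (T v)) hY hX sqT.flip hyT
  have hcompP : AlgSp.LocP P (pullback.fst g ((AlgSp.yon S).map (cT v) ≫ b) ≫ (g ≫ h)) :=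
    hP.locP_comp hX hZ _ _ hprX hgh
  -- the section
  let σ : (AlgSp.yon S).obj (T v) ⟶ pullback g ((AlgSp.yon S).map (cT v) ≫ b) :=
    pullback.lift (s v) (𝟙 _) (by rw [Category.id_comp]; exact hs v)
  have hσ : σ ≫ pullback.snd g ((AlgSp.yon S).map (cT v) ≫ b) = 𝟙 _ := pullback.lift_snd _ _ _
  -- an atlas of `X_T`
  obtain ⟨U, aT, haTe, haTs⟩ := hXT.atlas
  obtain ⟨ρ, hρ⟩ := (AlgSp.yon S).map_surjective
    (aT ≫ pullback.snd g ((AlgSp.yon S).map (cT v) ≫ b))
  have hchart : aT ≫ (pullback.fst g ((AlgSp.yon S).map (cT v) ≫ b) ≫ (g ≫ h)) =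
      (AlgSp.yon S).map (ρ ≫ cT v ≫ k) ≫ c := by
    rw [← Category.assoc (pullback.fst _ _), pullback.condition]
    simp only [Category.assoc, Functor.map_comp]
    rw [hcomm, ← Category.assoc aT, ← hρ]
  have hPρ : P (ρ ≫ cT v ≫ k).left := hcompP aT c (ρ ≫ cT v ≫ k) haTe hc hchart
  -- pull the atlas back along the section
  obtain ⟨T'', e, u', sqσ⟩ := haTe.1 σ
  obtain ⟨u, rfl⟩ := (AlgSp.yon S).map_surjective u'
  have : Etale e.left := haTe.2 _ _ e sqσ
  have : Surjective e.left := haTs.2 _ _ e sqσ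
  have hue : u ≫ ρ = e := by
    apply (AlgSp.yon S).map_injective
    rw [Functor.map_comp, hρ, ← Category.assoc, sqσ.w, Category.assoc, hσ, Category.comp_id]
  have hue' : u.left ≫ ρ.left = e.left := by rw [← Over.comp_left, hue]
  -- the scheme-level retract diagram
  let r'' : pullback ρ.left e.left ⟶ T''.left := pullback.snd ρ.left e.left
  let s'' : T''.left ⟶ pullback ρ.left e.left := pullback.lift u.left (𝟙 _) (by rw [hue', Category.id_comp])
  have hs'' : s'' ≫ r'' = 𝟙 _ := pullback.lift_snd _ _ _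
  have hPfst : P (pullback.fst ρ.left e.left) :=
    hP.hEt _ (MorphismProperty.pullback_fst (P := @Etale) _ _ inferInstance)
  have hPall : P (r'' ≫ (e.left ≫ (cT v).left ≫ k.left)) := by
    have e1 : r'' ≫ (e.left ≫ (cT v).left ≫ k.left) =
        pullback.fst ρ.left e.left ≫ (ρ ≫ cT v ≫ k).left := by
      rw [← Category.assoc, ← pullback.condition]
      simp only [Over.comp_left, Category.assoc]
    rw [e1]
    exact P.comp_mem _ _ hPfst hPρ
  have hPe : P (e.left ≫ (cT v).left ≫ k.left) := hret r'' s'' hs'' _ hPall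
  exact hP.hsrc e.left _ hPe

end Groth.Agent.Lib.Seat43.LocSurj
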