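import Mathlib
import Groth.Prelude.Def_AlgSp

set_option autoImplicit false
open CategoryTheory CategoryTheory.Limits

namespace Groth.Agent.Lib.Seat46.UnivCoprod

universe w v v₁ u₁

/-- colimit cofans of types are universal. -/
theorem isUniversalColimit_type {ι : Type v} {F : Discrete ι ⥤ Type w} {c : Cocone F}
    (hc : IsColimit c) : IsUniversalColimit c := by
  let f : ι → Type w := F.obj ∘ Discrete.mk
  have : F = Discrete.functor f :=
    Functor.hext (fun _ ↦ rfl) (by rintro ⟨i⟩ ⟨j⟩ ⟨⟨rfl : i = j⟩⟩; simp [f])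
  clear_value f
  subst this
  intro F' c' α g e hα H
  let f' : ι → Type w := F'.obj ∘ Discrete.mk
  have : F' = Discrete.functor f' :=
    Functor.hext (fun _ ↦ rfl) (by rintro ⟨i⟩ ⟨j⟩ ⟨⟨rfl : i = j⟩⟩; simp [f'])
  clear_value f'
  subst this
  change Nonempty (IsColimit (c' : Cofan f'))
  rw [Cofan.nonempty_isColimit_iff_bijective_fromSigma]
  have hcomm : ∀ (i : ι) (x : f' i), g (Cofan.inj c' i x) =
      Cofan.inj c i (α.app ⟨i⟩ x) := by
    intro i x
    exact (ConcreteCategory.congr_hom (NatTrans.congr_app e ⟨i⟩) x).symm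
  constructor
  · rintro ⟨i, x⟩ ⟨j, y⟩ hxy
    have hxy' : Cofan.inj c' i x = Cofan.inj c' j y := hxy
    obtain rfl : i = j := Cofan.eq_of_inj_apply_eq_of_isColimit hc (α.app ⟨i⟩ x) (α.app ⟨j⟩ y)
      (by rw [← hcomm, ← hcomm, hxy'])
    have h2 : α.app ⟨i⟩ x = α.app ⟨i⟩ y := by
      apply Cofan.inj_injective_of_isColimit hc i
      rw [← hcomm, ← hcomm, hxy']
    have := Types.ext_of_isPullback (H ⟨i⟩) hxy' h2
    rw [this]
  · intro z
    obtain ⟨i, y, hy⟩ := Cofan.inj_jointly_surjective_of_isColimit hc (g z)
    obtain ⟨x, hx1, hx2⟩ := Types.exists_of_isPullback (H ⟨i⟩) z y hy.symm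
    exact ⟨⟨i, x⟩, hx1⟩

/-- universality of a colimit cocone in a functor category can be checked pointwise. -/
theorem isUniversalColimit_of_evaluation {J : Type*} [Category J] {C : Type*} [Category C]
    {D : Type*} [Category D] [HasPullbacks D] [HasColimitsOfShape J D] (F : J ⥤ C ⥤ D)
    (c : Cocone F)
    (hc : ∀ x : C, IsUniversalColimit (((evaluation C D).obj x).mapCocone c)) :
    IsUniversalColimit c := by
  intro F' c' α f e hα H
  have := fun x => hc x (((evaluation C D).obj x).mapCocone c') (Functor.whiskerRight α _)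
      (((evaluation C D).obj x).map f)
      (by
        ext y
        dsimp
        exact NatTrans.congr_app (NatTrans.congr_app e y) x)
      (hα.whiskerRight _)
  exact ⟨evaluationJointlyReflectsColimits _ fun x =>
    ((this x) fun j => (H j).map ((evaluation C D).obj x)).some⟩

/-- colimit cofans of presheaves of types are universal. -/
theorem isUniversalColimit_functor_type {ι : Type v} {C : Type u₁} [Category.{v₁} C]
    {F : Discrete ι ⥤ C ⥤ Type (max v w)} {c : Cocone F} (hc : IsColimit c) :
    IsUniversalColimit c :=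
  isUniversalColimit_of_evaluation F c fun x =>
    isUniversalColimit_type (isColimitOfPreserves ((evaluation C (Type (max v w))).obj x) hc)

/-- colimit cofans of sheaves of types are universal. -/
theorem isUniversalColimit_sheaf_type {ι : Type v} {C : Type u₁} [Category.{v₁} C]
    (J : GrothendieckTopology C) [HasSheafify J (Type (max v w))]
    {F : Discrete ι ⥤ Sheaf J (Type (max v w))} {c : Cocone F} (hc : IsColimit c) :
    IsUniversalColimit c := by
  let Gr := sheafToPresheaf J (Type (max v w))
  let Gl := presheafToSheaf J (Type (max v w))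
  let adj := sheafificationAdjunction J (Type (max v w))
  let c₀ : Cocone (F ⋙ Gr) := colimit.cocone (F ⋙ Gr)
  have h₀ : IsUniversalColimit c₀ :=
    isUniversalColimit_functor_type.{w} (colimit.isColimit _)
  have h₁ : IsUniversalColimit (Gl.mapCocone c₀) := h₀.map_reflective adj
  let β : (F ⋙ Gr) ⋙ Gl ≅ F :=
    Functor.associator _ _ _ ≪≫ Functor.isoWhiskerLeft F (asIso adj.counit) ≪≫ F.rightUnitor
  have h₂ : IsUniversalColimit ((Cocone.precompose β.inv).obj (Gl.mapCocone c₀)) :=
    h₁.precompose_isIso β.inv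
  exact h₂.of_iso (h₂.isColimit.uniqueUpToIso hc)

universe u

/-- colimit cofans of fppf sheaves over `S` (indexed by a type in the universe of `S` or the next
one) are universal. -/
theorem isUniversalColimit_sp {S : AlgebraicGeometry.Scheme.{u}} {ι : Type u}
    {F : Discrete ι ⥤ AlgSp.Sp S} {c : Cocone F} (hc : IsColimit c) : IsUniversalColimit c :=
  isUniversalColimit_sheaf_type.{u + 1, u} (AlgSp.J S) hc

/-- the cofan form. -/
theorem isUniversalColimit_cofan_sp {S : AlgebraicGeometry.Scheme.{u}} {ι : Type u}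
    {F : ι → AlgSp.Sp S} {c : Cofan F} (hc : IsColimit c) : IsUniversalColimit c :=
  isUniversalColimit_sp hc

end Groth.Agent.Lib.Seat46.UnivCoprod
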