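import Mathlib
import Groth.Agent.Lib.Helper12ZarGlue

/-!
# `h_(-)` sends disjoint unions of schemes to coproducts of fppf sheaves (seat 46)
-/

set_option autoImplicit false
universe u
open CategoryTheory CategoryTheory.Limits AlgebraicGeometry Opposite
open AlgSp

namespace Groth.Agent.Lib.Seat46.YonCoprod

open Groth.Agent.S13210 Groth.Agent.Lib.Helper12.ZarGlue

variable {S : Scheme.{u}}

/-- the empty sieve covers an empty scheme. -/
lemma bot_mem_of_isEmpty (T : Over S) [IsEmpty ↥T.left] : (⊥ : Sieve T) ∈ AlgSp.J S T := by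
  have h : Sieve.ofArrows (fun e : PEmpty.{u + 1} => (PEmpty.elim e : Over S))
      (fun e => PEmpty.elim e) = (⊥ : Sieve T) := by
    ext Y f
    constructor
    · rintro ⟨Z, g, k, ⟨e⟩, -⟩
      exact PEmpty.elim e
    · intro h
      exact h.elim
  rw [← h, GrothendieckTopology.mem_over_iff, Sieve.overEquiv_ofArrows]
  apply Precoverage.generate_mem_toGrothendieck
  rw [Scheme.fppfPrecoverage, Scheme.ofArrows_mem_precoverage_iff]
  exact ⟨fun x => (IsEmpty.false x).elim, fun e => PEmpty.elim e⟩

/-- a sheaf has at most one section over an empty scheme. -/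
lemma subsingleton_of_isEmpty (G : AlgSp.Sp S) (T : Over S) [IsEmpty ↥T.left] :
    Subsingleton (G.obj.obj (op T)) := by
  have hsh : Presieve.IsSheaf (AlgSp.J S) G.obj := (isSheaf_iff_isSheaf_of_type _ _).1 G.property
  have h1 := hsh (⊥ : Sieve T) (bot_mem_of_isEmpty T)
  refine ⟨fun x y => ?_⟩
  exact h1.isSeparatedFor.ext (fun Y f hf => hf.elim)

/-- a clopen decomposition of a scheme over `S` gives a coproduct decomposition of the sheaf it
represents. -/
theorem isColimit_cofan_yon {ι : Type u} {W : ι → Over S} {Z : Over S} (e : ∀ j, W j ⟶ Z)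
    (hopen : ∀ j, IsOpenImmersion (e j).left)
    (hdisj : ∀ i j, i ≠ j → Disjoint (Set.range (e i).left) (Set.range (e j).left))
    (hsurj : ∀ z : ↥Z.left, ∃ j, z ∈ Set.range (e j).left) :
    Nonempty (IsColimit (Cofan.mk ((AlgSp.yon S).obj Z) (fun j => (AlgSp.yon S).map (e j)))) := by
  have hmono : ∀ j, Mono (e j) := fun j => by
    haveI := hopen j
    haveI : Mono (e j).left := inferInstance
    exact Over.mono_of_mono_left (e j)
  have hcov : Sieve.ofArrows W e ∈ AlgSp.J S Z := by
    rw [GrothendieckTopology.mem_over_iff, Sieve.overEquiv_ofArrows]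
    apply Precoverage.generate_mem_toGrothendieck
    rw [Scheme.fppfPrecoverage, Scheme.ofArrows_mem_precoverage_iff]
    refine ⟨fun x => ?_, fun i => ?_⟩
    · obtain ⟨j, y, hy⟩ := hsurj x
      exact ⟨j, y, hy⟩
    · haveI := hopen i
      exact ⟨inferInstance, inferInstance⟩
  -- descent of a compatible family
  have key : ∀ (G : AlgSp.Sp S) (f : ∀ j, (AlgSp.yon S).obj (W j) ⟶ G),
      ∃! γ : (AlgSp.yon S).obj Z ⟶ G, ∀ j, (AlgSp.yon S).map (e j) ≫ γ = f j := by
    intro G f
    have hsh : Presieve.IsSheaf (AlgSp.J S) G.obj := (isSheaf_iff_isSheaf_of_type _ _).1 G.property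
    have h1 := hsh.isSheafFor _ hcov
    rw [Presieve.isSheafFor_arrows_iff] at h1
    obtain ⟨t, ht, htu⟩ := h1 (fun i => yEquiv (W i) G (f i)) (by
      intro i j T gi gj hg
      by_cases hij : i = j
      · subst hij
        haveI := hmono i
        rw [(cancel_mono (e i)).1 hg]
      · haveI : IsEmpty ↥T.left := by
          refine ⟨fun x => ?_⟩
          have h1 : (gi ≫ e i).left x ∈ Set.range (e i).left := ⟨gi.left x, rfl⟩
          have h2 : (gi ≫ e i).left x ∈ Set.range (e j).left := by
            rw [hg]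
            exact ⟨gj.left x, rfl⟩
          exact Set.disjoint_iff.1 (hdisj i j hij) ⟨h1, h2⟩
        exact (subsingleton_of_isEmpty G T).elim _ _)
    refine ⟨(yEquiv _ G).symm t, fun i => ?_, fun γ hγ => ?_⟩
    · apply (yEquiv _ G).injective
      rw [← map_yEquiv, Equiv.apply_symm_apply]
      exact ht i
    · apply (yEquiv _ G).injective
      rw [Equiv.apply_symm_apply]
      apply htu
      intro i
      rw [map_yEquiv, hγ i]
  refine ⟨Cofan.IsColimit.mk _ (fun s => (key s.pt s.inj).exists.choose) (fun s j => ?_)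
    (fun s m hm => ?_)⟩
  · exact (key s.pt s.inj).exists.choose_spec j
  · exact (key s.pt s.inj).unique (fun j => hm j) (key s.pt s.inj).exists.choose_spec

end Groth.Agent.Lib.Seat46.YonCoprod
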