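import Mathlib
import Groth.Prelude.Def_AlgSp
import Groth.Agent.Lib.Seat46UnivCoprod
import Groth.Agent.Lib.Seat46YonCoprod
import Groth.Agent.S9878

/-!
# Coproducts of algebraic spaces (seat 46)

* `sigmaOver V`: the disjoint union of a family of schemes over `S` (indexed by a type in the
  universe of `S`), with `h_{∐ V_i} = ∐ h_{V_i}` in fppf sheaves (`isColimit_yon_sigmaOver`).
* `isPullback_yon_sigma`: fibre products of schemes over a coproduct of sheaves are computed
  summand by summand.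
-/

set_option autoImplicit false
universe u
open CategoryTheory CategoryTheory.Limits AlgebraicGeometry

namespace Groth.Agent.Lib.Seat46.CoprodSp

variable {S : Scheme.{u}}

section Sigma

variable {ι : Type u} (V : ι → Over S)

/-- the disjoint union of schemes over `S`. -/
noncomputable def sigmaOver : Over S :=
  Over.mk (Sigma.desc (fun i => (V i).hom) : (∐ fun i => (V i).left) ⟶ S)

/-- the inclusion of a summand. -/
noncomputable def sigmaOverι (i : ι) : V i ⟶ sigmaOver V :=
  Over.homMk (Sigma.ι (fun i => (V i).left) i) (Sigma.ι_desc _ _)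

/-- the morphism out of a disjoint union. -/
noncomputable def sigmaOverDesc {T : Over S} (f : ∀ i, V i ⟶ T) : sigmaOver V ⟶ T :=
  Over.homMk (U := sigmaOver V)
    (Sigma.desc (fun i => (f i).left) : (∐ fun i => (V i).left) ⟶ T.left) (by
    show (Sigma.desc (fun i => (f i).left) : (∐ fun i => (V i).left) ⟶ T.left) ≫ T.hom =
      Sigma.desc (fun i => (V i).hom)
    apply Sigma.hom_ext
    intro j
    rw [Sigma.ι_desc_assoc, Sigma.ι_desc, Over.w])

@[simp]
lemma sigmaOverι_desc {T : Over S} (f : ∀ i, V i ⟶ T) (i : ι) :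
    sigmaOverι V i ≫ sigmaOverDesc V f = f i :=
  Over.OverMorphism.ext (Sigma.ι_desc _ _)

lemma sigmaOverDesc_left {T : Over S} (f : ∀ i, V i ⟶ T) :
    (sigmaOverDesc V f).left = Sigma.desc (fun i => (f i).left) := rfl

lemma sigmaOverι_left (i : ι) : (sigmaOverι V i).left = Sigma.ι (fun i => (V i).left) i := rfl

/-- `h_{∐ V_i}` is the coproduct of the `h_{V_i}` in fppf sheaves. -/
theorem isColimit_yon_sigmaOver :
    Nonempty (IsColimit (Cofan.mk ((AlgSp.yon S).obj (sigmaOver V))
      (fun i => (AlgSp.yon S).map (sigmaOverι V i)))) :=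
  Groth.Agent.Lib.Seat46.YonCoprod.isColimit_cofan_yon (W := V) (Z := sigmaOver V)
    (fun i => sigmaOverι V i)
    (fun i => by
      show IsOpenImmersion (Sigma.ι (fun i => (V i).left) i)
      infer_instance)
    (fun a b hab => by
      have := disjoint_opensRange_sigmaι (fun i => (V i).left) a b hab
      rw [← TopologicalSpace.Opens.coe_disjoint] at this
      exact this)
    (fun z => by
      obtain ⟨j, w, hw⟩ := (sigmaOpenCover (fun i => (V i).left)).exists_eq z
      exact ⟨j, w, hw⟩)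

end Sigma

/-- fibre products of schemes over a coproduct of sheaves are computed summand by summand. -/
theorem isPullback_yon_sigma {ι : Type u} {F : ι → AlgSp.Sp S} (c : Cofan F)
    {T T' : Over S} (x : (AlgSp.yon S).obj T ⟶ c.pt) (y : (AlgSp.yon S).obj T' ⟶ c.pt)
    (Ti : ι → Over S) (e : ∀ i, Ti i ⟶ T)
    (hT : IsColimit (Cofan.mk ((AlgSp.yon S).obj T) (fun i => (AlgSp.yon S).map (e i))))
    (a : ∀ i, (AlgSp.yon S).obj (Ti i) ⟶ F i)
    (ha : ∀ i, (AlgSp.yon S).map (e i) ≫ x = a i ≫ c.inj i)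
    (Ti' : ι → Over S) (e' : ∀ i, Ti' i ⟶ T') (a' : ∀ i, (AlgSp.yon S).obj (Ti' i) ⟶ F i)
    (sqy : ∀ i, IsPullback (a' i) ((AlgSp.yon S).map (e' i)) (c.inj i) y)
    (V : ι → Over S) (v : ∀ i, V i ⟶ Ti i) (v' : ∀ i, V i ⟶ Ti' i)
    (sqV : ∀ i, IsPullback ((AlgSp.yon S).map (v i)) ((AlgSp.yon S).map (v' i)) (a i) (a' i)) :
    IsPullback ((AlgSp.yon S).map (sigmaOverDesc V (fun i => v i ≫ e i)))
      ((AlgSp.yon S).map (sigmaOverDesc V (fun i => v' i ≫ e' i))) x y := by
  obtain ⟨hV⟩ := isColimit_yon_sigmaOver V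
  have hau := Groth.Agent.Lib.Seat46.UnivCoprod.isUniversalColimit_cofan_sp hT
  have hP : ∀ i, IsPullback ((AlgSp.yon S).map (v' i ≫ e' i)) ((AlgSp.yon S).map (v i)) y
      ((AlgSp.yon S).map (e i) ≫ x) := by
    intro i
    have h1 := (sqV i).paste_vert (sqy i)
    rw [← ha i, ← Functor.map_comp] at h1
    exact h1.flip
  have key := hau.isPullback_of_isColimit_left (fun i => (AlgSp.yon S).map (e i) ≫ x) x y
    (fun i => (AlgSp.yon S).map (v' i ≫ e' i)) (fun i => (AlgSp.yon S).map (v i)) hP hV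
    (fun i => rfl)
  have h1 : Cofan.IsColimit.desc hV (fun i => (AlgSp.yon S).map (v' i ≫ e' i)) =
      (AlgSp.yon S).map (sigmaOverDesc V (fun i => v' i ≫ e' i)) := by
    refine Cofan.IsColimit.hom_ext hV _ _ (fun i => ?_)
    rw [Cofan.IsColimit.fac]
    show _ = (AlgSp.yon S).map (sigmaOverι V i) ≫ _
    rw [← Functor.map_comp, sigmaOverι_desc]
  have h2 : Cofan.IsColimit.desc hV (fun i => (AlgSp.yon S).map (v i) ≫
      (Cofan.mk ((AlgSp.yon S).obj T) (fun i => (AlgSp.yon S).map (e i))).inj i) =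
      (AlgSp.yon S).map (sigmaOverDesc V (fun i => v i ≫ e i)) := by
    refine Cofan.IsColimit.hom_ext hV _ _ (fun i => ?_)
    rw [Cofan.IsColimit.fac]
    show _ = (AlgSp.yon S).map (sigmaOverι V i) ≫ _
    rw [← Functor.map_comp, sigmaOverι_desc, Functor.map_comp]
    rfl
  rw [h1, h2] at key
  exact key.flip

end Groth.Agent.Lib.Seat46.CoprodSp
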