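import Mathlib
import Groth.Prelude.Def_AlgSp
import Groth.Agent.Lib.Seat19QuotSp
import Groth.Agent.S9870
import Groth.Agent.S9877
import Groth.Agent.S9881

/-!
# `U/R` is an algebraic space for every etale equivalence relation (seat 19)

Relative to `Boot.HSepLqf`.  The restriction of the relation to the members of an affine open
cover of `U` has separated source map; the quotients of the restrictions are open subspaces of
`U/R` (S9870) covering it, and one glues (S9877, S9881).
-/

set_option autoImplicit false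
universe u

open CategoryTheory Limits AlgebraicGeometry Opposite
open Groth.Agent.Lib.Seat19.QuotPts Groth.Agent.Lib.Seat19.FppfFpqc
open Groth.Agent.Lib.Helper9 Groth.Agent.Lib.Helper12.QuotShLib
open Groth.Agent.Lib.Seat19.Present Groth.Agent.Lib.Seat19.Boot

namespace Groth.Agent.Lib.Seat19.QuotCover

local notation "𝕃" => Scheme.fppfPrecoverage

variable {S : Scheme.{u}} {R U : Over S} (s t : R ⟶ U)

section Restrict

variable {U' : Over S} (g : U' ⟶ U)

/-- the restriction of the relation to `U'`. -/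
noncomputable abbrev Rr : Over S := pullback (prod.map g g) (prod.lift t s)

noncomputable abbrev jr : Rr s t g ⟶ U' ⨯ U' := pullback.fst (prod.map g g) (prod.lift t s)

noncomputable abbrev rr : Rr s t g ⟶ R := pullback.snd (prod.map g g) (prod.lift t s)

noncomputable def tr : Rr s t g ⟶ U' := jr s t g ≫ prod.fst

noncomputable def sr : Rr s t g ⟶ U' := jr s t g ≫ prod.snd

lemma hsq_r : IsPullback (prod.lift (tr s t g) (sr s t g)) (rr s t g) (prod.map g g)
    (prod.lift t s) := by
  have e : prod.lift (tr s t g) (sr s t g) = jr s t g := by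
    apply Limits.prod.hom_ext
    · rw [prod.lift_fst]
      rfl
    · rw [prod.lift_snd]
      rfl
  rw [e]
  exact IsPullback.of_hasPullback _ _

lemma rr_t : rr s t g ≫ t = tr s t g ≫ g :=
  Groth.Agent.Lib.Seat19.QuotOpen.r_t s t g (sr s t g) (tr s t g) (rr s t g) (hsq_r s t g)

lemma rr_s : rr s t g ≫ s = sr s t g ≫ g :=
  Groth.Agent.Lib.Seat19.QuotOpen.r_s s t g (sr s t g) (tr s t g) (rr s t g) (hsq_r s t g)

/-- the restriction of an equivalence relation is an equivalence relation. -/
theorem isEqvRel_restrict (h : AlgSp.IsEqvRel s t) : AlgSp.IsEqvRel (sr s t g) (tr s t g) := by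
  have key : ∀ (T : Over S) (a b : T ⟶ U'),
      (∃ r' : T ⟶ Rr s t g, r' ≫ tr s t g = a ∧ r' ≫ sr s t g = b) ↔
        ∃ ρ : T ⟶ R, ρ ≫ t = a ≫ g ∧ ρ ≫ s = b ≫ g := by
    intro T a b
    constructor
    · rintro ⟨r', h1, h2⟩
      refine ⟨r' ≫ rr s t g, ?_, ?_⟩
      · rw [Category.assoc, rr_t, ← Category.assoc, h1]
      · rw [Category.assoc, rr_s, ← Category.assoc, h2]
    · rintro ⟨ρ, h1, h2⟩
      obtain ⟨ρ', h3, h4⟩ := Groth.Agent.Lib.Seat19.QuotOpen.exists_rel' s t g (sr s t g)
        (tr s t g) (rr s t g) (hsq_r s t g) b a ρ h2 h1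
      exact ⟨ρ', h4, h3⟩
  refine ⟨?_, ?_⟩
  · intro T x y h1 h2
    apply pullback.hom_ext
    · apply Limits.prod.hom_ext
      · exact (Category.assoc _ _ _).trans (h1.trans (Category.assoc _ _ _).symm)
      · exact (Category.assoc _ _ _).trans (h2.trans (Category.assoc _ _ _).symm)
    · apply h.injective
      · calc (x ≫ rr s t g) ≫ t = x ≫ rr s t g ≫ t := Category.assoc _ _ _
          _ = x ≫ tr s t g ≫ g := by rw [rr_t]
          _ = (x ≫ tr s t g) ≫ g := (Category.assoc _ _ _).symm
          _ = (y ≫ tr s t g) ≫ g := by rw [h1]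
          _ = y ≫ tr s t g ≫ g := Category.assoc _ _ _
          _ = y ≫ rr s t g ≫ t := by rw [rr_t]
          _ = (y ≫ rr s t g) ≫ t := (Category.assoc _ _ _).symm
      · calc (x ≫ rr s t g) ≫ s = x ≫ rr s t g ≫ s := Category.assoc _ _ _
          _ = x ≫ sr s t g ≫ g := by rw [rr_s]
          _ = (x ≫ sr s t g) ≫ g := (Category.assoc _ _ _).symm
          _ = (y ≫ sr s t g) ≫ g := by rw [h2]
          _ = y ≫ sr s t g ≫ g := Category.assoc _ _ _
          _ = y ≫ rr s t g ≫ s := by rw [rr_s]
          _ = (y ≫ rr s t g) ≫ s := (Category.assoc _ _ _).symm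
  · intro T
    have hE := h.equivalence T
    refine ⟨?_, ?_, ?_⟩
    · intro a
      exact (key T a a).mpr (hE.refl (a ≫ g))
    · intro a b hab
      exact (key T b a).mpr (hE.symm ((key T a b).mp hab))
    · intro a b c hab hbc
      exact (key T a c).mpr (hE.trans ((key T a b).mp hab) ((key T b c).mp hbc))

lemma prodMap_left_eq :
    (prod.map g g).left = (Over.prodLeftIsoPullback U' U').hom ≫
      pullback.map U'.hom U'.hom U.hom U.hom g.left g.left (𝟙 S)
        (by rw [Category.comp_id]; exact (Over.w g).symm)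
        (by rw [Category.comp_id]; exact (Over.w g).symm) ≫
      (Over.prodLeftIsoPullback U U).inv := by
  rw [← Category.assoc, Iso.eq_comp_inv]
  apply pullback.hom_ext
  · rw [Category.assoc, Over.prodLeftIsoPullback_hom_fst, Category.assoc, pullback.lift_fst,
      ← Category.assoc, Over.prodLeftIsoPullback_hom_fst, ← Over.comp_left, ← Over.comp_left,
      prod.map_fst]
  · rw [Category.assoc, Over.prodLeftIsoPullback_hom_snd, Category.assoc, pullback.lift_snd,
      ← Category.assoc, Over.prodLeftIsoPullback_hom_snd, ← Over.comp_left, ← Over.comp_left,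
      prod.map_snd]

lemma isOpenImmersion_prodMap_left [IsOpenImmersion g.left] :
    IsOpenImmersion (prod.map g g).left := by
  rw [prodMap_left_eq]
  infer_instance

lemma isOpenImmersion_rr [IsOpenImmersion g.left] : IsOpenImmersion (rr s t g).left := by
  have h1 : IsPullback (jr s t g).left (rr s t g).left (prod.map g g).left (prod.lift t s).left :=
    (IsPullback.of_hasPullback (prod.map g g) (prod.lift t s)).map (Over.forget S)
  have := isOpenImmersion_prodMap_left g
  exact MorphismProperty.of_isPullback (P := @IsOpenImmersion) h1 this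

lemma etale_sr [IsOpenImmersion g.left] (hs : Etale s.left) : Etale (sr s t g).left := by
  have := isOpenImmersion_rr s t g
  have e : (sr s t g).left ≫ g.left = (rr s t g).left ≫ s.left := by
    rw [← Over.comp_left, ← Over.comp_left, rr_s]
  have : Etale ((sr s t g).left ≫ g.left) := by rw [e]; infer_instance
  exact Etale.of_comp (sr s t g).left g.left

lemma etale_tr [IsOpenImmersion g.left] (ht : Etale t.left) : Etale (tr s t g).left := by
  have := isOpenImmersion_rr s t g
  have e : (tr s t g).left ≫ g.left = (rr s t g).left ≫ t.left := by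
    rw [← Over.comp_left, ← Over.comp_left, rr_t]
  have : Etale ((tr s t g).left ≫ g.left) := by rw [e]; infer_instance
  exact Etale.of_comp (tr s t g).left g.left

theorem isEtaleEqvRel_restrict [IsOpenImmersion g.left] (h : AlgSp.IsEtaleEqvRel s t) :
    AlgSp.IsEtaleEqvRel (sr s t g) (tr s t g) :=
  { toIsEqvRel := isEqvRel_restrict s t g h.toIsEqvRel
    etale_left := etale_sr s t g h.etale_left
    etale_right := etale_tr s t g h.etale_right }

lemma isSeparated_of_isAffine {X Y : Scheme.{u}} (f : X ⟶ Y) [IsAffine X] : IsSeparated f := by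
  have : IsAffineHom (f ≫ terminal.from Y) := inferInstance
  have : IsSeparated (f ≫ terminal.from Y) := IsSeparated.of_isAffineHom _
  exact IsSeparated.of_comp f (terminal.from Y)

/-- on an affine member the restricted source map is separated. -/
lemma isSeparated_sr [IsAffine U'.left] (h : AlgSp.IsEqvRel s t) :
    IsSeparated (sr s t g).left := by
  have h' := isEqvRel_restrict s t g h
  have hmono : Mono (jr s t g) := by
    constructor
    intro W x y hxy
    apply h'.injective
    · exact (Category.assoc _ _ _).symm.trans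
        ((congrArg (· ≫ prod.fst) hxy).trans (Category.assoc _ _ _))
    · exact (Category.assoc _ _ _).symm.trans
        ((congrArg (· ≫ prod.snd) hxy).trans (Category.assoc _ _ _))
  have : Mono (jr s t g).left := inferInstance
  have hsepU : IsSeparated U'.hom := isSeparated_of_isAffine U'.hom
  have e : (sr s t g).left = (jr s t g).left ≫ (Over.prodLeftIsoPullback U' U').hom ≫
      pullback.snd U'.hom U'.hom := by
    rw [Over.prodLeftIsoPullback_hom_snd, ← Over.comp_left]
    rfl
  rw [e]
  infer_instance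

/-- the map of quotient sheaves induced by the restriction. -/
noncomputable def φr : QuotSh.quot 𝕃 (sr s t g) (tr s t g) ⟶ QuotSh.quot 𝕃 s t :=
  coequalizer.desc (QuotSh.repMap 𝕃 g ≫ QuotSh.quotπ 𝕃 s t) (by
    rw [← Category.assoc, ← repMap_comp, ← rr_s, repMap_comp, Category.assoc,
      QuotSh.quot_condition, ← Category.assoc, ← repMap_comp, rr_t, repMap_comp,
      Category.assoc])

lemma hφr : QuotSh.quotπ 𝕃 (sr s t g) (tr s t g) ≫ φr s t g =
    QuotSh.repMap 𝕃 g ≫ QuotSh.quotπ 𝕃 s t :=
  coequalizer.π_desc _ _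

end Restrict

section Glue

variable (H : HSepLqf.{u}) (h : AlgSp.IsEtaleEqvRel s t)

lemma surjective_right_of_isEqvRel {R U : Over S} {s t : R ⟶ U} (h : AlgSp.IsEqvRel s t) :
    Surjective t.left := by
  obtain ⟨r, hr1, -⟩ := (h.equivalence U).refl (𝟙 U)
  have h1 : r.left ≫ t.left = 𝟙 U.left := congrArg (fun m => m.left) hr1
  refine ⟨fun x => ⟨r.left.base x, ?_⟩⟩
  have h2 := congrArg (fun m => m.base x) h1
  simpa using h2

include H h in
/-- **`U/R` is an algebraic space** for every etale equivalence relation (S9868, relative to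
`HSepLqf`). -/
theorem isAlgSpace_quot : AlgSp.IsAlgSpace (QuotSh.quot 𝕃 s t) := by
  let 𝒰 := U.left.affineCover
  let Ui : 𝒰.I₀ → Over S := fun i => Over.mk (𝒰.f i ≫ U.hom)
  let gi : ∀ i, Ui i ⟶ U := fun i => Over.homMk (𝒰.f i) rfl
  have hopen : ∀ i, IsOpenImmersion (gi i).left := fun i =>
    (inferInstance : IsOpenImmersion (𝒰.f i))
  have haff : ∀ i, IsAffine (Ui i).left := fun i => (inferInstance : IsAffine (𝒰.X i))
  let Fi : 𝒰.I₀ → AlgSp.Sp S := fun i => QuotSh.quot 𝕃 (sr s t (gi i)) (tr s t (gi i))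
  have hrel : ∀ i, AlgSp.IsEtaleEqvRel (sr s t (gi i)) (tr s t (gi i)) := fun i =>
    have := hopen i
    isEtaleEqvRel_restrict s t (gi i) h
  have halg : ∀ i, AlgSp.IsAlgSpace (Fi i) := fun i =>
    have := haff i
    Groth.Agent.Lib.Seat19.QuotSp.isAlgSpace_quot_of_separated _ _ H (hrel i)
      (isSeparated_sr s t (gi i) h.toIsEqvRel)
  have hets : Etale s.left := h.etale_left
  have hett : Etale t.left := h.etale_right
  have hsus : Surjective s.left := surjective_left_of_isEqvRel h.toIsEqvRel
  have hsut : Surjective t.left := surjective_right_of_isEqvRel h.toIsEqvRel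
  have hop : ∀ i, AlgSp.RepWith @IsOpenImmersion (φr s t (gi i)) := fun i =>
    have := hopen i
    Groth.Agent.S9870.result S s t (gi i) (sr s t (gi i)) (tr s t (gi i)) (rr s t (gi i))
      (hsq_r s t (gi i)) h.toIsEqvRel (φr s t (gi i)) (hφr s t (gi i))
  let c : Cofan Fi := Cofan.mk (∐ Fi) (Sigma.ι Fi)
  let hc : IsColimit c := coproductIsCoproduct Fi
  refine Groth.Agent.S9877.result S _ Fi (fun i => φr s t (gi i)) halg hop c hc ?_
    (Groth.Agent.S9881.result S Fi halg c hc)
  -- the coproduct of the open subspaces covers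
  have hepi : Epi (Cofan.IsColimit.desc hc (fun i => φr s t (gi i))) := by
    constructor
    intro G a b hab
    rw [← cancel_epi (QuotSh.quotπ 𝕃 s t)]
    -- the Zariski covering sieve of `U`
    let 𝓡 : Sieve U := Sieve.generate (Presieve.ofArrows Ui gi)
    have h𝓡 : 𝓡 ∈ QuotSh.J 𝕃 S U := by
      refine (GrothendieckTopology.mem_over_iff _ _).mpr ?_
      rw [Precoverage.mem_toGrothendieck_iff_of_isStableUnderComposition]
      refine ⟨Presieve.ofArrows 𝒰.X 𝒰.f,
        Scheme.zariskiPrecoverage_le_fppfPrecoverage _ 𝒰.mem₀, ?_⟩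
      rintro Y f ⟨i⟩
      refine (Sieve.overEquiv_iff _ _).mpr ?_
      exact ⟨_, 𝟙 _, gi i, ⟨i⟩, Category.id_comp _⟩
    refine hom_ext_of_cover 𝕃 _ _ 𝓡 h𝓡 ?_
    rintro W f ⟨Y, k, g', ⟨i⟩, rfl⟩
    have e1 : ∀ m : QuotSh.quot 𝕃 s t ⟶ G,
        QuotSh.repMap 𝕃 (gi i) ≫ QuotSh.quotπ 𝕃 s t ≫ m =
          QuotSh.quotπ 𝕃 (sr s t (gi i)) (tr s t (gi i)) ≫ Sigma.ι Fi i ≫
            Cofan.IsColimit.desc hc (fun i => φr s t (gi i)) ≫ m := by
      intro m
      have e2 : Sigma.ι Fi i ≫ Cofan.IsColimit.desc hc (fun i => φr s t (gi i)) =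
          φr s t (gi i) := Cofan.IsColimit.fac hc _ i
      calc QuotSh.repMap 𝕃 (gi i) ≫ QuotSh.quotπ 𝕃 s t ≫ m
          = (QuotSh.repMap 𝕃 (gi i) ≫ QuotSh.quotπ 𝕃 s t) ≫ m := (Category.assoc _ _ _).symm
        _ = (QuotSh.quotπ 𝕃 (sr s t (gi i)) (tr s t (gi i)) ≫ φr s t (gi i)) ≫ m := by
            rw [hφr]
        _ = QuotSh.quotπ 𝕃 (sr s t (gi i)) (tr s t (gi i)) ≫ φr s t (gi i) ≫ m :=
            Category.assoc _ _ _
        _ = QuotSh.quotπ 𝕃 (sr s t (gi i)) (tr s t (gi i)) ≫ (Sigma.ι Fi i ≫
              Cofan.IsColimit.desc hc (fun i => φr s t (gi i))) ≫ m := by rw [e2]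
        _ = _ := by rw [Category.assoc]
    rw [repMap_comp, Category.assoc, Category.assoc, e1 a, e1 b, hab]
  exact (Sheaf.isLocallySurjective_iff_epi _).mpr hepi

end Glue

end Groth.Agent.Lib.Seat19.QuotCover
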