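import Groth.Agent.Lib.Seat58DescQA3
import Groth.Agent.S9380
import Groth.Prelude.Def_Mor2

/-!
# Quasi-affine morphisms as "quasi-compact open immersion followed by affine" (seat 58)

The morphism property `QAFac` (factorisation into a quasi-compact open immersion followed by an
affine morphism), its stability under base change and finite disjoint unions, and the affine case
of effective descent for it.
-/

set_option autoImplicit false
set_option linter.unusedSectionVars false
set_option backward.isDefEq.respectTransparency false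
set_option backward.isDefEq.respectTransparency.types false
universe u
open CategoryTheory CategoryTheory.Limits AlgebraicGeometry Desc

namespace Groth.Agent.Lib.Seat58.DescQA

/-- a property that is Zariski-local at the target is stable under finite disjoint unions -/
lemma sigmaMap_of_isZariskiLocalAtTarget (P : MorphismProperty Scheme.{u})
    [IsZariskiLocalAtTarget P] (m : ℕ) (Y V : Fin m → Scheme.{u}) (q : ∀ j, Y j ⟶ V j)
    (hq : ∀ j, P (q j)) : P (Limits.Sigma.map q) := by
  rw [IsZariskiLocalAtTarget.iff_of_openCover (P := P) (sigmaOpenCover V)]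
  intro j
  have hvk := FinitaryExtensive.isVanKampen_finiteCoproducts (coproductIsCoproduct V)
  have hpb : IsPullback (Sigma.ι Y j) (q j) (Limits.Sigma.map q) (Sigma.ι V j) := by
    have := (hvk (Cofan.mk _ (Sigma.ι Y)) (Discrete.natTrans (fun j => q j.as)) (Limits.Sigma.map q)
      (by ext; simp) (NatTrans.Equifibered.of_discrete _)).mp ⟨coproductIsCoproduct Y⟩ ⟨j⟩
    simpa using this
  have e : pullback.snd (Limits.Sigma.map q) (Sigma.ι V j) = hpb.isoPullback.inv ≫ q j := by simp
  change P (pullback.snd (Limits.Sigma.map q) (Sigma.ι V j))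
  rw [e]
  exact (P.cancel_left_of_respectsIso _ _).mpr (hq j)

/-- factorisation into a quasi-compact open immersion followed by an affine morphism -/
def QAFac : MorphismProperty Scheme.{u} := fun X Y f =>
  ∃ (P : Scheme.{u}) (c : X ⟶ P) (π : P ⟶ Y),
    c ≫ π = f ∧ IsOpenImmersion c ∧ QuasiCompact c ∧ IsAffineHom π

instance : QAFac.{u}.IsStableUnderBaseChange where
  of_isPullback {X Y Y' S f g f' g'} sq hg := by
    obtain ⟨P₀, c, π, hc, h1, h2, h3⟩ := hg
    let c' : Y' ⟶ pullback π f := pullback.lift (f' ≫ c) g' (by rw [Category.assoc, hc, sq.w])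
    have hc' : c' ≫ pullback.snd π f = g' := pullback.lift_snd _ _ _
    have hbig : IsPullback (c' ≫ pullback.snd π f) f' f (c ≫ π) := by
      rw [hc', hc]; exact sq.flip
    have hleft : IsPullback c' f' (pullback.fst π f) c :=
      IsPullback.of_right hbig (pullback.lift_fst _ _ _) (IsPullback.of_hasPullback π f).flip
    have h3' : IsAffineHom (pullback.snd π f) :=
      MorphismProperty.pullback_snd (P := @IsAffineHom) _ _ h3
    refine ⟨pullback π f, c', pullback.snd π f, hc', ?_, ?_, h3'⟩
    · exact MorphismProperty.of_isPullback (P := @IsOpenImmersion) hleft.flip h1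
    · exact MorphismProperty.of_isPullback (P := @QuasiCompact) hleft.flip h2

/-- `QAFac` is stable under finite disjoint unions -/
lemma qaFac_sigmaMap (m : ℕ) (Y V : Fin m → Scheme.{u}) (q : ∀ j, Y j ⟶ V j)
    (hq : ∀ j, QAFac (q j)) : QAFac (Limits.Sigma.map q) := by
  choose P c π hc h1 h2 h3 using hq
  refine ⟨∐ P, Limits.Sigma.map c, Limits.Sigma.map π, ?_, ?_, ?_, ?_⟩
  · rw [Limits.Sigma.map_comp_map]
    congr 1
    funext j
    exact hc j
  · exact sigmaMap_of_isZariskiLocalAtTarget @IsOpenImmersion m Y P c h1
  · exact sigmaMap_of_isZariskiLocalAtTarget @QuasiCompact m Y P c h2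
  · exact sigmaMap_of_isZariskiLocalAtTarget @IsAffineHom m P V π h3

/-- affine case of effective descent for `QAFac` -/
lemma exists_iso_of_qaFac (X S : Scheme.{u}) (p : X ⟶ S) (hX : IsAffine X) (hS : IsAffine S)
    (hp : Flat p) (hs : Surjective p) (D : SchDD p) (hD : QAFac D.obj.hom) :
    ∃ U : Over S, Nonempty ((toDD p).obj U ≅ D) := by
  obtain ⟨P₀, c, π, hc, h1, h2, h3⟩ := hD
  have : IsAffine P₀ := isAffine_of_isAffineHom π
  have : CompactSpace D.obj.left := by
    have := h2
    exact QuasiCompact.compactSpace_of_compactSpace c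
  have : D.obj.left.IsQuasiAffine := Scheme.IsQuasiAffine.of_isImmersion c
  exact exists_iso_of_quasiAffine D

/-- a quasi-affine morphism factors as a quasi-compact open immersion followed by an affine
morphism -/
lemma qaFac_of_isQuasiAffine {X Y : Scheme.{u}} (f : X ⟶ Y) (hf : Mor2.IsQuasiAffine f) :
    QAFac f := by
  have hqc : QuasiCompact f := hf.1
  have hqs : QuasiSeparated f := by
    rw [HasAffineProperty.iff_of_iSup_eq_top (P := @QuasiSeparated) (fun U : Y.affineOpens => U)
      (by
        rw [eq_top_iff]
        intro x _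
        obtain ⟨_, ⟨W, hW, rfl⟩, hxW, -⟩ := Y.isBasis_affineOpens.exists_subset_of_mem_open
          (Set.mem_univ x) isOpen_univ
        exact TopologicalSpace.Opens.mem_iSup.mpr ⟨⟨W, hW⟩, hxW⟩)]
    intro U
    have := hf.2 U.1 U.2
    change QuasiSeparatedSpace (f ⁻¹ᵁ U.1).toScheme
    infer_instance
  obtain ⟨c, e, -, h2, h1⟩ := (Groth.Agent.S9380.result f).mp hf
  exact ⟨_, c, _, e, h1, h2, inferInstance⟩

end Groth.Agent.Lib.Seat58.DescQA
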