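import Mathlib
import Groth.Agent.Lib.Seat19QuotCover
import Groth.Agent.S9726

/-!
# Discharging the descent hypothesis of `Seat19Boot` (seat 19)

`Boot.HSepLqf` is the statement of S9726 (helper58): effective descent for separated, locally
quasi-finite morphisms along one fppf cover.
-/

set_option autoImplicit false
universe u

open CategoryTheory Limits AlgebraicGeometry

namespace Groth.Agent.Lib.Seat19.BootH

theorem hSepLqf : Groth.Agent.Lib.Seat19.Boot.HSepLqf.{u} := by
  intro X S p _ _ _ D _ _ _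
  exact Groth.Agent.S9726.result p D

variable {S : Scheme.{u}}

/-- S9873. -/
theorem isAlgSpace_of_space_chart (X : AlgSp.Space S) {F : AlgSp.Sp S}
    (f : X.obj ⟶ F) (he : AlgSp.RepWith @Etale f) (hs : AlgSp.RepWith @Surjective f) :
    AlgSp.IsAlgSpace F :=
  Groth.Agent.Lib.Seat19.Boot.isAlgSpace_of_space_chart hSepLqf X f he hs

/-- a sheaf with a representable etale surjective chart is an algebraic space. -/
theorem isAlgSpace_of_chart {F : AlgSp.Sp S} {U : Over S} (q : (AlgSp.yon S).obj U ⟶ F)
    (hqe : AlgSp.RepWith @Etale q) (hqs : AlgSp.RepWith @Surjective q) : AlgSp.IsAlgSpace F :=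
  Groth.Agent.Lib.Seat19.Boot.isAlgSpace_of_chart hSepLqf q hqe hqs

/-- S9868. -/
theorem isAlgSpace_quot {R U : Over S} (s t : R ⟶ U) (h : AlgSp.IsEtaleEqvRel s t) :
    AlgSp.IsAlgSpace (QuotSh.quot Scheme.fppfPrecoverage s t) :=
  Groth.Agent.Lib.Seat19.QuotCover.isAlgSpace_quot s t hSepLqf h

end Groth.Agent.Lib.Seat19.BootH
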