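import Mathlib.Tactic
import Groth.Prelude.Def_Red2
import Groth.Agent.Lib.Helper27GaGm
import Mathlib.AlgebraicGeometry.Morphisms.Finite
import Mathlib.Algebra.Category.Ring.Epi

/-!
# Points of affine schemes over a field, as algebra homomorphisms (seat 19)

Over `S = Spec K`, the ring of functions `Γ(X)` of an `S`-scheme `X` is a `K`-algebra (`kAlg`), a morphism
`g : X' ⟶ X` of `S`-schemes gives a `K`-algebra homomorphism `pull g : Γ(X) →ₐ[K] Γ(X')`, and the points of an
affine `S`-scheme `H` with values in `X` are the `K`-algebra homomorphisms `Γ(H) →ₐ[K] Γ(X)`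
(`affPt_exists`, `affPt_ext`).
-/

set_option autoImplicit false
universe u

open CategoryTheory MonoidalCategory CartesianMonoidalCategory MonObj GrpObj AlgebraicGeometry CategoryTheory.Limits
open Groth.Agent.Lib.Helper27.GaGm

namespace Groth.Agent.Lib.Seat19.GaGmPts

variable {K : Type u} [Field K]

/-- the structure map `K → Γ(X)` of a scheme over `Spec K`. -/
noncomputable def kmap (X : Over (Spec (CommRingCat.of K))) : K →+* Γ(X.left, ⊤) := fnHom X.hom

/-- `Γ(X)` is a `K`-algebra. -/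
@[reducible] noncomputable def kAlg (X : Over (Spec (CommRingCat.of K))) : Algebra K Γ(X.left, ⊤) := (kmap X).toAlgebra

attribute [local instance] kAlg

lemma algebraMap_eq (X : Over (Spec (CommRingCat.of K))) : algebraMap K Γ(X.left, ⊤) = kmap X := rfl

lemma kmap_comp {X X' : Over (Spec (CommRingCat.of K))} (g : X' ⟶ X) (k : K) :
    g.left.appTop (kmap X k) = kmap X' k := by
  change g.left.appTop (fn X.hom k) = fn X'.hom k
  rw [← fn_comp, Over.w g]

/-- pull-back of functions along a morphism of `K`-schemes, as a `K`-algebra homomorphism. -/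
noncomputable def pull {X X' : Over (Spec (CommRingCat.of K))} (g : X' ⟶ X) :
    Γ(X.left, ⊤) →ₐ[K] Γ(X'.left, ⊤) :=
  { g.left.appTop.hom with
    commutes' := fun k => kmap_comp g k }

@[simp] lemma pull_apply {X X' : Over (Spec (CommRingCat.of K))} (g : X' ⟶ X) (a : Γ(X.left, ⊤)) :
    pull g a = g.left.appTop a := rfl

lemma pull_comp {X X' X'' : Over (Spec (CommRingCat.of K))} (g : X' ⟶ X) (g' : X'' ⟶ X')
    (a : Γ(X.left, ⊤)) : pull (g' ≫ g) a = pull g' (pull g a) := by
  simp only [pull_apply, Over.comp_left, Scheme.Hom.comp_appTop]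
  rfl

lemma pull_id {X : Over (Spec (CommRingCat.of K))} (a : Γ(X.left, ⊤)) : pull (𝟙 X) a = a := by
  simp only [pull_apply, Over.id_left, Scheme.Hom.id_appTop]
  rfl

lemma gaFn_comp' {X X' : Over (Spec (CommRingCat.of K))} (g : X' ⟶ X)
    (x : X ⟶ Red.Ga (Spec (CommRingCat.of K))) : Red.gaFn (g ≫ x) = pull g (Red.gaFn x) :=
  gaFn_comp g x

lemma gmFn_comp' {X X' : Over (Spec (CommRingCat.of K))} (g : X' ⟶ X)
    (x : X ⟶ Red.Gm (Spec (CommRingCat.of K))) : Red.gmFn (g ≫ x) = pull g (Red.gmFn x) :=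
  gmFn_comp g x

section Affine

variable {X H : Over (Spec (CommRingCat.of K))} [IsAffine H.left]

theorem affPt_ext (w w' : X ⟶ H) (h : ∀ b, pull w b = pull w' b) : w = w' := by
  apply Over.OverMorphism.ext
  apply ext_of_isAffine
  ext b
  exact h b

theorem affPt_exists (ρ : Γ(H.left, ⊤) →ₐ[K] Γ(X.left, ⊤)) : ∃ w : X ⟶ H, ∀ b, pull w b = ρ b := by
  let wl : X.left ⟶ H.left :=
    X.left.toSpecΓ ≫ Spec.map (CommRingCat.ofHom ρ.toRingHom) ≫ H.left.isoSpec.inv
  have h1 : H.left.isoSpec.inv.appTop = (Scheme.ΓSpecIso Γ(H.left, ⊤)).inv := by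
    have h2 : H.left.isoSpec.hom.appTop = (Scheme.ΓSpecIso Γ(H.left, ⊤)).hom := by
      rw [Scheme.isoSpec_hom, Scheme.toSpecΓ_appTop]
    have h3 : H.left.isoSpec.hom.appTop ≫ H.left.isoSpec.inv.appTop = 𝟙 _ := by
      rw [← Scheme.Hom.comp_appTop, Iso.inv_hom_id]; rfl
    rw [h2] at h3
    rw [← cancel_epi (Scheme.ΓSpecIso Γ(H.left, ⊤)).hom, h3, Iso.hom_inv_id]
  have hwl : wl.appTop = CommRingCat.ofHom ρ.toRingHom := by
    simp only [wl, Scheme.Hom.comp_appTop, h1, Scheme.toSpecΓ_appTop]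
    rw [← Scheme.ΓSpecIso_inv_naturality, Category.assoc, Iso.inv_hom_id,
      Category.comp_id]
  have hover : wl ≫ H.hom = X.hom := by
    apply ext_of_isAffine
    rw [Scheme.Hom.comp_appTop, hwl]
    rw [← cancel_epi (Scheme.ΓSpecIso (CommRingCat.of K)).inv]
    ext k
    have := ρ.commutes k
    exact this
  refine ⟨Over.homMk wl hover, fun b => ?_⟩
  change wl.appTop b = ρ b
  rw [hwl]
  rfl

end Affine

section SpecO

variable (A : Type u) [CommRing A] [Algebra K A]

/-- `Spec A` as a scheme over `Spec K`. -/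
noncomputable def specO : Over (Spec (CommRingCat.of K)) :=
  Over.mk (Spec.map (CommRingCat.ofHom (algebraMap K A)))

instance : IsAffine (specO (K := K) A).left := by
  change IsAffine (Spec (CommRingCat.of A))
  infer_instance

/-- the functions on `Spec A`. -/
noncomputable def gsec : A ≃ₐ[K] Γ((specO (K := K) A).left, ⊤) :=
  { (Scheme.ΓSpecIso (CommRingCat.of A)).commRingCatIsoToRingEquiv.symm with
    commutes' := fun k => by
      change (Scheme.ΓSpecIso (CommRingCat.of A)).inv (algebraMap K A k) =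
        (Spec.map (CommRingCat.ofHom (algebraMap K A))).appTop
          ((Scheme.ΓSpecIso (CommRingCat.of K)).inv k)
      have := Scheme.ΓSpecIso_inv_naturality (CommRingCat.ofHom (algebraMap K A))
      exact congrArg (fun m => m.hom k) this }

lemma gsec_apply (a : A) : gsec (K := K) A a = (Scheme.ΓSpecIso (CommRingCat.of A)).inv a := rfl

variable {A}

/-- points of `Spec A` from algebra homomorphisms. -/
theorem specPt_exists {X : Over (Spec (CommRingCat.of K))} (ρ : A →ₐ[K] Γ(X.left, ⊤)) :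
    ∃ w : X ⟶ specO A, ∀ a, pull w (gsec A a) = ρ a := by
  obtain ⟨w, hw⟩ := affPt_exists (H := specO A) (ρ.comp (gsec (K := K) A).symm.toAlgHom)
  refine ⟨w, fun a => ?_⟩
  rw [hw]
  simp

theorem specPt_ext {X : Over (Spec (CommRingCat.of K))} (w w' : X ⟶ specO A)
    (h : ∀ a, pull w (gsec A a) = pull w' (gsec A a)) : w = w' := by
  apply affPt_ext
  intro b
  obtain ⟨a, rfl⟩ := (gsec (K := K) A).surjective b
  exact h a

/-- the morphism of `K`-schemes attached to a homomorphism of `K`-algebras. -/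
noncomputable def specMapO {A' : Type u} [CommRing A'] [Algebra K A'] (ψ : A →ₐ[K] A') :
    specO (K := K) A' ⟶ specO A :=
  Over.homMk (Spec.map (CommRingCat.ofHom ψ.toRingHom)) (by
    change Spec.map (CommRingCat.ofHom ψ.toRingHom) ≫ Spec.map (CommRingCat.ofHom (algebraMap K A)) =
      Spec.map (CommRingCat.ofHom (algebraMap K A'))
    rw [← Spec.map_comp, ← CommRingCat.ofHom_comp]
    congr 2
    exact ψ.comp_algebraMap)

lemma specMapO_left {A' : Type u} [CommRing A'] [Algebra K A'] (ψ : A →ₐ[K] A') :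
    (specMapO ψ).left = Spec.map (CommRingCat.ofHom ψ.toRingHom) := rfl

lemma pull_specMapO {A' : Type u} [CommRing A'] [Algebra K A'] (ψ : A →ₐ[K] A') (a : A) :
    pull (specMapO ψ) (gsec A a) = gsec A' (ψ a) := by
  change (Spec.map (CommRingCat.ofHom ψ.toRingHom)).appTop ((Scheme.ΓSpecIso (CommRingCat.of A)).inv a) =
    (Scheme.ΓSpecIso (CommRingCat.of A')).inv (ψ a)
  have := Scheme.ΓSpecIso_inv_naturality (CommRingCat.ofHom ψ.toRingHom)
  exact (congrArg (fun m => m.hom a) this).symm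

end SpecO

section Finite

variable (H : Over (Spec (CommRingCat.of K))) [IsFinite H.hom]

theorem isAffine_of_isFinite : IsAffine H.left :=
  isAffine_of_isAffineHom H.hom

theorem finite_of_isFinite : Module.Finite K Γ(H.left, ⊤) := by
  have h2 : RingHom.Finite H.hom.appTop.hom := H.hom.finite_appTop
  have h3 : RingHom.Finite (kmap H) := by
    change RingHom.Finite ((Scheme.ΓSpecIso (CommRingCat.of K)).inv ≫ H.hom.appTop).hom
    rw [CommRingCat.hom_comp]
    refine RingHom.Finite.comp h2 ?_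
    exact RingHom.Finite.of_surjective _
      (Scheme.ΓSpecIso (CommRingCat.of K)).commRingCatIsoToRingEquiv.symm.surjective
  exact h3

end Finite

section Generation

open TensorProduct

variable {H G₀ : Over (Spec (CommRingCat.of K))} [IsAffine H.left] [Module.Finite K Γ(H.left, ⊤)]

/-- if a monomorphism `H ⟶ G₀` from a finite `K`-scheme factors through `Spec B'` for a subalgebra `B'` of the
algebra of functions on `H`, then `B'` is everything. -/
theorem subalgebra_eq_top_of_mono (B' : Subalgebra K Γ(H.left, ⊤)) (i : H ⟶ G₀) [Mono i]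
    (i' : specO B' ⟶ G₀)
    (hfac : ∀ π : H ⟶ specO B', (∀ b' : B', pull π (gsec B' b') = (b' : Γ(H.left, ⊤))) → π ≫ i' = i) :
    B' = ⊤ := by
  obtain ⟨π, hπ⟩ := specPt_exists (X := H) B'.val
  have hi : π ≫ i' = i := hfac π hπ
  have : Mono (π ≫ i') := by rw [hi]; infer_instance
  have hmono : Mono π := mono_of_mono π i'
  have hepi : Algebra.IsEpi B' Γ(H.left, ⊤) := by
    rw [Algebra.isEpi_iff_forall_one_tmul_eq]
    intro b
    let ρ₁ : Γ(H.left, ⊤) →ₐ[K] Γ(H.left, ⊤) ⊗[B'] Γ(H.left, ⊤) :=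
      (Algebra.TensorProduct.includeLeft (R := B') (S := B')).restrictScalars K
    let ρ₂ : Γ(H.left, ⊤) →ₐ[K] Γ(H.left, ⊤) ⊗[B'] Γ(H.left, ⊤) :=
      (Algebra.TensorProduct.includeRight (R := B')).restrictScalars K
    let e := gsec (K := K) (Γ(H.left, ⊤) ⊗[B'] Γ(H.left, ⊤))
    obtain ⟨w₁, hw₁⟩ := affPt_exists (H := H) (e.toAlgHom.comp ρ₁)
    obtain ⟨w₂, hw₂⟩ := affPt_exists (H := H) (e.toAlgHom.comp ρ₂)
    have hρ : ∀ b' : B', ρ₁ (b' : Γ(H.left, ⊤)) = ρ₂ (b' : Γ(H.left, ⊤)) := by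
      intro b'
      change (b' : Γ(H.left, ⊤)) ⊗ₜ[B'] (1 : Γ(H.left, ⊤)) = (1 : Γ(H.left, ⊤)) ⊗ₜ[B'] (b' : Γ(H.left, ⊤))
      have h1 : (b' : Γ(H.left, ⊤)) = b' • (1 : Γ(H.left, ⊤)) := by
        rw [Algebra.smul_def, _root_.mul_one]; rfl
      rw [h1, TensorProduct.smul_tmul]
    have h12 : w₁ ≫ π = w₂ ≫ π := by
      apply specPt_ext
      intro b'
      calc pull (w₁ ≫ π) (gsec (K := K) B' b') = pull w₁ (pull π (gsec (K := K) B' b')) := pull_comp _ _ _
        _ = pull w₁ (b' : Γ(H.left, ⊤)) := congrArg (pull w₁) (hπ b')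
        _ = e (ρ₁ (b' : Γ(H.left, ⊤))) := hw₁ _
        _ = e (ρ₂ (b' : Γ(H.left, ⊤))) := congrArg e (hρ b')
        _ = pull w₂ (b' : Γ(H.left, ⊤)) := (hw₂ _).symm
        _ = pull w₂ (pull π (gsec (K := K) B' b')) := congrArg (pull w₂) (hπ b').symm
        _ = pull (w₂ ≫ π) (gsec (K := K) B' b') := (pull_comp _ _ _).symm
    have hw : w₁ = w₂ := (cancel_mono π).mp h12
    have h3 : e (ρ₂ b) = e (ρ₁ b) := by
      calc e (ρ₂ b) = pull w₂ b := (hw₂ b).symm
        _ = pull w₁ b := by rw [hw]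
        _ = e (ρ₁ b) := hw₁ b
    exact e.injective h3
  have hfin : Module.Finite B' Γ(H.left, ⊤) := Module.Finite.of_restrictScalars_finite K B' _
  have hsurj := (Algebra.isEpi_iff_surjective_algebraMap_of_finite (R := B') (A := Γ(H.left, ⊤))).mp hepi
  rw [eq_top_iff]
  intro b _
  obtain ⟨b', rfl⟩ := hsurj b
  exact b'.2

end Generation

end Groth.Agent.Lib.Seat19.GaGmPts
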