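import Mathlib.Tactic
import Groth.Prelude.Def_Red2
import Groth.Agent.Lib.Helper27GaGm
import Groth.Agent.Lib.Helper27DiagSub

/-!
# Points of the diagonalisable group `D_S(M)` (seat 27)

For `X : Over S` and an abelian group `M`, a morphism `x : X ⟶ Red.DS S M` of `S`-schemes defines a
family of units `dsChar x m : Γ(X.left, ⊤)` (`m : M`), multiplicative in `x` and additive in `m`:
this identifies `Hom_S(X, D_S(M))` with `Hom(M, Γ(X)ˣ)`.

Main results: `dsChar_mul`, `dsChar_add`, `dsChar_zero`, `dsChar_ext`, `dsChar_surj`, `dsChar_comp`,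
`dsChar_DSmap`, `gmFn_eq_dsChar`, `dsChar_one`.
-/

set_option autoImplicit false
universe u

open CategoryTheory MonoidalCategory CartesianMonoidalCategory MonObj GrpObj AlgebraicGeometry CategoryTheory.Limits
open scoped TensorProduct
open Groth.Agent.Lib.Helper27.GaGm

namespace Groth.Agent.Lib.Seat27.DSPoints

variable {S : Scheme.{u}} {M N : Type} [AddCommGroup M] [AddCommGroup N]

/-- the underlying morphism to `Spec ℤ[M]` of a point of `D_S(M)`. -/
noncomputable def dsPt {X : Over S} (x : X ⟶ Red.DS S M) :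
    X.left ⟶ Spec (CommRingCat.of (MonoidAlgebra (ULift.{u} ℤ) (Multiplicative M))) :=
  x.left ≫ pullback.fst _ _

/-- the function `χ_m(x)` on `X` defined by a point `x` of `D_S(M)` and a character `m : M`. -/
noncomputable def dsChar {X : Over S} (x : X ⟶ Red.DS S M) (m : M) : Γ(X.left, ⊤) :=
  fn (dsPt x) (MonoidAlgebra.single (Multiplicative.ofAdd m) 1)

lemma dsChar_eq_fn {X : Over S} (x : X ⟶ Red.DS S M) (m : M) :
    dsChar x m = fn (adjEquiv (Limits.IsTerminal.from specULiftZIsTerminal S)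
      (Red.diag (ULift.{u} ℤ) M) X x).left (MonoidAlgebra.single (Multiplicative.ofAdd m) 1) := rfl

theorem gmFn_eq_dsChar {X : Over S} (x : X ⟶ Red.Gm S) : Red.gmFn x = dsChar x (1 : ℤ) := rfl

theorem dsChar_mul {X : Over S} (x y : X ⟶ Red.DS S M) (m : M) :
    dsChar (x * y) m = dsChar x m * dsChar y m := by
  rw [dsChar_eq_fn, dsChar_eq_fn, dsChar_eq_fn, adjEquiv_mul]
  refine fn_mul_left_of_grouplike _ _ _ ?_
  simp

theorem dsChar_add {X : Over S} (x : X ⟶ Red.DS S M) (m m' : M) :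
    dsChar x (m + m') = dsChar x m * dsChar x m' := by
  unfold dsChar
  rw [fn_eq, fn_eq, fn_eq, ← map_mul, MonoidAlgebra.single_mul_single]
  simp

theorem dsChar_zero {X : Over S} (x : X ⟶ Red.DS S M) : dsChar x (0 : M) = 1 := by
  unfold dsChar
  rw [fn_eq]
  have : (MonoidAlgebra.single (Multiplicative.ofAdd (0 : M)) (1 : ULift.{u} ℤ)) = 1 := by
    simp [MonoidAlgebra.one_def]
  rw [this, map_one]

theorem dsChar_isUnit {X : Over S} (x : X ⟶ Red.DS S M) (m : M) : IsUnit (dsChar x m) := by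
  refine IsUnit.of_mul_eq_one (dsChar x (-m)) ?_
  rw [← dsChar_add, add_neg_cancel, dsChar_zero]

theorem dsChar_ext {X : Over S} (x y : X ⟶ Red.DS S M) (h : ∀ m, dsChar x m = dsChar y m) :
    x = y := by
  have h2 : dsPt x = dsPt y := by
    apply fn_ext
    intro a
    have : fnHom (dsPt x) = fnHom (dsPt y) := by
      apply MonoidAlgebra.ringHom_ext'
      · exact ulift_int_ringHom_ext _ _
      · ext g
        exact h (Multiplicative.toAdd g)
    exact congrArg (fun k : _ →+* _ => k a) this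
  apply (adjEquiv (Limits.IsTerminal.from specULiftZIsTerminal S)
    (Red.diag (ULift.{u} ℤ) M) X).injective
  apply Over.OverMorphism.ext
  exact h2

theorem dsChar_surj {X : Over S} (χ : Multiplicative M →* Γ(X.left, ⊤)) :
    ∃ x : X ⟶ Red.DS S M, ∀ m, dsChar x m = χ (Multiplicative.ofAdd m) := by
  let _ : Algebra (ULift.{u} ℤ) Γ(X.left, ⊤) := ULift.algebra' ℤ Γ(X.left, ⊤)
  obtain ⟨y', hy'⟩ := fn_surj
    (MonoidAlgebra.lift (ULift.{u} ℤ) Γ(X.left, ⊤) (Multiplicative M) χ).toRingHom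
  refine ⟨(adjEquiv (Limits.IsTerminal.from specULiftZIsTerminal S)
    (Red.diag (ULift.{u} ℤ) M) X).symm
    (Over.homMk y' (specULiftZIsTerminal.hom_ext _ _)), fun m => ?_⟩
  rw [dsChar_eq_fn, Equiv.apply_symm_apply]
  refine (hy' _).trans ?_
  simp only [AlgHom.toRingHom_eq_coe, RingHom.coe_coe, MonoidAlgebra.lift_single]
  rw [one_smul]

theorem dsChar_comp {X X' : Over S} (g : X' ⟶ X) (x : X ⟶ Red.DS S M) (m : M) :
    dsChar (g ≫ x) m = g.left.appTop (dsChar x m) := by
  unfold dsChar dsPt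
  rw [Over.comp_left, Category.assoc, fn_comp]

lemma dsPt_DSmap {X : Over S} (φ : M →+ N) (x : X ⟶ Red.DS S N) :
    dsPt (x ≫ Red.DSmap S φ) = dsPt x ≫
      Spec.map (CommRingCat.ofHom (MonoidAlgebra.mapDomainAlgHom (ULift.{u} ℤ) (ULift.{u} ℤ)
        (AddMonoidHom.toMultiplicative φ)).toRingHom) := by
  unfold dsPt
  rw [Over.comp_left, Category.assoc, Category.assoc]
  congr 1
  unfold Red.DSmap
  exact pullback.lift_fst _ _ _

theorem dsChar_DSmap {X : Over S} (φ : M →+ N) (x : X ⟶ Red.DS S N) (m : M) :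
    dsChar (x ≫ Red.DSmap S φ) m = dsChar x (φ m) := by
  unfold dsChar
  rw [dsPt_DSmap, fn_specMap]
  congr 1
  simp

theorem dsChar_one {X : Over S} (m : M) : dsChar (1 : X ⟶ Red.DS S M) m = 1 := by
  have := dsChar_mul (1 : X ⟶ Red.DS S M) 1 m
  have h11 : (1 : X ⟶ Red.DS S M) * 1 = 1 := _root_.mul_one (1 : X ⟶ Red.DS S M)
  rw [h11] at this
  exact (dsChar_isUnit (1 : X ⟶ Red.DS S M) m).mul_left_cancel (by rw [← this, _root_.mul_one])

theorem dsChar_inv {X : Over S} (x : X ⟶ Red.DS S M) (m : M) :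
    dsChar x⁻¹ m * dsChar x m = 1 := by
  rw [← dsChar_mul, inv_mul_cancel, dsChar_one]

theorem dsChar_nsmul {X : Over S} (x : X ⟶ Red.DS S M) (m : M) (k : ℕ) :
    dsChar x (k • m) = dsChar x m ^ k := by
  induction k with
  | zero => simp [dsChar_zero]
  | succ k ih => rw [succ_nsmul, dsChar_add, ih, pow_succ]

/-- the character `χ_m` sends a point `x` to the function `dsChar x m`. -/
theorem gmFn_chi {X : Over S} (x : X ⟶ Red.DS S M) (m : M) :
    Red.gmFn (x ≫ Red.chi S m) = dsChar x m := by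
  rw [gmFn_eq_dsChar]
  unfold Red.chi
  rw [dsChar_DSmap]
  simp

end Groth.Agent.Lib.Seat27.DSPoints
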