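import Mathlib.Tactic
import Groth.Prelude.Def_Red2
import Groth.Prelude.Def_AlgGrp
import Groth.Agent.Lib.Helper27GaGm
import Groth.Agent.Lib.Helper27DiagSub
import Groth.Agent.Lib.Seat27DSPoints
import Groth.Agent.Lib.Seat19GaGmPts
import Groth.Agent.Lib.Helper25GroupLikeConn

/-!
# Characters of diagonalisable groups over a field (seat 19)

Over `S = Spec K`, `K` a field: `D_S(M) ≅ Spec K[M]` (`dsIso`), every character of `D_S(M)` is `χ_m`
for a unique `m` (`exists_chi_eq`, `chi_injective`), and every homomorphism `D_S(M) ⟶ D_S(N)` is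
`DSmap φ` for a unique `φ : N →+ M` (`exists_DSmap_eq`).
-/

set_option autoImplicit false
universe u

open CategoryTheory MonoidalCategory CartesianMonoidalCategory MonObj GrpObj AlgebraicGeometry CategoryTheory.Limits
open TensorProduct
open Groth.Agent.Lib.Helper27.GaGm Groth.Agent.Lib.Seat19.GaGmPts Groth.Agent.Lib.Seat27.DSPoints

namespace Groth.Agent.Lib.Seat19.DSChar

attribute [local instance] kAlg

variable {K : Type u} [Field K]
variable (M : Type) [AddCommGroup M]

/-- the group algebra `K[M]`. -/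
abbrev KM : Type u := MonoidAlgebra K (Multiplicative M)

variable {M}

/-- the characters of a point, as a monoid homomorphism. -/
noncomputable def dsCharHom {X : Over (Spec (CommRingCat.of K))}
    (x : X ⟶ Red.DS (Spec (CommRingCat.of K)) M) : Multiplicative M →* Γ(X.left, ⊤) where
  toFun m := dsChar x (Multiplicative.toAdd m)
  map_one' := dsChar_zero x
  map_mul' _ _ := dsChar_add x _ _

lemma dsCharHom_apply {X : Over (Spec (CommRingCat.of K))}
    (x : X ⟶ Red.DS (Spec (CommRingCat.of K)) M) (m : Multiplicative M) :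
    dsCharHom x m = dsChar x (Multiplicative.toAdd m) := rfl

/-- the algebra map `K[M] → Γ(X)` of a point. -/
noncomputable def dsAlg {X : Over (Spec (CommRingCat.of K))}
    (x : X ⟶ Red.DS (Spec (CommRingCat.of K)) M) : KM (K := K) M →ₐ[K] Γ(X.left, ⊤) :=
  MonoidAlgebra.lift K Γ(X.left, ⊤) (Multiplicative M) (dsCharHom x)

lemma dsAlg_single {X : Over (Spec (CommRingCat.of K))}
    (x : X ⟶ Red.DS (Spec (CommRingCat.of K)) M) (m : M) :
    dsAlg x (MonoidAlgebra.single (Multiplicative.ofAdd m) 1) = dsChar x m := by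
  unfold dsAlg
  rw [MonoidAlgebra.lift_single, one_smul]
  rfl

variable (K M) in
/-- the universal character. -/
noncomputable def chi0 : Multiplicative M →* Γ((specO (K := K) (KM (K := K) M)).left, ⊤) :=
  ((gsec (K := K) (KM (K := K) M)).toAlgHom : KM (K := K) M →* _).comp (MonoidAlgebra.of K (Multiplicative M))

variable (K M) in
lemma exists_dsU : ∃ x : specO (K := K) (KM (K := K) M) ⟶ Red.DS (Spec (CommRingCat.of K)) M,
    ∀ m, dsChar x m = gsec (K := K) (KM (K := K) M) (MonoidAlgebra.single (Multiplicative.ofAdd m) 1) := by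
  obtain ⟨x, hx⟩ := dsChar_surj (S := Spec (CommRingCat.of K)) (X := specO (K := K) (KM (K := K) M)) (chi0 K M)
  exact ⟨x, fun m => (hx m).trans rfl⟩

variable (K M) in
/-- the universal point. -/
noncomputable def dsU : specO (K := K) (KM (K := K) M) ⟶ Red.DS (Spec (CommRingCat.of K)) M :=
  Classical.choose (exists_dsU K M)

lemma dsChar_dsU (m : M) :
    dsChar (dsU K M) m = gsec (K := K) (KM (K := K) M) (MonoidAlgebra.single (Multiplicative.ofAdd m) 1) :=
  Classical.choose_spec (exists_dsU K M) m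


variable (K M) in
lemma exists_dsV : ∃ v : Red.DS (Spec (CommRingCat.of K)) M ⟶ specO (K := K) (KM (K := K) M),
    ∀ a, pull v (gsec (K := K) (KM (K := K) M) a) =
      dsAlg (𝟙 (Red.DS (Spec (CommRingCat.of K)) M)) a :=
  specPt_exists (dsAlg (𝟙 (Red.DS (Spec (CommRingCat.of K)) M)))

lemma dsChar_comp' {X X' : Over (Spec (CommRingCat.of K))} (g : X' ⟶ X)
    (x : X ⟶ Red.DS (Spec (CommRingCat.of K)) M) (m : M) :
    dsChar (g ≫ x) m = pull g (dsChar x m) := dsChar_comp g x m

lemma dsAlg_comp {X X' : Over (Spec (CommRingCat.of K))} (g : X' ⟶ X)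
    (x : X ⟶ Red.DS (Spec (CommRingCat.of K)) M) :
    dsAlg (g ≫ x) = (pull g).comp (dsAlg x) := by
  refine MonoidAlgebra.algHom_ext (fun m => ?_) (Subsingleton.elim _ _)
  have h1 := dsAlg_single (K := K) (g ≫ x) (Multiplicative.toAdd m)
  have h2 := dsAlg_single (K := K) x (Multiplicative.toAdd m)
  rw [ofAdd_toAdd] at h1 h2
  rw [AlgHom.comp_apply]
  exact h1.trans ((dsChar_comp' g x _).trans (congrArg (pull g) h2.symm))

lemma dsAlg_dsU : dsAlg (dsU K M) = (gsec (K := K) (KM (K := K) M)).toAlgHom := by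
  refine MonoidAlgebra.algHom_ext (fun m => ?_) (Subsingleton.elim _ _)
  have h1 := dsAlg_single (K := K) (dsU K M) (Multiplicative.toAdd m)
  rw [ofAdd_toAdd] at h1
  have h2 := dsChar_dsU (K := K) (Multiplicative.toAdd m)
  rw [ofAdd_toAdd] at h2
  exact h1.trans h2

variable (K M) in
/-- `D_S(M)` over a field `K` is `Spec K[M]`. -/
noncomputable def dsIso : specO (K := K) (KM (K := K) M) ≅ Red.DS (Spec (CommRingCat.of K)) M where
  hom := dsU K M
  inv := Classical.choose (exists_dsV K M)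
  hom_inv_id := by
    have hv := Classical.choose_spec (exists_dsV K M)
    apply specPt_ext
    intro a
    have h1 : pull (dsU K M ≫ Classical.choose (exists_dsV K M)) (gsec (K := K) (KM (K := K) M) a) =
        pull (dsU K M) (dsAlg (𝟙 (Red.DS (Spec (CommRingCat.of K)) M)) a) :=
      (pull_comp _ _ _).trans (congrArg (pull (dsU K M)) (hv a))
    have h2 : (pull (dsU K M)).comp (dsAlg (𝟙 (Red.DS (Spec (CommRingCat.of K)) M))) =
        (gsec (K := K) (KM (K := K) M)).toAlgHom := by
      rw [← dsAlg_comp, Category.comp_id, dsAlg_dsU]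
    exact h1.trans ((congrArg (fun f : KM (K := K) M →ₐ[K] _ => f a) h2).trans (pull_id _).symm)
  inv_hom_id := by
    have hv := Classical.choose_spec (exists_dsV K M)
    apply dsChar_ext
    intro m
    have h1 : dsChar (Classical.choose (exists_dsV K M) ≫ dsU K M) m =
        pull (Classical.choose (exists_dsV K M))
          (gsec (K := K) (KM (K := K) M) (MonoidAlgebra.single (Multiplicative.ofAdd m) 1)) :=
      (dsChar_comp' _ _ m).trans (congrArg (pull _) (dsChar_dsU m))
    exact h1.trans ((hv _).trans (dsAlg_single _ m))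

lemma dsIso_hom : (dsIso K M).hom = dsU K M := rfl


section Pts

variable {B : Type u} [CommRing B] [Algebra K B]

lemma dsChar_pt (ψ : KM (K := K) M →ₐ[K] B) (m : M) :
    dsChar (specMapO ψ ≫ dsU K M) m = gsec (K := K) B (ψ (MonoidAlgebra.single (Multiplicative.ofAdd m) 1)) :=
  (dsChar_comp' _ _ m).trans ((congrArg (pull _) (dsChar_dsU m)).trans (pull_specMapO ψ _))

lemma pt_mul (ψ₁ ψ₂ ψ₃ : KM (K := K) M →ₐ[K] B)
    (h : ∀ m : Multiplicative M, ψ₃ (MonoidAlgebra.single m 1) =
      ψ₁ (MonoidAlgebra.single m 1) * ψ₂ (MonoidAlgebra.single m 1)) :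
    (specMapO ψ₁ ≫ dsU K M) * (specMapO ψ₂ ≫ dsU K M) = specMapO ψ₃ ≫ dsU K M := by
  apply dsChar_ext
  intro m
  rw [dsChar_mul, dsChar_pt, dsChar_pt, dsChar_pt, h, map_mul]

lemma pt_one (ψ : KM (K := K) M →ₐ[K] B)
    (h : ∀ m : Multiplicative M, ψ (MonoidAlgebra.single m 1) = 1) :
    specMapO ψ ≫ dsU K M = 1 := by
  apply dsChar_ext
  intro m
  rw [dsChar_pt, h, map_one, dsChar_one]

end Pts

section Char

variable (c : Red.DS (Spec (CommRingCat.of K)) M ⟶ Red.Gm (Spec (CommRingCat.of K)))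

/-- the element of `K[M]` defined by a morphism `D(M) ⟶ 𝔾_m`. -/
noncomputable def charElt : KM (K := K) M :=
  (gsec (K := K) (KM (K := K) M)).symm (Red.gmFn (dsU K M ≫ c))

lemma gsec_charElt : gsec (K := K) (KM (K := K) M) (charElt c) = Red.gmFn (dsU K M ≫ c) :=
  (gsec (K := K) (KM (K := K) M)).apply_symm_apply _

lemma gmFn_pt {B : Type u} [CommRing B] [Algebra K B] (ψ : KM (K := K) M →ₐ[K] B) :
    Red.gmFn ((specMapO ψ ≫ dsU K M) ≫ c) = gsec (K := K) B (ψ (charElt c)) := by
  rw [Category.assoc]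
  exact (gmFn_comp' _ _).trans ((congrArg (pull _) (gsec_charElt c).symm).trans (pull_specMapO ψ _))

theorem isGroupLikeElem_charElt [IsMonHom c] : IsGroupLikeElem K (charElt c) := by
  constructor
  · -- counit
    have h1 : specMapO (Bialgebra.counitAlgHom K (KM (K := K) M)) ≫ dsU K M = 1 :=
      pt_one _ (fun m => by simp)
    have h2 := gmFn_pt c (Bialgebra.counitAlgHom K (KM (K := K) M))
    have h4 : Red.gmFn ((specMapO (Bialgebra.counitAlgHom K (KM (K := K) M)) ≫ dsU K M) ≫ c) = 1 :=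
      (congrArg (fun p => Red.gmFn (p ≫ c)) h1).trans
        ((congrArg Red.gmFn (MonObj.one_comp c)).trans gmFn_one)
    have h3 : (Bialgebra.counitAlgHom K (KM (K := K) M)) (charElt c) = 1 := by
      apply (gsec (K := K) K).injective
      rw [← h2, map_one]
      exact h4
    exact h3
  · -- comul
    have h1 : (specMapO (Algebra.TensorProduct.includeLeft : KM (K := K) M →ₐ[K] KM (K := K) M ⊗[K] KM (K := K) M) ≫ dsU K M) *
        (specMapO (Algebra.TensorProduct.includeRight : KM (K := K) M →ₐ[K] KM (K := K) M ⊗[K] KM (K := K) M) ≫ dsU K M) =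
        specMapO (Bialgebra.comulAlgHom K (KM (K := K) M)) ≫ dsU K M := by
      apply pt_mul
      intro m
      have := (MonoidAlgebra.isGroupLikeElem_single_one (R := K) (A := K) m).comul_eq_tmul_self
      rw [Bialgebra.comulAlgHom_apply, this]
      simp [Algebra.TensorProduct.tmul_mul_tmul]
    have h2 := gmFn_pt c (Bialgebra.comulAlgHom K (KM (K := K) M))
    have h4 : Red.gmFn ((specMapO (Bialgebra.comulAlgHom K (KM (K := K) M)) ≫ dsU K M) ≫ c) =
        gsec (K := K) (KM (K := K) M ⊗[K] KM (K := K) M)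
          (Algebra.TensorProduct.includeLeft (charElt c) * Algebra.TensorProduct.includeRight (charElt c)) :=
      (congrArg (fun p => Red.gmFn (p ≫ c)) h1.symm).trans
        ((congrArg Red.gmFn (MonObj.mul_comp _ _ c)).trans
          ((gmFn_mul _ _).trans
            ((congrArg₂ (· * ·) (gmFn_pt c _) (gmFn_pt c _)).trans (map_mul _ _ _).symm)))
    have h3 := (gsec (K := K) (KM (K := K) M ⊗[K] KM (K := K) M)).injective (h2.symm.trans h4)
    rw [Bialgebra.comulAlgHom_apply] at h3
    rw [h3]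
    simp [Algebra.TensorProduct.tmul_mul_tmul]

/-- every character of `D(M)` over a field is some `χ_m`. -/
theorem exists_chi_eq [IsMonHom c] : ∃ m : M, c = Red.chi (Spec (CommRingCat.of K)) m := by
  obtain ⟨m, hm⟩ := MonoidAlgebra.isGroupLikeElem_iff_mem_range_single_one.1 (isGroupLikeElem_charElt c)
  refine ⟨Multiplicative.toAdd m, ?_⟩
  rw [← cancel_epi (dsIso K M).hom, dsIso_hom]
  apply gmFn_injective
  rw [gmFn_chi, dsChar_dsU, ofAdd_toAdd, ← gsec_charElt]
  exact congrArg _ hm.symm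

end Char

theorem chi_injective :
    Function.Injective (fun m : M => Red.chi (Spec (CommRingCat.of K)) m) := by
  intro m m' h
  have h1 : dsChar (dsU K M) m = dsChar (dsU K M) m' := by
    rw [← gmFn_chi, ← gmFn_chi]
    exact congrArg (fun c => Red.gmFn (dsU K M ≫ c)) h
  rw [dsChar_dsU, dsChar_dsU] at h1
  have h2 := (gsec (K := K) (KM (K := K) M)).injective h1
  have h3 := Groth.Agent.Lib.Helper25.single_one_injective (C := K) h2
  exact Multiplicative.ofAdd.injective h3


section Calc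

variable {N : Type} [AddCommGroup N]

instance isMonHom_chi (m : M) : IsMonHom (Red.chi (Spec (CommRingCat.of K)) m) :=
  Groth.Agent.Lib.Helper27DiagSub.isMonHom_DSmap _ _

instance isMonHom_DSmap' (φ : N →+ M) : IsMonHom (Red.DSmap (Spec (CommRingCat.of K)) φ) :=
  Groth.Agent.Lib.Helper27DiagSub.isMonHom_DSmap _ _

lemma gmFn_chi_id (m : M) :
    Red.gmFn (Red.chi (Spec (CommRingCat.of K)) m) =
      dsChar (𝟙 (Red.DS (Spec (CommRingCat.of K)) M)) m := by
  rw [← gmFn_chi, Category.id_comp]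

lemma dsChar_id_injective :
    Function.Injective (fun m : M => dsChar (𝟙 (Red.DS (Spec (CommRingCat.of K)) M)) m) := by
  intro m m' h
  apply chi_injective (K := K)
  apply gmFn_injective
  change Red.gmFn (Red.chi (Spec (CommRingCat.of K)) m) = Red.gmFn (Red.chi (Spec (CommRingCat.of K)) m')
  rw [gmFn_chi_id, gmFn_chi_id]
  exact h

lemma chi_add (m m' : M) :
    Red.chi (Spec (CommRingCat.of K)) (m + m') =
      Red.chi (Spec (CommRingCat.of K)) m * Red.chi (Spec (CommRingCat.of K)) m' := by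
  apply gmFn_injective
  rw [gmFn_mul, gmFn_chi_id, gmFn_chi_id, gmFn_chi_id, dsChar_add]

lemma chi_zero : Red.chi (Spec (CommRingCat.of K)) (0 : M) = 1 := by
  apply gmFn_injective
  rw [gmFn_chi_id, dsChar_zero, gmFn_one]

lemma chi_nsmul (d : ℕ) (m : M) :
    Red.chi (Spec (CommRingCat.of K)) (d • m) = Red.chi (Spec (CommRingCat.of K)) m ^ d := by
  apply gmFn_injective
  rw [gmFn_pow, gmFn_chi_id, gmFn_chi_id, dsChar_nsmul]

lemma DSmap_comp_chi (φ : N →+ M) (n : N) :
    Red.DSmap (Spec (CommRingCat.of K)) φ ≫ Red.chi (Spec (CommRingCat.of K)) n =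
      Red.chi (Spec (CommRingCat.of K)) (φ n) := by
  apply gmFn_injective
  rw [gmFn_chi, gmFn_chi_id, ← dsChar_DSmap, Category.id_comp]

/-- every homomorphism `D(M) ⟶ D(N)` over a field is `DSmap φ`. -/
theorem exists_DSmap_eq
    (f : Red.DS (Spec (CommRingCat.of K)) M ⟶ Red.DS (Spec (CommRingCat.of K)) N) [IsMonHom f] :
    ∃ φ : N →+ M, f = Red.DSmap (Spec (CommRingCat.of K)) φ := by
  have h1 : ∀ n : N, ∃ m : M, f ≫ Red.chi (Spec (CommRingCat.of K)) n =
      Red.chi (Spec (CommRingCat.of K)) m := fun n => exists_chi_eq _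
  choose φ hφ using h1
  have h2 : ∀ n : N, dsChar f n = dsChar (𝟙 (Red.DS (Spec (CommRingCat.of K)) M)) (φ n) := by
    intro n
    rw [← gmFn_chi, hφ, gmFn_chi_id]
  have hadd : ∀ a b : N, φ (a + b) = φ a + φ b := by
    intro a b
    apply dsChar_id_injective (K := K)
    change dsChar (𝟙 (Red.DS (Spec (CommRingCat.of K)) M)) (φ (a + b)) =
      dsChar (𝟙 (Red.DS (Spec (CommRingCat.of K)) M)) (φ a + φ b)
    rw [← h2, dsChar_add, dsChar_add, h2, h2]
  refine ⟨AddMonoidHom.mk' φ hadd, ?_⟩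
  apply dsChar_ext
  intro n
  have h3 : dsChar (Red.DSmap (Spec (CommRingCat.of K)) (AddMonoidHom.mk' φ hadd)) n =
      dsChar (𝟙 (Red.DS (Spec (CommRingCat.of K)) M)) (φ n) := by
    have := dsChar_DSmap (S := Spec (CommRingCat.of K)) (AddMonoidHom.mk' φ hadd)
      (𝟙 (Red.DS (Spec (CommRingCat.of K)) M)) n
    rw [Category.id_comp] at this
    exact this
  rw [h2, h3]

lemma DSmap_comp_DSmap {P : Type} [AddCommGroup P] (φ : N →+ M) (ψ : P →+ N) :
    Red.DSmap (Spec (CommRingCat.of K)) φ ≫ Red.DSmap (Spec (CommRingCat.of K)) ψ =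
      Red.DSmap (Spec (CommRingCat.of K)) (φ.comp ψ) := by
  apply dsChar_ext
  intro p
  rw [dsChar_DSmap]
  have h1 := dsChar_DSmap (S := Spec (CommRingCat.of K)) φ (𝟙 _) (ψ p)
  have h2 := dsChar_DSmap (S := Spec (CommRingCat.of K)) (φ.comp ψ) (𝟙 _) p
  rw [Category.id_comp] at h1 h2
  rw [h1, h2]
  rfl

lemma DSmap_id : Red.DSmap (Spec (CommRingCat.of K)) (AddMonoidHom.id M) = 𝟙 _ := by
  apply dsChar_ext
  intro m
  have h1 := dsChar_DSmap (S := Spec (CommRingCat.of K)) (AddMonoidHom.id M) (𝟙 _) m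
  rw [Category.id_comp] at h1
  rw [h1]
  rfl

end Calc

end Groth.Agent.Lib.Seat19.DSChar
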