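import Mathlib

/-!
# Colimits of schemes can be checked fpqc-locally on the cocone point (helper19)
-/

set_option autoImplicit false
universe w u

open AlgebraicGeometry CategoryTheory Limits Opposite

namespace Groth.Agent.Lib.Seat19.FpqcColim

/-- morphisms glue along an fpqc covering family -/
theorem glue {W T : Scheme.{u}} (F : PreZeroHypercover.{w} W)
    (hF : F.presieve₀ ∈ Scheme.fpqcPrecoverage W) (φ : ∀ a, F.X a ⟶ T)
    (hφ : ∀ a b, pullback.fst (F.f a) (F.f b) ≫ φ a = pullback.snd (F.f a) (F.f b) ≫ φ b) :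
    ∃! ψ : W ⟶ T, ∀ a, F.f a ≫ ψ = φ a := by
  have hsh := GrothendieckTopology.Subcanonical.isSheaf_of_isRepresentable
    (J := Scheme.fpqcTopology) (yoneda.obj T)
  have h1 := hsh _ (Precoverage.generate_mem_toGrothendieck hF)
  rw [← Presieve.isSheafFor_iff_generate, Presieve.isSheafFor_arrows_iff_pullbacks] at h1
  exact h1 φ hφ

theorem ext_of_cover {W T : Scheme.{u}} (F : PreZeroHypercover.{w} W)
    (hF : F.presieve₀ ∈ Scheme.fpqcPrecoverage W) (ψ ψ' : W ⟶ T)
    (h : ∀ a, F.f a ≫ ψ = F.f a ≫ ψ') : ψ = ψ' := by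
  obtain ⟨ψ₀, -, huniq⟩ := glue F hF (fun a => F.f a ≫ ψ) (fun a b => by
    rw [← Category.assoc, ← Category.assoc, pullback.condition])
  rw [huniq ψ (fun _ => rfl), huniq ψ' (fun a => (h a).symm)]

section

variable {J : Type u} [SmallCategory J] (D : J ⥤ Scheme.{u}) (c : Cocone D)

/-- the base-changed diagram over `Y` -/
noncomputable abbrev G {Y : Scheme.{u}} (f : Y ⟶ c.pt) : J ⥤ Over Y :=
  D.toOver c.pt (fun j => c.ι.app j) (fun g => c.w g) ⋙ Over.pullback f

/-- a cocone under `D` induces a cocone under the base-changed diagram -/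
noncomputable def pullCocone {Y : Scheme.{u}} (f : Y ⟶ c.pt) (s : Cocone D) :
    Cocone (G D c f ⋙ Over.forget Y) where
  pt := s.pt
  ι :=
    { app := fun j => pullback.fst (c.ι.app j) f ≫ s.ι.app j
      naturality := by
        intro j j' g
        have e : ∀ (m : pullback (c.ι.app j) f ⟶ pullback (c.ι.app j') f),
            m = (G D c f ⋙ Over.forget Y).map g →
            m ≫ pullback.fst (c.ι.app j') f ≫ s.ι.app j' =
              pullback.fst (c.ι.app j) f ≫ s.ι.app j := by
          intro m hm
          have e1 : m ≫ pullback.fst (c.ι.app j') f = pullback.fst (c.ι.app j) f ≫ D.map g := by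
            subst hm
            exact pullback.lift_fst _ _ _
          rw [← Category.assoc, e1, Category.assoc, s.w]
        exact (e _ rfl).trans (Category.comp_id _).symm }

theorem main (F : PreZeroHypercover.{w} c.pt) (hF : F.presieve₀ ∈ Scheme.fpqcPrecoverage c.pt)
    (h1 : ∀ a : F.I₀, Nonempty (IsColimit ((Over.forgetCocone (F.X a)).whisker
      (D.toOver c.pt (fun j => c.ι.app j) (fun g => c.w g) ⋙ Over.pullback (F.f a)))))
    (h2 : ∀ a b : F.I₀, Nonempty (IsColimit ((Over.forgetCocone (pullback (F.f a) (F.f b))).whisker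
      (D.toOver c.pt (fun j => c.ι.app j) (fun g => c.w g) ⋙
        Over.pullback (pullback.fst (F.f a) (F.f b) ≫ F.f a))))) :
    Nonempty (IsColimit c) := by
  -- the local descents
  have hφ : ∀ (s : Cocone D) (a : F.I₀), ∃ φ : F.X a ⟶ s.pt,
      ∀ j, pullback.snd (c.ι.app j) (F.f a) ≫ φ = pullback.fst (c.ι.app j) (F.f a) ≫ s.ι.app j := by
    intro s a
    exact ⟨(h1 a).some.desc (pullCocone D c (F.f a) s),
      fun j => (h1 a).some.fac (pullCocone D c (F.f a) s) j⟩
  choose φ hφ using hφ
  have hcompat : ∀ (s : Cocone D) (a b : F.I₀),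
      pullback.fst (F.f a) (F.f b) ≫ φ s a = pullback.snd (F.f a) (F.f b) ≫ φ s b := by
    intro s a b
    apply (h2 a b).some.hom_ext
    intro j
    show pullback.snd (c.ι.app j) (pullback.fst (F.f a) (F.f b) ≫ F.f a) ≫ _ =
      pullback.snd (c.ι.app j) (pullback.fst (F.f a) (F.f b) ≫ F.f a) ≫ _
    have ea : pullback.snd (c.ι.app j) (pullback.fst (F.f a) (F.f b) ≫ F.f a) ≫
        pullback.fst (F.f a) (F.f b) =
        pullback.lift (pullback.fst _ _)
          (pullback.snd (c.ι.app j) (pullback.fst (F.f a) (F.f b) ≫ F.f a) ≫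
            pullback.fst (F.f a) (F.f b))
          (pullback.condition.trans (Category.assoc _ _ _).symm) ≫
          pullback.snd (c.ι.app j) (F.f a) := by
      rw [pullback.lift_snd]
    have eb : pullback.snd (c.ι.app j) (pullback.fst (F.f a) (F.f b) ≫ F.f a) ≫
        pullback.snd (F.f a) (F.f b) =
        pullback.lift (pullback.fst _ _)
          (pullback.snd (c.ι.app j) (pullback.fst (F.f a) (F.f b) ≫ F.f a) ≫
            pullback.snd (F.f a) (F.f b))
          (by
            calc pullback.fst (c.ι.app j) (pullback.fst (F.f a) (F.f b) ≫ F.f a) ≫ c.ι.app j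
                = pullback.snd (c.ι.app j) (pullback.fst (F.f a) (F.f b) ≫ F.f a) ≫
                    (pullback.fst (F.f a) (F.f b) ≫ F.f a) := pullback.condition
              _ = pullback.snd (c.ι.app j) (pullback.fst (F.f a) (F.f b) ≫ F.f a) ≫
                    (pullback.snd (F.f a) (F.f b) ≫ F.f b) := by
                  rw [pullback.condition (f := F.f a)]
              _ = _ := (Category.assoc _ _ _).symm) ≫
          pullback.snd (c.ι.app j) (F.f b) := by
      rw [pullback.lift_snd]
    rw [← Category.assoc, ea, Category.assoc, hφ s a j, pullback.lift_fst_assoc,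
      ← Category.assoc, eb, Category.assoc, hφ s b j, pullback.lift_fst_assoc]
  have hψ : ∀ s : Cocone D, ∃! ψ : c.pt ⟶ s.pt, ∀ a, F.f a ≫ ψ = φ s a :=
    fun s => glue F hF (φ s) (hcompat s)
  refine ⟨{ desc := fun s => (hψ s).exists.choose, fac := ?_, uniq := ?_ }⟩
  · intro s j
    have hψs := (hψ s).exists.choose_spec
    have hFj : Presieve.ofArrows (fun a => pullback (c.ι.app j) (F.f a))
        (fun a => pullback.fst (c.ι.app j) (F.f a)) ∈ Scheme.fpqcPrecoverage (D.obj j) :=
      Precoverage.mem_coverings_of_isPullback F.f hF (c.ι.app j) _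
        (fun a => pullback.snd (c.ι.app j) (F.f a)) (fun a => IsPullback.of_hasPullback _ _)
    apply ext_of_cover ⟨F.I₀, fun a => pullback (c.ι.app j) (F.f a),
      fun a => pullback.fst (c.ι.app j) (F.f a)⟩ hFj
    intro a
    show pullback.fst (c.ι.app j) (F.f a) ≫ c.ι.app j ≫ _ = pullback.fst (c.ι.app j) (F.f a) ≫ _
    rw [← Category.assoc, pullback.condition, Category.assoc, hψs a, hφ s a j]
  · intro s m hm
    apply (hψ s).unique _ (hψ s).exists.choose_spec
    intro a
    apply (h1 a).some.hom_ext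
    intro j
    show pullback.snd (c.ι.app j) (F.f a) ≫ _ = pullback.snd (c.ι.app j) (F.f a) ≫ _
    rw [hφ s a j, ← Category.assoc, ← pullback.condition, Category.assoc, hm j]

end

end Groth.Agent.Lib.Seat19.FpqcColim
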