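import Mathlib
import Groth.Prelude.Def_AlgSp

/-!
# Free actions of abstract groups give etale equivalence relations (seat 19)

Scheme-level part: `R` covered by opens `inj g : U ⟶ R` (`g ∈ G`), `s, t : R ⟶ U` with
`inj g ≫ s = 𝟙`, `inj g ≫ t = act g`, `act` a free action.  Then `(t, s)` is jointly monic
(`mono_pair`), the image is an equivalence relation on `T`-points (`rel_symm`, `rel_trans`), and
`s, t` are etale.  Then the `Over S` wrapper `isEtaleEqvRel`.
-/

set_option autoImplicit false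
universe u

open CategoryTheory Limits AlgebraicGeometry Opposite

namespace Groth.Agent.Lib.Seat19.FreeAct

/-- `Spec` of a residue field map is an epimorphism of schemes. -/
theorem epi_specMap_residueFieldMap {W U : Scheme.{u}} (a : W ⟶ U) (x : W) :
    Epi (Spec.map (a.residueFieldMap x)) := by
  have : Flat (Spec.map (a.residueFieldMap x)) := by
    rw [HasRingHomProperty.Spec_iff (P := @Flat)]
    algebraize [(a.residueFieldMap x).hom]
    show Module.Flat (U.residueField (a x)) (W.residueField x)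
    infer_instance
  have : Surjective (Spec.map (a.residueFieldMap x)) := by
    constructor
    intro y
    have h1 : Subsingleton (PrimeSpectrum (U.residueField (a x))) := inferInstance
    have h2 : Nonempty (PrimeSpectrum (W.residueField x)) := inferInstance
    obtain ⟨z⟩ := h2
    exact ⟨z, h1.elim _ _⟩
  exact Flat.epi_of_flat_of_surjective _

set_option backward.isDefEq.respectTransparency.types false in
lemma isZariskiLocalAtSource_etale : IsZariskiLocalAtSource @Etale.{u} := inferInstance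

/-- glue local lifts through a jointly monic pair. -/
theorem exists_of_local {T R A B : Scheme.{u}} (t : R ⟶ A) (s : R ⟶ B)
    (hmono : ∀ (T' : Scheme.{u}) (r r' : T' ⟶ R), r ≫ t = r' ≫ t → r ≫ s = r' ≫ s → r = r')
    (a : T ⟶ A) (b : T ⟶ B)
    (H : ∀ x : T, ∃ W : T.Opens, x ∈ W ∧
      ∃ r : (W : Scheme.{u}) ⟶ R, r ≫ t = W.ι ≫ a ∧ r ≫ s = W.ι ≫ b) :
    ∃ r : T ⟶ R, r ≫ t = a ∧ r ≫ s = b := by
  choose W hxW r hrt hrs using H
  let 𝒰 : T.OpenCover := {
    I₀ := T, X i := (W i), f i := (W i).ι,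
    mem₀ := by
      rw [Scheme.presieve₀_mem_precoverage_iff]
      refine ⟨fun x ↦ ⟨x, by simpa using hxW x⟩, inferInstance⟩ }
  have hcompat : ∀ x y : T, pullback.fst (𝒰.f x) (𝒰.f y) ≫ r x = pullback.snd _ _ ≫ r y := by
    intro x y
    apply hmono
    · rw [Category.assoc, Category.assoc, hrt, hrt]
      exact pullback.condition_assoc _
    · rw [Category.assoc, Category.assoc, hrs, hrs]
      exact pullback.condition_assoc _
  refine ⟨𝒰.glueMorphisms r hcompat, ?_, ?_⟩
  · refine 𝒰.hom_ext _ _ fun x => ?_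
    rw [Scheme.Cover.ι_glueMorphisms_assoc]
    exact hrt x
  · refine 𝒰.hom_ext _ _ fun x => ?_
    rw [Scheme.Cover.ι_glueMorphisms_assoc]
    exact hrs x

section SchemeLevel

variable {G : Type u} [Group G] {R U : Scheme.{u}} (s t : R ⟶ U) (inj : G → (U ⟶ R))
  (act : G → (U ⟶ U)) [∀ g, IsOpenImmersion (inj g)]

include inj in
/-- local factorisation through a member of the cover. -/
theorem exists_lift {T : Scheme.{u}} (r : T ⟶ R) (g : G) (W : T.Opens)
    (hW : W ≤ r ⁻¹ᵁ (inj g).opensRange) :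
    ∃ a : (W : Scheme.{u}) ⟶ U, a ≫ inj g = W.ι ≫ r := by
  refine ⟨IsOpenImmersion.lift (inj g) (W.ι ≫ r) ?_, IsOpenImmersion.lift_fac _ _ _⟩
  rintro _ ⟨y, rfl⟩
  have : (W.ι y) ∈ r ⁻¹ᵁ (inj g).opensRange := hW y.2
  simpa using this

variable (cover : ∀ x : R, ∃ g, x ∈ (inj g).opensRange)
  (inj_s : ∀ g, inj g ≫ s = 𝟙 U)
  (inj_t : ∀ g, inj g ≫ t = act g)
  (act_one : act 1 = 𝟙 U)
  (act_mul : ∀ g h, act (g * h) = act h ≫ act g)
  (free : ∀ (g : G) (x : U), g ≠ 1 →
    U.fromSpecResidueField x ≫ act g ≠ U.fromSpecResidueField x)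

include free in
theorem eq_one_of_fix {W : Scheme.{u}} (a : W ⟶ U) (x : W) (k : G) (hk : a ≫ act k = a) :
    k = 1 := by
  by_contra hne
  apply free k (a x) hne
  have := epi_specMap_residueFieldMap a x
  rw [← cancel_epi (Spec.map (a.residueFieldMap x))]
  rw [← Category.assoc, Scheme.Hom.SpecMap_residueFieldMap_fromSpecResidueField, Category.assoc, hk]

include cover inj_s inj_t act_one act_mul free in
/-- `(t, s)` is jointly monic. -/
theorem mono_pair (T : Scheme.{u}) (r r' : T ⟶ R) (ht : r ≫ t = r' ≫ t) (hs : r ≫ s = r' ≫ s) :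
    r = r' := by
  apply Scheme.hom_ext_of_forall
  intro x
  obtain ⟨g, hg⟩ := cover (r x)
  obtain ⟨h, hh⟩ := cover (r' x)
  let W : T.Opens := r ⁻¹ᵁ (inj g).opensRange ⊓ r' ⁻¹ᵁ (inj h).opensRange
  have hxW : x ∈ W := ⟨hg, hh⟩
  obtain ⟨a, ha⟩ := exists_lift inj r g W inf_le_left
  obtain ⟨a', ha'⟩ := exists_lift inj r' h W inf_le_right
  refine ⟨W, hxW, ?_⟩
  have e1 : a = a' := by
    have h1 : (W.ι ≫ r) ≫ s = (W.ι ≫ r') ≫ s := by rw [Category.assoc, Category.assoc, hs]
    rw [← ha, ← ha', Category.assoc, Category.assoc, inj_s, inj_s, Category.comp_id,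
      Category.comp_id] at h1
    exact h1
  subst e1
  have e2 : a ≫ act g = a ≫ act h := by
    have h1 : (W.ι ≫ r) ≫ t = (W.ι ≫ r') ≫ t := by rw [Category.assoc, Category.assoc, ht]
    rw [← ha, ← ha', Category.assoc, Category.assoc, inj_t, inj_t] at h1
    exact h1
  have e3 : h⁻¹ * g = 1 := by
    refine eq_one_of_fix act free a ⟨x, hxW⟩ _ ?_
    rw [act_mul, ← Category.assoc, e2, Category.assoc, ← act_mul, inv_mul_cancel, act_one,
      Category.comp_id]
  have e4 : g = h := by
    have := congrArg (h * ·) e3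
    simpa using this
  subst e4
  rw [← ha, ← ha']

include cover inj_s inj_t act_one act_mul free in
theorem rel_symm {T : Scheme.{u}} (r : T ⟶ R) :
    ∃ r' : T ⟶ R, r' ≫ t = r ≫ s ∧ r' ≫ s = r ≫ t := by
  refine exists_of_local t s (mono_pair s t inj act cover inj_s inj_t act_one act_mul free) _ _ ?_
  intro x
  obtain ⟨g, hg⟩ := cover (r x)
  let W : T.Opens := r ⁻¹ᵁ (inj g).opensRange
  obtain ⟨a, ha⟩ := exists_lift inj r g W le_rfl
  refine ⟨W, hg, a ≫ act g ≫ inj g⁻¹, ?_, ?_⟩
  · rw [Category.assoc, Category.assoc, inj_t, ← act_mul, inv_mul_cancel, act_one,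
      Category.comp_id, ← Category.assoc, ← ha, Category.assoc, inj_s, Category.comp_id]
  · rw [Category.assoc, Category.assoc, inj_s, Category.comp_id, ← Category.assoc W.ι, ← ha,
      Category.assoc, inj_t]

include cover inj_s inj_t act_one act_mul free in
theorem rel_trans {T : Scheme.{u}} (r₁ r₂ : T ⟶ R) (h12 : r₁ ≫ s = r₂ ≫ t) :
    ∃ r₃ : T ⟶ R, r₃ ≫ t = r₁ ≫ t ∧ r₃ ≫ s = r₂ ≫ s := by
  refine exists_of_local t s (mono_pair s t inj act cover inj_s inj_t act_one act_mul free) _ _ ?_
  intro x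
  obtain ⟨g, hg⟩ := cover (r₁ x)
  obtain ⟨h, hh⟩ := cover (r₂ x)
  let W : T.Opens := r₁ ⁻¹ᵁ (inj g).opensRange ⊓ r₂ ⁻¹ᵁ (inj h).opensRange
  have hxW : x ∈ W := ⟨hg, hh⟩
  obtain ⟨a₁, ha₁⟩ := exists_lift inj r₁ g W inf_le_left
  obtain ⟨a₂, ha₂⟩ := exists_lift inj r₂ h W inf_le_right
  have e1 : a₁ = a₂ ≫ act h := by
    have h1 : (W.ι ≫ r₁) ≫ s = (W.ι ≫ r₂) ≫ t := by rw [Category.assoc, Category.assoc, h12]
    rw [← ha₁, ← ha₂, Category.assoc, Category.assoc, inj_s, inj_t, Category.comp_id] at h1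
    exact h1
  refine ⟨W, hxW, a₂ ≫ inj (g * h), ?_, ?_⟩
  · rw [Category.assoc, inj_t, ← Category.assoc W.ι, ← ha₁, Category.assoc, inj_t, e1, act_mul,
      Category.assoc]
  · rw [Category.assoc, inj_s, Category.comp_id, ← Category.assoc W.ι, ← ha₂, Category.assoc,
      inj_s, Category.comp_id]

include act_one act_mul in
theorem isIso_act (g : G) : IsIso (act g) :=
  ⟨act g⁻¹, by rw [← act_mul, inv_mul_cancel, act_one], by rw [← act_mul, mul_inv_cancel, act_one]⟩

include cover inj_s in
theorem etale_s : Etale s := by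
  let 𝒱 : R.OpenCover := {
    I₀ := G, X _ := U, f g := inj g,
    mem₀ := by
      rw [Scheme.presieve₀_mem_precoverage_iff]
      exact ⟨fun x => cover x, inferInstance⟩ }
  have := isZariskiLocalAtSource_etale.{u}
  refine (IsZariskiLocalAtSource.iff_of_openCover (P := @Etale) 𝒱).2 fun g => ?_
  show Etale (inj g ≫ s)
  rw [inj_s]
  infer_instance

include cover inj_t act_one act_mul in
theorem etale_t : Etale t := by
  let 𝒱 : R.OpenCover := {
    I₀ := G, X _ := U, f g := inj g,
    mem₀ := by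
      rw [Scheme.presieve₀_mem_precoverage_iff]
      exact ⟨fun x => cover x, inferInstance⟩ }
  have := isZariskiLocalAtSource_etale.{u}
  refine (IsZariskiLocalAtSource.iff_of_openCover (P := @Etale) 𝒱).2 fun g => ?_
  show Etale (inj g ≫ t)
  rw [inj_t]
  have := isIso_act act act_one act_mul g
  infer_instance

end SchemeLevel

section OverLevel

variable {S : Scheme.{u}} {U : Over S} {G : Type u} [Group G] (ρ : G →* Aut U)
  (c : Cofan (fun _ : G => U)) (hc : IsColimit c) (s t : c.pt ⟶ U)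

/-- the underlying cofan of schemes of a coproduct in `Over S` is a coproduct. -/
noncomputable def isColimitLeft (hc : IsColimit c) :
    IsColimit (Cofan.mk c.pt.left (fun g => (c.inj g).left)) := by
  have h1 : IsColimit (Cofan.mk c.pt c.inj) :=
    IsColimit.ofIsoColimit hc (Cocones.ext (Iso.refl _) (by rintro ⟨g⟩; simp [Cofan.inj]))
  exact isColimitCofanMkObjOfIsColimit (Over.forget S) _ _ h1

include hc in
theorem isOpenImmersion_inj_left (g : G) : IsOpenImmersion (c.inj g).left := by
  let e := (isColimitLeft c hc).coconePointUniqueUpToIso (coproductIsCoproduct (fun _ : G => U.left))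
  have h1 : (c.inj g).left ≫ e.hom = Sigma.ι (fun _ : G => U.left) g :=
    (isColimitLeft c hc).comp_coconePointUniqueUpToIso_hom _ ⟨g⟩
  have h2 : (c.inj g).left = Sigma.ι (fun _ : G => U.left) g ≫ e.inv := by
    rw [← h1, Category.assoc, Iso.hom_inv_id, Category.comp_id]
  rw [h2]
  infer_instance

include hc in
theorem cover_left (x : c.pt.left) : ∃ (g : G) (y : U.left), (c.inj g).left y = x := by
  let e := (isColimitLeft c hc).coconePointUniqueUpToIso (coproductIsCoproduct (fun _ : G => U.left))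
  have h1 : ∀ g, (c.inj g).left ≫ e.hom = Sigma.ι (fun _ : G => U.left) g := fun g =>
    (isColimitLeft c hc).comp_coconePointUniqueUpToIso_hom _ ⟨g⟩
  obtain ⟨⟨g, y⟩, hy⟩ := (sigmaMk (fun _ : G => U.left)).surjective (e.hom x)
  rw [sigmaMk_mk] at hy
  refine ⟨g, y, ?_⟩
  have h2 : (e.hom) ((c.inj g).left y) = e.hom x := by
    rw [← h1 g] at hy
    exact hy
  have h3 := congrArg (e.inv) h2
  have h4 : ∀ z, e.inv (e.hom z) = z := fun z => by
    rw [← Scheme.Hom.comp_apply, Iso.hom_inv_id]; rfl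
  rwa [h4, h4] at h3

include hc in
/-- **S9889**: a free action of an abstract group gives an etale equivalence relation. -/
theorem isEtaleEqvRel
    (hfree : ∀ (g : G) (x : U.left), g ≠ 1 →
      U.left.fromSpecResidueField x ≫ (ρ g).hom.left ≠ U.left.fromSpecResidueField x)
    (hs : ∀ g, c.inj g ≫ s = 𝟙 U) (ht : ∀ g, c.inj g ≫ t = (ρ g).hom) :
    AlgSp.IsEtaleEqvRel s t := by
  have hopen : ∀ g, IsOpenImmersion (c.inj g).left := isOpenImmersion_inj_left c hc
  have hcov : ∀ x : c.pt.left, ∃ g, x ∈ (c.inj g).left.opensRange := fun x => by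
    obtain ⟨g, y, hy⟩ := cover_left c hc x
    exact ⟨g, y, hy⟩
  have inj_s : ∀ g, (c.inj g).left ≫ s.left = 𝟙 U.left := fun g => by
    rw [← Over.comp_left, hs]; rfl
  have inj_t : ∀ g, (c.inj g).left ≫ t.left = (ρ g).hom.left := fun g => by
    rw [← Over.comp_left, ht]
  have act_one : (ρ 1).hom.left = 𝟙 U.left := by rw [map_one]; rfl
  have act_mul : ∀ g h, (ρ (g * h)).hom.left = (ρ h).hom.left ≫ (ρ g).hom.left := fun g h => by
    rw [map_mul]; rfl
  have hmono := mono_pair s.left t.left (fun g => (c.inj g).left) (fun g => (ρ g).hom.left)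
    hcov inj_s inj_t act_one act_mul hfree
  have hw : c.pt.hom = s.left ≫ U.hom := (Over.w s).symm
  refine ⟨⟨?_, ?_⟩, ?_, ?_⟩
  · intro T r r' h1 h2
    apply Over.OverMorphism.ext
    exact hmono T.left r.left r'.left (congrArg (·.left) h1) (congrArg (·.left) h2)
  · intro T
    refine ⟨?_, ?_, ?_⟩
    · intro a
      refine ⟨a ≫ c.inj 1, ?_, ?_⟩
      · rw [Category.assoc, ht, map_one]; exact Category.comp_id _
      · rw [Category.assoc, hs, Category.comp_id]
    · rintro a b ⟨r, hrt, hrs⟩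
      obtain ⟨r', h1, h2⟩ := rel_symm s.left t.left (fun g => (c.inj g).left)
        (fun g => (ρ g).hom.left) hcov inj_s inj_t act_one act_mul hfree r.left
      have hw' : r' ≫ c.pt.hom = T.hom := by
        rw [hw, ← Category.assoc, h2, ← Over.comp_left, Over.w]
      refine ⟨Over.homMk r' hw', ?_, ?_⟩
      · apply Over.OverMorphism.ext
        show r' ≫ t.left = b.left
        rw [h1, ← Over.comp_left, hrs]
      · apply Over.OverMorphism.ext
        show r' ≫ s.left = a.left
        rw [h2, ← Over.comp_left, hrt]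
    · rintro a b d ⟨r₁, hrt₁, hrs₁⟩ ⟨r₂, hrt₂, hrs₂⟩
      obtain ⟨r', h1, h2⟩ := rel_trans s.left t.left (fun g => (c.inj g).left)
        (fun g => (ρ g).hom.left) hcov inj_s inj_t act_one act_mul hfree r₁.left r₂.left
        (by rw [← Over.comp_left, ← Over.comp_left, hrs₁, hrt₂])
      have hw' : r' ≫ c.pt.hom = T.hom := by
        rw [hw, ← Category.assoc, h2, ← Over.comp_left, Over.w]
      refine ⟨Over.homMk r' hw', ?_, ?_⟩
      · apply Over.OverMorphism.ext
        show r' ≫ t.left = a.left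
        rw [h1, ← Over.comp_left, hrt₁]
      · apply Over.OverMorphism.ext
        show r' ≫ s.left = d.left
        rw [h2, ← Over.comp_left, hrs₂]
  · exact etale_s s.left (fun g => (c.inj g).left) hcov inj_s
  · exact etale_t t.left (fun g => (c.inj g).left) (fun g => (ρ g).hom.left) hcov inj_t
      act_one act_mul

end OverLevel

end Groth.Agent.Lib.Seat19.FreeAct
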