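import Mathlib
import Groth.Prelude.Def_AlgSp
import Groth.Agent.Lib.Seat19FreeAct
import Groth.Agent.Lib.Seat19BootH
import Groth.Agent.Lib.Helper12Descent
import Groth.Agent.Lib.Helper12Torsor
import Groth.Agent.Lib.Helper9Shf
import Groth.Agent.S9884

/-!
# Separation of the quotient by a free action of a finite group (seat 19)

* `isLocalAtTarget_fppf`: stable under base change + Zariski local + fpqc descent gives
  `IsLocalAtTarget fppfPrecoverage`.
* `quasiCompact_of_finite_cover`, `isClosedImmersion_of_finite_cover`: finite open covers of the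
  source.
* `repWith_diag_quot`: `P (t, s)` gives `RepWith P (diag (U/R))` for an etale equivalence relation.
* `main` (= S9890).
-/

set_option autoImplicit false
universe u

open CategoryTheory Limits AlgebraicGeometry Opposite

namespace Groth.Agent.Lib.Seat19.FreeSep

local notation "𝕃" => Scheme.fppfPrecoverage

/-- fpqc descent + Zariski local + stable under base change gives fppf local on the target. -/
theorem isLocalAtTarget_fppf (P : MorphismProperty Scheme.{u}) [P.IsStableUnderBaseChange]
    [IsZariskiLocalAtTarget P]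
    (hP : P.DescendsAlong (@Surjective ⊓ @Flat ⊓ @QuasiCompact : MorphismProperty Scheme.{u})) :
    P.IsLocalAtTarget Scheme.fppfPrecoverage.{u} where
  __ := (inferInstance : P.RespectsIso)
  pullbackSnd _ _ hf := P.pullback_snd _ _ hf
  of_forall_pullbackSnd {X Y f R} hR h :=
    Groth.Agent.Lib.Helper12.of_mem_fpqcPrecoverage hP f R
      (Scheme.fppfPrecoverage_le_fpqcPrecoverage _ hR) (fun _ g hg => h hg)

section FiniteCover

variable {G : Type u} [Finite G] {R U X : Scheme.{u}} (inj : G → (U ⟶ R))
  (cover : ∀ x : R, ∃ g, x ∈ Set.range (inj g)) (j : R ⟶ X)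

include cover in
theorem quasiCompact_of_finite_cover (h : ∀ g, QuasiCompact (inj g ≫ j)) : QuasiCompact j := by
  constructor
  intro V hV hVc
  have e : j ⁻¹' V = ⋃ g, (inj g) '' ((inj g ≫ j) ⁻¹' V) := by
    ext x
    simp only [Set.mem_preimage, Set.mem_iUnion, Set.mem_image]
    constructor
    · intro hx
      obtain ⟨g, y, rfl⟩ := cover x
      exact ⟨g, y, by simpa using hx, rfl⟩
    · rintro ⟨g, y, hy, rfl⟩
      simpa using hy
  rw [e]
  exact isCompact_iUnion fun g =>
    ((h g).isCompact_preimage V hV hVc).image (inj g).continuous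

set_option backward.isDefEq.respectTransparency.types false in
lemma isZariskiLocalAtSource_surjectiveOnStalks :
    IsZariskiLocalAtSource @SurjectiveOnStalks.{u} := inferInstance

include cover in
theorem isClosedImmersion_of_finite_cover [∀ g, IsOpenImmersion (inj g)]
    (hinj : Function.Injective j) (h : ∀ g, IsClosedImmersion (inj g ≫ j)) :
    IsClosedImmersion j := by
  have hs : SurjectiveOnStalks j := by
    let 𝒱 : R.OpenCover := {
      I₀ := G, X _ := U, f g := inj g,
      mem₀ := by
        rw [Scheme.presieve₀_mem_precoverage_iff]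
        exact ⟨fun x => cover x, inferInstance⟩ }
    have := isZariskiLocalAtSource_surjectiveOnStalks.{u}
    refine (IsZariskiLocalAtSource.iff_of_openCover (P := @SurjectiveOnStalks) 𝒱).2 fun g => ?_
    show SurjectiveOnStalks (inj g ≫ j)
    have := h g
    infer_instance
  refine ⟨?_⟩
  refine Topology.IsClosedEmbedding.of_continuous_injective_isClosedMap j.continuous hinj ?_
  intro Z hZ
  have e : j '' Z = ⋃ g, (inj g ≫ j) '' ((inj g) ⁻¹' Z) := by
    ext x
    simp only [Set.mem_image, Set.mem_iUnion, Set.mem_preimage]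
    constructor
    · rintro ⟨z, hz, rfl⟩
      obtain ⟨g, y, rfl⟩ := cover z
      exact ⟨g, y, hz, by simp⟩
    · rintro ⟨g, y, hy, rfl⟩
      exact ⟨inj g y, hy, by simp⟩
  rw [e]
  exact isClosed_iUnion_of_finite fun g =>
    (h g).isClosedEmbedding.isClosedMap _ (hZ.preimage (inj g).continuous)

end FiniteCover

section Diag

variable {S : Scheme.{u}}

/-- `P` of the diagonal of `U` in `Over S` from `P` of the diagonal of `U.hom`. -/
theorem prop_diag_left (P : MorphismProperty Scheme.{u}) [P.RespectsIso] (U : Over S)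
    (h : P (pullback.diagonal U.hom)) : P (Limits.diag U).left := by
  rw [← MorphismProperty.cancel_right_of_respectsIso P _ (Over.prodLeftIsoPullback U U).hom]
  convert h
  ext1 <;> simp [← Over.comp_left, prod.lift_fst, prod.lift_snd]

/-- `P` of the graph of an automorphism. -/
theorem prop_graph_left (P : MorphismProperty Scheme.{u}) [P.RespectsIso] (U : Over S)
    (h : P (pullback.diagonal U.hom)) (a : U ⟶ U) [IsIso a] :
    P (prod.lift a (𝟙 U)).left := by
  have e : prod.lift a (𝟙 U) = Limits.diag U ≫ prod.map a (𝟙 U) := by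
    apply Limits.prod.hom_ext
    · simp [prod.lift_fst]
    · simp [prod.lift_snd]
  rw [e, Over.comp_left]
  have : IsIso (prod.map a (𝟙 U)).left := (Over.forget S).map_isIso _
  exact (P.cancel_right_of_respectsIso _ _).2 (prop_diag_left P U h)

end Diag

section Sheaf

variable {S : Scheme.{u}}

/-- product of locally surjective maps of sheaves is locally surjective. -/
theorem isLocallySurjective_prodMap {A A' B B' : AlgSp.Sp S} (f : A ⟶ A') (g : B ⟶ B')
    [Sheaf.IsLocallySurjective f] [Sheaf.IsLocallySurjective g] :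
    Sheaf.IsLocallySurjective (prod.map f g) := by
  have h1 : Sheaf.IsLocallySurjective (prod.map f (𝟙 B)) :=
    Groth.Agent.Lib.Helper9.isLocallySurjective_of_isPullback (AlgSp.J S)
      (IsPullback.of_prod_fst_with_id f B).flip
  have h2 : Sheaf.IsLocallySurjective (prod.map g (𝟙 A')) :=
    Groth.Agent.Lib.Helper9.isLocallySurjective_of_isPullback (AlgSp.J S)
      (IsPullback.of_prod_fst_with_id g A').flip
  have e : prod.map f g = prod.map f (𝟙 B) ≫ (prod.braiding A' B).hom ≫ prod.map g (𝟙 A') ≫
      (prod.braiding B' A').hom := by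
    apply Limits.prod.hom_ext
    · simp [prod.lift_fst, prod.lift_snd]
    · simp only [prod.map_snd, prod.braiding_hom, Category.assoc, prod.lift_snd, prod.map_fst]
      rw [reassoc_of% (prod.lift_fst (prod.snd : A' ⨯ B ⟶ B) (prod.fst : A' ⨯ B ⟶ A')),
        reassoc_of% (prod.map_snd f (𝟙 B))]
  rw [e]
  infer_instance

end Sheaf

section Quot

open Groth.Agent.Lib.Seat19.Present Groth.Agent.Lib.Seat19.Boot

variable {S : Scheme.{u}} {R U : Over S} (s t : R ⟶ U)

theorem isLocallySurjective_πY : Sheaf.IsLocallySurjective (πY s t) := by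
  have h1 : Epi (QuotSh.quotπ 𝕃 s t) := by
    unfold QuotSh.quotπ
    exact coequalizer.π_epi
  have h2 : Sheaf.IsLocallySurjective (QuotSh.quotπ 𝕃 s t) :=
    (Sheaf.isLocallySurjective_iff_epi _).2 h1
  unfold πY
  infer_instance

/-- `P (t, s)` gives `RepWith P (diag (U/R))` for an etale equivalence relation. -/
theorem repWith_diag_quot (h : AlgSp.IsEtaleEqvRel s t) (P : MorphismProperty Scheme.{u})
    [P.IsStableUnderBaseChange] [P.IsLocalAtTarget Scheme.fppfPrecoverage.{u}]
    (hP : P (prod.lift t s).left) :
    AlgSp.RepWith P (Limits.diag (QuotSh.quot 𝕃 s t)) := by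
  have hq := isLocallySurjective_πY s t
  have hqq : Sheaf.IsLocallySurjective (prod.map (πY s t) (πY s t)) :=
    isLocallySurjective_prodMap _ _
  have hd1 : IsPullback ((AlgSp.yon S).map t ≫ πY s t)
      (prod.lift ((AlgSp.yon S).map t) ((AlgSp.yon S).map s))
      (Limits.diag (QuotSh.quot 𝕃 s t)) (prod.map (πY s t) (πY s t)) :=
    isPullback_diag_of_isPullback (isKernelPair_yon s t h.toIsEqvRel)
  have hpc : (AlgSp.yon S).map (prod.lift t s) ≫ prodComparison (AlgSp.yon S) U U =
      prod.lift ((AlgSp.yon S).map t) ((AlgSp.yon S).map s) := by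
    apply Limits.prod.hom_ext
    · rw [Category.assoc, prodComparison_fst, ← Functor.map_comp, prod.lift_fst, prod.lift_fst]
    · rw [Category.assoc, prodComparison_snd, ← Functor.map_comp, prod.lift_snd, prod.lift_snd]
  have hrep : AlgSp.RepWith P (prod.lift ((AlgSp.yon S).map t) ((AlgSp.yon S).map s)) := by
    rw [← hpc]
    exact ((AlgSp.RepWith P).cancel_right_of_respectsIso _ _).2
      ((AlgSp.repWith_yon_map_iff P _).2 hP)
  exact Groth.Agent.S9884.repWith_of_locallySurjective (Limits.diag (QuotSh.quot 𝕃 s t))
    (Groth.Agent.Lib.Seat19.BootH.isAlgSpace_quot s t h).diag (prod.map (πY s t) (πY s t))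
    _ _ hd1 P hrep

end Quot

section Main

set_option backward.isDefEq.respectTransparency.types false in
lemma isZariskiLocalAtTarget_quasiCompact : IsZariskiLocalAtTarget @QuasiCompact.{u} :=
  inferInstance

set_option backward.isDefEq.respectTransparency.types false in
lemma isZariskiLocalAtTarget_isClosedImmersion : IsZariskiLocalAtTarget @IsClosedImmersion.{u} :=
  inferInstance

set_option backward.isDefEq.respectTransparency.types false in
lemma respectsIso_quasiCompact : MorphismProperty.RespectsIso @QuasiCompact.{u} :=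
  inferInstance

variable {S : Scheme.{u}} {U : Over S} {G : Type u} [Group G] [Finite G] (ρ : G →* Aut U)
  (c : Cofan (fun _ : G => U)) (hc : IsColimit c) (s t : c.pt ⟶ U)

include hc in
/-- **S9890**. -/
theorem main
    (hfree : ∀ (g : G) (x : U.left), g ≠ 1 →
      U.left.fromSpecResidueField x ≫ (ρ g).hom.left ≠ U.left.fromSpecResidueField x)
    (hs : ∀ g, c.inj g ≫ s = 𝟙 U) (ht : ∀ g, c.inj g ≫ t = (ρ g).hom) :
    (QuasiSeparated U.hom → AlgSp.IsQuasiSeparatedSp (QuotSh.quot 𝕃 s t)) ∧
      (IsSeparated U.hom → AlgSp.IsSeparatedSp (QuotSh.quot 𝕃 s t)) := by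
  have heq := Groth.Agent.Lib.Seat19.FreeAct.isEtaleEqvRel ρ c hc s t hfree hs ht
  have hopen : ∀ g, IsOpenImmersion (c.inj g).left :=
    Groth.Agent.Lib.Seat19.FreeAct.isOpenImmersion_inj_left c hc
  have hcov : ∀ x : c.pt.left, ∃ g, x ∈ Set.range (c.inj g).left := fun x => by
    obtain ⟨g, y, hy⟩ := Groth.Agent.Lib.Seat19.FreeAct.cover_left c hc x
    exact ⟨g, y, hy⟩
  have hj : ∀ g, (c.inj g).left ≫ (prod.lift t s).left = (prod.lift (ρ g).hom (𝟙 U)).left := by
    intro g
    rw [← Over.comp_left]
    congr 1
    apply Limits.prod.hom_ext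
    · rw [Category.assoc, prod.lift_fst, prod.lift_fst, ht]
    · rw [Category.assoc, prod.lift_snd, prod.lift_snd, hs]
  have hiso : ∀ g, IsIso (ρ g).hom := fun g =>
    ⟨(ρ g).inv, (ρ g).hom_inv_id, (ρ g).inv_hom_id⟩
  have := isZariskiLocalAtTarget_quasiCompact.{u}
  have := isZariskiLocalAtTarget_isClosedImmersion.{u}
  have := respectsIso_quasiCompact.{u}
  constructor
  · intro hqs
    have := isLocalAtTarget_fppf @QuasiCompact Groth.Agent.Lib.Helper12.descendsAlong_quasiCompact.{u}
    refine repWith_diag_quot s t heq @QuasiCompact ?_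
    refine quasiCompact_of_finite_cover (fun g => (c.inj g).left) hcov _ (fun g => ?_)
    rw [hj]
    exact prop_graph_left @QuasiCompact U hqs.quasiCompact_diagonal (ρ g).hom
  · intro hsep
    have := isLocalAtTarget_fppf @IsClosedImmersion
      Groth.Agent.Lib.Helper12.descendsAlong_isClosedImmersion.{u}
    refine repWith_diag_quot s t heq @IsClosedImmersion ?_
    have hmono : Mono (prod.lift t s) := by
      constructor
      intro T r r' hrr
      refine heq.injective T r r' ?_ ?_
      · have := congrArg (fun m => m ≫ (prod.fst : U ⨯ U ⟶ U)) hrr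
        simpa [prod.lift_fst] using this
      · have := congrArg (fun m => m ≫ (prod.snd : U ⨯ U ⟶ U)) hrr
        simpa [prod.lift_snd] using this
    have hmonol : Mono (prod.lift t s).left := inferInstance
    refine isClosedImmersion_of_finite_cover (fun g => (c.inj g).left) hcov _
      (prod.lift t s).left.injective (fun g => ?_)
    rw [hj]
    exact prop_graph_left @IsClosedImmersion U hsep.isClosedImmersion_diagonal (ρ g).hom

end Main

end Groth.Agent.Lib.Seat19.FreeSep
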