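import Mathlib.Tactic
import Mathlib.AlgebraicGeometry.Sites.Fpqc
import Mathlib.RingTheory.AdjoinRoot
import Mathlib.RingTheory.RingHom.FaithfullyFlat

/-!
# Adjoining a root of a monic polynomial is an fppf covering (seat 27)

For a nontrivial commutative ring `A` and a monic polynomial `g : A[X]` of positive degree, the morphism
`Spec (A[X]/(g)) ⟶ Spec A` is flat, surjective and locally of finite presentation (it is finite free of
positive rank).  Base changes of it are therefore fppf (and fpqc) coverings: `singleton_mem_fppf`,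
`singleton_mem_fpqc`.
-/

set_option autoImplicit false
universe u

open CategoryTheory AlgebraicGeometry CategoryTheory.Limits Polynomial

namespace Groth.Agent.Lib.Seat27.MonicCover

variable {A : Type u} [CommRing A]

theorem nontrivial_adjoinRoot [Nontrivial A] (g : A[X]) (hg : g.Monic) (hd : g.natDegree ≠ 0) :
    Nontrivial (AdjoinRoot g) := by
  change Nontrivial (A[X] ⧸ Ideal.span {g})
  rw [Ideal.Quotient.nontrivial_iff]
  intro h
  rw [Ideal.span_singleton_eq_top] at h
  have := hg.eq_one_of_isUnit h
  rw [this] at hd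
  simp at hd

/-- the morphism `Spec A[X]/(g) ⟶ Spec A`. -/
noncomputable abbrev rootMap (g : A[X]) :
    Spec (CommRingCat.of (AdjoinRoot g)) ⟶ Spec (CommRingCat.of A) :=
  Spec.map (CommRingCat.ofHom (algebraMap A (AdjoinRoot g)))

theorem faithfullyFlat [Nontrivial A] (g : A[X]) (hg : g.Monic) (hd : g.natDegree ≠ 0) :
    Module.FaithfullyFlat A (AdjoinRoot g) := by
  have := hg.free_adjoinRoot
  have := nontrivial_adjoinRoot g hg hd
  infer_instance

theorem flat_and_surjective [Nontrivial A] (g : A[X]) (hg : g.Monic) (hd : g.natDegree ≠ 0) :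
    Flat (rootMap g) ∧ Surjective (rootMap g) := by
  rw [flat_and_surjective_SpecMap_iff]
  change (algebraMap A (AdjoinRoot g)).FaithfullyFlat
  rw [RingHom.faithfullyFlat_algebraMap_iff]
  exact faithfullyFlat g hg hd

theorem flat [Nontrivial A] (g : A[X]) (hg : g.Monic) (hd : g.natDegree ≠ 0) : Flat (rootMap g) :=
  (flat_and_surjective g hg hd).1

theorem surjective [Nontrivial A] (g : A[X]) (hg : g.Monic) (hd : g.natDegree ≠ 0) :
    Surjective (rootMap g) :=
  (flat_and_surjective g hg hd).2

theorem lfp (g : A[X]) : LocallyOfFinitePresentation (rootMap g) := by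
  rw [HasRingHomProperty.Spec_iff (P := @LocallyOfFinitePresentation)]
  change (algebraMap A (AdjoinRoot g)).FinitePresentation
  rw [RingHom.finitePresentation_algebraMap]
  infer_instance

/-- the base change of `Spec A[X]/(g) ⟶ Spec A` along any `c : B ⟶ Spec A` is an fppf covering of `B`. -/
theorem singleton_mem_fppf [Nontrivial A] (g : A[X]) (hg : g.Monic) (hd : g.natDegree ≠ 0)
    {B : Scheme.{u}} (c : B ⟶ Spec (CommRingCat.of A)) :
    Presieve.singleton (pullback.fst c (rootMap g)) ∈ Scheme.fppfPrecoverage B := by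
  have := flat g hg hd
  have := surjective g hg hd
  have := lfp g
  exact Scheme.Hom.singleton_mem_fppfPrecoverage _

theorem singleton_mem_fpqc [Nontrivial A] (g : A[X]) (hg : g.Monic) (hd : g.natDegree ≠ 0)
    {B : Scheme.{u}} (c : B ⟶ Spec (CommRingCat.of A)) :
    Presieve.singleton (pullback.fst c (rootMap g)) ∈ Scheme.fpqcPrecoverage B :=
  Scheme.fppfPrecoverage_le_fpqcPrecoverage _ (singleton_mem_fppf g hg hd c)

end Groth.Agent.Lib.Seat27.MonicCover
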