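import Mathlib.Tactic
import Mathlib.RingTheory.AdjoinRoot
import Mathlib.RingTheory.RingHom.FaithfullyFlat
import Mathlib.RingTheory.PowerBasis
import Mathlib.Algebra.Polynomial.Taylor
import Mathlib.RingTheory.TensorProduct.Free
import Groth.Agent.Lib.Seat27MonicCover

/-!
# Algebra for quotients of `𝔾_a` and `𝔾_m` by finite subgroups (seat 19)
-/

set_option autoImplicit false
universe u

open Polynomial TensorProduct

namespace Groth.Agent.Lib.Seat19.GaGmAlg

section FlatGa

variable {K : Type u} [Field K]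

/-- substituting a monic polynomial of positive degree for the variable is a faithfully flat endomorphism of
`K[X]`. -/
theorem faithfullyFlat_aeval (f : K[X]) (hf : f.Monic) (hd : f.natDegree ≠ 0) :
    ((aeval f : K[X] →ₐ[K] K[X]) : K[X] →+* K[X]).FaithfullyFlat := by
  set ψ : K[X] →+* K[X] := ((aeval f : K[X] →ₐ[K] K[X]) : K[X] →+* K[X]) with hψ
  have hψC : ∀ k, ψ (C k) = C k := fun k => by simp [ψ]
  have hψX : ψ X = f := by simp [ψ]
  let g : K[X][X] := f.map C - C X
  have hdeg : (C (X : K[X]) : K[X][X]).degree < (f.map (C : K →+* K[X])).degree := by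
    rw [degree_map]
    refine lt_of_le_of_lt degree_C_le ?_
    rw [← natDegree_pos_iff_degree_pos]
    exact Nat.pos_of_ne_zero hd
  have hg : g.Monic := (hf.map C).sub_of_left hdeg
  have hgd : g.natDegree ≠ 0 := by
    have : g.natDegree = f.natDegree := by
      have h1 : g.degree = (f.map (C : K →+* K[X])).degree := degree_sub_eq_left_of_degree_lt hdeg
      rw [degree_map] at h1
      exact natDegree_eq_natDegree h1
    rw [this]; exact hd
  have hff : (AdjoinRoot.of g).FaithfullyFlat := by
    have := Groth.Agent.Lib.Seat27.MonicCover.faithfullyFlat g hg hgd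
    exact (RingHom.faithfullyFlat_algebraMap_iff).mpr this
  have h0 : g.eval₂ ψ X = 0 := by
    simp only [g, eval₂_sub, eval₂_map, eval₂_C, hψX]
    have : (ψ.comp C) = C := by ext k; simp [hψC]
    rw [this, eval₂_C_X, sub_self]
  let σ : AdjoinRoot g →+* K[X] := AdjoinRoot.lift ψ X h0
  let τ : K[X] →+* AdjoinRoot g := eval₂RingHom ((AdjoinRoot.of g).comp C) (AdjoinRoot.root g)
  have hστ : σ.comp τ = RingHom.id _ := by
    apply Polynomial.ringHom_ext
    · intro k; simp [σ, τ, hψC]
    · simp [σ, τ]
  have hroot : f.eval₂ ((AdjoinRoot.of g).comp C) (AdjoinRoot.root g) = AdjoinRoot.of g X := by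
    have h1 := AdjoinRoot.eval₂_root g
    simp only [g, eval₂_sub, eval₂_map, eval₂_C] at h1
    exact sub_eq_zero.mp h1
  have hτσ : τ.comp σ = RingHom.id _ := by
    apply AdjoinRoot.ringHom_ext
    · apply Polynomial.ringHom_ext
      · intro k; simp [σ, τ, hψC]
      · simp [σ, τ, hψX, hroot]
    · simp [σ, τ]
  have hbij : Function.Bijective σ := by
    constructor
    · intro a b hab
      have := congrArg τ hab
      have e1 : ∀ x, τ (σ x) = x := fun x => congrArg (fun m : _ →+* _ => m x) hτσ
      rwa [e1, e1] at this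
    · intro p
      exact ⟨τ p, congrArg (fun m : _ →+* _ => m p) hστ⟩
  have hcomp : ψ = σ.comp (AdjoinRoot.of g) := by
    ext p <;> simp [σ]
  rw [hcomp]
  exact RingHom.FaithfullyFlat.stableUnderComposition _ _ hff (RingHom.FaithfullyFlat.of_bijective hbij)

end FlatGa

section FlatGm

variable (K : Type u) [Field K]

/-- the Laurent polynomial ring `K[t, t⁻¹]`. -/
abbrev Laur : Type u := MonoidAlgebra K (Multiplicative ℤ)

/-- the coordinate `t`. -/
noncomputable abbrev tL : Laur K := MonoidAlgebra.single (Multiplicative.ofAdd (1 : ℤ)) 1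

lemma isUnit_tL : IsUnit (tL K) := by
  refine IsUnit.of_mul_eq_one (MonoidAlgebra.single (Multiplicative.ofAdd (-1 : ℤ)) 1) ?_
  rw [MonoidAlgebra.single_mul_single, ← ofAdd_add]
  simp
  rfl

variable {K}

/-- ring homomorphisms out of `K[t, t⁻¹]` are determined by their restriction to `K` and the image of `t`. -/
lemma laur_ringHom_ext {R : Type*} [Semiring R] (φ ψ : Laur K →+* R)
    (h1 : ∀ k : K, φ (MonoidAlgebra.single 1 k) = ψ (MonoidAlgebra.single 1 k))
    (h2 : φ (tL K) = ψ (tL K)) : φ = ψ := by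
  apply MonoidAlgebra.ringHom_ext h1
  have : (φ : Laur K →* R).comp (MonoidAlgebra.of K (Multiplicative ℤ)) =
      (ψ : Laur K →* R).comp (MonoidAlgebra.of K (Multiplicative ℤ)) := by
    apply MonoidHom.ext_mint
    exact h2
  intro a
  exact congrArg (fun m : _ →* _ => m a) this

/-- algebra homomorphisms out of `K[t, t⁻¹]` are determined by the image of `t`. -/
lemma laur_algHom_ext {R : Type*} [Semiring R] [Algebra K R] (φ ψ : Laur K →ₐ[K] R)
    (h : φ (tL K) = ψ (tL K)) : φ = ψ := by
  have h1 : (φ : Laur K →+* R) = (ψ : Laur K →+* R) := by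
    apply laur_ringHom_ext
    · intro k
      have e1 : (MonoidAlgebra.single 1 k : Laur K) = algebraMap K (Laur K) k := by
        rw [MonoidAlgebra.coe_algebraMap]; simp
      simp only [e1, AlgHom.coe_toRingHom, AlgHom.commutes]
    · exact h
  exact AlgHom.ext fun x => congrArg (fun m : _ →+* _ => m x) h1

variable (K)

/-- the algebra homomorphism `K[t, t⁻¹] → R` sending `t` to a unit. -/
noncomputable def laurLift {R : Type*} [CommRing R] [Algebra K R] (r : Rˣ) : Laur K →ₐ[K] R :=
  MonoidAlgebra.lift K R (Multiplicative ℤ) ((Units.coeHom R).comp (zpowersHom Rˣ r))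

lemma laurLift_tL {R : Type*} [CommRing R] [Algebra K R] (r : Rˣ) : laurLift K r (tL K) = r := by
  simp [laurLift, tL]

/-- the `n`-th power endomorphism of `K[t, t⁻¹]`, `t ↦ tⁿ`. -/
noncomputable def powL (n : ℕ) : Laur K →ₐ[K] Laur K :=
  MonoidAlgebra.lift K (Laur K) (Multiplicative ℤ) ((MonoidAlgebra.of K (Multiplicative ℤ)).comp (powMonoidHom n))

lemma powL_tL (n : ℕ) : powL K n (tL K) = tL K ^ n := by
  simp [powL, tL, MonoidAlgebra.single_pow]

theorem faithfullyFlat_powL (n : ℕ) (hn : n ≠ 0) : ((powL K n : Laur K →ₐ[K] Laur K) : Laur K →+* Laur K).FaithfullyFlat := by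
  set ψ : Laur K →+* Laur K := ((powL K n : Laur K →ₐ[K] Laur K) : Laur K →+* Laur K) with hψ
  have hψC : ∀ k, ψ (MonoidAlgebra.single 1 k) = MonoidAlgebra.single 1 k := fun k => by
    have := (powL K n).commutes k
    simpa [ψ, MonoidAlgebra.coe_algebraMap] using this
  have hψt : ψ (tL K) = tL K ^ n := powL_tL K n
  let g : (Laur K)[X] := X ^ n - C (tL K)
  have hg : g.Monic := monic_X_pow_sub_C _ hn
  have hgd : g.natDegree ≠ 0 := by rw [natDegree_X_pow_sub_C]; exact hn
  have hff : (AdjoinRoot.of g).FaithfullyFlat := by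
    have := Groth.Agent.Lib.Seat27.MonicCover.faithfullyFlat g hg hgd
    exact (RingHom.faithfullyFlat_algebraMap_iff).mpr this
  have h0 : g.eval₂ ψ (tL K) = 0 := by
    simp only [g, eval₂_sub, eval₂_pow, eval₂_X, eval₂_C, hψt, sub_self]
  let σ : AdjoinRoot g →+* Laur K := AdjoinRoot.lift ψ (tL K) h0
  have hroot : AdjoinRoot.root g ^ n = AdjoinRoot.of g (tL K) := by
    have h1 := AdjoinRoot.eval₂_root g
    simp only [g, eval₂_sub, eval₂_pow, eval₂_X, eval₂_C] at h1
    exact sub_eq_zero.mp h1
  have hu : IsUnit (AdjoinRoot.root g) := by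
    rw [← isUnit_pow_iff hn, hroot]
    exact (isUnit_tL K).map _
  let χ : Multiplicative ℤ →* AdjoinRoot g := (Units.coeHom _).comp (zpowersHom _ hu.unit)
  have hχ : χ (Multiplicative.ofAdd 1) = AdjoinRoot.root g := by
    simp [χ]
  let τ : Laur K →+* AdjoinRoot g := (MonoidAlgebra.lift K (AdjoinRoot g) (Multiplicative ℤ) χ : Laur K →ₐ[K] AdjoinRoot g)
  have hτt : τ (tL K) = AdjoinRoot.root g := by
    simp [τ, tL, hχ]
  have hτC : ∀ k, τ (MonoidAlgebra.single 1 k) = AdjoinRoot.of g (MonoidAlgebra.single 1 k) := fun k => by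
    have := (MonoidAlgebra.lift K (AdjoinRoot g) (Multiplicative ℤ) χ).commutes k
    have h2 : algebraMap K (AdjoinRoot g) k = AdjoinRoot.of g (MonoidAlgebra.single 1 k) := by
      rw [IsScalarTower.algebraMap_apply K (Laur K) (AdjoinRoot g), MonoidAlgebra.coe_algebraMap]
      simp
    rw [← h2, ← this, MonoidAlgebra.coe_algebraMap]
    simp [τ]
  have hστ : σ.comp τ = RingHom.id _ := by
    apply laur_ringHom_ext
    · intro k
      simp only [RingHom.comp_apply, hτC, RingHom.id_apply, σ, AdjoinRoot.lift_of, hψC]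
    · simp only [RingHom.comp_apply, hτt, RingHom.id_apply, σ, AdjoinRoot.lift_root]
  have hτσ : τ.comp σ = RingHom.id _ := by
    apply AdjoinRoot.ringHom_ext
    · apply laur_ringHom_ext
      · intro k
        simp only [RingHom.comp_apply, RingHom.id_apply, σ, AdjoinRoot.lift_of, hψC, hτC]
      · simp only [RingHom.comp_apply, RingHom.id_apply, σ, AdjoinRoot.lift_of, hψt, map_pow, hτt, hroot]
    · simp only [RingHom.comp_apply, RingHom.id_apply, σ, AdjoinRoot.lift_root, hτt]
  have hbij : Function.Bijective σ := by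
    constructor
    · intro a b hab
      have := congrArg τ hab
      have e1 : ∀ x, τ (σ x) = x := fun x => congrArg (fun m : _ →+* _ => m x) hτσ
      rwa [e1, e1] at this
    · intro p
      exact ⟨τ p, congrArg (fun m : _ →+* _ => m p) hστ⟩
  have hcomp : ψ = σ.comp (AdjoinRoot.of g) := by
    apply RingHom.ext
    intro p
    simp [σ]
  rw [hcomp]
  exact RingHom.FaithfullyFlat.stableUnderComposition _ _ hff (RingHom.FaithfullyFlat.of_bijective hbij)

/-- a unit of a finite algebra over a field is a unit of the subalgebra it generates. -/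
theorem isUnit_in_adjoin {B : Type*} [CommRing B] [Algebra K B] [Module.Finite K B] (a : B) (ha : IsUnit a) :
    IsUnit (⟨a, Algebra.subset_adjoin (Set.mem_singleton a)⟩ : Algebra.adjoin K {a}) := by
  have : Module.Finite K (Algebra.adjoin K {a}) :=
    Module.Finite.of_injective (Algebra.adjoin K {a}).val.toLinearMap Subtype.val_injective
  have := IsArtinianRing.of_finite K (Algebra.adjoin K {a})
  apply IsArtinianRing.isUnit_of_mem_nonZeroDivisors
  rw [mem_nonZeroDivisors_iff_right]
  intro x hx
  have h1 : (x : B) * a = 0 := congrArg Subtype.val hx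
  exact Subtype.ext ((ha.mul_left_eq_zero).mp h1)

end FlatGm

section Additive

variable {K : Type u} [Field K]

/-- the bivariate polynomial `f(X + Y) - f(X) - f(Y)`. -/
noncomputable def addDefect (f : K[X]) : K[X][X] := taylor (X : K[X]) (f.map C) - C f - f.map C

lemma addDefect_eval₂ {R : Type*} [CommRing R] [Algebra K R] (f : K[X]) (x y : R) :
    (addDefect f).eval₂ ((aeval x : K[X] →ₐ[K] R) : K[X] →+* R) y =
      aeval (y + x) f - aeval x f - aeval y f := by
  have hc : ((aeval x : K[X] →ₐ[K] R) : K[X] →+* R).comp C = algebraMap K R := by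
    ext k; simp
  simp only [addDefect, eval₂_sub, taylor_apply, eval₂_comp, eval₂_add, eval₂_X, eval₂_C, eval₂_map, hc]
  simp [aeval_def]

lemma hasseDeriv_map_C (f : K[X]) (n : ℕ) :
    (hasseDeriv n (f.map (C : K →+* K[X]))).eval X = hasseDeriv n f := by
  have h1 : hasseDeriv n (f.map (C : K →+* K[X])) = (hasseDeriv n f).map C := by
    ext m k
    simp only [hasseDeriv_coeff, coeff_map]
    rw [← map_natCast (C : K →+* K[X]), ← map_mul]
  rw [h1, eval_map, eval₂_C_X]

lemma addDefect_coeff (f : K[X]) (n : ℕ) :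
    (addDefect f).coeff n = hasseDeriv n f - (if n = 0 then f else 0) - C (f.coeff n) := by
  simp only [addDefect, coeff_sub, taylor_coeff, hasseDeriv_map_C, coeff_C, coeff_map]


variable {B : Type u} [CommRing B] [Algebra K B] [Nontrivial B]

theorem additive_of_tensor (pb : PowerBasis K B)
    (h : aeval (pb.gen ⊗ₜ[K] (1 : B) + (1 : B) ⊗ₜ[K] pb.gen) (minpoly K pb.gen) = 0) :
    addDefect (minpoly K pb.gen) = 0 := by
  set f := minpoly K pb.gen with hf
  set a := pb.gen with ha
  set d := pb.dim with hd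
  have hmonic : f.Monic := minpoly.monic pb.isIntegral_gen
  have hdeg : f.natDegree = d := pb.natDegree_minpoly
  have hdpos : 0 < d := pb.dim_pos
  -- degree in `Y`
  have hcY : ∀ n, d ≤ n → (addDefect f).coeff n = 0 := by
    intro n hn
    rw [addDefect_coeff, if_neg (by omega)]
    rcases Nat.eq_or_lt_of_le hn with h1 | h1
    · rw [← h1, ← hdeg, hasseDeriv_natDegree_eq_C, hmonic.leadingCoeff, hmonic.coeff_natDegree]
      simp
    · rw [hasseDeriv_eq_zero_of_lt_natDegree _ _ (by omega),
        coeff_eq_zero_of_natDegree_lt (by omega)]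
      simp
  have hY : (addDefect f).natDegree < d := by
    by_cases h0 : addDefect f = 0
    · rw [h0, natDegree_zero]; exact hdpos
    · rw [natDegree_lt_iff_degree_lt h0, degree_lt_iff_coeff_zero]
      exact hcY
  -- degree in `X` of the coefficients
  have hX : ∀ n, ((addDefect f).coeff n).natDegree < d := by
    intro n
    rw [addDefect_coeff]
    by_cases hn : n = 0
    · subst hn
      rw [if_pos rfl, hasseDeriv_zero', sub_self, zero_sub, natDegree_neg, natDegree_C]
      exact hdpos
    · rw [if_neg hn, sub_zero]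
      refine lt_of_le_of_lt (natDegree_sub_le _ _) ?_
      rw [natDegree_C, max_lt_iff]
      refine ⟨lt_of_le_of_lt (natDegree_hasseDeriv_le _ _) ?_, hdpos⟩
      omega
  -- evaluation in the tensor square
  have hcoef : ∀ n, n < d → aeval a ((addDefect f).coeff n) = 0 := by
    let bT : Module.Basis (Fin d) B (B ⊗[K] B) := Algebra.TensorProduct.basis B pb.basis
    have hx : aeval (a ⊗ₜ[K] (1 : B)) f = 0 := by
      have h1 : a ⊗ₜ[K] (1 : B) = algebraMap B (B ⊗[K] B) a := by
        rw [Algebra.TensorProduct.algebraMap_apply]; rfl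
      rw [h1, aeval_algebraMap_apply, minpoly.aeval, map_zero]
    have hy : aeval ((1 : B) ⊗ₜ[K] a) f = 0 := by
      have h1 : (1 : B) ⊗ₜ[K] a = (Algebra.TensorProduct.includeRight : B →ₐ[K] B ⊗[K] B) a := rfl
      rw [h1, aeval_algHom_apply, minpoly.aeval, map_zero]
    have h2 := addDefect_eval₂ f (a ⊗ₜ[K] (1 : B)) ((1 : B) ⊗ₜ[K] a)
    rw [add_comm, h, hx, hy, sub_zero, sub_zero, eval₂_eq_sum_range' _ hY, Finset.sum_range] at h2
    have hsum : ∑ i : Fin d, (aeval a ((addDefect f).coeff i)) • bT i = 0 := by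
      rw [← h2]
      refine Finset.sum_congr rfl fun i _ => ?_
      have h1 : a ⊗ₜ[K] (1 : B) = algebraMap B (B ⊗[K] B) a := by
        rw [Algebra.TensorProduct.algebraMap_apply]; rfl
      rw [Algebra.TensorProduct.basis_apply, pb.basis_eq_pow, Algebra.TensorProduct.tmul_pow, one_pow]
      change _ = aeval (a ⊗ₜ[K] (1 : B)) _ * _
      rw [h1, aeval_algebraMap_apply, Algebra.smul_def]
    intro n hn
    exact Fintype.linearIndependent_iff.mp bT.linearIndependent _ hsum ⟨n, hn⟩
  have hzero : ∀ n, (addDefect f).coeff n = 0 := by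
    intro n
    by_cases hn : n < d
    · by_contra hne
      have := pb.dim_le_natDegree_of_root hne (hcoef n hn)
      exact absurd (hX n) (not_lt.mpr this)
    · exact coeff_eq_zero_of_natDegree_lt (lt_of_lt_of_le hY (not_lt.mp hn))
  ext n : 1
  rw [hzero n, coeff_zero]

/-- if the zero locus of the minimal polynomial of a generator is closed under addition (in the universal case, the
tensor square), then the minimal polynomial is additive. -/
theorem aeval_add_of_tensor (pb : PowerBasis K B)
    (h : aeval (pb.gen ⊗ₜ[K] (1 : B) + (1 : B) ⊗ₜ[K] pb.gen) (minpoly K pb.gen) = 0)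
    {R : Type*} [CommRing R] [Algebra K R] (x y : R) :
    aeval (x + y) (minpoly K pb.gen) = aeval x (minpoly K pb.gen) + aeval y (minpoly K pb.gen) := by
  have h1 := addDefect_eval₂ (minpoly K pb.gen) y x
  rw [additive_of_tensor pb h, eval₂_zero] at h1
  have h2 := sub_eq_zero.mp h1.symm
  have h3 := sub_eq_iff_eq_add.mp h2
  rw [h3, add_comm]

end Additive

section Mult

variable {K : Type u} [Field K] {B : Type u} [CommRing B] [Algebra K B] [Nontrivial B]

theorem minpoly_eq_of_tensor (pb : PowerBasis K B) (hu : IsUnit pb.gen)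
    (h : aeval (pb.gen ⊗ₜ[K] pb.gen) (minpoly K pb.gen) = 0) :
    minpoly K pb.gen = X ^ pb.dim - 1 := by
  set f := minpoly K pb.gen with hf
  set a := pb.gen with ha
  set d := pb.dim with hd
  have hmonic : f.Monic := minpoly.monic pb.isIntegral_gen
  have hdeg : f.natDegree = d := pb.natDegree_minpoly
  have hdpos : 0 < d := pb.dim_pos
  let bT : Module.Basis (Fin d) B (B ⊗[K] B) := Algebra.TensorProduct.basis B pb.basis
  have hy : aeval ((1 : B) ⊗ₜ[K] a) f = 0 := by
    have h1 : (1 : B) ⊗ₜ[K] a = (Algebra.TensorProduct.includeRight : B →ₐ[K] B ⊗[K] B) a := rfl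
    rw [h1, aeval_algHom_apply, minpoly.aeval, map_zero]
  have key : ∑ i : Fin d, (f.coeff i • (a ^ (i : ℕ) - a ^ d)) • bT i = 0 := by
    have e0 : aeval (a ⊗ₜ[K] a) f - ((a ^ d) ⊗ₜ[K] (1 : B)) * aeval ((1 : B) ⊗ₜ[K] a) f = 0 := by
      rw [h, hy]; simp
    rw [aeval_eq_sum_range, aeval_eq_sum_range, hdeg, Finset.mul_sum, ← Finset.sum_sub_distrib,
      Finset.sum_range_succ, Finset.sum_range] at e0
    have hlast : f.coeff d • (a ⊗ₜ[K] a) ^ d - ((a ^ d) ⊗ₜ[K] (1 : B)) * f.coeff d • ((1 : B) ⊗ₜ[K] a) ^ d = 0 := by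
      simp only [Algebra.TensorProduct.tmul_pow, one_pow, mul_smul_comm, Algebra.TensorProduct.tmul_mul_tmul,
        _root_.mul_one, _root_.one_mul, sub_self]
    rw [hlast, add_zero] at e0
    rw [← e0]
    refine Finset.sum_congr rfl fun i _ => ?_
    rw [Algebra.TensorProduct.basis_apply, pb.basis_eq_pow]
    simp only [Algebra.TensorProduct.tmul_pow, one_pow, mul_smul_comm, Algebra.TensorProduct.tmul_mul_tmul,
        _root_.mul_one, _root_.one_mul]
    rw [TensorProduct.smul_tmul', smul_eq_mul, _root_.mul_one, ← smul_sub, ← TensorProduct.sub_tmul,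
      TensorProduct.smul_tmul']
  have hcoef : ∀ k, k < d → f.coeff k • (a ^ k - a ^ d) = 0 := fun k hk =>
    Fintype.linearIndependent_iff.mp bT.linearIndependent _ key ⟨k, hk⟩
  have hcoef' : ∀ k, k < d → f.coeff k • (1 - a ^ (d - k)) = 0 := by
    intro k hk
    have h1 := hcoef k hk
    have h2 : a ^ k - a ^ d = a ^ k * (1 - a ^ (d - k)) := by
      rw [mul_sub, _root_.mul_one, ← pow_add, Nat.add_sub_cancel' hk.le]
    rw [h2, ← mul_smul_comm] at h1
    exact (IsUnit.mul_right_eq_zero (hu.pow k)).mp h1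
  have hmid : ∀ k, 0 < k → k < d → f.coeff k = 0 := by
    intro k hk0 hk
    by_contra hne
    let q : K[X] := C (f.coeff k) * (1 - X ^ (d - k))
    have hq : aeval a q = 0 := by
      simp only [q, map_mul, aeval_C, map_sub, map_one, map_pow, aeval_X]
      rw [← Algebra.smul_def]
      exact hcoef' k hk
    have hq0 : q ≠ 0 := by
      intro h0
      have h1 := congrArg (fun p => p.coeff 0) h0
      simp only [q, coeff_C_mul, coeff_sub, coeff_one_zero, coeff_X_pow, coeff_zero] at h1
      rw [if_neg (by omega), sub_zero, _root_.mul_one] at h1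
      exact hne h1
    have hqd : q.natDegree < d := by
      refine lt_of_le_of_lt (natDegree_C_mul_le _ _) ?_
      refine lt_of_le_of_lt (natDegree_sub_le _ _) ?_
      rw [natDegree_one, natDegree_X_pow]
      simp only [zero_le, sup_of_le_right]
      omega
    exact absurd (pb.dim_le_natDegree_of_root hq0 hq) (not_le.mpr hqd)
  have hfeq : f = X ^ d + C (f.coeff 0) := by
    ext n
    simp only [coeff_add, coeff_X_pow, coeff_C]
    rcases lt_trichotomy n d with h1 | h1 | h1
    · by_cases hn0 : n = 0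
      · subst hn0
        rw [if_neg (by omega), if_pos rfl, zero_add]
      · rw [hmid n (Nat.pos_of_ne_zero hn0) h1, if_neg (by omega), if_neg hn0, add_zero]
    · subst h1
      rw [if_pos rfl, if_neg (by omega), add_zero, ← hdeg, hmonic.coeff_natDegree]
    · rw [coeff_eq_zero_of_natDegree_lt (by omega), if_neg (by omega), if_neg (by omega), add_zero]
  have had : a ^ d = - algebraMap K B (f.coeff 0) := by
    have h1 := minpoly.aeval K a
    rw [← hf, hfeq] at h1
    simp only [map_add, map_pow, aeval_X, aeval_C] at h1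
    exact eq_neg_of_add_eq_zero_left h1
  have h0 := hcoef' 0 hdpos
  rw [Nat.sub_zero, had, sub_neg_eq_add, Algebra.smul_def, ← map_one (algebraMap K B), ← map_add,
    ← map_mul] at h0
  have hinj := (algebraMap K B).injective
  have h1 : f.coeff 0 * (1 + f.coeff 0) = 0 := hinj (by rw [h0, map_zero])
  rcases mul_eq_zero.mp h1 with h2 | h2
  · exfalso
    rw [h2, map_zero, neg_zero] at had
    exact (hu.pow d).ne_zero had
  · have h3 : f.coeff 0 = -1 := by linear_combination h2
    rw [hfeq, h3]
    simp [sub_eq_add_neg]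

end Mult

end Groth.Agent.Lib.Seat19.GaGmAlg
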