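import Mathlib.Tactic
import Mathlib.LinearAlgebra.Lagrange
import Mathlib.FieldTheory.Finite.Basic

set_option autoImplicit false
universe u

open Polynomial

/-!
# Algebra behind the Artin–Schreier sequence (seat 27)

For a commutative ring `R` with `p = 0`, `psi : ZMod p →+* R`; for `a : R` with `a ^ p = a` the elements
`idem ψ a m = ∏_{m' ≠ m} (a - ψ m')` are pairwise orthogonal, generate the unit ideal, and `(a - ψ m) * idem ψ a m = 0`
(so `R` splits as the product of the loci `a = m`).
-/

namespace Groth.Agent.Lib.Seat27.ASAlg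

variable (p : ℕ) [Fact p.Prime]

theorem prod_X_sub_C : ∏ m : ZMod p, (X - C m) = (X ^ p - X : (ZMod p)[X]) := by
  have hq : Fintype.card (ZMod p) = p := ZMod.card p
  have hp1 : 1 < p := (Fact.out : p.Prime).one_lt
  have hmonic : (X ^ p - X : (ZMod p)[X]).Monic := by
    apply monic_X_pow_sub
    simpa using hp1
  have hdeg : (X ^ p - X : (ZMod p)[X]).natDegree = p :=
    FiniteField.X_pow_card_sub_X_natDegree_eq _ hp1
  have hroots : (X ^ p - X : (ZMod p)[X]).roots = Finset.univ.val := by
    have := FiniteField.roots_X_pow_card_sub_X (ZMod p)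
    rwa [hq] at this
  have := prod_multiset_X_sub_C_of_monic_of_roots_card_eq hmonic (by rw [hroots, hdeg]; simp)
  rw [hroots] at this
  rw [← this]
  rfl

/-- the ring homomorphism `𝔽_p → R` when `p = 0` in `R`. -/
noncomputable def psi (R : Type u) [CommRing R] (h : (p : R) = 0) : ZMod p →+* R :=
  ZMod.castHom (ringChar.dvd h) R

variable {p} {R : Type u} [CommRing R] (ψ : ZMod p →+* R) (a : R)

theorem pow_card_psi (m : ZMod p) : ψ m ^ p = ψ m := by
  rw [← map_pow, ZMod.pow_card]

theorem isUnit_psi {m : ZMod p} (hm : m ≠ 0) : IsUnit (ψ m) :=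
  (IsUnit.mk0 m hm).map ψ

theorem add_pow_of_natCast_eq_zero (h : (p : R) = 0) (x y : R) : (x + y) ^ p = x ^ p + y ^ p := by
  rw [add_pow_prime_eq (Fact.out : p.Prime), h]
  ring

/-- `∏_m (a - ψ m) = a^p - a`. -/
theorem prod_sub : ∏ m : ZMod p, (a - ψ m) = a ^ p - a := by
  have h := congrArg (Polynomial.eval₂ ψ a) (prod_X_sub_C p)
  simpa [eval₂_finsetProd] using h

/-- the product of the `a - ψ m'` over `m' ≠ m`. -/
noncomputable def idem (m : ZMod p) : R := ∏ m' ∈ Finset.univ.erase m, (a - ψ m')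

theorem sub_mul_idem (m : ZMod p) : (a - ψ m) * idem ψ a m = a ^ p - a := by
  unfold idem
  rw [Finset.mul_prod_erase Finset.univ (fun k => a - ψ k) (Finset.mem_univ m), prod_sub]

theorem idem_mul_idem (ha : a ^ p = a) {m m' : ZMod p} (h : m ≠ m') : idem ψ a m * idem ψ a m' = 0 := by
  have h1 : idem ψ a m' = (a - ψ m) * ∏ k ∈ (Finset.univ.erase m').erase m, (a - ψ k) := by
    unfold idem
    rw [Finset.mul_prod_erase (Finset.univ.erase m') (fun k => a - ψ k) (by simp [h] : m ∈ Finset.univ.erase m')]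
  rw [h1, ← mul_assoc, mul_comm (idem ψ a m), sub_mul_idem, ha, sub_self, zero_mul]

theorem span_idem : Ideal.span (Set.range (idem ψ a)) = ⊤ := by
  rw [Ideal.eq_top_iff_one]
  have hL := Lagrange.sum_basis (s := (Finset.univ : Finset (ZMod p))) (v := fun m => m)
    (fun _ _ _ _ h => h) Finset.univ_nonempty
  have h := congrArg (Polynomial.eval₂ ψ a) hL
  rw [eval₂_finsetSum, eval₂_one] at h
  rw [← h]
  refine Ideal.sum_mem _ fun m _ => ?_
  unfold Lagrange.basis Lagrange.basisDivisor
  rw [eval₂_finsetProd]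
  simp only [eval₂_mul, eval₂_C, eval₂_sub, eval₂_X]
  rw [Finset.prod_mul_distrib]
  exact Ideal.mul_mem_left _ _ (Ideal.subset_span ⟨m, rfl⟩)

end Groth.Agent.Lib.Seat27.ASAlg
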