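import Mathlib.Tactic
import Groth.Prelude.Def_TwC

/-!
# Points of the constant scheme `M_S` (seat 27)

`TwC.const S M` is the disjoint union of copies of `S` indexed by `M`.

* `ovOpen T W`, `ovι T W`: an open `W` of an `S`-scheme `T` as an object of `Over S` with its inclusion.
* `over_hom_ext_of_cover`: morphisms of `S`-schemes agree if they agree on a neighbourhood of each point.
* `const_hom_ext`: morphisms out of `M_S` agree if they agree on each `S`-point `pt m`.
* `exists_nhd_factor`: a `T`-point of `M_S` is, near each point of `T`, the constant point `pt m` for some `m`.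
* `exists_glue`: a disjoint open cover `(V m)` of `T` indexed by `M` defines the `T`-point of `M_S` which is
  `pt m` on `V m`.
-/

set_option autoImplicit false
universe u v

open CategoryTheory MonoidalCategory CartesianMonoidalCategory AlgebraicGeometry CategoryTheory.Limits

namespace Groth.Agent.Lib.Seat27.ConstPoints

variable {S : Scheme.{u}}

/-- an open of an `S`-scheme, as an `S`-scheme. -/
noncomputable abbrev ovOpen (T : Over S) (W : T.left.Opens) : Over S := Over.mk (W.ι ≫ T.hom)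

/-- the inclusion of an open of an `S`-scheme, as a morphism of `S`-schemes. -/
noncomputable abbrev ovι (T : Over S) (W : T.left.Opens) : ovOpen T W ⟶ T := Over.homMk W.ι rfl

theorem over_hom_ext_of_cover {T X : Over S} (f g : T ⟶ X)
    (h : ∀ t : T.left, ∃ W : T.left.Opens, t ∈ W ∧ ovι T W ≫ f = ovι T W ≫ g) : f = g := by
  choose W hW h' using h
  apply Over.OverMorphism.ext
  have hcov : TopologicalSpace.IsOpenCover W := by
    apply TopologicalSpace.IsOpenCover.mk
    rw [eq_top_iff]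
    intro t _
    exact TopologicalSpace.Opens.mem_iSup.mpr ⟨t, hW t⟩
  refine (T.left.openCoverOfIsOpenCover W hcov).hom_ext _ _ fun t => ?_
  have := congrArg Over.Hom.left (h' t)
  rw [Over.comp_left, Over.comp_left] at this
  exact this

section Const

variable {M : Type v} [Small.{u} M]

theorem const_hom_ext {X : Over S} (f g : TwC.const S M ⟶ X)
    (h : ∀ m, TwC.pt S M m ≫ f = TwC.pt S M m ≫ g) : f = g := by
  apply Over.OverMorphism.ext
  apply Sigma.hom_ext
  intro m
  have := congrArg Over.Hom.left (h m)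
  simpa [TwC.pt] using this

lemma pt_left (m : M) : (TwC.pt S M m).left = Sigma.ι (fun _ : M => S) m := rfl

lemma ι_const_hom (m : M) : Sigma.ι (fun _ : M => S) m ≫ (TwC.const S M).hom = 𝟙 S := by
  simp

theorem exists_nhd_factor {T : Over S} (ζ : T ⟶ TwC.const S M) (t : T.left) :
    ∃ (m : M) (W : T.left.Opens), t ∈ W ∧ ovι T W ≫ ζ = toUnit _ ≫ TwC.pt S M m := by
  obtain ⟨m, y, hy⟩ := (sigmaOpenCover (fun _ : M => S)).exists_eq (ζ.left t)
  change (Sigma.ι (fun _ : M => S) m) y = ζ.left t at hy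
  let O : (∐ fun _ : M => S).Opens := (Sigma.ι (fun _ : M => S) m).opensRange
  let W : T.left.Opens := ζ.left ⁻¹ᵁ O
  have htW : t ∈ W := by
    change ζ.left t ∈ O
    exact ⟨y, hy⟩
  refine ⟨m, W, htW, ?_⟩
  have hrange : Set.range (W.ι ≫ ζ.left) ⊆ Set.range (Sigma.ι (fun _ : M => S) m) := by
    rintro _ ⟨w, rfl⟩
    have hw : (W.ι w) ∈ W := w.2
    exact hw
  let l : (W : Scheme.{u}) ⟶ S := IsOpenImmersion.lift (Sigma.ι (fun _ : M => S) m) (W.ι ≫ ζ.left) hrange
  have hl : l ≫ Sigma.ι (fun _ : M => S) m = W.ι ≫ ζ.left := IsOpenImmersion.lift_fac _ _ _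
  have hl2 : l = W.ι ≫ T.hom := by
    have h1 : l = (l ≫ Sigma.ι (fun _ : M => S) m) ≫ (TwC.const S M).hom := by
      rw [Category.assoc, ι_const_hom, Category.comp_id]
    rw [h1, hl, Category.assoc, Over.w ζ]
  apply Over.OverMorphism.ext
  rw [Over.comp_left, Over.comp_left, pt_left]
  change W.ι ≫ ζ.left = (toUnit (ovOpen T W)).left ≫ _
  have h3 : (toUnit (ovOpen T W)).left = W.ι ≫ T.hom := by
    simp
  rw [h3, ← hl2, hl]

theorem exists_glue {T : Over S} (V : M → T.left.Opens) (hV : ⨆ m, V m = ⊤)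
    (hdisj : ∀ m m', m ≠ m' → V m ⊓ V m' = ⊥) :
    ∃ ζ : T ⟶ TwC.const S M, ∀ m, ovι T (V m) ≫ ζ = toUnit _ ≫ TwC.pt S M m := by
  let 𝒰 : T.left.OpenCover := T.left.openCoverOfIsOpenCover V (TopologicalSpace.IsOpenCover.mk hV)
  let fm : ∀ m : M, ((V m : T.left.Opens) : Scheme.{u}) ⟶ (TwC.const S M).left := fun m =>
    ((V m).ι ≫ T.hom) ≫ Sigma.ι (fun _ : M => S) m
  have hcompat : ∀ m m' : M, pullback.fst (𝒰.f m) (𝒰.f m') ≫ fm m =
      pullback.snd (𝒰.f m) (𝒰.f m') ≫ fm m' := by
    intro m m'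
    by_cases h : m = m'
    · subst h
      change pullback.fst (V m).ι (V m).ι ≫ ((V m).ι ≫ T.hom) ≫ _ =
        pullback.snd (V m).ι (V m).ι ≫ ((V m).ι ≫ T.hom) ≫ _
      rw [← Category.assoc, ← Category.assoc, ← Category.assoc, ← Category.assoc,
        pullback.condition]
    · have hempty : IsEmpty ↑(pullback (𝒰.f m) (𝒰.f m')) := by
        refine ⟨fun z => ?_⟩
        have h1 : (pullback.fst (𝒰.f m) (𝒰.f m') ≫ 𝒰.f m) z ∈ V m := by
          rw [Scheme.Hom.comp_apply]
          exact ((pullback.fst (𝒰.f m) (𝒰.f m')) z).2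
        have h2 : (pullback.fst (𝒰.f m) (𝒰.f m') ≫ 𝒰.f m) z ∈ V m' := by
          rw [pullback.condition, Scheme.Hom.comp_apply]
          exact ((pullback.snd (𝒰.f m) (𝒰.f m')) z).2
        have h3 : (pullback.fst (𝒰.f m) (𝒰.f m') ≫ 𝒰.f m) z ∈ V m ⊓ V m' := ⟨h1, h2⟩
        rw [hdisj m m' h] at h3
        exact h3
      exact (isInitialOfIsEmpty (X := pullback (𝒰.f m) (𝒰.f m'))).hom_ext _ _
  let z : T.left ⟶ (TwC.const S M).left := 𝒰.glueMorphisms fm hcompat
  have hz : ∀ m, (V m).ι ≫ z = fm m := fun m => 𝒰.ι_glueMorphisms fm hcompat m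
  have hw : z ≫ (TwC.const S M).hom = T.hom := by
    refine 𝒰.hom_ext _ _ fun m => ?_
    change (V m).ι ≫ z ≫ _ = (V m).ι ≫ T.hom
    rw [← Category.assoc, hz]
    change (((V m).ι ≫ T.hom) ≫ Sigma.ι (fun _ : M => S) m) ≫ _ = _
    rw [Category.assoc, ι_const_hom, Category.comp_id]
  refine ⟨Over.homMk z hw, fun m => ?_⟩
  apply Over.OverMorphism.ext
  rw [Over.comp_left, Over.comp_left, pt_left]
  change (V m).ι ≫ z = (toUnit (ovOpen T (V m))).left ≫ _
  have h3 : (toUnit (ovOpen T (V m))).left = (V m).ι ≫ T.hom := by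
    simp
  rw [h3, hz]

end Const

end Groth.Agent.Lib.Seat27.ConstPoints
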