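import Mathlib.Tactic
import Groth.Prelude.Def_NonAbH2

/-!
# Exact sequences of group objects from a kernel and a covering with a section (seat 27)

`isPullback_of_kernel`: in a cartesian monoidal category, if `u : G' ⟶ G` is a monomorphism of group objects
through which every point of `G` killed by the homomorphism `v : G ⟶ G''` factors, then the square
`(fst, (g, g') ↦ g u(g'), v, v)` is cartesian (the pseudo-torsor clause of `NonAbH1.IsExactSeq`).

`isExactSeq_of_kernel_of_cover`: the resulting criterion for `NonAbH1.IsExactSeq K u v`: `u` a monic kernel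
of `v` on points, and a single `K`-covering morphism `p : Y ⟶ G''.left` together with a lift of `p` through `v`.
-/

set_option autoImplicit false
universe u v₁ u₁

open CategoryTheory MonoidalCategory CartesianMonoidalCategory MonObj GrpObj AlgebraicGeometry CategoryTheory.Limits

namespace Groth.Agent.Lib.Seat27.ExactSeq

section General

variable {C : Type u₁} [Category.{v₁} C] [CartesianMonoidalCategory C]
variable {G' G G'' : C} [GrpObj G'] [GrpObj G] [GrpObj G'']

omit [GrpObj G'] in
/-- right translation through `u` on points: `(G ◁ u) ≫ μ = fst * (snd ≫ u)`. -/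
lemma whiskerLeft_mul_eq (u : G' ⟶ G) :
    (G ◁ u) ≫ μ[G] = fst G G' * (snd G G' ≫ u) := by
  rw [Hom.mul_def]
  congr 1
  apply CartesianMonoidalCategory.hom_ext <;> simp

omit [GrpObj G'] in
lemma comp_whiskerLeft_mul {T : C} (u : G' ⟶ G) (m : T ⟶ G ⊗ G') :
    m ≫ (G ◁ u) ≫ μ[G] = (m ≫ fst G G') * (m ≫ snd G G' ≫ u) := by
  rw [whiskerLeft_mul_eq, MonObj.comp_mul]

omit [GrpObj G'] in
theorem isPullback_of_kernel (u : G' ⟶ G) (v : G ⟶ G'') [IsMonHom v] [Mono u]
    (huv : u ≫ v = 1)
    (hker : ∀ (T : C) (z : T ⟶ G), z ≫ v = 1 → ∃ ζ : T ⟶ G', ζ ≫ u = z) :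
    IsPullback (fst G G') ((G ◁ u) ≫ μ[G]) v v := by
  have w : fst G G' ≫ v = ((G ◁ u) ≫ μ[G]) ≫ v := by
    rw [whiskerLeft_mul_eq, MonObj.mul_comp, Category.assoc, huv, MonObj.comp_one, _root_.mul_one]
  have key : ∀ (T : C) (a b : T ⟶ G), a ≫ v = b ≫ v → ∃ ζ : T ⟶ G', ζ ≫ u = a⁻¹ * b := by
    intro T a b hab
    apply hker
    rw [MonObj.mul_comp, GrpObj.inv_comp, hab, inv_mul_cancel]
  refine ⟨⟨w⟩, ⟨PullbackCone.IsLimit.mk w
    (fun s => lift s.fst (Classical.choose (key _ s.fst s.snd s.condition))) ?_ ?_ ?_⟩⟩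
  · intro s
    simp
  · intro s
    have h := Classical.choose_spec (key _ s.fst s.snd s.condition)
    rw [comp_whiskerLeft_mul, lift_fst, lift_snd_assoc, h, mul_inv_cancel_left]
  · intro s m hm1 hm2
    have h := Classical.choose_spec (key _ s.fst s.snd s.condition)
    rw [comp_whiskerLeft_mul, hm1] at hm2
    have h3 : m ≫ snd G G' ≫ u = s.fst⁻¹ * s.snd := by
      rw [← hm2, inv_mul_cancel_left]
    apply CartesianMonoidalCategory.hom_ext
    · rw [lift_fst, hm1]
    · rw [lift_snd, ← cancel_mono u, Category.assoc, h3, h]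

end General

section Schemes

variable {S : Scheme.{u}} {G' G G'' : Over S} [GrpObj G'] [GrpObj G] [GrpObj G'']

/-- A single covering morphism through which `v` acquires a section gives local triviality. -/
theorem isLocallyTrivialFor_of_singleton (K : Precoverage Scheme.{u}) {B : Scheme.{u}} (X : Over B)
    {Y : Scheme.{u}} (p : Y ⟶ B) (hp : Presieve.singleton p ∈ K B)
    (s : Y ⟶ X.left) (hs : s ≫ X.hom = p) : NonAbH1.IsLocallyTrivialFor K X := by
  refine ⟨Presieve.singleton p, hp, ?_⟩
  intro S' f hf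
  cases hf
  exact ⟨s, hs⟩

theorem isExactSeq_of_kernel_of_cover (K : Precoverage Scheme.{u})
    (u : G' ⟶ G) (v : G ⟶ G'') [IsMonHom u] [IsMonHom v] [Mono u]
    (huv : u ≫ v = 1)
    (hker : ∀ (T : Over S) (z : T ⟶ G), z ≫ v = 1 → ∃ ζ : T ⟶ G', ζ ≫ u = z)
    {Y : Scheme.{u}} (p : Y ⟶ G''.left) (hp : Presieve.singleton p ∈ K G''.left)
    (s : Y ⟶ G.left) (hs : s ≫ v.left = p) :
    NonAbH1.IsExactSeq K u v :=
  ⟨inferInstance, inferInstance, huv, isPullback_of_kernel u v huv hker,
    isLocallyTrivialFor_of_singleton K (Over.mk v.left) p hp s hs⟩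

end Schemes

end Groth.Agent.Lib.Seat27.ExactSeq
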