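import Mathlib.Tactic
import Groth.Prelude.Def_NonAbH2
import Groth.Prelude.Def_Red2
import Groth.Prelude.Def_TwC
import Groth.Agent.Lib.Helper27GaGm
import Groth.Agent.Lib.Seat27ExactSeq
import Groth.Agent.Lib.Seat27MonicCover
import Groth.Agent.Lib.Seat27ConstPoints
import Groth.Agent.Lib.Seat27ASAlg

/-!
# The Artin–Schreier sequence `1 → (ℤ/p)_S → 𝔾_a → 𝔾_a → 1` is exact for the fppf topology (seat 27)
-/

set_option autoImplicit false
universe u

open CategoryTheory MonoidalCategory CartesianMonoidalCategory MonObj GrpObj AlgebraicGeometry CategoryTheory.Limits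
open Polynomial
open Groth.Agent.Lib.Helper27.GaGm Groth.Agent.Lib.Seat27.ConstPoints Groth.Agent.Lib.Seat27.ASAlg

namespace Groth.Agent.Lib.Seat27.ArtinSchreier

section General

/-- a morphism of monoid objects in a cartesian monoidal category is a homomorphism as soon as it is one on points. -/
theorem isMonHom_of_points {C : Type*} [Category C] [CartesianMonoidalCategory C] {G H : C} [MonObj G] [MonObj H]
    (f : G ⟶ H) (h1 : (1 : 𝟙_ C ⟶ G) ≫ f = 1)
    (hmul : (fst G G * snd G G) ≫ f = (fst G G ≫ f) * (snd G G ≫ f)) : IsMonHom f where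
  one_hom := by
    rw [MonObj.one_eq_one, h1, MonObj.one_eq_one]
  mul_hom := by
    rw [MonObj.mul_eq_mul, hmul, Hom.mul_def (fst G G ≫ f)]
    congr 1
    apply CartesianMonoidalCategory.hom_ext <;> simp

theorem isEmpty_of_subsingleton_Γ (X : Scheme.{u}) [Subsingleton Γ(X, ⊤)] : IsEmpty X := by
  refine ⟨fun x => ?_⟩
  have h1 : X.basicOpen (1 : Γ(X, ⊤)) = ⊤ := X.basicOpen_one
  have h0 : X.basicOpen (0 : Γ(X, ⊤)) = ⊥ := X.basicOpen_zero ⊤
  rw [Subsingleton.elim (1 : Γ(X, ⊤)) 0, h0] at h1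
  have : x ∈ (⊤ : X.Opens) := trivial
  rw [← h1] at this
  exact this

theorem isUnit_of_basicOpen_eq_top {X : Scheme.{u}} (f : Γ(X, ⊤)) (h : X.basicOpen f = ⊤) : IsUnit f := by
  apply X.toRingedSpace.isUnit_of_isUnit_germ ⊤ f
  intro x hx
  have hx' : x ∈ X.basicOpen f := by rw [h]; trivial
  exact (X.mem_basicOpen f x hx).mp hx'

/-- restricted to its own basic open, a global function becomes a unit. -/
theorem isUnit_ι_appTop_basicOpen {X : Scheme.{u}} (f : Γ(X, ⊤)) :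
    IsUnit ((X.basicOpen f).ι.appTop f) := by
  apply isUnit_of_basicOpen_eq_top
  rw [← Scheme.preimage_basicOpen_top]
  exact (X.basicOpen f).ι_preimage_self

end General

variable (p : ℕ) [Fact p.Prime] {S : Scheme.{u}}

section CharP

variable {p}

omit [Fact p.Prime] in
lemma natCast_eq_zero_of_over (hp : (p : Γ(S, ⊤)) = 0) (T : Over S) : (p : Γ(T.left, ⊤)) = 0 := by
  have := congrArg T.hom.appTop.hom hp
  simpa using this

end CharP

section PMap

variable {p}
variable (F : Red.Ga S ⟶ Red.Ga S)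
  (hF : ∀ (T : Over S) (x : T ⟶ Red.Ga S), Red.gaFn (x ≫ F) = Red.gaFn x ^ p)

include hF in
omit [Fact p.Prime] in
lemma gaFn_comp_P {T : Over S} (x : T ⟶ Red.Ga S) :
    Red.gaFn (x ≫ (𝟙 (Red.Ga S) * F⁻¹)) = Red.gaFn x - Red.gaFn x ^ p := by
  rw [MonObj.comp_mul, GrpObj.comp_inv, Category.comp_id, gaFn_mul, gaFn_inv, hF]
  ring

include hF in
theorem isMonHom_P (hp : (p : Γ(S, ⊤)) = 0) : IsMonHom (𝟙 (Red.Ga S) * F⁻¹) := by
  have hp0 : p ≠ 0 := (Fact.out : p.Prime).ne_zero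
  apply isMonHom_of_points
  · apply gaFn_injective
    rw [gaFn_comp_P F hF, gaFn_one, zero_pow hp0, sub_zero]
  · apply gaFn_injective
    rw [gaFn_comp_P F hF, gaFn_mul, gaFn_mul, gaFn_comp_P F hF, gaFn_comp_P F hF,
      add_pow_of_natCast_eq_zero (natCast_eq_zero_of_over hp _)]
    ring

end PMap

section SPoints

variable {p}
variable {G' : Over S} [GrpObj G'] (e : G' ≅ TwC.const S (Multiplicative (ZMod p)))
  (he : TwC.IsConstGrp (Multiplicative (ZMod p)) G' e)
  (i : G' ⟶ Red.Ga S) [hmi : IsMonHom i]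
  (hi : Red.gaFn (TwC.pt S (Multiplicative (ZMod p)) (Multiplicative.ofAdd 1) ≫ e.inv ≫ i) = 1)

/-- the `S`-point of index `m` of the constant group `G'`. -/
noncomputable def sPt (m : Multiplicative (ZMod p)) : 𝟙_ (Over S) ⟶ G' :=
  TwC.pt S (Multiplicative (ZMod p)) m ≫ e.inv

include he in
lemma sPt_mul (m n : Multiplicative (ZMod p)) : sPt e m * sPt e n = sPt e (m * n) := he m n

include he in
lemma sPt_one : sPt e (1 : Multiplicative (ZMod p)) = 1 := by
  have h := sPt_mul e he 1 1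
  rw [_root_.mul_one] at h
  exact mul_left_cancel (a := sPt e 1) (by rw [h, _root_.mul_one])

include he hi hmi in
lemma gaFn_sPt_nat (k : ℕ) :
    Red.gaFn (sPt e (Multiplicative.ofAdd (k : ZMod p)) ≫ i) = (k : Γ((𝟙_ (Over S)).left, ⊤)) := by
  induction k with
  | zero =>
    rw [Nat.cast_zero, ofAdd_zero, sPt_one e he, MonObj.one_comp i, gaFn_one, Nat.cast_zero]
  | succ k ih =>
    have h1 : Multiplicative.ofAdd ((k + 1 : ℕ) : ZMod p) =
        Multiplicative.ofAdd (k : ZMod p) * Multiplicative.ofAdd (1 : ZMod p) := by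
      rw [← ofAdd_add, Nat.cast_succ]
    have h2 : Red.gaFn (sPt e (Multiplicative.ofAdd (1 : ZMod p)) ≫ i) = 1 := by
      unfold sPt
      rw [Category.assoc]
      exact hi
    rw [h1, ← sPt_mul e he, MonObj.mul_comp _ _ i, gaFn_mul, ih, Nat.cast_succ, h2]

include he hi hmi in
lemma gaFn_sPt (hp' : (p : Γ((𝟙_ (Over S)).left, ⊤)) = 0) (m : Multiplicative (ZMod p)) :
    Red.gaFn (sPt e m ≫ i) = psi p Γ((𝟙_ (Over S)).left, ⊤) hp' (Multiplicative.toAdd m) := by
  have hm : m = Multiplicative.ofAdd (((Multiplicative.toAdd m).val : ℕ) : ZMod p) := by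
    rw [ZMod.natCast_zmod_val]; rfl
  rw [hm, gaFn_sPt_nat e he i hi, toAdd_ofAdd, map_natCast]

include he hi hmi in
lemma gaFn_toUnit_sPt (hp : (p : Γ(S, ⊤)) = 0) (T : Over S) (m : Multiplicative (ZMod p)) :
    Red.gaFn (toUnit T ≫ sPt e m ≫ i) =
      psi p Γ(T.left, ⊤) (natCast_eq_zero_of_over hp T) (Multiplicative.toAdd m) := by
  rw [gaFn_comp, gaFn_sPt e he i hi (natCast_eq_zero_of_over hp _)]
  have : ((toUnit T).left.appTop.hom.comp (psi p Γ((𝟙_ (Over S)).left, ⊤)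
      (natCast_eq_zero_of_over hp _))) = psi p Γ(T.left, ⊤) (natCast_eq_zero_of_over hp T) :=
    Subsingleton.elim _ _
  exact congrArg (fun k : ZMod p →+* Γ(T.left, ⊤) => k (Multiplicative.toAdd m)) this

end SPoints

section Main

variable {p}
variable (F : Red.Ga S ⟶ Red.Ga S)
  (hF : ∀ (T : Over S) (x : T ⟶ Red.Ga S), Red.gaFn (x ≫ F) = Red.gaFn x ^ p)
variable {G' : Over S} [GrpObj G'] (e : G' ≅ TwC.const S (Multiplicative (ZMod p)))
  (he : TwC.IsConstGrp (Multiplicative (ZMod p)) G' e)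
  (i : G' ⟶ Red.Ga S) [hmi : IsMonHom i]
  (hi : Red.gaFn (TwC.pt S (Multiplicative (ZMod p)) (Multiplicative.ofAdd 1) ≫ e.inv ≫ i) = 1)

include he hi hmi hF in
theorem comp_P_eq_one (hp : (p : Γ(S, ⊤)) = 0) : i ≫ (𝟙 (Red.Ga S) * F⁻¹) = 1 := by
  rw [← cancel_epi e.inv]
  apply const_hom_ext
  intro m
  apply gaFn_injective
  have h1 : TwC.pt S _ m ≫ e.inv ≫ i ≫ (𝟙 (Red.Ga S) * F⁻¹) =
      (sPt e m ≫ i) ≫ (𝟙 (Red.Ga S) * F⁻¹) := by
    unfold sPt; simp only [Category.assoc]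
  rw [h1, gaFn_comp_P F hF, gaFn_sPt e he i hi (natCast_eq_zero_of_over hp _), pow_card_psi,
    sub_self, MonObj.comp_one, MonObj.comp_one, gaFn_one]

include he hi hmi in
theorem mono_i (hp : (p : Γ(S, ⊤)) = 0) : Mono i := by
  have key : ∀ (T : Over S) (c : T ⟶ G'), c ≫ i = 1 → c = 1 := by
    intro T c hc
    apply over_hom_ext_of_cover
    intro t
    obtain ⟨m, W, htW, hW⟩ := exists_nhd_factor (c ≫ e.hom) t
    refine ⟨W, htW, ?_⟩
    have h1 : ovι T W ≫ c = toUnit _ ≫ sPt e m := by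
      have := congrArg (· ≫ e.inv) hW
      simpa [sPt] using this
    have h2 : psi p Γ((ovOpen T W).left, ⊤) (natCast_eq_zero_of_over hp _)
        (Multiplicative.toAdd m) = 0 := by
      rw [← gaFn_toUnit_sPt e he i hi hp, ← Category.assoc, ← h1, Category.assoc, hc,
        MonObj.comp_one, gaFn_one]
    have hm : Multiplicative.toAdd m = 0 := by
      by_contra hne
      have hu := isUnit_psi (psi p Γ((ovOpen T W).left, ⊤) (natCast_eq_zero_of_over hp _)) hne
      rw [h2] at hu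
      have hsub : Subsingleton Γ((ovOpen T W).left, ⊤) :=
        subsingleton_of_zero_eq_one (isUnit_zero_iff.mp hu)
      have hemp := isEmpty_of_subsingleton_Γ (ovOpen T W).left
      exact hemp.false ⟨t, htW⟩
    have hm1 : m = 1 := by
      have : Multiplicative.ofAdd (Multiplicative.toAdd m) = Multiplicative.ofAdd 0 := by rw [hm]
      simpa using this
    rw [h1, hm1, sPt_one e he, MonObj.comp_one, MonObj.comp_one]
  constructor
  intro T a b hab
  have h1 : (a * b⁻¹) ≫ i = 1 := by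
    rw [MonObj.mul_comp _ _ i, GrpObj.inv_comp _ i, hab, mul_inv_cancel]
  exact mul_inv_eq_one.mp (key T _ h1)

include he hi hmi hF in
theorem kernel_P (hp : (p : Γ(S, ⊤)) = 0) (T : Over S) (z : T ⟶ Red.Ga S)
    (hz : z ≫ (𝟙 (Red.Ga S) * F⁻¹) = 1) : ∃ ζ : T ⟶ G', ζ ≫ i = z := by
  have ha : Red.gaFn z ^ p = Red.gaFn z := by
    have := congrArg Red.gaFn hz
    rw [gaFn_comp_P F hF, gaFn_one] at this
    exact (sub_eq_zero.mp this).symm
  let ψ := psi p Γ(T.left, ⊤) (natCast_eq_zero_of_over hp T)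
  let V : Multiplicative (ZMod p) → T.left.Opens := fun m =>
    T.left.basicOpen (idem ψ (Red.gaFn z) (Multiplicative.toAdd m))
  have hV : ⨆ m, V m = ⊤ := by
    have h := iSup_basicOpen_of_span_eq_top (X := T.left) ⊤ (Set.range (idem ψ (Red.gaFn z)))
      (span_idem ψ (Red.gaFn z))
    rw [eq_top_iff]
    intro t ht
    rw [← h] at ht
    simp only [TopologicalSpace.Opens.mem_iSup, Set.mem_range, exists_prop, exists_exists_eq_and] at ht
    obtain ⟨k, hk⟩ := ht
    exact TopologicalSpace.Opens.mem_iSup.mpr ⟨Multiplicative.ofAdd k, hk⟩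
  have hdisj : ∀ m m', m ≠ m' → V m ⊓ V m' = ⊥ := by
    intro m m' h
    have hne : Multiplicative.toAdd m ≠ Multiplicative.toAdd m' := fun h' =>
      h (Multiplicative.toAdd.injective h')
    change T.left.basicOpen _ ⊓ T.left.basicOpen _ = ⊥
    rw [← Scheme.basicOpen_mul, idem_mul_idem ψ (Red.gaFn z) ha hne, Scheme.basicOpen_zero]
  obtain ⟨ζ', hζ'⟩ := exists_glue V hV hdisj
  refine ⟨ζ' ≫ e.inv, ?_⟩
  apply over_hom_ext_of_cover
  intro t
  obtain ⟨m, hm⟩ : ∃ m, t ∈ V m := by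
    have : t ∈ ⨆ m, V m := by rw [hV]; trivial
    exact TopologicalSpace.Opens.mem_iSup.mp this
  refine ⟨V m, hm, ?_⟩
  apply gaFn_injective
  have h1 : ovι T (V m) ≫ (ζ' ≫ e.inv) ≫ i = toUnit _ ≫ sPt e m ≫ i := by
    rw [← Category.assoc, ← Category.assoc, hζ' m]
    simp [sPt]
  rw [h1, gaFn_toUnit_sPt e he i hi hp, gaFn_comp]
  change _ = (V m).ι.appTop (Red.gaFn z)
  have hunit := isUnit_ι_appTop_basicOpen (idem ψ (Red.gaFn z) (Multiplicative.toAdd m))
  have h0 : (V m).ι.appTop ((Red.gaFn z - ψ (Multiplicative.toAdd m)) *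
      idem ψ (Red.gaFn z) (Multiplicative.toAdd m)) = 0 := by
    rw [sub_mul_idem, ha, sub_self, map_zero]
  rw [map_mul] at h0
  have h3 := (hunit.mul_left_eq_zero).mp h0
  rw [map_sub, sub_eq_zero] at h3
  rw [h3]
  have : ((V m).ι.appTop.hom.comp ψ) =
      psi p Γ((ovOpen T (V m)).left, ⊤) (natCast_eq_zero_of_over hp _) := Subsingleton.elim _ _
  exact (congrArg (fun k : ZMod p →+* Γ((ovOpen T (V m)).left, ⊤) =>
    k (Multiplicative.toAdd m)) this).symm

end Main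

section Cover

/-- the coordinate ring of `𝔾_a` over `ℤ`. -/
abbrev AG : Type u := SymmetricAlgebra (ULift.{u} ℤ) (ULift.{u} ℤ)

/-- the coordinate `t`. -/
noncomputable abbrev tG : AG.{u} := SymmetricAlgebra.ι (ULift.{u} ℤ) (ULift.{u} ℤ) (ULift.up 1)

/-- the Artin–Schreier polynomial `X^p - X + t`. -/
noncomputable abbrev aspoly (p : ℕ) : (AG.{u})[X] := X ^ p - (X - C tG.{u})

lemma aspoly_monic (p : ℕ) (hp : 1 < p) : (aspoly.{u} p).Monic := by
  apply monic_X_pow_sub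
  rw [degree_X_sub_C]
  exact_mod_cast hp

lemma aspoly_natDegree (p : ℕ) (hp : 1 < p) : (aspoly.{u} p).natDegree ≠ 0 := by
  have h : (aspoly.{u} p).natDegree = p := by
    unfold aspoly
    rw [natDegree_sub_eq_left_of_natDegree_lt]
    · simp
    · rw [natDegree_X_sub_C, natDegree_X_pow]
      exact hp
  rw [h]
  omega

/-- the covering of `𝔾_{a,S}` extracting a root of `X^p - X + t`. -/
noncomputable abbrev ascover (p : ℕ) :
    pullback (pullback.fst Red.GaZ.hom (Limits.IsTerminal.from specULiftZIsTerminal S))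
      (MonicCover.rootMap (aspoly.{u} p)) ⟶ (Red.Ga S).left :=
  pullback.fst _ _

variable {p}
variable (F : Red.Ga S ⟶ Red.Ga S)
  (hF : ∀ (T : Over S) (x : T ⟶ Red.Ga S), Red.gaFn (x ≫ F) = Red.gaFn x ^ p)

include hF in
omit [Fact p.Prime] in
theorem as_section :
    ∃ s : pullback (pullback.fst Red.GaZ.hom (Limits.IsTerminal.from specULiftZIsTerminal S))
        (MonicCover.rootMap (aspoly.{u} p)) ⟶ (Red.Ga S).left,
      s ≫ (𝟙 (Red.Ga S) * F⁻¹).left = ascover p := by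
  let YS : Over S := Over.mk (ascover (S := S) p ≫ (Red.Ga S).hom)
  let pO : YS ⟶ Red.Ga S := Over.homMk (ascover (S := S) p) rfl
  let q : YS.left ⟶ Spec (CommRingCat.of (AdjoinRoot (aspoly.{u} p))) := pullback.snd _ _
  let r : Γ(YS.left, ⊤) := fn q (AdjoinRoot.root (aspoly.{u} p))
  have hroot : AdjoinRoot.root (aspoly.{u} p) - AdjoinRoot.root (aspoly.{u} p) ^ p =
      algebraMap AG.{u} _ tG.{u} := by
    have h := AdjoinRoot.eval₂_root (aspoly.{u} p)
    simp only [aspoly, eval₂_sub, eval₂_pow, eval₂_X, eval₂_C] at h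
    have h' := sub_eq_zero.mp h
    rw [h']
    change _ = (AdjoinRoot.of (aspoly.{u} p)) tG.{u}
    ring
  have hrn : r - r ^ p = Red.gaFn pO := by
    change fn q _ - fn q _ ^ p = _
    rw [fn_eq, ← map_pow, ← map_sub, hroot, ← fn_eq, ← fn_specMap, gaFn_eq_fn_gaPt]
    congr 1
    exact pullback.condition.symm
  obtain ⟨z, hz⟩ := gaFn_surjective (X := YS) r
  have hzp : z ≫ (𝟙 (Red.Ga S) * F⁻¹) = pO := by
    apply gaFn_injective
    rw [gaFn_comp_P F hF, hz, hrn]
  refine ⟨z.left, ?_⟩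
  have := congrArg Over.Hom.left hzp
  rw [Over.comp_left] at this
  exact this

end Cover

section Final

variable {p}

theorem artinSchreier_isExactSeq_fppf (hp : (p : Γ(S, ⊤)) = 0) (F : Red.Ga S ⟶ Red.Ga S)
    (hF : ∀ (T : Over S) (x : T ⟶ Red.Ga S), Red.gaFn (x ≫ F) = Red.gaFn x ^ p)
    {G' : Over S} [GrpObj G'] (e : G' ≅ TwC.const S (Multiplicative (ZMod p)))
    (he : TwC.IsConstGrp (Multiplicative (ZMod p)) G' e)
    (i : G' ⟶ Red.Ga S) [IsMonHom i]
    (hi : Red.gaFn (TwC.pt S (Multiplicative (ZMod p)) (Multiplicative.ofAdd 1) ≫ e.inv ≫ i) = 1) :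
    NonAbH1.IsExactSeq Scheme.fppfPrecoverage i (𝟙 (Red.Ga S) * F⁻¹) := by
  have hp1 : 1 < p := (Fact.out : p.Prime).one_lt
  have i2 : IsMonHom (𝟙 (Red.Ga S) * F⁻¹) := isMonHom_P F hF hp
  have i3 : Mono i := mono_i e he i hi hp
  obtain ⟨s, hs⟩ := as_section (S := S) F hF
  exact ExactSeq.isExactSeq_of_kernel_of_cover _ _ _ (comp_P_eq_one F hF e he i hi hp)
    (kernel_P F hF e he i hi hp)
    (ascover p) (MonicCover.singleton_mem_fppf _ (aspoly_monic p hp1) (aspoly_natDegree p hp1) _) s hs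

theorem artinSchreier_isExactSeq_fpqc (hp : (p : Γ(S, ⊤)) = 0) (F : Red.Ga S ⟶ Red.Ga S)
    (hF : ∀ (T : Over S) (x : T ⟶ Red.Ga S), Red.gaFn (x ≫ F) = Red.gaFn x ^ p)
    {G' : Over S} [GrpObj G'] (e : G' ≅ TwC.const S (Multiplicative (ZMod p)))
    (he : TwC.IsConstGrp (Multiplicative (ZMod p)) G' e)
    (i : G' ⟶ Red.Ga S) [IsMonHom i]
    (hi : Red.gaFn (TwC.pt S (Multiplicative (ZMod p)) (Multiplicative.ofAdd 1) ≫ e.inv ≫ i) = 1) :
    NonAbH1.IsExactSeq Scheme.fpqcPrecoverage i (𝟙 (Red.Ga S) * F⁻¹) := by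
  obtain ⟨h1, h2, h3, h4, R, hR, h5⟩ := artinSchreier_isExactSeq_fppf hp F hF e he i hi
  exact ⟨h1, h2, h3, h4, R, Scheme.fppfPrecoverage_le_fpqcPrecoverage _ hR, h5⟩

end Final

end Groth.Agent.Lib.Seat27.ArtinSchreier
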