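import Mathlib.Tactic
import Groth.Prelude.Def_Red2
import Groth.Prelude.Def_AlgGrp
import Groth.Agent.Lib.Helper27GaGm
import Groth.Agent.Lib.Seat27ArtinSchreier
import Groth.Agent.Lib.Seat19GaGmPts
import Groth.Agent.Lib.Seat19GaGmAlg

/-!
# Finite subgroup schemes of `𝔾_a` over a field and their quotients (seat 19)
-/

set_option autoImplicit false
universe u

open CategoryTheory MonoidalCategory CartesianMonoidalCategory MonObj GrpObj AlgebraicGeometry CategoryTheory.Limits
open Polynomial TensorProduct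
open Groth.Agent.Lib.Helper27.GaGm Groth.Agent.Lib.Seat19.GaGmPts Groth.Agent.Lib.Seat19.GaGmAlg

namespace Groth.Agent.Lib.Seat19.GaQuot

attribute [local instance] kAlg

variable {K : Type u} [Field K]

section Common

variable (H : Over (Spec (CommRingCat.of K))) [GrpObj H]

/-- a group scheme over a field has a nonzero ring of functions. -/
theorem nontrivial_of_grpObj : Nontrivial Γ(H.left, ⊤) := by
  have h1 : Nontrivial Γ((𝟙_ (Over (Spec (CommRingCat.of K)))).left, ⊤) := by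
    change Nontrivial Γ(Spec (CommRingCat.of K), ⊤)
    exact (Scheme.ΓSpecIso (CommRingCat.of K)).commRingCatIsoToRingEquiv.symm.injective.nontrivial
  exact (pull (η[H])).toRingHom.domain_nontrivial

end Common

section Ga

variable {H : Over (Spec (CommRingCat.of K))}
  (i : H ⟶ Red.Ga (Spec (CommRingCat.of K))) [Mono i] [IsAffine H.left]
  [Module.Finite K Γ(H.left, ⊤)]

/-- the coordinate function of the subgroup generates its algebra of functions. -/
theorem ga_adjoin_eq_top : Algebra.adjoin K {Red.gaFn i} = ⊤ := by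
  set B' := Algebra.adjoin K {Red.gaFn i} with hB'
  let a' : B' := ⟨Red.gaFn i, Algebra.subset_adjoin (Set.mem_singleton _)⟩
  let i' : specO B' ⟶ Red.Ga (Spec (CommRingCat.of K)) := (gaEquiv (specO B')).symm (gsec B' a')
  refine subalgebra_eq_top_of_mono B' i i' ?_
  intro π hπ
  apply gaFn_injective
  rw [gaFn_comp']
  simp only [i', gaFn_gaEquiv_symm]
  exact hπ a'

/-- the power basis of the algebra of functions of the subgroup given by the coordinate. -/
noncomputable def gaPB : PowerBasis K Γ(H.left, ⊤) :=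
  PowerBasis.ofAdjoinEqTop (Algebra.IsIntegral.isIntegral (Red.gaFn i)) (ga_adjoin_eq_top i)

lemma gaPB_gen : (gaPB i).gen = Red.gaFn i := PowerBasis.ofAdjoinEqTop_gen _ _

/-- a point of `𝔾_a` whose coordinate is a root of the minimal polynomial lies in the subgroup. -/
theorem ga_lift {X : Over (Spec (CommRingCat.of K))} (z : X ⟶ Red.Ga (Spec (CommRingCat.of K)))
    (hz : aeval (Red.gaFn z) (minpoly K (Red.gaFn i)) = 0) : ∃ w : X ⟶ H, w ≫ i = z := by
  have hz' : aeval (Red.gaFn z) (minpoly K (gaPB i).gen) = 0 := by rw [gaPB_gen]; exact hz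
  obtain ⟨w, hw⟩ := affPt_exists (H := H) ((gaPB i).lift (Red.gaFn z) hz')
  refine ⟨w, ?_⟩
  apply gaFn_injective
  rw [gaFn_comp']
  have h1 := hw (gaPB i).gen
  rw [PowerBasis.lift_gen, gaPB_gen] at h1
  exact h1

omit [Mono i] [IsAffine H.left] [Module.Finite K Γ(H.left, ⊤)] in
theorem ga_aeval_comp {X : Over (Spec (CommRingCat.of K))} (w : X ⟶ H) :
    aeval (Red.gaFn (w ≫ i)) (minpoly K (Red.gaFn i)) = 0 := by
  rw [gaFn_comp', aeval_algHom_apply, minpoly.aeval, map_zero]

omit [Mono i] [Module.Finite K Γ(H.left, ⊤)] in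
/-- the subgroup is closed under addition: the universal case. -/
theorem ga_tensor [GrpObj H] [IsMonHom i] :
    aeval ((Red.gaFn i) ⊗ₜ[K] (1 : Γ(H.left, ⊤)) + (1 : Γ(H.left, ⊤)) ⊗ₜ[K] (Red.gaFn i))
      (minpoly K (Red.gaFn i)) = 0 := by
  let e := gsec (K := K) (Γ(H.left, ⊤) ⊗[K] Γ(H.left, ⊤))
  obtain ⟨h₁, hh₁⟩ := affPt_exists (H := H) (X := specO (Γ(H.left, ⊤) ⊗[K] Γ(H.left, ⊤)))
    (e.toAlgHom.comp Algebra.TensorProduct.includeLeft)
  obtain ⟨h₂, hh₂⟩ := affPt_exists (H := H) (X := specO (Γ(H.left, ⊤) ⊗[K] Γ(H.left, ⊤)))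
    (e.toAlgHom.comp Algebra.TensorProduct.includeRight)
  have h := ga_aeval_comp i (h₁ * h₂)
  have h3 : Red.gaFn ((h₁ * h₂) ≫ i) =
      e ((Red.gaFn i) ⊗ₜ[K] (1 : Γ(H.left, ⊤)) + (1 : Γ(H.left, ⊤)) ⊗ₜ[K] (Red.gaFn i)) := by
    have e1 : Red.gaFn ((h₁ * h₂) ≫ i) = pull h₁ (Red.gaFn i) + pull h₂ (Red.gaFn i) :=
      (congrArg Red.gaFn (MonObj.mul_comp h₁ h₂ i)).trans ((gaFn_mul _ _).trans
        (congrArg₂ (· + ·) (gaFn_comp' h₁ i) (gaFn_comp' h₂ i)))
    have e2 : pull h₁ (Red.gaFn i) = e ((Red.gaFn i) ⊗ₜ[K] (1 : Γ(H.left, ⊤))) := hh₁ _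
    have e3 : pull h₂ (Red.gaFn i) = e ((1 : Γ(H.left, ⊤)) ⊗ₜ[K] (Red.gaFn i)) := hh₂ _
    exact e1.trans ((congrArg₂ (· + ·) e2 e3).trans (map_add e _ _).symm)
  have h4 := (congrArg (fun t => aeval t (minpoly K (Red.gaFn i))) h3).symm.trans h
  have h5 := (aeval_algHom_apply e.toAlgHom _ (minpoly K (Red.gaFn i))).symm.trans h4
  exact e.injective (h5.trans (map_zero e).symm)

/-- the minimal polynomial of the coordinate of a finite subgroup of `𝔾_a` is additive. -/
theorem ga_additive [GrpObj H] [IsMonHom i] {R : Type*} [CommRing R] [Algebra K R] (x y : R) :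
    aeval (x + y) (minpoly K (Red.gaFn i)) =
      aeval x (minpoly K (Red.gaFn i)) + aeval y (minpoly K (Red.gaFn i)) := by
  have := nontrivial_of_grpObj H
  have h0 : aeval ((gaPB i).gen ⊗ₜ[K] (1 : Γ(H.left, ⊤)) + (1 : Γ(H.left, ⊤)) ⊗ₜ[K] (gaPB i).gen)
      (minpoly K (gaPB i).gen) = 0 := by
    rw [gaPB_gen]; exact ga_tensor i
  have := aeval_add_of_tensor (gaPB i) h0 x y
  rwa [gaPB_gen] at this

end Ga

section Phi

/-- the endomorphism of `𝔾_a` given by a polynomial. -/
noncomputable def gaPhi (f : K[X]) :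
    Red.Ga (Spec (CommRingCat.of K)) ⟶ Red.Ga (Spec (CommRingCat.of K)) :=
  (gaEquiv (Red.Ga (Spec (CommRingCat.of K)))).symm
    (aeval (Red.gaFn (𝟙 (Red.Ga (Spec (CommRingCat.of K))))) f)

lemma gaFn_comp_gaPhi (f : K[X]) {X : Over (Spec (CommRingCat.of K))}
    (z : X ⟶ Red.Ga (Spec (CommRingCat.of K))) :
    Red.gaFn (z ≫ gaPhi f) = aeval (Red.gaFn z) f := by
  have h1 : Red.gaFn (z ≫ gaPhi f) = pull z (aeval (Red.gaFn (𝟙 (Red.Ga (Spec (CommRingCat.of K))))) f) :=
    (gaFn_comp' z (gaPhi f)).trans (congrArg (pull z) (gaFn_gaEquiv_symm _))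
  have h2 : pull z (Red.gaFn (𝟙 (Red.Ga (Spec (CommRingCat.of K))))) = Red.gaFn z :=
    (gaFn_comp' z _).symm.trans (congrArg Red.gaFn (Category.comp_id z))
  exact h1.trans ((aeval_algHom_apply (pull z) _ f).symm.trans (congrArg (fun t => aeval t f) h2))

theorem isMonHom_gaPhi (f : K[X])
    (hadd : ∀ (X : Over (Spec (CommRingCat.of K))) (x y : Γ(X.left, ⊤)),
      aeval (x + y) f = aeval x f + aeval y f) : IsMonHom (gaPhi f) := by
  apply Groth.Agent.Lib.Seat27.ArtinSchreier.isMonHom_of_points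
  · apply gaFn_injective
    rw [gaFn_comp_gaPhi, gaFn_one]
    have := hadd _ (0 : Γ((𝟙_ (Over (Spec (CommRingCat.of K)))).left, ⊤)) 0
    rw [add_zero] at this
    exact left_eq_add.mp this
  · apply gaFn_injective
    rw [gaFn_comp_gaPhi, gaFn_mul, gaFn_mul, gaFn_comp_gaPhi, gaFn_comp_gaPhi, hadd]

end Phi

section Kernel

variable {H : Over (Spec (CommRingCat.of K))}
  (i : H ⟶ Red.Ga (Spec (CommRingCat.of K))) [Mono i] [IsAffine H.left]
  [Module.Finite K Γ(H.left, ⊤)]

/-- the subgroup is the kernel of the endomorphism given by the minimal polynomial of its coordinate. -/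
theorem isKernel_gaPhi : AlgGrp.IsKernel i (gaPhi (minpoly K (Red.gaFn i))) := by
  have hone : ∀ (X : Over (Spec (CommRingCat.of K))) (s : X ⟶ 𝟙_ (Over (Spec (CommRingCat.of K)))),
      Red.gaFn (s ≫ η[Red.Ga (Spec (CommRingCat.of K))]) = 0 := by
    intro X s
    rw [MonObj.one_eq_one, MonObj.comp_one, gaFn_one]
  have w : i ≫ gaPhi (minpoly K (Red.gaFn i)) = toUnit H ≫ η[Red.Ga (Spec (CommRingCat.of K))] := by
    apply gaFn_injective
    rw [gaFn_comp_gaPhi, hone, minpoly.aeval]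
  have hlift : ∀ s : PullbackCone (gaPhi (minpoly K (Red.gaFn i))) η[Red.Ga (Spec (CommRingCat.of K))],
      ∃ l : s.pt ⟶ H, l ≫ i = s.fst := by
    intro s
    apply ga_lift i
    rw [← gaFn_comp_gaPhi, s.condition, hone]
  refine ⟨⟨w⟩, ⟨PullbackCone.IsLimit.mk _ (fun s => Classical.choose (hlift s))
    (fun s => Classical.choose_spec (hlift s)) (fun s => toUnit_unique _ _) (fun s m hm _ => ?_)⟩⟩
  rw [← cancel_mono i, hm]
  exact (Classical.choose_spec (hlift s)).symm

end Kernel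

section Flat

/-- the coordinate, as a point of `𝔾_a` with values in `Spec K[X]`. -/
noncomputable def gaU : specO (K := K) K[X] ⟶ Red.Ga (Spec (CommRingCat.of K)) :=
  (gaEquiv (specO (K := K) K[X])).symm (gsec K[X] X)

lemma gaFn_gaU : Red.gaFn (gaU (K := K)) = gsec K[X] X := gaFn_gaEquiv_symm _

theorem exists_gaV : ∃ v : Red.Ga (Spec (CommRingCat.of K)) ⟶ specO (K := K) K[X],
    ∀ p : K[X], pull v (gsec K[X] p) = aeval (Red.gaFn (𝟙 (Red.Ga (Spec (CommRingCat.of K))))) p :=
  specPt_exists (aeval (Red.gaFn (𝟙 (Red.Ga (Spec (CommRingCat.of K))))))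

/-- `𝔾_a` over `K` is `Spec K[X]`. -/
noncomputable def gaIso : specO (K := K) K[X] ≅ Red.Ga (Spec (CommRingCat.of K)) where
  hom := gaU
  inv := Classical.choose exists_gaV
  hom_inv_id := by
    have hv := Classical.choose_spec (exists_gaV (K := K))
    apply specPt_ext
    intro p
    have h1 : pull (gaU ≫ Classical.choose exists_gaV) (gsec (K := K) K[X] p) =
        pull gaU (aeval (Red.gaFn (𝟙 (Red.Ga (Spec (CommRingCat.of K))))) p) :=
      (pull_comp _ _ _).trans (congrArg (pull gaU) (hv p))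
    have h2 : pull (gaU (K := K)) (Red.gaFn (𝟙 (Red.Ga (Spec (CommRingCat.of K))))) = gsec K[X] X :=
      (gaFn_comp' gaU _).symm.trans ((congrArg Red.gaFn (Category.comp_id gaU)).trans gaFn_gaU)
    have h3 : pull (gaU (K := K)) (aeval (Red.gaFn (𝟙 (Red.Ga (Spec (CommRingCat.of K))))) p) =
        gsec K[X] p := by
      refine (aeval_algHom_apply (pull gaU) _ p).symm.trans ((congrArg (fun t => aeval t p) h2).trans ?_)
      refine (aeval_algHom_apply (gsec (K := K) K[X]).toAlgHom X p).trans ?_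
      exact congrArg (gsec (K := K) K[X]) (aeval_X_left_apply p)
    exact h1.trans (h3.trans (pull_id _).symm)
  inv_hom_id := by
    have hv := Classical.choose_spec (exists_gaV (K := K))
    apply gaFn_injective
    have h1 : Red.gaFn (Classical.choose exists_gaV ≫ gaU (K := K)) =
        aeval (Red.gaFn (𝟙 (Red.Ga (Spec (CommRingCat.of K))))) (X : K[X]) :=
      (gaFn_comp' _ _).trans ((congrArg (pull _) gaFn_gaU).trans (hv X))
    exact h1.trans (aeval_X _)

/-- in the coordinate, the polynomial endomorphism is `X ↦ f`. -/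
theorem gaPhi_eq (f : K[X]) :
    gaPhi f = gaIso.inv ≫ specMapO (aeval f : K[X] →ₐ[K] K[X]) ≫ gaIso.hom := by
  have hv := Classical.choose_spec (exists_gaV (K := K))
  apply gaFn_injective
  have h1 : Red.gaFn (gaIso.inv ≫ specMapO (aeval f : K[X] →ₐ[K] K[X]) ≫ gaIso.hom) =
      pull gaIso.inv (pull (specMapO (aeval f : K[X] →ₐ[K] K[X])) (gsec K[X] X)) :=
    (gaFn_comp' _ _).trans (congrArg (pull _) ((gaFn_comp' _ _).trans (congrArg (pull _) gaFn_gaU)))
  have h2 : pull (specMapO (aeval f : K[X] →ₐ[K] K[X])) (gsec (K := K) K[X] X) = gsec K[X] f :=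
    (pull_specMapO _ _).trans (congrArg (gsec (K := K) K[X]) (aeval_X f))
  have h3 : Red.gaFn (gaPhi f) = aeval (Red.gaFn (𝟙 (Red.Ga (Spec (CommRingCat.of K))))) f :=
    gaFn_gaEquiv_symm _
  exact h3.trans ((hv f).symm.trans ((congrArg (pull _) h2).symm.trans h1.symm))

theorem flat_surjective_gaPhi (f : K[X]) (hf : f.Monic) (hd : f.natDegree ≠ 0) :
    Flat (gaPhi f).left ∧ Surjective (gaPhi f).left := by
  have h1 := faithfullyFlat_aeval f hf hd
  have h2 := (flat_and_surjective_SpecMap_iff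
    (CommRingCat.ofHom ((aeval f : K[X] →ₐ[K] K[X]) : K[X] →+* K[X]))).mpr h1
  have h3 : (gaPhi f).left = (gaIso (K := K)).inv.left ≫
      (specMapO (aeval f : K[X] →ₐ[K] K[X])).left ≫ (gaIso (K := K)).hom.left := by
    rw [gaPhi_eq]; rfl
  have : IsIso (gaIso (K := K)).inv.left :=
    (inferInstance : IsIso ((Over.forget _).map (gaIso (K := K)).inv))
  have : IsIso (gaIso (K := K)).hom.left :=
    (inferInstance : IsIso ((Over.forget _).map (gaIso (K := K)).hom))
  have i1 : Flat (specMapO (aeval f : K[X] →ₐ[K] K[X])).left := h2.1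
  have i2 : Surjective (specMapO (aeval f : K[X] →ₐ[K] K[X])).left := h2.2
  rw [h3]
  exact ⟨inferInstance, inferInstance⟩

end Flat

/-- a finite subgroup scheme of `𝔾_a` over a field is the kernel of a faithfully flat endomorphism of `𝔾_a`. -/
theorem ga_case {H : Over (Spec (CommRingCat.of K))} [GrpObj H]
    (i : H ⟶ Red.Ga (Spec (CommRingCat.of K))) [IsMonHom i] [Mono i] [IsFinite H.hom] :
    ∃ φ : Red.Ga (Spec (CommRingCat.of K)) ⟶ Red.Ga (Spec (CommRingCat.of K)),
      IsMonHom φ ∧ AlgGrp.IsKernel i φ ∧ Flat φ.left ∧ Surjective φ.left := by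
  have := isAffine_of_isFinite H
  have := finite_of_isFinite H
  have := nontrivial_of_grpObj H
  have hint : IsIntegral K (Red.gaFn i) := Algebra.IsIntegral.isIntegral _
  have hmonic : (minpoly K (Red.gaFn i)).Monic := minpoly.monic hint
  have hd : (minpoly K (Red.gaFn i)).natDegree ≠ 0 := (minpoly.natDegree_pos hint).ne'
  exact ⟨gaPhi (minpoly K (Red.gaFn i)), isMonHom_gaPhi _ (fun X x y => ga_additive i x y),
    isKernel_gaPhi i, flat_surjective_gaPhi _ hmonic hd⟩

end Groth.Agent.Lib.Seat19.GaQuot
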