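import Mathlib.Tactic
import Groth.Prelude.Def_Red2
import Groth.Prelude.Def_AlgGrp
import Groth.Agent.Lib.Helper27GaGm
import Groth.Agent.Lib.Seat27ArtinSchreier
import Groth.Agent.Lib.Seat19GaGmPts
import Groth.Agent.Lib.Seat19GaGmAlg
import Groth.Agent.Lib.Seat19GaQuot

/-!
# Finite subgroup schemes of `𝔾_m` over a field and their quotients (seat 19)
-/

set_option autoImplicit false
universe u

open CategoryTheory MonoidalCategory CartesianMonoidalCategory MonObj GrpObj AlgebraicGeometry CategoryTheory.Limits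
open Polynomial TensorProduct
open Groth.Agent.Lib.Helper27.GaGm Groth.Agent.Lib.Seat19.GaGmPts Groth.Agent.Lib.Seat19.GaGmAlg
open Groth.Agent.Lib.Seat19.GaQuot

namespace Groth.Agent.Lib.Seat19.GmQuot

attribute [local instance] kAlg

variable {K : Type u} [Field K]

section Gm

variable {H : Over (Spec (CommRingCat.of K))}
  (i : H ⟶ Red.Gm (Spec (CommRingCat.of K))) [Mono i] [IsAffine H.left]
  [Module.Finite K Γ(H.left, ⊤)]

/-- the coordinate function of the subgroup generates its algebra of functions. -/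
theorem gm_adjoin_eq_top : Algebra.adjoin K {Red.gmFn i} = ⊤ := by
  set B' := Algebra.adjoin K {Red.gmFn i} with hB'
  let a' : B' := ⟨Red.gmFn i, Algebra.subset_adjoin (Set.mem_singleton _)⟩
  have hu : IsUnit a' := isUnit_in_adjoin (K := K) (Red.gmFn i) (gmFn_isUnit i)
  have hu' : IsUnit (gsec (K := K) B' a') := hu.map (gsec (K := K) B')
  let i' : specO B' ⟶ Red.Gm (Spec (CommRingCat.of K)) := (gmEquiv (specO B')).symm hu'.unit
  refine subalgebra_eq_top_of_mono B' i i' ?_
  intro π hπ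
  apply gmFn_injective
  have h1 : Red.gmFn (π ≫ i') = pull π (gsec (K := K) B' a') :=
    (gmFn_comp' π i').trans (congrArg (pull π) (gmFn_gmEquiv_symm _))
  exact h1.trans (hπ a')

/-- the power basis of the algebra of functions of the subgroup given by the coordinate. -/
noncomputable def gmPB : PowerBasis K Γ(H.left, ⊤) :=
  PowerBasis.ofAdjoinEqTop (Algebra.IsIntegral.isIntegral (Red.gmFn i)) (gm_adjoin_eq_top i)

lemma gmPB_gen : (gmPB i).gen = Red.gmFn i := PowerBasis.ofAdjoinEqTop_gen _ _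

/-- a point of `𝔾_m` whose coordinate is a root of the minimal polynomial lies in the subgroup. -/
theorem gm_lift {X : Over (Spec (CommRingCat.of K))} (z : X ⟶ Red.Gm (Spec (CommRingCat.of K)))
    (hz : aeval (Red.gmFn z) (minpoly K (Red.gmFn i)) = 0) : ∃ w : X ⟶ H, w ≫ i = z := by
  have hz' : aeval (Red.gmFn z) (minpoly K (gmPB i).gen) = 0 := by rw [gmPB_gen]; exact hz
  obtain ⟨w, hw⟩ := affPt_exists (H := H) ((gmPB i).lift (Red.gmFn z) hz')
  refine ⟨w, ?_⟩
  apply gmFn_injective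
  rw [gmFn_comp']
  have h1 := hw (gmPB i).gen
  rw [PowerBasis.lift_gen, gmPB_gen] at h1
  exact h1

omit [Mono i] [IsAffine H.left] [Module.Finite K Γ(H.left, ⊤)] in
theorem gm_aeval_comp {X : Over (Spec (CommRingCat.of K))} (w : X ⟶ H) :
    aeval (Red.gmFn (w ≫ i)) (minpoly K (Red.gmFn i)) = 0 := by
  rw [gmFn_comp', aeval_algHom_apply, minpoly.aeval, map_zero]

omit [Mono i] [Module.Finite K Γ(H.left, ⊤)] in
/-- the subgroup is closed under multiplication: the universal case. -/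
theorem gm_tensor [GrpObj H] [IsMonHom i] :
    aeval ((Red.gmFn i) ⊗ₜ[K] (Red.gmFn i)) (minpoly K (Red.gmFn i)) = 0 := by
  let e := gsec (K := K) (Γ(H.left, ⊤) ⊗[K] Γ(H.left, ⊤))
  obtain ⟨h₁, hh₁⟩ := affPt_exists (H := H) (X := specO (Γ(H.left, ⊤) ⊗[K] Γ(H.left, ⊤)))
    (e.toAlgHom.comp Algebra.TensorProduct.includeLeft)
  obtain ⟨h₂, hh₂⟩ := affPt_exists (H := H) (X := specO (Γ(H.left, ⊤) ⊗[K] Γ(H.left, ⊤)))
    (e.toAlgHom.comp Algebra.TensorProduct.includeRight)
  have h := gm_aeval_comp i (h₁ * h₂)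
  have h3 : Red.gmFn ((h₁ * h₂) ≫ i) = e ((Red.gmFn i) ⊗ₜ[K] (Red.gmFn i)) := by
    have e1 : Red.gmFn ((h₁ * h₂) ≫ i) = pull h₁ (Red.gmFn i) * pull h₂ (Red.gmFn i) :=
      (congrArg Red.gmFn (MonObj.mul_comp h₁ h₂ i)).trans ((gmFn_mul _ _).trans
        (congrArg₂ (· * ·) (gmFn_comp' h₁ i) (gmFn_comp' h₂ i)))
    have e2 : pull h₁ (Red.gmFn i) = e ((Red.gmFn i) ⊗ₜ[K] (1 : Γ(H.left, ⊤))) := hh₁ _
    have e3 : pull h₂ (Red.gmFn i) = e ((1 : Γ(H.left, ⊤)) ⊗ₜ[K] (Red.gmFn i)) := hh₂ _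
    have e4 : ((Red.gmFn i) ⊗ₜ[K] (1 : Γ(H.left, ⊤))) * ((1 : Γ(H.left, ⊤)) ⊗ₜ[K] (Red.gmFn i)) =
        (Red.gmFn i) ⊗ₜ[K] (Red.gmFn i) := by
      rw [Algebra.TensorProduct.tmul_mul_tmul, _root_.mul_one, _root_.one_mul]
    exact e1.trans ((congrArg₂ (· * ·) e2 e3).trans ((map_mul e _ _).symm.trans (congrArg e e4)))
  have h4 := (congrArg (fun t => aeval t (minpoly K (Red.gmFn i))) h3).symm.trans h
  have h5 := (aeval_algHom_apply e.toAlgHom _ (minpoly K (Red.gmFn i))).symm.trans h4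
  exact e.injective (h5.trans (map_zero e).symm)

/-- the minimal polynomial of the coordinate of a finite subgroup of `𝔾_m` is `X ^ d - 1`. -/
theorem gm_minpoly [GrpObj H] [IsMonHom i] :
    minpoly K (Red.gmFn i) = X ^ (minpoly K (Red.gmFn i)).natDegree - 1 := by
  have := nontrivial_of_grpObj H
  have h0 : aeval ((gmPB i).gen ⊗ₜ[K] (gmPB i).gen) (minpoly K (gmPB i).gen) = 0 := by
    rw [gmPB_gen]; exact gm_tensor i
  have hu : IsUnit (gmPB i).gen := by rw [gmPB_gen]; exact gmFn_isUnit i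
  have h1 := minpoly_eq_of_tensor (gmPB i) hu h0
  rw [← (gmPB i).natDegree_minpoly, gmPB_gen] at h1
  exact h1

end Gm

section Phi

/-- the `n`-th power endomorphism of `𝔾_m`. -/
noncomputable def gmPhi (n : ℕ) :
    Red.Gm (Spec (CommRingCat.of K)) ⟶ Red.Gm (Spec (CommRingCat.of K)) :=
  (𝟙 (Red.Gm (Spec (CommRingCat.of K)))) ^ n

lemma gmFn_comp_gmPhi (n : ℕ) {X : Over (Spec (CommRingCat.of K))}
    (z : X ⟶ Red.Gm (Spec (CommRingCat.of K))) :
    Red.gmFn (z ≫ gmPhi n) = Red.gmFn z ^ n := by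
  unfold gmPhi
  rw [MonObj.comp_pow, Category.comp_id, gmFn_pow]

theorem isMonHom_gmPhi (n : ℕ) : IsMonHom (gmPhi (K := K) n) := by
  apply Groth.Agent.Lib.Seat27.ArtinSchreier.isMonHom_of_points
  · apply gmFn_injective
    rw [gmFn_comp_gmPhi, gmFn_one, one_pow]
  · apply gmFn_injective
    rw [gmFn_comp_gmPhi, gmFn_mul, gmFn_mul, gmFn_comp_gmPhi, gmFn_comp_gmPhi, mul_pow]

end Phi

section Kernel

variable {H : Over (Spec (CommRingCat.of K))} [GrpObj H]
  (i : H ⟶ Red.Gm (Spec (CommRingCat.of K))) [IsMonHom i] [Mono i] [IsAffine H.left]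
  [Module.Finite K Γ(H.left, ⊤)]

/-- the subgroup is the kernel of the `d`-th power map, `d` the degree of the minimal polynomial of its
coordinate. -/
theorem isKernel_gmPhi : AlgGrp.IsKernel i (gmPhi (minpoly K (Red.gmFn i)).natDegree) := by
  set d := (minpoly K (Red.gmFn i)).natDegree with hd
  have hmin : minpoly K (Red.gmFn i) = X ^ d - 1 := gm_minpoly i
  have haev : ∀ {R : Type u} [CommRing R] [Algebra K R] (r : R),
      aeval r (minpoly K (Red.gmFn i)) = r ^ d - 1 := by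
    intro R _ _ r
    rw [hmin]; simp
  have hone : ∀ (X : Over (Spec (CommRingCat.of K))) (s : X ⟶ 𝟙_ (Over (Spec (CommRingCat.of K)))),
      Red.gmFn (s ≫ η[Red.Gm (Spec (CommRingCat.of K))]) = 1 := by
    intro X s
    rw [MonObj.one_eq_one, MonObj.comp_one, gmFn_one]
  have w : i ≫ gmPhi d = toUnit H ≫ η[Red.Gm (Spec (CommRingCat.of K))] := by
    apply gmFn_injective
    rw [gmFn_comp_gmPhi, hone]
    have h1 := minpoly.aeval K (Red.gmFn i)
    rw [haev] at h1
    exact sub_eq_zero.mp h1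
  have hlift : ∀ s : PullbackCone (gmPhi d) η[Red.Gm (Spec (CommRingCat.of K))],
      ∃ l : s.pt ⟶ H, l ≫ i = s.fst := by
    intro s
    apply gm_lift i
    rw [haev, ← gmFn_comp_gmPhi, s.condition, hone, sub_self]
  refine ⟨⟨w⟩, ⟨PullbackCone.IsLimit.mk _ (fun s => Classical.choose (hlift s))
    (fun s => Classical.choose_spec (hlift s)) (fun s => toUnit_unique _ _) (fun s m hm _ => ?_)⟩⟩
  rw [← cancel_mono i, hm]
  exact (Classical.choose_spec (hlift s)).symm

end Kernel

section Flat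

lemma isUnit_gsec_tL : IsUnit (gsec (K := K) (Laur K) (tL K)) := (isUnit_tL K).map (gsec (K := K) (Laur K))

/-- the coordinate, as a point of `𝔾_m` with values in `Spec K[t, t⁻¹]`. -/
noncomputable def gmU : specO (K := K) (Laur K) ⟶ Red.Gm (Spec (CommRingCat.of K)) :=
  (gmEquiv (specO (K := K) (Laur K))).symm (isUnit_gsec_tL (K := K)).unit

lemma gmFn_gmU : Red.gmFn (gmU (K := K)) = gsec (Laur K) (tL K) := gmFn_gmEquiv_symm _

theorem exists_gmV : ∃ v : Red.Gm (Spec (CommRingCat.of K)) ⟶ specO (K := K) (Laur K),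
    ∀ p : Laur K, pull v (gsec (Laur K) p) =
      laurLift K (gmUnit (𝟙 (Red.Gm (Spec (CommRingCat.of K))))) p :=
  specPt_exists (laurLift K (gmUnit (𝟙 (Red.Gm (Spec (CommRingCat.of K))))))

/-- `𝔾_m` over `K` is `Spec K[t, t⁻¹]`. -/
noncomputable def gmIso : specO (K := K) (Laur K) ≅ Red.Gm (Spec (CommRingCat.of K)) where
  hom := gmU
  inv := Classical.choose exists_gmV
  hom_inv_id := by
    have hv := Classical.choose_spec (exists_gmV (K := K))
    apply specPt_ext
    intro p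
    have h1 : pull (gmU ≫ Classical.choose exists_gmV) (gsec (K := K) (Laur K) p) =
        pull gmU (laurLift K (gmUnit (𝟙 (Red.Gm (Spec (CommRingCat.of K))))) p) :=
      (pull_comp _ _ _).trans (congrArg (pull gmU) (hv p))
    have h2 : pull (gmU (K := K)) (Red.gmFn (𝟙 (Red.Gm (Spec (CommRingCat.of K))))) =
        gsec (Laur K) (tL K) :=
      (gmFn_comp' gmU _).symm.trans ((congrArg Red.gmFn (Category.comp_id gmU)).trans gmFn_gmU)
    have h3 : (pull (gmU (K := K))).comp (laurLift K (gmUnit (𝟙 (Red.Gm (Spec (CommRingCat.of K)))))) =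
        (gsec (K := K) (Laur K)).toAlgHom := by
      apply laur_algHom_ext
      have h4 : laurLift K (gmUnit (𝟙 (Red.Gm (Spec (CommRingCat.of K))))) (tL K) =
          Red.gmFn (𝟙 (Red.Gm (Spec (CommRingCat.of K)))) := laurLift_tL K _
      exact (congrArg (pull gmU) h4).trans h2
    exact h1.trans ((congrArg (fun m : Laur K →ₐ[K] _ => m p) h3).trans (pull_id _).symm)
  inv_hom_id := by
    have hv := Classical.choose_spec (exists_gmV (K := K))
    apply gmFn_injective
    have h1 : Red.gmFn (Classical.choose exists_gmV ≫ gmU (K := K)) =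
        laurLift K (gmUnit (𝟙 (Red.Gm (Spec (CommRingCat.of K))))) (tL K) :=
      (gmFn_comp' _ _).trans ((congrArg (pull _) gmFn_gmU).trans (hv _))
    exact h1.trans (laurLift_tL K _)

/-- in the coordinate, the `n`-th power map is `t ↦ tⁿ`. -/
theorem gmPhi_eq (n : ℕ) :
    gmPhi n = gmIso.inv ≫ specMapO (powL K n) ≫ gmIso.hom := by
  have hv := Classical.choose_spec (exists_gmV (K := K))
  apply gmFn_injective
  have h1 : Red.gmFn (gmIso.inv ≫ specMapO (powL K n) ≫ gmIso.hom) =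
      pull gmIso.inv (pull (specMapO (powL K n)) (gsec (Laur K) (tL K))) :=
    (gmFn_comp' _ _).trans (congrArg (pull _) ((gmFn_comp' _ _).trans (congrArg (pull _) gmFn_gmU)))
  have h2 : pull (specMapO (powL K n)) (gsec (K := K) (Laur K) (tL K)) = gsec (Laur K) (tL K ^ n) :=
    (pull_specMapO _ _).trans (congrArg (gsec (K := K) (Laur K)) (powL_tL K n))
  have h3 : Red.gmFn (gmPhi (K := K) n) = Red.gmFn (𝟙 (Red.Gm (Spec (CommRingCat.of K)))) ^ n :=
    gmFn_pow _ _
  have h4 : laurLift K (gmUnit (𝟙 (Red.Gm (Spec (CommRingCat.of K))))) (tL K ^ n) =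
      Red.gmFn (𝟙 (Red.Gm (Spec (CommRingCat.of K)))) ^ n := by
    rw [map_pow, laurLift_tL]; rfl
  exact h3.trans (h4.symm.trans ((hv _).symm.trans ((congrArg (pull _) h2).symm.trans h1.symm)))

theorem flat_surjective_gmPhi (n : ℕ) (hn : n ≠ 0) :
    Flat (gmPhi (K := K) n).left ∧ Surjective (gmPhi (K := K) n).left := by
  have h1 := faithfullyFlat_powL K n hn
  have h2 := (flat_and_surjective_SpecMap_iff
    (CommRingCat.ofHom ((powL K n : Laur K →ₐ[K] Laur K) : Laur K →+* Laur K))).mpr h1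
  have h3 : (gmPhi (K := K) n).left = (gmIso (K := K)).inv.left ≫
      (specMapO (powL K n)).left ≫ (gmIso (K := K)).hom.left := by
    rw [gmPhi_eq]; rfl
  have : IsIso (gmIso (K := K)).inv.left :=
    (inferInstance : IsIso ((Over.forget _).map (gmIso (K := K)).inv))
  have : IsIso (gmIso (K := K)).hom.left :=
    (inferInstance : IsIso ((Over.forget _).map (gmIso (K := K)).hom))
  have i1 : Flat (specMapO (powL K n)).left := h2.1
  have i2 : Surjective (specMapO (powL K n)).left := h2.2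
  rw [h3]
  exact ⟨inferInstance, inferInstance⟩

end Flat

/-- a finite subgroup scheme of `𝔾_m` over a field is the kernel of a faithfully flat endomorphism of `𝔾_m`. -/
theorem gm_case {H : Over (Spec (CommRingCat.of K))} [GrpObj H]
    (i : H ⟶ Red.Gm (Spec (CommRingCat.of K))) [IsMonHom i] [Mono i] [IsFinite H.hom] :
    ∃ φ : Red.Gm (Spec (CommRingCat.of K)) ⟶ Red.Gm (Spec (CommRingCat.of K)),
      IsMonHom φ ∧ AlgGrp.IsKernel i φ ∧ Flat φ.left ∧ Surjective φ.left := by
  have := isAffine_of_isFinite H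
  have := finite_of_isFinite H
  have := nontrivial_of_grpObj H
  have hint : IsIntegral K (Red.gmFn i) := Algebra.IsIntegral.isIntegral _
  have hd : (minpoly K (Red.gmFn i)).natDegree ≠ 0 := (minpoly.natDegree_pos hint).ne'
  exact ⟨gmPhi (minpoly K (Red.gmFn i)).natDegree, isMonHom_gmPhi _, isKernel_gmPhi i,
    flat_surjective_gmPhi _ hd⟩

end Groth.Agent.Lib.Seat19.GmQuot
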