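import Mathlib.Tactic
import Groth.Prelude.Def_Red2
import Groth.Prelude.Def_AlgGrp
import Groth.Agent.Lib.Seat19GaQuot
import Groth.Agent.Lib.Seat19GmQuot

/-!
# Quotients of `𝔾_a` and `𝔾_m` over a field by finite subgroup schemes (seat 19)

`exists_endo_of_finite_subgroup`: for a `K`-group scheme `G` isomorphic to `𝔾_a` or `𝔾_m` and a finite subgroup
scheme `i : H ⟶ G` there is a flat surjective endomorphism of `G` with kernel `i`.
-/

set_option autoImplicit false
universe u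

open CategoryTheory MonoidalCategory CartesianMonoidalCategory MonObj GrpObj AlgebraicGeometry CategoryTheory.Limits

namespace Groth.Agent.Lib.Seat19.GaGmQuot

/-- transport of the statement along an isomorphism of group schemes. -/
theorem transport {S : Scheme.{u}} {G G₀ H : Over S} [GrpObj G] [GrpObj G₀]
    (e : Grp.mk G ≅ Grp.mk G₀) (i : H ⟶ G)
    (h : ∃ φ₀ : G₀ ⟶ G₀, IsMonHom φ₀ ∧ AlgGrp.IsKernel (i ≫ e.hom.hom.hom) φ₀ ∧ Flat φ₀.left ∧
      Surjective φ₀.left) :
    ∃ φ : G ⟶ G, IsMonHom φ ∧ AlgGrp.IsKernel i φ ∧ Flat φ.left ∧ Surjective φ.left := by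
  obtain ⟨φ₀, hm, hk, hf, hs⟩ := h
  have hε : e.hom.hom.hom ≫ e.inv.hom.hom = 𝟙 G := by
    exact congrArg (fun f => f.hom.hom) e.hom_inv_id
  have hε' : e.inv.hom.hom ≫ e.hom.hom.hom = 𝟙 G₀ := by
    exact congrArg (fun f => f.hom.hom) e.inv_hom_id
  let εiso : G ≅ G₀ := ⟨e.hom.hom.hom, e.inv.hom.hom, hε, hε'⟩
  refine ⟨e.hom.hom.hom ≫ φ₀ ≫ e.inv.hom.hom, inferInstance, ?_, ?_, ?_⟩
  · refine IsPullback.of_iso hk (Iso.refl H) εiso.symm (Iso.refl _) εiso.symm ?_ ?_ ?_ ?_
    · simp [εiso, hε]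
    · simp
    · simp [εiso, reassoc_of% hε']
    · simp [εiso, IsMonHom.one_hom]
  · have : IsIso e.hom.hom.hom.left := (inferInstance : IsIso ((Over.forget _).map εiso.hom))
    have : IsIso e.inv.hom.hom.left := (inferInstance : IsIso ((Over.forget _).map εiso.inv))
    rw [Over.comp_left, Over.comp_left]
    infer_instance
  · have : IsIso e.hom.hom.hom.left := (inferInstance : IsIso ((Over.forget _).map εiso.hom))
    have : IsIso e.inv.hom.hom.left := (inferInstance : IsIso ((Over.forget _).map εiso.inv))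
    rw [Over.comp_left, Over.comp_left]
    infer_instance

open Groth.Agent.Lib.Seat19.GaQuot Groth.Agent.Lib.Seat19.GmQuot in
theorem exists_endo_of_finite_subgroup
    (K : Type u) [Field K] (G H : Over (Spec (CommRingCat.of K))) [GrpObj G] [GrpObj H]
    (hG : Nonempty (Grp.mk G ≅ Grp.mk (Red.Ga (Spec (CommRingCat.of K)))) ∨
      Nonempty (Grp.mk G ≅ Grp.mk (Red.Gm (Spec (CommRingCat.of K)))))
    (i : H ⟶ G) [IsMonHom i] [Mono i] [IsFinite H.hom] :
    ∃ φ : G ⟶ G, IsMonHom φ ∧ AlgGrp.IsKernel i φ ∧ Flat φ.left ∧ Surjective φ.left := by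
  rcases hG with ⟨⟨e⟩⟩ | ⟨⟨e⟩⟩
  · have hε : e.hom.hom.hom ≫ e.inv.hom.hom = 𝟙 G := by
      exact congrArg (fun f => f.hom.hom) e.hom_inv_id
    have : Mono e.hom.hom.hom := (SplitMono.mk _ hε).mono
    exact transport e i (ga_case (i ≫ e.hom.hom.hom))
  · have hε : e.hom.hom.hom ≫ e.inv.hom.hom = 𝟙 G := by
      exact congrArg (fun f => f.hom.hom) e.hom_inv_id
    have : Mono e.hom.hom.hom := (SplitMono.mk _ hε).mono
    exact transport e i (gm_case (i ≫ e.hom.hom.hom))

end Groth.Agent.Lib.Seat19.GaGmQuot
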