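import Mathlib
import Groth.Prelude.Def_AlgGrp

/-!
# Kernels of homomorphisms of group schemes, and uniqueness of faithfully flat quotients (seat 19)

* `kerObj f`, `kerι f`: the kernel of a homomorphism `f : G ⟶ H` of group schemes over `S`, as the fibre of `f`
  over the unit section; `isKernel_kerι`, `kerι_mul`, finiteness.
* `comp_eq_of_isKernel`: a homomorphism killing the kernel of `φ` is constant on the fibres of `φ` (on points).
* `exists_iso_of_isKernel`: two faithfully flat quasi-compact homomorphisms out of `G` with the same kernel have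
  isomorphic targets (as group schemes, compatibly).
-/

set_option autoImplicit false
universe u

open CategoryTheory MonoidalCategory CartesianMonoidalCategory MonObj GrpObj AlgebraicGeometry CategoryTheory.Limits

namespace Groth.Agent.Lib.Seat19.GrpKer

variable {S : Scheme.{u}}

section Ker

variable {G H : Over S} [GrpObj H] (f : G ⟶ H)

/-- the kernel of `f`: the fibre of `f` over the unit section of `H`. -/
noncomputable def kerObj : Over S :=
  Over.mk (pullback.snd f.left (η[H]).left : pullback f.left (η[H]).left ⟶ S)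

/-- the inclusion of the kernel. -/
noncomputable def kerι : kerObj f ⟶ G :=
  Over.homMk (pullback.fst f.left (η[H]).left) (by
    have h1 : f.left ≫ H.hom = G.hom := Over.w f
    have h2 : (η[H]).left ≫ H.hom = 𝟙 S := Over.w (η[H])
    change pullback.fst f.left (η[H]).left ≫ G.hom = pullback.snd f.left (η[H]).left
    rw [← h1, pullback.condition_assoc, h2]
    exact Category.comp_id _)

lemma kerι_left : (kerι f).left = pullback.fst f.left (η[H]).left := rfl

lemma toUnit_left_eq (T : Over S) : (toUnit T).left = T.hom := by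
  have := Over.w (toUnit T)
  exact (Category.comp_id _).symm.trans this

lemma kerι_comp : kerι f ≫ f = toUnit (kerObj f) ≫ η[H] := by
  ext
  rw [Over.comp_left, Over.comp_left, kerι_left, toUnit_left_eq]
  exact pullback.condition

theorem exists_lift_kerι {T : Over S} (x : T ⟶ G) (hx : x ≫ f = toUnit T ≫ η[H]) :
    ∃ n : T ⟶ kerObj f, n ≫ kerι f = x := by
  have h1 : x.left ≫ f.left = T.hom ≫ (η[H]).left := by
    have := congrArg Over.Hom.left hx
    rw [Over.comp_left, Over.comp_left, toUnit_left_eq] at this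
    exact this
  refine ⟨Over.homMk (pullback.lift x.left T.hom h1) (pullback.lift_snd _ _ _), ?_⟩
  ext
  exact pullback.lift_fst _ _ _

instance mono_kerι : Mono (kerι f) := by
  constructor
  intro T a b hab
  ext
  apply pullback.hom_ext
  · have := congrArg Over.Hom.left hab
    exact this
  · have h1 : a.left ≫ pullback.snd f.left (η[H]).left = T.hom := Over.w a
    have h2 : b.left ≫ pullback.snd f.left (η[H]).left = T.hom := Over.w b
    exact h1.trans h2.symm

theorem isKernel_kerι : AlgGrp.IsKernel (kerι f) f := by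
  have hl : ∀ s : PullbackCone f η[H], ∃ n : s.pt ⟶ kerObj f, n ≫ kerι f = s.fst := by
    intro s
    apply exists_lift_kerι
    rw [s.condition]
    congr 1
    exact toUnit_unique _ _
  refine ⟨⟨kerι_comp f⟩, ⟨PullbackCone.IsLimit.mk _
    (fun s => Classical.choose (hl s))
    (fun s => Classical.choose_spec (hl s))
    (fun s => toUnit_unique _ _) (fun s m hm _ => ?_)⟩⟩
  rw [← cancel_mono (kerι f), hm]
  exact (Classical.choose_spec (hl s)).symm

instance isFinite_kerObj [IsFinite f.left] : IsFinite (kerObj f).hom := by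
  change IsFinite (pullback.snd f.left (η[H]).left)
  infer_instance

end Ker

section KerGrp

variable {G H : Over S} [GrpObj G] [GrpObj H] (f : G ⟶ H) [IsMonHom f]

lemma one_eq (T : Over S) : toUnit T ≫ η[H] = (1 : T ⟶ H) := by
  rw [MonObj.one_eq_one, MonObj.comp_one]

/-- the kernel is closed under multiplication on points. -/
theorem kerι_mul (T : Over S) (h₁ h₂ : T ⟶ kerObj f) :
    ∃ h₃ : T ⟶ kerObj f, h₃ ≫ kerι f = (h₁ ≫ kerι f) * (h₂ ≫ kerι f) := by
  apply exists_lift_kerι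
  rw [MonObj.mul_comp, Category.assoc, Category.assoc, kerι_comp, ← Category.assoc, ← Category.assoc,
    toUnit_unique (h₁ ≫ toUnit _) (toUnit T), toUnit_unique (h₂ ≫ toUnit _) (toUnit T), one_eq,
    _root_.mul_one]

/-- the kernel has the unit section. -/
theorem kerι_one : ∃ n : 𝟙_ (Over S) ⟶ kerObj f, n ≫ kerι f = 1 := by
  apply exists_lift_kerι
  rw [MonObj.one_comp, one_eq]

end KerGrp

section Compare

variable {G Q₁ Q₂ N : Over S} [GrpObj G] [GrpObj Q₁] [GrpObj Q₂]
  (i : N ⟶ G) (φ₁ : G ⟶ Q₁) (φ₂ : G ⟶ Q₂) [IsMonHom φ₁] [IsMonHom φ₂]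

/-- a homomorphism killing the kernel of `φ₁` is constant on the fibres of `φ₁`. -/
theorem comp_eq_of_isKernel (h₁ : AlgGrp.IsKernel i φ₁) (h₂ : i ≫ φ₂ = toUnit N ≫ η[Q₂])
    {T : Over S} (x₁ x₂ : T ⟶ G) (h : x₁ ≫ φ₁ = x₂ ≫ φ₁) : x₁ ≫ φ₂ = x₂ ≫ φ₂ := by
  have e1 : (x₁ * x₂⁻¹) ≫ φ₁ = toUnit T ≫ η[Q₁] := by
    rw [MonObj.mul_comp, GrpObj.inv_comp, h, mul_inv_cancel, one_eq]
  obtain ⟨n, hn, -⟩ := h₁.exists_lift (x₁ * x₂⁻¹) (toUnit T) e1
  have e2 : (x₁ * x₂⁻¹) ≫ φ₂ = 1 := by
    rw [← hn, Category.assoc, h₂, ← Category.assoc, toUnit_unique (n ≫ toUnit N) (toUnit T), one_eq]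
  rw [MonObj.mul_comp, GrpObj.inv_comp] at e2
  exact mul_inv_eq_one.mp e2

/-- descent of a morphism constant on the fibres of a faithfully flat quasi-compact homomorphism. -/
theorem exists_desc (h₁ : AlgGrp.IsKernel i φ₁) (h₂ : i ≫ φ₂ = toUnit N ≫ η[Q₂])
    [Flat φ₁.left] [Surjective φ₁.left] [QuasiCompact φ₁.left] :
    ∃ g : Q₁ ⟶ Q₂, φ₁ ≫ g = φ₂ := by
  have hc : ∀ {Z : Scheme.{u}} (g₁ g₂ : Z ⟶ G.left), g₁ ≫ φ₁.left = g₂ ≫ φ₁.left →
      g₁ ≫ φ₂.left = g₂ ≫ φ₂.left := by
    intro Z g₁ g₂ h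
    have hw : g₂ ≫ G.hom = g₁ ≫ G.hom := by
      rw [← Over.w φ₁, ← Category.assoc, ← Category.assoc, h]
    let T : Over S := Over.mk (g₁ ≫ G.hom)
    let x₁ : T ⟶ G := Over.homMk g₁ rfl
    let x₂ : T ⟶ G := Over.homMk g₂ hw
    have hx : x₁ ≫ φ₁ = x₂ ≫ φ₁ := by
      ext
      exact h
    have := congrArg Over.Hom.left (comp_eq_of_isKernel i φ₁ φ₂ h₁ h₂ x₁ x₂ hx)
    exact this
  let gl : Q₁.left ⟶ Q₂.left := EffectiveEpi.desc φ₁.left φ₂.left hc
  have hgl : φ₁.left ≫ gl = φ₂.left := EffectiveEpi.fac φ₁.left φ₂.left hc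
  have hov : gl ≫ Q₂.hom = Q₁.hom := by
    rw [← cancel_epi φ₁.left, ← Category.assoc, hgl, Over.w φ₂, Over.w φ₁]
  refine ⟨Over.homMk gl hov, ?_⟩
  ext
  exact hgl

instance epi_of_fpqc {X Y : Over S} (f : X ⟶ Y) [Flat f.left] [Surjective f.left] [QuasiCompact f.left] :
    Epi f := by
  have : Epi ((Over.forget S).map f) := by
    change Epi f.left
    infer_instance
  exact (Over.forget S).epi_of_epi_map this

/-- two faithfully flat quasi-compact homomorphisms with the same kernel have isomorphic targets. -/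
theorem exists_iso_of_isKernel (h₁ : AlgGrp.IsKernel i φ₁) (h₂ : AlgGrp.IsKernel i φ₂)
    [Flat φ₁.left] [Surjective φ₁.left] [QuasiCompact φ₁.left]
    [Flat φ₂.left] [Surjective φ₂.left] [QuasiCompact φ₂.left] :
    ∃ e : Q₁ ≅ Q₂, IsMonHom e.hom ∧ φ₁ ≫ e.hom = φ₂ := by
  obtain ⟨g, hg⟩ := exists_desc i φ₁ φ₂ h₁ h₂.w
  obtain ⟨g', hg'⟩ := exists_desc i φ₂ φ₁ h₂ h₁.w
  have e1 : g ≫ g' = 𝟙 Q₁ := by
    rw [← cancel_epi φ₁, ← Category.assoc, hg, hg', Category.comp_id]
  have e2 : g' ≫ g = 𝟙 Q₂ := by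
    rw [← cancel_epi φ₂, ← Category.assoc, hg', hg, Category.comp_id]
  refine ⟨⟨g, g', e1, e2⟩, ?_, hg⟩
  have hfl : Flat (φ₁ ⊗ₘ φ₁).left := by
    rw [Over.tensorHom_left]
    exact MorphismProperty.pullbackMap (P := @Flat.{u}) inferInstance inferInstance
      (Over.w φ₁).symm (Over.w φ₁).symm
  have hsu : Surjective (φ₁ ⊗ₘ φ₁).left := by
    have : MorphismProperty.IsStableUnderComposition @Surjective.{u} :=
      ⟨fun f g (hf : Surjective f) (hg : Surjective g) => (inferInstance : Surjective (f ≫ g))⟩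
    rw [Over.tensorHom_left]
    exact MorphismProperty.pullbackMap (P := @Surjective.{u}) inferInstance inferInstance
      (Over.w φ₁).symm (Over.w φ₁).symm
  have hqc : QuasiCompact (φ₁ ⊗ₘ φ₁).left := by
    rw [Over.tensorHom_left]
    exact MorphismProperty.pullbackMap (P := @QuasiCompact.{u}) inferInstance inferInstance
      (Over.w φ₁).symm (Over.w φ₁).symm
  refine ⟨?_, ?_⟩
  · change η[Q₁] ≫ g = η[Q₂]
    rw [← IsMonHom.one_hom (f := φ₁), Category.assoc, hg, IsMonHom.one_hom]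
  · change μ[Q₁] ≫ g = (g ⊗ₘ g) ≫ μ[Q₂]
    rw [← cancel_epi (φ₁ ⊗ₘ φ₁), ← Category.assoc, ← IsMonHom.mul_hom, Category.assoc, hg,
      ← Category.assoc, tensorHom_comp_tensorHom, hg, IsMonHom.mul_hom]

end Compare

end Groth.Agent.Lib.Seat19.GrpKer
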