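import Mathlib.Tactic
import Groth.Prelude.Def_Red2
import Groth.Prelude.Def_AlgGrp
import Groth.Agent.Lib.Seat19GaQuot
import Groth.Agent.Lib.Seat19GrpKer
import Groth.Agent.Lib.Helper6SmGeom
import Groth.Agent.S5355

/-!
# Isogenies out of `𝔾_a` over a field (seat 19)

A variant of `Seat19GaQuot` for a finite subscheme of `𝔾_a` closed under addition on points (no group object
structure needed), and the kernel of a finite homomorphism `𝔾_a ⟶ H`.
-/

set_option autoImplicit false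
universe u

open CategoryTheory MonoidalCategory CartesianMonoidalCategory MonObj GrpObj AlgebraicGeometry CategoryTheory.Limits
open Polynomial TensorProduct
open Groth.Agent.Lib.Helper27.GaGm Groth.Agent.Lib.Seat19.GaGmPts Groth.Agent.Lib.Seat19.GaGmAlg
open Groth.Agent.Lib.Seat19.GaQuot

namespace Groth.Agent.Lib.Seat19.GaIsog

attribute [local instance] kAlg

variable {K : Type u} [Field K]

section Sub

variable {N : Over (Spec (CommRingCat.of K))}
  (i : N ⟶ Red.Ga (Spec (CommRingCat.of K))) [Mono i] [IsAffine N.left]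
  [Module.Finite K Γ(N.left, ⊤)]
  (hmul : ∀ (T : Over (Spec (CommRingCat.of K))) (h₁ h₂ : T ⟶ N),
    ∃ h₃ : T ⟶ N, h₃ ≫ i = (h₁ ≫ i) * (h₂ ≫ i))

include hmul in
omit [Mono i] [Module.Finite K Γ(N.left, ⊤)] in
theorem ga_tensor' :
    aeval ((Red.gaFn i) ⊗ₜ[K] (1 : Γ(N.left, ⊤)) + (1 : Γ(N.left, ⊤)) ⊗ₜ[K] (Red.gaFn i))
      (minpoly K (Red.gaFn i)) = 0 := by
  let e := gsec (K := K) (Γ(N.left, ⊤) ⊗[K] Γ(N.left, ⊤))
  obtain ⟨h₁, hh₁⟩ := affPt_exists (H := N) (X := specO (Γ(N.left, ⊤) ⊗[K] Γ(N.left, ⊤)))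
    (e.toAlgHom.comp Algebra.TensorProduct.includeLeft)
  obtain ⟨h₂, hh₂⟩ := affPt_exists (H := N) (X := specO (Γ(N.left, ⊤) ⊗[K] Γ(N.left, ⊤)))
    (e.toAlgHom.comp Algebra.TensorProduct.includeRight)
  obtain ⟨h₃, hh₃⟩ := hmul _ h₁ h₂
  have h := ga_aeval_comp i h₃
  have h3 : Red.gaFn (h₃ ≫ i) =
      e ((Red.gaFn i) ⊗ₜ[K] (1 : Γ(N.left, ⊤)) + (1 : Γ(N.left, ⊤)) ⊗ₜ[K] (Red.gaFn i)) := by
    have e1 : Red.gaFn (h₃ ≫ i) = pull h₁ (Red.gaFn i) + pull h₂ (Red.gaFn i) :=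
      (congrArg Red.gaFn hh₃).trans ((gaFn_mul _ _).trans
        (congrArg₂ (· + ·) (gaFn_comp' h₁ i) (gaFn_comp' h₂ i)))
    have e2 : pull h₁ (Red.gaFn i) = e ((Red.gaFn i) ⊗ₜ[K] (1 : Γ(N.left, ⊤))) := hh₁ _
    have e3 : pull h₂ (Red.gaFn i) = e ((1 : Γ(N.left, ⊤)) ⊗ₜ[K] (Red.gaFn i)) := hh₂ _
    exact e1.trans ((congrArg₂ (· + ·) e2 e3).trans (map_add e _ _).symm)
  have h4 := (congrArg (fun t => aeval t (minpoly K (Red.gaFn i))) h3).symm.trans h
  have h5 := (aeval_algHom_apply e.toAlgHom _ (minpoly K (Red.gaFn i))).symm.trans h4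
  exact e.injective (h5.trans (map_zero e).symm)

include hmul in
theorem ga_additive' [Nontrivial Γ(N.left, ⊤)] {R : Type*} [CommRing R] [Algebra K R] (x y : R) :
    aeval (x + y) (minpoly K (Red.gaFn i)) =
      aeval x (minpoly K (Red.gaFn i)) + aeval y (minpoly K (Red.gaFn i)) := by
  have h0 : aeval ((gaPB i).gen ⊗ₜ[K] (1 : Γ(N.left, ⊤)) + (1 : Γ(N.left, ⊤)) ⊗ₜ[K] (gaPB i).gen)
      (minpoly K (gaPB i).gen) = 0 := by
    rw [gaPB_gen]; exact ga_tensor' i hmul
  have := aeval_add_of_tensor (gaPB i) h0 x y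
  rwa [gaPB_gen] at this

end Sub

/-- a finite subscheme of `𝔾_a` over a field which is non-empty and closed under addition on points is the kernel of a
faithfully flat endomorphism of `𝔾_a`. -/
theorem ga_case' {N : Over (Spec (CommRingCat.of K))}
    (i : N ⟶ Red.Ga (Spec (CommRingCat.of K))) [Mono i] [IsFinite N.hom]
    (hne : Nontrivial Γ(N.left, ⊤))
    (hmul : ∀ (T : Over (Spec (CommRingCat.of K))) (h₁ h₂ : T ⟶ N),
      ∃ h₃ : T ⟶ N, h₃ ≫ i = (h₁ ≫ i) * (h₂ ≫ i)) :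
    ∃ φ : Red.Ga (Spec (CommRingCat.of K)) ⟶ Red.Ga (Spec (CommRingCat.of K)),
      IsMonHom φ ∧ AlgGrp.IsKernel i φ ∧ Flat φ.left ∧ Surjective φ.left := by
  have := isAffine_of_isFinite N
  have := finite_of_isFinite N
  have hint : IsIntegral K (Red.gaFn i) := Algebra.IsIntegral.isIntegral _
  have hmonic : (minpoly K (Red.gaFn i)).Monic := minpoly.monic hint
  have hd : (minpoly K (Red.gaFn i)).natDegree ≠ 0 := (minpoly.natDegree_pos hint).ne'
  exact ⟨gaPhi (minpoly K (Red.gaFn i)), isMonHom_gaPhi _ (fun X x y => ga_additive' i hmul x y),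
    isKernel_gaPhi i, flat_surjective_gaPhi _ hmonic hd⟩

/-- a `K`-scheme with a `K`-point has a nonzero ring of functions. -/
theorem nontrivial_of_section {X : Over (Spec (CommRingCat.of K))}
    (n : 𝟙_ (Over (Spec (CommRingCat.of K))) ⟶ X) : Nontrivial Γ(X.left, ⊤) := by
  have h1 : Nontrivial Γ((𝟙_ (Over (Spec (CommRingCat.of K)))).left, ⊤) := by
    change Nontrivial Γ(Spec (CommRingCat.of K), ⊤)
    exact (Scheme.ΓSpecIso (CommRingCat.of K)).commRingCatIsoToRingEquiv.symm.injective.nontrivial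
  exact (pull n).toRingHom.domain_nontrivial

instance isAffine_Ga : IsAffine (Red.Ga (Spec (CommRingCat.of K))).left := by
  have : IsIso (gaIso (K := K)).inv.left :=
    (inferInstance : IsIso ((Over.forget _).map (gaIso (K := K)).inv))
  have : IsAffine (specO (K := K) K[X]).left := inferInstance
  exact IsAffine.of_isIso (gaIso (K := K)).inv.left

open Groth.Agent.Lib.Seat19.GrpKer in
/-- the target of an isogeny out of `𝔾_a` onto a smooth affine group is `𝔾_a`. -/
theorem nonempty_iso_Ga_of_isogeny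
    (H : Over (Spec (CommRingCat.of K))) [GrpObj H] [IsAffine H.left] [Smooth H.hom]
    (f : Red.Ga (Spec (CommRingCat.of K)) ⟶ H) [IsMonHom f] [IsFinite f.left] [Surjective f.left] :
    Nonempty (Grp.mk H ≅ Grp.mk (Red.Ga (Spec (CommRingCat.of K)))) := by
  obtain ⟨n, -⟩ := kerι_one f
  have hne : Nontrivial Γ((kerObj f).left, ⊤) := nontrivial_of_section n
  obtain ⟨φ, hφm, hφk, hφf, hφs⟩ := ga_case' (kerι f) hne (kerι_mul f)
  have hred : IsReduced H.left :=
    Groth.Agent.Lib.Helper6.SmGeom.isReduced_of_smooth_over_field K H.left H.hom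
  have hqf : QuasiCompact f.left := inferInstance
  have hqφ : QuasiCompact φ.left := inferInstance
  have hff : Flat f.left :=
    (Groth.Agent.S5355.result K _ H f f.left.surjective.denseRange).2 hred
  obtain ⟨e, he, -⟩ := exists_iso_of_isKernel (kerι f) φ f hφk (isKernel_kerι f)
  exact ⟨(Grp.mkIso' e).symm⟩

end Groth.Agent.Lib.Seat19.GaIsog
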