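import Mathlib

/-!
# The rank idempotents of an idempotent matrix (helper19)

For an idempotent matrix `E` over a commutative ring, `gp E = det (1 - E + X • E)` is a polynomial
whose coefficients are orthogonal idempotents summing to `1`.
-/

set_option autoImplicit false
set_option linter.unusedSectionVars false
universe u

open Polynomial Matrix

namespace Groth.Agent.Lib.Seat19.IdemDet

variable {R : Type*} [CommRing R] {n : ℕ} (E : Matrix (Fin n) (Fin n) R)

/-- the rank polynomial `det (1 - E + X • E)` -/
noncomputable def gp : R[X] := (1 - E.map C + (X : R[X]) • E.map C).det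

theorem eval₂_gp {T : Type*} [CommRing T] (φ : R →+* T) (u : T) :
    (gp E).eval₂ φ u = (1 - E.map φ + u • E.map φ).det := by
  unfold gp
  rw [← Polynomial.coe_eval₂RingHom, RingHom.map_det]
  congr 1
  ext i j
  by_cases hij : i = j
  · subst hij
    simp [Matrix.map_apply, Matrix.add_apply, Matrix.sub_apply, Matrix.smul_apply]
    ring
  · simp [Matrix.map_apply, Matrix.add_apply, Matrix.sub_apply, Matrix.smul_apply,
      Matrix.one_apply_ne hij]
    ring

theorem gp_map {T : Type*} [CommRing T] (φ : R →+* T) : gp (E.map φ) = (gp E).map φ := by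
  unfold gp
  rw [← Polynomial.coe_mapRingHom, RingHom.map_det]
  congr 1
  ext i j k
  by_cases hij : i = j
  · subst hij
    simp [Matrix.map_apply, Matrix.add_apply, Matrix.sub_apply, Matrix.smul_apply]
  · simp [Matrix.map_apply, Matrix.add_apply, Matrix.sub_apply, Matrix.smul_apply,
      Matrix.one_apply_ne hij]

theorem natDegree_gp_le : (gp E).natDegree ≤ n := by
  have h := Polynomial.natDegree_det_X_add_C_le E (1 - E)
  rw [Fintype.card_fin] at h
  have e : (X : R[X]) • E.map C + (1 - E).map C = 1 - E.map C + (X : R[X]) • E.map C := by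
    ext i j k
    by_cases hij : i = j
    · subst hij
      simp [Matrix.map_apply, Matrix.add_apply, Matrix.sub_apply, Matrix.smul_apply]
      ring
    · simp [Matrix.map_apply, Matrix.add_apply, Matrix.sub_apply, Matrix.smul_apply,
        Matrix.one_apply_ne hij]
      ring
  rw [e] at h
  exact h

variable {E}

theorem mul_formula {T : Type*} [CommRing T] {F : Matrix (Fin n) (Fin n) T} (hF : F * F = F)
    (u v : T) : (1 - F + u • F) * (1 - F + v • F) = 1 - F + (u * v) • F := by
  simp only [mul_add, add_mul, mul_sub, sub_mul, mul_one, one_mul, Matrix.smul_mul,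
    Matrix.mul_smul, hF, smul_smul]
  rw [mul_comm v u]
  abel

theorem map_idem {T : Type*} [CommRing T] (hE : E * E = E) (φ : R →+* T) :
    E.map φ * E.map φ = E.map φ := by
  rw [← Matrix.map_mul, hE]

theorem eval₂_mul {T : Type*} [CommRing T] (hE : E * E = E) (φ : R →+* T) (u v : T) :
    (gp E).eval₂ φ u * (gp E).eval₂ φ v = (gp E).eval₂ φ (u * v) := by
  rw [eval₂_gp, eval₂_gp, eval₂_gp, ← Matrix.det_mul, mul_formula (map_idem hE φ)]

theorem eval_one : (gp E).eval 1 = 1 := by
  have := eval₂_gp E (RingHom.id R) 1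
  rw [Polynomial.eval₂_id] at this
  rw [this]
  simp

variable (E) in
/-- the rank idempotents -/
noncomputable def ε (r : ℕ) : R := (gp E).coeff r

theorem eval_mul_ε (hE : E * E = E) (c : R) (r : ℕ) : (gp E).eval c * ε E r = ε E r * c ^ r := by
  have h := eval₂_mul hE (C : R →+* R[X]) (C c) X
  have e1 : (gp E).eval₂ C (C c) = C ((gp E).eval c) := by
    have := Polynomial.hom_eval₂ (gp E) (RingHom.id R) (C : R →+* R[X]) c
    rw [RingHom.comp_id] at this
    rw [← this, Polynomial.eval₂_id]
  have e2 : (gp E).eval₂ C X = gp E := Polynomial.eval₂_C_X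
  have e3 : (gp E).eval₂ C (C c * X) = (gp E).comp (C c * X) := rfl
  rw [e1, e2, e3] at h
  have := congrArg (fun q : R[X] => q.coeff r) h
  simp only [Polynomial.coeff_C_mul, Polynomial.comp_C_mul_X_coeff] at this
  exact this

theorem ε_map {T : Type*} [CommRing T] (φ : R →+* T) (r : ℕ) : ε (E.map φ) r = φ (ε E r) := by
  unfold ε
  rw [gp_map, Polynomial.coeff_map]

theorem ε_mul_ε (hE : E * E = E) (r s : ℕ) : ε E s * ε E r = if s = r then ε E r else 0 := by
  have h := eval_mul_ε (map_idem hE (C : R →+* R[X])) X r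
  rw [gp_map, Polynomial.eval_map, Polynomial.eval₂_C_X, ε_map] at h
  have := congrArg (fun q : R[X] => q.coeff s) h
  simp only [Polynomial.coeff_mul_C, Polynomial.coeff_C_mul_X_pow] at this
  exact this

theorem ε_idem (hE : E * E = E) (r : ℕ) : ε E r * ε E r = ε E r := by
  rw [ε_mul_ε hE, if_pos rfl]

theorem ε_orth (hE : E * E = E) {r s : ℕ} (h : s ≠ r) : ε E s * ε E r = 0 := by
  rw [ε_mul_ε hE, if_neg h]

variable (E) in
theorem sum_ε : ∑ r ∈ Finset.range (n + 1), ε E r = 1 := by
  have h := Polynomial.eval_eq_sum_range' (Nat.lt_succ_of_le (natDegree_gp_le E)) 1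
  rw [eval_one] at h
  simp only [one_pow, mul_one] at h
  exact h.symm

variable (E) in
/-- the value of the rank polynomial -/
theorem det_eq_sum {T : Type*} [CommRing T] (φ : R →+* T) (a : T) :
    (1 - E.map φ + a • E.map φ).det = ∑ r ∈ Finset.range (n + 1), φ (ε E r) * a ^ r := by
  rw [← eval₂_gp]
  exact Polynomial.eval₂_eq_sum_range' φ (Nat.lt_succ_of_le (natDegree_gp_le E)) a

variable (E) in
theorem ε_zero : ε E 0 = (1 - E).det := by
  unfold ε
  rw [Polynomial.coeff_zero_eq_eval_zero]
  have := eval₂_gp E (RingHom.id R) 0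
  rw [Polynomial.eval₂_id] at this
  rw [this]
  simp

variable (E) in
/-- a matrix fixing a unimodular vector has `det (1 - E) = 0` -/
theorem det_one_sub_eq_zero (w : Fin n → R) (hw : E.mulVec w = w) (l : (Fin n → R) →ₗ[R] R)
    (hl : l w = 1) : (1 - E).det = 0 := by
  have h1 : (1 - E).mulVec w = 0 := by
    rw [Matrix.sub_mulVec, Matrix.one_mulVec, hw, sub_self]
  have h2 : (1 - E).det • w = 0 := by
    have := congrArg (fun M : Matrix (Fin n) (Fin n) R => M.mulVec w) (Matrix.adjugate_mul (1 - E))
    simp only [← Matrix.mulVec_mulVec, h1, Matrix.mulVec_zero, Matrix.smul_mulVec,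
      Matrix.one_mulVec] at this
    exact this.symm
  have h3 := congrArg l h2
  rw [map_smul, hl, map_zero, smul_eq_mul, mul_one] at h3
  exact h3

end Groth.Agent.Lib.Seat19.IdemDet
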