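import Mathlib
import Groth.Agent.Lib.Helper2RetCharpoly
import Groth.Agent.Lib.Seat19IdemDet

/-!
# The idempotent matrix of a retract and the norm of a scalar (helper19)
-/

set_option autoImplicit false
set_option linter.style.haveILetI false
set_option linter.unusedSectionVars false
universe u

open CategoryTheory CategoryTheory.Limits TensorProduct Polynomial
open Groth.Agent.Lib.Helper2.RetCharpoly Groth.Agent.Lib.Seat19.IdemDet

namespace Groth.Agent.Lib.Seat19.RetMat

section basic
variable {R S : Type*} [CommRing R] [CommRing S] [Algebra R S] {n : ℕ} (r : Ret R S n)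

/-- the idempotent matrix of a retract -/
noncomputable def Emat : Matrix (Fin n) (Fin n) R := LinearMap.toMatrix' (r.i ∘ₗ r.p)

theorem Emat_idem : Emat r * Emat r = Emat r := by
  unfold Emat
  rw [← LinearMap.toMatrix'_comp]
  congr 1
  ext v j
  simp [Ret.pi_apply]

theorem toMatrix_endo_scalar (a : R) :
    LinearMap.toMatrix' (r.endo (Algebra.lmul R S (algebraMap R S a))) = a • Emat r := by
  unfold Emat
  rw [← map_smul]
  congr 1
  ext v j
  simp only [Ret.endo, LinearMap.comp_apply, Algebra.lmul_algebraMap, LinearMap.smul_apply,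
    Pi.smul_apply, smul_eq_mul]
  rw [Algebra.lsmul_coe, map_smul]
  rfl

theorem cp_scalar_eval_one (a : R) :
    (r.cp (Algebra.lmul R S (algebraMap R S a))).eval 1 = (1 - a • Emat r).det := by
  unfold Ret.cp
  rw [toMatrix_endo_scalar, Matrix.eval_charpoly]
  congr 1

theorem norm_scalar (a : R) :
    (r.cp (Algebra.lmul R S (algebraMap R S (1 - a)))).eval 1 =
      ∑ k ∈ Finset.range (n + 1), ε (Emat r) k * a ^ k := by
  rw [cp_scalar_eval_one]
  have h := det_eq_sum (Emat r) (RingHom.id R) a
  simp only [RingHom.id_apply] at h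
  rw [← h]
  congr 1
  rw [sub_smul, one_smul]
  abel

end basic

section BC
variable {R S T P : Type*} [CommRing R] [CommRing S] [CommRing T] [CommRing P]
  [Algebra R S] [Algebra R T] [Algebra S P] [Algebra T P] [Algebra R P]
  [IsScalarTower R S P] [IsScalarTower R T P] [Algebra.IsPushout R T S P] {n : ℕ}

theorem Emat_bc (r : Ret R S n) :
    Emat (r.bc (T := T) (P := P)) = (Emat r).map (algebraMap R T) := by
  ext j k
  unfold Emat
  rw [Matrix.map_apply, LinearMap.toMatrix'_apply, LinearMap.toMatrix'_apply]
  simp only [LinearMap.comp_apply, Ret.bc]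
  rw [Fintype.linearCombination_apply]
  have h1 : (∑ i, (Pi.single k (1 : T) : Fin n → T) i • algebraMap S P (r.p (Pi.single i 1))) =
      algebraMap S P (r.p (Pi.single k 1)) := by
    rw [Finset.sum_eq_single k]
    · simp
    · intro i _ hik
      simp [hik]
    · intro hk
      exact (hk (Finset.mem_univ k)).elim
  rw [h1, lift_algebraMap]
  simp

end BC

/-- retracts pass through pushouts of commutative rings, with their matrices -/
theorem ret_cat_mat {R S T P : CommRingCat.{u}} {f : R ⟶ S} {g : R ⟶ T} {inl : S ⟶ P}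
    {inr : T ⟶ P} (h : IsPushout f g inl inr) (n : ℕ)
    (r : letI := f.hom.toAlgebra; Ret R S n) :
    letI := f.hom.toAlgebra
    letI := inr.hom.toAlgebra
    ∃ r' : Ret T P n, Emat r' = (Emat r).map g.hom := by
  algebraize [f.hom, g.hom, inl.hom, inr.hom, inl.hom.comp f.hom]
  have : IsScalarTower R T P := .of_algebraMap_eq' <| congr($(h.1.1).hom)
  have h1 : Algebra.IsPushout R S T P := CommRingCat.isPushout_iff_isPushout.mp h
  have h2 : Algebra.IsPushout R T S P := h1.symm
  exact ⟨r.bc, Emat_bc r⟩

end Groth.Agent.Lib.Seat19.RetMat
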