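import Mathlib
import Groth.Agent.Lib.Seat19RGbc
import Groth.Agent.Lib.Seat19RetMat

/-!
# Invariants after base change: the norm of an invariant element (helper19)
-/

set_option autoImplicit false
set_option linter.style.haveILetI false
set_option linter.unusedSectionVars false
universe u

open CategoryTheory CategoryTheory.Limits Polynomial TensorProduct
open Groth.Agent.Lib.Helper2.RetCharpoly Groth.Agent.Lib.Seat19.IdemDet
open Groth.Agent.Lib.Seat19.RetMat Groth.Agent.Lib.Seat19.PO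

namespace Groth.Agent.Lib.Seat19.RG

namespace RGrpd

variable {K A B D : Type u} [CommRing K] [CommRing A] [CommRing B] [CommRing D]
  [Algebra K A] [Algebra K B] [Algebra K D] (G : RGrpd K A B D)
variable (K' : Type u) [CommRing K'] [Algebra K K']

/-- The norm `Σ ε_k F^k` of an invariant element `F` of `K' ⊗ A` comes from `K'`. -/
theorem exists_norm_bc (h : G.InvSurj) {n : ℕ}
    (r : letI := G.σ.toRingHom.toAlgebra; Ret A B n)
    (F : K' ⊗[K] A) (hF : (G.bc K').σ F = (G.bc K').τ F) :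
    letI := G.σ.toRingHom.toAlgebra
    ∃ N : K', algebraMap K' (K' ⊗[K] A) N =
      ∑ k ∈ Finset.range (n + 1),
        (Algebra.TensorProduct.includeRight (R := K) (A := K') (B := A) (IdemDet.ε (Emat r) k)) * F ^ k := by
  letI := G.σ.toRingHom.toAlgebra
  obtain ⟨P, hP⟩ := G.exists_poly K' h ⟨r⟩ (1 - F)
  letI := (G.bc K').σ.toRingHom.toAlgebra
  obtain ⟨r', hr'⟩ := ret_cat_mat (face K' G.σ).flip n r
  have hτ : (G.bc K').τ (1 - F) = algebraMap (K' ⊗[K] A) (K' ⊗[K] B) (1 - F) := by
    rw [map_sub, map_one, ← hF, ← map_one (G.bc K').σ, ← map_sub]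
    rfl
  have hu : P.map (algebraMap K' (K' ⊗[K] A)) =
      r'.cp (Algebra.lmul (K' ⊗[K] A) (K' ⊗[K] B) ((G.bc K').τ (1 - F))) :=
    IsRCP.unique hP ⟨r', rfl⟩
  rw [hτ] at hu
  have hev := congrArg (fun q : (K' ⊗[K] A)[X] => q.eval 1) hu
  simp only at hev
  have e := norm_scalar r' F
  have hev' : Polynomial.eval 1 (Polynomial.map (algebraMap K' (K' ⊗[K] A)) P) =
      ∑ k ∈ Finset.range (n + 1), IdemDet.ε (Emat r') k * F ^ k := hev.trans e
  refine ⟨P.eval 1, ?_⟩
  have e2 : Polynomial.eval 1 (Polynomial.map (algebraMap K' (K' ⊗[K] A)) P) =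
      algebraMap K' (K' ⊗[K] A) (P.eval 1) := by
    rw [Polynomial.eval_map, Polynomial.eval₂_at_one]
  rw [← e2, hev']
  refine Finset.sum_congr rfl fun k _ => ?_
  rw [hr', IdemDet.ε_map]
  rfl

end RGrpd

end Groth.Agent.Lib.Seat19.RG
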