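import Mathlib
import Groth.Agent.Lib.Seat19InvBC

/-!
# Invariants after base change: the polynomial norm (helper19)
-/

set_option autoImplicit false
set_option linter.style.haveILetI false
set_option linter.unusedSectionVars false
universe u

open CategoryTheory CategoryTheory.Limits Polynomial TensorProduct
open Groth.Agent.Lib.Helper2.RetCharpoly Groth.Agent.Lib.Seat19.IdemDet
open Groth.Agent.Lib.Seat19.RetMat Groth.Agent.Lib.Seat19.PO

namespace Groth.Agent.Lib.Seat19.RG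

section Phi

variable (K A K' : Type u) [CommRing K] [CommRing A] [CommRing K'] [Algebra K A] [Algebra K K']

/-- the comparison `K'[X] ⊗ A ⟶ (A ⊗ K')[X]` -/
noncomputable def Φ : K'[X] ⊗[K] A →ₐ[K] (A ⊗[K] K')[X] :=
  Algebra.TensorProduct.productMap
    (Polynomial.mapAlgHom (Algebra.TensorProduct.includeRight : K' →ₐ[K] A ⊗[K] K'))
    ((Polynomial.CAlgHom : (A ⊗[K] K') →ₐ[K] (A ⊗[K] K')[X]).comp
      (Algebra.TensorProduct.includeLeft : A →ₐ[K] A ⊗[K] K'))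

theorem Φ_tmul (q : K'[X]) (a : A) :
    Φ K A K' (q ⊗ₜ a) = q.map (Algebra.TensorProduct.includeRight : K' →ₐ[K] A ⊗[K] K').toRingHom *
      C (a ⊗ₜ 1) := by
  unfold Φ
  rw [Algebra.TensorProduct.productMap_apply_tmul]
  rfl

theorem Φ_algebraMap (q : K'[X]) :
    Φ K A K' (algebraMap K'[X] (K'[X] ⊗[K] A) q) =
      q.map (Algebra.TensorProduct.includeRight : K' →ₐ[K] A ⊗[K] K').toRingHom := by
  rw [Algebra.TensorProduct.algebraMap_apply, Algebra.algebraMap_self, RingHom.id_apply, Φ_tmul]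
  rw [← Algebra.TensorProduct.one_def, C_1, mul_one]

theorem Φ_includeRight (a : A) :
    Φ K A K' (Algebra.TensorProduct.includeRight a) = C (a ⊗ₜ 1) := by
  rw [Algebra.TensorProduct.includeRight_apply, Φ_tmul]
  simp

theorem Φ_X : Φ K A K' ((X : K'[X]) ⊗ₜ 1) = X := by
  rw [Φ_tmul, ← Algebra.TensorProduct.one_def, C_1, mul_one, Polynomial.map_X]

/-- `K' ⊗ A ⟶ K'[X] ⊗ A` -/
noncomputable def ι : K' ⊗[K] A →ₐ[K] K'[X] ⊗[K] A :=
  Algebra.TensorProduct.map (Polynomial.CAlgHom : K' →ₐ[K] K'[X]) (AlgHom.id K A)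

theorem Φ_ι (F : K' ⊗[K] A) :
    Φ K A K' (ι K A K' F) = C (Algebra.TensorProduct.comm K K' A F) := by
  induction F using TensorProduct.induction_on with
  | zero => simp
  | tmul k a =>
    unfold ι
    rw [Algebra.TensorProduct.map_tmul, Φ_tmul]
    simp only [CAlgHom_apply, AlgHom.coe_id, id_eq, AlgHom.toRingHom_eq_coe, map_C,
      RingHom.coe_coe, Algebra.TensorProduct.includeRight_apply,
      Algebra.TensorProduct.comm_tmul]
    rw [← C_mul, Algebra.TensorProduct.tmul_mul_tmul, one_mul, mul_one]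
  | add x y hx hy => simp only [map_add, hx, hy]

end Phi

namespace RGrpd

variable {K A B D : Type u} [CommRing K] [CommRing A] [CommRing B] [CommRing D]
  [Algebra K A] [Algebra K B] [Algebra K D] (G : RGrpd K A B D)
variable (K' : Type u) [CommRing K'] [Algebra K K']

theorem bc_σ_ι (F₀ : K' ⊗[K] A) :
    (G.bc K'[X]).σ (ι K A K' F₀) = ι K B K' ((G.bc K').σ F₀) :=
  (map_map_comm K'[X] (Polynomial.CAlgHom : K' →ₐ[K] K'[X]) G.σ F₀).symm

theorem bc_τ_ι (F₀ : K' ⊗[K] A) :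
    (G.bc K'[X]).τ (ι K A K' F₀) = ι K B K' ((G.bc K').τ F₀) :=
  (map_map_comm K'[X] (Polynomial.CAlgHom : K' →ₐ[K] K'[X]) G.τ F₀).symm

theorem exists_polyNorm (h : G.InvSurj) {n : ℕ}
    (r : letI := G.σ.toRingHom.toAlgebra; Ret A B n)
    (F₀ : K' ⊗[K] A) (hF₀ : (G.bc K').σ F₀ = (G.bc K').τ F₀) :
    letI := G.σ.toRingHom.toAlgebra
    ∃ N : K'[X],
      N.map (Algebra.TensorProduct.includeRight : K' →ₐ[K] A ⊗[K] K').toRingHom =
        ∑ k ∈ Finset.range (n + 1), C ((IdemDet.ε (Emat r) k) ⊗ₜ[K] (1 : K')) *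
          (X - C (Algebra.TensorProduct.comm K K' A F₀)) ^ k := by
  letI := G.σ.toRingHom.toAlgebra
  let F : K'[X] ⊗[K] A := (X : K'[X]) ⊗ₜ 1 - ι K A K' F₀
  have hX : (G.bc K'[X]).σ ((X : K'[X]) ⊗ₜ 1) = (G.bc K'[X]).τ ((X : K'[X]) ⊗ₜ 1) := by
    simp [RGrpd.bc]
  have hF : (G.bc K'[X]).σ F = (G.bc K'[X]).τ F := by
    simp only [F, map_sub]
    rw [hX, bc_σ_ι, bc_τ_ι, hF₀]
  obtain ⟨N, hN⟩ := G.exists_norm_bc K'[X] h r F hF
  refine ⟨N, ?_⟩
  have := congrArg (Φ K A K') hN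
  rw [Φ_algebraMap, map_sum] at this
  rw [this]
  refine Finset.sum_congr rfl fun k _ => ?_
  rw [map_mul, map_pow, Φ_includeRight]
  congr 2
  simp only [F, map_sub]
  rw [Φ_X, Φ_ι]

end RGrpd

end Groth.Agent.Lib.Seat19.RG
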