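import Mathlib
import Groth.Agent.Lib.Seat19InvBC2

/-!
# Invariants after base change: powers of `X - f` come from the base (helper19)
-/

set_option autoImplicit false
set_option linter.style.haveILetI false
set_option linter.unusedSectionVars false
universe u

open CategoryTheory CategoryTheory.Limits Polynomial TensorProduct
open Groth.Agent.Lib.Helper2.RetCharpoly Groth.Agent.Lib.Seat19.IdemDet
open Groth.Agent.Lib.Seat19.RetMat Groth.Agent.Lib.Seat19.PO

namespace Groth.Agent.Lib.Seat19.RG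

namespace RGrpd

variable {K A B D : Type u} [CommRing K] [CommRing A] [CommRing B] [CommRing D]
  [Algebra K A] [Algebra K B] [Algebra K D] (G : RGrpd K A B D)

/-- the rank-zero idempotent vanishes: `B` contains `A` as a direct summand -/
theorem ε_zero_eq_zero {n : ℕ} (r : letI := G.σ.toRingHom.toAlgebra; Ret A B n) :
    letI := G.σ.toRingHom.toAlgebra
    IdemDet.ε (Emat r) 0 = 0 := by
  letI := G.σ.toRingHom.toAlgebra
  rw [IdemDet.ε_zero]
  let εl : B →ₗ[A] A :=
    { toFun := G.ε
      map_add' := map_add G.ε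
      map_smul' := fun a b => by
        show G.ε (a • b) = a * G.ε b
        rw [Algebra.smul_def, map_mul]
        congr 1
        exact G.hεσ a }
  apply IdemDet.det_one_sub_eq_zero (Emat r) (r.i 1) ?_ (εl ∘ₗ r.p) ?_
  · unfold Emat
    rw [LinearMap.toMatrix'_mulVec]
    simp [Ret.pi_apply]
  · show G.ε (r.p (r.i 1)) = 1
    rw [Ret.pi_apply, map_one]

theorem coeff_sum_C_mul_X_pow {R : Type*} [CommRing R] (n : ℕ) (a : ℕ → R) (j : ℕ)
    (hj : j < n + 1) :
    (∑ k ∈ Finset.range (n + 1), C (a k) * (X : R[X]) ^ k).coeff j = a j := by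
  rw [Polynomial.finsetSum_coeff]
  simp only [Polynomial.coeff_C_mul_X_pow]
  rw [Finset.sum_eq_single j]
  · simp
  · intro k _ hk
    rw [if_neg (Ne.symm hk)]
  · intro hj'
    exact (hj' (Finset.mem_range.mpr hj)).elim

/-- the rank idempotents are invariants -/
theorem ε_mem_range (h : G.InvSurj) {n : ℕ}
    (r : letI := G.σ.toRingHom.toAlgebra; Ret A B n) (j : ℕ) (hj : j < n + 1) :
    letI := G.σ.toRingHom.toAlgebra
    IdemDet.ε (Emat r) j ∈ Set.range (algebraMap K A) := by
  letI := G.σ.toRingHom.toAlgebra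
  obtain ⟨N, hN⟩ := G.exists_polyNorm K h r 0 (by simp)
  have hc := congrArg (fun q : (A ⊗[K] K)[X] => q.coeff j) hN
  simp only [map_zero, sub_zero] at hc
  rw [coeff_sum_C_mul_X_pow n _ j hj, Polynomial.coeff_map] at hc
  refine ⟨N.coeff j, ?_⟩
  have := congrArg (Algebra.TensorProduct.rid K K A) hc
  simp only [AlgHom.toRingHom_eq_coe, RingHom.coe_coe, Algebra.TensorProduct.includeRight_apply,
    Algebra.TensorProduct.rid_tmul, one_smul] at this
  rw [← this, Algebra.algebraMap_eq_smul_one]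

variable (K' : Type u) [CommRing K'] [Algebra K K']

/-- powers of `X - f`, for `f` invariant after base change, come from polynomials over `K'` -/
theorem exists_pow_sub (h : G.InvSurj) (F₀ : K' ⊗[K] A)
    (hF₀ : (G.bc K').σ F₀ = (G.bc K').τ F₀) :
    ∃ (m : ℕ) (P : K'[X]), 0 < m ∧
      P.map (Algebra.TensorProduct.includeRight : K' →ₐ[K] A ⊗[K] K').toRingHom =
        (X - C (Algebra.TensorProduct.comm K K' A F₀)) ^ m := by
  letI := G.σ.toRingHom.toAlgebra
  obtain ⟨n, ⟨r⟩⟩ := G.exists_hasRet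
  obtain ⟨N, hN⟩ := G.exists_polyNorm K' h r F₀ hF₀
  set Z : (A ⊗[K] K')[X] := X - C (Algebra.TensorProduct.comm K K' A F₀) with hZ
  set incl := (Algebra.TensorProduct.includeRight : K' →ₐ[K] A ⊗[K] K').toRingHom with hincl
  -- the idempotents
  let e : ℕ → A ⊗[K] K' := fun k => (IdemDet.ε (Emat r) k) ⊗ₜ[K] (1 : K')
  have hE := Emat_idem r
  have he_mul : ∀ k j, e j * e k = if j = k then e k else 0 := by
    intro k j
    simp only [e]
    rw [Algebra.TensorProduct.tmul_mul_tmul, mul_one, IdemDet.ε_mul_ε hE]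
    split_ifs
    · rfl
    · rw [TensorProduct.zero_tmul]
  have he_sum : ∑ k ∈ Finset.range (n + 1), e k = 1 := by
    simp only [e]
    rw [← TensorProduct.sum_tmul, IdemDet.sum_ε, Algebra.TensorProduct.one_def]
  have he0 : e 0 = 0 := by
    simp only [e]
    rw [G.ε_zero_eq_zero r, TensorProduct.zero_tmul]
  -- they come from `K'`
  have hc : ∀ k, k < n + 1 → ∃ c : K', incl c = e k := by
    intro k hk
    obtain ⟨γ, hγ⟩ := G.ε_mem_range h r k hk
    refine ⟨algebraMap K K' γ, ?_⟩
    simp only [e, hincl, AlgHom.toRingHom_eq_coe, RingHom.coe_coe,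
      Algebra.TensorProduct.includeRight_apply]
    rw [← hγ, Algebra.algebraMap_eq_smul_one, Algebra.algebraMap_eq_smul_one,
      TensorProduct.smul_tmul]
  choose! c hc using hc
  -- e_k * W = e_k * Z^k
  have hW : ∀ k, k < n + 1 → C (e k) * N.map incl = C (e k) * Z ^ k := by
    intro k hk
    rw [hN, Finset.mul_sum, Finset.sum_eq_single k]
    · rw [← mul_assoc, ← C_mul, he_mul, if_pos rfl]
    · intro j _ hj
      rw [← mul_assoc, ← C_mul, mul_comm (e k) (e j), he_mul, if_neg hj, C_0, zero_mul]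
    · intro hk'
      exact (hk' (Finset.mem_range.mpr hk)).elim
  have he_pow : ∀ k (m : ℕ), 0 < m → (C (e k)) ^ m = C (e k) := by
    intro k m hm
    obtain ⟨m', rfl⟩ := Nat.exists_eq_succ_of_ne_zero hm.ne'
    induction m' with
    | zero => simp
    | succ m' ih =>
      rw [pow_succ, ih (Nat.succ_pos _), ← C_mul, he_mul, if_pos rfl]
  refine ⟨n.factorial, ∑ k ∈ Finset.Icc 1 n, (C (c k) * N) ^ (n.factorial / k),
    Nat.factorial_pos n, ?_⟩
  rw [Polynomial.map_sum]
  have hterm : ∀ k ∈ Finset.Icc 1 n,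
      ((C (c k) * N) ^ (n.factorial / k)).map incl = C (e k) * Z ^ n.factorial := by
    intro k hk
    obtain ⟨hk1, hkn⟩ := Finset.mem_Icc.mp hk
    have hk' : k < n + 1 := Nat.lt_succ_of_le hkn
    have hdvd : k ∣ n.factorial := Nat.dvd_factorial hk1 hkn
    have hpos : 0 < n.factorial / k :=
      Nat.div_pos (Nat.le_of_dvd (Nat.factorial_pos n) hdvd) hk1
    rw [Polynomial.map_pow, Polynomial.map_mul, Polynomial.map_C, hc k hk', hW k hk', mul_pow,
      he_pow k _ hpos, ← pow_mul, Nat.mul_div_cancel' hdvd]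
  rw [Finset.sum_congr rfl hterm, ← Finset.sum_mul, ← map_sum]
  have hsum : ∑ k ∈ Finset.Icc 1 n, e k = 1 := by
    rw [← he_sum, Finset.range_eq_Ico, Finset.sum_eq_sum_Ico_succ_bot (Nat.succ_pos n), he0,
      zero_add]
    rfl
  rw [hsum, C_1, one_mul]

end RGrpd

end Groth.Agent.Lib.Seat19.RG
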