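import Mathlib
import Groth.Prelude.Def_Grpd
import Groth.Agent.Lib.Seat19InvBC3
import Groth.Agent.Lib.Seat19Quot2

/-!
# Invariants after base change: the bridge to the scheme-level statement (helper19)
-/

set_option autoImplicit false
set_option linter.style.haveILetI false
set_option linter.unusedSectionVars false
universe u

open CategoryTheory CategoryTheory.Limits AlgebraicGeometry Polynomial TensorProduct
open Groth.Agent.Lib.Seat19.RG Groth.Agent.Lib.Seat19.RGofG Groth.Agent.Lib.Seat19.Quot2

namespace Groth.Agent.Lib.Seat19.InvBC4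

/-- surjectivity on prime spectra is stable under base change -/
theorem comap_surjective_baseChange {R S T : Type u} [CommRing R] [CommRing S] [CommRing T]
    [Algebra R S] [Algebra R T]
    (h : Function.Surjective (PrimeSpectrum.comap (algebraMap R S))) :
    Function.Surjective (PrimeSpectrum.comap
      (Algebra.TensorProduct.includeRight : T →ₐ[R] S ⊗[R] T).toRingHom) := by
  have h1 : Surjective (Spec.map (CommRingCat.ofHom (algebraMap R S))) := ⟨h⟩
  have h3 : Surjective (Spec.map (CommRingCat.ofHom
      (Algebra.TensorProduct.includeRight : T →ₐ[R] S ⊗[R] T).toRingHom)) := by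
    have e := pullbackSpecIso_inv_snd R S T
    have : Surjective ((pullbackSpecIso R S T).inv ≫ pullback.snd _ _) := inferInstance
    rw [e] at this
    exact this
  exact h3.surj

/-- kernel elements of `T → S ⊗ T` are nilpotent when `Spec S → Spec R` is surjective -/
theorem isNilpotent_of_includeRight_eq_zero {R S T : Type u} [CommRing R] [CommRing S]
    [CommRing T] [Algebra R S] [Algebra R T]
    (h : Function.Surjective (PrimeSpectrum.comap (algebraMap R S))) (c : T)
    (hc : (Algebra.TensorProduct.includeRight : T →ₐ[R] S ⊗[R] T) c = 0) : IsNilpotent c := by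
  rw [nilpotent_iff_mem_prime]
  intro J hJ
  obtain ⟨Q, hQ⟩ := comap_surjective_baseChange (T := T) h ⟨J, hJ⟩
  have : c ∈ (PrimeSpectrum.comap
      (Algebra.TensorProduct.includeRight : T →ₐ[R] S ⊗[R] T).toRingHom Q).asIdeal := by
    show (Algebra.TensorProduct.includeRight : T →ₐ[R] S ⊗[R] T) c ∈ Q.asIdeal
    rw [hc]
    exact zero_mem _
  rw [hQ] at this
  exact this

section ring

variable {K A B : Type u} [CommRing K] [CommRing A] [CommRing B] [Algebra K A] [Algebra K B]
  (K' : Type u) [CommRing K'] [Algebra K K']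

theorem map_comm_symm (σ : A →ₐ[K] B) (sT : A ⊗[K] K' →ₐ[K] B ⊗[K] K')
    (hs : ∀ (a : A) (c : K'), sT (a ⊗ₜ c) = σ a ⊗ₜ c) (f : A ⊗[K] K') :
    Algebra.TensorProduct.map (AlgHom.id K' K') σ ((Algebra.TensorProduct.comm K K' A).symm f) =
      (Algebra.TensorProduct.comm K K' B).symm (sT f) := by
  induction f using TensorProduct.induction_on with
  | zero => simp
  | tmul a c => simp [hs]
  | add x y hx hy => simp only [map_add, hx, hy]

end ring

section scheme

variable {S : Scheme.{u}} (G : Grpd.GroupoidScheme S) [IsAffine G.U] [IsAffine G.R]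
  [IsFinite G.s] [Flat G.s] [LocallyOfFinitePresentation G.s]
  (C' : Type u) [CommRing C'] [Algebra G.invariants C']

theorem comap_surjective_invariants :
    Function.Surjective (PrimeSpectrum.comap (algebraMap G.invariants Γ(G.U, ⊤))) := by
  have hint : Algebra.IsIntegral G.invariants Γ(G.U, ⊤) := (ofGroupoidInt G).isIntegral
  exact RingHom.IsIntegral.comap_surjective (f := algebraMap G.invariants Γ(G.U, ⊤))
    (algebraMap_isIntegral_iff.mpr hint) Subtype.val_injective

theorem main :
    letI : Algebra G.invariants Γ(G.R, ⊤) :=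
      (G.s.appTop.hom.comp G.invariants.subtype).toAlgebra
    ∀ (sT tT : TensorProduct G.invariants Γ(G.U, ⊤) C' →ₐ[G.invariants]
        TensorProduct G.invariants Γ(G.R, ⊤) C'),
      (∀ (a : Γ(G.U, ⊤)) (c : C'), sT (a ⊗ₜ c) = G.s.appTop.hom a ⊗ₜ c) →
      (∀ (a : Γ(G.U, ⊤)) (c : C'), tT (a ⊗ₜ c) = G.t.appTop.hom a ⊗ₜ c) →
      (∀ f : TensorProduct G.invariants Γ(G.U, ⊤) C', sT f = tT f →
        ∃ (n : ℕ) (P : Polynomial C'), 0 < n ∧
          Polynomial.map (Algebra.TensorProduct.includeRight :
            C' →ₐ[G.invariants] TensorProduct G.invariants Γ(G.U, ⊤) C').toRingHom P =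
            (Polynomial.X - Polynomial.C f) ^ n) ∧
      (∀ c : C', (Algebra.TensorProduct.includeRight :
          C' →ₐ[G.invariants] TensorProduct G.invariants Γ(G.U, ⊤) C') c = 0 → IsNilpotent c) ∧
      (Module.Flat G.invariants C' →
        Function.Injective (Algebra.TensorProduct.includeRight :
          C' →ₐ[G.invariants] TensorProduct G.invariants Γ(G.U, ⊤) C') ∧
        ∀ f : TensorProduct G.invariants Γ(G.U, ⊤) C', sT f = tT f →
          f ∈ Set.range (Algebra.TensorProduct.includeRight :
            C' →ₐ[G.invariants] TensorProduct G.invariants Γ(G.U, ⊤) C')) := by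
  letI := algB G
  letI := algD G
  intro sT tT hs ht
  have hinv := ofGroupoidInv_invSurj G
  have key : ∀ f : TensorProduct G.invariants Γ(G.U, ⊤) C', sT f = tT f →
      ((ofGroupoidInv G).bc C').σ ((Algebra.TensorProduct.comm G.invariants C' Γ(G.U, ⊤)).symm f) =
      ((ofGroupoidInv G).bc C').τ
        ((Algebra.TensorProduct.comm G.invariants C' Γ(G.U, ⊤)).symm f) := by
    intro f hf
    show Algebra.TensorProduct.map (AlgHom.id C' C') (ofGroupoidInv G).σ _ =
      Algebra.TensorProduct.map (AlgHom.id C' C') (ofGroupoidInv G).τ _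
    rw [map_comm_symm C' (ofGroupoidInv G).σ sT hs, map_comm_symm C' (ofGroupoidInv G).τ tT ht, hf]
  refine ⟨?_, ?_, ?_⟩
  · intro f hf
    obtain ⟨m, P, hm, hP⟩ := (ofGroupoidInv G).exists_pow_sub C' hinv _ (key f hf)
    refine ⟨m, P, hm, ?_⟩
    rw [hP, AlgEquiv.apply_symm_apply]
  · intro c hc
    exact isNilpotent_of_includeRight_eq_zero (comap_surjective_invariants G) c hc
  · intro hflat
    refine ⟨Algebra.TensorProduct.includeRight_injective Subtype.val_injective, ?_⟩
    intro f hf
    obtain ⟨k, hk⟩ := (RGrpd.InvSurj.bc_of_flat (ofGroupoidInv G) C' hinv) _ (key f hf)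
    refine ⟨k, ?_⟩
    have := congrArg (Algebra.TensorProduct.comm G.invariants C' Γ(G.U, ⊤)) hk
    rw [AlgEquiv.apply_symm_apply] at this
    rw [← this, Algebra.TensorProduct.algebraMap_apply]
    simp

end scheme

end Groth.Agent.Lib.Seat19.InvBC4
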