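import Mathlib
import Groth.Prelude.Def_Grpd
import Groth.Prelude.Def_Mor2
import Groth.Agent.Lib.Seat19Sub
import Groth.Agent.Lib.Seat19GrpdPts
import Groth.Agent.Lib.Helper2Grpd

/-!
# Quasi-sections of a groupoid: the induced groupoid (helper19)

`u : U' ⟶ U` a monomorphism, `V = R ×_{t, U} U'` (arrows with target in `U'`), `v : V ⟶ U` induced
by `s`.  The induced groupoid on `U'` has arrows `R' = V ×_{v, U} U'`.
-/

set_option autoImplicit false
set_option linter.unusedSectionVars false
set_option linter.style.haveILetI false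
universe u

open CategoryTheory CategoryTheory.Limits AlgebraicGeometry Opposite
open Groth.Agent.Lib.Helper2.Grpd Groth.Agent.Lib.Seat19.Sub

namespace Groth.Agent.Lib.Seat19.QSec

variable {S : Scheme.{u}} (G : Grpd.GroupoidScheme S) {U' : Scheme.{u}} (u : U' ⟶ G.U)

/-- arrows with target in `U'` -/
noncomputable abbrev V : Scheme.{u} := pullback G.t u

/-- the source of an arrow with target in `U'` -/
noncomputable abbrev v : V G u ⟶ G.U := pullback.fst G.t u ≫ G.s

variable [Mono u]

/-- the data of the induced groupoid on `U'` -/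
@[reducible] noncomputable def D : SubData G where
  U' := U'
  R' := pullback (v G u) u
  a := u
  b := pullback.fst (v G u) u ≫ pullback.fst G.t u
  ma := inferInstance
  mb := inferInstance
  s' := pullback.snd (v G u) u
  t' := pullback.fst (v G u) u ≫ pullback.snd G.t u
  hs := by
    rw [Category.assoc, ← pullback.condition]
  ht := by
    rw [Category.assoc, Category.assoc, pullback.condition]
  lift := fun {T} α x y h1 h2 =>
    pullback.lift (pullback.lift α x h1) y (by
      rw [← Category.assoc, pullback.lift_fst, h2])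
  lift_fac := fun {T} α x y h1 h2 => by
    rw [← Category.assoc, pullback.lift_fst, pullback.lift_fst]

/-- the induced groupoid on `U'` -/
@[reducible] noncomputable def G' : Grpd.GroupoidScheme S := (D G u).grpd

theorem G'_s : (G' G u).s = pullback.snd (v G u) u := rfl
theorem G'_t : (G' G u).t = pullback.fst (v G u) u ≫ pullback.snd G.t u := rfl

instance [IsFinite (v G u)] : IsFinite (G' G u).s := by
  show IsFinite (pullback.snd (v G u) u)
  infer_instance

instance [Flat (v G u)] : Flat (G' G u).s := by
  show Flat (pullback.snd (v G u) u)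
  infer_instance

instance [LocallyOfFinitePresentation (v G u)] : LocallyOfFinitePresentation (G' G u).s := by
  show LocallyOfFinitePresentation (pullback.snd (v G u) u)
  infer_instance

/-- the section `U' ⟶ V` given by the identity arrows -/
noncomputable def σ : U' ⟶ V G u :=
  pullback.lift (u ≫ G.e) (𝟙 U') (by rw [Category.assoc, G.e_t, Category.comp_id, Category.id_comp])

@[reassoc]
theorem σ_v : σ G u ≫ v G u = u := by
  unfold σ v
  rw [← Category.assoc, pullback.lift_fst, Category.assoc, G.e_s, Category.comp_id]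

@[reassoc]
theorem σ_snd : σ G u ≫ pullback.snd G.t u = 𝟙 U' := pullback.lift_snd _ _ _

/-- Point-level: the arrows of the induced groupoid map to arrows of `G`. -/
theorem t_b (r : (G' G u).R) : G.t ((D G u).b r) = u ((G' G u).t r) := by
  rw [← Scheme.Hom.comp_apply, ← Scheme.Hom.comp_apply]
  exact congrArg (fun f : (G' G u).R ⟶ G.U => f r) (D G u).ht.symm

theorem s_b (r : (G' G u).R) : G.s ((D G u).b r) = u ((G' G u).s r) := by
  rw [← Scheme.Hom.comp_apply, ← Scheme.Hom.comp_apply]
  exact congrArg (fun f : (G' G u).R ⟶ G.U => f r) (D G u).hs.symm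

/-- the classes of the induced groupoid consist of pairwise equivalent points -/
theorem orbit_pairwise (x : U') :
    ∀ x₁ ∈ (G' G u).t.base '' ((G' G u).s.base ⁻¹' {x}),
      ∀ x₂ ∈ (G' G u).t.base '' ((G' G u).s.base ⁻¹' {x}),
        ∃ r : G.R, G.t.base r = u.base x₁ ∧ G.s.base r = u.base x₂ := by
  rintro _ ⟨r₁, hr₁, rfl⟩ _ ⟨r₂, hr₂, rfl⟩
  have h1 : (G' G u).s r₁ = x := hr₁
  have h2 : (G' G u).s r₂ = x := hr₂
  have hc : G.s ((D G u).b r₁) = G.t (G.i ((D G u).b r₂)) := by
    rw [Groth.Agent.Lib.Seat19.GrpdPts.t_i, s_b, s_b, h1, h2]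
  obtain ⟨r₃, hs, ht⟩ := Groth.Agent.Lib.Seat19.GrpdPts.exists_comp G _ _ hc
  refine ⟨r₃, ?_, ?_⟩
  · rw [← t_b]
    exact ht
  · rw [← t_b, ← Groth.Agent.Lib.Seat19.GrpdPts.s_i]
    exact hs

end Groth.Agent.Lib.Seat19.QSec
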