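import Mathlib
import Groth.Prelude.Def_Grpd
import Groth.Prelude.Def_Mor2
import Groth.Agent.Lib.Seat19QSec
import Groth.Agent.Lib.Seat19Glue7

/-!
# Quasi-sections of a groupoid: the quotient map (helper19)
-/

set_option autoImplicit false
set_option linter.unusedSectionVars false
set_option linter.style.haveILetI false
universe u

open CategoryTheory CategoryTheory.Limits AlgebraicGeometry Opposite
open Groth.Agent.Lib.Helper2.Grpd Groth.Agent.Lib.Seat19.Sub Groth.Agent.Lib.Seat19.Glue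

namespace Groth.Agent.Lib.Seat19.QSec

variable {S : Scheme.{u}} (G : Grpd.GroupoidScheme S) {U' : Scheme.{u}} (u : U' ⟶ G.U) [Mono u]

section tpoints

variable {T : Scheme.{u}} (y₁ y₂ : T ⟶ V G u) (r' : T ⟶ (G' G u).R)
  (h₁ : r' ≫ (G' G u).t = y₁ ≫ pullback.snd G.t u)
  (h₂ : r' ≫ (G' G u).s = y₂ ≫ pullback.snd G.t u)

include h₁ in
theorem cond₁ : ((y₁ ≫ pullback.fst G.t u) ≫ G.i) ≫ G.s = (r' ≫ (D G u).b) ≫ G.t := by
  have e1 : (r' ≫ (D G u).b) ≫ G.t = (r' ≫ (G' G u).t) ≫ u := by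
    rw [Category.assoc, Category.assoc]
    exact congrArg (r' ≫ ·) (D G u).ht.symm
  rw [e1, h₁, Category.assoc, G.i_s, Category.assoc, Category.assoc, pullback.condition]

include h₂ in
theorem cond₂ : (r' ≫ (D G u).b) ≫ G.s = (y₂ ≫ pullback.fst G.t u) ≫ G.t := by
  have e1 : (r' ≫ (D G u).b) ≫ G.s = (r' ≫ (G' G u).s) ≫ u := by
    rw [Category.assoc, Category.assoc]
    exact congrArg (r' ≫ ·) (D G u).hs.symm
  rw [e1, h₂, Category.assoc, Category.assoc, pullback.condition]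

/-- the arrow `y₁⁻¹ ∘ r' ∘ y₂` -/
noncomputable def d : T ⟶ G.R :=
  comp G (comp G ((y₁ ≫ pullback.fst G.t u) ≫ G.i) (r' ≫ (D G u).b) (cond₁ G u y₁ r' h₁))
    (y₂ ≫ pullback.fst G.t u) ((comp_s G _ _ _).trans (cond₂ G u y₂ r' h₂))

theorem d_t : d G u y₁ y₂ r' h₁ h₂ ≫ G.t = y₁ ≫ v G u := by
  unfold d
  rw [comp_t, comp_t, Category.assoc, G.i_t, Category.assoc]

theorem d_s : d G u y₁ y₂ r' h₁ h₂ ≫ G.s = y₂ ≫ v G u := by
  unfold d
  rw [comp_s, Category.assoc]

end tpoints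

section lift

variable {T : Scheme.{u}} (α : T ⟶ G.R) (x y : T ⟶ U') (h1 : α ≫ G.t = x ≫ u)
  (h2 : α ≫ G.s = y ≫ u)

theorem lift_t : (D G u).lift α x y h1 h2 ≫ (G' G u).t = x := by
  show pullback.lift (pullback.lift α x h1) y _ ≫ pullback.fst (v G u) u ≫ pullback.snd G.t u = x
  rw [pullback.lift_fst_assoc, pullback.lift_snd]

theorem lift_s : (D G u).lift α x y h1 h2 ≫ (G' G u).s = y := by
  show pullback.lift (pullback.lift α x h1) y _ ≫ pullback.snd (v G u) u = y
  rw [pullback.lift_snd]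

end lift

section quot

variable [IsFinite (v G u)] [Flat (v G u)] [LocallyOfFinitePresentation (v G u)]

instance : Flat (G' G u).t := flat_t _
instance : LocallyOfFinitePresentation (G' G u).t := lfp_t _

variable (hcov : ∀ x : U', ∃ i : IA (G' G u), x ∈ i.W)

/-- the quotient of `U'` by the induced groupoid -/
noncomputable abbrev Y : Scheme.{u} := Yg (G' G u)

/-- the quotient map of `U'` -/
noncomputable abbrev p' : U' ⟶ Y G u := pg (G' G u) hcov

theorem t'_p' : (G' G u).t ≫ p' G u hcov = (G' G u).s ≫ p' G u hcov := t_pg (G' G u) hcov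

theorem key {T : Scheme.{u}} (g₁ g₂ : T ⟶ V G u) (h : g₁ ≫ v G u = g₂ ≫ v G u) :
    g₁ ≫ pullback.snd G.t u ≫ p' G u hcov = g₂ ≫ pullback.snd G.t u ≫ p' G u hcov := by
  have hc : (g₁ ≫ pullback.fst G.t u) ≫ G.s = ((g₂ ≫ pullback.fst G.t u) ≫ G.i) ≫ G.t := by
    rw [Category.assoc _ G.i, G.i_t, Category.assoc, Category.assoc]
    exact h
  let β : T ⟶ G.R := comp G (g₁ ≫ pullback.fst G.t u) ((g₂ ≫ pullback.fst G.t u) ≫ G.i) hc
  have hβt : β ≫ G.t = (g₁ ≫ pullback.snd G.t u) ≫ u := by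
    rw [comp_t, Category.assoc, Category.assoc, pullback.condition]
  have hβs : β ≫ G.s = (g₂ ≫ pullback.snd G.t u) ≫ u := by
    rw [comp_s, Category.assoc _ G.i, G.i_s, Category.assoc, Category.assoc, pullback.condition]
  have e1 := lift_t G u β _ _ hβt hβs
  have e2 := lift_s G u β _ _ hβt hβs
  calc g₁ ≫ pullback.snd G.t u ≫ p' G u hcov
      = ((D G u).lift β _ _ hβt hβs ≫ (G' G u).t) ≫ p' G u hcov := by
        rw [e1, Category.assoc]
    _ = ((D G u).lift β _ _ hβt hβs ≫ (G' G u).s) ≫ p' G u hcov := by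
        rw [Category.assoc, t'_p', Category.assoc]
    _ = g₂ ≫ pullback.snd G.t u ≫ p' G u hcov := by
        rw [e2, Category.assoc]

variable [Surjective (v G u)]

/-- the quotient map of `U` -/
noncomputable def p : G.U ⟶ Y G u :=
  EffectiveEpi.desc (v G u) (pullback.snd G.t u ≫ p' G u hcov) (fun g₁ g₂ h => key G u hcov g₁ g₂ h)

@[reassoc]
theorem v_p : v G u ≫ p G u hcov = pullback.snd G.t u ≫ p' G u hcov :=
  EffectiveEpi.fac _ _ _

theorem u_p : u ≫ p G u hcov = p' G u hcov := by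
  calc u ≫ p G u hcov = (σ G u ≫ v G u) ≫ p G u hcov := by rw [σ_v]
    _ = p' G u hcov := by rw [Category.assoc, v_p, σ_snd_assoc]

theorem t_p : G.t ≫ p G u hcov = G.s ≫ p G u hcov := by
  haveI : Epi (pullback.fst G.s (v G u)) := inferInstance
  rw [← cancel_epi (pullback.fst G.s (v G u))]
  set ρ := pullback.fst G.s (v G u) with hρ
  set π₂ := pullback.snd G.s (v G u) with hπ₂
  have hcond : ρ ≫ G.s = π₂ ≫ v G u := pullback.condition
  have hρα : (π₂ ≫ pullback.fst G.t u) ≫ G.s = (ρ ≫ G.i) ≫ G.t := by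
    rw [Category.assoc ρ, G.i_t, hcond, Category.assoc]
  let γ := comp G (π₂ ≫ pullback.fst G.t u) (ρ ≫ G.i) hρα
  have hγt : γ ≫ G.t = (π₂ ≫ pullback.snd G.t u) ≫ u := by
    rw [comp_t, Category.assoc, Category.assoc, pullback.condition]
  let g : pullback G.s (v G u) ⟶ V G u := pullback.lift γ (π₂ ≫ pullback.snd G.t u) hγt
  have hgv : g ≫ v G u = ρ ≫ G.t := by
    show g ≫ pullback.fst G.t u ≫ G.s = ρ ≫ G.t
    rw [pullback.lift_fst_assoc, comp_s, Category.assoc, G.i_s]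
  have hgs : g ≫ pullback.snd G.t u = π₂ ≫ pullback.snd G.t u := pullback.lift_snd _ _ _
  calc ρ ≫ G.t ≫ p G u hcov = (g ≫ v G u) ≫ p G u hcov := by rw [hgv, Category.assoc]
    _ = (π₂ ≫ pullback.snd G.t u) ≫ p' G u hcov := by
        rw [Category.assoc, v_p, ← Category.assoc, hgs]
    _ = (π₂ ≫ v G u) ≫ p G u hcov := by rw [Category.assoc, Category.assoc, v_p]
    _ = ρ ≫ G.s ≫ p G u hcov := by rw [← hcond, Category.assoc]

section desc

variable {Z : Scheme.{u}} (f : G.U ⟶ Z) (hf : G.t ≫ f = G.s ≫ f)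

include hf in
theorem hf' : (G' G u).t ≫ u ≫ f = (G' G u).s ≫ u ≫ f := by
  have e1 : (G' G u).t ≫ u = (D G u).b ≫ G.t := (D G u).ht
  have e2 : (G' G u).s ≫ u = (D G u).b ≫ G.s := (D G u).hs
  calc (G' G u).t ≫ u ≫ f = ((G' G u).t ≫ u) ≫ f := (Category.assoc _ _ _).symm
    _ = ((D G u).b ≫ G.t) ≫ f := by rw [e1]
    _ = ((D G u).b ≫ G.s) ≫ f := by simp only [Category.assoc, hf]
    _ = ((G' G u).s ≫ u) ≫ f := by rw [e2]
    _ = (G' G u).s ≫ u ≫ f := Category.assoc _ _ _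

/-- the descended morphism -/
noncomputable def descQ : Y G u ⟶ Z := desc (G' G u) hcov (u ≫ f) (hf' G u f hf)

theorem p'_descQ : p' G u hcov ≫ descQ G u hcov f hf = u ≫ f := pg_desc (G' G u) hcov _ _

theorem p_descQ : p G u hcov ≫ descQ G u hcov f hf = f := by
  haveI : Epi (v G u) := inferInstance
  rw [← cancel_epi (v G u)]
  calc v G u ≫ p G u hcov ≫ descQ G u hcov f hf
      = (v G u ≫ p G u hcov) ≫ descQ G u hcov f hf := (Category.assoc _ _ _).symm
    _ = pullback.snd G.t u ≫ p' G u hcov ≫ descQ G u hcov f hf := by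
        rw [v_p, Category.assoc]
    _ = pullback.snd G.t u ≫ u ≫ f := by rw [p'_descQ]
    _ = pullback.fst G.t u ≫ G.t ≫ f := by rw [← pullback.condition_assoc]
    _ = v G u ≫ f := by rw [hf, Category.assoc]

theorem descQ_uniq (m : Y G u ⟶ Z) (hm : p G u hcov ≫ m = f) : m = descQ G u hcov f hf := by
  apply desc_uniq (G' G u) hcov
  calc pg (G' G u) hcov ≫ m = (u ≫ p G u hcov) ≫ m := by rw [u_p]
    _ = u ≫ f := by rw [Category.assoc, hm]

end desc

/-- the quotient is a coequalizer of `(t, s)` in the category of schemes -/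
noncomputable def isColimitQ (w : G.t ≫ p G u hcov = G.s ≫ p G u hcov) :
    IsColimit (Cofork.ofπ (p G u hcov) w) :=
  Cofork.IsColimit.mk _ (fun c => descQ G u hcov c.π c.condition)
    (fun c => p_descQ G u hcov c.π c.condition)
    (fun c m hm => descQ_uniq G u hcov c.π c.condition m hm)

theorem p_surjective : Function.Surjective (p G u hcov) := by
  have h : Function.Surjective (v G u ≫ p G u hcov) := by
    rw [v_p]
    intro y
    obtain ⟨x, rfl⟩ := pg_surjective (G' G u) hcov y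
    refine ⟨σ G u x, ?_⟩
    rw [← Scheme.Hom.comp_apply, σ_snd_assoc]
  intro y
  obtain ⟨z, hz⟩ := h y
  exact ⟨v G u z, by rw [← Scheme.Hom.comp_apply]; exact hz⟩

end quot

end Groth.Agent.Lib.Seat19.QSec
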