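import Mathlib
import Groth.Prelude.Def_Grpd
import Groth.Prelude.Def_Mor2
import Groth.Agent.Lib.Seat19QSec2
import Groth.Agent.Lib.Helper12Flat

/-!
# Quasi-sections of a groupoid: properties of the quotient map (helper19)
-/

set_option autoImplicit false
set_option linter.unusedSectionVars false
set_option linter.style.haveILetI false
universe u

open CategoryTheory CategoryTheory.Limits AlgebraicGeometry Opposite
open Groth.Agent.Lib.Helper2.Grpd Groth.Agent.Lib.Seat19.Sub Groth.Agent.Lib.Seat19.Glue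

namespace Groth.Agent.Lib.Seat19.QSec

variable {S : Scheme.{u}} (G : Grpd.GroupoidScheme S) {U' : Scheme.{u}} (u : U' ⟶ G.U) [Mono u]
variable [IsFinite (v G u)] [Flat (v G u)] [LocallyOfFinitePresentation (v G u)]
variable (hcov : ∀ x : U', ∃ i : IA (G' G u), x ∈ i.W)
variable [Surjective (v G u)]

theorem p_v_apply (z : V G u) : p G u hcov (v G u z) = p' G u hcov (pullback.snd G.t u z) := by
  have := congrArg (fun f : V G u ⟶ Y G u => f z) (v_p G u hcov)
  simpa only [Scheme.Hom.comp_apply] using this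

theorem p_u_apply (x : U') : p G u hcov (u x) = p' G u hcov x := by
  have := congrArg (fun f : U' ⟶ Y G u => f x) (u_p G u hcov)
  simpa only [Scheme.Hom.comp_apply] using this

theorem p_t_apply (r : G.R) : p G u hcov (G.t r) = p G u hcov (G.s r) := by
  have := congrArg (fun f : G.R ⟶ Y G u => f r) (t_p G u hcov)
  simpa only [Scheme.Hom.comp_apply] using this

theorem image_p (W : Set G.U) :
    p G u hcov '' W = p' G u hcov '' (u ⁻¹' (G.t '' (G.s ⁻¹' W))) := by
  ext y
  constructor
  · rintro ⟨x, hx, rfl⟩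
    obtain ⟨z, rfl⟩ := (v G u).surjective x
    refine ⟨pullback.snd G.t u z, ⟨pullback.fst G.t u z, ?_, ?_⟩, (p_v_apply G u hcov z).symm⟩
    · show G.s (pullback.fst G.t u z) ∈ W
      rw [← Scheme.Hom.comp_apply]
      exact hx
    · rw [← Scheme.Hom.comp_apply, ← Scheme.Hom.comp_apply, pullback.condition]
  · rintro ⟨x', ⟨r, hr, hrx⟩, rfl⟩
    refine ⟨G.s r, hr, ?_⟩
    rw [← p_t_apply, hrx, p_u_apply]

theorem p_isOpenMap (ht : IsOpenMap G.t) : IsOpenMap (p G u hcov) := by
  intro W hW
  rw [image_p]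
  apply pg_isOpenMap (G' G u) hcov
  exact (ht _ (hW.preimage G.s.continuous)).preimage u.continuous

theorem p_universallyClosed [UniversallyClosed G.t] : UniversallyClosed (p G u hcov) := by
  haveI := pg_isIntegralHom (G' G u) hcov
  haveI : UniversallyClosed (v G u ≫ p G u hcov) := by
    rw [v_p]
    infer_instance
  exact UniversallyClosed.of_comp_surjective (v G u) (p G u hcov)

/-- `V ×_Y V` -/
noncomputable abbrev VV : Scheme.{u} := pullback (v G u ≫ p G u hcov) (v G u ≫ p G u hcov)

/-- `V ×_Y V ⟶ U ×_Y U` -/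
noncomputable abbrev vv : VV G u hcov ⟶ pullback (p G u hcov) (p G u hcov) :=
  pullback.map (v G u ≫ p G u hcov) (v G u ≫ p G u hcov) (p G u hcov) (p G u hcov) (v G u) (v G u)
    (𝟙 _) ((Category.comp_id _).trans rfl) ((Category.comp_id _).trans rfl)

theorem vv_of (P : MorphismProperty Scheme.{u}) [P.IsStableUnderBaseChange]
    [P.IsStableUnderComposition] (hv : P (v G u)) : P (vv G u hcov) :=
  MorphismProperty.pullbackMap (P := P) (f := v G u ≫ p G u hcov) (g := v G u ≫ p G u hcov)
    (f' := p G u hcov) (g' := p G u hcov) hv hv rfl rfl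

theorem VV_cond : (pullback.fst (v G u ≫ p G u hcov) (v G u ≫ p G u hcov) ≫ pullback.snd G.t u) ≫
    p' G u hcov =
    (pullback.snd (v G u ≫ p G u hcov) (v G u ≫ p G u hcov) ≫ pullback.snd G.t u) ≫
      p' G u hcov := by
  have e : ∀ {T : Scheme.{u}} (y : T ⟶ V G u),
      (y ≫ pullback.snd G.t u) ≫ p' G u hcov = y ≫ (v G u ≫ p G u hcov) := by
    intro T y
    rw [v_p, Category.assoc]
  rw [e, e, pullback.condition]

section tp

variable {T : Scheme.{u}} (π : T ⟶ VV G u hcov) (r' : T ⟶ (G' G u).R)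
  (h₁ : r' ≫ (G' G u).t =
    (π ≫ pullback.fst (v G u ≫ p G u hcov) (v G u ≫ p G u hcov)) ≫ pullback.snd G.t u)
  (h₂ : r' ≫ (G' G u).s =
    (π ≫ pullback.snd (v G u ≫ p G u hcov) (v G u ≫ p G u hcov)) ≫ pullback.snd G.t u)
  (w : G.t ≫ p G u hcov = G.s ≫ p G u hcov)

theorem d_lift : d G u _ _ r' h₁ h₂ ≫ pullback.lift G.t G.s w = π ≫ vv G u hcov := by
  apply pullback.hom_ext
  · have e1 : (d G u _ _ r' h₁ h₂ ≫ pullback.lift G.t G.s w) ≫ pullback.fst _ _ =
        d G u _ _ r' h₁ h₂ ≫ G.t := by
      rw [Category.assoc, pullback.lift_fst]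
    have e2 : (π ≫ vv G u hcov) ≫ pullback.fst _ _ =
        (π ≫ pullback.fst (v G u ≫ p G u hcov) (v G u ≫ p G u hcov)) ≫ v G u := by
      rw [Category.assoc, Category.assoc]
      exact congrArg (π ≫ ·) (pullback.lift_fst _ _ _)
    rw [e1, e2, d_t]
  · have e1 : (d G u _ _ r' h₁ h₂ ≫ pullback.lift G.t G.s w) ≫ pullback.snd _ _ =
        d G u _ _ r' h₁ h₂ ≫ G.s := by
      rw [Category.assoc, pullback.lift_snd]
    have e2 : (π ≫ vv G u hcov) ≫ pullback.snd _ _ =
        (π ≫ pullback.snd (v G u ≫ p G u hcov) (v G u ≫ p G u hcov)) ≫ v G u := by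
      rw [Category.assoc, Category.assoc]
      exact congrArg (π ≫ ·) (pullback.lift_snd _ _ _)
    rw [e1, e2, d_s]

end tp

set_option backward.isDefEq.respectTransparency.types false in
theorem liftQ_surjective (w : G.t ≫ p G u hcov = G.s ≫ p G u hcov) :
    Function.Surjective (pullback.lift G.t G.s w) := by
  haveI : Surjective (vv G u hcov) := vv_of G u hcov @Surjective inferInstance
  let κ : VV G u hcov ⟶ pullback (p' G u hcov) (p' G u hcov) :=
    pullback.lift _ _ (VV_cond G u hcov)
  let q' : (G' G u).R ⟶ pullback (p' G u hcov) (p' G u hcov) :=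
    pullback.lift (G' G u).t (G' G u).s (t'_p' G u hcov)
  haveI : Surjective q' := ⟨lift_surjective (G' G u) hcov _⟩
  have h₁ : pullback.snd κ q' ≫ (G' G u).t =
      (pullback.fst κ q' ≫ pullback.fst (v G u ≫ p G u hcov) (v G u ≫ p G u hcov)) ≫
        pullback.snd G.t u := by
    have := congrArg (fun f => f ≫ pullback.fst (p' G u hcov) (p' G u hcov))
      (pullback.condition (f := κ) (g := q'))
    simp only [Category.assoc, κ, q', pullback.lift_fst] at this
    rw [Category.assoc]
    exact this.symm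
  have h₂ : pullback.snd κ q' ≫ (G' G u).s =
      (pullback.fst κ q' ≫ pullback.snd (v G u ≫ p G u hcov) (v G u ≫ p G u hcov)) ≫
        pullback.snd G.t u := by
    have := congrArg (fun f => f ≫ pullback.snd (p' G u hcov) (p' G u hcov))
      (pullback.condition (f := κ) (g := q'))
    simp only [Category.assoc, κ, q', pullback.lift_snd] at this
    rw [Category.assoc]
    exact this.symm
  have hd := d_lift G u hcov (pullback.fst κ q') (pullback.snd κ q') h₁ h₂ w
  intro z
  obtain ⟨w', rfl⟩ := (vv G u hcov).surjective z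
  obtain ⟨a, rfl⟩ := (pullback.fst κ q').surjective w'
  refine ⟨d G u _ _ (pullback.snd κ q') h₁ h₂ a, ?_⟩
  rw [← Scheme.Hom.comp_apply, hd, Scheme.Hom.comp_apply]

theorem mono_liftQ [Mono G.j] (w : G.t ≫ p G u hcov = G.s ≫ p G u hcov) :
    Mono (pullback.lift G.t G.s w) := by
  constructor
  intro T α β h
  rw [← cancel_mono G.j]
  apply pullback.hom_ext
  · simp only [Category.assoc, Grpd.GroupoidScheme.j, pullback.lift_fst]
    have := congrArg (fun f => f ≫ pullback.fst _ _) h
    simpa only [Category.assoc, pullback.lift_fst] using this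
  · simp only [Category.assoc, Grpd.GroupoidScheme.j, pullback.lift_snd]
    have := congrArg (fun f => f ≫ pullback.snd _ _) h
    simpa only [Category.assoc, pullback.lift_snd] using this

set_option backward.isDefEq.respectTransparency.types false in
theorem isIso_liftQ [Mono G.j] (w : G.t ≫ p G u hcov = G.s ≫ p G u hcov) :
    IsIso (pullback.lift G.t G.s w) := by
  haveI : Mono (G' G u).j := mono_j_sub G (D G u)
  have hpb' := isPullback_pg_pg (G' G u) hcov
  haveI : Surjective (vv G u hcov) := vv_of G u hcov @Surjective inferInstance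
  haveI : Flat (vv G u hcov) := vv_of G u hcov @Flat inferInstance
  haveI : LocallyOfFinitePresentation (vv G u hcov) :=
    vv_of G u hcov @LocallyOfFinitePresentation inferInstance
  let r' : VV G u hcov ⟶ (G' G u).R := hpb'.lift _ _ (VV_cond G u hcov)
  have h₁ : r' ≫ (G' G u).t =
      (𝟙 _ ≫ pullback.fst (v G u ≫ p G u hcov) (v G u ≫ p G u hcov)) ≫ pullback.snd G.t u := by
    rw [Category.id_comp]
    exact hpb'.lift_fst _ _ _
  have h₂ : r' ≫ (G' G u).s =
      (𝟙 _ ≫ pullback.snd (v G u ≫ p G u hcov) (v G u ≫ p G u hcov)) ≫ pullback.snd G.t u := by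
    rw [Category.id_comp]
    exact hpb'.lift_snd _ _ _
  have hd := d_lift G u hcov (𝟙 _) r' h₁ h₂ w
  haveI : StrongEpi (d G u _ _ r' h₁ h₂ ≫ pullback.lift G.t G.s w) := by
    rw [hd, Category.id_comp]
    infer_instance
  haveI : StrongEpi (pullback.lift G.t G.s w) := strongEpi_of_strongEpi (d G u _ _ r' h₁ h₂) _
  haveI := mono_liftQ G u hcov w
  exact isIso_of_mono_of_strongEpi _

theorem isPullbackQ [Mono G.j] : IsPullback G.t G.s (p G u hcov) (p G u hcov) := by
  have w := t_p G u hcov
  haveI := isIso_liftQ G u hcov w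
  refine IsPullback.of_iso_pullback ⟨w⟩ (asIso (pullback.lift G.t G.s w)) ?_ ?_
  · exact pullback.lift_fst _ _ _
  · exact pullback.lift_snd _ _ _

theorem p_flat [Mono G.j] [Flat G.t] : Flat (p G u hcov) := by
  haveI : Mono (G' G u).j := mono_j_sub G (D G u)
  haveI := pg_flat (G' G u) hcov
  haveI : Flat (v G u ≫ p G u hcov) := by
    rw [v_p]
    infer_instance
  exact Groth.Agent.Lib.Helper12.flat_of_comp_of_flat_of_surjective (v G u) (p G u hcov)

end Groth.Agent.Lib.Seat19.QSec
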