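import Mathlib
import Groth.Prelude.Def_Grpd
import Groth.Prelude.Def_Mor2
import Groth.Agent.Lib.Seat19QSec3

/-!
# Quasi-sections of a groupoid: the quotient theorem (helper19)
-/

set_option autoImplicit false
set_option linter.unusedSectionVars false
set_option linter.style.haveILetI false
universe u

open CategoryTheory CategoryTheory.Limits AlgebraicGeometry Opposite
open Groth.Agent.Lib.Helper2.Grpd Groth.Agent.Lib.Seat19.Sub Groth.Agent.Lib.Seat19.Glue

namespace Groth.Agent.Lib.Seat19.QSec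

variable {S : Scheme.{u}} (G : Grpd.GroupoidScheme S)

theorem main (U' : Scheme.{u}) (u : U' ⟶ G.U) [IsImmersion u]
    (h1 : Mor2.IsFinLocFree (pullback.fst G.t u ≫ G.s) ∧ Surjective (pullback.fst G.t u ≫ G.s))
    (h2 : ∀ E : Set U', (∀ x ∈ E, ∀ y ∈ E, ∃ r : G.R,
        G.t.base r = u.base x ∧ G.s.base r = u.base y) →
      ∃ W : U'.Opens, IsAffineOpen W ∧ E ⊆ (W : Set U')) :
    ∃ (Y : Scheme.{u}) (p : G.U ⟶ Y) (w : G.t ≫ p = G.s ≫ p),
      Nonempty (IsColimit (Cofork.ofπ p w)) ∧ Surjective p ∧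
      (IsOpenMap G.t.base → IsOpenMap p.base) ∧ (UniversallyClosed G.t → UniversallyClosed p) ∧
      Function.Surjective (pullback.lift G.t G.s w).base ∧
      (Mono G.j → IsPullback G.t G.s p p ∧ (Flat G.t → Flat p)) := by
  obtain ⟨⟨hfin, hflat, hlfp⟩, hsurj⟩ := h1
  haveI : Mono u := inferInstance
  haveI : IsFinite (v G u) := hfin
  haveI : Flat (v G u) := hflat
  haveI : LocallyOfFinitePresentation (v G u) := hlfp
  haveI : Surjective (v G u) := hsurj
  have hb : ∀ x : (G' G u).U, ∃ W : (G' G u).U.Opens, IsAffineOpen W ∧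
      (G' G u).t.base '' ((G' G u).s.base ⁻¹' {x}) ⊆ (W : Set (G' G u).U) := by
    intro x
    exact h2 _ (orbit_pairwise G u x)
  have hcov := exists_cover (G' G u) hb
  refine ⟨Y G u, p G u hcov, t_p G u hcov, ⟨isColimitQ G u hcov _⟩, ⟨p_surjective G u hcov⟩,
    p_isOpenMap G u hcov, ?_, liftQ_surjective G u hcov _, ?_⟩
  · intro h
    haveI := h
    exact p_universallyClosed G u hcov
  · intro hj
    haveI := hj
    refine ⟨isPullbackQ G u hcov, ?_⟩
    intro ht
    haveI := ht
    exact p_flat G u hcov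

end Groth.Agent.Lib.Seat19.QSec
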