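import Mathlib
import Groth.Prelude.Def_QuotSh
import Groth.Prelude.Def_AlgSp
import Groth.Agent.Lib.Seat19QuotOpen
import Groth.Prelude.Def_Grpd

/-!
# The quotient of a restricted pre-equivalence relation is an open subsheaf: general form (seat 19)

Generalisation of `Seat19QuotOpen` to pre-relations whose relation on points is an equivalence relation
(e.g. groupoid schemes), with the open set `WU` and the local lifting property as hypotheses.
-/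

set_option autoImplicit false
universe u

open CategoryTheory Limits AlgebraicGeometry Opposite
open Groth.Agent.Lib.Seat19.QuotPts Groth.Agent.Lib.Seat19.FppfFpqc
open Groth.Agent.Lib.Helper9 Groth.Agent.Lib.Helper12.QuotShLib
open Groth.Agent.Lib.Seat19.QuotOpen

namespace Groth.Agent.Lib.Seat19.QuotOpenG

local notation "𝕃" => Scheme.fppfPrecoverage

section Gen

variable {S : Scheme.{u}} {R U R' U' : Over S} (s t : R ⟶ U) (g : U' ⟶ U) (s' t' : R' ⟶ U')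
  (r : R' ⟶ R)
  (hsq : IsPullback (prod.lift t' s') r (prod.map g g) (prod.lift t s))
  (φ : QuotSh.quot 𝕃 s' t' ⟶ QuotSh.quot 𝕃 s t)
  (hφ : QuotSh.quotπ 𝕃 s' t' ≫ φ = QuotSh.repMap 𝕃 g ≫ QuotSh.quotπ 𝕃 s t)
  (hE : ∀ W : Over S, _root_.Equivalence (rel s t W))

include hE in
/-- two points with the same class are locally related. -/
theorem exists_rel_locally {T : Over S} (x y : T ⟶ U)
    (h : QuotSh.repMap 𝕃 x ≫ QuotSh.quotπ 𝕃 s t = QuotSh.repMap 𝕃 y ≫ QuotSh.quotπ 𝕃 s t) :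
    ∃ 𝓡 ∈ QuotSh.J 𝕃 S T, ∀ ⦃W : Over S⦄ (f : W ⟶ T), 𝓡 f →
      ∃ ρ : W ⟶ R, ρ ≫ s = f ≫ x ∧ ρ ≫ t = f ≫ y := by
  obtain ⟨𝓡, h𝓡, hl⟩ := eqvGen_locally 𝕃 s t x y h
  exact ⟨𝓡, h𝓡, fun W f hf => ((hE W).eqvGen_iff.mp (hl f hf))⟩

include hsq hφ hE in
theorem mono_φ : Mono φ := by
  constructor
  intro A c₁ c₂ h12
  apply Groth.Agent.Lib.Seat19.LocAff.hom_ext_rep
  intro W₀ d
  obtain ⟨𝓡₁, h𝓡₁, hl₁⟩ := exists_lift_locally 𝕃 s' t' (d ≫ c₁)
  obtain ⟨𝓡₂, h𝓡₂, hl₂⟩ := exists_lift_locally 𝕃 s' t' (d ≫ c₂)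
  refine hom_ext_of_cover 𝕃 _ _ (𝓡₁ ⊓ 𝓡₂)
    ((QuotSh.J 𝕃 S).intersection_covering h𝓡₁ h𝓡₂) ?_
  intro W f hf
  obtain ⟨u₁, hu₁⟩ := hl₁ f hf.1
  obtain ⟨u₂, hu₂⟩ := hl₂ f hf.2
  rw [← hu₁, ← hu₂]
  have hk : QuotSh.repMap 𝕃 (u₁ ≫ g) ≫ QuotSh.quotπ 𝕃 s t =
      QuotSh.repMap 𝕃 (u₂ ≫ g) ≫ QuotSh.quotπ 𝕃 s t := by
    rw [← cls_g s t g s' t' φ hφ, ← cls_g s t g s' t' φ hφ, ← Category.assoc, hu₁,
      ← Category.assoc _ _ φ, hu₂]
    simp only [Category.assoc]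
    rw [h12]
  obtain ⟨𝓡₃, h𝓡₃, hl₃⟩ := exists_rel_locally s t hE _ _ hk
  refine hom_ext_of_cover 𝕃 _ _ 𝓡₃ h𝓡₃ ?_
  intro W' f' hf'
  obtain ⟨ρ, hρ1, hρ2⟩ := hl₃ f' hf'
  obtain ⟨ρ', hρ'1, hρ'2⟩ := exists_rel' s t g s' t' r hsq (f' ≫ u₁) (f' ≫ u₂) ρ
    (hρ1.trans (Category.assoc _ _ _).symm) (hρ2.trans (Category.assoc _ _ _).symm)
  rw [← Category.assoc, ← repMap_comp, ← Category.assoc, ← repMap_comp, ← hρ'1, ← hρ'2,
    repMap_comp, repMap_comp, Category.assoc, Category.assoc, QuotSh.quot_condition]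

omit hE in
/-- a point of `V` mapping into `WU` lifts to a chart. -/
lemma exists_point_chart {V : Over S} (a : V ⟶ U) (z : V.left) (hz : a.left.base z ∈ WU s t g) :
    ∃ (P : Over S) (p : P ⟶ V) (u' : P ⟶ U') (ρ : P ⟶ R) (ω : P.left),
      p.left.base ω = z ∧ ρ ≫ s = p ≫ a ∧ ρ ≫ t = u' ≫ g := by
  let q := pullback.snd a.left (h₀ s t g)
  have hc : pullback.fst a.left (h₀ s t g) ≫ a.left = q ≫ pullback.snd g.left t.left ≫ s.left :=
    pullback.condition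
  have hR : pullback.fst a.left (h₀ s t g) ≫ V.hom = (q ≫ pullback.snd g.left t.left) ≫ R.hom := by
    rw [← Over.w a, ← Category.assoc, hc, ← Over.w s]
    simp only [Category.assoc]
  have hU' : pullback.fst a.left (h₀ s t g) ≫ V.hom = (q ≫ pullback.fst g.left t.left) ≫ U'.hom := by
    rw [hR, ← Over.w t, ← Over.w g]
    simp only [Category.assoc]
    rw [pullback.condition_assoc]
  have hz' : z ∈ Set.range (pullback.fst a.left (h₀ s t g)).base := by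
    rw [Scheme.Pullback.range_fst a.left (h₀ s t g)]
    exact hz
  obtain ⟨ω, hω⟩ := hz'
  refine ⟨Over.mk (pullback.fst a.left (h₀ s t g) ≫ V.hom),
    Over.homMk (pullback.fst a.left (h₀ s t g)) rfl,
    Over.homMk (q ≫ pullback.fst g.left t.left) hU'.symm,
    Over.homMk (q ≫ pullback.snd g.left t.left) hR.symm, ω, hω, ?_, ?_⟩
  · apply Over.OverMorphism.ext
    change (q ≫ pullback.snd g.left t.left) ≫ s.left = pullback.fst a.left (h₀ s t g) ≫ a.left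
    rw [hc, Category.assoc]
  · apply Over.OverMorphism.ext
    change (q ≫ pullback.snd g.left t.left) ≫ t.left = (q ≫ pullback.fst g.left t.left) ≫ g.left
    rw [Category.assoc, Category.assoc, pullback.condition]

include hE in
lemma inW_sat {V : Over S} (a b : V ⟶ U) (ρ : V ⟶ R)
    (h1 : ρ ≫ s = a) (h2 : ρ ≫ t = b) (z : V.left) (hz : a.left.base z ∈ WU s t g) :
    b.left.base z ∈ WU s t g := by
  obtain ⟨P, p, u', ρ', ω, rfl, e1, e2⟩ := exists_point_chart s t g a z hz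
  have E := hE P
  have r1 : rel s t P ⟨p ≫ a⟩ ⟨p ≫ b⟩ :=
    ⟨p ≫ ρ, by rw [Category.assoc, h1], by rw [Category.assoc, h2]⟩
  have r2 : rel s t P ⟨p ≫ a⟩ ⟨u' ≫ g⟩ := ⟨ρ', e1, e2⟩
  obtain ⟨ρ₁, h3, h4⟩ := E.trans (E.symm r1) r2
  have h5 := inW_of_rel (s := s) u' ρ₁ h4 ω
  have h6 : ρ₁ ≫ s = p ≫ b := h3
  rw [h6] at h5
  simpa using h5

include hE in
lemma inW_sat_symm {V : Over S} (a b : V ⟶ U) (ρ : V ⟶ R)
    (h1 : ρ ≫ s = a) (h2 : ρ ≫ t = b) (z : V.left) (hz : b.left.base z ∈ WU s t g) :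
    a.left.base z ∈ WU s t g := by
  obtain ⟨ρ', h3, h4⟩ := (hE V).symm (⟨ρ, h1, h2⟩ : rel s t V ⟨a⟩ ⟨b⟩)
  exact inW_sat s t g hE b a ρ' h3 h4 z hz

/-- every point of the base of a covering sieve is in the image of a member. -/
lemma exists_mem_range {V : Over S} (𝓡 : Sieve V) (h𝓡 : 𝓡 ∈ QuotSh.J 𝕃 S V) (z : V.left) :
    ∃ (V' : Over S) (f : V' ⟶ V), 𝓡 f ∧ z ∈ Set.range f.left.base := by
  have h1 : Sieve.overEquiv V 𝓡 ∈ Scheme.fpqcTopology V.left :=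
    Scheme.fppfTopology_le_fpqcTopology _ ((GrothendieckTopology.mem_over_iff _ _).mp h𝓡)
  obtain ⟨W', f', hf', hw⟩ :=
    Groth.Agent.Lib.Seat19.OpenGraph.exists_mem_range_of_mem_fpqc _ h1 z
  exact ⟨Over.mk (f' ≫ V.hom), Over.homMk f', (Sieve.overEquiv_iff _ _).mp hf', hw⟩

variable (hlift : ∀ ⦃V : Over S⦄ (a : V ⟶ U), InW s t g a → ∃ 𝓡 ∈ QuotSh.J 𝕃 S V,
    ∀ ⦃V' : Over S⦄ (f : V' ⟶ V), 𝓡 f →
      ∃ (u' : V' ⟶ U') (ρ : V' ⟶ R), ρ ≫ s = f ≫ a ∧ ρ ≫ t = u' ≫ g)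

include hsq hφ hE hlift in
theorem exists_iff_inW {V : Over S} (a : V ⟶ U) :
    (∃ η : QuotSh.rep 𝕃 V ⟶ QuotSh.quot 𝕃 s' t',
      η ≫ φ = QuotSh.repMap 𝕃 a ≫ QuotSh.quotπ 𝕃 s t) ↔ InW s t g a := by
  have hmono : Mono φ := mono_φ s t g s' t' r hsq φ hφ hE
  constructor
  · rintro ⟨η, hη⟩ z
    obtain ⟨𝓡, h𝓡, hl⟩ := exists_lift_locally 𝕃 s' t' η
    obtain ⟨V₁, f₁, hf₁, w₁, rfl⟩ := exists_mem_range 𝓡 h𝓡 z
    obtain ⟨u', hu'⟩ := hl _ hf₁
    have hk : QuotSh.repMap 𝕃 (f₁ ≫ a) ≫ QuotSh.quotπ 𝕃 s t =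
        QuotSh.repMap 𝕃 (u' ≫ g) ≫ QuotSh.quotπ 𝕃 s t := by
      rw [← cls_g s t g s' t' φ hφ, ← Category.assoc, hu', Category.assoc, hη, repMap_comp,
        Category.assoc]
    obtain ⟨𝓡₂, h𝓡₂, hl₂⟩ := exists_rel_locally s t hE _ _ hk
    obtain ⟨V₂, f₂, hf₂, w₂, rfl⟩ := exists_mem_range 𝓡₂ h𝓡₂ w₁
    obtain ⟨ρ, hρ1, hρ2⟩ := hl₂ f₂ hf₂
    have h5 := inW_of_rel (s := s) (g := g) (f₂ ≫ u') ρ (hρ2.trans (Category.assoc _ _ _).symm) w₂
    rw [hρ1] at h5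
    simpa using h5
  · intro ha
    obtain ⟨𝓡, h𝓡, hl⟩ := hlift a ha
    have hloc : ∀ ⦃V' : Over S⦄ (f : V' ⟶ V), 𝓡 f →
        ∃ η : QuotSh.rep 𝕃 V' ⟶ QuotSh.quot 𝕃 s' t',
          η ≫ φ = QuotSh.repMap 𝕃 (f ≫ a) ≫ QuotSh.quotπ 𝕃 s t := by
      intro V' f hf
      obtain ⟨u', ρ, e1, e2⟩ := hl f hf
      refine ⟨QuotSh.repMap 𝕃 u' ≫ QuotSh.quotπ 𝕃 s' t', ?_⟩
      rw [Category.assoc, cls_g s t g s' t' φ hφ, ← e2, repMap_comp, Category.assoc,
        ← QuotSh.quot_condition, ← Category.assoc, ← repMap_comp, e1]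
    choose η hη using hloc
    obtain ⟨η₀, hη₀⟩ := exists_glue_of_cover 𝕃 𝓡 h𝓡 η (by
      intro W W' f hf k
      rw [← cancel_mono φ, Category.assoc, hη, hη]
      simp only [repMap_comp, Category.assoc])
    refine ⟨η₀, ?_⟩
    refine hom_ext_of_cover 𝕃 _ _ 𝓡 h𝓡 ?_
    intro W f hf
    rw [← Category.assoc, hη₀ f hf, hη, repMap_comp, Category.assoc]

end Gen

section Assemble

variable {S : Scheme.{u}} {R U R' U' : Over S} (s t : R ⟶ U) (g : U' ⟶ U) (s' t' : R' ⟶ U')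
  (r : R' ⟶ R)
  (hsq : IsPullback (prod.lift t' s') r (prod.map g g) (prod.lift t s))
  (φ : QuotSh.quot 𝕃 s' t' ⟶ QuotSh.quot 𝕃 s t)
  (hφ : QuotSh.quotπ 𝕃 s' t' ≫ φ = QuotSh.repMap 𝕃 g ≫ QuotSh.quotπ 𝕃 s t)
  (hE : ∀ W : Over S, _root_.Equivalence (rel s t W))
  (hopen : IsOpen (WU s t g))
  (hlift : ∀ ⦃V : Over S⦄ (a : V ⟶ U), InW s t g a → ∃ 𝓡 ∈ QuotSh.J 𝕃 S V,
    ∀ ⦃V' : Over S⦄ (f : V' ⟶ V), 𝓡 f →
      ∃ (u' : V' ⟶ U') (ρ : V' ⟶ R), ρ ≫ s = f ≫ a ∧ ρ ≫ t = u' ≫ g)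
  {T : Over S} (ξ : QuotSh.rep 𝕃 T ⟶ QuotSh.quot 𝕃 s t)

include hsq hφ hE hopen hlift in
theorem exists_open_rep : ∃ VT : T.left.Opens, ∀ ⦃T₀ : Scheme.{u}⦄ (q : T₀ ⟶ T.left),
    PS (PO s t s' t' φ ξ) q ↔ ∀ z : T₀, q.base z ∈ VT := by
  have hmono : Mono φ := mono_φ s t g s' t' r hsq φ hφ hE
  obtain ⟨𝓡, h𝓡, hl⟩ := exists_lift_locally 𝕃 s t ξ
  have h𝓢 : Sieve.overEquiv T 𝓡 ∈ Scheme.fppfTopology T.left :=
    (GrothendieckTopology.mem_over_iff _ _).mp h𝓡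
  obtain ⟨ι', V, gg, hgg, hmem⟩ := exists_small_family_fppf _ h𝓢
  have hmem' : ∀ i, 𝓡 (Over.homMk (gg i) : Over.mk (gg i ≫ T.hom) ⟶ T) :=
    fun i => (Sieve.overEquiv_iff _ _).mp (hmem i)
  choose x hx using fun i => hl _ (hmem' i)
  let O : ∀ i, (V i).Opens := fun i =>
    ⟨(x i).left.base ⁻¹' WU s t g, hopen.preimage (x i).left.continuous⟩
  have hcompat : ∀ i j (z : ↥(pullback (gg i) (gg j))),
      (pullback.fst (gg i) (gg j)).base z ∈ O i ↔ (pullback.snd (gg i) (gg j)).base z ∈ O j := by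
    intro i j z
    let Vij : Over S := Over.mk (pullback.fst (gg i) (gg j) ≫ gg i ≫ T.hom)
    let p₁ : Vij ⟶ Over.mk (gg i ≫ T.hom) := Over.homMk (pullback.fst (gg i) (gg j)) rfl
    let p₂ : Vij ⟶ Over.mk (gg j ≫ T.hom) := Over.homMk (pullback.snd (gg i) (gg j)) (by
      change pullback.snd (gg i) (gg j) ≫ gg j ≫ T.hom = pullback.fst (gg i) (gg j) ≫ gg i ≫ T.hom
      rw [pullback.condition_assoc])
    have e12 : p₁ ≫ (Over.homMk (gg i) : Over.mk (gg i ≫ T.hom) ⟶ T) =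
        p₂ ≫ (Over.homMk (gg j) : Over.mk (gg j ≫ T.hom) ⟶ T) := by
      apply Over.OverMorphism.ext
      exact pullback.condition
    have hk : QuotSh.repMap 𝕃 (p₁ ≫ x i) ≫ QuotSh.quotπ 𝕃 s t =
        QuotSh.repMap 𝕃 (p₂ ≫ x j) ≫ QuotSh.quotπ 𝕃 s t := by
      rw [repMap_comp, Category.assoc, hx i, ← Category.assoc, ← repMap_comp, e12, repMap_comp,
        Category.assoc, ← hx j, ← Category.assoc, ← repMap_comp]
    obtain ⟨𝓡₂, h𝓡₂, hl₂⟩ := exists_rel_locally s t hE _ _ hk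
    obtain ⟨V₂, f₂, hf₂, w₂, hw₂⟩ := exists_mem_range 𝓡₂ h𝓡₂ (z : Vij.left)
    obtain ⟨ρ, hρ1, hρ2⟩ := hl₂ f₂ hf₂
    have key : (f₂ ≫ p₁ ≫ x i).left.base w₂ ∈ WU s t g ↔ (f₂ ≫ p₂ ≫ x j).left.base w₂ ∈ WU s t g :=
      ⟨fun h => inW_sat s t g hE _ _ ρ hρ1 hρ2 w₂ h,
        fun h => inW_sat_symm s t g hE _ _ ρ hρ1 hρ2 w₂ h⟩
    have e1 : (f₂ ≫ p₁ ≫ x i).left.base w₂ =
        (x i).left.base ((pullback.fst (gg i) (gg j)).base z) := by
      rw [← hw₂]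
      rfl
    have e2 : (f₂ ≫ p₂ ≫ x j).left.base w₂ =
        (x j).left.base ((pullback.snd (gg i) (gg j)).base z) := by
      rw [← hw₂]
      rfl
    rw [e1, e2] at key
    exact key
  obtain ⟨VT, hVT⟩ := Groth.Agent.S6045.exists_open gg
    (Scheme.fppfPrecoverage_le_fpqcPrecoverage _ hgg) O hcompat
  refine ⟨VT, ?_⟩
  intro T₀ q
  let Tq : Over S := Over.mk (q ≫ T.hom)
  let qh : Tq ⟶ T := Over.homMk q
  let Ti : ι' → Over S := fun i => Over.mk (pullback.snd (gg i) q ≫ q ≫ T.hom)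
  let k₁ : ∀ i, Ti i ⟶ Tq := fun i => Over.homMk (pullback.snd (gg i) q) rfl
  let k₂ : ∀ i, Ti i ⟶ Over.mk (gg i ≫ T.hom) := fun i => Over.homMk (pullback.fst (gg i) q) (by
    change pullback.fst (gg i) q ≫ gg i ≫ T.hom = pullback.snd (gg i) q ≫ q ≫ T.hom
    rw [pullback.condition_assoc])
  have e12 : ∀ i, k₁ i ≫ qh = k₂ i ≫ (Over.homMk (gg i) : Over.mk (gg i ≫ T.hom) ⟶ T) := by
    intro i
    apply Over.OverMorphism.ext
    exact pullback.condition.symm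
  have hclaim : ∀ i, PO s t s' t' φ ξ (k₁ i ≫ qh) ↔ InW s t g (k₂ i ≫ x i) := by
    intro i
    rw [← exists_iff_inW s t g s' t' r hsq φ hφ hE hlift]
    unfold PO
    rw [e12 i, repMap_comp, Category.assoc, ← hx i, ← Category.assoc, ← repMap_comp]
  have hInW : ∀ i, InW s t g (k₂ i ≫ x i) ↔
      ∀ w : ↥(pullback (gg i) q), q.base ((pullback.snd (gg i) q).base w) ∈ VT := by
    intro i
    have h1 : ∀ w : ↥(pullback (gg i) q), q.base ((pullback.snd (gg i) q).base w) =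
        (gg i).base ((pullback.fst (gg i) q).base w) := by
      intro w
      have := congrArg (fun m => m.base w) (pullback.condition (f := gg i) (g := q))
      simpa using this.symm
    constructor
    · intro h w
      rw [h1]
      have h2 : (pullback.fst (gg i) q).base w ∈ (gg i) ⁻¹ᵁ VT := by
        rw [hVT i]
        exact h w
      exact h2
    · intro h w
      have h2 : (pullback.fst (gg i) q).base w ∈ (gg i) ⁻¹ᵁ VT := by
        change (gg i).base ((pullback.fst (gg i) q).base w) ∈ VT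
        rw [← h1]
        exact h w
      rw [hVT i] at h2
      exact h2
  have hcov : Presieve.ofArrows (fun i => pullback (gg i) q) (fun i => pullback.snd (gg i) q) ∈
      Scheme.fppfPrecoverage T₀ := by
    rw [Presieve.ofArrows_pullback]
    exact Precoverage.pullbackArrows_mem q hgg
  constructor
  · intro hq z
    have hjs : Presieve.ofArrows V gg ∈ Scheme.jointlySurjectivePrecoverage T.left :=
      Scheme.fppfPrecoverage_le_fpqcPrecoverage _ hgg |>.2.1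
    rw [Scheme.jointlySurjectivePrecoverage,
      Presieve.mem_comap_jointlySurjectivePrecoverage_iff] at hjs
    obtain ⟨_, _, ⟨i⟩, v, hv⟩ := hjs (q.base z)
    obtain ⟨w, -, hw2⟩ := Scheme.Pullback.exists_preimage_pullback v z hv
    have h3 := (hInW i).mp ((hclaim i).mp (pO_comp s t s' t' φ ξ qh (k₁ i) hq)) w
    rw [hw2] at h3
    exact h3
  · intro hq
    refine pS_of_cover 𝕃 (PO s t s' t' φ ξ) (pO_comp s t s' t' φ ξ)
      (pO_loc s t s' t' φ ξ) q _ hcov ?_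
    rintro T₁ f ⟨i⟩
    exact (pS_iff (PO s t s' t' φ ξ) (pO_comp s t s' t' φ ξ) (k₁ i ≫ qh)).mpr
      ((hclaim i).mpr ((hInW i).mpr (fun w => hq _)))

include hsq hφ hE hopen hlift in
theorem exists_pullback_rep : ∃ (W : Over S) (ιT : W ⟶ T)
    (η : QuotSh.rep 𝕃 W ⟶ QuotSh.quot 𝕃 s' t'), IsOpenImmersion ιT.left ∧
      IsPullback η (QuotSh.repMap 𝕃 ιT) φ ξ := by
  have hmonoφ : Mono φ := mono_φ s t g s' t' r hsq φ hφ hE
  obtain ⟨VT, hVT⟩ := exists_open_rep s t g s' t' r hsq φ hφ hE hopen hlift ξ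
  let W : Over S := Over.mk (VT.ι ≫ T.hom)
  let ιT : W ⟶ T := Over.homMk VT.ι rfl
  have hcomp := pO_comp s t s' t' φ ξ
  have hP : PO s t s' t' φ ξ ιT := by
    refine (pS_iff _ hcomp ιT).mp ((hVT VT.ι).mpr (fun z => ?_))
    exact z.2
  obtain ⟨η, hη⟩ := hP
  refine ⟨W, ιT, η, (inferInstance : IsOpenImmersion VT.ι), ?_⟩
  let ψ : QuotSh.rep 𝕃 W ⟶ pullback φ ξ := pullback.lift η (QuotSh.repMap 𝕃 ιT) hη
  have hmonoι : Mono ιT := by
    have : Mono ιT.left := (inferInstance : Mono VT.ι)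
    exact (Over.forget S).mono_of_mono_map this
  have hmono : Mono ψ := by
    have h1 : Mono (QuotSh.repMap 𝕃 ιT) := (repFunctor 𝕃 S).map_mono ιT
    have : Mono (ψ ≫ pullback.snd φ ξ) := by
      rw [pullback.lift_snd]
      exact h1
    exact mono_of_mono ψ (pullback.snd φ ξ)
  have hepi : Epi ψ := by
    constructor
    intro Y m₁ m₂ h12
    apply Groth.Agent.Lib.Seat19.LocAff.hom_ext_rep
    intro W₀ c
    let τ : W₀ ⟶ T := (repFunctorFullyFaithful 𝕃).preimage (c ≫ pullback.snd φ ξ)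
    have hτ : QuotSh.repMap 𝕃 τ = c ≫ pullback.snd φ ξ :=
      (repFunctorFullyFaithful 𝕃).map_preimage _
    have hPτ : PO s t s' t' φ ξ τ :=
      ⟨c ≫ pullback.fst φ ξ, by rw [Category.assoc, pullback.condition, ← Category.assoc, hτ]⟩
    have hz := (hVT τ.left).mp ((pS_iff _ hcomp τ).mpr hPτ)
    have hrange : Set.range τ.left.base ⊆ Set.range VT.ι.base := by
      rintro _ ⟨z, rfl⟩
      rw [Scheme.Opens.range_ι]
      exact hz z
    let l₀ : W₀.left ⟶ VT.toScheme := IsOpenImmersion.lift VT.ι τ.left hrange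
    have hl₀ : l₀ ≫ VT.ι = τ.left := IsOpenImmersion.lift_fac _ _ _
    let l : W₀ ⟶ W := Over.homMk l₀ (by
      change l₀ ≫ VT.ι ≫ T.hom = W₀.hom
      rw [← Category.assoc, hl₀, Over.w τ])
    have hl : l ≫ ιT = τ := by
      apply Over.OverMorphism.ext
      exact hl₀
    have hc : c = QuotSh.repMap 𝕃 l ≫ ψ := by
      apply pullback.hom_ext
      · rw [Category.assoc, pullback.lift_fst, ← cancel_mono φ, Category.assoc, Category.assoc,
          hη, pullback.condition, ← Category.assoc, ← hτ, ← Category.assoc, ← repMap_comp, hl]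
      · rw [Category.assoc, pullback.lift_snd, ← repMap_comp, hl, hτ]
    rw [hc, Category.assoc, Category.assoc, h12]
  have hiso : IsIso ψ := ToposLike.isIso_of_mono_of_epi ψ hmono hepi
  exact IsPullback.of_iso_pullback ⟨hη⟩ (asIso ψ) (pullback.lift_fst _ _ _)
    (pullback.lift_snd _ _ _)

include hsq hφ hE hopen hlift in
/-- general form of the open immersion theorem for restricted quotients. -/
theorem repWith : AlgSp.RepWith @IsOpenImmersion φ := by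
  have hfull : (AlgSp.yon S).Full :=
    ((QuotSh.J 𝕃 S).fullyFaithfulUliftYoneda.{u + 1}).full
  have hfaith : (AlgSp.yon S).Faithful :=
    ((QuotSh.J 𝕃 S).fullyFaithfulUliftYoneda.{u + 1}).faithful
  apply MorphismProperty.relative.of_exists
  intro T ξ
  let eT : QuotSh.rep 𝕃 T ≅ (AlgSp.yon S).obj T := (repFunctorIso 𝕃 (S := S)).app T
  obtain ⟨W, ιT, η, hopen', hpb⟩ :=
    exists_pullback_rep s t g s' t' r hsq φ hφ hE hopen hlift (eT.hom ≫ ξ)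
  let eW : QuotSh.rep 𝕃 W ≅ (AlgSp.yon S).obj W := (repFunctorIso 𝕃 (S := S)).app W
  refine ⟨W, eW.inv ≫ η, ιT, ?_, hopen'⟩
  refine IsPullback.of_iso hpb eW (Iso.refl _) eT (Iso.refl _) ?_ ?_ ?_ ?_
  · exact (Category.comp_id _).trans (Iso.hom_inv_id_assoc eW η).symm
  · exact (repFunctorIso 𝕃 (S := S)).hom.naturality ιT
  · simp
  · simp

end Assemble

section GrpdCase

variable {S : Scheme.{u}} (G : Grpd.GroupoidScheme S)

/-- the source map over `S`. -/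
abbrev sO : (Over.mk G.pR : Over S) ⟶ Over.mk G.pU := Over.homMk G.s G.s_over

/-- the target map over `S`. -/
abbrev tO : (Over.mk G.pR : Over S) ⟶ Over.mk G.pU := Over.homMk G.t G.t_over

lemma rel_equivalence_grpd (W : Over S) : _root_.Equivalence (rel (sO G) (tO G) W) := by
  have heR : G.e ≫ G.pR = G.pU := by
    rw [← G.s_over, ← Category.assoc, G.e_s, Category.id_comp]
  have hiR : G.i ≫ G.pR = G.pR := by
    calc G.i ≫ G.pR = G.i ≫ G.s ≫ G.pU := by rw [G.s_over]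
      _ = G.t ≫ G.pU := by rw [← Category.assoc, G.i_s]
      _ = G.pR := G.t_over
  let eO : (Over.mk G.pU : Over S) ⟶ Over.mk G.pR := Over.homMk G.e heR
  let iO : (Over.mk G.pR : Over S) ⟶ Over.mk G.pR := Over.homMk G.i hiR
  have e1 : eO ≫ sO G = 𝟙 _ := by
    apply Over.OverMorphism.ext
    exact G.e_s
  have e2 : eO ≫ tO G = 𝟙 _ := by
    apply Over.OverMorphism.ext
    exact G.e_t
  have i1 : iO ≫ sO G = tO G := by
    apply Over.OverMorphism.ext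
    exact G.i_s
  have i2 : iO ≫ tO G = sO G := by
    apply Over.OverMorphism.ext
    exact G.i_t
  refine ⟨fun x => ?_, ?_, ?_⟩
  · exact ⟨x.down ≫ eO, by rw [Category.assoc, e1, Category.comp_id],
      by rw [Category.assoc, e2, Category.comp_id]⟩
  · rintro x y ⟨ρ, h1, h2⟩
    exact ⟨ρ ≫ iO, by rw [Category.assoc, i1, h2], by rw [Category.assoc, i2, h1]⟩
  · rintro x y z ⟨ρ₁, h1, h2⟩ ⟨ρ₂, h3, h4⟩
    have h : ρ₂.left ≫ G.s = ρ₁.left ≫ G.t := by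
      have a1 := congrArg (fun m => m.left) h3
      have a2 := congrArg (fun m => m.left) h2
      exact a1.trans a2.symm
    let κ : W.left ⟶ G.R := pullback.lift ρ₂.left ρ₁.left h ≫ G.c
    have hκs : κ ≫ G.s = ρ₁.left ≫ G.s := G.comp_s ρ₂.left ρ₁.left h
    have hκt : κ ≫ G.t = ρ₂.left ≫ G.t := G.comp_t ρ₂.left ρ₁.left h
    have hκ : κ ≫ G.pR = W.hom := by
      calc κ ≫ G.pR = κ ≫ G.s ≫ G.pU := by rw [G.s_over]
        _ = ρ₁.left ≫ G.s ≫ G.pU := by rw [← Category.assoc, hκs, Category.assoc]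
        _ = ρ₁.left ≫ G.pR := by rw [G.s_over]
        _ = W.hom := Over.w ρ₁
    refine ⟨Over.homMk κ hκ, ?_, ?_⟩
    · rw [← h1]
      apply Over.OverMorphism.ext
      exact hκs
    · rw [← h4]
      apply Over.OverMorphism.ext
      exact hκt

variable (U' : Scheme.{u}) (g : U' ⟶ G.U) (W : G.U.Opens)
  (hW : (W : Set ↥G.U) = Set.range ⇑(pullback.snd g G.t ≫ G.s))
  (hlift : pullback g G.t ⟶ ↑W) (hh : hlift ≫ W.ι = pullback.snd g G.t ≫ G.s)
  (hsurj : Sheaf.IsLocallySurjective ((AlgSp.yon S).map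
    (Over.homMk hlift ((Category.assoc _ _ _).symm.trans (congrArg (· ≫ G.pU) hh)) :
      Over.mk ((pullback.snd g G.t ≫ G.s) ≫ G.pU) ⟶ Over.mk (W.ι ≫ G.pU))))

/-- the restriction map over `S`. -/
abbrev gO : (Over.mk (g ≫ G.pU) : Over S) ⟶ Over.mk G.pU := Over.homMk g rfl

include hW in
lemma wU_eq : WU (sO G) (tO G) (gO G U' g) = (W : Set ↥G.U) := hW.symm

include hW hh hsurj in
lemma hlift_grpd ⦃V : Over S⦄ (a : V ⟶ Over.mk G.pU) (ha : InW (sO G) (tO G) (gO G U' g) a) :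
    ∃ 𝓡 ∈ QuotSh.J 𝕃 S V, ∀ ⦃V' : Over S⦄ (f : V' ⟶ V), 𝓡 f →
      ∃ (u' : V' ⟶ Over.mk (g ≫ G.pU)) (ρ : V' ⟶ Over.mk G.pR),
        ρ ≫ sO G = f ≫ a ∧ ρ ≫ tO G = u' ≫ gO G U' g := by
  have hrange : Set.range a.left.base ⊆ Set.range W.ι.base := by
    rintro _ ⟨z, rfl⟩
    rw [Scheme.Opens.range_ι, ← wU_eq G U' g W hW]
    exact ha z
  let aW₀ : V.left ⟶ (W : Scheme.{u}) := IsOpenImmersion.lift W.ι a.left hrange
  have haW₀ : aW₀ ≫ W.ι = a.left := IsOpenImmersion.lift_fac _ _ _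
  let WO : Over S := Over.mk (W.ι ≫ G.pU)
  let P₀ : Over S := Over.mk ((pullback.snd g G.t ≫ G.s) ≫ G.pU)
  let m : P₀ ⟶ WO := Over.homMk hlift ((Category.assoc _ _ _).symm.trans (congrArg (· ≫ G.pU) hh))
  let aW : V ⟶ WO := Over.homMk aW₀ (by
    change aW₀ ≫ W.ι ≫ G.pU = V.hom
    rw [← Category.assoc, haW₀]
    exact Over.w a)
  have hs : Presheaf.IsLocallySurjective (QuotSh.J 𝕃 S) ((AlgSp.yon S).map m).hom := hsurj
  refine ⟨Presheaf.imageSieve ((AlgSp.yon S).map m).hom (⟨aW⟩ : ULift.{u + 1} (V ⟶ WO)),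
    hs.imageSieve_mem _, ?_⟩
  rintro V' f ⟨y, hy⟩
  have hy' : y.down ≫ m = f ≫ aW := congrArg ULift.down hy
  let c : V'.left ⟶ pullback g G.t := y.down.left
  have hc : c ≫ hlift = f.left ≫ aW₀ := congrArg (fun k => k.left) hy'
  have hc' : c ≫ pullback.snd g G.t ≫ G.s = f.left ≫ a.left := by
    rw [← hh, ← Category.assoc, hc, Category.assoc, haW₀]
  have hcw : c ≫ (pullback.snd g G.t ≫ G.s) ≫ G.pU = V'.hom := Over.w y.down
  have hρ : (c ≫ pullback.snd g G.t) ≫ G.pR = V'.hom := by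
    calc (c ≫ pullback.snd g G.t) ≫ G.pR = (c ≫ pullback.snd g G.t) ≫ G.s ≫ G.pU := by
          rw [G.s_over]
      _ = c ≫ (pullback.snd g G.t ≫ G.s) ≫ G.pU := by simp only [Category.assoc]
      _ = V'.hom := hcw
  have hu' : (c ≫ pullback.fst g G.t) ≫ g ≫ G.pU = V'.hom := by
    calc (c ≫ pullback.fst g G.t) ≫ g ≫ G.pU = c ≫ (pullback.fst g G.t ≫ g) ≫ G.pU := by
          simp only [Category.assoc]
      _ = c ≫ (pullback.snd g G.t ≫ G.t) ≫ G.pU := by rw [pullback.condition]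
      _ = (c ≫ pullback.snd g G.t) ≫ G.t ≫ G.pU := by simp only [Category.assoc]
      _ = (c ≫ pullback.snd g G.t) ≫ G.pR := by rw [G.t_over]
      _ = V'.hom := hρ
  refine ⟨Over.homMk (c ≫ pullback.fst g G.t) hu', Over.homMk (c ≫ pullback.snd g G.t) hρ, ?_, ?_⟩
  · apply Over.OverMorphism.ext
    change (c ≫ pullback.snd g G.t) ≫ G.s = f.left ≫ a.left
    rw [Category.assoc, hc']
  · apply Over.OverMorphism.ext
    change (c ≫ pullback.snd g G.t) ≫ G.t = (c ≫ pullback.fst g G.t) ≫ g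
    rw [Category.assoc, Category.assoc, pullback.condition]

variable (R' : Over S) (s' t' : R' ⟶ Over.mk (g ≫ G.pU)) (r : R' ⟶ Over.mk G.pR)
  (hsq : IsPullback (prod.lift t' s') r
    (prod.map (gO G U' g) (gO G U' g)) (prod.lift (tO G) (sO G)))
  (ψ : QuotSh.quot 𝕃 s' t' ⟶ QuotSh.quot 𝕃 (sO G) (tO G))
  (hψ : QuotSh.quotπ 𝕃 s' t' ≫ ψ =
    QuotSh.repMap 𝕃 (gO G U' g) ≫ QuotSh.quotπ 𝕃 (sO G) (tO G))

include hW hh hsurj hsq hψ in
/-- **S10141**: the restricted quotient of a groupoid scheme is an open subsheaf. -/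
theorem repWith_grpd : AlgSp.RepWith @IsOpenImmersion ψ := by
  refine repWith (sO G) (tO G) (gO G U' g) s' t' r hsq ψ hψ (rel_equivalence_grpd G) ?_
    (hlift_grpd G U' g W hW hlift hh hsurj)
  rw [wU_eq G U' g W hW]
  exact W.2

end GrpdCase

end Groth.Agent.Lib.Seat19.QuotOpenG
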