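import Mathlib
import Groth.Prelude.Def_Grpd
import Groth.Prelude.Def_QuotSh
import Groth.Agent.Lib.Seat19FFQ
import Groth.Agent.Lib.Seat19Quot1
import Groth.Agent.Lib.Seat19Quot3
import Groth.Agent.Lib.Helper12QuotSh

/-!
# The affine finite locally free quotient represents the fppf quotient sheaf (helper19)
-/

set_option autoImplicit false
set_option linter.unusedSectionVars false
set_option linter.style.haveILetI false
universe u

open CategoryTheory CategoryTheory.Limits AlgebraicGeometry Opposite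

namespace Groth.Agent.Lib.Seat19.QuotShf

variable {S : Scheme.{u}} (G : Grpd.GroupoidScheme S)

section
variable [IsAffine G.U] [IsAffine G.R] [IsFinite G.s] [Flat G.s] [LocallyOfFinitePresentation G.s]
  [IsFinite G.t] [Flat G.t] [LocallyOfFinitePresentation G.t] [Mono G.j]

instance : Surjective G.toQuot := ⟨Groth.Agent.Lib.Seat19.Quot1.toQuot_surjective G⟩

instance : Flat G.toQuot := (Groth.Agent.Lib.Seat19.FFQ.toQuot_props G).2.1

instance : LocallyOfFinitePresentation G.toQuot := (Groth.Agent.Lib.Seat19.FFQ.toQuot_props G).2.2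

/-- any morphism coequalizing `t` and `s` factors through the quotient -/
theorem exists_desc {Z : Scheme.{u}} (f : G.U ⟶ Z) (hf : G.t ≫ f = G.s ≫ f) :
    ∃ g : Spec (CommRingCat.of G.invariants) ⟶ Z, G.toQuot ≫ g = f := by
  have hpb := Groth.Agent.Lib.Seat19.FFQ.isPullback_toQuot G
  have key : ∀ {T : Scheme.{u}} (g₁ g₂ : T ⟶ G.U), g₁ ≫ G.toQuot = g₂ ≫ G.toQuot →
      g₁ ≫ f = g₂ ≫ f := by
    intro T g₁ g₂ h
    have h1 : hpb.lift g₁ g₂ h ≫ G.t = g₁ := hpb.lift_fst _ _ _
    have h2 : hpb.lift g₁ g₂ h ≫ G.s = g₂ := hpb.lift_snd _ _ _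
    calc g₁ ≫ f = (hpb.lift g₁ g₂ h ≫ G.t) ≫ f := by rw [h1]
      _ = (hpb.lift g₁ g₂ h ≫ G.s) ≫ f := by rw [Category.assoc, Category.assoc, hf]
      _ = g₂ ≫ f := by rw [h2]
  exact ⟨EffectiveEpi.desc G.toQuot f key, EffectiveEpi.fac _ _ _⟩

theorem main : ∃! m : Spec (CommRingCat.of G.invariants) ⟶ S, ∃ h : G.toQuot ≫ m = G.pU,
    QuotSh.IsQuotient Scheme.fppfPrecoverage
      (Over.homMk G.s G.s_over : Over.mk G.pR ⟶ Over.mk G.pU)
      (Over.homMk G.t G.t_over : Over.mk G.pR ⟶ Over.mk G.pU)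
      (Over.homMk G.toQuot h : Over.mk G.pU ⟶ Over.mk m) := by
  obtain ⟨m, hm⟩ := exists_desc G G.pU (G.t_over.trans G.s_over.symm)
  refine ⟨m, ⟨hm, ?_⟩, ?_⟩
  · apply Groth.Agent.Lib.Helper12.QuotShLib.isQuotient_of_isKernelPair
    · refine IsPullback.of_map (Over.forget S) ?_ ?_
      · apply Over.OverMorphism.ext
        simp only [Over.comp_left, Over.homMk_left]
        exact (Groth.Agent.Lib.Seat19.FFQ.isPullback_toQuot G).w.symm
      · exact (Groth.Agent.Lib.Seat19.FFQ.isPullback_toQuot G).flip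
    · exact Scheme.Hom.singleton_mem_fppfPrecoverage G.toQuot
  · rintro m' ⟨hm', -⟩
    haveI := Groth.Agent.Lib.Seat19.Quot3.epi_toQuot G
    rw [← cancel_epi G.toQuot, hm, hm']

end

end Groth.Agent.Lib.Seat19.QuotShf
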