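import Mathlib.RingTheory.MvPolynomial.EulerIdentity
import Mathlib.RingTheory.MvPolynomial.Homogeneous
import Mathlib.Algebra.MvPolynomial.PDeriv
import Mathlib.LinearAlgebra.Dual.Lemmas
import Mathlib.LinearAlgebra.Basis.VectorSpace

/-!
# Directional derivatives of polynomials at a point (Seat 19)

`dd v w G = ∑ i, w i * (∂G/∂X_i)(v)`, with its Leibniz rule, Euler's identity and the symmetry for quadratic
forms; linear forms `linPoly α` as polynomials.
-/

namespace Groth.Agent.Lib.Seat19.TangA

open MvPolynomial Finset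

universe u

variable {k : Type u} [Field k] {r : ℕ}

/-- The directional derivative of a polynomial at the point `v` in the direction `w`. -/
noncomputable def dd (v w : Fin (r + 1) → k) : MvPolynomial (Fin (r + 1)) k →ₗ[k] k :=
  ∑ i : Fin (r + 1), (w i) • ((MvPolynomial.aeval v).toLinearMap ∘ₗ (MvPolynomial.pderiv i).toLinearMap)

theorem dd_apply (v w : Fin (r + 1) → k) (G : MvPolynomial (Fin (r + 1)) k) :
    dd v w G = ∑ i, w i * MvPolynomial.aeval v (MvPolynomial.pderiv i G) := by
  simp [dd, LinearMap.sum_apply]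

theorem dd_mul (v w : Fin (r + 1) → k) (G H : MvPolynomial (Fin (r + 1)) k) :
    dd v w (G * H) = MvPolynomial.aeval v G * dd v w H + MvPolynomial.aeval v H * dd v w G := by
  simp only [dd_apply, Derivation.leibniz, smul_eq_mul, map_add, map_mul, mul_sum,
    ← sum_add_distrib]
  apply sum_congr rfl
  intro i _
  ring

theorem dd_one (v w : Fin (r + 1) → k) : dd v w (1 : MvPolynomial (Fin (r + 1)) k) = 0 := by
  simp [dd_apply]

theorem dd_C (v w : Fin (r + 1) → k) (c : k) : dd v w (C c : MvPolynomial (Fin (r + 1)) k) = 0 := by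
  simp [dd_apply]

theorem dd_pow_succ (v w : Fin (r + 1) → k) (G : MvPolynomial (Fin (r + 1)) k) (n : ℕ) :
    dd v w (G ^ (n + 1)) = ((n : k) + 1) * MvPolynomial.aeval v G ^ n * dd v w G := by
  induction n with
  | zero => simp
  | succ n ih =>
    rw [pow_succ, dd_mul, ih, map_pow]
    push_cast
    ring

theorem dd_add_right (v w w' : Fin (r + 1) → k) (G : MvPolynomial (Fin (r + 1)) k) :
    dd v (w + w') G = dd v w G + dd v w' G := by
  simp only [dd_apply, Pi.add_apply, add_mul, sum_add_distrib]

theorem dd_smul_right (v w : Fin (r + 1) → k) (c : k) (G : MvPolynomial (Fin (r + 1)) k) :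
    dd v (c • w) G = c * dd v w G := by
  simp only [dd_apply, Pi.smul_apply, smul_eq_mul, mul_sum, mul_assoc]

/-- Euler's identity. -/
theorem dd_self {G : MvPolynomial (Fin (r + 1)) k} {n : ℕ} (hG : G.IsHomogeneous n)
    (v : Fin (r + 1) → k) : dd v v G = (n : k) * MvPolynomial.aeval v G := by
  have h := congrArg (MvPolynomial.aeval v) hG.sum_X_mul_pderiv
  rw [map_sum] at h
  simp only [map_mul, aeval_X, nsmul_eq_mul, map_natCast] at h
  rw [dd_apply]
  exact h

theorem pderiv_comm (i j : Fin (r + 1)) (G : MvPolynomial (Fin (r + 1)) k) :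
    pderiv i (pderiv j G) = pderiv j (pderiv i G) := by
  by_cases hij : i = j
  · subst hij; rfl
  ext m
  rw [coeff_pderiv, coeff_pderiv, coeff_pderiv, coeff_pderiv]
  have h1 : m + Finsupp.single i 1 + Finsupp.single j 1 = m + Finsupp.single j 1 + Finsupp.single i 1 :=
    add_right_comm _ _ _
  have h2 : (m + Finsupp.single i 1 : Fin (r + 1) →₀ ℕ) j = m j := by
    simp [Finsupp.single_apply, hij]
  have h3 : (m + Finsupp.single j 1 : Fin (r + 1) →₀ ℕ) i = m i := by
    simp [Finsupp.single_apply, Ne.symm hij]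
  rw [h1, h2, h3]
  ring

/-- The constant second partial derivative of a quadratic form. -/
theorem aeval_pderiv_pderiv_const {G : MvPolynomial (Fin (r + 1)) k} (hG : G.IsHomogeneous 2)
    (i j : Fin (r + 1)) (v w : Fin (r + 1) → k) :
    MvPolynomial.aeval v (pderiv j (pderiv i G)) = MvPolynomial.aeval w (pderiv j (pderiv i G)) := by
  have h1 : (pderiv j (pderiv i G)).IsHomogeneous 0 := by
    have := (hG.pderiv (i := i)).pderiv (i := j)
    simpa using this
  rw [← totalDegree_zero_iff_isHomogeneous, totalDegree_eq_zero_iff_eq_C] at h1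
  rw [h1]
  simp

/-- For a quadratic form the polar form is symmetric. -/
theorem dd_symm {G : MvPolynomial (Fin (r + 1)) k} (hG : G.IsHomogeneous 2)
    (v w : Fin (r + 1) → k) : dd v w G = dd w v G := by
  have hlin : ∀ (i : Fin (r + 1)) (u : Fin (r + 1) → k), MvPolynomial.aeval u (pderiv i G) =
      ∑ j, u j * MvPolynomial.aeval u (pderiv j (pderiv i G)) := by
    intro i u
    have h1 : (pderiv i G).IsHomogeneous 1 := by
      simpa using hG.pderiv (i := i)
    have h := congrArg (MvPolynomial.aeval u) h1.sum_X_mul_pderiv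
    rw [map_sum] at h
    simp only [map_mul, aeval_X, one_smul] at h
    exact h.symm
  have hL : ∀ a b : Fin (r + 1) → k, dd a b G =
      ∑ i, ∑ j, b i * a j * MvPolynomial.aeval (0 : Fin (r + 1) → k) (pderiv j (pderiv i G)) := by
    intro a b
    rw [dd_apply]
    apply sum_congr rfl
    intro i _
    rw [hlin i a, mul_sum]
    apply sum_congr rfl
    intro j _
    rw [aeval_pderiv_pderiv_const hG i j a 0]
    ring
  rw [hL v w, hL w v, sum_comm]
  apply sum_congr rfl
  intro i _
  apply sum_congr rfl
  intro j _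
  rw [pderiv_comm i j]
  ring

/-- A linear form as a polynomial. -/
noncomputable def linPoly (α : Module.Dual k (Fin (r + 1) → k)) : MvPolynomial (Fin (r + 1)) k :=
  ∑ i : Fin (r + 1), C (α (Pi.single i 1)) * X i

theorem linPoly_isHomogeneous (α : Module.Dual k (Fin (r + 1) → k)) :
    (linPoly α).IsHomogeneous 1 := by
  apply IsHomogeneous.sum
  intro i _
  have := (isHomogeneous_C (Fin (r + 1)) (α (Pi.single i 1))).mul (isHomogeneous_X k i)
  simpa using this

theorem aeval_linPoly (α : Module.Dual k (Fin (r + 1) → k)) (v : Fin (r + 1) → k) :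
    MvPolynomial.aeval v (linPoly α) = α v := by
  rw [linPoly, map_sum]
  simp only [map_mul, aeval_C, aeval_X, Algebra.algebraMap_self, RingHom.id_apply]
  conv_rhs => rw [pi_eq_sum_univ' v, map_sum]
  apply sum_congr rfl
  intro i _
  rw [map_smul, smul_eq_mul, mul_comm]

theorem dd_linPoly (α : Module.Dual k (Fin (r + 1) → k)) (v w : Fin (r + 1) → k) :
    dd v w (linPoly α) = α w := by
  classical
  rw [dd_apply]
  have h : ∀ i : Fin (r + 1), pderiv i (linPoly α) = C (α (Pi.single i 1)) := by
    intro i
    rw [linPoly, map_sum]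
    rw [sum_eq_single i]
    · rw [Derivation.leibniz, pderiv_C, pderiv_X_self]; simp
    · intro j _ hj
      rw [Derivation.leibniz, pderiv_C, pderiv_X_of_ne hj]; simp
    · intro h; exact absurd (mem_univ i) h
  simp_rw [h, aeval_C, Algebra.algebraMap_self, RingHom.id_apply]
  conv_rhs => rw [pi_eq_sum_univ' w, map_sum]
  apply sum_congr rfl
  intro i _
  rw [map_smul, smul_eq_mul]

end Groth.Agent.Lib.Seat19.TangA
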