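import Groth.Prelude.Def_LefPen
import Groth.Agent.Lib.Seat19TangA

/-!
# Tangency conditions on forms: dual-valued version of `LefPen.tangLin` (Seat 19)
-/

namespace Groth.Agent.Lib.Seat19.TangB

open MvPolynomial Finset Groth.Agent.Lib.Seat19.TangA

universe u

variable {k : Type u} [Field k] {r : ℕ}

/-- The dual-valued part of the tangency map. -/
noncomputable def dualPart (d : ℕ) (W : Submodule k (Fin (r + 1) → k)) (v : Fin (r + 1) → k) :
    LefPen.Form r k d →ₗ[k] Module.Dual k W :=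
  ∑ i : Fin (r + 1), LinearMap.smulRight
    ((MvPolynomial.aeval v).toLinearMap ∘ₗ (MvPolynomial.pderiv i).toLinearMap ∘ₗ
      (CohB1.polyGrading r k d).subtype)
    ((LinearMap.proj i : (Fin (r + 1) → k) →ₗ[k] k) ∘ₗ W.subtype)

theorem dualPart_apply (d : ℕ) (W : Submodule k (Fin (r + 1) → k)) (v : Fin (r + 1) → k)
    (G : LefPen.Form r k d) (w : W) : dualPart d W v G w = dd v w.1 G.1 := by
  rw [dd_apply]
  simp only [dualPart, LinearMap.sum_apply, LinearMap.smulRight_apply, LinearMap.comp_apply,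
    LinearMap.smul_apply, LinearMap.proj_apply, Submodule.subtype_apply, smul_eq_mul]
  apply sum_congr rfl
  intro i _
  rw [mul_comm]
  rfl

/-- The dual-valued tangency map. -/
noncomputable def tP (d : ℕ) (W : Submodule k (Fin (r + 1) → k)) (v : Fin (r + 1) → k) :
    LefPen.Form r k d →ₗ[k] k × Module.Dual k W :=
  LinearMap.prod ((MvPolynomial.aeval v).toLinearMap ∘ₗ (CohB1.polyGrading r k d).subtype)
    (dualPart d W v)

theorem tP_apply (d : ℕ) (W : Submodule k (Fin (r + 1) → k)) (v : Fin (r + 1) → k)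
    (G : LefPen.Form r k d) :
    tP d W v G = (MvPolynomial.aeval v G.1, dualPart d W v G) := rfl

theorem mem_ker_tP (d : ℕ) (W : Submodule k (Fin (r + 1) → k)) (v : Fin (r + 1) → k)
    (G : LefPen.Form r k d) :
    G ∈ LinearMap.ker (tP d W v) ↔
      MvPolynomial.aeval v G.1 = 0 ∧ ∀ w : W, dd v w.1 G.1 = 0 := by
  rw [LinearMap.mem_ker, tP_apply, Prod.mk_eq_zero]
  constructor
  · rintro ⟨h1, h2⟩
    refine ⟨h1, fun w => ?_⟩
    rw [← dualPart_apply, h2]; rfl
  · rintro ⟨h1, h2⟩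
    refine ⟨h1, ?_⟩
    ext w
    rw [dualPart_apply, h2]; rfl

theorem mem_ker_tangLin (d : ℕ) (W : Submodule k (Fin (r + 1) → k)) (v : Fin (r + 1) → k)
    (G : LefPen.Form r k d) :
    G ∈ LinearMap.ker (LefPen.tangLin k W v) ↔
      MvPolynomial.aeval v G.1 = 0 ∧ ∀ w : W, dd v w.1 G.1 = 0 := by
  rw [LinearMap.mem_ker, LefPen.tangLin, LinearMap.prod_apply]
  change (_, _) = (0 : k × (↥W → k)) ↔ _
  rw [Prod.mk_eq_zero]
  have key : ∀ w : W, (LinearMap.pi fun w : ↥W =>
      ∑ i : Fin (r + 1), (w.1 i) • ((MvPolynomial.aeval v).toLinearMap ∘ₗ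
        (MvPolynomial.pderiv i).toLinearMap ∘ₗ (CohB1.polyGrading r k d).subtype)) G w =
      dd v w.1 G.1 := by
    intro w
    rw [dd_apply]
    simp only [LinearMap.pi_apply, LinearMap.sum_apply, LinearMap.smul_apply,
      LinearMap.comp_apply, smul_eq_mul]
    rfl
  constructor
  · rintro ⟨h1, h2⟩
    refine ⟨h1, fun w => ?_⟩
    rw [← key w, h2]; rfl
  · rintro ⟨h1, h2⟩
    refine ⟨h1, ?_⟩
    funext w
    rw [key w, h2]; rfl

theorem ker_tP_eq (d : ℕ) (W : Submodule k (Fin (r + 1) → k)) (v : Fin (r + 1) → k) :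
    LinearMap.ker (tP d W v) = LinearMap.ker (LefPen.tangLin k (d := d) W v) := by
  ext G
  rw [mem_ker_tP, mem_ker_tangLin]

/-- The form `α ^ (e + 1) * ψ` for linear forms `α`, `ψ`. -/
noncomputable def mkForm (e : ℕ) (α ψ : Module.Dual k (Fin (r + 1) → k)) : LefPen.Form r k (e + 2) :=
  ⟨linPoly α ^ (e + 1) * linPoly ψ, by
    have h := ((linPoly_isHomogeneous α).pow (e + 1)).mul (linPoly_isHomogeneous ψ)
    have h2 : 1 * (e + 1) + 1 = e + 2 := by ring
    rw [h2] at h
    exact h⟩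

theorem tP_mkForm (e : ℕ) (W : Submodule k (Fin (r + 1) → k)) (v : Fin (r + 1) → k)
    (α ψ : Module.Dual k (Fin (r + 1) → k)) :
    tP (e + 2) W v (mkForm e α ψ) =
      (α v ^ (e + 1) * ψ v,
        (α v ^ (e + 1)) • (ψ ∘ₗ W.subtype) + (((e : k) + 1) * α v ^ e * ψ v) • (α ∘ₗ W.subtype)) := by
  rw [tP_apply]
  refine Prod.ext ?_ ?_
  · simp only [mkForm, map_mul, map_pow, aeval_linPoly]
  · ext w
    rw [dualPart_apply]
    simp only [mkForm, dd_mul, dd_pow_succ, dd_linPoly, map_pow, aeval_linPoly,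
      LinearMap.add_apply, LinearMap.smul_apply, LinearMap.comp_apply, Submodule.subtype_apply,
      smul_eq_mul]
    ring

end Groth.Agent.Lib.Seat19.TangB
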