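import Groth.Agent.Lib.Seat19TangB

/-!
# Construction of forms with prescribed tangency data (Seat 19)
-/

namespace Groth.Agent.Lib.Seat19.TangC

open MvPolynomial Finset Groth.Agent.Lib.Seat19.TangA Groth.Agent.Lib.Seat19.TangB

universe u

variable {k : Type u} [Field k] {r : ℕ}

/-- The basic one-sided construction. -/
theorem oneSided (e : ℕ) (W W' : Submodule k (Fin (r + 1) → k)) (v v' : Fin (r + 1) → k)
    (hv : v ∈ W) (α ψ : Module.Dual k (Fin (r + 1) → k)) (hα : α v = 1) (hα' : α v' = 0)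
    (a : k) (φ : Module.Dual k W) (hφ : φ ⟨v, hv⟩ = ((e : k) + 2) * a)
    (hψ : ∀ w : W, ψ w.1 = φ w - ((e : k) + 1) * a * α w.1)
    (hz : (0 : k) ^ e * ψ v' = 0 ∨ ∀ w ∈ W', α w = 0) :
    tP (e + 2) W v (mkForm e α ψ) = (a, φ) ∧ tP (e + 2) W' v' (mkForm e α ψ) = 0 := by
  have hψv : ψ v = a := by
    have := hψ ⟨v, hv⟩
    simp only at this
    rw [this, hφ, hα]; ring
  constructor
  · rw [tP_mkForm, hα, hψv]
    refine Prod.ext (by simp) ?_
    ext w
    simp only [one_pow, one_smul, mul_one, LinearMap.add_apply, LinearMap.comp_apply,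
      Submodule.subtype_apply, LinearMap.smul_apply, smul_eq_mul]
    rw [hψ w]; ring
  · rw [tP_mkForm, hα']
    refine Prod.ext (by simp) ?_
    ext w
    simp only [LinearMap.add_apply, LinearMap.comp_apply,
      Submodule.subtype_apply, LinearMap.smul_apply, smul_eq_mul, Prod.snd_zero,
      LinearMap.zero_apply]
    rw [pow_succ, mul_zero, zero_mul, zero_add]
    rcases hz with hz | hz
    · rw [mul_assoc, mul_assoc, ← mul_assoc ((0 : k) ^ e), hz]; ring
    · rw [hz w.1 w.2, mul_zero]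

/-- Existence of a form with prescribed data at `(W, v)` and vanishing data at `(W', v')`. -/
theorem exists_form (e : ℕ) (W W' : Submodule k (Fin (r + 1) → k)) (v v' : Fin (r + 1) → k)
    (hv : v ∈ W) (hv' : v' ∈ W')
    (hαex : ∃ α : Module.Dual k (Fin (r + 1) → k), α v = 1 ∧ α v' = 0)
    (hcase : 1 ≤ e ∨ v' ∉ W ∨ v ∉ W')
    (a : k) (φ : Module.Dual k W) (hφ : φ ⟨v, hv⟩ = ((e : k) + 2) * a) :
    ∃ G : LefPen.Form r k (e + 2), tP (e + 2) W v G = (a, φ) ∧ tP (e + 2) W' v' G = 0 := by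
  obtain ⟨α₀, hα₀, hα₀'⟩ := hαex
  rcases hcase with h | h | h
  · -- e ≥ 1
    obtain ⟨ψ, hψ⟩ := LinearMap.exists_extend (φ - (((e : k) + 1) * a) • (α₀ ∘ₗ W.subtype))
    refine ⟨mkForm e α₀ ψ, oneSided e W W' v v' hv α₀ ψ hα₀ hα₀' a φ hφ ?_ ?_⟩
    · intro w
      have := LinearMap.congr_fun hψ w
      simp only [LinearMap.comp_apply, Submodule.subtype_apply, LinearMap.sub_apply,
        LinearMap.smul_apply, smul_eq_mul] at this
      exact this
    · left
      rw [zero_pow (by omega), zero_mul]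
  · -- v' ∉ W
    obtain ⟨ψ, hψ, hψ'⟩ := LinearMap.exists_extend_of_notMem
      (φ - (((e : k) + 1) * a) • (α₀ ∘ₗ W.subtype)) h (0 : k)
    refine ⟨mkForm e α₀ ψ, oneSided e W W' v v' hv α₀ ψ hα₀ hα₀' a φ hφ ?_ ?_⟩
    · intro w
      have := LinearMap.congr_fun hψ w
      simp only [LinearMap.comp_apply, Submodule.subtype_apply, LinearMap.sub_apply,
        LinearMap.smul_apply, smul_eq_mul] at this
      exact this
    · left
      rw [hψ', mul_zero]
  · -- v ∉ W'
    obtain ⟨α, hα, hαv⟩ := LinearMap.exists_extend_of_notMem (0 : W' →ₗ[k] k) h (1 : k)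
    have hαW' : ∀ w ∈ W', α w = 0 := by
      intro w hw
      have := LinearMap.congr_fun hα ⟨w, hw⟩
      simpa using this
    obtain ⟨ψ, hψ⟩ := LinearMap.exists_extend (φ - (((e : k) + 1) * a) • (α ∘ₗ W.subtype))
    refine ⟨mkForm e α ψ, oneSided e W W' v v' hv α ψ hαv (hαW' v' hv') a φ hφ ?_ ?_⟩
    · intro w
      have := LinearMap.congr_fun hψ w
      simp only [LinearMap.comp_apply, Submodule.subtype_apply, LinearMap.sub_apply,
        LinearMap.smul_apply, smul_eq_mul] at this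
      exact this
    · right
      exact hαW'

/-- Dual functionals separating two linearly independent vectors. -/
theorem exists_dual_of_linearIndependent {v₁ v₂ : Fin (r + 1) → k}
    (hv : LinearIndependent k ![v₁, v₂]) :
    (∃ α : Module.Dual k (Fin (r + 1) → k), α v₁ = 1 ∧ α v₂ = 0) ∧
    (∃ β : Module.Dual k (Fin (r + 1) → k), β v₂ = 1 ∧ β v₁ = 0) := by
  rw [LinearIndependent.pair_iff] at hv
  have h1 : v₁ ∉ Submodule.span k {v₂} := by
    intro h
    obtain ⟨c, hc⟩ := Submodule.mem_span_singleton.mp h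
    have := hv 1 (-c) (by rw [one_smul, neg_smul, hc, add_neg_cancel])
    exact one_ne_zero this.1
  have h2 : v₂ ∉ Submodule.span k {v₁} := by
    intro h
    obtain ⟨c, hc⟩ := Submodule.mem_span_singleton.mp h
    have := hv (-c) 1 (by rw [one_smul, neg_smul, hc, neg_add_cancel])
    exact one_ne_zero this.2
  constructor
  · obtain ⟨α, hα, hαv⟩ := LinearMap.exists_extend_of_notMem
      (0 : Submodule.span k {v₂} →ₗ[k] k) h1 (1 : k)
    refine ⟨α, hαv, ?_⟩
    have := LinearMap.congr_fun hα ⟨v₂, Submodule.mem_span_singleton_self v₂⟩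
    simpa using this
  · obtain ⟨β, hβ, hβv⟩ := LinearMap.exists_extend_of_notMem
      (0 : Submodule.span k {v₁} →ₗ[k] k) h2 (1 : k)
    refine ⟨β, hβv, ?_⟩
    have := LinearMap.congr_fun hβ ⟨v₁, Submodule.mem_span_singleton_self v₁⟩
    simpa using this

end Groth.Agent.Lib.Seat19.TangC
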