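import Groth.Agent.Lib.Seat19TangC
import Mathlib.LinearAlgebra.Dimension.Constructions
import Mathlib.LinearAlgebra.Dimension.Finrank
import Mathlib.LinearAlgebra.FiniteDimensional.Lemmas

/-!
# The dimension count for forms with two tangency conditions (Seat 19)
-/

namespace Groth.Agent.Lib.Seat19.TangD

open MvPolynomial Finset Groth.Agent.Lib.Seat19.TangA Groth.Agent.Lib.Seat19.TangB
  Groth.Agent.Lib.Seat19.TangC

universe u

variable {k : Type u} [Field k] {r : ℕ}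

/-- The Euler constraint `(a, φ) ↦ φ v - d a`. -/
noncomputable def lam (d : ℕ) (W : Submodule k (Fin (r + 1) → k)) (v : W) :
    k × Module.Dual k W →ₗ[k] k :=
  (LinearMap.applyₗ v) ∘ₗ (LinearMap.snd k k (Module.Dual k W)) -
    (d : k) • (LinearMap.fst k k (Module.Dual k W))

theorem lam_apply (d : ℕ) (W : Submodule k (Fin (r + 1) → k)) (v : W) (a : k)
    (φ : Module.Dual k W) : lam d W v (a, φ) = φ v - (d : k) * a := by
  simp [lam]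

theorem lam_tP (d : ℕ) (W : Submodule k (Fin (r + 1) → k)) (v : W) (G : LefPen.Form r k d) :
    lam d W v (tP d W v.1 G) = 0 := by
  rw [tP_apply, lam_apply, dualPart_apply]
  have hG : G.1.IsHomogeneous d := (mem_homogeneousSubmodule d G.1).mp G.2
  rw [dd_self hG, sub_self]

/-- The pair of tangency maps. -/
noncomputable def tPP (d : ℕ) (W₁ W₂ : Submodule k (Fin (r + 1) → k)) (v₁ v₂ : Fin (r + 1) → k) :
    LefPen.Form r k d →ₗ[k] (k × Module.Dual k W₁) × (k × Module.Dual k W₂) :=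
  LinearMap.prod (tP d W₁ v₁) (tP d W₂ v₂)

theorem ker_tPP (d : ℕ) (W₁ W₂ : Submodule k (Fin (r + 1) → k)) (v₁ v₂ : Fin (r + 1) → k) :
    LinearMap.ker (tPP d W₁ W₂ v₁ v₂) = LefPen.tangentForms k d W₁ v₁ W₂ v₂ := by
  rw [tPP, LinearMap.ker_prod, ker_tP_eq, ker_tP_eq]
  rfl

instance finiteForm (d : ℕ) : Module.Finite k (LefPen.Form r k d) :=
  Module.Finite.iff_fg.mpr (homogeneousSubmodule_fg (σ := Fin (r + 1)) (R := k) d)

/-- The generic constraint map. -/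
noncomputable def Lam2 (d : ℕ) (W₁ W₂ : Submodule k (Fin (r + 1) → k)) (v₁ : W₁) (v₂ : W₂) :
    (k × Module.Dual k W₁) × (k × Module.Dual k W₂) →ₗ[k] k × k :=
  LinearMap.prodMap (lam d W₁ v₁) (lam d W₂ v₂)

theorem range_tPP_generic (d : ℕ) (hd : 2 ≤ d) (W₁ W₂ : Submodule k (Fin (r + 1) → k))
    (v₁ v₂ : Fin (r + 1) → k) (h₁ : v₁ ∈ W₁) (h₂ : v₂ ∈ W₂)
    (hv : LinearIndependent k ![v₁, v₂]) (hgen : 3 ≤ d ∨ ¬ (v₂ ∈ W₁ ∧ v₁ ∈ W₂)) :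
    LinearMap.range (tPP d W₁ W₂ v₁ v₂) = LinearMap.ker (Lam2 d W₁ W₂ ⟨v₁, h₁⟩ ⟨v₂, h₂⟩) := by
  obtain ⟨hαex, hβex⟩ := exists_dual_of_linearIndependent hv
  apply le_antisymm
  · rintro _ ⟨G, rfl⟩
    rw [LinearMap.mem_ker, Lam2, tPP, LinearMap.prod_apply]
    change LinearMap.prodMap _ _ (_, _) = _
    rw [LinearMap.prodMap_apply]
    have e1 := lam_tP d W₁ ⟨v₁, h₁⟩ G
    have e2 := lam_tP d W₂ ⟨v₂, h₂⟩ G
    simp only at e1 e2
    rw [e1, e2]; rfl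
  · rintro ⟨⟨a₁, φ₁⟩, ⟨a₂, φ₂⟩⟩ hy
    rw [LinearMap.mem_ker, Lam2, LinearMap.prodMap_apply, Prod.mk_eq_zero, lam_apply, lam_apply,
      sub_eq_zero, sub_eq_zero] at hy
    obtain ⟨hy1, hy2⟩ := hy
    obtain ⟨e, rfl⟩ : ∃ e, d = e + 2 := ⟨d - 2, by omega⟩
    have hcast : ((e + 2 : ℕ) : k) = (e : k) + 2 := by push_cast; ring
    rw [hcast] at hy1 hy2
    have hc1 : 1 ≤ e ∨ v₂ ∉ W₁ ∨ v₁ ∉ W₂ := by
      rcases hgen with h | h
      · left; omega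
      · right
        by_cases h' : v₂ ∈ W₁
        · right; exact fun h'' => h ⟨h', h''⟩
        · left; exact h'
    have hc2 : 1 ≤ e ∨ v₁ ∉ W₂ ∨ v₂ ∉ W₁ := by
      rcases hc1 with h | h | h
      · exact Or.inl h
      · exact Or.inr (Or.inr h)
      · exact Or.inr (Or.inl h)
    obtain ⟨G₁, hG₁, hG₁'⟩ := exists_form e W₁ W₂ v₁ v₂ h₁ h₂ hαex hc1 a₁ φ₁ hy1
    obtain ⟨G₂, hG₂, hG₂'⟩ := exists_form e W₂ W₁ v₂ v₁ h₂ h₁ hβex hc2 a₂ φ₂ hy2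
    refine ⟨G₁ + G₂, ?_⟩
    rw [tPP, LinearMap.prod_apply]
    change (tP (e + 2) W₁ v₁ (G₁ + G₂), tP (e + 2) W₂ v₂ (G₁ + G₂)) = _
    rw [map_add, map_add, hG₁, hG₁', hG₂, hG₂', add_zero, zero_add]

theorem Lam2_surjective (d : ℕ) (W₁ W₂ : Submodule k (Fin (r + 1) → k))
    (v₁ v₂ : Fin (r + 1) → k) (h₁ : v₁ ∈ W₁) (h₂ : v₂ ∈ W₂)
    (hv : LinearIndependent k ![v₁, v₂]) :
    Function.Surjective (Lam2 d W₁ W₂ ⟨v₁, h₁⟩ ⟨v₂, h₂⟩) := by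
  obtain ⟨⟨α, hα, -⟩, ⟨β, hβ, -⟩⟩ := exists_dual_of_linearIndependent hv
  rintro ⟨b₁, b₂⟩
  refine ⟨((0, b₁ • (α ∘ₗ W₁.subtype)), (0, b₂ • (β ∘ₗ W₂.subtype))), ?_⟩
  rw [Lam2, LinearMap.prodMap_apply, lam_apply, lam_apply]
  simp [hα, hβ]

theorem finrank_target (W₁ W₂ : Submodule k (Fin (r + 1) → k)) :
    Module.finrank k ((k × Module.Dual k W₁) × (k × Module.Dual k W₂)) =
      2 + (Module.finrank k W₁ + Module.finrank k W₂) := by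
  rw [Module.finrank_prod, Module.finrank_prod, Module.finrank_prod, Module.finrank_self,
    Subspace.dual_finrank_eq, Subspace.dual_finrank_eq]
  ring

/-- The generic count. -/
theorem finrank_generic (d : ℕ) (hd : 2 ≤ d) (W₁ W₂ : Submodule k (Fin (r + 1) → k))
    (v₁ v₂ : Fin (r + 1) → k) (h₁ : v₁ ∈ W₁) (h₂ : v₂ ∈ W₂)
    (hv : LinearIndependent k ![v₁, v₂]) (hgen : 3 ≤ d ∨ ¬ (v₂ ∈ W₁ ∧ v₁ ∈ W₂)) :
    Module.finrank k (LefPen.Form r k d) =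
      Module.finrank k ↥(LefPen.tangentForms k d W₁ v₁ W₂ v₂) +
        (Module.finrank k ↥W₁ + Module.finrank k ↥W₂) := by
  have e1 := LinearMap.finrank_range_add_finrank_ker (tPP d W₁ W₂ v₁ v₂)
  rw [ker_tPP, range_tPP_generic d hd W₁ W₂ v₁ v₂ h₁ h₂ hv hgen] at e1
  have e2 := LinearMap.finrank_range_add_finrank_ker (Lam2 d W₁ W₂ ⟨v₁, h₁⟩ ⟨v₂, h₂⟩)
  rw [LinearMap.range_eq_top.mpr (Lam2_surjective d W₁ W₂ v₁ v₂ h₁ h₂ hv), finrank_top,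
    finrank_target, Module.finrank_prod, Module.finrank_self] at e2
  omega

end Groth.Agent.Lib.Seat19.TangD
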