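import Groth.Agent.Lib.Seat19TangD

/-!
# The special case `d = 2`, line contained in both subspaces (Seat 19)
-/

namespace Groth.Agent.Lib.Seat19.TangE

open MvPolynomial Finset Groth.Agent.Lib.Seat19.TangA Groth.Agent.Lib.Seat19.TangB
  Groth.Agent.Lib.Seat19.TangC Groth.Agent.Lib.Seat19.TangD

universe u

variable {k : Type u} [Field k] {r : ℕ}

/-- The symmetry constraint `φ₁ v₂ - φ₂ v₁`. -/
noncomputable def mu (W₁ W₂ : Submodule k (Fin (r + 1) → k)) (v₂ : W₁) (v₁ : W₂) :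
    (k × Module.Dual k W₁) × (k × Module.Dual k W₂) →ₗ[k] k :=
  (LinearMap.applyₗ v₂) ∘ₗ (LinearMap.snd k k (Module.Dual k W₁)) ∘ₗ
      (LinearMap.fst k (k × Module.Dual k W₁) (k × Module.Dual k W₂)) -
    (LinearMap.applyₗ v₁) ∘ₗ (LinearMap.snd k k (Module.Dual k W₂)) ∘ₗ
      (LinearMap.snd k (k × Module.Dual k W₁) (k × Module.Dual k W₂))

theorem mu_apply (W₁ W₂ : Submodule k (Fin (r + 1) → k)) (v₂ : W₁) (v₁ : W₂) (a₁ a₂ : k)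
    (φ₁ : Module.Dual k W₁) (φ₂ : Module.Dual k W₂) :
    mu W₁ W₂ v₂ v₁ ((a₁, φ₁), (a₂, φ₂)) = φ₁ v₂ - φ₂ v₁ := by
  simp [mu]

/-- The special constraint map. -/
noncomputable def Lam3 (W₁ W₂ : Submodule k (Fin (r + 1) → k)) (v₁ : W₁) (v₂ : W₂)
    (v₂' : W₁) (v₁' : W₂) :
    (k × Module.Dual k W₁) × (k × Module.Dual k W₂) →ₗ[k] (k × k) × k :=
  LinearMap.prod (Lam2 2 W₁ W₂ v₁ v₂) (mu W₁ W₂ v₂' v₁')

theorem Lam3_apply (W₁ W₂ : Submodule k (Fin (r + 1) → k)) (v₁ : W₁) (v₂ : W₂)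
    (v₂' : W₁) (v₁' : W₂) (a₁ a₂ : k) (φ₁ : Module.Dual k W₁) (φ₂ : Module.Dual k W₂) :
    Lam3 W₁ W₂ v₁ v₂ v₂' v₁' ((a₁, φ₁), (a₂, φ₂)) =
      ((φ₁ v₁ - ((2 : ℕ) : k) * a₁, φ₂ v₂ - ((2 : ℕ) : k) * a₂), φ₁ v₂' - φ₂ v₁') := by
  rw [Lam3, LinearMap.prod_apply]
  change (Lam2 2 W₁ W₂ v₁ v₂ ((a₁, φ₁), (a₂, φ₂)), mu W₁ W₂ v₂' v₁' ((a₁, φ₁), (a₂, φ₂))) = _
  rw [mu_apply, Lam2, LinearMap.prodMap_apply, lam_apply, lam_apply]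

theorem range_tPP_special (W₁ W₂ : Submodule k (Fin (r + 1) → k))
    (v₁ v₂ : Fin (r + 1) → k) (h₁ : v₁ ∈ W₁) (h₂ : v₂ ∈ W₂)
    (hv : LinearIndependent k ![v₁, v₂]) (h₂₁ : v₂ ∈ W₁) (h₁₂ : v₁ ∈ W₂) :
    LinearMap.range (tPP 2 W₁ W₂ v₁ v₂) =
      LinearMap.ker (Lam3 W₁ W₂ ⟨v₁, h₁⟩ ⟨v₂, h₂⟩ ⟨v₂, h₂₁⟩ ⟨v₁, h₁₂⟩) := by
  obtain ⟨hαex, hβex⟩ := exists_dual_of_linearIndependent hv
  apply le_antisymm
  · rintro _ ⟨G, rfl⟩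
    rw [LinearMap.mem_ker, tPP, LinearMap.prod_apply]
    change Lam3 W₁ W₂ _ _ _ _ (tP 2 W₁ v₁ G, tP 2 W₂ v₂ G) = 0
    rw [tP_apply, tP_apply, Lam3_apply]
    have hG : G.1.IsHomogeneous 2 := (mem_homogeneousSubmodule 2 G.1).mp G.2
    simp only [dualPart_apply]
    rw [dd_self hG, dd_self hG, dd_symm hG v₁ v₂, sub_self, sub_self, sub_self]
    rfl
  · rintro ⟨⟨a₁, φ₁⟩, ⟨a₂, φ₂⟩⟩ hy
    rw [LinearMap.mem_ker, Lam3_apply, Prod.mk_eq_zero, Prod.mk_eq_zero, sub_eq_zero, sub_eq_zero,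
      sub_eq_zero] at hy
    obtain ⟨⟨hy1, hy2⟩, hy3⟩ := hy
    obtain ⟨α, hα, hα'⟩ := hαex
    obtain ⟨β, hβ, hβ'⟩ := hβex
    set c : k := φ₁ ⟨v₂, h₂₁⟩ with hc
    -- the cross term
    have hG₀ : tP 2 W₁ v₁ (mkForm 0 α (c • β)) = (0, c • (β ∘ₗ W₁.subtype)) ∧
        tP 2 W₂ v₂ (mkForm 0 α (c • β)) = (0, c • (α ∘ₗ W₂.subtype)) := by
      constructor
      · rw [tP_mkForm, hα]
        refine Prod.ext (by simp [hβ']) ?_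
        ext w
        simp [hβ']
      · rw [tP_mkForm, hα']
        refine Prod.ext (by simp) ?_
        ext w
        simp [hβ]
    -- corrected data
    have hcast : ((2 : ℕ) : k) = ((0 : ℕ) : k) + 2 := by push_cast; ring
    obtain ⟨ψ₁, hψ₁⟩ := LinearMap.exists_extend
      ((φ₁ - c • (β ∘ₗ W₁.subtype)) - ((((0 : ℕ) : k) + 1) * a₁) • (α ∘ₗ W₁.subtype))
    obtain ⟨ψ₂, hψ₂⟩ := LinearMap.exists_extend
      ((φ₂ - c • (α ∘ₗ W₂.subtype)) - ((((0 : ℕ) : k) + 1) * a₂) • (β ∘ₗ W₂.subtype))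
    have hψ₁w : ∀ w : W₁, ψ₁ w.1 = (φ₁ - c • (β ∘ₗ W₁.subtype)) w -
        (((0 : ℕ) : k) + 1) * a₁ * α w.1 := by
      intro w
      have := LinearMap.congr_fun hψ₁ w
      simp only [LinearMap.comp_apply, Submodule.subtype_apply, LinearMap.sub_apply,
        LinearMap.smul_apply, smul_eq_mul] at this
      simp only [LinearMap.comp_apply, Submodule.subtype_apply, LinearMap.sub_apply,
        LinearMap.smul_apply, smul_eq_mul]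
      exact this
    have hψ₂w : ∀ w : W₂, ψ₂ w.1 = (φ₂ - c • (α ∘ₗ W₂.subtype)) w -
        (((0 : ℕ) : k) + 1) * a₂ * β w.1 := by
      intro w
      have := LinearMap.congr_fun hψ₂ w
      simp only [LinearMap.comp_apply, Submodule.subtype_apply, LinearMap.sub_apply,
        LinearMap.smul_apply, smul_eq_mul] at this
      simp only [LinearMap.comp_apply, Submodule.subtype_apply, LinearMap.sub_apply,
        LinearMap.smul_apply, smul_eq_mul]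
      exact this
    have hψ₁v₂ : ψ₁ v₂ = 0 := by
      have := hψ₁w ⟨v₂, h₂₁⟩
      simp only [LinearMap.comp_apply, Submodule.subtype_apply, LinearMap.sub_apply,
        LinearMap.smul_apply, smul_eq_mul] at this
      rw [this, hα', hβ, ← hc]; ring
    have hψ₂v₁ : ψ₂ v₁ = 0 := by
      have := hψ₂w ⟨v₁, h₁₂⟩
      simp only [LinearMap.comp_apply, Submodule.subtype_apply, LinearMap.sub_apply,
        LinearMap.smul_apply, smul_eq_mul] at this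
      rw [this, hβ', hα, ← hy3]; ring
    have hφ₁' : (φ₁ - c • (β ∘ₗ W₁.subtype)) ⟨v₁, h₁⟩ = (((0 : ℕ) : k) + 2) * a₁ := by
      simp only [LinearMap.comp_apply, Submodule.subtype_apply, LinearMap.sub_apply,
        LinearMap.smul_apply, smul_eq_mul]
      rw [hβ', hy1, hcast]; ring
    have hφ₂' : (φ₂ - c • (α ∘ₗ W₂.subtype)) ⟨v₂, h₂⟩ = (((0 : ℕ) : k) + 2) * a₂ := by
      simp only [LinearMap.comp_apply, Submodule.subtype_apply, LinearMap.sub_apply,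
        LinearMap.smul_apply, smul_eq_mul]
      rw [hα', hy2, hcast]; ring
    obtain ⟨hG₁, hG₁'⟩ := oneSided 0 W₁ W₂ v₁ v₂ h₁ α ψ₁ hα hα' a₁
      (φ₁ - c • (β ∘ₗ W₁.subtype)) hφ₁' hψ₁w (Or.inl (by rw [hψ₁v₂, mul_zero]))
    obtain ⟨hG₂, hG₂'⟩ := oneSided 0 W₂ W₁ v₂ v₁ h₂ β ψ₂ hβ hβ' a₂
      (φ₂ - c • (α ∘ₗ W₂.subtype)) hφ₂' hψ₂w (Or.inl (by rw [hψ₂v₁, mul_zero]))
    refine ⟨mkForm 0 α (c • β) + mkForm 0 α ψ₁ + mkForm 0 β ψ₂, ?_⟩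
    rw [tPP, LinearMap.prod_apply]
    change (tP 2 W₁ v₁ (mkForm 0 α (c • β) + mkForm 0 α ψ₁ + mkForm 0 β ψ₂),
      tP 2 W₂ v₂ (mkForm 0 α (c • β) + mkForm 0 α ψ₁ + mkForm 0 β ψ₂)) = _
    rw [map_add, map_add, map_add, map_add, hG₀.1, hG₀.2, hG₁, hG₁', hG₂, hG₂']
    refine Prod.ext (Prod.ext ?_ ?_) (Prod.ext ?_ ?_)
    · simp
    · simp
    · simp
    · simp

theorem Lam3_surjective (W₁ W₂ : Submodule k (Fin (r + 1) → k))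
    (v₁ v₂ : Fin (r + 1) → k) (h₁ : v₁ ∈ W₁) (h₂ : v₂ ∈ W₂)
    (hv : LinearIndependent k ![v₁, v₂]) (h₂₁ : v₂ ∈ W₁) (h₁₂ : v₁ ∈ W₂) :
    Function.Surjective (Lam3 W₁ W₂ ⟨v₁, h₁⟩ ⟨v₂, h₂⟩ ⟨v₂, h₂₁⟩ ⟨v₁, h₁₂⟩) := by
  obtain ⟨⟨α, hα, hα'⟩, ⟨β, hβ, hβ'⟩⟩ := exists_dual_of_linearIndependent hv
  rintro ⟨⟨b₁, b₂⟩, b₃⟩
  refine ⟨((0, b₁ • (α ∘ₗ W₁.subtype) + b₃ • (β ∘ₗ W₁.subtype)), (0, b₂ • (β ∘ₗ W₂.subtype))), ?_⟩
  rw [Lam3_apply]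
  simp [hα, hβ, hα', hβ']

/-- The special count. -/
theorem finrank_special (W₁ W₂ : Submodule k (Fin (r + 1) → k))
    (v₁ v₂ : Fin (r + 1) → k) (h₁ : v₁ ∈ W₁) (h₂ : v₂ ∈ W₂)
    (hv : LinearIndependent k ![v₁, v₂]) (h₂₁ : v₂ ∈ W₁) (h₁₂ : v₁ ∈ W₂) :
    Module.finrank k (LefPen.Form r k 2) + 1 =
      Module.finrank k ↥(LefPen.tangentForms k 2 W₁ v₁ W₂ v₂) +
        (Module.finrank k ↥W₁ + Module.finrank k ↥W₂) := by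
  have e1 := LinearMap.finrank_range_add_finrank_ker (tPP 2 W₁ W₂ v₁ v₂)
  rw [ker_tPP, range_tPP_special W₁ W₂ v₁ v₂ h₁ h₂ hv h₂₁ h₁₂] at e1
  have e2 := LinearMap.finrank_range_add_finrank_ker
    (Lam3 W₁ W₂ ⟨v₁, h₁⟩ ⟨v₂, h₂⟩ ⟨v₂, h₂₁⟩ ⟨v₁, h₁₂⟩)
  rw [LinearMap.range_eq_top.mpr (Lam3_surjective W₁ W₂ v₁ v₂ h₁ h₂ hv h₂₁ h₁₂), finrank_top,
    finrank_target, Module.finrank_prod, Module.finrank_prod, Module.finrank_self] at e2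
  omega

end Groth.Agent.Lib.Seat19.TangE
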