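import Mathlib
import Groth.Prelude.Def_Red2
import Groth.Prelude.Def_AlgGrp
import Groth.Agent.Lib.Seat19DSChar
import Groth.Agent.Lib.Seat19GrpKer

/-!
# Exact sequences of split tori over a field split (seat 19)

* `exists_desc_hom`: a homomorphism killing the kernel of an fpqc homomorphism `φ₁` factors through
  `φ₁` by a homomorphism.
* `exists_retraction`: an injective map of abelian groups `A → B`, `B` finitely generated, with
  saturated image has a retraction.
* `exists_section_DS`, `exists_hom_section`: a flat surjective homomorphism of split tori over a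
  field whose kernel is a split torus has a homomorphic section.
-/

set_option autoImplicit false
universe u

open CategoryTheory MonoidalCategory CartesianMonoidalCategory MonObj GrpObj AlgebraicGeometry CategoryTheory.Limits
open Groth.Agent.Lib.Seat19.DSChar Groth.Agent.Lib.Seat19.GrpKer Groth.Agent.Lib.Seat19.GaGmPts

namespace Groth.Agent.Lib.Seat19.TorusSplit

section Desc

variable {S : Scheme.{u}} {G Q₁ Q₂ N : Over S} [GrpObj G] [GrpObj Q₁] [GrpObj Q₂]
  (i : N ⟶ G) (φ₁ : G ⟶ Q₁) (φ₂ : G ⟶ Q₂) [IsMonHom φ₁] [IsMonHom φ₂]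

/-- a homomorphism killing the kernel of the fpqc homomorphism `φ₁` factors through `φ₁` by a
homomorphism. -/
theorem exists_desc_hom (h₁ : AlgGrp.IsKernel i φ₁) (h₂ : i ≫ φ₂ = toUnit N ≫ η[Q₂])
    [Flat φ₁.left] [Surjective φ₁.left] [QuasiCompact φ₁.left] :
    ∃ g : Q₁ ⟶ Q₂, IsMonHom g ∧ φ₁ ≫ g = φ₂ := by
  obtain ⟨g, hg⟩ := exists_desc i φ₁ φ₂ h₁ h₂
  refine ⟨g, ?_, hg⟩
  have hfl : Flat (φ₁ ⊗ₘ φ₁).left := by
    rw [Over.tensorHom_left]
    exact MorphismProperty.pullbackMap (P := @Flat.{u}) inferInstance inferInstance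
      (Over.w φ₁).symm (Over.w φ₁).symm
  have hsu : Surjective (φ₁ ⊗ₘ φ₁).left := by
    have : MorphismProperty.IsStableUnderComposition @Surjective.{u} :=
      ⟨fun f g (hf : Surjective f) (hg : Surjective g) => (inferInstance : Surjective (f ≫ g))⟩
    rw [Over.tensorHom_left]
    exact MorphismProperty.pullbackMap (P := @Surjective.{u}) inferInstance inferInstance
      (Over.w φ₁).symm (Over.w φ₁).symm
  have hqc : QuasiCompact (φ₁ ⊗ₘ φ₁).left := by
    rw [Over.tensorHom_left]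
    exact MorphismProperty.pullbackMap (P := @QuasiCompact.{u}) inferInstance inferInstance
      (Over.w φ₁).symm (Over.w φ₁).symm
  refine ⟨?_, ?_⟩
  · rw [← IsMonHom.one_hom (f := φ₁), Category.assoc, hg, IsMonHom.one_hom]
  · rw [← cancel_epi (φ₁ ⊗ₘ φ₁), ← Category.assoc, ← IsMonHom.mul_hom, Category.assoc, hg,
      ← Category.assoc, tensorHom_comp_tensorHom, hg, IsMonHom.mul_hom]

end Desc

/-- an injective homomorphism into a finitely generated abelian group with saturated image has a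
retraction. -/
theorem exists_retraction {A B : Type} [AddCommGroup A] [AddCommGroup B] [Module.Finite ℤ B]
    (φ : A →+ B) (hinj : Function.Injective φ)
    (htf : ∀ (d : ℕ) (x : B), 0 < d → (∃ y, φ y = d • x) → ∃ y, φ y = x) :
    ∃ r : B →+ A, r.comp φ = AddMonoidHom.id A := by
  let f : A →ₗ[ℤ] B := φ.toIntLinearMap
  have hC : Module.IsTorsionFree ℤ (B ⧸ LinearMap.range f) := by
    apply Module.IsTorsionFree.of_smul_eq_zero
    intro r c hrc
    by_cases hr : r = 0
    · exact Or.inl hr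
    right
    obtain ⟨x, rfl⟩ := Submodule.mkQ_surjective _ c
    have h1 : (r.natAbs : ℤ) • x ∈ LinearMap.range f := by
      rcases Int.natAbs_eq r with h | h
      · rw [← h]
        rw [← map_smul, Submodule.mkQ_apply, Submodule.Quotient.mk_eq_zero] at hrc
        exact hrc
      · rw [← map_smul, Submodule.mkQ_apply, Submodule.Quotient.mk_eq_zero] at hrc
        have : (r.natAbs : ℤ) • x = - (r • x) := by
          conv_rhs => rw [h]
          rw [neg_smul, neg_neg]
        rw [this]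
        exact Submodule.neg_mem _ hrc
    obtain ⟨y, hy⟩ := h1
    obtain ⟨y', hy'⟩ := htf r.natAbs x (Int.natAbs_pos.mpr hr) ⟨y, by
      rw [← natCast_zsmul]; exact hy⟩
    rw [Submodule.mkQ_apply, Submodule.Quotient.mk_eq_zero]
    exact ⟨y', hy'⟩
  have hex : Function.Exact f (LinearMap.range f).mkQ := LinearMap.exact_map_mkQ_range f
  have hproj : Module.Projective ℤ (B ⧸ LinearMap.range f) := inferInstance
  obtain ⟨σ, hσ⟩ := Module.projective_lifting_property (LinearMap.range f).mkQ LinearMap.id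
    (Submodule.mkQ_surjective _)
  have htfae := (Function.Exact.split_tfae hex hinj (Submodule.mkQ_surjective _)).out 0 1
  obtain ⟨l, hl⟩ := htfae.mp ⟨σ, hσ⟩
  refine ⟨l.toAddMonoidHom, ?_⟩
  ext a
  exact LinearMap.congr_fun hl a

section Core

variable {K : Type u} [Field K] {MK MG MQ : Type} [AddCommGroup MK] [AddCommGroup MG]
  [AddCommGroup MQ]

local notation "𝕊" => Spec (CommRingCat.of K)

instance isAffine_DS (M : Type) [AddCommGroup M] : IsAffine (Red.DS 𝕊 M).left := by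
  let e : (Red.DS 𝕊 M).left ≅ (specO (K := K) (KM (K := K) M)).left :=
    (Over.forget 𝕊).mapIso (dsIso K M).symm
  exact IsAffine.of_isIso e.hom

/-- a flat surjective homomorphism of diagonalisable groups over a field, with finitely generated
source character group, whose kernel is diagonalisable with torsion-free character group, has a
homomorphic section. -/
theorem exists_section_DS [Module.Finite ℤ MG]
    (hMK : ∀ (d : ℕ) (z : MK), 0 < d → d • z = 0 → z = 0)
    (i : Red.DS 𝕊 MK ⟶ Red.DS 𝕊 MG) [IsMonHom i]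
    (π : Red.DS 𝕊 MG ⟶ Red.DS 𝕊 MQ) [IsMonHom π] [Flat π.left] [Surjective π.left]
    (hker : AlgGrp.IsKernel i π) :
    ∃ s : Red.DS 𝕊 MQ ⟶ Red.DS 𝕊 MG, IsMonHom s ∧ s ≫ π = 𝟙 _ := by
  obtain ⟨φ, hφ⟩ := exists_DSmap_eq π
  obtain ⟨j, hj⟩ := exists_DSmap_eq i
  have hqc : QuasiCompact π.left := inferInstance
  have hepi : Epi π := inferInstance
  -- `φ` is injective
  have hinj : Function.Injective φ := by
    rw [injective_iff_map_eq_zero]
    intro n hn
    have h1 : π ≫ Red.chi 𝕊 n = π ≫ (1 : Red.DS 𝕊 MQ ⟶ Red.Gm 𝕊) := by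
      rw [MonObj.comp_one, hφ, DSmap_comp_chi, hn, chi_zero]
    have h2 := (cancel_epi π).mp h1
    rw [← chi_zero (K := K) (M := MQ)] at h2
    exact chi_injective (K := K) h2
  -- `j ∘ φ = 0`
  have hjφ : ∀ y : MQ, j (φ y) = 0 := by
    intro y
    apply chi_injective (K := K)
    change Red.chi 𝕊 (j (φ y)) = Red.chi 𝕊 (0 : MK)
    have e1 : i ≫ π = (1 : Red.DS 𝕊 MK ⟶ Red.DS 𝕊 MQ) := by
      rw [hker.w, one_eq]
    rw [chi_zero, ← DSmap_comp_chi, ← DSmap_comp_chi, ← hj, ← hφ, ← Category.assoc, e1]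
    exact MonObj.one_comp (Red.chi 𝕊 y)
  -- the image of `φ` is saturated
  have hsat : ∀ (d : ℕ) (x : MG), 0 < d → (∃ y, φ y = d • x) → ∃ y, φ y = x := by
    intro d x hd ⟨y, hy⟩
    have hz : j x = 0 := by
      apply hMK d _ hd
      rw [← map_nsmul, ← hy, hjφ]
    have e2 : i ≫ Red.chi 𝕊 x = toUnit _ ≫ η[Red.Gm 𝕊] := by
      rw [hj, DSmap_comp_chi, hz, chi_zero, one_eq]
    obtain ⟨g, hgm, hg⟩ := exists_desc_hom i π (Red.chi 𝕊 x) hker e2
    obtain ⟨y', hy'⟩ := exists_chi_eq g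
    refine ⟨y', ?_⟩
    apply chi_injective (K := K)
    change Red.chi 𝕊 (φ y') = Red.chi 𝕊 x
    rw [← DSmap_comp_chi, ← hφ, ← hy', hg]
  obtain ⟨r, hr⟩ := exists_retraction φ hinj hsat
  refine ⟨Red.DSmap 𝕊 r, inferInstance, ?_⟩
  rw [hφ, DSmap_comp_DSmap, hr, DSmap_id]

/-- the underlying isomorphism of an isomorphism of group objects. -/
noncomputable def grpIsoUnder {S : Scheme.{u}} {G G₀ : Over S} [GrpObj G] [GrpObj G₀]
    (e : Grp.mk G ≅ Grp.mk G₀) : G ≅ G₀ where
  hom := e.hom.hom.hom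
  inv := e.inv.hom.hom
  hom_inv_id := congrArg (fun f => f.hom.hom) e.hom_inv_id
  inv_hom_id := congrArg (fun f => f.hom.hom) e.inv_hom_id

instance {S : Scheme.{u}} {G G₀ : Over S} [GrpObj G] [GrpObj G₀]
    (e : Grp.mk G ≅ Grp.mk G₀) : IsMonHom (grpIsoUnder e).hom :=
  (inferInstance : IsMonHom e.hom.hom.hom)

instance {S : Scheme.{u}} {G G₀ : Over S} [GrpObj G] [GrpObj G₀]
    (e : Grp.mk G ≅ Grp.mk G₀) : IsMonHom (grpIsoUnder e).inv :=
  (inferInstance : IsMonHom e.inv.hom.hom)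

instance {S : Scheme.{u}} {G G₀ : Over S} (e : G ≅ G₀) : IsIso e.hom.left :=
  (inferInstance : IsIso ((Over.forget S).mapIso e).hom)

instance {S : Scheme.{u}} {G G₀ : Over S} (e : G ≅ G₀) : IsIso e.inv.left :=
  (inferInstance : IsIso ((Over.forget S).mapIso e).inv)

/-- **Exact sequences of split tori over a field split.** -/
theorem exists_hom_section (Kk G Q : Over 𝕊) [GrpObj Kk] [GrpObj G] [GrpObj Q] (nK nG nQ : ℕ)
    (hK : Red.IsSplitTorusWith (Fin nK → ℤ) Kk) (hG : Red.IsSplitTorusWith (Fin nG → ℤ) G)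
    (hQ : Red.IsSplitTorusWith (Fin nQ → ℤ) Q)
    (i : Kk ⟶ G) [IsMonHom i]
    (π : G ⟶ Q) [IsMonHom π] [Flat π.left] [Surjective π.left] (hker : AlgGrp.IsKernel i π) :
    ∃ s : Q ⟶ G, IsMonHom s ∧ s ≫ π = 𝟙 Q := by
  obtain ⟨eK⟩ := hK
  obtain ⟨eG⟩ := hG
  obtain ⟨eQ⟩ := hQ
  let uK := grpIsoUnder eK
  let uG := grpIsoUnder eG
  let uQ := grpIsoUnder eQ
  let i' : Red.DS 𝕊 (Fin nK → ℤ) ⟶ Red.DS 𝕊 (Fin nG → ℤ) := uK.inv ≫ i ≫ uG.hom
  let π' : Red.DS 𝕊 (Fin nG → ℤ) ⟶ Red.DS 𝕊 (Fin nQ → ℤ) := uG.inv ≫ π ≫ uQ.hom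
  have hi' : IsMonHom i' := inferInstance
  have hπ' : IsMonHom π' := inferInstance
  have hker' : AlgGrp.IsKernel i' π' := by
    refine IsPullback.of_iso hker uK uG (Iso.refl _) uQ ?_ ?_ ?_ ?_
    · simp [i']
    · exact toUnit_unique _ _
    · simp [π']
    · simp [IsMonHom.one_hom]
  have hfl : Flat π'.left := by
    simp only [π', Over.comp_left]
    infer_instance
  have hsu : Surjective π'.left := by
    simp only [π', Over.comp_left]
    infer_instance
  have hMK : ∀ (d : ℕ) (z : Fin nK → ℤ), 0 < d → d • z = 0 → z = 0 := by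
    intro d z hd hz
    funext a
    have h1 := congrFun hz a
    simp only [Pi.smul_apply, Pi.zero_apply, nsmul_eq_mul] at h1
    rcases mul_eq_zero.mp h1 with h | h
    · exact absurd (by exact_mod_cast h) hd.ne'
    · exact h
  obtain ⟨s', hs'm, hs'⟩ := exists_section_DS hMK i' π' hker'
  refine ⟨uQ.hom ≫ s' ≫ uG.inv, inferInstance, ?_⟩
  have h1 : s' ≫ uG.inv ≫ π = uQ.inv := by
    have h2 := congrArg (fun f => f ≫ uQ.inv) hs'
    simpa [π'] using h2
  rw [Category.assoc, Category.assoc, h1, Iso.hom_inv_id]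

end Core

end Groth.Agent.Lib.Seat19.TorusSplit
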