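import Mathlib
import Groth.Prelude.Def_EtBase
import Groth.Agent.Lib.Helper16SmallEtale
import Groth.Agent.Lib.Helper16EtStalk

/-!
# Stalks at geometric points with algebraically closed field detect isomorphisms (seat 1)

Variant of helper16's `EtStalk` criteria where only geometric points `Spec Ω ⟶ X` with `Ω` algebraically closed
are tested.
-/

set_option autoImplicit false
set_option linter.style.haveILetI false
open CategoryTheory CategoryTheory.Limits AlgebraicGeometry Opposite
universe u

namespace Groth.Agent.Lib.Seat1.AlgStalk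

open Groth.Agent.Lib.Helper16.SmallEtale Groth.Agent.Lib.Helper16.EtStalk

set_option backward.isDefEq.respectTransparency.types false in
/-- every point of an etale `X`-scheme is the image of a geometric point with algebraically closed field -/
lemma exists_geometric_point {X : Scheme.{u}} (U : X.Etale) (p : U.left) :
    ∃ (Ω : Type u) (_ : Field Ω) (_ : IsAlgClosed Ω) (ξ : Spec (CommRingCat.of Ω) ⟶ X)
      (x : (Scheme.pointSmallEtale ξ).fiber.obj U),
      (x.left : Spec (CommRingCat.of Ω) ⟶ U.left) (default : Spec (CommRingCat.of Ω)) = p := by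
  let Ω := AlgebraicClosure (U.left.residueField p)
  let l : Spec (CommRingCat.of Ω) ⟶ U.left :=
    Spec.map (CommRingCat.ofHom (algebraMap (U.left.residueField p) Ω)) ≫
      U.left.fromSpecResidueField p
  refine ⟨Ω, inferInstance, inferInstance, l ≫ U.hom, Over.homMk l rfl, ?_⟩
  change l default = p
  dsimp only [l]
  rw [Scheme.Hom.comp_apply]
  exact Scheme.fromSpecResidueField_apply _ _

set_option backward.isDefEq.respectTransparency.types false in
/-- a map of abelian etale sheaves injective on all algebraically closed geometric stalks is locally injective -/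
lemma isLocallyInjective_of_stalks {X : Scheme.{u}} {F G : EtCoh.Ab X} (a : F ⟶ G)
    (h : ∀ (Ω : Type u) [Field Ω] [IsAlgClosed Ω] (ξ : Spec (CommRingCat.of Ω) ⟶ X),
      Function.Injective ((EtCoh.stalk ξ).map a)) :
    Sheaf.IsLocallyInjective a := by
  constructor
  intro U x y hxy
  induction U using Opposite.rec with | _ U => ?_
  rw [mem_smallEtale_iff]
  intro p
  obtain ⟨Ω, _, _, ξ, x₀, hx₀⟩ := exists_geometric_point U p
  let Φ := Scheme.pointSmallEtale ξ
  have e1 : (EtCoh.stalk ξ).map a (Φ.toPresheafFiber U x₀ F.obj x) =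
      (EtCoh.stalk ξ).map a (Φ.toPresheafFiber U x₀ F.obj y) := by
    have n1 := Φ.toPresheafFiber_naturality_apply a.hom U x₀ x
    have n2 := Φ.toPresheafFiber_naturality_apply a.hom U x₀ y
    exact n1.trans ((congrArg _ hxy).trans n2.symm)
  have e2 := h Ω ξ e1
  obtain ⟨W, g, w, hw, hg⟩ := (Φ.toPresheafFiber_eq_iff' U x₀ x y).mp e2
  refine ⟨W, g, (w.left : Spec (CommRingCat.of Ω) ⟶ W.left) (default : Spec (CommRingCat.of Ω)),
    hg, ?_⟩
  have e3 : w.left ≫ g.left = x₀.left := congrArg (fun m => m.left) hw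
  rw [← hx₀]
  exact congrArg (fun m : Spec (CommRingCat.of Ω) ⟶ U.left => m default) e3

set_option backward.isDefEq.respectTransparency.types false in
/-- a map of abelian etale sheaves surjective on all algebraically closed geometric stalks is locally surjective -/
lemma isLocallySurjective_of_stalks {X : Scheme.{u}} {F G : EtCoh.Ab X} (a : F ⟶ G)
    (h : ∀ (Ω : Type u) [Field Ω] [IsAlgClosed Ω] (ξ : Spec (CommRingCat.of Ω) ⟶ X),
      Function.Surjective ((EtCoh.stalk ξ).map a)) :
    Sheaf.IsLocallySurjective a := by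
  constructor
  intro U t
  rw [mem_smallEtale_iff]
  intro p
  obtain ⟨Ω, _, _, ξ, x₀, hx₀⟩ := exists_geometric_point U p
  let Φ := Scheme.pointSmallEtale ξ
  obtain ⟨σ, hσ⟩ := h Ω ξ (Φ.toPresheafFiber U x₀ G.obj t)
  obtain ⟨V, v, s, rfl⟩ := Φ.toPresheafFiber_jointly_surjective (P := F.obj) σ
  have n1 : (EtCoh.stalk ξ).map a (Φ.toPresheafFiber V v F.obj s) =
      Φ.toPresheafFiber V v G.obj (a.hom.app (op V) s) :=
    Φ.toPresheafFiber_naturality_apply a.hom V v s
  let m : Φ.fiber.Elements := IsCofiltered.min (⟨V, v⟩ : Φ.fiber.Elements) ⟨U, x₀⟩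
  let gV : m ⟶ ⟨V, v⟩ := IsCofiltered.minToLeft _ _
  let gU : m ⟶ ⟨U, x₀⟩ := IsCofiltered.minToRight _ _
  have hgV : Φ.fiber.map gV.1 m.2 = v := gV.2
  have hgU : Φ.fiber.map gU.1 m.2 = x₀ := gU.2
  have e1 : Φ.toPresheafFiber m.1 m.2 G.obj (G.obj.map gU.1.op t) =
      Φ.toPresheafFiber m.1 m.2 G.obj (G.obj.map gV.1.op (a.hom.app (op V) s)) := by
    rw [Φ.toPresheafFiber_w_apply, Φ.toPresheafFiber_w_apply, hgV, hgU, ← hσ, n1]
  obtain ⟨W', g, w', hw', hg⟩ := (Φ.toPresheafFiber_eq_iff' m.1 m.2 _ _).mp e1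
  refine ⟨W', g ≫ gU.1, (w'.left : Spec (CommRingCat.of Ω) ⟶ W'.left)
    (default : Spec (CommRingCat.of Ω)), ⟨F.obj.map (g ≫ gV.1).op s, ?_⟩, ?_⟩
  · have n2 := NatTrans.naturality_apply a.hom (g ≫ gV.1).op s
    rw [n2]
    rw [op_comp, Functor.map_comp, ConcreteCategory.comp_apply, ← hg,
      ← ConcreteCategory.comp_apply, ← Functor.map_comp, ← op_comp]
  · have e3 : w'.left ≫ (g ≫ gU.1).left = x₀.left := by
      have h1 : Φ.fiber.map (g ≫ gU.1) w' = x₀ := by
        rw [Functor.map_comp]
        change Φ.fiber.map gU.1 (Φ.fiber.map g w') = x₀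
        rw [hw', hgU]
      exact congrArg (fun m => m.left) h1
    rw [← hx₀]
    exact congrArg (fun m : Spec (CommRingCat.of Ω) ⟶ U.left => m default) e3

/-- **A map of abelian étale sheaves bijective on all stalks at algebraically closed geometric points is an
isomorphism.** -/
theorem isIso_of_stalks {X : Scheme.{u}} {F G : EtCoh.Ab X} (a : F ⟶ G)
    (h : ∀ (Ω : Type u) [Field Ω] [IsAlgClosed Ω] (ξ : Spec (CommRingCat.of Ω) ⟶ X),
      Function.Bijective ((EtCoh.stalk ξ).map a)) : IsIso a := by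
  haveI := isLocallyInjective_of_stalks a (fun Ω _ _ ξ => (h Ω ξ).1)
  haveI := isLocallySurjective_of_stalks a (fun Ω _ _ ξ => (h Ω ξ).2)
  haveI : Mono a := Sheaf.mono_of_isLocallyInjective a
  haveI : Epi a := Sheaf.epi_of_isLocallySurjective a
  exact isIso_of_mono_of_epi a

end Groth.Agent.Lib.Seat1.AlgStalk
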