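import Mathlib
import Groth.Prelude.Def_BigSite

/-!
# Direct images along almost cocontinuous functors

For a continuous and almost cocontinuous functor `u : C ⥤ D` between sites, `u^s : Sh(D) ⥤ Sh(C)`
(precomposition with `u`) preserves connected colimits of sheaves of sets and epimorphisms of
abelian sheaves.
-/

set_option autoImplicit false
universe w v₁ u₁ v₂ u₂ v₃ u₃

open CategoryTheory CategoryTheory.Limits Opposite

namespace Groth.Agent.Lib.Seat1.AlmostCocont

section Singletons

/-- sheaves of types have singleton values on objects covered by the empty sieve -/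
theorem unique_of_bot_mem {D : Type u₂} [Category.{v₂} D] (L : GrothendieckTopology D)
    (F : Dᵒᵖ ⥤ Type w) (hF : Presheaf.IsSheaf L F) (V : D) (hV : (⊥ : Sieve V) ∈ L V) :
    Nonempty (Unique (F.obj (op V))) := by
  have hF' := (isSheaf_iff_isSheaf_of_type _ _).mp hF
  have h := hF' _ hV
  let x : Presieve.FamilyOfElements F (⊥ : Sieve V).arrows := fun W g hg => hg.elim
  have hx : x.Compatible := by
    intro Y₁ Y₂ Z g₁ g₂ f₁ f₂ h₁ h₂ _
    exact h₁.elim
  obtain ⟨t, -, htu⟩ := h x hx
  refine ⟨⟨⟨t⟩, fun s => htu s ?_⟩⟩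
  intro W g hg
  exact hg.elim

/-- a colimit of singletons over a connected category is a singleton -/
theorem unique_pt_of_isColimit {I : Type u₃} [Category.{v₃} I] [IsConnected I] {Q : I ⥤ Type w}
    (c : Cocone Q) (hc : IsColimit c) (hQ : ∀ i, Nonempty (Unique (Q.obj i))) :
    Nonempty (Unique c.pt) := by
  obtain ⟨i₀⟩ : Nonempty I := IsConnected.is_nonempty
  obtain ⟨h₀⟩ := hQ i₀
  let x₀ : c.pt := c.ι.app i₀ h₀.default
  refine ⟨⟨⟨x₀⟩, fun x => ?_⟩⟩
  obtain ⟨i, y, rfl⟩ := Types.jointly_surjective_of_isColimit hc x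
  have key := induct_on_objects {i | ∀ y : Q.obj i, c.ι.app i y = x₀} (j₀ := i₀)
    (by
      intro y
      rw [h₀.uniq y])
    (by
      intro j₁ j₂ f
      have hw : ∀ y : Q.obj j₁, c.ι.app j₂ (Q.map f y) = c.ι.app j₁ y := fun y => by
        rw [← c.w f]
        rfl
      constructor
      · intro h y₂
        obtain ⟨h₁⟩ := hQ j₁
        obtain ⟨h₂⟩ := hQ j₂
        have : y₂ = Q.map f h₁.default := (h₂.uniq _).trans (h₂.uniq _).symm
        rw [this, hw]
        exact h _
      · intro h y₁
        rw [← hw]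
        exact h _) i
  exact key y

end Singletons

section Transfer

variable {C : Type u₁} [Category.{v₁} C] {D : Type u₂} [Category.{v₂} D]
  (J : GrothendieckTopology C) (L : GrothendieckTopology D) (u : C ⥤ D)

/-- local bijectivity is transported along an almost cocontinuous functor, for presheaves of sets
with singleton values on sheaf-theoretically empty objects -/
theorem W_whiskerLeft [J.WEqualsLocallyBijective (Type w)] [L.WEqualsLocallyBijective (Type w)]
    (hu : BigSite.IsAlmostCocontinuous u J L)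
    {G H : Dᵒᵖ ⥤ Type w} (γ : G ⟶ H) (hγ : L.W γ)
    (hG : ∀ V : D, (⊥ : Sieve V) ∈ L V → Nonempty (Unique (G.obj (op V))))
    (hH : ∀ V : D, (⊥ : Sieve V) ∈ L V → Nonempty (Unique (H.obj (op V)))) :
    J.W (Functor.whiskerLeft u.op γ) := by
  have hinj : Presheaf.IsLocallyInjective L γ := hγ.isLocallyInjective
  have hsurj : Presheaf.IsLocallySurjective L γ := hγ.isLocallySurjective
  have : Presheaf.IsLocallyInjective J (Functor.whiskerLeft u.op γ) := by
    constructor
    intro U x y hxy
    induction U using Opposite.rec with | _ U => ?_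
    have h1 : Presheaf.equalizerSieve (F := G) (X := op (u.obj U)) x y ∈ L (u.obj U) :=
      Presheaf.equalizerSieve_mem L γ (X := op (u.obj U)) x y hxy
    obtain ⟨R', hR', hR'2⟩ := hu U _ h1
    refine J.superset_covering ?_ hR'
    intro V g hg
    rcases hR'2 g hg with hbot | hmem
    · obtain ⟨hU⟩ := hG _ hbot
      exact (hU.uniq _).trans (hU.uniq _).symm
    · exact hmem
  have : Presheaf.IsLocallySurjective J (Functor.whiskerLeft u.op γ) := by
    constructor
    intro U s
    have h1 : Presheaf.imageSieve γ (U := u.obj U) s ∈ L (u.obj U) :=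
      Presheaf.imageSieve_mem L γ (U := op (u.obj U)) s
    obtain ⟨R', hR', hR'2⟩ := hu U _ h1
    refine J.superset_covering ?_ hR'
    intro V g hg
    rcases hR'2 g hg with hbot | hmem
    · obtain ⟨hU⟩ := hG _ hbot
      obtain ⟨hS⟩ := hH _ hbot
      exact ⟨hU.default, (hS.uniq _).trans (hS.uniq _).symm⟩
    · exact hmem
  exact J.W_of_isLocallyBijective _

end Transfer

section Colimits

variable {C : Type u₁} [Category.{v₁} C] (J : GrothendieckTopology C)
  {A : Type u₂} [Category.{v₂} A] [HasSheafify J A]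
  {I : Type u₃} [Category.{v₃} I]

/-- the unit of sheafification, landing in the point of `sheafifyCocone` -/
noncomputable def toPt {F : I ⥤ Sheaf J A} (E : Cocone (F ⋙ sheafToPresheaf J A)) :
    E.pt ⟶ (Sheaf.sheafifyCocone E).pt.obj := toSheafify J E.pt

theorem W_toPt {F : I ⥤ Sheaf J A} (E : Cocone (F ⋙ sheafToPresheaf J A)) : J.W (toPt J E) :=
  J.W_toSheafify _

theorem toPt_comp_desc {F : I ⥤ Sheaf J A} (c : Cocone F)
    (E : Cocone (F ⋙ sheafToPresheaf J A)) (hE : IsColimit E) :
    toPt J E ≫ ((Sheaf.isColimitSheafifyCocone E hE).desc c).hom =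
      hE.desc ((sheafToPresheaf J A).mapCocone c) := by
  apply hE.hom_ext
  intro k
  rw [hE.fac]
  have e : E.ι.app k ≫ toPt J E = ((Sheaf.sheafifyCocone E).ι.app k).hom :=
    (Sheaf.sheafifyCocone_ι_app_val E k).symm
  have e2 := congrArg (fun φ => φ.hom) ((Sheaf.isColimitSheafifyCocone E hE).fac c k)
  rw [← Category.assoc, e]
  exact e2

/-- a colimit cocone of sheaves receives a local bijection from the presheaf colimit -/
theorem W_of_isColimit {F : I ⥤ Sheaf J A} (c : Cocone F) (hc : IsColimit c)
    (E : Cocone (F ⋙ sheafToPresheaf J A)) (hE : IsColimit E) :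
    J.W (hE.desc ((sheafToPresheaf J A).mapCocone c)) := by
  rw [← toPt_comp_desc J c E hE]
  have : IsIso ((Sheaf.isColimitSheafifyCocone E hE).desc c) :=
    inferInstanceAs
      (IsIso ((Sheaf.isColimitSheafifyCocone E hE).coconePointUniqueUpToIso hc).hom)
  have h2 : IsIso ((Sheaf.isColimitSheafifyCocone E hE).desc c).hom :=
    inferInstanceAs (IsIso ((sheafToPresheaf J A).map
      ((Sheaf.isColimitSheafifyCocone E hE).desc c)))
  exact J.W.comp_mem _ _ (W_toPt J E) (J.W.of_isIso _)

/-- conversely a cocone of sheaves onto which the presheaf colimit maps by a local bijection is a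
colimit cocone -/
theorem isColimit_of_W {F : I ⥤ Sheaf J A} (c : Cocone F)
    (E : Cocone (F ⋙ sheafToPresheaf J A)) (hE : IsColimit E)
    (hW : J.W (hE.desc ((sheafToPresheaf J A).mapCocone c))) : Nonempty (IsColimit c) := by
  rw [← toPt_comp_desc J c E hE] at hW
  have h1 : J.W ((Sheaf.isColimitSheafifyCocone E hE).desc c).hom :=
    J.W.of_precomp _ _ (W_toPt J E) hW
  have h2 : IsIso ((Sheaf.isColimitSheafifyCocone E hE).desc c) :=
    (J.W_sheafToPresheaf_map_iff_isIso _).mp h1
  exact ⟨IsColimit.ofPointIso (Sheaf.isColimitSheafifyCocone E hE)⟩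

end Colimits

section Push

variable {C : Type u₁} [Category.{v₁} C] {D : Type u₂} [Category.{v₂} D]
  (J : GrothendieckTopology C) (L : GrothendieckTopology D) (u : C ⥤ D)
  {I : Type u₃} [Category.{v₃} I]

/-- the direct image along a continuous almost cocontinuous functor preserves connected colimits
of sheaves of sets -/
theorem preservesColimitsOfShape_push [u.IsContinuous J L]
    (hu : BigSite.IsAlmostCocontinuous u J L) [IsConnected I]
    [HasColimitsOfShape I (Type w)] [HasSheafify J (Type w)] [HasSheafify L (Type w)]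
    [J.WEqualsLocallyBijective (Type w)] [L.WEqualsLocallyBijective (Type w)] :
    PreservesColimitsOfShape I (u.sheafPushforwardContinuous (Type w) J L) := by
  constructor
  intro F
  constructor
  intro c hc
  let P : I ⥤ (Dᵒᵖ ⥤ Type w) := F ⋙ sheafToPresheaf L (Type w)
  let E : Cocone P := colimit.cocone P
  let hE : IsColimit E := colimit.isColimit P
  let γ : E.pt ⟶ c.pt.obj := hE.desc ((sheafToPresheaf L (Type w)).mapCocone c)
  have hγ : L.W γ := W_of_isColimit L c hc E hE
  let Wh : (Dᵒᵖ ⥤ Type w) ⥤ (Cᵒᵖ ⥤ Type w) := (Functor.whiskeringLeft Cᵒᵖ Dᵒᵖ (Type w)).obj u.op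
  let push := u.sheafPushforwardContinuous (Type w) J L
  let E' : Cocone ((F ⋙ push) ⋙ sheafToPresheaf J (Type w)) := Wh.mapCocone E
  let hE' : IsColimit E' := isColimitOfPreserves Wh hE
  -- singleton values
  have hG : ∀ V : D, (⊥ : Sieve V) ∈ L V → Nonempty (Unique (E.pt.obj (op V))) := by
    intro V hV
    let ev : (Dᵒᵖ ⥤ Type w) ⥤ Type w := (evaluation Dᵒᵖ (Type w)).obj (op V)
    exact unique_pt_of_isColimit (ev.mapCocone E) (isColimitOfPreserves ev hE)
      (fun i => unique_of_bot_mem L (F.obj i).obj (F.obj i).property V hV)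
  have hH : ∀ V : D, (⊥ : Sieve V) ∈ L V → Nonempty (Unique (c.pt.obj.obj (op V))) :=
    fun V hV => unique_of_bot_mem L c.pt.obj c.pt.property V hV
  have hγ' : J.W (Functor.whiskerLeft u.op γ) := W_whiskerLeft J L u hu γ hγ hG hH
  have e : hE'.desc ((sheafToPresheaf J (Type w)).mapCocone (push.mapCocone c)) =
      Functor.whiskerLeft u.op γ := by
    symm
    apply hE'.uniq ((sheafToPresheaf J (Type w)).mapCocone (push.mapCocone c))
    intro k
    change Functor.whiskerLeft u.op (E.ι.app k) ≫ Functor.whiskerLeft u.op γ =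
      Functor.whiskerLeft u.op (c.ι.app k).hom
    rw [← Functor.whiskerLeft_comp]
    congr 1
    exact hE.fac _ k
  rw [← e] at hγ'
  exact ⟨(isColimit_of_W J (push.mapCocone c) E' hE' hγ').some⟩

/-- the direct image along an almost cocontinuous functor preserves locally surjective maps of
abelian sheaves -/
theorem isLocallySurjective_push_ab (hu : BigSite.IsAlmostCocontinuous u J L)
    [L.HasSheafCompose (forget AddCommGrpCat.{w})]
    {F G : Sheaf L AddCommGrpCat.{w}} (φ : F ⟶ G) [Presheaf.IsLocallySurjective L φ.hom] :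
    Presheaf.IsLocallySurjective J (Functor.whiskerLeft u.op φ.hom) := by
  constructor
  intro U s
  have h1 : Presheaf.imageSieve φ.hom (U := u.obj U) s ∈ L (u.obj U) :=
    Presheaf.imageSieve_mem L φ.hom (U := op (u.obj U)) s
  obtain ⟨R', hR', hR'2⟩ := hu U _ h1
  refine J.superset_covering ?_ hR'
  intro V g hg
  rcases hR'2 g hg with hbot | hmem
  · have hsh : Presheaf.IsSheaf L (G.obj ⋙ forget AddCommGrpCat.{w}) :=
      GrothendieckTopology.HasSheafCompose.isSheaf G.obj G.property
    obtain ⟨hS⟩ := unique_of_bot_mem L (G.obj ⋙ forget AddCommGrpCat.{w}) hsh _ hbot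
    exact ⟨0, (hS.uniq _).trans (hS.uniq _).symm⟩
  · exact hmem

end Push

end Groth.Agent.Lib.Seat1.AlmostCocont
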