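import Mathlib
import Groth.Prelude.Def_EtBase
import Groth.Prelude.Def_EtCore
import Groth.Agent.Lib.Helper16SmallEtale

/-!
# Vanishing of étale cohomology when every étale covering is refined by a finite disjoint open covering (seat 1)
-/

set_option autoImplicit false
set_option linter.style.haveILetI false
universe u
open CategoryTheory CategoryTheory.Limits AlgebraicGeometry Opposite

namespace Groth.Agent.Lib.Seat1.DisjCover

open Groth.Agent.Lib.Helper16.SmallEtale

variable {X : Scheme.{u}}

section Projective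

/-- if global sections are exact, the constant sheaf `ℤ` is projective -/
theorem projective_constZ_of_surjective
    (hsurj : ∀ {E Y : EtCoh.Ab X} (e : E ⟶ Y) [Epi e],
      Function.Surjective (e.hom.app (op (EtCoh.top X)))) :
    Projective ((constantSheaf X.smallEtaleTopology AddCommGrpCat.{u + 1}).obj
      (AddCommGrpCat.of (ULift.{u + 1} ℤ))) := by
  constructor
  intro E Y f e he
  have hT := EtCore.topIsTerminal X
  let y := Sheaf.H.equiv₀ Y hT (Abelian.Ext.addEquiv₀.symm f)
  obtain ⟨z, hz⟩ := hsurj e y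
  refine ⟨Abelian.Ext.addEquiv₀ ((Sheaf.H.equiv₀ E hT).symm z), ?_⟩
  rw [← Sheaf.H.addEquiv₀_map, Sheaf.H.equiv₀_symm_naturality, hz]
  simp only [y, AddEquiv.symm_apply_apply, AddEquiv.apply_symm_apply]

/-- if global sections are exact, higher étale cohomology vanishes -/
theorem subsingleton_H_of_surjective
    (hsurj : ∀ {E Y : EtCoh.Ab X} (e : E ⟶ Y) [Epi e],
      Function.Surjective (e.hom.app (op (EtCoh.top X))))
    (F : EtCoh.Ab X) (p : ℕ) (hp : 1 ≤ p) : Subsingleton (EtCoh.H X F p) := by
  haveI := projective_constZ_of_surjective hsurj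
  obtain ⟨q, rfl⟩ : ∃ q, p = q + 1 := ⟨p - 1, by omega⟩
  exact Abelian.Ext.subsingleton_of_projective _ F q

end Projective

/-- an open subscheme as an object of the small étale site -/
noncomputable abbrev opn (V : X.Opens) : X.Etale := Scheme.Etale.mk V.ι

/-- the structure arrow of an open subscheme -/
noncomputable abbrev opnTop (V : X.Opens) : opn V ⟶ EtCoh.top X :=
  MorphismProperty.Over.homMk V.ι (Category.comp_id _)

/-- every étale covering of `X` is refined by a finite covering by pairwise disjoint opens -/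
def HasDisjRefinement (X : Scheme.{u}) : Prop :=
  ∀ T : Sieve (EtCoh.top X), T ∈ X.smallEtaleTopology (EtCoh.top X) →
    ∃ (n : ℕ) (E : Fin n → X.Opens), (∀ i j, i ≠ j → Disjoint (E i) (E j)) ∧
      (∀ x : X, ∃ i, x ∈ E i) ∧ ∀ i, T (opnTop (E i))

/-- sections of a sheaf of sets over an empty étale scheme -/
lemma subsingleton_of_isEmpty (P : X.Etaleᵒᵖ ⥤ Type (u + 1))
    (hP : Presieve.IsSheaf X.smallEtaleTopology P) (Z : X.Etale) [IsEmpty Z.left] :
    Subsingleton (P.obj (op Z)) := by
  have hcov : (⊥ : Sieve Z) ∈ X.smallEtaleTopology Z := by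
    rw [mem_smallEtale_iff]
    intro x
    exact (IsEmpty.false x).elim
  have hs := (hP (⊥ : Sieve Z) hcov).isSeparatedFor
  exact ⟨fun a b => hs.ext (fun Y f hf => hf.elim)⟩

lemma opnTop_mono_left {V : X.Opens} {Z : X.Etale} (g g' : Z ⟶ opn V)
    (h : g ≫ opnTop V = g' ≫ opnTop V) : g = g' := by
  have h1 : g.left ≫ V.ι = g'.left ≫ V.ι := congrArg (fun m => m.left) h
  have h2 : g.left = g'.left := (cancel_mono V.ι).1 h1
  exact MorphismProperty.Over.Hom.ext h2

lemma isEmpty_of_disjoint {V W : X.Opens} (hVW : Disjoint V W) {Z : X.Etale} (g : Z ⟶ opn V)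
    (g' : Z ⟶ opn W) (h : g ≫ opnTop V = g' ≫ opnTop W) : IsEmpty Z.left := by
  constructor
  intro z
  let a : Z.left ⟶ (V : Scheme.{u}) := g.left
  let b : Z.left ⟶ (W : Scheme.{u}) := g'.left
  have h1 : a ≫ V.ι = b ≫ W.ι := congrArg (fun m => m.left) h
  have hV : V.ι (a z) ∈ V := (a z).2
  have hW : W.ι (b z) ∈ W := (b z).2
  have hz : V.ι (a z) = W.ι (b z) := by
    rw [← Scheme.Hom.comp_apply, h1, Scheme.Hom.comp_apply]
  rw [← hz] at hW
  exact (Set.disjoint_left.1 ((TopologicalSpace.Opens.coe_disjoint).2 hVW)) hV hW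

/-- gluing sections of a sheaf of sets over a finite covering by pairwise disjoint opens -/
lemma existsUnique_glue (P : X.Etaleᵒᵖ ⥤ Type (u + 1))
    (hP : Presieve.IsSheaf X.smallEtaleTopology P) {n : ℕ} (E : Fin n → X.Opens)
    (hdisj : ∀ i j, i ≠ j → Disjoint (E i) (E j)) (hcov : ∀ x : X, ∃ i, x ∈ E i)
    (x : ∀ i, P.obj (op (opn (E i)))) :
    ∃! t : P.obj (op (EtCoh.top X)), ∀ i, P.map (opnTop (E i)).op t = x i := by
  have hmem : Sieve.ofArrows (fun i => opn (E i)) (fun i => opnTop (E i)) ∈
      X.smallEtaleTopology (EtCoh.top X) := by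
    rw [mem_smallEtale_iff]
    intro y
    obtain ⟨i, hi⟩ := hcov y
    exact ⟨opn (E i), opnTop (E i), ⟨y, hi⟩, Sieve.ofArrows_mk _ _ i, rfl⟩
  have h1 := hP _ hmem
  have h2 : (Presieve.ofArrows (fun i => opn (E i)) (fun i => opnTop (E i))).IsSheafFor P :=
    (Presieve.isSheafFor_iff_generate _).2 h1
  refine (Presieve.isSheafFor_arrows_iff P _).1 h2 x ?_
  intro i j Z gi gj hg
  by_cases hij : i = j
  · subst hij
    rw [opnTop_mono_left gi gj hg]
  · haveI := isEmpty_of_disjoint (hdisj i j hij) gi gj hg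
    exact (subsingleton_of_isEmpty P hP Z).elim _ _

lemma isSheaf_forget (F : EtCoh.Ab X) :
    Presieve.IsSheaf X.smallEtaleTopology (F.obj ⋙ forget AddCommGrpCat.{u + 1}) :=
  (isSheaf_iff_isSheaf_of_type _ _).1
    ((Presheaf.isSheaf_iff_isSheaf_forget X.smallEtaleTopology F.obj
      (forget AddCommGrpCat.{u + 1})).1 F.property)

/-- if every étale covering of `X` is refined by a finite disjoint open covering, epimorphisms of abelian étale
sheaves are surjective on global sections -/
theorem surjective_app_top (h : HasDisjRefinement X) {E Y : EtCoh.Ab X} (e : E ⟶ Y) [Epi e] :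
    Function.Surjective (e.hom.app (op (EtCoh.top X))) := by
  haveI : Sheaf.IsLocallySurjective e := (Sheaf.isLocallySurjective_iff_epi' _ e).mpr inferInstance
  intro y
  have hT := Presheaf.imageSieve_mem X.smallEtaleTopology e.hom y
  obtain ⟨n, V, hdisj, hcov, hV⟩ := h _ hT
  choose x hx using hV
  obtain ⟨t, ht, -⟩ := existsUnique_glue (E.obj ⋙ forget _) (isSheaf_forget E) V hdisj hcov x
  refine ⟨t, ?_⟩
  obtain ⟨t', -, huniq⟩ := existsUnique_glue (Y.obj ⋙ forget _) (isSheaf_forget Y) V hdisj hcov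
    (fun i => Y.obj.map (opnTop (V i)).op y)
  rw [huniq (e.hom.app _ t) ?_, huniq y (fun i => rfl)]
  intro i
  have hnat := ConcreteCategory.congr_hom (e.hom.naturality (opnTop (V i)).op) t
  have hti : E.obj.map (opnTop (V i)).op t = x i := ht i
  change Y.obj.map (opnTop (V i)).op (e.hom.app _ t) = _
  have : Y.obj.map (opnTop (V i)).op (e.hom.app _ t) = e.hom.app _ (E.obj.map (opnTop (V i)).op t) :=
    hnat.symm
  rw [this, hti]
  exact hx i

/-- **Vanishing**: if every étale covering of `X` is refined by a finite disjoint open covering, all higher étale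
cohomology of abelian sheaves on `X` vanishes -/
theorem subsingleton_H (h : HasDisjRefinement X) (F : EtCoh.Ab X) (p : ℕ) (hp : 1 ≤ p) :
    Subsingleton (EtCoh.H X F p) :=
  subsingleton_H_of_surjective (fun e _ => surjective_app_top h e) F p hp

end Groth.Agent.Lib.Seat1.DisjCover
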