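import Mathlib
import Groth.Prelude.Def_EtBase
import Groth.Agent.Lib.Helper3HenselA

/-!
# Sections of étale neighbourhoods over a henselian local ring (seat 1)

For a henselian local ring `R` with residue field `κ`, every étale `Spec R`-scheme `U` together with a
`κ`-point `u` over the closed point admits a section `Spec R ⟶ U` through `u`.
-/

set_option autoImplicit false
set_option linter.style.haveILetI false
universe u
open CategoryTheory CategoryTheory.Limits AlgebraicGeometry Opposite IsLocalRing

namespace Groth.Agent.Lib.Seat1.HenselSection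

/-- maps from an étale algebra to a henselian local ring are the same as maps to its residue field
(existence part). -/
theorem exists_algHom_residue {R : Type u} [CommRing R] [HenselianLocalRing R]
    {A : Type u} [CommRing A] [Algebra R A] [Algebra.Etale R A] (χ : A →ₐ[R] ResidueField R) :
    ∃ f : A →ₐ[R] R, ∀ a, residue R (f a) = χ a := by
  let q : Ideal A := RingHom.ker χ.toRingHom
  haveI : q.IsPrime := RingHom.ker_isPrime χ.toRingHom
  let τ : q.ResidueField →ₐ[R] ResidueField R :=
    Ideal.ResidueField.liftₐ q χ le_rfl (by
      intro a ha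
      rw [Submonoid.mem_comap, IsUnit.mem_submonoid_iff]
      exact IsUnit.mk0 _ (fun h0 => ha h0))
  have hτ : ∀ a, τ (algebraMap A q.ResidueField a) = χ a := fun a =>
    Ideal.ResidueField.liftₐ_algebraMap q χ _ _ a
  obtain ⟨f, hf, -⟩ := Groth.Agent.Lib.Helper3.Hensel.existsUnique_algHom_of_etale
    (R := R) (S := R) q τ
  exact ⟨f, fun a => by rw [hf, hτ]⟩

/-- **Sections through rational points over a henselian local base**: an étale scheme over the spectrum of a
henselian local ring `R`, with a point with values in the residue field lying over the closed point, has a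
section through this point. -/
theorem exists_section (R : Type u) [CommRing R] [HenselianLocalRing R]
    {U : Scheme.{u}} (g : U ⟶ Spec (CommRingCat.of R)) [Etale g]
    (w : Spec (CommRingCat.of (ResidueField R)) ⟶ U)
    (hw : w ≫ g = Spec.map (CommRingCat.ofHom (residue R))) :
    ∃ s : Spec (CommRingCat.of R) ⟶ U, s ≫ g = 𝟙 _ ∧
      Spec.map (CommRingCat.ofHom (residue R)) ≫ s = w := by
  obtain ⟨A, j, hj, hx, -⟩ := Scheme.exists_affine_mem_range_and_range_subset
    (x := w (default : Spec (CommRingCat.of (ResidueField R)))) (U := ⊤) (by simp)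
  have hrange : Set.range w ⊆ Set.range j := by
    rintro _ ⟨a, rfl⟩
    rwa [Subsingleton.elim a default]
  let w' : Spec (CommRingCat.of (ResidueField R)) ⟶ Spec A := IsOpenImmersion.lift j w hrange
  have hw' : w' ≫ j = w := IsOpenImmersion.lift_fac j w hrange
  let φ : CommRingCat.of R ⟶ A := Spec.preimage (j ≫ g)
  have hφ : Spec.map φ = j ≫ g := Spec.map_preimage _
  let ψ : A ⟶ CommRingCat.of (ResidueField R) := Spec.preimage w'
  have hψ : Spec.map ψ = w' := Spec.map_preimage _
  have hcomp : φ ≫ ψ = CommRingCat.ofHom (residue R) := by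
    apply Spec.map_injective
    rw [Spec.map_comp, hφ, hψ, ← Category.assoc, hw', hw]
  letI : Algebra R A := φ.hom.toAlgebra
  haveI : Algebra.Etale R A := by
    have h1 : Etale (Spec.map φ) := by rw [hφ]; infer_instance
    have h2 : φ.hom.Etale := (HasRingHomProperty.Spec_iff (P := @Etale)).mp h1
    rwa [← φ.hom.algebraMap_toAlgebra, RingHom.etale_algebraMap] at h2
  let χ : A →ₐ[R] ResidueField R :=
    { ψ.hom with
      commutes' := fun r => by
        change (φ ≫ ψ).hom r = _
        rw [hcomp]
        rfl }
  obtain ⟨f, hf⟩ := exists_algHom_residue χ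
  have hfφ : φ ≫ CommRingCat.ofHom f.toRingHom = 𝟙 _ := by
    ext r
    exact f.commutes r
  have hfψ : CommRingCat.ofHom f.toRingHom ≫ CommRingCat.ofHom (residue R) = ψ := by
    ext a
    exact hf a
  refine ⟨Spec.map (CommRingCat.ofHom f.toRingHom) ≫ j, ?_, ?_⟩
  · rw [Category.assoc, ← hφ, ← Spec.map_comp, hfφ, Spec.map_id]
  · rw [← Category.assoc, ← Spec.map_comp, hfψ, hψ, hw']

end Groth.Agent.Lib.Seat1.HenselSection
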