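import Mathlib
import Groth.Agent.Lib.Helper22SpreadIso

/-!
# Étale algebras over a ring whose localisation at a prime has nil maximal ideal: sections near the prime (seat 1)
-/

set_option autoImplicit false
set_option linter.style.haveILetI false
universe u
open IsLocalRing

namespace Groth.Agent.Lib.Seat1.NilLocal

/-- if the maximal ideal of `A_p` is nil, a residue-field point of an étale `A`-algebra lifts to `A_p` -/
theorem exists_algHom_atPrime {A : Type u} [CommRing A] (p : Ideal A) [p.IsPrime]
    (hnil : ∀ x ∈ maximalIdeal (Localization.AtPrime p), IsNilpotent x)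
    {C : Type u} [CommRing C] [Algebra A C] [Algebra.Etale A C] (χ : C →ₐ[A] p.ResidueField) :
    Nonempty (C →ₐ[A] Localization.AtPrime p) := by
  obtain ⟨n, f, hf, hker⟩ := Algebra.FinitePresentation.out (R := A) (A := C)
  have hres : Function.Surjective (residue (Localization.AtPrime p)) := residue_surjective
  choose a ha using fun i : Fin n => hres (χ (f (MvPolynomial.X i)))
  let ev : MvPolynomial (Fin n) A →ₐ[A] Localization.AtPrime p := MvPolynomial.aeval a
  let resA : Localization.AtPrime p →ₐ[A] p.ResidueField :=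
    IsScalarTower.toAlgHom A (Localization.AtPrime p) p.ResidueField
  have hcomp : resA.comp ev = χ.comp f := by
    apply MvPolynomial.algHom_ext
    intro i
    change residue _ (MvPolynomial.aeval a (MvPolynomial.X i)) = χ (f (MvPolynomial.X i))
    rw [MvPolynomial.aeval_X]
    exact ha i
  let K : Ideal (MvPolynomial (Fin n) A) := RingHom.ker f.toRingHom
  let J : Ideal (Localization.AtPrime p) := K.map ev.toRingHom
  have hJm : J ≤ maximalIdeal (Localization.AtPrime p) := by
    rw [Ideal.map_le_iff_le_comap]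
    intro k hk
    rw [Ideal.mem_comap, ← residue_eq_zero_iff]
    have h1 : resA (ev k) = χ (f k) := AlgHom.congr_fun hcomp k
    have h2 : f k = 0 := hk
    change resA (ev k) = 0
    rw [h1, h2, map_zero]
  have hJfg : J.FG := Ideal.FG.map hker _
  have hJnil : IsNilpotent J := hJfg.isNilpotent_iff_le_nilradical.2
    (fun x hx => mem_nilradical.2 (hnil x (hJm hx)))
  let g₀ : MvPolynomial (Fin n) A →ₐ[A] Localization.AtPrime p ⧸ J := (Ideal.Quotient.mkₐ A J).comp ev
  have hg₀ : ∀ k ∈ K, g₀ k = 0 := fun k hk =>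
    Ideal.Quotient.eq_zero_iff_mem.2 (Ideal.mem_map_of_mem _ hk)
  let g₁ : (MvPolynomial (Fin n) A ⧸ K) →ₐ[A] Localization.AtPrime p ⧸ J := Ideal.Quotient.liftₐ K g₀ hg₀
  let e : (MvPolynomial (Fin n) A ⧸ K) ≃ₐ[A] C := Ideal.quotientKerAlgEquivOfSurjective hf
  exact ⟨Algebra.FormallySmooth.lift J hJnil (g₁.comp e.symm.toAlgHom)⟩

/-- if the maximal ideal of `A_p` is nil, a residue-field point of an étale `A`-algebra spreads out to a section over
a basic open neighbourhood of `p` -/
theorem exists_algHom_away {A : Type u} [CommRing A] (p : Ideal A) [p.IsPrime]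
    (hnil : ∀ x ∈ maximalIdeal (Localization.AtPrime p), IsNilpotent x)
    {C : Type u} [CommRing C] [Algebra A C] [Algebra.Etale A C] (χ : C →ₐ[A] p.ResidueField) :
    ∃ g : A, g ∉ p ∧ Nonempty (C →ₐ[A] Localization.Away g) := by
  obtain ⟨ψ⟩ := exists_algHom_atPrime p hnil χ
  obtain ⟨t, ht, φ, -⟩ := Groth.Agent.Lib.Helper22.SpreadIso.exists_lift_away (R := A) (S := C) (T := A)
    (L := Localization.AtPrime p) p.primeCompl ψ
  exact ⟨t, ht, ⟨φ⟩⟩

end Groth.Agent.Lib.Seat1.NilLocal
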