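import Mathlib
import Groth.Agent.Lib.Seat1NilLocal

/-!
# Étale schemes over `Spec R` near a point whose local ring has nil maximal ideal: sections over basic opens (seat 1)
-/

set_option autoImplicit false
set_option linter.style.haveILetI false
universe u
open CategoryTheory CategoryTheory.Limits AlgebraicGeometry Opposite IsLocalRing

namespace Groth.Agent.Lib.Seat1.NilSection

open Groth.Agent.Lib.Seat1.NilLocal

variable (R : CommRingCat.{u})

set_option backward.isDefEq.respectTransparency.types false in
/-- a residue-field point of an étale `Spec R`-scheme over a point `s` whose local ring has nil maximal ideal extends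
to a section over a basic open neighbourhood of `s` -/
theorem exists_section_away (s : Spec R)
    (hnil : ∀ x ∈ maximalIdeal (Localization.AtPrime s.asIdeal), IsNilpotent x)
    {U : Scheme.{u}} (q : U ⟶ Spec R) [Etale q] (w : Spec ((Spec R).residueField s) ⟶ U)
    (hw : w ≫ q = (Spec R).fromSpecResidueField s) :
    ∃ (g : R) (_ : g ∉ s.asIdeal) (σ : Spec (.of (Localization.Away g)) ⟶ U),
      σ ≫ q = Spec.map (CommRingCat.ofHom (algebraMap R (Localization.Away g))) := by
  obtain ⟨C, j, hj, hx, -⟩ := Scheme.exists_affine_mem_range_and_range_subset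
    (x := w (default : Spec ((Spec R).residueField s))) (U := ⊤) (by simp)
  have hrange : Set.range w ⊆ Set.range j := by
    rintro _ ⟨a, rfl⟩
    rwa [Subsingleton.elim a default]
  let y₀ : Spec ((Spec R).residueField s) ⟶ Spec C := IsOpenImmersion.lift j w hrange
  have hy₀ : y₀ ≫ j = w := IsOpenImmersion.lift_fac j w hrange
  let y : C ⟶ (Spec R).residueField s := Spec.preimage y₀
  have hy : Spec.map y = y₀ := Spec.map_preimage _
  let φ : R ⟶ C := Spec.preimage (j ≫ q)
  have hφ : Spec.map φ = j ≫ q := Spec.map_preimage _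
  have hφet : φ.hom.Etale := by
    have h1 : Etale (Spec.map φ) := by rw [hφ]; infer_instance
    exact (HasRingHomProperty.Spec_iff (P := @Etale)).1 h1
  letI : Algebra R C := φ.hom.toAlgebra
  haveI : Algebra.Etale R C := hφet
  let iso := Scheme.Spec.residueFieldIso R s
  have hcomm : φ ≫ y ≫ iso.hom = CommRingCat.ofHom (algebraMap R s.asIdeal.ResidueField) := by
    have h1 : Spec.map (φ ≫ y) =
        Spec.map (CommRingCat.ofHom (algebraMap R s.asIdeal.ResidueField) ≫ iso.inv) := by
      rw [Spec.map_comp, Spec.map_comp, hy, hφ, ← Category.assoc, hy₀, hw]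
      exact (Scheme.Spec.map_residueFieldIso_inv_eq_fromSpecResidueField R s).symm
    have h2 : φ ≫ y = CommRingCat.ofHom (algebraMap R s.asIdeal.ResidueField) ≫ iso.inv :=
      Spec.map_injective h1
    rw [← Category.assoc, h2, Category.assoc, Iso.inv_hom_id, Category.comp_id]
  let χ : C →ₐ[R] s.asIdeal.ResidueField :=
    { (y ≫ iso.hom).hom with
      commutes' := fun r => congrArg (fun m : R ⟶ CommRingCat.of s.asIdeal.ResidueField => m.hom r) hcomm }
  obtain ⟨g, hg, ⟨ψ⟩⟩ := exists_algHom_away s.asIdeal hnil χ
  refine ⟨g, hg, Spec.map (CommRingCat.ofHom ψ.toRingHom) ≫ j, ?_⟩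
  rw [Category.assoc, ← hφ, ← Spec.map_comp]
  congr 1
  ext r
  exact ψ.commutes r

end Groth.Agent.Lib.Seat1.NilSection
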