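import Mathlib

/-!
# Zero-dimensional rings: basic opens are closed, finite disjoint refinements of open covers (seat 1)
-/

set_option autoImplicit false
set_option linter.style.haveILetI false
universe u
open IsLocalRing

namespace Groth.Agent.Lib.Seat1.ZeroDim

variable {R : Type u} [CommRing R]

/-- in a zero-dimensional ring, the localisation at a prime has nil maximal ideal -/
lemma isNilpotent_of_mem_maximalIdeal [Ring.KrullDimLE 0 R] (p : Ideal R) [p.IsPrime]
    (x : Localization.AtPrime p) (hx : x ∈ maximalIdeal (Localization.AtPrime p)) : IsNilpotent x := by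
  have hp : p ∈ minimalPrimes R := by
    rw [Ring.KrullDimLE.minimalPrimes_eq_setOfPred_isPrime]
    exact ‹p.IsPrime›
  haveI : Ring.KrullDimLE 0 (Localization.AtPrime p) :=
    Ring.KrullDimLE.of_isLocalization p hp (Localization.AtPrime p)
  exact Ring.KrullDimLE.isNilpotent_iff_mem_maximalIdeal.2 hx

/-- in a zero-dimensional ring, an element of a prime `q` is killed, up to a power, by an element outside `q` -/
lemma exists_mul_pow_eq_zero [Ring.KrullDimLE 0 R] (q : Ideal R) [q.IsPrime] (g : R) (hg : g ∈ q) :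
    ∃ h : R, h ∉ q ∧ ∃ N : ℕ, h * g ^ N = 0 := by
  have hmem : algebraMap R (Localization.AtPrime q) g ∈ maximalIdeal (Localization.AtPrime q) := by
    rw [← IsLocalization.AtPrime.to_map_mem_maximal_iff (Localization.AtPrime q) q] at hg
    exact hg
  obtain ⟨N, hN⟩ := isNilpotent_of_mem_maximalIdeal q _ hmem
  rw [← map_pow] at hN
  obtain ⟨m, hm⟩ := (IsLocalization.map_eq_zero_iff q.primeCompl (Localization.AtPrime q) (g ^ N)).1 hN
  exact ⟨m.1, m.2, N, hm⟩

/-- in a zero-dimensional ring, basic opens are closed -/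
lemma isClosed_basicOpen [Ring.KrullDimLE 0 R] (g : R) :
    IsClosed (PrimeSpectrum.basicOpen g : Set (PrimeSpectrum R)) := by
  rw [← isOpen_compl_iff, isOpen_iff_forall_mem_open]
  intro q hq
  have hgq : g ∈ q.asIdeal := by
    by_contra h
    exact hq h
  obtain ⟨h, hh, N, hN⟩ := exists_mul_pow_eq_zero q.asIdeal g hgq
  refine ⟨PrimeSpectrum.basicOpen h, ?_, (PrimeSpectrum.basicOpen h).2, hh⟩
  intro x hx hxg
  have hx' : h ∉ x.asIdeal := hx
  have hxg' : g ∉ x.asIdeal := hxg
  have h0 : h * g ^ N ∈ x.asIdeal := by rw [hN]; exact x.asIdeal.zero_mem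
  rcases x.isPrime.mem_or_mem h0 with h1 | h1
  · exact hx' h1
  · exact hxg' (x.isPrime.mem_of_pow_mem N h1)

open TopologicalSpace in
/-- in a compact space, a family of clopen neighbourhoods is refined by a finite covering by pairwise disjoint opens -/
lemma exists_disjoint_refinement {α : Type*} [TopologicalSpace α] [CompactSpace α]
    (D : α → Opens α) (hD : ∀ x, x ∈ D x) (hcl : ∀ x, IsClosed (D x : Set α)) :
    ∃ (n : ℕ) (E : Fin n → Opens α) (c : Fin n → α),
      (∀ i j, i ≠ j → Disjoint (E i) (E j)) ∧ (∀ x, ∃ i, x ∈ E i) ∧ ∀ i, E i ≤ D (c i) := by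
  classical
  obtain ⟨t, ht⟩ := isCompact_univ.elim_finite_subcover (fun x : α => (D x : Set α))
    (fun x => (D x).2) (fun x _ => Set.mem_iUnion.2 ⟨x, hD x⟩)
  let n := t.card
  let e : Fin n ≃ t := t.equivFin.symm
  let c : Fin n → α := fun i => (e i).1
  have hcov : ∀ x : α, ∃ i : Fin n, x ∈ D (c i) := by
    intro x
    obtain ⟨y, hy⟩ := Set.mem_iUnion.1 (ht (Set.mem_univ x))
    obtain ⟨hyt, hxy⟩ := Set.mem_iUnion.1 hy
    refine ⟨e.symm ⟨y, hyt⟩, ?_⟩
    change x ∈ D (e (e.symm ⟨y, hyt⟩)).1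
    rw [Equiv.apply_symm_apply]
    exact hxy
  let B : Fin n → Set α := fun i => ⋃ j ∈ {j : Fin n | j < i}, (D (c j) : Set α)
  have hB : ∀ i, IsClosed (B i) := fun i =>
    Set.Finite.isClosed_biUnion (Set.toFinite _) (fun j _ => hcl _)
  let E : Fin n → Opens α := fun i => ⟨(D (c i) : Set α) \ B i, (D (c i)).2.sdiff (hB i)⟩
  have hlt : ∀ i j : Fin n, i < j → Disjoint (E i) (E j) := by
    intro i j hij
    rw [← Opens.coe_disjoint, Set.disjoint_left]
    rintro x ⟨hxi, -⟩ ⟨-, hxj⟩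
    exact hxj (Set.mem_biUnion (show i ∈ {k : Fin n | k < j} from hij) hxi)
  refine ⟨n, E, c, ?_, ?_, fun i x hx => hx.1⟩
  · intro i j hij
    rcases lt_or_gt_of_ne hij with h | h
    · exact hlt i j h
    · exact (hlt j i h).symm
  · intro x
    have hex : ∃ k : ℕ, ∃ h : k < n, x ∈ D (c ⟨k, h⟩) := by
      obtain ⟨i, hi⟩ := hcov x
      exact ⟨i.1, i.2, hi⟩
    obtain ⟨hk, hxk⟩ := Nat.find_spec hex
    refine ⟨⟨Nat.find hex, hk⟩, hxk, ?_⟩
    intro hxB
    obtain ⟨j, hj⟩ := Set.mem_iUnion.1 hxB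
    obtain ⟨hjlt, hxj⟩ := Set.mem_iUnion.1 hj
    exact Nat.find_min hex (show j.1 < Nat.find hex from hjlt) ⟨j.2, hxj⟩

end Groth.Agent.Lib.Seat1.ZeroDim
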