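import Mathlib
import Groth.Prelude.Def_EtBaseX
import Groth.Agent.Lib.Seat1DisjCover
import Groth.Agent.Lib.Seat1NilSection
import Groth.Agent.Lib.Seat1ZeroDim

/-!
# Étale cohomology of affine schemes with closed points and separably closed residue fields vanishes (seat 1)
-/

set_option autoImplicit false
set_option linter.style.haveILetI false
universe u
open CategoryTheory CategoryTheory.Limits AlgebraicGeometry Opposite IsLocalRing

namespace Groth.Agent.Lib.Seat1.ZeroDimVanish

open Groth.Agent.Lib.Seat1.DisjCover Groth.Agent.Lib.Seat1.NilSection Groth.Agent.Lib.Seat1.ZeroDim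

section Spec

variable (R : CommRingCat.{u})

/-- the arrow between open subschemes induced by an inclusion -/
noncomputable def opnLE {X : Scheme.{u}} {V W : X.Opens} (h : V ≤ W) : opn V ⟶ opn W :=
  MorphismProperty.Over.homMk (X.homOfLE h) (X.homOfLE_ι h)

lemma mem_of_le {X : Scheme.{u}} (T : Sieve (EtCoh.top X)) {V W : X.Opens} (h : V ≤ W)
    (hW : T (opnTop W)) : T (opnTop V) := by
  have e : opnTop V = opnLE h ≫ opnTop W := (EtCore.topIsTerminal X).hom_ext _ _
  rw [e]
  exact T.downward_closed hW _

set_option backward.isDefEq.respectTransparency.types false in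
/-- local sections: a covering sieve of `Spec R` contains a basic open neighbourhood of each point whose residue field
is separably closed and whose local ring has nil maximal ideal -/
lemma exists_basicOpen_mem (T : Sieve (EtCoh.top (Spec R)))
    (hT : T ∈ (Spec R).smallEtaleTopology (EtCoh.top (Spec R))) (s : Spec R)
    [IsSepClosed ((Spec R).residueField s)]
    (hnil : ∀ x ∈ maximalIdeal (Localization.AtPrime s.asIdeal), IsNilpotent x) :
    ∃ g : R, g ∉ s.asIdeal ∧ T (opnTop (X := Spec R) (PrimeSpectrum.basicOpen g)) := by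
  let ξ : Spec (CommRingCat.of ((Spec R).residueField s)) ⟶ Spec R := (Spec R).fromSpecResidueField s
  let Φ := Scheme.pointSmallEtale ξ
  let x₀ : Φ.fiber.obj (EtCoh.top (Spec R)) := Over.homMk ξ (Category.comp_id ξ)
  obtain ⟨U, f, hf, w, -⟩ := Φ.jointly_surjective T hT x₀
  let wl : Spec ((Spec R).residueField s) ⟶ U.left :=
    Over.Hom.left (show Over.mk ξ ⟶ (Scheme.Etale.forget (Spec R)).obj U from w)
  have hwl : wl ≫ U.hom = (Spec R).fromSpecResidueField s :=
    Over.w (show Over.mk ξ ⟶ (Scheme.Etale.forget (Spec R)).obj U from w)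
  obtain ⟨g, hg, σ, hσ⟩ := exists_section_away R s hnil U.hom wl hwl
  refine ⟨g, hg, ?_⟩
  let a : opn (X := Spec R) (PrimeSpectrum.basicOpen g) ⟶ U :=
    MorphismProperty.Over.homMk ((basicOpenIsoSpecAway g).hom ≫ σ) (by
      rw [Category.assoc, hσ]
      exact basicOpenIsoSpecAway_hom_SpecMap g)
  have e : opnTop (X := Spec R) (PrimeSpectrum.basicOpen g) = a ≫ f :=
    (EtCore.topIsTerminal (Spec R)).hom_ext _ _
  rw [e]
  exact T.downward_closed hf _

set_option backward.isDefEq.respectTransparency.types false in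
/-- every étale covering of `Spec R` is refined by a finite disjoint open covering, when all points of `Spec R` are
closed with separably closed residue fields -/
theorem hasDisjRefinement_spec (h1 : ∀ s : Spec R, IsClosed ({s} : Set (Spec R)))
    (h2 : ∀ s : Spec R, IsSepClosed ((Spec R).residueField s)) : HasDisjRefinement (Spec R) := by
  haveI : Ring.KrullDimLE 0 R := Ring.KrullDimLE.mk₀ (fun I hI =>
    (PrimeSpectrum.isClosed_singleton_iff_isMaximal (⟨I, hI⟩ : PrimeSpectrum R)).1 (h1 ⟨I, hI⟩))
  intro T hT
  have key : ∀ s : Spec R, ∃ g : R, g ∉ s.asIdeal ∧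
      T (opnTop (X := Spec R) (PrimeSpectrum.basicOpen g)) := fun s =>
    haveI := h2 s
    exists_basicOpen_mem R T hT s (fun x hx => isNilpotent_of_mem_maximalIdeal s.asIdeal x hx)
  choose g hg hgT using key
  have hc : CompactSpace (PrimeSpectrum R) := inferInstance
  obtain ⟨n, E, c, hdisj, hcov, hle⟩ := @exists_disjoint_refinement (PrimeSpectrum R) _ hc
    (fun s => PrimeSpectrum.basicOpen (g s)) hg (fun s => isClosed_basicOpen (g s))
  exact ⟨n, E, hdisj, hcov, fun i => mem_of_le T (hle i) (hgT (c i))⟩

end Spec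

section Transfer

lemma isSepClosed_of_ringEquiv {k k' : Type*} [Field k] [Field k'] [IsSepClosed k] (e : k ≃+* k') :
    IsSepClosed k' := by
  refine IsSepClosed.of_exists_root _ (fun p _ hirr hsep => ?_)
  have hsep' : (p.map e.symm.toRingHom).Separable := hsep.map
  have hdeg : (p.map e.symm.toRingHom).degree ≠ 0 := by
    rw [Polynomial.degree_map]
    exact (Polynomial.degree_pos_of_irreducible hirr).ne'
  obtain ⟨x, hx⟩ := IsSepClosed.exists_root _ hdeg hsep'
  refine ⟨e x, ?_⟩
  have hp : p = (p.map e.symm.toRingHom).map e.toRingHom := by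
    rw [Polynomial.map_map]
    have : e.toRingHom.comp e.symm.toRingHom = RingHom.id k' := by
      ext a
      exact e.apply_symm_apply a
    rw [this, Polynomial.map_id]
  rw [Polynomial.IsRoot.def] at hx
  rw [hp, Polynomial.eval_map]
  change Polynomial.eval₂ e.toRingHom (e.toRingHom x) _ = 0
  rw [Polynomial.eval₂_at_apply, hx, map_zero]

open Groth.Agent.Lib.Helper16.SmallEtale

variable {S S' : Scheme.{u}} (e : S ≅ S')

/-- transport of an étale `S'`-scheme to an étale `S`-scheme along an isomorphism `S ≅ S'` -/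
noncomputable def tr (W : S'.Etale) : S.Etale := Scheme.Etale.mk (W.hom ≫ e.inv)

/-- transport of arrows -/
noncomputable def trMap {W W' : S'.Etale} (h : W ⟶ W') : tr e W ⟶ tr e W' :=
  MorphismProperty.Over.homMk h.left (by
    change h.left ≫ W'.hom ≫ e.inv = W.hom ≫ e.inv
    rw [← Category.assoc]
    congr 1
    exact Over.w h.hom)

include e in
/-- the property of having disjoint refinements is invariant under isomorphisms -/
theorem hasDisjRefinement_of_iso (h : HasDisjRefinement S') : HasDisjRefinement S := by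
  intro T hT
  have hS := EtCore.topIsTerminal S
  let T' : Sieve (EtCoh.top S') :=
    { arrows := fun W _ => T (hS.from (tr e W))
      downward_closed := by
        intro W W' g hg k
        have e1 : hS.from (tr e W') = trMap e k ≫ hS.from (tr e W) := hS.hom_ext _ _
        rw [e1]
        exact T.downward_closed hg _ }
  have hinv : ∀ z : S', e.hom (e.inv z) = z := fun z => by
    rw [← Scheme.Hom.comp_apply, Iso.inv_hom_id]
    rfl
  have hT' : T' ∈ S'.smallEtaleTopology (EtCoh.top S') := by
    rw [mem_smallEtale_iff]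
    intro x'
    obtain ⟨U, f, u, hf, hu⟩ := (mem_smallEtale_iff _ T).1 hT (e.inv x')
    let W : S'.Etale := Scheme.Etale.mk (U.hom ≫ e.hom)
    refine ⟨W, (EtCore.topIsTerminal S').from W, u, ?_, ?_⟩
    · let a : tr e W ⟶ U := MorphismProperty.Over.homMk (𝟙 U.left) (by
        change 𝟙 U.left ≫ U.hom = (U.hom ≫ e.hom) ≫ e.inv
        rw [Category.id_comp, Category.assoc, Iso.hom_inv_id, Category.comp_id])
      have e1 : hS.from (tr e W) = a ≫ f := hS.hom_ext _ _
      change T (hS.from (tr e W))
      rw [e1]
      exact T.downward_closed hf _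
    · let q : U.left ⟶ S' := U.hom ≫ e.hom
      let fl : U.left ⟶ S := f.left
      have h1 : ((EtCore.topIsTerminal S').from W).left = q :=
        (Category.comp_id _).symm.trans (Over.w ((EtCore.topIsTerminal S').from W).hom)
      have h2 : fl = U.hom := (Category.comp_id _).symm.trans (Over.w f.hom)
      have hu' : fl u = e.inv x' := hu
      change ((EtCore.topIsTerminal S').from W).left u = x'
      rw [h1]
      change (U.hom ≫ e.hom) u = x'
      rw [Scheme.Hom.comp_apply, ← h2, hu']
      exact hinv x'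
  obtain ⟨n, E', hdisj, hcov, hE'⟩ := h T' hT'
  refine ⟨n, fun i => e.hom ⁻¹ᵁ E' i, ?_, ?_, ?_⟩
  · intro i j hij
    have := hdisj i j hij
    rw [← TopologicalSpace.Opens.coe_disjoint] at this ⊢
    exact this.preimage _
  · intro x
    obtain ⟨i, hi⟩ := hcov (e.hom x)
    exact ⟨i, hi⟩
  · intro i
    let a : opn (e.hom ⁻¹ᵁ E' i) ⟶ tr e (opn (E' i)) :=
      MorphismProperty.Over.homMk (e.hom ∣_ E' i) (by
        change (e.hom ∣_ E' i) ≫ (E' i).ι ≫ e.inv = (e.hom ⁻¹ᵁ E' i).ι
        rw [morphismRestrict_ι_assoc, Iso.hom_inv_id, Category.comp_id])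
    have e1 : opnTop (e.hom ⁻¹ᵁ E' i) = a ≫ hS.from (tr e (opn (E' i))) := hS.hom_ext _ _
    rw [e1]
    exact T.downward_closed (hE' i) _

end Transfer

/-- **Vanishing**: on an affine scheme all of whose points are closed with separably closed residue fields, higher
étale cohomology of abelian sheaves vanishes. -/
theorem subsingleton_H (S : Scheme.{u}) [IsAffine S] (h1 : ∀ s : S, IsClosed ({s} : Set S))
    (h2 : ∀ s : S, IsSepClosed (S.residueField s)) (F : EtCoh.Ab S) (i : ℕ) (hi : 1 ≤ i) :
    Subsingleton (EtCoh.H S F i) := by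
  refine DisjCover.subsingleton_H (hasDisjRefinement_of_iso S.isoSpec (hasDisjRefinement_spec _ ?_ ?_)) F i hi
  · intro s'
    obtain ⟨s, rfl⟩ : ∃ s, S.isoSpec.hom s = s' := ⟨S.isoSpec.inv s', by
      rw [← Scheme.Hom.comp_apply, Iso.inv_hom_id]; rfl⟩
    have := (S.isoSpec.hom.homeomorph).isClosed_image.2 (h1 s)
    simpa using this
  · intro s'
    obtain ⟨s, rfl⟩ : ∃ s, S.isoSpec.hom s = s' := ⟨S.isoSpec.inv s', by
      rw [← Scheme.Hom.comp_apply, Iso.inv_hom_id]; rfl⟩
    haveI := h2 s
    have eiso : (Spec Γ(S, ⊤)).residueField (S.isoSpec.hom s) ≅ S.residueField s :=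
      asIso (S.isoSpec.hom.residueFieldMap s)
    exact isSepClosed_of_ringEquiv eiso.symm.commRingCatIsoToRingEquiv

end Groth.Agent.Lib.Seat1.ZeroDimVanish
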