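import Mathlib
import Groth.Prelude.Def_EtBaseX
import Groth.Agent.Lib.Seat1DisjCover
import Groth.Agent.Lib.Seat1ZeroDimVanish
import Groth.Agent.Lib.Seat1HenselSection
import Groth.Agent.S0505

/-!
# Étale cohomology of schemes finite over a strictly henselian local ring vanishes (seat 1)
-/

set_option autoImplicit false
set_option linter.style.haveILetI false
universe u
open CategoryTheory CategoryTheory.Limits AlgebraicGeometry Opposite IsLocalRing

namespace Groth.Agent.Lib.Seat1.FinHensel

open Groth.Agent.Lib.Seat1.DisjCover Groth.Agent.Lib.Seat1.ZeroDimVanish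
  Groth.Agent.Lib.Seat1.HenselSection

section Pi

variable {ι : Type u} (A : ι → Type u) [∀ i, CommRing (A i)]

/-- the inclusion of a factor of the spectrum of a product -/
noncomputable abbrev pr (i : ι) : Spec (CommRingCat.of (A i)) ⟶ Spec (CommRingCat.of (Π i, A i)) :=
  Spec.map (CommRingCat.ofHom (Pi.evalRingHom A i))

lemma pr_eq (i : ι) : pr A i = Sigma.ι (fun i => Spec (CommRingCat.of (A i))) i ≫
    sigmaSpec (fun i => CommRingCat.of (A i)) :=
  (ι_sigmaSpec (fun i => CommRingCat.of (A i)) i).symm

instance (i : ι) : IsOpenImmersion (pr A i) := by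
  rw [pr_eq]
  infer_instance

lemma disjoint_opensRange_pr (i j : ι) (hij : i ≠ j) :
    Disjoint (pr A i).opensRange (pr A j).opensRange := by
  rw [← TopologicalSpace.Opens.coe_disjoint, Set.disjoint_left]
  rintro _ ⟨x, rfl⟩ ⟨y, hy⟩
  have h1 : sigmaSpec (fun i => CommRingCat.of (A i))
        (Sigma.ι (fun i => Spec (CommRingCat.of (A i))) j y) =
      sigmaSpec (fun i => CommRingCat.of (A i))
        (Sigma.ι (fun i => Spec (CommRingCat.of (A i))) i x) := by
    rw [← Scheme.Hom.comp_apply, ← Scheme.Hom.comp_apply, ← pr_eq, ← pr_eq]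
    exact hy
  have h2 := (sigmaSpec (fun i => CommRingCat.of (A i))).isOpenEmbedding.injective h1
  obtain ⟨rfl⟩ := (sigmaι_eq_iff _ _ _ _ _).mp h2
  exact hij rfl

lemma exists_mem_opensRange_pr [Finite ι] (x : Spec (CommRingCat.of (Π i, A i))) :
    ∃ i, x ∈ (pr A i).opensRange := by
  let y := (inv (sigmaSpec (fun i => CommRingCat.of (A i)))) x
  have key : ∃ (i : ι) (z : Spec (CommRingCat.of (A i))),
      Sigma.ι (fun i => Spec (CommRingCat.of (A i))) i z = y :=
    (sigmaOpenCover (fun i => Spec (CommRingCat.of (A i)))).exists_eq y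
  obtain ⟨i, z, hz⟩ := key
  refine ⟨i, z, ?_⟩
  rw [pr_eq, Scheme.Hom.comp_apply, hz, ← Scheme.Hom.comp_apply, IsIso.inv_hom_id]
  rfl

/-- a covering sieve of the spectrum of a finite product of strictly henselian local rings contains every factor -/
lemma mem_opnTop_pr [∀ i, HenselianLocalRing (A i)] [∀ i, IsSepClosed (ResidueField (A i))]
    (T : Sieve (EtCoh.top (Spec (CommRingCat.of (Π i, A i)))))
    (hT : T ∈ (Spec (CommRingCat.of (Π i, A i))).smallEtaleTopology
      (EtCoh.top (Spec (CommRingCat.of (Π i, A i))))) (i : ι) :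
    T (opnTop (pr A i).opensRange) := by
  let S := Spec (CommRingCat.of (Π i, A i))
  let ρ : Spec (CommRingCat.of (ResidueField (A i))) ⟶ Spec (CommRingCat.of (A i)) :=
    Spec.map (CommRingCat.ofHom (residue (A i)))
  let ξ : Spec (CommRingCat.of (ResidueField (A i))) ⟶ S := ρ ≫ pr A i
  let Φ := Scheme.pointSmallEtale ξ
  let x₀ : Φ.fiber.obj (EtCoh.top S) := Over.homMk ξ (Category.comp_id ξ)
  obtain ⟨U, f, hf, w, -⟩ := Φ.jointly_surjective T hT x₀
  let wl : Spec (CommRingCat.of (ResidueField (A i))) ⟶ U.left :=
    Over.Hom.left (show Over.mk ξ ⟶ (Scheme.Etale.forget S).obj U from w)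
  have hwl : wl ≫ U.hom = ξ :=
    Over.w (show Over.mk ξ ⟶ (Scheme.Etale.forget S).obj U from w)
  -- base change to the factor
  let w' : Spec (CommRingCat.of (ResidueField (A i))) ⟶ pullback U.hom (pr A i) :=
    pullback.lift wl ρ hwl
  obtain ⟨s, hs, -⟩ := exists_section (A i) (pullback.snd U.hom (pr A i)) w'
    (pullback.lift_snd _ _ _)
  let σ : Spec (CommRingCat.of (A i)) ⟶ U.left := s ≫ pullback.fst U.hom (pr A i)
  have hσ : σ ≫ U.hom = pr A i := by
    rw [Category.assoc, pullback.condition, ← Category.assoc, hs, Category.id_comp]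
  let a : opn (pr A i).opensRange ⟶ U :=
    MorphismProperty.Over.homMk ((pr A i).isoOpensRange.inv ≫ σ) (by
      change ((pr A i).isoOpensRange.inv ≫ σ) ≫ U.hom = (pr A i).opensRange.ι
      rw [Category.assoc, hσ]
      exact (pr A i).isoOpensRange_inv_comp)
  have e : opnTop (pr A i).opensRange = a ≫ f := (EtCore.topIsTerminal S).hom_ext _ _
  rw [e]
  exact T.downward_closed hf _

/-- every étale covering of the spectrum of a finite product of strictly henselian local rings is refined by
the finite disjoint open covering by the factors -/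
theorem hasDisjRefinement_pi [Finite ι] [∀ i, HenselianLocalRing (A i)]
    [∀ i, IsSepClosed (ResidueField (A i))] :
    HasDisjRefinement (Spec (CommRingCat.of (Π i, A i))) := by
  intro T hT
  obtain ⟨n, ⟨e⟩⟩ := Finite.exists_equiv_fin ι
  refine ⟨n, fun k => (pr A (e.symm k)).opensRange, ?_, ?_, ?_⟩
  · intro k l hkl
    exact disjoint_opensRange_pr A _ _ (fun h => hkl (e.symm.injective h))
  · intro x
    obtain ⟨i, hi⟩ := exists_mem_opensRange_pr A x
    refine ⟨e i, ?_⟩
    change x ∈ (pr A (e.symm (e i))).opensRange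
    rwa [e.symm_apply_apply]
  · intro k
    exact mem_opnTop_pr A T hT _

end Pi

section Algebra

/-- a finite algebra between local rings is a local homomorphism -/
lemma isLocalHom_of_finite (R B : Type u) [CommRing R] [IsLocalRing R] [CommRing B] [IsLocalRing B]
    [Algebra R B] [Module.Finite R B] : IsLocalHom (algebraMap R B) := by
  haveI : Algebra.IsIntegral R B := Algebra.IsIntegral.of_finite R B
  refine ⟨fun r hr => ?_⟩
  by_contra hnu
  have hm : r ∈ maximalIdeal R := hnu
  have hker : RingHom.ker (algebraMap R B) ≤ maximalIdeal R :=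
    IsLocalRing.le_maximalIdeal ((RingHom.ker_ne_top _))
  obtain ⟨Q, hQ, hQc⟩ := Ideal.exists_ideal_over_maximal_of_isIntegral (S := B) (maximalIdeal R) hker
  have : algebraMap R B r ∈ Q := by
    have : r ∈ Q.comap (algebraMap R B) := by rw [hQc]; exact hm
    exact this
  exact hQ.ne_top (Ideal.eq_top_of_isUnit_mem _ this hr)

/-- a local ring finite over a strictly henselian local ring has separably closed residue field -/
lemma isSepClosed_residueField_of_finite (R B : Type u) [CommRing R] [IsLocalRing R]
    [IsSepClosed (ResidueField R)] [CommRing B] [IsLocalRing B]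
    [Algebra R B] [Module.Finite R B] : IsSepClosed (ResidueField B) := by
  haveI := isLocalHom_of_finite R B
  haveI : Module.Finite (ResidueField R) (ResidueField B) := inferInstance
  haveI : Algebra.IsAlgebraic (ResidueField R) (ResidueField B) := Algebra.IsAlgebraic.of_finite _ _
  exact Algebra.IsAlgebraic.isSepClosed (F := ResidueField R)

end Algebra

/-- the spectrum of a finite algebra over a strictly henselian local ring has disjoint refinements -/
theorem hasDisjRefinement_spec_of_finite (R : Type u) [CommRing R] [HenselianLocalRing R]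
    [IsSepClosed (ResidueField R)] (B : Type u) [CommRing B] [Algebra R B] [Module.Finite R B] :
    HasDisjRefinement (Spec (CommRingCat.of B)) := by
  obtain ⟨ι, _, A, _, hloc, ⟨e⟩⟩ := Groth.Agent.Lib.Helper3.Hensel.exists_pi_isLocalRing_of_finite R B
  let π : ∀ i, B →+* A i := fun i => (Pi.evalRingHom A i).comp e.toRingHom
  have hπ : ∀ i, Function.Surjective (π i) := fun i =>
    (Function.surjective_eval i).comp e.surjective
  letI : ∀ i, Algebra R (A i) := fun i => ((π i).comp (algebraMap R B)).toAlgebra
  haveI : ∀ i, Module.Finite R (A i) := fun i => by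
    let l : B →ₗ[R] A i :=
      { toFun := π i
        map_add' := map_add _
        map_smul' := fun r b => by
          rw [Algebra.smul_def, map_mul, RingHom.id_apply, Algebra.smul_def]
          rfl }
    exact Module.Finite.of_surjective l (hπ i)
  haveI : ∀ i, IsLocalRing (A i) := hloc
  haveI : ∀ i, HenselianLocalRing (A i) := fun i => Groth.Agent.S0505.result R (A i)
  haveI : ∀ i, IsSepClosed (ResidueField (A i)) := fun i => isSepClosed_residueField_of_finite R (A i)
  have h := hasDisjRefinement_pi A
  let E : Spec (CommRingCat.of B) ≅ Spec (CommRingCat.of (Π i, A i)) :=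
    Scheme.Spec.mapIso (e.toCommRingCatIso).op.symm
  exact hasDisjRefinement_of_iso E h

/-- **Vanishing**: on a scheme finite over a strictly henselian local ring, higher étale cohomology of abelian
sheaves vanishes. -/
theorem subsingleton_H (R : Type u) [CommRing R] [HenselianLocalRing R]
    [IsSepClosed (ResidueField R)] (X : Scheme.{u}) (f : X ⟶ Spec (CommRingCat.of R)) [IsFinite f]
    (F : EtCoh.Ab X) (j : ℕ) (hj : 1 ≤ j) : Subsingleton (EtCoh.H X F j) := by
  haveI : IsAffine X := isAffine_of_isAffineHom f
  let φ : CommRingCat.of R ⟶ Γ(X, ⊤) := (Scheme.ΓSpecIso (CommRingCat.of R)).inv ≫ f.appTop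
  have hφ : φ.hom.Finite := by
    have h1 : f.appTop.hom.Finite := f.finite_appTop
    have h2 : (Scheme.ΓSpecIso (CommRingCat.of R)).inv.hom.Finite :=
      RingHom.Finite.of_surjective _
        ((ConcreteCategory.bijective_of_isIso (Scheme.ΓSpecIso (CommRingCat.of R)).inv).2)
    exact h1.comp h2
  letI : Algebra R Γ(X, ⊤) := φ.hom.toAlgebra
  haveI : Module.Finite R Γ(X, ⊤) := hφ
  have h := hasDisjRefinement_spec_of_finite R Γ(X, ⊤)
  exact DisjCover.subsingleton_H (hasDisjRefinement_of_iso X.isoSpec h) F j hj

end Groth.Agent.Lib.Seat1.FinHensel
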