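import Mathlib
import Groth.Prelude.Def_EtBaseX

/-!
# The étale local ring at a geometric point: affine pointed neighbourhoods and germs (seat 1)
-/

set_option autoImplicit false
set_option linter.style.haveILetI false
universe u
open CategoryTheory CategoryTheory.Limits AlgebraicGeometry Opposite

namespace Groth.Agent.Lib.Seat1.ShLocal

variable {X : Scheme.{u}} {Ω : Type u} [Field Ω] [IsSepClosed Ω]
  (ξ : Spec (CommRingCat.of Ω) ⟶ X)

/-- the point of the small étale site -/
noncomputable abbrev Φ : X.smallEtaleTopology.Point := Scheme.pointSmallEtale ξ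

/-- the étale local ring -/
noncomputable abbrev A : CommRingCat.{u} := EtBase.etaleLocalRing ξ

/-- an affine pointed étale neighbourhood of the geometric point `ξ` -/
structure Nbhd where
  /-- coordinate ring -/
  C : CommRingCat.{u}
  /-- structure map -/
  q : Spec C ⟶ X
  et : Etale q
  /-- the point -/
  y : C ⟶ CommRingCat.of Ω
  hy : Spec.map y ≫ q = ξ

attribute [instance] Nbhd.et

variable {ξ}

/-- the object of the small étale site -/
noncomputable abbrev Nbhd.obj (N : Nbhd ξ) : X.Etale := Scheme.Etale.mk N.q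

/-- the element of the fibre -/
noncomputable abbrev Nbhd.pt (N : Nbhd ξ) : (Φ ξ).fiber.obj N.obj := Over.homMk (Spec.map N.y) N.hy

/-- the canonical map from functions on an étale neighbourhood to the étale local ring -/
noncomputable def toFiber (U : X.Etale) (x : (Φ ξ).fiber.obj U) : Γ(U.left, ⊤) ⟶ A ξ :=
  (Φ ξ).toPresheafFiber U x (EtBase.OO X)

/-- the point of `U` underlying an element of the fibre -/
noncomputable abbrev ptOf {U : X.Etale} (x : (Φ ξ).fiber.obj U) : Spec (CommRingCat.of Ω) ⟶ U.left :=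
  Over.Hom.left (show Over.mk ξ ⟶ (Scheme.Etale.forget X).obj U from x)

lemma ptOf_map {U V : X.Etale} (f : U ⟶ V) (x : (Φ ξ).fiber.obj U) :
    ptOf ((Φ ξ).fiber.map f x) = ptOf x ≫ f.left := rfl

lemma toFiber_w {U V : X.Etale} (f : U ⟶ V) (x : (Φ ξ).fiber.obj U) :
    f.left.appTop ≫ toFiber U x = toFiber V ((Φ ξ).fiber.map f x) :=
  (Φ ξ).toPresheafFiber_w f x (EtBase.OO X)

/-- `toFiber` for an affine pointed neighbourhood, with the source written as `Γ(Spec C, ⊤)` -/
noncomputable def Nbhd.toA (N : Nbhd ξ) : Γ(Spec N.C, ⊤) ⟶ A ξ := toFiber N.obj N.pt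

/-- the germ map of an affine pointed neighbourhood -/
noncomputable def Nbhd.germ (N : Nbhd ξ) : N.C ⟶ A ξ :=
  (Scheme.ΓSpecIso N.C).inv ≫ N.toA

variable (ξ) in
/-- evaluation of a function on an étale neighbourhood at the geometric point -/
noncomputable def evAt (U : X.Etale) (x : (Φ ξ).fiber.obj U) : Γ(U.left, ⊤) ⟶ CommRingCat.of Ω :=
  (ptOf x).appTop ≫ (Scheme.ΓSpecIso (CommRingCat.of Ω)).hom

lemma evAt_w {U V : X.Etale} (f : U ⟶ V) (x : (Φ ξ).fiber.obj U) :
    f.left.appTop ≫ evAt ξ U x = evAt ξ V ((Φ ξ).fiber.map f x) := by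
  unfold evAt
  rw [ptOf_map, Scheme.Hom.comp_appTop, Category.assoc]

variable (ξ) in
/-- evaluation at the geometric point, on the étale local ring -/
noncomputable def ev : A ξ ⟶ CommRingCat.of Ω :=
  (Φ ξ).presheafFiberDesc (P := EtBase.OO X) (fun U x => evAt ξ U x) (fun _ _ f x => evAt_w f x)

lemma toFiber_ev (U : X.Etale) (x : (Φ ξ).fiber.obj U) : toFiber U x ≫ ev ξ = evAt ξ U x :=
  (Φ ξ).toPresheafFiber_presheafFiberDesc _ _ U x

lemma Nbhd.toA_ev (N : Nbhd ξ) :
    N.toA ≫ ev ξ = (Spec.map N.y).appTop ≫ (Scheme.ΓSpecIso (CommRingCat.of Ω)).hom :=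
  toFiber_ev N.obj N.pt

lemma Nbhd.germ_ev (N : Nbhd ξ) : N.germ ≫ ev ξ = N.y := by
  unfold Nbhd.germ
  rw [Category.assoc, N.toA_ev, ← Scheme.ΓSpecIso_inv_naturality_assoc, Iso.inv_hom_id,
    Category.comp_id]

lemma Nbhd.ev_germ_apply (N : Nbhd ξ) (c : N.C) : (ev ξ).hom (N.germ.hom c) = N.y.hom c := by
  rw [← N.germ_ev]
  rfl

/-- refinement of an affine pointed neighbourhood along an étale ring map -/
noncomputable abbrev Nbhd.refine (N : Nbhd ξ) {C' : CommRingCat.{u}} (h : N.C ⟶ C') [Etale (Spec.map h)]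
    (y' : C' ⟶ CommRingCat.of Ω) (hy' : h ≫ y' = N.y) : Nbhd ξ where
  C := C'
  q := Spec.map h ≫ N.q
  et := inferInstance
  y := y'
  hy := by rw [← Category.assoc, ← Spec.map_comp, hy', N.hy]

lemma Nbhd.refine_toA (N : Nbhd ξ) {C' : CommRingCat.{u}} (h : N.C ⟶ C') [Etale (Spec.map h)]
    (y' : C' ⟶ CommRingCat.of Ω) (hy' : h ≫ y' = N.y) :
    (Spec.map h).appTop ≫ (N.refine h y' hy').toA = N.toA := by
  let g : (N.refine h y' hy').obj ⟶ N.obj := MorphismProperty.Over.homMk (Spec.map h) rfl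
  have hg : (Φ ξ).fiber.map g (N.refine h y' hy').pt = N.pt := by
    apply Over.OverMorphism.ext
    change Spec.map y' ≫ Spec.map h = Spec.map N.y
    rw [← Spec.map_comp, hy']
  have := toFiber_w g (N.refine h y' hy').pt
  rw [hg] at this
  exact this

lemma Nbhd.refine_germ (N : Nbhd ξ) {C' : CommRingCat.{u}} (h : N.C ⟶ C') [Etale (Spec.map h)]
    (y' : C' ⟶ CommRingCat.of Ω) (hy' : h ≫ y' = N.y) :
    h ≫ (N.refine h y' hy').germ = N.germ := by
  unfold Nbhd.germ
  rw [Scheme.ΓSpecIso_inv_naturality_assoc, N.refine_toA]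

lemma Nbhd.refine_germ_apply (N : Nbhd ξ) {C' : CommRingCat.{u}} (h : N.C ⟶ C')
    [Etale (Spec.map h)] (y' : C' ⟶ CommRingCat.of Ω) (hy' : h ≫ y' = N.y) (c : N.C) :
    (N.refine h y' hy').germ.hom (h.hom c) = N.germ.hom c := by
  rw [← N.refine_germ h y' hy']
  rfl

variable (ξ) in
/-- finitely many elements of the étale local ring are germs on a common étale neighbourhood -/
lemma exists_common (m : ℕ) (v : Fin m → A ξ) :
    ∃ (U : X.Etale) (x : (Φ ξ).fiber.obj U) (w : Fin m → Γ(U.left, ⊤)),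
      ∀ i, (toFiber U x).hom (w i) = v i := by
  induction m with
  | zero =>
    obtain ⟨⟨U, x⟩⟩ := IsCofiltered.nonempty (C := (Φ ξ).fiber.Elements)
    exact ⟨U, x, Fin.elim0, fun i => i.elim0⟩
  | succ m ih =>
    obtain ⟨U₁, x₁, w₁, h₁⟩ := ih (fun i => v i.castSucc)
    obtain ⟨U₂, x₂, z, hz⟩ := (Φ ξ).toPresheafFiber_jointly_surjective (P := EtBase.OO X)
      (v (Fin.last m))
    let e₁ : (Φ ξ).fiber.Elements := ⟨U₁, x₁⟩
    let e₂ : (Φ ξ).fiber.Elements := ⟨U₂, x₂⟩
    let e₃ := IsCofiltered.min e₁ e₂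
    let g₁ : e₃ ⟶ e₁ := IsCofiltered.minToLeft _ _
    let g₂ : e₃ ⟶ e₂ := IsCofiltered.minToRight _ _
    have hg₁ : (Φ ξ).fiber.map g₁.1 e₃.2 = x₁ := g₁.2
    have hg₂ : (Φ ξ).fiber.map g₂.1 e₃.2 = x₂ := g₂.2
    let z' : Γ(U₂.left, ⊤) := z
    have hz' : (toFiber U₂ x₂).hom z' = v (Fin.last m) := hz
    let w₃ : Fin (m + 1) → Γ(e₃.1.left, ⊤) := Fin.lastCases (g₂.1.left.appTop.hom z')
      (fun i => g₁.1.left.appTop.hom (w₁ i))
    have hl : w₃ (Fin.last m) = g₂.1.left.appTop.hom z' := Fin.lastCases_last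
    have hc : ∀ i : Fin m, w₃ i.castSucc = g₁.1.left.appTop.hom (w₁ i) :=
      fun i => Fin.lastCases_castSucc _
    refine ⟨e₃.1, e₃.2, w₃, fun i => ?_⟩
    refine Fin.lastCases ?_ (fun i => ?_) i
    · rw [hl, ← hz', ← hg₂, ← toFiber_w g₂.1 e₃.2]
      rfl
    · rw [hc, ← h₁ i, ← hg₁, ← toFiber_w g₁.1 e₃.2]
      rfl

/-- shrinking a pointed étale neighbourhood to an affine one -/
lemma exists_nbhd (U : X.Etale) (x : (Φ ξ).fiber.obj U) :
    ∃ (N : Nbhd ξ) (r : Γ(U.left, ⊤) ⟶ N.C), r ≫ N.germ = toFiber U x := by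
  obtain ⟨C, j, hj, hx, -⟩ := Scheme.exists_affine_mem_range_and_range_subset
    (x := ptOf x (default : Spec (CommRingCat.of Ω))) (U := ⊤) (by simp)
  have hrange : Set.range (ptOf x) ⊆ Set.range j := by
    rintro _ ⟨a, rfl⟩
    rwa [Subsingleton.elim a default]
  let y₀ : Spec (CommRingCat.of Ω) ⟶ Spec C := IsOpenImmersion.lift j (ptOf x) hrange
  have hy₀ : y₀ ≫ j = ptOf x := IsOpenImmersion.lift_fac j (ptOf x) hrange
  let y : C ⟶ CommRingCat.of Ω := Spec.preimage y₀
  have hy : Spec.map y = y₀ := Spec.map_preimage _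
  have hx' : ptOf x ≫ U.hom = ξ := Over.w (show Over.mk ξ ⟶ (Scheme.Etale.forget X).obj U from x)
  let N : Nbhd ξ := ⟨C, j ≫ U.hom, inferInstance, y, by rw [hy, ← Category.assoc, hy₀, hx']⟩
  let g : N.obj ⟶ U := MorphismProperty.Over.homMk j rfl
  have hg : (Φ ξ).fiber.map g N.pt = x := by
    apply Over.OverMorphism.ext
    change Spec.map y ≫ j = ptOf x
    rw [hy, hy₀]
  have h1 : j.appTop ≫ N.toA = toFiber U x := by
    have := toFiber_w g N.pt
    rw [hg] at this
    exact this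
  refine ⟨N, j.appTop ≫ (Scheme.ΓSpecIso C).hom, ?_⟩
  unfold Nbhd.germ
  rw [Category.assoc, Iso.hom_inv_id_assoc, h1]

variable (ξ) in
/-- finitely many elements of the étale local ring are germs on a common affine neighbourhood -/
lemma exists_nbhd_common (m : ℕ) (v : Fin m → A ξ) :
    ∃ (N : Nbhd ξ) (c : Fin m → N.C), ∀ i, N.germ.hom (c i) = v i := by
  obtain ⟨U, x, w, hw⟩ := exists_common ξ m v
  obtain ⟨N, r, hr⟩ := exists_nbhd U x
  refine ⟨N, fun i => r.hom (w i), fun i => ?_⟩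
  rw [← hw i, ← hr]
  rfl

variable (ξ) in
lemma exists_nbhd_germ (a : A ξ) : ∃ (N : Nbhd ξ) (c : N.C), N.germ.hom c = a := by
  obtain ⟨N, c, hc⟩ := exists_nbhd_common ξ 1 (fun _ => a)
  exact ⟨N, c 0, hc 0⟩

lemma etale_specMap_algebraMap (B : CommRingCat.{u}) (C' : Type u) [CommRing C'] [Algebra B C']
    [Algebra.Etale B C'] : Etale (Spec.map (CommRingCat.ofHom (algebraMap B C'))) :=
  (HasRingHomProperty.Spec_iff (P := @Etale)).mpr (RingHom.etale_algebraMap.mpr inferInstance)

/-- refinement of an affine pointed neighbourhood along an étale algebra -/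
noncomputable abbrev Nbhd.refineAlg (N : Nbhd ξ) (C' : Type u) [CommRing C'] [Algebra N.C C']
    [Algebra.Etale N.C C'] (y' : C' →+* Ω) (hy' : ∀ c, y' (algebraMap N.C C' c) = N.y.hom c) :
    Nbhd ξ :=
  haveI := etale_specMap_algebraMap N.C C'
  N.refine (CommRingCat.ofHom (algebraMap N.C C')) (CommRingCat.ofHom y') (by ext c; exact hy' c)

lemma Nbhd.refineAlg_germ (N : Nbhd ξ) (C' : Type u) [CommRing C'] [Algebra N.C C']
    [Algebra.Etale N.C C'] (y' : C' →+* Ω) (hy' : ∀ c, y' (algebraMap N.C C' c) = N.y.hom c)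
    (c : N.C) : (N.refineAlg C' y' hy').germ.hom (algebraMap N.C C' c) = N.germ.hom c :=
  haveI := etale_specMap_algebraMap N.C C'
  N.refine_germ_apply (CommRingCat.ofHom (algebraMap N.C C')) (CommRingCat.ofHom y')
    (by ext c; exact hy' c) c

/-- a germ not vanishing at the geometric point is a unit -/
lemma Nbhd.isUnit_germ (N : Nbhd ξ) (c : N.C) (hc : N.y.hom c ≠ 0) : IsUnit (N.germ.hom c) := by
  have hu : IsUnit (N.y.hom c) := IsUnit.mk0 _ hc
  let y' : Localization.Away c →+* Ω := IsLocalization.Away.lift c hu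
  have hy' : ∀ d, y' (algebraMap N.C (Localization.Away c) d) = N.y.hom d :=
    fun d => IsLocalization.Away.lift_eq c hu d
  haveI : Algebra.Etale N.C (Localization.Away c) := Algebra.Etale.of_isLocalizationAway c
  rw [← N.refineAlg_germ (Localization.Away c) y' hy' c]
  exact (IsLocalization.Away.algebraMap_isUnit c).map _

variable (ξ) in
lemma isUnit_iff (a : A ξ) : IsUnit a ↔ (ev ξ).hom a ≠ 0 := by
  constructor
  · intro h
    exact (h.map (ev ξ).hom).ne_zero
  · intro h
    obtain ⟨N, c, rfl⟩ := exists_nbhd_germ ξ a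
    rw [N.ev_germ_apply] at h
    exact N.isUnit_germ c h

instance : Nontrivial (A ξ) := (ev ξ).hom.domain_nontrivial

instance isLocalRing : IsLocalRing (A ξ) := by
  refine IsLocalRing.of_nonunits_add (fun a b ha hb => ?_)
  rw [mem_nonunits_iff, isUnit_iff, not_not] at ha hb ⊢
  rw [map_add, ha, hb, add_zero]

lemma mem_maximalIdeal_iff (a : A ξ) : a ∈ IsLocalRing.maximalIdeal (A ξ) ↔ (ev ξ).hom a = 0 := by
  rw [IsLocalRing.mem_maximalIdeal, mem_nonunits_iff, isUnit_iff, not_not]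

open Polynomial in
/-- **Key construction**: a simple root in `Ω` of a monic polynomial defined on an affine étale neighbourhood
lifts to a root in the étale local ring. -/
lemma Nbhd.exists_root (N : Nbhd ξ) (F : Polynomial N.C) (hF : F.Monic) (α : Ω)
    (h0 : F.eval₂ N.y.hom α = 0) (h1 : F.derivative.eval₂ N.y.hom α ≠ 0) :
    ∃ a : A ξ, (F.map N.germ.hom).IsRoot a ∧ (ev ξ).hom a = α := by
  letI : Algebra N.C Ω := N.y.hom.toAlgebra
  let P : StandardEtalePair N.C := ⟨F, hF, derivative F, ⟨1, 0, 1, by simp⟩⟩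
  have hmap : P.HasMap α := by
    refine ⟨?_, ?_⟩
    · change aeval α F = 0
      rw [aeval_def]
      exact h0
    · change IsUnit (aeval α (derivative F))
      rw [aeval_def]
      exact IsUnit.mk0 _ h1
  let y' : P.Ring →+* Ω := (P.lift α hmap).toRingHom
  have hy' : ∀ c, y' (algebraMap N.C P.Ring c) = N.y.hom c := fun c => (P.lift α hmap).commutes c
  let N' := N.refineAlg P.Ring y' hy'
  refine ⟨N'.germ.hom P.X, ?_, ?_⟩
  · have hg : N.germ.hom = N'.germ.hom.comp (algebraMap N.C P.Ring) := by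
      ext c
      exact (N.refineAlg_germ P.Ring y' hy' c).symm
    have h0' : aeval P.X F = 0 := (StandardEtalePair.hasMap_X (P := P)).1
    rw [IsRoot.def, hg, ← Polynomial.map_map, Polynomial.eval_map, Polynomial.eval₂_hom,
      Polynomial.eval_map, ← aeval_def, h0', map_zero]
  · rw [N'.ev_germ_apply]
    exact P.lift_X α hmap

variable (ξ) in
/-- a monic polynomial over the étale local ring, together with an element, comes from a common affine
pointed étale neighbourhood -/
lemma exists_nbhd_poly (f : Polynomial (A ξ)) (hf : f.Monic) (a₀ : A ξ) :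
    ∃ (N : Nbhd ξ) (F : Polynomial N.C) (b₀ : N.C),
      F.Monic ∧ F.map N.germ.hom = f ∧ N.germ.hom b₀ = a₀ := by
  obtain ⟨N, c, hc⟩ := exists_nbhd_common ξ (f.natDegree + 1 + 1)
    (Fin.lastCases a₀ (fun i : Fin (f.natDegree + 1) => f.coeff i))
  have hl : f ∈ Polynomial.lifts N.germ.hom := by
    rw [Polynomial.lifts_iff_coeff_lifts]
    intro k
    by_cases hk : k < f.natDegree + 1
    · refine ⟨c (Fin.castSucc ⟨k, hk⟩), ?_⟩
      rw [hc, Fin.lastCases_castSucc]
    · refine ⟨0, ?_⟩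
      rw [map_zero, Polynomial.coeff_eq_zero_of_natDegree_lt (by omega)]
  obtain ⟨F, hFmap, -, hFmonic⟩ := Polynomial.lifts_and_degree_eq_and_monic hl hf
  refine ⟨N, F, c (Fin.last _), hFmonic, hFmap, ?_⟩
  rw [hc, Fin.lastCases_last]

lemma Nbhd.ev_eval_map (N : Nbhd ξ) (F : Polynomial N.C) (a : A ξ) :
    (ev ξ).hom ((F.map N.germ.hom).eval a) = F.eval₂ N.y.hom ((ev ξ).hom a) := by
  have h : (ev ξ).hom.comp N.germ.hom = N.y.hom := by
    ext c
    exact N.ev_germ_apply c
  rw [Polynomial.eval_map, Polynomial.hom_eval₂, h]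

/-- the étale local ring is henselian -/
instance henselianLocalRing : HenselianLocalRing (A ξ) where
  is_henselian f hf a₀ h0 h1 := by
    obtain ⟨N, F, b₀, hFm, hFmap, hb₀⟩ := exists_nbhd_poly ξ f hf a₀
    rw [mem_maximalIdeal_iff, ← hFmap, N.ev_eval_map] at h0
    have h1' : (ev ξ).hom (f.derivative.eval a₀) ≠ 0 := (h1.map (ev ξ).hom).ne_zero
    rw [← hFmap, Polynomial.derivative_map, N.ev_eval_map] at h1'
    obtain ⟨a, ha, hα⟩ := N.exists_root F hFm _ h0 h1'
    refine ⟨a, hFmap ▸ ha, ?_⟩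
    rw [mem_maximalIdeal_iff, map_sub, hα, sub_self]

instance isLocalHom_ev : IsLocalHom (ev ξ).hom where
  map_nonunit a ha := (isUnit_iff ξ a).mpr ha.ne_zero

variable (ξ) in
/-- the embedding of the residue field of the étale local ring into `Ω` -/
noncomputable def resEmb : IsLocalRing.ResidueField (A ξ) →+* Ω :=
  IsLocalRing.ResidueField.lift (ev ξ).hom

lemma resEmb_comp : (resEmb ξ).comp (IsLocalRing.residue (A ξ)) = (ev ξ).hom :=
  IsLocalRing.ResidueField.lift_comp_residue _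

/-- the residue field of the étale local ring is separably closed -/
instance isSepClosed_residueField : IsSepClosed (IsLocalRing.ResidueField (A ξ)) := by
  refine IsSepClosed.of_exists_root _ (fun p hp hirr hsep => ?_)
  have hl : p ∈ Polynomial.lifts (IsLocalRing.residue (A ξ)) :=
    (Polynomial.mem_lifts p).2 (Polynomial.map_surjective _ IsLocalRing.residue_surjective p)
  obtain ⟨f, hfmap, -, hfm⟩ := Polynomial.lifts_and_degree_eq_and_monic hl hp
  obtain ⟨N, F, -, hFm, hFmap, -⟩ := exists_nbhd_poly ξ f hfm 0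
  have hcomp : (ev ξ).hom.comp N.germ.hom = N.y.hom := by
    ext c
    exact N.ev_germ_apply c
  have hpF : p.map (resEmb ξ) = F.map N.y.hom := by
    rw [← hfmap, Polynomial.map_map, resEmb_comp, ← hFmap, Polynomial.map_map, hcomp]
  have hsep' : (F.map N.y.hom).Separable := hpF ▸ hsep.map
  have hdeg : (F.map N.y.hom).degree ≠ 0 := by
    rw [← hpF, Polynomial.degree_map]
    exact (Polynomial.degree_pos_of_irreducible hirr).ne'
  obtain ⟨α, hα⟩ := IsSepClosed.exists_root _ hdeg hsep'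
  have h0 : F.eval₂ N.y.hom α = 0 := by
    rw [← Polynomial.eval_map]
    exact hα
  have h1 : F.derivative.eval₂ N.y.hom α ≠ 0 := by
    have := hsep'.eval₂_derivative_ne_zero (RingHom.id Ω) (x := α)
      (by rw [Polynomial.eval₂_id]; exact hα)
    rwa [Polynomial.eval₂_id, Polynomial.derivative_map, Polynomial.eval_map] at this
  obtain ⟨a, ha, -⟩ := N.exists_root F hFm α h0 h1
  refine ⟨IsLocalRing.residue (A ξ) a, ?_⟩
  rw [← hfmap, Polynomial.eval_map, Polynomial.eval₂_at_apply, ← hFmap]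
  rw [Polynomial.IsRoot.def] at ha
  rw [ha, map_zero]

variable (ξ) in
/-- **The étale local ring at a geometric point is strictly henselian.** -/
theorem isStrictlyHenselian : EtCoh.IsStrictlyHenselianLocalRing (EtBase.etaleLocalRing ξ) :=
  ⟨henselianLocalRing, isSepClosed_residueField⟩

end Groth.Agent.Lib.Seat1.ShLocal
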