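import Mathlib
import Groth.Prelude.Def_EtBaseX
import Groth.Agent.Lib.Seat1ShLocal
import Groth.Agent.Lib.Helper18ColimSys

/-!
# The étale local ring at a geometric point of an affine scheme as a directed system of étale algebras (seat 1)
-/

set_option autoImplicit false
set_option linter.style.haveILetI false
set_option linter.unusedSectionVars false
universe u
open CategoryTheory CategoryTheory.Limits AlgebraicGeometry Opposite

namespace Groth.Agent.Lib.Seat1.ShSys

open Groth.Agent.Lib.Seat1.ShLocal Groth.Agent.Lib.Helper18ColimSys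

section General

variable {X : Scheme.{u}} {Ω : Type u} [Field Ω] [IsSepClosed Ω]
  {ξ : Spec (CommRingCat.of Ω) ⟶ X}

/-- morphisms of affine pointed étale neighbourhoods are compatible with germs -/
lemma germ_of_hom (N N' : Nbhd ξ) (h : N.C ⟶ N'.C) (hq : Spec.map h ≫ N.q = N'.q)
    (hy : h ≫ N'.y = N.y) : h ≫ N'.germ = N.germ := by
  let g : N'.obj ⟶ N.obj := MorphismProperty.Over.homMk (Spec.map h) hq
  have hg : (Φ ξ).fiber.map g N'.pt = N.pt := by
    apply Over.OverMorphism.ext
    change Spec.map N'.y ≫ Spec.map h = Spec.map N.y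
    rw [← Spec.map_comp, hy]
  have h1 : (Spec.map h).appTop ≫ N'.toA = N.toA := by
    have := toFiber_w g N'.pt
    rw [hg] at this
    exact this
  unfold Nbhd.germ
  rw [Scheme.ΓSpecIso_inv_naturality_assoc, h1]

/-- a germ vanishes iff it vanishes on a smaller affine pointed étale neighbourhood -/
lemma exists_hom_of_germ_eq_zero (N : Nbhd ξ) (c : N.C) (hc : N.germ.hom c = 0) :
    ∃ (N' : Nbhd ξ) (h : N.C ⟶ N'.C), Spec.map h ≫ N.q = N'.q ∧ h ≫ N'.y = N.y ∧ h.hom c = 0 := by
  let z : Γ(Spec N.C, ⊤) := (Scheme.ΓSpecIso N.C).inv.hom c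
  have hz : N.toA.hom z = N.toA.hom (0 : Γ(Spec N.C, ⊤)) := by
    rw [map_zero]
    exact hc
  obtain ⟨Y', f, y', hfy, hzz⟩ :=
    ((Φ ξ).toPresheafFiber_eq_iff' (P := EtBase.OO X) N.obj N.pt z (0 : Γ(Spec N.C, ⊤))).1 hz
  let fl : Y'.left ⟶ Spec N.C := f.left
  have hfl : fl ≫ N.q = Y'.hom := Over.w f.hom
  have hzz' : fl.appTop.hom z = 0 := by
    have : fl.appTop.hom z = fl.appTop.hom (0 : Γ(Spec N.C, ⊤)) := hzz
    rw [this, map_zero]
  obtain ⟨C', j, hj, hx, -⟩ := Scheme.exists_affine_mem_range_and_range_subset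
    (x := ptOf y' (default : Spec (CommRingCat.of Ω))) (U := ⊤) (by simp)
  have hrange : Set.range (ptOf y') ⊆ Set.range j := by
    rintro _ ⟨a, rfl⟩
    rwa [Subsingleton.elim a default]
  let p₀ : Spec (CommRingCat.of Ω) ⟶ Spec C' := IsOpenImmersion.lift j (ptOf y') hrange
  have hp₀ : p₀ ≫ j = ptOf y' := IsOpenImmersion.lift_fac j (ptOf y') hrange
  have hx' : ptOf y' ≫ Y'.hom = ξ :=
    Over.w (show Over.mk ξ ⟶ (Scheme.Etale.forget X).obj Y' from y')
  let N' : Nbhd ξ := ⟨C', j ≫ Y'.hom, inferInstance, Spec.preimage p₀, by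
    rw [Spec.map_preimage, ← Category.assoc, hp₀, hx']⟩
  let h : N.C ⟶ C' := Spec.preimage (j ≫ fl)
  have hh : Spec.map h = j ≫ fl := Spec.map_preimage _
  refine ⟨N', h, ?_, ?_, ?_⟩
  · rw [hh, Category.assoc, hfl]
  · apply Spec.map_injective
    rw [Spec.map_comp, hh]
    change Spec.map (Spec.preimage p₀) ≫ j ≫ fl = _
    rw [Spec.map_preimage, ← Category.assoc, hp₀]
    have : ptOf y' ≫ fl = ptOf ((Φ ξ).fiber.map f y') := rfl
    rw [this, hfy]
    rfl
  · have e1 : h = (Scheme.ΓSpecIso N.C).inv ≫ (Spec.map h).appTop ≫ (Scheme.ΓSpecIso C').hom := by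
      rw [← Category.assoc, ← Scheme.ΓSpecIso_inv_naturality, Category.assoc, Iso.inv_hom_id,
        Category.comp_id]
    rw [e1, hh, Scheme.Hom.comp_appTop]
    change (Scheme.ΓSpecIso C').hom.hom (j.appTop.hom (fl.appTop.hom z)) = 0
    rw [hzz', map_zero, map_zero]

end General

section Sys

variable (R : Type u) [CommRing R] (Ω : Type u) [Field Ω] [IsSepClosed Ω] [Algebra R Ω]

/-- the geometric point of `Spec R` given by an algebra structure on a separably closed field -/
noncomputable def η : Spec (CommRingCat.of Ω) ⟶ Spec (CommRingCat.of R) :=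
  Spec.map (CommRingCat.ofHom (algebraMap R Ω))

/-- the étale local ring at this geometric point -/
noncomputable def O : Type u := A (η R Ω)

noncomputable instance : CommRing (O R Ω) := inferInstanceAs (CommRing (A (η R Ω)))
instance : HenselianLocalRing (O R Ω) := inferInstanceAs (HenselianLocalRing (A (η R Ω)))
instance : IsSepClosed (IsLocalRing.ResidueField (O R Ω)) :=
  inferInstanceAs (IsSepClosed (IsLocalRing.ResidueField (A (η R Ω))))

/-- the trivial neighbourhood -/
noncomputable def N₀ : Nbhd (η R Ω) :=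
  ⟨CommRingCat.of R, 𝟙 _, inferInstance, CommRingCat.ofHom (algebraMap R Ω), Category.comp_id _⟩

noncomputable instance algO : Algebra R (O R Ω) := (N₀ R Ω).germ.hom.toAlgebra

lemma algebraMap_O (r : R) : algebraMap R (O R Ω) r = (N₀ R Ω).germ.hom r := rfl

/-- evaluation at the geometric point, as an algebra map -/
noncomputable def evₐ : O R Ω →ₐ[R] Ω :=
  { (ev (η R Ω)).hom with
    commutes' := fun r => (N₀ R Ω).ev_germ_apply r }

section OfAlg

variable (C : Type u) [CommRing C] [Algebra R C] [Algebra.Etale R C] (y : C →ₐ[R] Ω)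

/-- the affine pointed étale neighbourhood of an étale algebra with a point -/
noncomputable abbrev nbOf : Nbhd (η R Ω) where
  C := CommRingCat.of C
  q := Spec.map (CommRingCat.ofHom (algebraMap R C))
  et := etale_specMap_algebraMap (CommRingCat.of R) C
  y := CommRingCat.ofHom y.toRingHom
  hy := by
    rw [← Spec.map_comp]
    unfold η
    congr 1
    ext r
    exact y.commutes r

/-- the germ map of an étale algebra with a point, as an algebra map -/
noncomputable def germOf : C →ₐ[R] O R Ω :=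
  { (nbOf R Ω C y).germ.hom with
    commutes' := fun r => by
      have h := germ_of_hom (N₀ R Ω) (nbOf R Ω C y) (CommRingCat.ofHom (algebraMap R C))
        (Category.comp_id _) (by
          ext r
          exact y.commutes r)
      change (nbOf R Ω C y).germ.hom (algebraMap R C r) = (N₀ R Ω).germ.hom r
      rw [← h]
      rfl }

lemma germOf_apply (c : C) : germOf R Ω C y c = (nbOf R Ω C y).germ.hom c := rfl

lemma evₐ_germOf (c : C) : evₐ R Ω (germOf R Ω C y c) = y c :=
  (nbOf R Ω C y).ev_germ_apply c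

variable {C} in
/-- functoriality of the germ maps -/
lemma germOf_comp {C' : Type u} [CommRing C'] [Algebra R C'] [Algebra.Etale R C']
    (y' : C' →ₐ[R] Ω) (φ : C →ₐ[R] C') (hφ : y'.comp φ = y) :
    (germOf R Ω C' y').comp φ = germOf R Ω C y := by
  have h := germ_of_hom (nbOf R Ω C y) (nbOf R Ω C' y') (CommRingCat.ofHom φ.toRingHom)
    (by
      change Spec.map (CommRingCat.ofHom φ.toRingHom) ≫
        Spec.map (CommRingCat.ofHom (algebraMap R C)) = Spec.map (CommRingCat.ofHom (algebraMap R C'))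
      rw [← Spec.map_comp]
      congr 1
      ext r
      exact φ.commutes r)
    (by
      ext c
      exact congrArg (fun ψ : C →ₐ[R] Ω => ψ c) hφ)
  apply AlgHom.ext
  intro c
  exact congrArg (fun ψ : (nbOf R Ω C y).C ⟶ A (η R Ω) => ψ.hom c) h

end OfAlg

/-- Index: a presented étale algebra with a point. -/
structure Idx where
  /-- number of variables -/
  n : ℕ
  /-- ideal of relations -/
  J : Ideal (MvPolynomial (Fin n) R)
  etale : Algebra.Etale R (MvPolynomial (Fin n) R ⧸ J)
  /-- the point -/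
  y : (MvPolynomial (Fin n) R ⧸ J) →ₐ[R] Ω

namespace Idx

variable {R Ω}

/-- the étale algebra of an index -/
def C (i : Idx R Ω) : Type u := MvPolynomial (Fin i.n) R ⧸ i.J

noncomputable instance (i : Idx R Ω) : CommRing i.C :=
  inferInstanceAs (CommRing (MvPolynomial (Fin i.n) R ⧸ i.J))
noncomputable instance (i : Idx R Ω) : Algebra R i.C :=
  inferInstanceAs (Algebra R (MvPolynomial (Fin i.n) R ⧸ i.J))
instance (i : Idx R Ω) : Algebra.Etale R i.C := i.etale

/-- the point of an index -/
def pt (i : Idx R Ω) : i.C →ₐ[R] Ω := i.y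

end Idx

/-- the germ maps of the system -/
noncomputable def germ (i : Idx R Ω) : i.C →ₐ[R] O R Ω := germOf R Ω i.C i.pt

/-- Every étale algebra with a point is isomorphic to an indexed one. -/
theorem exists_idx (C : Type u) [CommRing C] [Algebra R C] [Algebra.Etale R C] (y : C →ₐ[R] Ω) :
    ∃ (i : Idx R Ω) (e : C ≃ₐ[R] i.C), i.pt.comp e.toAlgHom = y := by
  haveI : Algebra.FinitePresentation R C := Algebra.Etale.finitePresentation
  obtain ⟨n, f, hf, -⟩ := Algebra.FinitePresentation.out (R := R) (A := C)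
  let e : (MvPolynomial (Fin n) R ⧸ RingHom.ker f.toRingHom) ≃ₐ[R] C :=
    Ideal.quotientKerAlgEquivOfSurjective hf
  refine ⟨⟨n, RingHom.ker f.toRingHom, Algebra.Etale.of_equiv e.symm, y.comp e.toAlgHom⟩, e.symm, ?_⟩
  apply AlgHom.ext
  intro c
  change y (e (e.symm c)) = y c
  rw [e.apply_symm_apply]

/-- algebra data of an arbitrary affine pointed étale neighbourhood -/
lemma exists_alg_of_nbhd (N : Nbhd (η R Ω)) :
    ∃ (_ : Algebra R N.C) (_ : Algebra.Etale R N.C) (y : N.C →ₐ[R] Ω),
      Spec.map (CommRingCat.ofHom (algebraMap R N.C)) = N.q ∧ (∀ c, y c = N.y.hom c) ∧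
        ∀ c, germOf R Ω N.C y c = N.germ.hom c := by
  let a : CommRingCat.of R ⟶ N.C := Spec.preimage N.q
  have ha : Spec.map a = N.q := Spec.map_preimage _
  letI : Algebra R N.C := a.hom.toAlgebra
  haveI : Algebra.Etale R N.C := by
    have h1 : Etale (Spec.map a) := by rw [ha]; infer_instance
    have h2 : a.hom.Etale := (HasRingHomProperty.Spec_iff (P := @Etale)).mp h1
    rwa [← a.hom.algebraMap_toAlgebra, RingHom.etale_algebraMap] at h2
  have hay : a ≫ N.y = CommRingCat.ofHom (algebraMap R Ω) := by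
    apply Spec.map_injective
    rw [Spec.map_comp, ha, N.hy]
    rfl
  let y : N.C →ₐ[R] Ω :=
    { N.y.hom with
      commutes' := fun r => congrArg (fun ψ : CommRingCat.of R ⟶ CommRingCat.of Ω => ψ.hom r) hay }
  refine ⟨inferInstance, inferInstance, y, ha, fun c => rfl, fun c => ?_⟩
  have h := germ_of_hom N (nbOf R Ω N.C y) (CommRingCat.ofHom (RingHom.id N.C)) (by
    change Spec.map (𝟙 N.C) ≫ N.q = Spec.map (CommRingCat.ofHom (algebraMap R N.C))
    rw [Spec.map_id, Category.id_comp]
    exact ha.symm) (by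
    ext c
    rfl)
  rw [germOf_apply]
  exact congrArg (fun ψ : N.C ⟶ A (η R Ω) => ψ.hom c) h

open Groth.Agent.Lib.Helper18ColimSys in
/-- **The étale local ring is the colimit of the system of presented étale algebras with a point.** -/
theorem sys : Sys R (fun i : Idx R Ω => i.C) (O R Ω) (germ R Ω) where
  nonempty := by
    obtain ⟨i, -, -⟩ := exists_idx R Ω R (Algebra.ofId R Ω)
    exact ⟨i⟩
  surj a := by
    obtain ⟨N, c, hc⟩ := exists_nbhd_germ (η R Ω) a
    obtain ⟨_, _, y, -, -, h3⟩ := exists_alg_of_nbhd R Ω N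
    obtain ⟨i, e, he⟩ := exists_idx R Ω N.C y
    refine ⟨i, e c, ?_⟩
    have h := germOf_comp R Ω y i.pt e.toAlgHom he
    have : germ R Ω i (e c) = germOf R Ω N.C y c := congrArg (fun ψ : N.C →ₐ[R] O R Ω => ψ c) h
    rw [this, h3, hc]
  dir i j := by
    let y : TensorProduct R i.C j.C →ₐ[R] Ω := Algebra.TensorProduct.productMap i.pt j.pt
    haveI : Algebra.Etale R (TensorProduct R i.C j.C) := Algebra.Etale.comp R i.C _
    obtain ⟨l, e, he⟩ := exists_idx R Ω (TensorProduct R i.C j.C) y
    refine ⟨l, e.toAlgHom.comp Algebra.TensorProduct.includeLeft,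
      e.toAlgHom.comp Algebra.TensorProduct.includeRight, ?_, ?_⟩
    · have h1 := germOf_comp R Ω y l.pt e.toAlgHom he
      have h2 := germOf_comp R Ω i.pt y Algebra.TensorProduct.includeLeft
        (Algebra.TensorProduct.productMap_left _ _)
      change (germOf R Ω l.C l.pt).comp (e.toAlgHom.comp _) = germOf R Ω i.C i.pt
      rw [← AlgHom.comp_assoc, h1, h2]
    · have h1 := germOf_comp R Ω y l.pt e.toAlgHom he
      have h2 := germOf_comp R Ω j.pt y Algebra.TensorProduct.includeRight
        (Algebra.TensorProduct.productMap_right _ _)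
      change (germOf R Ω l.C l.pt).comp (e.toAlgHom.comp _) = germOf R Ω j.C j.pt
      rw [← AlgHom.comp_assoc, h1, h2]
  ker i x hx := by
    obtain ⟨N', h, hq, hy, hx0⟩ := exists_hom_of_germ_eq_zero (nbOf R Ω i.C i.pt) x hx
    obtain ⟨_, _, y', h1, h2, h3⟩ := exists_alg_of_nbhd R Ω N'
    have hcomm : CommRingCat.ofHom (algebraMap R i.C) ≫ h = CommRingCat.ofHom (algebraMap R N'.C) := by
      apply Spec.map_injective
      rw [Spec.map_comp, h1]
      exact hq
    let φ : i.C →ₐ[R] N'.C :=
      { h.hom with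
        commutes' := fun r =>
          congrArg (fun ψ : CommRingCat.of R ⟶ N'.C => ψ.hom r) hcomm }
    have hφ : y'.comp φ = i.pt := by
      apply AlgHom.ext
      intro c
      change y' (h.hom c) = i.pt c
      rw [h2]
      exact congrArg (fun ψ : (nbOf R Ω i.C i.pt).C ⟶ CommRingCat.of Ω => ψ.hom c) hy
    obtain ⟨j, e, he⟩ := exists_idx R Ω N'.C y'
    refine ⟨j, e.toAlgHom.comp φ, ?_, ?_⟩
    · have g1 := germOf_comp R Ω y' j.pt e.toAlgHom he
      have g2 := germOf_comp R Ω i.pt y' φ hφ
      change (germOf R Ω j.C j.pt).comp (e.toAlgHom.comp φ) = germOf R Ω i.C i.pt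
      rw [← AlgHom.comp_assoc, g1, g2]
    · change e (h.hom x) = 0
      rw [hx0, map_zero]

end Sys

end Groth.Agent.Lib.Seat1.ShSys
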