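import Mathlib
import Groth.Agent.Lib.Seat1ShSys
import Groth.Agent.Lib.Seat1FinHensel

/-!
# Finite algebras split over the étale local ring, and the splitting spreads out (seat 1, algebra part)
-/

set_option autoImplicit false
set_option linter.style.haveILetI false
set_option linter.unusedSectionVars false
universe u
open CategoryTheory CategoryTheory.Limits AlgebraicGeometry Opposite IsLocalRing TensorProduct

namespace Groth.Agent.Lib.Seat1.FinSplitAlg

open Groth.Agent.Lib.Seat1.ShSys Groth.Agent.Lib.Helper18ColimSys Groth.Agent.Lib.Seat1.FinHensel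

/-- a finite algebra over a strictly henselian local ring is a finite product of strictly henselian local rings -/
theorem exists_pi_strictlyHenselian (O : Type u) [CommRing O] [HenselianLocalRing O]
    [IsSepClosed (ResidueField O)] (B : Type u) [CommRing B] [Algebra O B] [Module.Finite O B] :
    ∃ (κ : Type u) (_ : Fintype κ) (Bk : κ → Type u) (_ : ∀ k, CommRing (Bk k))
      (_ : ∀ k, HenselianLocalRing (Bk k)) (_ : ∀ k, IsSepClosed (ResidueField (Bk k))),
      Nonempty (B ≃+* Π k, Bk k) := by
  obtain ⟨ι, _, A, _, hloc, ⟨e⟩⟩ := Groth.Agent.Lib.Helper3.Hensel.exists_pi_isLocalRing_of_finite O B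
  let π : ∀ i, B →+* A i := fun i => (Pi.evalRingHom A i).comp e.toRingHom
  have hπ : ∀ i, Function.Surjective (π i) := fun i =>
    (Function.surjective_eval i).comp e.surjective
  letI : ∀ i, Algebra O (A i) := fun i => ((π i).comp (algebraMap O B)).toAlgebra
  haveI : ∀ i, Module.Finite O (A i) := fun i => by
    let l : B →ₗ[O] A i :=
      { toFun := π i
        map_add' := map_add _
        map_smul' := fun r b => by
          rw [Algebra.smul_def, map_mul, RingHom.id_apply, Algebra.smul_def]
          rfl }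
    exact Module.Finite.of_surjective l (hπ i)
  haveI : ∀ i, IsLocalRing (A i) := hloc
  haveI h1 : ∀ i, HenselianLocalRing (A i) := fun i => Groth.Agent.S0505.result O (A i)
  haveI h2 : ∀ i, IsSepClosed (ResidueField (A i)) := fun i =>
    isSepClosed_residueField_of_finite O (A i)
  exact ⟨ι, inferInstance, A, inferInstance, h1, h2, ⟨e⟩⟩

section Spread

variable (R : Type u) [CommRing R] (Ω : Type u) [Field Ω] [IsSepClosed Ω] [Algebra R Ω]
  (S : Type u) [CommRing S] [Algebra R S]

/-- the base-changed system -/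
theorem sysS : Sys S (fun i : Idx R Ω => S ⊗[R] i.C) (S ⊗[R] O R Ω)
    (fun i => Algebra.TensorProduct.map (AlgHom.id S S) (germ R Ω i)) :=
  (sys R Ω).baseChange S

/-- **Spreading out**: a family of maps from finitely presented `S`-algebras to the factors of `S ⊗ O` comes from
an algebra map to `S ⊗ C` for an étale neighbourhood `C`. -/
theorem exists_algHom_spread {κ : Type u} [Finite κ] (Bk : κ → Type u) [∀ k, CommRing (Bk k)]
    (e : (S ⊗[R] O R Ω) ≃+* Π k, Bk k)
    (C : κ → Type u) [∀ k, CommRing (C k)] [∀ k, Algebra S (C k)]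
    [∀ k, Algebra.FinitePresentation S (C k)] (τ : ∀ k, C k →+* Bk k)
    (hτ : ∀ k s, τ k (algebraMap S (C k) s) = e (s ⊗ₜ 1) k) :
    ∃ (i : Idx R Ω) (ρ : (Π k, C k) →ₐ[S] S ⊗[R] i.C),
      ∀ c k, e (Algebra.TensorProduct.map (AlgHom.id S S) (germ R Ω i) (ρ c)) k = τ k (c k) := by
  let σ : (Π k, C k) →ₐ[S] S ⊗[R] O R Ω :=
    { e.symm.toRingHom.comp (RingHom.pi (fun k => (τ k).comp (Pi.evalRingHom C k))) with
      commutes' := fun s => by
        change e.symm (fun k => τ k (algebraMap S (C k) s)) = s ⊗ₜ 1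
        rw [RingEquiv.symm_apply_eq]
        funext k
        exact hτ k s }
  obtain ⟨i, ρ, hρ⟩ := (sysS R Ω S).lift_algHom (Π k, C k) σ
  refine ⟨i, ρ, fun c k => ?_⟩
  have h1 : Algebra.TensorProduct.map (AlgHom.id S S) (germ R Ω i) (ρ c) = σ c :=
    congrArg (fun ψ : (Π k, C k) →ₐ[S] S ⊗[R] O R Ω => ψ c) hρ
  rw [h1]
  change e (e.symm (fun k => τ k (c k))) k = τ k (c k)
  rw [e.apply_symm_apply]

end Spread

end Groth.Agent.Lib.Seat1.FinSplitAlg
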