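import Mathlib
import Groth.Agent.Lib.Helper3HenselC
import Groth.Agent.Lib.Helper3HenselInt
import Groth.Agent.Lib.Helper18ColimSys

/-!
# Integral algebras over henselian local rings (seat 1)

For `B` integral over a henselian local ring `O` and a maximal ideal `𝔪` of `B`:
* every `t ∉ 𝔪` becomes invertible on the clopen piece cut out by an idempotent `e ∉ 𝔪`;
* `B → B_𝔪` is surjective, `B_𝔪` is henselian (strictly henselian if `O` is);
* `B_𝔪` is the colimit of the `B ⧸ (1 - e)`, `e ∉ 𝔪` idempotent;
* a family of maps from finitely presented algebras to the `B_𝔪` comes from a map `Π C_i → B` over finitely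
  many maximal ideals.
-/

set_option autoImplicit false
set_option linter.style.haveILetI false
set_option linter.unusedSectionVars false
universe u
open IsLocalRing

namespace Groth.Agent.Lib.Seat1.IntHensel

open Groth.Agent.Lib.Helper18ColimSys

section Pi

/-- in a finite product of local rings, an element outside a maximal ideal is invertible on a factor outside it -/
theorem exists_idem_pi {ι : Type*} [Fintype ι] [DecidableEq ι] (A : ι → Type*) [∀ i, CommRing (A i)]
    [∀ i, IsLocalRing (A i)] (𝔫 : Ideal (Π i, A i)) [h𝔫 : 𝔫.IsMaximal] (t : Π i, A i) (ht : t ∉ 𝔫) :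
    ∃ e c : Π i, A i, IsIdempotentElem e ∧ e ∉ 𝔫 ∧ t * c * e = e := by
  have h1 : ∃ i, (Pi.single i 1 : Π i, A i) ∉ 𝔫 := by
    by_contra hcon
    push Not at hcon
    have : (1 : Π i, A i) ∈ 𝔫 := by
      rw [← Finset.univ_sum_single (1 : Π i, A i)]
      exact Ideal.sum_mem _ (fun i _ => hcon i)
    exact h𝔫.ne_top ((Ideal.eq_top_iff_one _).2 this)
  obtain ⟨i, hi⟩ := h1
  have hu : IsUnit (t i) := by
    by_contra hnu
    obtain ⟨y, n, hn, hyn⟩ := h𝔫.exists_inv ht
    have h2 : y i * t i + n i = 1 := congrFun hyn i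
    have h3 : y i * t i ∈ maximalIdeal (A i) :=
      Ideal.mul_mem_left _ _ ((mem_maximalIdeal _).2 hnu)
    have h4 : IsUnit (n i) := by
      have : n i = 1 - y i * t i := by rw [← h2]; ring
      rw [this]
      exact isUnit_one_sub_self_of_mem_nonunits _ h3
    obtain ⟨v, hv⟩ := h4
    apply hi
    have : (Pi.single i 1 : Π i, A i) = Pi.single i (↑v⁻¹ : A i) * n := by
      funext j
      by_cases hj : j = i
      · subst hj
        simp [← hv]
      · simp [Pi.single_eq_of_ne hj]
    rw [this]
    exact Ideal.mul_mem_left _ _ hn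
  obtain ⟨v, hv⟩ := hu
  refine ⟨Pi.single i 1, Pi.single i (↑v⁻¹ : A i), ?_, hi, ?_⟩
  · change Pi.single i 1 * Pi.single i 1 = (Pi.single i 1 : Π i, A i)
    rw [← Pi.single_mul, mul_one]
  · funext j
    by_cases hj : j = i
    · subst hj
      simp [← hv]
    · simp [Pi.single_eq_of_ne hj]

end Pi

variable (O : Type u) [CommRing O] [HenselianLocalRing O] (B : Type u) [CommRing B] [Algebra O B]
  [Algebra.IsIntegral O B] (𝔪 : Ideal B) [h𝔪 : 𝔪.IsMaximal]

include O in
/-- **Key lemma**: for `B` integral over a henselian local ring, an element outside a maximal ideal `𝔪` is invertible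
on the clopen neighbourhood of `𝔪` cut out by some idempotent. -/
theorem exists_idem_mul_eq (t : B) (ht : t ∉ 𝔪) :
    ∃ e c : B, IsIdempotentElem e ∧ e ∉ 𝔪 ∧ t * c * e = e := by
  classical
  let B' : Subalgebra O B := Algebra.adjoin O {t}
  haveI : Module.Finite O B' :=
    Algebra.finite_adjoin_of_finite_of_isIntegral (Set.finite_singleton t)
      (fun x _ => Algebra.IsIntegral.isIntegral x)
  obtain ⟨ι, _, A, _, hloc, ⟨Φ⟩⟩ := Groth.Agent.Lib.Helper3.Hensel.exists_pi_isLocalRing_of_finite O B'
  haveI : ∀ i, IsLocalRing (A i) := hloc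
  haveI : Algebra.IsIntegral B' B := Algebra.IsIntegral.tower_top (R := O)
  let 𝔪' : Ideal B' := 𝔪.comap (algebraMap B' B)
  haveI h𝔪' : 𝔪'.IsMaximal := Ideal.isMaximal_comap_of_isIntegral_of_isMaximal 𝔪
  let 𝔫 : Ideal (Π i, A i) := 𝔪'.comap Φ.symm.toRingHom
  haveI h𝔫 : 𝔫.IsMaximal := Ideal.comap_isMaximal_of_surjective _ Φ.symm.surjective
  let t' : B' := ⟨t, Algebra.subset_adjoin (Set.mem_singleton t)⟩
  have ht' : Φ t' ∉ 𝔫 := by
    intro h
    have h2 : Φ.symm (Φ t') ∈ 𝔪' := h
    rw [Φ.symm_apply_apply] at h2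
    exact ht h2
  obtain ⟨e, c, he, hen, hce⟩ := exists_idem_pi A 𝔫 (Φ t') ht'
  refine ⟨(Φ.symm e : B'), (Φ.symm c : B'), ?_, ?_, ?_⟩
  · have : Φ.symm e * Φ.symm e = Φ.symm e := by rw [← map_mul, he.eq]
    change ((Φ.symm e : B') : B) * (Φ.symm e : B') = (Φ.symm e : B')
    rw [← Subalgebra.coe_mul, this]
  · intro h
    exact hen h
  · have : t' * Φ.symm c * Φ.symm e = Φ.symm e := by
      apply Φ.injective
      rw [map_mul, map_mul, Φ.apply_symm_apply, Φ.apply_symm_apply, hce]
    have h2 := congrArg (Subtype.val) this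
    simpa using h2

include O in
/-- the localization map at a maximal ideal is surjective -/
theorem surjective_algebraMap_atPrime :
    Function.Surjective (algebraMap B (Localization.AtPrime 𝔪)) := by
  intro x
  obtain ⟨b, s, rfl⟩ := IsLocalization.exists_mk'_eq 𝔪.primeCompl x
  obtain ⟨e, c, he, hen, hce⟩ := exists_idem_mul_eq O B 𝔪 s.1 s.2
  have hu : IsUnit (algebraMap B (Localization.AtPrime 𝔪) e) :=
    IsLocalization.map_units (Localization.AtPrime 𝔪) (⟨e, hen⟩ : 𝔪.primeCompl)
  have h1 : algebraMap B (Localization.AtPrime 𝔪) e = 1 := by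
    have : algebraMap B (Localization.AtPrime 𝔪) e * algebraMap B (Localization.AtPrime 𝔪) e =
        algebraMap B (Localization.AtPrime 𝔪) e * 1 := by rw [← map_mul, he.eq, mul_one]
    exact hu.mul_left_cancel this
  have h2 : algebraMap B (Localization.AtPrime 𝔪) s.1 * algebraMap B (Localization.AtPrime 𝔪) c = 1 := by
    have := congrArg (algebraMap B (Localization.AtPrime 𝔪)) hce
    rw [map_mul, map_mul, h1, mul_one] at this
    exact this
  refine ⟨b * c, ?_⟩
  rw [eq_comm, IsLocalization.mk'_eq_iff_eq_mul, map_mul, mul_assoc, mul_comm (algebraMap B _ c), h2, mul_one]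

include O in
/-- the localization at a maximal ideal is henselian -/
theorem henselianLocalRing_atPrime : HenselianLocalRing (Localization.AtPrime 𝔪) := by
  let L := Localization.AtPrime 𝔪
  letI : Algebra O L := ((algebraMap B L).comp (algebraMap O B)).toAlgebra
  haveI : Algebra.IsIntegral O L := by
    refine ⟨?_⟩
    have h1 : (algebraMap O B).IsIntegral := fun b => Algebra.IsIntegral.isIntegral b
    have h2 : (algebraMap B L).IsIntegral :=
      RingHom.isIntegral_of_surjective _ (surjective_algebraMap_atPrime O B 𝔪)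
    exact RingHom.IsIntegral.trans _ _ h1 h2
  exact Groth.Agent.Lib.Helper3.HenselInt.henselian_of_isIntegral O L

/-- an integral algebra between local rings is a local homomorphism -/
lemma isLocalHom_of_isIntegral (R C : Type u) [CommRing R] [IsLocalRing R] [CommRing C] [IsLocalRing C]
    [Algebra R C] [Algebra.IsIntegral R C] : IsLocalHom (algebraMap R C) := by
  refine ⟨fun r hr => ?_⟩
  by_contra hnu
  have hm : r ∈ maximalIdeal R := hnu
  have hker : RingHom.ker (algebraMap R C) ≤ maximalIdeal R :=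
    IsLocalRing.le_maximalIdeal ((RingHom.ker_ne_top _))
  obtain ⟨Q, hQ, hQc⟩ := Ideal.exists_ideal_over_maximal_of_isIntegral (S := C) (maximalIdeal R) hker
  have : algebraMap R C r ∈ Q := by
    have : r ∈ Q.comap (algebraMap R C) := by rw [hQc]; exact hm
    exact this
  exact hQ.ne_top (Ideal.eq_top_of_isUnit_mem _ this hr)

/-- a local ring integral over a local ring with separably closed residue field has separably closed residue
field -/
lemma isSepClosed_residueField_of_isIntegral (R C : Type u) [CommRing R] [IsLocalRing R]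
    [IsSepClosed (ResidueField R)] [CommRing C] [IsLocalRing C]
    [Algebra R C] [Algebra.IsIntegral R C] : IsSepClosed (ResidueField C) := by
  haveI := isLocalHom_of_isIntegral R C
  haveI : Algebra.IsIntegral R (ResidueField C) := by
    refine ⟨fun x => ?_⟩
    obtain ⟨c, rfl⟩ := IsLocalRing.residue_surjective x
    have hc : IsIntegral R c := Algebra.IsIntegral.isIntegral c
    exact hc.map (IsScalarTower.toAlgHom R C (ResidueField C))
  haveI : Algebra.IsIntegral (ResidueField R) (ResidueField C) :=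
    Algebra.IsIntegral.tower_top (R := R)
  haveI : Algebra.IsAlgebraic (ResidueField R) (ResidueField C) := inferInstance
  exact Algebra.IsAlgebraic.isSepClosed (F := ResidueField R)

include O in
/-- the localization at a maximal ideal has separably closed residue field -/
theorem isSepClosed_residueField_atPrime [IsSepClosed (ResidueField O)] :
    IsSepClosed (ResidueField (Localization.AtPrime 𝔪)) := by
  let L := Localization.AtPrime 𝔪
  letI : Algebra O L := ((algebraMap B L).comp (algebraMap O B)).toAlgebra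
  haveI : Algebra.IsIntegral O L := by
    refine ⟨?_⟩
    have h1 : (algebraMap O B).IsIntegral := fun b => Algebra.IsIntegral.isIntegral b
    have h2 : (algebraMap B L).IsIntegral :=
      RingHom.isIntegral_of_surjective _ (surjective_algebraMap_atPrime O B 𝔪)
    exact RingHom.IsIntegral.trans _ _ h1 h2
  exact isSepClosed_residueField_of_isIntegral O L

section Sys

variable (K : Type u) [CommRing K] [Algebra K B]

/-- idempotents outside `𝔪` -/
abbrev Idem : Type u := {e : B // IsIdempotentElem e ∧ e ∉ 𝔪}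

/-- the transition/structure map `B ⧸ (1 - e) → B_𝔪` -/
noncomputable def gLoc (e : Idem B 𝔪) :
    (B ⧸ Ideal.span {1 - e.1}) →ₐ[K] Localization.AtPrime 𝔪 :=
  Ideal.Quotient.liftₐ (Ideal.span {1 - e.1}) (IsScalarTower.toAlgHom K B (Localization.AtPrime 𝔪)) (by
    intro a ha
    obtain ⟨c, rfl⟩ := Ideal.mem_span_singleton'.1 ha
    have hu : IsUnit (algebraMap B (Localization.AtPrime 𝔪) e.1) :=
      IsLocalization.map_units (Localization.AtPrime 𝔪) (⟨e.1, e.2.2⟩ : 𝔪.primeCompl)
    have h1 : algebraMap B (Localization.AtPrime 𝔪) e.1 = 1 := by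
      have : algebraMap B (Localization.AtPrime 𝔪) e.1 * algebraMap B (Localization.AtPrime 𝔪) e.1 =
          algebraMap B (Localization.AtPrime 𝔪) e.1 * 1 := by rw [← map_mul, e.2.1.eq, mul_one]
      exact hu.mul_left_cancel this
    change algebraMap B (Localization.AtPrime 𝔪) (c * (1 - e.1)) = 0
    rw [map_mul, map_sub, map_one, h1, sub_self, mul_zero])

lemma gLoc_mk (e : Idem B 𝔪) (b : B) :
    gLoc B 𝔪 K e (Ideal.Quotient.mk _ b) = algebraMap B (Localization.AtPrime 𝔪) b := rfl

lemma span_le_of_mul_eq {B' : Type*} [CommRing B'] {e e' : B'} (he : IsIdempotentElem e) (s : B')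
    (h : e' = e * s) : Ideal.span {1 - e} ≤ Ideal.span {1 - e'} := by
  rw [Ideal.span_singleton_le_span_singleton]
  refine ⟨1 - e, ?_⟩
  have : e * e = e := he.eq
  rw [h]
  symm
  calc (1 - e * s) * (1 - e) = 1 - e - s * (e - e * e) := by ring
    _ = 1 - e := by rw [this, sub_self, mul_zero, sub_zero]

include O in
/-- `B_𝔪` is the colimit of the `B ⧸ (1 - e)` over idempotents `e ∉ 𝔪` -/
theorem sysLoc : Sys K (fun e : Idem B 𝔪 => B ⧸ Ideal.span {1 - e.1}) (Localization.AtPrime 𝔪)
    (gLoc B 𝔪 K) where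
  nonempty := ⟨⟨1, IsIdempotentElem.one, fun h => h𝔪.ne_top ((Ideal.eq_top_iff_one _).2 h)⟩⟩
  surj a := by
    obtain ⟨b, rfl⟩ := surjective_algebraMap_atPrime O B 𝔪 a
    exact ⟨⟨1, IsIdempotentElem.one, fun h => h𝔪.ne_top ((Ideal.eq_top_iff_one _).2 h)⟩,
      Ideal.Quotient.mk _ b, rfl⟩
  dir e₁ e₂ := by
    haveI := h𝔪.isPrime
    refine ⟨⟨e₁.1 * e₂.1, e₁.2.1.mul e₂.2.1, fun h => ?_⟩, ?_⟩
    · rcases Ideal.IsPrime.mem_or_mem inferInstance h with h | h
      · exact e₁.2.2 h
      · exact e₂.2.2 h
    · refine ⟨Ideal.Quotient.factorₐ K (span_le_of_mul_eq e₁.2.1 e₂.1 rfl),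
        Ideal.Quotient.factorₐ K (span_le_of_mul_eq e₂.2.1 e₁.1 (mul_comm _ _)), ?_, ?_⟩
      · apply Ideal.Quotient.algHom_ext
        ext b
        rfl
      · apply Ideal.Quotient.algHom_ext
        ext b
        rfl
  ker e x hx := by
    haveI := h𝔪.isPrime
    obtain ⟨b, rfl⟩ := Ideal.Quotient.mk_surjective x
    rw [gLoc_mk] at hx
    obtain ⟨s, hs⟩ := (IsLocalization.map_eq_zero_iff 𝔪.primeCompl (Localization.AtPrime 𝔪) b).1 hx
    obtain ⟨e', c, he', hen', hce'⟩ := exists_idem_mul_eq O B 𝔪 s.1 s.2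
    refine ⟨⟨e.1 * e', e.2.1.mul he', fun h => ?_⟩, ?_⟩
    · rcases Ideal.IsPrime.mem_or_mem inferInstance h with h | h
      · exact e.2.2 h
      · exact hen' h
    · refine ⟨Ideal.Quotient.factorₐ K (span_le_of_mul_eq e.2.1 e' rfl), ?_, ?_⟩
      · apply Ideal.Quotient.algHom_ext
        ext b
        rfl
      · change Ideal.Quotient.mk _ b = 0
        rw [Ideal.Quotient.eq_zero_iff_mem, Ideal.mem_span_singleton']
        refine ⟨b, ?_⟩
        have h0 : e' * b = 0 := by
          calc e' * b = (s.1 * c * e') * b := by rw [hce']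
            _ = c * e' * (s.1 * b) := by ring
            _ = 0 := by rw [hs, mul_zero]
        calc b * (1 - e.1 * e') = b - e.1 * (e' * b) := by ring
          _ = b := by rw [h0, mul_zero, sub_zero]

end Sys

section Disjointify

variable {B' : Type*} [CommRing B']

/-- disjointification of a sequence of idempotents -/
def dis (e : ℕ → B') (i : ℕ) : B' := e i * ∏ j ∈ Finset.range i, (1 - e j)

lemma sum_dis (e : ℕ → B') (n : ℕ) :
    ∑ i ∈ Finset.range n, dis e i = 1 - ∏ j ∈ Finset.range n, (1 - e j) := by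
  induction n with
  | zero => simp
  | succ n ih =>
    rw [Finset.sum_range_succ, ih, Finset.prod_range_succ, dis]
    ring

lemma isIdempotentElem_dis (e : ℕ → B') (he : ∀ i, IsIdempotentElem (e i)) (i : ℕ) :
    IsIdempotentElem (dis e i) := by
  unfold dis
  refine (he i).mul ?_
  change (∏ j ∈ Finset.range i, (1 - e j)) * (∏ j ∈ Finset.range i, (1 - e j)) =
    ∏ j ∈ Finset.range i, (1 - e j)
  rw [← Finset.prod_mul_distrib]
  exact Finset.prod_congr rfl (fun j _ => (he j).one_sub.eq)

lemma dis_mul_dis (e : ℕ → B') (he : ∀ i, IsIdempotentElem (e i)) {i k : ℕ} (hik : i < k) :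
    dis e i * dis e k = 0 := by
  classical
  unfold dis
  have h1 : ∏ j ∈ Finset.range k, (1 - e j) =
      (1 - e i) * ∏ j ∈ (Finset.range k).erase i, (1 - e j) :=
    (Finset.mul_prod_erase _ _ (Finset.mem_range.2 hik)).symm
  have h0 : e i * (1 - e i) = 0 := by rw [mul_sub, mul_one, (he i).eq, sub_self]
  rw [h1]
  generalize (∏ j ∈ Finset.range i, (1 - e j)) = P
  generalize (∏ j ∈ (Finset.range k).erase i, (1 - e j)) = Q
  calc e i * P * (e k * ((1 - e i) * Q)) = (e i * (1 - e i)) * (P * e k * Q) := by ring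
    _ = 0 := by rw [h0, zero_mul]

/-- finitely many idempotents generating the unit ideal are refined by complete orthogonal idempotents -/
theorem exists_completeOrthogonalIdempotents {n : ℕ} (v : Fin n → B') (hv : ∀ i, IsIdempotentElem (v i))
    (hspan : Ideal.span (Set.range v) = ⊤) :
    ∃ D : Fin n → B', CompleteOrthogonalIdempotents D ∧ ∀ i, ∃ s, D i = v i * s := by
  classical
  let e : ℕ → B' := fun j => if h : j < n then v ⟨j, h⟩ else 0
  have he : ∀ j, IsIdempotentElem (e j) := by
    intro j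
    by_cases h : j < n
    · simp only [e, dif_pos h]; exact hv _
    · simp only [e, dif_neg h]; exact IsIdempotentElem.zero
  have hev : ∀ i : Fin n, e i = v i := fun i => by simp [e, i.2]
  have hprod : ∏ j ∈ Finset.range n, (1 - e j) = 0 := by
    have h1 : (1 : B') ∈ Ideal.span (Set.range v) := by rw [hspan]; trivial
    obtain ⟨c, hc⟩ := (Ideal.mem_span_range_iff_exists_fun).1 h1
    have h2 : ∀ i : Fin n, (∏ j ∈ Finset.range n, (1 - e j)) * v i = 0 := by
      intro i
      rw [← Finset.mul_prod_erase _ _ (Finset.mem_range.2 i.2), hev]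
      have h0 : (1 - v i) * v i = 0 := by rw [sub_mul, one_mul, (hv i).eq, sub_self]
      generalize (∏ j ∈ (Finset.range n).erase ↑i, (1 - e j)) = Q
      calc (1 - v i) * Q * v i = ((1 - v i) * v i) * Q := by ring
        _ = 0 := by rw [h0, zero_mul]
    calc ∏ j ∈ Finset.range n, (1 - e j) = (∏ j ∈ Finset.range n, (1 - e j)) * 1 := (mul_one _).symm
      _ = (∏ j ∈ Finset.range n, (1 - e j)) * ∑ i, c i * v i := by rw [hc]
      _ = ∑ i, c i * ((∏ j ∈ Finset.range n, (1 - e j)) * v i) := by
          rw [Finset.mul_sum]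
          exact Finset.sum_congr rfl (fun i _ => by ring)
      _ = 0 := by simp [h2]
  refine ⟨fun i => dis e i, ⟨⟨fun i => isIdempotentElem_dis e he i, ?_⟩, ?_⟩, fun i => ?_⟩
  · intro i k hik
    have hik' : (i : ℕ) ≠ k := fun h => hik (Fin.ext h)
    rcases lt_or_gt_of_ne hik' with h | h
    · exact dis_mul_dis e he h
    · change dis e i * dis e k = 0
      rw [mul_comm]
      exact dis_mul_dis e he h
  · rw [Fin.sum_univ_eq_sum_range (fun j => dis e j) n, sum_dis, hprod, sub_zero]
  · exact ⟨∏ j ∈ Finset.range i, (1 - e j), by simp only [dis, hev]⟩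

end Disjointify

section Alg

variable (K : Type u) [CommRing K] [Algebra K B]

include O in
/-- **Gluing local lifts**: for `B` integral over a henselian local ring, algebra maps from finitely presented
algebras `C 𝔪` to the localizations `B_𝔪` at all maximal ideals come from an algebra map `Π C (𝔪 i) → B` over finitely
many maximal ideals. -/
theorem exists_algHom_pi (C : MaximalSpectrum B → Type u) [∀ M, CommRing (C M)] [∀ M, Algebra K (C M)]
    [∀ M, Algebra.FinitePresentation K (C M)]
    (τ : ∀ M : MaximalSpectrum B, C M →ₐ[K] Localization.AtPrime M.asIdeal) :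
    ∃ (n : ℕ) (M : Fin n → MaximalSpectrum B), Nonempty ((Π i, C (M i)) →ₐ[K] B) := by
  classical
  have hlift : ∀ M : MaximalSpectrum B, ∃ (e : Idem B M.asIdeal)
      (τ' : C M →ₐ[K] B ⧸ Ideal.span {1 - e.1}), (gLoc B M.asIdeal K e).comp τ' = τ M := fun M =>
    haveI := M.isMaximal
    (sysLoc O B M.asIdeal K).lift_algHom (C M) (τ M)
  choose e τ' _ using hlift
  have hspan : Ideal.span (Set.range fun M : MaximalSpectrum B => (e M).1) = ⊤ := by
    by_contra hne
    obtain ⟨M, hM, hle⟩ := Ideal.exists_le_maximal _ hne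
    exact (e ⟨M, hM⟩).2.2 (hle (Ideal.subset_span ⟨⟨M, hM⟩, rfl⟩))
  obtain ⟨s', hs', hs'top⟩ := (Ideal.span_eq_top_iff_finite _).1 hspan
  let n := s'.card
  have hx : ∀ i : Fin n, ∃ M : MaximalSpectrum B, (e M).1 = (s'.equivFin.symm i).1 := fun i =>
    hs' (s'.equivFin.symm i).2
  choose M hM using hx
  let v : Fin n → B := fun i => (e (M i)).1
  have hv : ∀ i, IsIdempotentElem (v i) := fun i => (e (M i)).2.1
  have hvspan : Ideal.span (Set.range v) = ⊤ := by
    have : Set.range v = ↑s' := by
      ext x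
      constructor
      · rintro ⟨i, rfl⟩
        change (e (M i)).1 ∈ s'
        rw [hM i]
        exact (s'.equivFin.symm i).2
      · intro hx
        refine ⟨s'.equivFin ⟨x, hx⟩, ?_⟩
        change (e (M _)).1 = x
        rw [hM, Equiv.symm_apply_apply]
    rw [this, hs'top]
  obtain ⟨D, hD, hs⟩ := exists_completeOrthogonalIdempotents v hv hvspan
  choose s hs using hs
  let ψ : B ≃+* Π i, B ⧸ Ideal.span {1 - D i} := RingEquiv.ofBijective _ hD.bijective_pi
  let fac : ∀ i, (B ⧸ Ideal.span {1 - v i}) →ₐ[K] B ⧸ Ideal.span {1 - D i} := fun i =>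
    Ideal.Quotient.factorₐ K (span_le_of_mul_eq (hv i) (s i) (hs i))
  let ρ₀ : (Π i, C (M i)) →+* B :=
    ψ.symm.toRingHom.comp (RingHom.pi fun i =>
      (((fac i).comp (τ' (M i))).toRingHom).comp (Pi.evalRingHom (fun i => C (M i)) i))
  refine ⟨n, M, ⟨{ ρ₀ with commutes' := fun k => ?_ }⟩⟩
  change ψ.symm (fun i => fac i (τ' (M i) (algebraMap K (C (M i)) k))) = algebraMap K B k
  rw [RingEquiv.symm_apply_eq]
  funext i
  rw [AlgHom.commutes, AlgHom.commutes]
  rfl

include O in
/-- the same with an index type in the universe of the rings -/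
theorem exists_algHom_pi' (C : MaximalSpectrum B → Type u) [∀ M, CommRing (C M)] [∀ M, Algebra K (C M)]
    [∀ M, Algebra.FinitePresentation K (C M)]
    (τ : ∀ M : MaximalSpectrum B, C M →ₐ[K] Localization.AtPrime M.asIdeal) :
    ∃ (κ : Type u) (_ : Finite κ) (M : κ → MaximalSpectrum B), Nonempty ((Π k, C (M k)) →ₐ[K] B) := by
  obtain ⟨n, M, ⟨ρ⟩⟩ := exists_algHom_pi O B K C τ
  refine ⟨ULift.{u} (Fin n), inferInstance, fun k => M k.down, ⟨ρ.comp ?_⟩⟩
  exact
    { toFun := fun c i => c ⟨i⟩
      map_one' := rfl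
      map_mul' := fun _ _ => rfl
      map_zero' := rfl
      map_add' := fun _ _ => rfl
      commutes' := fun _ => rfl }

end Alg

end Groth.Agent.Lib.Seat1.IntHensel
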