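import Mathlib
import Groth.Prelude.Def_EtBaseX
import Groth.Agent.Lib.Seat1FinSplit
import Groth.Agent.Lib.Seat1IntHensel

/-!
# Étale coverings split étale-locally on the base of an integral morphism (seat 1)

The generalisation of `Seat1FinSplit` from finite to integral morphisms.
-/

set_option autoImplicit false
set_option linter.style.haveILetI false
set_option linter.unusedSectionVars false
universe u
open CategoryTheory CategoryTheory.Limits AlgebraicGeometry Opposite IsLocalRing TensorProduct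

namespace Groth.Agent.Lib.Seat1.IntSplit

open Groth.Agent.Lib.Seat1.ShSys Groth.Agent.Lib.Seat1.FinSplitAlg Groth.Agent.Lib.Seat1.FinHensel
  Groth.Agent.Lib.Seat1.HenselSection Groth.Agent.Lib.Seat1.FinSplit Groth.Agent.Lib.Seat1.IntHensel
  Groth.Agent.Lib.Helper18ColimSys

section Core

variable {X Y : Scheme.{u}} (f : X ⟶ Y) [IsIntegralHom f] (R : Type u) [CommRing R]
  (Ω : Type u) [Field Ω] [IsSepClosed Ω] [Algebra R Ω]
  (q : Spec (CommRingCat.of R) ⟶ Y) [Etale q]

set_option maxHeartbeats 1600000 in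
/-- **Étale-local splitting**: a covering sieve of `X ×_Y Spec R` (`f` integral, `Spec R → Y` étale) is refined, after
an étale localisation `Spec C → Spec R` at the geometric point, by a finite covering of `X ×_Y Spec C` by pairwise
disjoint opens. -/
theorem core (T : Sieve ((EtCoh.bc f).obj (Scheme.Etale.mk q)))
    (hT : T ∈ X.smallEtaleTopology ((EtCoh.bc f).obj (Scheme.Etale.mk q))) :
    ∃ (i : Idx R Ω) (n : ℕ) (W : Fin n → ((EtCoh.bc f).obj (VV R q i.C)).left.Opens),
      (∀ k l, k ≠ l → Disjoint (W k) (W l)) ∧ (∀ z, ∃ k, z ∈ W k) ∧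
      ∀ k, T (opnIn _ (W k) ≫ (EtCoh.bc f).map (gg R q i.C)) := by
  let V0 : Y.Etale := Scheme.Etale.mk q
  let Z0 : X.Etale := (EtCoh.bc f).obj V0
  let P : Scheme.{u} := Z0.left
  let p1 : P ⟶ Spec (CommRingCat.of R) := pullback.fst V0.hom f
  haveI : IsIntegralHom p1 := inferInstanceAs (IsIntegralHom (pullback.fst q f))
  haveI : IsAffine P := isAffine_of_isAffineHom p1
  let S : CommRingCat.{u} := Γ(P, ⊤)
  let φ : CommRingCat.of R ⟶ S := (Scheme.ΓSpecIso (CommRingCat.of R)).inv ≫ p1.appTop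
  have hφint : φ.hom.IsIntegral := by
    have h1 : p1.appTop.hom.IsIntegral := p1.isIntegral_app ⊤ (isAffineOpen_top _)
    have h2 : (Scheme.ΓSpecIso (CommRingCat.of R)).inv.hom.IsIntegral :=
      RingHom.isIntegral_of_surjective _
        ((ConcreteCategory.bijective_of_isIso (Scheme.ΓSpecIso (CommRingCat.of R)).inv).2)
    exact RingHom.IsIntegral.trans _ _ h2 h1
  letI : Algebra R S := φ.hom.toAlgebra
  haveI : Algebra.IsIntegral R S := ⟨hφint⟩
  -- the base change to the étale local ring and its localisations at maximal ideals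
  let B : Type u := O R Ω ⊗[R] S
  letI : Algebra S B := Algebra.TensorProduct.rightAlgebra
  haveI : Algebra.IsIntegral (O R Ω) B := inferInstance
  let L : MaximalSpectrum B → Type u := fun M => Localization.AtPrime M.asIdeal
  haveI hL1 : ∀ M, HenselianLocalRing (L M) := fun M =>
    haveI := M.isMaximal
    henselianLocalRing_atPrime (O R Ω) B M.asIdeal
  haveI hL2 : ∀ M, IsSepClosed (ResidueField (L M)) := fun M =>
    haveI := M.isMaximal
    isSepClosed_residueField_atPrime (O R Ω) B M.asIdeal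
  let β : ∀ M, S →+* L M := fun M => algebraMap S (L M)
  let φk : ∀ M, Spec (CommRingCat.of (L M)) ⟶ P := fun M =>
    Spec.map (CommRingCat.ofHom (β M)) ≫ P.isoSpec.inv
  -- lifts to members of the covering
  have hlift : ∀ M, ∃ (U : X.Etale) (a : U ⟶ Z0), T a ∧
      ∃ σ : Spec (CommRingCat.of (L M)) ⟶ U.left, σ ≫ a.left = φk M := fun M =>
    exists_lift_of_strictlyHenselian Z0 T hT (L M) (φk M)
  choose U a hTa σ hσ using hlift
  have haff : ∀ M, ∃ (C : CommRingCat.{u}) (j : Spec C ⟶ (U M).left) (_ : IsOpenImmersion j)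
      (τ : C ⟶ CommRingCat.of (L M)), Spec.map τ ≫ j = σ M := fun M =>
    exists_affine_factor (U M).left (L M) (σ M)
  choose C j hj τ hτ using haff
  let al : ∀ M, (U M).left ⟶ P := fun M => (a M).left
  haveI : ∀ M, Etale (al M) := fun M => inferInstanceAs (Etale (a M).left)
  let ψ : ∀ M, S ⟶ C M := fun M => Spec.preimage (j M ≫ al M ≫ P.isoSpec.hom)
  have hψ : ∀ M, Spec.map (ψ M) = j M ≫ al M ≫ P.isoSpec.hom := fun M => Spec.map_preimage _
  letI : ∀ M, Algebra S (C M) := fun M => (ψ M).hom.toAlgebra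
  haveI : ∀ M, Algebra.Etale S (C M) := fun M => by
    have h1 : Etale (Spec.map (ψ M)) := by rw [hψ]; infer_instance
    have h2 : (ψ M).hom.Etale := (HasRingHomProperty.Spec_iff (P := @Etale)).mp h1
    rwa [← (ψ M).hom.algebraMap_toAlgebra, RingHom.etale_algebraMap] at h2
  haveI : ∀ M, Algebra.FinitePresentation S (C M) := fun M => Algebra.Etale.finitePresentation
  have hτβ : ∀ M s, (τ M).hom (algebraMap S (C M) s) = algebraMap S (L M) s := by
    intro M s
    have h1 : ψ M ≫ τ M = CommRingCat.ofHom (β M) := by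
      apply Spec.map_injective
      have h2 : σ M ≫ al M = φk M := hσ M
      rw [Spec.map_comp, hψ, ← Category.assoc, hτ, ← Category.assoc, h2]
      change (Spec.map (CommRingCat.ofHom (β M)) ≫ P.isoSpec.inv) ≫ P.isoSpec.hom = _
      rw [Category.assoc, Iso.inv_hom_id, Category.comp_id]
    exact congrArg (fun m : S ⟶ CommRingCat.of (L M) => m.hom s) h1
  let τA : ∀ M, (C M : Type u) →ₐ[S] L M := fun M =>
    { (τ M).hom with commutes' := hτβ M }
  -- gluing over finitely many maximal ideals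
  obtain ⟨κ, _, M, ⟨ρ₀⟩⟩ := exists_algHom_pi' (O R Ω) B S (fun M => (C M : Type u)) τA
  -- spreading out
  let cm : B ≃ₐ[R] S ⊗[R] O R Ω := Algebra.TensorProduct.comm R (O R Ω) S
  let ρ₁ : (Π k, (C (M k) : Type u)) →ₐ[S] S ⊗[R] O R Ω :=
    { (cm : B →+* S ⊗[R] O R Ω).comp (ρ₀ : (Π k, (C (M k) : Type u)) →+* B) with
      commutes' := fun s => by
        change cm (ρ₀ (algebraMap S _ s)) = s ⊗ₜ 1
        rw [ρ₀.commutes]
        rfl }
  obtain ⟨i, ρ, -⟩ := (sysS R Ω S).lift_algHom (Π k, (C (M k) : Type u)) ρ₁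
  -- the étale neighbourhood
  let V : Y.Etale := VV R q i.C
  let g : V ⟶ V0 := gg R q i.C
  let Z : X.Etale := (EtCoh.bc f).obj V
  let P' : Scheme.{u} := Z.left
  let p1' : P' ⟶ Spec (CommRingCat.of i.C) := pullback.fst V.hom f
  let u : P' ⟶ P := ((EtCoh.bc f).map g).left
  let ai : CommRingCat.of R ⟶ CommRingCat.of i.C := CommRingCat.ofHom (algebraMap R i.C)
  have hsq : u ≫ p1 = p1' ≫ Spec.map ai := (EtCoh.isPullback_bc_map f g).w
  have huZ : u ≫ Z0.hom = Z.hom := Over.w ((EtCoh.bc f).map g).hom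
  let G : CommRingCat.{u} := Γ(P', ⊤)
  letI : Algebra R G := (u.appTop.hom.comp (algebraMap R S)).toAlgebra
  let fS : S →ₐ[R] G := { u.appTop.hom with commutes' := fun r => rfl }
  let γ : CommRingCat.of i.C ⟶ G := (Scheme.ΓSpecIso (CommRingCat.of i.C)).inv ≫ p1'.appTop
  have hγ : ai ≫ γ = φ ≫ u.appTop := by
    change ai ≫ (Scheme.ΓSpecIso (CommRingCat.of i.C)).inv ≫ p1'.appTop =
      ((Scheme.ΓSpecIso (CommRingCat.of R)).inv ≫ p1.appTop) ≫ u.appTop
    rw [← Category.assoc, Scheme.ΓSpecIso_inv_naturality, Category.assoc, Category.assoc,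
      ← Scheme.Hom.comp_appTop, ← Scheme.Hom.comp_appTop, hsq]
  let fC : i.C →ₐ[R] G :=
    { γ.hom with
      commutes' := fun r => congrArg (fun m : CommRingCat.of R ⟶ G => m.hom r) hγ }
  let θ₀ : S ⊗[R] i.C →ₐ[R] G := Algebra.TensorProduct.productMap fS fC
  let θ : (Π k, (C (M k) : Type u)) →+* G := (θ₀ : S ⊗[R] i.C →+* G).comp ρ.toRingHom
  let m : P' ⟶ Spec (CommRingCat.of (Π k, (C (M k) : Type u))) :=
    P'.toSpecΓ ≫ Spec.map (CommRingCat.ofHom θ)
  have hm : m ≫ Spec.map (CommRingCat.ofHom (algebraMap S (Π k, (C (M k) : Type u)))) =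
      u ≫ P.isoSpec.hom := by
    have h1 : CommRingCat.ofHom (algebraMap S (Π k, (C (M k) : Type u))) ≫ CommRingCat.ofHom θ =
        u.appTop := by
      ext s
      change θ₀ (ρ (algebraMap S (Π k, (C (M k) : Type u)) s)) = u.appTop.hom s
      rw [ρ.commutes, Algebra.TensorProduct.algebraMap_apply]
      exact Algebra.TensorProduct.productMap_left_apply fS fC s
    change (P'.toSpecΓ ≫ Spec.map (CommRingCat.ofHom θ)) ≫ Spec.map _ = _
    rw [Category.assoc, ← Spec.map_comp, h1, ← Scheme.toSpecΓ_naturality, Scheme.isoSpec_hom]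
  -- the disjoint opens
  obtain ⟨n, ⟨en⟩⟩ := Finite.exists_equiv_fin κ
  let W : Fin n → P'.Opens := fun l =>
    m ⁻¹ᵁ (pr (fun k => (C (M k) : Type u)) (en.symm l)).opensRange
  refine ⟨i, n, W, ?_, ?_, ?_⟩
  · intro l l' hll'
    have := disjoint_opensRange_pr (fun k => (C (M k) : Type u)) (en.symm l) (en.symm l')
      (fun h => hll' (en.symm.injective h))
    rw [← TopologicalSpace.Opens.coe_disjoint] at this ⊢
    exact this.preimage _
  · intro z
    obtain ⟨k, hk⟩ := exists_mem_opensRange_pr (fun k => (C (M k) : Type u)) (m z)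
    refine ⟨en k, ?_⟩
    change m z ∈ (pr (fun k => (C (M k) : Type u)) (en.symm (en k))).opensRange
    rwa [en.symm_apply_apply]
  · intro l
    let k := en.symm l
    have hrange : Set.range (⇑((W l).ι ≫ m)) ⊆
        Set.range (pr (fun k => (C (M k) : Type u)) k) := by
      rintro _ ⟨z, rfl⟩
      rw [Scheme.Hom.comp_apply]
      exact z.2
    let c : (W l : Scheme.{u}) ⟶ Spec (C (M k)) :=
      IsOpenImmersion.lift (pr (fun k => (C (M k) : Type u)) k) ((W l).ι ≫ m) hrange
    have hc : c ≫ pr (fun k => (C (M k) : Type u)) k = (W l).ι ≫ m :=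
      IsOpenImmersion.lift_fac _ _ _
    let b : (W l : Scheme.{u}) ⟶ (U (M k)).left := c ≫ j (M k)
    have hψpr : Spec.map (ψ (M k)) = pr (fun k => (C (M k) : Type u)) k ≫
        Spec.map (CommRingCat.ofHom (algebraMap S (Π k, (C (M k) : Type u)))) := by
      rw [← Spec.map_comp]
      congr 1
    have hb : b ≫ al (M k) = (W l).ι ≫ u := by
      rw [← cancel_mono P.isoSpec.hom]
      change (c ≫ j (M k)) ≫ al (M k) ≫ P.isoSpec.hom = ((W l).ι ≫ u) ≫ P.isoSpec.hom
      rw [Category.assoc, ← hψ, hψpr, ← Category.assoc, hc, Category.assoc, hm, Category.assoc]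
    have hak : al (M k) ≫ Z0.hom = (U (M k)).hom := Over.w (a (M k)).hom
    let bk : opnOf Z (W l) ⟶ U (M k) := MorphismProperty.Over.homMk b (by
      change b ≫ (U (M k)).hom = (W l).ι ≫ Z.hom
      rw [← hak, ← Category.assoc, hb, Category.assoc, huZ])
    have e1 : opnIn Z (W l) ≫ (EtCoh.bc f).map g = bk ≫ a (M k) := by
      apply MorphismProperty.Over.Hom.ext
      exact hb.symm
    rw [e1]
    exact T.downward_closed (hTa (M k)) _

end Core

section General

variable {X Y : Scheme.{u}} (f : X ⟶ Y) [IsIntegralHom f]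
  {Ω : Type u} [Field Ω] [IsSepClosed Ω] (η : Spec (CommRingCat.of Ω) ⟶ Y)

/-- **Étale-local splitting along an integral morphism**, general form: for `f : X ⟶ Y` integral, a pointed étale
neighbourhood `(V0, x₀)` of a geometric point `η` of `Y` and a covering sieve `T` of `X ×_Y V0`, there is a smaller
pointed étale neighbourhood `(V, x)` such that `X ×_Y V` has a finite covering by pairwise disjoint opens whose
members belong to `T`. -/
theorem exists_disjoint_refinement (V0 : Y.Etale) (x₀ : (Scheme.pointSmallEtale η).fiber.obj V0)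
    (T : Sieve ((EtCoh.bc f).obj V0)) (hT : T ∈ X.smallEtaleTopology ((EtCoh.bc f).obj V0)) :
    ∃ (V : Y.Etale) (g : V ⟶ V0) (x : (Scheme.pointSmallEtale η).fiber.obj V),
      (Scheme.pointSmallEtale η).fiber.map g x = x₀ ∧
      ∃ (n : ℕ) (W : Fin n → ((EtCoh.bc f).obj V).left.Opens),
        (∀ k l, k ≠ l → Disjoint (W k) (W l)) ∧ (∀ z, ∃ k, z ∈ W k) ∧
        ∀ k, T (opnIn _ (W k) ≫ (EtCoh.bc f).map g) := by
  let xl : Spec (CommRingCat.of Ω) ⟶ V0.left :=
    Over.Hom.left (show Over.mk η ⟶ (Scheme.Etale.forget Y).obj V0 from x₀)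
  have hxl : xl ≫ V0.hom = η := Over.w (show Over.mk η ⟶ (Scheme.Etale.forget Y).obj V0 from x₀)
  obtain ⟨R', j, hj, hx, -⟩ := Scheme.exists_affine_mem_range_and_range_subset
    (x := xl (default : Spec (CommRingCat.of Ω))) (U := ⊤) (by simp)
  have hrange : Set.range xl ⊆ Set.range j := by
    rintro _ ⟨a, rfl⟩
    rwa [Subsingleton.elim a default]
  let p₀ : Spec (CommRingCat.of Ω) ⟶ Spec R' := IsOpenImmersion.lift j xl hrange
  have hp₀ : p₀ ≫ j = xl := IsOpenImmersion.lift_fac j xl hrange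
  let y₀ : R' ⟶ CommRingCat.of Ω := Spec.preimage p₀
  have hy₀ : Spec.map y₀ = p₀ := Spec.map_preimage _
  letI : Algebra R' Ω := y₀.hom.toAlgebra
  let q : Spec (CommRingCat.of R') ⟶ Y := j ≫ V0.hom
  haveI : Etale q := inferInstanceAs (Etale (j ≫ V0.hom))
  let V1 : Y.Etale := Scheme.Etale.mk q
  let j1 : V1 ⟶ V0 := MorphismProperty.Over.homMk j rfl
  let T1 : Sieve ((EtCoh.bc f).obj V1) := T.pullback ((EtCoh.bc f).map j1)
  have hT1 : T1 ∈ X.smallEtaleTopology ((EtCoh.bc f).obj V1) :=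
    X.smallEtaleTopology.pullback_stable _ hT
  obtain ⟨i, n, W, hdisj, hcov, hW⟩ := Groth.Agent.Lib.Seat1.IntSplit.core f R' Ω q T1 hT1
  let V : Y.Etale := VV R' q i.C
  let g : V ⟶ V0 := gg R' q i.C ≫ j1
  have hpt : Spec.map (CommRingCat.ofHom i.pt.toRingHom) ≫
      Spec.map (CommRingCat.ofHom (algebraMap R' i.C)) = p₀ := by
    rw [← Spec.map_comp, ← hy₀]
    congr 1
    ext r
    exact i.pt.commutes r
  let x : (Scheme.pointSmallEtale η).fiber.obj V :=
    Over.homMk (Spec.map (CommRingCat.ofHom i.pt.toRingHom)) (by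
      change Spec.map (CommRingCat.ofHom i.pt.toRingHom) ≫
        Spec.map (CommRingCat.ofHom (algebraMap R' i.C)) ≫ j ≫ V0.hom = η
      rw [← Category.assoc, hpt, ← Category.assoc, hp₀, hxl])
  refine ⟨V, g, x, ?_, n, W, hdisj, hcov, fun k => ?_⟩
  · apply Over.OverMorphism.ext
    change Spec.map (CommRingCat.ofHom i.pt.toRingHom) ≫
      Spec.map (CommRingCat.ofHom (algebraMap R' i.C)) ≫ j = xl
    rw [← Category.assoc, hpt, hp₀]
  · have h1 := hW k
    change T ((opnIn _ (W k) ≫ (EtCoh.bc f).map (gg R' q i.C)) ≫ (EtCoh.bc f).map j1) at h1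
    rwa [Category.assoc, ← Functor.map_comp] at h1

end General

end Groth.Agent.Lib.Seat1.IntSplit
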