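import Mathlib

/-!
# Topology of integral morphisms: no specializations inside a fibre (seat 1)
-/

set_option autoImplicit false
set_option linter.style.haveILetI false
set_option linter.unusedSectionVars false
universe u
open CategoryTheory CategoryTheory.Limits AlgebraicGeometry Opposite

namespace Groth.Agent.Lib.Seat1.IntTop

/-- incomparability for an integral ring map, on prime spectra -/
lemma eq_of_le_of_comap_eq {A B : Type*} [CommRing A] [CommRing B] (ψ : A →+* B) (hψ : ψ.IsIntegral)
    (p q : PrimeSpectrum B) (hpq : p ≤ q) (hc : p.comap ψ = q.comap ψ) : p = q := by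
  by_contra hne
  letI : Algebra A B := ψ.toAlgebra
  have hle : p.asIdeal ≤ q.asIdeal := hpq
  have hlt : ¬ q.asIdeal ≤ p.asIdeal := fun h => hne (PrimeSpectrum.ext (le_antisymm hle h))
  obtain ⟨b, hbq, hbp⟩ := Set.not_subset.1 hlt
  have h1 := Ideal.comap_lt_comap_of_integral_mem_sdiff (R := A) hle ⟨hbq, hbp⟩ (hψ b)
  have h2 : p.asIdeal.comap (algebraMap A B) = q.asIdeal.comap (algebraMap A B) :=
    congrArg PrimeSpectrum.asIdeal hc
  exact absurd h2 (ne_of_lt h1)

/-- **Incomparability**: an integral morphism of schemes has no nontrivial specializations inside a fibre. -/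
theorem eq_of_specializes {X Y : Scheme.{u}} (f : X ⟶ Y) [IsIntegralHom f] {x c : X} (h : x ⤳ c)
    (hf : f x = f c) : x = c := by
  obtain ⟨R, j, hj, hc, -⟩ := Scheme.exists_affine_mem_range_and_range_subset
    (x := f c) (U := ⊤) (by simp)
  let Q : Scheme.{u} := pullback f j
  let g : Q ⟶ X := pullback.fst f j
  let p : Q ⟶ Spec R := pullback.snd f j
  haveI : IsIntegralHom p := inferInstanceAs (IsIntegralHom (pullback.snd f j))
  haveI : IsOpenImmersion g := inferInstanceAs (IsOpenImmersion (pullback.fst f j))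
  haveI : IsAffine Q := isAffine_of_isAffineHom p
  obtain ⟨r, hr⟩ := hc
  obtain ⟨c', hc'1, hc'2⟩ := Scheme.Pullback.exists_preimage_pullback (f := f) (g := j) c r hr.symm
  have hxr : x ∈ Set.range g := h.mem_open g.isOpenEmbedding.isOpen_range ⟨c', hc'1⟩
  obtain ⟨x', hx'⟩ := hxr
  have hsp : x' ⤳ c' := by
    have : g x' ⤳ g c' := by rw [hx', hc'1]; exact h
    exact g.isOpenEmbedding.toIsInducing.specializes_iff.1 this
  have hp : p x' = p c' := by
    apply j.isOpenEmbedding.injective
    have e1 : j (p x') = f (g x') := by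
      rw [← Scheme.Hom.comp_apply, ← Scheme.Hom.comp_apply, pullback.condition]
    have e2 : j (p c') = f (g c') := by
      rw [← Scheme.Hom.comp_apply, ← Scheme.Hom.comp_apply, pullback.condition]
    rw [e1, e2, hx', hc'1, hf]
  -- pass to spectra
  let B : CommRingCat.{u} := Γ(Q, ⊤)
  let ψ : R ⟶ B := Spec.preimage (Q.isoSpec.inv ≫ p)
  have hψ : Spec.map ψ = Q.isoSpec.inv ≫ p := Spec.map_preimage _
  haveI : IsIntegralHom (Spec.map ψ) := by rw [hψ]; infer_instance
  have hψint : ψ.hom.IsIntegral := IsIntegralHom.SpecMap_iff.1 inferInstance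
  let x'' : PrimeSpectrum B := Q.isoSpec.hom x'
  let c'' : PrimeSpectrum B := Q.isoSpec.hom c'
  have hsp'' : x'' ⤳ c'' := hsp.map Q.isoSpec.hom.continuous
  have hle : x'' ≤ c'' := (PrimeSpectrum.le_iff_specializes _ _).2 hsp''
  have hcomap : x''.comap ψ.hom = c''.comap ψ.hom := by
    have e1 : (Spec.map ψ) (Q.isoSpec.hom x') = p x' := by
      rw [hψ, ← Scheme.Hom.comp_apply, Iso.hom_inv_id_assoc]
    have e2 : (Spec.map ψ) (Q.isoSpec.hom c') = p c' := by
      rw [hψ, ← Scheme.Hom.comp_apply, Iso.hom_inv_id_assoc]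
    have : (Spec.map ψ) (Q.isoSpec.hom x') = (Spec.map ψ) (Q.isoSpec.hom c') := by rw [e1, e2, hp]
    exact this
  have heq := eq_of_le_of_comap_eq ψ.hom hψint x'' c'' hle hcomap
  have h3 : x' = c' := by
    have := congrArg (fun t => Q.isoSpec.inv t) heq
    simpa [x'', c''] using this
  rw [← hx', ← hc'1, h3]

end Groth.Agent.Lib.Seat1.IntTop
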