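import Mathlib
import Groth.Prelude.Def_BigSite
import Groth.Agent.Lib.Seat1IntSplit
import Groth.Agent.Lib.Seat1IntTop
import Groth.Agent.Lib.Helper16EtStalk
import Groth.Agent.Lib.Helper3IrrTopB

/-!
# Condition (A) for integral morphisms (seat 1)
-/

set_option autoImplicit false
set_option linter.style.haveILetI false
set_option linter.unusedSectionVars false
universe u
open CategoryTheory CategoryTheory.Limits AlgebraicGeometry Opposite

namespace Groth.Agent.Lib.Seat1.IntPropA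

open Groth.Agent.Lib.Seat1.FinSplit Groth.Agent.Lib.Helper16.SmallEtale
  Groth.Agent.Lib.Helper16.EtStalk

/-- a point of the source of an étale morphism has an open neighbourhood in which it is the only point of its
fibre -/
lemma exists_opens_fiber_eq {U X : Scheme.{u}} (g : U ⟶ X) [Etale g] (u : U) :
    ∃ U₁ : U.Opens, u ∈ U₁ ∧ ∀ u' ∈ U₁, g u' = g u → u' = u := by
  haveI : LocallyQuasiFinite g := Groth.Agent.Lib.Helper3.IrrTop.locallyQuasiFinite_of_unramified g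
  have hd : _root_.IsDiscrete (g ⁻¹' {g u}) := g.isDiscrete_preimage_singleton (g u)
  haveI : DiscreteTopology (g ⁻¹' {g u}) := isDiscrete_iff_discreteTopology.1 hd
  let u₀ : g ⁻¹' {g u} := ⟨u, rfl⟩
  have ho : IsOpen ({u₀} : Set (g ⁻¹' {g u})) := isOpen_discrete _
  obtain ⟨t, ht, hte⟩ := isOpen_induced_iff.1 ho
  refine ⟨⟨t, ht⟩, ?_, ?_⟩
  · have : u₀ ∈ Subtype.val ⁻¹' t := by rw [hte]; rfl
    exact this
  · intro u' hu' hg
    have : (⟨u', hg⟩ : g ⁻¹' {g u}) ∈ Subtype.val ⁻¹' t := hu'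
    rw [hte] at this
    exact congrArg Subtype.val (Set.mem_singleton_iff.1 this)

variable {X Y : Scheme.{u}} (f : X ⟶ Y) [IsIntegralHom f]

set_option backward.isDefEq.respectTransparency.types false in
set_option maxHeartbeats 1600000 in
/-- the pointed local form of condition (A): an étale neighbourhood `V` of `f (g u)`, a clopen piece `W` of
`V ×_Y X` and an `X`-morphism `W ⟶ U` hitting `u` -/
theorem exists_clopen_piece {U : Scheme.{u}} (g : U ⟶ X) [Etale g] (u : U) :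
    ∃ (V : Y.Etale) (W : ((EtCoh.bc f).obj V).left.Opens)
      (_ : IsClosed (W : Set ((EtCoh.bc f).obj V).left)) (h : (W : Scheme.{u}) ⟶ U),
      h ≫ g = W.ι ≫ ((EtCoh.bc f).obj V).hom ∧ u ∈ Set.range h := by
  let x : X := g u
  let y : Y := f x
  obtain ⟨U₁, hu₁, hU₁⟩ := exists_opens_fiber_eq g u
  -- the open image of `U₁`
  let E : Set X := g '' (U₁ : Set U)
  have hE : IsOpen E := g.isOpenMap _ U₁.2
  have hxE : x ∈ E := ⟨u, hu₁, rfl⟩
  -- shrink the base so that the closure of `x` lies in `E`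
  let C : Set X := closure {x} \ E
  have hC : IsClosed C := isClosed_closure.sdiff hE
  let Y₀ : Y.Opens := ⟨(f '' C)ᶜ, (f.isClosedMap _ hC).isOpen_compl⟩
  have hy : y ∈ Y₀ := by
    rintro ⟨c, ⟨hc1, hc2⟩, hc3⟩
    have hsp : x ⤳ c := specializes_iff_mem_closure.2 hc1
    have : x = c := Groth.Agent.Lib.Seat1.IntTop.eq_of_specializes f hsp hc3.symm
    exact hc2 (this ▸ hxE)
  let V0 : Y.Etale := Scheme.Etale.mk Y₀.ι
  let Z0 : X.Etale := (EtCoh.bc f).obj V0
  let P : Scheme.{u} := pullback Y₀.ι f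
  let p1 : P ⟶ (Y₀ : Scheme.{u}) := pullback.fst Y₀.ι f
  let p2 : P ⟶ X := pullback.snd Y₀.ι f
  let y₀ : (Y₀ : Scheme.{u}) := ⟨y, hy⟩
  obtain ⟨z, hz1, hz2⟩ := Scheme.Pullback.exists_preimage_pullback (f := Y₀.ι) (g := f) y₀ x rfl
  -- the two generators of the covering sieve
  let g₁ : (U₁ : Scheme.{u}) ⟶ X := U₁.ι ≫ g
  let q1 : pullback g₁ p2 ⟶ (U₁ : Scheme.{u}) := pullback.fst g₁ p2
  let q2 : pullback g₁ p2 ⟶ P := pullback.snd g₁ p2
  haveI : Etale q2 := inferInstanceAs (Etale (pullback.snd g₁ p2))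
  haveI : Etale p2 := inferInstanceAs (Etale (pullback.snd Y₀.ι f))
  let U₁P : X.Etale := Scheme.Etale.mk (q2 ≫ p2)
  let a₁ : U₁P ⟶ Z0 := MorphismProperty.Over.homMk q2 rfl
  let P₂ : P.Opens := ⟨(closure {z})ᶜ, isClosed_closure.isOpen_compl⟩
  let a₂ : opnOf Z0 P₂ ⟶ Z0 := opnIn Z0 P₂
  let T : Sieve Z0 :=
    { arrows := fun W a => (∃ b : W ⟶ U₁P, b ≫ a₁ = a) ∨ (∃ b : W ⟶ opnOf Z0 P₂, b ≫ a₂ = a)
      downward_closed := by
        rintro W W' a (⟨b, rfl⟩ | ⟨b, rfl⟩) c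
        · exact Or.inl ⟨c ≫ b, Category.assoc _ _ _⟩
        · exact Or.inr ⟨c ≫ b, Category.assoc _ _ _⟩ }
  have hT : T ∈ X.smallEtaleTopology Z0 := by
    rw [mem_smallEtale_iff]
    intro p
    let p' : P := p
    by_cases hp : p' ∈ closure {z}
    · have h1 : z ⤳ p' := specializes_iff_mem_closure.2 hp
      have h2 : x ⤳ p2 p' := by
        have := h1.map p2.continuous
        rwa [hz2] at this
      have h3 : p2 p' ∈ E := by
        by_contra hnE
        have h4 : p2 p' ∈ C := ⟨specializes_iff_mem_closure.1 h2, hnE⟩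
        have h5 : f (p2 p') ∈ f '' C := ⟨_, h4, rfl⟩
        have h6 : f (p2 p') = Y₀.ι (p1 p') := by
          rw [← Scheme.Hom.comp_apply, ← Scheme.Hom.comp_apply, pullback.condition]
        rw [h6] at h5
        exact (p1 p').2 h5
      obtain ⟨u', hu', hgu'⟩ := h3
      obtain ⟨w, -, hw2⟩ := Scheme.Pullback.exists_preimage_pullback (f := g₁) (g := p2)
        (⟨u', hu'⟩ : (U₁ : Scheme.{u})) p' hgu'
      exact ⟨U₁P, a₁, w, Or.inl ⟨𝟙 _, Category.id_comp _⟩, hw2⟩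
    · exact ⟨opnOf Z0 P₂, a₂, (⟨p', hp⟩ : (P₂ : Scheme.{u})), Or.inr ⟨𝟙 _, Category.id_comp _⟩, rfl⟩
  -- the splitting at a geometric point over `y`
  obtain ⟨Ω, _, _, η, x₀, hx₀⟩ := exists_geometric_point V0 y₀
  obtain ⟨V, gV, xV, hxV, n, W, hd, hc, hW⟩ :=
    Groth.Agent.Lib.Seat1.IntSplit.exists_disjoint_refinement f η V0 x₀ T hT
  let Z : X.Etale := (EtCoh.bc f).obj V
  let P' : Scheme.{u} := pullback V.hom f
  let um : P' ⟶ P := ((EtCoh.bc f).map gV).left
  have hum2 : um ≫ p2 = pullback.snd V.hom f := bc_map_left_snd f gV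
  have sq := EtCoh.isPullback_bc_map f gV
  let v₀ : V.left := (xV.left : Spec (CommRingCat.of Ω) ⟶ V.left) (default : Spec (CommRingCat.of Ω))
  have hv₀ : gV.left v₀ = y₀ := by
    have e3 : xV.left ≫ gV.left = x₀.left := congrArg (fun m => m.left) hxV
    rw [← hx₀]
    exact congrArg (fun m : Spec (CommRingCat.of Ω) ⟶ V0.left => m default) e3
  obtain ⟨w₀, hw₀1, -⟩ := Scheme.Pullback.exists_preimage_pullback
    (f := (pullback.fst V0.hom f : Z0.left ⟶ V0.left)) (g := gV.left) z v₀ (hz1.trans hv₀.symm)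
  let w : P' := sq.isoPullback.inv w₀
  have hw : um w = z := by
    have e := sq.isoPullback_inv_fst
    have e' : um w = (sq.isoPullback.inv ≫ ((EtCoh.bc f).map gV).left) w₀ := rfl
    rw [e', e]
    exact hw₀1
  obtain ⟨k, hk⟩ := hc w
  let Wf : Fin n → P'.Opens := W
  let Wk : P'.Opens := Wf k
  have hclosed : IsClosed (Wk : Set P') := by
    have : (Wk : Set P') = (⋃ l : {l : Fin n // l ≠ k}, (Wf l.1 : Set P'))ᶜ := by
      ext t
      simp only [Set.mem_compl_iff, Set.mem_iUnion, not_exists]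
      constructor
      · intro ht l htl
        exact (Set.disjoint_left.1 ((TopologicalSpace.Opens.coe_disjoint).2 (hd l.1 k l.2))) htl ht
      · intro ht
        obtain ⟨l, hl⟩ := hc t
        by_cases hlk : l = k
        · subst hlk; exact hl
        · exact absurd hl (ht ⟨l, hlk⟩)
    rw [this]
    exact (isOpen_iUnion (fun l : {l : Fin n // l ≠ k} => (Wf l.1).2)).isClosed_compl
  rcases hW k with ⟨b, hb⟩ | ⟨b, hb⟩
  · let bl : (Wk : Scheme.{u}) ⟶ pullback g₁ p2 := b.left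
    have hb' : bl ≫ q2 = Wk.ι ≫ um := congrArg (fun m => m.left) hb
    let h₀ : (Wk : Scheme.{u}) ⟶ U := bl ≫ q1 ≫ U₁.ι
    have hh₀ : h₀ ≫ g = Wk.ι ≫ pullback.snd V.hom f := by
      change (bl ≫ q1 ≫ U₁.ι) ≫ g = _
      have hcond : q1 ≫ g₁ = q2 ≫ p2 := pullback.condition
      calc (bl ≫ q1 ≫ U₁.ι) ≫ g = bl ≫ (q1 ≫ g₁) := by simp only [Category.assoc, g₁]
        _ = (bl ≫ q2) ≫ p2 := by rw [hcond, Category.assoc]
        _ = Wk.ι ≫ (um ≫ p2) := by rw [hb', Category.assoc]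
        _ = Wk.ι ≫ pullback.snd V.hom f := by rw [hum2]
    refine ⟨V, Wk, hclosed, h₀, hh₀, ?_⟩
    let wk : (Wk : Scheme.{u}) := ⟨w, hk⟩
    have ht1 : h₀ wk ∈ U₁ := by
      change (bl ≫ q1 ≫ U₁.ι) wk ∈ U₁
      rw [← Category.assoc, Scheme.Hom.comp_apply]
      exact ((bl ≫ q1) wk).2
    have ht2 : g (h₀ wk) = g u := by
      rw [← Scheme.Hom.comp_apply, hh₀, ← hum2, ← Category.assoc, Scheme.Hom.comp_apply,
        Scheme.Hom.comp_apply]
      change p2 (um w) = x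
      rw [hw, hz2]
    exact ⟨wk, hU₁ _ ht1 ht2⟩
  · exfalso
    let bl : (Wk : Scheme.{u}) ⟶ (P₂ : Scheme.{u}) := b.left
    have hb' : bl ≫ P₂.ι = Wk.ι ≫ um := congrArg (fun m => m.left) hb
    let wk : (Wk : Scheme.{u}) := ⟨w, hk⟩
    have h1 : P₂.ι (bl wk) = z := by
      rw [← Scheme.Hom.comp_apply, hb', Scheme.Hom.comp_apply]
      exact hw
    have h2 : z ∈ P₂ := h1 ▸ (bl wk).2
    exact h2 (subset_closure rfl)

set_option backward.isDefEq.respectTransparency.types false in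
/-- **Condition (A) holds for integral morphisms.** -/
theorem propA : BigSite.PropA f := by
  intro U g _ u
  obtain ⟨V, W, hWc, h, hh, hu⟩ := exists_clopen_piece f g u
  let v : V.left ⟶ Y := V.hom
  haveI : Etale v := inferInstanceAs (Etale V.hom)
  let P' : Scheme.{u} := pullback v f
  let Wp : P'.Opens := W
  let hp : (Wp : Scheme.{u}) ⟶ U := h
  have hhp : hp ≫ g = Wp.ι ≫ pullback.snd v f := hh
  let θ : pullback f v ≅ P' := pullbackSymmetry f v
  have hθ : θ.hom ≫ pullback.snd v f = pullback.fst f v := pullbackSymmetry_hom_comp_snd f v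
  let W' : (pullback f v).Opens := θ.hom ⁻¹ᵁ Wp
  have e1 : (θ.hom ∣_ Wp) ≫ Wp.ι = W'.ι ≫ θ.hom := morphismRestrict_ι θ.hom Wp
  refine ⟨V.left, v, inferInstance, W', ?_, (θ.hom ∣_ Wp) ≫ hp, ?_, ?_⟩
  · exact hWc.preimage θ.hom.continuous
  · calc ((θ.hom ∣_ Wp) ≫ hp) ≫ g = (θ.hom ∣_ Wp) ≫ (Wp.ι ≫ pullback.snd v f) := by
          rw [Category.assoc, hhp]
      _ = (W'.ι ≫ θ.hom) ≫ pullback.snd v f := by rw [← Category.assoc, e1]
      _ = W'.ι ≫ pullback.fst f v := by rw [Category.assoc, hθ]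
  · obtain ⟨t, ht⟩ := hu
    let t' : (Wp : Scheme.{u}) := t
    let Q : Scheme.{u} := pullback f v
    let s : Q := θ.inv (Wp.ι t')
    have hs : θ.hom s = Wp.ι t' := by
      change θ.hom (θ.inv (Wp.ι t')) = _
      rw [← Scheme.Hom.comp_apply, Iso.inv_hom_id]
      rfl
    have hsW : s ∈ W' := by
      change θ.hom s ∈ Wp
      rw [hs]
      exact t'.2
    let s' : (W' : Scheme.{u}) := ⟨s, hsW⟩
    have h2 : (θ.hom ∣_ Wp) s' = t' := by
      apply Wp.ι.isOpenEmbedding.injective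
      rw [← Scheme.Hom.comp_apply, e1, Scheme.Hom.comp_apply]
      exact hs
    refine ⟨s', ?_⟩
    change ((θ.hom ∣_ Wp) ≫ hp) s' = u
    rw [Scheme.Hom.comp_apply, h2]
    exact ht

end Groth.Agent.Lib.Seat1.IntPropA
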