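import Mathlib
import Groth.Prelude.Def_BigSite
import Groth.Agent.Lib.Seat1IntPropA
import Groth.Agent.Lib.Helper20EtSections
import Groth.Agent.Lib.Helper20SmoothSec

/-!
# Lifting étale neighbourhoods across a closed immersion

For a closed immersion `i : Z ⟶ T`, an étale `g : U ⟶ Z` and a point `u` of `U`, there is an étale
`v : T' ⟶ T` whose image contains `i (g u)` such that the whole base change `Z ×_T T' ⟶ Z` factors
through `g`.  As a consequence the base change functor along a closed immersion is almost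
cocontinuous for the big étale and smooth sites.
-/

set_option autoImplicit false
universe u

open CategoryTheory CategoryTheory.Limits AlgebraicGeometry

namespace Groth.Agent.Lib.Seat1.ClosedLift

open Groth.Agent.Lib.Helper20.EtSections

theorem exists_etale_lift {Z T : Scheme.{u}} (i : Z ⟶ T) [IsClosedImmersion i]
    {U : Scheme.{u}} (g : U ⟶ Z) [Etale g] (u : U) :
    ∃ (T' : Scheme.{u}) (v : T' ⟶ T) (t' : T'), Etale v ∧ v t' = i (g u) ∧
      ∃ h : pullback i v ⟶ U, h ≫ g = pullback.fst i v := by
  obtain ⟨V, v, hv, W, hWc, h, hh, w, hw⟩ := Groth.Agent.Lib.Seat1.IntPropA.propA i U g u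
  have : Etale v := hv
  let P : Scheme.{u} := pullback i v
  let s : P ⟶ V := pullback.snd i v
  have : IsClosedImmersion s := inferInstanceAs (IsClosedImmersion (pullback.snd i v))
  let W' : P.Opens := W
  have hC : IsClosed (s '' ((W' : Set P)ᶜ)) :=
    s.isClosedEmbedding.isClosedMap _ (W'.2.isClosed_compl)
  let T'' : V.Opens := ⟨(s '' ((W' : Set P)ᶜ))ᶜ, hC.isOpen_compl⟩
  let m : pullback i (T''.ι ≫ v) ⟶ P := bcMap i v T''.ι
  have hm : Set.range m ⊆ Set.range W'.ι := by
    rintro _ ⟨p, rfl⟩
    rw [Scheme.Opens.range_ι]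
    by_contra hq
    have h1 : s (m p) = T''.ι (pullback.snd i (T''.ι ≫ v) p) := bcMap_snd_apply i v T''.ι p
    have h2 : s (m p) ∈ (T'' : Set V) := by
      rw [h1]
      exact (pullback.snd i (T''.ι ≫ v) p).2
    exact h2 ⟨m p, hq, rfl⟩
  let l : pullback i (T''.ι ≫ v) ⟶ (W' : Scheme.{u}) := IsOpenImmersion.lift W'.ι m hm
  have hl : l ≫ W'.ι = m := IsOpenImmersion.lift_fac _ _ _
  -- the point
  have hwT : s (W'.ι w) ∈ (T'' : Set V) := by
    rintro ⟨q, hq, hqe⟩
    have : q = W'.ι w := s.isClosedEmbedding.injective hqe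
    exact hq (this ▸ w.2)
  let t' : (T'' : Scheme.{u}) := ⟨s (W'.ι w), hwT⟩
  have ht' : T''.ι t' = s (W'.ι w) := rfl
  refine ⟨T'', T''.ι ≫ v, t', inferInstance, ?_, l ≫ h, ?_⟩
  · rw [Scheme.Hom.comp_apply, ht']
    have e1 : v (s (W'.ι w)) = i (pullback.fst i v (W'.ι w)) := by
      rw [← Scheme.Hom.comp_apply, ← Scheme.Hom.comp_apply]
      exact congrArg (fun φ : P ⟶ T => φ (W'.ι w)) pullback.condition.symm
    have e2 : pullback.fst i v (W'.ι w) = g (h w) := by
      rw [← Scheme.Hom.comp_apply, ← Scheme.Hom.comp_apply]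
      exact congrArg (fun φ : (W' : Scheme.{u}) ⟶ Z => φ w) hh.symm
    rw [e1, e2]
    exact congrArg (fun z => i (g z)) hw
  · rw [Category.assoc, hh]
    change l ≫ W'.ι ≫ pullback.fst i v = _
    rw [reassoc_of% hl]
    exact bcMap_fst i v T''.ι

/-- Generic almost cocontinuity of base change along a closed immersion, for a precoverage whose
covering sieves are exactly the sieves containing étale maps through every point. -/
theorem almostCocontinuous_aux {X Y : Scheme.{u}} (f : X ⟶ Y) [IsClosedImmersion f]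
    (K : Precoverage Scheme.{u})
    (hK1 : ∀ {S : Scheme.{u}} {R : Sieve S}, R ∈ K.toGrothendieck S → ∀ s : S,
      ∃ (U : Scheme.{u}) (g : U ⟶ S) (u : U), Etale g ∧ R g ∧ g u = s)
    (hK2 : ∀ {S : Scheme.{u}} (R : Sieve S), (∀ s : S,
      ∃ (U : Scheme.{u}) (g : U ⟶ S) (u : U), Etale g ∧ R g ∧ g u = s) → R ∈ K.toGrothendieck S) :
    BigSite.IsAlmostCocontinuous (Over.pullback f) (QuotSh.J K Y) (QuotSh.J K X) := by
  intro V R hR
  rw [GrothendieckTopology.mem_over_iff] at hR
  let R' : Sieve V :=
    { arrows := fun V' g => (⊥ : Sieve ((Over.pullback f).obj V')) ∈ QuotSh.J K X _ ∨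
        R ((Over.pullback f).map g)
      downward_closed := by
        intro V' V'' g hg k
        rcases hg with hg | hg
        · left
          have := (QuotSh.J K X).pullback_stable ((Over.pullback f).map k) hg
          convert this using 1
          ext W a
          simp
        · right
          rw [Functor.map_comp]
          exact R.downward_closed hg _ }
  refine ⟨R', ?_, fun V' g hg => hg⟩
  rw [GrothendieckTopology.mem_over_iff]
  apply hK2
  intro t
  have : IsClosedImmersion (pullback.fst V.hom f) := inferInstance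
  by_cases ht : t ∈ Set.range (pullback.fst V.hom f)
  · obtain ⟨z, rfl⟩ := ht
    obtain ⟨U, g, u, hg, hRg, hgu⟩ := hK1 hR z
    have : Etale g := hg
    obtain ⟨T', v, t', hv, hvt, h, hh⟩ := exists_etale_lift (pullback.fst V.hom f) g u
    refine ⟨T', v, t', hv, ?_, by rw [hvt, hgu]⟩
    rw [Sieve.overEquiv_iff]
    right
    rw [Sieve.overEquiv_iff] at hRg
    let c : pullback (v ≫ V.hom) f ⟶ pullback (pullback.fst V.hom f) v :=
      pullback.lift (pullback.lift (pullback.fst _ _ ≫ v) (pullback.snd _ _)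
        (by simp [pullback.condition])) (pullback.fst _ _) (pullback.lift_fst _ _ _)
    have hc : c ≫ pullback.fst (pullback.fst V.hom f) v =
        pullback.lift (pullback.fst _ _ ≫ v) (pullback.snd _ _)
          (by simp [pullback.condition]) := pullback.lift_fst _ _ _
    have e : (Over.pullback f).map (Over.homMk v : Over.mk (v ≫ V.hom) ⟶ V) =
        (Over.homMk (c ≫ h) (by
          change (c ≫ h) ≫ g ≫ pullback.snd V.hom f = pullback.snd (v ≫ V.hom) f
          rw [Category.assoc, reassoc_of% hh, reassoc_of% hc, pullback.lift_snd]) :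
          (Over.pullback f).obj (Over.mk (v ≫ V.hom)) ⟶
            Over.mk (g ≫ ((Over.pullback f).obj V).hom)) ≫ Over.homMk g := by
      apply Over.OverMorphism.ext
      change pullback.lift (pullback.fst _ _ ≫ v) (pullback.snd _ _) _ = (c ≫ h) ≫ g
      rw [Category.assoc, hh, hc]
    rw [e]
    exact R.downward_closed hRg _
  · let O : V.left.Opens := ⟨(Set.range (pullback.fst V.hom f))ᶜ,
      (pullback.fst V.hom f).isClosedEmbedding.isClosed_range.isOpen_compl⟩
    let t₀ : (O : Scheme.{u}) := ⟨t, ht⟩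
    refine ⟨O, O.ι, t₀, inferInstance, ?_, rfl⟩
    rw [Sieve.overEquiv_iff]
    left
    rw [GrothendieckTopology.mem_over_iff]
    apply hK2
    intro s
    exfalso
    let s' : (pullback (O.ι ≫ V.hom) f : Scheme.{u}) := s
    let b : pullback (O.ι ≫ V.hom) f ⟶ pullback V.hom f :=
      pullback.lift (pullback.fst _ _ ≫ O.ι) (pullback.snd _ _) (by simp [pullback.condition])
    have hb : b ≫ pullback.fst V.hom f = pullback.fst _ _ ≫ O.ι := pullback.lift_fst _ _ _
    have h1 : pullback.fst V.hom f (b s') = O.ι (pullback.fst (O.ι ≫ V.hom) f s') := by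
      rw [← Scheme.Hom.comp_apply, hb, Scheme.Hom.comp_apply]
    have h2 : O.ι (pullback.fst (O.ι ≫ V.hom) f s') ∈ (O : Set V.left) :=
      (pullback.fst (O.ι ≫ V.hom) f s').2
    exact h2 ⟨b s', h1⟩

/-- a sieve containing étale maps through every point is covering for `precoverage P`, `Etale ≤ P` -/
theorem mem_toGrothendieck_of_etale (P : MorphismProperty Scheme.{u}) (hP : ∀ {A B : Scheme.{u}}
    (g : A ⟶ B), Etale g → P g) {S : Scheme.{u}} (R : Sieve S) (H : ∀ s : S,
      ∃ (U : Scheme.{u}) (g : U ⟶ S) (u : U), Etale g ∧ R g ∧ g u = s) :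
    R ∈ (Scheme.precoverage P).toGrothendieck S := by
  choose U g u hg hR hu using H
  have h1 : Presieve.ofArrows U g ∈ Scheme.precoverage P S := by
    rw [Scheme.ofArrows_mem_precoverage_iff]
    exact ⟨fun s => ⟨s, u s, hu s⟩, fun s => hP _ (hg s)⟩
  refine GrothendieckTopology.superset_covering _ ?_ (Precoverage.generate_mem_toGrothendieck h1)
  rw [Sieve.generate_le_iff]
  rintro W a ⟨s⟩
  exact hR s

set_option backward.isDefEq.respectTransparency.types false in
theorem exists_etale_of_mem_etale {S : Scheme.{u}} {R : Sieve S}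
    (hR : R ∈ (Scheme.precoverage @Etale).toGrothendieck S) (s : S) :
    ∃ (U : Scheme.{u}) (g : U ⟶ S) (u : U), Etale g ∧ R g ∧ g u = s := by
  rw [Precoverage.mem_toGrothendieck_iff_of_isStableUnderComposition] at hR
  obtain ⟨R₀, hR₀, hle⟩ := hR
  obtain ⟨U, g, hg, u, hu⟩ := Scheme.JointlySurjective.exists_eq R₀ hR₀ s
  exact ⟨U, g, u, hR₀.2 hg, hle _ _ hg, hu⟩

theorem containsIdentities_smooth :
    MorphismProperty.ContainsIdentities (@Smooth : MorphismProperty Scheme.{u}) :=
  ⟨fun _ => inferInstance⟩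

attribute [local instance] containsIdentities_smooth in
set_option backward.isDefEq.respectTransparency.types false in
theorem exists_etale_of_mem_smooth {S : Scheme.{u}} {R : Sieve S}
    (hR : R ∈ (Scheme.precoverage @Smooth).toGrothendieck S) (s : S) :
    ∃ (U : Scheme.{u}) (g : U ⟶ S) (u : U), Etale g ∧ R g ∧ g u = s := by
  rw [Precoverage.mem_toGrothendieck_iff_of_isStableUnderComposition] at hR
  obtain ⟨R₀, hR₀, hle⟩ := hR
  obtain ⟨U, g, hg, u, hu⟩ := Scheme.JointlySurjective.exists_eq R₀ hR₀ s
  have : Smooth g := hR₀.2 hg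
  obtain ⟨U', g', u', hg', hu', h, hh⟩ :=
    Groth.Agent.Lib.Helper20.SmoothSec.exists_etale_section_of_smooth g u
  refine ⟨U', g', u', hg', ?_, hu'.trans hu⟩
  rw [← hh]
  exact R.downward_closed (hle _ _ hg) h

theorem almostCocontinuous {X Y : Scheme.{u}} (f : X ⟶ Y) [IsClosedImmersion f]
    (K : Precoverage Scheme.{u})
    (hK : K = Scheme.etalePrecoverage ∨ K = Scheme.precoverage @Smooth) :
    BigSite.IsAlmostCocontinuous (Over.pullback f) (QuotSh.J K Y) (QuotSh.J K X) := by
  rcases hK with rfl | rfl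
  · exact almostCocontinuous_aux f _ (fun hR s => exists_etale_of_mem_etale hR s)
      (fun R H => mem_toGrothendieck_of_etale @Etale (fun _ h => h) R H)
  · exact almostCocontinuous_aux f _ (fun hR s => exists_etale_of_mem_smooth hR s)
      (fun R H => mem_toGrothendieck_of_etale @Smooth (fun g h => by
        have : Etale g := h
        infer_instance) R H)

end Groth.Agent.Lib.Seat1.ClosedLift
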