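import Mathlib

/-!
# Fibres of a direct image at a point versus finitely many points upstairs (seat 1)

Abstract comparison: sites `(C, J)`, `(D, K)`, a functor `F : C ⥤ D`, a point `Φ` of `(C, J)`, a family of points
`Ψ ξ` of `(D, K)` and natural maps `θ ξ : Φ.fiber ⟶ F ⋙ (Ψ ξ).fiber`.  For a presheaf `P` on `D` we compare the fibre
of `F.op ⋙ P` at `Φ` with the product of the fibres of `P` at the `Ψ ξ`, and show that the comparison is bijective
under a "splitting" hypothesis.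
-/

set_option autoImplicit false
set_option linter.unusedSectionVars false
universe w w' v v₂ u u₂ v' u'
open CategoryTheory CategoryTheory.Limits Opposite

namespace Groth.Agent.Lib.Seat1.StalkAbs

open GrothendieckTopology

variable {C : Type u} [Category.{v} C] {D : Type u₂} [Category.{v₂} D]
  {J : GrothendieckTopology C} {K : GrothendieckTopology D}
  (F : C ⥤ D) (Φ : Point.{w} J) {Ξ : Type*} (Ψ : Ξ → Point.{w} K)
  (θ : ∀ ξ, Φ.fiber ⟶ F ⋙ (Ψ ξ).fiber)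
  {A : Type u'} [Category.{v'} A] [HasColimitsOfSize.{w, w} A]

/-- the comparison map from the fibre of `F.op ⋙ P` at `Φ` to the fibre of `P` at `Ψ ξ` -/
noncomputable def cmp (ξ : Ξ) (P : Dᵒᵖ ⥤ A) :
    Φ.presheafFiber.obj (F.op ⋙ P) ⟶ (Ψ ξ).presheafFiber.obj P :=
  Φ.presheafFiberDesc (fun V y => (Ψ ξ).toPresheafFiber (F.obj V) ((θ ξ).app V y) P) (by
    intro V V' g y
    have h1 : (Ψ ξ).fiber.map (F.map g) ((θ ξ).app V y) = (θ ξ).app V' (Φ.fiber.map g y) :=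
      (ConcreteCategory.congr_hom ((θ ξ).naturality g) y).symm
    change P.map (F.map g).op ≫ _ = _
    rw [Point.toPresheafFiber_w, h1])

@[reassoc (attr := simp)]
lemma toPresheafFiber_cmp (ξ : Ξ) (P : Dᵒᵖ ⥤ A) (V : C) (y : Φ.fiber.obj V) :
    Φ.toPresheafFiber V y (F.op ⋙ P) ≫ cmp F Φ Ψ θ ξ P =
      (Ψ ξ).toPresheafFiber (F.obj V) ((θ ξ).app V y) P :=
  Point.toPresheafFiber_presheafFiberDesc _ _ _ _ _

@[reassoc]
lemma cmp_naturality (ξ : Ξ) {P Q : Dᵒᵖ ⥤ A} (φ : P ⟶ Q) :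
    Φ.presheafFiber.map (Functor.whiskerLeft F.op φ) ≫ cmp F Φ Ψ θ ξ Q =
      cmp F Φ Ψ θ ξ P ≫ (Ψ ξ).presheafFiber.map φ := by
  apply Point.presheafFiber_hom_ext
  intro V y
  rw [Point.toPresheafFiber_naturality_assoc, toPresheafFiber_cmp, toPresheafFiber_cmp_assoc,
    Point.toPresheafFiber_naturality]
  rfl

/-- the comparison as a natural transformation -/
noncomputable def cmpNat (ξ : Ξ) :
    (Functor.whiskeringLeft _ _ A).obj F.op ⋙ Φ.presheafFiber ⟶ (Ψ ξ).presheafFiber where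
  app P := cmp F Φ Ψ θ ξ P
  naturality _ _ φ := cmp_naturality F Φ Ψ θ ξ φ

variable {FC : A → A → Type*} {CC : A → Type w'}
  [∀ (X Y : A), FunLike (FC X Y) (CC X) (CC Y)]
  [ConcreteCategory.{w'} A FC]
  [PreservesFilteredColimitsOfSize.{w, w} (forget A)] [LocallySmall.{w} C] [LocallySmall.{w} D]

lemma cmp_toPresheafFiber_apply (ξ : Ξ) (P : Dᵒᵖ ⥤ A) (V : C) (y : Φ.fiber.obj V)
    (s : ToType (P.obj (op (F.obj V)))) :
    cmp F Φ Ψ θ ξ P (Φ.toPresheafFiber V y (F.op ⋙ P) s) =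
      (Ψ ξ).toPresheafFiber (F.obj V) ((θ ξ).app V y) P s := by
  have := ConcreteCategory.congr_hom (toPresheafFiber_cmp F Φ Ψ θ ξ P V y) s
  rwa [ConcreteCategory.comp_apply] at this

/-- **Bijectivity of the comparison** under the splitting hypothesis. -/
theorem cmp_bijective (P : Dᵒᵖ ⥤ A)
    (H0 : ∃ (V0 : C) (_ : Φ.fiber.obj V0), (∀ U : D, Nonempty (U ⟶ F.obj V0)) ∧
      ∀ ξ, Subsingleton ((Ψ ξ).fiber.obj (F.obj V0)))
    (H : ∀ (V : C) (y : Φ.fiber.obj V) (U : Ξ → D) (x : ∀ ξ, (Ψ ξ).fiber.obj (U ξ))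
      (m : ∀ ξ, U ξ ⟶ F.obj V), (∀ ξ, (Ψ ξ).fiber.map (m ξ) (x ξ) = (θ ξ).app V y) →
      ∃ (V' : C) (g : V' ⟶ V) (y' : Φ.fiber.obj V') (W : Ξ → D) (i : ∀ ξ, W ξ ⟶ F.obj V')
        (w : ∀ ξ, (Ψ ξ).fiber.obj (W ξ)) (b : ∀ ξ, W ξ ⟶ U ξ),
        Φ.fiber.map g y' = y ∧ (∀ ξ, (Ψ ξ).fiber.map (i ξ) (w ξ) = (θ ξ).app V' y') ∧
        (∀ ξ, b ξ ≫ m ξ = i ξ ≫ F.map g) ∧ (∀ ξ, (Ψ ξ).fiber.map (b ξ) (w ξ) = x ξ) ∧
        Function.Bijective (fun (s : ToType (P.obj (op (F.obj V')))) (ξ : Ξ) =>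
          (ConcreteCategory.hom (P.map (i ξ).op)) s)) :
    Function.Bijective (fun (s : ToType (Φ.presheafFiber.obj (F.op ⋙ P))) (ξ : Ξ) =>
      (ConcreteCategory.hom (cmp F Φ Ψ θ ξ P)) s) := by
  constructor
  · -- injectivity
    intro s₁ s₂ hs
    obtain ⟨V, y, z₁, z₂, rfl, rfl⟩ := Φ.toPresheafFiber_jointly_surjective₂ s₁ s₂
    have hs' : ∀ ξ, (Ψ ξ).toPresheafFiber (F.obj V) ((θ ξ).app V y) P z₁ =
        (Ψ ξ).toPresheafFiber (F.obj V) ((θ ξ).app V y) P z₂ := by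
      intro ξ
      have h1 := congrFun hs ξ
      dsimp only at h1
      rwa [cmp_toPresheafFiber_apply, cmp_toPresheafFiber_apply] at h1
    choose U m x hm heq using fun ξ => ((Ψ ξ).toPresheafFiber_eq_iff' _ _ _ _).1 (hs' ξ)
    obtain ⟨V', g, y', W, i, w, b, hy', hw, hb, hbx, hbij⟩ := H V y U x m hm
    have key : (ConcreteCategory.hom (P.map (F.map g).op)) z₁ =
        (ConcreteCategory.hom (P.map (F.map g).op)) z₂ := by
      apply hbij.1
      funext ξ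
      dsimp only
      have e : ∀ z : ToType (P.obj (op (F.obj V))),
          (ConcreteCategory.hom (P.map (i ξ).op)) ((ConcreteCategory.hom (P.map (F.map g).op)) z) =
          (ConcreteCategory.hom (P.map (b ξ).op)) ((ConcreteCategory.hom (P.map (m ξ).op)) z) := by
        intro z
        rw [← ConcreteCategory.comp_apply, ← ConcreteCategory.comp_apply, ← P.map_comp,
          ← P.map_comp, ← op_comp, ← op_comp, hb ξ]
      rw [e, e, heq ξ]
    rw [← hy']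
    have e1 := Φ.toPresheafFiber_w_apply g y' (F.op ⋙ P) z₁
    have e2 := Φ.toPresheafFiber_w_apply g y' (F.op ⋙ P) z₂
    rw [← e1, ← e2]
    exact congrArg _ key
  · -- surjectivity
    intro t
    choose U x z hz using fun ξ => (Ψ ξ).toPresheafFiber_jointly_surjective (t ξ)
    obtain ⟨V0, y0, hmaps, hsub⟩ := H0
    let m : ∀ ξ, U ξ ⟶ F.obj V0 := fun ξ => (hmaps (U ξ)).some
    have hm : ∀ ξ, (Ψ ξ).fiber.map (m ξ) (x ξ) = (θ ξ).app V0 y0 :=
      fun ξ => (hsub ξ).elim _ _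
    obtain ⟨V', g, y', W, i, w, b, hy', hw, hb, hbx, hbij⟩ := H V0 y0 U x m hm
    obtain ⟨s0, hs0⟩ := hbij.2 (fun ξ => (ConcreteCategory.hom (P.map (b ξ).op)) (z ξ))
    refine ⟨Φ.toPresheafFiber V' y' (F.op ⋙ P) s0, ?_⟩
    funext ξ
    dsimp only
    rw [cmp_toPresheafFiber_apply, ← hw ξ, ← (Ψ ξ).toPresheafFiber_w_apply (i ξ) (w ξ) P s0]
    have h1 := congrFun hs0 ξ
    dsimp only at h1
    rw [h1, (Ψ ξ).toPresheafFiber_w_apply (b ξ) (w ξ) P (z ξ), hbx ξ, hz ξ]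

end Groth.Agent.Lib.Seat1.StalkAbs
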