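import Mathlib
import Groth.Agent.Lib.Seat1FinSplitAlg
import Groth.Agent.Lib.Seat1IntHensel

/-!
# Separating the geometric points of a finite algebra étale-locally (seat 1, algebra part)

`R` a ring, `Ω` an algebraically closed field over `R`, `S` a finite `R`-algebra.  After an étale
localisation `R → C` at the geometric point, `S ⊗ C` carries a complete family of orthogonal
idempotents, each of which contains at most one `Ω`-point of `S` over the given point of `C`.
-/

set_option autoImplicit false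
set_option linter.style.haveILetI false
set_option linter.unusedSectionVars false
universe u
open IsLocalRing TensorProduct

namespace Groth.Agent.Lib.Seat1.StalkAlg

open Groth.Agent.Lib.Seat1.ShSys Groth.Agent.Lib.Seat1.FinSplitAlg Groth.Agent.Lib.Seat1.IntHensel

/-- a ring map from a finite product to a field is supported on exactly one factor -/
theorem existsUnique_single {κ : Type*} [Fintype κ] [DecidableEq κ] (B : κ → Type*)
    [∀ k, CommRing (B k)] {Ω : Type*} [Field Ω] (Ψ : (Π k, B k) →+* Ω) :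
    ∃! k, Ψ (Pi.single k 1) = 1 := by
  have h01 : ∀ k, Ψ (Pi.single k 1) = 0 ∨ Ψ (Pi.single k 1) = 1 := by
    intro k
    have h : Ψ (Pi.single k 1) * Ψ (Pi.single k 1) = Ψ (Pi.single k 1) := by
      rw [← map_mul, ← Pi.single_mul, mul_one]
    rcases eq_or_ne (Ψ (Pi.single k 1)) 0 with h0 | h0
    · exact Or.inl h0
    · right
      exact mul_left_cancel₀ h0 (h.trans (mul_one _).symm)
  have hsum : ∑ k, Ψ (Pi.single k (1 : B k)) = 1 := by
    rw [← map_sum, Finset.univ_sum_single]
    exact map_one Ψ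
  have hex : ∃ k, Ψ (Pi.single k 1) = 1 := by
    by_contra hcon
    push Not at hcon
    have : ∑ k, Ψ (Pi.single k (1 : B k)) = 0 :=
      Finset.sum_eq_zero fun k _ => (h01 k).resolve_right (hcon k)
    rw [this] at hsum
    exact zero_ne_one hsum
  obtain ⟨k, hk⟩ := hex
  refine ⟨k, hk, fun l hl => ?_⟩
  by_contra hlk
  have h0 : (Pi.single l (1 : B l) : Π k, B k) * Pi.single k 1 = 0 := by
    ext j
    by_cases hj : j = l
    · subst hj
      simp [Pi.single_eq_of_ne hlk]
    · simp [Pi.single_eq_of_ne hj]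
  have := congrArg Ψ h0
  rw [map_mul, hl, hk, map_zero, mul_one] at this
  exact one_ne_zero this

/-- a ring map to a field from a local ring integral over a local ring `O`, which is local on `O`,
kills the maximal ideal -/
theorem map_eq_zero_of_mem_maximalIdeal (O B : Type u) [CommRing O] [IsLocalRing O] [CommRing B]
    [IsLocalRing B] [Algebra O B] [Algebra.IsIntegral O B] {Ω : Type*} [Field Ω]
    (χ : B →+* Ω) (hloc : IsLocalHom (χ.comp (algebraMap O B))) (b : B)
    (hb : b ∈ maximalIdeal B) : χ b = 0 := by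
  have hker : (RingHom.ker χ).comap (algebraMap O B) = maximalIdeal O := by
    ext r
    rw [Ideal.mem_comap, RingHom.mem_ker]
    constructor
    · intro h0
      by_contra hr
      have hu : IsUnit r := by
        by_contra hnu
        exact hr hnu
      have : IsUnit (χ (algebraMap O B r)) := (hu.map (algebraMap O B)).map χ
      rw [h0] at this
      exact not_isUnit_zero this
    · intro hr
      by_contra h0
      have hu : IsUnit ((χ.comp (algebraMap O B)) r) := IsUnit.mk0 _ h0
      exact hr (hloc.map_nonunit r hu)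
  have hprime : (RingHom.ker χ).IsPrime := RingHom.ker_isPrime χ
  have hmax : (RingHom.ker χ).IsMaximal :=
    Ideal.isMaximal_of_isIntegral_of_isMaximal_comap (R := O) (RingHom.ker χ) (by
      rw [hker]; infer_instance)
  have : RingHom.ker χ = maximalIdeal B := IsLocalRing.eq_maximalIdeal hmax
  have hb' : b ∈ RingHom.ker χ := by rw [this]; exact hb
  exact hb'

/-- **uniqueness of the geometric point** of a local ring integral over a local ring with
separably closed residue field -/
theorem ringHom_ext_of_local (O B : Type u) [CommRing O] [IsLocalRing O]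
    [IsSepClosed (ResidueField O)] [CommRing B] [IsLocalRing B] [Algebra O B]
    [Algebra.IsIntegral O B] {Ω : Type u} [Field Ω]
    (χ χ' : B →+* Ω) (hloc : IsLocalHom (χ.comp (algebraMap O B)))
    (h : χ.comp (algebraMap O B) = χ'.comp (algebraMap O B)) : χ = χ' := by
  haveI := isLocalHom_of_isIntegral O B
  have hloc' : IsLocalHom (χ'.comp (algebraMap O B)) := h ▸ hloc
  have hχ : IsLocalHom χ := ⟨fun b hb => by
    by_contra hnu
    have : χ b = 0 := map_eq_zero_of_mem_maximalIdeal O B χ hloc b hnu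
    rw [this] at hb
    exact not_isUnit_zero hb⟩
  have hχ' : IsLocalHom χ' := ⟨fun b hb => by
    by_contra hnu
    have : χ' b = 0 := map_eq_zero_of_mem_maximalIdeal O B χ' hloc' b hnu
    rw [this] at hb
    exact not_isUnit_zero hb⟩
  haveI : Algebra.IsIntegral O (ResidueField B) := by
    refine ⟨fun x => ?_⟩
    obtain ⟨c, rfl⟩ := IsLocalRing.residue_surjective x
    have hc : IsIntegral O c := Algebra.IsIntegral.isIntegral c
    exact hc.map (IsScalarTower.toAlgHom O B (ResidueField B))
  haveI : Algebra.IsIntegral (ResidueField O) (ResidueField B) :=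
    Algebra.IsIntegral.tower_top (R := O)
  haveI : Algebra.IsAlgebraic (ResidueField O) (ResidueField B) := inferInstance
  haveI : IsPurelyInseparable (ResidueField O) (ResidueField B) := inferInstance
  let χb : ResidueField B →+* Ω := ResidueField.lift χ
  let χb' : ResidueField B →+* Ω := ResidueField.lift χ'
  have e : χb.comp (algebraMap (ResidueField O) (ResidueField B)) =
      χb'.comp (algebraMap (ResidueField O) (ResidueField B)) := by
    apply RingHom.ext
    intro x
    obtain ⟨o, rfl⟩ := IsLocalRing.residue_surjective x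
    change χb (algebraMap (ResidueField O) (ResidueField B) (residue O o)) =
      χb' (algebraMap (ResidueField O) (ResidueField B) (residue O o))
    have e1 : algebraMap (ResidueField O) (ResidueField B) (residue O o) =
        residue B (algebraMap O B o) := rfl
    rw [e1]
    change χ (algebraMap O B o) = χ' (algebraMap O B o)
    exact congrArg (fun ψ : O →+* Ω => ψ o) h
  have e2 : χb = χb' :=
    IsPurelyInseparable.injective_comp_algebraMap (ResidueField O) (ResidueField B) Ω e
  apply RingHom.ext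
  intro b
  change χb (residue B b) = χb' (residue B b)
  rw [e2]

section Main

variable (R : Type u) [CommRing R] (Ω : Type u) [Field Ω] [IsAlgClosed Ω] [Algebra R Ω]
  (S : Type u) [CommRing S] [Algebra R S] [Module.Finite R S]

/-- an idempotent of a field is `0` or `1` -/
lemma eq_one_of_idem_ne_zero {Ω : Type*} [Field Ω] {a : Ω} (h : a * a = a) (h0 : a ≠ 0) : a = 1 :=
  mul_left_cancel₀ h0 (h.trans (mul_one _).symm)

set_option maxHeartbeats 800000 in
/-- **Separation**: after an étale localisation `R → C` at the geometric point, `S ⊗ C` is a finite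
product (the algebra map `ρ` from `κ → S`) and each factor carries at most one `Ω`-point of `S`
compatible with the point of `C`. -/
theorem exists_spread_sep :
    ∃ (κ : Type u) (_ : Finite κ) (_ : DecidableEq κ) (i : Idx R Ω) (ρ : (κ → S) →ₐ[S] S ⊗[R] i.C),
      ∀ (ξ ξ' : S →ₐ[R] Ω) (k : κ),
        Algebra.TensorProduct.productMap ξ i.pt (ρ (Pi.single k 1)) ≠ 0 →
        Algebra.TensorProduct.productMap ξ' i.pt (ρ (Pi.single k 1)) ≠ 0 → ξ = ξ' := by
  classical
  obtain ⟨κ, _, Bk, _, _, _, ⟨e'⟩⟩ := exists_pi_strictlyHenselian (O R Ω) (O R Ω ⊗[R] S)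
  let e : (S ⊗[R] O R Ω) ≃+* Π k, Bk k :=
    (Algebra.TensorProduct.comm R S (O R Ω)).toRingEquiv.trans e'
  let β : ∀ k, S →+* Bk k := fun k =>
    (Pi.evalRingHom Bk k).comp (e.toRingHom.comp
      (Algebra.TensorProduct.includeLeftRingHom : S →+* S ⊗[R] O R Ω))
  obtain ⟨i, ρ, hρ⟩ := exists_algHom_spread R Ω S Bk e (fun _ => S) β (fun k s => rfl)
  refine ⟨κ, inferInstance, inferInstance, i, ρ, ?_⟩
  -- the algebra structures of the factors over `O`
  let π : ∀ k, (O R Ω ⊗[R] S) →+* Bk k := fun k => (Pi.evalRingHom Bk k).comp e'.toRingHom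
  have hπ : ∀ k, Function.Surjective (π k) := fun k =>
    (Function.surjective_eval k).comp e'.surjective
  letI : ∀ k, Algebra (O R Ω) (Bk k) := fun k =>
    ((π k).comp (algebraMap (O R Ω) (O R Ω ⊗[R] S))).toAlgebra
  haveI : ∀ k, Algebra.IsIntegral (O R Ω) (Bk k) := fun k => by
    refine ⟨fun b => ?_⟩
    obtain ⟨t, rfl⟩ := hπ k b
    have ht : IsIntegral (O R Ω) t := Algebra.IsIntegral.isIntegral t
    let πa : (O R Ω ⊗[R] S) →ₐ[O R Ω] Bk k := { π k with commutes' := fun r => rfl }
    exact ht.map πa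
  -- the evaluation on `S ⊗ O` attached to a point
  let Ψ : (S →ₐ[R] Ω) → (S ⊗[R] O R Ω →ₐ[R] Ω) := fun ξ =>
    Algebra.TensorProduct.productMap ξ (evₐ R Ω)
  have hΨ : ∀ (ξ : S →ₐ[R] Ω) (t : S ⊗[R] i.C),
      Ψ ξ (Algebra.TensorProduct.map (AlgHom.id S S) (germ R Ω i) t) =
        Algebra.TensorProduct.productMap ξ i.pt t := by
    intro ξ t
    induction t using TensorProduct.induction_on with
    | zero => simp
    | tmul s c =>
      change Ψ ξ (s ⊗ₜ germ R Ω i c) = _
      rw [Algebra.TensorProduct.productMap_apply_tmul, Algebra.TensorProduct.productMap_apply_tmul]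
      congr 1
      exact evₐ_germOf R Ω i.C i.pt c
    | add a b ha hb => rw [map_add, map_add, map_add, ha, hb]
  let Θ : (S →ₐ[R] Ω) → ((Π k, Bk k) →+* Ω) := fun ξ =>
    (Ψ ξ).toRingHom.comp e.symm.toRingHom
  have hΘ : ∀ (ξ : S →ₐ[R] Ω) (k : κ),
      Algebra.TensorProduct.productMap ξ i.pt (ρ (Pi.single k 1)) = Θ ξ (Pi.single k 1) := by
    intro ξ k
    rw [← hΨ]
    have h1 : e (Algebra.TensorProduct.map (AlgHom.id S S) (germ R Ω i) (ρ (Pi.single k 1))) =
        Pi.single k 1 := by
      funext k'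
      rw [hρ]
      by_cases hk : k' = k
      · subst hk
        rw [Pi.single_eq_same, Pi.single_eq_same, map_one]
      · rw [Pi.single_eq_of_ne hk, Pi.single_eq_of_ne hk, map_zero]
    change _ = (Ψ ξ) (e.symm (Pi.single k 1))
    rw [← h1, e.symm_apply_apply]
  intro ξ ξ' k h h'
  rw [hΘ] at h h'
  have hid : ∀ ζ : S →ₐ[R] Ω, Θ ζ (Pi.single k 1) * Θ ζ (Pi.single k 1) = Θ ζ (Pi.single k 1) := by
    intro ζ
    rw [← map_mul, ← Pi.single_mul, mul_one]
  have h1 : Θ ξ (Pi.single k 1) = 1 := eq_one_of_idem_ne_zero (hid ξ) h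
  have h1' : Θ ξ' (Pi.single k 1) = 1 := eq_one_of_idem_ne_zero (hid ξ') h'
  -- the induced points of the factor
  let mkχ : ∀ ζ : S →ₐ[R] Ω, Θ ζ (Pi.single k 1) = 1 → (Bk k →+* Ω) := fun ζ hζ =>
    { toFun := fun b => Θ ζ (Pi.single k b)
      map_one' := hζ
      map_mul' := fun a b => by rw [← map_mul, ← Pi.single_mul]
      map_zero' := by rw [Pi.single_zero, map_zero]
      map_add' := fun a b => by rw [← map_add, ← Pi.single_add] }
  have hfac : ∀ (ζ : S →ₐ[R] Ω) (hζ : Θ ζ (Pi.single k 1) = 1) (x : Π k, Bk k),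
      Θ ζ x = mkχ ζ hζ (x k) := by
    intro ζ hζ x
    change Θ ζ x = Θ ζ (Pi.single k (x k))
    have hx : (Pi.single k (x k) : Π k, Bk k) = Pi.single k 1 * x := by
      funext k'
      by_cases hk : k' = k
      · subst hk
        simp
      · simp [Pi.single_eq_of_ne hk]
    rw [hx, map_mul, hζ, one_mul]
  have hO : ∀ (ζ : S →ₐ[R] Ω) (hζ : Θ ζ (Pi.single k 1) = 1),
      (mkχ ζ hζ).comp (algebraMap (O R Ω) (Bk k)) = (evₐ R Ω).toRingHom := by
    intro ζ hζ
    apply RingHom.ext
    intro o
    change mkχ ζ hζ (e' (algebraMap (O R Ω) (O R Ω ⊗[R] S) o) k) = evₐ R Ω o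
    have e1 : e' (algebraMap (O R Ω) (O R Ω ⊗[R] S) o) = e ((1 : S) ⊗ₜ[R] o) := by
      change _ = e' ((Algebra.TensorProduct.comm R S (O R Ω)) ((1 : S) ⊗ₜ[R] o))
      rw [Algebra.TensorProduct.comm_tmul, Algebra.TensorProduct.algebraMap_apply]
      rfl
    rw [e1, ← hfac ζ hζ]
    change Ψ ζ (e.symm (e ((1 : S) ⊗ₜ[R] o))) = _
    rw [e.symm_apply_apply]
    change Algebra.TensorProduct.productMap ζ (evₐ R Ω) ((1 : S) ⊗ₜ[R] o) = _
    rw [Algebra.TensorProduct.productMap_apply_tmul, map_one, one_mul]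
  have hloc : IsLocalHom ((mkχ ξ h1).comp (algebraMap (O R Ω) (Bk k))) := by
    rw [hO]
    exact Groth.Agent.Lib.Seat1.ShLocal.isLocalHom_ev (ξ := η R Ω)
  have hχ : mkχ ξ h1 = mkχ ξ' h1' :=
    ringHom_ext_of_local (O R Ω) (Bk k) _ _ hloc ((hO ξ h1).trans (hO ξ' h1').symm)
  apply AlgHom.ext
  intro s
  have hs : ∀ (ζ : S →ₐ[R] Ω) (hζ : Θ ζ (Pi.single k 1) = 1), ζ s = mkχ ζ hζ (β k s) := by
    intro ζ hζ
    have : ζ s = Θ ζ (e (s ⊗ₜ[R] (1 : O R Ω))) := by
      change _ = Ψ ζ (e.symm (e (s ⊗ₜ[R] (1 : O R Ω))))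
      rw [e.symm_apply_apply]
      change _ = Algebra.TensorProduct.productMap ζ (evₐ R Ω) (s ⊗ₜ[R] (1 : O R Ω))
      rw [Algebra.TensorProduct.productMap_apply_tmul, map_one, mul_one]
    rw [this, hfac ζ hζ]
    rfl
  rw [hs ξ h1, hs ξ' h1', hχ]

end Main

end Groth.Agent.Lib.Seat1.StalkAlg
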