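import Mathlib
import Groth.Prelude.Def_EtBaseX
import Groth.Agent.Lib.Seat1FinSplit
import Groth.Agent.Lib.Seat1StalkAlg
import Groth.Agent.Lib.Helper16SmallEtale

/-!
# Separating the geometric points of the fibres of a finite morphism étale-locally (seat 1)

For `f : X ⟶ Y` finite and a geometric point of `Y` with algebraically closed field, after an étale
localisation `V` of `Y` at the point, `X ×_Y V` is covered by finitely many pairwise disjoint opens
each of which contains at most one geometric point over the given one.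
-/

set_option autoImplicit false
set_option linter.style.haveILetI false
set_option linter.unusedSectionVars false
universe u
open CategoryTheory CategoryTheory.Limits AlgebraicGeometry Opposite IsLocalRing TensorProduct

namespace Groth.Agent.Lib.Seat1.StalkSep

open Groth.Agent.Lib.Seat1.ShSys Groth.Agent.Lib.Seat1.FinSplitAlg Groth.Agent.Lib.Seat1.FinHensel
  Groth.Agent.Lib.Seat1.FinSplit Groth.Agent.Lib.Seat1.StalkAlg Groth.Agent.Lib.Helper16.SmallEtale

section Core

variable {X Y : Scheme.{u}} (f : X ⟶ Y) [IsFinite f] (R : Type u) [CommRing R]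
  (Ω : Type u) [Field Ω] [IsAlgClosed Ω] [Algebra R Ω]
  (q : Spec (CommRingCat.of R) ⟶ Y) [Etale q]

set_option maxHeartbeats 1600000 in
/-- affine form of the separation statement -/
theorem sep_core :
    ∃ (i : Idx R Ω) (n : ℕ) (W : Fin n → ((EtCoh.bc f).obj (VV R q i.C)).left.Opens),
      (∀ k l, k ≠ l → Disjoint (W k) (W l)) ∧ (∀ z, ∃ k, z ∈ W k) ∧
      ∀ (k : Fin n) (z z' : Spec (CommRingCat.of Ω) ⟶ ((EtCoh.bc f).obj (VV R q i.C)).left),
        z ≫ pullback.fst (VV R q i.C).hom f = Spec.map (CommRingCat.ofHom i.pt.toRingHom) →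
        z' ≫ pullback.fst (VV R q i.C).hom f = Spec.map (CommRingCat.ofHom i.pt.toRingHom) →
        z default ∈ W k → z' default ∈ W k → z = z' := by
  let V0 : Y.Etale := Scheme.Etale.mk q
  let Z0 : X.Etale := (EtCoh.bc f).obj V0
  let P : Scheme.{u} := Z0.left
  let p1 : P ⟶ Spec (CommRingCat.of R) := pullback.fst V0.hom f
  haveI : IsFinite p1 := inferInstanceAs (IsFinite (pullback.fst q f))
  haveI : IsAffine P := isAffine_of_isAffineHom p1
  let S : CommRingCat.{u} := Γ(P, ⊤)
  let φ : CommRingCat.of R ⟶ S := (Scheme.ΓSpecIso (CommRingCat.of R)).inv ≫ p1.appTop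
  have hφfin : φ.hom.Finite := by
    have h1 : p1.appTop.hom.Finite := p1.finite_appTop
    have h2 : (Scheme.ΓSpecIso (CommRingCat.of R)).inv.hom.Finite :=
      RingHom.Finite.of_surjective _
        ((ConcreteCategory.bijective_of_isIso (Scheme.ΓSpecIso (CommRingCat.of R)).inv).2)
    exact h1.comp h2
  letI : Algebra R S := φ.hom.toAlgebra
  haveI : Module.Finite R S := hφfin
  obtain ⟨κ, _, _, i, ρ, hsep⟩ := exists_spread_sep R Ω S
  -- the étale neighbourhood
  let V : Y.Etale := VV R q i.C
  let g : V ⟶ V0 := gg R q i.C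
  let Z : X.Etale := (EtCoh.bc f).obj V
  let P' : Scheme.{u} := Z.left
  let p1' : P' ⟶ Spec (CommRingCat.of i.C) := pullback.fst V.hom f
  let u : P' ⟶ P := ((EtCoh.bc f).map g).left
  let ai : CommRingCat.of R ⟶ CommRingCat.of i.C := CommRingCat.ofHom (algebraMap R i.C)
  have hsq : u ≫ p1 = p1' ≫ Spec.map ai := (EtCoh.isPullback_bc_map f g).w
  have husnd : u ≫ pullback.snd V0.hom f = pullback.snd V.hom f := bc_map_left_snd f g
  let G : CommRingCat.{u} := Γ(P', ⊤)
  letI : Algebra R G := (u.appTop.hom.comp (algebraMap R S)).toAlgebra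
  let fS : S →ₐ[R] G := { u.appTop.hom with commutes' := fun r => rfl }
  let γ : CommRingCat.of i.C ⟶ G := (Scheme.ΓSpecIso (CommRingCat.of i.C)).inv ≫ p1'.appTop
  have hγ : ai ≫ γ = φ ≫ u.appTop := by
    change ai ≫ (Scheme.ΓSpecIso (CommRingCat.of i.C)).inv ≫ p1'.appTop =
      ((Scheme.ΓSpecIso (CommRingCat.of R)).inv ≫ p1.appTop) ≫ u.appTop
    rw [← Category.assoc, Scheme.ΓSpecIso_inv_naturality, Category.assoc, Category.assoc,
      ← Scheme.Hom.comp_appTop, ← Scheme.Hom.comp_appTop, hsq]
  let fC : i.C →ₐ[R] G :=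
    { γ.hom with
      commutes' := fun r => congrArg (fun m : CommRingCat.of R ⟶ G => m.hom r) hγ }
  let θ₀ : S ⊗[R] i.C →ₐ[R] G := Algebra.TensorProduct.productMap fS fC
  let θ : (κ → (S : Type u)) →+* G := (θ₀ : S ⊗[R] i.C →+* G).comp ρ.toRingHom
  let m : P' ⟶ Spec (CommRingCat.of (κ → (S : Type u))) :=
    P'.toSpecΓ ≫ Spec.map (CommRingCat.ofHom θ)
  -- the disjoint opens
  obtain ⟨n, ⟨en⟩⟩ := Finite.exists_equiv_fin κ
  let W : Fin n → P'.Opens := fun l => m ⁻¹ᵁ (pr (fun _ : κ => (S : Type u)) (en.symm l)).opensRange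
  refine ⟨i, n, W, ?_, ?_, ?_⟩
  · intro l l' hll'
    have := disjoint_opensRange_pr (fun _ : κ => (S : Type u)) (en.symm l) (en.symm l')
      (fun h => hll' (en.symm.injective h))
    rw [← TopologicalSpace.Opens.coe_disjoint] at this ⊢
    exact this.preimage _
  · intro z
    obtain ⟨k, hk⟩ := exists_mem_opensRange_pr (fun _ : κ => (S : Type u)) (m z)
    refine ⟨en k, ?_⟩
    change m z ∈ (pr (fun _ : κ => (S : Type u)) (en.symm (en k))).opensRange
    rwa [en.symm_apply_apply]
  · -- separation
    intro l z z' hz hz' hzW hz'W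
    let k := en.symm l
    let ΓΩ : CommRingCat.{u} := Γ(Spec (CommRingCat.of Ω), ⊤)
    let isoΩ : ΓΩ ≅ CommRingCat.of Ω := Scheme.ΓSpecIso (CommRingCat.of Ω)
    -- evaluation of global functions at a geometric point
    let ev : (Spec (CommRingCat.of Ω) ⟶ P') → (G →+* Ω) := fun w =>
      isoΩ.hom.hom.comp w.appTop.hom
    have hevC : ∀ w : Spec (CommRingCat.of Ω) ⟶ P',
        w ≫ p1' = Spec.map (CommRingCat.ofHom i.pt.toRingHom) →
        ∀ c : i.C, ev w (fC c) = i.pt c := by
      intro w hw c
      have h1 : γ ≫ w.appTop ≫ isoΩ.hom = CommRingCat.ofHom i.pt.toRingHom := by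
        change ((Scheme.ΓSpecIso (CommRingCat.of i.C)).inv ≫ p1'.appTop) ≫ w.appTop ≫ isoΩ.hom = _
        rw [Category.assoc, ← Category.assoc p1'.appTop, ← Scheme.Hom.comp_appTop, hw,
          Scheme.ΓSpecIso_naturality, ← Category.assoc, Iso.inv_hom_id, Category.id_comp]
      exact congrArg (fun mm : CommRingCat.of i.C ⟶ CommRingCat.of Ω => mm.hom c) h1
    -- the point of `S` attached to a geometric point
    let pt : ∀ w : Spec (CommRingCat.of Ω) ⟶ P',
        w ≫ p1' = Spec.map (CommRingCat.ofHom i.pt.toRingHom) → (S →ₐ[R] Ω) := fun w hw =>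
      { (ev w).comp fS.toRingHom with
        commutes' := fun r => by
          change ev w (fS (algebraMap R S r)) = algebraMap R Ω r
          rw [fS.commutes, ← fC.commutes, hevC w hw, i.pt.commutes] }
    have hprod : ∀ (w : Spec (CommRingCat.of Ω) ⟶ P')
        (hw : w ≫ p1' = Spec.map (CommRingCat.ofHom i.pt.toRingHom)) (t : S ⊗[R] i.C),
        ev w (θ₀ t) = Algebra.TensorProduct.productMap (pt w hw) i.pt t := by
      intro w hw t
      induction t using TensorProduct.induction_on with
      | zero => simp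
      | tmul s c =>
        rw [Algebra.TensorProduct.productMap_apply_tmul, Algebra.TensorProduct.productMap_apply_tmul,
          map_mul, hevC w hw]
        rfl
      | add a b ha hb => rw [map_add, map_add, map_add, ha, hb]
    -- membership in the piece
    have hne : ∀ w : Spec (CommRingCat.of Ω) ⟶ P', w default ∈ W l →
        ev w (θ (Pi.single k 1)) ≠ 0 := by
      intro w hwW h0
      have hA : (Pi.single k (1 : (S : Type u)) : κ → S) ∉ (m (w default)).asIdeal := by
        obtain ⟨y, hy⟩ := hwW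
        rw [← hy]
        intro hmem
        have h2 : Pi.evalRingHom (fun _ : κ => (S : Type u)) k (Pi.single k 1) ∈ y.asIdeal := hmem
        rw [Pi.evalRingHom_apply, Pi.single_eq_same] at h2
        exact y.isPrime.ne_top ((Ideal.eq_top_iff_one _).2 h2)
      have hB : θ (Pi.single k 1) ∉ (P'.toSpecΓ (w default)).asIdeal := by
        intro hmem
        apply hA
        have hm' : m (w default) = (Spec.map (CommRingCat.ofHom θ)) (P'.toSpecΓ (w default)) :=
          Scheme.Hom.comp_apply _ _ _
        rw [hm']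
        exact hmem
      have h3 : w default ∈ P'.basicOpen (θ (Pi.single k 1)) := by
        rw [← Scheme.toSpecΓ_preimage_basicOpen]
        exact hB
      have h6 : (default : Spec (CommRingCat.of Ω)) ∈
          w ⁻¹ᵁ P'.basicOpen (θ (Pi.single k 1)) := h3
      rw [Scheme.preimage_basicOpen_top] at h6
      have h7 : w.appTop.hom (θ (Pi.single k 1)) = 0 := by
        have : isoΩ.hom.hom (w.appTop.hom (θ (Pi.single k 1))) = 0 := h0
        have hinj : Function.Injective isoΩ.hom.hom :=
          (ConcreteCategory.bijective_of_isIso isoΩ.hom).1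
        exact hinj (this.trans (map_zero _).symm)
      have h8 : (Spec (CommRingCat.of Ω)).basicOpen (w.appTop.hom (θ (Pi.single k 1))) = ⊥ := by
        rw [h7]
        exact Scheme.basicOpen_zero (X := Spec (CommRingCat.of Ω)) ⊤
      change (default : Spec (CommRingCat.of Ω)) ∈
        (Spec (CommRingCat.of Ω)).basicOpen (w.appTop.hom (θ (Pi.single k 1))) at h6
      rw [h8] at h6
      exact h6
    have e1 : Algebra.TensorProduct.productMap (pt z hz) i.pt (ρ (Pi.single k 1)) ≠ 0 := by
      rw [← hprod z hz]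
      exact hne z hzW
    have e2 : Algebra.TensorProduct.productMap (pt z' hz') i.pt (ρ (Pi.single k 1)) ≠ 0 := by
      rw [← hprod z' hz']
      exact hne z' hz'W
    have hpt : pt z hz = pt z' hz' := hsep _ _ k e1 e2
    -- conclude
    have hu : z ≫ u = z' ≫ u := by
      apply ext_of_isAffine
      rw [Scheme.Hom.comp_appTop, Scheme.Hom.comp_appTop]
      rw [← cancel_mono isoΩ.hom]
      ext s
      exact congrArg (fun ψ : S →ₐ[R] Ω => ψ s) hpt
    apply pullback.hom_ext
    · exact hz.trans hz'.symm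
    · change z ≫ pullback.snd V.hom f = z' ≫ pullback.snd V.hom f
      rw [← husnd]
      have h9 := congrArg (fun t => t ≫ pullback.snd V0.hom f) hu
      exact (Category.assoc _ _ _).symm.trans (h9.trans (Category.assoc _ _ _))

end Core

section General

variable {X Y : Scheme.{u}} (f : X ⟶ Y) [IsFinite f] {Ω : Type u} [Field Ω] [IsAlgClosed Ω]

/-- **Separation of the geometric points of the fibre**: every pointed étale neighbourhood `(V0, y0)` of a
geometric point of `Y` (algebraically closed field) has a refinement `(V, y)` such that `X ×_Y V` is covered by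
finitely many pairwise disjoint opens, each containing at most one geometric point over `y`. -/
theorem exists_sep_refinement (V0 : Y.Etale) (y0 : Spec (CommRingCat.of Ω) ⟶ V0.left) :
    ∃ (V : Y.Etale) (g : V ⟶ V0) (y : Spec (CommRingCat.of Ω) ⟶ V.left), y ≫ g.left = y0 ∧
      ∃ (n : ℕ) (W : Fin n → ((EtCoh.bc f).obj V).left.Opens),
        (∀ k l, k ≠ l → Disjoint (W k) (W l)) ∧ (∀ z, ∃ k, z ∈ W k) ∧
        ∀ (k : Fin n) (z z' : Spec (CommRingCat.of Ω) ⟶ ((EtCoh.bc f).obj V).left),
          z ≫ pullback.fst V.hom f = y → z' ≫ pullback.fst V.hom f = y →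
          z default ∈ W k → z' default ∈ W k → z = z' := by
  obtain ⟨R', j, hj, hx, -⟩ := Scheme.exists_affine_mem_range_and_range_subset
    (x := y0 (default : Spec (CommRingCat.of Ω))) (U := ⊤) (by simp)
  have hrange : Set.range y0 ⊆ Set.range j := by
    rintro _ ⟨a, rfl⟩
    rwa [Subsingleton.elim a default]
  let p₀ : Spec (CommRingCat.of Ω) ⟶ Spec R' := IsOpenImmersion.lift j y0 hrange
  have hp₀ : p₀ ≫ j = y0 := IsOpenImmersion.lift_fac j y0 hrange
  let φ₀ : R' ⟶ CommRingCat.of Ω := Spec.preimage p₀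
  have hφ₀ : Spec.map φ₀ = p₀ := Spec.map_preimage _
  letI : Algebra R' Ω := φ₀.hom.toAlgebra
  let q : Spec (CommRingCat.of R') ⟶ Y := j ≫ V0.hom
  haveI : Etale q := inferInstanceAs (Etale (j ≫ V0.hom))
  let V1 : Y.Etale := Scheme.Etale.mk q
  let j1 : V1 ⟶ V0 := MorphismProperty.Over.homMk j rfl
  obtain ⟨i, n, W, hdisj, hcov, hW⟩ := sep_core f R' Ω q
  let V : Y.Etale := VV R' q i.C
  let g : V ⟶ V0 := gg R' q i.C ≫ j1
  have hpt : Spec.map (CommRingCat.ofHom i.pt.toRingHom) ≫
      Spec.map (CommRingCat.ofHom (algebraMap R' i.C)) = p₀ := by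
    rw [← Spec.map_comp, ← hφ₀]
    congr 1
    ext r
    exact i.pt.commutes r
  refine ⟨V, g, Spec.map (CommRingCat.ofHom i.pt.toRingHom), ?_, n, W, hdisj, hcov, hW⟩
  change Spec.map (CommRingCat.ofHom i.pt.toRingHom) ≫
    Spec.map (CommRingCat.ofHom (algebraMap R' i.C)) ≫ j = y0
  rw [← Category.assoc, hpt, hp₀]

end General

end Groth.Agent.Lib.Seat1.StalkSep
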