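import Mathlib
import Groth.Prelude.Def_EtBaseX
import Groth.Agent.Lib.Seat1FinSplit
import Groth.Agent.Lib.Seat1StalkSep
import Groth.Agent.Lib.Seat1IntPropA
import Groth.Agent.Lib.Helper16SmallEtale
import Groth.Agent.Lib.Helper10GaloisOrbit

/-!
# Geometry behind the stalk of a finite direct image (seat 1)

For `f : X ⟶ Y` finite and `η : Spec Ω ⟶ Y` with `Ω` algebraically closed, pointed étale neighbourhoods of the
geometric points `ξ` of `X` over `η` are dominated, after an étale localisation `V` of `Y` at `η`, by the pieces of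
a covering of `X ×_Y V` by pairwise disjoint opens indexed by the `ξ`.
-/

set_option autoImplicit false
set_option linter.style.haveILetI false
set_option linter.unusedSectionVars false
universe u
open CategoryTheory CategoryTheory.Limits AlgebraicGeometry Opposite

namespace Groth.Agent.Lib.Seat1.StalkGeo

open Groth.Agent.Lib.Seat1.FinSplit Groth.Agent.Lib.Helper16.SmallEtale

section Lift

variable {X Y : Scheme.{u}} (f : X ⟶ Y) [IsFinite f] {Ω : Type u} [Field Ω] [IsAlgClosed Ω]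

/-- geometric points with values in an algebraically closed field lift along a finite morphism, through any
prescribed point of the fibre. -/
theorem exists_fac_of_finite_of_isAlgClosed (y : Spec (CommRingCat.of Ω) ⟶ Y) (c : X)
    (hc : f c = y default) :
    ∃ z : Spec (CommRingCat.of Ω) ⟶ X, z ≫ f = y ∧ z default = c := by
  let Z : Scheme.{u} := pullback f y
  let p2 : Z ⟶ Spec (CommRingCat.of Ω) := pullback.snd f y
  haveI : IsFinite p2 := inferInstanceAs (IsFinite (pullback.snd f y))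
  obtain ⟨t, ht1, ht2⟩ := Scheme.Pullback.exists_preimage_pullback c (default : Spec (CommRingCat.of Ω)) hc
  have hdisc : DiscreteTopology Z := by
    have h1 := Scheme.Hom.isDiscrete_preimage_singleton p2 (default : Spec (CommRingCat.of Ω))
    have h2 : p2 ⁻¹' {default} = (Set.univ : Set Z) := by
      ext a
      simp only [Set.mem_preimage, Set.mem_singleton_iff, Set.mem_univ, iff_true]
      exact Subsingleton.elim _ _
    rw [h2] at h1
    exact isDiscrete_univ_iff.1 h1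
  have hcl : IsClosed ({t} : Set Z) := isClosed_discrete _
  obtain ⟨p, hp1, hp2⟩ :=
    Groth.Agent.Lib.Helper10.GaloisOrbit.exists_point_of_isClosed Ω Ω p2 t hcl
  have hp1' : p ≫ p2 = 𝟙 _ := by
    rw [hp1]
    have : CommRingCat.ofHom (algebraMap Ω Ω) = 𝟙 (CommRingCat.of Ω) := rfl
    rw [this, Spec.map_id]
  refine ⟨p ≫ pullback.fst f y, ?_, ?_⟩
  · rw [Category.assoc, pullback.condition, ← Category.assoc]
    change (p ≫ p2) ≫ y = y
    rw [hp1', Category.id_comp]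
  · rw [Scheme.Hom.comp_apply]
    have : (default : Spec (CommRingCat.of Ω)) = IsLocalRing.closedPoint Ω := Subsingleton.elim _ _
    rw [this, hp2, ht1]

end Lift

section Piece

variable {X Y : Scheme.{u}} (f : X ⟶ Y) {Ω : Type u} [Field Ω]

/-- `W ⊆ X ×_Y V'` is a piece for the pointed étale neighbourhood `(U, x)` relative to `m : U ⟶ X ×_Y V`:
it contains the geometric point `(y', x ≫ U.hom)` and maps, pointedly and over `X ×_Y V`, to `(U, x)`. -/
def IsPiece {V : Y.Etale} {U : X.Etale} (m : U ⟶ (EtCoh.bc f).obj V)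
    (x : Spec (CommRingCat.of Ω) ⟶ U.left) {V' : Y.Etale} (g : V' ⟶ V)
    (y' : Spec (CommRingCat.of Ω) ⟶ V'.left) (W : ((EtCoh.bc f).obj V').left.Opens) : Prop :=
  ∃ (b : opnOf ((EtCoh.bc f).obj V') W ⟶ U) (w : Spec (CommRingCat.of Ω) ⟶ (W : Scheme.{u})),
    b ≫ m = opnIn _ W ≫ (EtCoh.bc f).map g ∧ w ≫ W.ι ≫ pullback.fst V'.hom f = y' ∧ w ≫ b.left = x

variable {f}
variable {V : Y.Etale} {U : X.Etale} {m : U ⟶ (EtCoh.bc f).obj V}
  {x : Spec (CommRingCat.of Ω) ⟶ U.left} {V' : Y.Etale} {g : V' ⟶ V}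
  {y' : Spec (CommRingCat.of Ω) ⟶ V'.left} {W : ((EtCoh.bc f).obj V').left.Opens}

set_option backward.isDefEq.respectTransparency.types false in
/-- the geometric point `(y', x ≫ U.hom)` lies in a piece -/
lemma IsPiece.mem (h : IsPiece f m x g y' W)
    (z : Spec (CommRingCat.of Ω) ⟶ ((EtCoh.bc f).obj V').left)
    (hz1 : z ≫ pullback.fst V'.hom f = y') (hz2 : z ≫ pullback.snd V'.hom f = x ≫ U.hom) :
    z default ∈ W := by
  obtain ⟨b, w, hb, hw1, hw2⟩ := h
  have hbw : b.left ≫ U.hom = W.ι ≫ pullback.snd V'.hom f := Over.w b.hom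
  have hz : z = w ≫ W.ι := by
    refine pullback.hom_ext ?_ ?_
    · exact hz1.trans ((Category.assoc _ _ _).trans hw1).symm
    · refine hz2.trans (Eq.symm ((Category.assoc _ _ _).trans ?_))
      have h3 : w ≫ W.ι ≫ pullback.snd V'.hom f = w ≫ b.left ≫ U.hom :=
        (congrArg (fun t => w ≫ t) hbw).symm
      exact h3.trans (((Category.assoc _ _ _).symm).trans (congrArg (fun t => t ≫ U.hom) hw2))
  rw [hz, Scheme.Hom.comp_apply]
  exact (w default).2

set_option backward.isDefEq.respectTransparency.types false in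
/-- restriction of a piece along a refinement of the pointed étale neighbourhood of the base -/
lemma IsPiece.restrict (h : IsPiece f m x g y' W) {V'' : Y.Etale} (r : V'' ⟶ V')
    (y'' : Spec (CommRingCat.of Ω) ⟶ V''.left) (hy'' : y'' ≫ r.left = y')
    (W'' : ((EtCoh.bc f).obj V'').left.Opens) (hle : W'' ≤ ((EtCoh.bc f).map r).left ⁻¹ᵁ W)
    (hmem : ∀ z : Spec (CommRingCat.of Ω) ⟶ ((EtCoh.bc f).obj V'').left,
      z ≫ pullback.fst V''.hom f = y'' → z ≫ pullback.snd V''.hom f = x ≫ U.hom → z default ∈ W'') :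
    IsPiece f m x (r ≫ g) y'' W'' := by
  obtain ⟨b, w, hb, hw1, hw2⟩ := h
  have hbw : b.left ≫ U.hom = W.ι ≫ pullback.snd V'.hom f := Over.w b.hom
  have hrg : r.left ≫ V'.hom = V''.hom := Over.w r.hom
  -- the geometric point upstairs
  have hxU : w ≫ W.ι ≫ pullback.snd V'.hom f = x ≫ U.hom :=
    ((congrArg (fun t => w ≫ t) hbw).symm.trans (Category.assoc _ _ _).symm).trans
      (congrArg (fun t => t ≫ U.hom) hw2)
  have hcond : y'' ≫ V''.hom = (x ≫ U.hom) ≫ f := by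
    have e1 : y'' ≫ V''.hom = y' ≫ V'.hom :=
      ((congrArg (fun t => y'' ≫ t) hrg).symm.trans (Category.assoc _ _ _).symm).trans
        (congrArg (fun t => t ≫ V'.hom) hy'')
    have e2 : y' ≫ V'.hom = (w ≫ W.ι) ≫ pullback.fst V'.hom f ≫ V'.hom :=
      (congrArg (fun t => t ≫ V'.hom) (((Category.assoc _ _ _).trans hw1).symm)).trans
        (Category.assoc _ _ _)
    have e3 : (w ≫ W.ι) ≫ pullback.fst V'.hom f ≫ V'.hom =
        (w ≫ W.ι) ≫ pullback.snd V'.hom f ≫ f :=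
      congrArg (fun t => (w ≫ W.ι) ≫ t) pullback.condition
    have e4 : (w ≫ W.ι) ≫ pullback.snd V'.hom f ≫ f = (x ≫ U.hom) ≫ f :=
      (Category.assoc _ _ _).symm.trans
        (congrArg (fun t => t ≫ f) ((Category.assoc _ _ _).trans hxU))
    exact e1.trans (e2.trans (e3.trans e4))
  let z : Spec (CommRingCat.of Ω) ⟶ ((EtCoh.bc f).obj V'').left :=
    pullback.lift y'' (x ≫ U.hom) hcond
  have hz1 : z ≫ pullback.fst V''.hom f = y'' := pullback.lift_fst _ _ _
  have hz2 : z ≫ pullback.snd V''.hom f = x ≫ U.hom := pullback.lift_snd _ _ _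
  have hzW : Set.range z ⊆ Set.range W''.ι := by
    rintro _ ⟨a, rfl⟩
    rw [Subsingleton.elim a default, Scheme.Opens.range_ι]
    exact hmem z hz1 hz2
  let w'' : Spec (CommRingCat.of Ω) ⟶ (W'' : Scheme.{u}) := IsOpenImmersion.lift W''.ι z hzW
  have hw'' : w'' ≫ W''.ι = z := IsOpenImmersion.lift_fac _ _ _
  let ρ : (W'' : Scheme.{u}) ⟶ (W : Scheme.{u}) := ((EtCoh.bc f).map r).left.resLE W W'' hle
  have hρ : ρ ≫ W.ι = W''.ι ≫ ((EtCoh.bc f).map r).left := Scheme.Hom.resLE_comp_ι _ _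
  have hρX : ρ ≫ (opnOf ((EtCoh.bc f).obj V') W).hom = (opnOf ((EtCoh.bc f).obj V'') W'').hom := by
    change ρ ≫ W.ι ≫ pullback.snd V'.hom f = W''.ι ≫ pullback.snd V''.hom f
    rw [reassoc_of% hρ, bc_map_left_snd]
  let ρ' : opnOf ((EtCoh.bc f).obj V'') W'' ⟶ opnOf ((EtCoh.bc f).obj V') W :=
    MorphismProperty.Over.homMk ρ hρX
  have hρ' : ρ' ≫ opnIn _ W = opnIn _ W'' ≫ (EtCoh.bc f).map r := by
    apply MorphismProperty.Over.Hom.ext
    exact hρ
  have hwρ : w'' ≫ ρ = w := by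
    rw [← cancel_mono W.ι, Category.assoc, hρ, ← Category.assoc, hw'']
    refine pullback.hom_ext ?_ ?_
    · have e1 : (z ≫ ((EtCoh.bc f).map r).left) ≫ pullback.fst V'.hom f = y' :=
        ((Category.assoc _ _ _).trans (congrArg (fun t => z ≫ t) (bc_map_left_fst f r))).trans
          (((Category.assoc _ _ _).symm.trans (congrArg (fun t => t ≫ r.left) hz1)).trans hy'')
      exact e1.trans ((Category.assoc _ _ _).trans hw1).symm
    · have e1 : (z ≫ ((EtCoh.bc f).map r).left) ≫ pullback.snd V'.hom f = x ≫ U.hom :=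
        ((Category.assoc _ _ _).trans (congrArg (fun t => z ≫ t) (bc_map_left_snd f r))).trans hz2
      exact e1.trans ((Category.assoc _ _ _).trans hxU).symm
  refine ⟨ρ' ≫ b, w'', ?_, ?_, ?_⟩
  · rw [Category.assoc, hb, ← Category.assoc, hρ', Category.assoc, ← Functor.map_comp]
  · rw [← Category.assoc, hw'', hz1]
  · change w'' ≫ ρ ≫ b.left = x
    rw [← Category.assoc, hwρ, hw2]

end Piece

section Exists

variable {X Y : Scheme.{u}} (f : X ⟶ Y) [IsFinite f] {Ω : Type u} [Field Ω] [IsSepClosed Ω]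

/-- pointed form of `IntPropA.exists_clopen_piece` -/
theorem exists_pointed_piece {U : Scheme.{u}} (g : U ⟶ X) [Etale g]
    (x : Spec (CommRingCat.of Ω) ⟶ U) :
    ∃ (V : Y.Etale) (W : ((EtCoh.bc f).obj V).left.Opens) (h : (W : Scheme.{u}) ⟶ U)
      (z : Spec (CommRingCat.of Ω) ⟶ (W : Scheme.{u})),
      h ≫ g = W.ι ≫ ((EtCoh.bc f).obj V).hom ∧ z ≫ h = x := by
  obtain ⟨V, W, -, h, hh, w0, hw0⟩ :=
    Groth.Agent.Lib.Seat1.IntPropA.exists_clopen_piece f g (x default)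
  haveI : Etale (W.ι ≫ ((EtCoh.bc f).obj V).hom) := by
    haveI : Etale ((EtCoh.bc f).obj V).hom := ((EtCoh.bc f).obj V).prop
    infer_instance
  haveI : Etale (h ≫ g) := by rw [hh]; infer_instance
  haveI : Etale h := Etale.of_comp h g
  obtain ⟨z, hz, -⟩ := Scheme.exists_fac_of_etale_of_isSepClosed h x w0 hw0
  exact ⟨V, W, h, z, hh, hz⟩

set_option backward.isDefEq.respectTransparency.types false in
/-- relative pointed pieces: a pointed étale neighbourhood `(U, x)` over `X ×_Y V` is dominated by a piece. -/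
theorem exists_isPiece (V : Y.Etale) (U : X.Etale) (m : U ⟶ (EtCoh.bc f).obj V)
    (x : Spec (CommRingCat.of Ω) ⟶ U.left) :
    ∃ (V' : Y.Etale) (q : V' ⟶ V) (y' : Spec (CommRingCat.of Ω) ⟶ V'.left)
      (W : ((EtCoh.bc f).obj V').left.Opens),
      y' ≫ q.left = x ≫ m.left ≫ pullback.fst V.hom f ∧ IsPiece f m x q y' W := by
  let f' : ((EtCoh.bc f).obj V).left ⟶ V.left := pullback.fst V.hom f
  haveI : IsFinite f' := inferInstanceAs (IsFinite (pullback.fst V.hom f))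
  let ml : U.left ⟶ ((EtCoh.bc f).obj V).left := m.left
  haveI : Etale ml := inferInstanceAs (Etale m.left)
  obtain ⟨V0, W0, h0, z0, hh0, hz0⟩ := exists_pointed_piece f' ml x
  let p0 : V0.left ⟶ V.left := V0.hom
  haveI : Etale p0 := V0.prop
  haveI : Etale V.hom := V.prop
  let V' : Y.Etale := Scheme.Etale.mk (p0 ≫ V.hom)
  let q : V' ⟶ V := MorphismProperty.Over.homMk p0 rfl
  let e : pullback p0 (pullback.fst V.hom f) ≅ pullback (p0 ≫ V.hom) f :=
    pullbackRightPullbackFstIso V.hom f p0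
  let W0' : (pullback p0 (pullback.fst V.hom f)).Opens := W0
  let W : ((EtCoh.bc f).obj V').left.Opens := e.inv ⁻¹ᵁ W0'
  let ρ : (W : Scheme.{u}) ⟶ (W0' : Scheme.{u}) := e.inv ∣_ W0'
  haveI : IsIso ρ := inferInstanceAs (IsIso (e.inv ∣_ W0'))
  have hρ : ρ ≫ W0'.ι = W.ι ≫ e.inv := morphismRestrict_ι e.inv W0'
  have he : e.inv ≫ pullback.snd p0 (pullback.fst V.hom f) = ((EtCoh.bc f).map q).left := by
    refine pullback.hom_ext ?_ ?_
    · refine Eq.trans ?_ (bc_map_left_fst f q).symm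
      rw [Category.assoc]
      exact pullbackRightPullbackFstIso_inv_snd_fst V.hom f p0
    · refine Eq.trans ?_ (bc_map_left_snd f q).symm
      rw [Category.assoc]
      exact pullbackRightPullbackFstIso_inv_snd_snd V.hom f p0
  let h0' : (W0' : Scheme.{u}) ⟶ U.left := h0
  have hh0' : h0' ≫ ml = W0'.ι ≫ pullback.snd p0 (pullback.fst V.hom f) := hh0
  let h : (W : Scheme.{u}) ⟶ U.left := ρ ≫ h0'
  have hh : h ≫ ml = W.ι ≫ ((EtCoh.bc f).map q).left := by
    have e1 : h ≫ ml = ρ ≫ h0' ≫ ml := Category.assoc _ _ _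
    have e2 : ρ ≫ h0' ≫ ml = ρ ≫ W0'.ι ≫ pullback.snd p0 (pullback.fst V.hom f) :=
      congrArg (fun t => ρ ≫ t) hh0'
    have e3 : ρ ≫ W0'.ι ≫ pullback.snd p0 (pullback.fst V.hom f) =
        (W.ι ≫ e.inv) ≫ pullback.snd p0 (pullback.fst V.hom f) :=
      (Category.assoc _ _ _).symm.trans
        (congrArg (fun t => t ≫ pullback.snd p0 (pullback.fst V.hom f)) hρ)
    have e4 : (W.ι ≫ e.inv) ≫ pullback.snd p0 (pullback.fst V.hom f) =
        W.ι ≫ ((EtCoh.bc f).map q).left :=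
      (Category.assoc _ _ _).trans (congrArg (fun t => W.ι ≫ t) he)
    exact e1.trans (e2.trans (e3.trans e4))
  have hmU : ml ≫ pullback.snd V.hom f = U.hom := Over.w m.hom
  have hhX : h ≫ U.hom = (opnOf ((EtCoh.bc f).obj V') W).hom := by
    change h ≫ U.hom = W.ι ≫ pullback.snd (p0 ≫ V.hom) f
    have e1 : h ≫ U.hom = (h ≫ ml) ≫ pullback.snd V.hom f :=
      (congrArg (fun t => h ≫ t) hmU).symm.trans (Category.assoc _ _ _).symm
    have e2 : (h ≫ ml) ≫ pullback.snd V.hom f =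
        W.ι ≫ ((EtCoh.bc f).map q).left ≫ pullback.snd V.hom f :=
      (congrArg (fun t => t ≫ pullback.snd V.hom f) hh).trans (Category.assoc _ _ _)
    have e3 : W.ι ≫ ((EtCoh.bc f).map q).left ≫ pullback.snd V.hom f =
        W.ι ≫ pullback.snd (p0 ≫ V.hom) f :=
      congrArg (fun t => W.ι ≫ t) (bc_map_left_snd f q)
    exact e1.trans (e2.trans e3)
  let b : opnOf ((EtCoh.bc f).obj V') W ⟶ U := MorphismProperty.Over.homMk h hhX
  let z0' : Spec (CommRingCat.of Ω) ⟶ (W0' : Scheme.{u}) := z0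
  have hz0' : z0' ≫ h0' = x := hz0
  let z : Spec (CommRingCat.of Ω) ⟶ (W : Scheme.{u}) := z0' ≫ inv ρ
  have hzh : z ≫ h = x := by
    have e1 : (z0' ≫ inv ρ) ≫ ρ ≫ h0' = z0' ≫ h0' := by
      rw [Category.assoc, IsIso.inv_hom_id_assoc]
    exact e1.trans hz0'
  refine ⟨V', q, z ≫ W.ι ≫ pullback.fst (p0 ≫ V.hom) f, W, ?_, b, z, ?_, rfl, hzh⟩
  · change (z ≫ W.ι ≫ pullback.fst (p0 ≫ V.hom) f) ≫ p0 = x ≫ ml ≫ pullback.fst V.hom f
    have e1 : ((EtCoh.bc f).map q).left ≫ pullback.fst V.hom f =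
        pullback.fst (p0 ≫ V.hom) f ≫ p0 := bc_map_left_fst f q
    have e2 : (z ≫ W.ι ≫ pullback.fst (p0 ≫ V.hom) f) ≫ p0 =
        z ≫ W.ι ≫ ((EtCoh.bc f).map q).left ≫ pullback.fst V.hom f :=
      (Category.assoc _ _ _).trans (congrArg (fun t => z ≫ t)
        ((Category.assoc _ _ _).trans (congrArg (fun t => W.ι ≫ t) e1.symm)))
    have e3 : z ≫ W.ι ≫ ((EtCoh.bc f).map q).left ≫ pullback.fst V.hom f =
        z ≫ (h ≫ ml) ≫ pullback.fst V.hom f :=
      congrArg (fun t => z ≫ t) ((Category.assoc _ _ _).symm.trans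
        (congrArg (fun t => t ≫ pullback.fst V.hom f) hh.symm))
    have e4 : z ≫ (h ≫ ml) ≫ pullback.fst V.hom f = (z ≫ h) ≫ ml ≫ pullback.fst V.hom f :=
      (congrArg (fun t => z ≫ t) (Category.assoc _ _ _)).trans (Category.assoc _ _ _).symm
    have e5 : (z ≫ h) ≫ ml ≫ pullback.fst V.hom f = x ≫ ml ≫ pullback.fst V.hom f :=
      congrArg (fun t => t ≫ ml ≫ pullback.fst V.hom f) hzh
    exact e2.trans (e3.trans (e4.trans e5))
  · apply MorphismProperty.Over.Hom.ext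
    exact hh

end Exists

section Cone

variable {Y : Scheme.{u}} {Ω : Type u} [Field Ω] [IsSepClosed Ω]

set_option backward.isDefEq.respectTransparency.types false in
/-- a finite family of refinements of a pointed étale neighbourhood has a common refinement -/
theorem exists_common_refinement {ι : Type u} [Finite ι] (V : Y.Etale)
    (y : Spec (CommRingCat.of Ω) ⟶ V.left) (V' : ι → Y.Etale) (q : ∀ i, V' i ⟶ V)
    (y' : ∀ i, Spec (CommRingCat.of Ω) ⟶ (V' i).left) (hy' : ∀ i, y' i ≫ (q i).left = y) :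
    ∃ (V2 : Y.Etale) (y2 : Spec (CommRingCat.of Ω) ⟶ V2.left) (g : V2 ⟶ V) (g' : ∀ i, V2 ⟶ V' i),
      y2 ≫ g.left = y ∧ (∀ i, y2 ≫ (g' i).left = y' i) ∧ ∀ i, g' i ≫ q i = g := by
  classical
  haveI := Fintype.ofFinite ι
  let η : Spec (CommRingCat.of Ω) ⟶ Y := y ≫ V.hom
  let F : Y.Etale ⥤ Type u := Scheme.Etale.forget Y ⋙ coyoneda.obj (op (Over.mk η))
  let B : F.Elements := ⟨V, (Over.homMk y rfl : Over.mk η ⟶ (Scheme.Etale.forget Y).obj V)⟩
  have hq : ∀ i, (q i).left ≫ V.hom = (V' i).hom := fun i => Over.w (q i).hom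
  let A : ι → F.Elements := fun i =>
    ⟨V' i, (Over.homMk (y' i) (by
      change y' i ≫ (V' i).hom = y ≫ V.hom
      rw [← hq i, ← Category.assoc, hy' i]) : Over.mk η ⟶ (Scheme.Etale.forget Y).obj (V' i))⟩
  let a : ∀ i, A i ⟶ B := fun i => ⟨q i, by
    apply Over.OverMorphism.ext
    exact hy' i⟩
  obtain ⟨c⟩ := IsCofiltered.cone_nonempty (WidePullbackShape.wideCospan B A a)
  let y2 : Over.mk η ⟶ (Scheme.Etale.forget Y).obj c.pt.1 := c.pt.2
  refine ⟨c.pt.1, y2.left, (c.π.app none).1, fun i => (c.π.app (some i)).1, ?_, ?_, ?_⟩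
  · have h1 := (c.π.app none).2
    exact congrArg (fun t : Over.mk η ⟶ (Scheme.Etale.forget Y).obj V => t.left) h1
  · intro i
    have h1 := (c.π.app (some i)).2
    exact congrArg (fun t : Over.mk η ⟶ (Scheme.Etale.forget Y).obj (V' i) => t.left) h1
  · intro i
    have h1 := c.w (WidePullbackShape.Hom.term i)
    exact congrArg (fun t => t.1) h1

end Cone

section Cover

variable {X Y : Scheme.{u}} (f : X ⟶ Y) [IsFinite f] {Ω : Type u} [Field Ω] [IsAlgClosed Ω]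
  (η : Spec (CommRingCat.of Ω) ⟶ Y)

set_option backward.isDefEq.respectTransparency.types false in
set_option maxHeartbeats 800000 in
/-- after an étale localisation at `η`, the fibre product is covered by pairwise disjoint opens indexed by the
geometric points over `η`, refining any prescribed open neighbourhoods of these points. -/
theorem exists_disjoint_cover (V1 : Y.Etale) (y1 : Spec (CommRingCat.of Ω) ⟶ V1.left)
    (hy1 : y1 ≫ V1.hom = η)
    (W1 : {ξ : Spec (CommRingCat.of Ω) ⟶ X // ξ ≫ f = η} → ((EtCoh.bc f).obj V1).left.Opens)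
    (hW1 : ∀ (ξ : {ξ : Spec (CommRingCat.of Ω) ⟶ X // ξ ≫ f = η})
      (z : Spec (CommRingCat.of Ω) ⟶ ((EtCoh.bc f).obj V1).left),
      z ≫ pullback.fst V1.hom f = y1 → z ≫ pullback.snd V1.hom f = ξ.1 → z default ∈ W1 ξ) :
    Finite {ξ : Spec (CommRingCat.of Ω) ⟶ X // ξ ≫ f = η} ∧
    ∃ (V3 : Y.Etale) (r : V3 ⟶ V1) (y3 : Spec (CommRingCat.of Ω) ⟶ V3.left), y3 ≫ r.left = y1 ∧
      ∃ Wo : {ξ : Spec (CommRingCat.of Ω) ⟶ X // ξ ≫ f = η} → ((EtCoh.bc f).obj V3).left.Opens,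
        (∀ ξ, Wo ξ ≤ ((EtCoh.bc f).map r).left ⁻¹ᵁ W1 ξ) ∧
        (∀ ξ ξ', ξ ≠ ξ' → Disjoint (Wo ξ) (Wo ξ')) ∧ (∀ p, ∃ ξ, p ∈ Wo ξ) ∧
        ∀ (ξ : {ξ : Spec (CommRingCat.of Ω) ⟶ X // ξ ≫ f = η})
          (z : Spec (CommRingCat.of Ω) ⟶ ((EtCoh.bc f).obj V3).left),
          z ≫ pullback.fst V3.hom f = y3 → z ≫ pullback.snd V3.hom f = ξ.1 → z default ∈ Wo ξ := by
  obtain ⟨Vs, gs, ys, hys, n, Ws, hdisj, hcov, hsep⟩ :=
    Groth.Agent.Lib.Seat1.StalkSep.exists_sep_refinement f V1 y1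
  have hgs : gs.left ≫ V1.hom = Vs.hom := Over.w gs.hom
  have hysη : ys ≫ Vs.hom = η := by
    have e1 : ys ≫ Vs.hom = (ys ≫ gs.left) ≫ V1.hom :=
      (congrArg (fun t => ys ≫ t) hgs).symm.trans (Category.assoc _ _ _).symm
    exact e1.trans ((congrArg (fun t => t ≫ V1.hom) hys).trans hy1)
  let p1s : ((EtCoh.bc f).obj Vs).left ⟶ Vs.left := pullback.fst Vs.hom f
  let p2s : ((EtCoh.bc f).obj Vs).left ⟶ X := pullback.snd Vs.hom f
  haveI : IsFinite p1s := inferInstanceAs (IsFinite (pullback.fst Vs.hom f))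
  let bg : ((EtCoh.bc f).obj Vs).left ⟶ ((EtCoh.bc f).obj V1).left := ((EtCoh.bc f).map gs).left
  have hbg1 : bg ≫ pullback.fst V1.hom f = p1s ≫ gs.left := bc_map_left_fst f gs
  have hbg2 : bg ≫ pullback.snd V1.hom f = p2s := bc_map_left_snd f gs
  -- the geometric points upstairs
  let zs : ∀ ξ : {ξ : Spec (CommRingCat.of Ω) ⟶ X // ξ ≫ f = η},
      Spec (CommRingCat.of Ω) ⟶ ((EtCoh.bc f).obj Vs).left := fun ξ =>
    pullback.lift ys ξ.1 (hysη.trans ξ.2.symm)
  have hzs1 : ∀ ξ, zs ξ ≫ p1s = ys := fun ξ => pullback.lift_fst _ _ _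
  have hzs2 : ∀ ξ, zs ξ ≫ p2s = ξ.1 := fun ξ => pullback.lift_snd _ _ _
  have hzeq : ∀ (ξ : {ξ : Spec (CommRingCat.of Ω) ⟶ X // ξ ≫ f = η})
      (z : Spec (CommRingCat.of Ω) ⟶ ((EtCoh.bc f).obj Vs).left),
      z ≫ p1s = ys → z ≫ p2s = ξ.1 → z = zs ξ := by
    intro ξ z h1 h2
    refine pullback.hom_ext ?_ ?_
    · exact h1.trans (hzs1 ξ).symm
    · exact h2.trans (hzs2 ξ).symm
  choose k hk using fun ξ => hcov (zs ξ default)
  have hkinj : Function.Injective k := by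
    intro ξ ξ' hkk
    have h1 : zs ξ = zs ξ' := hsep (k ξ) (zs ξ) (zs ξ') (hzs1 ξ) (hzs1 ξ') (hk ξ) (hkk ▸ hk ξ')
    apply Subtype.ext
    rw [← hzs2 ξ, ← hzs2 ξ', h1]
  refine ⟨Finite.of_injective k hkinj, ?_⟩
  let Wo2 : {ξ : Spec (CommRingCat.of Ω) ⟶ X // ξ ≫ f = η} → ((EtCoh.bc f).obj Vs).left.Opens :=
    fun ξ => Ws (k ξ) ⊓ bg ⁻¹ᵁ W1 ξ
  -- the geometric points lie in their pieces
  have hmem2 : ∀ (ξ : {ξ : Spec (CommRingCat.of Ω) ⟶ X // ξ ≫ f = η})
      (z : Spec (CommRingCat.of Ω) ⟶ ((EtCoh.bc f).obj Vs).left),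
      z ≫ p1s = ys → z ≫ p2s = ξ.1 → z default ∈ Wo2 ξ := by
    intro ξ z h1 h2
    have hz := hzeq ξ z h1 h2
    refine ⟨?_, ?_⟩
    · rw [hz]; exact hk ξ
    · change bg (z default) ∈ W1 ξ
      rw [← Scheme.Hom.comp_apply]
      refine hW1 ξ (z ≫ bg) ?_ ?_
      · have e1 : (z ≫ bg) ≫ pullback.fst V1.hom f = (z ≫ p1s) ≫ gs.left :=
          (Category.assoc _ _ _).trans ((congrArg (fun t => z ≫ t) hbg1).trans
            (Category.assoc _ _ _).symm)
        exact e1.trans ((congrArg (fun t => t ≫ gs.left) h1).trans hys)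
      · exact (Category.assoc _ _ _).trans ((congrArg (fun t => z ≫ t) hbg2).trans h2)
  have hdisj2 : ∀ ξ ξ', ξ ≠ ξ' → Disjoint (Wo2 ξ) (Wo2 ξ') := by
    intro ξ ξ' hne
    exact (hdisj (k ξ) (k ξ') (fun h => hne (hkinj h))).mono inf_le_left inf_le_left
  -- the closed set to be removed
  let C : Set ((EtCoh.bc f).obj Vs).left := (⋃ ξ, (Wo2 ξ : Set ((EtCoh.bc f).obj Vs).left))ᶜ
  have hC : IsClosed C := (isOpen_iUnion fun ξ => (Wo2 ξ).2).isClosed_compl
  have hT : IsClosed (p1s '' C) := p1s.isClosedMap C hC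
  have hnot : ys default ∉ p1s '' C := by
    rintro ⟨c, hcC, hc⟩
    obtain ⟨z, hz1, hz2⟩ := exists_fac_of_finite_of_isAlgClosed p1s ys c hc
    have hzη : (z ≫ p2s) ≫ f = η := by
      have e1 : (z ≫ p2s) ≫ f = (z ≫ p1s) ≫ Vs.hom :=
        (Category.assoc _ _ _).trans ((congrArg (fun t => z ≫ t) pullback.condition.symm).trans
          (Category.assoc _ _ _).symm)
      exact e1.trans ((congrArg (fun t => t ≫ Vs.hom) hz1).trans hysη)
    have h3 := hmem2 ⟨z ≫ p2s, hzη⟩ z hz1 rfl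
    rw [hz2] at h3
    exact hcC (Set.mem_iUnion.2 ⟨_, h3⟩)
  let O : Vs.left.Opens := ⟨(p1s '' C)ᶜ, hT.isOpen_compl⟩
  let V3 : Y.Etale := opnOf Vs O
  let j : V3 ⟶ Vs := opnIn Vs O
  have hyO : Set.range ys ⊆ Set.range O.ι := by
    rintro _ ⟨a, rfl⟩
    rw [Subsingleton.elim a default, Scheme.Opens.range_ι]
    exact hnot
  let y3' : Spec (CommRingCat.of Ω) ⟶ (O : Scheme.{u}) := IsOpenImmersion.lift O.ι ys hyO
  have hy3' : y3' ≫ O.ι = ys := IsOpenImmersion.lift_fac _ _ _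
  let y3 : Spec (CommRingCat.of Ω) ⟶ V3.left := y3'
  have hy3 : y3 ≫ O.ι = ys := hy3'
  let bj : ((EtCoh.bc f).obj V3).left ⟶ ((EtCoh.bc f).obj Vs).left := ((EtCoh.bc f).map j).left
  have hbj1 : bj ≫ p1s = pullback.fst V3.hom f ≫ O.ι := bc_map_left_fst f j
  have hbj2 : bj ≫ p2s = pullback.snd V3.hom f := bc_map_left_snd f j
  have hbr : ((EtCoh.bc f).map (j ≫ gs)).left = bj ≫ bg := by
    rw [Functor.map_comp]
    rfl
  refine ⟨V3, j ≫ gs, y3, ?_, fun ξ => bj ⁻¹ᵁ Wo2 ξ, ?_, ?_, ?_, ?_⟩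
  · change y3 ≫ O.ι ≫ gs.left = y1
    exact (Category.assoc _ _ _).symm.trans ((congrArg (fun t => t ≫ gs.left) hy3).trans hys)
  · intro ξ p hp
    change ((EtCoh.bc f).map (j ≫ gs)).left p ∈ W1 ξ
    rw [hbr, Scheme.Hom.comp_apply]
    exact hp.2
  · intro ξ ξ' hne
    have h1 := hdisj2 ξ ξ' hne
    rw [← TopologicalSpace.Opens.coe_disjoint] at h1 ⊢
    exact h1.preimage _
  · intro p
    by_contra hcon
    have hpC : bj p ∈ C := by
      intro hmem
      obtain ⟨ξ, hξ⟩ := Set.mem_iUnion.1 hmem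
      exact hcon ⟨ξ, hξ⟩
    have h1 : p1s (bj p) ∈ p1s '' C := ⟨_, hpC, rfl⟩
    have h2 : p1s (bj p) = O.ι ((pullback.fst V3.hom f) p) :=
      (Scheme.Hom.comp_apply bj p1s p).symm.trans
        ((congrArg (fun t : ((EtCoh.bc f).obj V3).left ⟶ Vs.left => t p) hbj1).trans
          (Scheme.Hom.comp_apply (pullback.fst V3.hom f) O.ι p))
    rw [h2] at h1
    exact ((pullback.fst V3.hom f) p).2 h1
  · intro ξ z hz1 hz2
    change bj (z default) ∈ Wo2 ξ
    rw [← Scheme.Hom.comp_apply]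
    refine hmem2 ξ (z ≫ bj) ?_ ?_
    · have e1 : (z ≫ bj) ≫ p1s = (z ≫ pullback.fst V3.hom f) ≫ O.ι :=
        (Category.assoc _ _ _).trans ((congrArg (fun t => z ≫ t) hbj1).trans
          (Category.assoc _ _ _).symm)
      exact e1.trans ((congrArg (fun t => t ≫ O.ι) hz1).trans hy3)
    · exact (Category.assoc _ _ _).trans ((congrArg (fun t => z ≫ t) hbj2).trans hz2)

/-- a finite morphism has finitely many geometric points over a given geometric point -/
theorem finite_points : Finite {ξ : Spec (CommRingCat.of Ω) ⟶ X // ξ ≫ f = η} :=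
  (exists_disjoint_cover f η (EtCoh.top Y) η (Category.comp_id η) (fun _ => ⊤)
    (fun _ _ _ _ => trivial)).1

set_option backward.isDefEq.respectTransparency.types false in
set_option maxHeartbeats 800000 in
/-- **Splitting theorem.** Given pointed étale neighbourhoods `(U ξ, x ξ)` of the geometric points `ξ` of `X` over
`η`, each mapping to `X ×_Y V` compatibly with a point `y` of `V` over `η`, there is a refinement `(V', y')` of
`(V, y)` and a covering of `X ×_Y V'` by pairwise disjoint opens `Wo ξ`, each a piece for `(U ξ, x ξ)`. -/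
theorem exists_split (V : Y.Etale) (y : Spec (CommRingCat.of Ω) ⟶ V.left) (hy : y ≫ V.hom = η)
    (U : {ξ : Spec (CommRingCat.of Ω) ⟶ X // ξ ≫ f = η} → X.Etale)
    (x : ∀ ξ, Spec (CommRingCat.of Ω) ⟶ (U ξ).left) (m : ∀ ξ, U ξ ⟶ (EtCoh.bc f).obj V)
    (hx1 : ∀ ξ, x ξ ≫ (m ξ).left ≫ pullback.fst V.hom f = y)
    (hx2 : ∀ ξ, x ξ ≫ (U ξ).hom = ξ.1) :
    ∃ (V' : Y.Etale) (g : V' ⟶ V) (y' : Spec (CommRingCat.of Ω) ⟶ V'.left), y' ≫ g.left = y ∧
      ∃ Wo : {ξ : Spec (CommRingCat.of Ω) ⟶ X // ξ ≫ f = η} → ((EtCoh.bc f).obj V').left.Opens,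
        (∀ ξ ξ', ξ ≠ ξ' → Disjoint (Wo ξ) (Wo ξ')) ∧ (∀ p, ∃ ξ, p ∈ Wo ξ) ∧
        ∀ ξ, IsPiece f (m ξ) (x ξ) g y' (Wo ξ) := by
  haveI : Finite {ξ : Spec (CommRingCat.of Ω) ⟶ X // ξ ≫ f = η} :=
    (exists_disjoint_cover f η V y hy (fun _ => ⊤) (fun _ _ _ _ => trivial)).1
  choose Vp q yp Wp hyq hP using fun ξ => exists_isPiece f V (U ξ) (m ξ) (x ξ)
  obtain ⟨V1, y1, g, g', h1, h2, h3⟩ := exists_common_refinement V y Vp q yp
    (fun ξ => (hyq ξ).trans (hx1 ξ))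
  have hgV : g.left ≫ V.hom = V1.hom := Over.w g.hom
  have hy1η : y1 ≫ V1.hom = η := by
    have e1 : y1 ≫ V1.hom = (y1 ≫ g.left) ≫ V.hom :=
      (congrArg (fun t => y1 ≫ t) hgV).symm.trans (Category.assoc _ _ _).symm
    exact e1.trans ((congrArg (fun t => t ≫ V.hom) h1).trans hy)
  let W1 : {ξ : Spec (CommRingCat.of Ω) ⟶ X // ξ ≫ f = η} → ((EtCoh.bc f).obj V1).left.Opens :=
    fun ξ => ((EtCoh.bc f).map (g' ξ)).left ⁻¹ᵁ Wp ξ
  have hP1 : ∀ ξ, IsPiece f (m ξ) (x ξ) g y1 (W1 ξ) := by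
    intro ξ
    have h4 := (hP ξ).restrict (g' ξ) y1 (h2 ξ) (W1 ξ) le_rfl (by
      intro z hz1 hz2
      change ((EtCoh.bc f).map (g' ξ)).left (z default) ∈ Wp ξ
      rw [← Scheme.Hom.comp_apply]
      refine (hP ξ).mem (z ≫ ((EtCoh.bc f).map (g' ξ)).left) ?_ ?_
      · have e1 : (z ≫ ((EtCoh.bc f).map (g' ξ)).left) ≫ pullback.fst (Vp ξ).hom f =
            (z ≫ pullback.fst V1.hom f) ≫ (g' ξ).left :=
          (Category.assoc _ _ _).trans ((congrArg (fun t => z ≫ t) (bc_map_left_fst f (g' ξ))).trans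
            (Category.assoc _ _ _).symm)
        exact e1.trans ((congrArg (fun t => t ≫ (g' ξ).left) hz1).trans (h2 ξ))
      · exact (Category.assoc _ _ _).trans
          ((congrArg (fun t => z ≫ t) (bc_map_left_snd f (g' ξ))).trans hz2))
    rwa [h3 ξ] at h4
  obtain ⟨-, V3, r, y3, hy3, Wo, hle, hdisj, hcov, hmem⟩ :=
    exists_disjoint_cover f η V1 y1 hy1η W1
      (fun ξ z hz1 hz2 => (hP1 ξ).mem z hz1 (hz2.trans (hx2 ξ).symm))
  refine ⟨V3, r ≫ g, y3, ?_, Wo, hdisj, hcov, fun ξ => ?_⟩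
  · change y3 ≫ r.left ≫ g.left = y
    exact (Category.assoc _ _ _).symm.trans ((congrArg (fun t => t ≫ g.left) hy3).trans h1)
  · exact (hP1 ξ).restrict r y3 hy3 (Wo ξ) (hle ξ)
      (fun z hz1 hz2 => hmem ξ z hz1 (hz2.trans (hx2 ξ)))

end Cover

end Groth.Agent.Lib.Seat1.StalkGeo
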