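import Mathlib
import Groth.Prelude.Def_EtBaseX
import Groth.Prelude.Def_SGA4b
import Groth.Agent.Lib.Seat1StalkGeo
import Groth.Agent.Lib.Seat1StalkAbs
import Groth.Agent.Lib.Seat1FinPush
import Groth.Agent.Lib.Seat1DisjCover

/-!
# The stalk of a finite direct image (seat 1)

For `f : X ⟶ Y` finite and `η : Spec Ω ⟶ Y` with `Ω` algebraically closed, the fibre of `f_* F` at `η` is the product
of the fibres of `F` at the geometric points `ξ : Spec Ω ⟶ X` over `η`.
-/

set_option autoImplicit false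
set_option linter.style.haveILetI false
set_option linter.unusedSectionVars false
universe u
open CategoryTheory CategoryTheory.Limits AlgebraicGeometry Opposite

namespace Groth.Agent.Lib.Seat1.StalkFin

open Groth.Agent.Lib.Seat1.FinSplit Groth.Agent.Lib.Seat1.FinPush Groth.Agent.Lib.Seat1.DisjCover
  Groth.Agent.Lib.Helper16.SmallEtale Groth.Agent.Lib.Seat1.StalkGeo Groth.Agent.Lib.Seat1.StalkAbs

section Glue

variable {X : Scheme.{u}}

/-- sections of a sheaf of sets over a covering by pairwise disjoint opens -/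
lemma bijective_restrict_opens (P : X.Etaleᵒᵖ ⥤ Type (u + 1))
    (hP : Presieve.IsSheaf X.smallEtaleTopology P) (Z : X.Etale) {ι : Type*} (W : ι → Z.left.Opens)
    (hdisj : ∀ i j, i ≠ j → Disjoint (W i) (W j)) (hcov : ∀ z : Z.left, ∃ i, z ∈ W i) :
    Function.Bijective (fun (t : P.obj (op Z)) (i : ι) => P.map (opnIn Z (W i)).op t) := by
  rw [Function.bijective_iff_existsUnique]
  intro x
  have hmem : Sieve.ofArrows (fun i => opnOf Z (W i)) (fun i => opnIn Z (W i)) ∈
      X.smallEtaleTopology Z := by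
    rw [mem_smallEtale_iff]
    intro y
    obtain ⟨i, hi⟩ := hcov y
    exact ⟨opnOf Z (W i), opnIn Z (W i), ⟨y, hi⟩, Sieve.ofArrows_mk _ _ i, rfl⟩
  have h1 := hP _ hmem
  have h2 : (Presieve.ofArrows (fun i => opnOf Z (W i)) (fun i => opnIn Z (W i))).IsSheafFor P :=
    (Presieve.isSheafFor_iff_generate _).2 h1
  have h3 := (Presieve.isSheafFor_arrows_iff P _).1 h2 x (by
    intro i j Z' gi gj hg
    by_cases hij : i = j
    · subst hij
      rw [opnIn_mono_left gi gj hg]
    · haveI := isEmpty_of_disjoint_opens (hdisj i j hij) gi gj hg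
      exact (subsingleton_of_isEmpty P hP Z').elim _ _)
  obtain ⟨t, ht, htu⟩ := h3
  exact ⟨t, funext ht, fun t' ht' => htu t' (fun i => congrFun ht' i)⟩

end Glue

section Setup

variable {X Y : Scheme.{u}} (f : X ⟶ Y) {Ω : Type u} [Field Ω] [IsSepClosed Ω]
  (η : Spec (CommRingCat.of Ω) ⟶ Y)

/-- the geometric points of `X` over `η` -/
abbrev Pts : Type u := {ξ : Spec (CommRingCat.of Ω) ⟶ X // ξ ≫ f = η}

/-- the point of the small étale site of `X` attached to a geometric point over `η` -/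
noncomputable abbrev Ψ (ξ : Pts f η) : X.smallEtaleTopology.Point := Scheme.pointSmallEtale ξ.1

set_option backward.isDefEq.respectTransparency.types false in
/-- the image of a point of an étale neighbourhood of `η` in the base change, over `ξ` -/
noncomputable def liftPt (ξ : Pts f η) (V : Y.Etale) (y : (Scheme.pointSmallEtale η).fiber.obj V) :
    (Ψ f η ξ).fiber.obj ((EtCoh.bc f).obj V) :=
  (Over.homMk (pullback.lift
    (Over.Hom.left (show Over.mk η ⟶ (Scheme.Etale.forget Y).obj V from y)) ξ.1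
      ((Over.w (show Over.mk η ⟶ (Scheme.Etale.forget Y).obj V from y)).trans ξ.2.symm))
    (pullback.lift_snd _ _ _) : Over.mk ξ.1 ⟶ (Scheme.Etale.forget X).obj ((EtCoh.bc f).obj V))

set_option backward.isDefEq.respectTransparency.types false in
lemma liftPt_left_fst (ξ : Pts f η) (V : Y.Etale) (y : (Scheme.pointSmallEtale η).fiber.obj V) :
    (Over.Hom.left (show Over.mk ξ.1 ⟶ (Scheme.Etale.forget X).obj ((EtCoh.bc f).obj V) from
      liftPt f η ξ V y)) ≫ pullback.fst V.hom f =
      Over.Hom.left (show Over.mk η ⟶ (Scheme.Etale.forget Y).obj V from y) :=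
  pullback.lift_fst _ _ _

set_option backward.isDefEq.respectTransparency.types false in
lemma liftPt_left_snd (ξ : Pts f η) (V : Y.Etale) (y : (Scheme.pointSmallEtale η).fiber.obj V) :
    (Over.Hom.left (show Over.mk ξ.1 ⟶ (Scheme.Etale.forget X).obj ((EtCoh.bc f).obj V) from
      liftPt f η ξ V y)) ≫ pullback.snd V.hom f = ξ.1 :=
  pullback.lift_snd _ _ _

set_option backward.isDefEq.respectTransparency.types false in
/-- two points of the base change over `ξ` with the same image in `V` coincide -/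
lemma fiber_bc_ext (ξ : Pts f η) (V : Y.Etale)
    (a b : (Ψ f η ξ).fiber.obj ((EtCoh.bc f).obj V))
    (h : (Over.Hom.left (show Over.mk ξ.1 ⟶ (Scheme.Etale.forget X).obj ((EtCoh.bc f).obj V) from a)) ≫
        pullback.fst V.hom f =
      (Over.Hom.left (show Over.mk ξ.1 ⟶ (Scheme.Etale.forget X).obj ((EtCoh.bc f).obj V) from b)) ≫
        pullback.fst V.hom f) : a = b := by
  apply Over.OverMorphism.ext
  refine pullback.hom_ext h ?_
  exact (Over.w (show Over.mk ξ.1 ⟶ (Scheme.Etale.forget X).obj ((EtCoh.bc f).obj V) from a)).trans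
    (Over.w (show Over.mk ξ.1 ⟶ (Scheme.Etale.forget X).obj ((EtCoh.bc f).obj V) from b)).symm

set_option backward.isDefEq.respectTransparency.types false in
/-- the natural map from the fibre functor at `η` to the fibre functor at `ξ` of the base change -/
noncomputable def θ (ξ : Pts f η) :
    (Scheme.pointSmallEtale η).fiber ⟶ EtCoh.bc f ⋙ (Ψ f η ξ).fiber where
  app V := TypeCat.ofHom (liftPt f η ξ V)
  naturality V V' g := by
    ext y
    apply fiber_bc_ext
    symm
    change ((Over.Hom.left (show Over.mk ξ.1 ⟶ (Scheme.Etale.forget X).obj ((EtCoh.bc f).obj V) from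
        liftPt f η ξ V y)) ≫ ((EtCoh.bc f).map g).left) ≫ pullback.fst V'.hom f =
      (Over.Hom.left (show Over.mk ξ.1 ⟶ (Scheme.Etale.forget X).obj ((EtCoh.bc f).obj V') from
        liftPt f η ξ V' ((Scheme.pointSmallEtale η).fiber.map g y))) ≫ pullback.fst V'.hom f
    rw [liftPt_left_fst]
    refine (Category.assoc _ _ _).trans ?_
    refine (congrArg (fun t => (Over.Hom.left (show Over.mk ξ.1 ⟶
      (Scheme.Etale.forget X).obj ((EtCoh.bc f).obj V) from liftPt f η ξ V y)) ≫ t)
      (bc_map_left_fst f g)).trans ?_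
    refine (Category.assoc _ _ _).symm.trans ?_
    refine (congrArg (fun t => t ≫ g.left) (liftPt_left_fst f η ξ V y)).trans ?_
    rfl

end Setup

section Main

variable {X Y : Scheme.{u}} (f : X ⟶ Y) [IsFinite f] {Ω : Type u} [Field Ω] [IsAlgClosed Ω]
  (η : Spec (CommRingCat.of Ω) ⟶ Y)
  {A : Type (u + 2)} [Category.{u + 1} A] {FC : A → A → Type*} {CC : A → Type (u + 1)}
  [∀ X Y, FunLike (FC X Y) (CC X) (CC Y)] [ConcreteCategory.{u + 1} A FC]
  [HasColimitsOfSize.{u, u} A] [PreservesFilteredColimitsOfSize.{u, u} (forget A)]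

set_option backward.isDefEq.respectTransparency.types false in
set_option maxHeartbeats 800000 in
/-- **The fibre of a finite direct image** (presheaf level): for a presheaf `P` on `X_ét` whose underlying presheaf of
sets is a sheaf, the fibre of `f_* P` at `η` maps bijectively onto the product of the fibres of `P` at the geometric
points over `η`. -/
theorem cmp_bijective_et (P : X.Etaleᵒᵖ ⥤ A)
    (hP : Presieve.IsSheaf X.smallEtaleTopology (P ⋙ forget A)) :
    Function.Bijective
      (fun (s : ToType ((Scheme.pointSmallEtale η).presheafFiber.obj ((EtCoh.bc f).op ⋙ P)))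
        (ξ : Pts f η) =>
        (ConcreteCategory.hom (cmp (EtCoh.bc f) (Scheme.pointSmallEtale η) (Ψ f η) (θ f η) ξ P)) s) := by
  apply cmp_bijective
  · -- the terminal neighbourhood
    refine ⟨EtCoh.top Y,
      (Over.homMk η (Category.comp_id η) : Over.mk η ⟶ (Scheme.Etale.forget Y).obj (EtCoh.top Y)), ?_, ?_⟩
    · intro U
      exact ⟨MorphismProperty.Over.homMk (pullback.lift (U.hom ≫ f) U.hom
        (by rw [Category.assoc]; exact congrArg (fun t => U.hom ≫ t) (Category.comp_id f)))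
        (pullback.lift_snd _ _ _)⟩
    · intro ξ
      constructor
      intro a b
      apply fiber_bc_ext
      have key : ∀ c : (Ψ f η ξ).fiber.obj ((EtCoh.bc f).obj (EtCoh.top Y)),
          (Over.Hom.left (show Over.mk ξ.1 ⟶
            (Scheme.Etale.forget X).obj ((EtCoh.bc f).obj (EtCoh.top Y)) from c)) ≫
            pullback.fst (EtCoh.top Y).hom f = ξ.1 ≫ f := by
        intro c
        let cl : Spec (CommRingCat.of Ω) ⟶ pullback (𝟙 Y) f := Over.Hom.left (show Over.mk ξ.1 ⟶
            (Scheme.Etale.forget X).obj ((EtCoh.bc f).obj (EtCoh.top Y)) from c)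
        have hc : cl ≫ pullback.snd (𝟙 Y) f = ξ.1 := Over.w (show Over.mk ξ.1 ⟶
            (Scheme.Etale.forget X).obj ((EtCoh.bc f).obj (EtCoh.top Y)) from c)
        change cl ≫ pullback.fst (𝟙 Y) f = ξ.1 ≫ f
        have e1 : pullback.fst (𝟙 Y) f = pullback.snd (𝟙 Y) f ≫ f := by
          rw [← pullback.condition, Category.comp_id]
        rw [e1, ← Category.assoc, hc]
      exact (key a).trans (key b).symm
  · -- the splitting hypothesis
    intro V y U x m hm
    let yl : Spec (CommRingCat.of Ω) ⟶ V.left :=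
      Over.Hom.left (show Over.mk η ⟶ (Scheme.Etale.forget Y).obj V from y)
    have hyl : yl ≫ V.hom = η := Over.w (show Over.mk η ⟶ (Scheme.Etale.forget Y).obj V from y)
    let xl : ∀ ξ : Pts f η, Spec (CommRingCat.of Ω) ⟶ (U ξ).left := fun ξ =>
      Over.Hom.left (show Over.mk ξ.1 ⟶ (Scheme.Etale.forget X).obj (U ξ) from x ξ)
    have hx2 : ∀ ξ, xl ξ ≫ (U ξ).hom = ξ.1 := fun ξ =>
      Over.w (show Over.mk ξ.1 ⟶ (Scheme.Etale.forget X).obj (U ξ) from x ξ)
    have hx1 : ∀ ξ, xl ξ ≫ (m ξ).left ≫ pullback.fst V.hom f = yl := by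
      intro ξ
      have h1 : xl ξ ≫ (m ξ).left = Over.Hom.left (show Over.mk ξ.1 ⟶
          (Scheme.Etale.forget X).obj ((EtCoh.bc f).obj V) from liftPt f η ξ V y) :=
        congrArg (fun t : Over.mk ξ.1 ⟶ (Scheme.Etale.forget X).obj ((EtCoh.bc f).obj V) =>
          Over.Hom.left t) (hm ξ)
      exact (Category.assoc _ _ _).symm.trans
        ((congrArg (fun t => t ≫ pullback.fst V.hom f) h1).trans (liftPt_left_fst f η ξ V y))
    obtain ⟨V', g, y', hy', Wo, hdisj, hcov, hPc⟩ := exists_split f η V yl hyl U xl m hx1 hx2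
    choose b w hb hw1 hw2 using hPc
    have hgV : g.left ≫ V.hom = V'.hom := Over.w g.hom
    have hy'η : y' ≫ V'.hom = η :=
      ((congrArg (fun t => y' ≫ t) hgV).symm.trans (Category.assoc _ _ _).symm).trans
        ((congrArg (fun t => t ≫ V.hom) hy').trans hyl)
    have hwξ : ∀ ξ, w ξ ≫ (opnOf ((EtCoh.bc f).obj V') (Wo ξ)).hom = ξ.1 := by
      intro ξ
      have e1 : (b ξ).left ≫ (U ξ).hom = (opnOf ((EtCoh.bc f).obj V') (Wo ξ)).hom := Over.w (b ξ).hom
      exact ((congrArg (fun t => w ξ ≫ t) e1).symm.trans (Category.assoc _ _ _).symm).trans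
        ((congrArg (fun t => t ≫ (U ξ).hom) (hw2 ξ)).trans (hx2 ξ))
    let y'' : (Scheme.pointSmallEtale η).fiber.obj V' :=
      (Over.homMk y' hy'η : Over.mk η ⟶ (Scheme.Etale.forget Y).obj V')
    let w' : ∀ ξ : Pts f η, (Ψ f η ξ).fiber.obj (opnOf ((EtCoh.bc f).obj V') (Wo ξ)) := fun ξ =>
      (Over.homMk (w ξ) (hwξ ξ) :
        Over.mk ξ.1 ⟶ (Scheme.Etale.forget X).obj (opnOf ((EtCoh.bc f).obj V') (Wo ξ)))
    refine ⟨V', g, y'', fun ξ => opnOf ((EtCoh.bc f).obj V') (Wo ξ),
      fun ξ => opnIn ((EtCoh.bc f).obj V') (Wo ξ), w', b, ?_, ?_, hb, ?_, ?_⟩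
    · apply Over.OverMorphism.ext
      exact hy'
    · intro ξ
      apply fiber_bc_ext
      refine Eq.trans ?_ (liftPt_left_fst f η ξ V' y'').symm
      exact (Category.assoc _ _ _).trans (hw1 ξ)
    · intro ξ
      apply Over.OverMorphism.ext
      exact hw2 ξ
    · exact bijective_restrict_opens (P ⋙ forget A) hP ((EtCoh.bc f).obj V') Wo hdisj hcov

end Main

section Iso

variable {X Y : Scheme.{u}} (f : X ⟶ Y) [IsFinite f] {Ω : Type u} [Field Ω] [IsAlgClosed Ω]
  (η : Spec (CommRingCat.of Ω) ⟶ Y)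

/-- the comparison natural transformation on sheaves of sets -/
noncomputable def τSh (ξ : Pts f η) :
    EtDesc.pushSh f ⋙ (Scheme.pointSmallEtale η).sheafFiber (A := Type (u + 1)) ⟶
      ((Scheme.pointSmallEtale ξ.1).sheafFiber (A := Type (u + 1)) : EtDesc.Sh X ⥤ Type (u + 1)) where
  app F := cmp (EtCoh.bc f) (Scheme.pointSmallEtale η) (Ψ f η) (θ f η) ξ F.obj
  naturality _ _ φ := cmp_naturality (EtCoh.bc f) (Scheme.pointSmallEtale η) (Ψ f η) (θ f η) ξ φ.hom

set_option maxHeartbeats 800000 in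
/-- **S6181**: the functor `F ↦ (f_* F)_η` on étale sheaves of sets is the product of the fibre functors at the
geometric points over `η`, for `f` finite and `Ω` algebraically closed. -/
theorem nonempty_iso_sh :
    Nonempty (EtDesc.pushSh f ⋙ (Scheme.pointSmallEtale η).sheafFiber (A := Type (u + 1)) ≅
      ∏ᶜ fun ξ : {ξ : Spec (CommRingCat.of Ω) ⟶ X // ξ ≫ f = η} =>
        ((Scheme.pointSmallEtale ξ.1).sheafFiber (A := Type (u + 1)) :
          EtDesc.Sh X ⥤ Type (u + 1))) := by
  let G : Pts f η → (EtDesc.Sh X ⥤ Type (u + 1)) := fun ξ =>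
    (Scheme.pointSmallEtale ξ.1).sheafFiber (A := Type (u + 1))
  let τ : EtDesc.pushSh f ⋙ (Scheme.pointSmallEtale η).sheafFiber (A := Type (u + 1)) ⟶ ∏ᶜ G :=
    Pi.lift (τSh f η)
  have hiso : ∀ F : EtDesc.Sh X, IsIso (τ.app F) := by
    intro F
    let e1 := piObjIso G F
    let e2 := Types.productIso.{u, u + 1} (fun ξ => (G ξ).obj F)
    let β := τ.app F ≫ e1.hom ≫ e2.hom
    have h1 : ∀ ξ, β ≫ TypeCat.ofHom (fun t : ∀ ξ, (G ξ).obj F => t ξ) =
        cmp (EtCoh.bc f) (Scheme.pointSmallEtale η) (Ψ f η) (θ f η) ξ F.obj := by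
      intro ξ
      have e3 : e2.hom ≫ TypeCat.ofHom (fun t : ∀ ξ, (G ξ).obj F => t ξ) =
          Pi.π (fun ξ => (G ξ).obj F) ξ := Types.productIso_hom_comp_eval _ ξ
      have e4 : e1.hom ≫ Pi.π (fun ξ => (G ξ).obj F) ξ = (Pi.π G ξ).app F :=
        piObjIso_hom_comp_π G F ξ
      have e5 : τ.app F ≫ (Pi.π G ξ).app F = (τSh f η ξ).app F := by
        rw [← NatTrans.comp_app, Pi.lift_π]
      simp only [β, Category.assoc]
      rw [e3, e4, e5]
      rfl
    have hβ : IsIso β := by
      rw [isIso_iff_bijective]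
      have hb := cmp_bijective_et f η (A := Type (u + 1)) F.obj
        ((isSheaf_iff_isSheaf_of_type _ _).1 F.property)
      have hfun : ∀ s, β s = fun ξ => (ConcreteCategory.hom
          (cmp (EtCoh.bc f) (Scheme.pointSmallEtale η) (Ψ f η) (θ f η) ξ F.obj)) s :=
        fun s => funext (fun ξ => ConcreteCategory.congr_hom (h1 ξ) s)
      refine ⟨fun a b hab => hb.1 ((hfun a).symm.trans (hab.trans (hfun b))), fun t => ?_⟩
      obtain ⟨s, hs⟩ := hb.2 t
      exact ⟨s, (hfun s).trans hs⟩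
    exact IsIso.of_isIso_comp_right (τ.app F) (e1.hom ≫ e2.hom)
  haveI : IsIso τ := NatIso.isIso_of_isIso_app τ
  exact ⟨asIso τ⟩

set_option maxHeartbeats 800000 in
/-- the comparison `(f_* F)_η ⟶ ∏ F_ξ` is an isomorphism of abelian groups -/
theorem isIso_piLift_ab [EtCoh.BCCont f] (F : EtCoh.Ab X) :
    IsIso (Pi.lift (fun ξ : Pts f η =>
      cmp (EtCoh.bc f) (Scheme.pointSmallEtale η) (Ψ f η) (θ f η) ξ F.obj) :
      (Scheme.pointSmallEtale η).presheafFiber.obj ((EtCoh.bc f).op ⋙ F.obj) ⟶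
        ∏ᶜ fun ξ : Pts f η => (Scheme.pointSmallEtale ξ.1).presheafFiber.obj F.obj) := by
  let M : Pts f η → AddCommGrpCat.{u + 1} := fun ξ =>
    (Scheme.pointSmallEtale ξ.1).presheafFiber.obj F.obj
  let c : (Scheme.pointSmallEtale η).presheafFiber.obj ((EtCoh.bc f).op ⋙ F.obj) ⟶ ∏ᶜ M :=
    Pi.lift (fun ξ : Pts f η =>
      cmp (EtCoh.bc f) (Scheme.pointSmallEtale η) (Ψ f η) (θ f η) ξ F.obj)
  let e : ∏ᶜ M ≅ AddCommGrpCat.of (∀ ξ, M ξ) :=
    IsLimit.conePointUniqueUpToIso (limit.isLimit _)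
      (AddCommGrpCat.HasLimit.productLimitCone.{u, u + 1} M).isLimit
  have he : ∀ ξ, e.hom ≫ AddCommGrpCat.ofHom (Pi.evalAddMonoidHom (fun ξ => M ξ) ξ) = Pi.π M ξ :=
    fun ξ => IsLimit.conePointUniqueUpToIso_hom_comp _ _ (Discrete.mk ξ)
  let β := c ≫ e.hom
  have h1 : ∀ ξ, β ≫ AddCommGrpCat.ofHom (Pi.evalAddMonoidHom (fun ξ => M ξ) ξ) =
      cmp (EtCoh.bc f) (Scheme.pointSmallEtale η) (Ψ f η) (θ f η) ξ F.obj := by
    intro ξ
    simp only [β, c, Category.assoc]
    rw [he ξ, Pi.lift_π]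
  have hβ : IsIso β := by
    rw [ConcreteCategory.isIso_iff_bijective]
    have hb := cmp_bijective_et f η (A := AddCommGrpCat.{u + 1}) F.obj (isSheaf_forget F)
    have hfun : ∀ s, β s = fun ξ => (ConcreteCategory.hom
        (cmp (EtCoh.bc f) (Scheme.pointSmallEtale η) (Ψ f η) (θ f η) ξ F.obj)) s :=
      fun s => funext (fun ξ => ConcreteCategory.congr_hom (h1 ξ) s)
    refine ⟨fun a b hab => hb.1 ((hfun a).symm.trans (hab.trans (hfun b))), fun t => ?_⟩
    obtain ⟨s, hs⟩ := hb.2 t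
    exact ⟨s, (hfun s).trans hs⟩
  exact IsIso.of_isIso_comp_right c e.hom

/-- **S0072**: the stalk of `f_* F` at `η` is the direct sum of the stalks of `F` at the geometric points over `η`. -/
theorem nonempty_iso_ab [EtCoh.BCCont f] (F : EtCoh.Ab X) :
    Nonempty ((EtCoh.stalk η).obj ((EtCoh.push f).obj F) ≅
      ∐ fun ξ : {ξ : Spec (CommRingCat.of Ω) ⟶ X // ξ ≫ f = η} => (EtCoh.stalk ξ.1).obj F) := by
  haveI : Finite (Pts f η) := finite_points f η
  haveI := isIso_piLift_ab f η F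
  let M : Pts f η → AddCommGrpCat.{u + 1} := fun ξ => (EtCoh.stalk ξ.1).obj F
  let c : (EtCoh.stalk η).obj ((EtCoh.push f).obj F) ⟶ ∏ᶜ M :=
    Pi.lift (fun ξ : Pts f η =>
      cmp (EtCoh.bc f) (Scheme.pointSmallEtale η) (Ψ f η) (θ f η) ξ F.obj)
  haveI : IsIso c := isIso_piLift_ab f η F
  exact ⟨asIso c ≪≫ (biproduct.isoProduct M).symm ≪≫ biproduct.isoCoproduct M⟩

end Iso

end Groth.Agent.Lib.Seat1.StalkFin
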