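import Mathlib
import Groth.Prelude.Def_EtBaseX
import Groth.Prelude.Def_PBC
import Groth.Agent.Lib.Seat1StalkFin
import Groth.Agent.Lib.Seat1AlgStalk
import Groth.Agent.Lib.Helper16StalkPull

/-!
# Base change for finite morphisms in degree zero (seat 1)

For a cartesian square with `f` finite the base change map `g⁻¹ f_* F ⟶ f'_* g'⁻¹ F` is an isomorphism, by computing
both sides on stalks at geometric points with algebraically closed field.
-/

set_option autoImplicit false
set_option linter.style.haveILetI false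
set_option linter.unusedSectionVars false
universe u
open CategoryTheory CategoryTheory.Limits AlgebraicGeometry Opposite

namespace Groth.Agent.Lib.Seat1.FinBC

open Groth.Agent.S0100 Groth.Agent.S0101 Groth.Agent.Lib.Helper16.StalkPull
  Groth.Agent.Lib.Helper16.SmallEtale Groth.Agent.Lib.Seat1.StalkFin Groth.Agent.Lib.Seat1.StalkAbs

section Points

variable {X Y : Scheme.{u}} (f : X ⟶ Y) {Ω : Type u} [Field Ω] [IsSepClosed Ω]
  (ξ : Spec (CommRingCat.of Ω) ⟶ X)

set_option backward.isDefEq.respectTransparency.types false in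
/-- the first projection of the point of the base change attached by `fiberIso` -/
lemma fiberIso_inv_left_fst (U : Y.Etale) (a : (Scheme.pointSmallEtale (ξ ≫ f)).fiber.obj U) :
    (Over.Hom.left (show Over.mk ξ ⟶ (Scheme.Etale.forget X).obj ((EtCoh.bc f).obj U) from
      (fiberIso f ξ).inv.app U a)) ≫ pullback.fst U.hom f =
      Over.Hom.left (show Over.mk (ξ ≫ f) ⟶ (Scheme.Etale.forget Y).obj U from a) := by
  simp only [fiberIso, Iso.trans_inv, Functor.isoWhiskerLeft_inv, Functor.isoWhiskerRight_inv,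
    NatTrans.comp_app, Functor.whiskerLeft_app, Functor.whiskerRight_app, Iso.symm_inv]
  change (Over.Hom.left (((Over.mapPullbackAdj f).homEquiv (Over.mk ξ)
    ((Scheme.Etale.forget Y).obj U) a) ≫
    (MorphismProperty.Over.pullbackCompForgetIso (P := EtCoh.etaleMP) (Q := ⊤) f).inv.app U)) ≫
      pullback.fst U.hom f = _
  have h1 : (((Over.mapPullbackAdj f).homEquiv (Over.mk ξ) ((Scheme.Etale.forget Y).obj U)) a).left =
      pullback.lift (Over.Hom.left (show Over.mk (ξ ≫ f) ⟶ (Scheme.Etale.forget Y).obj U from a)) ξ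
        (Over.w (show Over.mk (ξ ≫ f) ⟶ (Scheme.Etale.forget Y).obj U from a)) := by
    simp [Over.mapPullbackAdj]
  have h2 : ((MorphismProperty.Over.pullbackCompForgetIso (P := EtCoh.etaleMP) (Q := ⊤) f).inv.app U).left
      = 𝟙 _ := rfl
  rw [Over.comp_left, h1, h2]
  exact (congrArg (fun t => t ≫ pullback.fst U.hom f) (Category.comp_id _)).trans
    (pullback.lift_fst _ _ _)

set_option backward.isDefEq.respectTransparency.types false in
/-- two points of the base change over `ξ` with the same image in `V` coincide -/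
lemma fiber_ext (V : Y.Etale) (a b : (Scheme.pointSmallEtale ξ).fiber.obj ((EtCoh.bc f).obj V))
    (h : (Over.Hom.left (show Over.mk ξ ⟶ (Scheme.Etale.forget X).obj ((EtCoh.bc f).obj V) from a)) ≫
        pullback.fst V.hom f =
      (Over.Hom.left (show Over.mk ξ ⟶ (Scheme.Etale.forget X).obj ((EtCoh.bc f).obj V) from b)) ≫
        pullback.fst V.hom f) : a = b := by
  apply Over.OverMorphism.ext
  refine pullback.hom_ext h ?_
  exact (Over.w (show Over.mk ξ ⟶ (Scheme.Etale.forget X).obj ((EtCoh.bc f).obj V) from a)).trans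
    (Over.w (show Over.mk ξ ⟶ (Scheme.Etale.forget X).obj ((EtCoh.bc f).obj V) from b)).symm

end Points

section Kappa

variable {X Y X' Y' : Scheme.{u}} (f : X ⟶ Y) (g : Y' ⟶ Y) (f' : X' ⟶ Y') (g' : X' ⟶ X)
  (w : g' ≫ f = f' ≫ g)

set_option backward.isDefEq.respectTransparency.types false in
/-- the comparison of iterated base changes -/
noncomputable def κ (V : Y.Etale) :
    (EtCoh.bc f').obj ((EtCoh.bc g).obj V) ⟶ (EtCoh.bc g').obj ((EtCoh.bc f).obj V) :=
  (MorphismProperty.Over.pullbackComp (P := EtCoh.etaleMP) (Q := ⊤) f' g).inv.app V ≫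
    (MorphismProperty.Over.pullbackCongr (P := EtCoh.etaleMP) (Q := ⊤) w).inv.app V ≫
    (MorphismProperty.Over.pullbackComp (P := EtCoh.etaleMP) (Q := ⊤) g' f).hom.app V

set_option backward.isDefEq.respectTransparency.types false in
/-- the base change map on sections coming from downstairs -/
lemma baseChange0_unit_apply (F : EtCoh.Ab X) (V : Y.Etale)
    (σ : F.obj.obj (op ((EtCoh.bc f).obj V))) :
    (EtCoh.baseChange0 f g f' g' w F).hom.app (op ((EtCoh.bc g).obj V))
      (((EtCoh.pullPushAdj g).unit.app ((EtCoh.push f).obj F)).hom.app (op V) σ) =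
    ((EtCoh.pull g').obj F).obj.map (κ f g f' g' w V).op
      (((EtCoh.pullPushAdj g').unit.app F).hom.app (op ((EtCoh.bc f).obj V)) σ) := by
  let ψ : (EtCoh.push f).obj F ⟶ (EtCoh.push g).obj ((EtCoh.push f').obj ((EtCoh.pull g').obj F)) :=
    (EtCoh.push f).map ((EtCoh.pullPushAdj g').unit.app F) ≫ (EtCoh.pushComp f g').hom.app _ ≫
      (EtCoh.pushCongr w).hom.app _ ≫ (EtCoh.pushComp g f').inv.app _
  have h1 : (EtCoh.pullPushAdj g).unit.app ((EtCoh.push f).obj F) ≫
      (EtCoh.push g).map (EtCoh.baseChange0 f g f' g' w F) = ψ := by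
    refine ((EtCoh.pullPushAdj g).homEquiv_unit _ _ _).symm.trans ?_
    exact Equiv.apply_symm_apply _ _
  have h2 := congrArg (fun m : (EtCoh.push f).obj F ⟶
    (EtCoh.push g).obj ((EtCoh.push f').obj ((EtCoh.pull g').obj F)) => m.hom.app (op V) σ) h1
  refine h2.trans ?_
  dsimp only [ψ]
  simp only [EtCoh.pushComp, EtCoh.pushCongr, κ,
    ConcreteCategory.comp_apply, op_comp, Functor.map_comp]
  rfl

lemma inv_comp_of_hom_comp {C : Type*} [Category C] {A B D : C} (e_hom : A ⟶ B) (e_inv : B ⟶ A)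
    (h : e_inv ≫ e_hom = 𝟙 B) {p : B ⟶ D} {q : A ⟶ D} (hq : e_hom ≫ p = q) : e_inv ≫ q = p := by
  rw [← hq, ← Category.assoc, h, Category.id_comp]

lemma chain3 {C : Type*} [Category C] {A B D E G : C} (a : A ⟶ B) (b : B ⟶ D) (c : D ⟶ E) (p : E ⟶ G)
    (pD : D ⟶ G) (pB : B ⟶ G) (pA : A ⟶ G) (h1 : c ≫ p = pD) (h2 : b ≫ pD = pB) (h3 : a ≫ pB = pA) :
    (a ≫ b ≫ c) ≫ p = pA := by
  simp only [Category.assoc, h1, h2, h3]

lemma comp_aux1 {C : Type*} [Category C] {S P K A B D : C} (p : S ⟶ P) (k : P ⟶ K) (a : K ⟶ A)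
    (b : A ⟶ B) (c : P ⟶ D) (d : D ⟶ B) (v1 : S ⟶ D) (v : S ⟶ B) (hk1 : k ≫ a ≫ b = c ≫ d)
    (hp1 : p ≫ c = v1) (hv1 : v1 ≫ d = v) : ((p ≫ k) ≫ a) ≫ b = v := by
  simp only [Category.assoc]
  rw [hk1, ← Category.assoc, hp1, hv1]

lemma comp_aux2 {C : Type*} [Category C] {S P K A B T : C} (p : S ⟶ P) (k : P ⟶ K) (a : K ⟶ A)
    (s : A ⟶ B) (t : K ⟶ T) (g' : T ⟶ B) (t' : P ⟶ T) (x : S ⟶ T) (hc : a ≫ s = t ≫ g')
    (hk2 : k ≫ t = t') (hp2 : p ≫ t' = x) : ((p ≫ k) ≫ a) ≫ s = x ≫ g' := by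
  simp only [Category.assoc]
  rw [hc, ← Category.assoc k, hk2, ← Category.assoc, hp2]

set_option backward.isDefEq.respectTransparency.types false in
lemma κ_left_fst_fst (V : Y.Etale) :
    (κ f g f' g' w V).left ≫ pullback.fst ((EtCoh.bc f).obj V).hom g' ≫ pullback.fst V.hom f =
      pullback.fst ((EtCoh.bc g).obj V).hom f' ≫ pullback.fst V.hom g := by
  have h1 := MorphismProperty.Over.pullbackComp_left_fst_fst (P := EtCoh.etaleMP) (Q := ⊤) g' f V
  have h2 := MorphismProperty.Over.pullbackComp_left_fst_fst (P := EtCoh.etaleMP) (Q := ⊤) f' g V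
  have h3 := MorphismProperty.Over.pullbackCongr_hom_app_left_fst (P := EtCoh.etaleMP) (Q := ⊤) w V
  let a := (MorphismProperty.Over.pullbackComp (P := EtCoh.etaleMP) (Q := ⊤) f' g).app V
  let b := (MorphismProperty.Over.pullbackCongr (P := EtCoh.etaleMP) (Q := ⊤) w).app V
  let c := (MorphismProperty.Over.pullbackComp (P := EtCoh.etaleMP) (Q := ⊤) g' f).app V
  have ha : a.inv.left ≫ a.hom.left = 𝟙 _ := congrArg (fun t => t.left) a.inv_hom_id
  have hb : b.inv.left ≫ b.hom.left = 𝟙 _ := congrArg (fun t => t.left) b.inv_hom_id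
  have h2' := inv_comp_of_hom_comp a.hom.left a.inv.left ha h2
  have h3' := inv_comp_of_hom_comp b.hom.left b.inv.left hb h3
  exact chain3 a.inv.left b.inv.left c.hom.left _ _ _ _ h1 h3' h2'

end Kappa

section Main

variable {X Y X' Y' : Scheme.{u}} (f : X ⟶ Y) (g : Y' ⟶ Y) (f' : X' ⟶ Y') (g' : X' ⟶ X)
  (w : g' ≫ f = f' ≫ g) {Ω : Type u} [Field Ω] [IsSepClosed Ω] (η' : Spec (CommRingCat.of Ω) ⟶ Y')

/-- the map on geometric points of the fibres induced by `g'` -/
noncomputable def ρ (ξ' : Pts f' η') : Pts f (η' ≫ g) :=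
  ⟨ξ'.1 ≫ g', by rw [Category.assoc, w, ← Category.assoc, ξ'.2]⟩

lemma ρ_bijective (h : IsPullback g' f' f g) : Function.Bijective (ρ f g f' g' h.w η') := by
  constructor
  · intro a b hab
    apply Subtype.ext
    apply h.hom_ext
    · exact congrArg Subtype.val hab
    · exact a.2.trans b.2.symm
  · intro ξ
    refine ⟨⟨h.lift ξ.1 η' ξ.2, h.lift_snd _ _ _⟩, ?_⟩
    apply Subtype.ext
    exact h.lift_fst _ _ _

set_option backward.isDefEq.respectTransparency.types false in
/-- the two ways of transporting a point of an étale neighbourhood of `η' ≫ g` to the iterated base change agree -/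
lemma points_eq (ξ' : Pts f' η') (V : Y.Etale)
    (v : (Scheme.pointSmallEtale (η' ≫ g)).fiber.obj V) :
    (Scheme.pointSmallEtale ξ'.1).fiber.map (κ f g f' g' w V)
        ((θ f' η' ξ').app ((EtCoh.bc g).obj V) ((fiberIso g η').inv.app V v)) =
      (fiberIso g' ξ'.1).inv.app ((EtCoh.bc f).obj V)
        ((θ f (η' ≫ g) (ρ f g f' g' w η' ξ')).app V v) := by
  apply fiber_ext g' ξ'.1 ((EtCoh.bc f).obj V)
  rw [fiberIso_inv_left_fst]
  -- both sides are points of `V ×_Y X`
  let v1 := (fiberIso g η').inv.app V v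
  let p : Spec (CommRingCat.of Ω) ⟶ ((EtCoh.bc f').obj ((EtCoh.bc g).obj V)).left :=
    Over.Hom.left (show Over.mk ξ'.1 ⟶
      (Scheme.Etale.forget X').obj ((EtCoh.bc f').obj ((EtCoh.bc g).obj V)) from
      liftPt f' η' ξ' ((EtCoh.bc g).obj V) v1)
  have hp1 : p ≫ pullback.fst ((EtCoh.bc g).obj V).hom f' =
      Over.Hom.left (show Over.mk η' ⟶ (Scheme.Etale.forget Y').obj ((EtCoh.bc g).obj V) from v1) :=
    liftPt_left_fst f' η' ξ' _ v1
  have hp2 : p ≫ pullback.snd ((EtCoh.bc g).obj V).hom f' = ξ'.1 :=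
    liftPt_left_snd f' η' ξ' _ v1
  have hv1 : (Over.Hom.left (show Over.mk η' ⟶
      (Scheme.Etale.forget Y').obj ((EtCoh.bc g).obj V) from v1)) ≫ pullback.fst V.hom g =
      Over.Hom.left (show Over.mk (η' ≫ g) ⟶ (Scheme.Etale.forget Y).obj V from v) :=
    fiberIso_inv_left_fst g η' V v
  let k : ((EtCoh.bc f').obj ((EtCoh.bc g).obj V)).left ⟶
      ((EtCoh.bc g').obj ((EtCoh.bc f).obj V)).left := (κ f g f' g' w V).left
  have hk1 : k ≫ pullback.fst ((EtCoh.bc f).obj V).hom g' ≫ pullback.fst V.hom f =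
      pullback.fst ((EtCoh.bc g).obj V).hom f' ≫ pullback.fst V.hom g := κ_left_fst_fst f g f' g' w V
  have hk2 : k ≫ pullback.snd ((EtCoh.bc f).obj V).hom g' =
      pullback.snd ((EtCoh.bc g).obj V).hom f' := Over.w (κ f g f' g' w V).hom
  change (p ≫ k) ≫ pullback.fst ((EtCoh.bc f).obj V).hom g' =
    Over.Hom.left (show Over.mk (ξ'.1 ≫ g') ⟶ (Scheme.Etale.forget X).obj ((EtCoh.bc f).obj V) from
      liftPt f (η' ≫ g) (ρ f g f' g' w η' ξ') V v)
  refine pullback.hom_ext ?_ ?_
  · refine Eq.trans ?_ (liftPt_left_fst f (η' ≫ g) (ρ f g f' g' w η' ξ') V v).symm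
    exact comp_aux1 p k _ _ _ _ _ _ hk1 hp1 hv1
  · refine Eq.trans ?_ (liftPt_left_snd f (η' ≫ g) (ρ f g f' g' w η' ξ') V v).symm
    exact comp_aux2 p k _ _ _ g' _ ξ'.1 pullback.condition hk2 hp2

set_option backward.isDefEq.respectTransparency.types false in
set_option maxHeartbeats 800000 in
/-- **Compatibility of the base change map with the stalk comparisons.** -/
lemma key_comm (F : EtCoh.Ab X) (ξ' : Pts f' η')
    (x : ToType ((EtCoh.stalk (η' ≫ g)).obj ((EtCoh.push f).obj F))) :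
    cmp (EtCoh.bc f') (Scheme.pointSmallEtale η') (Ψ f' η') (θ f' η') ξ' ((EtCoh.pull g').obj F).obj
        ((EtCoh.stalk η').map (EtCoh.baseChange0 f g f' g' w F)
          ((stalkPullIso g η').hom.app ((EtCoh.push f).obj F) x)) =
      (stalkPullIso g' ξ'.1).hom.app F
        (cmp (EtCoh.bc f) (Scheme.pointSmallEtale (η' ≫ g)) (Ψ f (η' ≫ g)) (θ f (η' ≫ g))
          (ρ f g f' g' w η' ξ') F.obj x) := by
  obtain ⟨V, v, σ, rfl⟩ := (Scheme.pointSmallEtale (η' ≫ g)).toPresheafFiber_jointly_surjective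
    (P := ((EtCoh.push f).obj F).obj) x
  -- the right hand side
  have hR0 := cmp_toPresheafFiber_apply (EtCoh.bc f) (Scheme.pointSmallEtale (η' ≫ g)) (Ψ f (η' ≫ g))
    (θ f (η' ≫ g)) (ρ f g f' g' w η' ξ') F.obj V v σ
  have hR := germ_compat g' ξ'.1 F ((EtCoh.bc f).obj V)
    ((θ f (η' ≫ g) (ρ f g f' g' w η' ξ')).app V v) σ
  refine Eq.trans ?_ ((congrArg (fun t => (stalkPullIso g' ξ'.1).hom.app F t) hR0).trans hR).symm
  -- the left hand side
  have hL1 : (stalkPullIso g η').hom.app ((EtCoh.push f).obj F)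
      ((Scheme.pointSmallEtale (η' ≫ g)).toPresheafFiber V v ((EtCoh.push f).obj F).obj σ) =
      (Scheme.pointSmallEtale η').toPresheafFiber ((EtCoh.bc g).obj V) ((fiberIso g η').inv.app V v)
        ((EtCoh.pull g).obj ((EtCoh.push f).obj F)).obj
        (((EtCoh.pullPushAdj g).unit.app ((EtCoh.push f).obj F)).hom.app (op V) σ) :=
    germ_compat g η' ((EtCoh.push f).obj F) V v σ
  have hL2 : (EtCoh.stalk η').map (EtCoh.baseChange0 f g f' g' w F)
      ((Scheme.pointSmallEtale η').toPresheafFiber ((EtCoh.bc g).obj V) ((fiberIso g η').inv.app V v)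
        ((EtCoh.pull g).obj ((EtCoh.push f).obj F)).obj
        (((EtCoh.pullPushAdj g).unit.app ((EtCoh.push f).obj F)).hom.app (op V) σ)) =
      (Scheme.pointSmallEtale η').toPresheafFiber ((EtCoh.bc g).obj V) ((fiberIso g η').inv.app V v)
        ((EtCoh.push f').obj ((EtCoh.pull g').obj F)).obj
        ((EtCoh.baseChange0 f g f' g' w F).hom.app (op ((EtCoh.bc g).obj V))
          (((EtCoh.pullPushAdj g).unit.app ((EtCoh.push f).obj F)).hom.app (op V) σ)) :=
    (Scheme.pointSmallEtale η').toPresheafFiber_naturality_apply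
      (EtCoh.baseChange0 f g f' g' w F).hom ((EtCoh.bc g).obj V) ((fiberIso g η').inv.app V v)
      (((EtCoh.pullPushAdj g).unit.app ((EtCoh.push f).obj F)).hom.app (op V) σ)
  have hL2b : (Scheme.pointSmallEtale η').toPresheafFiber ((EtCoh.bc g).obj V)
      ((fiberIso g η').inv.app V v) ((EtCoh.push f').obj ((EtCoh.pull g').obj F)).obj
        ((EtCoh.baseChange0 f g f' g' w F).hom.app (op ((EtCoh.bc g).obj V))
          (((EtCoh.pullPushAdj g).unit.app ((EtCoh.push f).obj F)).hom.app (op V) σ)) =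
      (Scheme.pointSmallEtale η').toPresheafFiber ((EtCoh.bc g).obj V)
      ((fiberIso g η').inv.app V v) ((EtCoh.push f').obj ((EtCoh.pull g').obj F)).obj
        (((EtCoh.pull g').obj F).obj.map (κ f g f' g' w V).op
          (((EtCoh.pullPushAdj g').unit.app F).hom.app (op ((EtCoh.bc f).obj V)) σ)) :=
    congrArg _ (baseChange0_unit_apply f g f' g' w F V σ)
  have hL3 := cmp_toPresheafFiber_apply (EtCoh.bc f') (Scheme.pointSmallEtale η') (Ψ f' η')
    (θ f' η') ξ' ((EtCoh.pull g').obj F).obj ((EtCoh.bc g).obj V) ((fiberIso g η').inv.app V v)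
    (((EtCoh.pull g').obj F).obj.map (κ f g f' g' w V).op
      (((EtCoh.pullPushAdj g').unit.app F).hom.app (op ((EtCoh.bc f).obj V)) σ))
  have hL4 := (Scheme.pointSmallEtale ξ'.1).toPresheafFiber_w_apply (κ f g f' g' w V)
    ((θ f' η' ξ').app ((EtCoh.bc g).obj V) ((fiberIso g η').inv.app V v))
    ((EtCoh.pull g').obj F).obj
    (((EtCoh.pullPushAdj g').unit.app F).hom.app (op ((EtCoh.bc f).obj V)) σ)
  have hL5 := points_eq f g f' g' w η' ξ' V v
  refine (congrArg (fun t => cmp (EtCoh.bc f') (Scheme.pointSmallEtale η') (Ψ f' η') (θ f' η') ξ'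
    ((EtCoh.pull g').obj F).obj ((EtCoh.stalk η').map (EtCoh.baseChange0 f g f' g' w F) t)) hL1).trans ?_
  refine (congrArg (fun t => cmp (EtCoh.bc f') (Scheme.pointSmallEtale η') (Ψ f' η') (θ f' η') ξ'
    ((EtCoh.pull g').obj F).obj t) (hL2.trans hL2b)).trans ?_
  refine hL3.trans (hL4.trans ?_)
  rw [hL5]
  rfl

end Main

section Iso

variable {X Y X' Y' : Scheme.{u}} (f : X ⟶ Y) [IsFinite f] (g : Y' ⟶ Y) (f' : X' ⟶ Y') (g' : X' ⟶ X)
  (h : IsPullback g' f' f g)

/-- reindexing a dependent family along a bijection is bijective -/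
lemma bijective_reindex {α β : Type*} (r : α → β) (hr : Function.Bijective r) (M : β → Type*) :
    Function.Bijective (fun (s : ∀ b, M b) (a : α) => s (r a)) := by
  constructor
  · intro s s' hs
    funext b
    obtain ⟨a, rfl⟩ := hr.2 b
    exact congrFun hs a
  · intro t
    let e : α ≃ β := Equiv.ofBijective r hr
    refine ⟨Equiv.piCongrLeft M e t, ?_⟩
    funext a
    exact Equiv.piCongrLeft_apply_apply M e t a

set_option maxHeartbeats 800000 in
/-- the base change map is bijective on stalks at geometric points with algebraically closed field -/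
theorem stalk_baseChange0_bijective (F : EtCoh.Ab X) {Ω : Type u} [Field Ω] [IsAlgClosed Ω]
    (η' : Spec (CommRingCat.of Ω) ⟶ Y') :
    Function.Bijective ((EtCoh.stalk η').map (EtCoh.baseChange0 f g f' g' h.w F)) := by
  haveI : IsFinite f' := MorphismProperty.of_isPullback h (inferInstance : IsFinite f)
  let T1 := (stalkPullIso g η').hom.app ((EtCoh.push f).obj F)
  have hT1 : Function.Bijective T1 := (ConcreteCategory.isIso_iff_bijective _).mp inferInstance
  have hT3 : ∀ ξ' : Pts f' η', Function.Bijective ((stalkPullIso g' ξ'.1).hom.app F) :=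
    fun ξ' => (ConcreteCategory.isIso_iff_bijective _).mp inferInstance
  have hC' := cmp_bijective_et f' η' (A := AddCommGrpCat.{u + 1}) ((EtCoh.pull g').obj F).obj
    (Groth.Agent.Lib.Seat1.DisjCover.isSheaf_forget ((EtCoh.pull g').obj F))
  have hC := cmp_bijective_et f (η' ≫ g) (A := AddCommGrpCat.{u + 1}) F.obj
    (Groth.Agent.Lib.Seat1.DisjCover.isSheaf_forget F)
  have hρ := ρ_bijective f g f' g' η' h
  -- the composite through the products
  have hR : Function.Bijective
      (fun (x : ToType ((EtCoh.stalk (η' ≫ g)).obj ((EtCoh.push f).obj F))) (ξ' : Pts f' η') =>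
        (stalkPullIso g' ξ'.1).hom.app F
          (cmp (EtCoh.bc f) (Scheme.pointSmallEtale (η' ≫ g)) (Ψ f (η' ≫ g)) (θ f (η' ≫ g))
            (ρ f g f' g' h.w η' ξ') F.obj x)) := by
    have h1 := bijective_reindex (ρ f g f' g' h.w η') hρ
      (fun ξ : Pts f (η' ≫ g) => ToType ((EtCoh.stalk ξ.1).obj F))
    have h2 : Function.Bijective (Pi.map (fun (ξ' : Pts f' η') =>
        (ConcreteCategory.hom ((stalkPullIso g' ξ'.1).hom.app F) :
          ToType ((EtCoh.stalk (ξ'.1 ≫ g')).obj F) →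
            ToType ((EtCoh.stalk ξ'.1).obj ((EtCoh.pull g').obj F))))) :=
      Function.Bijective.piMap hT3
    exact h2.comp (h1.comp hC)
  have hcomp : Function.Bijective (fun x => (EtCoh.stalk η').map (EtCoh.baseChange0 f g f' g' h.w F)
      (T1 x)) := by
    have h3 : (fun (x : ToType ((EtCoh.stalk (η' ≫ g)).obj ((EtCoh.push f).obj F)))
        (ξ' : Pts f' η') =>
        (stalkPullIso g' ξ'.1).hom.app F
          (cmp (EtCoh.bc f) (Scheme.pointSmallEtale (η' ≫ g)) (Ψ f (η' ≫ g)) (θ f (η' ≫ g))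
            (ρ f g f' g' h.w η' ξ') F.obj x)) =
        (fun (z : ToType ((Scheme.pointSmallEtale η').presheafFiber.obj
          ((EtCoh.bc f').op ⋙ ((EtCoh.pull g').obj F).obj))) (ξ' : Pts f' η') =>
          (ConcreteCategory.hom (cmp (EtCoh.bc f') (Scheme.pointSmallEtale η') (Ψ f' η') (θ f' η') ξ'
            ((EtCoh.pull g').obj F).obj)) z) ∘
        (fun x => (EtCoh.stalk η').map (EtCoh.baseChange0 f g f' g' h.w F) (T1 x)) := by
      funext x ξ'
      exact (key_comm f g f' g' h.w η' F ξ' x).symm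
    rw [h3] at hR
    exact (Function.Bijective.of_comp_iff' hC' _).1 hR
  exact (Function.Bijective.of_comp_iff _ hT1).1 hcomp

/-- **S0621**: finite base change in degree zero. -/
theorem isIso_baseChange0 (F : EtCoh.Ab X) : IsIso (EtCoh.baseChange0 f g f' g' h.w F) := by
  apply Groth.Agent.Lib.Seat1.AlgStalk.isIso_of_stalks
  intro Ω _ _ η'
  exact stalk_baseChange0_bijective f g f' g' h F η'

/-- **S0161**: cohomology commutes with base change for finite morphisms (abstract isomorphism form). -/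
theorem cohCommutesWithBC [EtCoh.BCCont f] : EtPBC.CohCommutesWithBC f := by
  intro X' Y' f' g' g _ _ _ hsq F _ q
  haveI : IsFinite f' := MorphismProperty.of_isPullback hsq (inferInstance : IsFinite f)
  rcases Nat.eq_zero_or_pos q with rfl | hq
  · haveI := isIso_baseChange0 f g f' g' hsq F
    haveI : PreservesLimits (EtCoh.push f) := (EtCoh.pullPushAdj f).rightAdjoint_preservesLimits
    haveI : PreservesLimits (EtCoh.push f') := (EtCoh.pullPushAdj f').rightAdjoint_preservesLimits
    exact ⟨(EtCoh.pull g).mapIso ((EtCoh.push f).rightDerivedZeroIsoSelf.app F) ≪≫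
      asIso (EtCoh.baseChange0 f g f' g' hsq.w F) ≪≫
      ((EtCoh.push f').rightDerivedZeroIsoSelf.app ((EtCoh.pull g').obj F)).symm⟩
  · have h1 : IsZero ((EtCoh.Rpush f q).obj F) :=
      Groth.Agent.Lib.Seat1.FinPush.isZero_Rpush f F q hq
    have h2 : IsZero ((EtCoh.Rpush f' q).obj ((EtCoh.pull g').obj F)) :=
      Groth.Agent.Lib.Seat1.FinPush.isZero_Rpush f' _ q hq
    haveI : (EtCoh.pull g).IsLeftAdjoint := (EtCoh.pullPushAdj g).isLeftAdjoint
    haveI : (EtCoh.pull g).PreservesZeroMorphisms :=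
      Functor.preservesZeroMorphisms_of_isLeftAdjoint _
    have h3 : IsZero ((EtCoh.pull g).obj ((EtCoh.Rpush f q).obj F)) :=
      (EtCoh.pull g).map_isZero h1
    exact ⟨h3.iso h2⟩

end Iso

end Groth.Agent.Lib.Seat1.FinBC
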