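import Mathlib
import Groth.Prelude.Def_EtBase
import Groth.Agent.Lib.Seat3EtaleLift

/-!
# Étale schemes over a closed subscheme lift locally to the ambient scheme (seat 3)

`exists_local_lift`: for a closed immersion `f : X ⟶ Y`, an étale `g : U ⟶ X` and a point `u : U` there
are an étale `Y`-scheme `V` and an open immersion `h : V ×_Y X ⟶ U` over `X` whose image contains `u`.
-/

set_option autoImplicit false
set_option linter.style.haveILetI false
universe u

open CategoryTheory CategoryTheory.Limits AlgebraicGeometry TopologicalSpace Opposite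

namespace Groth.Agent.Lib.Seat3.EtaleClosedLift

/-- A commutative square of commutative rings `A → D`, `A → Ā`, `D → C`, `Ā → C` with `A → Ā` and
`D → C` surjective and `ker (D → C) = (ker (A → Ā)) D` is a pushout. -/
theorem isPushout_of_surjective_of_ker {A Abar D C : CommRingCat.{u}} (α : A ⟶ D) (φ : A ⟶ Abar)
    (π' : D ⟶ C) (ψ : Abar ⟶ C) (w : α ≫ π' = φ ≫ ψ) (hφ : Function.Surjective φ.hom)
    (hπ' : Function.Surjective π'.hom)
    (hker : RingHom.ker π'.hom = Ideal.map α.hom (RingHom.ker φ.hom)) :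
    IsPushout α φ π' ψ := by
  have hle : ∀ s : PushoutCocone α φ, RingHom.ker π'.hom ≤ RingHom.ker s.inl.hom := by
    intro s
    rw [hker, Ideal.map_le_iff_le_comap]
    intro a ha
    rw [Ideal.mem_comap, RingHom.mem_ker]
    have h1 : s.inl.hom (α.hom a) = s.inr.hom (φ.hom a) :=
      congrArg (fun k : A ⟶ s.pt => k.hom a) s.condition
    rw [h1, (RingHom.mem_ker).mp ha, map_zero]
  refine IsPushout.of_isColimit' ⟨w⟩ (PushoutCocone.IsColimit.mk w
    (fun s => CommRingCat.ofHom (π'.hom.liftOfSurjective hπ' ⟨s.inl.hom, hle s⟩)) ?_ ?_ ?_)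
  · intro s
    ext x
    exact RingHom.liftOfSurjective_comp_apply _ hπ' ⟨s.inl.hom, hle s⟩ x
  · intro s
    ext x
    obtain ⟨a, rfl⟩ := hφ x
    have h1 : ψ.hom (φ.hom a) = π'.hom (α.hom a) :=
      (congrArg (fun k : A ⟶ C => k.hom a) w).symm
    have h2 : s.inl.hom (α.hom a) = s.inr.hom (φ.hom a) :=
      congrArg (fun k : A ⟶ s.pt => k.hom a) s.condition
    change (π'.hom.liftOfSurjective hπ' ⟨s.inl.hom, hle s⟩) (ψ.hom (φ.hom a)) = s.inr.hom (φ.hom a)
    rw [h1, RingHom.liftOfSurjective_comp_apply _ hπ' ⟨s.inl.hom, hle s⟩ (α.hom a)]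
    exact h2
  · intro s m hm _
    ext x
    obtain ⟨d, rfl⟩ := hπ' x
    change m.hom (π'.hom d) = (π'.hom.liftOfSurjective hπ' ⟨s.inl.hom, hle s⟩) (π'.hom d)
    rw [RingHom.liftOfSurjective_comp_apply _ hπ' ⟨s.inl.hom, hle s⟩ d]
    exact congrArg (fun k : D ⟶ s.pt => k.hom d) hm

/-- Local lifting of étale schemes along a closed immersion. -/
theorem exists_local_lift {X Y U : Scheme.{u}} (f : X ⟶ Y) [IsClosedImmersion f] (g : U ⟶ X)
    [Etale g] (u : U) :
    ∃ (V : Scheme.{u}) (p : V ⟶ Y) (_ : Etale p) (h : pullback p f ⟶ U),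
      h ≫ g = pullback.snd p f ∧ IsOpenImmersion h ∧ u ∈ Set.range h.base := by
  -- affine open neighbourhoods
  obtain ⟨Y', hY', hyY', -⟩ := exists_isAffineOpen_mem_and_subset (X := Y) (x := f.base (g.base u))
    (U := ⊤) (by trivial)
  have hX' : IsAffineOpen (f ⁻¹ᵁ Y') := hY'.preimage f
  have hmem : u ∈ g ⁻¹ᵁ (f ⁻¹ᵁ Y') := hyY'
  obtain ⟨U', hU', huU', hU'le⟩ := exists_isAffineOpen_mem_and_subset (X := U) (x := u)
    (U := g ⁻¹ᵁ (f ⁻¹ᵁ Y')) hmem
  -- the rings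
  let φ : Γ(Y, Y') ⟶ Γ(X, f ⁻¹ᵁ Y') := f.appLE Y' (f ⁻¹ᵁ Y') le_rfl
  let ψ : Γ(X, f ⁻¹ᵁ Y') ⟶ Γ(U, U') := g.appLE (f ⁻¹ᵁ Y') U' hU'le
  have hφ : Function.Surjective φ.hom := by
    have := f.app_surjective Y' hY'
    simpa [φ, Scheme.Hom.app_eq_appLE] using this
  have hψ : ψ.hom.Etale := HasRingHomProperty.appLE (P := @Etale) g inferInstance ⟨_, hX'⟩ ⟨_, hU'⟩ hU'le
  letI : Algebra Γ(X, f ⁻¹ᵁ Y') Γ(U, U') := ψ.hom.toAlgebra
  haveI : Algebra.Etale Γ(X, f ⁻¹ᵁ Y') Γ(U, U') := hψ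
  obtain ⟨D, _, _, π', hEt, hπ'surj, hcomm, hker⟩ :=
    Groth.Agent.Lib.Seat3.EtaleLift.exists_etale_lift (C := Γ(U, U')) φ.hom hφ
  let Dc : CommRingCat.{u} := CommRingCat.of D
  let α : Γ(Y, Y') ⟶ Dc := CommRingCat.ofHom (algebraMap Γ(Y, Y') D)
  let π'c : Dc ⟶ Γ(U, U') := CommRingCat.ofHom π'
  have w : α ≫ π'c = φ ≫ ψ := by
    ext a
    exact RingHom.congr_fun hcomm a
  have hpo : IsPushout α φ π'c ψ := isPushout_of_surjective_of_ker α φ π'c ψ w hφ hπ'surj hker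
  have htop : IsPullback (Spec.map π'c) (Spec.map ψ) (Spec.map α) (Spec.map φ) :=
    isPullback_SpecMap_of_isPushout α φ π'c ψ hpo
  have hbot : IsPullback (Spec.map φ) hX'.fromSpec hY'.fromSpec f := by
    apply IsOpenImmersion.isPullback
    · exact (IsAffineOpen.SpecMap_appLE_fromSpec f hY' hX' le_rfl).symm
    · rw [hY'.opensRange_fromSpec, hX'.opensRange_fromSpec]
  have hpb := htop.paste_vert hbot
  -- the étale `Y`-scheme
  let p : Spec Dc ⟶ Y := Spec.map α ≫ hY'.fromSpec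
  haveI : Etale (Spec.map α) := by
    rw [HasRingHomProperty.Spec_iff (P := @Etale)]
    show (algebraMap Γ(Y, Y') D).Etale
    exact RingHom.etale_algebraMap.mpr hEt
  haveI : Etale p := by
    dsimp only [p]
    infer_instance
  have hsnd : Spec.map ψ ≫ hX'.fromSpec = hU'.fromSpec ≫ g :=
    IsAffineOpen.SpecMap_appLE_fromSpec g hX' hU' hU'le
  let e : Spec Γ(U, U') ≅ pullback p f := hpb.isoPullback
  refine ⟨Spec Dc, p, inferInstance, e.inv ≫ hU'.fromSpec, ?_, inferInstance, ?_⟩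
  · rw [Category.assoc, ← hsnd, Iso.inv_comp_eq]
    exact (hpb.isoPullback_hom_snd).symm
  · have hu : u ∈ Set.range hU'.fromSpec.base := by
      rw [hU'.range_fromSpec]
      exact huU'
    obtain ⟨z, rfl⟩ := hu
    exact ⟨e.hom.base z, by
      rw [← Scheme.Hom.comp_apply, Iso.hom_inv_id_assoc]⟩

end Groth.Agent.Lib.Seat3.EtaleClosedLift
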