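import Mathlib
import Groth.Prelude.Def_EtBase
import Groth.Agent.Lib.Helper16StalkPull
import Groth.Agent.Lib.Helper16EtSupp
import Groth.Agent.Lib.Seat3EtaleClosedLift

/-!
# Pushforward of abelian étale sheaves along a closed immersion (seat 3)

For a closed immersion `i : Z ⟶ X` the counit `i⁻¹ i_* G ⟶ G` is an isomorphism.  The proof computes the
stalks: `cmp i ζ G : (i_* G)_{ζ ≫ i} ⟶ G_ζ` is bijective, using the local lifting of étale schemes along a
closed immersion (`Seat3.EtaleClosedLift.exists_local_lift`).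
-/

set_option autoImplicit false
universe u

open CategoryTheory CategoryTheory.Limits AlgebraicGeometry Opposite

namespace Groth.Agent.Lib.Seat3.ClosedPush

open Groth.Agent.S0100 Groth.Agent.S0101 Groth.Agent.Lib.Helper16.StalkPull
  Groth.Agent.Lib.Helper16.EtStalk Groth.Agent.Lib.Helper16.SmallEtale

variable {Z X : Scheme.{u}} (i : Z ⟶ X) {Ω : Type u} [Field Ω] [IsSepClosed Ω]
  (ζ : Spec (CommRingCat.of Ω) ⟶ Z)

/-- The comparison map `(i_* G)_{ζ ≫ i} ⟶ G_ζ` (defined for any morphism `i`). -/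
noncomputable def cmp (G : EtCoh.Ab Z) :
    (EtCoh.stalk (ζ ≫ i)).obj ((EtCoh.push i).obj G) ⟶ (EtCoh.stalk ζ).obj G :=
  (stalkPullIso i ζ).hom.app ((EtCoh.push i).obj G) ≫
    (EtCoh.stalk ζ).map ((EtCoh.pullPushAdj i).counit.app G)

set_option backward.isDefEq.respectTransparency.types false in
lemma cmp_germ (G : EtCoh.Ab Z) (V : X.Etale)
    (v : (Scheme.pointSmallEtale (ζ ≫ i)).fiber.obj V)
    (σ : G.obj.obj (op ((EtCoh.bc i).obj V))) :
    cmp i ζ G (germ (ζ ≫ i) ((EtCoh.push i).obj G) V v σ) =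
      germ ζ G ((EtCoh.bc i).obj V) ((fiberIso i ζ).inv.app V v) σ := by
  have h1 := germ_compat i ζ ((EtCoh.push i).obj G) V v σ
  have h2 := (Scheme.pointSmallEtale ζ).toPresheafFiber_naturality_apply
    ((EtCoh.pullPushAdj i).counit.app G).hom ((EtCoh.bc i).obj V) ((fiberIso i ζ).inv.app V v)
    (((EtCoh.pullPushAdj i).unit.app ((EtCoh.push i).obj G)).hom.app (op V) σ)
  have t := (EtCoh.pullPushAdj i).right_triangle_components G
  have t' : ((EtCoh.pullPushAdj i).counit.app G).hom.app (op ((EtCoh.bc i).obj V))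
      (((EtCoh.pullPushAdj i).unit.app ((EtCoh.push i).obj G)).hom.app (op V) σ) = σ := by
    have := congrArg (fun m : (EtCoh.push i).obj G ⟶ (EtCoh.push i).obj G => m.hom.app (op V) σ) t
    exact this
  change (EtCoh.stalk ζ).map ((EtCoh.pullPushAdj i).counit.app G)
    ((stalkPullIso i ζ).hom.app ((EtCoh.push i).obj G)
      (germ (ζ ≫ i) ((EtCoh.push i).obj G) V v σ)) = _
  rw [h1]
  refine h2.trans ?_
  exact congrArg _ t'

set_option backward.isDefEq.respectTransparency.types false in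
/-- absolute lift of an étale neighbourhood of a geometric point of `Z` -/
lemma exists_lift_nbhd [IsClosedImmersion i] (W : Z.Etale)
    (w : (Scheme.pointSmallEtale ζ).fiber.obj W) :
    ∃ (V : X.Etale) (h : (EtCoh.bc i).obj V ⟶ W)
      (w' : (Scheme.pointSmallEtale ζ).fiber.obj ((EtCoh.bc i).obj V)),
      (Scheme.pointSmallEtale ζ).fiber.map h w' = w := by
  obtain ⟨V0, p, hp, h, hh, hopen, hmem⟩ :=
    Groth.Agent.Lib.Seat3.EtaleClosedLift.exists_local_lift i W.hom
      ((w.left : Spec (CommRingCat.of Ω) ⟶ W.left) (default : Spec (CommRingCat.of Ω)))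
  obtain ⟨x, hx⟩ := hmem
  obtain ⟨l, hl1, hl2⟩ := Scheme.exists_fac_of_etale_of_isSepClosed h
    (w.left : Spec (CommRingCat.of Ω) ⟶ W.left) x hx
  let V : X.Etale := Scheme.Etale.mk p
  let h' : (EtCoh.bc i).obj V ⟶ W := MorphismProperty.Over.homMk h hh
  have hw : (w.left : Spec (CommRingCat.of Ω) ⟶ W.left) ≫ W.hom = ζ := Over.w w
  let w' : (Scheme.pointSmallEtale ζ).fiber.obj ((EtCoh.bc i).obj V) := Over.homMk l (by
    change l ≫ pullback.snd p i = ζ
    rw [← hh, ← Category.assoc]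
    exact (congrArg (fun m => m ≫ W.hom) hl1).trans hw)
  refine ⟨V, h', w', ?_⟩
  apply Over.OverMorphism.ext
  exact hl1

set_option backward.isDefEq.respectTransparency.types false in
/-- relative lift: an étale neighbourhood of a geometric point in `V ×_X Z` is refined by the base change
of an étale neighbourhood in `V` -/
lemma exists_lift_nbhd_rel [IsClosedImmersion i] (V : X.Etale) (W : Z.Etale)
    (g : W ⟶ (EtCoh.bc i).obj V) (w : (Scheme.pointSmallEtale ζ).fiber.obj W) :
    ∃ (V' : X.Etale) (q : V' ⟶ V) (k : (EtCoh.bc i).obj V' ⟶ W)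
      (w' : (Scheme.pointSmallEtale ζ).fiber.obj ((EtCoh.bc i).obj V')),
      k ≫ g = (EtCoh.bc i).map q ∧ (Scheme.pointSmallEtale ζ).fiber.map k w' = w := by
  obtain ⟨gl, hgl⟩ : ∃ gl : W.left ⟶ pullback V.hom i, gl = g.left := ⟨g.left, rfl⟩
  have hgw : gl ≫ pullback.snd V.hom i = W.hom := by rw [hgl]; exact Over.w g.hom
  have : Etale gl := by rw [hgl]; exact inferInstanceAs (Etale g.left)
  obtain ⟨wl, hwl⟩ : ∃ wl : Spec (CommRingCat.of Ω) ⟶ W.left, wl = w.left := ⟨w.left, rfl⟩
  have hw : wl ≫ W.hom = ζ := by rw [hwl]; exact Over.w w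
  obtain ⟨V0, p0, hp0, h, hh, hopen, hmem⟩ :=
    Groth.Agent.Lib.Seat3.EtaleClosedLift.exists_local_lift (pullback.fst V.hom i) gl
      (wl (default : Spec (CommRingCat.of Ω)))
  obtain ⟨x, hx⟩ := hmem
  obtain ⟨l, hl1, hl2⟩ := Scheme.exists_fac_of_etale_of_isSepClosed h wl x hx
  let V' : X.Etale := Scheme.Etale.mk (p0 ≫ V.hom)
  let q : V' ⟶ V := MorphismProperty.Over.homMk p0 rfl
  let e := pullbackRightPullbackFstIso V.hom i p0
  have hk : (e.inv ≫ h) ≫ W.hom = pullback.snd (p0 ≫ V.hom) i := by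
    rw [← hgw, Category.assoc, reassoc_of% hh]
    exact pullbackRightPullbackFstIso_inv_snd_snd V.hom i p0
  let k : (EtCoh.bc i).obj V' ⟶ W := MorphismProperty.Over.homMk (e.inv ≫ h) hk
  have hw' : (l ≫ e.hom) ≫ pullback.snd (p0 ≫ V.hom) i = ζ := by
    rw [← hk]
    simp only [Category.assoc, Iso.hom_inv_id_assoc]
    rw [← Category.assoc, hl1, hw]
  let w' : (Scheme.pointSmallEtale ζ).fiber.obj ((EtCoh.bc i).obj V') := Over.homMk (l ≫ e.hom) hw'
  refine ⟨V', q, k, w', ?_, ?_⟩
  · apply MorphismProperty.Over.Hom.ext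
    have e1 : (e.inv ≫ h) ≫ gl = ((EtCoh.bc i).map q).left := by
      apply pullback.hom_ext
      · refine Eq.trans ?_ (bc_map_left_fst i q).symm
        simp only [Category.assoc]
        rw [reassoc_of% hh]
        exact pullbackRightPullbackFstIso_inv_snd_fst V.hom i p0
      · refine Eq.trans ?_ (bc_map_left_snd i q).symm
        simp only [Category.assoc]
        rw [reassoc_of% hh]
        exact pullbackRightPullbackFstIso_inv_snd_snd V.hom i p0
    rw [hgl] at e1
    exact e1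
  · apply Over.OverMorphism.ext
    have e2 : (l ≫ e.hom) ≫ e.inv ≫ h = wl := by
      simp only [Category.assoc, Iso.hom_inv_id_assoc]
      exact hl1
    rw [hwl] at e2
    exact e2

set_option backward.isDefEq.respectTransparency.types false in
lemma cmp_surjective [IsClosedImmersion i] (G : EtCoh.Ab Z) :
    Function.Surjective (cmp i ζ G) := by
  intro x
  let Φ := Scheme.pointSmallEtale ζ
  obtain ⟨W, w, τ, rfl⟩ := Φ.toPresheafFiber_jointly_surjective (P := G.obj) x
  obtain ⟨V, h, w', hw'⟩ := exists_lift_nbhd i ζ W w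
  refine ⟨germ (ζ ≫ i) ((EtCoh.push i).obj G) V ((fiberIso i ζ).hom.app V w') (G.obj.map h.op τ), ?_⟩
  rw [cmp_germ]
  have e1 : (fiberIso i ζ).inv.app V ((fiberIso i ζ).hom.app V w') = w' := by
    simp
  rw [e1]
  change Φ.toPresheafFiber _ w' G.obj (G.obj.map h.op τ) = _
  rw [Φ.toPresheafFiber_w_apply, hw']

set_option backward.isDefEq.respectTransparency.types false in
lemma cmp_injective [IsClosedImmersion i] (G : EtCoh.Ab Z) :
    Function.Injective (cmp i ζ G) := by
  rw [injective_iff_map_eq_zero]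
  intro y hy
  let Φ := Scheme.pointSmallEtale ζ
  let Ψ := Scheme.pointSmallEtale (ζ ≫ i)
  obtain ⟨V, v, σ, rfl⟩ := Ψ.toPresheafFiber_jointly_surjective (P := ((EtCoh.push i).obj G).obj) y
  have h1 := cmp_germ i ζ G V v σ
  change cmp i ζ G (germ (ζ ≫ i) ((EtCoh.push i).obj G) V v σ) = 0 at hy
  rw [h1] at hy
  have h2 : Φ.toPresheafFiber ((EtCoh.bc i).obj V) ((fiberIso i ζ).inv.app V v) G.obj σ =
      Φ.toPresheafFiber ((EtCoh.bc i).obj V) ((fiberIso i ζ).inv.app V v) G.obj 0 := by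
    rw [map_zero]; exact hy
  obtain ⟨W, g, w, hw, hg⟩ := (Φ.toPresheafFiber_eq_iff' _ _ σ 0).mp h2
  rw [map_zero] at hg
  have hg' : G.obj.map g.op σ = 0 := hg
  obtain ⟨V', q, k, w', hk, hkw⟩ := exists_lift_nbhd_rel i ζ V W g w
  have hv : Ψ.fiber.map q ((fiberIso i ζ).hom.app V' w') = v := by
    have nat := ConcreteCategory.congr_hom ((fiberIso i ζ).hom.naturality q) w'
    refine nat.symm.trans ?_
    change (fiberIso i ζ).hom.app V (Φ.fiber.map ((EtCoh.bc i).map q) w') = v
    rw [← hk, Functor.map_comp]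
    change (fiberIso i ζ).hom.app V (Φ.fiber.map g (Φ.fiber.map k w')) = v
    rw [hkw, hw]
    simp
  change Ψ.toPresheafFiber V v ((EtCoh.push i).obj G).obj σ = 0
  rw [← hv, ← Ψ.toPresheafFiber_w_apply]
  have e0 : ((EtCoh.push i).obj G).obj.map q.op σ = 0 := by
    change G.obj.map ((EtCoh.bc i).map q).op σ = 0
    rw [← hk, op_comp, Functor.map_comp, ConcreteCategory.comp_apply, hg', map_zero]
  rw [e0, map_zero]

lemma isIso_cmp [IsClosedImmersion i] (G : EtCoh.Ab Z) : IsIso (cmp i ζ G) :=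
  (ConcreteCategory.isIso_iff_bijective _).mpr ⟨cmp_injective i ζ G, cmp_surjective i ζ G⟩

/-- the stalk of `i_* G` at `ζ ≫ i` is the stalk of `G` at `ζ` -/
noncomputable def stalkPushIso [IsClosedImmersion i] (G : EtCoh.Ab Z) :
    (EtCoh.stalk (ζ ≫ i)).obj ((EtCoh.push i).obj G) ≅ (EtCoh.stalk ζ).obj G :=
  haveI := isIso_cmp i ζ G
  asIso (cmp i ζ G)

lemma stalk_counit_bijective [IsClosedImmersion i] (G : EtCoh.Ab Z) :
    Function.Bijective ((EtCoh.stalk ζ).map ((EtCoh.pullPushAdj i).counit.app G)) := by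
  have hiso := isIso_cmp i ζ G
  have : IsIso ((EtCoh.stalk ζ).map ((EtCoh.pullPushAdj i).counit.app G)) := by
    have e : (EtCoh.stalk ζ).map ((EtCoh.pullPushAdj i).counit.app G) =
        (stalkPullIso i ζ).inv.app ((EtCoh.push i).obj G) ≫ cmp i ζ G := by
      simp [cmp]
    rw [e]
    infer_instance
  exact (ConcreteCategory.isIso_iff_bijective _).mp this

/-- For a closed immersion `i`, the counit `i⁻¹ i_* G ⟶ G` is an isomorphism. -/
theorem isIso_counit_app [IsClosedImmersion i] (G : EtCoh.Ab Z) :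
    IsIso ((EtCoh.pullPushAdj i).counit.app G) := by
  have hm : Mono ((EtCoh.pullPushAdj i).counit.app G) :=
    mono_of_stalks _ (fun Ω _ _ ξ => (stalk_counit_bijective i ξ G).1)
  have he : Epi ((EtCoh.pullPushAdj i).counit.app G) :=
    epi_of_stalks _ (fun Ω _ _ ξ => (stalk_counit_bijective i ξ G).2)
  exact isIso_of_mono_of_epi _

instance isIso_counit [IsClosedImmersion i] : IsIso (EtCoh.pullPushAdj i).counit :=
  haveI : ∀ G, IsIso ((EtCoh.pullPushAdj i).counit.app G) := isIso_counit_app i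
  NatIso.isIso_of_isIso_app _

end Groth.Agent.Lib.Seat3.ClosedPush
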