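import Mathlib
import Groth.Agent.Lib.Seat3ClosedPush
import Groth.Agent.S0069
import Groth.Agent.S0652

/-!
# Closed immersion / open complement: stalks of unit and counit maps (seat 3)

* `exists_fac_of_mem_range`: a geometric point lying in a closed subscheme factors through it.
* `stalk_unit_bijective`: `F ⟶ i_* i⁻¹ F` is bijective on stalks at geometric points of `Z`.
* `isZero_push_sections`, `isZero_stalk_of_vanishing`, `isIso_unit_of_vanishing`.
-/

set_option autoImplicit false
universe u

open CategoryTheory CategoryTheory.Limits AlgebraicGeometry Opposite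

namespace Groth.Agent.Lib.Seat3.ClosedOpen

open Groth.Agent.S0100 Groth.Agent.S0101 Groth.Agent.Lib.Helper16.StalkPull
  Groth.Agent.Lib.Helper16.EtStalk Groth.Agent.Lib.Helper16.SmallEtale
  Groth.Agent.Lib.Seat3.ClosedPush

variable {Z X : Scheme.{u}} (i : Z ⟶ X) {Ω : Type u} [Field Ω] [IsSepClosed Ω]

omit [IsSepClosed Ω] in
set_option backward.isDefEq.respectTransparency.types false in
/-- a geometric point of `X` lying in a closed subscheme factors through it -/
lemma exists_fac_of_mem_range [IsClosedImmersion i] (ξ : Spec (CommRingCat.of Ω) ⟶ X)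
    (h : ξ (default : Spec (CommRingCat.of Ω)) ∈ Set.range i.base) :
    ∃ ζ : Spec (CommRingCat.of Ω) ⟶ Z, ζ ≫ i = ξ := by
  obtain ⟨z, hz⟩ := h
  obtain ⟨t, ht1, -⟩ := Scheme.Pullback.exists_preimage_pullback (f := ξ) (g := i)
    (default : Spec (CommRingCat.of Ω)) z hz.symm
  have hsurj : Surjective (pullback.fst ξ i) := ⟨fun y => ⟨t, Subsingleton.elim _ _⟩⟩
  have : IsIso (pullback.fst ξ i) := isIso_of_isClosedImmersion_of_surjective _
  refine ⟨inv (pullback.fst ξ i) ≫ pullback.snd ξ i, ?_⟩
  rw [Category.assoc, ← pullback.condition, IsIso.inv_hom_id_assoc]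

variable (ζ : Spec (CommRingCat.of Ω) ⟶ Z)

set_option backward.isDefEq.respectTransparency.types false in
/-- the unit `F ⟶ i_* i⁻¹ F` is bijective on stalks at geometric points of the closed subscheme -/
lemma stalk_unit_bijective [IsClosedImmersion i] (F : EtCoh.Ab X) :
    Function.Bijective ((EtCoh.stalk (ζ ≫ i)).map ((EtCoh.pullPushAdj i).unit.app F)) := by
  have tri := (EtCoh.pullPushAdj i).left_triangle_components F
  have h1 : IsIso ((EtCoh.pull i).map ((EtCoh.pullPushAdj i).unit.app F)) := by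
    have := isIso_counit_app i ((EtCoh.pull i).obj F)
    have h3 : IsIso ((EtCoh.pull i).map ((EtCoh.pullPushAdj i).unit.app F) ≫
        (EtCoh.pullPushAdj i).counit.app ((EtCoh.pull i).obj F)) := by
      rw [tri]; exact IsIso.id _
    exact IsIso.of_isIso_comp_right _ ((EtCoh.pullPushAdj i).counit.app _)
  have nat := (stalkPullIso i ζ).hom.naturality ((EtCoh.pullPushAdj i).unit.app F)
  have h4 : IsIso ((EtCoh.pull i ⋙ EtCoh.stalk ζ).map ((EtCoh.pullPushAdj i).unit.app F)) := by
    rw [Functor.comp_map]; infer_instance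
  have h5 : IsIso ((EtCoh.stalk (ζ ≫ i)).map ((EtCoh.pullPushAdj i).unit.app F) ≫
      (stalkPullIso i ζ).hom.app _) := nat ▸ inferInstance
  have h2 : IsIso ((EtCoh.stalk (ζ ≫ i)).map ((EtCoh.pullPushAdj i).unit.app F)) :=
    IsIso.of_isIso_comp_right _ ((stalkPullIso i ζ).hom.app _)
  exact (ConcreteCategory.isIso_iff_bijective _).mp h2

omit [IsSepClosed Ω] in
lemma disjoint_range_of_not_mem (ξ : Spec (CommRingCat.of Ω) ⟶ X)
    (h : ξ (default : Spec (CommRingCat.of Ω)) ∉ Set.range i.base) :
    Disjoint (Set.range ξ.base) (Set.range i.base) := by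
  rw [Set.disjoint_left]
  rintro _ ⟨a, rfl⟩ h2
  rw [Subsingleton.elim a default] at h2
  exact h h2

lemma disjoint_range_of_isEmpty_pullback {V : Scheme.{u}} (v : V ⟶ X)
    (h : IsEmpty ↥(pullback v i)) : Disjoint (Set.range v.base) (Set.range i.base) := by
  rw [Set.disjoint_left]
  rintro _ ⟨a, rfl⟩ ⟨b, hb⟩
  obtain ⟨t, -, -⟩ := Scheme.Pullback.exists_preimage_pullback (f := v) (g := i) a b hb.symm
  exact h.false t

lemma isEmpty_pullback_of_disjoint_range {V : Scheme.{u}} (v : V ⟶ X)
    (h : Disjoint (Set.range v.base) (Set.range i.base)) : IsEmpty ↥(pullback v i) := by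
  constructor
  intro t
  have e := congrArg (fun m => m t) (pullback.condition (f := v) (g := i))
  simp only [Scheme.Hom.comp_apply] at e
  exact (Set.disjoint_left.mp h) ⟨_, rfl⟩ ⟨_, e.symm⟩

set_option backward.isDefEq.respectTransparency.types false in
/-- sections of `i_* G` over étale schemes missing the closed subscheme vanish -/
lemma isZero_push_sections (G : EtCoh.Ab Z) (U : X.Etale)
    (h : Disjoint (Set.range U.hom.base) (Set.range i.base)) :
    IsZero (((EtCoh.push i).obj G).obj.obj (op U)) := by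
  have hGs : Presieve.IsSheaf Z.smallEtaleTopology (G.obj ⋙ forget AddCommGrpCat) :=
    (isSheaf_iff_isSheaf_of_type _ _).mp
      ((Presheaf.isSheaf_iff_isSheaf_forget _ _ (forget AddCommGrpCat)).mp G.property)
  have hE : IsEmpty ((EtCoh.bc i).obj U).left := isEmpty_pullback_of_disjoint_range i U.hom h
  have hss : Subsingleton ((G.obj ⋙ forget AddCommGrpCat).obj (op ((EtCoh.bc i).obj U))) :=
    Groth.Agent.Lib.Helper16.EtGlue.subsingleton_of_isEmpty _ hGs _
  have hss' : Subsingleton (((EtCoh.push i).obj G).obj.obj (op U) : AddCommGrpCat.{u + 1}) := hss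
  exact AddCommGrpCat.isZero_of_subsingleton _

set_option backward.isDefEq.respectTransparency.types false in
/-- a sheaf whose sections over étale schemes missing `Z` vanish has zero stalks outside `Z` -/
lemma isZero_stalk_of_vanishing [IsClosedImmersion i] (F : EtCoh.Ab X)
    (hF : ∀ U : X.Etale, Disjoint (Set.range U.hom.base) (Set.range i.base) →
      IsZero (F.obj.obj (op U)))
    (ξ : Spec (CommRingCat.of Ω) ⟶ X)
    (hξ : Disjoint (Set.range ξ.base) (Set.range i.base)) :
    IsZero ((EtCoh.stalk ξ).obj F) := by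
  let Φ := Scheme.pointSmallEtale ξ
  change IsZero (Φ.presheafFiber.obj F.obj)
  have hsub : Subsingleton (Φ.presheafFiber.obj F.obj : AddCommGrpCat.{u + 1}) := by
    suffices h : ∀ p : (Φ.presheafFiber.obj F.obj : AddCommGrpCat.{u + 1}), p = 0 by
      exact ⟨fun a b => (h a).trans (h b).symm⟩
    intro p
    obtain ⟨V, x, z, rfl⟩ := Φ.toPresheafFiber_jointly_surjective (P := F.obj) p
    obtain ⟨xl, hxl, hxw⟩ : ∃ xl : Spec (CommRingCat.of Ω) ⟶ V.left,
        xl = x.left ∧ xl ≫ V.hom = ξ := ⟨x.left, rfl, Over.w x⟩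
    obtain ⟨O, l, hl, hempty⟩ := Groth.Agent.S0069.exists_open_missing i V.hom xl
      (by rw [hxw]; exact hξ)
    let V' : X.Etale := Scheme.Etale.mk (O.ι ≫ V.hom)
    let k : V' ⟶ V := MorphismProperty.Over.homMk O.ι rfl
    have hlw : l ≫ O.ι ≫ V.hom = ξ :=
      (Category.assoc _ _ _).symm.trans ((congrArg (fun m => m ≫ V.hom) hl).trans hxw)
    let x' : Φ.fiber.obj V' := Over.homMk l hlw
    have hx' : Φ.fiber.map k x' = x := by
      apply Over.OverMorphism.ext
      exact hl.trans hxl
    have hz0 : IsZero (F.obj.obj (op V')) :=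
      hF V' (disjoint_range_of_isEmpty_pullback i (O.ι ≫ V.hom) hempty)
    have hss := AddCommGrpCat.isZero_iff_subsingleton.mp hz0
    have hz : F.obj.map k.op z = 0 := hss.elim _ _
    rw [← hx', ← Φ.toPresheafFiber_w_apply, hz, map_zero]
  exact AddCommGrpCat.isZero_of_subsingleton _

lemma bijective_of_isZero {A B : AddCommGrpCat.{u + 1}} (f : A ⟶ B) (hA : IsZero A) (hB : IsZero B) :
    Function.Bijective f := by
  have s1 := AddCommGrpCat.isZero_iff_subsingleton.mp hA
  have s2 := AddCommGrpCat.isZero_iff_subsingleton.mp hB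
  exact ⟨fun a b _ => Subsingleton.elim a b, fun b => ⟨0, Subsingleton.elim _ _⟩⟩

set_option backward.isDefEq.respectTransparency.types false in
/-- if the sections of `F` over étale schemes missing `Z` vanish then `F ⟶ i_* i⁻¹ F` is an isomorphism -/
theorem isIso_unit_of_vanishing [IsClosedImmersion i] (F : EtCoh.Ab X)
    (hF : ∀ U : X.Etale, Disjoint (Set.range U.hom.base) (Set.range i.base) →
      IsZero (F.obj.obj (op U))) :
    IsIso ((EtCoh.pullPushAdj i).unit.app F) := by
  have hbij : ∀ (Ω : Type u) [Field Ω] [IsSepClosed Ω] (ξ : Spec (CommRingCat.of Ω) ⟶ X),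
      Function.Bijective ((EtCoh.stalk ξ).map ((EtCoh.pullPushAdj i).unit.app F)) := by
    intro Ω _ _ ξ
    by_cases hξ : ξ (default : Spec (CommRingCat.of Ω)) ∈ Set.range i.base
    · obtain ⟨ζ, rfl⟩ := exists_fac_of_mem_range i ξ hξ
      exact stalk_unit_bijective i ζ F
    · have hd := disjoint_range_of_not_mem i ξ hξ
      exact bijective_of_isZero _ (isZero_stalk_of_vanishing i F hF ξ hd)
        (Groth.Agent.S0069.result i _ ξ hd)
  have hm : Mono ((EtCoh.pullPushAdj i).unit.app F) :=
    mono_of_stalks _ (fun Ω _ _ ξ => (hbij Ω ξ).1)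
  have he : Epi ((EtCoh.pullPushAdj i).unit.app F) :=
    epi_of_stalks _ (fun Ω _ _ ξ => (hbij Ω ξ).2)
  exact isIso_of_mono_of_epi _

end Groth.Agent.Lib.Seat3.ClosedOpen
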