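import Mathlib
import Groth.Agent.Lib.Seat3ClosedOpen
import Groth.Agent.S0622
import Groth.Agent.S0647
import Groth.Agent.S0651
import Groth.Agent.S0652

/-!
# The short exact sequence `0 ⟶ j_! j⁻¹ F ⟶ F ⟶ i_* i⁻¹ F ⟶ 0` (seat 3)

For a closed immersion `i : Z ⟶ X` with open complement `j = U.ι`.
-/

set_option autoImplicit false
universe u

open CategoryTheory CategoryTheory.Limits AlgebraicGeometry Opposite

namespace Groth.Agent.Lib.Seat3.OpenClosedSeq

open Groth.Agent.S0100 Groth.Agent.S0101 Groth.Agent.Lib.Helper16.StalkPull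
  Groth.Agent.Lib.Helper16.EtStalk Groth.Agent.Lib.Helper16.SmallEtale
  Groth.Agent.Lib.Seat3.ClosedPush Groth.Agent.Lib.Seat3.ClosedOpen

variable {U X : Scheme.{u}} (j : U ⟶ X) [AlgebraicGeometry.Etale j] [EtShriek.JCont j]
  {Ω : Type u} [Field Ω] [IsSepClosed Ω]

/-- a sheaf all of whose groups of sections vanish is zero -/
lemma isZero_of_sections {Y : Scheme.{u}} (H : EtCoh.Ab Y)
    (h : ∀ V : Y.Etale, IsZero (H.obj.obj (op V))) : IsZero H := by
  rw [IsZero.iff_id_eq_zero]
  apply Sheaf.hom_ext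
  apply NatTrans.ext
  funext V
  exact (h V.unop).eq_of_src _ _

set_option backward.isDefEq.respectTransparency.types false in
/-- the counit `j_! j⁻¹ G ⟶ G` is bijective on stalks at geometric points of `U` -/
lemma stalk_counit_extZero_bijective [Mono j] (G : EtCoh.Ab X) (v : Spec (CommRingCat.of Ω) ⟶ U) :
    Function.Bijective ((EtCoh.stalk (v ≫ j)).map ((EtShriek.extZeroAdj j).counit.app G)) := by
  let c := (EtShriek.extZeroAdj j).counit.app G
  have h1 : IsIso ((EtShriek.restrAlong j).map c) := by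
    have tri := (EtShriek.extZeroAdj j).right_triangle_components G
    have := Groth.Agent.S0651.isIso_unit_extZero j
    have h3 : IsIso ((EtShriek.extZeroAdj j).unit.app ((EtShriek.restrAlong j).obj G) ≫
        (EtShriek.restrAlong j).map c) := by
      rw [tri]; exact IsIso.id _
    exact IsIso.of_isIso_comp_left ((EtShriek.extZeroAdj j).unit.app _) _
  have h2 : IsIso ((EtCoh.stalk (v ≫ j)).map c) := by
    have nat := (Groth.Agent.S0652.stalkRestrIso j v).hom.naturality c
    have h4 : IsIso ((EtShriek.restrAlong j ⋙ EtCoh.stalk v).map c) := by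
      rw [Functor.comp_map]; infer_instance
    have h5 : IsIso ((EtCoh.stalk (v ≫ j)).map c ≫
        (Groth.Agent.S0652.stalkRestrIso j v).hom.app G) := nat ▸ inferInstance
    exact IsIso.of_isIso_comp_right _ ((Groth.Agent.S0652.stalkRestrIso j v).hom.app G)
  exact (ConcreteCategory.isIso_iff_bijective _).mp h2

set_option backward.isDefEq.respectTransparency.types false in
/-- the stalk of `j_! A` vanishes at geometric points that do not lift to `U` -/
lemma isZero_stalk_extZero (A : EtCoh.Ab U) (ξ : Spec (CommRingCat.of Ω) ⟶ X)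
    (hξ : ξ (default : Spec (CommRingCat.of Ω)) ∉ Set.range j.base) :
    IsZero ((EtCoh.stalk ξ).obj ((EtShriek.extZero j).obj A)) := by
  obtain ⟨e⟩ := Groth.Agent.S0647.result j A ξ
  refine IsZero.of_iso ?_ e
  have hemp : IsEmpty {u : Spec (CommRingCat.of Ω) ⟶ U // u ≫ j = ξ} := by
    constructor
    rintro ⟨u, rfl⟩
    exact hξ ⟨u default, rfl⟩
  rw [IsZero.iff_id_eq_zero]
  apply Sigma.hom_ext
  intro b
  exact (hemp.false b).elim

section
variable {Z X : Scheme.{u}} (i : Z ⟶ X) [IsClosedImmersion i]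
  (U : X.Opens) (hU : (U : Set X) = (Set.range i.base)ᶜ) [AlgebraicGeometry.Etale U.ι]
  [EtShriek.JCont U.ι]

omit [IsClosedImmersion i] in
include hU in
set_option backward.isDefEq.respectTransparency.types false in
/-- `j⁻¹ i_* H = 0` for the open complement `j` of a closed immersion `i` -/
lemma isZero_restr_push (H : EtCoh.Ab Z) :
    IsZero ((EtShriek.restrAlong U.ι).obj ((EtCoh.push i).obj H)) := by
  apply isZero_of_sections
  intro V
  change IsZero (((EtCoh.push i).obj H).obj.obj (op ((EtShriek.compEtale U.ι).obj V)))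
  apply isZero_push_sections
  rw [Set.disjoint_left]
  rintro _ ⟨a, rfl⟩ h2
  have h3 : (V.hom ≫ U.ι) a ∈ (U : Set X) := by
    rw [Scheme.Hom.comp_apply]
    exact (V.hom a).2
  rw [hU] at h3
  exact h3 h2

omit [IsClosedImmersion i] in
include hU in
set_option backward.isDefEq.respectTransparency.types false in
lemma comp_eq_zero (F : EtCoh.Ab X) :
    (EtShriek.extZeroAdj U.ι).counit.app F ≫ (EtCoh.pullPushAdj i).unit.app F = 0 := by
  apply ((EtShriek.extZeroAdj U.ι).homEquiv _ _).injective
  exact (isZero_restr_push i U hU _).eq_of_tgt _ _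

omit [AlgebraicGeometry.Etale U.ι] [EtShriek.JCont U.ι] in
include hU in
set_option backward.isDefEq.respectTransparency.types false in
/-- every geometric point of `X` factors through `Z` or through its open complement -/
lemma fac_cases {Ω : Type u} [Field Ω] (ξ : Spec (CommRingCat.of Ω) ⟶ X) :
    (∃ ζ : Spec (CommRingCat.of Ω) ⟶ Z, ζ ≫ i = ξ) ∨
      (ξ (default : Spec (CommRingCat.of Ω)) ∉ Set.range i.base ∧
        ∃ v : Spec (CommRingCat.of Ω) ⟶ (U : Scheme.{u}), v ≫ U.ι = ξ) := by
  by_cases hξ : ξ (default : Spec (CommRingCat.of Ω)) ∈ Set.range i.base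
  · exact Or.inl (exists_fac_of_mem_range i ξ hξ)
  · refine Or.inr ⟨hξ, IsOpenImmersion.lift U.ι ξ ?_, IsOpenImmersion.lift_fac _ _ _⟩
    rw [Groth.Agent.S0652.range_spec_field, Scheme.Opens.range_ι, hU]
    exact Set.singleton_subset_iff.mpr hξ

include hU in
set_option backward.isDefEq.respectTransparency.types false in
/-- the sequence `0 ⟶ j_! j⁻¹ F ⟶ F ⟶ i_* i⁻¹ F ⟶ 0` is short exact -/
theorem shortExact (F : EtCoh.Ab X) :
    (ShortComplex.mk ((EtShriek.extZeroAdj U.ι).counit.app F) ((EtCoh.pullPushAdj i).unit.app F)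
      (comp_eq_zero i U hU F)).ShortExact := by
  have hrange : Set.range U.ι.base = (Set.range i.base)ᶜ := by
    rw [Scheme.Opens.range_ι, hU]
  have hmono : Mono ((EtShriek.extZeroAdj U.ι).counit.app F) := by
    apply mono_of_stalks
    intro Ω _ _ ξ
    rcases fac_cases i U hU ξ with ⟨ζ, rfl⟩ | ⟨-, v, rfl⟩
    · have hz : IsZero ((EtCoh.stalk (ζ ≫ i)).obj
          ((EtShriek.extZero U.ι).obj ((EtShriek.restrAlong U.ι).obj F))) := by
        apply isZero_stalk_extZero
        rw [hrange]
        exact fun h => h ⟨ζ default, rfl⟩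
      have s1 := AddCommGrpCat.isZero_iff_subsingleton.mp hz
      exact fun a b _ => s1.elim a b
    · exact (stalk_counit_extZero_bijective U.ι F v).1
  have hepi : Epi ((EtCoh.pullPushAdj i).unit.app F) := by
    apply epi_of_stalks
    intro Ω _ _ ξ
    rcases fac_cases i U hU ξ with ⟨ζ, rfl⟩ | ⟨hξ, -⟩
    · exact (stalk_unit_bijective i ζ F).2
    · have hz := Groth.Agent.S0069.result i ((EtCoh.pull i).obj F) ξ
        (disjoint_range_of_not_mem i ξ hξ)
      have s1 := AddCommGrpCat.isZero_iff_subsingleton.mp hz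
      exact fun b => ⟨0, s1.elim _ _⟩
  have hexact : (ShortComplex.mk ((EtShriek.extZeroAdj U.ι).counit.app F)
      ((EtCoh.pullPushAdj i).unit.app F) (comp_eq_zero i U hU F)).Exact := by
    rw [(Groth.Agent.S0622.result _ (𝟙 F)).1]
    intro Ω _ _ ξ
    rw [ShortComplex.ab_exact_iff]
    intro x hx
    rcases fac_cases i U hU ξ with ⟨ζ, rfl⟩ | ⟨hξ, v, rfl⟩
    · refine ⟨0, ?_⟩
      have h0 : (EtCoh.stalk (ζ ≫ i)).map ((EtCoh.pullPushAdj i).unit.app F) x =
          (EtCoh.stalk (ζ ≫ i)).map ((EtCoh.pullPushAdj i).unit.app F) 0 := by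
        rw [map_zero]; exact hx
      rw [map_zero]
      exact ((stalk_unit_bijective i ζ F).1 h0).symm
    · exact (stalk_counit_extZero_bijective U.ι F v).2 x
  exact { exact := hexact, mono_f := hmono, epi_g := hepi }

end

end Groth.Agent.Lib.Seat3.OpenClosedSeq
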