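import Mathlib
import Groth.Prelude.Def_EtBaseX
import Groth.Prelude.Def_EtShriek2
import Groth.Agent.Lib.Seat1StalkFin
import Groth.Agent.Lib.Seat1AlgStalk
import Groth.Agent.Lib.Seat3OpenClosedSeq
import Groth.Agent.Lib.Helper9ExtZeroBC

/-!
# Finite direct image commutes with extension by zero (seat 1)

For a cartesian square `U = X ×_Y V` with `f : X ⟶ Y` finite and `j : V ⟶ Y` an open immersion,
`f_* j'_! F ≅ j_! g_* F`.
-/

set_option autoImplicit false
set_option linter.style.haveILetI false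
set_option linter.unusedSectionVars false
universe u
open CategoryTheory CategoryTheory.Limits AlgebraicGeometry Opposite

namespace Groth.Agent.Lib.Seat1.FinShriek

open Groth.Agent.Lib.Seat1.StalkFin Groth.Agent.Lib.Seat3.OpenClosedSeq

variable {U X V Y : Scheme.{u}} (f : X ⟶ Y) [IsFinite f] (j : V ⟶ Y)
  [IsOpenImmersion j] [AlgebraicGeometry.Etale j] [EtShriek.JCont j] (j' : U ⟶ X) [IsOpenImmersion j']
  [AlgebraicGeometry.Etale j'] [EtShriek.JCont j'] (g : U ⟶ V) (h : IsPullback j' g f j)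

include h in
/-- the stalks of `f_* j'_! F` vanish outside `V` -/
lemma isZero_stalk_push_extZero (F : EtCoh.Ab U) {Ω : Type u} [Field Ω] [IsAlgClosed Ω]
    (η : Spec (CommRingCat.of Ω) ⟶ Y)
    (hη : η (default : Spec (CommRingCat.of Ω)) ∉ Set.range j.base) :
    IsZero ((EtCoh.stalk η).obj ((EtCoh.push f).obj ((EtShriek.extZero j').obj F))) := by
  obtain ⟨e⟩ := nonempty_iso_ab f η ((EtShriek.extZero j').obj F)
  refine IsZero.of_iso ?_ e
  have hz : ∀ ξ : {ξ : Spec (CommRingCat.of Ω) ⟶ X // ξ ≫ f = η},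
      IsZero ((EtCoh.stalk ξ.1).obj ((EtShriek.extZero j').obj F)) := by
    intro ξ
    apply isZero_stalk_extZero j' F ξ.1
    rintro ⟨a, ha⟩
    apply hη
    refine ⟨g a, ?_⟩
    have h1 : j (g a) = f (j' a) := by
      rw [← Scheme.Hom.comp_apply, ← Scheme.Hom.comp_apply, h.w]
    have h2 : η default = f (ξ.1 default) :=
      (congrArg (fun t : Spec (CommRingCat.of Ω) ⟶ Y => t default) ξ.2).symm.trans
        (Scheme.Hom.comp_apply _ _ _)
    rw [h2]
    exact h1.trans (congrArg _ ha)
  rw [IsZero.iff_id_eq_zero]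
  apply Sigma.hom_ext
  intro b
  exact (hz b).eq_of_src _ _

include h in
/-- the counit `j_! j⁻¹ K ⟶ K` is an isomorphism for `K = f_* j'_! F` -/
theorem isIso_counit_push_extZero (F : EtCoh.Ab U) :
    IsIso ((EtShriek.extZeroAdj j).counit.app
      ((EtCoh.push f).obj ((EtShriek.extZero j').obj F))) := by
  apply Groth.Agent.Lib.Seat1.AlgStalk.isIso_of_stalks
  intro Ω _ _ η
  by_cases hη : η (default : Spec (CommRingCat.of Ω)) ∈ Set.range j.base
  · have hr : Set.range η ⊆ Set.range j := by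
      rintro _ ⟨a, rfl⟩
      rwa [Subsingleton.elim a default]
    let v : Spec (CommRingCat.of Ω) ⟶ V := IsOpenImmersion.lift j η hr
    have hv : v ≫ j = η := IsOpenImmersion.lift_fac j η hr
    have := stalk_counit_extZero_bijective j
      ((EtCoh.push f).obj ((EtShriek.extZero j').obj F)) v
    rwa [hv] at this
  · have h1 := isZero_stalk_extZero j ((EtShriek.restrAlong j).obj
      ((EtCoh.push f).obj ((EtShriek.extZero j').obj F))) η hη
    have h2 := isZero_stalk_push_extZero f j j' g h F η hη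
    exact Groth.Agent.Lib.Seat3.ClosedOpen.bijective_of_isZero _ h1 h2

include h in
/-- **S0653**: `f_* j'_! F ≅ j_! g_* F`. -/
theorem nonempty_iso (F : EtCoh.Ab U) :
    Nonempty ((EtCoh.push f).obj ((EtShriek.extZero j').obj F) ≅
      (EtShriek.extZero j).obj ((EtCoh.push g).obj F)) := by
  haveI := isIso_counit_push_extZero f j j' g h F
  haveI := Groth.Agent.S0651.isIso_unit_extZero j'
  let K := (EtCoh.push f).obj ((EtShriek.extZero j').obj F)
  let e1 : (EtShriek.extZero j).obj ((EtShriek.restrAlong j).obj K) ≅ K :=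
    asIso ((EtShriek.extZeroAdj j).counit.app K)
  let e2 : (EtShriek.restrAlong j).obj K ≅
      (EtCoh.push g).obj ((EtShriek.restrAlong j').obj ((EtShriek.extZero j').obj F)) :=
    (Groth.Agent.Lib.Helper9.ExtZeroBC.pushRestrIso j f j' g h).app ((EtShriek.extZero j').obj F)
  let e3 : F ≅ (EtShriek.restrAlong j').obj ((EtShriek.extZero j').obj F) :=
    asIso ((EtShriek.extZeroAdj j').unit.app F)
  exact ⟨e1.symm ≪≫ (EtShriek.extZero j).mapIso (e2 ≪≫ (EtCoh.push g).mapIso e3.symm)⟩

end Groth.Agent.Lib.Seat1.FinShriek
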