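import Mathlib
import Groth.Prelude.Def_EtShriek2
import Groth.Agent.Lib.Helper16SmallEtale
import Groth.Agent.Lib.Seat1FinSplit
import Groth.Agent.Lib.Seat1StalkFin

/-!
# The graph of an étale `U`-scheme inside its base change along `j ∘ -` (seat 1)

For an étale morphism `j : U ⟶ X` and an étale `U`-scheme `V`, the graph `V ⟶ V ×_X U` is an open immersion, and a
closed immersion when `j` is separated.  For a sheaf `F` on `U_ét` this gives the extension by zero
`F(V) ⟶ F(V ×_X U)`.
-/

set_option autoImplicit false
set_option linter.style.haveILetI false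
set_option linter.unusedSectionVars false
universe u
open CategoryTheory CategoryTheory.Limits AlgebraicGeometry Opposite TopologicalSpace

namespace Groth.Agent.Lib.Seat1.Graph

open Groth.Agent.Lib.Helper16.SmallEtale Groth.Agent.Lib.Seat1.FinSplit

set_option backward.isDefEq.respectTransparency.types false in
instance hasOfPostcomp_openImmersion : MorphismProperty.HasOfPostcompProperty
    @IsOpenImmersion (@LocallyOfFiniteType ⊓ @FormallyUnramified) := by
  rw [MorphismProperty.hasOfPostcompProperty_iff_le_diagonal]
  intro X Y f ⟨hft, hfu⟩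
  exact inferInstanceAs <| IsOpenImmersion (pullback.diagonal f)

/-- a section of an étale morphism is an open immersion -/
lemma isOpenImmersion_of_section {P V : Scheme.{u}} (p : P ⟶ V) [Etale p] (s : V ⟶ P)
    (h : s ≫ p = 𝟙 V) : IsOpenImmersion s := by
  haveI : IsOpenImmersion (s ≫ p) := by rw [h]; infer_instance
  exact MorphismProperty.of_postcomp (W := @IsOpenImmersion)
    (W' := @LocallyOfFiniteType ⊓ @FormallyUnramified) s p ⟨inferInstance, inferInstance⟩ ‹_›

/-- a section of a separated morphism is a closed immersion -/
lemma isClosedImmersion_of_section {P V : Scheme.{u}} (p : P ⟶ V) [IsSeparated p] (s : V ⟶ P)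
    (h : s ≫ p = 𝟙 V) : IsClosedImmersion s := by
  haveI : IsClosedImmersion (s ≫ p) := by rw [h]; infer_instance
  exact MorphismProperty.of_postcomp (W := @IsClosedImmersion) (W' := @IsSeparated) s p ‹_› ‹_›

variable {U X : Scheme.{u}} (j : U ⟶ X) [Etale j]

/-- notation: the étale `U`-scheme `V ×_X U` -/
noncomputable abbrev PV (V : U.Etale) : U.Etale := (EtCoh.bc j).obj ((EtShriek.compEtale j).obj V)

set_option backward.isDefEq.respectTransparency.types false in
/-- the graph `V ⟶ V ×_X U` -/
noncomputable def graph (V : U.Etale) : V ⟶ PV j V :=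
  MorphismProperty.Over.homMk
    (pullback.lift (𝟙 V.left) V.hom (Category.id_comp _) :
      V.left ⟶ pullback ((EtShriek.compEtale j).obj V).hom j)
    (pullback.lift_snd _ _ _)

set_option backward.isDefEq.respectTransparency.types false in
lemma graph_left_fst (V : U.Etale) :
    (graph j V).left ≫ pullback.fst ((EtShriek.compEtale j).obj V).hom j = 𝟙 V.left :=
  pullback.lift_fst _ _ _

set_option backward.isDefEq.respectTransparency.types false in
lemma graph_left_snd (V : U.Etale) :
    (graph j V).left ≫ pullback.snd ((EtShriek.compEtale j).obj V).hom j = V.hom :=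
  pullback.lift_snd _ _ _

set_option backward.isDefEq.respectTransparency.types false in
instance isOpenImmersion_graph (V : U.Etale) : IsOpenImmersion (graph j V).left :=
  isOpenImmersion_of_section (pullback.fst ((EtShriek.compEtale j).obj V).hom j) _ (graph_left_fst j V)

set_option backward.isDefEq.respectTransparency.types false in
lemma isClosed_range_graph [IsSeparated j] (V : U.Etale) : IsClosed (Set.range (graph j V).left) := by
  haveI : IsClosedImmersion (graph j V).left :=
    isClosedImmersion_of_section (pullback.fst ((EtShriek.compEtale j).obj V).hom j) _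
      (graph_left_fst j V)
  exact (graph j V).left.isClosedEmbedding.isClosed_range

set_option backward.isDefEq.respectTransparency.types false in
/-- naturality of the graph -/
lemma graph_naturality {V' V : U.Etale} (g : V' ⟶ V) :
    graph j V' ≫ (EtCoh.bc j).map ((EtShriek.compEtale j).map g) = g ≫ graph j V := by
  apply MorphismProperty.Over.Hom.ext
  change (graph j V').left ≫ ((EtCoh.bc j).map ((EtShriek.compEtale j).map g)).left =
    g.left ≫ (graph j V).left
  apply pullback.hom_ext
  · refine (Category.assoc _ _ _).trans ?_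
    refine (congrArg (fun t => (graph j V').left ≫ t) (bc_map_left_fst j _)).trans ?_
    refine (Category.assoc _ _ _).symm.trans ?_
    refine (congrArg (fun t => t ≫ ((EtShriek.compEtale j).map g).left) (graph_left_fst j V')).trans ?_
    refine (Category.id_comp _).trans ?_
    symm
    refine (Category.assoc _ _ _).trans ?_
    refine (congrArg (fun t => g.left ≫ t) (graph_left_fst j V)).trans ?_
    exact Category.comp_id _
  · refine (Category.assoc _ _ _).trans ?_
    refine (congrArg (fun t => (graph j V').left ≫ t) (bc_map_left_snd j _)).trans ?_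
    refine (graph_left_snd j V').trans ?_
    symm
    refine (Category.assoc _ _ _).trans ?_
    refine (congrArg (fun t => g.left ≫ t) (graph_left_snd j V)).trans ?_
    exact Over.w g.hom

set_option backward.isDefEq.respectTransparency.types false in
/-- the graph square is cartesian -/
lemma isPullback_graph {V' V : U.Etale} (g : V' ⟶ V) :
    IsPullback (graph j V').left g.left ((EtCoh.bc j).map ((EtShriek.compEtale j).map g)).left
      (graph j V).left := by
  have hr := EtCoh.isPullback_bc_map j ((EtShriek.compEtale j).map g)
  refine IsPullback.of_right ?_ (congrArg (fun m => m.left) (graph_naturality j g)) hr.flip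
  have h1 := graph_left_fst j V'
  have h2 := graph_left_fst j V
  refine (congrArg₂ (fun a d => IsPullback a g.left ((EtShriek.compEtale j).map g).left d) h1 h2).mpr ?_
  exact IsPullback.id_horiz g.left

section Sep

variable [IsSeparated j]

/-- the graph, as an open of `V ×_X U` -/
noncomputable def gOpen (V : U.Etale) : (PV j V).left.Opens := (graph j V).left.opensRange

/-- the complement of the graph -/
noncomputable def cOpen (V : U.Etale) : (PV j V).left.Opens :=
  ⟨(Set.range (graph j V).left)ᶜ, (isClosed_range_graph j V).isOpen_compl⟩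

lemma disjoint_gOpen_cOpen (V : U.Etale) : Disjoint (gOpen j V) (cOpen j V) := by
  rw [← TopologicalSpace.Opens.coe_disjoint]
  exact disjoint_compl_right

lemma mem_gOpen_or_mem_cOpen (V : U.Etale) (z : (PV j V).left) : z ∈ gOpen j V ∨ z ∈ cOpen j V := by
  by_cases h : z ∈ Set.range (graph j V).left
  · exact Or.inl h
  · exact Or.inr h

set_option backward.isDefEq.respectTransparency.types false in
/-- `V` is isomorphic to the graph open -/
noncomputable def graphIso (V : U.Etale) : V ≅ opnOf (PV j V) (gOpen j V) :=
  MorphismProperty.Over.isoMk ((graph j V).left.isoOpensRange) (by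
    change (graph j V).left.isoOpensRange.hom ≫ (graph j V).left.opensRange.ι ≫ (PV j V).hom = V.hom
    refine (Category.assoc _ _ _).symm.trans ?_
    refine (congrArg (fun t => t ≫ (PV j V).hom) (Scheme.Hom.isoOpensRange_hom_ι _)).trans ?_
    exact MorphismProperty.Over.w (graph j V))

set_option backward.isDefEq.respectTransparency.types false in
lemma graphIso_hom_opnIn (V : U.Etale) :
    (graphIso j V).hom ≫ opnIn (PV j V) (gOpen j V) = graph j V := by
  apply MorphismProperty.Over.Hom.ext
  exact Scheme.Hom.isoOpensRange_hom_ι _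

/-- the two opens as a family -/
noncomputable def gc (V : U.Etale) : Bool → (PV j V).left.Opens := fun b => bif b then gOpen j V else cOpen j V

/-- a section over `V ×_X U` is determined by its restrictions to the graph and to its complement, which can be
prescribed. -/
lemma existsUnique_glue (F : EtCoh.Ab U) (V : U.Etale) (s : F.obj.obj (op V))
    (s' : F.obj.obj (op (opnOf (PV j V) (cOpen j V)))) :
    ∃! t : F.obj.obj (op (PV j V)), F.obj.map (graph j V).op t = s ∧
      F.obj.map (opnIn (PV j V) (cOpen j V)).op t = s' := by
  have hb := Groth.Agent.Lib.Seat1.StalkFin.bijective_restrict_opens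
    (F.obj ⋙ forget AddCommGrpCat.{u + 1}) (Groth.Agent.Lib.Seat1.DisjCover.isSheaf_forget F) (PV j V)
    (gc j V) (by
      intro a b hab
      cases a <;> cases b
      · exact (hab rfl).elim
      · exact (disjoint_gOpen_cOpen j V).symm
      · exact disjoint_gOpen_cOpen j V
      · exact (hab rfl).elim) (by
      intro z
      rcases mem_gOpen_or_mem_cOpen j V z with h | h
      · exact ⟨true, h⟩
      · exact ⟨false, h⟩)
  -- restriction to the graph open versus pullback along the graph
  have hg : ∀ t : F.obj.obj (op (PV j V)),
      F.obj.map (graph j V).op t =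
        F.obj.map (graphIso j V).hom.op (F.obj.map (opnIn (PV j V) (gOpen j V)).op t) := by
    intro t
    rw [← ConcreteCategory.comp_apply, ← F.obj.map_comp, ← op_comp, graphIso_hom_opnIn]
  have hinv : ∀ x : F.obj.obj (op V),
      F.obj.map (graphIso j V).hom.op (F.obj.map (graphIso j V).inv.op x) = x := by
    intro x
    rw [← ConcreteCategory.comp_apply, ← F.obj.map_comp, ← op_comp, Iso.hom_inv_id, op_id,
      F.obj.map_id]
    rfl
  have hinv' : ∀ x : F.obj.obj (op (opnOf (PV j V) (gOpen j V))),
      F.obj.map (graphIso j V).inv.op (F.obj.map (graphIso j V).hom.op x) = x := by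
    intro x
    rw [← ConcreteCategory.comp_apply, ← F.obj.map_comp, ← op_comp, Iso.inv_hom_id, op_id,
      F.obj.map_id]
    rfl
  let x : ∀ b : Bool, (F.obj ⋙ forget AddCommGrpCat.{u + 1}).obj (op (opnOf (PV j V) (gc j V b))) :=
    fun b => match b with
      | true => F.obj.map (graphIso j V).inv.op s
      | false => s'
  obtain ⟨t, ht⟩ := hb.2 x
  refine ⟨t, ⟨?_, ?_⟩, ?_⟩
  · rw [hg]
    have h1 : F.obj.map (opnIn (PV j V) (gOpen j V)).op t = F.obj.map (graphIso j V).inv.op s :=
      congrFun ht true
    rw [h1, hinv]
  · exact congrFun ht false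
  · rintro t' ⟨h1, h2⟩
    apply hb.1
    funext b
    cases b
    · exact h2.trans (congrFun ht false).symm
    · refine Eq.trans ?_ (congrFun ht true).symm
      change F.obj.map (opnIn (PV j V) (gOpen j V)).op t' = F.obj.map (graphIso j V).inv.op s
      rw [← h1, hg, hinv']

/-- extension by zero of a section along the graph (as a function) -/
noncomputable def ext0Fun (F : EtCoh.Ab U) (V : U.Etale) (s : F.obj.obj (op V)) : F.obj.obj (op (PV j V)) :=
  (existsUnique_glue j F V s 0).exists.choose

lemma ext0Fun_graph (F : EtCoh.Ab U) (V : U.Etale) (s : F.obj.obj (op V)) :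
    F.obj.map (graph j V).op (ext0Fun j F V s) = s :=
  (existsUnique_glue j F V s 0).exists.choose_spec.1

lemma ext0Fun_compl (F : EtCoh.Ab U) (V : U.Etale) (s : F.obj.obj (op V)) :
    F.obj.map (opnIn (PV j V) (cOpen j V)).op (ext0Fun j F V s) = 0 :=
  (existsUnique_glue j F V s 0).exists.choose_spec.2

lemma ext0Fun_unique (F : EtCoh.Ab U) (V : U.Etale) (s : F.obj.obj (op V)) (t : F.obj.obj (op (PV j V)))
    (h1 : F.obj.map (graph j V).op t = s) (h2 : F.obj.map (opnIn (PV j V) (cOpen j V)).op t = 0) :
    t = ext0Fun j F V s :=
  (existsUnique_glue j F V s 0).unique ⟨h1, h2⟩ ⟨ext0Fun_graph j F V s, ext0Fun_compl j F V s⟩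

/-- extension by zero of sections along the graph, as a homomorphism -/
noncomputable def ext0 (F : EtCoh.Ab U) (V : U.Etale) : F.obj.obj (op V) ⟶ F.obj.obj (op (PV j V)) :=
  AddCommGrpCat.ofHom (AddMonoidHom.mk' (ext0Fun j F V) (by
    intro a b
    symm
    apply ext0Fun_unique
    · rw [map_add, ext0Fun_graph, ext0Fun_graph]
    · rw [map_add, ext0Fun_compl, ext0Fun_compl, add_zero]))

lemma ext0_apply (F : EtCoh.Ab U) (V : U.Etale) (s : F.obj.obj (op V)) :
    ext0 j F V s = ext0Fun j F V s := rfl

@[reassoc]
lemma ext0_graph (F : EtCoh.Ab U) (V : U.Etale) :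
    ext0 j F V ≫ F.obj.map (graph j V).op = 𝟙 _ := by
  ext s
  exact ext0Fun_graph j F V s

@[reassoc]
lemma ext0_compl (F : EtCoh.Ab U) (V : U.Etale) :
    ext0 j F V ≫ F.obj.map (opnIn (PV j V) (cOpen j V)).op = 0 := by
  ext s
  exact ext0Fun_compl j F V s

set_option backward.isDefEq.respectTransparency.types false in
/-- the base change of a morphism maps the complement of the graph into the complement of the graph -/
lemma bc_map_mem_cOpen {V' V : U.Etale} (g : V' ⟶ V) (z : (PV j V').left) (hz : z ∈ cOpen j V') :
    ((EtCoh.bc j).map ((EtShriek.compEtale j).map g)).left z ∈ cOpen j V := by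
  intro hmem
  obtain ⟨v, hv⟩ := hmem
  apply hz
  have sq := isPullback_graph j g
  obtain ⟨w, hw1, -⟩ := Scheme.Pullback.exists_preimage_pullback
    (f := ((EtCoh.bc j).map ((EtShriek.compEtale j).map g)).left) (g := (graph j V).left) z v hv.symm
  refine ⟨sq.isoPullback.inv w, ?_⟩
  rw [← hw1, ← Scheme.Hom.comp_apply, IsPullback.isoPullback_inv_fst]

set_option backward.isDefEq.respectTransparency.types false in
/-- the induced morphism between the complements of the graphs (scheme level) -/
noncomputable def cMapLeft {V' V : U.Etale} (g : V' ⟶ V) :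
    ((cOpen j V' : (PV j V').left.Opens) : Scheme.{u}) ⟶ ((cOpen j V : (PV j V).left.Opens) : Scheme.{u}) :=
  IsOpenImmersion.lift (cOpen j V).ι
    ((cOpen j V').ι ≫ ((EtCoh.bc j).map ((EtShriek.compEtale j).map g)).left) (by
      rintro _ ⟨z, rfl⟩
      rw [Scheme.Opens.range_ι]
      exact bc_map_mem_cOpen j g _ z.2)

set_option backward.isDefEq.respectTransparency.types false in
lemma cMapLeft_ι {V' V : U.Etale} (g : V' ⟶ V) :
    cMapLeft j g ≫ (cOpen j V).ι =
      (cOpen j V').ι ≫ ((EtCoh.bc j).map ((EtShriek.compEtale j).map g)).left :=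
  IsOpenImmersion.lift_fac _ _ _

set_option backward.isDefEq.respectTransparency.types false in
/-- the induced morphism between the complements of the graphs -/
noncomputable def cMap {V' V : U.Etale} (g : V' ⟶ V) :
    opnOf (PV j V') (cOpen j V') ⟶ opnOf (PV j V) (cOpen j V) :=
  MorphismProperty.Over.homMk (cMapLeft j g)
    (by
      change cMapLeft j g ≫ (cOpen j V).ι ≫ (PV j V).hom = (cOpen j V').ι ≫ (PV j V').hom
      refine (Category.assoc _ _ _).symm.trans ?_
      refine (congrArg (fun t => t ≫ (PV j V).hom) (cMapLeft_ι j g)).trans ?_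
      refine (Category.assoc _ _ _).trans ?_
      exact congrArg (fun t => (cOpen j V').ι ≫ t)
        (MorphismProperty.Over.w ((EtCoh.bc j).map ((EtShriek.compEtale j).map g))))

set_option backward.isDefEq.respectTransparency.types false in
lemma cMap_opnIn {V' V : U.Etale} (g : V' ⟶ V) :
    cMap j g ≫ opnIn (PV j V) (cOpen j V) =
      opnIn (PV j V') (cOpen j V') ≫ (EtCoh.bc j).map ((EtShriek.compEtale j).map g) := by
  apply MorphismProperty.Over.Hom.ext
  exact cMapLeft_ι j g

/-- naturality of extension by zero in `V` -/
lemma ext0_naturality (F : EtCoh.Ab U) {V' V : U.Etale} (g : V' ⟶ V) :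
    ext0 j F V ≫ F.obj.map ((EtCoh.bc j).map ((EtShriek.compEtale j).map g)).op =
      F.obj.map g.op ≫ ext0 j F V' := by
  ext s
  change F.obj.map ((EtCoh.bc j).map ((EtShriek.compEtale j).map g)).op (ext0Fun j F V s) =
    ext0Fun j F V' (F.obj.map g.op s)
  apply ext0Fun_unique
  · rw [← ConcreteCategory.comp_apply, ← F.obj.map_comp, ← op_comp, graph_naturality, op_comp,
      F.obj.map_comp, ConcreteCategory.comp_apply, ext0Fun_graph]
  · rw [← ConcreteCategory.comp_apply, ← F.obj.map_comp, ← op_comp, ← cMap_opnIn, op_comp,
      F.obj.map_comp, ConcreteCategory.comp_apply, ext0Fun_compl, map_zero]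

/-- naturality of extension by zero in `F` -/
lemma ext0_naturality_sheaf {F F' : EtCoh.Ab U} (α : F ⟶ F') (V : U.Etale) :
    ext0 j F V ≫ α.hom.app (op (PV j V)) = α.hom.app (op V) ≫ ext0 j F' V := by
  ext s
  change α.hom.app (op (PV j V)) (ext0Fun j F V s) = ext0Fun j F' V (α.hom.app (op V) s)
  apply ext0Fun_unique
  · have h := ConcreteCategory.congr_hom (α.hom.naturality (graph j V).op) (ext0Fun j F V s)
    rw [ConcreteCategory.comp_apply, ConcreteCategory.comp_apply, ext0Fun_graph] at h
    exact h.symm
  · have h := ConcreteCategory.congr_hom (α.hom.naturality (opnIn (PV j V) (cOpen j V)).op)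
      (ext0Fun j F V s)
    rw [ConcreteCategory.comp_apply, ConcreteCategory.comp_apply, ext0Fun_compl, map_zero] at h
    exact h.symm

end Sep

end Groth.Agent.Lib.Seat1.Graph
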