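import Mathlib
import Groth.Prelude.Def_EtBase
import Groth.Agent.Lib.Seat1HenselSection
import Groth.Prelude.Def_EtCore

/-!
# Global sections on the spectrum of a strictly henselian local ring are the stalk at the closed
geometric point (seat 1)
-/

set_option autoImplicit false
set_option linter.style.haveILetI false
universe u w' v' u'
open CategoryTheory CategoryTheory.Limits AlgebraicGeometry Opposite IsLocalRing

namespace Groth.Agent.Lib.Seat1.HenselStalk

open Groth.Agent.Lib.Seat1.HenselSection

variable (R : Type u) [CommRing R] [HenselianLocalRing R] [IsSepClosed (ResidueField R)]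

/-- the closed geometric point of `Spec R` -/
noncomputable abbrev cl : Spec (CommRingCat.of (ResidueField R)) ⟶ Spec (CommRingCat.of R) :=
  Spec.map (CommRingCat.ofHom (residue R))

/-- the closed geometric point, as a point of the small étale site -/
noncomputable abbrev Φ : (Spec (CommRingCat.of R)).smallEtaleTopology.Point :=
  Scheme.pointSmallEtale (cl R)

/-- the tautological element of the fibre over the terminal object -/
noncomputable abbrev pt : (Φ R).fiber.obj (EtCoh.top (Spec (CommRingCat.of R))) :=
  Over.homMk (cl R) (Category.comp_id _)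

/-- every pointed étale neighbourhood of the closed geometric point receives a pointed map from the
terminal one. -/
theorem exists_section_fiber (U : (Spec (CommRingCat.of R)).Etale) (x : (Φ R).fiber.obj U) :
    ∃ s : EtCoh.top (Spec (CommRingCat.of R)) ⟶ U, (Φ R).fiber.map s (pt R) = x := by
  let w : Spec (CommRingCat.of (ResidueField R)) ⟶ U.left := x.left
  have hw : w ≫ U.hom = cl R := Over.w x
  obtain ⟨s, hs1, hs2⟩ := exists_section R U.hom w hw
  refine ⟨MorphismProperty.Over.homMk s hs1, ?_⟩
  apply Over.OverMorphism.ext
  exact hs2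

section Bijective

variable {A : Type u'} [Category.{v'} A] [HasColimitsOfSize.{u, u} A]
  {FC : A → A → Type*} {CC : A → Type w'}
  [∀ (X Y : A), FunLike (FC X Y) (CC X) (CC Y)]
  [ConcreteCategory.{w'} A FC]
  [PreservesFilteredColimitsOfSize.{u, u} (forget A)]

/-- On the spectrum of a strictly henselian local ring, global sections of any presheaf map
bijectively onto the fibre at the closed geometric point. -/
theorem toPresheafFiber_top_bijective (P : (Spec (CommRingCat.of R)).Etaleᵒᵖ ⥤ A) :
    Function.Bijective ((Φ R).toPresheafFiber (EtCoh.top (Spec (CommRingCat.of R))) (pt R) P) := by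
  constructor
  · intro z₁ z₂ h
    obtain ⟨Y, f, y, hy, hf⟩ := ((Φ R).toPresheafFiber_eq_iff' _ (pt R) z₁ z₂).mp h
    obtain ⟨s, -⟩ := exists_section_fiber R Y y
    have hsf : s ≫ f = 𝟙 _ := (EtCore.topIsTerminal _).hom_ext _ _
    have h1 : P.map (s ≫ f).op z₁ = P.map (s ≫ f).op z₂ := by
      rw [op_comp, Functor.map_comp, ConcreteCategory.comp_apply, ConcreteCategory.comp_apply, hf]
    rwa [hsf, op_id, P.map_id, ConcreteCategory.id_apply, ConcreteCategory.id_apply] at h1
  · intro p
    obtain ⟨U, x, z, rfl⟩ := (Φ R).toPresheafFiber_jointly_surjective (P := P) p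
    obtain ⟨s, hs⟩ := exists_section_fiber R U x
    refine ⟨P.map s.op z, ?_⟩
    rw [(Φ R).toPresheafFiber_w_apply, hs]

end Bijective

end Groth.Agent.Lib.Seat1.HenselStalk
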