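import Mathlib
import Groth.Prelude.Def_EtBase
import Groth.Prelude.Def_EtCore
import Groth.Agent.Lib.Seat1HenselStalk

/-!
# Étale cohomology of the spectrum of a strictly henselian local ring vanishes (seat 1)

The global-sections functor is the stalk at the closed geometric point, hence exact; so the constant sheaf `ℤ`
is a projective object and all higher `Ext` groups out of it vanish.
-/

set_option autoImplicit false
set_option linter.style.haveILetI false
universe u
open CategoryTheory CategoryTheory.Limits AlgebraicGeometry Opposite IsLocalRing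

namespace Groth.Agent.Lib.Seat1.HenselVanish

open Groth.Agent.Lib.Seat1.HenselStalk

variable (R : Type u) [CommRing R] [HenselianLocalRing R] [IsSepClosed (ResidueField R)]

local notation "X" => Spec (CommRingCat.of R)

instance pfc : PreservesFilteredColimitsOfSize.{u, u} (forget AddCommGrpCat.{u + 1}) :=
  preservesFilteredColimitsOfSize_shrink.{u, u + 1, u, u + 1} _

/-- an epimorphism of abelian étale sheaves on `Spec R` is surjective on global sections -/
theorem surjective_app_top {E Y : EtCoh.Ab X} (e : E ⟶ Y) [Epi e] :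
    Function.Surjective (e.hom.app (op (EtCoh.top X))) := by
  haveI : Sheaf.IsLocallySurjective e := (Sheaf.isLocallySurjective_iff_epi' _ e).mpr inferInstance
  intro y
  obtain ⟨σ, hσ⟩ := (Φ R).toPresheafFiber_map_surjective e.hom
    ((Φ R).toPresheafFiber (EtCoh.top X) (pt R) Y.obj y)
  obtain ⟨z, rfl⟩ := (toPresheafFiber_top_bijective R E.obj).2 σ
  refine ⟨z, ?_⟩
  apply (toPresheafFiber_top_bijective R Y.obj).1
  rw [← hσ]
  exact ((Φ R).toPresheafFiber_naturality_apply e.hom (EtCoh.top X) (pt R) z).symm

/-- the constant sheaf `ℤ` on the spectrum of a strictly henselian local ring is projective -/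
theorem projective_constZ :
    Projective ((constantSheaf (X).smallEtaleTopology AddCommGrpCat.{u + 1}).obj
      (AddCommGrpCat.of (ULift.{u + 1} ℤ))) := by
  constructor
  intro E Y f e he
  have hT := EtCore.topIsTerminal X
  let y := Sheaf.H.equiv₀ Y hT (Abelian.Ext.addEquiv₀.symm f)
  obtain ⟨z, hz⟩ := surjective_app_top R e y
  refine ⟨Abelian.Ext.addEquiv₀ ((Sheaf.H.equiv₀ E hT).symm z), ?_⟩
  rw [← Sheaf.H.addEquiv₀_map, Sheaf.H.equiv₀_symm_naturality, hz]
  simp only [y, AddEquiv.symm_apply_apply, AddEquiv.apply_symm_apply]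

theorem subsingleton_H (F : EtCoh.Ab X) (p : ℕ) (hp : 1 ≤ p) : Subsingleton (EtCoh.H X F p) := by
  haveI := projective_constZ R
  obtain ⟨q, rfl⟩ : ∃ q, p = q + 1 := ⟨p - 1, by omega⟩
  exact Abelian.Ext.subsingleton_of_projective _ F q

end Groth.Agent.Lib.Seat1.HenselVanish
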