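import Mathlib
import Groth.Prelude.Def_EtBaseX
import Groth.Agent.Lib.Seat1StalkGeo
import Groth.Agent.Lib.Seat1IntPropA
import Groth.Agent.Lib.Seat1IntTop
import Groth.Agent.Lib.Helper10GaloisOrbit

/-!
# Geometry behind the stalk of an integral, universally injective direct image (seat 1)

For `f : X ⟶ Y` integral and `η : Spec Ω ⟶ Y` with `Ω` algebraically closed, geometric points lift along `f`; pointed
étale neighbourhoods of a geometric point of `X` over `η` are dominated, after an étale localisation of `Y` at `η`,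
by clopen pieces of the base change, and by the whole base change when `f` is moreover universally injective.
-/

set_option autoImplicit false
set_option linter.style.haveILetI false
set_option linter.unusedSectionVars false
set_option linter.unusedVariables false
universe u
open CategoryTheory CategoryTheory.Limits AlgebraicGeometry Opposite

namespace Groth.Agent.Lib.Seat1.StalkInt

open Groth.Agent.Lib.Seat1.FinSplit Groth.Agent.Lib.Helper16.SmallEtale Groth.Agent.Lib.Seat1.StalkGeo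

section Lift

variable {Ω : Type u} [Field Ω] [IsAlgClosed Ω]

/-- every point of a scheme integral over an algebraically closed field is rational -/
theorem exists_point_of_integral {Z : Scheme.{u}} (p2 : Z ⟶ Spec (CommRingCat.of Ω)) [IsIntegralHom p2]
    (t : Z) :
    ∃ p : Spec (CommRingCat.of Ω) ⟶ Z, p ≫ p2 = 𝟙 _ ∧ p (IsLocalRing.closedPoint Ω) = t := by
  have hx : IsClosed ({t} : Set Z) := by
    rw [← closure_eq_iff_isClosed]
    apply Set.Subset.antisymm _ subset_closure
    intro c hc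
    have hsp : t ⤳ c := specializes_iff_mem_closure.2 hc
    have : t = c := Groth.Agent.Lib.Seat1.IntTop.eq_of_specializes p2 hsp (Subsingleton.elim _ _)
    exact this ▸ rfl
  have hfin : IsIntegralHom (Z.fromSpecResidueField t ≫ p2) := by
    rw [isClosed_singleton_iff_isClosedImmersion] at hx
    infer_instance
  have hφ := Groth.Agent.Lib.Helper10.GaloisOrbit.map_resHom Ω p2 t
  have hint : (Groth.Agent.Lib.Helper10.GaloisOrbit.resHom Ω p2 t).hom.IsIntegral := by
    rw [← IsIntegralHom.SpecMap_iff, hφ]; exact hfin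
  algebraize [(Groth.Agent.Lib.Helper10.GaloisOrbit.resHom Ω p2 t).hom]
  have halg : Algebra.IsAlgebraic Ω (Z.residueField t) := by
    have : Algebra.IsIntegral Ω (Z.residueField t) := ⟨hint⟩
    infer_instance
  obtain ⟨ψ⟩ : Nonempty (Z.residueField t →ₐ[Ω] Ω) := ⟨IsAlgClosed.lift⟩
  refine ⟨Spec.map (CommRingCat.ofHom ψ.toRingHom) ≫ Z.fromSpecResidueField t, ?_, ?_⟩
  · rw [Category.assoc, ← hφ, ← Spec.map_comp]
    have : Groth.Agent.Lib.Helper10.GaloisOrbit.resHom Ω p2 t ≫ CommRingCat.ofHom ψ.toRingHom =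
        𝟙 (CommRingCat.of Ω) := by
      ext a
      exact ψ.commutes a
    exact (congrArg Spec.map this).trans (Spec.map_id _)
  · exact (Scheme.Hom.comp_apply _ _ _).trans (Scheme.fromSpecResidueField_apply t _)

variable {X Y : Scheme.{u}} (f : X ⟶ Y) [IsIntegralHom f]

/-- geometric points with values in an algebraically closed field lift along an integral morphism, through any
prescribed point of the fibre. -/
theorem exists_fac_of_integral_of_isAlgClosed (y : Spec (CommRingCat.of Ω) ⟶ Y) (c : X)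
    (hc : f c = y default) :
    ∃ z : Spec (CommRingCat.of Ω) ⟶ X, z ≫ f = y ∧ z default = c := by
  let Z : Scheme.{u} := pullback f y
  let p2 : Z ⟶ Spec (CommRingCat.of Ω) := pullback.snd f y
  haveI : IsIntegralHom p2 := inferInstanceAs (IsIntegralHom (pullback.snd f y))
  obtain ⟨t, ht1, ht2⟩ := Scheme.Pullback.exists_preimage_pullback c (default : Spec (CommRingCat.of Ω)) hc
  obtain ⟨p, hp1, hp2⟩ := exists_point_of_integral p2 t
  refine ⟨p ≫ pullback.fst f y, ?_, ?_⟩
  · rw [Category.assoc, pullback.condition, ← Category.assoc]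
    change (p ≫ p2) ≫ y = y
    rw [hp1, Category.id_comp]
  · rw [Scheme.Hom.comp_apply]
    have : (default : Spec (CommRingCat.of Ω)) = IsLocalRing.closedPoint Ω := Subsingleton.elim _ _
    rw [this, hp2, ht1]

end Lift

section Exists

variable {X Y : Scheme.{u}} (f : X ⟶ Y) [IsIntegralHom f] {Ω : Type u} [Field Ω] [IsSepClosed Ω]

/-- pointed form of `IntPropA.exists_clopen_piece` -/
theorem exists_pointed_piece_int {U : Scheme.{u}} (g : U ⟶ X) [Etale g]
    (x : Spec (CommRingCat.of Ω) ⟶ U) :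
    ∃ (V : Y.Etale) (W : ((EtCoh.bc f).obj V).left.Opens)
      (_ : IsClosed (W : Set ((EtCoh.bc f).obj V).left)) (h : (W : Scheme.{u}) ⟶ U)
      (z : Spec (CommRingCat.of Ω) ⟶ (W : Scheme.{u})),
      h ≫ g = W.ι ≫ ((EtCoh.bc f).obj V).hom ∧ z ≫ h = x := by
  obtain ⟨V, W, hW, h, hh, w0, hw0⟩ :=
    Groth.Agent.Lib.Seat1.IntPropA.exists_clopen_piece f g (x default)
  haveI : Etale (W.ι ≫ ((EtCoh.bc f).obj V).hom) := by
    haveI : Etale ((EtCoh.bc f).obj V).hom := ((EtCoh.bc f).obj V).prop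
    infer_instance
  haveI : Etale (h ≫ g) := by rw [hh]; infer_instance
  haveI : Etale h := Etale.of_comp h g
  obtain ⟨z, hz, -⟩ := Scheme.exists_fac_of_etale_of_isSepClosed h x w0 hw0
  exact ⟨V, W, hW, h, z, hh, hz⟩

set_option backward.isDefEq.respectTransparency.types false in
/-- relative pointed pieces: a pointed étale neighbourhood `(U, x)` over `X ×_Y V` is dominated by a clopen piece. -/
theorem exists_isPiece_int (V : Y.Etale) (U : X.Etale) (m : U ⟶ (EtCoh.bc f).obj V)
    (x : Spec (CommRingCat.of Ω) ⟶ U.left) :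
    ∃ (V' : Y.Etale) (q : V' ⟶ V) (y' : Spec (CommRingCat.of Ω) ⟶ V'.left)
      (W : ((EtCoh.bc f).obj V').left.Opens),
      IsClosed (W : Set ((EtCoh.bc f).obj V').left) ∧
      y' ≫ q.left = x ≫ m.left ≫ pullback.fst V.hom f ∧ IsPiece f m x q y' W := by
  let f' : ((EtCoh.bc f).obj V).left ⟶ V.left := pullback.fst V.hom f
  haveI : IsIntegralHom f' := inferInstanceAs (IsIntegralHom (pullback.fst V.hom f))
  let ml : U.left ⟶ ((EtCoh.bc f).obj V).left := m.left
  haveI : Etale ml := inferInstanceAs (Etale m.left)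
  obtain ⟨V0, W0, hW0, h0, z0, hh0, hz0⟩ := exists_pointed_piece_int f' ml x
  let p0 : V0.left ⟶ V.left := V0.hom
  haveI : Etale p0 := V0.prop
  haveI : Etale V.hom := V.prop
  let V' : Y.Etale := Scheme.Etale.mk (p0 ≫ V.hom)
  let q : V' ⟶ V := MorphismProperty.Over.homMk p0 rfl
  let e : pullback p0 (pullback.fst V.hom f) ≅ pullback (p0 ≫ V.hom) f :=
    pullbackRightPullbackFstIso V.hom f p0
  let W0' : (pullback p0 (pullback.fst V.hom f)).Opens := W0
  have hW0' : IsClosed (SetLike.coe W0') := hW0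
  let W : ((EtCoh.bc f).obj V').left.Opens := e.inv ⁻¹ᵁ W0'
  have hW : IsClosed (W : Set ((EtCoh.bc f).obj V').left) := hW0'.preimage e.inv.continuous
  let ρ : (W : Scheme.{u}) ⟶ (W0' : Scheme.{u}) := e.inv ∣_ W0'
  haveI : IsIso ρ := inferInstanceAs (IsIso (e.inv ∣_ W0'))
  have hρ : ρ ≫ W0'.ι = W.ι ≫ e.inv := morphismRestrict_ι e.inv W0'
  have he : e.inv ≫ pullback.snd p0 (pullback.fst V.hom f) = ((EtCoh.bc f).map q).left := by
    refine pullback.hom_ext ?_ ?_
    · refine Eq.trans ?_ (bc_map_left_fst f q).symm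
      rw [Category.assoc]
      exact pullbackRightPullbackFstIso_inv_snd_fst V.hom f p0
    · refine Eq.trans ?_ (bc_map_left_snd f q).symm
      rw [Category.assoc]
      exact pullbackRightPullbackFstIso_inv_snd_snd V.hom f p0
  let h0' : (W0' : Scheme.{u}) ⟶ U.left := h0
  have hh0' : h0' ≫ ml = W0'.ι ≫ pullback.snd p0 (pullback.fst V.hom f) := hh0
  let h : (W : Scheme.{u}) ⟶ U.left := ρ ≫ h0'
  have hh : h ≫ ml = W.ι ≫ ((EtCoh.bc f).map q).left := by
    have e1 : h ≫ ml = ρ ≫ h0' ≫ ml := Category.assoc _ _ _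
    have e2 : ρ ≫ h0' ≫ ml = ρ ≫ W0'.ι ≫ pullback.snd p0 (pullback.fst V.hom f) :=
      congrArg (fun t => ρ ≫ t) hh0'
    have e3 : ρ ≫ W0'.ι ≫ pullback.snd p0 (pullback.fst V.hom f) =
        (W.ι ≫ e.inv) ≫ pullback.snd p0 (pullback.fst V.hom f) :=
      (Category.assoc _ _ _).symm.trans
        (congrArg (fun t => t ≫ pullback.snd p0 (pullback.fst V.hom f)) hρ)
    have e4 : (W.ι ≫ e.inv) ≫ pullback.snd p0 (pullback.fst V.hom f) =
        W.ι ≫ ((EtCoh.bc f).map q).left :=
      (Category.assoc _ _ _).trans (congrArg (fun t => W.ι ≫ t) he)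
    exact e1.trans (e2.trans (e3.trans e4))
  have hmU : ml ≫ pullback.snd V.hom f = U.hom := Over.w m.hom
  have hhX : h ≫ U.hom = (opnOf ((EtCoh.bc f).obj V') W).hom := by
    change h ≫ U.hom = W.ι ≫ pullback.snd (p0 ≫ V.hom) f
    have e1 : h ≫ U.hom = (h ≫ ml) ≫ pullback.snd V.hom f :=
      (congrArg (fun t => h ≫ t) hmU).symm.trans (Category.assoc _ _ _).symm
    have e2 : (h ≫ ml) ≫ pullback.snd V.hom f =
        W.ι ≫ ((EtCoh.bc f).map q).left ≫ pullback.snd V.hom f :=
      (congrArg (fun t => t ≫ pullback.snd V.hom f) hh).trans (Category.assoc _ _ _)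
    have e3 : W.ι ≫ ((EtCoh.bc f).map q).left ≫ pullback.snd V.hom f =
        W.ι ≫ pullback.snd (p0 ≫ V.hom) f :=
      congrArg (fun t => W.ι ≫ t) (bc_map_left_snd f q)
    exact e1.trans (e2.trans e3)
  let b : opnOf ((EtCoh.bc f).obj V') W ⟶ U := MorphismProperty.Over.homMk h hhX
  let z0' : Spec (CommRingCat.of Ω) ⟶ (W0' : Scheme.{u}) := z0
  have hz0' : z0' ≫ h0' = x := hz0
  let z : Spec (CommRingCat.of Ω) ⟶ (W : Scheme.{u}) := z0' ≫ inv ρ
  have hzh : z ≫ h = x := by
    have e1 : (z0' ≫ inv ρ) ≫ ρ ≫ h0' = z0' ≫ h0' := by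
      rw [Category.assoc, IsIso.inv_hom_id_assoc]
    exact e1.trans hz0'
  refine ⟨V', q, z ≫ W.ι ≫ pullback.fst (p0 ≫ V.hom) f, W, hW, ?_, b, z, ?_, rfl, hzh⟩
  · change (z ≫ W.ι ≫ pullback.fst (p0 ≫ V.hom) f) ≫ p0 = x ≫ ml ≫ pullback.fst V.hom f
    have e1 : ((EtCoh.bc f).map q).left ≫ pullback.fst V.hom f =
        pullback.fst (p0 ≫ V.hom) f ≫ p0 := bc_map_left_fst f q
    have e2 : (z ≫ W.ι ≫ pullback.fst (p0 ≫ V.hom) f) ≫ p0 =
        z ≫ W.ι ≫ ((EtCoh.bc f).map q).left ≫ pullback.fst V.hom f :=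
      (Category.assoc _ _ _).trans (congrArg (fun t => z ≫ t)
        ((Category.assoc _ _ _).trans (congrArg (fun t => W.ι ≫ t) e1.symm)))
    have e3 : z ≫ W.ι ≫ ((EtCoh.bc f).map q).left ≫ pullback.fst V.hom f =
        z ≫ (h ≫ ml) ≫ pullback.fst V.hom f :=
      congrArg (fun t => z ≫ t) ((Category.assoc _ _ _).symm.trans
        (congrArg (fun t => t ≫ pullback.fst V.hom f) hh.symm))
    have e4 : z ≫ (h ≫ ml) ≫ pullback.fst V.hom f = (z ≫ h) ≫ ml ≫ pullback.fst V.hom f :=
      (congrArg (fun t => z ≫ t) (Category.assoc _ _ _)).trans (Category.assoc _ _ _).symm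
    have e5 : (z ≫ h) ≫ ml ≫ pullback.fst V.hom f = x ≫ ml ≫ pullback.fst V.hom f :=
      congrArg (fun t => t ≫ ml ≫ pullback.fst V.hom f) hzh
    exact e2.trans (e3.trans (e4.trans e5))
  · apply MorphismProperty.Over.Hom.ext
    exact hh

end Exists

section Full

variable {X Y : Scheme.{u}} (f : X ⟶ Y) [IsIntegralHom f] [UniversallyInjective f]
  {Ω : Type u} [Field Ω] [IsSepClosed Ω]

set_option backward.isDefEq.respectTransparency.types false in
/-- for `f` integral and universally injective, a pointed étale neighbourhood `(U, x)` over `X ×_Y V` is dominated by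
the whole base change `X ×_Y V'` for a suitable refinement `V'` of `V`. -/
theorem exists_isPiece_top (V : Y.Etale) (U : X.Etale) (m : U ⟶ (EtCoh.bc f).obj V)
    (x : Spec (CommRingCat.of Ω) ⟶ U.left) :
    ∃ (V' : Y.Etale) (q : V' ⟶ V) (y' : Spec (CommRingCat.of Ω) ⟶ V'.left),
      y' ≫ q.left = x ≫ m.left ≫ pullback.fst V.hom f ∧ IsPiece f m x q y' ⊤ := by
  obtain ⟨V1, q1, y1, W, hWc, hy1, hP⟩ := exists_isPiece_int f V U m x
  let f1 : ((EtCoh.bc f).obj V1).left ⟶ V1.left := pullback.fst V1.hom f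
  haveI : IsIntegralHom f1 := inferInstanceAs (IsIntegralHom (pullback.fst V1.hom f))
  haveI : UniversallyInjective f1 :=
    MorphismProperty.pullback_fst (P := @UniversallyInjective) V1.hom f inferInstance
  let C : Set ((EtCoh.bc f).obj V1).left := (W : Set ((EtCoh.bc f).obj V1).left)ᶜ
  have hC : IsClosed C := W.2.isClosed_compl
  let D : Set V1.left := f1 '' C
  have hD : IsClosed D := f1.isClosedMap _ hC
  have hy1D : y1 default ∉ D := by
    rintro ⟨p, hpC, hp⟩
    obtain ⟨b, w, hb, hw1, hw2⟩ := hP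
    have h1 : f1 ((w ≫ W.ι) default) = y1 default := by
      rw [← Scheme.Hom.comp_apply]
      exact congrArg (fun t : Spec (CommRingCat.of Ω) ⟶ V1.left => t default)
        ((Category.assoc _ _ _).trans hw1)
    have h2 : p = (w ≫ W.ι) default := f1.injective (hp.trans h1.symm)
    apply hpC
    rw [h2, Scheme.Hom.comp_apply]
    exact (w default).2
  let V1o : V1.left.Opens := ⟨Dᶜ, hD.isOpen_compl⟩
  let V2 : Y.Etale := opnOf V1 V1o
  let r : V2 ⟶ V1 := opnIn V1 V1o
  have hy1o : Set.range y1 ⊆ Set.range V1o.ι := by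
    rintro _ ⟨a, rfl⟩
    rw [Subsingleton.elim a default, Scheme.Opens.range_ι]
    exact hy1D
  let y2 : Spec (CommRingCat.of Ω) ⟶ (V1o : Scheme.{u}) := IsOpenImmersion.lift V1o.ι y1 hy1o
  have hy2 : y2 ≫ r.left = y1 := IsOpenImmersion.lift_fac _ _ _
  have hle : (⊤ : ((EtCoh.bc f).obj V2).left.Opens) ≤ ((EtCoh.bc f).map r).left ⁻¹ᵁ W := by
    intro p _
    change ((EtCoh.bc f).map r).left p ∈ W
    by_contra hp
    have h1 : f1 (((EtCoh.bc f).map r).left p) ∈ D := ⟨_, hp, rfl⟩
    have h2 : f1 (((EtCoh.bc f).map r).left p) = V1o.ι ((pullback.fst V2.hom f) p) :=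
      (Scheme.Hom.comp_apply _ _ _).symm.trans
        ((congrArg (fun t : ((EtCoh.bc f).obj V2).left ⟶ V1.left => t p) (bc_map_left_fst f r)).trans
          (Scheme.Hom.comp_apply _ _ _))
    rw [h2] at h1
    exact ((pullback.fst V2.hom f) p).2 h1
  have hP2 := hP.restrict r y2 hy2 ⊤ hle (fun _ _ _ => trivial)
  refine ⟨V2, r ≫ q1, y2, ?_, hP2⟩
  have e1 : y2 ≫ (r ≫ q1).left = (y2 ≫ r.left) ≫ q1.left := (Category.assoc _ _ _).symm
  exact e1.trans ((congrArg (fun t => t ≫ q1.left) hy2).trans hy1)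

end Full

section Split

variable {X Y : Scheme.{u}} (f : X ⟶ Y) [IsIntegralHom f] [UniversallyInjective f]
  {Ω : Type u} [Field Ω] [IsAlgClosed Ω] (η : Spec (CommRingCat.of Ω) ⟶ Y)

omit [IsIntegralHom f] [IsAlgClosed Ω] in
/-- a universally injective morphism has at most one geometric point over a given geometric point -/
lemma subsingleton_points : Subsingleton {ξ : Spec (CommRingCat.of Ω) ⟶ X // ξ ≫ f = η} := by
  constructor
  intro a b
  apply Subtype.ext
  have h0 : UniversallyInjective f := inferInstance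
  have h1 : UniversallyInjective f ↔
      ∀ (K : Type u) [Field K], Function.Injective (fun g : Spec (.of K) ⟶ X ↦ g ≫ f) :=
    (tfae_universallyInjective f).out 0 1
  exact h1.1 h0 Ω (a.2.trans b.2.symm)

set_option backward.isDefEq.respectTransparency.types false in
/-- **Splitting theorem, integral universally injective case.**  Same conclusion as `StalkGeo.exists_split`: the
covering of `X ×_Y V'` is by the whole space if there is a geometric point over `η`, and `X ×_Y V'` is empty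
otherwise. -/
theorem exists_split_ui (V : Y.Etale) (y : Spec (CommRingCat.of Ω) ⟶ V.left) (hy : y ≫ V.hom = η)
    (U : {ξ : Spec (CommRingCat.of Ω) ⟶ X // ξ ≫ f = η} → X.Etale)
    (x : ∀ ξ, Spec (CommRingCat.of Ω) ⟶ (U ξ).left) (m : ∀ ξ, U ξ ⟶ (EtCoh.bc f).obj V)
    (hx1 : ∀ ξ, x ξ ≫ (m ξ).left ≫ pullback.fst V.hom f = y)
    (hx2 : ∀ ξ, x ξ ≫ (U ξ).hom = ξ.1) :
    ∃ (V' : Y.Etale) (g : V' ⟶ V) (y' : Spec (CommRingCat.of Ω) ⟶ V'.left), y' ≫ g.left = y ∧
      ∃ Wo : {ξ : Spec (CommRingCat.of Ω) ⟶ X // ξ ≫ f = η} → ((EtCoh.bc f).obj V').left.Opens,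
        (∀ ξ ξ', ξ ≠ ξ' → Disjoint (Wo ξ) (Wo ξ')) ∧ (∀ p, ∃ ξ, p ∈ Wo ξ) ∧
        ∀ ξ, IsPiece f (m ξ) (x ξ) g y' (Wo ξ) := by
  haveI := subsingleton_points f η
  by_cases hne : Nonempty {ξ : Spec (CommRingCat.of Ω) ⟶ X // ξ ≫ f = η}
  · obtain ⟨ξ₀⟩ := hne
    obtain ⟨V', q, y', hy', hP⟩ := exists_isPiece_top f V (U ξ₀) (m ξ₀) (x ξ₀)
    refine ⟨V', q, y', hy'.trans (hx1 ξ₀), fun _ => ⊤, ?_, fun _ => ⟨ξ₀, trivial⟩, ?_⟩
    · intro ξ ξ' h
      exact absurd (Subsingleton.elim ξ ξ') h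
    · intro ξ
      obtain rfl : ξ = ξ₀ := Subsingleton.elim _ _
      exact hP
  · have hη : η default ∉ Set.range f := by
      rintro ⟨c, hc⟩
      obtain ⟨z, hz, -⟩ := exists_fac_of_integral_of_isAlgClosed f η c hc
      exact hne ⟨⟨z, hz⟩⟩
    let Yo : Y.Opens := ⟨(Set.range f)ᶜ, f.isClosedMap.isClosed_range.isOpen_compl⟩
    let V1o : V.left.Opens := V.hom ⁻¹ᵁ Yo
    let V' : Y.Etale := opnOf V V1o
    let g : V' ⟶ V := opnIn V V1o
    have hyo : Set.range y ⊆ Set.range V1o.ι := by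
      rintro _ ⟨a, rfl⟩
      rw [Subsingleton.elim a default, Scheme.Opens.range_ι]
      change V.hom (y default) ∈ Yo
      rw [← Scheme.Hom.comp_apply, hy]
      exact hη
    let y' : Spec (CommRingCat.of Ω) ⟶ (V1o : Scheme.{u}) := IsOpenImmersion.lift V1o.ι y hyo
    have hy' : y' ≫ g.left = y := IsOpenImmersion.lift_fac _ _ _
    have hempty : ∀ p : ((EtCoh.bc f).obj V').left, False := by
      intro p
      have h1 : V'.hom ((pullback.fst V'.hom f) p) = f ((pullback.snd V'.hom f) p) :=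
        (Scheme.Hom.comp_apply _ _ _).symm.trans
          ((congrArg (fun t : ((EtCoh.bc f).obj V').left ⟶ Y => t p) pullback.condition).trans
            (Scheme.Hom.comp_apply _ _ _))
      have h2 : V'.hom ((pullback.fst V'.hom f) p) ∈ Yo := by
        change (V1o.ι ≫ V.hom) ((pullback.fst V'.hom f) p) ∈ Yo
        rw [Scheme.Hom.comp_apply]
        exact ((pullback.fst V'.hom f) p).2
      rw [h1] at h2
      exact h2 ⟨_, rfl⟩
    refine ⟨V', g, y', hy', fun _ => ⊤, ?_, fun p => (hempty p).elim, fun ξ => (hne ⟨ξ⟩).elim⟩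
    intro ξ
    exact (hne ⟨ξ⟩).elim

end Split

end Groth.Agent.Lib.Seat1.StalkInt
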