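import Mathlib
import Groth.Prelude.Def_EtBaseX
import Groth.Agent.Lib.Seat1StalkFin
import Groth.Agent.Lib.Seat1StalkInt

/-!
# Joint injectivity of the stalk comparison for an integral direct image (seat 1)

For `f : X ⟶ Y` integral and `η : Spec Ω ⟶ Y` with `Ω` algebraically closed, an element of the fibre of `f_* P` at `η`
is determined by its images in the fibres of `P` at the geometric points of `X` over `η`.
-/

set_option autoImplicit false
set_option linter.style.haveILetI false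
set_option linter.unusedSectionVars false
set_option linter.unusedVariables false
universe u
open CategoryTheory CategoryTheory.Limits AlgebraicGeometry Opposite

namespace Groth.Agent.Lib.Seat1.IntInj

open Groth.Agent.Lib.Seat1.FinSplit Groth.Agent.Lib.Helper16.SmallEtale Groth.Agent.Lib.Seat1.StalkGeo
  Groth.Agent.Lib.Seat1.StalkFin Groth.Agent.Lib.Seat1.StalkInt Groth.Agent.Lib.Seat1.StalkAbs

variable {X Y : Scheme.{u}} (f : X ⟶ Y) [IsIntegralHom f] {Ω : Type u} [Field Ω] [IsAlgClosed Ω]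
  (η : Spec (CommRingCat.of Ω) ⟶ Y)
  {A : Type (u + 2)} [Category.{u + 1} A] {FC : A → A → Type*} {CC : A → Type (u + 1)}
  [∀ X Y, FunLike (FC X Y) (CC X) (CC Y)] [ConcreteCategory.{u + 1} A FC]
  [HasColimitsOfSize.{u, u} A] [PreservesFilteredColimitsOfSize.{u, u} (forget A)]

set_option backward.isDefEq.respectTransparency.types false in
set_option maxHeartbeats 1600000 in
/-- two sections of `P` over `X ×_Y V` with the same germs at all the geometric points `(y, ξ)` coincide over
`X ×_Y V'` for a smaller pointed étale neighbourhood `V'`. -/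
theorem exists_restrict_eq (P : X.Etaleᵒᵖ ⥤ A)
    (hP : Presieve.IsSheaf X.smallEtaleTopology (P ⋙ forget A)) (V : Y.Etale)
    (y : (Scheme.pointSmallEtale η).fiber.obj V) (z₁ z₂ : ToType (P.obj (op ((EtCoh.bc f).obj V))))
    (hs : ∀ ξ : Pts f η, (Ψ f η ξ).toPresheafFiber ((EtCoh.bc f).obj V) ((θ f η ξ).app V y) P z₁ =
      (Ψ f η ξ).toPresheafFiber ((EtCoh.bc f).obj V) ((θ f η ξ).app V y) P z₂) :
    ∃ (V' : Y.Etale) (r : V' ⟶ V) (y' : (Scheme.pointSmallEtale η).fiber.obj V'),
      (Scheme.pointSmallEtale η).fiber.map r y' = y ∧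
      (ConcreteCategory.hom (P.map ((EtCoh.bc f).map r).op)) z₁ =
        (ConcreteCategory.hom (P.map ((EtCoh.bc f).map r).op)) z₂ := by
  choose U m x hm heq using fun ξ => ((Ψ f η ξ).toPresheafFiber_eq_iff' _ _ _ _).1 (hs ξ)
  let yl : Spec (CommRingCat.of Ω) ⟶ V.left :=
    Over.Hom.left (show Over.mk η ⟶ (Scheme.Etale.forget Y).obj V from y)
  have hyl : yl ≫ V.hom = η := Over.w (show Over.mk η ⟶ (Scheme.Etale.forget Y).obj V from y)
  let xl : ∀ ξ : Pts f η, Spec (CommRingCat.of Ω) ⟶ (U ξ).left := fun ξ =>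
    Over.Hom.left (show Over.mk ξ.1 ⟶ (Scheme.Etale.forget X).obj (U ξ) from x ξ)
  have hxm : ∀ ξ, xl ξ ≫ (m ξ).left = Over.Hom.left (show Over.mk ξ.1 ⟶
      (Scheme.Etale.forget X).obj ((EtCoh.bc f).obj V) from liftPt f η ξ V y) := fun ξ =>
    congrArg (fun t : Over.mk ξ.1 ⟶ (Scheme.Etale.forget X).obj ((EtCoh.bc f).obj V) =>
      Over.Hom.left t) (hm ξ)
  -- the open set covered by the `U ξ`
  let Os : Set ((EtCoh.bc f).obj V).left := ⋃ ξ, Set.range (m ξ).left
  have hOo : IsOpen Os := isOpen_iUnion (fun ξ => by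
    haveI : Etale (m ξ).left := inferInstance
    exact (m ξ).left.isOpenMap.isOpen_range)
  let f1 : ((EtCoh.bc f).obj V).left ⟶ V.left := pullback.fst V.hom f
  haveI : IsIntegralHom f1 := inferInstanceAs (IsIntegralHom (pullback.fst V.hom f))
  let D : Set V.left := f1 '' Osᶜ
  have hD : IsClosed D := f1.isClosedMap _ hOo.isClosed_compl
  have hyD : yl default ∉ D := by
    rintro ⟨p, hpC, hp⟩
    obtain ⟨zz, hzz1, hzz2⟩ := exists_fac_of_integral_of_isAlgClosed f1 yl p hp
    have hξ : (zz ≫ pullback.snd V.hom f) ≫ f = η := by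
      have e1 : (zz ≫ pullback.snd V.hom f) ≫ f = (zz ≫ f1) ≫ V.hom :=
        (Category.assoc _ _ _).trans ((congrArg (fun t => zz ≫ t) pullback.condition.symm).trans
          (Category.assoc _ _ _).symm)
      rw [e1, hzz1, hyl]
    let ξ : Pts f η := ⟨zz ≫ pullback.snd V.hom f, hξ⟩
    have hzz : zz = Over.Hom.left (show Over.mk ξ.1 ⟶
        (Scheme.Etale.forget X).obj ((EtCoh.bc f).obj V) from liftPt f η ξ V y) := by
      refine pullback.hom_ext ?_ ?_
      · exact hzz1.trans (liftPt_left_fst f η ξ V y).symm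
      · exact (liftPt_left_snd f η ξ V y).symm
    apply hpC
    refine Set.mem_iUnion.2 ⟨ξ, ⟨(xl ξ) default, ?_⟩⟩
    rw [← Scheme.Hom.comp_apply, hxm ξ, ← hzz, hzz2]
  -- shrink the neighbourhood
  let V1o : V.left.Opens := ⟨Dᶜ, hD.isOpen_compl⟩
  let V' : Y.Etale := opnOf V V1o
  let r : V' ⟶ V := opnIn V V1o
  have hyo : Set.range yl ⊆ Set.range V1o.ι := by
    rintro _ ⟨a, rfl⟩
    rw [Subsingleton.elim a default, Scheme.Opens.range_ι]
    exact hyD
  let y2 : Spec (CommRingCat.of Ω) ⟶ (V1o : Scheme.{u}) := IsOpenImmersion.lift V1o.ι yl hyo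
  have hy2 : y2 ≫ r.left = yl := IsOpenImmersion.lift_fac _ _ _
  have hy2η : y2 ≫ V'.hom = η := by
    have e1 : r.left ≫ V.hom = V'.hom := Over.w r.hom
    exact ((congrArg (fun t => y2 ≫ t) e1).symm.trans (Category.assoc _ _ _).symm).trans
      ((congrArg (fun t => t ≫ V.hom) hy2).trans hyl)
  let y' : (Scheme.pointSmallEtale η).fiber.obj V' :=
    (Over.homMk y2 hy2η : Over.mk η ⟶ (Scheme.Etale.forget Y).obj V')
  have hle : ∀ p : ((EtCoh.bc f).obj V').left, ((EtCoh.bc f).map r).left p ∈ Os := by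
    intro p
    by_contra hp
    have h1 : f1 (((EtCoh.bc f).map r).left p) ∈ D := ⟨_, hp, rfl⟩
    have h2 : f1 (((EtCoh.bc f).map r).left p) = V1o.ι ((pullback.fst V'.hom f) p) :=
      (Scheme.Hom.comp_apply _ _ _).symm.trans
        ((congrArg (fun t : ((EtCoh.bc f).obj V').left ⟶ V.left => t p) (bc_map_left_fst f r)).trans
          (Scheme.Hom.comp_apply _ _ _))
    rw [h2] at h1
    exact ((pullback.fst V'.hom f) p).2 h1
  refine ⟨V', r, y', ?_, ?_⟩
  · apply Over.OverMorphism.ext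
    exact hy2
  · -- separatedness
    let S : Sieve ((EtCoh.bc f).obj V) := Presheaf.equalizerSieve (F := P) (X := op ((EtCoh.bc f).obj V)) z₁ z₂
    have hSm : ∀ ξ, S (m ξ) := fun ξ => heq ξ
    have hmem : S.pullback ((EtCoh.bc f).map r) ∈ X.smallEtaleTopology ((EtCoh.bc f).obj V') := by
      rw [mem_smallEtale_iff]
      intro p
      obtain ⟨ξ, u, hu⟩ := Set.mem_iUnion.1 (hle p)
      let ml : (U ξ).left ⟶ ((EtCoh.bc f).obj V).left := (m ξ).left
      haveI : Etale ml := inferInstanceAs (Etale (m ξ).left)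
      let rl : ((EtCoh.bc f).obj V').left ⟶ ((EtCoh.bc f).obj V).left := ((EtCoh.bc f).map r).left
      haveI : Etale ((EtCoh.bc f).obj V').hom := ((EtCoh.bc f).obj V').prop
      let T : X.Etale := Scheme.Etale.mk (pullback.snd ml rl ≫ ((EtCoh.bc f).obj V').hom)
      let h : T ⟶ (EtCoh.bc f).obj V' := MorphismProperty.Over.homMk (pullback.snd ml rl) rfl
      have hmU : ml ≫ ((EtCoh.bc f).obj V).hom = (U ξ).hom := Over.w (m ξ).hom
      have hrV : rl ≫ ((EtCoh.bc f).obj V).hom = ((EtCoh.bc f).obj V').hom :=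
        Over.w ((EtCoh.bc f).map r).hom
      let h1 : T ⟶ U ξ := MorphismProperty.Over.homMk (pullback.fst ml rl) (by
        change pullback.fst ml rl ≫ (U ξ).hom = pullback.snd ml rl ≫ ((EtCoh.bc f).obj V').hom
        rw [← hmU, ← hrV, ← Category.assoc, ← Category.assoc, pullback.condition])
      have hh : h ≫ (EtCoh.bc f).map r = h1 ≫ m ξ := by
        apply MorphismProperty.Over.Hom.ext
        exact pullback.condition.symm
      obtain ⟨t, ht1, ht2⟩ := Scheme.Pullback.exists_preimage_pullback (f := ml) (g := rl) u p hu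
      refine ⟨T, h, t, ?_, ht2⟩
      change S (h ≫ (EtCoh.bc f).map r)
      rw [hh]
      exact S.downward_closed (hSm ξ) h1
    have hsep := (hP.isSeparated _ hmem).ext (t₁ := (ConcreteCategory.hom (P.map ((EtCoh.bc f).map r).op)) z₁)
      (t₂ := (ConcreteCategory.hom (P.map ((EtCoh.bc f).map r).op)) z₂)
    apply hsep
    intro T h hh
    have h3 : (ConcreteCategory.hom (P.map (h ≫ (EtCoh.bc f).map r).op)) z₁ =
        (ConcreteCategory.hom (P.map (h ≫ (EtCoh.bc f).map r).op)) z₂ := hh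
    have e : ∀ z : ToType (P.obj (op ((EtCoh.bc f).obj V))),
        (ConcreteCategory.hom (P.map (h ≫ (EtCoh.bc f).map r).op)) z =
        (ConcreteCategory.hom (P.map h.op)) ((ConcreteCategory.hom (P.map ((EtCoh.bc f).map r).op)) z) := by
      intro z
      rw [← ConcreteCategory.comp_apply, ← P.map_comp, ← op_comp]
    rw [e, e] at h3
    exact h3

set_option backward.isDefEq.respectTransparency.types false in
/-- **Joint injectivity of the stalk comparison** for an integral morphism. -/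
theorem cmp_injective_int (P : X.Etaleᵒᵖ ⥤ A)
    (hP : Presieve.IsSheaf X.smallEtaleTopology (P ⋙ forget A)) :
    Function.Injective
      (fun (s : ToType ((Scheme.pointSmallEtale η).presheafFiber.obj ((EtCoh.bc f).op ⋙ P)))
        (ξ : Pts f η) =>
        (ConcreteCategory.hom (cmp (EtCoh.bc f) (Scheme.pointSmallEtale η) (Ψ f η) (θ f η) ξ P)) s) := by
  intro s₁ s₂ hs
  obtain ⟨V, y, z₁, z₂, rfl, rfl⟩ :=
    (Scheme.pointSmallEtale η).toPresheafFiber_jointly_surjective₂ s₁ s₂
  have hs' : ∀ ξ : Pts f η, (Ψ f η ξ).toPresheafFiber ((EtCoh.bc f).obj V) ((θ f η ξ).app V y) P z₁ =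
      (Ψ f η ξ).toPresheafFiber ((EtCoh.bc f).obj V) ((θ f η ξ).app V y) P z₂ := by
    intro ξ
    have h1 := congrFun hs ξ
    dsimp only at h1
    rwa [cmp_toPresheafFiber_apply, cmp_toPresheafFiber_apply] at h1
  obtain ⟨V', r, y', hy', key⟩ := exists_restrict_eq f η P hP V y z₁ z₂ hs'
  rw [← hy']
  have e1 := (Scheme.pointSmallEtale η).toPresheafFiber_w_apply r y' ((EtCoh.bc f).op ⋙ P) z₁
  have e2 := (Scheme.pointSmallEtale η).toPresheafFiber_w_apply r y' ((EtCoh.bc f).op ⋙ P) z₂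
  rw [← e1, ← e2]
  exact congrArg _ key

end Groth.Agent.Lib.Seat1.IntInj
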