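import Mathlib
import Groth.Agent.Lib.Seat1StalkAlg

/-!
# Separating two geometric points of an integral algebra étale-locally (seat 1, algebra part)

`R` a ring, `Ω` an algebraically closed field over `R`, `S` an integral `R`-algebra and `φ₀ ≠ φ₁ : S → Ω` two
`Ω`-points.  After an étale localisation `R → C` at the geometric point there is an idempotent of `S ⊗ C` with value
`1` at `φ₀` and `0` at `φ₁`.
-/

set_option autoImplicit false
set_option linter.style.haveILetI false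
universe u
open TensorProduct

namespace Groth.Agent.Lib.Seat1.IntSepAlg

open Groth.Agent.Lib.Seat1.ShSys Groth.Agent.Lib.Seat1.StalkAlg

variable (R : Type u) [CommRing R] (Ω : Type u) [Field Ω] [IsAlgClosed Ω] [Algebra R Ω]
  (S : Type u) [CommRing S] [Algebra R S] [Algebra.IsIntegral R S]

theorem exists_sep_idem (φ₀ φ₁ : S →ₐ[R] Ω) (h : φ₀ ≠ φ₁) :
    ∃ (i : Idx R Ω) (e : S ⊗[R] i.C), IsIdempotentElem e ∧
      Algebra.TensorProduct.productMap φ₀ i.pt e = 1 ∧
      Algebra.TensorProduct.productMap φ₁ i.pt e = 0 := by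
  classical
  obtain ⟨b, hb⟩ : ∃ b, φ₀ b ≠ φ₁ b := by
    by_contra hcon
    push Not at hcon
    exact h (AlgHom.ext hcon)
  let S₀ : Subalgebra R S := Algebra.adjoin R {b}
  haveI : Module.Finite R S₀ :=
    Module.Finite.iff_fg.mpr (Algebra.IsIntegral.isIntegral (R := R) b).fg_adjoin_singleton
  obtain ⟨κ, _, _, i, ρ, hsep⟩ := exists_spread_sep R Ω S₀
  haveI := Fintype.ofFinite κ
  let ψ₀ : S₀ →ₐ[R] Ω := φ₀.comp S₀.val
  let ψ₁ : S₀ →ₐ[R] Ω := φ₁.comp S₀.val
  have hne : ψ₀ ≠ ψ₁ := by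
    intro hcon
    exact hb (congrArg (fun ψ : S₀ →ₐ[R] Ω => ψ ⟨b, Algebra.subset_adjoin (Set.mem_singleton b)⟩) hcon)
  have hsum : ∑ k : κ, ρ (Pi.single k 1) = 1 := by
    rw [← map_sum, Finset.univ_sum_single]
    exact map_one ρ
  have hsum' : ∑ k : κ, Algebra.TensorProduct.productMap ψ₀ i.pt (ρ (Pi.single k 1)) = 1 := by
    rw [← map_sum, hsum, map_one]
  obtain ⟨k₀, hk₀⟩ : ∃ k₀, Algebra.TensorProduct.productMap ψ₀ i.pt (ρ (Pi.single k₀ 1)) ≠ 0 := by
    by_contra hcon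
    push Not at hcon
    rw [Finset.sum_eq_zero (fun k _ => hcon k)] at hsum'
    exact zero_ne_one hsum'
  let e₀ : S₀ ⊗[R] i.C := ρ (Pi.single k₀ 1)
  have he₀ : IsIdempotentElem e₀ := by
    change ρ (Pi.single k₀ 1) * ρ (Pi.single k₀ 1) = ρ (Pi.single k₀ 1)
    rw [← map_mul, ← Pi.single_mul, mul_one]
  have h1 : Algebra.TensorProduct.productMap ψ₀ i.pt e₀ = 1 :=
    eq_one_of_idem_ne_zero (by rw [← map_mul, he₀.eq]) hk₀
  have h0 : Algebra.TensorProduct.productMap ψ₁ i.pt e₀ = 0 := by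
    by_contra hcon
    exact hne (hsep ψ₀ ψ₁ k₀ hk₀ hcon)
  have key : ∀ (φ : S →ₐ[R] Ω) (t : S₀ ⊗[R] i.C),
      Algebra.TensorProduct.productMap φ i.pt
        (Algebra.TensorProduct.map S₀.val (AlgHom.id R i.C) t) =
      Algebra.TensorProduct.productMap (φ.comp S₀.val) i.pt t := by
    intro φ t
    induction t using TensorProduct.induction_on with
    | zero => simp
    | tmul s c => simp
    | add a b ha hb => rw [map_add, map_add, map_add, ha, hb]
  refine ⟨i, Algebra.TensorProduct.map S₀.val (AlgHom.id R i.C) e₀, ?_, ?_, ?_⟩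
  · exact he₀.map _
  · rw [key]
    exact h1
  · rw [key]
    exact h0

end Groth.Agent.Lib.Seat1.IntSepAlg
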