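import Mathlib
import Groth.Prelude.Def_EtBaseX
import Groth.Agent.Lib.Seat1FinSplit
import Groth.Agent.Lib.Seat1IntSepAlg
import Groth.Agent.Lib.Helper16SmallEtale

/-!
# Separating two geometric points of the fibre of an integral morphism étale-locally (seat 1)

For `f : X ⟶ Y` integral and two distinct geometric points of `X` over a geometric point of `Y` (algebraically closed
field), after an étale localisation `V` of `Y` at the point there is a clopen subset of `X ×_Y V` containing the first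
and not the second.
-/

set_option autoImplicit false
set_option linter.style.haveILetI false
set_option linter.unusedSectionVars false
universe u
open CategoryTheory CategoryTheory.Limits AlgebraicGeometry Opposite IsLocalRing TensorProduct

namespace Groth.Agent.Lib.Seat1.IntSep

open Groth.Agent.Lib.Seat1.ShSys Groth.Agent.Lib.Seat1.FinSplitAlg Groth.Agent.Lib.Seat1.FinHensel
  Groth.Agent.Lib.Seat1.FinSplit Groth.Agent.Lib.Seat1.IntSepAlg Groth.Agent.Lib.Helper16.SmallEtale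

section Ev

variable {Ω : Type u} [Field Ω]

/-- evaluation of global functions at a geometric point -/
noncomputable def ev {P : Scheme.{u}} (w : Spec (CommRingCat.of Ω) ⟶ P) : Γ(P, ⊤) →+* Ω :=
  (Scheme.ΓSpecIso (CommRingCat.of Ω)).hom.hom.comp w.appTop.hom

lemma ev_comp {P Q : Scheme.{u}} (w : Spec (CommRingCat.of Ω) ⟶ P) (u : P ⟶ Q) (s : Γ(Q, ⊤)) :
    ev (w ≫ u) s = ev w (u.appTop.hom s) := by
  unfold ev
  rw [Scheme.Hom.comp_appTop]
  rfl

/-- a geometric point lies in a basic open iff the function does not vanish there -/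
lemma mem_basicOpen_iff {P : Scheme.{u}} (w : Spec (CommRingCat.of Ω) ⟶ P) (t : Γ(P, ⊤)) :
    w default ∈ P.basicOpen t ↔ ev w t ≠ 0 := by
  have hinj : Function.Injective (Scheme.ΓSpecIso (CommRingCat.of Ω)).hom.hom :=
    (ConcreteCategory.bijective_of_isIso (Scheme.ΓSpecIso (CommRingCat.of Ω)).hom).1
  have hpre : w ⁻¹ᵁ P.basicOpen t = (Spec (CommRingCat.of Ω)).basicOpen (w.appTop.hom t) :=
    Scheme.preimage_basicOpen_top w t
  constructor
  · intro h h0
    have h6 : (default : Spec (CommRingCat.of Ω)) ∈ w ⁻¹ᵁ P.basicOpen t := h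
    rw [hpre] at h6
    have h7 : w.appTop.hom t = 0 := hinj (h0.trans (map_zero _).symm)
    rw [h7, Scheme.basicOpen_zero] at h6
    exact h6
  · intro h
    change (default : Spec (CommRingCat.of Ω)) ∈ w ⁻¹ᵁ P.basicOpen t
    rw [hpre]
    have hu : IsUnit (ev w t) := isUnit_iff_ne_zero.mpr h
    have hu' : IsUnit (w.appTop.hom t) := by
      have := hu.map (Scheme.ΓSpecIso (CommRingCat.of Ω)).inv.hom
      have e : (Scheme.ΓSpecIso (CommRingCat.of Ω)).inv.hom (ev w t) = w.appTop.hom t := by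
        change ((Scheme.ΓSpecIso (CommRingCat.of Ω)).hom ≫ (Scheme.ΓSpecIso (CommRingCat.of Ω)).inv)
          (w.appTop.hom t) = _
        rw [Iso.hom_inv_id]
        rfl
      rwa [e] at this
    rw [Scheme.basicOpen_of_isUnit _ hu']
    trivial

end Ev

section Core

variable {X Y : Scheme.{u}} (f : X ⟶ Y) [IsIntegralHom f] (R : Type u) [CommRing R]
  (Ω : Type u) [Field Ω] [IsAlgClosed Ω] [Algebra R Ω]
  (q : Spec (CommRingCat.of R) ⟶ Y) [Etale q]

set_option maxHeartbeats 1600000 in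
/-- affine form of the separation statement -/
theorem sep_core_int
    (z₀ z₁ : Spec (CommRingCat.of Ω) ⟶ ((EtCoh.bc f).obj (Scheme.Etale.mk q)).left)
    (hz₀ : z₀ ≫ pullback.fst q f = Spec.map (CommRingCat.ofHom (algebraMap R Ω)))
    (hz₁ : z₁ ≫ pullback.fst q f = Spec.map (CommRingCat.ofHom (algebraMap R Ω)))
    (hne : z₀ ≠ z₁) :
    ∃ (i : Idx R Ω) (W : ((EtCoh.bc f).obj (VV R q i.C)).left.Opens),
      IsClosed (W : Set ((EtCoh.bc f).obj (VV R q i.C)).left) ∧
      ∀ (w₀ w₁ : Spec (CommRingCat.of Ω) ⟶ ((EtCoh.bc f).obj (VV R q i.C)).left),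
        w₀ ≫ pullback.fst (VV R q i.C).hom f = Spec.map (CommRingCat.ofHom i.pt.toRingHom) →
        w₀ ≫ ((EtCoh.bc f).map (gg R q i.C)).left = z₀ →
        w₁ ≫ pullback.fst (VV R q i.C).hom f = Spec.map (CommRingCat.ofHom i.pt.toRingHom) →
        w₁ ≫ ((EtCoh.bc f).map (gg R q i.C)).left = z₁ →
        w₀ default ∈ W ∧ w₁ default ∉ W := by
  let V0 : Y.Etale := Scheme.Etale.mk q
  let Z0 : X.Etale := (EtCoh.bc f).obj V0
  let P : Scheme.{u} := Z0.left
  let p1 : P ⟶ Spec (CommRingCat.of R) := pullback.fst V0.hom f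
  haveI : IsIntegralHom p1 := inferInstanceAs (IsIntegralHom (pullback.fst q f))
  haveI : IsAffine P := isAffine_of_isAffineHom p1
  let S : CommRingCat.{u} := Γ(P, ⊤)
  let φ : CommRingCat.of R ⟶ S := (Scheme.ΓSpecIso (CommRingCat.of R)).inv ≫ p1.appTop
  have hφint : φ.hom.IsIntegral := by
    have h1 : p1.appTop.hom.IsIntegral := p1.isIntegral_app ⊤ (isAffineOpen_top _)
    have h2 : (Scheme.ΓSpecIso (CommRingCat.of R)).inv.hom.IsIntegral :=
      RingHom.isIntegral_of_surjective _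
        ((ConcreteCategory.bijective_of_isIso (Scheme.ΓSpecIso (CommRingCat.of R)).inv).2)
    exact RingHom.IsIntegral.trans _ _ h2 h1
  letI : Algebra R S := φ.hom.toAlgebra
  haveI : Algebra.IsIntegral R S := ⟨hφint⟩
  -- the points of `S` attached to the geometric points
  have hevR : ∀ z : Spec (CommRingCat.of Ω) ⟶ P,
      z ≫ p1 = Spec.map (CommRingCat.ofHom (algebraMap R Ω)) →
      ∀ r : R, ev z (algebraMap R S r) = algebraMap R Ω r := by
    intro z hz r
    have h1 : φ ≫ z.appTop ≫ (Scheme.ΓSpecIso (CommRingCat.of Ω)).hom =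
        CommRingCat.ofHom (algebraMap R Ω) := by
      change ((Scheme.ΓSpecIso (CommRingCat.of R)).inv ≫ p1.appTop) ≫ z.appTop ≫
        (Scheme.ΓSpecIso (CommRingCat.of Ω)).hom = _
      rw [Category.assoc, ← Category.assoc p1.appTop, ← Scheme.Hom.comp_appTop, hz,
        Scheme.ΓSpecIso_naturality, ← Category.assoc, Iso.inv_hom_id, Category.id_comp]
    exact congrArg (fun mm : CommRingCat.of R ⟶ CommRingCat.of Ω => mm.hom r) h1
  let φ₀ : S →ₐ[R] Ω := { ev z₀ with commutes' := hevR z₀ hz₀ }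
  let φ₁ : S →ₐ[R] Ω := { ev z₁ with commutes' := hevR z₁ hz₁ }
  have hφne : φ₀ ≠ φ₁ := by
    intro hcon
    apply hne
    apply ext_of_isAffine
    rw [← cancel_mono (Scheme.ΓSpecIso (CommRingCat.of Ω)).hom]
    ext s
    exact congrArg (fun ψ : S →ₐ[R] Ω => ψ s) hcon
  obtain ⟨i, e, he, he0, he1⟩ := exists_sep_idem R Ω S φ₀ φ₁ hφne
  -- the étale neighbourhood
  let V : Y.Etale := VV R q i.C
  let g : V ⟶ V0 := gg R q i.C
  let Z : X.Etale := (EtCoh.bc f).obj V
  let P' : Scheme.{u} := Z.left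
  let p1' : P' ⟶ Spec (CommRingCat.of i.C) := pullback.fst V.hom f
  let u : P' ⟶ P := ((EtCoh.bc f).map g).left
  let ai : CommRingCat.of R ⟶ CommRingCat.of i.C := CommRingCat.ofHom (algebraMap R i.C)
  have hsq : u ≫ p1 = p1' ≫ Spec.map ai := (EtCoh.isPullback_bc_map f g).w
  let G : CommRingCat.{u} := Γ(P', ⊤)
  letI : Algebra R G := (u.appTop.hom.comp (algebraMap R S)).toAlgebra
  let fS : S →ₐ[R] G := { u.appTop.hom with commutes' := fun r => rfl }
  let γ : CommRingCat.of i.C ⟶ G := (Scheme.ΓSpecIso (CommRingCat.of i.C)).inv ≫ p1'.appTop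
  have hγ : ai ≫ γ = φ ≫ u.appTop := by
    change ai ≫ (Scheme.ΓSpecIso (CommRingCat.of i.C)).inv ≫ p1'.appTop =
      ((Scheme.ΓSpecIso (CommRingCat.of R)).inv ≫ p1.appTop) ≫ u.appTop
    rw [← Category.assoc, Scheme.ΓSpecIso_inv_naturality, Category.assoc, Category.assoc,
      ← Scheme.Hom.comp_appTop, ← Scheme.Hom.comp_appTop, hsq]
  let fC : i.C →ₐ[R] G :=
    { γ.hom with
      commutes' := fun r => congrArg (fun m : CommRingCat.of R ⟶ G => m.hom r) hγ }
  let θ₀ : S ⊗[R] i.C →ₐ[R] G := Algebra.TensorProduct.productMap fS fC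
  let t : G := θ₀ e
  have ht : IsIdempotentElem t := he.map θ₀
  let W : P'.Opens := P'.basicOpen t
  have hWc : IsClosed (W : Set P') := by
    have h1 : IsClopen ((PrimeSpectrum.basicOpen t : TopologicalSpace.Opens (PrimeSpectrum G)) :
        Set (PrimeSpectrum G)) := PrimeSpectrum.isClopen_iff.mpr ⟨t, ht, rfl⟩
    have h2 : W = P'.toSpecΓ ⁻¹ᵁ (PrimeSpectrum.basicOpen t) :=
      (Scheme.toSpecΓ_preimage_basicOpen P' t).symm
    rw [h2]
    exact h1.1.preimage P'.toSpecΓ.continuous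
  refine ⟨i, W, hWc, ?_⟩
  intro w₀ w₁ hw₀ hw₀z hw₁ hw₁z
  have hevC : ∀ w : Spec (CommRingCat.of Ω) ⟶ P',
      w ≫ p1' = Spec.map (CommRingCat.ofHom i.pt.toRingHom) →
      ∀ c : i.C, ev w (fC c) = i.pt c := by
    intro w hw c
    have h1 : γ ≫ w.appTop ≫ (Scheme.ΓSpecIso (CommRingCat.of Ω)).hom =
        CommRingCat.ofHom i.pt.toRingHom := by
      change ((Scheme.ΓSpecIso (CommRingCat.of i.C)).inv ≫ p1'.appTop) ≫ w.appTop ≫
        (Scheme.ΓSpecIso (CommRingCat.of Ω)).hom = _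
      rw [Category.assoc, ← Category.assoc p1'.appTop, ← Scheme.Hom.comp_appTop, hw,
        Scheme.ΓSpecIso_naturality, ← Category.assoc, Iso.inv_hom_id, Category.id_comp]
    exact congrArg (fun mm : CommRingCat.of i.C ⟶ CommRingCat.of Ω => mm.hom c) h1
  have hprod : ∀ (w : Spec (CommRingCat.of Ω) ⟶ P') (z : Spec (CommRingCat.of Ω) ⟶ P)
      (ψ : S →ₐ[R] Ω) (_ : ∀ s, ψ s = ev z s)
      (_ : w ≫ p1' = Spec.map (CommRingCat.ofHom i.pt.toRingHom)) (_ : w ≫ u = z)
      (x : S ⊗[R] i.C),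
      ev w (θ₀ x) = Algebra.TensorProduct.productMap ψ i.pt x := by
    intro w z ψ hψ hw hwz x
    induction x using TensorProduct.induction_on with
    | zero => simp
    | tmul s c =>
      rw [Algebra.TensorProduct.productMap_apply_tmul, Algebra.TensorProduct.productMap_apply_tmul,
        map_mul, hevC w hw, hψ, ← hwz, ev_comp]
      rfl
    | add a b ha hb => rw [map_add, map_add, map_add, ha, hb]
  constructor
  · rw [mem_basicOpen_iff]
    have := hprod w₀ z₀ φ₀ (fun s => rfl) hw₀ hw₀z e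
    change ev w₀ (θ₀ e) ≠ 0
    rw [this, he0]
    exact one_ne_zero
  · rw [mem_basicOpen_iff, not_not]
    have := hprod w₁ z₁ φ₁ (fun s => rfl) hw₁ hw₁z e
    change ev w₁ (θ₀ e) = 0
    rw [this, he1]

end Core

section General

variable {X Y : Scheme.{u}} (f : X ⟶ Y) [IsIntegralHom f] {Ω : Type u} [Field Ω] [IsAlgClosed Ω]

set_option maxHeartbeats 800000 in
/-- **Separation of two geometric points of the fibre of an integral morphism**: given two distinct geometric points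
`ξ₀ ≠ ξ₁` of `X` over the same geometric point of `Y`, every pointed étale neighbourhood `(V0, y0)` has a refinement
`(V, y)` such that some clopen subset of `X ×_Y V` contains `(y, ξ₀)` and not `(y, ξ₁)`. -/
theorem exists_sep_int (ξ₀ ξ₁ : Spec (CommRingCat.of Ω) ⟶ X) (hne : ξ₀ ≠ ξ₁) (V0 : Y.Etale)
    (y0 : Spec (CommRingCat.of Ω) ⟶ V0.left) (h₀ : y0 ≫ V0.hom = ξ₀ ≫ f) (h₁ : y0 ≫ V0.hom = ξ₁ ≫ f) :
    ∃ (V : Y.Etale) (g : V ⟶ V0) (y : Spec (CommRingCat.of Ω) ⟶ V.left), y ≫ g.left = y0 ∧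
      ∃ W : ((EtCoh.bc f).obj V).left.Opens, IsClosed (W : Set ((EtCoh.bc f).obj V).left) ∧
        ∀ (w₀ w₁ : Spec (CommRingCat.of Ω) ⟶ ((EtCoh.bc f).obj V).left),
          w₀ ≫ pullback.fst V.hom f = y → w₀ ≫ pullback.snd V.hom f = ξ₀ →
          w₁ ≫ pullback.fst V.hom f = y → w₁ ≫ pullback.snd V.hom f = ξ₁ →
          w₀ default ∈ W ∧ w₁ default ∉ W := by
  obtain ⟨R', j, hj, hx, -⟩ := Scheme.exists_affine_mem_range_and_range_subset
    (x := y0 (default : Spec (CommRingCat.of Ω))) (U := ⊤) (by simp)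
  have hrange : Set.range y0 ⊆ Set.range j := by
    rintro _ ⟨a, rfl⟩
    rwa [Subsingleton.elim a default]
  let p₀ : Spec (CommRingCat.of Ω) ⟶ Spec R' := IsOpenImmersion.lift j y0 hrange
  have hp₀ : p₀ ≫ j = y0 := IsOpenImmersion.lift_fac j y0 hrange
  let φ₀ : R' ⟶ CommRingCat.of Ω := Spec.preimage p₀
  have hφ₀ : Spec.map φ₀ = p₀ := Spec.map_preimage _
  letI : Algebra R' Ω := φ₀.hom.toAlgebra
  let q : Spec (CommRingCat.of R') ⟶ Y := j ≫ V0.hom
  haveI : Etale q := inferInstanceAs (Etale (j ≫ V0.hom))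
  let V1 : Y.Etale := Scheme.Etale.mk q
  let j1 : V1 ⟶ V0 := MorphismProperty.Over.homMk j rfl
  have hpq : Spec.map (CommRingCat.ofHom (algebraMap R' Ω)) ≫ q = y0 ≫ V0.hom := by
    change Spec.map φ₀ ≫ j ≫ V0.hom = y0 ≫ V0.hom
    rw [hφ₀, ← Category.assoc, hp₀]
  let z₀ : Spec (CommRingCat.of Ω) ⟶ ((EtCoh.bc f).obj (Scheme.Etale.mk q)).left :=
    pullback.lift (Spec.map (CommRingCat.ofHom (algebraMap R' Ω))) ξ₀ (hpq.trans h₀)
  let z₁ : Spec (CommRingCat.of Ω) ⟶ ((EtCoh.bc f).obj (Scheme.Etale.mk q)).left :=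
    pullback.lift (Spec.map (CommRingCat.ofHom (algebraMap R' Ω))) ξ₁ (hpq.trans h₁)
  have hz₀ : z₀ ≫ pullback.fst q f = Spec.map (CommRingCat.ofHom (algebraMap R' Ω)) :=
    pullback.lift_fst _ _ _
  have hz₁ : z₁ ≫ pullback.fst q f = Spec.map (CommRingCat.ofHom (algebraMap R' Ω)) :=
    pullback.lift_fst _ _ _
  have hz₀s : z₀ ≫ pullback.snd q f = ξ₀ := pullback.lift_snd _ _ _
  have hz₁s : z₁ ≫ pullback.snd q f = ξ₁ := pullback.lift_snd _ _ _
  have hzne : z₀ ≠ z₁ := by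
    intro hcon
    apply hne
    rw [← hz₀s, ← hz₁s, hcon]
  obtain ⟨i, W, hWc, hW⟩ := sep_core_int f R' Ω q z₀ z₁ hz₀ hz₁ hzne
  let V : Y.Etale := VV R' q i.C
  let g : V ⟶ V0 := gg R' q i.C ≫ j1
  have hpt : Spec.map (CommRingCat.ofHom i.pt.toRingHom) ≫
      Spec.map (CommRingCat.ofHom (algebraMap R' i.C)) =
      Spec.map (CommRingCat.ofHom (algebraMap R' Ω)) := by
    rw [← Spec.map_comp]
    congr 1
    ext r
    exact i.pt.commutes r
  refine ⟨V, g, Spec.map (CommRingCat.ofHom i.pt.toRingHom), ?_, W, hWc, ?_⟩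
  · change Spec.map (CommRingCat.ofHom i.pt.toRingHom) ≫
      Spec.map (CommRingCat.ofHom (algebraMap R' i.C)) ≫ j = y0
    rw [← Category.assoc, hpt]
    exact (congrArg (fun t => t ≫ j) hφ₀).trans hp₀
  · intro w₀ w₁ hw₀ hw₀s hw₁ hw₁s
    have key : ∀ (w : Spec (CommRingCat.of Ω) ⟶ ((EtCoh.bc f).obj V).left)
        (ξ : Spec (CommRingCat.of Ω) ⟶ X)
        (z : Spec (CommRingCat.of Ω) ⟶ ((EtCoh.bc f).obj (Scheme.Etale.mk q)).left),
        z ≫ pullback.fst q f = Spec.map (CommRingCat.ofHom (algebraMap R' Ω)) →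
        z ≫ pullback.snd q f = ξ →
        w ≫ pullback.fst V.hom f = Spec.map (CommRingCat.ofHom i.pt.toRingHom) →
        w ≫ pullback.snd V.hom f = ξ →
        w ≫ ((EtCoh.bc f).map (gg R' q i.C)).left = z := by
      intro w ξ z hz hzs hw hws
      refine pullback.hom_ext ?_ ?_
      · refine Eq.trans ?_ hz.symm
        refine (Category.assoc _ _ _).trans ?_
        refine (congrArg (fun t => w ≫ t) (bc_map_left_fst f (gg R' q i.C))).trans ?_
        refine (Category.assoc _ _ _).symm.trans ?_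
        exact (congrArg (fun t => t ≫ (gg R' q i.C).left) hw).trans hpt
      · refine Eq.trans ?_ hzs.symm
        refine (Category.assoc _ _ _).trans ?_
        exact (congrArg (fun t => w ≫ t) (bc_map_left_snd f (gg R' q i.C))).trans hws
    exact hW w₀ w₁ hw₀ (key w₀ ξ₀ z₀ hz₀ hz₀s hw₀ hw₀s) hw₁ (key w₁ ξ₁ z₁ hz₁ hz₁s hw₁ hw₁s)

end General

end Groth.Agent.Lib.Seat1.IntSep
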