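import Mathlib
import Groth.Prelude.Def_EtBaseX
import Groth.Agent.Lib.Seat1StalkFin
import Groth.Agent.Lib.Seat1StalkInt
import Groth.Agent.Lib.Seat1IntSep

/-!
# The geometric fibre of an integral morphism (seat 1)

For `f : X ⟶ Y` integral and `η : Spec Ω ⟶ Y` with `Ω` algebraically closed, the fibre `Z = X ×_Y Spec Ω` is a
quasi-compact space whose points are the geometric points of `X` over `η`; the traces on `Z` of the clopen subsets of
the `X ×_Y V`, `V` a pointed étale neighbourhood of `η`, form a basis of its topology.  Consequence: a family of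
clopen subsets `W_ξ ⊆ X ×_Y V_ξ` containing the point `(v_ξ, ξ)` can be refined, over a single pointed étale
neighbourhood `V`, to a finite partition of `X ×_Y V` into opens.
-/

set_option autoImplicit false
set_option linter.style.haveILetI false
set_option linter.unusedSectionVars false
set_option linter.unusedVariables false
universe u
open CategoryTheory CategoryTheory.Limits AlgebraicGeometry Opposite

namespace Groth.Agent.Lib.Seat1.IntFibre

open Groth.Agent.Lib.Seat1.FinSplit Groth.Agent.Lib.Helper16.SmallEtale Groth.Agent.Lib.Seat1.StalkGeo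
  Groth.Agent.Lib.Seat1.StalkFin Groth.Agent.Lib.Seat1.StalkInt Groth.Agent.Lib.Seat1.IntSep

section Defs

variable {X Y : Scheme.{u}} (f : X ⟶ Y) {Ω : Type u} [Field Ω] (η : Spec (CommRingCat.of Ω) ⟶ Y)

/-- the geometric fibre -/
noncomputable abbrev Zf : Scheme.{u} := pullback f η

/-- the section of the geometric fibre attached to a geometric point over `η` -/
noncomputable def sec (ξ : Spec (CommRingCat.of Ω) ⟶ X) (hξ : ξ ≫ f = η) :
    Spec (CommRingCat.of Ω) ⟶ Zf f η :=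
  pullback.lift ξ (𝟙 _) (by rw [hξ, Category.id_comp])

@[reassoc]
lemma sec_fst (ξ : Spec (CommRingCat.of Ω) ⟶ X) (hξ : ξ ≫ f = η) :
    sec f η ξ hξ ≫ pullback.fst f η = ξ := pullback.lift_fst _ _ _

@[reassoc]
lemma sec_snd (ξ : Spec (CommRingCat.of Ω) ⟶ X) (hξ : ξ ≫ f = η) :
    sec f η ξ hξ ≫ pullback.snd f η = 𝟙 _ := pullback.lift_snd _ _ _

/-- the map from the geometric fibre to the base change to a pointed étale neighbourhood -/
noncomputable def mV (V : Y.Etale) (v : Spec (CommRingCat.of Ω) ⟶ V.left) (hv : v ≫ V.hom = η) :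
    Zf f η ⟶ ((EtCoh.bc f).obj V).left :=
  pullback.lift (pullback.snd f η ≫ v) (pullback.fst f η)
    (by rw [Category.assoc, hv, pullback.condition])

set_option backward.isDefEq.respectTransparency.types false in
@[reassoc]
lemma mV_fst (V : Y.Etale) (v : Spec (CommRingCat.of Ω) ⟶ V.left) (hv : v ≫ V.hom = η) :
    mV f η V v hv ≫ pullback.fst V.hom f = pullback.snd f η ≫ v := pullback.lift_fst _ _ _

set_option backward.isDefEq.respectTransparency.types false in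
@[reassoc]
lemma mV_snd (V : Y.Etale) (v : Spec (CommRingCat.of Ω) ⟶ V.left) (hv : v ≫ V.hom = η) :
    mV f η V v hv ≫ pullback.snd V.hom f = pullback.fst f η := pullback.lift_snd _ _ _

set_option backward.isDefEq.respectTransparency.types false in
lemma mV_map {V V' : Y.Etale} (g : V' ⟶ V) (v : Spec (CommRingCat.of Ω) ⟶ V.left) (hv : v ≫ V.hom = η)
    (v' : Spec (CommRingCat.of Ω) ⟶ V'.left) (hv' : v' ≫ V'.hom = η) (h : v' ≫ g.left = v) :
    mV f η V' v' hv' ≫ ((EtCoh.bc f).map g).left = mV f η V v hv := by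
  refine pullback.hom_ext ?_ ?_
  · refine ((Category.assoc _ _ _).trans ?_).trans (mV_fst f η V v hv).symm
    refine (congrArg (fun t => mV f η V' v' hv' ≫ t) (bc_map_left_fst f g)).trans ?_
    refine (Category.assoc _ _ _).symm.trans ?_
    refine (congrArg (fun t => t ≫ g.left) (mV_fst f η V' v' hv')).trans ?_
    exact (Category.assoc _ _ _).trans (congrArg (fun t => pullback.snd f η ≫ t) h)
  · refine ((Category.assoc _ _ _).trans ?_).trans (mV_snd f η V v hv).symm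
    refine (congrArg (fun t => mV f η V' v' hv' ≫ t) (bc_map_left_snd f g)).trans ?_
    exact mV_snd f η V' v' hv'

set_option backward.isDefEq.respectTransparency.types false in
lemma sec_mV_fst (ξ : Spec (CommRingCat.of Ω) ⟶ X) (hξ : ξ ≫ f = η) (V : Y.Etale)
    (v : Spec (CommRingCat.of Ω) ⟶ V.left) (hv : v ≫ V.hom = η) :
    (sec f η ξ hξ ≫ mV f η V v hv) ≫ pullback.fst V.hom f = v := by
  refine (Category.assoc _ _ _).trans ?_
  refine (congrArg (fun t => sec f η ξ hξ ≫ t) (mV_fst f η V v hv)).trans ?_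
  refine (Category.assoc _ _ _).symm.trans ?_
  exact (congrArg (fun t => t ≫ v) (sec_snd f η ξ hξ)).trans (Category.id_comp _)

set_option backward.isDefEq.respectTransparency.types false in
lemma sec_mV_snd (ξ : Spec (CommRingCat.of Ω) ⟶ X) (hξ : ξ ≫ f = η) (V : Y.Etale)
    (v : Spec (CommRingCat.of Ω) ⟶ V.left) (hv : v ≫ V.hom = η) :
    (sec f η ξ hξ ≫ mV f η V v hv) ≫ pullback.snd V.hom f = ξ := by
  refine (Category.assoc _ _ _).trans ?_
  exact (congrArg (fun t => sec f η ξ hξ ≫ t) (mV_snd f η V v hv)).trans (sec_fst f η ξ hξ)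

set_option backward.isDefEq.respectTransparency.types false in
/-- a geometric point of the base change is the image of the corresponding section of the fibre -/
lemma eq_sec_mV (V : Y.Etale) (v : Spec (CommRingCat.of Ω) ⟶ V.left) (hv : v ≫ V.hom = η)
    (w : Spec (CommRingCat.of Ω) ⟶ ((EtCoh.bc f).obj V).left) (ξ : Spec (CommRingCat.of Ω) ⟶ X)
    (hξ : ξ ≫ f = η) (hw1 : w ≫ pullback.fst V.hom f = v) (hw2 : w ≫ pullback.snd V.hom f = ξ) :
    w = sec f η ξ hξ ≫ mV f η V v hv := by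
  refine pullback.hom_ext ?_ ?_
  · exact hw1.trans (sec_mV_fst f η ξ hξ V v hv).symm
  · exact hw2.trans (sec_mV_snd f η ξ hξ V v hv).symm

end Defs

section Top

variable {X Y : Scheme.{u}} (f : X ⟶ Y) [IsIntegralHom f] {Ω : Type u} [Field Ω] [IsAlgClosed Ω]
  (η : Spec (CommRingCat.of Ω) ⟶ Y)

instance : CompactSpace ↥(Zf f η) := by
  haveI : IsIntegralHom (pullback.snd f η) := inferInstance
  haveI : IsAffine (pullback f η) := isAffine_of_isAffineHom (pullback.snd f η)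
  infer_instance

/-- every point of the geometric fibre is the image of a section -/
theorem exists_sec_eq (z : Zf f η) :
    ∃ (ξ : Spec (CommRingCat.of Ω) ⟶ X) (hξ : ξ ≫ f = η), sec f η ξ hξ default = z := by
  haveI : IsIntegralHom (pullback.snd f η) := inferInstance
  obtain ⟨p, hp1, hp2⟩ := exists_point_of_integral (pullback.snd f η) z
  have hξ : (p ≫ pullback.fst f η) ≫ f = η := by
    rw [Category.assoc, pullback.condition, ← Category.assoc, hp1, Category.id_comp]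
  refine ⟨p ≫ pullback.fst f η, hξ, ?_⟩
  have : sec f η (p ≫ pullback.fst f η) hξ = p := by
    refine pullback.hom_ext ?_ ?_
    · exact sec_fst f η _ hξ
    · exact (sec_snd f η _ hξ).trans hp1.symm
  rw [this, Subsingleton.elim (default : Spec (CommRingCat.of Ω)) (IsLocalRing.closedPoint Ω)]
  exact hp2

set_option maxHeartbeats 800000 in
/-- **The traces of the clopen subsets of the `X ×_Y V` form a basis of the topology of the geometric fibre.** -/
theorem exists_clopen_nbhd (ξ₀ : Spec (CommRingCat.of Ω) ⟶ X) (hξ₀ : ξ₀ ≫ f = η) (O : (Zf f η).Opens)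
    (hO : sec f η ξ₀ hξ₀ default ∈ O) (V0 : Y.Etale) (v0 : Spec (CommRingCat.of Ω) ⟶ V0.left)
    (hv0 : v0 ≫ V0.hom = η) :
    ∃ (V : Y.Etale) (g : V ⟶ V0) (v : Spec (CommRingCat.of Ω) ⟶ V.left) (hv : v ≫ V.hom = η),
      v ≫ g.left = v0 ∧ ∃ W : ((EtCoh.bc f).obj V).left.Opens,
        IsClosed (W : Set ((EtCoh.bc f).obj V).left) ∧
        sec f η ξ₀ hξ₀ default ∈ (mV f η V v hv) ⁻¹ᵁ W ∧ (mV f η V v hv) ⁻¹ᵁ W ≤ O := by
  classical
  let K : Set (Zf f η) := (O : Set (Zf f η))ᶜ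
  have hK : IsCompact K := O.2.isClosed_compl.isCompact
  -- separate each point of `K` from `ξ₀`
  have hsep : ∀ z : K, ∃ (V : Y.Etale) (g : V ⟶ V0) (v : Spec (CommRingCat.of Ω) ⟶ V.left)
      (hv : v ≫ V.hom = η), v ≫ g.left = v0 ∧ ∃ W : ((EtCoh.bc f).obj V).left.Opens,
        IsClosed (W : Set ((EtCoh.bc f).obj V).left) ∧
        sec f η ξ₀ hξ₀ default ∈ (mV f η V v hv) ⁻¹ᵁ W ∧ z.1 ∉ (mV f η V v hv) ⁻¹ᵁ W := by
    rintro ⟨z, hz⟩
    obtain ⟨ξ, hξ, rfl⟩ := exists_sec_eq f η z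
    have hne : ξ₀ ≠ ξ := by
      rintro rfl
      exact hz hO
    obtain ⟨V, g, v, hvg, W, hWc, hW⟩ := exists_sep_int f ξ₀ ξ hne V0 v0 (hv0.trans hξ₀.symm)
      (hv0.trans hξ.symm)
    have hv : v ≫ V.hom = η := by
      have e1 : g.left ≫ V0.hom = V.hom := Over.w g.hom
      rw [← e1, ← Category.assoc, hvg, hv0]
    have h2 := hW (sec f η ξ₀ hξ₀ ≫ mV f η V v hv) (sec f η ξ hξ ≫ mV f η V v hv)
      (sec_mV_fst f η ξ₀ hξ₀ V v hv) (sec_mV_snd f η ξ₀ hξ₀ V v hv)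
      (sec_mV_fst f η ξ hξ V v hv) (sec_mV_snd f η ξ hξ V v hv)
    refine ⟨V, g, v, hv, hvg, W, hWc, ?_, ?_⟩
    · change (mV f η V v hv) (sec f η ξ₀ hξ₀ default) ∈ W
      rw [← Scheme.Hom.comp_apply]
      exact h2.1
    · change ¬ (mV f η V v hv) (sec f η ξ hξ default) ∈ W
      rw [← Scheme.Hom.comp_apply]
      exact h2.2
  choose Vz gz vz hvz hvgz Wz hWzc hWz0 hWz using hsep
  -- finite subcover
  obtain ⟨t, ht⟩ := hK.elim_finite_subcover
    (fun z : K => ((mV f η (Vz z) (vz z) (hvz z)) ⁻¹ᵁ (Wz z) : Set (Zf f η))ᶜ)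
    (fun z => ((hWzc z).preimage (mV f η (Vz z) (vz z) (hvz z)).continuous).isOpen_compl)
    (fun z hz => Set.mem_iUnion.2 ⟨⟨z, hz⟩, hWz ⟨z, hz⟩⟩)
  -- common refinement
  obtain ⟨V2, y2, g, g', hy2, hy2', hg'⟩ := exists_common_refinement V0 v0
    (fun i : ↥t => Vz i.1) (fun i => gz i.1) (fun i => vz i.1) (fun i => hvgz i.1)
  have hv2 : y2 ≫ V2.hom = η := by
    have e1 : g.left ≫ V0.hom = V2.hom := Over.w g.hom
    rw [← e1, ← Category.assoc, hy2, hv0]
  let Ws : Set ((EtCoh.bc f).obj V2).left :=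
    ⋂ i : ↥t, ((EtCoh.bc f).map (g' i)).left ⁻¹' (Wz i.1 : Set ((EtCoh.bc f).obj (Vz i.1)).left)
  have hWso : IsOpen Ws :=
    isOpen_iInter_of_finite (fun i => (Wz i.1).2.preimage ((EtCoh.bc f).map (g' i)).left.continuous)
  have hWsc : IsClosed Ws :=
    isClosed_iInter (fun i => (hWzc i.1).preimage ((EtCoh.bc f).map (g' i)).left.continuous)
  have hmem : ∀ (p : Zf f η), (mV f η V2 y2 hv2) p ∈ Ws ↔
      ∀ i : ↥t, (mV f η (Vz i.1) (vz i.1) (hvz i.1)) p ∈ Wz i.1 := by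
    intro p
    simp only [Ws, Set.mem_iInter, Set.mem_preimage, SetLike.mem_coe]
    refine forall_congr' (fun i => ?_)
    rw [← Scheme.Hom.comp_apply, mV_map f η (g' i) (vz i.1) (hvz i.1) y2 hv2 (hy2' i)]
  refine ⟨V2, g, y2, hv2, hy2, ⟨Ws, hWso⟩, hWsc, ?_, ?_⟩
  · change (mV f η V2 y2 hv2) (sec f η ξ₀ hξ₀ default) ∈ Ws
    rw [hmem]
    intro i
    exact hWz0 i.1
  · intro p hp
    have hp' : (mV f η V2 y2 hv2) p ∈ Ws := hp
    rw [hmem] at hp'
    by_contra hpO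
    have hpK : p ∈ K := hpO
    obtain ⟨i, hi⟩ := Set.mem_iUnion.1 (ht hpK)
    obtain ⟨hit, hi2⟩ := Set.mem_iUnion.1 hi
    exact hi2 (hp' ⟨i, hit⟩)

set_option backward.isDefEq.respectTransparency.types false in
set_option maxHeartbeats 1600000 in
/-- **Refinement to a finite partition**: a family, indexed by the geometric points `ξ` over `η`, of clopen subsets
`W_ξ ⊆ X ×_Y V_ξ` containing the point `(v_ξ, ξ)` can be refined, over a single pointed étale neighbourhood `V`, to a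
finite partition of `X ×_Y V` into opens. -/
theorem exists_clopen_partition (V0 : Y.Etale) (v0 : Spec (CommRingCat.of Ω) ⟶ V0.left)
    (hv0 : v0 ≫ V0.hom = η) (Vc : Pts f η → Y.Etale) (gc : ∀ ξ, Vc ξ ⟶ V0)
    (vc : ∀ ξ, Spec (CommRingCat.of Ω) ⟶ (Vc ξ).left) (hvc : ∀ ξ, vc ξ ≫ (gc ξ).left = v0)
    (Wc : ∀ ξ, ((EtCoh.bc f).obj (Vc ξ)).left.Opens)
    (hWc : ∀ ξ, IsClosed (Wc ξ : Set ((EtCoh.bc f).obj (Vc ξ)).left))
    (hmem : ∀ (ξ : Pts f η) (w : Spec (CommRingCat.of Ω) ⟶ ((EtCoh.bc f).obj (Vc ξ)).left),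
      w ≫ pullback.fst (Vc ξ).hom f = vc ξ → w ≫ pullback.snd (Vc ξ).hom f = ξ.1 → w default ∈ Wc ξ) :
    ∃ (V : Y.Etale) (g : V ⟶ V0) (v : Spec (CommRingCat.of Ω) ⟶ V.left), v ≫ g.left = v0 ∧
      ∃ (n : ℕ) (ξk : Fin n → Pts f η) (gk : ∀ k, V ⟶ Vc (ξk k))
        (W : Fin n → ((EtCoh.bc f).obj V).left.Opens),
        (∀ k, gk k ≫ gc (ξk k) = g) ∧ (∀ k, v ≫ (gk k).left = vc (ξk k)) ∧
        (∀ k l, k ≠ l → Disjoint (W k) (W l)) ∧ (∀ z, ∃ k, z ∈ W k) ∧
        ∀ k, W k ≤ ((EtCoh.bc f).map (gk k)).left ⁻¹ᵁ Wc (ξk k) := by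
  classical
  have hvcη : ∀ ξ, vc ξ ≫ (Vc ξ).hom = η := fun ξ => by
    have e1 : (gc ξ).left ≫ V0.hom = (Vc ξ).hom := Over.w (gc ξ).hom
    rw [← e1, ← Category.assoc, hvc ξ, hv0]
  -- finite subcover of the fibre
  have hcov : (Set.univ : Set (Zf f η)) ⊆
      ⋃ ξ : Pts f η, ((mV f η (Vc ξ) (vc ξ) (hvcη ξ)) ⁻¹ᵁ (Wc ξ) : Set (Zf f η)) := by
    intro z _
    obtain ⟨ξ, hξ, rfl⟩ := exists_sec_eq f η z
    refine Set.mem_iUnion.2 ⟨⟨ξ, hξ⟩, ?_⟩
    change (mV f η (Vc ⟨ξ, hξ⟩) (vc ⟨ξ, hξ⟩) (hvcη ⟨ξ, hξ⟩)) (sec f η ξ hξ default) ∈ Wc ⟨ξ, hξ⟩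
    rw [← Scheme.Hom.comp_apply]
    exact hmem ⟨ξ, hξ⟩ _ (sec_mV_fst f η ξ hξ _ _ _) (sec_mV_snd f η ξ hξ _ _ _)
  obtain ⟨t, ht⟩ := isCompact_univ.elim_finite_subcover _
    (fun ξ : Pts f η => ((mV f η (Vc ξ) (vc ξ) (hvcη ξ)) ⁻¹ᵁ (Wc ξ)).2) hcov
  -- common refinement
  obtain ⟨V1, y1, g1, g', hy1, hy1', hg'⟩ := exists_common_refinement V0 v0
    (fun i : ↥t => Vc i.1) (fun i => gc i.1) (fun i => vc i.1) (fun i => hvc i.1)
  have hv1 : y1 ≫ V1.hom = η := by
    have e1 : g1.left ≫ V0.hom = V1.hom := Over.w g1.hom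
    rw [← e1, ← Category.assoc, hy1, hv0]
  let Us : Set ((EtCoh.bc f).obj V1).left :=
    ⋃ i : ↥t, ((EtCoh.bc f).map (g' i)).left ⁻¹' (Wc i.1 : Set ((EtCoh.bc f).obj (Vc i.1)).left)
  have hUo : IsOpen Us :=
    isOpen_iUnion (fun i => (Wc i.1).2.preimage ((EtCoh.bc f).map (g' i)).left.continuous)
  let f1 : ((EtCoh.bc f).obj V1).left ⟶ V1.left := pullback.fst V1.hom f
  haveI : IsIntegralHom f1 := inferInstanceAs (IsIntegralHom (pullback.fst V1.hom f))
  let D : Set V1.left := f1 '' Usᶜ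
  have hD : IsClosed D := f1.isClosedMap _ hUo.isClosed_compl
  have hy1D : y1 default ∉ D := by
    rintro ⟨p, hpC, hp⟩
    obtain ⟨zz, hzz1, hzz2⟩ := exists_fac_of_integral_of_isAlgClosed f1 y1 p hp
    have hξ : (zz ≫ pullback.snd V1.hom f) ≫ f = η := by
      have e1 : (zz ≫ pullback.snd V1.hom f) ≫ f = (zz ≫ f1) ≫ V1.hom :=
        (Category.assoc _ _ _).trans ((congrArg (fun t => zz ≫ t) pullback.condition.symm).trans
          (Category.assoc _ _ _).symm)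
      rw [e1, hzz1, hv1]
    have hzz : zz = sec f η _ hξ ≫ mV f η V1 y1 hv1 := eq_sec_mV f η V1 y1 hv1 zz _ hξ hzz1 rfl
    have h1 := ht (Set.mem_univ (sec f η _ hξ default))
    obtain ⟨ξ', hξ'⟩ := Set.mem_iUnion.1 h1
    obtain ⟨hξ't, hmem'⟩ := Set.mem_iUnion.1 hξ'
    apply hpC
    rw [← hzz2]
    refine Set.mem_iUnion.2 ⟨⟨ξ', hξ't⟩, ?_⟩
    change ((EtCoh.bc f).map (g' ⟨ξ', hξ't⟩)).left (zz default) ∈ Wc ξ'
    have e2 : zz ≫ ((EtCoh.bc f).map (g' ⟨ξ', hξ't⟩)).left =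
        sec f η _ hξ ≫ mV f η (Vc ξ') (vc ξ') (hvcη ξ') := by
      refine (congrArg (fun t => t ≫ ((EtCoh.bc f).map (g' ⟨ξ', hξ't⟩)).left) hzz).trans ?_
      exact (Category.assoc _ _ _).trans (congrArg (fun t => sec f η _ hξ ≫ t)
        (mV_map f η (g' ⟨ξ', hξ't⟩) (vc ξ') (hvcη ξ') y1 hv1 (hy1' ⟨ξ', hξ't⟩)))
    rw [← Scheme.Hom.comp_apply, e2, Scheme.Hom.comp_apply]
    exact hmem'
  -- shrink the neighbourhood
  let V1o : V1.left.Opens := ⟨Dᶜ, hD.isOpen_compl⟩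
  let V : Y.Etale := opnOf V1 V1o
  let r : V ⟶ V1 := opnIn V1 V1o
  have hy1o : Set.range y1 ⊆ Set.range V1o.ι := by
    rintro _ ⟨a, rfl⟩
    rw [Subsingleton.elim a default, Scheme.Opens.range_ι]
    exact hy1D
  let y2 : Spec (CommRingCat.of Ω) ⟶ (V1o : Scheme.{u}) := IsOpenImmersion.lift V1o.ι y1 hy1o
  have hy2 : y2 ≫ r.left = y1 := IsOpenImmersion.lift_fac _ _ _
  have hle : ∀ p : ((EtCoh.bc f).obj V).left, ((EtCoh.bc f).map r).left p ∈ Us := by
    intro p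
    by_contra hp
    have h1 : f1 (((EtCoh.bc f).map r).left p) ∈ D := ⟨_, hp, rfl⟩
    have h2 : f1 (((EtCoh.bc f).map r).left p) = V1o.ι ((pullback.fst V.hom f) p) :=
      (Scheme.Hom.comp_apply _ _ _).symm.trans
        ((congrArg (fun t : ((EtCoh.bc f).obj V).left ⟶ V1.left => t p) (bc_map_left_fst f r)).trans
          (Scheme.Hom.comp_apply _ _ _))
    rw [h2] at h1
    exact ((pullback.fst V.hom f) p).2 h1
  -- enumerate
  obtain ⟨n, ⟨en⟩⟩ := Finite.exists_equiv_fin ↥t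
  let ξk : Fin n → Pts f η := fun k => (en.symm k).1
  let gk : ∀ k, V ⟶ Vc (ξk k) := fun k => r ≫ g' (en.symm k)
  let W2 : Fin n → Set ((EtCoh.bc f).obj V).left := fun k =>
    ((EtCoh.bc f).map (gk k)).left ⁻¹' (Wc (ξk k) : Set ((EtCoh.bc f).obj (Vc (ξk k))).left)
  have hW2 : ∀ k, IsClopen (W2 k) := fun k =>
    ⟨(hWc (ξk k)).preimage ((EtCoh.bc f).map (gk k)).left.continuous,
      (Wc (ξk k)).2.preimage ((EtCoh.bc f).map (gk k)).left.continuous⟩
  have hW3 : ∀ k, IsClopen (disjointed W2 k) := fun k =>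
    disjointedRec (p := IsClopen) (fun t i ht => ht.diff (hW2 i)) (hW2 k)
  let W : Fin n → ((EtCoh.bc f).obj V).left.Opens := fun k => ⟨disjointed W2 k, (hW3 k).2⟩
  refine ⟨V, r ≫ g1, y2, ?_, n, ξk, gk, W, ?_, ?_, ?_, ?_, ?_⟩
  · exact (Category.assoc _ _ _).symm.trans ((congrArg (fun t => t ≫ g1.left) hy2).trans hy1)
  · intro k
    exact (Category.assoc _ _ _).trans (congrArg (fun t => r ≫ t) (hg' (en.symm k)))
  · intro k
    exact (Category.assoc _ _ _).symm.trans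
      ((congrArg (fun t => t ≫ (g' (en.symm k)).left) hy2).trans (hy1' (en.symm k)))
  · intro k l hkl
    rw [← TopologicalSpace.Opens.coe_disjoint]
    exact disjoint_disjointed W2 hkl
  · intro z
    have h1 : z ∈ ⋃ k, W2 k := by
      obtain ⟨i, hi⟩ := Set.mem_iUnion.1 (hle z)
      obtain ⟨k, rfl⟩ := en.symm.surjective i
      refine Set.mem_iUnion.2 ⟨k, ?_⟩
      change ((EtCoh.bc f).map (r ≫ g' (en.symm k))).left z ∈ Wc (en.symm k).1
      have e3 : ((EtCoh.bc f).map (r ≫ g' (en.symm k))).left =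
          ((EtCoh.bc f).map r).left ≫ ((EtCoh.bc f).map (g' (en.symm k))).left := by
        rw [Functor.map_comp]
        rfl
      rw [e3, Scheme.Hom.comp_apply]
      exact hi
    rw [← iUnion_disjointed] at h1
    obtain ⟨k, hk⟩ := Set.mem_iUnion.1 h1
    exact ⟨k, hk⟩
  · intro k z hz
    exact disjointed_le W2 k hz

end Top

end Groth.Agent.Lib.Seat1.IntFibre
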