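import Mathlib
import Groth.Prelude.Def_EtBaseX
import Groth.Agent.Lib.Seat1FinBC
import Groth.Agent.Lib.Seat1IntFibre
import Groth.Agent.Lib.Seat1IntInj

/-!
# Surjectivity of the base change map on stalks for an integral morphism (seat 1)

Abstract form, for presheaves with values in a concrete category, of the statement that for a cartesian square with
`f` integral every element of the stalk of `f'_* g'^* F` at a geometric point comes from the stalk of `f_* F`.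
-/

set_option autoImplicit false
set_option linter.style.haveILetI false
set_option linter.unusedSectionVars false
set_option linter.unusedVariables false
universe w w' v₁ v₂ u₁ u₂ u
open CategoryTheory CategoryTheory.Limits AlgebraicGeometry Opposite

namespace Groth.Agent.Lib.Seat1.IntSurj

open Groth.Agent.S0100 Groth.Agent.Lib.Seat1.FinSplit Groth.Agent.Lib.Helper16.SmallEtale
  Groth.Agent.Lib.Seat1.StalkGeo Groth.Agent.Lib.Seat1.StalkFin Groth.Agent.Lib.Seat1.StalkInt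
  Groth.Agent.Lib.Seat1.StalkAbs Groth.Agent.Lib.Seat1.FinBC Groth.Agent.Lib.Seat1.IntFibre

section General

/-- equality of germs at a point of a site, over possibly different objects -/
lemma germ_eq_exists {C : Type u₁} [Category.{v₁} C] {J : GrothendieckTopology C}
    (Φ : GrothendieckTopology.Point.{w} J)
    {A : Type u₂} [Category.{v₂} A] [HasColimitsOfSize.{w, w} A] {FC : A → A → Type*} {CC : A → Type w'}
    [∀ X Y, FunLike (FC X Y) (CC X) (CC Y)] [ConcreteCategory.{w'} A FC]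
    [PreservesFilteredColimitsOfSize.{w, w} (forget A)] [LocallySmall.{w} C]
    (P : Cᵒᵖ ⥤ A) (U₁ U₂ : C) (x₁ : Φ.fiber.obj U₁) (x₂ : Φ.fiber.obj U₂)
    (z₁ : ToType (P.obj (op U₁))) (z₂ : ToType (P.obj (op U₂)))
    (h : Φ.toPresheafFiber U₁ x₁ P z₁ = Φ.toPresheafFiber U₂ x₂ P z₂) :
    ∃ (N : C) (p : N ⟶ U₁) (q : N ⟶ U₂) (n : Φ.fiber.obj N), Φ.fiber.map p n = x₁ ∧
      Φ.fiber.map q n = x₂ ∧ P.map p.op z₁ = P.map q.op z₂ := by
  let e₁ : Φ.fiber.Elements := ⟨U₁, x₁⟩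
  let e₂ : Φ.fiber.Elements := ⟨U₂, x₂⟩
  let m : Φ.fiber.Elements := IsCofiltered.min e₁ e₂
  let g₁ : m ⟶ e₁ := IsCofiltered.minToLeft _ _
  let g₂ : m ⟶ e₂ := IsCofiltered.minToRight _ _
  have hg₁ : Φ.fiber.map g₁.1 m.2 = x₁ := g₁.2
  have hg₂ : Φ.fiber.map g₂.1 m.2 = x₂ := g₂.2
  have e1 : Φ.toPresheafFiber m.1 m.2 P (P.map g₁.1.op z₁) =
      Φ.toPresheafFiber m.1 m.2 P (P.map g₂.1.op z₂) := by
    rw [Φ.toPresheafFiber_w_apply, Φ.toPresheafFiber_w_apply, hg₁, hg₂, h]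
  obtain ⟨N, k, n, hn, hk⟩ := (Φ.toPresheafFiber_eq_iff' m.1 m.2 _ _).mp e1
  refine ⟨N, k ≫ g₁.1, k ≫ g₂.1, n, ?_, ?_, ?_⟩
  · rw [Functor.map_comp]
    change Φ.fiber.map g₁.1 (Φ.fiber.map k n) = x₁
    rw [hn, hg₁]
  · rw [Functor.map_comp]
    change Φ.fiber.map g₂.1 (Φ.fiber.map k n) = x₂
    rw [hn, hg₂]
  · rw [op_comp, Functor.map_comp, ConcreteCategory.comp_apply, op_comp, Functor.map_comp,
      ConcreteCategory.comp_apply]
    exact hk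

/-- two morphisms to an étale `Y`-scheme which agree over `Y` coincide on an open subscheme, which contains every
geometric point at which they agree. -/
theorem exists_open_eq {T V Y : Scheme.{u}} (e : V ⟶ Y) [Etale e] (u₁ u₂ : T ⟶ V)
    (hu : u₁ ≫ e = u₂ ≫ e) :
    ∃ T₀ : T.Opens, T₀.ι ≫ u₁ = T₀.ι ≫ u₂ ∧
      ∀ {Ω : Type u} [Field Ω] (pt : Spec (CommRingCat.of Ω) ⟶ T), pt ≫ u₁ = pt ≫ u₂ →
        pt default ∈ T₀ := by
  let Δ : V ⟶ pullback e e := pullback.diagonal e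
  haveI : IsOpenImmersion Δ := inferInstanceAs (IsOpenImmersion (pullback.diagonal e))
  let k : T ⟶ pullback e e := pullback.lift u₁ u₂ hu
  let T₀ : T.Opens := k ⁻¹ᵁ Δ.opensRange
  have hrange : Set.range (T₀.ι ≫ k) ⊆ Set.range Δ := by
    rintro _ ⟨a, rfl⟩
    rw [Scheme.Hom.comp_apply]
    exact a.2
  let l : (T₀ : Scheme.{u}) ⟶ V := IsOpenImmersion.lift Δ (T₀.ι ≫ k) hrange
  have hl : l ≫ Δ = T₀.ι ≫ k := IsOpenImmersion.lift_fac _ _ _
  refine ⟨T₀, ?_, ?_⟩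
  · have h1 : T₀.ι ≫ u₁ = l := by
      have := congrArg (fun t => t ≫ pullback.fst e e) hl
      simp only [Category.assoc, Δ, k, pullback.diagonal_fst, pullback.lift_fst, Category.comp_id] at this
      exact this.symm
    have h2 : T₀.ι ≫ u₂ = l := by
      have := congrArg (fun t => t ≫ pullback.snd e e) hl
      simp only [Category.assoc, Δ, k, pullback.diagonal_snd, pullback.lift_snd, Category.comp_id] at this
      exact this.symm
    exact h1.trans h2.symm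
  · intro Ω _ pt hpt
    have h1 : pt ≫ k = (pt ≫ u₁) ≫ Δ := by
      refine pullback.hom_ext ?_ ?_
      · rw [Category.assoc, pullback.lift_fst, Category.assoc, pullback.diagonal_fst, Category.comp_id]
      · rw [Category.assoc, pullback.lift_snd, Category.assoc, pullback.diagonal_snd, Category.comp_id,
          hpt]
    change k (pt default) ∈ Set.range Δ
    rw [← Scheme.Hom.comp_apply, h1, Scheme.Hom.comp_apply]
    exact ⟨_, rfl⟩

lemma iso_inv_hom_apply {C : Type*} [Category C] {F G : C ⥤ Type u} (e : F ≅ G) (U : C) (a : F.obj U) :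
    e.inv.app U (e.hom.app U a) = a := by
  have h0 := ConcreteCategory.congr_hom (e.hom_inv_id_app U) a
  rwa [ConcreteCategory.comp_apply, ConcreteCategory.id_apply] at h0

lemma iso_hom_inv_apply {C : Type*} [Category C] {F G : C ⥤ Type u} (e : F ≅ G) (U : C) (a : G.obj U) :
    e.hom.app U (e.inv.app U a) = a := by
  have h0 := ConcreteCategory.congr_hom (e.inv_hom_id_app U) a
  rwa [ConcreteCategory.comp_apply, ConcreteCategory.id_apply] at h0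

end General

section Points

variable {X Y : Scheme.{u}} (f : X ⟶ Y) {Ω : Type u} [Field Ω] [IsSepClosed Ω]
  (ξ : Spec (CommRingCat.of Ω) ⟶ X)

set_option backward.isDefEq.respectTransparency.types false in
/-- the underlying morphism of the point of `U` attached by `fiberIso` to a point of the base change -/
lemma fiberIso_hom_left (U : Y.Etale) (a : (Scheme.pointSmallEtale ξ).fiber.obj ((EtCoh.bc f).obj U)) :
    Over.Hom.left (show Over.mk (ξ ≫ f) ⟶ (Scheme.Etale.forget Y).obj U from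
      (fiberIso f ξ).hom.app U a) =
    (Over.Hom.left (show Over.mk ξ ⟶ (Scheme.Etale.forget X).obj ((EtCoh.bc f).obj U) from a)) ≫
      pullback.fst U.hom f := by
  have h1 := fiberIso_inv_left_fst f ξ U ((fiberIso f ξ).hom.app U a)
  have h2 := iso_inv_hom_apply (fiberIso f ξ) U a
  rw [h2] at h1
  exact h1.symm

end Points

section PtL

variable {Z : Scheme.{u}} {Ω : Type u} [Field Ω] [IsSepClosed Ω] (ζ : Spec (CommRingCat.of Ω) ⟶ Z)

set_option backward.isDefEq.respectTransparency.types false in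
/-- the underlying morphism of a point of an étale neighbourhood -/
noncomputable abbrev ptL (U : Z.Etale) (a : (Scheme.pointSmallEtale ζ).fiber.obj U) :
    Spec (CommRingCat.of Ω) ⟶ U.left :=
  Over.Hom.left (show Over.mk ζ ⟶ (Scheme.Etale.forget Z).obj U from a)

set_option backward.isDefEq.respectTransparency.types false in
lemma ptL_hom (U : Z.Etale) (a : (Scheme.pointSmallEtale ζ).fiber.obj U) : ptL ζ U a ≫ U.hom = ζ :=
  Over.w (show Over.mk ζ ⟶ (Scheme.Etale.forget Z).obj U from a)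

set_option backward.isDefEq.respectTransparency.types false in
lemma ptL_map {U U' : Z.Etale} (m : U ⟶ U') (a : (Scheme.pointSmallEtale ζ).fiber.obj U) :
    ptL ζ U' ((Scheme.pointSmallEtale ζ).fiber.map m a) = ptL ζ U a ≫ m.left := rfl

set_option backward.isDefEq.respectTransparency.types false in
lemma ptL_ext (U : Z.Etale) (a b : (Scheme.pointSmallEtale ζ).fiber.obj U) (h : ptL ζ U a = ptL ζ U b) :
    a = b := Over.OverMorphism.ext h

set_option backward.isDefEq.respectTransparency.types false in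
/-- a point of an étale neighbourhood from its underlying morphism -/
noncomputable def mkPt (U : Z.Etale) (l : Spec (CommRingCat.of Ω) ⟶ U.left) (hl : l ≫ U.hom = ζ) :
    (Scheme.pointSmallEtale ζ).fiber.obj U :=
  (Over.homMk l hl : Over.mk ζ ⟶ (Scheme.Etale.forget Z).obj U)

set_option backward.isDefEq.respectTransparency.types false in
lemma ptL_mkPt (U : Z.Etale) (l : Spec (CommRingCat.of Ω) ⟶ U.left) (hl : l ≫ U.hom = ζ) :
    ptL ζ U (mkPt ζ U l hl) = l := rfl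

end PtL

section Chains

variable {C : Type*} [Category C]

lemma four_step {N P V B Q S T R : C} (pl : N ⟶ P) (a₁ : P ⟶ V) (rl : V ⟶ B) (a₂ : B ⟶ Q)
    (e : Q ⟶ S) (b₂ : B ⟶ T) (g : T ⟶ S) (d : V ⟶ T) (b₁ : P ⟶ R) (f' : R ⟶ T) (nh : N ⟶ R)
    (c1 : a₂ ≫ e = b₂ ≫ g) (c2 : rl ≫ b₂ = d) (c3 : a₁ ≫ d = b₁ ≫ f') (c4 : pl ≫ b₁ = nh) :
    (pl ≫ a₁ ≫ rl ≫ a₂) ≫ e = nh ≫ f' ≫ g := by
  simp only [Category.assoc]
  rw [c1, ← Category.assoc rl, c2, ← Category.assoc a₁, c3, Category.assoc, ← Category.assoc pl, c4]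

lemma pt_chain {S N P V B Q : C} (nl : S ⟶ N) (pl : N ⟶ P) (a₁ : P ⟶ V) (rl : V ⟶ B) (a₂ : B ⟶ Q)
    (x₁ : S ⟶ P) (x₂ : S ⟶ V) (x₃ : S ⟶ B) (x₄ : S ⟶ Q)
    (c1 : nl ≫ pl = x₁) (c2 : x₁ ≫ a₁ = x₂) (c3 : x₂ ≫ rl = x₃) (c4 : x₃ ≫ a₂ = x₄) :
    nl ≫ pl ≫ a₁ ≫ rl ≫ a₂ = x₄ := by
  rw [← Category.assoc, c1, ← Category.assoc, c2, ← Category.assoc, c3, c4]

lemma comp3_aux {S T N P V : C} (a : S ⟶ T) (ι : T ⟶ N) (pl : N ⟶ P) (b : P ⟶ V) (nl : S ⟶ N)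
    (x : S ⟶ V) (h1 : a ≫ ι = nl) (h2 : nl ≫ pl ≫ b = x) : a ≫ (ι ≫ pl) ≫ b = x := by
  rw [← h2, ← h1]
  simp only [Category.assoc]

lemma hkp_aux {S W N P Q : C} (w' : S ⟶ W) (b : W ⟶ N) (pl : N ⟶ P) (ιW : W ⟶ Q)
    (m : Q ⟶ P) (w : S ⟶ Q) (h1 : b ≫ pl = ιW ≫ m) (h2 : w' ≫ ιW = w) :
    (w' ≫ b) ≫ pl = w ≫ m := by
  rw [← h2, Category.assoc, h1, Category.assoc]

lemma e3_aux {S U B V W N : C} (px : S ⟶ U) (pa : S ⟶ B) (fU : B ⟶ U) (rest : U ⟶ V) (w' : S ⟶ W)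
    (b : W ⟶ N) (ql : N ⟶ B) (h1 : px = pa ≫ fU) (h2 : pa = w' ≫ b ≫ ql) :
    px ≫ rest = (w' ≫ b) ≫ ql ≫ fU ≫ rest := by
  rw [h1, h2]
  simp only [Category.assoc]

lemma hpt_aux {S W Q P V : C} (w' : S ⟶ W) (ιW : W ⟶ Q) (m : Q ⟶ P) (a : P ⟶ V) (w : S ⟶ Q)
    (x : S ⟶ V) (h2 : w' ≫ ιW = w) (h : (w ≫ m) ≫ a = x) : (w' ≫ ιW ≫ m) ≫ a = x := by
  rw [← h, ← h2]
  simp only [Category.assoc]

lemma coord_aux {S W W₁ P₁ V₁ P V : C} (xl : S ⟶ W) (ρl : W ⟶ W₁) (ι₁ : W₁ ⟶ P₁) (a₁ : P₁ ⟶ V₁)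
    (ι : W ⟶ P) (m : P ⟶ P₁) (a : P ⟶ V) (gl : V ⟶ V₁) (h1 : ρl ≫ ι₁ = ι ≫ m) (h2 : m ≫ a₁ = a ≫ gl) :
    (xl ≫ ρl) ≫ ι₁ ≫ a₁ = ((xl ≫ ι) ≫ a) ≫ gl := by
  simp only [Category.assoc]
  rw [reassoc_of% h1, h2]

lemma two_step {S W P V Y X : C} (a : S ⟶ W) (ι : W ⟶ P) (p1 : P ⟶ V) (e : V ⟶ Y) (p2 : P ⟶ X)
    (f : X ⟶ Y) (c : p1 ≫ e = p2 ≫ f) : (a ≫ ι ≫ p1) ≫ e = (a ≫ ι ≫ p2) ≫ f := by
  simp only [Category.assoc, c]

end Chains

section MPrime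

variable {X Y X' Y' : Scheme.{u}} (f : X ⟶ Y) (g : Y' ⟶ Y) (f' : X' ⟶ Y') (g' : X' ⟶ X)
  (h : IsPullback g' f' f g) {Ω : Type u} [Field Ω] (η' : Spec (CommRingCat.of Ω) ⟶ Y')

/-- the map from the geometric fibre to `X'` -/
noncomputable def cZ : Zf f (η' ≫ g) ⟶ X' :=
  h.lift (pullback.fst f (η' ≫ g)) (pullback.snd f (η' ≫ g) ≫ η')
    (by rw [Category.assoc, pullback.condition])

lemma cZ_fst : cZ f g f' g' h η' ≫ g' = pullback.fst f (η' ≫ g) := h.lift_fst _ _ _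

lemma cZ_snd : cZ f g f' g' h η' ≫ f' = pullback.snd f (η' ≫ g) ≫ η' := h.lift_snd _ _ _

lemma sec_cZ (ξ' : Spec (CommRingCat.of Ω) ⟶ X') (hξ' : ξ' ≫ f' = η')
    (hξ : (ξ' ≫ g') ≫ f = η' ≫ g) :
    sec f (η' ≫ g) (ξ' ≫ g') hξ ≫ cZ f g f' g' h η' = ξ' := by
  apply h.hom_ext
  · rw [Category.assoc, cZ_fst, sec_fst]
  · rw [Category.assoc, cZ_snd, sec_snd_assoc, hξ']

/-- the map from the geometric fibre to the base change of a pointed étale neighbourhood of `η'` -/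
noncomputable def mV' (V' : Y'.Etale) (v' : Spec (CommRingCat.of Ω) ⟶ V'.left) (hv' : v' ≫ V'.hom = η') :
    Zf f (η' ≫ g) ⟶ ((EtCoh.bc f').obj V').left :=
  pullback.lift (pullback.snd f (η' ≫ g) ≫ v') (cZ f g f' g' h η')
    (by rw [Category.assoc, hv', cZ_snd])

set_option backward.isDefEq.respectTransparency.types false in
lemma sec_mV'_fst (V' : Y'.Etale) (v' : Spec (CommRingCat.of Ω) ⟶ V'.left) (hv' : v' ≫ V'.hom = η')
    (ξ' : Spec (CommRingCat.of Ω) ⟶ X') (hξ : (ξ' ≫ g') ≫ f = η' ≫ g) :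
    (sec f (η' ≫ g) (ξ' ≫ g') hξ ≫ mV' f g f' g' h η' V' v' hv') ≫ pullback.fst V'.hom f' = v' := by
  refine (Category.assoc _ _ _).trans ?_
  refine (congrArg (fun t => sec f (η' ≫ g) (ξ' ≫ g') hξ ≫ t) (pullback.lift_fst _ _ _)).trans ?_
  refine (Category.assoc _ _ _).symm.trans ?_
  exact (congrArg (fun t => t ≫ v') (sec_snd f (η' ≫ g) _ hξ)).trans (Category.id_comp _)

set_option backward.isDefEq.respectTransparency.types false in
lemma sec_mV'_snd (V' : Y'.Etale) (v' : Spec (CommRingCat.of Ω) ⟶ V'.left) (hv' : v' ≫ V'.hom = η')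
    (ξ' : Spec (CommRingCat.of Ω) ⟶ X') (hξ' : ξ' ≫ f' = η') (hξ : (ξ' ≫ g') ≫ f = η' ≫ g) :
    (sec f (η' ≫ g) (ξ' ≫ g') hξ ≫ mV' f g f' g' h η' V' v' hv') ≫ pullback.snd V'.hom f' = ξ' := by
  refine (Category.assoc _ _ _).trans ?_
  refine (congrArg (fun t => sec f (η' ≫ g) (ξ' ≫ g') hξ ≫ t) (pullback.lift_snd _ _ _)).trans ?_
  exact sec_cZ f g f' g' h η' ξ' hξ' hξ

end MPrime

section XPrimeSide

variable {X Y X' Y' : Scheme.{u}} (f : X ⟶ Y) (g : Y' ⟶ Y) (f' : X' ⟶ Y') [IsIntegralHom f']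
  (g' : X' ⟶ X) (w : g' ≫ f = f' ≫ g) {Ω : Type u} [Field Ω] [IsAlgClosed Ω]
  (η' : Spec (CommRingCat.of Ω) ⟶ Y')
  {A : Type (u + 2)} [Category.{u + 1} A] {FC : A → A → Type*} {CC : A → Type (u + 1)}
  [∀ X Y, FunLike (FC X Y) (CC X) (CC Y)] [ConcreteCategory.{u + 1} A FC]
  [HasColimitsOfSize.{u, u} A] [PreservesFilteredColimitsOfSize.{u, u} (forget A)]

set_option backward.isDefEq.respectTransparency.types false in
set_option maxHeartbeats 3200000 in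
/-- second half of `exists_piece_agree` -/
theorem piece_step (G : X'.Etaleᵒᵖ ⥤ A) (V₁ : Y.Etale) (W₁ : ((EtCoh.bc f).obj V₁).left.Opens)
    (ξ₀' : Pts f' η')
    (σ : ToType (G.obj (op ((EtCoh.bc g').obj (opnOf ((EtCoh.bc f).obj V₁) W₁)))))
    (V'' : Y'.Etale) (v'' : (Scheme.pointSmallEtale η').fiber.obj V'')
    (t'' : ToType (G.obj (op ((EtCoh.bc f').obj V''))))
    (N₀ : X'.Etale) (p₀ : N₀ ⟶ (EtCoh.bc f').obj V'')
    (q₀ : N₀ ⟶ (EtCoh.bc g').obj (opnOf ((EtCoh.bc f).obj V₁) W₁))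
    (n₀l : Spec (CommRingCat.of Ω) ⟶ N₀.left) (hn₀N : n₀l ≫ N₀.hom = ξ₀'.1)
    (hpq₀ : (ConcreteCategory.hom (G.map p₀.op)) t'' = (ConcreteCategory.hom (G.map q₀.op)) σ)
    (r₁l : V''.left ⟶ pullback V₁.hom g) (y₁ : Spec (CommRingCat.of Ω) ⟶ V₁.left)
    (heq : p₀.left ≫ pullback.fst V''.hom f' ≫ r₁l ≫ pullback.fst V₁.hom g =
      q₀.left ≫ pullback.fst (opnOf ((EtCoh.bc f).obj V₁) W₁).hom g' ≫ W₁.ι ≫ pullback.fst V₁.hom f)
    (hn₀p : n₀l ≫ p₀.left ≫ pullback.fst V''.hom f' = ptL η' V'' v'')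
    (hv''r₁ : ptL η' V'' v'' ≫ r₁l ≫ pullback.fst V₁.hom g = y₁) :
    ∃ (V₃ : Y'.Etale) (y₃ : Spec (CommRingCat.of Ω) ⟶ V₃.left) (_ : y₃ ≫ V₃.hom = η')
      (W₃ : ((EtCoh.bc f').obj V₃).left.Opens),
      (∀ w₃ : Spec (CommRingCat.of Ω) ⟶ ((EtCoh.bc f').obj V₃).left,
        w₃ ≫ pullback.fst V₃.hom f' = y₃ → w₃ ≫ pullback.snd V₃.hom f' = ξ₀'.1 → w₃ default ∈ W₃) ∧
      ∀ (ξ' : Pts f' η') (w₃ : Spec (CommRingCat.of Ω) ⟶ ((EtCoh.bc f').obj V₃).left),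
        w₃ ≫ pullback.fst V₃.hom f' = y₃ → w₃ ≫ pullback.snd V₃.hom f' = ξ'.1 → w₃ default ∈ W₃ →
        ∃ x' : (Scheme.pointSmallEtale (ξ'.1 ≫ g')).fiber.obj (opnOf ((EtCoh.bc f).obj V₁) W₁),
          ptL (ξ'.1 ≫ g') _ x' ≫ W₁.ι ≫ pullback.fst V₁.hom f = y₁ ∧
          (Ψ f' η' ξ').toPresheafFiber ((EtCoh.bc f').obj V'') ((θ f' η' ξ').app V'' v'') G t'' =
            (Scheme.pointSmallEtale ξ'.1).toPresheafFiber
              ((EtCoh.bc g').obj (opnOf ((EtCoh.bc f).obj V₁) W₁))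
              ((fiberIso g' ξ'.1).inv.app (opnOf ((EtCoh.bc f).obj V₁) W₁) x') G σ := by
  let U₁ : X.Etale := opnOf ((EtCoh.bc f).obj V₁) W₁
  let v''l : Spec (CommRingCat.of Ω) ⟶ V''.left := ptL η' V'' v''
  have hv''l : v''l ≫ V''.hom = η' := ptL_hom η' V'' v''
  obtain ⟨V₃, q₃, y₃, W₃, hW₃c, hy₃, hPiece⟩ := exists_isPiece_int f' V'' N₀ p₀ n₀l
  have hy₃q : y₃ ≫ q₃.left = v''l := hy₃.trans hn₀p
  have hy₃η : y₃ ≫ V₃.hom = η' := by
    have e1 : q₃.left ≫ V''.hom = V₃.hom := Over.w q₃.hom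
    exact ((congrArg (fun t => y₃ ≫ t) e1).symm.trans (Category.assoc _ _ _).symm).trans
      ((congrArg (fun t => t ≫ V''.hom) hy₃q).trans hv''l)
  refine ⟨V₃, y₃, hy₃η, W₃, ?_, ?_⟩
  · intro w₃ hw1 hw2
    exact hPiece.mem w₃ hw1 (hw2.trans hn₀N.symm)
  · intro ξ' w₃ hw1 hw2 hw3
    obtain ⟨b₃, w3, hb₃, hw31, hw32⟩ := hPiece
    have hw₃range : Set.range w₃ ⊆ Set.range W₃.ι := by
      rintro _ ⟨a, rfl⟩
      rw [Subsingleton.elim a default, Scheme.Opens.range_ι]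
      exact hw3
    let w₃' : Spec (CommRingCat.of Ω) ⟶ (W₃ : Scheme.{u}) := IsOpenImmersion.lift W₃.ι w₃ hw₃range
    have hw₃' : w₃' ≫ W₃.ι = w₃ := IsOpenImmersion.lift_fac _ _ _
    let O₃ : X'.Etale := opnOf ((EtCoh.bc f').obj V₃) W₃
    have hw₃'hom : w₃' ≫ O₃.hom = ξ'.1 :=
      (Category.assoc _ _ _).symm.trans
        ((congrArg (fun t => t ≫ pullback.snd V₃.hom f') hw₃').trans hw2)
    let w₃pt : (Scheme.pointSmallEtale ξ'.1).fiber.obj O₃ := mkPt ξ'.1 O₃ w₃' hw₃'hom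
    let c : O₃ ⟶ (EtCoh.bc g').obj U₁ := b₃ ≫ q₀
    let a' : (Scheme.pointSmallEtale ξ'.1).fiber.obj ((EtCoh.bc g').obj U₁) :=
      (Scheme.pointSmallEtale ξ'.1).fiber.map c w₃pt
    let x' : (Scheme.pointSmallEtale (ξ'.1 ≫ g')).fiber.obj U₁ := (fiberIso g' ξ'.1).hom.app U₁ a'
    have hx' : (fiberIso g' ξ'.1).inv.app U₁ x' = a' := iso_inv_hom_apply (fiberIso g' ξ'.1) U₁ a'
    -- the point of `N₀`
    let k : Spec (CommRingCat.of Ω) ⟶ N₀.left := w₃' ≫ b₃.left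
    have hkp : k ≫ p₀.left = w₃ ≫ ((EtCoh.bc f').map q₃).left :=
      hkp_aux w₃' b₃.left p₀.left W₃.ι ((EtCoh.bc f').map q₃).left w₃
        (congrArg (fun t => t.left) hb₃) hw₃'
    have hkq : (w₃ ≫ ((EtCoh.bc f').map q₃).left) ≫ pullback.fst V''.hom f' = v''l := by
      refine (Category.assoc _ _ _).trans ?_
      refine (congrArg (fun t => w₃ ≫ t) (bc_map_left_fst f' q₃)).trans ?_
      refine (Category.assoc _ _ _).symm.trans ?_
      exact (congrArg (fun t => t ≫ q₃.left) hw1).trans hy₃q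
    refine ⟨x', ?_, ?_⟩
    · have e1 : ptL (ξ'.1 ≫ g') U₁ x' = ptL ξ'.1 _ a' ≫ pullback.fst U₁.hom g' :=
        fiberIso_hom_left g' ξ'.1 U₁ a'
      have e3 : ptL (ξ'.1 ≫ g') U₁ x' ≫ W₁.ι ≫ pullback.fst V₁.hom f =
          k ≫ q₀.left ≫ pullback.fst U₁.hom g' ≫ W₁.ι ≫ pullback.fst V₁.hom f :=
        e3_aux (ptL (ξ'.1 ≫ g') U₁ x') (ptL ξ'.1 _ a') (pullback.fst U₁.hom g')
          (W₁.ι ≫ pullback.fst V₁.hom f) w₃' b₃.left q₀.left e1 rfl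
      have e4 : k ≫ q₀.left ≫ pullback.fst U₁.hom g' ≫ W₁.ι ≫ pullback.fst V₁.hom f =
          k ≫ p₀.left ≫ pullback.fst V''.hom f' ≫ r₁l ≫ pullback.fst V₁.hom g :=
        congrArg (fun t => k ≫ t) heq.symm
      have e5 : k ≫ p₀.left ≫ pullback.fst V''.hom f' ≫ r₁l ≫ pullback.fst V₁.hom g = y₁ :=
        pt_chain k p₀.left (pullback.fst V''.hom f') r₁l (pullback.fst V₁.hom g)
          (w₃ ≫ ((EtCoh.bc f').map q₃).left) v''l (v''l ≫ r₁l) y₁ hkp hkq rfl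
          ((Category.assoc _ _ _).trans hv''r₁)
      exact e3.trans (e4.trans e5)
    · rw [hx']
      -- restrict to the piece
      have hpt : (Scheme.pointSmallEtale ξ'.1).fiber.map (opnIn _ W₃ ≫ (EtCoh.bc f').map q₃) w₃pt =
          (θ f' η' ξ').app V'' v'' := by
        apply fiber_bc_ext f' η' ξ' V''
        refine Eq.trans ?_ (liftPt_left_fst f' η' ξ' V'' v'').symm
        exact hpt_aux w₃' W₃.ι ((EtCoh.bc f').map q₃).left (pullback.fst V''.hom f') w₃ v''l hw₃' hkq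
      have g1 := (Scheme.pointSmallEtale ξ'.1).toPresheafFiber_w_apply
        (opnIn _ W₃ ≫ (EtCoh.bc f').map q₃) w₃pt G t''
      rw [hpt] at g1
      refine g1.symm.trans ?_
      have g2 := (Scheme.pointSmallEtale ξ'.1).toPresheafFiber_w_apply c w₃pt G σ
      refine Eq.trans ?_ g2
      congr 1
      rw [← hb₃]
      have e : ∀ (B : X'.Etale) (k' : N₀ ⟶ B) (z : ToType (G.obj (op B))),
          (ConcreteCategory.hom (G.map (b₃ ≫ k').op)) z =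
          (ConcreteCategory.hom (G.map b₃.op)) ((ConcreteCategory.hom (G.map k'.op)) z) := by
        intro B k' z
        rw [← ConcreteCategory.comp_apply, ← G.map_comp, ← op_comp]
      rw [e, e, hpq₀]

include w in
set_option backward.isDefEq.respectTransparency.types false in
set_option maxHeartbeats 3200000 in
/-- if the germ of a section `t'` over `X' ×_{Y'} V'` at `(v', ξ₀')` is the germ of a section `σ` over the base change
to `X'` of a piece `U₁ ⊆ X ×_Y V₁`, then the same holds at all `(v', ξ')` for `ξ'` in the trace of an open subset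
of some `X' ×_{Y'} V₃`, with points of `U₁` having the same `V₁`-coordinate. -/
theorem exists_piece_agree (G : X'.Etaleᵒᵖ ⥤ A) (V₁ : Y.Etale) (W₁ : ((EtCoh.bc f).obj V₁).left.Opens)
    (ξ₀' : Pts f' η')
    (w₁ : (Scheme.pointSmallEtale (ξ₀'.1 ≫ g')).fiber.obj (opnOf ((EtCoh.bc f).obj V₁) W₁))
    (σ : ToType (G.obj (op ((EtCoh.bc g').obj (opnOf ((EtCoh.bc f).obj V₁) W₁)))))
    (V' : Y'.Etale) (v' : (Scheme.pointSmallEtale η').fiber.obj V')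
    (t' : ToType (G.obj (op ((EtCoh.bc f').obj V'))))
    (hgerm : (Ψ f' η' ξ₀').toPresheafFiber ((EtCoh.bc f').obj V') ((θ f' η' ξ₀').app V' v') G t' =
      (Scheme.pointSmallEtale ξ₀'.1).toPresheafFiber ((EtCoh.bc g').obj (opnOf ((EtCoh.bc f).obj V₁) W₁))
        ((fiberIso g' ξ₀'.1).inv.app (opnOf ((EtCoh.bc f).obj V₁) W₁) w₁) G σ) :
    ∃ (V₃ : Y'.Etale) (y₃ : Spec (CommRingCat.of Ω) ⟶ V₃.left) (_ : y₃ ≫ V₃.hom = η')
      (W₃ : ((EtCoh.bc f').obj V₃).left.Opens),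
      (∀ w₃ : Spec (CommRingCat.of Ω) ⟶ ((EtCoh.bc f').obj V₃).left,
        w₃ ≫ pullback.fst V₃.hom f' = y₃ → w₃ ≫ pullback.snd V₃.hom f' = ξ₀'.1 → w₃ default ∈ W₃) ∧
      ∀ (ξ' : Pts f' η') (w₃ : Spec (CommRingCat.of Ω) ⟶ ((EtCoh.bc f').obj V₃).left),
        w₃ ≫ pullback.fst V₃.hom f' = y₃ → w₃ ≫ pullback.snd V₃.hom f' = ξ'.1 → w₃ default ∈ W₃ →
        ∃ x' : (Scheme.pointSmallEtale (ξ'.1 ≫ g')).fiber.obj (opnOf ((EtCoh.bc f).obj V₁) W₁),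
          ptL (ξ'.1 ≫ g') _ x' ≫ W₁.ι ≫ pullback.fst V₁.hom f =
            ptL (ξ₀'.1 ≫ g') _ w₁ ≫ W₁.ι ≫ pullback.fst V₁.hom f ∧
          (Ψ f' η' ξ').toPresheafFiber ((EtCoh.bc f').obj V') ((θ f' η' ξ').app V' v') G t' =
            (Scheme.pointSmallEtale ξ'.1).toPresheafFiber
              ((EtCoh.bc g').obj (opnOf ((EtCoh.bc f).obj V₁) W₁))
              ((fiberIso g' ξ'.1).inv.app (opnOf ((EtCoh.bc f).obj V₁) W₁) x') G σ := by
  classical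
  let U₁ : X.Etale := opnOf ((EtCoh.bc f).obj V₁) W₁
  let Φ' := Scheme.pointSmallEtale η'
  -- the `V₁`-coordinate
  let w₁l : Spec (CommRingCat.of Ω) ⟶ U₁.left := ptL (ξ₀'.1 ≫ g') U₁ w₁
  have hw₁l : w₁l ≫ U₁.hom = ξ₀'.1 ≫ g' := ptL_hom (ξ₀'.1 ≫ g') U₁ w₁
  let y₁ : Spec (CommRingCat.of Ω) ⟶ V₁.left := w₁l ≫ W₁.ι ≫ pullback.fst V₁.hom f
  have hU₁hom : U₁.hom = W₁.ι ≫ pullback.snd V₁.hom f := rfl
  have hy₁ : y₁ ≫ V₁.hom = η' ≫ g := by
    have e1 : y₁ ≫ V₁.hom = (w₁l ≫ U₁.hom) ≫ f :=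
      two_step w₁l W₁.ι (pullback.fst V₁.hom f) V₁.hom (pullback.snd V₁.hom f) f pullback.condition
    rw [e1, hw₁l, Category.assoc, w, ← Category.assoc, ξ₀'.2]
  let y₁pt : (Scheme.pointSmallEtale (η' ≫ g)).fiber.obj V₁ := mkPt (η' ≫ g) V₁ y₁ hy₁
  -- refine `V'`
  let e₁ : Φ'.fiber.Elements := ⟨V', v'⟩
  let e₂ : Φ'.fiber.Elements := ⟨(EtCoh.bc g).obj V₁, (fiberIso g η').inv.app V₁ y₁pt⟩
  let mm : Φ'.fiber.Elements := IsCofiltered.min e₁ e₂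
  let r : mm ⟶ e₁ := IsCofiltered.minToLeft _ _
  let r₁ : mm ⟶ e₂ := IsCofiltered.minToRight _ _
  let V'' : Y'.Etale := mm.1
  let v'' : Φ'.fiber.obj V'' := mm.2
  have hr : Φ'.fiber.map r.1 v'' = v' := r.2
  have hr₁ : Φ'.fiber.map r₁.1 v'' = (fiberIso g η').inv.app V₁ y₁pt := r₁.2
  let t'' : ToType (G.obj (op ((EtCoh.bc f').obj V''))) :=
    (ConcreteCategory.hom (G.map ((EtCoh.bc f').map r.1).op)) t'
  have hgerm'' : ∀ ξ' : Pts f' η',
      (Ψ f' η' ξ').toPresheafFiber ((EtCoh.bc f').obj V'') ((θ f' η' ξ').app V'' v'') G t'' =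
      (Ψ f' η' ξ').toPresheafFiber ((EtCoh.bc f').obj V') ((θ f' η' ξ').app V' v') G t' := by
    intro ξ'
    have e1 := (Ψ f' η' ξ').toPresheafFiber_w_apply ((EtCoh.bc f').map r.1)
      ((θ f' η' ξ').app V'' v'') G t'
    have e2 : (Ψ f' η' ξ').fiber.map ((EtCoh.bc f').map r.1) ((θ f' η' ξ').app V'' v'') =
        (θ f' η' ξ').app V' v' := by
      have h1 := ConcreteCategory.congr_hom ((θ f' η' ξ').naturality r.1) v''
      rw [ConcreteCategory.comp_apply, ConcreteCategory.comp_apply, hr] at h1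
      exact h1.symm
    rw [e2] at e1
    exact e1
  -- common neighbourhood
  obtain ⟨N, p, q, n, hpn, hqn, hpq⟩ := germ_eq_exists (Scheme.pointSmallEtale ξ₀'.1) G
    ((EtCoh.bc f').obj V'') ((EtCoh.bc g').obj U₁) ((θ f' η' ξ₀').app V'' v'')
    ((fiberIso g' ξ₀'.1).inv.app U₁ w₁) t'' σ ((hgerm'' ξ₀').trans hgerm)
  -- the two maps to `V₁`
  let pl : N.left ⟶ pullback V''.hom f' := p.left
  let ql : N.left ⟶ pullback U₁.hom g' := q.left
  let r₁l : V''.left ⟶ pullback V₁.hom g := r₁.1.left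
  have hpl : pl ≫ pullback.snd V''.hom f' = N.hom := Over.w p.hom
  have hql : ql ≫ pullback.snd U₁.hom g' = N.hom := Over.w q.hom
  have hr₁l : r₁l ≫ pullback.snd V₁.hom g = V''.hom := Over.w r₁.1.hom
  let u₁ : N.left ⟶ V₁.left := pl ≫ pullback.fst V''.hom f' ≫ r₁l ≫ pullback.fst V₁.hom g
  let u₂ : N.left ⟶ V₁.left := ql ≫ pullback.fst U₁.hom g' ≫ W₁.ι ≫ pullback.fst V₁.hom f
  have hu : u₁ ≫ V₁.hom = u₂ ≫ V₁.hom := by
    have h1 : u₁ ≫ V₁.hom = N.hom ≫ f' ≫ g :=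
      four_step pl (pullback.fst V''.hom f') r₁l (pullback.fst V₁.hom g) V₁.hom
        (pullback.snd V₁.hom g) g V''.hom (pullback.snd V''.hom f') f' N.hom
        pullback.condition hr₁l pullback.condition hpl
    have h2 : u₂ ≫ V₁.hom = N.hom ≫ g' ≫ f :=
      four_step ql (pullback.fst U₁.hom g') W₁.ι (pullback.fst V₁.hom f) V₁.hom
        (pullback.snd V₁.hom f) f U₁.hom (pullback.snd U₁.hom g') g' N.hom
        pullback.condition hU₁hom.symm pullback.condition hql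
    rw [h1, h2, w]
  haveI : Etale V₁.hom := V₁.prop
  obtain ⟨T₀, hT₀eq, hT₀pt⟩ := exists_open_eq V₁.hom u₁ u₂ hu
  -- the point of `N`
  let nl : Spec (CommRingCat.of Ω) ⟶ N.left := ptL ξ₀'.1 N n
  have hnl : nl ≫ N.hom = ξ₀'.1 := ptL_hom ξ₀'.1 N n
  let v''l : Spec (CommRingCat.of Ω) ⟶ V''.left := ptL η' V'' v''
  have hv''l : v''l ≫ V''.hom = η' := ptL_hom η' V'' v''
  have hnlp : nl ≫ pl = ptL ξ₀'.1 _ (liftPt f' η' ξ₀' V'' v'') :=
    congrArg (fun a => ptL ξ₀'.1 ((EtCoh.bc f').obj V'') a) hpn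
  have hnlp1 : nl ≫ pl ≫ pullback.fst V''.hom f' = v''l :=
    (Category.assoc _ _ _).symm.trans ((congrArg (fun t => t ≫ pullback.fst V''.hom f') hnlp).trans
      (liftPt_left_fst f' η' ξ₀' V'' v''))
  have hv''r₁ : v''l ≫ r₁l ≫ pullback.fst V₁.hom g = y₁ := by
    have h1 : v''l ≫ r₁l = ptL η' _ ((fiberIso g η').inv.app V₁ y₁pt) :=
      congrArg (fun a => ptL η' ((EtCoh.bc g).obj V₁) a) hr₁
    exact (Category.assoc _ _ _).symm.trans ((congrArg (fun t => t ≫ pullback.fst V₁.hom g) h1).trans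
      (fiberIso_inv_left_fst g η' V₁ y₁pt))
  have hnu₁ : nl ≫ u₁ = y₁ := by
    change nl ≫ pl ≫ pullback.fst V''.hom f' ≫ r₁l ≫ pullback.fst V₁.hom g = y₁
    have e1 : nl ≫ pl ≫ pullback.fst V''.hom f' ≫ r₁l ≫ pullback.fst V₁.hom g =
        (nl ≫ pl ≫ pullback.fst V''.hom f') ≫ r₁l ≫ pullback.fst V₁.hom g := by
      simp only [Category.assoc]
    rw [e1, hnlp1, hv''r₁]
  have hnu₂ : nl ≫ u₂ = y₁ := by
    have h1 : nl ≫ ql = ptL ξ₀'.1 _ ((fiberIso g' ξ₀'.1).inv.app U₁ w₁) :=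
      congrArg (fun a => ptL ξ₀'.1 ((EtCoh.bc g').obj U₁) a) hqn
    have h2 : (nl ≫ ql) ≫ pullback.fst U₁.hom g' = w₁l :=
      (congrArg (fun t => t ≫ pullback.fst U₁.hom g') h1).trans
        (fiberIso_inv_left_fst g' ξ₀'.1 U₁ w₁)
    change nl ≫ ql ≫ pullback.fst U₁.hom g' ≫ W₁.ι ≫ pullback.fst V₁.hom f = y₁
    have e1 : nl ≫ ql ≫ pullback.fst U₁.hom g' ≫ W₁.ι ≫ pullback.fst V₁.hom f =
        ((nl ≫ ql) ≫ pullback.fst U₁.hom g') ≫ W₁.ι ≫ pullback.fst V₁.hom f := by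
      simp only [Category.assoc]
    rw [e1, h2]
  have hnT₀ : nl default ∈ T₀ := hT₀pt nl (hnu₁.trans hnu₂.symm)
  -- shrink `N`
  let N₀ : X'.Etale := opnOf N T₀
  let i₀ : N₀ ⟶ N := opnIn N T₀
  have hnrange : Set.range nl ⊆ Set.range T₀.ι := by
    rintro _ ⟨a, rfl⟩
    rw [Subsingleton.elim a default, Scheme.Opens.range_ι]
    exact hnT₀
  let n₀l : Spec (CommRingCat.of Ω) ⟶ (T₀ : Scheme.{u}) := IsOpenImmersion.lift T₀.ι nl hnrange
  have hn₀l : n₀l ≫ T₀.ι = nl := IsOpenImmersion.lift_fac _ _ _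
  let p₀ : N₀ ⟶ (EtCoh.bc f').obj V'' := i₀ ≫ p
  let q₀ : N₀ ⟶ (EtCoh.bc g').obj U₁ := i₀ ≫ q
  have hpq₀ : (ConcreteCategory.hom (G.map p₀.op)) t'' = (ConcreteCategory.hom (G.map q₀.op)) σ := by
    have e : ∀ (B : X'.Etale) (k : N ⟶ B) (z : ToType (G.obj (op B))),
        (ConcreteCategory.hom (G.map (i₀ ≫ k).op)) z =
        (ConcreteCategory.hom (G.map i₀.op)) ((ConcreteCategory.hom (G.map k.op)) z) := by
      intro B k z
      rw [← ConcreteCategory.comp_apply, ← G.map_comp, ← op_comp]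
    rw [e, e]
    exact congrArg (ConcreteCategory.hom (G.map i₀.op)) hpq
  have hp₀l : p₀.left = T₀.ι ≫ pl := rfl
  have hq₀l : q₀.left = T₀.ι ≫ ql := rfl
  have hn₀N : n₀l ≫ N₀.hom = ξ₀'.1 :=
    (Category.assoc _ _ _).symm.trans ((congrArg (fun t => t ≫ N.hom) hn₀l).trans hnl)
  have hn₀p : n₀l ≫ p₀.left ≫ pullback.fst V''.hom f' = v''l :=
    comp3_aux n₀l T₀.ι pl (pullback.fst V''.hom f') nl v''l hn₀l hnlp1
  have heq : p₀.left ≫ pullback.fst V''.hom f' ≫ r₁l ≫ pullback.fst V₁.hom g =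
      q₀.left ≫ pullback.fst U₁.hom g' ≫ W₁.ι ≫ pullback.fst V₁.hom f :=
    (Category.assoc _ _ _).trans (hT₀eq.trans (Category.assoc _ _ _).symm)
  obtain ⟨V₃, y₃, hy₃η, W₃, hi, hii⟩ := piece_step f g f' g' η' G V₁ W₁ ξ₀' σ V'' v'' t'' N₀ p₀ q₀ n₀l
    hn₀N hpq₀ r₁l y₁ heq hn₀p hv''r₁
  refine ⟨V₃, y₃, hy₃η, W₃, hi, ?_⟩
  intro ξ' w₃ hw1 hw2 hw3
  obtain ⟨x', hx1, hx2⟩ := hii ξ' w₃ hw1 hw2 hw3
  exact ⟨x', hx1, (hgerm'' ξ').symm.trans hx2⟩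

end XPrimeSide

section Piece

variable {X Y : Scheme.{u}} (f : X ⟶ Y) [IsIntegralHom f] {Ω : Type u} [Field Ω] [IsSepClosed Ω]
  {A : Type (u + 2)} [Category.{u + 1} A] {FC : A → A → Type*} {CC : A → Type (u + 1)}
  [∀ X Y, FunLike (FC X Y) (CC X) (CC Y)] [ConcreteCategory.{u + 1} A FC]
  [HasColimitsOfSize.{u, u} A] [PreservesFilteredColimitsOfSize.{u, u} (forget A)]

set_option backward.isDefEq.respectTransparency.types false in
/-- every element of the stalk of a presheaf on `X_ét` at a geometric point is the germ of a section over a clopen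
piece of some `X ×_Y V`. -/
theorem exists_piece_germ (P : X.Etaleᵒᵖ ⥤ A) (ξ : Spec (CommRingCat.of Ω) ⟶ X)
    (b : ToType ((Scheme.pointSmallEtale ξ).presheafFiber.obj P)) :
    ∃ (V₁ : Y.Etale) (W₁ : ((EtCoh.bc f).obj V₁).left.Opens)
      (_ : IsClosed (W₁ : Set ((EtCoh.bc f).obj V₁).left))
      (w₁ : (Scheme.pointSmallEtale ξ).fiber.obj (opnOf ((EtCoh.bc f).obj V₁) W₁))
      (s₁ : ToType (P.obj (op (opnOf ((EtCoh.bc f).obj V₁) W₁)))),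
      b = (Scheme.pointSmallEtale ξ).toPresheafFiber (opnOf ((EtCoh.bc f).obj V₁) W₁) w₁ P s₁ := by
  obtain ⟨U, x, sU, rfl⟩ := (Scheme.pointSmallEtale ξ).toPresheafFiber_jointly_surjective b
  let xl : Spec (CommRingCat.of Ω) ⟶ U.left :=
    Over.Hom.left (show Over.mk ξ ⟶ (Scheme.Etale.forget X).obj U from x)
  have hxl : xl ≫ U.hom = ξ := Over.w (show Over.mk ξ ⟶ (Scheme.Etale.forget X).obj U from x)
  haveI : Etale U.hom := U.prop
  obtain ⟨V₁, W₁, hW₁, hh, zz, hhh, hzz⟩ := exists_pointed_piece_int f U.hom xl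
  let b₁ : opnOf ((EtCoh.bc f).obj V₁) W₁ ⟶ U := MorphismProperty.Over.homMk hh hhh
  have hzzξ : zz ≫ (opnOf ((EtCoh.bc f).obj V₁) W₁).hom = ξ := by
    change zz ≫ W₁.ι ≫ ((EtCoh.bc f).obj V₁).hom = ξ
    rw [← hhh, ← Category.assoc, hzz, hxl]
  let w₁ : (Scheme.pointSmallEtale ξ).fiber.obj (opnOf ((EtCoh.bc f).obj V₁) W₁) :=
    (Over.homMk zz hzzξ : Over.mk ξ ⟶ (Scheme.Etale.forget X).obj (opnOf ((EtCoh.bc f).obj V₁) W₁))
  refine ⟨V₁, W₁, hW₁, w₁, (ConcreteCategory.hom (P.map b₁.op)) sU, ?_⟩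
  have e1 := (Scheme.pointSmallEtale ξ).toPresheafFiber_w_apply b₁ w₁ P sU
  refine Eq.trans ?_ e1.symm
  have e2 : (Scheme.pointSmallEtale ξ).fiber.map b₁ w₁ = x := by
    apply Over.OverMorphism.ext
    exact hzz
  rw [e2]

end Piece

section Main

variable {X Y X' Y' : Scheme.{u}} (f : X ⟶ Y) [IsIntegralHom f] (g : Y' ⟶ Y) (f' : X' ⟶ Y')
  (g' : X' ⟶ X) (h : IsPullback g' f' f g) {Ω : Type u} [Field Ω] [IsAlgClosed Ω]
  (η' : Spec (CommRingCat.of Ω) ⟶ Y')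
  {A : Type (u + 2)} [Category.{u + 1} A] {FC : A → A → Type*} {CC : A → Type (u + 1)}
  [∀ X Y, FunLike (FC X Y) (CC X) (CC Y)] [ConcreteCategory.{u + 1} A FC]
  [HasColimitsOfSize.{u, u} A] [PreservesFilteredColimitsOfSize.{u, u} (forget A)]
  (P : X.Etaleᵒᵖ ⥤ A) (G : X'.Etaleᵒᵖ ⥤ A) (un : P ⟶ (EtCoh.bc g').op ⋙ G)
  (T3 : ∀ ξ' : Spec (CommRingCat.of Ω) ⟶ X',
    ToType ((Scheme.pointSmallEtale (ξ' ≫ g')).presheafFiber.obj P) →
      ToType ((Scheme.pointSmallEtale ξ').presheafFiber.obj G))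

set_option backward.isDefEq.respectTransparency.types false in
/-- two points of a piece `W₁ ⊆ X ×_Y V₁` over the same geometric point of `X` with the same `V₁`-coordinate
coincide -/
lemma pt_opn_ext (V₁ : Y.Etale) (W₁ : ((EtCoh.bc f).obj V₁).left.Opens)
    (ξ : Spec (CommRingCat.of Ω) ⟶ X)
    (a b : (Scheme.pointSmallEtale ξ).fiber.obj (opnOf ((EtCoh.bc f).obj V₁) W₁))
    (hab : ptL ξ _ a ≫ W₁.ι ≫ pullback.fst V₁.hom f = ptL ξ _ b ≫ W₁.ι ≫ pullback.fst V₁.hom f) :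
    a = b := by
  apply ptL_ext
  refine (cancel_mono W₁.ι).1 ?_
  refine pullback.hom_ext ?_ ?_
  · exact (Category.assoc _ _ _).trans (hab.trans (Category.assoc _ _ _).symm)
  · exact (Category.assoc _ _ _).trans ((ptL_hom ξ _ a).trans
      ((ptL_hom ξ _ b).symm.trans (Category.assoc _ _ _).symm))

include h in
set_option backward.isDefEq.respectTransparency.types false in
set_option maxHeartbeats 3200000 in
/-- **Good pieces**: the family of germs at the `ξ'` of an element of the stalk of `f'_* G` is, near each `ξ₀'`, the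
family of germs of a section of `P` over a clopen piece of some `X ×_Y V`. -/
theorem exists_good_piece (hT3s : ∀ ξ', Function.Surjective (T3 ξ'))
    (hT3 : ∀ (ξ' : Spec (CommRingCat.of Ω) ⟶ X') (U : X.Etale)
      (x : (Scheme.pointSmallEtale (ξ' ≫ g')).fiber.obj U) (s : ToType (P.obj (op U))),
      T3 ξ' ((Scheme.pointSmallEtale (ξ' ≫ g')).toPresheafFiber U x P s) =
        (Scheme.pointSmallEtale ξ').toPresheafFiber ((EtCoh.bc g').obj U)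
          ((fiberIso g' ξ').inv.app U x) G (un.app (op U) s))
    (z : ToType ((Scheme.pointSmallEtale η').presheafFiber.obj ((EtCoh.bc f').op ⋙ G)))
    (ξ₀' : Pts f' η') :
    ∃ (V : Y.Etale) (y : Spec (CommRingCat.of Ω) ⟶ V.left) (_ : y ≫ V.hom = η' ≫ g)
      (W : ((EtCoh.bc f).obj V).left.Opens) (_ : IsClosed (W : Set ((EtCoh.bc f).obj V).left))
      (s : ToType (P.obj (op (opnOf ((EtCoh.bc f).obj V) W)))),
      (∀ w : Spec (CommRingCat.of Ω) ⟶ ((EtCoh.bc f).obj V).left,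
        w ≫ pullback.fst V.hom f = y → w ≫ pullback.snd V.hom f = ξ₀'.1 ≫ g' → w default ∈ W) ∧
      ∀ (ξ' : Pts f' η')
        (x : (Scheme.pointSmallEtale (ξ'.1 ≫ g')).fiber.obj (opnOf ((EtCoh.bc f).obj V) W)),
        ptL (ξ'.1 ≫ g') _ x ≫ W.ι ≫ pullback.fst V.hom f = y →
        cmp (EtCoh.bc f') (Scheme.pointSmallEtale η') (Ψ f' η') (θ f' η') ξ' G z =
          T3 ξ'.1 ((Scheme.pointSmallEtale (ξ'.1 ≫ g')).toPresheafFiber
            (opnOf ((EtCoh.bc f).obj V) W) x P s) := by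
  haveI : IsIntegralHom f' := MorphismProperty.of_isPullback h (inferInstance : IsIntegralHom f)
  obtain ⟨V', v', t', rfl⟩ := (Scheme.pointSmallEtale η').toPresheafFiber_jointly_surjective z
  have hcmp : ∀ ξ' : Pts f' η', cmp (EtCoh.bc f') (Scheme.pointSmallEtale η') (Ψ f' η') (θ f' η') ξ' G
      ((Scheme.pointSmallEtale η').toPresheafFiber V' v' ((EtCoh.bc f').op ⋙ G) t') =
      (Ψ f' η' ξ').toPresheafFiber ((EtCoh.bc f').obj V') ((θ f' η' ξ').app V' v') G t' :=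
    fun ξ' => cmp_toPresheafFiber_apply (EtCoh.bc f') (Scheme.pointSmallEtale η') (Ψ f' η') (θ f' η')
      ξ' G V' v' t'
  obtain ⟨b, hb⟩ := hT3s ξ₀'.1
    ((Ψ f' η' ξ₀').toPresheafFiber ((EtCoh.bc f').obj V') ((θ f' η' ξ₀').app V' v') G t')
  obtain ⟨V₁, W₁, hW₁c, w₁, s₁, rfl⟩ := exists_piece_germ f P (ξ₀'.1 ≫ g') b
  rw [hT3] at hb
  let U₁ : X.Etale := opnOf ((EtCoh.bc f).obj V₁) W₁
  obtain ⟨V₃, y₃, hy₃, W₃, hi, hii⟩ := exists_piece_agree f g f' g' h.w η' G V₁ W₁ ξ₀' w₁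
    (un.app (op U₁) s₁) V' v' t' hb.symm
  -- the fibre
  have hξ : ∀ ξ' : Pts f' η', (ξ'.1 ≫ g') ≫ f = η' ≫ g := fun ξ' => by
    rw [Category.assoc, h.w, ← Category.assoc, ξ'.2]
  let O : (Zf f (η' ≫ g)).Opens := (mV' f g f' g' h η' V₃ y₃ hy₃) ⁻¹ᵁ W₃
  have hO : sec f (η' ≫ g) (ξ₀'.1 ≫ g') (hξ ξ₀') default ∈ O := by
    change (mV' f g f' g' h η' V₃ y₃ hy₃) (sec f (η' ≫ g) (ξ₀'.1 ≫ g') (hξ ξ₀') default) ∈ W₃
    rw [← Scheme.Hom.comp_apply]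
    exact hi _ (sec_mV'_fst f g f' g' h η' V₃ y₃ hy₃ ξ₀'.1 (hξ ξ₀'))
      (sec_mV'_snd f g f' g' h η' V₃ y₃ hy₃ ξ₀'.1 ξ₀'.2 (hξ ξ₀'))
  -- the `V₁`-coordinate
  let w₁l : Spec (CommRingCat.of Ω) ⟶ U₁.left := ptL (ξ₀'.1 ≫ g') U₁ w₁
  have hw₁l : w₁l ≫ U₁.hom = ξ₀'.1 ≫ g' := ptL_hom (ξ₀'.1 ≫ g') U₁ w₁
  let y₁ : Spec (CommRingCat.of Ω) ⟶ V₁.left := w₁l ≫ W₁.ι ≫ pullback.fst V₁.hom f
  have hy₁ : y₁ ≫ V₁.hom = η' ≫ g := by
    have e1 : y₁ ≫ V₁.hom = (w₁l ≫ U₁.hom) ≫ f :=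
      two_step w₁l W₁.ι (pullback.fst V₁.hom f) V₁.hom (pullback.snd V₁.hom f) f pullback.condition
    rw [e1, hw₁l, hξ ξ₀']
  obtain ⟨V₄, g₄, y₄, hy₄, hy₄g, W₄, hW₄c, hW₄0, hW₄O⟩ :=
    exists_clopen_nbhd f (η' ≫ g) (ξ₀'.1 ≫ g') (hξ ξ₀') O hO V₁ y₁ hy₁
  let W : ((EtCoh.bc f).obj V₄).left.Opens := W₄ ⊓ ((EtCoh.bc f).map g₄).left ⁻¹ᵁ W₁
  have hWc : IsClosed (W : Set ((EtCoh.bc f).obj V₄).left) :=
    hW₄c.inter (hW₁c.preimage ((EtCoh.bc f).map g₄).left.continuous)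
  have hWle : W ≤ ((EtCoh.bc f).map g₄).left ⁻¹ᵁ W₁ := inf_le_right
  let ρl : (W : Scheme.{u}) ⟶ (W₁ : Scheme.{u}) := ((EtCoh.bc f).map g₄).left.resLE W₁ W hWle
  have hρl : ρl ≫ W₁.ι = W.ι ≫ ((EtCoh.bc f).map g₄).left := Scheme.Hom.resLE_comp_ι _ _
  have hρX : ρl ≫ U₁.hom = (opnOf ((EtCoh.bc f).obj V₄) W).hom := by
    change ρl ≫ W₁.ι ≫ pullback.snd V₁.hom f = W.ι ≫ pullback.snd V₄.hom f
    rw [reassoc_of% hρl, bc_map_left_snd]
  let ρ₄ : opnOf ((EtCoh.bc f).obj V₄) W ⟶ U₁ := MorphismProperty.Over.homMk ρl hρX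
  refine ⟨V₄, y₄, hy₄, W, hWc, (ConcreteCategory.hom (P.map ρ₄.op)) s₁, ?_, ?_⟩
  · intro w hw1 hw2
    have hw := eq_sec_mV f (η' ≫ g) V₄ y₄ hy₄ w (ξ₀'.1 ≫ g') (hξ ξ₀') hw1 hw2
    constructor
    · have h1 : (mV f (η' ≫ g) V₄ y₄ hy₄) (sec f (η' ≫ g) (ξ₀'.1 ≫ g') (hξ ξ₀') default) ∈ W₄ := hW₄0
      rw [← Scheme.Hom.comp_apply, ← hw] at h1
      exact h1
    · change ((EtCoh.bc f).map g₄).left (w default) ∈ W₁
      have h2 : w ≫ ((EtCoh.bc f).map g₄).left = w₁l ≫ W₁.ι := by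
        refine pullback.hom_ext ?_ ?_
        · refine (Category.assoc _ _ _).trans ?_
          refine (congrArg (fun t => w ≫ t) (bc_map_left_fst f g₄)).trans ?_
          refine (Category.assoc _ _ _).symm.trans ?_
          refine (congrArg (fun t => t ≫ g₄.left) hw1).trans ?_
          exact hy₄g.trans (Category.assoc _ _ _).symm
        · refine (Category.assoc _ _ _).trans ?_
          refine (congrArg (fun t => w ≫ t) (bc_map_left_snd f g₄)).trans ?_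
          exact hw2.trans (hw₁l.symm.trans (Category.assoc _ _ _).symm)
      rw [← Scheme.Hom.comp_apply, h2, Scheme.Hom.comp_apply]
      exact (w₁l default).2
  · intro ξ' x hx
    let xl : Spec (CommRingCat.of Ω) ⟶ (W : Scheme.{u}) := ptL (ξ'.1 ≫ g') _ x
    have hxl : xl ≫ W.ι ≫ pullback.snd V₄.hom f = ξ'.1 ≫ g' := ptL_hom (ξ'.1 ≫ g') _ x
    have hwl := eq_sec_mV f (η' ≫ g) V₄ y₄ hy₄ (xl ≫ W.ι) (ξ'.1 ≫ g') (hξ ξ')
      ((Category.assoc _ _ _).trans hx) ((Category.assoc _ _ _).trans hxl)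
    have hO' : sec f (η' ≫ g) (ξ'.1 ≫ g') (hξ ξ') default ∈ O := by
      apply hW₄O
      change (mV f (η' ≫ g) V₄ y₄ hy₄) (sec f (η' ≫ g) (ξ'.1 ≫ g') (hξ ξ') default) ∈ W₄
      rw [← Scheme.Hom.comp_apply, ← hwl, Scheme.Hom.comp_apply]
      exact (xl default).2.1
    have hO'' : (sec f (η' ≫ g) (ξ'.1 ≫ g') (hξ ξ') ≫ mV' f g f' g' h η' V₃ y₃ hy₃) default ∈ W₃ := by
      rw [Scheme.Hom.comp_apply]
      exact hO'
    obtain ⟨x', hx'1, hx'2⟩ := hii ξ' _ (sec_mV'_fst f g f' g' h η' V₃ y₃ hy₃ ξ'.1 (hξ ξ'))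
      (sec_mV'_snd f g f' g' h η' V₃ y₃ hy₃ ξ'.1 ξ'.2 (hξ ξ')) hO''
    have e1 := (Scheme.pointSmallEtale (ξ'.1 ≫ g')).toPresheafFiber_w_apply ρ₄ x P s₁
    have e5 : (Scheme.pointSmallEtale (ξ'.1 ≫ g')).fiber.map ρ₄ x = x' := by
      apply pt_opn_ext f V₁ W₁ (ξ'.1 ≫ g')
      refine Eq.trans ?_ hx'1.symm
      -- the coordinate of the restricted point
      change (xl ≫ ρl) ≫ W₁.ι ≫ pullback.fst V₁.hom f = y₁
      have e2 : (xl ≫ ρl) ≫ W₁.ι ≫ pullback.fst V₁.hom f =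
          ((xl ≫ W.ι) ≫ pullback.fst V₄.hom f) ≫ g₄.left :=
        coord_aux xl ρl W₁.ι (pullback.fst V₁.hom f) W.ι ((EtCoh.bc f).map g₄).left
          (pullback.fst V₄.hom f) g₄.left hρl (bc_map_left_fst f g₄)
      exact e2.trans ((congrArg (fun t => t ≫ g₄.left) ((Category.assoc _ _ _).trans hx)).trans hy₄g)
    rw [e5] at e1
    rw [hcmp, hx'2, ← hT3]
    exact congrArg (T3 ξ'.1) e1.symm

include h in
set_option backward.isDefEq.respectTransparency.types false in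
set_option maxHeartbeats 3200000 in
/-- **Surjectivity of the base change map on stalks, abstract form.** -/
theorem exists_preimage (hP : Presieve.IsSheaf X.smallEtaleTopology (P ⋙ forget A))
    (hT3s : ∀ ξ', Function.Surjective (T3 ξ'))
    (hT3 : ∀ (ξ' : Spec (CommRingCat.of Ω) ⟶ X') (U : X.Etale)
      (x : (Scheme.pointSmallEtale (ξ' ≫ g')).fiber.obj U) (s : ToType (P.obj (op U))),
      T3 ξ' ((Scheme.pointSmallEtale (ξ' ≫ g')).toPresheafFiber U x P s) =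
        (Scheme.pointSmallEtale ξ').toPresheafFiber ((EtCoh.bc g').obj U)
          ((fiberIso g' ξ').inv.app U x) G (un.app (op U) s))
    (z : ToType ((Scheme.pointSmallEtale η').presheafFiber.obj ((EtCoh.bc f').op ⋙ G))) :
    ∃ x : ToType ((Scheme.pointSmallEtale (η' ≫ g)).presheafFiber.obj ((EtCoh.bc f).op ⋙ P)),
      ∀ ξ' : Pts f' η',
        cmp (EtCoh.bc f') (Scheme.pointSmallEtale η') (Ψ f' η') (θ f' η') ξ' G z =
          T3 ξ'.1 (cmp (EtCoh.bc f) (Scheme.pointSmallEtale (η' ≫ g)) (Ψ f (η' ≫ g)) (θ f (η' ≫ g))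
            (ρ f g f' g' h.w η' ξ') P x) := by
  classical
  let η : Spec (CommRingCat.of Ω) ⟶ Y := η' ≫ g
  let lift' : Pts f η → Pts f' η' := fun ξ => ⟨h.lift ξ.1 η' ξ.2, h.lift_snd _ _ _⟩
  have hlift' : ∀ ξ : Pts f η, (lift' ξ).1 ≫ g' = ξ.1 := fun ξ => h.lift_fst _ _ _
  choose Vc vc hvc Wc hWcc sc hmemc hgoodc using fun ξ : Pts f η =>
    exists_good_piece f g f' g' h η' P G un T3 hT3s hT3 z (lift' ξ)
  let V0 : Y.Etale := EtCoh.top Y
  have hv0 : η ≫ V0.hom = η := Category.comp_id η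
  let gc : ∀ ξ, Vc ξ ⟶ V0 := fun ξ => MorphismProperty.Over.homMk (Vc ξ).hom (Category.comp_id _)
  obtain ⟨V, gV, v, hvg, n, ξk, gk, W, hgk, hvk, hdisj, hcov, hWle⟩ :=
    exists_clopen_partition f η V0 η hv0 Vc gc vc hvc Wc hWcc
      (fun ξ w hw1 hw2 => hmemc ξ w hw1 (hw2.trans (hlift' ξ).symm))
  have hv : v ≫ V.hom = η := by
    have e1 : gV.left ≫ V0.hom = V.hom := Over.w gV.hom
    exact ((congrArg (fun t => v ≫ t) e1).symm.trans (Category.assoc _ _ _).symm).trans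
      ((congrArg (fun t => t ≫ V0.hom) hvg).trans hv0)
  let vpt : (Scheme.pointSmallEtale η).fiber.obj V := mkPt η V v hv
  -- the restrictions of the local sections
  let ρl : ∀ k, ((W k : ((EtCoh.bc f).obj V).left.Opens) : Scheme.{u}) ⟶
      ((Wc (ξk k) : ((EtCoh.bc f).obj (Vc (ξk k))).left.Opens) : Scheme.{u}) := fun k =>
    ((EtCoh.bc f).map (gk k)).left.resLE (Wc (ξk k)) (W k) (hWle k)
  have hρl : ∀ k, ρl k ≫ (Wc (ξk k)).ι = (W k).ι ≫ ((EtCoh.bc f).map (gk k)).left := fun k =>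
    Scheme.Hom.resLE_comp_ι _ _
  have hρX : ∀ k, ρl k ≫ (opnOf ((EtCoh.bc f).obj (Vc (ξk k))) (Wc (ξk k))).hom =
      (opnOf ((EtCoh.bc f).obj V) (W k)).hom := by
    intro k
    change ρl k ≫ (Wc (ξk k)).ι ≫ pullback.snd (Vc (ξk k)).hom f = (W k).ι ≫ pullback.snd V.hom f
    rw [reassoc_of% (hρl k), bc_map_left_snd]
  let ρk : ∀ k, opnOf ((EtCoh.bc f).obj V) (W k) ⟶
      opnOf ((EtCoh.bc f).obj (Vc (ξk k))) (Wc (ξk k)) := fun k =>
    MorphismProperty.Over.homMk (ρl k) (hρX k)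
  let sk : ∀ k, ToType (P.obj (op (opnOf ((EtCoh.bc f).obj V) (W k)))) := fun k =>
    (ConcreteCategory.hom (P.map (ρk k).op)) (sc (ξk k))
  obtain ⟨s, hs⟩ := (bijective_restrict_opens (P ⋙ forget A) hP ((EtCoh.bc f).obj V) W hdisj hcov).2 sk
  refine ⟨(Scheme.pointSmallEtale η).toPresheafFiber V vpt ((EtCoh.bc f).op ⋙ P) s, ?_⟩
  intro ξ'
  have hξ : (ξ'.1 ≫ g') ≫ f = η := by
    rw [Category.assoc, h.w, ← Category.assoc, ξ'.2]
  let ξ : Pts f η := ⟨ξ'.1 ≫ g', hξ⟩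
  have hcmpx := cmp_toPresheafFiber_apply (EtCoh.bc f) (Scheme.pointSmallEtale η) (Ψ f η) (θ f η)
    ξ P V vpt s
  refine Eq.trans ?_ (congrArg (T3 ξ'.1) hcmpx.symm)
  -- the point of the partition
  let lp : (Scheme.pointSmallEtale (ξ'.1 ≫ g')).fiber.obj ((EtCoh.bc f).obj V) := liftPt f η ξ V vpt
  let lpl : Spec (CommRingCat.of Ω) ⟶ ((EtCoh.bc f).obj V).left := ptL (ξ'.1 ≫ g') _ lp
  have hlpl1 : lpl ≫ pullback.fst V.hom f = v := liftPt_left_fst f η ξ V vpt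
  have hlplX : lpl ≫ ((EtCoh.bc f).obj V).hom = ξ'.1 ≫ g' := ptL_hom (ξ'.1 ≫ g') _ lp
  obtain ⟨k, hk⟩ := hcov (lpl default)
  have hrange : Set.range lpl ⊆ Set.range (W k).ι := by
    rintro _ ⟨a, rfl⟩
    rw [Subsingleton.elim a default, Scheme.Opens.range_ι]
    exact hk
  let xkl : Spec (CommRingCat.of Ω) ⟶ ((W k : ((EtCoh.bc f).obj V).left.Opens) : Scheme.{u}) :=
    IsOpenImmersion.lift (W k).ι lpl hrange
  have hxkl : xkl ≫ (W k).ι = lpl := IsOpenImmersion.lift_fac _ _ _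
  have hxklX : xkl ≫ (opnOf ((EtCoh.bc f).obj V) (W k)).hom = ξ'.1 ≫ g' :=
    (Category.assoc _ _ _).symm.trans
      ((congrArg (fun t => t ≫ ((EtCoh.bc f).obj V).hom) hxkl).trans hlplX)
  let xk : (Scheme.pointSmallEtale (ξ'.1 ≫ g')).fiber.obj (opnOf ((EtCoh.bc f).obj V) (W k)) :=
    mkPt (ξ'.1 ≫ g') _ xkl hxklX
  have hxk : (Scheme.pointSmallEtale (ξ'.1 ≫ g')).fiber.map (opnIn _ (W k)) xk = lp := by
    apply ptL_ext
    exact hxkl
  have g1 := (Scheme.pointSmallEtale (ξ'.1 ≫ g')).toPresheafFiber_w_apply (opnIn _ (W k)) xk P s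
  rw [hxk] at g1
  have hsk : (ConcreteCategory.hom (P.map (opnIn _ (W k)).op)) s = sk k := congrFun hs k
  have g2 := (Scheme.pointSmallEtale (ξ'.1 ≫ g')).toPresheafFiber_w_apply (ρk k) xk P (sc (ξk k))
  have hcoord : ptL (ξ'.1 ≫ g') _ ((Scheme.pointSmallEtale (ξ'.1 ≫ g')).fiber.map (ρk k) xk) ≫
      (Wc (ξk k)).ι ≫ pullback.fst (Vc (ξk k)).hom f = vc (ξk k) := by
    change (xkl ≫ ρl k) ≫ (Wc (ξk k)).ι ≫ pullback.fst (Vc (ξk k)).hom f = vc (ξk k)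
    have e2 : (xkl ≫ ρl k) ≫ (Wc (ξk k)).ι ≫ pullback.fst (Vc (ξk k)).hom f =
        ((xkl ≫ (W k).ι) ≫ pullback.fst V.hom f) ≫ (gk k).left :=
      coord_aux xkl (ρl k) (Wc (ξk k)).ι (pullback.fst (Vc (ξk k)).hom f) (W k).ι
        ((EtCoh.bc f).map (gk k)).left (pullback.fst V.hom f) (gk k).left (hρl k)
        (bc_map_left_fst f (gk k))
    refine e2.trans ?_
    refine (congrArg (fun t => t ≫ (gk k).left)
      ((congrArg (fun t => t ≫ pullback.fst V.hom f) hxkl).trans hlpl1)).trans ?_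
    exact hvk k
  have hgood := hgoodc (ξk k) ξ' _ hcoord
  refine hgood.trans (congrArg (T3 ξ'.1) ?_)
  refine g2.symm.trans ?_
  exact (congrArg _ hsk.symm).trans g1

end Main

end Groth.Agent.Lib.Seat1.IntSurj
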