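import Mathlib
import Groth.Prelude.Def_EtBaseX
import Groth.Prelude.Def_PBC
import Groth.Agent.Lib.Seat1FinBC
import Groth.Agent.Lib.Seat1IntInj
import Groth.Agent.Lib.Seat1IntSurj

/-!
# Base change for integral morphisms in degree zero (seat 1)

For a cartesian square with `f` integral the base change map `g⁻¹ f_* F ⟶ f'_* g'⁻¹ F` is an isomorphism of abelian
étale sheaves, by computing both sides on stalks at geometric points with algebraically closed field.
-/

set_option autoImplicit false
set_option linter.style.haveILetI false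
set_option linter.unusedSectionVars false
universe u
open CategoryTheory CategoryTheory.Limits AlgebraicGeometry Opposite

namespace Groth.Agent.Lib.Seat1.IntBC

open Groth.Agent.S0100 Groth.Agent.S0101 Groth.Agent.Lib.Helper16.StalkPull
  Groth.Agent.Lib.Helper16.SmallEtale Groth.Agent.Lib.Seat1.StalkFin Groth.Agent.Lib.Seat1.StalkAbs
  Groth.Agent.Lib.Seat1.FinBC Groth.Agent.Lib.Seat1.IntInj Groth.Agent.Lib.Seat1.IntSurj

variable {X Y X' Y' : Scheme.{u}} (f : X ⟶ Y) [IsIntegralHom f] (g : Y' ⟶ Y) (f' : X' ⟶ Y') (g' : X' ⟶ X)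
  (h : IsPullback g' f' f g)

set_option backward.isDefEq.respectTransparency.types false in
set_option maxHeartbeats 1600000 in
/-- the base change map is bijective on stalks at geometric points with algebraically closed field -/
theorem stalk_baseChange0_bijective (F : EtCoh.Ab X) {Ω : Type u} [Field Ω] [IsAlgClosed Ω]
    (η' : Spec (CommRingCat.of Ω) ⟶ Y') :
    Function.Bijective ((EtCoh.stalk η').map (EtCoh.baseChange0 f g f' g' h.w F)) := by
  haveI : IsIntegralHom f' := MorphismProperty.of_isPullback h (inferInstance : IsIntegralHom f)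
  let T1 := (stalkPullIso g η').hom.app ((EtCoh.push f).obj F)
  have hT1 : Function.Bijective T1 := (ConcreteCategory.isIso_iff_bijective _).mp inferInstance
  have hT3 : ∀ ξ' : Spec (CommRingCat.of Ω) ⟶ X', Function.Bijective ((stalkPullIso g' ξ').hom.app F) :=
    fun ξ' => (ConcreteCategory.isIso_iff_bijective _).mp inferInstance
  have hI' := cmp_injective_int f' η' (A := AddCommGrpCat.{u + 1}) ((EtCoh.pull g').obj F).obj
    (Groth.Agent.Lib.Seat1.DisjCover.isSheaf_forget ((EtCoh.pull g').obj F))
  have hI := cmp_injective_int f (η' ≫ g) (A := AddCommGrpCat.{u + 1}) F.obj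
    (Groth.Agent.Lib.Seat1.DisjCover.isSheaf_forget F)
  have hρ := ρ_bijective f g f' g' η' h
  constructor
  · -- injectivity
    intro a a' haa'
    obtain ⟨x, rfl⟩ := hT1.2 a
    obtain ⟨x', rfl⟩ := hT1.2 a'
    congr 1
    apply hI
    funext ξ
    obtain ⟨ξ', rfl⟩ := hρ.2 ξ
    apply (hT3 ξ'.1).1
    have k1 := key_comm f g f' g' h.w η' F ξ' x
    have k2 := key_comm f g f' g' h.w η' F ξ' x'
    refine k1.symm.trans (Eq.trans ?_ k2)
    exact congrArg _ haa'
  · -- surjectivity
    intro z
    obtain ⟨x, hx⟩ := exists_preimage f g f' g' h η' (A := AddCommGrpCat.{u + 1}) F.obj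
      ((EtCoh.pull g').obj F).obj ((EtCoh.pullPushAdj g').unit.app F).hom
      (fun ξ' b => (stalkPullIso g' ξ').hom.app F b)
      (Groth.Agent.Lib.Seat1.DisjCover.isSheaf_forget F) (fun ξ' => (hT3 ξ').2)
      (fun ξ' U x s => germ_compat g' ξ' F U x s) z
    refine ⟨T1 x, ?_⟩
    apply hI'
    funext ξ'
    exact (key_comm f g f' g' h.w η' F ξ' x).trans (hx ξ').symm

/-- **S0655**: integral base change in degree zero. -/
theorem isIso_baseChange0 (F : EtCoh.Ab X) : IsIso (EtCoh.baseChange0 f g f' g' h.w F) := by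
  apply Groth.Agent.Lib.Seat1.AlgStalk.isIso_of_stalks
  intro Ω _ _ η'
  exact stalk_baseChange0_bijective f g f' g' h F η'

end Groth.Agent.Lib.Seat1.IntBC
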