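import Groth.Prelude.Def_SGA4b
import Groth.Agent.Lib.Seat38LanFlat
import Mathlib.Algebra.Category.Grp.FilteredColimits

/-!
# Inverse image of étale sheaves is left exact (seat 38)

For every morphism of schemes `f : X ⟶ Y`:
* `PreservesFiniteLimits (EtDesc.pullSh f)` (sheaves of sets, valued in `Type (u+1)`),
* `PreservesFiniteLimits (EtCoh.pull f)` (abelian sheaves, valued in `AddCommGrpCat.{u+1}`).

Both are instances.  The proof is Mathlib's (`Functor.sheafPullbackConstruction.preservesFiniteLimits`) once the left
Kan extension along the flat functor `EtCoh.bc f` is known to preserve finite limits for the large categories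
`Y.Etale`, `X.Etale` (see `Seat38LanFlat`).
-/

set_option autoImplicit false
universe u
open CategoryTheory CategoryTheory.Limits AlgebraicGeometry Opposite

namespace Groth.Agent.Lib.Seat38.PullExact

/-- The forgetful functor of `AddCommGrpCat.{w+1}` preserves filtered colimits indexed by a category with objects in
`Type (w+1)` and morphisms in `Type w`. -/
instance preservesColimitsOfShape_forget_of_isFiltered {K : Type (u + 1)} [Category.{u} K] [IsFiltered K] :
    PreservesColimitsOfShape K (forget AddCommGrpCat.{u + 1}) := by
  have : IsFiltered (ULiftHom.{u + 1} K) := IsFiltered.of_equivalence ULiftHom.equiv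
  have : PreservesColimitsOfShape (ULiftHom.{u + 1} K) (forget AddCommGrpCat.{u + 1}) := inferInstance
  exact preservesColimitsOfShape_of_equiv (ULiftHom.equiv (C := K)).symm _

variable {X Y : Scheme.{u}} (f : X ⟶ Y)

instance isFiltered_costructuredArrow (K : X.Etaleᵒᵖ) :
    IsFiltered (CostructuredArrow (EtCoh.bc f).op K) :=
  IsFiltered.of_equivalence (structuredArrowOpEquivalence (EtCoh.bc f) (unop K))

instance lan_preservesFiniteLimits_type :
    PreservesFiniteLimits ((EtCoh.bc f).op.lan : (Y.Etaleᵒᵖ ⥤ Type (u + 1)) ⥤ X.Etaleᵒᵖ ⥤ Type (u + 1)) :=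
  LanFlat.lan_preservesFiniteLimits_of_flat (Type (u + 1)) (EtCoh.bc f)

/-- Inverse image of sheaves of sets on the small étale site is left exact. -/
instance preservesFiniteLimits_pullSh : PreservesFiniteLimits (EtDesc.pullSh f) :=
  Functor.sheafPullbackConstruction.preservesFiniteLimits _ _ _ _

instance lan_preservesFiniteLimits_ab :
    PreservesFiniteLimits ((EtCoh.bc f).op.lan :
      (Y.Etaleᵒᵖ ⥤ AddCommGrpCat.{u + 1}) ⥤ X.Etaleᵒᵖ ⥤ AddCommGrpCat.{u + 1}) :=
  LanFlat.lan_preservesFiniteLimits_of_flat (AddCommGrpCat.{u + 1}) (EtCoh.bc f)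

/-- Inverse image of abelian sheaves on the small étale site is left exact. -/
instance preservesFiniteLimits_pull : PreservesFiniteLimits (EtCoh.pull f) :=
  Functor.sheafPullbackConstruction.preservesFiniteLimits _ _ _ _

end Groth.Agent.Lib.Seat38.PullExact
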