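import Groth.Prelude.Def_SGA4b
import Groth.Agent.Lib.Seat38PullExact
import Mathlib.CategoryTheory.Sites.LeftExact
import Mathlib.CategoryTheory.Limits.Types.Pullbacks

/-!
# Sections of sheaves of sets on the small étale site and their pullback (seat 38)

* `secPull_naturality`: `EtDesc.secPull h` is natural in the sheaf.
* `injective_app_of_mono`: a monomorphism of sheaves of sets is injective on sections.
* `exists_section_of_inl_eq_inr`: a monomorphism `u : F ⟶ G` of sheaves of sets is the equalizer of its cokernel
  pair, on sections.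
-/

set_option autoImplicit false
universe u
open CategoryTheory CategoryTheory.Limits AlgebraicGeometry Opposite

namespace Groth.Agent.Lib.Seat38.SecPull

variable {X Y : Scheme.{u}}

/-- `secPull h` is natural in the sheaf. -/
theorem secPull_naturality (h : Y ⟶ X) {F G : EtDesc.Sh X} (u : F ⟶ G)
    (s : EtDesc.sect F (EtCoh.top X)) :
    EtDesc.secPull h G (u.hom.app (op (EtCoh.top X)) s) =
      ((EtDesc.pullSh h).map u).hom.app (op (EtCoh.top Y)) (EtDesc.secPull h F s) := by
  unfold EtDesc.secPull
  have h1 := congrArg (fun φ => φ.hom.app (op (EtCoh.top X)) s) ((EtDesc.adjSh h).unit.naturality u)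
  have h2 := ConcreteCategory.congr_hom
    (((EtDesc.pullSh h).map u).hom.naturality (EtCore.bcTopIso h).inv.op)
    (((EtDesc.adjSh h).unit.app F).hom.app (op (EtCoh.top X)) s)
  exact (congrArg (fun t => ((EtDesc.pullSh h).obj G).obj.map (EtCore.bcTopIso h).inv.op t) h1).trans h2.symm

/-- A monomorphism of sheaves of sets is injective on sections. -/
theorem injective_app_of_mono {F G : EtDesc.Sh X} (u : F ⟶ G) [Mono u] (U : X.Etaleᵒᵖ) :
    Function.Injective (u.hom.app U) := by
  have : Mono ((sheafToPresheaf _ _).map u) := inferInstance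
  have : Mono (((sheafToPresheaf _ _).map u).app U) := inferInstance
  exact (mono_iff_injective _).1 this

/-- A monomorphism of sheaves of sets is the equalizer of its cokernel pair: a section of `G` whose two images in
the pushout `G ⊔_F G` agree comes from a (unique) section of `F`. -/
theorem exists_section_of_inl_eq_inr {F G : EtDesc.Sh X} (u : F ⟶ G) [Mono u] (U : X.Etaleᵒᵖ)
    (η : G.obj.obj U)
    (hη : (pushout.inl u u).hom.app U η = (pushout.inr u u).hom.app U η) :
    ∃ ζ : F.obj.obj U, u.hom.app U ζ = η := by
  have hpb : IsPullback u u (pushout.inl u u) (pushout.inr u u) :=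
    Adhesive.isPullback_of_isPushout_of_mono_left (IsPushout.of_hasPushout u u)
  have hpb' := hpb.map (sheafToPresheaf _ _ ⋙ (evaluation _ _).obj U)
  obtain ⟨ζ, hζ, -⟩ := Limits.Types.exists_of_isPullback hpb' η η hη
  exact ⟨ζ, hζ⟩

end Groth.Agent.Lib.Seat38.SecPull
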