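import Groth.Prelude.Def_EtBCD
import Groth.Agent.Lib.Seat38SecPull

/-!
# Global sections and the base change morphism for sheaves of sets (seat 38)

For a commutative square `hb ≫ p = pY ≫ h` of schemes and a sheaf of sets `Fb` on `Xb`, the pullback of global
sections `secPull hb Fb` is, up to the identifications `Γ(X, p_* Fb) = Γ(Xb, Fb)` and `Γ(Y, pY_* G) = Γ(Yb, G)`,
the composite of `secPull h (p_* Fb)` with the base change morphism `EtBC.baseChange0Sh` on global sections
(`secPull_eq`).  Consequences: `injective_secPull`, `bijective_secPull`.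
-/

set_option autoImplicit false
universe u
open CategoryTheory CategoryTheory.Limits AlgebraicGeometry Opposite

namespace Groth.Agent.Lib.Seat38.BC0Sh

variable {X Y Xb Yb : Scheme.{u}} (p : Xb ⟶ X) (h : Y ⟶ X) (pY : Yb ⟶ Y) (hb : Yb ⟶ Xb)
  (w : hb ≫ p = pY ≫ h) (Fb : EtDesc.Sh Xb)

/-- the transpose of the base change morphism -/
noncomputable def phi : (EtDesc.pushSh p).obj Fb ⟶ (EtDesc.pushSh h).obj ((EtDesc.pushSh pY).obj ((EtDesc.pullSh hb).obj Fb)) :=
  (EtDesc.pushSh p).map ((EtDesc.adjSh hb).unit.app Fb) ≫ (EtDesc.pushCompSh p hb).hom.app _ ≫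
      (EtBC.pushCongrSh w).hom.app _ ≫ (EtDesc.pushCompSh h pY).inv.app _

lemma unit_comp_map_baseChange0Sh :
    (EtDesc.adjSh h).unit.app ((EtDesc.pushSh p).obj Fb) ≫ (EtDesc.pushSh h).map (EtBC.baseChange0Sh p h pY hb w Fb) =
      phi p h pY hb w Fb := by
  unfold EtBC.baseChange0Sh phi
  exact ((EtDesc.adjSh h).homEquiv_unit _ _ _).symm.trans (Equiv.apply_symm_apply _ _)

lemma map_map_terminal {C : Type*} [Category C] (H : Cᵒᵖ ⥤ Type*) {A B T : C} (hA : IsTerminal A)
    (a : B ⟶ A) (b : T ⟶ B) (t : H.obj (op A)) :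
    H.map b.op (H.map a.op t) = H.map (hA.from T).op t := by
  rw [← Functor.map_comp_apply, ← op_comp, hA.hom_ext (b ≫ a) (hA.from T)]

lemma chain5 {C : Type*} [Category C] (H : Cᵒᵖ ⥤ Type*) {A A1 A2 A3 A4 T : C} (hA : IsTerminal A)
    (a1 : T ⟶ A1) (a2 : A1 ⟶ A2) (a3 : A2 ⟶ A3) (a4 : A3 ⟶ A4) (a5 : A4 ⟶ A) (t : H.obj (op A)) :
    H.map a1.op (H.map a2.op (H.map a3.op (H.map a4.op (H.map a5.op t)))) = H.map (hA.from T).op t := by
  rw [map_map_terminal H hA a5 a4, map_map_terminal H hA _ a3, map_map_terminal H hA _ a2,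
    map_map_terminal H hA _ a1]

lemma map_terminal {C : Type*} [Category C] (H : Cᵒᵖ ⥤ Type*) {A T : C} (hA : IsTerminal A)
    (a : T ⟶ A) (t : H.obj (op A)) :
    H.map a.op t = H.map (hA.from T).op t := by
  rw [hA.hom_ext a (hA.from T)]

theorem phi_app (V : X.Etaleᵒᵖ) (s' : Fb.obj.obj (op ((EtCoh.bc p).obj V.unop))) :
    (phi p h pY hb w Fb).hom.app V s' =
      ((EtDesc.pullSh hb).obj Fb).obj.map
        ((MorphismProperty.Over.pullbackComp (P := EtCoh.etaleMP) (Q := ⊤) pY h).symm.hom.app V.unop).op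
      (((EtDesc.pullSh hb).obj Fb).obj.map
        ((MorphismProperty.Over.pullbackCongr (P := EtCoh.etaleMP) (Q := ⊤) w).inv.app V.unop).op
      (((EtDesc.pullSh hb).obj Fb).obj.map
        ((MorphismProperty.Over.pullbackComp (P := EtCoh.etaleMP) (Q := ⊤) hb p).symm.inv.app V.unop).op
            (((EtDesc.adjSh hb).unit.app Fb).hom.app (op ((EtCoh.bc p).obj V.unop)) s'))) := by
  rfl

theorem key (s' : Fb.obj.obj (op ((EtCoh.bc p).obj (EtCoh.top X)))) :
    ((EtDesc.pullSh hb).obj Fb).obj.map (EtCore.bcTopIso pY).inv.op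
      ((EtBC.baseChange0Sh p h pY hb w Fb).hom.app (op (EtCoh.top Y))
        (EtDesc.secPull h ((EtDesc.pushSh p).obj Fb) s')) =
    EtDesc.secPull hb Fb (Fb.obj.map (EtCore.bcTopIso p).inv.op s') := by
  unfold EtDesc.secPull
  -- naturality of bc0
  have h2 := ConcreteCategory.congr_hom
    ((EtBC.baseChange0Sh p h pY hb w Fb).hom.naturality (EtCore.bcTopIso h).inv.op)
    (((EtDesc.adjSh h).unit.app ((EtDesc.pushSh p).obj Fb)).hom.app (op (EtCoh.top X)) s')
  -- the transpose
  have h3 := congrArg (fun φ => φ.hom.app (op (EtCoh.top X)) s') (unit_comp_map_baseChange0Sh p h pY hb w Fb)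
  -- naturality of the unit of hb
  have h5 := ConcreteCategory.congr_hom
    (((EtDesc.adjSh hb).unit.app Fb).hom.naturality (EtCore.bcTopIso p).inv.op) s'
  have h4 := phi_app p h pY hb w Fb (op (EtCoh.top X)) s'
  -- the terminal object
  have hT : IsTerminal ((EtCoh.bc hb).obj ((EtCoh.bc p).obj (EtCoh.top X))) :=
    IsTerminal.isTerminalObj (EtCoh.bc hb) _ (EtCore.bcTopIsTerminal p)
  set t := ((EtDesc.adjSh hb).unit.app Fb).hom.app (op ((EtCoh.bc p).obj (EtCoh.top X))) s' with ht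
  have hL : ((EtDesc.pullSh hb).obj Fb).obj.map (EtCore.bcTopIso pY).inv.op
      ((EtBC.baseChange0Sh p h pY hb w Fb).hom.app (op (EtCoh.top Y))
        (((EtDesc.pullSh h).obj ((EtDesc.pushSh p).obj Fb)).obj.map (EtCore.bcTopIso h).inv.op
          (((EtDesc.adjSh h).unit.app ((EtDesc.pushSh p).obj Fb)).hom.app (op (EtCoh.top X)) s'))) =
      ((EtDesc.pullSh hb).obj Fb).obj.map (hT.from (EtCoh.top Yb)).op t := by
    refine (congrArg (fun z => ((EtDesc.pullSh hb).obj Fb).obj.map (EtCore.bcTopIso pY).inv.op z)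
      (h2.trans (congrArg (fun z => ((EtDesc.pushSh pY).obj ((EtDesc.pullSh hb).obj Fb)).obj.map
        (EtCore.bcTopIso h).inv.op z) (h3.trans h4)))).trans ?_
    change ((EtDesc.pullSh hb).obj Fb).obj.map (EtCore.bcTopIso pY).inv.op
      (((EtDesc.pullSh hb).obj Fb).obj.map ((EtCoh.bc pY).map (EtCore.bcTopIso h).inv).op _) = _
    exact chain5 _ hT _ _ _ _ _ t
  have hR : ((EtDesc.pullSh hb).obj Fb).obj.map (EtCore.bcTopIso hb).inv.op
      (((EtDesc.adjSh hb).unit.app Fb).hom.app (op (EtCoh.top Xb))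
        (Fb.obj.map (EtCore.bcTopIso p).inv.op s')) =
      ((EtDesc.pullSh hb).obj Fb).obj.map (hT.from (EtCoh.top Yb)).op t := by
    refine (congrArg (fun z => ((EtDesc.pullSh hb).obj Fb).obj.map (EtCore.bcTopIso hb).inv.op z) h5).trans ?_
    change ((EtDesc.pullSh hb).obj Fb).obj.map (EtCore.bcTopIso hb).inv.op
      (((EtDesc.pullSh hb).obj Fb).obj.map ((EtCoh.bc hb).map (EtCore.bcTopIso p).inv).op t) = _
    exact map_map_terminal _ hT _ _ t
  exact hL.trans hR.symm

/-- `secPull hb` factors through `secPull h` and the base change morphism on global sections. -/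
theorem secPull_eq (s : Fb.obj.obj (op (EtCoh.top Xb))) :
    EtDesc.secPull hb Fb s =
      ((EtDesc.pullSh hb).obj Fb).obj.map (EtCore.bcTopIso pY).inv.op
        ((EtBC.baseChange0Sh p h pY hb w Fb).hom.app (op (EtCoh.top Y))
          (EtDesc.secPull h ((EtDesc.pushSh p).obj Fb) (Fb.obj.map (EtCore.bcTopIso p).hom.op s))) := by
  rw [key]
  congr 1
  rw [← Functor.map_comp_apply, ← op_comp, Iso.inv_hom_id, op_id, CategoryTheory.Functor.map_id]
  rfl

lemma bijective_map_iso {C : Type*} [Category C] (H : Cᵒᵖ ⥤ Type*) {A B : C} (e : A ≅ B) :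
    Function.Bijective (H.map e.hom.op) := by
  rw [← isIso_iff_bijective]
  infer_instance

theorem injective_secPull
    (hinj : ∀ F : EtDesc.Sh X, Function.Injective (EtDesc.secPull h F))
    [Mono (EtBC.baseChange0Sh p h pY hb w Fb)] :
    Function.Injective (EtDesc.secPull hb Fb) := by
  intro s₁ s₂ hs
  rw [secPull_eq p h pY hb w Fb, secPull_eq p h pY hb w Fb] at hs
  have h1 := (bijective_map_iso ((EtDesc.pullSh hb).obj Fb).obj (EtCore.bcTopIso pY).symm).1 hs
  have h2 := SecPull.injective_app_of_mono (EtBC.baseChange0Sh p h pY hb w Fb) _ h1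
  have h3 := hinj _ h2
  exact (bijective_map_iso Fb.obj (EtCore.bcTopIso p)).1 h3

theorem bijective_secPull
    (hbij : ∀ F : EtDesc.Sh X, Function.Bijective (EtDesc.secPull h F))
    [IsIso (EtBC.baseChange0Sh p h pY hb w Fb)] :
    Function.Bijective (EtDesc.secPull hb Fb) := by
  have e : EtDesc.secPull hb Fb =
      (((EtDesc.pullSh hb).obj Fb).obj.map (EtCore.bcTopIso pY).inv.op) ∘
        ((EtBC.baseChange0Sh p h pY hb w Fb).hom.app (op (EtCoh.top Y))) ∘
          (EtDesc.secPull h ((EtDesc.pushSh p).obj Fb)) ∘ (Fb.obj.map (EtCore.bcTopIso p).hom.op) := by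
    funext s
    exact secPull_eq p h pY hb w Fb s
  rw [e]
  have b1 := bijective_map_iso ((EtDesc.pullSh hb).obj Fb).obj (EtCore.bcTopIso pY).symm
  have b4 := bijective_map_iso Fb.obj (EtCore.bcTopIso p)
  have b2 : Function.Bijective ((EtBC.baseChange0Sh p h pY hb w Fb).hom.app (op (EtCoh.top Y))) := by
    rw [← isIso_iff_bijective]
    have : IsIso ((sheafToPresheaf _ _).map (EtBC.baseChange0Sh p h pY hb w Fb)) := inferInstance
    exact inferInstanceAs (IsIso (((sheafToPresheaf _ _).map (EtBC.baseChange0Sh p h pY hb w Fb)).app _))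
  exact b1.comp (b2.comp ((hbij _).comp b4))

end Groth.Agent.Lib.Seat38.BC0Sh
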