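import Mathlib
import Groth.Prelude.Def_EtBaseX
import Groth.Prelude.Def_SGA4b
import Groth.Prelude.Def_EtBCD
import Groth.Agent.Lib.Seat1FinBC
import Groth.Agent.Lib.Seat1IntInj
import Groth.Agent.Lib.Seat1IntSurj
import Groth.Agent.Lib.Seat1AlgStalk
import Groth.Agent.Lib.Seat3ShStalk
import Groth.Agent.Lib.Seat38BC0Sh

/-!
# Base change for integral morphisms in degree zero, sheaves of sets (seat 1)

For a cartesian square with `f` integral the base change map `g^* f_* F ⟶ f'_* g'^* F` is an isomorphism of étale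
sheaves of sets.
-/

set_option autoImplicit false
set_option linter.style.haveILetI false
set_option linter.unusedSectionVars false
universe u
open CategoryTheory CategoryTheory.Limits AlgebraicGeometry Opposite

namespace Groth.Agent.Lib.Seat1.IntBCSh

open Groth.Agent.S0100 Groth.Agent.Lib.Seat3.ShStalk
  Groth.Agent.Lib.Helper16.SmallEtale Groth.Agent.Lib.Seat1.StalkFin Groth.Agent.Lib.Seat1.StalkAbs
  Groth.Agent.Lib.Seat1.FinBC Groth.Agent.Lib.Seat1.IntInj Groth.Agent.Lib.Seat1.IntSurj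
  Groth.Agent.Lib.Seat1.AlgStalk

section Stalks

set_option backward.isDefEq.respectTransparency.types false in
/-- a map of étale sheaves of sets injective on all algebraically closed geometric stalks is locally injective -/
lemma isLocallyInjective_of_stalks {X : Scheme.{u}} {F G : EtDesc.Sh X} (a : F ⟶ G)
    (h : ∀ (Ω : Type u) [Field Ω] [IsAlgClosed Ω] (ξ : Spec (CommRingCat.of Ω) ⟶ X),
      Function.Injective ((stalkSh ξ).map a)) :
    Sheaf.IsLocallyInjective a := by
  constructor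
  intro U x y hxy
  induction U using Opposite.rec with | _ U => ?_
  rw [mem_smallEtale_iff]
  intro p
  obtain ⟨Ω, _, _, ξ, x₀, hx₀⟩ := exists_geometric_point U p
  let Φ := Scheme.pointSmallEtale ξ
  have e1 : (stalkSh ξ).map a (Φ.toPresheafFiber U x₀ F.obj x) =
      (stalkSh ξ).map a (Φ.toPresheafFiber U x₀ F.obj y) := by
    have n1 := Φ.toPresheafFiber_naturality_apply a.hom U x₀ x
    have n2 := Φ.toPresheafFiber_naturality_apply a.hom U x₀ y
    exact n1.trans ((congrArg _ hxy).trans n2.symm)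
  have e2 := h Ω ξ e1
  obtain ⟨W, g, w, hw, hg⟩ := (Φ.toPresheafFiber_eq_iff' U x₀ x y).mp e2
  refine ⟨W, g, (w.left : Spec (CommRingCat.of Ω) ⟶ W.left) (default : Spec (CommRingCat.of Ω)),
    hg, ?_⟩
  have e3 : w.left ≫ g.left = x₀.left := congrArg (fun m => m.left) hw
  rw [← hx₀]
  exact congrArg (fun m : Spec (CommRingCat.of Ω) ⟶ U.left => m default) e3

set_option backward.isDefEq.respectTransparency.types false in
/-- a map of étale sheaves of sets surjective on all algebraically closed geometric stalks is locally surjective -/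
lemma isLocallySurjective_of_stalks {X : Scheme.{u}} {F G : EtDesc.Sh X} (a : F ⟶ G)
    (h : ∀ (Ω : Type u) [Field Ω] [IsAlgClosed Ω] (ξ : Spec (CommRingCat.of Ω) ⟶ X),
      Function.Surjective ((stalkSh ξ).map a)) :
    Sheaf.IsLocallySurjective a := by
  constructor
  intro U t
  rw [mem_smallEtale_iff]
  intro p
  obtain ⟨Ω, _, _, ξ, x₀, hx₀⟩ := exists_geometric_point U p
  let Φ := Scheme.pointSmallEtale ξ
  obtain ⟨σ, hσ⟩ := h Ω ξ (Φ.toPresheafFiber U x₀ G.obj t)
  obtain ⟨V, v, s, rfl⟩ := Φ.toPresheafFiber_jointly_surjective (P := F.obj) σ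
  have n1 : (stalkSh ξ).map a (Φ.toPresheafFiber V v F.obj s) =
      Φ.toPresheafFiber V v G.obj (a.hom.app (op V) s) :=
    Φ.toPresheafFiber_naturality_apply a.hom V v s
  let m : Φ.fiber.Elements := IsCofiltered.min (⟨V, v⟩ : Φ.fiber.Elements) ⟨U, x₀⟩
  let gV : m ⟶ ⟨V, v⟩ := IsCofiltered.minToLeft _ _
  let gU : m ⟶ ⟨U, x₀⟩ := IsCofiltered.minToRight _ _
  have hgV : Φ.fiber.map gV.1 m.2 = v := gV.2
  have hgU : Φ.fiber.map gU.1 m.2 = x₀ := gU.2
  have e1 : Φ.toPresheafFiber m.1 m.2 G.obj (G.obj.map gU.1.op t) =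
      Φ.toPresheafFiber m.1 m.2 G.obj (G.obj.map gV.1.op (a.hom.app (op V) s)) := by
    rw [Φ.toPresheafFiber_w_apply, Φ.toPresheafFiber_w_apply, hgV, hgU, ← hσ, n1]
  obtain ⟨W', g, w', hw', hg⟩ := (Φ.toPresheafFiber_eq_iff' m.1 m.2 _ _).mp e1
  refine ⟨W', g ≫ gU.1, (w'.left : Spec (CommRingCat.of Ω) ⟶ W'.left)
    (default : Spec (CommRingCat.of Ω)), ⟨F.obj.map (g ≫ gV.1).op s, ?_⟩, ?_⟩
  · have n2 := NatTrans.naturality_apply a.hom (g ≫ gV.1).op s
    rw [n2]
    rw [op_comp, Functor.map_comp, ConcreteCategory.comp_apply, ← hg,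
      ← ConcreteCategory.comp_apply, ← Functor.map_comp, ← op_comp]
  · have e3 : w'.left ≫ (g ≫ gU.1).left = x₀.left := by
      have h1 : Φ.fiber.map (g ≫ gU.1) w' = x₀ := by
        rw [Functor.map_comp]
        change Φ.fiber.map gU.1 (Φ.fiber.map g w') = x₀
        rw [hw', hgU]
      exact congrArg (fun m => m.left) h1
    rw [← hx₀]
    exact congrArg (fun m : Spec (CommRingCat.of Ω) ⟶ U.left => m default) e3

/-- **A map of étale sheaves of sets bijective on all stalks at algebraically closed geometric points is an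
isomorphism.** -/
theorem isIso_of_stalks {X : Scheme.{u}} {F G : EtDesc.Sh X} (a : F ⟶ G)
    (h : ∀ (Ω : Type u) [Field Ω] [IsAlgClosed Ω] (ξ : Spec (CommRingCat.of Ω) ⟶ X),
      Function.Bijective ((stalkSh ξ).map a)) : IsIso a := by
  haveI := isLocallyInjective_of_stalks a (fun Ω _ _ ξ => (h Ω ξ).1)
  haveI := isLocallySurjective_of_stalks a (fun Ω _ _ ξ => (h Ω ξ).2)
  haveI : Mono a := Sheaf.mono_of_isLocallyInjective a
  haveI : Epi a := Sheaf.epi_of_isLocallySurjective a
  exact isIso_of_mono_of_epi a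

end Stalks

section Main

variable {X Y X' Y' : Scheme.{u}} (f : X ⟶ Y) (g : Y' ⟶ Y) (f' : X' ⟶ Y') (g' : X' ⟶ X)
  (w : g' ≫ f = f' ≫ g) {Ω : Type u} [Field Ω] [IsSepClosed Ω] (η' : Spec (CommRingCat.of Ω) ⟶ Y')

set_option backward.isDefEq.respectTransparency.types false in
/-- the base change map on sections coming from downstairs -/
lemma baseChange0Sh_unit_apply (F : EtDesc.Sh X) (V : Y.Etale)
    (σ : F.obj.obj (op ((EtCoh.bc f).obj V))) :
    (EtBC.baseChange0Sh f g f' g' w F).hom.app (op ((EtCoh.bc g).obj V))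
      (((EtDesc.adjSh g).unit.app ((EtDesc.pushSh f).obj F)).hom.app (op V) σ) =
    ((EtDesc.pullSh g').obj F).obj.map (κ f g f' g' w V).op
      (((EtDesc.adjSh g').unit.app F).hom.app (op ((EtCoh.bc f).obj V)) σ) := by
  have h1 := Groth.Agent.Lib.Seat38.BC0Sh.unit_comp_map_baseChange0Sh f g f' g' w F
  have h2 := congrArg (fun m : (EtDesc.pushSh f).obj F ⟶
    (EtDesc.pushSh g).obj ((EtDesc.pushSh f').obj ((EtDesc.pullSh g').obj F)) => m.hom.app (op V) σ) h1
  refine h2.trans ?_
  refine (Groth.Agent.Lib.Seat38.BC0Sh.phi_app f g f' g' w F (op V) σ).trans ?_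
  simp only [κ, op_comp, Functor.map_comp, ConcreteCategory.comp_apply]
  rfl

set_option backward.isDefEq.respectTransparency.types false in
set_option maxHeartbeats 800000 in
/-- **Compatibility of the base change map with the stalk comparisons**, sheaves of sets. -/
lemma key_comm_sh (F : EtDesc.Sh X) (ξ' : Pts f' η')
    (x : (stalkSh (η' ≫ g)).obj ((EtDesc.pushSh f).obj F)) :
    cmp (EtCoh.bc f') (Scheme.pointSmallEtale η') (Ψ f' η') (θ f' η') ξ' ((EtDesc.pullSh g').obj F).obj
        ((stalkSh η').map (EtBC.baseChange0Sh f g f' g' w F)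
          ((stalkPullIsoSh g η').hom.app ((EtDesc.pushSh f).obj F) x)) =
      (stalkPullIsoSh g' ξ'.1).hom.app F
        (cmp (EtCoh.bc f) (Scheme.pointSmallEtale (η' ≫ g)) (Ψ f (η' ≫ g)) (θ f (η' ≫ g))
          (ρ f g f' g' w η' ξ') F.obj x) := by
  obtain ⟨V, v, σ, rfl⟩ := (Scheme.pointSmallEtale (η' ≫ g)).toPresheafFiber_jointly_surjective
    (P := ((EtDesc.pushSh f).obj F).obj) x
  -- the right hand side
  have hR0 := cmp_toPresheafFiber_apply (EtCoh.bc f) (Scheme.pointSmallEtale (η' ≫ g)) (Ψ f (η' ≫ g))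
    (θ f (η' ≫ g)) (ρ f g f' g' w η' ξ') F.obj V v σ
  have hR := germ_compat g' ξ'.1 F ((EtCoh.bc f).obj V)
    ((θ f (η' ≫ g) (ρ f g f' g' w η' ξ')).app V v) σ
  refine Eq.trans ?_ ((congrArg (fun t => (stalkPullIsoSh g' ξ'.1).hom.app F t) hR0).trans hR).symm
  -- the left hand side
  have hL1 : (stalkPullIsoSh g η').hom.app ((EtDesc.pushSh f).obj F)
      ((Scheme.pointSmallEtale (η' ≫ g)).toPresheafFiber V v ((EtDesc.pushSh f).obj F).obj σ) =
      (Scheme.pointSmallEtale η').toPresheafFiber ((EtCoh.bc g).obj V) ((fiberIso g η').inv.app V v)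
        ((EtDesc.pullSh g).obj ((EtDesc.pushSh f).obj F)).obj
        (((EtDesc.adjSh g).unit.app ((EtDesc.pushSh f).obj F)).hom.app (op V) σ) :=
    germ_compat g η' ((EtDesc.pushSh f).obj F) V v σ
  have hL2 : (stalkSh η').map (EtBC.baseChange0Sh f g f' g' w F)
      ((Scheme.pointSmallEtale η').toPresheafFiber ((EtCoh.bc g).obj V) ((fiberIso g η').inv.app V v)
        ((EtDesc.pullSh g).obj ((EtDesc.pushSh f).obj F)).obj
        (((EtDesc.adjSh g).unit.app ((EtDesc.pushSh f).obj F)).hom.app (op V) σ)) =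
      (Scheme.pointSmallEtale η').toPresheafFiber ((EtCoh.bc g).obj V) ((fiberIso g η').inv.app V v)
        ((EtDesc.pushSh f').obj ((EtDesc.pullSh g').obj F)).obj
        ((EtBC.baseChange0Sh f g f' g' w F).hom.app (op ((EtCoh.bc g).obj V))
          (((EtDesc.adjSh g).unit.app ((EtDesc.pushSh f).obj F)).hom.app (op V) σ)) :=
    (Scheme.pointSmallEtale η').toPresheafFiber_naturality_apply
      (EtBC.baseChange0Sh f g f' g' w F).hom ((EtCoh.bc g).obj V) ((fiberIso g η').inv.app V v)
      (((EtDesc.adjSh g).unit.app ((EtDesc.pushSh f).obj F)).hom.app (op V) σ)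
  have hL2b : (Scheme.pointSmallEtale η').toPresheafFiber ((EtCoh.bc g).obj V)
      ((fiberIso g η').inv.app V v) ((EtDesc.pushSh f').obj ((EtDesc.pullSh g').obj F)).obj
        ((EtBC.baseChange0Sh f g f' g' w F).hom.app (op ((EtCoh.bc g).obj V))
          (((EtDesc.adjSh g).unit.app ((EtDesc.pushSh f).obj F)).hom.app (op V) σ)) =
      (Scheme.pointSmallEtale η').toPresheafFiber ((EtCoh.bc g).obj V)
      ((fiberIso g η').inv.app V v) ((EtDesc.pushSh f').obj ((EtDesc.pullSh g').obj F)).obj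
        (((EtDesc.pullSh g').obj F).obj.map (κ f g f' g' w V).op
          (((EtDesc.adjSh g').unit.app F).hom.app (op ((EtCoh.bc f).obj V)) σ)) :=
    congrArg _ (baseChange0Sh_unit_apply f g f' g' w F V σ)
  have hL3 := cmp_toPresheafFiber_apply (EtCoh.bc f') (Scheme.pointSmallEtale η') (Ψ f' η')
    (θ f' η') ξ' ((EtDesc.pullSh g').obj F).obj ((EtCoh.bc g).obj V) ((fiberIso g η').inv.app V v)
    (((EtDesc.pullSh g').obj F).obj.map (κ f g f' g' w V).op
      (((EtDesc.adjSh g').unit.app F).hom.app (op ((EtCoh.bc f).obj V)) σ))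
  have hL4 := (Scheme.pointSmallEtale ξ'.1).toPresheafFiber_w_apply (κ f g f' g' w V)
    ((θ f' η' ξ').app ((EtCoh.bc g).obj V) ((fiberIso g η').inv.app V v))
    ((EtDesc.pullSh g').obj F).obj
    (((EtDesc.adjSh g').unit.app F).hom.app (op ((EtCoh.bc f).obj V)) σ)
  have hL5 := points_eq f g f' g' w η' ξ' V v
  refine (congrArg (fun t => cmp (EtCoh.bc f') (Scheme.pointSmallEtale η') (Ψ f' η') (θ f' η') ξ'
    ((EtDesc.pullSh g').obj F).obj ((stalkSh η').map (EtBC.baseChange0Sh f g f' g' w F) t)) hL1).trans ?_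
  refine (congrArg (fun t => cmp (EtCoh.bc f') (Scheme.pointSmallEtale η') (Ψ f' η') (θ f' η') ξ'
    ((EtDesc.pullSh g').obj F).obj t) (hL2.trans hL2b)).trans ?_
  refine hL3.trans (hL4.trans ?_)
  rw [hL5]
  rfl

end Main

section Iso

variable {X Y X' Y' : Scheme.{u}} (f : X ⟶ Y) [IsIntegralHom f] (g : Y' ⟶ Y) (f' : X' ⟶ Y') (g' : X' ⟶ X)
  (h : IsPullback g' f' f g)

set_option backward.isDefEq.respectTransparency.types false in
set_option maxHeartbeats 1600000 in
/-- the base change map of sheaves of sets is bijective on stalks at geometric points with algebraically closed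
field -/
theorem stalk_baseChange0Sh_bijective (F : EtDesc.Sh X) {Ω : Type u} [Field Ω] [IsAlgClosed Ω]
    (η' : Spec (CommRingCat.of Ω) ⟶ Y') :
    Function.Bijective ((stalkSh η').map (EtBC.baseChange0Sh f g f' g' h.w F)) := by
  haveI : IsIntegralHom f' := MorphismProperty.of_isPullback h (inferInstance : IsIntegralHom f)
  let T1 := (stalkPullIsoSh g η').hom.app ((EtDesc.pushSh f).obj F)
  have hT1 : Function.Bijective T1 := (isIso_iff_bijective _).mp inferInstance
  have hT3 : ∀ ξ' : Spec (CommRingCat.of Ω) ⟶ X',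
      Function.Bijective ((stalkPullIsoSh g' ξ').hom.app F) :=
    fun ξ' => (isIso_iff_bijective _).mp inferInstance
  have hF : Presieve.IsSheaf X.smallEtaleTopology F.obj :=
    (isSheaf_iff_isSheaf_of_type _ _).1 F.property
  have hG : Presieve.IsSheaf X'.smallEtaleTopology ((EtDesc.pullSh g').obj F).obj :=
    (isSheaf_iff_isSheaf_of_type _ _).1 ((EtDesc.pullSh g').obj F).property
  have hF' : Presieve.IsSheaf X.smallEtaleTopology (F.obj ⋙ forget (Type (u + 1))) := hF
  have hI' := cmp_injective_int f' η' (A := Type (u + 1)) ((EtDesc.pullSh g').obj F).obj hG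
  have hI := cmp_injective_int f (η' ≫ g) (A := Type (u + 1)) F.obj hF
  have hρ := ρ_bijective f g f' g' η' h
  constructor
  · -- injectivity
    intro a a' haa'
    obtain ⟨x, rfl⟩ := hT1.2 a
    obtain ⟨x', rfl⟩ := hT1.2 a'
    congr 1
    apply hI
    funext ξ
    obtain ⟨ξ', rfl⟩ := hρ.2 ξ
    apply (hT3 ξ'.1).1
    have k1 := key_comm_sh f g f' g' h.w η' F ξ' x
    have k2 := key_comm_sh f g f' g' h.w η' F ξ' x'
    refine k1.symm.trans (Eq.trans ?_ k2)
    exact congrArg _ haa'
  · -- surjectivity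
    intro z
    let T3 : ∀ ξ' : Spec (CommRingCat.of Ω) ⟶ X',
        ToType ((Scheme.pointSmallEtale (ξ' ≫ g')).presheafFiber.obj F.obj) →
          ToType ((Scheme.pointSmallEtale ξ').presheafFiber.obj ((EtDesc.pullSh g').obj F).obj) :=
      fun ξ' b => (stalkPullIsoSh g' ξ').hom.app F b
    obtain ⟨x, hx⟩ := exists_preimage f g f' g' h η' (A := Type (u + 1)) F.obj
      ((EtDesc.pullSh g').obj F).obj ((EtDesc.adjSh g').unit.app F).hom T3
      hF' (fun ξ' => (hT3 ξ').2)
      (fun ξ' U x s => germ_compat g' ξ' F U x s) z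
    refine ⟨T1 x, ?_⟩
    apply hI'
    funext ξ'
    exact (key_comm_sh f g f' g' h.w η' F ξ' x).trans (hx ξ').symm

/-- **S3887**: integral base change in degree zero for sheaves of sets. -/
theorem isIso_baseChange0Sh (F : EtDesc.Sh X) : IsIso (EtBC.baseChange0Sh f g f' g' h.w F) := by
  apply isIso_of_stalks
  intro Ω _ _ η'
  exact stalk_baseChange0Sh_bijective f g f' g' h F η'

end Iso

end Groth.Agent.Lib.Seat1.IntBCSh
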