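import Mathlib
import Groth.Prelude.Def_BigSite
import Groth.Agent.Lib.Seat1IntSplit
import Groth.Agent.Lib.Helper16EtStalk

/-!
# Condition (B) for integral morphisms (seat 1)
-/

set_option autoImplicit false
set_option linter.style.haveILetI false
set_option linter.unusedSectionVars false
universe u
open CategoryTheory CategoryTheory.Limits AlgebraicGeometry Opposite

namespace Groth.Agent.Lib.Seat1.IntPropB

open Groth.Agent.Lib.Seat1.FinSplit Groth.Agent.Lib.Helper16.SmallEtale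
  Groth.Agent.Lib.Helper16.EtStalk

variable {X Y : Scheme.{u}} (f : X ⟶ Y) [IsIntegralHom f]

set_option backward.isDefEq.respectTransparency.types false in
set_option maxHeartbeats 800000 in
/-- **Condition (B) holds for integral morphisms.** -/
theorem propB : BigSite.PropB f := by
  intro V v _ ι U g hg hcov
  haveI := hg
  let V0 : Y.Etale := Scheme.Etale.mk v
  let Z0 : X.Etale := (EtCoh.bc f).obj V0
  let sym : pullback f v ≅ pullback v f := pullbackSymmetry f v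
  let c : ∀ i, U i ⟶ Z0.left := fun i => g i ≫ sym.hom
  haveI : ∀ i, Etale (c i) := fun i => inferInstanceAs (Etale (g i ≫ sym.hom))
  let Ui : ι → X.Etale := fun i => Scheme.Etale.mk (c i ≫ Z0.hom)
  let gi : ∀ i, Ui i ⟶ Z0 := fun i => MorphismProperty.Over.homMk (c i) rfl
  let T : Sieve Z0 := Sieve.ofArrows Ui gi
  have hT : T ∈ X.smallEtaleTopology Z0 := by
    rw [mem_smallEtale_iff]
    intro z
    obtain ⟨i, w, hw⟩ := hcov (sym.inv z)
    refine ⟨Ui i, gi i, w, Sieve.ofArrows_mk _ _ i, ?_⟩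
    let z' : ↥(pullback v f) := z
    change (g i ≫ sym.hom) w = z'
    rw [Scheme.Hom.comp_apply]
    have hw' : (g i) w = sym.inv z' := hw
    rw [hw', ← Scheme.Hom.comp_apply, Iso.inv_hom_id]
    rfl
  have key : ∀ y : V, ∃ (Vy : Y.Etale) (gy : Vy ⟶ V0) (p : Vy.left), gy.left p = y ∧
      ∃ (n : ℕ) (W : Fin n → ((EtCoh.bc f).obj Vy).left.Opens),
        (∀ k l, k ≠ l → Disjoint (W k) (W l)) ∧ (∀ z, ∃ k, z ∈ W k) ∧
        ∀ k, T (opnIn _ (W k) ≫ (EtCoh.bc f).map gy) := by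
    intro y
    obtain ⟨Ω, _, _, η, x₀, hx₀⟩ := exists_geometric_point V0 y
    obtain ⟨Vy, gy, x, hx, n, W, hd, hc, hW⟩ :=
      Groth.Agent.Lib.Seat1.IntSplit.exists_disjoint_refinement f η V0 x₀ T hT
    refine ⟨Vy, gy, (x.left : Spec (CommRingCat.of Ω) ⟶ Vy.left) (default : Spec (CommRingCat.of Ω)),
      ?_, n, W, hd, hc, hW⟩
    have e3 : x.left ≫ gy.left = x₀.left := congrArg (fun m => m.left) hx
    rw [← hx₀]
    exact congrArg (fun m : Spec (CommRingCat.of Ω) ⟶ V0.left => m default) e3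
  choose Vy gy p hp n W hd hc hW using key
  refine ⟨V, fun y => (Vy y).left, fun y => (gy y).left,
    fun y => inferInstanceAs (Etale (gy y).left), fun y => ⟨y, p y, hp y⟩, fun y => ?_⟩
  let gl : (Vy y).left ⟶ V := (gy y).left
  have hw : gl ≫ v = (Vy y).hom := Over.w (gy y).hom
  show ∃ (μ : Type u) (W : μ → (pullback f (gl ≫ v)).Opens),
    (∀ a b, a ≠ b → Disjoint (W a) (W b)) ∧ (⨆ a, W a) = ⊤ ∧
      ∀ a, ∃ (i : ι) (h : ((W a : (pullback f (gl ≫ v)).Opens) : Scheme.{u}) ⟶ U i),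
        h ≫ g i = (W a).ι ≫ pullback.map f (gl ≫ v) f v (𝟙 X) gl (𝟙 Y)
          ((Category.comp_id f).trans (Category.id_comp f).symm) (Category.comp_id _)
  let P' : Scheme.{u} := pullback (Vy y).hom f
  let Wk : Fin (n y) → P'.Opens := W y
  let pm : pullback f (gl ≫ v) ⟶ pullback f v :=
    pullback.map f (gl ≫ v) f v (𝟙 X) gl (𝟙 Y)
      ((Category.comp_id f).trans (Category.id_comp f).symm) (Category.comp_id _)
  have hpm1 : pm ≫ pullback.fst f v = pullback.fst f (gl ≫ v) :=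
    (pullback.lift_fst _ _ _).trans (Category.comp_id _)
  have hpm2 : pm ≫ pullback.snd f v = pullback.snd f (gl ≫ v) ≫ gl :=
    pullback.lift_snd _ _ _
  let θ : pullback f (gl ≫ v) ⟶ P' :=
    pullback.lift (pullback.snd f (gl ≫ v)) (pullback.fst f (gl ≫ v))
      (by rw [← hw]; exact pullback.condition.symm)
  have hθ1 : θ ≫ pullback.fst (Vy y).hom f = pullback.snd f (gl ≫ v) :=
    pullback.lift_fst _ _ _
  have hθ2 : θ ≫ pullback.snd (Vy y).hom f = pullback.fst f (gl ≫ v) :=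
    pullback.lift_snd _ _ _
  let bm : P' ⟶ pullback v f := ((EtCoh.bc f).map (gy y)).left
  have hbm1 : bm ≫ pullback.fst v f = pullback.fst (Vy y).hom f ≫ gl :=
    bc_map_left_fst f (gy y)
  have hbm2 : bm ≫ pullback.snd v f = pullback.snd (Vy y).hom f := bc_map_left_snd f (gy y)
  have hs1 : sym.hom ≫ pullback.fst v f = pullback.snd f v := pullbackSymmetry_hom_comp_fst f v
  have hs2 : sym.hom ≫ pullback.snd v f = pullback.fst f v := pullbackSymmetry_hom_comp_snd f v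
  have hθ : θ ≫ bm = pm ≫ sym.hom := by
    apply pullback.hom_ext
    · rw [Category.assoc, hbm1, ← Category.assoc, hθ1, Category.assoc, hs1, hpm2]
    · rw [Category.assoc, hbm2, hθ2, Category.assoc, hs2, hpm1]
  refine ⟨ULift.{u} (Fin (n y)), fun a => θ ⁻¹ᵁ (Wk a.down), ?_, ?_, ?_⟩
  · intro a b hab
    have := hd y a.down b.down (fun h => hab (ULift.ext _ _ h))
    rw [← TopologicalSpace.Opens.coe_disjoint] at this ⊢
    exact this.preimage _
  · rw [eq_top_iff]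
    intro z _
    obtain ⟨k, hk⟩ := hc y (θ z)
    exact TopologicalSpace.Opens.mem_iSup.2 ⟨⟨k⟩, hk⟩
  · intro a
    obtain ⟨i, b, hb⟩ := (Sieve.mem_ofArrows_iff Ui gi _).1 (hW y a.down)
    let bl : ((Wk a.down : P'.Opens) : Scheme.{u}) ⟶ U i := b.left
    have hb' : (Wk a.down).ι ≫ bm = bl ≫ g i ≫ sym.hom :=
      congrArg (fun m => m.left) hb
    have e1 : (θ ∣_ (Wk a.down)) ≫ (Wk a.down).ι = (θ ⁻¹ᵁ (Wk a.down)).ι ≫ θ :=
      morphismRestrict_ι θ (Wk a.down)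
    refine ⟨i, (θ ∣_ (Wk a.down)) ≫ bl, ?_⟩
    change ((θ ∣_ (Wk a.down)) ≫ bl) ≫ g i = (θ ⁻¹ᵁ (Wk a.down)).ι ≫ pm
    rw [← cancel_mono sym.hom]
    calc (((θ ∣_ (Wk a.down)) ≫ bl) ≫ g i) ≫ sym.hom
        = (θ ∣_ (Wk a.down)) ≫ (bl ≫ g i ≫ sym.hom) := by simp only [Category.assoc]
      _ = (θ ∣_ (Wk a.down)) ≫ ((Wk a.down).ι ≫ bm) := by rw [hb']
      _ = ((θ ∣_ (Wk a.down)) ≫ (Wk a.down).ι) ≫ bm := (Category.assoc _ _ _).symm
      _ = ((θ ⁻¹ᵁ (Wk a.down)).ι ≫ θ) ≫ bm := by rw [e1]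
      _ = (θ ⁻¹ᵁ (Wk a.down)).ι ≫ (θ ≫ bm) := Category.assoc _ _ _
      _ = ((θ ⁻¹ᵁ (Wk a.down)).ι ≫ pm) ≫ sym.hom := by rw [hθ, Category.assoc]

end Groth.Agent.Lib.Seat1.IntPropB
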