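import Mathlib
import Groth.Prelude.Def_BigSite
import Groth.Agent.Lib.Seat1IntPropA

/-!
# Condition (C) for integral morphisms that are closed topological embeddings (seat 1)
-/

set_option autoImplicit false
set_option linter.style.haveILetI false
set_option linter.unusedSectionVars false
universe u
open CategoryTheory CategoryTheory.Limits AlgebraicGeometry Opposite

namespace Groth.Agent.Lib.Seat1.IntPropC

open Groth.Agent.Lib.Seat1.FinSplit Groth.Agent.Lib.Helper16.SmallEtale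
  Groth.Agent.Lib.Helper16.EtStalk Groth.Agent.Lib.Seat1.IntPropA

/-- gluing morphisms along a covering by pairwise disjoint opens -/
lemma exists_glue_disjoint {P U : Scheme.{u}} {ι : Type*} (W : ι → P.Opens)
    (hd : ∀ k l, k ≠ l → Disjoint (W k) (W l)) (hc : ∀ z : P, ∃ k, z ∈ W k)
    (h : ∀ k, (W k : Scheme.{u}) ⟶ U) : ∃ H : P ⟶ U, ∀ k, (W k).ι ≫ H = h k := by
  classical
  have hU : TopologicalSpace.IsOpenCover W := by
    change iSup W = ⊤
    rw [eq_top_iff]
    intro z _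
    obtain ⟨k, hk⟩ := hc z
    exact TopologicalSpace.Opens.mem_iSup.2 ⟨k, hk⟩
  let 𝒰 : P.OpenCover := P.openCoverOfIsOpenCover W hU
  have compat : ∀ x y : ι, pullback.fst (𝒰.f x) (𝒰.f y) ≫ h x = pullback.snd (𝒰.f x) (𝒰.f y) ≫ h y := by
    intro x y
    by_cases hxy : x = y
    · subst hxy
      have : pullback.fst (𝒰.f x) (𝒰.f x) = pullback.snd (𝒰.f x) (𝒰.f x) :=
        (cancel_mono (W x).ι).1 pullback.condition
      rw [this]
    · haveI : IsEmpty ↑(pullback (𝒰.f x) (𝒰.f y)) := by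
        apply Scheme.isEmpty_pullback
        change Disjoint (Set.range (W x).ι) (Set.range (W y).ι)
        rw [Scheme.Opens.range_ι, Scheme.Opens.range_ι]
        exact (TopologicalSpace.Opens.coe_disjoint).2 (hd x y hxy)
      exact isInitialOfIsEmpty.hom_ext _ _
  exact ⟨𝒰.glueMorphisms h compat, fun k => 𝒰.ι_glueMorphisms h compat k⟩

variable {X Y : Scheme.{u}} (f : X ⟶ Y) [IsIntegralHom f]

set_option backward.isDefEq.respectTransparency.types false in
set_option maxHeartbeats 1600000 in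
/-- the pointed local form of condition (C): an étale neighbourhood `V` of `f (g u)` and an `X`-morphism
`V ×_Y X ⟶ U` hitting `u` -/
theorem exists_full_piece (hinj : Function.Injective f) {U : Scheme.{u}} (g : U ⟶ X) [Etale g] (u : U) :
    ∃ (V : Y.Etale) (h : ((EtCoh.bc f).obj V).left ⟶ U),
      h ≫ g = ((EtCoh.bc f).obj V).hom ∧ u ∈ Set.range h := by
  let x : X := g u
  let y : Y := f x
  obtain ⟨U₁, hu₁, hU₁⟩ := exists_opens_fiber_eq g u
  let E : Set X := g '' (U₁ : Set U)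
  have hE : IsOpen E := g.isOpenMap _ U₁.2
  have hxE : x ∈ E := ⟨u, hu₁, rfl⟩
  let C : Set X := Eᶜ
  have hC : IsClosed C := hE.isClosed_compl
  let Y₀ : Y.Opens := ⟨(f '' C)ᶜ, (f.isClosedMap _ hC).isOpen_compl⟩
  have hy : y ∈ Y₀ := by
    rintro ⟨c, hc2, hc3⟩
    have : c = x := hinj hc3
    exact hc2 (this ▸ hxE)
  let V0 : Y.Etale := Scheme.Etale.mk Y₀.ι
  let Z0 : X.Etale := (EtCoh.bc f).obj V0
  let P : Scheme.{u} := pullback Y₀.ι f
  let p1 : P ⟶ (Y₀ : Scheme.{u}) := pullback.fst Y₀.ι f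
  let p2 : P ⟶ X := pullback.snd Y₀.ι f
  let y₀ : (Y₀ : Scheme.{u}) := ⟨y, hy⟩
  obtain ⟨z, hz1, hz2⟩ := Scheme.Pullback.exists_preimage_pullback (f := Y₀.ι) (g := f) y₀ x rfl
  let g₁ : (U₁ : Scheme.{u}) ⟶ X := U₁.ι ≫ g
  let q1 : pullback g₁ p2 ⟶ (U₁ : Scheme.{u}) := pullback.fst g₁ p2
  let q2 : pullback g₁ p2 ⟶ P := pullback.snd g₁ p2
  haveI : Etale q2 := inferInstanceAs (Etale (pullback.snd g₁ p2))
  haveI : Etale p2 := inferInstanceAs (Etale (pullback.snd Y₀.ι f))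
  let U₁P : X.Etale := Scheme.Etale.mk (q2 ≫ p2)
  let a₁ : U₁P ⟶ Z0 := MorphismProperty.Over.homMk q2 rfl
  let T : Sieve Z0 :=
    { arrows := fun W a => ∃ b : W ⟶ U₁P, b ≫ a₁ = a
      downward_closed := by
        rintro W W' a ⟨b, rfl⟩ c
        exact ⟨c ≫ b, Category.assoc _ _ _⟩ }
  have hT : T ∈ X.smallEtaleTopology Z0 := by
    rw [mem_smallEtale_iff]
    intro p
    let p' : P := p
    have h3 : p2 p' ∈ E := by
      by_contra hnE
      have h5 : f (p2 p') ∈ f '' C := ⟨_, hnE, rfl⟩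
      have h6 : f (p2 p') = Y₀.ι (p1 p') := by
        rw [← Scheme.Hom.comp_apply, ← Scheme.Hom.comp_apply, pullback.condition]
      rw [h6] at h5
      exact (p1 p').2 h5
    obtain ⟨u', hu', hgu'⟩ := h3
    obtain ⟨w, -, hw2⟩ := Scheme.Pullback.exists_preimage_pullback (f := g₁) (g := p2)
      (⟨u', hu'⟩ : (U₁ : Scheme.{u})) p' hgu'
    exact ⟨U₁P, a₁, w, ⟨𝟙 _, Category.id_comp _⟩, hw2⟩
  obtain ⟨Ω, _, _, η, x₀, hx₀⟩ := exists_geometric_point V0 y₀
  obtain ⟨V, gV, xV, hxV, n, W, hd, hc, hW⟩ :=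
    Groth.Agent.Lib.Seat1.IntSplit.exists_disjoint_refinement f η V0 x₀ T hT
  let Z : X.Etale := (EtCoh.bc f).obj V
  let P' : Scheme.{u} := pullback V.hom f
  let um : P' ⟶ P := ((EtCoh.bc f).map gV).left
  have hum2 : um ≫ p2 = pullback.snd V.hom f := bc_map_left_snd f gV
  have sq := EtCoh.isPullback_bc_map f gV
  let v₀ : V.left := (xV.left : Spec (CommRingCat.of Ω) ⟶ V.left) (default : Spec (CommRingCat.of Ω))
  have hv₀ : gV.left v₀ = y₀ := by
    have e3 : xV.left ≫ gV.left = x₀.left := congrArg (fun m => m.left) hxV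
    rw [← hx₀]
    exact congrArg (fun m : Spec (CommRingCat.of Ω) ⟶ V0.left => m default) e3
  obtain ⟨w₀, hw₀1, -⟩ := Scheme.Pullback.exists_preimage_pullback
    (f := (pullback.fst V0.hom f : Z0.left ⟶ V0.left)) (g := gV.left) z v₀ (hz1.trans hv₀.symm)
  let w : P' := sq.isoPullback.inv w₀
  have hw : um w = z := by
    have e := sq.isoPullback_inv_fst
    have e' : um w = (sq.isoPullback.inv ≫ ((EtCoh.bc f).map gV).left) w₀ := rfl
    rw [e', e]
    exact hw₀1
  let Wf : Fin n → P'.Opens := W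
  choose b hb using hW
  let bl : ∀ k, (Wf k : Scheme.{u}) ⟶ pullback g₁ p2 := fun k => (b k).left
  have hb' : ∀ k, bl k ≫ q2 = (Wf k).ι ≫ um := fun k => congrArg (fun m => m.left) (hb k)
  let hk : ∀ k, (Wf k : Scheme.{u}) ⟶ U := fun k => bl k ≫ q1 ≫ U₁.ι
  have hhk : ∀ k, hk k ≫ g = (Wf k).ι ≫ pullback.snd V.hom f := by
    intro k
    change (bl k ≫ q1 ≫ U₁.ι) ≫ g = _
    have hcond : q1 ≫ g₁ = q2 ≫ p2 := pullback.condition
    calc (bl k ≫ q1 ≫ U₁.ι) ≫ g = bl k ≫ (q1 ≫ g₁) := by simp only [Category.assoc, g₁]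
      _ = (bl k ≫ q2) ≫ p2 := by rw [hcond, Category.assoc]
      _ = (Wf k).ι ≫ (um ≫ p2) := by rw [hb' k, Category.assoc]
      _ = (Wf k).ι ≫ pullback.snd V.hom f := by rw [hum2]
  obtain ⟨H, hH⟩ := exists_glue_disjoint Wf hd hc hk
  have hcov : TopologicalSpace.IsOpenCover Wf := by
    change iSup Wf = ⊤
    rw [eq_top_iff]
    intro t _
    obtain ⟨k, hk'⟩ := hc t
    exact TopologicalSpace.Opens.mem_iSup.2 ⟨k, hk'⟩
  have hHg : H ≫ g = pullback.snd V.hom f := by
    apply (P'.openCoverOfIsOpenCover Wf hcov).hom_ext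
    intro k
    change (Wf k).ι ≫ H ≫ g = (Wf k).ι ≫ pullback.snd V.hom f
    rw [← Category.assoc, hH, hhk]
  refine ⟨V, H, hHg, ?_⟩
  obtain ⟨k, hwk⟩ := hc w
  let wk : (Wf k : Scheme.{u}) := ⟨w, hwk⟩
  have e1 : H w = hk k wk := by
    have : H ((Wf k).ι wk) = ((Wf k).ι ≫ H) wk := (Scheme.Hom.comp_apply _ _ _).symm
    rw [hH] at this
    exact this
  have ht1 : hk k wk ∈ U₁ := by
    change (bl k ≫ q1 ≫ U₁.ι) wk ∈ U₁
    rw [← Category.assoc, Scheme.Hom.comp_apply]
    exact ((bl k ≫ q1) wk).2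
  have ht2 : g (hk k wk) = g u := by
    rw [← Scheme.Hom.comp_apply, hhk, ← hum2, ← Category.assoc, Scheme.Hom.comp_apply,
      Scheme.Hom.comp_apply]
    change p2 (um w) = x
    rw [hw, hz2]
  exact ⟨w, e1.trans (hU₁ _ ht1 ht2)⟩

set_option backward.isDefEq.respectTransparency.types false in
set_option maxHeartbeats 1600000 in
/-- **Condition (C) holds for integral morphisms that are injective** (in particular closed topological embeddings). -/
theorem propC_of_injective (hinj : Function.Injective f) : BigSite.PropC f := by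
  intro U g _
  choose V h hh hu using fun u : U => exists_full_piece f hinj g u
  let G : U → Scheme.{u} := fun u => (V u).left
  let VV : Scheme.{u} := ∐ G
  let v : VV ⟶ Y := Sigma.desc fun u => (V u).hom
  have hιv : ∀ u, Sigma.ι G u ≫ v = (V u).hom := fun u => Sigma.ι_desc _ _
  haveI : Etale v := IsZariskiLocalAtSource.sigmaDesc (fun u => inferInstanceAs (Etale (V u).hom))
  let Q : Scheme.{u} := pullback f v
  let s1 : Q ⟶ X := pullback.fst f v
  let s2 : Q ⟶ VV := pullback.snd f v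
  have hs : s1 ≫ f = s2 ≫ v := pullback.condition
  let W : U → Q.Opens := fun u => s2 ⁻¹ᵁ (Sigma.ι G u).opensRange
  have hd : ∀ k l, k ≠ l → Disjoint (W k) (W l) := by
    intro k l hkl
    have := disjoint_opensRange_sigmaι G k l hkl
    rw [← TopologicalSpace.Opens.coe_disjoint] at this ⊢
    exact this.preimage _
  have hc : ∀ z : Q, ∃ k, z ∈ W k := by
    intro z
    obtain ⟨k, t, ht⟩ := (sigmaOpenCover G).exists_eq (s2 z)
    exact ⟨k, t, ht⟩
  -- the maps on the pieces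
  have hrange : ∀ u, Set.range ⇑((W u).ι ≫ s2) ⊆ Set.range ⇑(Sigma.ι G u) := by
    rintro u _ ⟨t, rfl⟩
    rw [Scheme.Hom.comp_apply]
    exact t.2
  let m2 : ∀ u, (W u : Scheme.{u}) ⟶ G u := fun u =>
    IsOpenImmersion.lift (Sigma.ι G u) ((W u).ι ≫ s2) (hrange u)
  have hm2 : ∀ u, m2 u ≫ Sigma.ι G u = (W u).ι ≫ s2 := fun u => IsOpenImmersion.lift_fac _ _ _
  let κ : ∀ u, (W u : Scheme.{u}) ⟶ pullback (V u).hom f := fun u =>
    pullback.lift (m2 u) ((W u).ι ≫ s1) (by
      rw [← hιv u, ← Category.assoc, hm2 u, Category.assoc, Category.assoc, hs])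
  have hκ1 : ∀ u, κ u ≫ pullback.fst (V u).hom f = m2 u := fun u => pullback.lift_fst _ _ _
  have hκ2 : ∀ u, κ u ≫ pullback.snd (V u).hom f = (W u).ι ≫ s1 := fun u => pullback.lift_snd _ _ _
  let hk : ∀ u, (W u : Scheme.{u}) ⟶ U := fun u => κ u ≫ h u
  obtain ⟨H, hH⟩ := exists_glue_disjoint W hd hc hk
  have hcov : TopologicalSpace.IsOpenCover W := by
    change iSup W = ⊤
    rw [eq_top_iff]
    intro t _
    obtain ⟨k, hk'⟩ := hc t
    exact TopologicalSpace.Opens.mem_iSup.2 ⟨k, hk'⟩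
  have hHg : H ≫ g = s1 := by
    apply (Q.openCoverOfIsOpenCover W hcov).hom_ext
    intro u'
    let u : U := u'
    change (W u).ι ≫ H ≫ g = (W u).ι ≫ s1
    let hu' : pullback (V u).hom f ⟶ U := h u
    have e : hu' ≫ g = pullback.snd (V u).hom f := hh u
    calc (W u).ι ≫ H ≫ g = ((W u).ι ≫ H) ≫ g := (Category.assoc _ _ _).symm
      _ = (κ u ≫ hu') ≫ g := by rw [hH]
      _ = κ u ≫ (hu' ≫ g) := Category.assoc _ _ _
      _ = κ u ≫ pullback.snd (V u).hom f := by rw [e]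
      _ = (W u).ι ≫ s1 := hκ2 u
  refine ⟨VV, v, inferInstance, H, hHg, ⟨fun u₀ => ?_⟩⟩
  obtain ⟨w, hw⟩ := hu u₀
  let w' : ↥(pullback (V u₀).hom f) := w
  let lam : pullback (V u₀).hom f ⟶ Q :=
    pullback.lift (pullback.snd (V u₀).hom f) (pullback.fst (V u₀).hom f ≫ Sigma.ι G u₀) (by
      rw [Category.assoc, hιv u₀, pullback.condition])
  have hlam1 : lam ≫ s1 = pullback.snd (V u₀).hom f := pullback.lift_fst _ _ _
  have hlam2 : lam ≫ s2 = pullback.fst (V u₀).hom f ≫ Sigma.ι G u₀ := pullback.lift_snd _ _ _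
  have hlr : Set.range ⇑lam ⊆ Set.range ⇑(W u₀).ι := by
    rintro _ ⟨t, rfl⟩
    rw [Scheme.Opens.range_ι]
    change s2 (lam t) ∈ (Sigma.ι G u₀).opensRange
    rw [← Scheme.Hom.comp_apply, hlam2, Scheme.Hom.comp_apply]
    exact ⟨_, rfl⟩
  let lam' : pullback (V u₀).hom f ⟶ (W u₀ : Scheme.{u}) := IsOpenImmersion.lift (W u₀).ι lam hlr
  have hlam' : lam' ≫ (W u₀).ι = lam := IsOpenImmersion.lift_fac _ _ _
  have hsec : lam' ≫ κ u₀ = 𝟙 _ := by
    apply pullback.hom_ext
    · rw [Category.assoc, hκ1, Category.id_comp, ← cancel_mono (Sigma.ι G u₀), Category.assoc, hm2,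
        ← Category.assoc, hlam', hlam2]
    · rw [Category.assoc, hκ2, Category.id_comp, ← Category.assoc, hlam', hlam1]
  refine ⟨lam w', ?_⟩
  have e1 : H (lam w') = ((W u₀).ι ≫ H) (lam' w') := by
    rw [Scheme.Hom.comp_apply, ← Scheme.Hom.comp_apply lam', hlam']
  rw [e1, hH]
  change (κ u₀ ≫ h u₀) (lam' w') = u₀
  rw [Scheme.Hom.comp_apply, ← Scheme.Hom.comp_apply lam', hsec]
  exact hw

/-- **Condition (C) holds for integral morphisms that are closed topological embeddings.** -/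
theorem propC (hf : Topology.IsClosedEmbedding f.base) : BigSite.PropC f :=
  propC_of_injective f hf.injective

end Groth.Agent.Lib.Seat1.IntPropC
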