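import Mathlib
import Groth.Prelude.Def_EtBaseX
import Groth.Agent.Lib.Seat1IntSplit
import Groth.Agent.Lib.Seat1FinPush

/-!
# Direct image along an integral morphism is exact on abelian étale sheaves (seat 1)
-/

set_option autoImplicit false
set_option linter.style.haveILetI false
set_option linter.unusedSectionVars false
universe u
open CategoryTheory CategoryTheory.Limits AlgebraicGeometry Opposite

namespace Groth.Agent.Lib.Seat1.IntPush

open Groth.Agent.Lib.Seat1.FinSplit Groth.Agent.Lib.Seat1.DisjCover Groth.Agent.Lib.Helper16.SmallEtale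
  Groth.Agent.Lib.Helper16.EtStalk Groth.Agent.Lib.Seat1.FinPush

section Push

variable {X Y : Scheme.{u}} (f : X ⟶ Y) [IsIntegralHom f]

/-- **Direct image along an integral morphism preserves epimorphisms of abelian étale sheaves.** -/
theorem epi_push_map {E G : EtCoh.Ab X} (e : E ⟶ G) [Epi e] : Epi ((EtCoh.push f).map e) := by
  haveI : Sheaf.IsLocallySurjective e := (Sheaf.isLocallySurjective_iff_epi' _ e).mpr inferInstance
  rw [← Sheaf.isLocallySurjective_iff_epi']
  constructor
  intro V0 s
  rw [mem_smallEtale_iff]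
  intro p
  obtain ⟨Ω, _, _, η, x₀, hx₀⟩ := exists_geometric_point V0 p
  let Z0 : X.Etale := (EtCoh.bc f).obj V0
  let s' : ToType (G.obj.obj (op Z0)) := s
  have hT := Presheaf.imageSieve_mem X.smallEtaleTopology e.hom s'
  obtain ⟨V, g, x, hx, n, W, hdisj, hcov, hW⟩ := Groth.Agent.Lib.Seat1.IntSplit.exists_disjoint_refinement f η V0 x₀ _ hT
  let Z : X.Etale := (EtCoh.bc f).obj V
  choose t ht using hW
  obtain ⟨t', ht', -⟩ := existsUnique_glue_opens (E.obj ⋙ forget _) (isSheaf_forget E) Z W hdisj hcov t
  obtain ⟨t'', -, huniq⟩ := existsUnique_glue_opens (G.obj ⋙ forget _) (isSheaf_forget G) Z W hdisj hcov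
    (fun i => G.obj.map (opnIn Z (W i) ≫ (EtCoh.bc f).map g).op s')
  refine ⟨V, g, (x.left : Spec (CommRingCat.of Ω) ⟶ V.left) (default : Spec (CommRingCat.of Ω)),
    ⟨t', ?_⟩, ?_⟩
  · change e.hom.app (op Z) t' = G.obj.map ((EtCoh.bc f).map g).op s'
    rw [huniq (e.hom.app _ t') ?_, huniq (G.obj.map ((EtCoh.bc f).map g).op s') ?_]
    · intro i
      change G.obj.map (opnIn Z (W i)).op (G.obj.map ((EtCoh.bc f).map g).op s') = _
      rw [← ConcreteCategory.comp_apply, ← G.obj.map_comp, ← op_comp]
    · intro i
      have hnat := ConcreteCategory.congr_hom (e.hom.naturality (opnIn Z (W i)).op) t'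
      have hti : E.obj.map (opnIn Z (W i)).op t' = t i := ht' i
      change G.obj.map (opnIn Z (W i)).op (e.hom.app _ t') = _
      have : G.obj.map (opnIn Z (W i)).op (e.hom.app _ t') =
          e.hom.app _ (E.obj.map (opnIn Z (W i)).op t') := hnat.symm
      rw [this, hti]
      exact ht i
  · have e3 : x.left ≫ g.left = x₀.left := congrArg (fun m => m.left) hx
    rw [← hx₀]
    exact congrArg (fun m : Spec (CommRingCat.of Ω) ⟶ V0.left => m default) e3

/-- direct image along an integral morphism is an exact functor -/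
theorem preservesHomology_push : (EtCoh.push f).PreservesHomology := by
  haveI : (EtCoh.push f).PreservesEpimorphisms := ⟨fun e _ => epi_push_map f e⟩
  haveI : PreservesLimits (EtCoh.push f) := (EtCoh.pullPushAdj f).rightAdjoint_preservesLimits
  exact Functor.preservesHomology_of_preservesEpis_and_kernels _

/-- **Higher direct images along an integral morphism vanish.** -/
theorem isZero_Rpush (F : EtCoh.Ab X) (q : ℕ) (hq : 1 ≤ q) : IsZero ((EtCoh.Rpush f q).obj F) := by
  obtain ⟨n, rfl⟩ : ∃ n, q = n + 1 := ⟨q - 1, by omega⟩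
  haveI := preservesHomology_push f
  let I := injectiveResolution F
  refine IsZero.of_iso ?_ (I.isoRightDerivedObj (EtCoh.push f) (n + 1))
  have h : (I.cocomplex).ExactAt (n + 1) := I.cocomplex_exactAt_succ n
  have h' : (((EtCoh.push f).mapHomologicalComplex _).obj I.cocomplex).ExactAt (n + 1) :=
    ShortComplex.Exact.map h (EtCoh.push f)
  exact (HomologicalComplex.exactAt_iff_isZero_homology _ _).1 h'

end Push

end Groth.Agent.Lib.Seat1.IntPush
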