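import Mathlib
import Groth.Prelude.Def_Coh
import Groth.Agent.Lib.Helper9TopColimSch
import Groth.Agent.Lib.Helper23Serre
import Groth.Agent.S0484
import Groth.Agent.S0862

/-!
# Zariski cohomology of O-modules on a qcqs scheme commutes with coproducts (seat 1)

Elementwise version, built on `Groth.Agent.S0862.main` (`GoodExt`).
-/

set_option autoImplicit false
set_option linter.style.haveILetI false
universe u
open CategoryTheory CategoryTheory.Limits AlgebraicGeometry Opposite TopologicalSpace Abelian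

namespace Groth.Agent.Lib.Seat1.QAffColim

section Abstract

variable {ℬ : Type*} [Category ℬ] [HasZeroMorphisms ℬ]

lemma isZero_of_isColimit {K : Type*} [Category K] {D : K ⥤ ℬ} {c : Cocone D} (hc : IsColimit c)
    (h : ∀ k, IsZero (D.obj k)) : IsZero c.pt := by
  rw [IsZero.iff_id_eq_zero]
  exact hc.hom_ext (fun k => (h k).eq_of_src _ _)

end Abstract

section Top

open Groth.Agent.Lib.Helper9.TopColim Groth.Agent.Lib.Helper16.FiltColim

variable {X : TopCat.{u}}

/-- elementwise commutation of `H^p(U, -)` with filtered colimits, for `U` compact open in a space with a basis of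
compact opens, inside a quasi-separated open `W` -/
theorem goodExt_of_compact (hB : Opens.IsBasis {U : Opens X | IsCompact (U : Set X)})
    (W : Opens X) (hW : IsQuasiSeparated (W : Set X)) (U : Opens X) (hU : U ∈ BB W) (p : ℕ)
    (I : Type u) [SmallCategory I] [IsFiltered I]
    (F : I ⥤ Sheaf (Opens.grothendieckTopology X) AddCommGrpCat.{u}) :
    GoodExt.{u} (CohCx.freeSheaf (Opens.grothendieckTopology X) U) p (colimit.cocone F) := by
  refine Groth.Agent.S0862.main (Opens.grothendieckTopology X) (BB W) (Cov W) ?_ ?_ p U hU I F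
  · intro U ι Y hc
    obtain ⟨hfin, hU, hcov, hY⟩ := hc
    refine ⟨hfin, hU, hcov, fun p a => ?_⟩
    let P : Over U := ∏ᶜ fun k => Y (a k)
    have h1 : ∀ k, P.left ≤ (Y (a k)).left := fun k => leOfHom (Pi.π (fun k => Y (a k)) k).left
    have h2 : ((P.left : Opens X) : Set X) = ⋂ k, (((Y (a k)).left : Opens X) : Set X) := by
      apply Set.Subset.antisymm
      · intro x hx
        simp only [Set.mem_iInter]
        exact fun k => h1 k hx
      · intro x hx
        simp only [Set.mem_iInter] at hx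
        let Q : Opens X := ⟨⋂ k, (((Y (a k)).left : Opens X) : Set X),
          isOpen_iInter_of_finite (fun k => ((Y (a k)).left).2)⟩
        have hQU : Q ≤ U := fun y hy => leOfHom (Y (a 0)).hom (Set.mem_iInter.1 hy 0)
        let Q' : Over U := Over.mk (homOfLE hQU)
        let φ : Q' ⟶ P := Pi.lift (fun k => Over.homMk (homOfLE (fun y hy => Set.mem_iInter.1 hy k)))
        exact leOfHom φ.left (Set.mem_iInter.2 hx)
    refine ⟨(h1 0).trans (hY _).1, ?_⟩
    rw [h2]
    exact isCompact_iInter_fin (W : Set X) hW p (fun k => (Y (a k)).left) (fun k => (hY _).1)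
      (fun k => (hY _).2)
  · intro U hU T hT
    rw [Opens.mem_grothendieckTopology] at hT
    choose V f hfT hxV using hT
    have hK : ∀ (x : X) (hx : x ∈ U), ∃ K : Opens X, IsCompact (K : Set X) ∧ x ∈ K ∧ K ≤ V x hx := by
      intro x hx
      obtain ⟨K, hK, hxK, hKV⟩ := (Opens.isBasis_iff_nbhd.1 hB) (hxV x hx)
      exact ⟨K, hK, hxK, hKV⟩
    choose K hKc hxK hKV using hK
    obtain ⟨t, ht⟩ := hU.2.elim_finite_subcover (fun x : U => ((K x.1 x.2 : Opens X) : Set X))
      (fun x => (K x.1 x.2).2) (fun x hx => Set.mem_iUnion.2 ⟨⟨x, hx⟩, hxK x hx⟩)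
    have hKU : ∀ x : U, K x.1 x.2 ≤ U := fun x => (hKV x.1 x.2).trans (leOfHom (f x.1 x.2))
    refine ⟨t, fun x => Over.mk (homOfLE (hKU x.1)), ⟨inferInstance, hU, ?_, ?_⟩, ?_⟩
    · rw [Opens.mem_grothendieckTopology]
      intro y hy
      obtain ⟨x, hx⟩ := Set.mem_iUnion.1 (ht hy)
      obtain ⟨hxt, hyK⟩ := Set.mem_iUnion.1 hx
      exact ⟨_, homOfLE (hKU x), Sieve.ofArrows_mk _ _ (⟨x, hxt⟩ : t), hyK⟩
    · intro x
      exact ⟨(hKU x.1).trans hU.1, hKc _ _⟩
    · intro x
      have := T.downward_closed (hfT x.1.1 x.1.2) (homOfLE (hKV x.1.1 x.1.2))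
      change T.arrows (homOfLE (hKU x.1))
      have e : homOfLE (hKU x.1) = homOfLE (hKV x.1.1 x.1.2) ≫ f x.1.1 x.1.2 :=
        Subsingleton.elim _ _
      rw [e]; exact this

end Top

section Scheme

open Groth.Agent.Lib.Helper23.AffVanish Groth.Agent.Lib.Helper23.QCohLocal
open Groth.Agent.Lib.Helper16.FiltColim
open CoproductsFromFiniteFiltered

variable (X : Scheme.{u}) [CompactSpace X] [QuasiSeparatedSpace X]

/-- `F ↦ H^p(X, F)` on abelian sheaves (Ext out of `ℤ_X`) -/
noncomputable abbrev TT (p : ℕ) : CohTop.Ab X.carrier ⥤ AddCommGrpCat.{u} :=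
  extFunctorObj (ZU (X := X.carrier) ⊤) p

lemma isZero_TT_iff (p : ℕ) (G : CohTop.Ab X.carrier) :
    IsZero ((TT X p).obj G) ↔ Subsingleton (HE G p ⊤) :=
  ⟨fun h => AddCommGrpCat.subsingleton_of_isZero h, fun h => by
    haveI : Subsingleton ↑((TT X p).obj G) := h
    exact AddCommGrpCat.isZero_of_subsingleton _⟩

lemma goodExt_top (p : ℕ) (I : Type u) [SmallCategory I] [IsFiltered I]
    (F : I ⥤ CohTop.Ab X.carrier) :
    GoodExt.{u} (ZU (X := X.carrier) ⊤) p (colimit.cocone F) := by
  refine goodExt_of_compact (Groth.Agent.Lib.Helper9.TopColim.isBasis_compact X) ⊤ ?_ ⊤ ⟨le_rfl, ?_⟩ p I F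
  · simpa using (isQuasiSeparated_univ (α := X))
  · simpa using (CompactSpace.isCompact_univ (X := X))

/-- a filtered colimit of abelian sheaves with vanishing `H^p` has vanishing `H^p` -/
lemma subsingleton_HE_colimit (p : ℕ) (I : Type u) [SmallCategory I] [IsFiltered I]
    (F : I ⥤ CohTop.Ab X.carrier) (h : ∀ i, Subsingleton (HE (F.obj i) p ⊤)) :
    Subsingleton (HE (colimit F) p ⊤) := by
  have g := goodExt_top X p I F
  have key : ∀ x : HE (colimit F) p ⊤, x = 0 := fun x => by
    obtain ⟨i, y, rfl⟩ := g.surj x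
    rw [@Subsingleton.elim _ (h i) y 0, map_zero]
  exact ⟨fun a b => (key a).trans (key b).symm⟩

/-- cohomology of a coproduct of abelian sheaves with vanishing cohomology vanishes -/
lemma isZero_TT_sigma (p : ℕ) {ι : Type u} (G : ι → CohTop.Ab X.carrier)
    (h : ∀ i, IsZero ((TT X p).obj (G i))) : IsZero ((TT X p).obj (∐ G)) := by
  let D := liftToFinsetObj (Discrete.functor G)
  have e : colimit D ≅ ∐ G :=
    (colimit.isColimit D).coconePointUniqueUpToIso (isColimitFiniteSubproductsCocone G)
  have hstage : ∀ s, Subsingleton (HE (D.obj s) p ⊤) := fun s => by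
    rw [← isZero_TT_iff]
    change IsZero ((TT X p).obj (∐ fun x : s => G x.1.as))
    haveI : PreservesColimitsOfShape (Discrete s) (TT X p) := inferInstance
    have hc' := isColimitOfPreserves (TT X p)
      (colimit.isColimit (Discrete.functor (fun x : s => G x.1.as)))
    exact isZero_of_isColimit hc' (fun k => h _)
  have hc := subsingleton_HE_colimit X p _ D hstage
  rw [← isZero_TT_iff] at hc
  exact IsZero.of_iso hc ((TT X p).mapIso e.symm)

lemma subsingleton_HH_iff (p : ℕ) (M : X.Modules) :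
    Subsingleton (Coh.HH X M p) ↔ IsZero ((TT X p).obj ((toAbF X).obj M)) := by
  rw [isZero_TT_iff]
  exact (HETopEquivH X.carrier ((toAbF X).obj M) p).symm.toEquiv.subsingleton_congr

/-- cohomology of a coproduct of modules with vanishing cohomology vanishes -/
lemma subsingleton_HH_sigma (p : ℕ) {ι : Type u} (M : ι → X.Modules)
    (h : ∀ i, Subsingleton (Coh.HH X (M i) p)) : Subsingleton (Coh.HH X (∐ M) p) := by
  haveI : PreservesColimitsOfShape (Discrete ι) (toAbF X) :=
    Groth.Agent.S0484.preservesColimitsOfShape_toSheaf _ X.ringCatSheaf (Discrete ι)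
  rw [subsingleton_HH_iff]
  have e : (toAbF X).obj (∐ M) ≅ ∐ fun i => (toAbF X).obj (M i) := PreservesCoproduct.iso (toAbF X) M
  refine IsZero.of_iso ?_ ((TT X p).mapIso e)
  exact isZero_TT_sigma X p _ (fun i => (subsingleton_HH_iff X p (M i)).1 (h i))

end Scheme

end Groth.Agent.Lib.Seat1.QAffColim
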