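import Mathlib
import Groth.Agent.Lib.Seat1QAffColim
import Groth.Agent.S0016
import Groth.Agent.S0009
import Groth.Agent.S4407

/-!
# A quasi-affine scheme with `H^p(X, O_X) = 0` for `p > 0` is affine (seat 1)
-/

set_option autoImplicit false
set_option linter.style.haveILetI false
universe u
open CategoryTheory CategoryTheory.Limits AlgebraicGeometry Opposite TopologicalSpace Abelian

namespace Groth.Agent.Lib.Seat1.QAff

open Groth.Agent.Lib.Helper23.AffVanish Groth.Agent.Lib.Helper23.QCohLocal
open Groth.Agent.Lib.Seat1.QAffColim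

variable (X : Scheme.{u})

/-- long exact sequence step: `H^p(X₂) = 0` and `H^{p+1}(X₁) = 0` imply `H^p(X₃) = 0` -/
lemma subsingleton_HH_X₃ (S : ShortComplex X.Modules) (hS : S.ShortExact) (p : ℕ)
    (h2 : Subsingleton (Coh.HH X S.X₂ p)) (h1 : Subsingleton (Coh.HH X S.X₁ (p + 1))) :
    Subsingleton (Coh.HH X S.X₃ p) := by
  have hS' := shortExact_toAbF S hS
  have key : ∀ c : Coh.HH X S.X₃ p, c = 0 := by
    intro c
    obtain ⟨x₂, hx₂⟩ := Ext.covariant_sequence_exact₃ _ hS' c rfl (@Subsingleton.elim _ h1 _ _)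
    have : x₂ = 0 := @Subsingleton.elim _ h2 _ _
    rw [← hx₂, this, Ext.zero_comp]
    rfl
  exact ⟨fun a b => (key a).trans (key b).symm⟩

variable [X.IsQuasiAffine]

instance : CompactSpace X := inferInstance

/-- vanishing for free modules -/
lemma subsingleton_HH_free (h : ∀ p : ℕ, 0 < p → Subsingleton (Coh.HH X (Coh.structureModule X) p))
    (ι : Type u) (p : ℕ) (hp : 0 < p) :
    Subsingleton (Coh.HH X (SheafOfModules.free ι : X.Modules) p) :=
  subsingleton_HH_sigma X p (fun _ : ι => Coh.structureModule X) (fun _ => h p hp)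

omit [X.IsQuasiAffine] in
/-- dimension shifting along an epimorphism from a module with vanishing `H^p` -/
lemma step_aux (p : ℕ)
    (ih : ∀ F : X.Modules, Coh.IsQCoh F → Subsingleton (Coh.HH X F (p + 1)))
    (G F : X.Modules) (π : G ⟶ F) (hπ : Epi π) (hG : G.IsQuasicoherent) (hF : F.IsQuasicoherent)
    (hGp : Subsingleton (Coh.HH X G p)) : Subsingleton (Coh.HH X F p) := by
  have hK : (kernel π).IsQuasicoherent := isQuasicoherent_kernel π
  let S : ShortComplex X.Modules := ShortComplex.mk (kernel.ι π) π (kernel.condition π)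
  have hS : S.ShortExact :=
    { exact := ShortComplex.exact_kernel π
      mono_f := inferInstanceAs (Mono (kernel.ι π))
      epi_g := hπ }
  exact subsingleton_HH_X₃ X S hS p hGp (ih (kernel π) hK)

/-- descending induction step -/
lemma step (h : ∀ p : ℕ, 0 < p → Subsingleton (Coh.HH X (Coh.structureModule X) p)) (p : ℕ) (hp : 0 < p)
    (ih : ∀ F : X.Modules, Coh.IsQCoh F → Subsingleton (Coh.HH X F (p + 1)))
    (F : X.Modules) (hF : Coh.IsQCoh F) : Subsingleton (Coh.HH X F p) := by
  obtain ⟨ι, π, hπ⟩ := Groth.Agent.S4407.result X F hF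
  exact step_aux X p ih _ F π hπ inferInstance hF (subsingleton_HH_free X h ι p hp)

/-- vanishing of all higher cohomology of quasi-coherent modules -/
theorem subsingleton_HH_of_structure
    (h : ∀ p : ℕ, 0 < p → Subsingleton (Coh.HH X (Coh.structureModule X) p)) (p : ℕ) (hp : 0 < p)
    (F : X.Modules) (hF : Coh.IsQCoh F) : Subsingleton (Coh.HH X F p) := by
  obtain ⟨d, hd⟩ := Groth.Agent.S0016.result X
  have key : ∀ k p : ℕ, 0 < p → d ≤ p + k → ∀ F : X.Modules, Coh.IsQCoh F →
      Subsingleton (Coh.HH X F p) := by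
    intro k
    induction k with
    | zero => exact fun p _ hdp F hF => hd F hF p hdp
    | succ k ih =>
      intro p hp hdp F hF
      exact step X h p hp (fun G hG => ih (p + 1) (Nat.succ_pos p) (by omega) G hG) F hF
  exact key d p hp (by omega) F hF

/-- **A quasi-affine scheme with vanishing higher cohomology of the structure sheaf is affine.** -/
theorem isAffine_of_subsingleton_HH
    (h : ∀ p : ℕ, 0 < p → Subsingleton (Coh.HH X (Coh.structureModule X) p)) : IsAffine X :=
  Groth.Agent.S0009.result X (fun I _ _ hI => subsingleton_HH_of_structure X h 1 Nat.one_pos I hI)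

end Groth.Agent.Lib.Seat1.QAff
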