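import Mathlib
import Groth.Prelude.Def_EtBase
import Groth.Agent.Lib.Helper16SmallEtale

/-!
# The constant étale sheaf is the sheaf of locally constant functions (seat 3)

* `lcPre X M`, `lcSheaf X M`: the (pre)sheaf `V ↦ LocallyConstant |V| M` on the small étale site
  (values lifted to `AddCommGrpCat.{u+1}`); `lcPre_isSheaf`.
* `eta X M`: constants as locally constant functions; it is locally bijective.
* `constIso X M : EtCoh.const X M ≅ lcSheaf X M`.
* `const_map_bijective_iff`: a restriction map of `EtCoh.const X M` is bijective iff the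
  corresponding restriction of locally constant functions (`res`) is.
* `fp`, `fpFst`, `fpSnd`, `exists_fp_point`: fibre products `W ×_V W'` in `X.Etale` and their points.
-/

set_option autoImplicit false
universe u
open CategoryTheory CategoryTheory.Limits AlgebraicGeometry Opposite

namespace Groth.Agent.Lib.Seat3.EtConstLC

variable (X : Scheme.{u}) (M : Type) [AddCommGroup M]

/-- restriction of locally constant functions along a morphism of étale `X`-schemes -/
noncomputable def res {V W : X.Etale} (f : W ⟶ V) :
    LocallyConstant V.left M →+ LocallyConstant W.left M :=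
  LocallyConstant.comapAddMonoidHom ⟨f.left, f.left.continuous⟩

@[simp]
lemma res_apply {V W : X.Etale} (f : W ⟶ V) (s : LocallyConstant V.left M) (w : W.left) :
    res X M f s w = s (f.left w) := rfl

/-- the presheaf of locally constant `M`-valued functions on the small étale site -/
noncomputable def lcPre : X.Etaleᵒᵖ ⥤ AddCommGrpCat.{u + 1} where
  obj V := AddCommGrpCat.of (ULift.{u + 1} (LocallyConstant V.unop.left M))
  map {V W} f := AddCommGrpCat.ofHom
    (AddEquiv.ulift.symm.toAddMonoidHom.comp
      ((res X M f.unop).comp AddEquiv.ulift.toAddMonoidHom))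
  map_id V := by
    ext ⟨s⟩ w
    rfl
  map_comp f g := by
    ext ⟨s⟩ w
    rfl

@[simp]
lemma lcPre_map_apply {V W : X.Etaleᵒᵖ} (f : V ⟶ W) (s : ULift.{u + 1} (LocallyConstant V.unop.left M))
    (w : W.unop.left) :
    ((lcPre X M).map f s).down w = s.down (f.unop.left w) := rfl

section FibreProduct

variable {X}

/-- fibre product `W ×_V W'` of étale `X`-schemes, as an étale `X`-scheme -/
noncomputable def fp {V W W' : X.Etale} (f : W ⟶ V) (f' : W' ⟶ V) : X.Etale :=
  Scheme.Etale.mk (pullback.fst f.left f'.left ≫ W.hom)

/-- first projection -/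
noncomputable def fpFst {V W W' : X.Etale} (f : W ⟶ V) (f' : W' ⟶ V) : fp f f' ⟶ W :=
  MorphismProperty.Over.homMk (pullback.fst f.left f'.left) rfl

/-- second projection -/
noncomputable def fpSnd {V W W' : X.Etale} (f : W ⟶ V) (f' : W' ⟶ V) : fp f f' ⟶ W' :=
  MorphismProperty.Over.homMk (pullback.snd f.left f'.left) (by
    show pullback.snd f.left f'.left ≫ W'.hom = pullback.fst f.left f'.left ≫ W.hom
    have h1 : f'.left ≫ V.hom = W'.hom := CategoryTheory.Over.w f'.hom
    have h2 : f.left ≫ V.hom = W.hom := CategoryTheory.Over.w f.hom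
    rw [← h1, ← h2]
    exact (pullback.condition_assoc _).symm)

lemma fp_condition {V W W' : X.Etale} (f : W ⟶ V) (f' : W' ⟶ V) :
    fpFst f f' ≫ f = fpSnd f f' ≫ f' := by
  apply MorphismProperty.Over.Hom.ext
  exact pullback.condition

lemma exists_fp_point {V W W' : X.Etale} (f : W ⟶ V) (f' : W' ⟶ V) (w : W.left) (w' : W'.left)
    (h : f.left w = f'.left w') :
    ∃ z : (fp f f').left, (fpFst f f').left z = w ∧ (fpSnd f f').left z = w' :=
  Scheme.Pullback.exists_preimage_pullback (f := f.left) (g := f'.left) w w' h

end FibreProduct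

/-- evaluation of a section of the underlying presheaf of sets -/
def dn {W' : X.Etale} (a : (lcPre X M ⋙ forget AddCommGrpCat.{u + 1}).obj (op W')) :
    W'.left → M :=
  fun y => (show ULift.{u + 1} (LocallyConstant W'.left M) from a).down y

lemma dn_map {W' W'' : X.Etale} (g : W'' ⟶ W')
    (a : (lcPre X M ⋙ forget AddCommGrpCat.{u + 1}).obj (op W')) (z : W''.left) :
    dn X M ((lcPre X M ⋙ forget AddCommGrpCat.{u + 1}).map g.op a) z = dn X M a (g.left z) := rfl

lemma dn_isLocallyConstant {W' : X.Etale}
    (a : (lcPre X M ⋙ forget AddCommGrpCat.{u + 1}).obj (op W')) :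
    IsLocallyConstant (dn X M a) :=
  (show ULift.{u + 1} (LocallyConstant W'.left M) from a).down.isLocallyConstant

lemma dn_ext {W' : X.Etale} (a b : (lcPre X M ⋙ forget AddCommGrpCat.{u + 1}).obj (op W'))
    (h : ∀ y, dn X M a y = dn X M b y) : a = b := by
  apply ULift.ext
  ext y
  exact h y

open Groth.Agent.Lib.Helper16.SmallEtale in
/-- locally constant functions form a sheaf for the étale topology -/
theorem lcPre_isSheaf : Presheaf.IsSheaf X.smallEtaleTopology (lcPre X M) := by
  rw [Presheaf.isSheaf_iff_isSheaf_forget X.smallEtaleTopology (lcPre X M)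
    (forget AddCommGrpCat.{u + 1}), isSheaf_iff_isSheaf_of_type]
  intro V S hS
  rw [mem_smallEtale_iff] at hS
  intro x hx
  choose W f w hf hw using hS
  -- the glued function
  let s₀ : V.left → M := fun v => dn X M (x (f v) (hf v)) (w v)
  -- independence of the choice
  have key : ∀ (W' : X.Etale) (f' : W' ⟶ V) (hf' : S.arrows f') (w' : W'.left),
      dn X M (x f' hf') w' = s₀ (f'.left w') := by
    intro W' f' hf' w'
    obtain ⟨z, hz1, hz2⟩ := exists_fp_point f' (f (f'.left w')) w' (w (f'.left w'))
      (hw (f'.left w')).symm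
    have hc := hx (fpFst f' (f (f'.left w'))) (fpSnd f' (f (f'.left w'))) hf' (hf (f'.left w'))
      (fp_condition _ _)
    have hc' := congrArg (fun t => dn X M t z) hc
    simp only [dn_map] at hc'
    rw [hz1, hz2] at hc'
    exact hc'
  have hlc : IsLocallyConstant s₀ := by
    rw [IsLocallyConstant.iff_exists_open]
    intro v
    obtain ⟨N, hN, hwN, hconst⟩ := (IsLocallyConstant.iff_exists_open _).mp
      (dn_isLocallyConstant X M (x (f v) (hf v))) (w v)
    refine ⟨(f v).left '' N, (f v).left.isOpenMap N hN, ⟨w v, hwN, hw v⟩, ?_⟩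
    rintro _ ⟨y, hy, rfl⟩
    rw [← key (W v) (f v) (hf v) y, hconst y hy]
  let s : (lcPre X M ⋙ forget AddCommGrpCat.{u + 1}).obj (op V) :=
    (⟨⟨s₀, hlc⟩⟩ : ULift.{u + 1} (LocallyConstant V.left M))
  have hs : ∀ v, dn X M s v = s₀ v := fun v => rfl
  refine ⟨s, ?_, ?_⟩
  · intro W' f' hf'
    apply dn_ext
    intro w'
    rw [dn_map, hs]
    exact (key W' f' hf' w').symm
  · intro t ht
    apply dn_ext
    intro v
    have h1 := ht (f v) (hf v)
    have h2 := congrArg (fun t => dn X M t (w v)) h1
    simp only [dn_map] at h2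
    rw [hw v] at h2
    rw [hs]
    exact h2

/-- the sheaf of locally constant `M`-valued functions on the small étale site -/
noncomputable def lcSheaf : EtCoh.Ab X := ⟨lcPre X M, lcPre_isSheaf X M⟩

/-- constants as locally constant functions -/
noncomputable def eta :
    (Functor.const X.Etaleᵒᵖ).obj (AddCommGrpCat.of (ULift.{u + 1} M)) ⟶ lcPre X M where
  app V := AddCommGrpCat.ofHom
    (AddEquiv.ulift.symm.toAddMonoidHom.comp
      ((LocallyConstant.constAddMonoidHom (X := V.unop.left) (Y := M)).comp
        AddEquiv.ulift.toAddMonoidHom))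
  naturality V W f := by
    ext ⟨m⟩ w
    rfl

lemma eta_app_apply (V : X.Etaleᵒᵖ) (m : ULift.{u + 1} M) (v : V.unop.left) :
    ((eta X M).app V m).down v = m.down := rfl

open Groth.Agent.Lib.Helper16.SmallEtale in
instance isLocallyInjective_eta : Presheaf.IsLocallyInjective X.smallEtaleTopology (eta X M) where
  equalizerSieve_mem {V} m m' h := by
    by_cases hmm : m = m'
    · subst hmm
      convert X.smallEtaleTopology.top_mem V.unop
      ext Y f
      simp
    · rw [mem_smallEtale_iff]
      intro v
      exfalso
      apply hmm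
      apply ULift.ext
      have := congrArg (fun t : ULift.{u + 1} (LocallyConstant V.unop.left M) => t.down v) h
      exact this

open Groth.Agent.Lib.Helper16.SmallEtale in
instance isLocallySurjective_eta : Presheaf.IsLocallySurjective X.smallEtaleTopology (eta X M) where
  imageSieve_mem {V} s := by
    rw [mem_smallEtale_iff]
    intro v
    let s' : LocallyConstant V.left M := (show ULift.{u + 1} (LocallyConstant V.left M) from s).down
    let N : V.left.Opens := ⟨s' ⁻¹' {s' v}, s'.isLocallyConstant.isOpen_fiber _⟩
    let W : X.Etale := Scheme.Etale.mk (N.ι ≫ V.hom)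
    let g : W ⟶ V := MorphismProperty.Over.homMk N.ι rfl
    refine ⟨W, g, (⟨v, rfl⟩ : N), ?_, rfl⟩
    refine ⟨(⟨s' v⟩ : ULift.{u + 1} M), ?_⟩
    apply ULift.ext
    ext y
    show s' v = s' (N.ι y)
    exact (y.2 : s' y.1 = s' v).symm

instance isIso_presheafToSheaf_map_eta :
    IsIso ((presheafToSheaf X.smallEtaleTopology AddCommGrpCat.{u + 1}).map (eta X M)) :=
  (X.smallEtaleTopology.W_iff _).mp (X.smallEtaleTopology.W_of_isLocallyBijective _)

/-- the constant étale sheaf is the sheaf of locally constant functions -/
noncomputable def constIso : EtCoh.const X M ≅ lcSheaf X M :=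
  @asIso _ _ _ _ ((presheafToSheaf X.smallEtaleTopology AddCommGrpCat.{u + 1}).map (eta X M))
      (isIso_presheafToSheaf_map_eta X M) ≪≫
    (sheafificationIso (lcSheaf X M)).symm

/-- restriction maps of the constant sheaf are bijective iff restriction of locally constant
functions is -/
lemma const_map_bijective_iff {V W : X.Etale} (g : W ⟶ V) :
    Function.Bijective ((EtCoh.const X M).obj.map g.op) ↔
      Function.Bijective (res X M g) := by
  have hnat := (constIso X M).hom.hom.naturality g.op
  have hb : ∀ U : X.Etaleᵒᵖ, Function.Bijective ((constIso X M).hom.hom.app U) := by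
    intro U
    have : IsIso ((constIso X M).hom.hom.app U) := by
      have : IsIso (constIso X M).hom.hom :=
        (inferInstance : IsIso ((sheafToPresheaf _ _).map (constIso X M).hom))
      infer_instance
    exact ConcreteCategory.bijective_of_isIso _
  have h1 : Function.Bijective ((lcPre X M).map g.op) ↔ Function.Bijective (res X M g) := by
    constructor
    · intro h
      constructor
      · intro a b hab
        have := h.1 (a₁ := (⟨a⟩ : ULift.{u + 1} _)) (a₂ := ⟨b⟩) (ULift.ext _ _ hab)
        exact congrArg ULift.down this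
      · intro b
        obtain ⟨a, ha⟩ := h.2 (⟨b⟩ : ULift.{u + 1} _)
        exact ⟨a.down, congrArg ULift.down ha⟩
    · intro h
      constructor
      · intro a b hab
        exact ULift.ext _ _ (h.1 (congrArg ULift.down hab))
      · intro b
        obtain ⟨a, ha⟩ := h.2 b.down
        exact ⟨⟨a⟩, ULift.ext _ _ ha⟩
  rw [← h1]
  have e1 : ⇑((lcPre X M).map g.op) ∘ ⇑((constIso X M).hom.hom.app (op V)) =
      ⇑((constIso X M).hom.hom.app (op W)) ∘ ⇑((EtCoh.const X M).obj.map g.op) := by
    funext t
    exact (ConcreteCategory.congr_hom hnat t).symm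
  constructor
  · intro h
    have h2 : Function.Bijective (⇑((lcPre X M).map g.op) ∘ ⇑((constIso X M).hom.hom.app (op V))) := by
      rw [e1]
      exact (hb _).comp h
    exact (Function.Bijective.of_comp_iff _ (hb (op V))).mp h2
  · intro h
    have h2 : Function.Bijective
        (⇑((constIso X M).hom.hom.app (op W)) ∘ ⇑((EtCoh.const X M).obj.map g.op)) := by
      rw [← e1]
      exact h.comp (hb _)
    exact (Function.Bijective.of_comp_iff' (hb (op W)) _).mp h2

end Groth.Agent.Lib.Seat3.EtConstLC
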