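import Mathlib
import Groth.Agent.Lib.Helper1ProperOver

/-!
# Étale (fppf) descent of properness along jointly surjective families (seat 3)

* `closedRange`: the morphism property "the range is closed"; it descends along surjective flat
  morphisms locally of finite presentation (these are quotient maps).
* `isSeparated_descendsAlong`, `isProper_descendsAlong`: separatedness and properness descend
  along surjective flat lfp morphisms.
* `isProper_of_family`: if `g : T ⟶ S` becomes proper after base change along each member of a
  jointly surjective family of flat lfp morphisms `φ v : S' v ⟶ S`, then `g` is proper.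
-/

set_option autoImplicit false
universe u
open CategoryTheory CategoryTheory.Limits AlgebraicGeometry MorphismProperty

namespace Groth.Agent.Lib.Seat3.ProperDescent

/-- "the range is closed" -/
def closedRange : MorphismProperty Scheme.{u} := fun _ _ f => IsClosed (Set.range f.base)

/-- surjective, flat, locally of finite presentation -/
abbrev fppf : MorphismProperty Scheme.{u} :=
  @Surjective ⊓ @Flat ⊓ @LocallyOfFinitePresentation

instance : closedRange.{u}.RespectsIso := by
  apply MorphismProperty.RespectsIso.mk
  · intro X Y Z e f hf
    change IsClosed (Set.range (e.hom ≫ f).base)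
    have : Set.range (e.hom ≫ f).base = Set.range f.base := by
      rw [Scheme.Hom.comp_base, TopCat.coe_comp, Set.range_comp,
        Set.range_eq_univ.2 e.hom.surjective, Set.image_univ]
    rw [this]; exact hf
  · intro X Y Z e f hf
    change IsClosed (Set.range (f ≫ e.hom).base)
    rw [Scheme.Hom.comp_base, TopCat.coe_comp, Set.range_comp]
    exact e.hom.homeomorph.isClosedMap _ hf

theorem isQuotientMap_of_fppf {X Y : Scheme.{u}} (f : X ⟶ Y) (hf : fppf f) :
    Topology.IsQuotientMap f.base := by
  obtain ⟨⟨h1, h2⟩, h3⟩ := hf
  exact f.isOpenMap.isQuotientMap f.continuous f.surjective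

instance : closedRange.{u}.DescendsAlong fppf where
  of_isPullback {A X Y Z fst snd f g} h hf hfst := by
    change IsClosed (Set.range g.base)
    have hq := isQuotientMap_of_fppf f hf
    rw [← hq.isClosed_preimage]
    have := Scheme.image_preimage_eq_of_isPullback h.flip Set.univ
    rw [Set.image_univ, Set.preimage_univ, Set.image_univ] at this
    rw [← this]
    exact hfst

theorem isSeparated_eq_diagonal_closedRange :
    @IsSeparated = closedRange.{u}.diagonal := by
  ext X Y f
  constructor
  · intro h
    exact (pullback.diagonal f).isClosedEmbedding.isClosed_range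
  · intro h
    exact ⟨IsClosedImmersion.of_isPreimmersion _ h⟩

instance isSeparated_descendsAlong : DescendsAlong @IsSeparated fppf.{u} := by
  rw [isSeparated_eq_diagonal_closedRange]
  infer_instance

instance isProper_descendsAlong : DescendsAlong @IsProper fppf.{u} := by
  rw [isProper_eq]
  infer_instance

/-- If `g` becomes proper after base change along each member of a jointly surjective family of
flat morphisms locally of finite presentation, then `g` is proper. -/
theorem isProper_of_family {T S : Scheme.{u}} (g : T ⟶ S) {ι : Type*} (S' : ι → Scheme.{u})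
    (φ : ∀ v, S' v ⟶ S) [∀ v, Flat (φ v)] [∀ v, LocallyOfFinitePresentation (φ v)]
    (hcov : ∀ s : S, ∃ v, s ∈ Set.range (φ v).base)
    (h : ∀ v, IsProper (pullback.snd g (φ v))) : IsProper g := by
  let U : ι → S.Opens := fun v => ⟨Set.range (φ v).base, (φ v).isOpenMap.isOpen_range⟩
  have hU : ⨆ v, U v = ⊤ := by
    rw [eq_top_iff]
    intro s _
    obtain ⟨v, hv⟩ := hcov s
    exact TopologicalSpace.Opens.mem_iSup.2 ⟨v, hv⟩
  rw [IsZariskiLocalAtTarget.iff_of_iSup_eq_top (P := @IsProper) U hU]
  intro v
  have hrange : Set.range (φ v).base ⊆ Set.range (U v).ι.base := by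
    rw [Scheme.Opens.range_ι]
    exact le_rfl
  let l : S' v ⟶ (U v : Scheme.{u}) := IsOpenImmersion.lift (U v).ι (φ v) hrange
  have hl : l ≫ (U v).ι = φ v := IsOpenImmersion.lift_fac _ _ _
  have sq : IsPullback l (𝟙 (S' v)) (U v).ι (φ v) :=
    IsPullback.of_vert_isIso_mono ⟨by rw [hl, Category.id_comp]⟩
  have hlfppf : fppf l := by
    refine ⟨⟨?_, ?_⟩, ?_⟩
    · constructor
      rintro ⟨u, hu⟩
      obtain ⟨s', hs'⟩ := hu
      refine ⟨s', ?_⟩
      apply (U v).ι.isOpenEmbedding.injective
      rw [← Scheme.Hom.comp_apply, hl]
      exact hs'
    · exact MorphismProperty.of_isPullback (P := @Flat) sq.flip inferInstance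
    · exact MorphismProperty.of_isPullback (P := @LocallyOfFinitePresentation) sq.flip inferInstance
  have big : IsPullback (pullback.snd l (g ∣_ U v) ≫ (g ⁻¹ᵁ U v).ι) (pullback.fst l (g ∣_ U v)) g
      (l ≫ (U v).ι) :=
    (IsPullback.of_hasPullback l (g ∣_ U v)).flip.paste_horiz (isPullback_morphismRestrict g (U v)).flip
  rw [hl] at big
  have hfst : IsProper (pullback.fst l (g ∣_ U v)) := by
    have e : pullback.fst l (g ∣_ U v) = big.isoPullback.hom ≫ pullback.snd g (φ v) :=
      (IsPullback.isoPullback_hom_snd big).symm
    rw [e]
    exact (MorphismProperty.cancel_left_of_respectsIso @IsProper _ _).2 (h v)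
  exact MorphismProperty.of_isPullback_of_descendsAlong (P := @IsProper) (Q := fppf)
    (IsPullback.of_hasPullback l (g ∣_ U v)) hlfppf hfst

end Groth.Agent.Lib.Seat3.ProperDescent
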