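import Mathlib
import Groth.Prelude.Def_EtShriek2
import Groth.Agent.S0671
import Groth.Agent.Lib.Seat3ProperDescent
import Groth.Agent.Lib.Seat3EtConstLC
import Groth.Agent.Lib.Helper16SmallEtale

/-!
# Sections with proper support form a sheaf (seat 3)

* `sectSupp_zero`, `sectSupp_neg`, `sectSupp_add`, `sectSupp_map`, `isClosed_sectSupp`: basic
  calculus of supports of sections of abelian étale sheaves.
* `isProperOver_of_subset`, `isProperOver_empty`, `isProperOver_union`.
* `isProperOver_of_cover`: properness of a closed subset of `X ×_Y V` over `V` is étale local on `V`.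
* `mem_shriekSubgroup_iff`: the generated subgroup `shriekSubgroup f F V` consists exactly of the
  sections satisfying `ShriekPred`.
* `isSheaf_lowerShriekPre`.
-/

set_option autoImplicit false
universe u
open CategoryTheory CategoryTheory.Limits AlgebraicGeometry Opposite

namespace Groth.Agent.Lib.Seat3.ShriekSheaf

open EtShriek Groth.Agent.Lib.Helper1 Groth.Agent.Lib.Seat3.EtConstLC
open Groth.Agent.Lib.Helper16.SmallEtale

section Supp

variable {X : Scheme.{u}} (F : EtCoh.Ab X)

theorem isClosed_sectSupp (U : X.Etale) (s : EtCoh.sect F U) : IsClosed (sectSupp F U s) :=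
  (Groth.Agent.S0671.result F).1 U s

theorem sectSupp_zero (U : X.Etale) : sectSupp F U 0 = ∅ := by
  ext x
  simp only [Set.mem_empty_iff_false, iff_false]
  intro hx
  exact hx U (𝟙 U) ⟨x, rfl⟩ (map_zero _)

theorem sectSupp_neg (U : X.Etale) (s : EtCoh.sect F U) : sectSupp F U (-s) = sectSupp F U s := by
  ext x
  simp only [sectSupp, Set.mem_ofPred_eq, map_neg, ne_eq, neg_eq_zero]

theorem sectSupp_add (U : X.Etale) (s t : EtCoh.sect F U) :
    sectSupp F U (s + t) ⊆ sectSupp F U s ∪ sectSupp F U t := by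
  intro x hx
  by_contra hcon
  rw [Set.mem_union, not_or] at hcon
  obtain ⟨h1, h2⟩ := hcon
  simp only [sectSupp, Set.mem_ofPred_eq, not_forall, not_not] at h1 h2
  obtain ⟨W1, g1, ⟨w1, hw1⟩, hs⟩ := h1
  obtain ⟨W2, g2, ⟨w2, hw2⟩, ht⟩ := h2
  obtain ⟨z, hz1, hz2⟩ := exists_fp_point g1 g2 w1 w2 (hw1.trans hw2.symm)
  refine hx (fp g1 g2) (fpFst g1 g2 ≫ g1) ⟨z, ?_⟩ ?_
  · change g1.left ((fpFst g1 g2).left z) = x
    rw [hz1, hw1]
  · rw [map_add]
    have e1 : F.obj.map (fpFst g1 g2 ≫ g1).op s = 0 := by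
      rw [op_comp, F.obj.map_comp, ConcreteCategory.comp_apply, hs, map_zero]
    have e2 : F.obj.map (fpFst g1 g2 ≫ g1).op t = 0 := by
      rw [fp_condition, op_comp, F.obj.map_comp, ConcreteCategory.comp_apply, ht, map_zero]
    rw [e1, e2, add_zero]

theorem sectSupp_map {U W : X.Etale} (g : W ⟶ U) (s : EtCoh.sect F U) :
    sectSupp F W (F.obj.map g.op s) = g.left.base ⁻¹' sectSupp F U s := by
  ext w
  constructor
  · intro hw N k hk h0
    obtain ⟨n, hn⟩ := hk
    obtain ⟨z, hz1, hz2⟩ := exists_fp_point k g n w hn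
    refine hw (fp k g) (fpSnd k g) ⟨z, hz2⟩ ?_
    rw [← ConcreteCategory.comp_apply, ← F.obj.map_comp, ← op_comp, ← fp_condition, op_comp,
      F.obj.map_comp, ConcreteCategory.comp_apply, h0, map_zero]
  · intro hw N k hk h0
    obtain ⟨n, hn⟩ := hk
    refine hw N (k ≫ g) ⟨n, ?_⟩ ?_
    · change g.left (k.left n) = _
      rw [hn]
    · rw [op_comp, F.obj.map_comp, ConcreteCategory.comp_apply]
      exact h0

end Supp

section ProperOver

theorem isProperOver_of_subset {T S : Scheme.{u}} (g : T ⟶ S) {Z Z' : Set T}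
    (hZ : ClSub.IsProperOver g Z) (hcl : IsClosed Z') (hsub : Z' ⊆ Z) :
    ClSub.IsProperOver g Z' := by
  obtain ⟨h, hp⟩ := hZ
  refine ⟨hcl, ?_⟩
  have hsub' : Z' ⊆ Set.range (redι Z h) := by rw [range_redι]; exact hsub
  have e : (Scheme.IdealSheafData.vanishingIdeal ⟨Z', hcl⟩).subschemeι ≫ g =
      redLift (redι Z h) Z' hcl hsub' ≫ redι Z h ≫ g := by
    rw [redLift_fac_assoc]
  rw [e]
  have : IsProper (redι Z h ≫ g) := hp
  infer_instance

theorem isProperOver_empty {T S : Scheme.{u}} (g : T ⟶ S) : ClSub.IsProperOver g (∅ : Set T) := by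
  refine ⟨isClosed_empty, ?_⟩
  have hr := range_redι (∅ : Set T) isClosed_empty
  have : IsEmpty ↥(Scheme.IdealSheafData.vanishingIdeal ⟨(∅ : Set T), isClosed_empty⟩).subscheme := by
    constructor
    intro z
    have h1 : redι (∅ : Set T) isClosed_empty z ∈ Set.range (redι (∅ : Set T) isClosed_empty) :=
      ⟨z, rfl⟩
    exact hr.le h1
  infer_instance

theorem isProperOver_union {T S : Scheme.{u}} (g : T ⟶ S) [LocallyOfFiniteType g] {Z₁ Z₂ : Set T}
    (h₁ : ClSub.IsProperOver g Z₁) (h₂ : ClSub.IsProperOver g Z₂) :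
    ClSub.IsProperOver g (Z₁ ∪ Z₂) := by
  rw [Set.union_eq_iUnion]
  apply isProperOver_iUnion
  rintro (_ | _)
  · exact h₂
  · exact h₁

end ProperOver

section Cover

open Groth.Agent.Lib.Seat3.ProperDescent

variable {X Y : Scheme.{u}} (f : X ⟶ Y)

instance locallyOfFiniteType_prV [LocallyOfFiniteType f] (V : Y.Etale) :
    LocallyOfFiniteType (prV f V) :=
  MorphismProperty.pullback_fst (P := @LocallyOfFiniteType) _ _ ‹_›

/-- For a closed `Z ⊆ X ×_Y V` and `φ : V' ⟶ V` in `Y.Etale`, the base change of the reduced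
subscheme `Z` along `φ` is a closed subscheme of `X ×_Y V'` with underlying set the preimage of `Z`. -/
theorem isProperOver_preimage_iff [LocallyOfFiniteType f] {V V' : Y.Etale} (φ : V' ⟶ V)
    (Z : Set ((EtCoh.bc f).obj V).left) (hZ : IsClosed Z) :
    ClSub.IsProperOver (prV f V') (((EtCoh.bc f).map φ).left.base ⁻¹' Z) ↔
      IsProper (pullback.snd (redι Z hZ ≫ prV f V) φ.left) := by
  let g := redι Z hZ ≫ prV f V
  let m := ((EtCoh.bc f).map φ).left
  have hbot : IsPullback m (prV f V') (prV f V) φ.left := EtCoh.isPullback_bc_map f φ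
  let i : pullback g φ.left ⟶ ((EtCoh.bc f).obj V').left :=
    hbot.lift (pullback.fst g φ.left ≫ redι Z hZ) (pullback.snd g φ.left)
      (by rw [Category.assoc]; exact pullback.condition)
  have hi1 : i ≫ m = pullback.fst g φ.left ≫ redι Z hZ := hbot.lift_fst _ _ _
  have hi2 : i ≫ prV f V' = pullback.snd g φ.left := hbot.lift_snd _ _ _
  have htop : IsPullback (pullback.fst g φ.left) i (redι Z hZ) m := by
    refine IsPullback.of_bot ?_ hi1.symm hbot
    rw [hi2]
    exact IsPullback.of_hasPullback g φ.left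
  have hci : IsClosedImmersion i :=
    MorphismProperty.of_isPullback (P := @IsClosedImmersion) htop inferInstance
  have hrange : Set.range i.base = m.base ⁻¹' Z := by
    have := Scheme.image_preimage_eq_of_isPullback htop Set.univ
    rw [Set.preimage_univ, Set.image_univ, Set.image_univ, range_redι] at this
    exact this
  rw [isProperOver_iff_isProper_comp (prV f V') i _ hrange, hi2]

/-- Properness over the base of a closed subset of `X ×_Y V` is étale local on `V`. -/
theorem isProperOver_of_cover [LocallyOfFiniteType f] (V : Y.Etale)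
    (Z : Set ((EtCoh.bc f).obj V).left) (hZ : IsClosed Z)
    (S : Sieve V) (hS : S ∈ Y.smallEtaleTopology V)
    (h : ∀ (V' : Y.Etale) (φ : V' ⟶ V), S φ →
      ClSub.IsProperOver (prV f V') (((EtCoh.bc f).map φ).left.base ⁻¹' Z)) :
    ClSub.IsProperOver (prV f V) Z := by
  refine ⟨hZ, ?_⟩
  change IsProper (redι Z hZ ≫ prV f V)
  let ι := Σ V' : Y.Etale, {φ : V' ⟶ V // S φ}
  refine isProper_of_family (redι Z hZ ≫ prV f V) (ι := ι) (fun v => v.1.left)
    (fun v => v.2.1.left) ?_ ?_
  · intro x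
    obtain ⟨W, g, y, hg, hy⟩ := (mem_smallEtale_iff V S).1 hS x
    exact ⟨⟨W, g, hg⟩, y, hy⟩
  · rintro ⟨V', φ, hφ⟩
    exact (isProperOver_preimage_iff f φ Z hZ).1 (h V' φ hφ)

end Cover

section Main

variable {X Y : Scheme.{u}} (f : X ⟶ Y) (F : EtCoh.Ab X)

theorem hasProperSupport_of_shriekPred {V : Y.Etale} {s : EtCoh.sect F ((EtCoh.bc f).obj V)}
    (hs : ShriekPred f F V s) : HasProperSupport F ((EtCoh.bc f).obj V) s (prV f V) := by
  have := hs V (𝟙 V)
  rwa [CategoryTheory.Functor.map_id, op_id, F.obj.map_id, ConcreteCategory.id_apply] at this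

theorem shriekPred_zero [LocallyOfFiniteType f] (V : Y.Etale) : ShriekPred f F V 0 := by
  intro V' φ
  rw [map_zero]
  exact ⟨∅, (sectSupp_zero F _).le, isProperOver_empty _⟩

theorem shriekPred_add [LocallyOfFiniteType f] (V : Y.Etale)
    {s t : EtCoh.sect F ((EtCoh.bc f).obj V)} (hs : ShriekPred f F V s)
    (ht : ShriekPred f F V t) : ShriekPred f F V (s + t) := by
  intro V' φ
  obtain ⟨Z₁, h₁, p₁⟩ := hs V' φ
  obtain ⟨Z₂, h₂, p₂⟩ := ht V' φ
  rw [map_add]
  exact ⟨Z₁ ∪ Z₂, (sectSupp_add F _ _ _).trans (Set.union_subset_union h₁ h₂),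
    isProperOver_union _ p₁ p₂⟩

theorem shriekPred_neg (V : Y.Etale)
    {s : EtCoh.sect F ((EtCoh.bc f).obj V)} (hs : ShriekPred f F V s) :
    ShriekPred f F V (-s) := by
  intro V' φ
  obtain ⟨Z₁, h₁, p₁⟩ := hs V' φ
  rw [map_neg, HasProperSupport, sectSupp_neg]
  exact ⟨Z₁, h₁, p₁⟩

theorem mem_shriekSubgroup_iff [LocallyOfFiniteType f] (V : Y.Etale)
    (s : EtCoh.sect F ((EtCoh.bc f).obj V)) :
    s ∈ shriekSubgroup f F V ↔ ShriekPred f F V s := by
  constructor
  · intro hs
    induction hs using AddSubgroup.closure_induction with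
    | mem x hx => exact hx
    | zero => exact shriekPred_zero f F V
    | add x y _ _ hx hy => exact shriekPred_add f F V hx hy
    | neg x _ hx => exact shriekPred_neg f F V hx
  · intro hs
    exact AddSubgroup.subset_closure hs

/-- locality of the condition `ShriekPred` -/
theorem shriekPred_of_cover [LocallyOfFiniteType f] (V : Y.Etale)
    (s : EtCoh.sect F ((EtCoh.bc f).obj V)) (S : Sieve V) (hS : S ∈ Y.smallEtaleTopology V)
    (h : ∀ (V' : Y.Etale) (φ : V' ⟶ V), S φ →
      ShriekPred f F V' (F.obj.map ((EtCoh.bc f).map φ).op s)) :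
    ShriekPred f F V s := by
  intro V'' ψ
  set t := F.obj.map ((EtCoh.bc f).map ψ).op s with ht
  refine ⟨sectSupp F _ t, le_rfl, ?_⟩
  refine isProperOver_of_cover f V'' _ (isClosed_sectSupp F _ t) (S.pullback ψ)
    (Y.smallEtaleTopology.pullback_stable ψ hS) ?_
  intro V' φ hφ
  have h1 := hasProperSupport_of_shriekPred f F (h V' (φ ≫ ψ) hφ)
  rw [CategoryTheory.Functor.map_comp, op_comp, F.obj.map_comp, ConcreteCategory.comp_apply,
    ← ht] at h1
  obtain ⟨Z', hZ', hp⟩ := h1
  rw [sectSupp_map] at hZ'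
  exact isProperOver_of_subset _ hp
    ((isClosed_sectSupp F _ t).preimage ((EtCoh.bc f).map φ).left.continuous) hZ'


/-- the underlying presheaf of sets of `f_* F` -/
noncomputable abbrev pushT : Y.Etaleᵒᵖ ⥤ Type (u + 1) :=
  ((EtCoh.push f).obj F).obj ⋙ forget AddCommGrpCat.{u + 1}

theorem pushT_isSheaf : Presieve.IsSheaf Y.smallEtaleTopology (pushT f F) := by
  have h := ((EtCoh.push f).obj F).2
  rw [Presheaf.isSheaf_iff_isSheaf_forget (s := forget AddCommGrpCat.{u + 1})] at h
  exact (isSheaf_iff_isSheaf_of_type _ _).1 h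

/-- sections with proper support as a subfunctor of `f_* F` -/
noncomputable def shriekSub : Subfunctor (pushT f F) where
  obj V := {s | s ∈ shriekSubgroup f F V.unop}
  map {V V'} φ s hs := shriekSubgroup_le_comap f F φ.unop hs

theorem shriekSub_isSheaf [LocallyOfFiniteType f] :
    Presieve.IsSheaf Y.smallEtaleTopology (shriekSub f F).toFunctor := by
  rw [Subfunctor.isSheaf_iff _ (pushT_isSheaf f F)]
  intro V s hS
  exact (mem_shriekSubgroup_iff f F V.unop s).2
    (shriekPred_of_cover f F V.unop s _ hS fun V' φ hφ =>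
      (mem_shriekSubgroup_iff f F V' _).1 hφ)

theorem isSheaf_lowerShriekPre [LocallyOfFiniteType f] :
    Presheaf.IsSheaf Y.smallEtaleTopology (lowerShriekPre f F) := by
  rw [Presheaf.isSheaf_iff_isSheaf_forget (s := forget AddCommGrpCat.{u + 1}),
    isSheaf_iff_isSheaf_of_type]
  let e : lowerShriekPre f F ⋙ forget AddCommGrpCat.{u + 1} ≅ (shriekSub f F).toFunctor :=
    NatIso.ofComponents (fun V => Iso.refl _) (by
      intro V V' φ
      ext ⟨s, hs⟩
      rfl)
  exact Presieve.isSheaf_iso Y.smallEtaleTopology e.symm (shriekSub_isSheaf f F)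

/-- `f_!` as the sheaf of sections with proper support (no sheafification) -/
noncomputable def shriekSheafFunctor [LocallyOfFiniteType f] : EtCoh.Ab X ⥤ EtCoh.Ab Y where
  obj F := ⟨lowerShriekPre f F, isSheaf_lowerShriekPre f F⟩
  map α := ⟨(lowerShriekPreFunctor f).map α⟩
  map_id F := by
    apply Sheaf.hom_ext
    exact (lowerShriekPreFunctor f).map_id F
  map_comp α β := by
    apply Sheaf.hom_ext
    exact (lowerShriekPreFunctor f).map_comp α β

/-- sheafification does nothing on sections with proper support -/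
noncomputable def lowerShriekIso [LocallyOfFiniteType f] :
    lowerShriek f ≅ shriekSheafFunctor f :=
  (Functor.isoWhiskerLeft (shriekSheafFunctor f)
    (sheafificationNatIso Y.smallEtaleTopology AddCommGrpCat.{u + 1}).symm).trans
    (Functor.rightUnitor _)

end Main

end Groth.Agent.Lib.Seat3.ShriekSheaf
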