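import Mathlib
import Groth.Prelude.Def_EtShriek2
import Groth.Agent.Lib.Seat3ShriekSheaf
import Groth.Agent.Lib.Helper3IrrTopB

/-!
# Geometry of closed subsets proper over the base of an étale morphism (seat 1)

* `finite_points_of_isFinite`: a finite morphism has finitely many `Ω`-points over a given `Ω`-point (any field).
* `exists_lift_redι`: a field-valued point landing in a closed subset factors through the reduced induced structure.
* `isFinite_red_of_isProperOver`, `finite_pts_of_isProperOver`, `isClosed_image_of_isProperOver`.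
* `eq_zero_of_sectSupp_eq_empty`: a section with empty support vanishes.
-/

set_option autoImplicit false
set_option linter.style.haveILetI false
set_option linter.unusedSectionVars false
universe u
open CategoryTheory CategoryTheory.Limits AlgebraicGeometry Opposite TopologicalSpace

namespace Groth.Agent.Lib.Seat1.ShriekGeo

open Groth.Agent.Lib.Helper1 Groth.Agent.Lib.Helper16.SmallEtale

section Points

variable {Ω : Type u} [Field Ω]

/-- a finite morphism has finitely many `Ω`-points over a given `Ω`-point -/
theorem finite_points_of_isFinite {T W : Scheme.{u}} (f : T ⟶ W) [IsFinite f]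
    (w : Spec (CommRingCat.of Ω) ⟶ W) :
    Finite {z : Spec (CommRingCat.of Ω) ⟶ T // z ≫ f = w} := by
  let Q : Scheme.{u} := pullback f w
  let q : Q ⟶ Spec (CommRingCat.of Ω) := pullback.snd f w
  haveI : IsFinite q := inferInstanceAs (IsFinite (pullback.snd f w))
  haveI : IsAffine Q := isAffine_of_isAffineHom q
  let A : Type u := Γ(Q, ⊤)
  let e := Scheme.ΓSpecIso (CommRingCat.of Ω)
  let ρ : Ω →+* A := (q.appTop).hom.comp e.inv.hom
  have hρ : ρ.Finite := by
    refine RingHom.Finite.comp (q.finite_appTop) ?_
    apply RingHom.Finite.of_surjective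
    intro y
    refine ⟨e.hom.hom y, ?_⟩
    exact ConcreteCategory.congr_hom e.hom_inv_id y
  letI : Algebra Ω A := ρ.toAlgebra
  haveI : Module.Finite Ω A := hρ
  -- the section attached to a point
  let sec : {z : Spec (CommRingCat.of Ω) ⟶ T // z ≫ f = w} → (Spec (CommRingCat.of Ω) ⟶ Q) :=
    fun z => pullback.lift z.1 (𝟙 _) (by rw [z.2, Category.id_comp])
  have hsec : ∀ z, sec z ≫ q = 𝟙 _ := fun z => pullback.lift_snd _ _ _
  have hsec1 : ∀ z, sec z ≫ pullback.fst f w = z.1 := fun z => pullback.lift_fst _ _ _
  let a : {z : Spec (CommRingCat.of Ω) ⟶ T // z ≫ f = w} → (A →ₐ[Ω] Ω) := fun z =>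
    { toRingHom := e.hom.hom.comp (sec z).appTop.hom
      commutes' := by
        intro r
        change e.hom.hom ((sec z).appTop.hom ((q.appTop).hom (e.inv.hom r))) = r
        have h1 : q.appTop ≫ (sec z).appTop = 𝟙 _ := by
          rw [← Scheme.Hom.comp_appTop, hsec]
          rfl
        have h2 : (sec z).appTop.hom ((q.appTop).hom (e.inv.hom r)) = e.inv.hom r :=
          ConcreteCategory.congr_hom h1 (e.inv.hom r)
        rw [h2]
        exact ConcreteCategory.congr_hom e.inv_hom_id r }
  refine Finite.of_injective a ?_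
  intro z z' h
  apply Subtype.ext
  rw [← hsec1 z, ← hsec1 z']
  congr 1
  apply ext_of_isAffine
  have h3 : ∀ y : A, e.hom.hom ((sec z).appTop.hom y) = e.hom.hom ((sec z').appTop.hom y) :=
    fun y => congrArg (fun t : A →ₐ[Ω] Ω => t y) h
  ext y
  have h4 := h3 y
  have h5 := congrArg e.inv.hom h4
  have h6 : ∀ t, e.inv.hom (e.hom.hom t) = t := fun t => ConcreteCategory.congr_hom e.hom_inv_id t
  rwa [h6, h6] at h5

/-- a field-valued point landing in a closed subset factors through the reduced induced closed subscheme -/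
theorem exists_lift_redι {P : Scheme.{u}} (Z : Set P) (hZ : IsClosed Z)
    (m : Spec (CommRingCat.of Ω) ⟶ P) (hm : m default ∈ Z) :
    ∃ m' : Spec (CommRingCat.of Ω) ⟶ (Scheme.IdealSheafData.vanishingIdeal ⟨Z, hZ⟩).subscheme,
      m' ≫ redι Z hZ = m := by
  have hm' : m default ∈ Set.range (redι Z hZ) := by rw [range_redι]; exact hm
  obtain ⟨z, hz⟩ := hm'
  let p2 := pullback.snd (redι Z hZ) m
  haveI : IsClosedImmersion p2 := inferInstanceAs (IsClosedImmersion (pullback.snd (redι Z hZ) m))
  haveI : Surjective p2 := by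
    constructor
    intro y
    obtain ⟨t, -, ht⟩ := Scheme.Pullback.exists_preimage_pullback (f := redι Z hZ) (g := m) z default hz
    exact ⟨t, ht.trans (Subsingleton.elim _ _)⟩
  haveI : IsIso p2 := isIso_of_isClosedImmersion_of_surjective p2
  refine ⟨inv p2 ≫ pullback.fst (redι Z hZ) m, ?_⟩
  rw [Category.assoc, pullback.condition, ← Category.assoc, IsIso.inv_hom_id, Category.id_comp]

end Points

section ProperOver

variable {P W : Scheme.{u}} (p : P ⟶ W) [Etale p]

/-- a closed subset of the source of an étale morphism, proper over the base, is finite over the base -/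
theorem isFinite_red_of_isProperOver (Z : Set P) (hZ : IsClosed Z) (h : ClSub.IsProperOver p Z) :
    IsFinite (redι Z hZ ≫ p) := by
  obtain ⟨_, hp⟩ := h
  haveI : IsProper (redι Z hZ ≫ p) := hp
  haveI : LocallyQuasiFinite p := Groth.Agent.Lib.Helper3.IrrTop.locallyQuasiFinite_of_unramified p
  haveI : LocallyQuasiFinite (redι Z hZ ≫ p) := inferInstance
  exact IsFinite.of_isProper_of_locallyQuasiFinite _

/-- finitely many points of a closed subset proper over the base lie over a given field-valued point of the base -/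
theorem finite_pts_of_isProperOver {Ω : Type u} [Field Ω] (Z : Set P) (h : ClSub.IsProperOver p Z)
    (w : Spec (CommRingCat.of Ω) ⟶ W) :
    Finite {m : Spec (CommRingCat.of Ω) ⟶ P // m ≫ p = w ∧ m default ∈ Z} := by
  have hZ : IsClosed Z := h.1
  haveI : IsFinite (redι Z hZ ≫ p) := isFinite_red_of_isProperOver p Z hZ h
  haveI := finite_points_of_isFinite (redι Z hZ ≫ p) w
  choose l hl using fun m : {m : Spec (CommRingCat.of Ω) ⟶ P // m ≫ p = w ∧ m default ∈ Z} =>
    exists_lift_redι Z hZ m.1 m.2.2
  let a : {m : Spec (CommRingCat.of Ω) ⟶ P // m ≫ p = w ∧ m default ∈ Z} →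
      {z : Spec (CommRingCat.of Ω) ⟶ (Scheme.IdealSheafData.vanishingIdeal ⟨Z, hZ⟩).subscheme //
        z ≫ redι Z hZ ≫ p = w} :=
    fun m => ⟨l m, by rw [← Category.assoc, hl m]; exact m.2.1⟩
  refine Finite.of_injective a ?_
  intro m m' hmm
  apply Subtype.ext
  rw [← hl m, ← hl m']
  exact congrArg (fun t => t.1 ≫ redι Z hZ) hmm

/-- the image of a closed subset proper over the base is closed -/
theorem isClosed_image_of_isProperOver {P W : Scheme.{u}} (p : P ⟶ W) (Z : Set P)
    (h : ClSub.IsProperOver p Z) : IsClosed (p '' Z) := by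
  obtain ⟨hZ, hp⟩ := h
  haveI : IsProper (redι Z hZ ≫ p) := hp
  have h1 : p '' Z = Set.range (redι Z hZ ≫ p) := by
    rw [Scheme.Hom.comp_base, TopCat.coe_comp, Set.range_comp, range_redι]
  rw [h1]
  exact (redι Z hZ ≫ p).isClosedMap.isClosed_range

end ProperOver

section Supp

open EtShriek

variable {X : Scheme.{u}} (F : EtCoh.Ab X)

/-- a section with empty support vanishes -/
theorem eq_zero_of_sectSupp_eq_empty (U : X.Etale) (s : EtCoh.sect F U) (h : sectSupp F U s = ∅) :
    s = 0 := by
  have hsep := F.2.isSeparated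
  let S : Sieve U :=
    { arrows := fun W g => F.obj.map g.op s = 0
      downward_closed := by
        intro W W' g hg k
        rw [op_comp, F.obj.map_comp, ConcreteCategory.comp_apply]
        have hg' : F.obj.map g.op s = 0 := hg
        rw [hg', map_zero] }
  have hS : S ∈ X.smallEtaleTopology U := by
    rw [mem_smallEtale_iff]
    intro x
    have hx : x ∉ sectSupp F U s := by rw [h]; exact Set.notMem_empty x
    simp only [sectSupp, Set.mem_ofPred_eq, not_forall, not_not] at hx
    obtain ⟨W, g, ⟨w, hw⟩, h0⟩ := hx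
    exact ⟨W, g, w, h0, hw⟩
  refine hsep U S hS s 0 ?_
  intro W g hg
  rw [map_zero]
  exact hg

end Supp

end Groth.Agent.Lib.Seat1.ShriekGeo
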