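import Mathlib
import Groth.Prelude.Def_EtShriek2
import Groth.Agent.Lib.Seat1Graph
import Groth.Agent.Lib.Seat1StalkAbs
import Groth.Agent.Lib.Seat1StalkFin
import Groth.Agent.Lib.Helper16EtStalk

/-!
# The comparison `j_! ⟶ j_*` for a separated étale morphism is a monomorphism (seat 1)
-/

set_option autoImplicit false
set_option linter.style.haveILetI false
set_option linter.unusedSectionVars false
universe u
open CategoryTheory CategoryTheory.Limits AlgebraicGeometry Opposite TopologicalSpace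

namespace Groth.Agent.Lib.Seat1.ShriekMono

open GrothendieckTopology
open Groth.Agent.Lib.Helper16.SmallEtale Groth.Agent.Lib.Seat1.FinSplit Groth.Agent.Lib.Seat1.Graph
  Groth.Agent.Lib.Seat1.StalkAbs Groth.Agent.Lib.Seat1.StalkFin

variable {U X : Scheme.{u}} (j : U ⟶ X) [Etale j] [IsSeparated j] [EtShriek.JCont j]

/-- the map `F ⟶ j⁻¹ j_* F` given by extension by zero along the graphs -/
noncomputable def tauFlat (F : EtCoh.Ab U) :
    F ⟶ (EtShriek.restrAlong j).obj ((EtCoh.push j).obj F) :=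
  ⟨{ app := fun V => ext0 j F V.unop
     naturality := fun _ _ g => (ext0_naturality j F g.unop).symm }⟩

lemma tauFlat_naturality {F F' : EtCoh.Ab U} (α : F ⟶ F') :
    α ≫ tauFlat j F' = tauFlat j F ≫ (EtShriek.restrAlong j).map ((EtCoh.push j).map α) := by
  apply Sheaf.hom_ext
  ext V : 2
  exact (ext0_naturality_sheaf j α V.unop).symm

/-- the comparison `j_! ⟶ j_*` -/
noncomputable def tau : EtShriek.extZero j ⟶ EtCoh.push j where
  app F := ((EtShriek.extZeroAdj j).homEquiv F ((EtCoh.push j).obj F)).symm (tauFlat j F)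
  naturality F F' α := by
    rw [← Adjunction.homEquiv_naturality_left_symm, ← Adjunction.homEquiv_naturality_right_symm,
      tauFlat_naturality]

lemma unit_tau (F : EtCoh.Ab U) :
    (EtShriek.extZeroAdj j).unit.app F ≫ (EtShriek.restrAlong j).map ((tau j).app F) = tauFlat j F := by
  refine (Adjunction.homEquiv_unit _ _ _ _).symm.trans ?_
  exact Equiv.apply_symm_apply _ _

section Stalk

variable {Ω : Type u} [Field Ω] [IsSepClosed Ω] (x : Spec (CommRingCat.of Ω) ⟶ X)

set_option backward.isDefEq.respectTransparency.types false in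
lemma cPt_aux (ξ : Pts j x) (V : U.Etale) (p : Over.mk ξ.1 ⟶ (Scheme.Etale.forget U).obj V) :
    p.left ≫ ((Scheme.Etale.forget X).obj ((EtShriek.compEtale j).obj V)).hom = (Over.mk x).hom := by
  have h1 : p.left ≫ V.hom = ξ.1 := Over.w p
  change p.left ≫ V.hom ≫ j = x
  refine (Category.assoc _ _ _).symm.trans ?_
  refine (congrArg (fun t => t ≫ j) h1).trans ?_
  exact ξ.2

set_option backward.isDefEq.respectTransparency.types false in
/-- a point of an étale `U`-scheme `V` over `ξ` is a point of `V`, seen as an étale `X`-scheme, over `x` -/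
noncomputable def cPt (ξ : Pts j x) (V : U.Etale) (p : (Ψ j x ξ).fiber.obj V) :
    (Scheme.pointSmallEtale x).fiber.obj ((EtShriek.compEtale j).obj V) :=
  let p' : Over.mk ξ.1 ⟶ (Scheme.Etale.forget U).obj V := p
  let pl : Spec (CommRingCat.of Ω) ⟶ V.left := p'.left
  (Over.homMk pl (cPt_aux j x ξ V p') :
    Over.mk x ⟶ (Scheme.Etale.forget X).obj ((EtShriek.compEtale j).obj V))

set_option backward.isDefEq.respectTransparency.types false in
/-- `cPt` as a natural transformation -/
noncomputable def κ (ξ : Pts j x) :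
    (Ψ j x ξ).fiber ⟶ EtShriek.compEtale j ⋙ (Scheme.pointSmallEtale x).fiber where
  app V := TypeCat.ofHom (cPt j x ξ V)
  naturality V V' g := by
    ext p
    apply Over.OverMorphism.ext
    rfl

/-- the map from the fibre at `ξ` of a restricted presheaf to the fibre at `x` -/
noncomputable def r (ξ : Pts j x) (G : X.Etaleᵒᵖ ⥤ AddCommGrpCat.{u + 1}) :
    (Ψ j x ξ).presheafFiber.obj ((EtShriek.compEtale j).op ⋙ G) ⟶
      (Scheme.pointSmallEtale x).presheafFiber.obj G :=
  cmp (EtShriek.compEtale j) (Ψ j x ξ) (fun _ : Unit => Scheme.pointSmallEtale x) (fun _ => κ j x ξ) () G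

/-- the unit of the adjunction, on presheaves -/
noncomputable def etaP (F : EtCoh.Ab U) :
    F.obj ⟶ (EtShriek.compEtale j).op ⋙ ((EtShriek.extZero j).obj F).obj :=
  ((EtShriek.extZeroAdj j).unit.app F).hom

/-- the comparison map, on presheaves -/
noncomputable def tauP (F : EtCoh.Ab U) :
    ((EtShriek.extZero j).obj F).obj ⟶ (EtCoh.bc j).op ⋙ F.obj :=
  ((tau j).app F).hom

lemma etaP_tauP (F : EtCoh.Ab U) (V : U.Etale) :
    (etaP j F).app (op V) ≫ (tauP j F).app (op ((EtShriek.compEtale j).obj V)) = ext0 j F V :=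
  congrArg (fun t => t.hom.app (op V)) (unit_tau j F)

/-- the inclusion of the stalk of `F` at `ξ` into the stalk of `j_! F` at `x` -/
noncomputable def incl (ξ : Pts j x) (F : EtCoh.Ab U) :
    (Ψ j x ξ).presheafFiber.obj F.obj ⟶
      (Scheme.pointSmallEtale x).presheafFiber.obj ((EtShriek.extZero j).obj F).obj :=
  (Ψ j x ξ).presheafFiber.map (etaP j F) ≫ r j x ξ ((EtShriek.extZero j).obj F).obj

/-- the projection from the stalk of `j_* F` at `x` to the stalk of `F` at `ξ` -/
noncomputable def π (ξ : Pts j x) (F : EtCoh.Ab U) :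
    (Scheme.pointSmallEtale x).presheafFiber.obj ((EtCoh.bc j).op ⋙ F.obj) ⟶
      (Ψ j x ξ).presheafFiber.obj F.obj :=
  cmp (EtCoh.bc j) (Scheme.pointSmallEtale x) (Ψ j x) (θ j x) ξ F.obj

/-- germs of the composite `incl ≫ τ ≫ π` -/
lemma germ_incl_tau_π (ξ ξ' : Pts j x) (F : EtCoh.Ab U) (V : U.Etale) (p : (Ψ j x ξ).fiber.obj V) :
    (Ψ j x ξ).toPresheafFiber V p F.obj ≫ incl j x ξ F ≫
        (Scheme.pointSmallEtale x).presheafFiber.map (tauP j F) ≫ π j x ξ' F =
      ext0 j F V ≫ (Ψ j x ξ').toPresheafFiber (PV j V)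
        (liftPt j x ξ' ((EtShriek.compEtale j).obj V) (cPt j x ξ V p)) F.obj := by
  unfold incl π r
  simp only [Category.assoc]
  rw [Point.toPresheafFiber_naturality_assoc, toPresheafFiber_cmp_assoc,
    Point.toPresheafFiber_naturality_assoc, toPresheafFiber_cmp, ← Category.assoc, etaP_tauP]
  rfl

set_option backward.isDefEq.respectTransparency.types false in
lemma liftPt_cPt_self (ξ : Pts j x) (V : U.Etale) (p : (Ψ j x ξ).fiber.obj V) :
    liftPt j x ξ ((EtShriek.compEtale j).obj V) (cPt j x ξ V p) = (Ψ j x ξ).fiber.map (graph j V) p := by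
  apply fiber_bc_ext
  rw [liftPt_left_fst]
  let p' : Over.mk ξ.1 ⟶ (Scheme.Etale.forget U).obj V := p
  change p'.left = (p'.left ≫ (graph j V).left) ≫ pullback.fst ((EtShriek.compEtale j).obj V).hom j
  refine Eq.symm ((Category.assoc _ _ _).trans ?_)
  refine (congrArg (fun t => p'.left ≫ t) (graph_left_fst j V)).trans ?_
  exact Category.comp_id _

/-- the composite `incl ≫ τ ≫ π` at the same point is the identity -/
lemma incl_tau_π_self (ξ : Pts j x) (F : EtCoh.Ab U) :
    incl j x ξ F ≫ (Scheme.pointSmallEtale x).presheafFiber.map (tauP j F) ≫ π j x ξ F = 𝟙 _ := by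
  apply Point.presheafFiber_hom_ext
  intro V p
  rw [germ_incl_tau_π, liftPt_cPt_self, ← Point.toPresheafFiber_w, ext0_graph_assoc, Category.comp_id]

set_option backward.isDefEq.respectTransparency.types false in
/-- for `ξ' ≠ ξ` the point `(p, ξ')` of `V ×_X U` does not lie on the graph -/
lemma liftPt_cPt_mem_cOpen (ξ ξ' : Pts j x) (hne : ξ' ≠ ξ) (V : U.Etale) (p : (Ψ j x ξ).fiber.obj V) :
    (Over.Hom.left (show Over.mk ξ'.1 ⟶ (Scheme.Etale.forget U).obj (PV j V) from
      liftPt j x ξ' ((EtShriek.compEtale j).obj V) (cPt j x ξ V p)))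
        (default : Spec (CommRingCat.of Ω)) ∈ cOpen j V := by
  let p' : Over.mk ξ.1 ⟶ (Scheme.Etale.forget U).obj V := p
  let m : Spec (CommRingCat.of Ω) ⟶ (PV j V).left :=
    Over.Hom.left (show Over.mk ξ'.1 ⟶ (Scheme.Etale.forget U).obj (PV j V) from
      liftPt j x ξ' ((EtShriek.compEtale j).obj V) (cPt j x ξ V p))
  have hm1 : m ≫ pullback.fst ((EtShriek.compEtale j).obj V).hom j = p'.left :=
    liftPt_left_fst j x ξ' _ _
  have hm2 : m ≫ pullback.snd ((EtShriek.compEtale j).obj V).hom j = ξ'.1 :=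
    liftPt_left_snd j x ξ' _ _
  intro hmem
  apply hne
  have hrange : Set.range m ⊆ Set.range (graph j V).left := by
    rintro _ ⟨a, rfl⟩
    rwa [Subsingleton.elim a default]
  let m' : Spec (CommRingCat.of Ω) ⟶ V.left := IsOpenImmersion.lift (graph j V).left m hrange
  have hm' : m' ≫ (graph j V).left = m := IsOpenImmersion.lift_fac _ _ _
  have e1 : m' = p'.left := by
    have : (m' ≫ (graph j V).left) ≫ pullback.fst ((EtShriek.compEtale j).obj V).hom j = p'.left := by
      rw [hm']; exact hm1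
    refine Eq.trans ?_ this
    refine Eq.symm ((Category.assoc _ _ _).trans ?_)
    refine (congrArg (fun t => m' ≫ t) (graph_left_fst j V)).trans ?_
    exact Category.comp_id _
  have e2 : m' ≫ V.hom = ξ'.1 := by
    have : (m' ≫ (graph j V).left) ≫ pullback.snd ((EtShriek.compEtale j).obj V).hom j = ξ'.1 := by
      rw [hm']; exact hm2
    refine Eq.trans ?_ this
    refine Eq.symm ((Category.assoc _ _ _).trans ?_)
    exact congrArg (fun t => m' ≫ t) (graph_left_snd j V)
  have e3 : p'.left ≫ V.hom = ξ.1 := Over.w p'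
  apply Subtype.ext
  exact e2.symm.trans ((congrArg (fun t => t ≫ V.hom) e1).trans e3)

set_option backward.isDefEq.respectTransparency.types false in
/-- for `ξ' ≠ ξ` the point `(p, ξ')` of `V ×_X U` comes from a point of the complement of the graph -/
lemma exists_cOpen_point (ξ ξ' : Pts j x) (hne : ξ' ≠ ξ) (V : U.Etale) (p : (Ψ j x ξ).fiber.obj V) :
    ∃ q : (Ψ j x ξ').fiber.obj (opnOf (PV j V) (cOpen j V)),
      (Ψ j x ξ').fiber.map (opnIn (PV j V) (cOpen j V)) q =
        liftPt j x ξ' ((EtShriek.compEtale j).obj V) (cPt j x ξ V p) := by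
  let q₀ : Over.mk ξ'.1 ⟶ (Scheme.Etale.forget U).obj (PV j V) :=
    liftPt j x ξ' ((EtShriek.compEtale j).obj V) (cPt j x ξ V p)
  let m : Spec (CommRingCat.of Ω) ⟶ (PV j V).left := q₀.left
  have hmem : m default ∈ cOpen j V := liftPt_cPt_mem_cOpen j x ξ ξ' hne V p
  have hrange : Set.range m ⊆ Set.range (cOpen j V).ι := by
    rintro _ ⟨a, rfl⟩
    rw [Scheme.Opens.range_ι, Subsingleton.elim a default]
    exact hmem
  let mc : Spec (CommRingCat.of Ω) ⟶ ((cOpen j V : (PV j V).left.Opens) : Scheme.{u}) :=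
    IsOpenImmersion.lift (cOpen j V).ι m hrange
  have hmc : mc ≫ (cOpen j V).ι = m := IsOpenImmersion.lift_fac _ _ _
  have hw : m ≫ (PV j V).hom = ξ'.1 := Over.w q₀
  let q : Over.mk ξ'.1 ⟶ (Scheme.Etale.forget U).obj (opnOf (PV j V) (cOpen j V)) :=
    Over.homMk mc (by
      change mc ≫ (cOpen j V).ι ≫ (PV j V).hom = ξ'.1
      refine (Category.assoc _ _ _).symm.trans ?_
      exact (congrArg (fun t => t ≫ (PV j V).hom) hmc).trans hw)
  refine ⟨q, ?_⟩
  apply Over.OverMorphism.ext
  exact hmc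

/-- the composite `incl ≫ τ ≫ π` at distinct points vanishes -/
lemma incl_tau_π_ne (ξ ξ' : Pts j x) (hne : ξ' ≠ ξ) (F : EtCoh.Ab U) :
    incl j x ξ F ≫ (Scheme.pointSmallEtale x).presheafFiber.map (tauP j F) ≫ π j x ξ' F = 0 := by
  apply Point.presheafFiber_hom_ext
  intro V p
  obtain ⟨q, hq⟩ := exists_cOpen_point j x ξ ξ' hne V p
  rw [germ_incl_tau_π, ← hq, ← Point.toPresheafFiber_w, ext0_compl_assoc, zero_comp, comp_zero]

/-- germs of `incl` -/
lemma germ_incl (ξ : Pts j x) (F : EtCoh.Ab U) (V : U.Etale) (p : (Ψ j x ξ).fiber.obj V) :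
    (Ψ j x ξ).toPresheafFiber V p F.obj ≫ incl j x ξ F =
      (etaP j F).app (op V) ≫ (Scheme.pointSmallEtale x).toPresheafFiber
        ((EtShriek.compEtale j).obj V) (cPt j x ξ V p) ((EtShriek.extZero j).obj F).obj := by
  unfold incl r
  rw [Point.toPresheafFiber_naturality_assoc, toPresheafFiber_cmp]
  rfl

set_option backward.isDefEq.respectTransparency.types false in
/-- every point of `V`, seen as an étale `X`-scheme, over `x` comes from a point over some `ξ` -/
lemma exists_cPt_eq (V : U.Etale) (y : (Scheme.pointSmallEtale x).fiber.obj ((EtShriek.compEtale j).obj V)) :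
    ∃ (ξ : Pts j x) (p : (Ψ j x ξ).fiber.obj V), cPt j x ξ V p = y := by
  let y' : Over.mk x ⟶ (Scheme.Etale.forget X).obj ((EtShriek.compEtale j).obj V) := y
  let yl : Spec (CommRingCat.of Ω) ⟶ V.left := y'.left
  have hy : yl ≫ V.hom ≫ j = x := Over.w y'
  let ξ : Pts j x := ⟨yl ≫ V.hom, (Category.assoc _ _ _).trans hy⟩
  let p : Over.mk ξ.1 ⟶ (Scheme.Etale.forget U).obj V := Over.homMk yl rfl
  refine ⟨ξ, p, ?_⟩
  apply Over.OverMorphism.ext
  rfl

/-- **the inclusions `incl ξ` are jointly epimorphic** -/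
lemma incl_jointly_epi (F : EtCoh.Ab U) {M : AddCommGrpCat.{u + 1}}
    (f g : (Scheme.pointSmallEtale x).presheafFiber.obj ((EtShriek.extZero j).obj F).obj ⟶ M)
    (h : ∀ ξ : Pts j x, incl j x ξ F ≫ f = incl j x ξ F ≫ g) : f = g := by
  let Φ := Scheme.pointSmallEtale x
  apply Φ.skyscraperPresheafHomEquiv.injective
  let f' : (EtShriek.extZero j).obj F ⟶ Φ.skyscraperSheaf M := ⟨Φ.skyscraperPresheafHomEquiv f⟩
  let g' : (EtShriek.extZero j).obj F ⟶ Φ.skyscraperSheaf M := ⟨Φ.skyscraperPresheafHomEquiv g⟩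
  suffices hfg : f' = g' from congrArg (fun t => t.hom) hfg
  apply ((EtShriek.extZeroAdj j).homEquiv F (Φ.skyscraperSheaf M)).injective
  rw [Adjunction.homEquiv_unit, Adjunction.homEquiv_unit]
  apply Sheaf.hom_ext
  ext V : 2
  change (etaP j F).app V ≫ (Φ.skyscraperPresheafHomEquiv f).app (op ((EtShriek.compEtale j).obj V.unop)) =
    (etaP j F).app V ≫ (Φ.skyscraperPresheafHomEquiv g).app (op ((EtShriek.compEtale j).obj V.unop))
  apply Pi.hom_ext
  intro y
  obtain ⟨ξ, p, rfl⟩ := exists_cPt_eq j x V.unop y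
  have hf : ∀ t : Φ.presheafFiber.obj ((EtShriek.extZero j).obj F).obj ⟶ M,
      (Φ.skyscraperPresheafHomEquiv t).app (op ((EtShriek.compEtale j).obj V.unop)) ≫
        Pi.π (fun _ => M) (cPt j x ξ V.unop p) =
      Φ.toPresheafFiber ((EtShriek.compEtale j).obj V.unop) (cPt j x ξ V.unop p)
        ((EtShriek.extZero j).obj F).obj ≫ t :=
    fun t => Point.skyscraperPresheafHomEquiv_app_π Φ t _ _
  have h1 := germ_incl j x ξ F V.unop p
  have key : ∀ t : Φ.presheafFiber.obj ((EtShriek.extZero j).obj F).obj ⟶ M,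
      ((etaP j F).app V ≫ (Φ.skyscraperPresheafHomEquiv t).app (op ((EtShriek.compEtale j).obj V.unop))) ≫
        Pi.π (fun _ => M) (cPt j x ξ V.unop p) =
      (Ψ j x ξ).toPresheafFiber V.unop p F.obj ≫ incl j x ξ F ≫ t := by
    intro t
    refine (Category.assoc _ _ _).trans ?_
    refine (congrArg (fun s => (etaP j F).app V ≫ s) (hf t)).trans ?_
    refine (Category.assoc _ _ _).symm.trans ?_
    refine (congrArg (fun s => s ≫ t) h1.symm).trans ?_
    exact Category.assoc _ _ _
  exact (key f).trans ((congrArg (fun s => (Ψ j x ξ).toPresheafFiber V.unop p F.obj ≫ s) (h ξ)).trans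
    (key g).symm)

/-- the stalk of `F` at `ξ` -/
noncomputable abbrev Fst (F : EtCoh.Ab U) (ξ : Pts j x) : AddCommGrpCat.{u + 1} :=
  (Ψ j x ξ).presheafFiber.obj F.obj

open Classical in
/-- **the comparison `j_! F ⟶ j_* F` is injective on stalks** -/
theorem injective_stalk_tau (F : EtCoh.Ab U) :
    Function.Injective ((Scheme.pointSmallEtale x).presheafFiber.map (tauP j F)) := by
  let Φ := Scheme.pointSmallEtale x
  let A : AddCommGrpCat.{u + 1} := Φ.presheafFiber.obj ((EtShriek.extZero j).obj F).obj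
  let T := Φ.presheafFiber.map (tauP j F)
  let R : (DirectSum (Pts j x) fun ξ => Fst j x F ξ) →+ A :=
    DirectSum.toAddMonoid (fun ξ => (incl j x ξ F).hom)
  -- the projections recover the components
  have hQR : ∀ (d : DirectSum (Pts j x) fun ξ => Fst j x F ξ)
      (ξ : Pts j x), π j x ξ F (T (R d)) = d ξ := by
    intro d ξ
    induction d using DirectSum.induction_on with
    | zero => simp
    | of ξ' a =>
      have hR : R (DirectSum.of _ ξ' a) = incl j x ξ' F a := DirectSum.toAddMonoid_of _ _ _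
      rw [hR]
      by_cases hξ : ξ = ξ'
      · subst hξ
        rw [DirectSum.of_eq_same]
        have := ConcreteCategory.congr_hom (incl_tau_π_self j x ξ F) a
        simpa using this
      · rw [DirectSum.of_eq_of_ne _ _ _ hξ]
        have := ConcreteCategory.congr_hom (incl_tau_π_ne j x ξ' ξ hξ F) a
        simpa using this
    | add d₁ d₂ h₁ h₂ =>
      rw [map_add, map_add, map_add, h₁, h₂, DirectSum.add_apply]
  -- `R` is surjective
  have hsurj : Function.Surjective R := by
    let H : AddSubgroup A := R.range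
    let M : AddCommGrpCat.{u + 1} := AddCommGrpCat.of (A ⧸ H)
    let f : A ⟶ M := AddCommGrpCat.ofHom (QuotientAddGroup.mk' H)
    have hf : f = 0 := by
      apply incl_jointly_epi j x F
      intro ξ
      ext a
      change QuotientAddGroup.mk' H (incl j x ξ F a) = 0
      rw [QuotientAddGroup.mk'_apply, QuotientAddGroup.eq_zero_iff]
      exact ⟨DirectSum.of _ ξ a, DirectSum.toAddMonoid_of _ _ _⟩
    intro z
    have hz : QuotientAddGroup.mk' H z = 0 := ConcreteCategory.congr_hom hf z
    rw [QuotientAddGroup.mk'_apply, QuotientAddGroup.eq_zero_iff] at hz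
    exact hz
  intro z₁ z₂ hz
  have h0 : T (z₁ - z₂) = 0 := by
    rw [map_sub, sub_eq_zero]
    exact hz
  obtain ⟨d, hd⟩ := hsurj (z₁ - z₂)
  have hd0 : d = 0 := by
    apply DFinsupp.ext
    intro ξ
    have h2 := hQR d ξ
    rw [hd, h0, map_zero] at h2
    exact h2.symm
  rw [hd0, map_zero] at hd
  exact sub_eq_zero.mp hd.symm

end Stalk

/-- **`j_! F ⟶ j_* F` is a monomorphism for a separated étale morphism `j`.** -/
theorem mono_tau (F : EtCoh.Ab U) : Mono ((tau j).app F) :=
  Groth.Agent.Lib.Helper16.EtStalk.mono_of_stalks _ (fun _ _ _ ξ => injective_stalk_tau j ξ F)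

end Groth.Agent.Lib.Seat1.ShriekMono
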