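import Mathlib
import Groth.Prelude.Def_EtShriek2
import Groth.Agent.Lib.Seat1ShriekMono
import Groth.Agent.Lib.Seat1ShriekGeo
import Groth.Agent.Lib.Seat3ShriekSheaf

/-!
# `j_! ≅` sections with proper support, for a separated étale morphism `j` (seat 1)
-/

set_option autoImplicit false
set_option linter.style.haveILetI false
set_option linter.unusedSectionVars false
universe u
open CategoryTheory CategoryTheory.Limits AlgebraicGeometry Opposite TopologicalSpace

namespace Groth.Agent.Lib.Seat1.ShriekIso

open GrothendieckTopology EtShriek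
open Groth.Agent.Lib.Helper1 Groth.Agent.Lib.Helper16.SmallEtale Groth.Agent.Lib.Seat1.FinSplit
  Groth.Agent.Lib.Seat1.Graph Groth.Agent.Lib.Seat1.StalkAbs Groth.Agent.Lib.Seat1.StalkFin
  Groth.Agent.Lib.Seat1.ShriekMono Groth.Agent.Lib.Seat1.ShriekGeo Groth.Agent.Lib.Seat3.ShriekSheaf

section General

variable {X Y : Scheme.{u}} (f : X ⟶ Y) [LocallyOfFiniteType f] (F : EtCoh.Ab X)

/-- proper support over `V` is inherited by all restrictions -/
theorem shriekPred_of_hasProperSupport (V : Y.Etale) (s : EtCoh.sect F ((EtCoh.bc f).obj V))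
    (h : HasProperSupport F ((EtCoh.bc f).obj V) s (prV f V)) : ShriekPred f F V s := by
  intro V' φ
  obtain ⟨Z, hsub, hZ⟩ := h
  refine ⟨((EtCoh.bc f).map φ).left.base ⁻¹' Z, ?_, ?_⟩
  · rw [sectSupp_map]
    exact Set.preimage_mono hsub
  · rw [isProperOver_preimage_iff f φ Z hZ.1]
    haveI : IsProper (redι Z hZ.1 ≫ prV f V) := hZ.2
    infer_instance

end General

variable {U X : Scheme.{u}} (j : U ⟶ X) [Etale j] [IsSeparated j] [EtShriek.JCont j]

instance : LocallyOfFiniteType j := inferInstance

set_option backward.isDefEq.respectTransparency.types false in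
/-- the support of the extension by zero of a section is contained in the graph -/
lemma sectSupp_ext0_subset (F : EtCoh.Ab U) (V : U.Etale) (s : F.obj.obj (op V)) :
    sectSupp F (PV j V) (ext0 j F V s) ⊆ Set.range (graph j V).left := by
  intro z hz
  by_contra hcon
  have hzc : z ∈ cOpen j V := hcon
  refine hz (opnOf (PV j V) (cOpen j V)) (opnIn (PV j V) (cOpen j V)) ⟨⟨z, hzc⟩, rfl⟩ ?_
  exact ext0Fun_compl j F V s

set_option backward.isDefEq.respectTransparency.types false in
/-- the graph is proper over the base -/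
lemma isProperOver_range_graph (V : U.Etale) :
    ClSub.IsProperOver (prV j ((EtShriek.compEtale j).obj V)) (Set.range (graph j V).left) := by
  haveI : IsClosedImmersion (graph j V).left :=
    isClosedImmersion_of_section (pullback.fst ((EtShriek.compEtale j).obj V).hom j) _
      (graph_left_fst j V)
  rw [isProperOver_iff_isProper_comp (prV j ((EtShriek.compEtale j).obj V)) (graph j V).left _ rfl]
  have h : (graph j V).left ≫ prV j ((EtShriek.compEtale j).obj V) = 𝟙 V.left := graph_left_fst j V
  rw [h]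
  let T : Scheme.{u} := V.left
  exact (inferInstance : IsProper (𝟙 T))

/-- the extension by zero of a section has proper support -/
lemma shriekPred_ext0 (F : EtCoh.Ab U) (V : U.Etale) (s : F.obj.obj (op V)) :
    ShriekPred j F ((EtShriek.compEtale j).obj V) (ext0 j F V s) :=
  shriekPred_of_hasProperSupport j F _ _
    ⟨_, sectSupp_ext0_subset j F V s, isProperOver_range_graph j V⟩

/-- the inclusion of the sections with proper support into all sections -/
noncomputable def ιS (F : EtCoh.Ab U) : (shriekSheafFunctor j).obj F ⟶ (EtCoh.push j).obj F :=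
  ⟨lowerShriekPreι j F⟩

lemma ιS_naturality {F F' : EtCoh.Ab U} (α : F ⟶ F') :
    (shriekSheafFunctor j).map α ≫ ιS j F' = ιS j F ≫ (EtCoh.push j).map α := by
  apply Sheaf.hom_ext
  ext V : 2
  rfl

instance mono_ιS (F : EtCoh.Ab U) : Mono (ιS j F) := by
  haveI : Mono (ιS j F).hom := by
    apply (config := { allowSynthFailures := true }) NatTrans.mono_of_mono_app
    intro V
    apply ConcreteCategory.mono_of_injective
    exact Subtype.val_injective
  exact Sheaf.Hom.mono_of_presheaf_mono _ _ _

/-- extension by zero of sections along the graphs, with values in the sections with proper support -/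
noncomputable def sigmaFlat (F : EtCoh.Ab U) :
    F ⟶ (EtShriek.restrAlong j).obj ((shriekSheafFunctor j).obj F) :=
  ⟨{ app := fun V => AddCommGrpCat.ofHom
        ((ext0 j F V.unop).hom.codRestrict (shriekSubgroup j F ((EtShriek.compEtale j).obj V.unop))
          (fun s => (mem_shriekSubgroup_iff j F _ _).2 (shriekPred_ext0 j F V.unop s)))
     naturality := fun V V' g => by
        ext s
        apply Subtype.ext
        exact ConcreteCategory.congr_hom (ext0_naturality j F g.unop).symm s }⟩

lemma sigmaFlat_ιS (F : EtCoh.Ab U) :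
    sigmaFlat j F ≫ (EtShriek.restrAlong j).map (ιS j F) = tauFlat j F := by
  apply Sheaf.hom_ext
  ext V : 2
  rfl

/-- the comparison `j_! F ⟶ (sections with proper support)` -/
noncomputable def sigma (F : EtCoh.Ab U) :
    (EtShriek.extZero j).obj F ⟶ (shriekSheafFunctor j).obj F :=
  ((EtShriek.extZeroAdj j).homEquiv F ((shriekSheafFunctor j).obj F)).symm (sigmaFlat j F)

lemma sigma_ιS (F : EtCoh.Ab U) : sigma j F ≫ ιS j F = (tau j).app F := by
  unfold sigma
  rw [← Adjunction.homEquiv_naturality_right_symm, sigmaFlat_ιS]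
  rfl

lemma sigma_naturality {F F' : EtCoh.Ab U} (α : F ⟶ F') :
    (EtShriek.extZero j).map α ≫ sigma j F' = sigma j F ≫ (shriekSheafFunctor j).map α := by
  rw [← cancel_mono (ιS j F'), Category.assoc, Category.assoc, sigma_ιS, ιS_naturality,
    ← Category.assoc, sigma_ιS]
  exact (tau j).naturality α

instance mono_sigma (F : EtCoh.Ab U) : Mono (sigma j F) := by
  haveI : Mono (sigma j F ≫ ιS j F) := by
    rw [sigma_ιS]
    exact mono_tau j F
  exact mono_of_mono (sigma j F) (ιS j F)

section Germ

variable {Ω : Type u} [Field Ω] [IsSepClosed Ω]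

set_option backward.isDefEq.respectTransparency.types false in
/-- a section whose germ at a geometric point vanishes is not supported at this point -/
lemma not_mem_sectSupp_of_germ_eq_zero (F : EtCoh.Ab U) (ξ : Spec (CommRingCat.of Ω) ⟶ U) (P : U.Etale)
    (q : (Scheme.pointSmallEtale ξ).fiber.obj P) (t : F.obj.obj (op P))
    (h : (Scheme.pointSmallEtale ξ).toPresheafFiber P q F.obj t = 0) :
    (Over.Hom.left (show Over.mk ξ ⟶ (Scheme.Etale.forget U).obj P from q))
      (default : Spec (CommRingCat.of Ω)) ∉ sectSupp F P t := by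
  rw [← map_zero ((Scheme.pointSmallEtale ξ).toPresheafFiber P q F.obj).hom] at h
  obtain ⟨N, g, n, hn, hg⟩ := ((Scheme.pointSmallEtale ξ).toPresheafFiber_eq_iff' P q t 0).mp h
  intro hz
  let n' : Over.mk ξ ⟶ (Scheme.Etale.forget U).obj N := n
  let q' : Over.mk ξ ⟶ (Scheme.Etale.forget U).obj P := q
  let nl : Spec (CommRingCat.of Ω) ⟶ N.left := n'.left
  let ql : Spec (CommRingCat.of Ω) ⟶ P.left := q'.left
  let gl : N.left ⟶ P.left := g.left
  have hnq : nl ≫ gl = ql := congrArg (fun t => Over.Hom.left t) hn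
  refine hz N g ⟨nl default, ?_⟩ ?_
  · exact (Scheme.Hom.comp_apply _ _ _).symm.trans
      (congrArg (fun t : Spec (CommRingCat.of Ω) ⟶ P.left => t default) hnq)
  · rw [hg, map_zero]

set_option backward.isDefEq.respectTransparency.types false in
/-- the germ of a section at a geometric point outside its support vanishes -/
lemma germ_eq_zero_of_not_mem_sectSupp (F : EtCoh.Ab U) (ξ : Spec (CommRingCat.of Ω) ⟶ U) (P : U.Etale)
    (q : (Scheme.pointSmallEtale ξ).fiber.obj P) (t : F.obj.obj (op P))
    (h : (Over.Hom.left (show Over.mk ξ ⟶ (Scheme.Etale.forget U).obj P from q))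
      (default : Spec (CommRingCat.of Ω)) ∉ sectSupp F P t) :
    (Scheme.pointSmallEtale ξ).toPresheafFiber P q F.obj t = 0 := by
  let q' : Over.mk ξ ⟶ (Scheme.Etale.forget U).obj P := q
  let ql : Spec (CommRingCat.of Ω) ⟶ P.left := q'.left
  have hq : ql ≫ P.hom = ξ := Over.w q'
  have h' : ¬ ∀ (W : U.Etale) (g : W ⟶ P), (∃ w : W.left, g.left w = ql default) →
      F.obj.map g.op t ≠ 0 := h
  push Not at h'
  obtain ⟨N, g, ⟨n₀, hn₀⟩, h0⟩ := h'
  let gl : N.left ⟶ P.left := g.left
  haveI : Etale gl := inferInstanceAs (Etale g.left)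
  obtain ⟨l, hl1, -⟩ := Scheme.exists_fac_of_etale_of_isSepClosed gl ql n₀ hn₀
  have hgP : gl ≫ P.hom = N.hom := MorphismProperty.Over.w g
  let n : Over.mk ξ ⟶ (Scheme.Etale.forget U).obj N := Over.homMk l (by
    change l ≫ N.hom = ξ
    refine (congrArg (fun t => l ≫ t) hgP.symm).trans ?_
    refine (Category.assoc _ _ _).symm.trans ?_
    exact (congrArg (fun t => t ≫ P.hom) hl1).trans hq)
  have hn : (Scheme.pointSmallEtale ξ).fiber.map g n = q := by
    apply Over.OverMorphism.ext
    exact hl1
  rw [← hn, ← Point.toPresheafFiber_w_apply, h0, map_zero]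

end Germ

section Stalk

variable {Ω : Type u} [Field Ω] [IsSepClosed Ω] (x : Spec (CommRingCat.of Ω) ⟶ X)

/-- the comparison, on presheaves -/
noncomputable def sigmaP (F : EtCoh.Ab U) :
    ((EtShriek.extZero j).obj F).obj ⟶ lowerShriekPre j F := (sigma j F).hom

/-- the inclusion, on presheaves -/
noncomputable def iotaP (F : EtCoh.Ab U) : lowerShriekPre j F ⟶ (EtCoh.bc j).op ⋙ F.obj :=
  lowerShriekPreι j F

lemma sigmaP_iotaP (F : EtCoh.Ab U) : sigmaP j F ≫ iotaP j F = tauP j F :=
  congrArg (fun t => t.hom) (sigma_ιS j F)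

/-- the projections of the germ of a section with proper support -/
lemma π_iotaP_germ (F : EtCoh.Ab U) (ξ : Pts j x) (W : X.Etale)
    (w : (Scheme.pointSmallEtale x).fiber.obj W) (t : ToType ((lowerShriekPre j F).obj (op W))) :
    π j x ξ F ((Scheme.pointSmallEtale x).presheafFiber.map (iotaP j F)
      ((Scheme.pointSmallEtale x).toPresheafFiber W w (lowerShriekPre j F) t)) =
    (Ψ j x ξ).toPresheafFiber ((EtCoh.bc j).obj W) (liftPt j x ξ W w) F.obj
      ((iotaP j F).app (op W) t) := by
  rw [Point.toPresheafFiber_naturality_apply]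
  exact cmp_toPresheafFiber_apply (EtCoh.bc j) (Scheme.pointSmallEtale x) (Ψ j x) (θ j x) ξ F.obj W w _

set_option backward.isDefEq.respectTransparency.types false in
instance etale_prV (W : X.Etale) : Etale (prV j W) :=
  inferInstanceAs (Etale (pullback.fst W.hom j))

set_option backward.isDefEq.respectTransparency.types false in
/-- only finitely many projections of a germ of a section with proper support are nonzero -/
lemma finite_support (F : EtCoh.Ab U)
    (y : ToType ((Scheme.pointSmallEtale x).presheafFiber.obj (lowerShriekPre j F))) :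
    {ξ : Pts j x | π j x ξ F ((Scheme.pointSmallEtale x).presheafFiber.map (iotaP j F) y) ≠ 0}.Finite := by
  obtain ⟨W, w, t, rfl⟩ := (Scheme.pointSmallEtale x).toPresheafFiber_jointly_surjective y
  simp_rw [π_iotaP_germ]
  let t1 : F.obj.obj (op ((EtCoh.bc j).obj W)) := (iotaP j F).app (op W) t
  have hpred : ShriekPred j F W t1 := (mem_shriekSubgroup_iff j F W t1).1 t.2
  obtain ⟨Z, hsub, hZ⟩ := hasProperSupport_of_shriekPred j F hpred
  let w' : Over.mk x ⟶ (Scheme.Etale.forget X).obj W := w
  let wl : Spec (CommRingCat.of Ω) ⟶ W.left := w'.left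
  haveI := finite_pts_of_isProperOver (prV j W) Z hZ wl
  let S : Set (Pts j x) := {ξ : Pts j x |
    (Ψ j x ξ).toPresheafFiber ((EtCoh.bc j).obj W) (liftPt j x ξ W w) F.obj t1 ≠ 0}
  let ml : Pts j x → (Spec (CommRingCat.of Ω) ⟶ ((EtCoh.bc j).obj W).left) := fun ξ =>
    Over.Hom.left (show Over.mk ξ.1 ⟶ (Scheme.Etale.forget U).obj ((EtCoh.bc j).obj W) from
      liftPt j x ξ W w)
  have hml1 : ∀ ξ, ml ξ ≫ prV j W = wl := fun ξ => liftPt_left_fst j x ξ W w
  have hml2 : ∀ ξ, ml ξ ≫ pullback.snd W.hom j = ξ.1 := fun ξ => liftPt_left_snd j x ξ W w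
  let φ : S → {m : Spec (CommRingCat.of Ω) ⟶ ((EtCoh.bc j).obj W).left //
      m ≫ prV j W = wl ∧ m default ∈ Z} := fun ξ =>
    ⟨ml ξ.1, hml1 ξ.1, hsub (by
      by_contra hcon
      exact ξ.2 (germ_eq_zero_of_not_mem_sectSupp F ξ.1.1 _ (liftPt j x ξ.1 W w) t1 hcon))⟩
  have hφ : Function.Injective φ := by
    intro ξ ξ' h
    apply Subtype.ext
    apply Subtype.ext
    have h1 : ml ξ.1 = ml ξ'.1 := congrArg Subtype.val h
    rw [← hml2 ξ.1, ← hml2 ξ'.1, h1]
  exact Set.finite_coe_iff.mp (Finite.of_injective φ hφ)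

set_option backward.isDefEq.respectTransparency.types false in
/-- a germ of a section with proper support all of whose projections vanish is zero -/
lemma eq_zero_of_π_eq_zero (F : EtCoh.Ab U)
    (y : ToType ((Scheme.pointSmallEtale x).presheafFiber.obj (lowerShriekPre j F)))
    (h : ∀ ξ : Pts j x,
      π j x ξ F ((Scheme.pointSmallEtale x).presheafFiber.map (iotaP j F) y) = 0) : y = 0 := by
  obtain ⟨W, w, t, rfl⟩ := (Scheme.pointSmallEtale x).toPresheafFiber_jointly_surjective y
  simp_rw [π_iotaP_germ] at h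
  let t1 : F.obj.obj (op ((EtCoh.bc j).obj W)) := (iotaP j F).app (op W) t
  have hpred : ShriekPred j F W t1 := (mem_shriekSubgroup_iff j F W t1).1 t.2
  obtain ⟨Z, hsub, hZ⟩ := hasProperSupport_of_shriekPred j F hpred
  let Z' : Set ((EtCoh.bc j).obj W).left := sectSupp F _ t1
  have hZ' : ClSub.IsProperOver (prV j W) Z' :=
    isProperOver_of_subset _ hZ (isClosed_sectSupp F _ t1) hsub
  have hC : IsClosed ((prV j W) '' Z') := isClosed_image_of_isProperOver _ _ hZ'
  let w' : Over.mk x ⟶ (Scheme.Etale.forget X).obj W := w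
  let wl : Spec (CommRingCat.of Ω) ⟶ W.left := w'.left
  have hwl : wl ≫ W.hom = x := Over.w w'
  -- the point `w` does not lie in the image of the support
  have hw0 : wl default ∉ (prV j W) '' Z' := by
    rintro ⟨z₀, hz₀, hz₀w⟩
    obtain ⟨ū, hū1, hū2⟩ := Scheme.exists_fac_of_etale_of_isSepClosed (prV j W) wl z₀ hz₀w
    have hξ : (ū ≫ pullback.snd W.hom j) ≫ j = x := by
      refine (Category.assoc _ _ _).trans ?_
      refine (congrArg (fun t => ū ≫ t) pullback.condition.symm).trans ?_
      refine (Category.assoc _ _ _).symm.trans ?_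
      exact (congrArg (fun t => t ≫ W.hom) hū1).trans hwl
    let ξ : Pts j x := ⟨ū ≫ pullback.snd W.hom j, hξ⟩
    let q : Over.mk ξ.1 ⟶ (Scheme.Etale.forget U).obj ((EtCoh.bc j).obj W) := Over.homMk ū rfl
    have hq : liftPt j x ξ W w = q := by
      apply fiber_bc_ext
      rw [liftPt_left_fst]
      exact hū1.symm
    have h0 := h ξ
    rw [hq] at h0
    refine not_mem_sectSupp_of_germ_eq_zero F ξ.1 _ q t1 h0 ?_
    change ū default ∈ Z'
    rw [hū2]
    exact hz₀
  let O : W.left.Opens := ⟨((prV j W) '' Z')ᶜ, hC.isOpen_compl⟩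
  have hrange : Set.range wl ⊆ Set.range O.ι := by
    rintro _ ⟨a, rfl⟩
    rw [Scheme.Opens.range_ι, Subsingleton.elim a default]
    exact hw0
  let wc : Spec (CommRingCat.of Ω) ⟶ ((O : W.left.Opens) : Scheme.{u}) :=
    IsOpenImmersion.lift O.ι wl hrange
  have hwc : wc ≫ O.ι = wl := IsOpenImmersion.lift_fac _ _ _
  let w'' : Over.mk x ⟶ (Scheme.Etale.forget X).obj (opnOf W O) := Over.homMk wc (by
    change wc ≫ O.ι ≫ W.hom = x
    refine (Category.assoc _ _ _).symm.trans ?_
    exact (congrArg (fun t => t ≫ W.hom) hwc).trans hwl)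
  have hw'' : (Scheme.pointSmallEtale x).fiber.map (opnIn W O) w'' = w := by
    apply Over.OverMorphism.ext
    exact hwc
  rw [← hw'', ← Point.toPresheafFiber_w_apply]
  have hzero : (lowerShriekPre j F).map (opnIn W O).op t = 0 := by
    apply Subtype.ext
    change F.obj.map ((EtCoh.bc j).map (opnIn W O)).op t1 = 0
    apply eq_zero_of_sectSupp_eq_empty
    rw [sectSupp_map]
    ext y
    simp only [Set.mem_preimage, Set.mem_empty_iff_false, iff_false]
    intro hy
    have h1 : ((EtCoh.bc j).map (opnIn W O)).left ≫ prV j W = prV j (opnOf W O) ≫ O.ι :=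
      bc_map_left_fst j (opnIn W O)
    have h2 : prV j W (((EtCoh.bc j).map (opnIn W O)).left y) = O.ι (prV j (opnOf W O) y) :=
      (Scheme.Hom.comp_apply _ _ _).symm.trans
        ((congrArg (fun t : ((EtCoh.bc j).obj (opnOf W O)).left ⟶ W.left => t y) h1).trans
          (Scheme.Hom.comp_apply _ _ _))
    have h3 : O.ι (prV j (opnOf W O) y) ∈ O := (prV j (opnOf W O) y).2
    exact h3 (h2 ▸ ⟨_, hy, rfl⟩)
  rw [hzero, map_zero]

open Classical in
/-- **the comparison `j_! F ⟶ (sections with proper support)` is surjective on stalks** -/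
theorem surjective_stalk_sigma (F : EtCoh.Ab U) :
    Function.Surjective ((Scheme.pointSmallEtale x).presheafFiber.map (sigmaP j F)) := by
  intro y
  let Φ := Scheme.pointSmallEtale x
  let T := Φ.presheafFiber.map (tauP j F)
  let I := Φ.presheafFiber.map (iotaP j F)
  let Sg := Φ.presheafFiber.map (sigmaP j F)
  have hSI : ∀ d, I (Sg d) = T d := by
    intro d
    have h1 : Sg ≫ I = T := by
      change Φ.presheafFiber.map (sigmaP j F) ≫ Φ.presheafFiber.map (iotaP j F) = _
      rw [← Functor.map_comp, sigmaP_iotaP]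
    exact ConcreteCategory.congr_hom h1 d
  let a : ∀ ξ : Pts j x, Fst j x F ξ := fun ξ => π j x ξ F (I y)
  have hfin := finite_support j x F y
  let S : Finset (Pts j x) := hfin.toFinset
  let d := ∑ ξ ∈ S, incl j x ξ F (a ξ)
  have hd : ∀ ξ, π j x ξ F (T d) = a ξ := by
    intro ξ
    simp only [d, map_sum]
    rw [Finset.sum_eq_single ξ]
    · have := ConcreteCategory.congr_hom (incl_tau_π_self j x ξ F) (a ξ)
      simpa using this
    · intro ξ' _ hne
      have := ConcreteCategory.congr_hom (incl_tau_π_ne j x ξ' ξ hne.symm F) (a ξ')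
      simpa using this
    · intro hξ
      have h0 : a ξ = 0 := by
        by_contra hcon
        exact hξ (hfin.mem_toFinset.mpr hcon)
      rw [h0, map_zero, map_zero, map_zero]
  refine ⟨d, ?_⟩
  have h0 : y - Sg d = 0 := by
    apply eq_zero_of_π_eq_zero j x F
    intro ξ
    change π j x ξ F (I (y - Sg d)) = 0
    rw [map_sub, map_sub, hSI, hd, sub_self]
  exact (sub_eq_zero.mp h0).symm

end Stalk

/-- the comparison is an epimorphism -/
theorem epi_sigma (F : EtCoh.Ab U) : Epi (sigma j F) :=
  Groth.Agent.Lib.Helper16.EtStalk.epi_of_stalks _ (fun _ _ _ ξ => surjective_stalk_sigma j ξ F)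

instance isIso_sigma (F : EtCoh.Ab U) : IsIso (sigma j F) := by
  haveI := epi_sigma j F
  exact isIso_of_mono_of_epi _

/-- **`j_!` is the functor of sections with proper support, for `j` separated étale** -/
noncomputable def extZeroIsoShriek : EtShriek.extZero j ≅ shriekSheafFunctor j :=
  NatIso.ofComponents (fun F => asIso (sigma j F)) (fun α => sigma_naturality j α)

theorem nonempty_iso : Nonempty (EtShriek.extZero j ≅ EtShriek.lowerShriek j) :=
  ⟨extZeroIsoShriek j ≪≫ (lowerShriekIso j).symm⟩

end Groth.Agent.Lib.Seat1.ShriekIso
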