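import Mathlib
import Groth.Prelude.Def_EtShriek2
import Groth.Agent.Lib.Seat1ShriekIso
import Groth.Agent.Lib.Seat1StalkGeo

/-!
# Stalks of sections with proper support, for a separated locally quasi-finite morphism (seat 1)

For `f : X ⟶ Y` separated, locally of finite type and locally quasi-finite and `η : Spec Ω ⟶ Y` with `Ω`
algebraically closed: the maps `Θ ξ : (f_! F)_η ⟶ F_ξ`, their finiteness and joint injectivity.
-/

set_option autoImplicit false
set_option linter.style.haveILetI false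
set_option linter.unusedSectionVars false
universe u
open CategoryTheory CategoryTheory.Limits AlgebraicGeometry Opposite TopologicalSpace

namespace Groth.Agent.Lib.Seat1.ShriekLqf

open GrothendieckTopology EtShriek
open Groth.Agent.Lib.Helper1 Groth.Agent.Lib.Helper16.SmallEtale Groth.Agent.Lib.Seat1.FinSplit
  Groth.Agent.Lib.Seat1.StalkAbs Groth.Agent.Lib.Seat1.StalkFin
  Groth.Agent.Lib.Seat1.ShriekGeo Groth.Agent.Lib.Seat1.ShriekIso Groth.Agent.Lib.Seat3.ShriekSheaf

section Geo

variable {P W : Scheme.{u}} (p : P ⟶ W) [LocallyOfFiniteType p] [LocallyQuasiFinite p]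

/-- a closed subset proper over the base of a locally quasi-finite morphism is finite over the base -/
theorem isFinite_red_of_isProperOver' (Z : Set P) (hZ : IsClosed Z) (h : ClSub.IsProperOver p Z) :
    IsFinite (redι Z hZ ≫ p) := by
  obtain ⟨_, hp⟩ := h
  haveI : IsProper (redι Z hZ ≫ p) := hp
  haveI : LocallyQuasiFinite (redι Z hZ ≫ p) := inferInstance
  exact IsFinite.of_isProper_of_locallyQuasiFinite _

theorem finite_pts_of_isProperOver' {Ω : Type u} [Field Ω] (Z : Set P) (h : ClSub.IsProperOver p Z)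
    (w : Spec (CommRingCat.of Ω) ⟶ W) :
    Finite {m : Spec (CommRingCat.of Ω) ⟶ P // m ≫ p = w ∧ m default ∈ Z} := by
  have hZ : IsClosed Z := h.1
  haveI : IsFinite (redι Z hZ ≫ p) := isFinite_red_of_isProperOver' p Z hZ h
  haveI := finite_points_of_isFinite (redι Z hZ ≫ p) w
  choose l hl using fun m : {m : Spec (CommRingCat.of Ω) ⟶ P // m ≫ p = w ∧ m default ∈ Z} =>
    exists_lift_redι Z hZ m.1 m.2.2
  let a : {m : Spec (CommRingCat.of Ω) ⟶ P // m ≫ p = w ∧ m default ∈ Z} →
      {z : Spec (CommRingCat.of Ω) ⟶ (Scheme.IdealSheafData.vanishingIdeal ⟨Z, hZ⟩).subscheme //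
        z ≫ redι Z hZ ≫ p = w} :=
    fun m => ⟨l m, by rw [← Category.assoc, hl m]; exact m.2.1⟩
  refine Finite.of_injective a ?_
  intro m m' hmm
  apply Subtype.ext
  rw [← hl m, ← hl m']
  exact congrArg (fun t => t.1 ≫ redι Z hZ) hmm

/-- a point of a closed subset proper over the base lifts to a geometric point over a given geometric point
of the base (`Ω` algebraically closed) -/
theorem exists_fac_of_isProperOver {Ω : Type u} [Field Ω] [IsAlgClosed Ω] (Z : Set P)
    (h : ClSub.IsProperOver p Z) (w : Spec (CommRingCat.of Ω) ⟶ W) (z₀ : P) (hz₀ : z₀ ∈ Z)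
    (hw : p z₀ = w default) :
    ∃ m : Spec (CommRingCat.of Ω) ⟶ P, m ≫ p = w ∧ m default = z₀ := by
  have hZ : IsClosed Z := h.1
  haveI : IsFinite (redι Z hZ ≫ p) := isFinite_red_of_isProperOver' p Z hZ h
  have hz' : z₀ ∈ Set.range (redι Z hZ) := by rw [range_redι]; exact hz₀
  obtain ⟨c, hc⟩ := hz'
  obtain ⟨z, hz1, hz2⟩ := Groth.Agent.Lib.Seat1.StalkGeo.exists_fac_of_finite_of_isAlgClosed
    (redι Z hZ ≫ p) w c (by rw [Scheme.Hom.comp_apply, hc]; exact hw)
  refine ⟨z ≫ redι Z hZ, (Category.assoc _ _ _).trans hz1, ?_⟩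
  rw [Scheme.Hom.comp_apply, hz2, hc]

end Geo

variable {X Y : Scheme.{u}} (f : X ⟶ Y) [IsSeparated f] [LocallyOfFiniteType f] [LocallyQuasiFinite f]
  {Ω : Type u} [Field Ω] [IsAlgClosed Ω] (η : Spec (CommRingCat.of Ω) ⟶ Y)

set_option backward.isDefEq.respectTransparency.types false in
instance lqf_prV (V : Y.Etale) : LocallyQuasiFinite (prV f V) :=
  inferInstanceAs (LocallyQuasiFinite (pullback.fst V.hom f))

/-- the inclusion of the sections with proper support, on presheaves -/
noncomputable def iotaP (F : EtCoh.Ab X) : lowerShriekPre f F ⟶ (EtCoh.bc f).op ⋙ F.obj :=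
  lowerShriekPreι f F

/-- the projection from the stalk of `f_! F` at `η` to the stalk of `F` at `ξ` -/
noncomputable def Θ (ξ : Pts f η) (F : EtCoh.Ab X) :
    (Scheme.pointSmallEtale η).presheafFiber.obj (lowerShriekPre f F) ⟶
      (Ψ f η ξ).presheafFiber.obj F.obj :=
  (Scheme.pointSmallEtale η).presheafFiber.map (iotaP f F) ≫
    cmp (EtCoh.bc f) (Scheme.pointSmallEtale η) (Ψ f η) (θ f η) ξ F.obj

/-- the projections of the germ of a section with proper support -/
lemma Θ_germ (F : EtCoh.Ab X) (ξ : Pts f η) (W : Y.Etale)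
    (w : (Scheme.pointSmallEtale η).fiber.obj W) (t : ToType ((lowerShriekPre f F).obj (op W))) :
    Θ f η ξ F ((Scheme.pointSmallEtale η).toPresheafFiber W w (lowerShriekPre f F) t) =
    (Ψ f η ξ).toPresheafFiber ((EtCoh.bc f).obj W) (liftPt f η ξ W w) F.obj
      ((iotaP f F).app (op W) t) := by
  unfold Θ
  rw [ConcreteCategory.comp_apply, Point.toPresheafFiber_naturality_apply]
  exact cmp_toPresheafFiber_apply (EtCoh.bc f) (Scheme.pointSmallEtale η) (Ψ f η) (θ f η) ξ F.obj W w _

set_option backward.isDefEq.respectTransparency.types false in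
/-- only finitely many projections of a germ of a section with proper support are nonzero -/
lemma finite_support (F : EtCoh.Ab X)
    (y : ToType ((Scheme.pointSmallEtale η).presheafFiber.obj (lowerShriekPre f F))) :
    {ξ : Pts f η | Θ f η ξ F y ≠ 0}.Finite := by
  obtain ⟨W, w, t, rfl⟩ := (Scheme.pointSmallEtale η).toPresheafFiber_jointly_surjective y
  simp_rw [Θ_germ]
  let t1 : F.obj.obj (op ((EtCoh.bc f).obj W)) := (iotaP f F).app (op W) t
  have hpred : ShriekPred f F W t1 := (mem_shriekSubgroup_iff f F W t1).1 t.2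
  obtain ⟨Z, hsub, hZ⟩ := hasProperSupport_of_shriekPred f F hpred
  let w' : Over.mk η ⟶ (Scheme.Etale.forget Y).obj W := w
  let wl : Spec (CommRingCat.of Ω) ⟶ W.left := w'.left
  haveI := finite_pts_of_isProperOver' (prV f W) Z hZ wl
  let S : Set (Pts f η) := {ξ : Pts f η |
    (Ψ f η ξ).toPresheafFiber ((EtCoh.bc f).obj W) (liftPt f η ξ W w) F.obj t1 ≠ 0}
  let ml : Pts f η → (Spec (CommRingCat.of Ω) ⟶ ((EtCoh.bc f).obj W).left) := fun ξ =>
    Over.Hom.left (show Over.mk ξ.1 ⟶ (Scheme.Etale.forget X).obj ((EtCoh.bc f).obj W) from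
      liftPt f η ξ W w)
  have hml1 : ∀ ξ, ml ξ ≫ prV f W = wl := fun ξ => liftPt_left_fst f η ξ W w
  have hml2 : ∀ ξ, ml ξ ≫ pullback.snd W.hom f = ξ.1 := fun ξ => liftPt_left_snd f η ξ W w
  let φ : S → {m : Spec (CommRingCat.of Ω) ⟶ ((EtCoh.bc f).obj W).left //
      m ≫ prV f W = wl ∧ m default ∈ Z} := fun ξ =>
    ⟨ml ξ.1, hml1 ξ.1, hsub (by
      by_contra hcon
      exact ξ.2 (germ_eq_zero_of_not_mem_sectSupp F ξ.1.1 _ (liftPt f η ξ.1 W w) t1 hcon))⟩
  have hφ : Function.Injective φ := by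
    intro ξ ξ' h
    apply Subtype.ext
    apply Subtype.ext
    have h1 : ml ξ.1 = ml ξ'.1 := congrArg Subtype.val h
    rw [← hml2 ξ.1, ← hml2 ξ'.1, h1]
  exact Set.finite_coe_iff.mp (Finite.of_injective φ hφ)

set_option backward.isDefEq.respectTransparency.types false in
/-- a germ of a section with proper support all of whose projections vanish is zero -/
lemma eq_zero_of_Θ_eq_zero (F : EtCoh.Ab X)
    (y : ToType ((Scheme.pointSmallEtale η).presheafFiber.obj (lowerShriekPre f F)))
    (h : ∀ ξ : Pts f η, Θ f η ξ F y = 0) : y = 0 := by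
  obtain ⟨W, w, t, rfl⟩ := (Scheme.pointSmallEtale η).toPresheafFiber_jointly_surjective y
  simp_rw [Θ_germ] at h
  let t1 : F.obj.obj (op ((EtCoh.bc f).obj W)) := (iotaP f F).app (op W) t
  have hpred : ShriekPred f F W t1 := (mem_shriekSubgroup_iff f F W t1).1 t.2
  obtain ⟨Z, hsub, hZ⟩ := hasProperSupport_of_shriekPred f F hpred
  let Z' : Set ((EtCoh.bc f).obj W).left := sectSupp F _ t1
  have hZ' : ClSub.IsProperOver (prV f W) Z' :=
    isProperOver_of_subset _ hZ (isClosed_sectSupp F _ t1) hsub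
  have hC : IsClosed ((prV f W) '' Z') := isClosed_image_of_isProperOver _ _ hZ'
  let w' : Over.mk η ⟶ (Scheme.Etale.forget Y).obj W := w
  let wl : Spec (CommRingCat.of Ω) ⟶ W.left := w'.left
  have hwl : wl ≫ W.hom = η := Over.w w'
  -- the point `w` does not lie in the image of the support
  have hw0 : wl default ∉ (prV f W) '' Z' := by
    rintro ⟨z₀, hz₀, hz₀w⟩
    obtain ⟨ū, hū1, hū2⟩ := exists_fac_of_isProperOver (prV f W) Z' hZ' wl z₀ hz₀ hz₀w
    have hξ : (ū ≫ pullback.snd W.hom f) ≫ f = η := by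
      refine (Category.assoc _ _ _).trans ?_
      refine (congrArg (fun t => ū ≫ t) pullback.condition.symm).trans ?_
      refine (Category.assoc _ _ _).symm.trans ?_
      exact (congrArg (fun t => t ≫ W.hom) hū1).trans hwl
    let ξ : Pts f η := ⟨ū ≫ pullback.snd W.hom f, hξ⟩
    let q : Over.mk ξ.1 ⟶ (Scheme.Etale.forget X).obj ((EtCoh.bc f).obj W) := Over.homMk ū rfl
    have hq : liftPt f η ξ W w = q := by
      apply fiber_bc_ext
      rw [liftPt_left_fst]
      exact hū1.symm
    have h0 := h ξ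
    rw [hq] at h0
    refine not_mem_sectSupp_of_germ_eq_zero F ξ.1 _ q t1 h0 ?_
    change ū default ∈ Z'
    rw [hū2]
    exact hz₀
  let O : W.left.Opens := ⟨((prV f W) '' Z')ᶜ, hC.isOpen_compl⟩
  have hrange : Set.range wl ⊆ Set.range O.ι := by
    rintro _ ⟨a, rfl⟩
    rw [Scheme.Opens.range_ι, Subsingleton.elim a default]
    exact hw0
  let wc : Spec (CommRingCat.of Ω) ⟶ ((O : W.left.Opens) : Scheme.{u}) :=
    IsOpenImmersion.lift O.ι wl hrange
  have hwc : wc ≫ O.ι = wl := IsOpenImmersion.lift_fac _ _ _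
  let w'' : Over.mk η ⟶ (Scheme.Etale.forget Y).obj (opnOf W O) := Over.homMk wc (by
    change wc ≫ O.ι ≫ W.hom = η
    refine (Category.assoc _ _ _).symm.trans ?_
    exact (congrArg (fun t => t ≫ W.hom) hwc).trans hwl)
  have hw'' : (Scheme.pointSmallEtale η).fiber.map (opnIn W O) w'' = w := by
    apply Over.OverMorphism.ext
    exact hwc
  rw [← hw'', ← Point.toPresheafFiber_w_apply]
  have hzero : (lowerShriekPre f F).map (opnIn W O).op t = 0 := by
    apply Subtype.ext
    change F.obj.map ((EtCoh.bc f).map (opnIn W O)).op t1 = 0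
    apply eq_zero_of_sectSupp_eq_empty
    rw [sectSupp_map]
    ext y
    simp only [Set.mem_preimage, Set.mem_empty_iff_false, iff_false]
    intro hy
    have h1 : ((EtCoh.bc f).map (opnIn W O)).left ≫ prV f W = prV f (opnOf W O) ≫ O.ι :=
      bc_map_left_fst f (opnIn W O)
    have h2 : prV f W (((EtCoh.bc f).map (opnIn W O)).left y) = O.ι (prV f (opnOf W O) y) :=
      (Scheme.Hom.comp_apply _ _ _).symm.trans
        ((congrArg (fun t : ((EtCoh.bc f).obj (opnOf W O)).left ⟶ W.left => t y) h1).trans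
          (Scheme.Hom.comp_apply _ _ _))
    have h3 : O.ι (prV f (opnOf W O) y) ∈ O := (prV f (opnOf W O) y).2
    exact h3 (h2 ▸ ⟨_, hy, rfl⟩)
  rw [hzero, map_zero]

end Groth.Agent.Lib.Seat1.ShriekLqf
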