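import Mathlib
import Groth.Prelude.Def_EtShriek2
import Groth.Agent.Lib.Seat1ShriekLqf
import Groth.Agent.Lib.Seat1IntPropA
import Groth.Agent.Lib.Helper20EtSplitClopen

/-!
# Local structure of a separated locally quasi-finite morphism at a geometric point (seat 1)
-/

set_option autoImplicit false
set_option linter.style.haveILetI false
set_option linter.unusedSectionVars false
universe u
open CategoryTheory CategoryTheory.Limits AlgebraicGeometry Opposite TopologicalSpace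

namespace Groth.Agent.Lib.Seat1.ShriekKGL

open GrothendieckTopology EtShriek
open Groth.Agent.Lib.Helper1 Groth.Agent.Lib.Helper16.SmallEtale Groth.Agent.Lib.Seat1.FinSplit
  Groth.Agent.Lib.Seat1.StalkAbs Groth.Agent.Lib.Seat1.StalkFin
  Groth.Agent.Lib.Seat1.ShriekGeo Groth.Agent.Lib.Seat1.ShriekIso Groth.Agent.Lib.Seat3.ShriekSheaf
  Groth.Agent.Lib.Helper20.ResFld

section Unique

variable {Ω : Type u} [Field Ω]

/-- two field-valued points with the same image point `w`, the same composite with `p`, are equal when the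
residue field extension of `p` at `w` is purely inseparable -/
theorem eq_of_pInsep {P U : Scheme.{u}} (p : P ⟶ U) (w : P)
    (hpi : PInsep (p.residueFieldMap w).hom)
    (z₁ z₂ : Spec (CommRingCat.of Ω) ⟶ P) (h₁ : z₁ default = w) (h₂ : z₂ default = w)
    (h : z₁ ≫ p = z₂ ≫ p) : z₁ = z₂ := by
  obtain ⟨⟨p₁, a₁⟩, rfl⟩ := (Scheme.SpecToEquivOfField Ω P).symm.surjective z₁
  obtain ⟨⟨p₂, a₂⟩, rfl⟩ := (Scheme.SpecToEquivOfField Ω P).symm.surjective z₂
  simp only [Scheme.SpecToEquivOfField_symm_apply] at h₁ h₂ h ⊢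
  have e₁ : w = p₁ := by
    rw [← h₁, Scheme.Hom.comp_apply, Scheme.fromSpecResidueField_apply]
  have e₂ : w = p₂ := by
    rw [← h₂, Scheme.Hom.comp_apply, Scheme.fromSpecResidueField_apply]
  subst e₁
  subst e₂
  suffices ha : a₁ = a₂ by rw [ha]
  rw [Category.assoc, Category.assoc, ← Scheme.Hom.SpecMap_residueFieldMap_fromSpecResidueField,
    ← Spec.map_comp_assoc, ← Spec.map_comp_assoc] at h
  have h' : (Scheme.SpecToEquivOfField Ω U).symm ⟨p w, p.residueFieldMap w ≫ a₁⟩ =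
      (Scheme.SpecToEquivOfField Ω U).symm ⟨p w, p.residueFieldMap w ≫ a₂⟩ := h
  have h'' := (Scheme.SpecToEquivOfField Ω U).symm.injective h'
  rw [Scheme.SpecToEquivOfField_eq_iff] at h''
  obtain ⟨e, he⟩ := h''
  have he' : p.residueFieldMap w ≫ a₁ = p.residueFieldMap w ≫ a₂ := by
    simpa using he
  letI : Algebra (U.residueField (p w)) (P.residueField w) := (p.residueFieldMap w).hom.toAlgebra
  haveI : IsPurelyInseparable (U.residueField (p w)) (P.residueField w) :=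
    (pInsep_iff _).1 hpi
  have := IsPurelyInseparable.injective_comp_algebraMap (U.residueField (p w)) (P.residueField w) Ω
    (a₁ := a₁.hom) (a₂ := a₂.hom) (by
      ext r
      exact ConcreteCategory.congr_hom he' r)
  ext r
  exact congrArg (fun t => t r) this

end Unique

section KGL

variable {X Y : Scheme.{u}} (f : X ⟶ Y) [IsSeparated f] [LocallyOfFiniteType f] [LocallyQuasiFinite f]
  {Ω : Type u} [Field Ω] [IsAlgClosed Ω] (η : Spec (CommRingCat.of Ω) ⟶ Y)

set_option backward.isDefEq.respectTransparency.types false in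
set_option maxHeartbeats 1600000 in
/-- **Local structure at a geometric point.** Every pointed étale neighbourhood `(N, n̄)` of a geometric point
`ξ` of `X` over `η` is dominated, after an étale localisation `(V', v̄')` of `Y` at `η`, by a clopen piece `W` of
`X ×_Y V'`, finite over `V'`, whose only geometric point over `v̄'` is `(ξ, v̄')`. -/
theorem exists_piece (ξ : Pts f η) (N : X.Etale) (n : (Ψ f η ξ).fiber.obj N) :
    ∃ (V' : Y.Etale) (v' : (Scheme.pointSmallEtale η).fiber.obj V')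
      (W : ((EtCoh.bc f).obj V').left.Opens),
      IsClosed (W : Set ((EtCoh.bc f).obj V').left) ∧ IsFinite (W.ι ≫ prV f V') ∧
      (∃ (b : opnOf ((EtCoh.bc f).obj V') W ⟶ N)
        (w : (Ψ f η ξ).fiber.obj (opnOf ((EtCoh.bc f).obj V') W)),
        (Ψ f η ξ).fiber.map b w = n ∧
          (Ψ f η ξ).fiber.map (opnIn ((EtCoh.bc f).obj V') W) w = liftPt f η ξ V' v') ∧
      ∀ ξ' : Pts f η, ξ' ≠ ξ →
        (Over.Hom.left (show Over.mk ξ'.1 ⟶ (Scheme.Etale.forget X).obj ((EtCoh.bc f).obj V') from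
          liftPt f η ξ' V' v')) (default : Spec (CommRingCat.of Ω)) ∉ W := by
  -- (a) the étale splitting at the image point
  let x₀ : X := ξ.1 (default : Spec (CommRingCat.of Ω))
  let y₀ : Y := η (default : Spec (CommRingCat.of Ω))
  have hxy : f x₀ = y₀ :=
    (Scheme.Hom.comp_apply _ _ _).symm.trans
      (congrArg (fun t : Spec (CommRingCat.of Ω) ⟶ Y => t default) ξ.2)
  obtain ⟨U₀, g, u₀, hg, hu₀, -, Vw, -, H⟩ :=
    Groth.Agent.Lib.Helper20.EtSections.exists_etale_split_clopen f y₀ {x₀} (Set.finite_singleton _)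
      (fun t ht => by
        rw [Set.mem_singleton_iff] at ht
        subst ht
        exact ⟨hxy, f.quasiFiniteAt _⟩)
  haveI : Etale g := hg
  -- (b) geometric points
  obtain ⟨ub, hub1, hub2⟩ := Scheme.exists_fac_of_etale_of_isSepClosed g η u₀ hu₀
  let a₀ : Spec (CommRingCat.of Ω) ⟶ pullback f g := pullback.lift ξ.1 ub (ξ.2.trans hub1.symm)
  have ha₀1 : a₀ ≫ pullback.fst f g = ξ.1 := pullback.lift_fst _ _ _
  have ha₀2 : a₀ ≫ pullback.snd f g = ub := pullback.lift_snd _ _ _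
  let w : ↥(pullback f g) := a₀ default
  have hw1 : pullback.snd f g w = u₀ :=
    (Scheme.Hom.comp_apply _ _ _).symm.trans
      ((congrArg (fun t : Spec (CommRingCat.of Ω) ⟶ U₀ => t default) ha₀2).trans hub2)
  have hw2 : pullback.fst f g w ∈ ({x₀} : Set X) :=
    (Scheme.Hom.comp_apply _ _ _).symm.trans
      (congrArg (fun t : Spec (CommRingCat.of Ω) ⟶ X => t default) ha₀1)
  obtain ⟨hwA, hclopen, hfinA, huniq, hpi, -⟩ := H w hw1 hw2
  let A : (pullback f g).Opens := Vw w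
  -- (c) uniqueness of the geometric point of `A` over `ub`
  have hc : ∀ z : Spec (CommRingCat.of Ω) ⟶ pullback f g, z ≫ pullback.snd f g = ub →
      z default ∈ A → z = a₀ := by
    intro z hz1 hz2
    have hzw : z default = w := by
      apply huniq _ hz2
      exact (Scheme.Hom.comp_apply _ _ _).symm.trans
        ((congrArg (fun t : Spec (CommRingCat.of Ω) ⟶ U₀ => t default) hz1).trans hub2)
    exact eq_of_pInsep (pullback.snd f g) w hpi z a₀ hzw rfl (hz1.trans ha₀2.symm)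
  -- (d) the finite part and the induced neighbourhood
  have hrangeA : Set.range a₀ ⊆ Set.range A.ι := by
    rintro _ ⟨t, rfl⟩
    rw [Scheme.Opens.range_ι, Subsingleton.elim t default]
    exact hwA
  let aA : Spec (CommRingCat.of Ω) ⟶ ((A : (pullback f g).Opens) : Scheme.{u}) :=
    IsOpenImmersion.lift A.ι a₀ hrangeA
  have haA : aA ≫ A.ι = a₀ := IsOpenImmersion.lift_fac _ _ _
  let fA : ((A : (pullback f g).Opens) : Scheme.{u}) ⟶ U₀ := A.ι ≫ pullback.snd f g
  haveI : IsFinite fA := hfinA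
  let eA : ((A : (pullback f g).Opens) : Scheme.{u}) ⟶ X := A.ι ≫ pullback.fst f g
  let Nh : N.left ⟶ X := N.hom
  haveI : Etale Nh := N.prop
  let NA : Scheme.{u} := pullback Nh eA
  let g' : NA ⟶ ((A : (pullback f g).Opens) : Scheme.{u}) := pullback.snd Nh eA
  haveI : Etale g' := inferInstanceAs (Etale (pullback.snd Nh eA))
  let n' : Over.mk ξ.1 ⟶ (Scheme.Etale.forget X).obj N := n
  let nl : Spec (CommRingCat.of Ω) ⟶ N.left := n'.left
  have hnl : nl ≫ Nh = ξ.1 := Over.w n'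
  have haAe : aA ≫ eA = ξ.1 :=
    (Category.assoc _ _ _).symm.trans ((congrArg (fun t => t ≫ pullback.fst f g) haA).trans ha₀1)
  let nA : Spec (CommRingCat.of Ω) ⟶ NA := pullback.lift nl aA (hnl.trans haAe.symm)
  have hnA1 : nA ≫ pullback.fst Nh eA = nl := pullback.lift_fst _ _ _
  have hnA2 : nA ≫ g' = aA := pullback.lift_snd _ _ _
  -- (e) the clopen piece for the finite part
  obtain ⟨V₂, W₂, hW₂c, h₂, hh₂, hu⟩ :=
    Groth.Agent.Lib.Seat1.IntPropA.exists_clopen_piece fA g' (nA default)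
  -- (f) the geometric point of the piece
  let V₂h : V₂.left ⟶ U₀ := V₂.hom
  haveI : Etale V₂h := V₂.prop
  let PA : Scheme.{u} := pullback V₂h fA
  let W₂' : PA.Opens := W₂
  let p₁ : PA ⟶ V₂.left := pullback.fst V₂h fA
  let p₂ : PA ⟶ ((A : (pullback f g).Opens) : Scheme.{u}) := pullback.snd V₂h fA
  let h₂' : (W₂' : Scheme.{u}) ⟶ NA := h₂
  have hh₂' : h₂' ≫ g' = W₂'.ι ≫ p₂ := hh₂
  haveI : Etale p₂ := inferInstanceAs (Etale (pullback.snd V₂h fA))
  haveI : Etale (h₂' ≫ g') := by rw [hh₂']; infer_instance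
  haveI : Etale h₂' := Etale.of_comp h₂' g'
  obtain ⟨t, ht⟩ := hu
  obtain ⟨z₂, hz₂, -⟩ := Scheme.exists_fac_of_etale_of_isSepClosed h₂' nA t ht
  let zp : Spec (CommRingCat.of Ω) ⟶ PA := z₂ ≫ W₂'.ι
  have hzp2 : zp ≫ p₂ = aA := by
    calc zp ≫ p₂ = z₂ ≫ (W₂'.ι ≫ p₂) := Category.assoc _ _ _
      _ = z₂ ≫ (h₂' ≫ g') := by rw [hh₂']
      _ = (z₂ ≫ h₂') ≫ g' := (Category.assoc _ _ _).symm
      _ = nA ≫ g' := by rw [hz₂]
      _ = aA := hnA2
  let v₂ : Spec (CommRingCat.of Ω) ⟶ V₂.left := zp ≫ p₁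
  have hv₂ : v₂ ≫ V₂h = ub := by
    calc v₂ ≫ V₂h = zp ≫ (p₁ ≫ V₂h) := Category.assoc _ _ _
      _ = zp ≫ (p₂ ≫ fA) := by rw [show p₁ ≫ V₂h = p₂ ≫ fA from pullback.condition]
      _ = (zp ≫ p₂) ≫ fA := (Category.assoc _ _ _).symm
      _ = aA ≫ A.ι ≫ pullback.snd f g := by rw [hzp2]
      _ = (aA ≫ A.ι) ≫ pullback.snd f g := (Category.assoc _ _ _).symm
      _ = ub := by rw [haA, ha₀2]
  -- (g) transfer to the base change of `f`
  let V₀ : Y.Etale := Scheme.Etale.mk g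
  let V' : Y.Etale := Scheme.Etale.mk (V₂h ≫ g)
  let φ : V' ⟶ V₀ := MorphismProperty.Over.homMk V₂h rfl
  have sq := EtCoh.isPullback_bc_map f φ
  let θ : pullback g f ≅ pullback f g := pullbackSymmetry g f
  have hθ1 : θ.hom ≫ pullback.snd f g = pullback.fst g f := pullbackSymmetry_hom_comp_snd g f
  have hθ2 : θ.hom ≫ pullback.fst f g = pullback.snd g f := pullbackSymmetry_hom_comp_fst g f
  let Q' : Scheme.{u} := ((EtCoh.bc f).obj V').left
  let bm : Q' ⟶ pullback g f := ((EtCoh.bc f).map φ).left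
  let q₁ : Q' ⟶ V₂.left := prV f V'
  let q₂ : Q' ⟶ X := pullback.snd V'.hom f
  have hbm1 : bm ≫ pullback.fst g f = q₁ ≫ V₂h := bc_map_left_fst f φ
  have hbm2 : bm ≫ pullback.snd g f = q₂ := bc_map_left_snd f φ
  let μ : Q' ⟶ pullback f g := bm ≫ θ.hom
  have hμ1 : μ ≫ pullback.fst f g = q₂ :=
    (Category.assoc _ _ _).trans ((congrArg (fun t => bm ≫ t) hθ2).trans hbm2)
  have hμ2 : μ ≫ pullback.snd f g = q₁ ≫ V₂h :=
    (Category.assoc _ _ _).trans ((congrArg (fun t => bm ≫ t) hθ1).trans hbm1)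
  have sq' : IsPullback μ q₁ (pullback.snd f g) V₂h := by
    have h2 : IsPullback θ.hom (pullback.fst g f) (pullback.snd f g) (𝟙 U₀) :=
      IsPullback.of_horiz_isIso ⟨by rw [hθ1, Category.comp_id]⟩
    have h3 : IsPullback bm q₁ (pullback.fst g f) V₂h := sq
    have := h3.paste_horiz h2
    rwa [Category.comp_id] at this
  let k : PA ⟶ Q' := sq'.lift (p₂ ≫ A.ι) p₁ (by
    calc (p₂ ≫ A.ι) ≫ pullback.snd f g = p₂ ≫ fA := Category.assoc _ _ _
      _ = p₁ ≫ V₂h := (pullback.condition (f := V₂h) (g := fA)).symm)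
  have hk1 : k ≫ μ = p₂ ≫ A.ι := sq'.lift_fst _ _ _
  have hk2 : k ≫ q₁ = p₁ := sq'.lift_snd _ _ _
  have sqk : IsPullback k p₂ μ A.ι := by
    refine IsPullback.of_right ?_ hk1 sq'.flip
    rw [hk2]
    exact IsPullback.of_hasPullback V₂h fA
  haveI : IsOpenImmersion k := MorphismProperty.of_isPullback (P := @IsOpenImmersion) sqk.flip inferInstance
  have hrangek : Set.range k = μ ⁻¹' (A : Set ↥(pullback f g)) := by
    have := Scheme.image_preimage_eq_of_isPullback sqk.flip Set.univ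
    rw [Set.preimage_univ, Set.image_univ, Set.image_univ, Scheme.Opens.range_ι] at this
    exact this
  -- the piece
  let W : Q'.Opens := k ''ᵁ W₂'
  let ei : (W₂' : Scheme.{u}) ≅ (W : Scheme.{u}) := k.isoImage W₂'
  have hei : ei.hom ≫ W.ι = W₂'.ι ≫ k := k.isoImage_hom_ι W₂'
  have hei' : ei.inv ≫ W₂'.ι ≫ k = W.ι := k.isoImage_inv_ι W₂'
  have hAclosed : IsClosed (A : Set ↥(pullback f g)) := hclopen.1
  have hWclosed : IsClosed (W : Set Q') := by
    have hrc : IsClosed (Set.range k) := by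
      rw [hrangek]
      exact hAclosed.preimage μ.continuous
    have hce : Topology.IsClosedEmbedding k := ⟨k.isOpenEmbedding.isEmbedding, hrc⟩
    exact hce.isClosedMap _ hW₂c
  have hWfin : IsFinite (W.ι ≫ q₁) := by
    haveI : IsClosedImmersion W₂'.ι := IsClosedImmersion.of_isPreimmersion _ (by
      rw [Scheme.Opens.range_ι]; exact hW₂c)
    haveI : IsFinite p₁ := inferInstanceAs (IsFinite (pullback.fst V₂h fA))
    have e1 : W.ι ≫ q₁ = ei.inv ≫ W₂'.ι ≫ p₁ := by
      calc W.ι ≫ q₁ = (ei.inv ≫ W₂'.ι ≫ k) ≫ q₁ := by rw [hei']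
        _ = ei.inv ≫ W₂'.ι ≫ (k ≫ q₁) := by simp only [Category.assoc]
        _ = ei.inv ≫ W₂'.ι ≫ p₁ := by rw [hk2]
    rw [e1]
    infer_instance
  -- the map to `N`
  let bl : (W : Scheme.{u}) ⟶ N.left := ei.inv ≫ h₂' ≫ pullback.fst Nh eA
  have hbl : bl ≫ Nh = W.ι ≫ q₂ := by
    calc bl ≫ Nh = ei.inv ≫ h₂' ≫ (pullback.fst Nh eA ≫ Nh) := by simp only [bl, Category.assoc]
      _ = ei.inv ≫ h₂' ≫ (g' ≫ eA) := by rw [show pullback.fst Nh eA ≫ Nh = g' ≫ eA from pullback.condition]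
      _ = ei.inv ≫ (h₂' ≫ g') ≫ eA := by simp only [Category.assoc]
      _ = ei.inv ≫ (W₂'.ι ≫ p₂) ≫ A.ι ≫ pullback.fst f g := by rw [hh₂']
      _ = ei.inv ≫ W₂'.ι ≫ (p₂ ≫ A.ι) ≫ pullback.fst f g := by simp only [Category.assoc]
      _ = ei.inv ≫ W₂'.ι ≫ (k ≫ μ) ≫ pullback.fst f g := by rw [hk1]
      _ = (ei.inv ≫ W₂'.ι ≫ k) ≫ μ ≫ pullback.fst f g := by simp only [Category.assoc]
      _ = W.ι ≫ q₂ := by rw [hei', hμ1]
  let b : opnOf ((EtCoh.bc f).obj V') W ⟶ N := MorphismProperty.Over.homMk bl hbl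
  -- the geometric point of the piece
  let wl : Spec (CommRingCat.of Ω) ⟶ (W : Scheme.{u}) := z₂ ≫ ei.hom
  have hwlι : wl ≫ W.ι = zp ≫ k := by
    calc wl ≫ W.ι = z₂ ≫ (ei.hom ≫ W.ι) := Category.assoc _ _ _
      _ = z₂ ≫ (W₂'.ι ≫ k) := by rw [hei]
      _ = zp ≫ k := (Category.assoc _ _ _).symm
  have hzpk2 : (zp ≫ k) ≫ q₂ = ξ.1 := by
    calc (zp ≫ k) ≫ q₂ = (zp ≫ k) ≫ (μ ≫ pullback.fst f g) := by rw [hμ1]
      _ = zp ≫ (k ≫ μ) ≫ pullback.fst f g := by simp only [Category.assoc]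
      _ = zp ≫ (p₂ ≫ A.ι) ≫ pullback.fst f g := by rw [hk1]
      _ = (zp ≫ p₂) ≫ A.ι ≫ pullback.fst f g := by simp only [Category.assoc]
      _ = aA ≫ eA := by rw [hzp2]
      _ = ξ.1 := haAe
  let wpt : Over.mk ξ.1 ⟶ (Scheme.Etale.forget X).obj (opnOf ((EtCoh.bc f).obj V') W) :=
    Over.homMk wl (by
      change wl ≫ W.ι ≫ q₂ = ξ.1
      rw [← Category.assoc, hwlι]
      exact hzpk2)
  have hub' : v₂ ≫ V₂h ≫ g = η := by
    rw [← Category.assoc, hv₂]
    exact hub1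
  let v' : Over.mk η ⟶ (Scheme.Etale.forget Y).obj V' := Over.homMk v₂ hub'
  refine ⟨V', v', W, hWclosed, hWfin, ⟨b, wpt, ?_, ?_⟩, ?_⟩
  · apply Over.OverMorphism.ext
    change wl ≫ bl = nl
    calc wl ≫ bl = z₂ ≫ (ei.hom ≫ ei.inv) ≫ h₂' ≫ pullback.fst Nh eA := by
          simp only [wl, bl, Category.assoc]
      _ = (z₂ ≫ h₂') ≫ pullback.fst Nh eA := by rw [Iso.hom_inv_id, Category.id_comp, Category.assoc]
      _ = nl := by rw [hz₂, hnA1]
  · apply fiber_bc_ext
    rw [liftPt_left_fst]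
    change (wl ≫ W.ι) ≫ q₁ = v₂
    rw [hwlι, Category.assoc, hk2]
  · intro ξ' hne hmem
    apply hne
    let m' : Spec (CommRingCat.of Ω) ⟶ Q' :=
      Over.Hom.left (show Over.mk ξ'.1 ⟶ (Scheme.Etale.forget X).obj ((EtCoh.bc f).obj V') from
        liftPt f η ξ' V' v')
    have hm'1 : m' ≫ q₁ = v₂ := liftPt_left_fst f η ξ' V' v'
    have hm'2 : m' ≫ q₂ = ξ'.1 := liftPt_left_snd f η ξ' V' v'
    have hmemk : m' default ∈ Set.range k := Set.image_subset_range _ _ hmem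
    rw [hrangek] at hmemk
    let z : Spec (CommRingCat.of Ω) ⟶ pullback f g := m' ≫ μ
    have hz1 : z ≫ pullback.snd f g = ub := by
      calc z ≫ pullback.snd f g = m' ≫ (μ ≫ pullback.snd f g) := Category.assoc _ _ _
        _ = m' ≫ (q₁ ≫ V₂h) := by rw [hμ2]
        _ = (m' ≫ q₁) ≫ V₂h := (Category.assoc _ _ _).symm
        _ = ub := by rw [hm'1, hv₂]
    have hz2 : z default ∈ A := by
      change (m' ≫ μ) default ∈ A
      rw [Scheme.Hom.comp_apply]
      exact hmemk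
    have hza := hc z hz1 hz2
    apply Subtype.ext
    calc ξ'.1 = m' ≫ (μ ≫ pullback.fst f g) := by rw [hμ1, hm'2]
      _ = z ≫ pullback.fst f g := (Category.assoc _ _ _).symm
      _ = ξ.1 := by rw [hza, ha₀1]

end KGL

end Groth.Agent.Lib.Seat1.ShriekKGL
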