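import Mathlib
import Groth.Prelude.Def_EtShriek2
import Groth.Agent.Lib.Seat1ShriekKGL

/-!
# The stalk of `f_!` for a separated locally quasi-finite morphism (seat 1)
-/

set_option autoImplicit false
set_option linter.style.haveILetI false
set_option linter.unusedSectionVars false
universe u
open CategoryTheory CategoryTheory.Limits AlgebraicGeometry Opposite TopologicalSpace

namespace Groth.Agent.Lib.Seat1.ShriekStalk

open GrothendieckTopology EtShriek
open Groth.Agent.Lib.Helper1 Groth.Agent.Lib.Helper16.SmallEtale Groth.Agent.Lib.Seat1.FinSplit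
  Groth.Agent.Lib.Seat1.StalkAbs Groth.Agent.Lib.Seat1.StalkFin
  Groth.Agent.Lib.Seat1.ShriekGeo Groth.Agent.Lib.Seat1.ShriekIso Groth.Agent.Lib.Seat3.ShriekSheaf
  Groth.Agent.Lib.Seat1.ShriekLqf Groth.Agent.Lib.Seat1.ShriekKGL

section Coprod

open Classical in
/-- the coproduct of abelian groups is the direct sum -/
noncomputable def coprodIsoDirectSum {ι : Type u} (Z : ι → AddCommGrpCat.{u + 1}) :
    ∐ Z ≅ AddCommGrpCat.of (DirectSum ι fun i => Z i) := by
  let c : Cofan Z := Cofan.mk (AddCommGrpCat.of (DirectSum ι fun i => Z i))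
    (fun i => AddCommGrpCat.ofHom (DirectSum.of (fun i => Z i) i))
  have hc : IsColimit c := Cofan.IsColimit.mk c
    (fun s => AddCommGrpCat.ofHom (DirectSum.toAddMonoid fun i => (s.inj i).hom))
    (fun s i => by
      ext x
      exact DirectSum.toAddMonoid_of (β := fun i => Z i) (fun i => (s.inj i).hom) i x)
    (fun s m hm => by
      ext : 1
      apply DirectSum.addHom_ext
      intro i x
      have h1 := ConcreteCategory.congr_hom (hm i) x
      have h2 : (DirectSum.toAddMonoid fun i => (s.inj i).hom) (DirectSum.of (fun i => Z i) i x) =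
          (s.inj i).hom x :=
        DirectSum.toAddMonoid_of (β := fun i => Z i) (fun i => (s.inj i).hom) i x
      exact h1.trans h2.symm)
  exact (colimit.isColimit _).coconePointUniqueUpToIso hc

end Coprod

section ExtZero

variable {X : Scheme.{u}}

/-- extension by zero of a section over a clopen -/
lemma exists_ext_by_zero (F : EtCoh.Ab X) (Z : X.Etale) (W : Z.left.Opens)
    (hW : IsClosed (W : Set Z.left)) (s : F.obj.obj (op (opnOf Z W))) :
    ∃ t : F.obj.obj (op Z), F.obj.map (opnIn Z W).op t = s ∧ sectSupp F Z t ⊆ (W : Set Z.left) := by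
  let Wc : Z.left.Opens := ⟨(W : Set Z.left)ᶜ, hW.isOpen_compl⟩
  let gc : Bool → Z.left.Opens := fun b => bif b then W else Wc
  have hb := bijective_restrict_opens
    (F.obj ⋙ forget AddCommGrpCat.{u + 1}) (Groth.Agent.Lib.Seat1.DisjCover.isSheaf_forget F) Z gc (by
      intro a b hab
      cases a <;> cases b
      · exact (hab rfl).elim
      · rw [← TopologicalSpace.Opens.coe_disjoint]; exact disjoint_compl_left
      · rw [← TopologicalSpace.Opens.coe_disjoint]; exact disjoint_compl_right
      · exact (hab rfl).elim) (by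
      intro z
      by_cases h : z ∈ W
      · exact ⟨true, h⟩
      · exact ⟨false, h⟩)
  let x : ∀ b : Bool, (F.obj ⋙ forget AddCommGrpCat.{u + 1}).obj (op (opnOf Z (gc b))) :=
    fun b => match b with
      | true => s
      | false => (0 : F.obj.obj (op (opnOf Z Wc)))
  obtain ⟨t, ht⟩ := hb.2 x
  refine ⟨t, congrFun ht true, ?_⟩
  intro z hz
  by_contra hcon
  have h0 : F.obj.map (opnIn Z Wc).op t = 0 := congrFun ht false
  exact hz (opnOf Z Wc) (opnIn Z Wc) ⟨⟨z, hcon⟩, rfl⟩ h0

end ExtZero

variable {X Y : Scheme.{u}} (f : X ⟶ Y) [IsSeparated f] [LocallyOfFiniteType f] [LocallyQuasiFinite f]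
  {Ω : Type u} [Field Ω] [IsAlgClosed Ω] (η : Spec (CommRingCat.of Ω) ⟶ Y)

set_option backward.isDefEq.respectTransparency.types false in
/-- every germ of `F` at `ξ` is the projection of a germ of a section with proper support, with vanishing
projections at the other points -/
theorem exists_germ (F : EtCoh.Ab X) (ξ : Pts f η)
    (a : ToType ((Ψ f η ξ).presheafFiber.obj F.obj)) :
    ∃ y : ToType ((Scheme.pointSmallEtale η).presheafFiber.obj (lowerShriekPre f F)),
      Θ f η ξ F y = a ∧ ∀ ξ' : Pts f η, ξ' ≠ ξ → Θ f η ξ' F y = 0 := by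
  obtain ⟨N, n, s, rfl⟩ := (Ψ f η ξ).toPresheafFiber_jointly_surjective a
  obtain ⟨V', v', W, hWc, hWfin, ⟨b, w, hbw, hw⟩, huniq⟩ := exists_piece f η ξ N n
  obtain ⟨t, ht1, ht2⟩ := exists_ext_by_zero F ((EtCoh.bc f).obj V') W hWc (F.obj.map b.op s)
  have hproper : ClSub.IsProperOver (prV f V') (W : Set ((EtCoh.bc f).obj V').left) := by
    haveI : IsClosedImmersion W.ι := IsClosedImmersion.of_isPreimmersion _ (by
      rw [Scheme.Opens.range_ι]; exact hWc)
    rw [isProperOver_iff_isProper_comp (prV f V') W.ι _ (Scheme.Opens.range_ι W)]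
    haveI := hWfin
    infer_instance
  have hpred : ShriekPred f F V' t := shriekPred_of_hasProperSupport f F V' t ⟨_, ht2, hproper⟩
  let t' : ToType ((lowerShriekPre f F).obj (op V')) := ⟨t, (mem_shriekSubgroup_iff f F V' t).2 hpred⟩
  refine ⟨(Scheme.pointSmallEtale η).toPresheafFiber V' v' (lowerShriekPre f F) t', ?_, ?_⟩
  · rw [Θ_germ]
    change (Ψ f η ξ).toPresheafFiber ((EtCoh.bc f).obj V') (liftPt f η ξ V' v') F.obj t = _
    rw [← hw, ← Point.toPresheafFiber_w_apply, ht1, Point.toPresheafFiber_w_apply, hbw]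
  · intro ξ' hne
    rw [Θ_germ]
    change (Ψ f η ξ').toPresheafFiber ((EtCoh.bc f).obj V') (liftPt f η ξ' V' v') F.obj t = 0
    apply germ_eq_zero_of_not_mem_sectSupp
    intro hmem
    exact huniq ξ' hne (ht2 hmem)

section Iso

open Classical

variable (F : EtCoh.Ab X)

/-- the family of projections, as a map to the direct sum -/
noncomputable def ψfun
    (y : ToType ((Scheme.pointSmallEtale η).presheafFiber.obj (lowerShriekPre f F))) :
    DirectSum (Pts f η) fun ξ => ToType ((Ψ f η ξ).presheafFiber.obj F.obj) :=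
  DirectSum.mk (fun ξ : Pts f η => ToType ((Ψ f η ξ).presheafFiber.obj F.obj))
    (finite_support f η F y).toFinset (fun ξ => Θ f η ξ.1 F y)

lemma ψfun_apply
    (y : ToType ((Scheme.pointSmallEtale η).presheafFiber.obj (lowerShriekPre f F))) (ξ : Pts f η) :
    ψfun f η F y ξ = Θ f η ξ F y := by
  by_cases h : ξ ∈ (finite_support f η F y).toFinset
  · exact DirectSum.mk_apply_of_mem h
  · rw [ψfun, DirectSum.mk_apply_of_notMem h]
    rw [Set.Finite.mem_toFinset] at h
    by_contra hcon
    exact h (fun h0 => hcon h0.symm)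

/-- the comparison map as an additive map -/
noncomputable def ψ :
    ToType ((Scheme.pointSmallEtale η).presheafFiber.obj (lowerShriekPre f F)) →+
      DirectSum (Pts f η) fun ξ => ToType ((Ψ f η ξ).presheafFiber.obj F.obj) :=
  AddMonoidHom.mk' (ψfun f η F) (by
    intro a b
    apply DFinsupp.ext
    intro ξ
    rw [DirectSum.add_apply, ψfun_apply, ψfun_apply, ψfun_apply, map_add])

lemma ψ_apply
    (y : ToType ((Scheme.pointSmallEtale η).presheafFiber.obj (lowerShriekPre f F))) (ξ : Pts f η) :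
    ψ f η F y ξ = Θ f η ξ F y := ψfun_apply f η F y ξ

lemma ψ_injective : Function.Injective (ψ f η F) := by
  rw [injective_iff_map_eq_zero]
  intro y hy
  apply eq_zero_of_Θ_eq_zero f η F y
  intro ξ
  rw [← ψ_apply, hy]
  rfl

lemma ψ_surjective : Function.Surjective (ψ f η F) := by
  intro d
  induction d using DirectSum.induction_on with
  | zero => exact ⟨0, map_zero _⟩
  | of ξ a =>
    obtain ⟨y, hy1, hy2⟩ := exists_germ f η F ξ a
    refine ⟨y, ?_⟩
    apply DFinsupp.ext
    intro ξ'
    rw [ψ_apply]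
    by_cases h : ξ' = ξ
    · subst h
      rw [hy1]
      exact (DirectSum.of_eq_same
        (β := fun ξ : Pts f η => ToType ((Ψ f η ξ).presheafFiber.obj F.obj)) ξ' a).symm
    · rw [hy2 ξ' h]
      exact (DirectSum.of_eq_of_ne
        (β := fun ξ : Pts f η => ToType ((Ψ f η ξ).presheafFiber.obj F.obj)) ξ ξ' a h).symm
  | add a b ha hb =>
    obtain ⟨y, rfl⟩ := ha
    obtain ⟨y', rfl⟩ := hb
    exact ⟨y + y', map_add _ _ _⟩

/-- the stalk of the presheaf `f_! F` is the direct sum of the stalks of `F` -/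
noncomputable def presheafFiberIso :
    (Scheme.pointSmallEtale η).presheafFiber.obj (lowerShriekPre f F) ≅
      AddCommGrpCat.of (DirectSum (Pts f η) fun ξ => ToType ((Ψ f η ξ).presheafFiber.obj F.obj)) :=
  (AddEquiv.ofBijective (ψ f η F) ⟨ψ_injective f η F, ψ_surjective f η F⟩).toAddCommGrpIso

/-- **S0683** -/
theorem nonempty_iso :
    Nonempty ((EtCoh.stalk η).obj ((EtShriek.lowerShriek f).obj F) ≅
      ∐ fun ξ : {ξ : Spec (CommRingCat.of Ω) ⟶ X // ξ ≫ f = η} => (EtCoh.stalk ξ.1).obj F) := by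
  let Z : Pts f η → AddCommGrpCat.{u + 1} := fun ξ => (EtCoh.stalk ξ.1).obj F
  exact ⟨(EtCoh.stalk η).mapIso ((lowerShriekIso f).app F) ≪≫ presheafFiberIso f η F ≪≫
    (coprodIsoDirectSum Z).symm⟩

end Iso

end Groth.Agent.Lib.Seat1.ShriekStalk
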