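import Mathlib
import Groth.Prelude.Def_EtShriek2
import Groth.Agent.Lib.Seat1ShriekStalk
import Groth.Agent.Lib.Seat1AlgStalk

/-!
# Exactness of `f_!` for a separated locally quasi-finite morphism (seat 1)
-/

set_option autoImplicit false
set_option linter.style.haveILetI false
set_option linter.unusedSectionVars false
universe u
open CategoryTheory CategoryTheory.Limits AlgebraicGeometry Opposite TopologicalSpace

namespace Groth.Agent.Lib.Seat1.ShriekExact

open GrothendieckTopology EtShriek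
open Groth.Agent.Lib.Helper1 Groth.Agent.Lib.Helper16.SmallEtale Groth.Agent.Lib.Seat1.FinSplit
  Groth.Agent.Lib.Seat1.StalkAbs Groth.Agent.Lib.Seat1.StalkFin
  Groth.Agent.Lib.Seat1.ShriekGeo Groth.Agent.Lib.Seat1.ShriekIso Groth.Agent.Lib.Seat3.ShriekSheaf
  Groth.Agent.Lib.Seat1.ShriekLqf Groth.Agent.Lib.Seat1.ShriekKGL Groth.Agent.Lib.Seat1.ShriekStalk

section Criterion

variable {X : Scheme.{u}}

/-- an abelian étale sheaf all of whose stalks at algebraically closed geometric points vanish is zero -/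
lemma isZero_of_stalks (H : EtCoh.Ab X)
    (h : ∀ (Ω : Type u) [Field Ω] [IsAlgClosed Ω] (ξ : Spec (CommRingCat.of Ω) ⟶ X),
      IsZero ((EtCoh.stalk ξ).obj H)) : IsZero H := by
  have hm : Mono (0 : H ⟶ H) := by
    haveI := Groth.Agent.Lib.Seat1.AlgStalk.isLocallyInjective_of_stalks (0 : H ⟶ H) (by
      intro Ω _ _ ξ x y _
      have := AddCommGrpCat.isZero_iff_subsingleton.mp (h Ω ξ)
      exact Subsingleton.elim x y)
    exact Sheaf.mono_of_isLocallyInjective _
  rw [IsZero.iff_id_eq_zero]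
  exact (cancel_mono (0 : H ⟶ H)).mp (by simp)

/-- a short complex of abelian étale sheaves which is short exact on all stalks at algebraically closed
geometric points is short exact -/
theorem shortExact_of_stalks (T : ShortComplex (EtCoh.Ab X))
    (h : ∀ (Ω : Type u) [Field Ω] [IsAlgClosed Ω] (ξ : Spec (CommRingCat.of Ω) ⟶ X),
      (T.map (EtCoh.stalk ξ)).ShortExact) : T.ShortExact := by
  have hmono : Mono T.f := by
    haveI := Groth.Agent.Lib.Seat1.AlgStalk.isLocallyInjective_of_stalks T.f (fun Ω _ _ ξ =>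
      (AddCommGrpCat.mono_iff_injective _).1 (h Ω ξ).mono_f)
    exact Sheaf.mono_of_isLocallyInjective _
  have hepi : Epi T.g := by
    haveI := Groth.Agent.Lib.Seat1.AlgStalk.isLocallySurjective_of_stalks T.g (fun Ω _ _ ξ =>
      (AddCommGrpCat.epi_iff_surjective _).1 (h Ω ξ).epi_g)
    exact Sheaf.epi_of_isLocallySurjective _
  refine ShortComplex.ShortExact.mk' ?_ hmono hepi
  rw [ShortComplex.exact_iff_isZero_homology]
  apply isZero_of_stalks
  intro Ω _ _ ξ
  exact IsZero.of_iso ((ShortComplex.exact_iff_isZero_homology _).1 (h Ω ξ).exact)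
    (T.mapHomologyIso (EtCoh.stalk ξ)).symm

end Criterion

variable {X Y : Scheme.{u}} (f : X ⟶ Y) [IsSeparated f] [LocallyOfFiniteType f] [LocallyQuasiFinite f]
  {Ω : Type u} [Field Ω] [IsAlgClosed Ω] (η : Spec (CommRingCat.of Ω) ⟶ Y)

section Nat

/-- the map induced on presheaves of sections with proper support -/
noncomputable def preMap {F G : EtCoh.Ab X} (α : F ⟶ G) : lowerShriekPre f F ⟶ lowerShriekPre f G :=
  (lowerShriekPreFunctor f).map α

/-- naturality of the inclusion of sections with proper support -/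
lemma iotaP_naturality {F G : EtCoh.Ab X} (α : F ⟶ G) :
    preMap f α ≫ ShriekLqf.iotaP f G =
      ShriekLqf.iotaP f F ≫ Functor.whiskerLeft (EtCoh.bc f).op α.hom := by
  ext V s
  rfl

/-- naturality of the projections -/
lemma Θ_naturality {F G : EtCoh.Ab X} (α : F ⟶ G) (ξ : Pts f η) :
    (Scheme.pointSmallEtale η).presheafFiber.map (preMap f α) ≫ Θ f η ξ G =
      Θ f η ξ F ≫ (Ψ f η ξ).presheafFiber.map α.hom := by
  unfold Θ
  rw [← Category.assoc, ← Functor.map_comp, iotaP_naturality, Functor.map_comp, Category.assoc,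
    cmp_naturality, Category.assoc]

lemma Θ_naturality_apply {F G : EtCoh.Ab X} (α : F ⟶ G) (ξ : Pts f η)
    (y : ToType ((Scheme.pointSmallEtale η).presheafFiber.obj (lowerShriekPre f F))) :
    Θ f η ξ G ((Scheme.pointSmallEtale η).presheafFiber.map (preMap f α) y) =
      (Ψ f η ξ).presheafFiber.map α.hom (Θ f η ξ F y) := by
  have := ConcreteCategory.congr_hom (Θ_naturality f η α ξ) y
  rwa [ConcreteCategory.comp_apply, ConcreteCategory.comp_apply] at this

/-- germs of sections with proper support are determined by their projections -/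
lemma eq_of_Θ_eq (F : EtCoh.Ab X)
    (y y' : ToType ((Scheme.pointSmallEtale η).presheafFiber.obj (lowerShriekPre f F)))
    (h : ∀ ξ : Pts f η, Θ f η ξ F y = Θ f η ξ F y') : y = y' := by
  rw [← sub_eq_zero]
  apply eq_zero_of_Θ_eq_zero f η F
  intro ξ
  rw [map_sub, h ξ, sub_self]

open Classical in
/-- every finitely supported family of germs comes from a germ of a section with proper support -/
lemma exists_Θ_eq (F : EtCoh.Ab X)
    (d : DirectSum (Pts f η) fun ξ => ToType ((Ψ f η ξ).presheafFiber.obj F.obj)) :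
    ∃ y : ToType ((Scheme.pointSmallEtale η).presheafFiber.obj (lowerShriekPre f F)),
      ∀ ξ : Pts f η, Θ f η ξ F y = d ξ := by
  obtain ⟨y, rfl⟩ := ψ_surjective f η F d
  exact ⟨y, fun ξ => (ψ_apply f η F y ξ).symm⟩

end Nat

section Stalkwise

variable {F G H : EtCoh.Ab X}

lemma stalk_injective (α : F ⟶ G)
    (h : ∀ ξ : Pts f η, Function.Injective ((Ψ f η ξ).presheafFiber.map α.hom)) :
    Function.Injective ((Scheme.pointSmallEtale η).presheafFiber.map (preMap f α)) := by
  rw [injective_iff_map_eq_zero]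
  intro y hy
  apply eq_zero_of_Θ_eq_zero f η F y
  intro ξ
  apply h ξ
  rw [← Θ_naturality_apply, hy, map_zero, map_zero]

open Classical in
lemma stalk_surjective (α : F ⟶ G)
    (h : ∀ ξ : Pts f η, Function.Surjective ((Ψ f η ξ).presheafFiber.map α.hom)) :
    Function.Surjective ((Scheme.pointSmallEtale η).presheafFiber.map (preMap f α)) := by
  intro y
  let s : ∀ ξ : Pts f η, ToType ((Ψ f η ξ).presheafFiber.obj G.obj) →
      ToType ((Ψ f η ξ).presheafFiber.obj F.obj) :=
    fun ξ c => if c = 0 then 0 else Classical.choose (h ξ c)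
  have hs0 : ∀ ξ, s ξ 0 = 0 := fun ξ => if_pos rfl
  have hs : ∀ ξ c, (Ψ f η ξ).presheafFiber.map α.hom (s ξ c) = c := by
    intro ξ c
    by_cases hc : c = 0
    · rw [hc, hs0, map_zero]
    · change (Ψ f η ξ).presheafFiber.map α.hom (if c = 0 then 0 else Classical.choose (h ξ c)) = c
      rw [if_neg hc]
      exact Classical.choose_spec (h ξ c)
  let d' : DirectSum (Pts f η) fun ξ => ToType ((Ψ f η ξ).presheafFiber.obj F.obj) :=
    DFinsupp.mapRange s hs0 (ψ f η G y)
  obtain ⟨y', hy'⟩ := exists_Θ_eq f η F d'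
  refine ⟨y', eq_of_Θ_eq f η G _ _ (fun ξ => ?_)⟩
  rw [Θ_naturality_apply, hy' ξ]
  change (Ψ f η ξ).presheafFiber.map α.hom (s ξ (ψ f η G y ξ)) = _
  rw [hs, ψ_apply]

open Classical in
lemma stalk_exact (α : F ⟶ G) (β : G ⟶ H)
    (hinj : ∀ ξ : Pts f η, Function.Injective ((Ψ f η ξ).presheafFiber.map α.hom))
    (hex : ∀ (ξ : Pts f η) (b : ToType ((Ψ f η ξ).presheafFiber.obj G.obj)),
      (Ψ f η ξ).presheafFiber.map β.hom b = 0 → ∃ a, (Ψ f η ξ).presheafFiber.map α.hom a = b)
    (y : ToType ((Scheme.pointSmallEtale η).presheafFiber.obj (lowerShriekPre f G)))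
    (hy : (Scheme.pointSmallEtale η).presheafFiber.map (preMap f β) y = 0) :
    ∃ y', (Scheme.pointSmallEtale η).presheafFiber.map (preMap f α) y' = y := by
  have h0 : ∀ ξ : Pts f η, (Ψ f η ξ).presheafFiber.map β.hom (Θ f η ξ G y) = 0 := by
    intro ξ
    rw [← Θ_naturality_apply, hy, map_zero]
  let s : ∀ ξ : Pts f η, ToType ((Ψ f η ξ).presheafFiber.obj G.obj) →
      ToType ((Ψ f η ξ).presheafFiber.obj F.obj) :=
    fun ξ b => if hb : ∃ a, (Ψ f η ξ).presheafFiber.map α.hom a = b then Classical.choose hb else 0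
  have hs : ∀ ξ b, (∃ a, (Ψ f η ξ).presheafFiber.map α.hom a = b) →
      (Ψ f η ξ).presheafFiber.map α.hom (s ξ b) = b := by
    intro ξ b hb
    change (Ψ f η ξ).presheafFiber.map α.hom
      (if hb : ∃ a, (Ψ f η ξ).presheafFiber.map α.hom a = b then Classical.choose hb else 0) = b
    rw [dif_pos hb]
    exact Classical.choose_spec hb
  have hs0 : ∀ ξ, s ξ 0 = 0 := by
    intro ξ
    apply hinj ξ
    rw [hs ξ 0 ⟨0, map_zero _⟩, map_zero]
  let d' : DirectSum (Pts f η) fun ξ => ToType ((Ψ f η ξ).presheafFiber.obj F.obj) :=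
    DFinsupp.mapRange s hs0 (ψ f η G y)
  obtain ⟨y', hy'⟩ := exists_Θ_eq f η F d'
  refine ⟨y', eq_of_Θ_eq f η G _ _ (fun ξ => ?_)⟩
  rw [Θ_naturality_apply, hy' ξ]
  change (Ψ f η ξ).presheafFiber.map α.hom (s ξ (ψ f η G y ξ)) = _
  rw [ψ_apply]
  exact hs ξ _ (hex ξ _ (h0 ξ))

end Stalkwise

section Main

instance additive_shriekSheafFunctor : (shriekSheafFunctor f).Additive where
  map_add := by
    intro F G α β
    apply Sheaf.hom_ext
    ext V s
    rfl

/-- `f_!` (sheaf version) preserves short exact sequences -/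
theorem shortExact_map (S : ShortComplex (EtCoh.Ab X)) (hS : S.ShortExact) :
    (S.map (shriekSheafFunctor f)).ShortExact := by
  apply shortExact_of_stalks
  intro Ω _ _ η
  have hξ : ∀ ξ : Pts f η, (S.map (EtCoh.stalk ξ.1)).ShortExact := fun ξ => hS.map_of_exact _
  have hinj : ∀ ξ : Pts f η, Function.Injective ((Ψ f η ξ).presheafFiber.map S.f.hom) := fun ξ =>
    (AddCommGrpCat.mono_iff_injective _).1 (hξ ξ).mono_f
  have hsurj : ∀ ξ : Pts f η, Function.Surjective ((Ψ f η ξ).presheafFiber.map S.g.hom) := fun ξ =>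
    (AddCommGrpCat.epi_iff_surjective _).1 (hξ ξ).epi_g
  have hex : ∀ (ξ : Pts f η) (b : ToType ((Ψ f η ξ).presheafFiber.obj S.X₂.obj)),
      (Ψ f η ξ).presheafFiber.map S.g.hom b = 0 → ∃ a, (Ψ f η ξ).presheafFiber.map S.f.hom a = b :=
    fun ξ => (ShortComplex.ab_exact_iff _).1 (hξ ξ).exact
  refine ShortComplex.ShortExact.mk' ?_ ?_ ?_
  · rw [ShortComplex.ab_exact_iff]
    exact stalk_exact f η S.f S.g hinj hex
  · exact (AddCommGrpCat.mono_iff_injective _).2 (stalk_injective f η S.f hinj)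
  · exact (AddCommGrpCat.epi_iff_surjective _).2 (stalk_surjective f η S.g hsurj)

/-- **S0684** (sheaf version) -/
theorem exact_shriekSheafFunctor :
    PreservesFiniteLimits (shriekSheafFunctor f) ∧ PreservesFiniteColimits (shriekSheafFunctor f) :=
  ((shriekSheafFunctor f).exact_tfae.out 0 3).1 (shortExact_map f)

/-- **S0684** -/
theorem exact_lowerShriek :
    PreservesFiniteLimits (EtShriek.lowerShriek f) ∧ PreservesFiniteColimits (EtShriek.lowerShriek f) := by
  obtain ⟨h1, h2⟩ := exact_shriekSheafFunctor f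
  exact ⟨preservesFiniteLimits_of_natIso (lowerShriekIso f).symm,
    preservesFiniteColimits_of_natIso (lowerShriekIso f).symm⟩

end Main

end Groth.Agent.Lib.Seat1.ShriekExact
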