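import Mathlib
import Groth.Prelude.Def_EtShriek2
import Groth.Agent.Lib.Seat1ShriekExact

/-!
# `f_!` is a left adjoint for a separated locally quasi-finite morphism (seat 1)
-/

set_option autoImplicit false
set_option linter.style.haveILetI false
set_option linter.unusedSectionVars false
universe u
open CategoryTheory CategoryTheory.Limits AlgebraicGeometry Opposite TopologicalSpace

namespace Groth.Agent.Lib.Seat1.ShriekAdj

open GrothendieckTopology EtShriek
open Groth.Agent.Lib.Helper1 Groth.Agent.Lib.Helper16.SmallEtale Groth.Agent.Lib.Seat1.FinSplit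
  Groth.Agent.Lib.Seat1.StalkAbs Groth.Agent.Lib.Seat1.StalkFin
  Groth.Agent.Lib.Seat1.ShriekGeo Groth.Agent.Lib.Seat3.ShriekSheaf
  Groth.Agent.Lib.Seat1.ShriekLqf Groth.Agent.Lib.Seat1.ShriekKGL Groth.Agent.Lib.Seat1.ShriekStalk
  Groth.Agent.Lib.Seat1.ShriekExact

variable {X Y : Scheme.{u}} (f : X ⟶ Y) [IsSeparated f] [LocallyOfFiniteType f] [LocallyQuasiFinite f]
  {Ω : Type u} [Field Ω] [IsAlgClosed Ω] (η : Spec (CommRingCat.of Ω) ⟶ Y)

section NatIso

/-- the family of stalks of `F` at the points over `η` -/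
noncomputable abbrev Zf (F : EtCoh.Ab X) : Pts f η → AddCommGrpCat.{u + 1} :=
  fun ξ => (Ψ f η ξ).presheafFiber.obj F.obj

/-- the functor `F ↦ (ξ ↦ F_ξ)` -/
noncomputable def Dfun : EtCoh.Ab X ⥤ (Discrete (Pts f η) ⥤ AddCommGrpCat.{u + 1}) where
  obj F := Discrete.functor (Zf f η F)
  map α := Discrete.natTrans (fun ξ => (Ψ f η ξ.as).presheafFiber.map α.hom)
  map_id F := by
    apply NatTrans.ext
    funext ξ
    exact (Ψ f η ξ.as).presheafFiber.map_id F.obj
  map_comp α β := by
    apply NatTrans.ext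
    funext ξ
    exact (Ψ f η ξ.as).presheafFiber.map_comp α.hom β.hom

/-- the functor `F ↦ ∐_ξ F_ξ` -/
noncomputable def D : EtCoh.Ab X ⥤ AddCommGrpCat.{u + 1} := Dfun f η ⋙ colim

instance preservesColimits_Dfun : PreservesColimitsOfSize.{u + 1, u + 1} (Dfun f η) := by
  apply preservesColimits_of_evaluation
  rintro ⟨ξ⟩
  let e : Dfun f η ⋙ (evaluation _ _).obj ⟨ξ⟩ ≅ EtCoh.stalk ξ.1 :=
    NatIso.ofComponents (fun F => Iso.refl _) (by
      intro F G α
      simp [Dfun]
      rfl)
  exact preservesColimits_of_natIso e.symm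

instance preservesColimits_D : PreservesColimitsOfSize.{u + 1, u + 1} (D f η) := by
  unfold D
  infer_instance

end NatIso

section Components

open Classical

lemma ι_coprodIsoDirectSum_hom {ι : Type u} [inst : DecidableEq ι] (Z : ι → AddCommGrpCat.{u + 1})
    (i : ι) :
    Sigma.ι Z i ≫ (coprodIsoDirectSum Z).hom = AddCommGrpCat.ofHom (DirectSum.of (fun i => Z i) i) := by
  have : inst = fun a b => Classical.propDecidable (a = b) := Subsingleton.elim _ _
  subst this
  unfold coprodIsoDirectSum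
  exact colimit.comp_coconePointUniqueUpToIso_hom _ _

/-- the components of the natural isomorphism -/
noncomputable def isoT (F : EtCoh.Ab X) :
    (Scheme.pointSmallEtale η).presheafFiber.obj (lowerShriekPre f F) ≅ ∐ (Zf f η F) :=
  presheafFiberIso f η F ≪≫ (coprodIsoDirectSum (Zf f η F)).symm

/-- the inclusion of the stalk at `ξ` into the stalk of `f_! F` at `η` -/
noncomputable def σ (F : EtCoh.Ab X) (ξ : Pts f η) :
    (Ψ f η ξ).presheafFiber.obj F.obj ⟶
      (Scheme.pointSmallEtale η).presheafFiber.obj (lowerShriekPre f F) :=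
  Sigma.ι (Zf f η F) ξ ≫ (isoT f η F).inv

lemma Θ_σ (F : EtCoh.Ab X) (ξ ξ' : Pts f η) (a : ToType ((Ψ f η ξ).presheafFiber.obj F.obj)) :
    Θ f η ξ' F (σ f η F ξ a) =
      DirectSum.of (fun ξ : Pts f η => ToType ((Ψ f η ξ).presheafFiber.obj F.obj)) ξ a ξ' := by
  rw [← ψ_apply]
  have h1 : σ f η F ξ ≫ (presheafFiberIso f η F).hom =
      AddCommGrpCat.ofHom (DirectSum.of (fun ξ : Pts f η => ToType ((Ψ f η ξ).presheafFiber.obj F.obj)) ξ) := by
    change (Sigma.ι (Zf f η F) ξ ≫ ((coprodIsoDirectSum (Zf f η F)).hom ≫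
      (presheafFiberIso f η F).inv)) ≫ (presheafFiberIso f η F).hom = _
    rw [Category.assoc, Category.assoc, Iso.inv_hom_id, Category.comp_id]
    exact ι_coprodIsoDirectSum_hom _ ξ
  have h2 := ConcreteCategory.congr_hom h1 a
  rw [ConcreteCategory.comp_apply] at h2
  exact congrArg (fun d => d ξ') h2

/-- naturality of the inclusions -/
lemma σ_naturality {F G : EtCoh.Ab X} (α : F ⟶ G) (ξ : Pts f η) :
    σ f η F ξ ≫ (Scheme.pointSmallEtale η).presheafFiber.map (preMap f α) =
      (Ψ f η ξ).presheafFiber.map α.hom ≫ σ f η G ξ := by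
  ext a
  apply eq_of_Θ_eq f η G
  intro ξ'
  rw [ConcreteCategory.comp_apply, ConcreteCategory.comp_apply, Θ_naturality_apply, Θ_σ, Θ_σ]
  by_cases h : ξ' = ξ
  · subst h
    rw [DirectSum.of_eq_same, DirectSum.of_eq_same]
  · rw [DirectSum.of_eq_of_ne _ _ _ h, DirectSum.of_eq_of_ne _ _ _ h, map_zero]

end Components

section NatIsoT

lemma isoT_inv_naturality {F G : EtCoh.Ab X} (α : F ⟶ G) :
    (isoT f η F).inv ≫ (Scheme.pointSmallEtale η).presheafFiber.map (preMap f α) =
      (D f η).map α ≫ (isoT f η G).inv := by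
  apply Sigma.hom_ext
  intro ξ
  have h1 : Sigma.ι (Zf f η F) ξ ≫ (D f η).map α =
      (Ψ f η ξ).presheafFiber.map α.hom ≫ Sigma.ι (Zf f η G) ξ :=
    ι_colimMap ((Dfun f η).map α) ⟨ξ⟩
  calc Sigma.ι (Zf f η F) ξ ≫ (isoT f η F).inv ≫
        (Scheme.pointSmallEtale η).presheafFiber.map (preMap f α)
      = σ f η F ξ ≫ (Scheme.pointSmallEtale η).presheafFiber.map (preMap f α) :=
        (Category.assoc _ _ _).symm
    _ = (Ψ f η ξ).presheafFiber.map α.hom ≫ σ f η G ξ := σ_naturality f η α ξ
    _ = ((Ψ f η ξ).presheafFiber.map α.hom ≫ Sigma.ι (Zf f η G) ξ) ≫ (isoT f η G).inv :=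
        (Category.assoc _ _ _).symm
    _ = (Sigma.ι (Zf f η F) ξ ≫ (D f η).map α) ≫ (isoT f η G).inv :=
        congrArg (fun t => t ≫ (isoT f η G).inv) h1.symm
    _ = Sigma.ι (Zf f η F) ξ ≫ (D f η).map α ≫ (isoT f η G).inv := Category.assoc _ _ _

/-- the stalk of `f_!` at `η` is the coproduct of the stalks at the points over `η`, naturally -/
noncomputable def natIsoT : shriekSheafFunctor f ⋙ EtCoh.stalk η ≅ D f η :=
  NatIso.ofComponents (fun F => isoT f η F) (by
    intro F G α
    have h := (Iso.inv_comp_eq _).1 (isoT_inv_naturality f η α)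
    change (Scheme.pointSmallEtale η).presheafFiber.map (preMap f α) ≫ (isoT f η G).hom =
      (isoT f η F).hom ≫ (D f η).map α
    let a : (Scheme.pointSmallEtale η).presheafFiber.obj (lowerShriekPre f F) ⟶ (D f η).obj F :=
      (isoT f η F).hom
    let c : (D f η).obj G ⟶ (Scheme.pointSmallEtale η).presheafFiber.obj (lowerShriekPre f G) :=
      (isoT f η G).inv
    let c' : (Scheme.pointSmallEtale η).presheafFiber.obj (lowerShriekPre f G) ⟶ (D f η).obj G :=
      (isoT f η G).hom
    have hcc : c ≫ c' = 𝟙 _ := (isoT f η G).inv_hom_id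
    calc (Scheme.pointSmallEtale η).presheafFiber.map (preMap f α) ≫ c'
        = (a ≫ (D f η).map α ≫ c) ≫ c' := congrArg (fun t => t ≫ c') h
      _ = a ≫ ((D f η).map α ≫ c) ≫ c' := Category.assoc _ _ _
      _ = a ≫ (D f η).map α ≫ c ≫ c' := congrArg (fun t => a ≫ t) (Category.assoc _ _ _)
      _ = a ≫ (D f η).map α ≫ 𝟙 _ := congrArg (fun t => a ≫ (D f η).map α ≫ t) hcc
      _ = a ≫ (D f η).map α := congrArg (fun t => a ≫ t) (Category.comp_id _))

instance preservesColimits_T :
    PreservesColimitsOfSize.{u + 1, u + 1} (shriekSheafFunctor f ⋙ EtCoh.stalk η) :=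
  preservesColimits_of_natIso (natIsoT f η).symm

end NatIsoT

section Cocont

omit [Field Ω] [IsAlgClosed Ω] in
/-- `f_!` (sheaf version) preserves all small colimits -/
theorem preservesColimits_shriekSheafFunctor :
    PreservesColimitsOfSize.{u + 1, u + 1} (shriekSheafFunctor f) := by
  constructor
  intro J _
  constructor
  intro K
  haveI : IsIso (colimit.post K (shriekSheafFunctor f)) := by
    apply Groth.Agent.Lib.Seat1.AlgStalk.isIso_of_stalks
    intro Ω _ _ η
    have h1 : colimit.post (K ⋙ shriekSheafFunctor f) (EtCoh.stalk η) ≫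
        (EtCoh.stalk η).map (colimit.post K (shriekSheafFunctor f)) =
        colimit.post K (shriekSheafFunctor f ⋙ EtCoh.stalk η) := colimit.post_post K _ _
    haveI : IsIso ((EtCoh.stalk η).map (colimit.post K (shriekSheafFunctor f))) := by
      have h2 : IsIso (colimit.post (K ⋙ shriekSheafFunctor f) (EtCoh.stalk η) ≫
          (EtCoh.stalk η).map (colimit.post K (shriekSheafFunctor f))) := by
        rw [h1]
        infer_instance
      exact IsIso.of_isIso_comp_left (colimit.post (K ⋙ shriekSheafFunctor f) (EtCoh.stalk η)) _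
    exact (ConcreteCategory.isIso_iff_bijective _).1 inferInstance
  exact preservesColimit_of_isIso_post _ _

end Cocont

section Adjoint

omit [Field Ω] [IsAlgClosed Ω] in
/-- `f_!` (sheaf version) is a left adjoint -/
theorem isLeftAdjoint_shriekSheafFunctor : (shriekSheafFunctor f).IsLeftAdjoint := by
  haveI := preservesColimits_shriekSheafFunctor f
  exact isLeftAdjoint_of_preservesColimits_of_isSeparating
    (isSeparator_separator (EtCoh.Ab X)) (shriekSheafFunctor f)

omit [Field Ω] [IsAlgClosed Ω] in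
/-- **S0689** -/
theorem isLeftAdjoint_lowerShriek : (EtShriek.lowerShriek f).IsLeftAdjoint := by
  haveI := isLeftAdjoint_shriekSheafFunctor f
  exact Functor.isLeftAdjoint_of_iso (lowerShriekIso f).symm

end Adjoint

end Groth.Agent.Lib.Seat1.ShriekAdj
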