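import Mathlib
import Groth.Prelude.Def_EtTens2

/-!
# The fibre of a pointwise tensor product of presheaves at a point of a site (seat 1)

For a point `Φ` of a site and presheaves of abelian groups `P`, `Q`: the fibre of the pointwise tensor product
`EtTens.tensorObj P Q` at `Φ` is the tensor product of the fibres (`tensEquiv`), compatibly with germs.
-/

set_option autoImplicit false
set_option linter.unusedSectionVars false
universe w w' v u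
open CategoryTheory CategoryTheory.Limits Opposite TensorProduct

namespace Groth.Agent.Lib.Seat1.TensStalk

open GrothendieckTopology EtTens

variable {C : Type u} [Category.{v} C] {J : GrothendieckTopology C} (Φ : Point.{w} J)
  [HasColimitsOfSize.{w, w} AddCommGrpCat.{w'}]
  (P Q : Cᵒᵖ ⥤ AddCommGrpCat.{w'})

/-- the fibre, as an abelian group -/
noncomputable abbrev fib (P : Cᵒᵖ ⥤ AddCommGrpCat.{w'}) : AddCommGrpCat.{w'} := Φ.presheafFiber.obj P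

/-- the comparison map from the fibre of the tensor product to the tensor product of the fibres -/
noncomputable def τ : fib Φ (tensorObj P Q) ⟶ AddCommGrpCat.of ((fib Φ P) ⊗[ℤ] (fib Φ Q)) :=
  Φ.presheafFiberDesc (fun X x => AddCommGrpCat.ofHom
    (TensorProduct.map (Φ.toPresheafFiber X x P).hom.toIntLinearMap
      (Φ.toPresheafFiber X x Q).hom.toIntLinearMap).toAddMonoidHom) (by
    intro X Y g x
    refine hom_ext_tmul (M := P.obj (op Y)) (N := Q.obj (op Y)) ?_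
    intro m n
    change (Φ.toPresheafFiber X x P) (P.map g.op m) ⊗ₜ[ℤ] (Φ.toPresheafFiber X x Q) (Q.map g.op n) =
      (Φ.toPresheafFiber Y (Φ.fiber.map g x) P) m ⊗ₜ[ℤ] (Φ.toPresheafFiber Y (Φ.fiber.map g x) Q) n
    rw [Point.toPresheafFiber_w_apply, Point.toPresheafFiber_w_apply])

lemma τ_germ (X : C) (x : Φ.fiber.obj X) (s : P.obj (op X)) (t : Q.obj (op X)) :
    τ Φ P Q (Φ.toPresheafFiber X x (tensorObj P Q) (s ⊗ₜ[ℤ] t)) =
      (Φ.toPresheafFiber X x P s) ⊗ₜ[ℤ] (Φ.toPresheafFiber X x Q t) := by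
  have := ConcreteCategory.congr_hom (Φ.toPresheafFiber_presheafFiberDesc (P := tensorObj P Q)
    (fun X x => AddCommGrpCat.ofHom
    (TensorProduct.map (Φ.toPresheafFiber X x P).hom.toIntLinearMap
      (Φ.toPresheafFiber X x Q).hom.toIntLinearMap).toAddMonoidHom) (by
    intro X Y g x
    refine hom_ext_tmul (M := P.obj (op Y)) (N := Q.obj (op Y)) ?_
    intro m n
    change (Φ.toPresheafFiber X x P) (P.map g.op m) ⊗ₜ[ℤ] (Φ.toPresheafFiber X x Q) (Q.map g.op n) =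
      (Φ.toPresheafFiber Y (Φ.fiber.map g x) P) m ⊗ₜ[ℤ] (Φ.toPresheafFiber Y (Φ.fiber.map g x) Q) n
    rw [Point.toPresheafFiber_w_apply, Point.toPresheafFiber_w_apply]) X x) (s ⊗ₜ[ℤ] t)
  exact this

/-- the germ of a tensor of restrictions to a common refinement -/
noncomputable def pairAt {e₁ e₂ : Φ.fiber.Elements} (e₃ : Φ.fiber.Elements) (a : e₃ ⟶ e₁) (b : e₃ ⟶ e₂)
    (s : P.obj (op e₁.1)) (t : Q.obj (op e₂.1)) : ToType (Φ.presheafFiber.obj (tensorObj P Q)) :=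
  Φ.toPresheafFiber e₃.1 e₃.2 (tensorObj P Q) (P.map a.1.op s ⊗ₜ[ℤ] Q.map b.1.op t)

lemma pairAt_refine {e₁ e₂ : Φ.fiber.Elements} (e₃ e₄ : Φ.fiber.Elements) (a : e₃ ⟶ e₁) (b : e₃ ⟶ e₂)
    (r : e₄ ⟶ e₃) (s : P.obj (op e₁.1)) (t : Q.obj (op e₂.1)) :
    pairAt Φ P Q e₃ a b s t = pairAt Φ P Q e₄ (r ≫ a) (r ≫ b) s t := by
  unfold pairAt
  have h1 : Φ.fiber.map r.1 e₄.2 = e₃.2 := r.2
  have key := Point.toPresheafFiber_w_apply Φ r.1 e₄.2 (tensorObj P Q)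
    (P.map a.1.op s ⊗ₜ[ℤ] Q.map b.1.op t)
  rw [h1] at key
  rw [← key, tensorObj_map_tmul]
  have h2 : (r ≫ a).1 = r.1 ≫ a.1 := rfl
  have h3 : (r ≫ b).1 = r.1 ≫ b.1 := rfl
  rw [h2, h3, op_comp, op_comp, Functor.map_comp, Functor.map_comp]
  rfl

lemma pairAt_indep {e₁ e₂ : Φ.fiber.Elements} (e₃ e₃' : Φ.fiber.Elements) (a : e₃ ⟶ e₁) (b : e₃ ⟶ e₂)
    (a' : e₃' ⟶ e₁) (b' : e₃' ⟶ e₂) (s : P.obj (op e₁.1)) (t : Q.obj (op e₂.1)) :
    pairAt Φ P Q e₃ a b s t = pairAt Φ P Q e₃' a' b' s t := by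
  let e₄ := IsCofiltered.min e₃ e₃'
  let p : e₄ ⟶ e₃ := IsCofiltered.minToLeft _ _
  let q : e₄ ⟶ e₃' := IsCofiltered.minToRight _ _
  let h : IsCofiltered.eq (p ≫ a) (q ≫ a') ⟶ e₄ := IsCofiltered.eqHom _ _
  have hh : h ≫ p ≫ a = h ≫ q ≫ a' := IsCofiltered.eq_condition _ _
  let k : IsCofiltered.eq (h ≫ p ≫ b) (h ≫ q ≫ b') ⟶ _ := IsCofiltered.eqHom _ _
  have hk : k ≫ h ≫ p ≫ b = k ≫ h ≫ q ≫ b' := IsCofiltered.eq_condition _ _
  rw [pairAt_refine Φ P Q e₃ _ a b (k ≫ h ≫ p) s t, pairAt_refine Φ P Q e₃' _ a' b' (k ≫ h ≫ q) s t]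
  have e1 : (k ≫ h ≫ p) ≫ a = (k ≫ h ≫ q) ≫ a' := by
    simp only [Category.assoc]
    rw [hh]
  have e2 : (k ≫ h ≫ p) ≫ b = (k ≫ h ≫ q) ≫ b' := by
    simp only [Category.assoc]
    exact hk
  rw [e1, e2]

omit [HasColimitsOfSize.{w, w} AddCommGrpCat.{w'}] in
/-- additive maps out of a tensor product of abelian groups agreeing on pure tensors are equal -/
lemma tens_addHom_ext {A B : Type w'} [AddCommGroup A] [AddCommGroup B] {M : Type w'} [AddCommGroup M]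
    (L R : A ⊗[ℤ] B →+ M) (h : ∀ a b, L (a ⊗ₜ[ℤ] b) = R (a ⊗ₜ[ℤ] b)) : L = R := by
  ext x
  induction x using TensorProduct.induction_on with
  | zero => rw [map_zero, map_zero]
  | tmul a b => exact h a b
  | add a b ha hb => rw [map_add, map_add, ha, hb]

/-- additive maps out of the fibre of a tensor product agreeing on germs of pure tensors are equal -/
lemma addHom_ext {M : Type w'} [AddCommGroup M] (L R : fib Φ (tensorObj P Q) →+ M)
    (h : ∀ (X : C) (x : Φ.fiber.obj X) (s : P.obj (op X)) (t : Q.obj (op X)),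
      L (Φ.toPresheafFiber X x (tensorObj P Q) (s ⊗ₜ[ℤ] t)) =
        R (Φ.toPresheafFiber X x (tensorObj P Q) (s ⊗ₜ[ℤ] t))) : L = R := by
  have : AddCommGrpCat.ofHom L = AddCommGrpCat.ofHom R := by
    apply Point.presheafFiber_hom_ext
    intro X x
    refine hom_ext_tmul (M := P.obj (op X)) (N := Q.obj (op X)) ?_
    intro s t
    exact h X x s t
  exact congrArg AddCommGrpCat.Hom.hom this

lemma pairAt_add_right {e₁ e₂ : Φ.fiber.Elements} (e₃ : Φ.fiber.Elements) (a : e₃ ⟶ e₁) (b : e₃ ⟶ e₂)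
    (s : P.obj (op e₁.1)) (t t' : Q.obj (op e₂.1)) :
    pairAt Φ P Q e₃ a b s (t + t') = pairAt Φ P Q e₃ a b s t + pairAt Φ P Q e₃ a b s t' := by
  unfold pairAt
  rw [map_add, TensorProduct.tmul_add]
  exact map_add (Φ.toPresheafFiber e₃.1 e₃.2 (tensorObj P Q)).hom _ _

lemma pairAt_add_left {e₁ e₂ : Φ.fiber.Elements} (e₃ : Φ.fiber.Elements) (a : e₃ ⟶ e₁) (b : e₃ ⟶ e₂)
    (s s' : P.obj (op e₁.1)) (t : Q.obj (op e₂.1)) :
    pairAt Φ P Q e₃ a b (s + s') t = pairAt Φ P Q e₃ a b s t + pairAt Φ P Q e₃ a b s' t := by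
  unfold pairAt
  rw [map_add, TensorProduct.add_tmul]
  exact map_add (Φ.toPresheafFiber e₃.1 e₃.2 (tensorObj P Q)).hom _ _

/-- the chosen common refinement -/
noncomputable def pair (e₁ e₂ : Φ.fiber.Elements) (s : P.obj (op e₁.1)) (t : Q.obj (op e₂.1)) :
    ToType (fib Φ (tensorObj P Q)) :=
  pairAt Φ P Q (IsCofiltered.min e₁ e₂) (IsCofiltered.minToLeft _ _) (IsCofiltered.minToRight _ _) s t

lemma pair_eq {e₁ e₂ : Φ.fiber.Elements} (e₃ : Φ.fiber.Elements) (a : e₃ ⟶ e₁) (b : e₃ ⟶ e₂)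
    (s : P.obj (op e₁.1)) (t : Q.obj (op e₂.1)) :
    pair Φ P Q e₁ e₂ s t = pairAt Φ P Q e₃ a b s t :=
  pairAt_indep Φ P Q _ _ _ _ _ _ s t

lemma pair_add_right (e₁ e₂ : Φ.fiber.Elements) (s : P.obj (op e₁.1)) (t t' : Q.obj (op e₂.1)) :
    pair Φ P Q e₁ e₂ s (t + t') = pair Φ P Q e₁ e₂ s t + pair Φ P Q e₁ e₂ s t' :=
  pairAt_add_right Φ P Q _ _ _ s t t'

lemma pair_add_left (e₁ e₂ : Φ.fiber.Elements) (s s' : P.obj (op e₁.1)) (t : Q.obj (op e₂.1)) :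
    pair Φ P Q e₁ e₂ (s + s') t = pair Φ P Q e₁ e₂ s t + pair Φ P Q e₁ e₂ s' t :=
  pairAt_add_left Φ P Q _ _ _ s s' t

lemma pair_map_right (e₁ : Φ.fiber.Elements) {e₂ e₂' : Φ.fiber.Elements} (g : e₂ ⟶ e₂')
    (s : P.obj (op e₁.1)) (t : Q.obj (op e₂'.1)) :
    pair Φ P Q e₁ e₂ s (Q.map g.1.op t) = pair Φ P Q e₁ e₂' s t := by
  rw [pair_eq Φ P Q (IsCofiltered.min e₁ e₂) (IsCofiltered.minToLeft _ _)
    (IsCofiltered.minToRight _ _ ≫ g) s t]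
  unfold pair pairAt
  have h3 : (IsCofiltered.minToRight e₁ e₂ ≫ g).1 = (IsCofiltered.minToRight e₁ e₂).1 ≫ g.1 := rfl
  rw [h3, op_comp, Functor.map_comp]
  rfl

lemma pair_map_left {e₁ e₁' : Φ.fiber.Elements} (e₂ : Φ.fiber.Elements) (g : e₁ ⟶ e₁')
    (s : P.obj (op e₁'.1)) (t : Q.obj (op e₂.1)) :
    pair Φ P Q e₁ e₂ (P.map g.1.op s) t = pair Φ P Q e₁' e₂ s t := by
  rw [pair_eq Φ P Q (IsCofiltered.min e₁ e₂) (IsCofiltered.minToLeft _ _ ≫ g)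
    (IsCofiltered.minToRight _ _) s t]
  unfold pair pairAt
  have h3 : (IsCofiltered.minToLeft e₁ e₂ ≫ g).1 = (IsCofiltered.minToLeft e₁ e₂).1 ≫ g.1 := rfl
  rw [h3, op_comp, Functor.map_comp]
  rfl

/-- pairing with a fixed section of `P` -/
noncomputable def inner (e₁ : Φ.fiber.Elements) (s : P.obj (op e₁.1)) :
    fib Φ Q ⟶ fib Φ (tensorObj P Q) :=
  Φ.presheafFiberDesc (fun Y y => AddCommGrpCat.ofHom
    (AddMonoidHom.mk' (fun t => pair Φ P Q e₁ ⟨Y, y⟩ s t) (fun t t' =>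
      pair_add_right Φ P Q e₁ ⟨Y, y⟩ s t t'))) (by
    intro Y Y' g y
    ext t
    exact pair_map_right Φ P Q e₁ (e₂ := ⟨Y, y⟩) (e₂' := ⟨Y', Φ.fiber.map g y⟩) ⟨g, rfl⟩ s t)

lemma inner_germ (e₁ : Φ.fiber.Elements) (s : P.obj (op e₁.1)) (Y : C) (y : Φ.fiber.obj Y)
    (t : Q.obj (op Y)) :
    inner Φ P Q e₁ s (Φ.toPresheafFiber Y y Q t) = pair Φ P Q e₁ ⟨Y, y⟩ s t := by
  have := ConcreteCategory.congr_hom (Φ.toPresheafFiber_presheafFiberDesc (P := Q)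
    (fun Y y => AddCommGrpCat.ofHom
    (AddMonoidHom.mk' (fun t => pair Φ P Q e₁ ⟨Y, y⟩ s t) (fun t t' =>
      pair_add_right Φ P Q e₁ ⟨Y, y⟩ s t t'))) (by
    intro Y Y' g y
    ext t
    exact pair_map_right Φ P Q e₁ (e₂ := ⟨Y, y⟩) (e₂' := ⟨Y', Φ.fiber.map g y⟩) ⟨g, rfl⟩ s t) Y y) t
  exact this

variable [PreservesFilteredColimitsOfSize.{w, w} (forget AddCommGrpCat.{w'})] [LocallySmall.{w} C]

/-- the pairing of the fibres with values in the fibre of the tensor product -/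
noncomputable def β : fib Φ P ⟶ AddCommGrpCat.of (↑(fib Φ Q) →+ ↑(fib Φ (tensorObj P Q))) :=
  Φ.presheafFiberDesc (fun X x => AddCommGrpCat.ofHom
    (AddMonoidHom.mk' (fun s => (inner Φ P Q ⟨X, x⟩ s).hom) (fun s s' => by
      ext z
      obtain ⟨Y, y, t, rfl⟩ := Φ.toPresheafFiber_jointly_surjective z
      rw [AddMonoidHom.add_apply]
      exact ((inner_germ Φ P Q ⟨X, x⟩ (s + s') Y y t).trans
        (pair_add_left Φ P Q ⟨X, x⟩ ⟨Y, y⟩ s s' t)).trans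
        (congrArg₂ (· + ·) (inner_germ Φ P Q ⟨X, x⟩ s Y y t).symm
          (inner_germ Φ P Q ⟨X, x⟩ s' Y y t).symm)))) (by
    intro X X' g x
    ext s z
    obtain ⟨Y, y, t, rfl⟩ := Φ.toPresheafFiber_jointly_surjective z
    exact ((inner_germ Φ P Q ⟨X, x⟩ (P.map g.op s) Y y t).trans
      (pair_map_left Φ P Q (e₁ := ⟨X, x⟩) (e₁' := ⟨X', Φ.fiber.map g x⟩) ⟨Y, y⟩ ⟨g, rfl⟩ s t)).trans
      (inner_germ Φ P Q ⟨X', Φ.fiber.map g x⟩ s Y y t).symm)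

lemma β_germ (X : C) (x : Φ.fiber.obj X) (s : P.obj (op X)) (Y : C) (y : Φ.fiber.obj Y)
    (t : Q.obj (op Y)) :
    (β Φ P Q (Φ.toPresheafFiber X x P s)) (Φ.toPresheafFiber Y y Q t) =
      pair Φ P Q ⟨X, x⟩ ⟨Y, y⟩ s t := by
  have h1 : β Φ P Q (Φ.toPresheafFiber X x P s) = (inner Φ P Q ⟨X, x⟩ s).hom := by
    have := ConcreteCategory.congr_hom (Φ.toPresheafFiber_presheafFiberDesc (P := P)
      (fun X x => AddCommGrpCat.ofHom
    (AddMonoidHom.mk' (fun s => (inner Φ P Q ⟨X, x⟩ s).hom) (fun s s' => by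
      ext z
      obtain ⟨Y, y, t, rfl⟩ := Φ.toPresheafFiber_jointly_surjective z
      rw [AddMonoidHom.add_apply]
      exact ((inner_germ Φ P Q ⟨X, x⟩ (s + s') Y y t).trans
        (pair_add_left Φ P Q ⟨X, x⟩ ⟨Y, y⟩ s s' t)).trans
        (congrArg₂ (· + ·) (inner_germ Φ P Q ⟨X, x⟩ s Y y t).symm
          (inner_germ Φ P Q ⟨X, x⟩ s' Y y t).symm)))) (by
    intro X X' g x
    ext s z
    obtain ⟨Y, y, t, rfl⟩ := Φ.toPresheafFiber_jointly_surjective z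
    exact ((inner_germ Φ P Q ⟨X, x⟩ (P.map g.op s) Y y t).trans
      (pair_map_left Φ P Q (e₁ := ⟨X, x⟩) (e₁' := ⟨X', Φ.fiber.map g x⟩) ⟨Y, y⟩ ⟨g, rfl⟩ s t)).trans
      (inner_germ Φ P Q ⟨X', Φ.fiber.map g x⟩ s Y y t).symm) X x) s
    exact this
  rw [h1]
  exact inner_germ Φ P Q ⟨X, x⟩ s Y y t

/-- the inverse of the comparison map -/
noncomputable def σ : (fib Φ P) ⊗[ℤ] (fib Φ Q) →+ fib Φ (tensorObj P Q) :=
  TensorProduct.liftAddHom (β Φ P Q).hom (by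
    intro r m n
    rw [map_zsmul, AddMonoidHom.smul_apply, map_zsmul])

lemma σ_tmul (a : fib Φ P) (b : fib Φ Q) : σ Φ P Q (a ⊗ₜ[ℤ] b) = (β Φ P Q a) b := rfl

lemma τ_comp_σ : τ Φ P Q ≫ AddCommGrpCat.ofHom (σ Φ P Q) = 𝟙 _ := by
  apply Point.presheafFiber_hom_ext
  intro X x
  refine hom_ext_tmul (M := P.obj (op X)) (N := Q.obj (op X)) ?_
  intro s t
  change σ Φ P Q (τ Φ P Q (Φ.toPresheafFiber X x (tensorObj P Q) (s ⊗ₜ[ℤ] t))) =
    Φ.toPresheafFiber X x (tensorObj P Q) (s ⊗ₜ[ℤ] t)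
  let e : Φ.fiber.Elements := ⟨X, x⟩
  rw [τ_germ, σ_tmul, β_germ, pair_eq Φ P Q e (𝟙 e) (𝟙 e) s t]
  unfold pairAt
  have h : (𝟙 e : e ⟶ e).1 = 𝟙 X := rfl
  rw [h, op_id, P.map_id, Q.map_id]
  rfl

lemma σ_τ (z : fib Φ (tensorObj P Q)) : σ Φ P Q (τ Φ P Q z) = z :=
  ConcreteCategory.congr_hom (τ_comp_σ Φ P Q) z

lemma τ_σ (z : (fib Φ P) ⊗[ℤ] (fib Φ Q)) : τ Φ P Q (σ Φ P Q z) = z := by
  induction z using TensorProduct.induction_on with
  | zero => rw [map_zero, map_zero]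
  | tmul a b =>
    obtain ⟨X, x, s, rfl⟩ := Φ.toPresheafFiber_jointly_surjective a
    obtain ⟨Y, y, t, rfl⟩ := Φ.toPresheafFiber_jointly_surjective b
    let e₁ : Φ.fiber.Elements := ⟨X, x⟩
    let e₂ : Φ.fiber.Elements := ⟨Y, y⟩
    rw [σ_tmul, β_germ]
    unfold pair pairAt
    rw [τ_germ, Point.toPresheafFiber_w_apply, Point.toPresheafFiber_w_apply]
    have h1 : Φ.fiber.map (IsCofiltered.minToLeft e₁ e₂).1 (IsCofiltered.min e₁ e₂).2 = x :=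
      (IsCofiltered.minToLeft e₁ e₂).2
    have h2 : Φ.fiber.map (IsCofiltered.minToRight e₁ e₂).1 (IsCofiltered.min e₁ e₂).2 = y :=
      (IsCofiltered.minToRight e₁ e₂).2
    rw [h1, h2]
  | add a b ha hb => rw [map_add, map_add, ha, hb]

/-- **the fibre of a tensor product of presheaves is the tensor product of the fibres** -/
noncomputable def tensEquiv : fib Φ (tensorObj P Q) ≃+ (fib Φ P) ⊗[ℤ] (fib Φ Q) where
  toFun := τ Φ P Q
  invFun := σ Φ P Q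
  left_inv := σ_τ Φ P Q
  right_inv := τ_σ Φ P Q
  map_add' := map_add _

lemma tensEquiv_germ (X : C) (x : Φ.fiber.obj X) (s : P.obj (op X)) (t : Q.obj (op X)) :
    tensEquiv Φ P Q (Φ.toPresheafFiber X x (tensorObj P Q) (s ⊗ₜ[ℤ] t)) =
      (Φ.toPresheafFiber X x P s) ⊗ₜ[ℤ] (Φ.toPresheafFiber X x Q t) :=
  τ_germ Φ P Q X x s t

end Groth.Agent.Lib.Seat1.TensStalk
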