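import Mathlib
import Groth.Prelude.Def_EtBaseX
import Groth.Prelude.Def_PBC
import Groth.Agent.Lib.Seat1StalkInt
import Groth.Agent.Lib.Seat1StalkFin
import Groth.Agent.Lib.Seat1FinBC
import Groth.Agent.Lib.Seat1AlgStalk
import Groth.Agent.Lib.Helper16StalkPull

/-!
# Direct image along an integral universally injective morphism (seat 1)

For `f : X ⟶ Y` integral and universally injective: the stalk of `f_* F` at a geometric point `η` (algebraically
closed field) is the stalk of `F` at the unique geometric point over `η` (zero if there is none); the counit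
`f⁻¹ f_* F ⟶ F` is an isomorphism, `f_*` is fully faithful and its essential image consists of the sheaves supported
on the image of `f`.
-/

set_option autoImplicit false
set_option linter.style.haveILetI false
set_option linter.unusedSectionVars false
universe u
open CategoryTheory CategoryTheory.Limits AlgebraicGeometry Opposite

namespace Groth.Agent.Lib.Seat1.UIPush

open Groth.Agent.S0100 Groth.Agent.S0101 Groth.Agent.Lib.Helper16.StalkPull
  Groth.Agent.Lib.Seat1.FinSplit Groth.Agent.Lib.Seat1.FinPush Groth.Agent.Lib.Seat1.DisjCover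
  Groth.Agent.Lib.Helper16.SmallEtale Groth.Agent.Lib.Seat1.StalkGeo Groth.Agent.Lib.Seat1.StalkAbs
  Groth.Agent.Lib.Seat1.StalkFin Groth.Agent.Lib.Seat1.StalkInt

section Main

variable {X Y : Scheme.{u}} (f : X ⟶ Y) [IsIntegralHom f] [UniversallyInjective f]
  {Ω : Type u} [Field Ω] [IsAlgClosed Ω]
  (η : Spec (CommRingCat.of Ω) ⟶ Y)
  {A : Type (u + 2)} [Category.{u + 1} A] {FC : A → A → Type*} {CC : A → Type (u + 1)}
  [∀ X Y, FunLike (FC X Y) (CC X) (CC Y)] [ConcreteCategory.{u + 1} A FC]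
  [HasColimitsOfSize.{u, u} A] [PreservesFilteredColimitsOfSize.{u, u} (forget A)]

set_option backward.isDefEq.respectTransparency.types false in
set_option maxHeartbeats 800000 in
/-- **The fibre of an integral universally injective direct image** (presheaf level): for a presheaf `P` on `X_ét`
whose underlying presheaf of sets is a sheaf, the fibre of `f_* P` at `η` maps bijectively onto the product of the
fibres of `P` at the (at most one) geometric points over `η`. -/
theorem cmp_bijective_ui (P : X.Etaleᵒᵖ ⥤ A)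
    (hP : Presieve.IsSheaf X.smallEtaleTopology (P ⋙ forget A)) :
    Function.Bijective
      (fun (s : ToType ((Scheme.pointSmallEtale η).presheafFiber.obj ((EtCoh.bc f).op ⋙ P)))
        (ξ : Pts f η) =>
        (ConcreteCategory.hom (cmp (EtCoh.bc f) (Scheme.pointSmallEtale η) (Ψ f η) (θ f η) ξ P)) s) := by
  apply cmp_bijective
  · -- the terminal neighbourhood
    refine ⟨EtCoh.top Y,
      (Over.homMk η (Category.comp_id η) : Over.mk η ⟶ (Scheme.Etale.forget Y).obj (EtCoh.top Y)), ?_, ?_⟩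
    · intro U
      exact ⟨MorphismProperty.Over.homMk (pullback.lift (U.hom ≫ f) U.hom
        (by rw [Category.assoc]; exact congrArg (fun t => U.hom ≫ t) (Category.comp_id f)))
        (pullback.lift_snd _ _ _)⟩
    · intro ξ
      constructor
      intro a b
      apply fiber_bc_ext
      have key : ∀ c : (Ψ f η ξ).fiber.obj ((EtCoh.bc f).obj (EtCoh.top Y)),
          (Over.Hom.left (show Over.mk ξ.1 ⟶
            (Scheme.Etale.forget X).obj ((EtCoh.bc f).obj (EtCoh.top Y)) from c)) ≫
            pullback.fst (EtCoh.top Y).hom f = ξ.1 ≫ f := by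
        intro c
        let cl : Spec (CommRingCat.of Ω) ⟶ pullback (𝟙 Y) f := Over.Hom.left (show Over.mk ξ.1 ⟶
            (Scheme.Etale.forget X).obj ((EtCoh.bc f).obj (EtCoh.top Y)) from c)
        have hc : cl ≫ pullback.snd (𝟙 Y) f = ξ.1 := Over.w (show Over.mk ξ.1 ⟶
            (Scheme.Etale.forget X).obj ((EtCoh.bc f).obj (EtCoh.top Y)) from c)
        change cl ≫ pullback.fst (𝟙 Y) f = ξ.1 ≫ f
        have e1 : pullback.fst (𝟙 Y) f = pullback.snd (𝟙 Y) f ≫ f := by
          rw [← pullback.condition, Category.comp_id]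
        rw [e1, ← Category.assoc, hc]
      exact (key a).trans (key b).symm
  · -- the splitting hypothesis
    intro V y U x m hm
    let yl : Spec (CommRingCat.of Ω) ⟶ V.left :=
      Over.Hom.left (show Over.mk η ⟶ (Scheme.Etale.forget Y).obj V from y)
    have hyl : yl ≫ V.hom = η := Over.w (show Over.mk η ⟶ (Scheme.Etale.forget Y).obj V from y)
    let xl : ∀ ξ : Pts f η, Spec (CommRingCat.of Ω) ⟶ (U ξ).left := fun ξ =>
      Over.Hom.left (show Over.mk ξ.1 ⟶ (Scheme.Etale.forget X).obj (U ξ) from x ξ)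
    have hx2 : ∀ ξ, xl ξ ≫ (U ξ).hom = ξ.1 := fun ξ =>
      Over.w (show Over.mk ξ.1 ⟶ (Scheme.Etale.forget X).obj (U ξ) from x ξ)
    have hx1 : ∀ ξ, xl ξ ≫ (m ξ).left ≫ pullback.fst V.hom f = yl := by
      intro ξ
      have h1 : xl ξ ≫ (m ξ).left = Over.Hom.left (show Over.mk ξ.1 ⟶
          (Scheme.Etale.forget X).obj ((EtCoh.bc f).obj V) from liftPt f η ξ V y) :=
        congrArg (fun t : Over.mk ξ.1 ⟶ (Scheme.Etale.forget X).obj ((EtCoh.bc f).obj V) =>
          Over.Hom.left t) (hm ξ)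
      exact (Category.assoc _ _ _).symm.trans
        ((congrArg (fun t => t ≫ pullback.fst V.hom f) h1).trans (liftPt_left_fst f η ξ V y))
    obtain ⟨V', g, y', hy', Wo, hdisj, hcov, hPc⟩ := exists_split_ui f η V yl hyl U xl m hx1 hx2
    choose b w hb hw1 hw2 using hPc
    have hgV : g.left ≫ V.hom = V'.hom := Over.w g.hom
    have hy'η : y' ≫ V'.hom = η :=
      ((congrArg (fun t => y' ≫ t) hgV).symm.trans (Category.assoc _ _ _).symm).trans
        ((congrArg (fun t => t ≫ V.hom) hy').trans hyl)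
    have hwξ : ∀ ξ, w ξ ≫ (opnOf ((EtCoh.bc f).obj V') (Wo ξ)).hom = ξ.1 := by
      intro ξ
      have e1 : (b ξ).left ≫ (U ξ).hom = (opnOf ((EtCoh.bc f).obj V') (Wo ξ)).hom := Over.w (b ξ).hom
      exact ((congrArg (fun t => w ξ ≫ t) e1).symm.trans (Category.assoc _ _ _).symm).trans
        ((congrArg (fun t => t ≫ (U ξ).hom) (hw2 ξ)).trans (hx2 ξ))
    let y'' : (Scheme.pointSmallEtale η).fiber.obj V' :=
      (Over.homMk y' hy'η : Over.mk η ⟶ (Scheme.Etale.forget Y).obj V')
    let w' : ∀ ξ : Pts f η, (Ψ f η ξ).fiber.obj (opnOf ((EtCoh.bc f).obj V') (Wo ξ)) := fun ξ =>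
      (Over.homMk (w ξ) (hwξ ξ) :
        Over.mk ξ.1 ⟶ (Scheme.Etale.forget X).obj (opnOf ((EtCoh.bc f).obj V') (Wo ξ)))
    refine ⟨V', g, y'', fun ξ => opnOf ((EtCoh.bc f).obj V') (Wo ξ),
      fun ξ => opnIn ((EtCoh.bc f).obj V') (Wo ξ), w', b, ?_, ?_, hb, ?_, ?_⟩
    · apply Over.OverMorphism.ext
      exact hy'
    · intro ξ
      apply fiber_bc_ext
      refine Eq.trans ?_ (liftPt_left_fst f η ξ V' y'').symm
      exact (Category.assoc _ _ _).trans (hw1 ξ)
    · intro ξ
      apply Over.OverMorphism.ext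
      exact hw2 ξ
    · exact bijective_restrict_opens (P ⋙ forget A) hP ((EtCoh.bc f).obj V') Wo hdisj hcov

end Main

section Counit

variable {X Y : Scheme.{u}} (f : X ⟶ Y) {Ω : Type u} [Field Ω] [IsSepClosed Ω]
  (ξ : Spec (CommRingCat.of Ω) ⟶ X)

set_option backward.isDefEq.respectTransparency.types false in
/-- at the tautological point over `ξ ≫ f`, the transformation `θ` is the inverse of `fiberIso` -/
lemma θ_eq_fiberIso_inv (V : Y.Etale) (y : (Scheme.pointSmallEtale (ξ ≫ f)).fiber.obj V) :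
    (θ f (ξ ≫ f) ⟨ξ, rfl⟩).app V y = (fiberIso f ξ).inv.app V y := by
  apply Groth.Agent.Lib.Seat1.FinBC.fiber_ext f ξ V
  rw [Groth.Agent.Lib.Seat1.FinBC.fiberIso_inv_left_fst]
  exact liftPt_left_fst f (ξ ≫ f) ⟨ξ, rfl⟩ V y

set_option backward.isDefEq.respectTransparency.types false in
/-- the counit `f⁻¹ f_* F ⟶ F` on stalks at `ξ` is the comparison map of the stalk of `f_* F` at `ξ ≫ f` -/
lemma counit_stalk_apply (F : EtCoh.Ab X) (V : Y.Etale)
    (y : (Scheme.pointSmallEtale (ξ ≫ f)).fiber.obj V) (σ : F.obj.obj (op ((EtCoh.bc f).obj V))) :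
    (EtCoh.stalk ξ).map ((EtCoh.pullPushAdj f).counit.app F)
      ((stalkPullIso f ξ).hom.app ((EtCoh.push f).obj F)
        (germ (ξ ≫ f) ((EtCoh.push f).obj F) V y σ)) =
    (ConcreteCategory.hom (cmp (EtCoh.bc f) (Scheme.pointSmallEtale (ξ ≫ f)) (Ψ f (ξ ≫ f))
      (θ f (ξ ≫ f)) ⟨ξ, rfl⟩ F.obj))
      (germ (ξ ≫ f) ((EtCoh.push f).obj F) V y σ) := by
  rw [germ_compat f ξ ((EtCoh.push f).obj F) V y σ]
  have hR := cmp_toPresheafFiber_apply (EtCoh.bc f) (Scheme.pointSmallEtale (ξ ≫ f)) (Ψ f (ξ ≫ f))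
    (θ f (ξ ≫ f)) ⟨ξ, rfl⟩ F.obj V y σ
  refine Eq.trans ?_ hR.symm
  rw [θ_eq_fiberIso_inv]
  -- naturality of germs
  have hnat := ConcreteCategory.congr_hom
    ((Scheme.pointSmallEtale ξ).toPresheafFiber_naturality
      ((EtCoh.pullPushAdj f).counit.app F).hom ((EtCoh.bc f).obj V) ((fiberIso f ξ).inv.app V y))
    (((EtCoh.pullPushAdj f).unit.app ((EtCoh.push f).obj F)).hom.app (op V) σ)
  rw [ConcreteCategory.comp_apply, ConcreteCategory.comp_apply] at hnat
  refine hnat.trans ?_
  -- triangle identity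
  have htri := (EtCoh.pullPushAdj f).right_triangle_components F
  have h2 : (((EtCoh.pullPushAdj f).counit.app F).hom.app (op ((EtCoh.bc f).obj V)))
      ((((EtCoh.pullPushAdj f).unit.app ((EtCoh.push f).obj F)).hom.app (op V)) σ) = σ :=
    congrArg (fun m : (EtCoh.push f).obj F ⟶ (EtCoh.push f).obj F => m.hom.app (op V) σ) htri
  exact congrArg _ h2

end Counit

section Iso

variable {X Y : Scheme.{u}} (f : X ⟶ Y) [IsIntegralHom f] [UniversallyInjective f]

set_option backward.isDefEq.respectTransparency.types false in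
/-- the comparison map at the tautological point is bijective -/
lemma cmp_taut_bijective {Ω : Type u} [Field Ω] [IsAlgClosed Ω] (ξ : Spec (CommRingCat.of Ω) ⟶ X)
    (F : EtCoh.Ab X) :
    Function.Bijective (ConcreteCategory.hom (cmp (EtCoh.bc f) (Scheme.pointSmallEtale (ξ ≫ f))
      (Ψ f (ξ ≫ f)) (θ f (ξ ≫ f)) ⟨ξ, rfl⟩ F.obj)) := by
  have hb := cmp_bijective_ui f (ξ ≫ f) (A := AddCommGrpCat.{u + 1}) F.obj (isSheaf_forget F)
  haveI := subsingleton_points f (ξ ≫ f)
  letI : Unique (Pts f (ξ ≫ f)) := ⟨⟨⟨ξ, rfl⟩⟩, fun a => Subsingleton.elim _ _⟩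
  exact (Equiv.piUnique (fun ξ' : Pts f (ξ ≫ f) =>
    ToType ((Scheme.pointSmallEtale ξ'.1).presheafFiber.obj F.obj))).bijective.comp hb

set_option backward.isDefEq.respectTransparency.types false in
/-- **the counit `f⁻¹ f_* F ⟶ F` is an isomorphism** for `f` integral and universally injective -/
theorem isIso_counit (F : EtCoh.Ab X) : IsIso ((EtCoh.pullPushAdj f).counit.app F) := by
  apply Groth.Agent.Lib.Seat1.AlgStalk.isIso_of_stalks
  intro Ω _ _ ξ
  have hc := cmp_taut_bijective f ξ F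
  let e := (stalkPullIso f ξ).app ((EtCoh.push f).obj F)
  have he : Function.Bijective (ConcreteCategory.hom e.hom) :=
    (ConcreteCategory.isIso_iff_bijective e.hom).1 inferInstance
  have hcomp : ∀ s, (EtCoh.stalk ξ).map ((EtCoh.pullPushAdj f).counit.app F) (e.hom s) =
      (ConcreteCategory.hom (cmp (EtCoh.bc f) (Scheme.pointSmallEtale (ξ ≫ f))
        (Ψ f (ξ ≫ f)) (θ f (ξ ≫ f)) ⟨ξ, rfl⟩ F.obj)) s := by
    intro s
    obtain ⟨V, y, σ, rfl⟩ := (Scheme.pointSmallEtale (ξ ≫ f)).toPresheafFiber_jointly_surjective s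
    exact counit_stalk_apply f ξ F V y σ
  have h1 : Function.Bijective
      ((ConcreteCategory.hom ((EtCoh.stalk ξ).map ((EtCoh.pullPushAdj f).counit.app F))) ∘
        (ConcreteCategory.hom e.hom)) := by
    have : ((ConcreteCategory.hom ((EtCoh.stalk ξ).map ((EtCoh.pullPushAdj f).counit.app F))) ∘
        (ConcreteCategory.hom e.hom)) = (ConcreteCategory.hom (cmp (EtCoh.bc f)
          (Scheme.pointSmallEtale (ξ ≫ f)) (Ψ f (ξ ≫ f)) (θ f (ξ ≫ f)) ⟨ξ, rfl⟩ F.obj)) :=
      funext hcomp
    rw [this]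
    exact hc
  exact (Function.Bijective.of_comp_iff _ he).1 h1

end Iso

section Vanish

variable {X Y : Scheme.{u}} (f : X ⟶ Y)

set_option backward.isDefEq.respectTransparency.types false in
/-- the stalk of `f_* F` vanishes at geometric points outside the (closed) image of `f` -/
lemma isZero_stalk_push (hcl : IsClosed (Set.range f)) {Ω : Type u} [Field Ω] [IsSepClosed Ω]
    (η : Spec (CommRingCat.of Ω) ⟶ Y) (hη : η default ∉ Set.range f) (F : EtCoh.Ab X) :
    IsZero ((EtCoh.stalk η).obj ((EtCoh.push f).obj F)) := by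
  haveI : Subsingleton ((EtCoh.stalk η).obj ((EtCoh.push f).obj F)) := by
    constructor
    intro s t
    obtain ⟨V, y, σ, τ, rfl, rfl⟩ :=
      (Scheme.pointSmallEtale η).toPresheafFiber_jointly_surjective₂ s t
    let yl : Spec (CommRingCat.of Ω) ⟶ V.left :=
      Over.Hom.left (show Over.mk η ⟶ (Scheme.Etale.forget Y).obj V from y)
    have hyl : yl ≫ V.hom = η := Over.w (show Over.mk η ⟶ (Scheme.Etale.forget Y).obj V from y)
    let Yo : Y.Opens := ⟨(Set.range f)ᶜ, hcl.isOpen_compl⟩
    let V1o : V.left.Opens := V.hom ⁻¹ᵁ Yo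
    let V' : Y.Etale := opnOf V V1o
    let g : V' ⟶ V := opnIn V V1o
    have hyo : Set.range yl ⊆ Set.range V1o.ι := by
      rintro _ ⟨a, rfl⟩
      rw [Subsingleton.elim a default, Scheme.Opens.range_ι]
      change V.hom (yl default) ∈ Yo
      rw [← Scheme.Hom.comp_apply, hyl]
      exact hη
    let y' : Spec (CommRingCat.of Ω) ⟶ (V1o : Scheme.{u}) := IsOpenImmersion.lift V1o.ι yl hyo
    have hy' : y' ≫ g.left = yl := IsOpenImmersion.lift_fac _ _ _
    have hy'η : y' ≫ V'.hom = η := by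
      have e1 : y' ≫ V'.hom = (y' ≫ g.left) ≫ V.hom := (Category.assoc _ _ _).symm
      exact e1.trans ((congrArg (fun t => t ≫ V.hom) hy').trans hyl)
    let y'' : (Scheme.pointSmallEtale η).fiber.obj V' :=
      (Over.homMk y' hy'η : Over.mk η ⟶ (Scheme.Etale.forget Y).obj V')
    have hy'' : (Scheme.pointSmallEtale η).fiber.map g y'' = y := by
      apply Over.OverMorphism.ext
      exact hy'
    haveI hempty : IsEmpty ((EtCoh.bc f).obj V').left := by
      constructor
      intro p
      have h1 : V'.hom ((pullback.fst V'.hom f) p) = f ((pullback.snd V'.hom f) p) :=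
        (Scheme.Hom.comp_apply _ _ _).symm.trans
          ((congrArg (fun t : ((EtCoh.bc f).obj V').left ⟶ Y => t p) pullback.condition).trans
            (Scheme.Hom.comp_apply _ _ _))
      have h2 : V'.hom ((pullback.fst V'.hom f) p) ∈ Yo := by
        change (V1o.ι ≫ V.hom) ((pullback.fst V'.hom f) p) ∈ Yo
        rw [Scheme.Hom.comp_apply]
        exact ((pullback.fst V'.hom f) p).2
      rw [h1] at h2
      exact h2 ⟨_, rfl⟩
    haveI := subsingleton_of_isEmpty (F.obj ⋙ forget AddCommGrpCat.{u + 1}) (isSheaf_forget F)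
      ((EtCoh.bc f).obj V')
    have e1 := (Scheme.pointSmallEtale η).toPresheafFiber_w_apply g y''
      ((EtCoh.push f).obj F).obj σ
    have e2 := (Scheme.pointSmallEtale η).toPresheafFiber_w_apply g y''
      ((EtCoh.push f).obj F).obj τ
    rw [hy''] at e1 e2
    have key : (ConcreteCategory.hom (((EtCoh.push f).obj F).obj.map g.op)) σ =
        (ConcreteCategory.hom (((EtCoh.push f).obj F).obj.map g.op)) τ :=
      Subsingleton.elim
        (α := (F.obj ⋙ forget AddCommGrpCat.{u + 1}).obj (op ((EtCoh.bc f).obj V'))) _ _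
    exact e1.symm.trans ((congrArg (fun z => (ConcreteCategory.hom
      ((Scheme.pointSmallEtale η).toPresheafFiber V' y'' ((EtCoh.push f).obj F).obj)) z) key).trans e2)
  exact AddCommGrpCat.isZero_of_subsingleton _

end Vanish

section Unit

variable {X Y : Scheme.{u}} (f : X ⟶ Y) [IsIntegralHom f] [UniversallyInjective f]

set_option backward.isDefEq.respectTransparency.types false in
/-- the unit `G ⟶ f_* f⁻¹ G` is bijective on the stalk at a geometric point coming from `X` -/
lemma unit_stalk_bijective {Ω : Type u} [Field Ω] [IsAlgClosed Ω] (ξ : Spec (CommRingCat.of Ω) ⟶ X)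
    (G : EtCoh.Ab Y) :
    Function.Bijective ((EtCoh.stalk (ξ ≫ f)).map ((EtCoh.pullPushAdj f).unit.app G)) := by
  have hc := cmp_taut_bijective f ξ ((EtCoh.pull f).obj G)
  let e := (stalkPullIso f ξ).app G
  have he : Function.Bijective (ConcreteCategory.hom e.hom) :=
    (ConcreteCategory.isIso_iff_bijective e.hom).1 inferInstance
  have hcomp : ∀ s, (ConcreteCategory.hom (cmp (EtCoh.bc f) (Scheme.pointSmallEtale (ξ ≫ f))
      (Ψ f (ξ ≫ f)) (θ f (ξ ≫ f)) ⟨ξ, rfl⟩ ((EtCoh.pull f).obj G).obj))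
      ((EtCoh.stalk (ξ ≫ f)).map ((EtCoh.pullPushAdj f).unit.app G) s) = e.hom s := by
    intro s
    obtain ⟨V, y, σ, rfl⟩ := (Scheme.pointSmallEtale (ξ ≫ f)).toPresheafFiber_jointly_surjective s
    have hnat := ConcreteCategory.congr_hom
      ((Scheme.pointSmallEtale (ξ ≫ f)).toPresheafFiber_naturality
        ((EtCoh.pullPushAdj f).unit.app G).hom V y) σ
    rw [ConcreteCategory.comp_apply, ConcreteCategory.comp_apply] at hnat
    refine (congrArg _ hnat).trans ?_
    have hR := cmp_toPresheafFiber_apply (EtCoh.bc f) (Scheme.pointSmallEtale (ξ ≫ f)) (Ψ f (ξ ≫ f))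
      (θ f (ξ ≫ f)) ⟨ξ, rfl⟩ ((EtCoh.pull f).obj G).obj V y
      (((EtCoh.pullPushAdj f).unit.app G).hom.app (op V) σ)
    refine hR.trans ?_
    rw [θ_eq_fiberIso_inv]
    exact (germ_compat f ξ G V y σ).symm
  have h1 : Function.Bijective
      ((ConcreteCategory.hom (cmp (EtCoh.bc f) (Scheme.pointSmallEtale (ξ ≫ f))
        (Ψ f (ξ ≫ f)) (θ f (ξ ≫ f)) ⟨ξ, rfl⟩ ((EtCoh.pull f).obj G).obj)) ∘
        (ConcreteCategory.hom ((EtCoh.stalk (ξ ≫ f)).map ((EtCoh.pullPushAdj f).unit.app G)))) := by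
    have : ((ConcreteCategory.hom (cmp (EtCoh.bc f) (Scheme.pointSmallEtale (ξ ≫ f))
        (Ψ f (ξ ≫ f)) (θ f (ξ ≫ f)) ⟨ξ, rfl⟩ ((EtCoh.pull f).obj G).obj)) ∘
        (ConcreteCategory.hom ((EtCoh.stalk (ξ ≫ f)).map ((EtCoh.pullPushAdj f).unit.app G)))) =
        (ConcreteCategory.hom e.hom) := funext hcomp
    rw [this]
    exact he
  exact (Function.Bijective.of_comp_iff' hc _).1 h1

set_option backward.isDefEq.respectTransparency.types false in
/-- **S0631** -/
theorem main : (EtCoh.push f).Full ∧ (EtCoh.push f).Faithful ∧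
    (∀ G : EtCoh.Ab Y, (EtCoh.push f).essImage G ↔ EtPBC.supp G ⊆ Set.range f.base) ∧
    ∀ F : EtCoh.Ab X, IsIso ((EtCoh.pullPushAdj f).counit.app F) := by
  haveI : ∀ F, IsIso ((EtCoh.pullPushAdj f).counit.app F) := isIso_counit f
  haveI : IsIso (EtCoh.pullPushAdj f).counit := NatIso.isIso_of_isIso_app _
  have hff := (EtCoh.pullPushAdj f).fullyFaithfulROfIsIsoCounit
  haveI := hff.full
  haveI := hff.faithful
  have hcl : IsClosed (Set.range f) := f.isClosedMap.isClosed_range
  refine ⟨inferInstance, inferInstance, fun G => ?_, isIso_counit f⟩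
  rw [← (EtCoh.pullPushAdj f).isIso_unit_app_iff_mem_essImage]
  constructor
  · intro hiso x hx
    obtain ⟨Ω, _, _, ξ, hξ, hnz⟩ := hx
    by_contra hxf
    apply hnz
    have hξx : ξ default = x := by
      have : ξ default ∈ Set.range ξ := ⟨default, rfl⟩
      rw [hξ] at this
      exact this
    have hz := isZero_stalk_push f hcl ξ (by rw [hξx]; exact hxf) ((EtCoh.pull f).obj G)
    exact hz.of_iso ((EtCoh.stalk ξ).mapIso (asIso ((EtCoh.pullPushAdj f).unit.app G)))
  · intro hsupp
    apply Groth.Agent.Lib.Seat1.AlgStalk.isIso_of_stalks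
    intro Ω _ _ η
    by_cases hne : ∃ ξ : Spec (CommRingCat.of Ω) ⟶ X, ξ ≫ f = η
    · obtain ⟨ξ, rfl⟩ := hne
      exact unit_stalk_bijective f ξ G
    · have hη : η default ∉ Set.range f := by
        rintro ⟨c, hc⟩
        obtain ⟨z, hz, -⟩ := exists_fac_of_integral_of_isAlgClosed f η c hc
        exact hne ⟨z, hz⟩
      have hrange : Set.range η = {η default} := by
        ext a
        simp only [Set.mem_range, Set.mem_singleton_iff]
        constructor
        · rintro ⟨t, rfl⟩
          rw [Subsingleton.elim t default]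
        · rintro rfl
          exact ⟨default, rfl⟩
      have hz1 : IsZero ((EtCoh.stalk η).obj G) := by
        by_contra hnz
        exact hη (hsupp ⟨Ω, inferInstance, inferInstance, η, hrange, hnz⟩)
      have hz2 := isZero_stalk_push f hcl η hη ((EtCoh.pull f).obj G)
      have hs1 := AddCommGrpCat.subsingleton_of_isZero hz1
      have hs2 := AddCommGrpCat.subsingleton_of_isZero hz2
      exact ⟨fun a b _ => hs1.elim _ _, fun t => ⟨0, hs2.elim _ _⟩⟩

end Unit

end Groth.Agent.Lib.Seat1.UIPush
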