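import Mathlib
import Groth.Prelude.Def_EtShriek2
import Groth.Prelude.Def_EtTens2
import Groth.Agent.Lib.Seat1ShriekStalk
import Groth.Agent.Lib.Seat1TensStalk
import Groth.Agent.Lib.Seat1UIPush
import Groth.Agent.Lib.Seat1AlgStalk

/-!
# The projection formula for `f_!`, `f` separated and locally quasi-finite (seat 1)
-/

set_option autoImplicit false
set_option linter.style.haveILetI false
set_option linter.unusedSectionVars false
universe u
open CategoryTheory CategoryTheory.Limits AlgebraicGeometry Opposite TopologicalSpace TensorProduct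

namespace Groth.Agent.Lib.Seat1.ShriekProj

open GrothendieckTopology EtShriek EtTens
open Groth.Agent.Lib.Helper1 Groth.Agent.Lib.Helper16.SmallEtale Groth.Agent.Lib.Seat1.FinSplit
  Groth.Agent.Lib.Seat1.StalkAbs Groth.Agent.Lib.Seat1.StalkFin
  Groth.Agent.Lib.Seat1.ShriekGeo Groth.Agent.Lib.Seat1.ShriekIso Groth.Agent.Lib.Seat3.ShriekSheaf
  Groth.Agent.Lib.Seat1.ShriekLqf Groth.Agent.Lib.Seat1.ShriekKGL Groth.Agent.Lib.Seat1.ShriekStalk
  Groth.Agent.Lib.Seat1.TensStalk

section Whisk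

universe w v₁ v₂ u₁ u₂

variable {C : Type u₁} [Category.{v₁} C] {D : Type u₂} [Category.{v₂} D]

/-- the pointwise tensor product commutes with restriction along a functor -/
noncomputable def whiskTens (K : D ⥤ C) (A B : Cᵒᵖ ⥤ AddCommGrpCat.{w}) :
    tensorObj (K.op ⋙ A) (K.op ⋙ B) ⟶ K.op ⋙ tensorObj A B where
  app V := 𝟙 _
  naturality V V' φ :=
    (Category.comp_id ((tensorObj (K.op ⋙ A) (K.op ⋙ B)).map φ)).trans
      (Category.id_comp ((tensorObj (K.op ⋙ A) (K.op ⋙ B)).map φ)).symm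

lemma whiskTens_app_apply (K : D ⥤ C) (A B : Cᵒᵖ ⥤ AddCommGrpCat.{w}) (V : Dᵒᵖ)
    (x : ↑((tensorObj (K.op ⋙ A) (K.op ⋙ B)).obj V)) : (whiskTens K A B).app V x = x := rfl

end Whisk

section Alg

open DirectSum

variable {ι : Type*} [DecidableEq ι] {A B : Type*} [AddCommGroup A] [AddCommGroup B]
  {C D E : ι → Type*} [∀ i, AddCommGroup (C i)] [∀ i, AddCommGroup (D i)] [∀ i, AddCommGroup (E i)]

/-- distributing a tensor product over a direct sum decomposition of the left factor -/
noncomputable def distrib (eF : A ≃+ ⨁ i, C i) (k : ∀ i, B ≃+ D i) :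
    A ⊗[ℤ] B ≃+ ⨁ i, (C i ⊗[ℤ] D i) :=
  (TensorProduct.congr eF.toIntLinearEquiv (LinearEquiv.refl ℤ B)).toAddEquiv.trans
    ((TensorProduct.directSumLeft ℤ ℤ C B).toAddEquiv.trans
    (DFinsupp.mapRange.addEquiv (fun i =>
      (TensorProduct.congr (LinearEquiv.refl ℤ (C i)) (k i).toIntLinearEquiv).toAddEquiv)))

lemma distrib_apply (eF : A ≃+ ⨁ i, C i) (k : ∀ i, B ≃+ D i) (θ : ∀ i, A →+ C i)
    (hθ : ∀ a i, eF a i = θ i a) (z : A ⊗[ℤ] B) (i : ι) :
    distrib eF k z i =
      TensorProduct.map (θ i).toIntLinearMap ((k i : B →+ D i)).toIntLinearMap z := by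
  induction z using TensorProduct.induction_on with
  | zero => simp
  | tmul a b =>
    have h1 : distrib eF k (a ⊗ₜ[ℤ] b) i =
        (TensorProduct.congr (LinearEquiv.refl ℤ (C i)) (k i).toIntLinearEquiv)
          ((TensorProduct.directSumLeft ℤ ℤ C B (eF a ⊗ₜ[ℤ] b)) i) := rfl
    rw [h1, TensorProduct.directSumLeft_tmul, TensorProduct.congr_tmul, TensorProduct.map_tmul, hθ]
    rfl
  | add a b ha hb =>
    rw [map_add, map_add, DirectSum.add_apply, ha, hb]

lemma bijective_of_key (eF : A ≃+ ⨁ i, C i) (k : ∀ i, B ≃+ D i) (l : ∀ i, E i ≃+ C i ⊗[ℤ] D i)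
    {M N : Type*} [AddCommGroup M] [AddCommGroup N] (τ : M ≃+ A ⊗[ℤ] B) (ψT : N ≃+ ⨁ i, E i)
    (m : M →+ N) (key : ∀ i ω, l i (ψT (m ω) i) = distrib eF k (τ ω) i) : Function.Bijective m := by
  have h : ∀ ω, m ω = ψT.symm ((DFinsupp.mapRange.addEquiv l).symm (distrib eF k (τ ω))) := by
    intro ω
    rw [AddEquiv.eq_symm_apply, AddEquiv.eq_symm_apply]
    apply DFinsupp.ext
    intro i
    rw [DFinsupp.mapRange.addEquiv_apply, DFinsupp.mapRange_apply]
    exact key i ω
  have hb : Function.Bijective (fun ω => ψT.symm ((DFinsupp.mapRange.addEquiv l).symm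
      (distrib eF k (τ ω)))) :=
    ψT.symm.bijective.comp ((DFinsupp.mapRange.addEquiv l).symm.bijective.comp
      ((distrib eF k).bijective.comp τ.bijective))
  have : (m : M → N) = fun ω => ψT.symm ((DFinsupp.mapRange.addEquiv l).symm
      (distrib eF k (τ ω))) := funext h
  rw [this]
  exact hb

end Alg

variable {X Y : Scheme.{u}} (f : X ⟶ Y) (F : EtCoh.Ab X) (G : EtCoh.Ab Y)

/-- the presheaf tensor product `F ⊗ f⁻¹G` -/
noncomputable abbrev TP : X.Etaleᵒᵖ ⥤ AddCommGrpCat.{u + 1} :=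
  tensorObj F.obj ((EtCoh.pull f).obj G).obj

/-- the sheaf tensor product `F ⊗ f⁻¹G` -/
noncomputable abbrev T : EtCoh.Ab X := (tensorBi.obj F).obj ((EtCoh.pull f).obj G)

/-- the sheafification map -/
noncomputable def aT : TP f F G ⟶ (T f F G).obj :=
  toSheafify X.smallEtaleTopology (TP f F G)

/-- the unit `G ⟶ f_* f⁻¹ G` on presheaves -/
noncomputable def uG : G.obj ⟶ (EtCoh.bc f).op ⋙ ((EtCoh.pull f).obj G).obj :=
  ((EtCoh.pullPushAdj f).unit.app G).hom

lemma sectSupp_aT_subset (U : X.Etale) (s : F.obj.obj (op U))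
    (t : ((EtCoh.pull f).obj G).obj.obj (op U)) :
    sectSupp (T f F G) U ((aT f F G).app (op U) (s ⊗ₜ[ℤ] t)) ⊆ sectSupp F U s := by
  intro x hx W g hw hs
  apply hx W g hw
  have h1 := NatTrans.naturality_apply (aT f F G) g.op (s ⊗ₜ[ℤ] t)
  refine h1.symm.trans ?_
  rw [tensorObj_map_tmul, hs, TensorProduct.zero_tmul]
  exact map_zero ((aT f F G).app (op W)).hom

variable [IsSeparated f] [LocallyOfFiniteType f] [LocallyQuasiFinite f]

/-- the map `f_!F ⊗ G ⟶ f_*(F ⊗ f⁻¹G)` on presheaves -/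
noncomputable def ν : tensorObj (lowerShriekPre f F) G.obj ⟶ (EtCoh.bc f).op ⋙ (T f F G).obj :=
  tensorHom (ShriekLqf.iotaP f F) (uG f G) ≫
    whiskTens (EtCoh.bc f) F.obj ((EtCoh.pull f).obj G).obj ≫
    Functor.whiskerLeft (EtCoh.bc f).op (aT f F G)

lemma ν_tmul (V : Y.Etale) (s : (lowerShriekPre f F).obj (op V)) (t : G.obj.obj (op V)) :
    (ν f F G).app (op V) (s ⊗ₜ[ℤ] t) =
      (aT f F G).app (op ((EtCoh.bc f).obj V))
        (((ShriekLqf.iotaP f F).app (op V) s) ⊗ₜ[ℤ] ((uG f G).app (op V) t)) := rfl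

lemma ν_mem (V : Y.Etale) (c : ↑((tensorObj (lowerShriekPre f F) G.obj).obj (op V))) :
    c ∈ (shriekSubgroup f (T f F G) V).comap ((ν f F G).app (op V)).hom := by
  induction c using TensorProduct.induction_on with
  | zero => exact zero_mem _
  | tmul s t =>
    change (ν f F G).app (op V) (s ⊗ₜ[ℤ] t) ∈ shriekSubgroup f (T f F G) V
    rw [ν_tmul, mem_shriekSubgroup_iff]
    apply shriekPred_of_hasProperSupport
    obtain ⟨Z, hsub, hZ⟩ := hasProperSupport_of_shriekPred f F
      ((mem_shriekSubgroup_iff f F V s.1).1 s.2)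
    exact ⟨Z, (sectSupp_aT_subset f F G _ _ _).trans hsub, hZ⟩
  | add a b ha hb => exact add_mem ha hb

/-- the map `f_!F ⊗ G ⟶ f_!(F ⊗ f⁻¹G)` on presheaves -/
noncomputable def μ : tensorObj (lowerShriekPre f F) G.obj ⟶ lowerShriekPre f (T f F G) where
  app V := AddCommGrpCat.ofHom (AddMonoidHom.codRestrict ((ν f F G).app V).hom
    (shriekSubgroup f (T f F G) V.unop) (fun c => ν_mem f F G V.unop c))
  naturality V V' φ := by
    ext c
    apply Subtype.ext
    exact NatTrans.naturality_apply (ν f F G) φ c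

lemma μ_ι : μ f F G ≫ ShriekLqf.iotaP f (T f F G) = ν f F G := rfl

section Stalk

open Groth.Agent.S0100 Groth.Agent.S0101 Groth.Agent.Lib.Helper16.StalkPull
  Groth.Agent.Lib.Seat1.UIPush

variable {Ω : Type u} [Field Ω] [IsAlgClosed Ω] (η : Spec (CommRingCat.of Ω) ⟶ Y)

/-- the map on stalks `G_η ⟶ (f⁻¹G)_ξ` induced by the unit -/
noncomputable def κ (ξ : Pts f η) :
    (Scheme.pointSmallEtale η).presheafFiber.obj G.obj ⟶
      (Ψ f η ξ).presheafFiber.obj ((EtCoh.pull f).obj G).obj :=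
  (Scheme.pointSmallEtale η).presheafFiber.map (uG f G) ≫
    cmp (EtCoh.bc f) (Scheme.pointSmallEtale η) (Ψ f η) (θ f η) ξ ((EtCoh.pull f).obj G).obj

omit [IsSeparated f] [LocallyOfFiniteType f] [LocallyQuasiFinite f] in
lemma κ_germ (ξ : Pts f η) (V : Y.Etale) (v : (Scheme.pointSmallEtale η).fiber.obj V)
    (t : G.obj.obj (op V)) :
    κ f G η ξ ((Scheme.pointSmallEtale η).toPresheafFiber V v G.obj t) =
      (Ψ f η ξ).toPresheafFiber ((EtCoh.bc f).obj V) (liftPt f η ξ V v)
        ((EtCoh.pull f).obj G).obj ((uG f G).app (op V) t) := by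
  unfold κ
  rw [ConcreteCategory.comp_apply, Point.toPresheafFiber_naturality_apply]
  exact cmp_toPresheafFiber_apply (EtCoh.bc f) (Scheme.pointSmallEtale η) (Ψ f η) (θ f η) ξ
    ((EtCoh.pull f).obj G).obj V v _

omit [IsSeparated f] [LocallyOfFiniteType f] [LocallyQuasiFinite f] in
set_option backward.isDefEq.respectTransparency.types false in
lemma κ_bijective (ξ : Pts f η) : Function.Bijective (κ f G η ξ) := by
  obtain ⟨ξ, rfl⟩ := ξ
  have h : ∀ x, κ f G (ξ ≫ f) ⟨ξ, rfl⟩ x = (stalkPullIso f ξ).hom.app G x := by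
    intro x
    obtain ⟨V, v, t, rfl⟩ := (Scheme.pointSmallEtale (ξ ≫ f)).toPresheafFiber_jointly_surjective x
    rw [κ_germ]
    have h1 := germ_compat f ξ G V v t
    have h2 := θ_eq_fiberIso_inv f ξ V v
    refine Eq.trans ?_ h1.symm
    change (Scheme.pointSmallEtale ξ).toPresheafFiber ((EtCoh.bc f).obj V)
      ((θ f (ξ ≫ f) ⟨ξ, rfl⟩).app V v) ((EtCoh.pull f).obj G).obj ((uG f G).app (op V) t) = _
    rw [h2]
    rfl
  have hb : Function.Bijective ((stalkPullIso f ξ).hom.app G) :=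
    (ConcreteCategory.isIso_iff_bijective _).mp inferInstance
  have : (κ f G (ξ ≫ f) ⟨ξ, rfl⟩ : _ → _) = (stalkPullIso f ξ).hom.app G := funext h
  rw [this]
  exact hb

/-- the fibre at a geometric point, as an abelian group -/
noncomputable abbrev fb {Z : Scheme.{u}} (ζ : Spec (CommRingCat.of Ω) ⟶ Z)
    (P : Z.Etaleᵒᵖ ⥤ AddCommGrpCat.{u + 1}) : AddCommGrpCat.{u + 1} :=
  (Scheme.pointSmallEtale ζ).presheafFiber.obj P

omit [IsSeparated f] [LocallyOfFiniteType f] [LocallyQuasiFinite f] in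
/-- sheafification does not change the stalk -/
lemma aT_stalk_bijective (ξ : Spec (CommRingCat.of Ω) ⟶ X) :
    Function.Bijective ((Scheme.pointSmallEtale ξ).presheafFiber.map (aT f F G)) := by
  have h : IsIso ((Scheme.pointSmallEtale ξ).presheafFiber.map
      (CategoryTheory.toSheafify X.smallEtaleTopology (TP f F G))) := inferInstance
  exact (ConcreteCategory.isIso_iff_bijective _).mp h

/-- the stalk of `F ⊗ f⁻¹G` at `ξ` is the tensor product of the stalks -/
noncomputable def lam (ξ : Spec (CommRingCat.of Ω) ⟶ X) :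
    (fb ξ (T f F G).obj) ≃+
      (fb ξ F.obj) ⊗[ℤ]
        (fb ξ ((EtCoh.pull f).obj G).obj) :=
  (AddEquiv.ofBijective ((Scheme.pointSmallEtale ξ).presheafFiber.map (aT f F G)).hom
    (aT_stalk_bijective f F G ξ)).symm.trans
    (tensEquiv (Scheme.pointSmallEtale ξ) F.obj ((EtCoh.pull f).obj G).obj)

omit [IsSeparated f] [LocallyOfFiniteType f] [LocallyQuasiFinite f] in
lemma lam_germ (ξ : Spec (CommRingCat.of Ω) ⟶ X) (U : X.Etale)
    (x : (Scheme.pointSmallEtale ξ).fiber.obj U) (s : F.obj.obj (op U))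
    (t : ((EtCoh.pull f).obj G).obj.obj (op U)) :
    lam f F G ξ ((Scheme.pointSmallEtale ξ).toPresheafFiber U x (T f F G).obj
      ((aT f F G).app (op U) (s ⊗ₜ[ℤ] t))) =
      ((Scheme.pointSmallEtale ξ).toPresheafFiber U x F.obj s) ⊗ₜ[ℤ]
        ((Scheme.pointSmallEtale ξ).toPresheafFiber U x ((EtCoh.pull f).obj G).obj t) := by
  have h1 : (Scheme.pointSmallEtale ξ).toPresheafFiber U x (T f F G).obj
      ((aT f F G).app (op U) (s ⊗ₜ[ℤ] t)) =
      (AddEquiv.ofBijective ((Scheme.pointSmallEtale ξ).presheafFiber.map (aT f F G)).hom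
        (aT_stalk_bijective f F G ξ))
        ((Scheme.pointSmallEtale ξ).toPresheafFiber U x (TP f F G) (s ⊗ₜ[ℤ] t)) :=
    ((Scheme.pointSmallEtale ξ).toPresheafFiber_naturality_apply (aT f F G) U x (s ⊗ₜ[ℤ] t)).symm
  unfold lam
  rw [AddEquiv.trans_apply, h1, AddEquiv.symm_apply_apply]
  exact tensEquiv_germ (Scheme.pointSmallEtale ξ) F.obj ((EtCoh.pull f).obj G).obj U x s t

/-- **the projections of the image of a germ of a tensor** -/
lemma key (ξ : Pts f η)
    (ω : fb η (tensorObj (lowerShriekPre f F) G.obj)) :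
    lam f F G ξ.1 (Θ f η ξ (T f F G)
      ((Scheme.pointSmallEtale η).presheafFiber.map (μ f F G) ω)) =
      TensorProduct.map (Θ f η ξ F).hom.toIntLinearMap (κ f G η ξ).hom.toIntLinearMap
        (tensEquiv (Scheme.pointSmallEtale η) (lowerShriekPre f F) G.obj ω) := by
  let L : fb η (tensorObj (lowerShriekPre f F) G.obj) →+
      (fb ξ.1 F.obj) ⊗[ℤ]
        (fb ξ.1 ((EtCoh.pull f).obj G).obj) :=
    (lam f F G ξ.1).toAddMonoidHom.comp ((Θ f η ξ (T f F G)).hom.comp
      ((Scheme.pointSmallEtale η).presheafFiber.map (μ f F G)).hom)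
  let R : fb η (tensorObj (lowerShriekPre f F) G.obj) →+
      (fb ξ.1 F.obj) ⊗[ℤ]
        (fb ξ.1 ((EtCoh.pull f).obj G).obj) :=
    (TensorProduct.map (Θ f η ξ F).hom.toIntLinearMap
      (κ f G η ξ).hom.toIntLinearMap).toAddMonoidHom.comp
      (tensEquiv (Scheme.pointSmallEtale η) (lowerShriekPre f F) G.obj).toAddMonoidHom
  have hLR : L = R := by
    apply addHom_ext
    intro V v s t
    change lam f F G ξ.1 (Θ f η ξ (T f F G)
      ((Scheme.pointSmallEtale η).presheafFiber.map (μ f F G)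
        ((Scheme.pointSmallEtale η).toPresheafFiber V v
          (tensorObj (lowerShriekPre f F) G.obj) (s ⊗ₜ[ℤ] t)))) =
      TensorProduct.map (Θ f η ξ F).hom.toIntLinearMap (κ f G η ξ).hom.toIntLinearMap
        (tensEquiv (Scheme.pointSmallEtale η) (lowerShriekPre f F) G.obj
          ((Scheme.pointSmallEtale η).toPresheafFiber V v
            (tensorObj (lowerShriekPre f F) G.obj) (s ⊗ₜ[ℤ] t)))
    have h1 := (Scheme.pointSmallEtale η).toPresheafFiber_naturality_apply (μ f F G) V v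
      (s ⊗ₜ[ℤ] t)
    have h2 := Θ_germ f η (T f F G) ξ V v ((μ f F G).app (op V) (s ⊗ₜ[ℤ] t))
    have h3 := lam_germ f F G ξ.1 ((EtCoh.bc f).obj V) (liftPt f η ξ V v)
      ((ShriekLqf.iotaP f F).app (op V) s) ((uG f G).app (op V) t)
    have h4 := tensEquiv_germ (Scheme.pointSmallEtale η) (lowerShriekPre f F) G.obj V v s t
    have h5 := congrArg (TensorProduct.map (Θ f η ξ F).hom.toIntLinearMap
      (κ f G η ξ).hom.toIntLinearMap) h4
    rw [TensorProduct.map_tmul] at h5
    refine ((congrArg (fun z => lam f F G ξ.1 (Θ f η ξ (T f F G) z)) h1).trans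
      ((congrArg (lam f F G ξ.1) h2).trans h3)).trans (Eq.trans ?_ h5.symm)
    congr 1
    · exact (Θ_germ f η F ξ V v s).symm
    · exact (κ_germ f G η ξ V v t).symm
  exact DFunLike.congr_fun hLR ω

open Classical in
set_option backward.isDefEq.respectTransparency.types false in
/-- **the projection formula map is bijective on stalks** -/
theorem stalk_μ_bijective :
    Function.Bijective ((Scheme.pointSmallEtale η).presheafFiber.map (μ f F G)) := by
  let eF : fb η (lowerShriekPre f F) ≃+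
      (DirectSum (Pts f η) fun ξ => ToType ((Ψ f η ξ).presheafFiber.obj F.obj)) :=
    AddEquiv.ofBijective (ψ f η F) ⟨ψ_injective f η F, ψ_surjective f η F⟩
  let ψT : fb η (lowerShriekPre f (T f F G)) ≃+
      (DirectSum (Pts f η) fun ξ => ToType ((Ψ f η ξ).presheafFiber.obj (T f F G).obj)) :=
    AddEquiv.ofBijective (ψ f η (T f F G))
      ⟨ψ_injective f η (T f F G), ψ_surjective f η (T f F G)⟩
  let k : ∀ ξ : Pts f η, fb η G.obj ≃+
      ToType ((Ψ f η ξ).presheafFiber.obj ((EtCoh.pull f).obj G).obj) := fun ξ =>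
    AddEquiv.ofBijective (κ f G η ξ).hom (κ_bijective f G η ξ)
  let l : ∀ ξ : Pts f η, ToType ((Ψ f η ξ).presheafFiber.obj (T f F G).obj) ≃+
      (ToType ((Ψ f η ξ).presheafFiber.obj F.obj)) ⊗[ℤ]
        (ToType ((Ψ f η ξ).presheafFiber.obj ((EtCoh.pull f).obj G).obj)) :=
    fun ξ => lam f F G ξ.1
  refine bijective_of_key eF k l
    (tensEquiv (Scheme.pointSmallEtale η) (lowerShriekPre f F) G.obj) ψT
    ((Scheme.pointSmallEtale η).presheafFiber.map (μ f F G)).hom ?_
  intro ξ ω
  rw [distrib_apply eF k (fun ξ => (Θ f η ξ F).hom) (fun a ξ => ψ_apply f η F a ξ)]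
  have h1 : ψT (((Scheme.pointSmallEtale η).presheafFiber.map (μ f F G)).hom ω) ξ =
      Θ f η ξ (T f F G) ((Scheme.pointSmallEtale η).presheafFiber.map (μ f F G) ω) :=
    ψ_apply f η (T f F G) _ ξ
  rw [h1]
  exact key f F G η ξ ω

end Stalk

section Main

/-- the projection formula morphism of sheaves -/
noncomputable def projMap :
    (presheafToSheaf Y.smallEtaleTopology AddCommGrpCat.{u + 1}).obj
      (tensorObj (lowerShriekPre f F) G.obj) ⟶ (shriekSheafFunctor f).obj (T f F G) :=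
  ⟨sheafifyLift Y.smallEtaleTopology (μ f F G) (isSheaf_lowerShriekPre f (T f F G))⟩

set_option backward.isDefEq.respectTransparency.types false in
theorem isIso_projMap : IsIso (projMap f F G) := by
  apply Groth.Agent.Lib.Seat1.AlgStalk.isIso_of_stalks
  intro Ω _ _ η
  have h1 : (Scheme.pointSmallEtale η).presheafFiber.map
      (CategoryTheory.toSheafify Y.smallEtaleTopology (tensorObj (lowerShriekPre f F) G.obj)) ≫
      (EtCoh.stalk η).map (projMap f F G) =
      (Scheme.pointSmallEtale η).presheafFiber.map (μ f F G) := by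
    change (Scheme.pointSmallEtale η).presheafFiber.map _ ≫
      (Scheme.pointSmallEtale η).presheafFiber.map _ = _
    rw [← Functor.map_comp]
    congr 1
    exact toSheafify_sheafifyLift _ _ _
  have h2 : IsIso ((Scheme.pointSmallEtale η).presheafFiber.map
      (CategoryTheory.toSheafify Y.smallEtaleTopology (tensorObj (lowerShriekPre f F) G.obj))) :=
    inferInstance
  have h3 : Function.Bijective ((Scheme.pointSmallEtale η).presheafFiber.map
      (CategoryTheory.toSheafify Y.smallEtaleTopology (tensorObj (lowerShriekPre f F) G.obj))) :=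
    (ConcreteCategory.isIso_iff_bijective _).mp h2
  have h4 := stalk_μ_bijective f F G η
  rw [← h1] at h4
  have h5 : Function.Bijective (((EtCoh.stalk η).map (projMap f F G)) ∘
      ((Scheme.pointSmallEtale η).presheafFiber.map
      (CategoryTheory.toSheafify Y.smallEtaleTopology (tensorObj (lowerShriekPre f F) G.obj)))) := h4
  exact (Function.Bijective.of_comp_iff _ h3).1 h5

/-- **S0780**: the projection formula for `f_!`, `f` separated and locally quasi-finite -/
theorem projection_formula :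
    Nonempty ((EtTens.tensorBi.obj ((EtShriek.lowerShriek f).obj F)).obj G ≅
      (EtShriek.lowerShriek f).obj ((EtTens.tensorBi.obj F).obj ((EtCoh.pull f).obj G))) := by
  let e1 : (EtTens.tensorBi.obj ((EtShriek.lowerShriek f).obj F)).obj G ≅
      (EtTens.tensorBi.obj ((shriekSheafFunctor f).obj F)).obj G :=
    (EtTens.tensorBi.mapIso ((lowerShriekIso f).app F)).app G
  let e2 : (EtTens.tensorBi.obj ((shriekSheafFunctor f).obj F)).obj G ≅
      (shriekSheafFunctor f).obj (T f F G) :=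
    @asIso _ _ _ _ (projMap f F G) (isIso_projMap f F G)
  let e3 : (shriekSheafFunctor f).obj (T f F G) ≅ (EtShriek.lowerShriek f).obj (T f F G) :=
    ((lowerShriekIso f).app (T f F G)).symm
  exact ⟨e1 ≪≫ e2 ≪≫ e3⟩

end Main

end Groth.Agent.Lib.Seat1.ShriekProj
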