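import Mathlib
import Groth.Prelude.Def_EtBaseX
import Groth.Prelude.Def_SGA4b
import Groth.Agent.Lib.Seat1HenselStalk

/-!
# Stalks of inverse images at geometric points; sections over a strictly henselian local scheme (seat 1)
-/

set_option autoImplicit false
set_option linter.style.haveILetI false
set_option linter.unusedSectionVars false
universe u
open CategoryTheory CategoryTheory.Limits AlgebraicGeometry Opposite IsLocalRing

namespace Groth.Agent.Lib.Seat1.StrictLoc

section Comap

variable {X X' : Scheme.{u}} (g : X' ⟶ X) {Ω : Type u} [Field Ω] [IsSepClosed Ω]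
  (ξ' : Spec (CommRingCat.of Ω) ⟶ X')

/-- the fibre functor of the image geometric point is the base change functor followed by the fibre functor -/
noncomputable def fiberIso :
    (Scheme.pointSmallEtale (ξ' ≫ g)).fiber ≅ EtCoh.bc g ⋙ (Scheme.pointSmallEtale ξ').fiber :=
  (Functor.isoWhiskerLeft (Scheme.Etale.forget X)
      (((Over.mapPullbackAdj g).compCoyonedaIso).app (op (Over.mk ξ')))) ≪≫
    (Functor.associator _ _ _).symm ≪≫
    (Functor.isoWhiskerRight
      (MorphismProperty.Over.pullbackCompForgetIso (P := EtCoh.etaleMP) (Q := ⊤) g).symm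
      (coyoneda.obj (op (Over.mk ξ')))) ≪≫
    Functor.associator _ _ _

/-- the comparison of categories of elements -/
noncomputable def elementsEquiv :
    (Scheme.pointSmallEtale (ξ' ≫ g)).fiber.Elements ≌
      (EtCoh.bc g ⋙ (Scheme.pointSmallEtale ξ').fiber).Elements :=
  Cat.equivOfIso (Functor.elementsFunctor.mapIso (fiberIso g ξ'))

instance initiallySmall_comap :
    InitiallySmall.{u} (EtCoh.bc g ⋙ (Scheme.pointSmallEtale ξ').fiber).Elements :=
  initiallySmall_of_initial_of_initiallySmall (elementsEquiv g ξ').functor

/-- the inverse image point -/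
noncomputable abbrev comapPt : X.smallEtaleTopology.Point :=
  (Scheme.pointSmallEtale ξ').comap (EtCoh.bc g) (EtCoh.coverPreserving_bc g)

/-- the inverse image of a geometric point is the composite geometric point -/
noncomputable def pointIso : Scheme.pointSmallEtale (ξ' ≫ g) ≅ comapPt g ξ' where
  hom := ⟨(fiberIso g ξ').inv⟩
  inv := ⟨(fiberIso g ξ').hom⟩
  hom_inv_id := by
    apply GrothendieckTopology.Point.hom_ext
    exact (fiberIso g ξ').hom_inv_id
  inv_hom_id := by
    apply GrothendieckTopology.Point.hom_ext
    exact (fiberIso g ξ').inv_hom_id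

variable (A : Type (u + 2)) [Category.{u + 1} A] [HasColimitsOfSize.{u, u} A]

/-- isomorphic points have isomorphic fibre functors -/
noncomputable def sheafFiberIsoOfIso {S : Scheme.{u}} {Φ₁ Φ₂ : S.smallEtaleTopology.Point}
    (e : Φ₁ ≅ Φ₂) : Φ₂.sheafFiber (A := A) ≅ Φ₁.sheafFiber where
  hom := GrothendieckTopology.Point.Hom.sheafFiber e.hom
  inv := GrothendieckTopology.Point.Hom.sheafFiber e.inv
  hom_inv_id := by
    rw [← GrothendieckTopology.Point.Hom.sheafFiber_comp, e.inv_hom_id,
      GrothendieckTopology.Point.Hom.sheafFiber_id]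
  inv_hom_id := by
    rw [← GrothendieckTopology.Point.Hom.sheafFiber_comp, e.hom_inv_id,
      GrothendieckTopology.Point.Hom.sheafFiber_id]

/-- **Stalks of inverse images of sheaves of sets**: `(g^* F)_{ξ'} ≅ F_{g ξ'}`, functorially. -/
noncomputable def pullShFiberIso :
    (Scheme.pointSmallEtale (ξ' ≫ g)).sheafFiber (A := Type (u + 1)) ≅
      EtDesc.pullSh g ⋙ (Scheme.pointSmallEtale ξ').sheafFiber (A := Type (u + 1)) :=
  (sheafFiberIsoOfIso (Type (u + 1)) (pointIso g ξ')).symm ≪≫
    GrothendieckTopology.Point.sheafFiberComapIso (Scheme.pointSmallEtale ξ') (EtCoh.bc g)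
      (EtCoh.coverPreserving_bc g) (Type (u + 1))

end Comap

section Sections

open Groth.Agent.Lib.Seat1.HenselStalk

variable (R : Type u) [CommRing R] [HenselianLocalRing R] [IsSepClosed (ResidueField R)]

/-- on the spectrum of a strictly henselian local ring, global sections of sheaves of sets are the stalks at the
closed geometric point, functorially -/
noncomputable def sectionsIso :
    (sheafSections (Spec (CommRingCat.of R)).smallEtaleTopology (Type (u + 1))).obj
        (op (EtCoh.top (Spec (CommRingCat.of R)))) ≅
      (Φ R).sheafFiber (A := Type (u + 1)) :=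
  NatIso.ofComponents
    (fun G => Equiv.toIso (Equiv.ofBijective
      ((Φ R).toPresheafFiber (EtCoh.top (Spec (CommRingCat.of R))) (pt R) G.obj)
      (toPresheafFiber_top_bijective R G.obj)))
    (fun {G G'} a => by
      ext z
      exact ((Φ R).toPresheafFiber_naturality_apply a.hom
        (EtCoh.top (Spec (CommRingCat.of R))) (pt R) z).symm)

variable {X : Scheme.{u}} (g : Spec (CommRingCat.of R) ⟶ X)

/-- **The fibre functor at the closed geometric point of a strictly henselian local scheme over `X` is the functor of
sections of the inverse image.** -/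
noncomputable def fiberIsoSections :
    (Scheme.pointSmallEtale (cl R ≫ g)).sheafFiber (A := Type (u + 1)) ≅
      EtDesc.pullSh g ⋙
        (sheafSections (Spec (CommRingCat.of R)).smallEtaleTopology (Type (u + 1))).obj
          (op (EtCoh.top (Spec (CommRingCat.of R)))) :=
  pullShFiberIso g (cl R) ≪≫ Functor.isoWhiskerLeft (EtDesc.pullSh g) (sectionsIso R).symm

end Sections

end Groth.Agent.Lib.Seat1.StrictLoc
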