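import Mathlib
import Groth.Prelude.Def_EtBase
import Groth.Agent.Lib.Helper9EtFpH
import Groth.Agent.Lib.Helper9EtMV

/-!
# Torsion abelian etale sheaves are filtered colimits of their `n!`-torsion subsheaves (seat 1)
-/

set_option autoImplicit false
set_option linter.style.haveILetI false
universe u
open CategoryTheory CategoryTheory.Limits AlgebraicGeometry Opposite

namespace Groth.Agent.Lib.Seat1.Torsion

open Groth.Agent.Lib.Helper9.EtMV Groth.Agent.Lib.Helper16.SmallEtale

variable {X : Scheme.{u}} (F : EtCoh.Ab X)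

/-- the `n!`-torsion subobject of `F` -/
noncomputable def T (n : ℕ) : Subobject F := kernelSubobject ((n.factorial : ℕ) • 𝟙 F)

lemma kernelSubobject_nsmul_le {a b : ℕ} (h : a ∣ b) :
    kernelSubobject (a • 𝟙 F) ≤ kernelSubobject (b • 𝟙 F) := by
  obtain ⟨c, rfl⟩ := h
  have e : (a * c) • 𝟙 F = (a • 𝟙 F) ≫ (c • 𝟙 F) := by
    rw [Preadditive.nsmul_comp, Preadditive.comp_nsmul, Category.id_comp, mul_comm, mul_smul, smul_comm]
  rw [e]
  exact kernelSubobject_comp_le _ _

lemma T_mono : Monotone (T F) := by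
  intro a b h
  exact kernelSubobject_nsmul_le F (Nat.factorial_dvd_factorial h)

/-- the diagram of `n!`-torsion subsheaves -/
noncomputable def D : ℕ ⥤ EtCoh.Ab X := (T_mono F).functor ⋙ Subobject.underlying

/-- the cocone of inclusions -/
noncomputable def cocone : Cocone (D F) where
  pt := F
  ι :=
    { app := fun n => (T F n).arrow
      naturality := by
        intro a b f
        dsimp [D]
        rw [Category.comp_id]
        exact Subobject.underlying_arrow _ }

/-- AB5 for countable (size-0) filtered shapes -/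
instance ab5Zero : AB5OfSize.{0, 0} (EtCoh.Ab X) :=
  AB5OfSize_of_univLE.{0, 0, u + 1, u + 1} (EtCoh.Ab X)

attribute [local instance] IsFiltered.isConnected

/-- the comparison map from the colimit of the torsion subsheaves to `F` -/
noncomputable def desc : colimit (D F) ⟶ F := colimit.desc (D F) (cocone F)

instance mono_desc : Mono (desc F) := by
  let α : D F ⟶ (Functor.const ℕ).obj F := (cocone F).ι
  haveI : ∀ n, Mono (α.app n) := fun n => inferInstanceAs (Mono (T F n).arrow)
  haveI := NatTrans.mono_of_mono_app α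
  exact colim.map_mono' α (colimit.isColimit _) (isColimitConstCocone ℕ F) (desc F)
    (fun j => by
      change colimit.ι (D F) j ≫ colimit.desc (D F) (cocone F) = (cocone F).ι.app j ≫ 𝟙 F
      rw [colimit.ι_desc]
      exact (Category.comp_id _).symm)

lemma zhEquiv_zero (U : X.Etale) (G : EtCoh.Ab X) : zhEquiv U G 0 = 0 := by
  have h := zhEquiv_comp U (0 : Zh U ⟶ G) (0 : G ⟶ G)
  rw [comp_zero] at h
  rw [h]
  rfl

lemma nsmul_hom_app (n : ℕ) (U : X.Etale) (t : F.obj.obj (op U)) :
    ((n • 𝟙 F : F ⟶ F).hom.app (op U)).hom t = n • t := by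
  induction n with
  | zero => simp
  | succ k ih =>
    rw [succ_nsmul, succ_nsmul]
    change (((k • 𝟙 F : F ⟶ F).hom.app (op U)).hom t) + t = _
    rw [ih]

lemma exists_preimage (U : X.Etale) (t : F.obj.obj (op U)) (n : ℕ) (hn : 0 < n) (h : n • t = 0) :
    ∃ s : (colimit (D F)).obj.obj (op U), ((desc F).hom.app (op U)).hom s = t := by
  let φ : Zh U ⟶ F := (zhEquiv U F).symm t
  have hφ : zhEquiv U F φ = t := (zhEquiv U F).apply_symm_apply t
  have hfac : n.factorial • t = 0 := by
    obtain ⟨c, hc⟩ := Nat.dvd_factorial hn le_rfl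
    rw [hc, mul_comm, mul_smul, h, smul_zero]
  have h1 : φ ≫ (n.factorial • 𝟙 F) = 0 := by
    apply (zhEquiv U F).injective
    rw [zhEquiv_comp, hφ, nsmul_hom_app, hfac, zhEquiv_zero]
  let l : Zh U ⟶ (D F).obj n :=
    (kernelSubobject (n.factorial • 𝟙 F)).factorThru φ (kernelSubobject_factors _ _ h1)
  have hl : l ≫ (T F n).arrow = φ := Subobject.factorThru_arrow _ _ _
  refine ⟨zhEquiv U _ (l ≫ colimit.ι (D F) n), ?_⟩
  rw [← zhEquiv_comp, Category.assoc]
  have : colimit.ι (D F) n ≫ desc F = (T F n).arrow := colimit.ι_desc _ _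
  rw [this, hl, hφ]

theorem epi_desc (hF : EtCoh.IsTorsion F) : Epi (desc F) := by
  haveI : Sheaf.IsLocallySurjective (desc F) := by
    constructor
    intro U t
    rw [mem_smallEtale_iff]
    intro p
    obtain ⟨V, g, ⟨v, hv⟩, hfin⟩ := hF U t p
    obtain ⟨n, hn, hn0⟩ := isOfFinAddOrder_iff_nsmul_eq_zero.mp hfin
    obtain ⟨s, hs⟩ := exists_preimage F V _ n hn hn0
    exact ⟨V, g, v, ⟨s, hs⟩, hv⟩
  exact Sheaf.epi_of_isLocallySurjective (desc F)

theorem isIso_desc (hF : EtCoh.IsTorsion F) : IsIso (desc F) := by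
  haveI := epi_desc F hF
  exact isIso_of_mono_of_epi (desc F)

/-- a torsion sheaf is the colimit of its `n!`-torsion subsheaves -/
noncomputable def isColimitCocone (hF : EtCoh.IsTorsion F) : IsColimit (cocone F) := by
  haveI : IsIso ((colimit.isColimit (D F)).desc (cocone F)) := isIso_desc F hF
  exact IsColimit.ofPointIso (colimit.isColimit (D F))

attribute [local instance] CategoryTheory.uliftCategory in
/-- étale cohomology of a qcqs scheme commutes with sequential colimits -/
theorem preservesColimitsOfShape_nat_HF [CompactSpace X] [QuasiSeparatedSpace X] (n : ℕ) :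
    PreservesColimitsOfShape ℕ (EtCoh.HF X n) := by
  let e : ℕ ≌ ULiftHom.{u + 1} (ULift.{u + 1} ℕ) := ULiftHomULiftCategory.equiv.{u + 1, u + 1} ℕ
  haveI : IsFiltered (ULiftHom.{u + 1} (ULift.{u + 1} ℕ)) := IsFiltered.of_equivalence e
  haveI := Groth.Agent.Lib.Helper9.EtFp.preservesColimitsOfShape_HF X n
    (ULiftHom.{u + 1} (ULift.{u + 1} ℕ))
  exact preservesColimitsOfShape_of_equiv e.symm _

instance pfcZero : PreservesFilteredColimitsOfSize.{0, 0} (forget AddCommGrpCat.{u + 1}) :=
  preservesFilteredColimitsOfSize_shrink.{0, u + 1, 0, u + 1} _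

lemma H_map_nsmul {G G' : EtCoh.Ab X} (φ : G ⟶ G') (m n : ℕ) (y : EtCoh.H X G n) :
    Sheaf.H.map (m • φ) n y = m • Sheaf.H.map φ n y := by
  induction m with
  | zero =>
    rw [zero_smul, zero_smul]
    change ((Sheaf.functorH _ n).map (0 : G ⟶ G')).hom y = 0
    rw [Functor.map_zero]
    rfl
  | succ k ih =>
    rw [succ_nsmul, succ_nsmul, Sheaf.H.map_add_apply, ih]

lemma nsmul_eq_zero_of_kill {G : EtCoh.Ab X} (m : ℕ) (hG : (m • 𝟙 G : G ⟶ G) = 0) (n : ℕ)
    (y : EtCoh.H X G n) : m • y = 0 := by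
  have h0 : Sheaf.H.map (m • 𝟙 G) n y = m • y := by
    rw [H_map_nsmul, Sheaf.H.map_id_apply]
  rw [← h0, hG]
  change ((Sheaf.functorH _ n).map (0 : G ⟶ G)).hom y = 0
  rw [Functor.map_zero]
  rfl

/-- the inclusion of the `j!`-torsion subsheaf -/
noncomputable def incl (j : ℕ) : (D F).obj j ⟶ F := (T F j).arrow

instance (j : ℕ) : Mono (incl F j) := inferInstanceAs (Mono (T F j).arrow)

lemma incl_comp (j : ℕ) : incl F j ≫ (j.factorial • 𝟙 F) = 0 := kernelSubobject_arrow_comp _

lemma kill_D (j : ℕ) : (j.factorial • 𝟙 ((D F).obj j) : (D F).obj j ⟶ (D F).obj j) = 0 := by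
  have h : (j.factorial • 𝟙 ((D F).obj j) : (D F).obj j ⟶ (D F).obj j) ≫ incl F j = 0 := by
    rw [Preadditive.nsmul_comp, Category.id_comp]
    have h2 := incl_comp F j
    rwa [Preadditive.comp_nsmul, Category.comp_id] at h2
  exact (cancel_mono (incl F j)).mp (h.trans zero_comp.symm)

theorem isAddTorsion_H [CompactSpace X] [QuasiSeparatedSpace X] (hF : EtCoh.IsTorsion F) (n : ℕ) :
    IsAddTorsion (EtCoh.H X F n) := by
  haveI := preservesColimitsOfShape_nat_HF (X := X) n
  have hc : IsColimit ((EtCoh.HF X n).mapCocone (cocone F)) :=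
    isColimitOfPreserves _ (isColimitCocone F hF)
  intro x
  obtain ⟨j, y, hy⟩ := Concrete.isColimit_exists_rep _ hc x
  rw [isOfFinAddOrder_iff_nsmul_eq_zero]
  refine ⟨j.factorial, Nat.factorial_pos j, ?_⟩
  let y' : EtCoh.H X ((D F).obj j) n := y
  have hy' : Sheaf.H.map (incl F j) n y' = x := hy
  have hk : j.factorial • y' = 0 := nsmul_eq_zero_of_kill _ (kill_D F j) n y'
  rw [← hy', ← map_nsmul, hk, map_zero]

end Groth.Agent.Lib.Seat1.Torsion
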