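import Mathlib
import Groth.Prelude.Def_EtCore
import Groth.Agent.Lib.Seat1UIPush

/-!
# Universal homeomorphisms and étale cohomology (seat 1)

For `i : X₀ ⟶ X` integral, universally injective and surjective, `i_*` and `i⁻¹` are equivalences between the
categories of abelian étale sheaves, and the pullback map on cohomology is bijective in every degree.
-/

set_option autoImplicit false
set_option linter.style.haveILetI false
set_option linter.unusedSectionVars false
universe u
open CategoryTheory CategoryTheory.Limits AlgebraicGeometry Opposite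

namespace Groth.Agent.Lib.Seat1.UHom

variable {X₀ X : Scheme.{u}} (i : X₀ ⟶ X) [IsIntegralHom i] [UniversallyInjective i] [Surjective i]

/-- `i_*` is an equivalence of categories of abelian étale sheaves -/
theorem isEquivalence_push : (EtCoh.push i).IsEquivalence := by
  obtain ⟨hfull, hfaith, hess, -⟩ := Groth.Agent.Lib.Seat1.UIPush.main i
  haveI := hfull
  haveI := hfaith
  haveI : (EtCoh.push i).EssSurj := ⟨fun G => (hess G).2 (by
    intro x _
    exact i.surjective x)⟩
  exact {}

/-- `i⁻¹` is an equivalence of categories of abelian étale sheaves -/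
theorem isEquivalence_pull : (EtCoh.pull i).IsEquivalence := by
  haveI := isEquivalence_push i
  exact (EtCoh.pullPushAdj i).isEquivalence_left_of_isEquivalence_right

/-- **S0642**: pullback on étale cohomology along a universal homeomorphism is bijective -/
theorem hpull_bijective [PreservesFiniteLimits (EtCoh.pull i)] (F : EtCoh.Ab X) (q : ℕ) :
    Function.Bijective (EtCore.Hpull i F q) := by
  haveI := isEquivalence_pull i
  have h1 : Function.Bijective ((EtCoh.pull i).mapExtAddHom
      ((constantSheaf X.smallEtaleTopology AddCommGrpCat.{u + 1}).obj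
        (AddCommGrpCat.of (ULift.{u + 1} ℤ))) F q) :=
    Functor.mapExt_bijective_of_preservesInjectiveObjects (EtCoh.pull i) _ _ q
  have h2 : Function.Bijective (fun e : Abelian.Ext ((EtCoh.pull i).obj (EtCoh.const X ℤ))
      ((EtCoh.pull i).obj F) q => (Abelian.Ext.mk₀ (EtCore.pullConst i ℤ).inv).comp e (zero_add q)) := by
    refine Function.bijective_iff_has_inverse.2
      ⟨fun e => (Abelian.Ext.mk₀ (EtCore.pullConst i ℤ).hom).comp e (zero_add q), ?_, ?_⟩
    · intro e
      dsimp only
      rw [← Abelian.Ext.comp_assoc_of_second_deg_zero, Abelian.Ext.mk₀_comp_mk₀, Iso.hom_inv_id,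
        Abelian.Ext.mk₀_id_comp]
    · intro e
      dsimp only
      rw [← Abelian.Ext.comp_assoc_of_second_deg_zero, Abelian.Ext.mk₀_comp_mk₀, Iso.inv_hom_id,
        Abelian.Ext.mk₀_id_comp]
  exact h2.comp h1

end Groth.Agent.Lib.Seat1.UHom
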