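import Mathlib
import Groth.Prelude.Def_EtZar
import Groth.Agent.Lib.Helper16SmallEtale

/-!
# The Zariski site as a dense subsite of the small étale site (seat 1)

If every étale `S`-scheme is covered by opens of `S` (for instance when all local rings of `S` are strictly
henselian), then `EtZar.zarToEt S : S.Opens ⥤ S.Etale` is a dense subsite, restriction of abelian sheaves to the
Zariski site is an equivalence of categories and étale cohomology agrees with Zariski cohomology.
-/

set_option autoImplicit false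
set_option linter.style.haveILetI false
set_option linter.unusedSectionVars false
universe u
open CategoryTheory CategoryTheory.Limits AlgebraicGeometry Opposite TopologicalSpace

namespace Groth.Agent.Lib.Seat1.ZarDense

open Groth.Agent.Lib.Helper16.SmallEtale

variable (S : Scheme.{u})

instance : (EtZar.zarToEt S).Faithful := ⟨fun _ => Subsingleton.elim _ _⟩

set_option backward.isDefEq.respectTransparency.types false in
lemma le_of_hom {U V : S.Opens} (g : (EtZar.zarToEt S).obj U ⟶ (EtZar.zarToEt S).obj V) : U ≤ V := by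
  intro x hx
  let gl : (U : Scheme.{u}) ⟶ (V : Scheme.{u}) := g.left
  have hw : gl ≫ V.ι = U.ι := Over.w g.hom
  have h1 : V.ι (gl ⟨x, hx⟩) = x :=
    (Scheme.Hom.comp_apply _ _ _).symm.trans
      (congrArg (fun t : (U : Scheme.{u}) ⟶ S => t ⟨x, hx⟩) hw)
  rw [← h1]
  exact (gl ⟨x, hx⟩).2

set_option backward.isDefEq.respectTransparency.types false in
instance : (EtZar.zarToEt S).Full where
  map_surjective {U V} g := by
    refine ⟨homOfLE (le_of_hom S g), ?_⟩
    apply MorphismProperty.Over.Hom.ext
    let gl : (U : Scheme.{u}) ⟶ (V : Scheme.{u}) := g.left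
    have hw : gl ≫ V.ι = U.ι := Over.w g.hom
    change S.homOfLE (le_of_hom S g) = gl
    exact (cancel_mono V.ι).1 ((S.homOfLE_ι _).trans hw.symm)

/-- the covering hypothesis: every point of an étale `S`-scheme lies in the image of an open of `S` -/
def CoveredByOpens : Prop :=
  ∀ (V : S.Etale) (v : V.left), ∃ (U : S.Opens) (m : (EtZar.zarToEt S).obj U ⟶ V), v ∈ Set.range m.left

variable {S}

set_option backward.isDefEq.respectTransparency.types false in
theorem isCoverDense (h : CoveredByOpens S) : (EtZar.zarToEt S).IsCoverDense S.smallEtaleTopology := by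
  constructor
  intro V
  rw [mem_smallEtale_iff]
  intro v
  obtain ⟨U, m, y, hy⟩ := h V v
  exact ⟨(EtZar.zarToEt S).obj U, m, y, ⟨⟨U, 𝟙 _, m, Category.id_comp _⟩⟩, hy⟩

set_option backward.isDefEq.respectTransparency.types false in
theorem functorPushforward_mem_iff {U : S.Opens} (R : Sieve U) :
    R.functorPushforward (EtZar.zarToEt S) ∈ S.smallEtaleTopology ((EtZar.zarToEt S).obj U) ↔
      R ∈ Opens.grothendieckTopology S U := by
  rw [mem_smallEtale_iff]
  constructor
  · intro h x hx
    obtain ⟨W, g, y, ⟨W', a, b, ha, hab⟩, hy⟩ := h ⟨x, hx⟩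
    refine ⟨W', a, ha, ?_⟩
    -- x lies in W'
    let gl : W.left ⟶ (U : Scheme.{u}) := g.left
    let bl : W.left ⟶ (W' : Scheme.{u}) := b.left
    have h1 : gl = bl ≫ S.homOfLE a.le := congrArg (fun t => t.left) hab
    have h2 : U.ι (gl y) = x := congrArg Subtype.val hy
    have h3 : gl ≫ U.ι = bl ≫ W'.ι := by
      rw [h1, Category.assoc, S.homOfLE_ι]
    have h4 : U.ι (gl y) = W'.ι (bl y) :=
      (Scheme.Hom.comp_apply _ _ _).symm.trans
        ((congrArg (fun t : W.left ⟶ S => t y) h3).trans (Scheme.Hom.comp_apply _ _ _))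
    rw [← h2, h4]
    exact (bl y).2
  · intro h x
    obtain ⟨W, a, ha, hxW⟩ := h x.1 x.2
    refine ⟨(EtZar.zarToEt S).obj W, (EtZar.zarToEt S).map a, ⟨x.1, hxW⟩,
      ⟨W, a, 𝟙 _, ha, (Category.id_comp _).symm⟩, ?_⟩
    apply Subtype.ext
    change U.ι ((S.homOfLE a.le) ⟨x.1, hxW⟩) = x.1
    exact (Scheme.Hom.comp_apply _ _ _).symm.trans
      (congrArg (fun t : (W : Scheme.{u}) ⟶ S => t ⟨x.1, hxW⟩) (S.homOfLE_ι a.le))

theorem isDenseSubsite (h : CoveredByOpens S) :
    (EtZar.zarToEt S).IsDenseSubsite (Opens.grothendieckTopology S) S.smallEtaleTopology := by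
  haveI := isCoverDense h
  exact { functorPushforward_mem_iff := fun {U R} => functorPushforward_mem_iff R }

section Coh

variable (S)

/-- the whole space is a terminal object of the category of opens -/
def topIsTerminalOpens : IsTerminal (⊤ : S.Opens) :=
  IsTerminal.ofUniqueHom (fun _ => homOfLE le_top) (fun _ _ => Subsingleton.elim _ _)

lemma topIso_aux1 {T : Scheme.{u}} (a : T ⟶ S) : (a ≫ S.topIso.inv) ≫ (⊤ : S.Opens).ι = a := by
  rw [Category.assoc, Scheme.toIso_inv_ι, Category.comp_id]

lemma topIso_aux2 {T : Scheme.{u}} (ml : T ⟶ ((⊤ : S.Opens) : Scheme.{u})) :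
    ml = (ml ≫ (⊤ : S.Opens).ι) ≫ S.topIso.inv := by
  rw [Category.assoc, Scheme.ι_toIso_inv, Category.comp_id]

set_option backward.isDefEq.respectTransparency.types false in
/-- its image in the small étale site is terminal -/
noncomputable def zarTopIsTerminal : IsTerminal ((EtZar.zarToEt S).obj ⊤) := by
  refine IsTerminal.ofUniqueHom
    (fun V => MorphismProperty.Over.homMk (V.hom ≫ S.topIso.inv) (topIso_aux1 S V.hom)) ?_
  intro V m
  apply MorphismProperty.Over.Hom.ext
  let ml : V.left ⟶ ((⊤ : S.Opens) : Scheme.{u}) := m.left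
  have hw : ml ≫ (⊤ : S.Opens).ι = V.hom := Over.w m.hom
  change ml = V.hom ≫ S.topIso.inv
  exact (topIso_aux2 S ml).trans (congrArg (fun t => t ≫ S.topIso.inv) hw)

variable {S}

set_option backward.isDefEq.respectTransparency.types false in
/-- **S0670**: étale cohomology is Zariski cohomology when every étale `S`-scheme is covered by opens of `S` -/
theorem nonempty_H_addEquiv (h : CoveredByOpens S) [EtZar.ZarCont S] (F : EtCoh.Ab S) (i : ℕ) :
    Nonempty (EtCoh.H S F i ≃+ EtZar.H ((EtZar.resZar S).obj F) i) := by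
  haveI := isDenseSubsite h
  haveI : (EtZar.resZar S).IsEquivalence :=
    inferInstanceAs ((EtZar.zarToEt S).sheafPushforwardContinuous AddCommGrpCat.{u + 1}
      (Opens.grothendieckTopology S) S.smallEtaleTopology).IsEquivalence
  haveI : (EtZar.resZar S).Additive := { }
  let Zet : EtCoh.Ab S := (constantSheaf S.smallEtaleTopology AddCommGrpCat.{u + 1}).obj
    (AddCommGrpCat.of (ULift.{u + 1} ℤ))
  let Zzar : EtZar.Ab S := (constantSheaf (Opens.grothendieckTopology S) AddCommGrpCat.{u + 1}).obj
    (AddCommGrpCat.of (ULift.{u + 1} ℤ))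
  have h1 : Function.Bijective ((EtZar.resZar S).mapExtAddHom Zet F i) :=
    Functor.mapExt_bijective_of_preservesInjectiveObjects (EtZar.resZar S) Zet F i
  let κ : Zzar ≅ (EtZar.resZar S).obj Zet :=
    (equivCommuteConstant' (Opens.grothendieckTopology S) AddCommGrpCat.{u + 1} S.smallEtaleTopology
      (EtZar.zarToEt S) (topIsTerminalOpens S) (zarTopIsTerminal S)).app
        (AddCommGrpCat.of (ULift.{u + 1} ℤ))
  let pre : Abelian.Ext ((EtZar.resZar S).obj Zet) ((EtZar.resZar S).obj F) i →+
      Abelian.Ext Zzar ((EtZar.resZar S).obj F) i :=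
    AddMonoidHom.mk' (fun e => (Abelian.Ext.mk₀ κ.hom).comp e (zero_add i))
      (fun _ _ => Abelian.Ext.comp_add _ _ _ _)
  have h2 : Function.Bijective pre := by
    refine Function.bijective_iff_has_inverse.2
      ⟨fun e => (Abelian.Ext.mk₀ κ.inv).comp e (zero_add i), ?_, ?_⟩
    · intro e
      change (Abelian.Ext.mk₀ κ.inv).comp ((Abelian.Ext.mk₀ κ.hom).comp e (zero_add i)) (zero_add i) = e
      rw [← Abelian.Ext.comp_assoc_of_second_deg_zero, Abelian.Ext.mk₀_comp_mk₀, Iso.inv_hom_id,
        Abelian.Ext.mk₀_id_comp]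
    · intro e
      change (Abelian.Ext.mk₀ κ.hom).comp ((Abelian.Ext.mk₀ κ.inv).comp e (zero_add i)) (zero_add i) = e
      rw [← Abelian.Ext.comp_assoc_of_second_deg_zero, Abelian.Ext.mk₀_comp_mk₀, Iso.hom_inv_id,
        Abelian.Ext.mk₀_id_comp]
  exact ⟨(AddEquiv.ofBijective _ h1).trans (AddEquiv.ofBijective pre h2)⟩

end Coh

end Groth.Agent.Lib.Seat1.ZarDense
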