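import Mathlib
import Groth.Prelude.Def_EtZar
import Groth.Agent.Lib.Seat1ZarDense
import Groth.Agent.Lib.Seat1HenselSection
import Groth.Agent.Lib.Helper22SpreadIso

/-!
# Étale schemes over a scheme with strictly henselian local rings are covered by opens (seat 1)
-/

set_option autoImplicit false
set_option linter.style.haveILetI false
set_option linter.unusedSectionVars false
universe u
open CategoryTheory CategoryTheory.Limits AlgebraicGeometry Opposite TopologicalSpace IsLocalRing

namespace Groth.Agent.Lib.Seat1.ZarCover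

/-- lifting a morphism from the spectrum of a strictly henselian local ring along an étale morphism, through a
prescribed point over the image of the closed point. -/
theorem exists_lift_of_strictlyHenselian {S V : Scheme.{u}} (g : V ⟶ S) [Etale g]
    (A : Type u) [CommRing A] [HenselianLocalRing A] [IsSepClosed (ResidueField A)]
    (a : Spec (CommRingCat.of A) ⟶ S) (v : V) (hv : g v = a (closedPoint A)) :
    ∃ σ : Spec (CommRingCat.of A) ⟶ V, σ ≫ g = a ∧ σ (closedPoint A) = v := by
  let res : Spec (CommRingCat.of (ResidueField A)) ⟶ Spec (CommRingCat.of A) :=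
    Spec.map (CommRingCat.ofHom (residue A))
  have hres : ∀ p, res p = closedPoint A := fun p => PrimeSpectrum.comap_residue A p
  let x : Spec (CommRingCat.of (ResidueField A)) ⟶ S := res ≫ a
  have hx : g v = x default := by
    rw [hv]
    change _ = (res ≫ a) default
    rw [Scheme.Hom.comp_apply, hres]
  obtain ⟨l, hl, hlv⟩ := Scheme.exists_fac_of_etale_of_isSepClosed g x v hx
  let w : Spec (CommRingCat.of (ResidueField A)) ⟶ pullback g a :=
    pullback.lift l res hl
  have hw : w ≫ pullback.snd g a = res := pullback.lift_snd _ _ _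
  obtain ⟨t, ht1, ht2⟩ := Groth.Agent.Lib.Seat1.HenselSection.exists_section A
    (pullback.snd g a) w hw
  refine ⟨t ≫ pullback.fst _ _, ?_, ?_⟩
  · rw [Category.assoc, pullback.condition, ← Category.assoc, ht1, Category.id_comp]
  · have h2 : (res ≫ t ≫ pullback.fst g a) default = v := by
      rw [← Category.assoc, ht2, pullback.lift_fst]
      exact hlv
    rw [Scheme.Hom.comp_apply, hres] at h2
    exact h2

/-- a section of an étale morphism over the spectrum of a strictly henselian local ring of the base, through a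
prescribed point. -/
theorem exists_stalk_section {S V : Scheme.{u}} (g : V ⟶ S) [Etale g] (v : V) (s : S) (hv : g v = s)
    (hS : EtCoh.IsStrictlyHenselianLocalRing (S.presheaf.stalk s)) :
    ∃ σ : Spec (S.presheaf.stalk s) ⟶ V, σ ≫ g = S.fromSpecStalk s ∧
      σ (closedPoint (S.presheaf.stalk s)) = v := by
  obtain ⟨hH, hsep⟩ := hS
  exact @exists_lift_of_strictlyHenselian S V g _ (S.presheaf.stalk s) _ hH hsep (S.fromSpecStalk s) v
    (hv.trans (Scheme.fromSpecStalk_closedPoint (x := s)).symm)

/-- ring-level spreading out: an algebra map from a finitely presented algebra to a localization at a prime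
extends over a principal open. -/
theorem exists_away_factor {R₀ C L : Type u} [CommRing R₀] [CommRing C] [CommRing L]
    [Algebra R₀ C] [Algebra R₀ L] [Algebra.FinitePresentation R₀ C]
    (p : Ideal R₀) [p.IsPrime] [IsLocalization.AtPrime L p] (ψ : C →ₐ[R₀] L) :
    ∃ (t : R₀) (φ : C →ₐ[R₀] Localization.Away t) (χ : Localization.Away t →ₐ[R₀] L),
      ∀ c, χ (φ c) = ψ c := by
  obtain ⟨t, ht, φ, hφ⟩ := Groth.Agent.Lib.Helper22.SpreadIso.exists_lift_away
    (R := R₀) (S := C) (T := R₀) (L := L) p.primeCompl ψ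
  have hunit : IsUnit (algebraMap R₀ L t) := IsLocalization.map_units L ⟨t, ht⟩
  let χ : Localization.Away t →ₐ[R₀] L :=
    { IsLocalization.Away.lift t hunit with
      commutes' := fun r => IsLocalization.Away.lift_eq t hunit r }
  exact ⟨t, φ, χ, hφ χ⟩

/-- spreading out a section over the local ring to an open neighbourhood. -/
theorem exists_open_lift {S V : Scheme.{u}} (g : V ⟶ S) [LocallyOfFinitePresentation g] (s : S)
    (σ : Spec (S.presheaf.stalk s) ⟶ V) (hσ : σ ≫ g = S.fromSpecStalk s) :
    ∃ (W : Scheme.{u}) (j : W ⟶ S) (_ : IsOpenImmersion j) (m : W ⟶ V), m ≫ g = j ∧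
      σ (closedPoint (S.presheaf.stalk s)) ∈ Set.range m := by
  set v : V := σ (closedPoint (S.presheaf.stalk s)) with hv
  have hgv : g v = s :=
    ((Scheme.Hom.comp_apply _ _ _).symm.trans
      (congrArg (fun t : Spec (S.presheaf.stalk s) ⟶ S => t (closedPoint (S.presheaf.stalk s))) hσ)).trans
      Scheme.fromSpecStalk_closedPoint
  -- affine neighbourhoods
  obtain ⟨U, hU', hsU, -⟩ := Opens.isBasis_iff_nbhd.mp S.isBasis_affineOpens
    (U := ⊤) (x := s) trivial
  have hU : IsAffineOpen U := hU'
  have hvU : v ∈ g ⁻¹ᵁ U := by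
    change g v ∈ U
    rw [hgv]; exact hsU
  obtain ⟨V₀, hV₀', hvV₀, i⟩ := Opens.isBasis_iff_nbhd.mp V.isBasis_affineOpens hvU
  have hV₀ : IsAffineOpen V₀ := hV₀'
  -- σ factors through V₀
  have hrange : Set.range σ ⊆ Set.range hV₀.fromSpec := by
    rw [hV₀.range_fromSpec]
    rintro _ ⟨p, rfl⟩
    exact ((specializes_closedPoint p).map σ.continuous).mem_open V₀.2 hvV₀
  let σ₀ : Spec (S.presheaf.stalk s) ⟶ Spec Γ(V, V₀) := IsOpenImmersion.lift hV₀.fromSpec σ hrange
  have hσ₀ : σ₀ ≫ hV₀.fromSpec = σ := IsOpenImmersion.lift_fac _ _ _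
  let ψ : Γ(V, V₀) ⟶ S.presheaf.stalk s := Spec.preimage σ₀
  have hψ : Spec.map ψ = σ₀ := Spec.map_preimage _
  have hcomp : g.appLE U V₀ i ≫ ψ = S.presheaf.germ U s hsU := by
    apply Spec.map_injective
    rw [← cancel_mono hU.fromSpec, Spec.map_comp, Category.assoc,
      IsAffineOpen.SpecMap_appLE_fromSpec g hU hV₀ i, hψ, ← Category.assoc, hσ₀, hσ,
      ← hU.fromSpecStalk_eq_fromSpecStalk hsU]
    rfl
  -- ring-level spreading out
  letI : Algebra Γ(S, U) Γ(V, V₀) := (g.appLE U V₀ i).hom.toAlgebra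
  letI : Algebra Γ(S, U) (S.presheaf.stalk s) :=
    TopCat.Presheaf.algebra_section_stalk S.presheaf (⟨s, hsU⟩ : U)
  haveI : Algebra.FinitePresentation Γ(S, U) Γ(V, V₀) := g.finitePresentation_appLE hU hV₀ i
  haveI : IsLocalization.AtPrime (S.presheaf.stalk s) (hU.primeIdealOf ⟨s, hsU⟩).asIdeal :=
    hU.isLocalization_stalk ⟨s, hsU⟩
  let ψ' : Γ(V, V₀) →ₐ[Γ(S, U)] (S.presheaf.stalk s) :=
    { ψ.hom with
      commutes' := fun r => congrArg (fun t : Γ(S, U) ⟶ S.presheaf.stalk s => t.hom r) hcomp }
  obtain ⟨t, φ, χ, hχ⟩ := exists_away_factor (hU.primeIdealOf ⟨s, hsU⟩).asIdeal ψ'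
  let j₀ : Spec (CommRingCat.of (Localization.Away t)) ⟶ Spec Γ(S, U) :=
    Spec.map (CommRingCat.ofHom (algebraMap Γ(S, U) (Localization.Away t)))
  let φc : Γ(V, V₀) ⟶ CommRingCat.of (Localization.Away t) := CommRingCat.ofHom φ.toRingHom
  let χc : CommRingCat.of (Localization.Away t) ⟶ S.presheaf.stalk s := CommRingCat.ofHom χ.toRingHom
  have h1 : g.appLE U V₀ i ≫ φc = CommRingCat.ofHom (algebraMap Γ(S, U) (Localization.Away t)) := by
    ext r
    exact φ.commutes r
  have h2 : φc ≫ χc = ψ := by
    ext c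
    exact hχ c
  refine ⟨Spec (CommRingCat.of (Localization.Away t)), j₀ ≫ hU.fromSpec, inferInstance,
    Spec.map φc ≫ hV₀.fromSpec, ?_, ?_⟩
  · rw [Category.assoc, ← IsAffineOpen.SpecMap_appLE_fromSpec g hU hV₀ i, ← Category.assoc,
      ← Spec.map_comp, h1]
  · refine ⟨Spec.map χc (closedPoint (S.presheaf.stalk s)), ?_⟩
    have h3 : Spec.map χc ≫ Spec.map φc ≫ hV₀.fromSpec = σ := by
      rw [← Category.assoc, ← Spec.map_comp, h2, hψ, hσ₀]
    exact (Scheme.Hom.comp_apply _ _ _).symm.trans
      (congrArg (fun t : Spec (S.presheaf.stalk s) ⟶ V => t (closedPoint (S.presheaf.stalk s))) h3)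

/-- scheme-level statement: every point of an étale scheme over a scheme with strictly henselian local rings is
in the image of a local section defined on an open of the base. -/
theorem exists_opens_lift {S V : Scheme.{u}} (g : V ⟶ S) [Etale g] (v : V)
    (hS : ∀ s : S, EtCoh.IsStrictlyHenselianLocalRing (S.presheaf.stalk s)) :
    ∃ (U : S.Opens) (m : (U : Scheme.{u}) ⟶ V), m ≫ g = U.ι ∧ v ∈ Set.range m := by
  obtain ⟨σ, hσ, hσv⟩ := exists_stalk_section g v (g v) rfl (hS _)
  obtain ⟨W, j, hj, m, hm, hmem⟩ := exists_open_lift g (g v) σ hσ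
  refine ⟨j.opensRange, j.isoOpensRange.inv ≫ m, ?_, ?_⟩
  · rw [Category.assoc, hm, Scheme.Hom.isoOpensRange_inv_comp]
  · rw [hσv] at hmem
    obtain ⟨w, hw⟩ := hmem
    refine ⟨j.isoOpensRange.hom w, ?_⟩
    rw [← Scheme.Hom.comp_apply, Iso.hom_inv_id_assoc]
    exact hw

set_option backward.isDefEq.respectTransparency.types false in
/-- **Étale schemes over a scheme all of whose local rings are strictly henselian are covered by opens of the
base.** -/
theorem coveredByOpens (S : Scheme.{u})
    (hS : ∀ s : S, EtCoh.IsStrictlyHenselianLocalRing (S.presheaf.stalk s)) :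
    Groth.Agent.Lib.Seat1.ZarDense.CoveredByOpens S := by
  intro V v
  let g : V.left ⟶ S := V.hom
  haveI : Etale g := V.prop
  obtain ⟨U, m, hm, hmem⟩ := exists_opens_lift g v hS
  exact ⟨U, MorphismProperty.Over.homMk m hm, hmem⟩

end Groth.Agent.Lib.Seat1.ZarCover
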