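import Mathlib.AlgebraicGeometry.Scheme
import Mathlib.AlgebraicGeometry.AffineScheme
import Mathlib.FieldTheory.Finite.Basic
import Groth.Agent.Lib.Seat20FrobNat

set_option autoImplicit false
universe u

namespace Groth.Agent.Lib.Seat20.AbsFrob

open CategoryTheory CategoryTheory.Limits AlgebraicGeometry Opposite TopologicalSpace

variable (U : Scheme.{u}) (q : ℕ) (hq : q ≠ 0)
  (hadd : ∀ (V : U.Opens) (x y : Γ(U, V)), (x + y) ^ q = x ^ q + y ^ q)

/-- the `q`-th power ring endomorphism of the sections over an open -/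
def powHom (V : U.Opens) : Γ(U, V) →+* Γ(U, V) :=
  { powMonoidHom q with
    map_zero' := zero_pow hq
    map_add' := hadd V }

theorem powHom_apply (V : U.Opens) (s : Γ(U, V)) : powHom U q hq hadd V s = s ^ q := rfl

/-- the morphism of presheafed spaces underlying the Frobenius -/
def frobPHom : U.toPresheafedSpace.Hom U.toPresheafedSpace where
  base := 𝟙 _
  c :=
    { app := fun V => CommRingCat.ofHom (powHom U q hq hadd V.unop)
      naturality := by
        intro V W f
        ext s
        exact (map_pow (U.presheaf.map f).hom s q).symm }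

end Groth.Agent.Lib.Seat20.AbsFrob

namespace Groth.Agent.Lib.Seat20.AbsFrob

open CategoryTheory CategoryTheory.Limits AlgebraicGeometry Opposite TopologicalSpace

variable (U : Scheme.{u}) (q : ℕ) (hq : q ≠ 0)
  (hadd : ∀ (V : U.Opens) (x y : Γ(U, V)), (x + y) ^ q = x ^ q + y ^ q)

theorem stalkMap_frobPHom (x : U) (t : U.presheaf.stalk x) :
    ((frobPHom U q hq hadd).stalkMap x).hom t = t ^ q := by
  obtain ⟨V, hxV, s, rfl⟩ := U.presheaf.exists_germ_eq t
  have h := PresheafedSpace.stalkMap_germ (X := U.toPresheafedSpace) (Y := U.toPresheafedSpace)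
    (frobPHom U q hq hadd) V x hxV
  have h2 := ConcreteCategory.congr_hom h s
  rw [CommRingCat.comp_apply, CommRingCat.comp_apply] at h2
  refine h2.trans ?_
  exact map_pow (U.presheaf.germ V x hxV).hom s q

/-- the absolute `q`-Frobenius endomorphism of `U` -/
def frob : U ⟶ U :=
  { toHom := frobPHom U q hq hadd
    prop := fun x => ⟨fun t ht => by
      have h : ((frobPHom U q hq hadd).stalkMap x).hom t = (show U.presheaf.stalk x from t) ^ q :=
        stalkMap_frobPHom U q hq hadd x t
      have ht' : IsUnit ((show U.presheaf.stalk x from t) ^ q) := h ▸ ht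
      exact (isUnit_pow_iff hq).1 ht'⟩ }

theorem isFrob_frob : FrobNat.IsFrob q (frob U q hq hadd) where
  base _ := rfl
  opens _ := rfl
  app V s := by
    change s ^ q = U.presheaf.map (𝟙 _) (s ^ q)
    rw [U.presheaf.map_id]
    rfl

end Groth.Agent.Lib.Seat20.AbsFrob

namespace Groth.Agent.Lib.Seat20.AbsFrob

open CategoryTheory CategoryTheory.Limits AlgebraicGeometry Opposite TopologicalSpace

theorem frob_spec (A : CommRingCat.{u}) (q : ℕ) (hq : q ≠ 0)
    (hadd : ∀ (V : (Spec A).Opens) (x y : Γ(Spec A, V)), (x + y) ^ q = x ^ q + y ^ q)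
    (ψ : A ⟶ A) (hψ : ∀ a : A, ψ.hom a = a ^ q) :
    frob (Spec A) q hq hadd = Spec.map ψ := by
  apply ext_of_isAffine
  apply (cancel_mono (Scheme.ΓSpecIso A).hom).1
  rw [Scheme.ΓSpecIso_naturality]
  ext s
  rw [CommRingCat.comp_apply, CommRingCat.comp_apply, hψ]
  change (Scheme.ΓSpecIso A).hom.hom (s ^ q) = _
  exact map_pow _ _ _

/-- additivity of the `q`-th power in a ring receiving a map from a finite field with `q` elements -/
theorem add_pow_card_of_ringHom (k : Type*) [Field k] [Fintype k] {A : Type*} [CommRing A] (ρ : k →+* A)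
    (x y : A) : (x + y) ^ Fintype.card k = x ^ Fintype.card k + y ^ Fintype.card k := by
  let _ := ρ.toAlgebra
  exact map_add (FiniteField.frobeniusAlgHom k A) x y

section overField

variable {k : Type u} [Field k] [Fintype k] {U : Scheme.{u}} (s : U ⟶ Spec (CommRingCat.of k))

include s in
theorem hadd_of (V : U.Opens) (x y : Γ(U, V)) :
    (x + y) ^ Fintype.card k = x ^ Fintype.card k + y ^ Fintype.card k :=
  add_pow_card_of_ringHom k
    ((Scheme.ΓSpecIso (CommRingCat.of k)).inv ≫ s.appTop ≫ U.presheaf.map (homOfLE le_top).op).hom x y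

/-- the absolute `#k`-Frobenius of a `k`-scheme -/
noncomputable def frobK : U ⟶ U :=
  frob U (Fintype.card k) Fintype.card_ne_zero (hadd_of s)

theorem isFrob_frobK : FrobNat.IsFrob (Fintype.card k) (frobK s) := isFrob_frob _ _ _ _

/-- naturality of the absolute Frobenius -/
theorem frobK_natural {V : Scheme.{u}} (t : V ⟶ Spec (CommRingCat.of k)) (f : U ⟶ V) :
    frobK s ≫ f = f ≫ frobK t :=
  FrobNat.frob_natural _ _ _ (isFrob_frobK s) (isFrob_frobK t) f

theorem frobK_spec (A : CommRingCat.{u}) (s : Spec A ⟶ Spec (CommRingCat.of k)) (ψ : A ⟶ A)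
    (hψ : ∀ a : A, ψ.hom a = a ^ Fintype.card k) : frobK s = Spec.map ψ :=
  frob_spec A _ _ _ ψ hψ

end overField

end Groth.Agent.Lib.Seat20.AbsFrob
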