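import Mathlib

/-!
# Seat20: analytic core for "etale morphisms are local homeomorphisms on complex points"

* `polyOf d c`: the monic polynomial `X^d + ∑ c_i X^i` over `ℂ`; `F d (c, t)` its value at `t`.
* `exists_oph`: at a simple root `(c₀, t₀)` the map `(c, t) ↦ (F (c, t), c)` is a local homeomorphism
  (inverse function theorem).
* `exists_oph_of_embedding`: topological gluing lemma: if `Q` embeds into `P × ℂ` as the locus
  `{(p, t) ∈ O | F (c p, t) = 0}` and `(c, t) ↦ (F (c, t), c)` is a local homeomorphism near the image of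
  `q₀`, then the projection `Q → P` is a local homeomorphism near `q₀`.
-/

set_option autoImplicit false

open Polynomial Topology Set

namespace Groth.Agent.Lib.Seat20.AnIFT

/-- the monic polynomial with lower coefficients `c` -/
noncomputable def polyOf (d : ℕ) (c : Fin d → ℂ) : ℂ[X] := X ^ d + ∑ i : Fin d, C (c i) * X ^ (i : ℕ)

/-- the universal monic polynomial of degree `d` as a function of coefficients and variable -/
noncomputable def F (d : ℕ) (v : (Fin d → ℂ) × ℂ) : ℂ := (polyOf d v.1).eval v.2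

lemma F_apply (d : ℕ) (v : (Fin d → ℂ) × ℂ) :
    F d v = v.2 ^ d + ∑ i : Fin d, v.1 i * v.2 ^ (i : ℕ) := by
  simp [F, polyOf, eval_finsetSum]

lemma contDiff_F (d : ℕ) : ContDiff ℂ ⊤ (F d) := by
  have : F d = fun v : (Fin d → ℂ) × ℂ => v.2 ^ d + ∑ i : Fin d, v.1 i * v.2 ^ (i : ℕ) := by
    funext v; exact F_apply d v
  rw [this]
  refine (contDiff_snd.pow d).add (ContDiff.sum fun i _ => ?_)
  exact ((contDiff_apply ℂ ℂ i).comp contDiff_fst).mul (contDiff_snd.pow _)

lemma hasStrictFDerivAt_F (d : ℕ) (u : (Fin d → ℂ) × ℂ) :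
    HasStrictFDerivAt (F d) (fderiv ℂ (F d) u) u :=
  (contDiff_F d).contDiffAt.hasStrictFDerivAt (by simp)

lemma fderiv_F_inr (d : ℕ) (c₀ : Fin d → ℂ) (t₀ : ℂ) :
    (fderiv ℂ (F d) (c₀, t₀)).comp (ContinuousLinearMap.inr ℂ (Fin d → ℂ) ℂ) =
      ContinuousLinearMap.toSpanSingleton ℂ ((polyOf d c₀).derivative.eval t₀) := by
  have h1 : HasFDerivAt (fun s : ℂ => F d (c₀, s))
      ((fderiv ℂ (F d) (c₀, t₀)).comp (ContinuousLinearMap.inr ℂ (Fin d → ℂ) ℂ)) t₀ :=
    HasFDerivAt.comp t₀ (hasStrictFDerivAt_F d (c₀, t₀)).hasFDerivAt (hasFDerivAt_prodMk_right c₀ t₀)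
  have h2 : HasDerivAt (fun s : ℂ => F d (c₀, s)) ((polyOf d c₀).derivative.eval t₀) t₀ :=
    (polyOf d c₀).hasDerivAt t₀
  exact h1.unique h2.hasFDerivAt

/-- inverse function theorem at a simple root of the universal monic polynomial -/
theorem exists_oph (d : ℕ) (c₀ : Fin d → ℂ) (t₀ : ℂ) (h : (polyOf d c₀).derivative.eval t₀ ≠ 0) :
    ∃ e : OpenPartialHomeomorph ((Fin d → ℂ) × ℂ) (ℂ × (Fin d → ℂ)),
      (c₀, t₀) ∈ e.source ∧ ∀ v, e v = (F d v, v.1) := by
  have hinv : ((fderiv ℂ (F d) (c₀, t₀)).comp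
      (ContinuousLinearMap.inr ℂ (Fin d → ℂ) ℂ)).IsInvertible := by
    rw [fderiv_F_inr]
    refine ⟨ContinuousLinearEquiv.unitsEquivAut ℂ (Units.mk0 _ h), ?_⟩
    ext
    simp
  let φ := (hasStrictFDerivAt_F d (c₀, t₀)).implicitFunctionDataOfProdDomain hinv
  refine ⟨φ.toOpenPartialHomeomorph, φ.pt_mem_toOpenPartialHomeomorph_source, fun v => ?_⟩
  rw [φ.toOpenPartialHomeomorph_coe, φ.prodFun_apply]
  rfl

section glue

variable {P Q E : Type*} [TopologicalSpace P] [TopologicalSpace Q] [TopologicalSpace E]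

/-- gluing lemma: see the module docstring -/
theorem exists_oph_of_embedding (π : Q → P) (τ : Q → ℂ) (c : P → E) (G : E × ℂ → ℂ)
    (O : Set (P × ℂ)) (hι : IsInducing (fun q => (π q, τ q)))
    (hinj : Function.Injective (fun q => (π q, τ q))) (hc : Continuous c) (hO : IsOpen O)
    (hrange : ∀ p t, (∃ q, π q = p ∧ τ q = t) ↔ ((p, t) ∈ O ∧ G (c p, t) = 0))
    (q₀ : Q) (e : OpenPartialHomeomorph (E × ℂ) (ℂ × E)) (he₀ : (c (π q₀), τ q₀) ∈ e.source)
    (he : ∀ v, e v = (G v, v.1)) :
    ∃ e' : OpenPartialHomeomorph Q P, q₀ ∈ e'.source ∧ ∀ q, e' q = π q := by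
  classical
  have hπτ : Continuous (fun q => (π q, τ q)) := hι.continuous
  have hπ : Continuous π := continuous_fst.comp hπτ
  have hτ : Continuous τ := continuous_snd.comp hπτ
  -- source and target
  let U : Set Q := {q | (c (π q), τ q) ∈ e.source}
  let V : Set P := {p | (0, c p) ∈ e.target ∧ (p, (e.symm (0, c p)).2) ∈ O}
  -- facts about points of `V`
  have factV : ∀ p ∈ V, e.symm (0, c p) = (c p, (e.symm (0, c p)).2) ∧
      G (c p, (e.symm (0, c p)).2) = 0 := by
    intro p hp
    have h1 : e (e.symm (0, c p)) = (0, c p) := e.right_inv hp.1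
    rw [he] at h1
    have h2 : (e.symm (0, c p)).1 = c p := congrArg Prod.snd h1
    have h3 : G (e.symm (0, c p)) = 0 := congrArg Prod.fst h1
    have h4 : e.symm (0, c p) = (c p, (e.symm (0, c p)).2) := Prod.ext h2 rfl
    exact ⟨h4, by rw [← h4]; exact h3⟩
  have exV : ∀ p ∈ V, ∃ q, π q = p ∧ τ q = (e.symm (0, c p)).2 := fun p hp =>
    (hrange p _).2 ⟨hp.2, (factV p hp).2⟩
  -- facts about points of `U`
  have factU : ∀ q ∈ U, e (c (π q), τ q) = (0, c (π q)) := by
    intro q _
    rw [he]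
    exact Prod.ext ((hrange (π q) (τ q)).1 ⟨q, rfl, rfl⟩).2 rfl
  have symmU : ∀ q ∈ U, e.symm (0, c (π q)) = (c (π q), τ q) := by
    intro q hq
    rw [← factU q hq]
    exact e.left_inv hq
  let σ : P → Q := fun p =>
    if h : ∃ q, π q = p ∧ τ q = (e.symm (0, c p)).2 then h.choose else q₀
  have σ_spec : ∀ p ∈ V, π (σ p) = p ∧ τ (σ p) = (e.symm (0, c p)).2 := by
    intro p hp
    have h := exV p hp
    simp only [σ, dif_pos h]
    exact h.choose_spec
  have hUV : ∀ q ∈ U, π q ∈ V := by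
    intro q hq
    refine ⟨?_, ?_⟩
    · rw [← factU q hq]; exact e.map_source hq
    · rw [symmU q hq]
      exact ((hrange (π q) (τ q)).1 ⟨q, rfl, rfl⟩).1
  have hVU : ∀ p ∈ V, σ p ∈ U := by
    intro p hp
    obtain ⟨h1, h2⟩ := σ_spec p hp
    change (c (π (σ p)), τ (σ p)) ∈ e.source
    rw [h1, h2, ← (factV p hp).1]
    exact e.map_target hp.1
  have hleft : ∀ q ∈ U, σ (π q) = q := by
    intro q hq
    obtain ⟨h1, h2⟩ := σ_spec (π q) (hUV q hq)
    apply hinj
    change (π (σ (π q)), τ (σ (π q))) = (π q, τ q)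
    rw [h1, h2, symmU q hq]
  have hUo : IsOpen U := e.open_source.preimage ((hc.comp hπ).prodMk hτ)
  have h0c : Continuous (fun p : P => ((0 : ℂ), c p)) := continuous_const.prodMk hc
  have hV₁o : IsOpen {p : P | ((0 : ℂ), c p) ∈ e.target} := e.open_target.preimage h0c
  have hcont : ContinuousOn (fun p : P => (p, (e.symm (0, c p)).2)) {p : P | ((0 : ℂ), c p) ∈ e.target} := by
    refine continuousOn_id.prodMk (continuous_snd.comp_continuousOn ?_)
    exact e.continuousOn_symm.comp h0c.continuousOn (fun p hp => hp)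
  have hVo : IsOpen V := hcont.isOpen_inter_preimage hV₁o hO
  refine ⟨{ toFun := π
            invFun := σ
            source := U
            target := V
            map_source' := hUV
            map_target' := hVU
            left_inv' := hleft
            right_inv' := fun p hp => (σ_spec p hp).1
            open_source := hUo
            open_target := hVo
            continuousOn_toFun := hπ.continuousOn
            continuousOn_invFun := ?_ }, he₀, fun q => rfl⟩
  rw [hι.continuousOn_iff]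
  refine (hcont.mono (fun p hp => hp.1)).congr ?_
  intro p hp
  obtain ⟨h1, h2⟩ := σ_spec p hp
  exact Prod.ext h1 h2

end glue

end Groth.Agent.Lib.Seat20.AnIFT
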