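import Mathlib
import Groth.Agent.Lib.Helper6AnFib
import Groth.Agent.Lib.Seat20AnIFT

/-!
# Seat20: a standard etale morphism of affine `ℂ`-schemes is a local homeomorphism on `ℂ`-points

`isLocalHomeomorph_of_standardEtale`: `X`, `Y` affine over `ℂ`, `g : X ⟶ Y` over `ℂ`; if (up to ring
isomorphisms `eR : R ≃+* Γ(Y, ⊤)`, `eS : S ≃+* Γ(X, ⊤)` compatible with `g`) the `R`-algebra `S` has a
standard etale presentation, then `Pts.map g` is a local homeomorphism.
-/

set_option autoImplicit false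

open AlgebraicGeometry CategoryTheory TopologicalSpace Opposite An Topology Polynomial

namespace Groth.Agent.Lib.Seat20.AnStdEt

open Groth.Agent.Lib.Helper6 Groth.Agent.Lib.Seat20.AnIFT

variable {X Y : Scheme.{0}} [X.Over SC] [Y.Over SC]
  (g : X ⟶ Y) [g.IsOver SC] {R S : Type} [CommRing R] [CommRing S] [Algebra R S]
  (eR : R ≃+* Γ(Y, ⊤)) (eS : S ≃+* Γ(X, ⊤))

/-- evaluation of elements of `R` at a point of `Y` -/
noncomputable def ψ (y : Pts Y) : R →+* ℂ := (evHom y ⊤ (Opens.mem_top _)).comp eR.toRingHom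

/-- evaluation of elements of `S` at a point of `X` -/
noncomputable def φ (x : Pts X) : S →+* ℂ := (evHom x ⊤ (Opens.mem_top _)).comp eS.toRingHom

lemma ψ_apply (y : Pts Y) (r : R) : ψ eR y r = y.evTop (eR r) := rfl

lemma φ_apply (x : Pts X) (s : S) : φ eS x s = x.evTop (eS s) := rfl

variable (comm : ∀ r, g.appTop.hom (eR r) = eS (algebraMap R S r))

include comm in
lemma φ_algebraMap (x : Pts X) (r : R) : φ eS x (algebraMap R S r) = ψ eR (Pts.map g x) r := by
  rw [φ_apply, ψ_apply, ← comm, evTop_map]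

include comm in
lemma φ_comp_algebraMap (x : Pts X) : (φ eS x).comp (algebraMap R S) = ψ eR (Pts.map g x) :=
  RingHom.ext (φ_algebraMap g eR eS comm x)

/-- evaluation of a polynomial over `R` at a point of `Y` and a complex number -/
noncomputable def pev (p : R[X]) (q : Pts Y × ℂ) : ℂ := eval₂ (ψ eR q.1) q.2 p

lemma continuous_pev (p : R[X]) : Continuous (pev eR p) := by
  unfold pev
  simp only [eval₂_eq_sum, Polynomial.sum]
  refine continuous_finsetSum _ (fun i _ => ?_)
  refine Continuous.mul ?_ (continuous_snd.pow i)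
  exact ((continuous_apply (eR (p.coeff i))).comp continuous_evAll).comp continuous_fst

variable (Pr : StandardEtalePresentation R S)

/-- the coordinate function -/
noncomputable def τ (x : Pts X) : ℂ := φ eS x Pr.x

/-- the embedding into `Y(ℂ) × ℂ` -/
noncomputable def Φ (x : Pts X) : Pts Y × ℂ := (Pts.map g x, τ eS Pr x)

include comm in
lemma φ_aeval (x : Pts X) (p : R[X]) : φ eS x (aeval Pr.x p) = pev eR p (Φ g eS Pr x) := by
  rw [aeval_def, hom_eval₂, φ_comp_algebraMap g eR eS comm]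
  rfl

include comm in
lemma pev_g_ne_zero (x : Pts X) : pev eR Pr.g (Φ g eS Pr x) ≠ 0 := by
  rw [← φ_aeval g eR eS comm Pr]
  exact (Pr.hasMap.2.map (φ eS x)).ne_zero

include comm in
lemma pev_f_eq_zero (x : Pts X) : pev eR Pr.f (Φ g eS Pr x) = 0 := by
  rw [← φ_aeval g eR eS comm Pr, Pr.hasMap.1, map_zero]

include comm in
lemma pev_derivative_ne_zero (x : Pts X) : pev eR (derivative Pr.f) (Φ g eS Pr x) ≠ 0 := by
  rw [← φ_aeval g eR eS comm Pr]
  exact (Pr.hasMap.isUnit_derivative_f.map (φ eS x)).ne_zero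

include comm in
/-- every global function on `X` is a rational function of the coordinates -/
lemma exists_formula (γ : Γ(X, ⊤)) : ∃ (p : R[X]) (n : ℕ), ∀ x : Pts X,
    x.evTop γ = pev eR p (Φ g eS Pr x) / (pev eR Pr.g (Φ g eS Pr x)) ^ n := by
  obtain ⟨p, n, hp⟩ := Pr.exists_mul_aeval_x_g_pow_eq_aeval_x (eS.symm γ)
  refine ⟨p, n, fun x => ?_⟩
  have h := congrArg (φ eS x) hp
  rw [map_mul, map_pow, φ_aeval g eR eS comm Pr, φ_aeval g eR eS comm Pr, φ_apply,
    RingEquiv.apply_symm_apply] at h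
  rw [eq_div_iff (pow_ne_zero n (pev_g_ne_zero g eR eS comm Pr x))]
  exact h

lemma continuous_Φ : Continuous (Φ g eS Pr) :=
  (Pts.continuous_map g).prodMk ((continuous_apply (eS Pr.x)).comp continuous_evAll)

include comm in
lemma injective_Φ [IsAffine X] : Function.Injective (Φ g eS Pr) := by
  intro x x' h
  apply ext_of_evTop
  intro γ
  obtain ⟨p, n, hp⟩ := exists_formula g eR eS comm Pr γ
  rw [hp x, hp x', h]

include comm in
lemma isInducing_Φ [IsAffine X] : IsInducing (Φ g eS Pr) := by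
  let O' : Type := {q : Pts Y × ℂ // pev eR Pr.g q ≠ 0}
  let Φ' : Pts X → O' := fun x => ⟨Φ g eS Pr x, pev_g_ne_zero g eR eS comm Pr x⟩
  have hΦ'c : Continuous Φ' := (continuous_Φ g eS Pr).subtype_mk _
  choose p n hpn using exists_formula g eR eS comm Pr
  let G : O' → Γ(X, ⊤) → ℂ := fun q γ => pev eR (p γ) q.1 / (pev eR Pr.g q.1) ^ (n γ)
  have hG : Continuous G := by
    refine continuous_pi (fun γ => ?_)
    refine Continuous.div ((continuous_pev eR (p γ)).comp continuous_subtype_val)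
      (((continuous_pev eR Pr.g).comp continuous_subtype_val).pow _) ?_
    intro q
    exact pow_ne_zero _ q.2
  have hcomp : G ∘ Φ' = evAll := by
    funext x γ
    exact (hpn γ x).symm
  have h1 : IsInducing Φ' := by
    apply IsInducing.of_comp hΦ'c hG
    rw [hcomp]
    exact isInducing_evAll
  exact IsInducing.subtypeVal.comp h1

/-- the coefficient map -/
noncomputable def coeffMap (y : Pts Y) : Fin Pr.f.natDegree → ℂ := fun i => ψ eR y (Pr.f.coeff i)

lemma continuous_coeffMap : Continuous (coeffMap eR Pr) := by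
  refine continuous_pi (fun i => ?_)
  exact (continuous_apply (eR (Pr.f.coeff i))).comp continuous_evAll

lemma map_f (y : Pts Y) : Pr.f.map (ψ eR y) = polyOf Pr.f.natDegree (coeffMap eR Pr y) := by
  conv_lhs => rw [Pr.monic_f.as_sum]
  simp [polyOf, coeffMap, Polynomial.map_sum, Finset.sum_range]

lemma pev_f (q : Pts Y × ℂ) : pev eR Pr.f q = F Pr.f.natDegree (coeffMap eR Pr q.1, q.2) := by
  unfold pev F
  rw [eval₂_eq_eval_map, map_f]

lemma pev_derivative_f (q : Pts Y × ℂ) :
    pev eR (derivative Pr.f) q = (polyOf Pr.f.natDegree (coeffMap eR Pr q.1)).derivative.eval q.2 := by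
  unfold pev
  rw [eval₂_eq_eval_map, ← derivative_map, map_f]

include comm in
lemma strHom_eq (c : ℂ) : strHom X c = eS (algebraMap R S (eR.symm (strHom Y c))) := by
  rw [← comm, RingEquiv.apply_symm_apply]
  unfold strHom
  have h : g ≫ (Y ↘ SC) = X ↘ SC := comp_over g SC
  rw [← h, Scheme.Hom.comp_appTop]
  rfl

include comm in
/-- the range of `Φ` -/
lemma range_Φ [IsAffine X] [IsAffine Y] (y : Pts Y) (t : ℂ) :
    (∃ x, Pts.map g x = y ∧ τ eS Pr x = t) ↔
      ((y, t) ∈ {q : Pts Y × ℂ | pev eR Pr.g q ≠ 0} ∧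
        F Pr.f.natDegree (coeffMap eR Pr y, t) = 0) := by
  constructor
  · rintro ⟨x, rfl, rfl⟩
    exact ⟨pev_g_ne_zero g eR eS comm Pr x,
      by rw [← pev_f eR Pr (Pts.map g x, τ eS Pr x)]; exact pev_f_eq_zero g eR eS comm Pr x⟩
  · rintro ⟨h1, h2⟩
    rw [← pev_f eR Pr (y, t)] at h2
    let _ : Algebra R ℂ := (ψ eR y).toAlgebra
    have hmap : Pr.HasMap t := by
      refine ⟨?_, ?_⟩
      · rw [aeval_def]; exact h2
      · rw [aeval_def]; exact isUnit_iff_ne_zero.2 h1
    let φ₀ : S →ₐ[R] ℂ := (Pr.lift t hmap).comp Pr.equivRing.toAlgHom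
    have hφ₀x : φ₀ Pr.x = t := by
      change Pr.lift t hmap (Pr.equivRing Pr.x) = t
      rw [Pr.equivRing_x, Pr.lift_X]
    have hφ₀alg : ∀ r : R, φ₀ (algebraMap R S r) = y.evTop (eR r) := fun r => φ₀.commutes r
    let ρ : Γ(X, ⊤) →+* ℂ := φ₀.toRingHom.comp eS.symm.toRingHom
    have hρ : ∀ c, ρ (strHom X c) = c := by
      intro c
      rw [strHom_eq g eR eS comm c]
      change φ₀ (eS.symm (eS _)) = c
      rw [RingEquiv.symm_apply_apply, hφ₀alg, RingEquiv.apply_symm_apply, evTop_strHom]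
    refine ⟨ptOfRingHom ρ hρ, ?_, ?_⟩
    · apply ext_of_evTop
      intro a
      rw [evTop_map, evTop_ptOfRingHom]
      obtain ⟨r, rfl⟩ := eR.surjective a
      change φ₀ (eS.symm (g.appTop.hom (eR r))) = _
      rw [comm, RingEquiv.symm_apply_apply, hφ₀alg]
    · change (ptOfRingHom ρ hρ).evTop (eS Pr.x) = t
      rw [evTop_ptOfRingHom]
      change φ₀ (eS.symm (eS Pr.x)) = t
      rw [RingEquiv.symm_apply_apply, hφ₀x]

include comm Pr in
/-- **Main result**: a standard etale morphism of affine `ℂ`-schemes induces a local homeomorphism on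
`ℂ`-points. -/
theorem isLocalHomeomorph_of_standardEtale [IsAffine X] [IsAffine Y] :
    IsLocalHomeomorph (Pts.map g) := by
  refine IsLocalHomeomorph.mk _ (fun x₀ => ?_)
  have hsimple : (polyOf Pr.f.natDegree (coeffMap eR Pr (Pts.map g x₀))).derivative.eval
      (τ eS Pr x₀) ≠ 0 := by
    rw [← pev_derivative_f eR Pr (Pts.map g x₀, τ eS Pr x₀)]
    exact pev_derivative_ne_zero g eR eS comm Pr x₀
  obtain ⟨e, he₀, he⟩ := exists_oph Pr.f.natDegree (coeffMap eR Pr (Pts.map g x₀)) (τ eS Pr x₀) hsimple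
  obtain ⟨e', h1, h2⟩ := exists_oph_of_embedding (Pts.map g) (τ eS Pr) (coeffMap eR Pr)
    (F Pr.f.natDegree) {q : Pts Y × ℂ | pev eR Pr.g q ≠ 0}
    (isInducing_Φ g eR eS comm Pr) (injective_Φ g eR eS comm Pr) (continuous_coeffMap eR Pr)
    (isOpen_ne_fun (continuous_pev eR Pr.g) continuous_const)
    (range_Φ g eR eS comm Pr) x₀ e he₀ he
  exact ⟨e', h1, fun q _ => (h2 q).symm⟩

end Groth.Agent.Lib.Seat20.AnStdEt
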