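import Mathlib
import Groth.Prelude.Def_AnEps
import Groth.Agent.Lib.Helper6AnFib
import Groth.Agent.Lib.Seat20AnStdEt

/-!
# Seat20: etale morphisms of `ℂ`-schemes are local homeomorphisms on `ℂ`-points

* `exists_standardEtale_nhds`: an etale morphism is, near every `ℂ`-point, standard etale between affine opens.
* `isLocalHomeomorph_pts_of_etale`, `etaleLH : An.EtaleLH`.
-/

set_option autoImplicit false
set_option linter.style.haveILetI false
set_option linter.unusedSectionVars false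

open AlgebraicGeometry CategoryTheory TopologicalSpace Opposite An Topology

namespace Groth.Agent.Lib.Seat20.AnEtaleLH

open Groth.Agent.Lib.Helper6 Groth.Agent.Lib.Seat20.AnStdEt

variable {X Y : Scheme.{0}} [X.Over SC] [Y.Over SC] (g : X ⟶ Y) [g.IsOver SC]

/-- local structure of etale morphisms at a `ℂ`-point -/
theorem exists_standardEtale_nhds [Etale g] (x : Pts X) :
    ∃ (V : Y.Opens) (U' : X.Opens) (_ : IsAffineOpen V) (_ : IsAffineOpen U') (e : U' ≤ g ⁻¹ᵁ V),
      x.pt ∈ U' ∧ Nonempty (@StandardEtalePresentation Γ(Y, V) Γ(X, U') _ _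
        (g.appLE V U' e).hom.toAlgebra) := by
  obtain ⟨_, ⟨V, hV, rfl⟩, hxV, -⟩ :=
    Y.isBasis_affineOpens.exists_subset_of_mem_open (Set.mem_univ (g x.pt)) isOpen_univ
  have hxV' : x.pt ∈ g ⁻¹ᵁ V := hxV
  obtain ⟨_, ⟨U, hU, rfl⟩, hxU, hUV⟩ :=
    X.isBasis_affineOpens.exists_subset_of_mem_open hxV' (g ⁻¹ᵁ V).2
  have hUV' : U ≤ g ⁻¹ᵁ V := hUV
  have het : (g.appLE V U hUV').hom.Etale := Etale.etale_appLE g hV hU hUV'
  algebraize [(g.appLE V U hUV').hom]
  let Q : Ideal Γ(X, U) := RingHom.ker (evHom x U hxU)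
  haveI : Q.IsPrime := RingHom.ker_isPrime _
  haveI : Algebra.FinitePresentation Γ(Y, V) Γ(X, U) := Algebra.Etale.finitePresentation
  haveI : Algebra.IsEtaleAt Γ(Y, V) Q :=
    Algebra.FormallyEtale.comp Γ(Y, V) Γ(X, U) (Localization.AtPrime Q)
  obtain ⟨f, hfQ, hstd⟩ := Algebra.IsEtaleAt.exists_isStandardEtale (R := Γ(Y, V)) Q
  have e' : X.basicOpen f ≤ g ⁻¹ᵁ V := (X.basicOpen_le f).trans hUV'
  refine ⟨V, X.basicOpen f, hV, hU.basicOpen f, e', ?_, ?_⟩
  · rw [mem_basicOpen_iff x U hxU f]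
    intro h
    exact hfQ ((RingHom.mem_ker).2 (by rw [evHom_apply]; exact h))
  · letI : Algebra Γ(Y, V) Γ(X, X.basicOpen f) := (g.appLE V (X.basicOpen f) e').hom.toAlgebra
    haveI : IsScalarTower Γ(Y, V) Γ(X, U) Γ(X, X.basicOpen f) := by
      apply IsScalarTower.of_algebraMap_eq'
      simp only [RingHom.algebraMap_toAlgebra]
      rw [← CommRingCat.hom_comp, Scheme.Hom.appLE_map]
    haveI : IsLocalization.Away f Γ(X, X.basicOpen f) := hU.isLocalization_basicOpen f
    let e₁ : Localization.Away f ≃ₐ[Γ(X, U)] Γ(X, X.basicOpen f) :=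
      IsLocalization.algEquiv (.powers f) _ _
    have : Algebra.IsStandardEtale Γ(Y, V) Γ(X, X.basicOpen f) :=
      Algebra.IsStandardEtale.of_equiv (e₁.restrictScalars Γ(Y, V))
    exact this.nonempty_standardEtalePresentation

/-- **Etale morphisms over `ℂ` are local homeomorphisms on `ℂ`-points.** -/
theorem isLocalHomeomorph_pts_of_etale [Etale g] : IsLocalHomeomorph (Pts.map g) := by
  rw [isLocalHomeomorph_iff_isLocalHomeomorphOn_univ]
  intro x _
  obtain ⟨V, U', hV, hU', e, hxU', ⟨Pr⟩⟩ := exists_standardEtale_nhds g x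
  haveI : IsAffine V.toScheme := hV
  haveI : IsAffine U'.toScheme := hU'
  letI : Algebra Γ(Y, V) Γ(X, U') := (g.appLE V U' e).hom.toAlgebra
  let g' : U'.toScheme ⟶ V.toScheme := g.resLE V U' e
  have hcomm : g' ≫ V.ι = U'.ι ≫ g := Scheme.Hom.resLE_comp_ι _ _
  have hg' : IsLocalHomeomorph (Pts.map g') := by
    refine isLocalHomeomorph_of_standardEtale g' V.topIso.symm.commRingCatIsoToRingEquiv
      U'.topIso.symm.commRingCatIsoToRingEquiv ?_ Pr
    intro r
    change (g.resLE V U' e).appTop.hom (V.topIso.inv.hom r) = U'.topIso.inv.hom ((g.appLE V U' e).hom r)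
    have h := Scheme.Hom.resLE_app_top g e
    have h2 := congrArg (fun k => k.hom (V.topIso.inv.hom r)) h
    refine h2.trans ?_
    change U'.topIso.inv.hom ((g.appLE V U' e).hom (V.topIso.hom.hom (V.topIso.inv.hom r))) = _
    congr 2
    exact congrArg (fun k => k.hom r) V.topIso.inv_hom_id
  have hι₁ : IsLocalHomeomorph (Pts.map U'.ι) :=
    (isOpenEmbedding_map_of_isOpenImmersion U'.ι).isLocalHomeomorph
  have hι₂ : IsLocalHomeomorph (Pts.map V.ι) :=
    (isOpenEmbedding_map_of_isOpenImmersion V.ι).isLocalHomeomorph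
  have h1 : IsLocalHomeomorph (Pts.map g ∘ Pts.map U'.ι) := by
    have : Pts.map g ∘ Pts.map U'.ι = Pts.map V.ι ∘ Pts.map g' := by
      funext z
      apply Subtype.ext
      change (z.1 ≫ U'.ι) ≫ g = (z.1 ≫ g') ≫ V.ι
      rw [Category.assoc, Category.assoc, hcomm]
    rw [this]
    exact hι₂.comp hg'
  have h2 := IsLocalHomeomorphOn.of_comp_right (s := Set.univ) h1.isLocalHomeomorphOn hι₁.isLocalHomeomorphOn
  have hx : x ∈ Pts.map U'.ι '' Set.univ := by
    rw [Set.image_univ, range_map_of_isOpenImmersion]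
    simpa using hxU'
  exact h2 x hx

/-- the proposition `An.EtaleLH` of the prelude -/
theorem etaleLH : An.EtaleLH := fun _ _ _ _ _ g _ _ => isLocalHomeomorph_pts_of_etale g

end Groth.Agent.Lib.Seat20.AnEtaleLH
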