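import Mathlib
import Groth.Agent.Lib.Helper6AnFib
import Groth.Agent.Lib.Helper6AnAffine
import Groth.Agent.Lib.Helper6AnFT

/-!
# Seat20: integral (finite) morphisms of affine `ℂ`-schemes are proper maps on `ℂ`-points

* `norm_evTop_lt`: Cauchy bound for the value of an integral function.
* `t2Space_pts_of_isAffine`.
* `isProperMap_of_isIntegral`: `X` affine of finite type, `Y(ℂ)` Hausdorff, `Γ(Y) → Γ(X)` integral ⇒
  `X(ℂ) → Y(ℂ)` is a proper map.
-/

set_option autoImplicit false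
set_option linter.style.haveILetI false
set_option linter.unusedSectionVars false

open AlgebraicGeometry CategoryTheory TopologicalSpace Opposite An Topology Polynomial Filter

namespace Groth.Agent.Lib.Seat20.AnFinite

open Groth.Agent.Lib.Helper6

variable {X Y : Scheme.{0}} [X.Over SC] [Y.Over SC] (g : X ⟶ Y) [g.IsOver SC]

/-- the sum of the norms of the lower coefficients of `q` at a point of `Y` -/
noncomputable def coeffNorm (q : Γ(Y, ⊤)[X]) (y : Pts Y) : ℝ :=
  ∑ j ∈ Finset.range q.natDegree, ‖y.evTop (q.coeff j)‖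

lemma continuous_coeffNorm (q : Γ(Y, ⊤)[X]) : Continuous (coeffNorm q) := by
  unfold coeffNorm
  refine continuous_finsetSum _ (fun j _ => ?_)
  exact continuous_norm.comp ((continuous_apply (q.coeff j)).comp continuous_evAll)

/-- Cauchy bound: the value of a function integral over `Γ(Y)` is bounded by the coefficients. -/
lemma norm_evTop_lt (s : Γ(X, ⊤)) (q : Γ(Y, ⊤)[X]) (hq : q.Monic)
    (hq0 : eval₂ g.appTop.hom s q = 0) (x : Pts X) :
    ‖x.evTop s‖ < coeffNorm q (Pts.map g x) + 1 := by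
  set ψ : Γ(Y, ⊤) →+* ℂ := evHom (Pts.map g x) ⊤ (Opens.mem_top _) with hψ
  have hcomp : (evHom x ⊤ (Opens.mem_top _)).comp g.appTop.hom = ψ := by
    ext a
    exact (evTop_map g x a).symm
  have h0 : eval₂ ψ (x.evTop s) q = 0 := by
    have := congrArg (evHom x ⊤ (Opens.mem_top _)) hq0
    rw [hom_eval₂, hcomp, map_zero] at this
    exact this
  set p : ℂ[X] := q.map ψ with hp
  have hpm : p.Monic := hq.map ψ
  have hroot : p.IsRoot (x.evTop s) := by
    rw [IsRoot.def, hp, Polynomial.eval_map]; exact h0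
  have h1 := IsRoot.norm_lt_cauchyBound hpm.ne_zero hroot
  have hdeg : p.natDegree = q.natDegree := hq.natDegree_map ψ
  have h2 : cauchyBound p ≤ (∑ j ∈ Finset.range q.natDegree, ‖ψ (q.coeff j)‖₊) + 1 := by
    unfold cauchyBound
    rw [hpm.leadingCoeff, nnnorm_one, div_one, hdeg]
    gcongr
    refine Finset.sup_le (fun j hj => ?_)
    rw [hp, coeff_map]
    exact Finset.single_le_sum (f := fun j => ‖ψ (q.coeff j)‖₊) (fun _ _ => by positivity) hj
  have h3 := h1.trans_le h2
  have h4 : ((‖x.evTop s‖₊ : NNReal) : ℝ) <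
      (((∑ j ∈ Finset.range q.natDegree, ‖ψ (q.coeff j)‖₊) + 1 : NNReal) : ℝ) := by
    exact_mod_cast h3
  have h5 : ∀ a, ψ a = (Pts.map g x).evTop a := fun a => evHom_apply _ _ _ a
  simpa [coeffNorm, h5] using h4

/-- an eventually bounded complex function converges along an ultrafilter -/
lemma exists_tendsto_of_bounded {α : Type*} (𝒰 : Ultrafilter α) (t : α → ℂ) (M : ℝ)
    (h : ∀ᶠ a in 𝒰, ‖t a‖ ≤ M) : ∃ z : ℂ, Tendsto t 𝒰 (𝓝 z) := by
  have hc : IsCompact (Metric.closedBall (0 : ℂ) M) := isCompact_closedBall 0 M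
  obtain ⟨z, -, hz⟩ := hc.ultrafilter_le_nhds (𝒰.map t) (by
    rw [le_principal_iff]
    change t ⁻¹' _ ∈ (𝒰 : Filter α)
    filter_upwards [h] with a ha
    simpa using ha)
  exact ⟨z, hz⟩

lemma t2Space_pts_of_isAffine [IsAffine X] : T2Space (Pts X) := by
  have hemb : IsEmbedding (evAll : Pts X → Γ(X, ⊤) → ℂ) :=
    ⟨isInducing_evAll, fun x x' h => ext_of_evTop (fun f => congrFun h f)⟩
  exact hemb.t2Space

/-- integral morphisms to a Hausdorff target are proper on `ℂ`-points -/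
theorem isProperMap_of_isIntegral [IsAffine X] [LocallyOfFiniteType (X ↘ SC)] [T2Space (Pts Y)]
    (hint : g.appTop.hom.IsIntegral) : IsProperMap (Pts.map g) := by
  rw [isProperMap_iff_ultrafilter_of_t2]
  refine ⟨Pts.continuous_map g, fun 𝒰 y₀ h𝒰 => ?_⟩
  obtain ⟨n, s, hs⟩ := exists_generators (X := X)
  have hemb := isClosedEmbedding_of_generators n s hs
  have hcoord : ∀ i, ∃ z : ℂ, Tendsto (fun x : Pts X => x.evTop (s i)) 𝒰 (𝓝 z) := by
    intro i
    obtain ⟨q, hq, hq0⟩ := hint (s i)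
    refine exists_tendsto_of_bounded 𝒰 _ (coeffNorm q y₀ + 1 + 1) ?_
    have hev : ∀ᶠ x in (𝒰 : Filter (Pts X)), coeffNorm q (Pts.map g x) < coeffNorm q y₀ + 1 :=
      (((continuous_coeffNorm q).tendsto y₀).comp h𝒰).eventually (gt_mem_nhds (by linarith))
    filter_upwards [hev] with x hx
    have := norm_evTop_lt g (s i) q hq hq0 x
    linarith
  choose z hz using hcoord
  have hΦ : Tendsto (fun (x : Pts X) (i : Fin n) => x.evTop (s i)) 𝒰 (𝓝 z) := tendsto_pi_nhds.2 hz
  have hz_mem : z ∈ Set.range (fun (x : Pts X) (i : Fin n) => x.evTop (s i)) :=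
    hemb.isClosed_range.mem_of_tendsto hΦ (Eventually.of_forall fun x => ⟨x, rfl⟩)
  obtain ⟨x, rfl⟩ := hz_mem
  refine ⟨x, ?_⟩
  rw [hemb.isInducing.nhds_eq_comap]
  exact Filter.map_le_iff_le_comap.1 hΦ

end Groth.Agent.Lib.Seat20.AnFinite
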