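import Mathlib
import Groth.Prelude.Def_AnEps
import Groth.Agent.Lib.Seat20AnEtaleLH
import Groth.Agent.Lib.Seat20AnFinite

/-!
# Seat20: finite etale morphisms of `ℂ`-schemes are covering maps on `ℂ`-points

* `isCoveringMapOn_of_openEmbeddings`, `finite_fiber_of_openEmbeddings`: transport along open embeddings.
* `isCoveringMap_of_affine`: affine case (proper local homeomorphism between Hausdorff spaces).
* `isCoveringMap_pts_of_finite_etale`.
-/

set_option autoImplicit false
set_option linter.style.haveILetI false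
set_option linter.unusedSectionVars false

open AlgebraicGeometry CategoryTheory TopologicalSpace Opposite An Topology Filter

namespace Groth.Agent.Lib.Seat20.AnCover

open Groth.Agent.Lib.Helper6 Groth.Agent.Lib.Seat20.AnFinite Groth.Agent.Lib.Seat20.AnEtaleLH

section top

variable {E X E' X' : Type*} [TopologicalSpace E] [TopologicalSpace X] [TopologicalSpace E']
  [TopologicalSpace X'] (f : E → X) (f' : E' → X') (i : E' → E) (j : X' → X)

theorem isCoveringMapOn_of_openEmbeddings (hi : IsOpenEmbedding i) (hj : IsOpenEmbedding j)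
    (hcomm : ∀ e', f (i e') = j (f' e')) (hrange : Set.range i = f ⁻¹' Set.range j)
    (hf' : IsCoveringMap f') : IsCoveringMapOn f (Set.range j) := by
  have ho : IsOpen (f ⁻¹' Set.range j) := by rw [← hrange]; exact hi.isOpen_range
  refine IsCoveringMapOn.of_isCoveringMap_restrictPreimage (Set.range j) hj.isOpen_range ho ?_
  let b : X' ≃ₜ Set.range j := hj.toIsEmbedding.toHomeomorph
  let a : E' ≃ₜ f ⁻¹' Set.range j :=
    (hi.toIsEmbedding.toHomeomorph).trans (Homeomorph.setCongr hrange)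
  have h := (hf'.comp_homeomorph a.symm).homeomorph_comp b
  have heq : (Set.range j).restrictPreimage f = b ∘ (f' ∘ a.symm) := by
    funext e
    obtain ⟨e', rfl⟩ := a.surjective e
    apply Subtype.ext
    simp only [Function.comp_apply, Homeomorph.symm_apply_apply]
    exact hcomm e'
  rw [heq]
  exact h

theorem finite_fiber_of_openEmbeddings (hj : Function.Injective j)
    (hcomm : ∀ e', f (i e') = j (f' e')) (hrange : Set.range i = f ⁻¹' Set.range j)
    (hfin : ∀ y', (f' ⁻¹' {y'}).Finite) (y' : X') : (f ⁻¹' {j y'}).Finite := by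
  refine ((hfin y').image i).subset ?_
  intro e he
  have he' : e ∈ Set.range i := by
    rw [hrange]
    exact ⟨y', he.symm⟩
  obtain ⟨e', rfl⟩ := he'
  refine ⟨e', ?_, rfl⟩
  apply hj
  rw [← hcomm]
  exact he

end top

variable {X Y : Scheme.{0}} [X.Over SC] [Y.Over SC] (f : X ⟶ Y) [f.IsOver SC]

/-- affine case -/
theorem isCoveringMap_of_affine [IsAffine X] [IsAffine Y] [LocallyOfFiniteType (X ↘ SC)]
    [IsFinite f] [Etale f] :
    IsCoveringMap (Pts.map f) ∧ ∀ y : Pts Y, (Pts.map f ⁻¹' {y}).Finite := by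
  haveI : T2Space (Pts X) := t2Space_pts_of_isAffine
  haveI : T2Space (Pts Y) := t2Space_pts_of_isAffine
  have hlh : IsLocalHomeomorph (Pts.map f) := isLocalHomeomorph_pts_of_etale f
  have hint : f.appTop.hom.IsIntegral :=
    (IsFinite.finite_app (f := f) ⊤ (isAffineOpen_top Y)).to_isIntegral
  have hproper : IsProperMap (Pts.map f) := isProperMap_of_isIntegral f hint
  have hfin : ∀ y : Pts Y, (Pts.map f ⁻¹' {y}).Finite := by
    intro y
    refine (hproper.isCompact_preimage isCompact_singleton).finite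
      (IsDiscrete.of_openPartialHomeomorph (Pts.map f) (x := y) subset_rfl ?_)
    intro e _
    obtain ⟨φ, h1, h2⟩ := hlh e
    exact ⟨φ, h1, h2.symm⟩
  refine ⟨?_, hfin⟩
  rw [isCoveringMap_iff_isCoveringMapOn_univ]
  refine IsClosedMap.isCoveringMapOn_of_isLocalHomeomorphOn hproper.isClosedMap
    (fun y _ => hfin y) ?_
  exact hlh.isLocalHomeomorphOn.mono (Set.subset_univ _)

/-- **Finite etale morphisms over `ℂ` are finite covering maps on `ℂ`-points.** -/
theorem isCoveringMap_pts_of_finite_etale [LocallyOfFiniteType (X ↘ SC)] [IsFinite f] [Etale f] :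
    IsCoveringMap (Pts.map f) ∧ ∀ y : Pts Y, (Pts.map f ⁻¹' {y}).Finite := by
  have key : ∀ y : Pts Y, IsEvenlyCovered (Pts.map f) y (Pts.map f ⁻¹' {y}) ∧
      (Pts.map f ⁻¹' {y}).Finite := by
    intro y
    obtain ⟨_, ⟨(V : Y.Opens), hV : IsAffineOpen V, rfl⟩, hyV, -⟩ :=
      Y.isBasis_affineOpens.exists_subset_of_mem_open (Set.mem_univ y.pt) isOpen_univ
    have hU : IsAffineOpen (f ⁻¹ᵁ V) := hV.preimage f
    haveI : IsAffine V.toScheme := hV
    haveI : IsAffine (f ⁻¹ᵁ V).toScheme := hU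
    haveI : LocallyOfFiniteType ((f ⁻¹ᵁ V).toScheme ↘ SC) := by
      rw [← Scheme.Opens.ι_comp_over]; infer_instance
    let f' : (f ⁻¹ᵁ V).toScheme ⟶ V.toScheme := f.resLE V (f ⁻¹ᵁ V) le_rfl
    haveI : IsFinite f' := by
      have : f' = f ∣_ V := Scheme.Hom.resLE_eq_morphismRestrict f
      rw [this]; infer_instance
    have hcomm : f' ≫ V.ι = (f ⁻¹ᵁ V).ι ≫ f := Scheme.Hom.resLE_comp_ι _ _
    obtain ⟨hcov, hfin⟩ := isCoveringMap_of_affine f'
    have hi := isOpenEmbedding_map_of_isOpenImmersion (f ⁻¹ᵁ V).ι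
    have hj := isOpenEmbedding_map_of_isOpenImmersion V.ι
    have hcomm' : ∀ e', Pts.map f (Pts.map (f ⁻¹ᵁ V).ι e') = Pts.map V.ι (Pts.map f' e') := by
      intro z
      apply Subtype.ext
      change (z.1 ≫ (f ⁻¹ᵁ V).ι) ≫ f = (z.1 ≫ f') ≫ V.ι
      rw [Category.assoc, Category.assoc, hcomm]
    have hrange : Set.range (Pts.map (f ⁻¹ᵁ V).ι) = Pts.map f ⁻¹' Set.range (Pts.map V.ι) := by
      rw [range_map_of_isOpenImmersion, range_map_of_isOpenImmersion]
      ext x
      simp only [Set.mem_preimage, Pts.pt_map, Scheme.Opens.opensRange_ι]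
      rfl
    have hy : y ∈ Set.range (Pts.map V.ι) := by
      rw [range_map_of_isOpenImmersion]
      simpa using hyV
    obtain ⟨y', rfl⟩ := hy
    refine ⟨?_, finite_fiber_of_openEmbeddings _ _ _ _ hj.injective hcomm' hrange hfin y'⟩
    exact isCoveringMapOn_of_openEmbeddings _ _ _ _ hi hj hcomm' hrange hcov _ ⟨y', rfl⟩
  exact ⟨fun y => (key y).1, fun y => (key y).2⟩

end Groth.Agent.Lib.Seat20.AnCover
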