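import Mathlib

/-!
# Generic monogenic presentation of a finite extension of an integrally closed domain

`R ⊆ A` finite, both domains, `R` integrally closed of characteristic zero.  Then there are
`θ ∈ A`, `h, D ∈ R` nonzero such that (with `P = minpoly R θ`):
* `P` divides every `Q ∈ R[X]` with `Q(θ) = 0`;
* for every `a ∈ A`, `h • a = Q(θ)` for some `Q ∈ R[X]`;
* `U * P + V * P' = C D` for some `U V ∈ R[X]` (`P` is separable away from `D = 0`).
-/

set_option autoImplicit false

namespace Groth.Agent.Lib.Seat20.ConnAlg

open Polynomial nonZeroDivisors IntermediateField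

section

variable (R A : Type*) [CommRing R] [CommRing A] [IsDomain R] [IsDomain A] [Algebra R A]
  [Module.Finite R A] (hinj : Function.Injective (algebraMap R A)) [IsIntegrallyClosed R]
  [CharZero R]
  (K L : Type*) [Field K] [Field L] [Algebra R K] [IsFractionRing R K] [Algebra A L]
  [IsFractionRing A L] [Algebra K L] [Algebra R L] [IsScalarTower R K L] [IsScalarTower R A L]

include hinj K L in
theorem exists_generic_presentation_aux :
    ∃ (θ : A) (h D : R) (U V : R[X]), h ≠ 0 ∧ D ≠ 0 ∧
      (∀ Q : R[X], aeval θ Q = 0 → minpoly R θ ∣ Q) ∧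
      (∀ a : A, ∃ Q : R[X], h • a = aeval θ Q) ∧
      U * minpoly R θ + V * derivative (minpoly R θ) = C D := by
  classical
  have hfaith : FaithfulSMul R A := (faithfulSMul_iff_algebraMap_injective R A).mpr hinj
  have halg : Algebra.IsAlgebraic R A := Algebra.IsIntegral.isAlgebraic
  have hloc : IsLocalization (Algebra.algebraMapSubmonoid A R⁰) L := inferInstance
  have hfin : Module.Finite K L := Module.Finite.of_isLocalization R A R⁰
  have hchar : CharZero K := charZero_of_injective_algebraMap (IsFractionRing.injective R K)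
  have hsepKL : Algebra.IsSeparable K L := inferInstance
  have hAL : Function.Injective (algebraMap A L) := IsFractionRing.injective A L
  have hRK : Function.Injective (algebraMap R K) := IsFractionRing.injective R K
  -- primitive element
  obtain ⟨α, hα⟩ := Field.exists_primitive_element K L
  obtain ⟨⟨a, ⟨_, r, hr, rfl⟩⟩, hx⟩ := IsLocalization.surj (Algebra.algebraMapSubmonoid A R⁰) α
  simp only at hx
  set θ : A := a with hθ
  set θ' : L := algebraMap A L θ with hθ'
  have hr0 : algebraMap R K r ≠ 0 := by
    rw [Ne, map_eq_zero_iff _ hRK]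
    exact nonZeroDivisors.ne_zero hr
  have hx' : α * algebraMap K L (algebraMap R K r) = θ' := by
    rw [← hx, ← IsScalarTower.algebraMap_apply R K L, IsScalarTower.algebraMap_apply R A L]
  have hprim : K⟮θ'⟯ = ⊤ := by
    rw [eq_top_iff, ← hα, adjoin_simple_le_iff]
    have : α = θ' * (algebraMap K L (algebraMap R K r))⁻¹ := by
      rw [← hx', mul_assoc, mul_inv_cancel₀, mul_one]
      rw [Ne, map_eq_zero_iff _ (algebraMap K L).injective]
      exact hr0
    rw [this]
    exact mul_mem (mem_adjoin_simple_self K θ') (inv_mem (IntermediateField.algebraMap_mem _ _))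
  have hint : IsIntegral R θ := Algebra.IsIntegral.isIntegral θ
  have hminK : minpoly K θ' = (minpoly R θ).map (algebraMap R K) :=
    minpoly.isIntegrallyClosed_eq_field_fractions K L hint
  have hsep : ((minpoly R θ).map (algebraMap R K)).Separable := by
    rw [← hminK]
    exact Algebra.IsSeparable.isSeparable K θ'
  -- (c)
  obtain ⟨u, v, huv⟩ := hsep
  obtain ⟨bu, hbuM, hbu⟩ := IsLocalization.integerNormalization_spec R⁰ u
  obtain ⟨bv, hbvM, hbv⟩ := IsLocalization.integerNormalization_spec R⁰ v
  set U₀ := IsLocalization.integerNormalization R⁰ u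
  set V₀ := IsLocalization.integerNormalization R⁰ v
  have hD0 : (bu : R) * (bv : R) ≠ 0 :=
    mul_ne_zero (nonZeroDivisors.ne_zero hbuM) (nonZeroDivisors.ne_zero hbvM)
  have hc : C (bv : R) * U₀ * minpoly R θ + C (bu : R) * V₀ * derivative (minpoly R θ) =
      C ((bu : R) * (bv : R)) := by
    apply Polynomial.map_injective (algebraMap R K) hRK
    simp only [Polynomial.map_add, Polynomial.map_mul, Polynomial.map_C, hbu, hbv,
      ← derivative_map]
    have e1 : ∀ (b : R) (w : K[X]), (b • w : K[X]) = C (algebraMap R K b) * w := by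
      intro b w
      rw [Algebra.smul_def]
      rfl
    rw [e1, e1]
    calc C (algebraMap R K bv) * (C (algebraMap R K bu) * u) * map (algebraMap R K) (minpoly R θ) +
          C (algebraMap R K bu) * (C (algebraMap R K bv) * v) *
            derivative (map (algebraMap R K) (minpoly R θ))
        = C (algebraMap R K bu) * C (algebraMap R K bv) *
          (u * map (algebraMap R K) (minpoly R θ) +
            v * derivative (map (algebraMap R K) (minpoly R θ))) := by ring
      _ = C (algebraMap R K bu) * C (algebraMap R K bv) := by rw [huv, mul_one]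
      _ = C (algebraMap R K (bu * bv)) := by rw [map_mul, C_mul]
  -- (b), elementwise
  have helt : ∀ b : A, ∃ (s : R) (Q : R[X]), s ≠ 0 ∧ s • b = aeval θ Q := by
    intro b
    have hmem : algebraMap A L b ∈ K⟮θ'⟯.toSubalgebra := by
      rw [hprim]; trivial
    rw [adjoin_simple_toSubalgebra_of_isAlgebraic (Algebra.IsAlgebraic.isAlgebraic θ'),
      Algebra.adjoin_singleton_eq_range_aeval] at hmem
    obtain ⟨q, hq⟩ := hmem
    obtain ⟨s, hsM, hs⟩ := IsLocalization.integerNormalization_spec R⁰ q
    refine ⟨s, IsLocalization.integerNormalization R⁰ q, nonZeroDivisors.ne_zero hsM, ?_⟩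
    apply hAL
    have h1 : algebraMap A L (aeval θ (IsLocalization.integerNormalization R⁰ q)) =
        aeval θ' ((IsLocalization.integerNormalization R⁰ q).map (algebraMap R K)) := by
      rw [aeval_map_algebraMap, hθ', aeval_algebraMap_apply]
    rw [h1, hs, Algebra.smul_def, map_mul, ← IsScalarTower.algebraMap_apply]
    have h2 : aeval θ' ((s : R) • q) = algebraMap R L (s : R) * aeval θ' q := by
      rw [Algebra.smul_def, map_mul]
      congr 1
      change aeval θ' (C (algebraMap R K (s : R))) = _
      rw [aeval_C, ← IsScalarTower.algebraMap_apply]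
    rw [h2]
    congr 1
    exact hq.symm
  choose sf Qf hsf hQf using helt
  obtain ⟨gens, hgens⟩ := (Module.Finite.fg_top : (⊤ : Submodule R A).FG)
  set h₁ : R := ∏ b ∈ gens, sf b with hh₁
  have hh₁0 : h₁ ≠ 0 := Finset.prod_ne_zero_iff.2 fun b _ => hsf b
  have hb₁ : ∀ a : A, ∃ Q : R[X], h₁ • a = aeval θ Q := by
    intro a
    have ha : a ∈ Submodule.span R (gens : Set A) := by rw [hgens]; trivial
    induction ha using Submodule.span_induction with
    | mem x hx =>
      refine ⟨C (∏ b ∈ gens.erase x, sf b) * Qf x, ?_⟩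
      rw [hh₁, ← Finset.prod_erase_mul gens _ hx, mul_smul, hQf x, map_mul, aeval_C,
        Algebra.smul_def]
    | zero => exact ⟨0, by simp⟩
    | add x y _ _ hx hy =>
      obtain ⟨Q1, h1⟩ := hx
      obtain ⟨Q2, h2⟩ := hy
      exact ⟨Q1 + Q2, by rw [smul_add, h1, h2, map_add]⟩
    | smul c x _ hx =>
      obtain ⟨Q1, h1⟩ := hx
      exact ⟨C c * Q1, by rw [smul_comm, h1, map_mul, aeval_C, Algebra.smul_def]⟩
  refine ⟨θ, h₁, (bu : R) * (bv : R), C (bv : R) * U₀, C (bu : R) * V₀, hh₁0, hD0, ?_, hb₁, hc⟩
  intro Q hQ
  have : Module.IsTorsionFree R A := inferInstance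
  exact minpoly.isIntegrallyClosed_dvd hint hQ

end

/-- the version with the fraction fields supplied. -/
theorem exists_generic_presentation (R A : Type*) [CommRing R] [CommRing A] [IsDomain R]
    [IsDomain A] [Algebra R A] [Module.Finite R A]
    (hinj : Function.Injective (algebraMap R A)) [IsIntegrallyClosed R] [CharZero R] :
    ∃ (θ : A) (h D : R) (U V : R[X]), h ≠ 0 ∧ D ≠ 0 ∧
      (∀ Q : R[X], aeval θ Q = 0 → minpoly R θ ∣ Q) ∧
      (∀ a : A, ∃ Q : R[X], h • a = aeval θ Q) ∧
      U * minpoly R θ + V * derivative (minpoly R θ) = C D ∧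
      (minpoly R θ).Monic ∧ Irreducible (minpoly R θ) := by
  have hfaith : FaithfulSMul R A := (faithfulSMul_iff_algebraMap_injective R A).mpr hinj
  have : FaithfulSMul R (FractionRing A) := by
    rw [faithfulSMul_iff_algebraMap_injective, IsScalarTower.algebraMap_eq R A (FractionRing A)]
    exact (IsFractionRing.injective A (FractionRing A)).comp hinj
  let _ : Algebra (FractionRing R) (FractionRing A) := FractionRing.liftAlgebra R (FractionRing A)
  obtain ⟨θ, h, D, U, V, h1, h2, h3, h4, h5⟩ :=
    exists_generic_presentation_aux R A hinj (FractionRing R) (FractionRing A)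
  have hint : IsIntegral R θ := Algebra.IsIntegral.isIntegral θ
  exact ⟨θ, h, D, U, V, h1, h2, h3, h4, h5, minpoly.monic hint, minpoly.irreducible hint⟩

end Groth.Agent.Lib.Seat20.ConnAlg
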