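import Mathlib

/-!
# One complex variable: polynomial growth implies polynomial

* `exists_poly_of_entire_growth`: an entire function with `‖g s‖ ≤ C (1+‖s‖)^N` is a polynomial
  of degree at most `N`.
* `exists_poly_of_diff_off_finite`: the same for a function differentiable off a finite set (and
  with the growth bound off that finite set): it agrees off the finite set with a polynomial of
  degree at most `N` (Riemann's removable singularity theorem).
-/

set_option autoImplicit false

namespace Groth.Agent.Lib.Seat20.ConnAn1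

open Complex Polynomial Filter Topology Set Function

theorem exists_poly_of_entire_growth (N : ℕ) : ∀ (g : ℂ → ℂ) (C : ℝ), Differentiable ℂ g →
    (∀ s, ‖g s‖ ≤ C * (1 + ‖s‖) ^ N) → ∃ q : ℂ[X], q.natDegree ≤ N ∧ ∀ s, g s = q.eval s := by
  induction N with
  | zero =>
    intro g C hg hb
    refine ⟨Polynomial.C (g 0), by simp, fun s => ?_⟩
    have hbd : Bornology.IsBounded (range g) := by
      rw [isBounded_iff_forall_norm_le]
      refine ⟨C, ?_⟩
      rintro _ ⟨s, rfl⟩
      simpa using hb s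
    simpa using hg.apply_eq_apply_of_bounded hbd s 0
  | succ N ih =>
    intro g C hg hb
    have hC : 0 ≤ C := by
      have h0 := hb 0
      have : 0 ≤ C * (1 + ‖(0 : ℂ)‖) ^ (N + 1) := le_trans (norm_nonneg _) h0
      simpa using this
    set g₁ : ℂ → ℂ := dslope g 0 with hg₁
    have hg₁d : Differentiable ℂ g₁ := by
      rw [← differentiableOn_univ]
      exact (Complex.differentiableOn_dslope (f := g) (c := 0) univ_mem).2 hg.differentiableOn
    obtain ⟨M, hM⟩ := (isCompact_closedBall (0 : ℂ) 1).exists_bound_of_continuousOn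
      hg₁d.continuous.continuousOn
    have hb₁ : ∀ s, ‖g₁ s‖ ≤ (2 * C + ‖g 0‖ + |M|) * (1 + ‖s‖) ^ N := by
      intro s
      have hpos : (1 : ℝ) ≤ (1 + ‖s‖) ^ N := one_le_pow₀ (by linarith [norm_nonneg s])
      by_cases hs : ‖s‖ ≤ 1
      · have h1 : ‖g₁ s‖ ≤ M := hM s (by simpa using hs)
        have h2 : M ≤ |M| := le_abs_self M
        have h3 : |M| ≤ (2 * C + ‖g 0‖ + |M|) := by linarith [norm_nonneg (g 0)]
        have h4 : (2 * C + ‖g 0‖ + |M|) ≤ (2 * C + ‖g 0‖ + |M|) * (1 + ‖s‖) ^ N :=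
          le_mul_of_one_le_right (by linarith [norm_nonneg (g 0), abs_nonneg M]) hpos
        linarith
      · push Not at hs
        have hs0 : s ≠ 0 := by
          rintro rfl
          simp at hs
          linarith
        have hsn : 0 < ‖s‖ := by linarith
        have e1 : g₁ s = (g s - g 0) / s := by
          rw [hg₁, dslope_of_ne _ hs0, slope_def_field, sub_zero]
        rw [e1, norm_div]
        rw [div_le_iff₀ hsn]
        have h1 : ‖g s - g 0‖ ≤ C * (1 + ‖s‖) ^ (N + 1) + ‖g 0‖ :=
          (norm_sub_le _ _).trans (add_le_add (hb s) le_rfl)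
        have h2 : (1 + ‖s‖) ^ (N + 1) ≤ 2 * ‖s‖ * (1 + ‖s‖) ^ N := by
          rw [pow_succ, mul_comm]
          exact mul_le_mul_of_nonneg_right (by linarith) (by positivity)
        have h3 : ‖g 0‖ ≤ ‖g 0‖ * (1 + ‖s‖) ^ N * ‖s‖ := by
          have : (1 : ℝ) ≤ (1 + ‖s‖) ^ N * ‖s‖ := by nlinarith
          calc ‖g 0‖ = ‖g 0‖ * 1 := (mul_one _).symm
            _ ≤ ‖g 0‖ * ((1 + ‖s‖) ^ N * ‖s‖) := mul_le_mul_of_nonneg_left this (norm_nonneg _)
            _ = _ := by ring
        have h4 : 0 ≤ |M| * (1 + ‖s‖) ^ N * ‖s‖ := by positivity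
        calc ‖g s - g 0‖ ≤ C * (1 + ‖s‖) ^ (N + 1) + ‖g 0‖ := h1
          _ ≤ C * (2 * ‖s‖ * (1 + ‖s‖) ^ N) + ‖g 0‖ * (1 + ‖s‖) ^ N * ‖s‖ :=
            add_le_add (mul_le_mul_of_nonneg_left h2 hC) h3
          _ ≤ (2 * C + ‖g 0‖ + |M|) * (1 + ‖s‖) ^ N * ‖s‖ := by nlinarith
    obtain ⟨q₁, hq₁d, hq₁⟩ := ih g₁ _ hg₁d hb₁
    refine ⟨Polynomial.C (g 0) + X * q₁, ?_, fun s => ?_⟩
    · refine (natDegree_add_le _ _).trans (max_le (by simp) ?_)
      refine (natDegree_mul_le).trans ?_
      simp only [natDegree_X]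
      omega
    · have := sub_smul_dslope g 0 s
      simp only [sub_zero, smul_eq_mul] at this
      simp only [eval_add, eval_C, eval_mul, eval_X, ← hq₁ s, hg₁]
      rw [this]
      ring

theorem exists_poly_of_diff_off_finite (F : Finset ℂ) : ∀ (g : ℂ → ℂ) (N : ℕ) (C : ℝ),
    (∀ s, s ∉ F → DifferentiableAt ℂ g s) → (∀ s, s ∉ F → ‖g s‖ ≤ C * (1 + ‖s‖) ^ N) →
    ∃ q : ℂ[X], q.natDegree ≤ N ∧ ∀ s, s ∉ F → g s = q.eval s := by
  classical
  induction F using Finset.induction_on with
  | empty =>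
    intro g N C hd hb
    obtain ⟨q, hq, h⟩ := exists_poly_of_entire_growth N g C (fun s => hd s (by simp))
      (fun s => hb s (by simp))
    exact ⟨q, hq, fun s _ => h s⟩
  | insert a F' ha ih =>
    intro g N C hd hb
    set g' : ℂ → ℂ := update g a (limUnder (𝓝[≠] a) g) with hg'
    -- a small ball around `a` avoiding `F'`
    have hopen : IsOpen ((F' : Set ℂ)ᶜ) := F'.finite_toSet.isClosed.isOpen_compl
    obtain ⟨r, hr, hball⟩ := Metric.isOpen_iff.1 hopen a (by simpa using ha)
    have hoff : ∀ s ∈ Metric.ball a r \ {a}, s ∉ insert a F' := by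
      rintro s ⟨hs, hsa⟩
      have : s ∉ F' := by simpa using hball hs
      simp only [Finset.mem_insert, not_or]
      exact ⟨hsa, this⟩
    have hdiffball : DifferentiableOn ℂ g' (Metric.ball a r) := by
      refine Complex.differentiableOn_update_limUnder_of_bddAbove (Metric.ball_mem_nhds a hr)
        (fun s hs => (hd s (hoff s hs)).differentiableWithinAt) ?_
      refine ⟨|C| * (1 + ‖a‖ + r) ^ N, ?_⟩
      rintro _ ⟨s, hs, rfl⟩
      have h1 := hb s (hoff s hs)
      have h2 : ‖s‖ ≤ ‖a‖ + r := by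
        have : ‖s - a‖ < r := by simpa [dist_eq_norm] using hs.1
        calc ‖s‖ = ‖a + (s - a)‖ := by ring_nf
          _ ≤ ‖a‖ + ‖s - a‖ := norm_add_le _ _
          _ ≤ ‖a‖ + r := by linarith
      have h3 : (1 + ‖s‖) ^ N ≤ (1 + ‖a‖ + r) ^ N :=
        pow_le_pow_left₀ (by positivity) (by linarith) N
      calc ‖g s‖ ≤ C * (1 + ‖s‖) ^ N := h1
        _ ≤ |C| * (1 + ‖s‖) ^ N := mul_le_mul_of_nonneg_right (le_abs_self C) (by positivity)
        _ ≤ |C| * (1 + ‖a‖ + r) ^ N := mul_le_mul_of_nonneg_left h3 (abs_nonneg C)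
    have hda : DifferentiableAt ℂ g' a :=
      hdiffball.differentiableAt (Metric.ball_mem_nhds a hr)
    have hd' : ∀ s, s ∉ F' → DifferentiableAt ℂ g' s := by
      intro s hs
      by_cases hsa : s = a
      · rw [hsa]; exact hda
      · have hev : g' =ᶠ[𝓝 s] g := by
          filter_upwards [isOpen_compl_singleton.mem_nhds hsa] with u hu
          exact update_of_ne hu _ _
        refine (hd s ?_).congr_of_eventuallyEq hev
        simp only [Finset.mem_insert, not_or]
        exact ⟨hsa, hs⟩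
    have hb' : ∀ s, s ∉ F' → ‖g' s‖ ≤ C * (1 + ‖s‖) ^ N := by
      intro s hs
      by_cases hsa : s = a
      · rw [hsa]
        have hcont : Tendsto (fun u => ‖g' u‖) (𝓝[≠] a) (𝓝 ‖g' a‖) :=
          (hda.continuousAt.norm.tendsto).mono_left nhdsWithin_le_nhds
        have hcont2 : Tendsto (fun u : ℂ => C * (1 + ‖u‖) ^ N) (𝓝[≠] a) (𝓝 (C * (1 + ‖a‖) ^ N)) := by
          have : Continuous (fun u : ℂ => C * (1 + ‖u‖) ^ N) := by fun_prop
          exact (this.tendsto a).mono_left nhdsWithin_le_nhds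
        refine le_of_tendsto_of_tendsto hcont hcont2 ?_
        have hmem : Metric.ball a r \ {a} ∈ 𝓝[≠] a := by
          rw [Set.sdiff_eq, Set.inter_comm]
          exact inter_mem_nhdsWithin _ (Metric.ball_mem_nhds a hr)
        filter_upwards [hmem] with u hu
        have : g' u = g u := update_of_ne hu.2 _ _
        rw [this]
        exact hb u (hoff u hu)
      · have : g' s = g s := update_of_ne hsa _ _
        rw [this]
        refine hb s ?_
        simp only [Finset.mem_insert, not_or]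
        exact ⟨hsa, hs⟩
    obtain ⟨q, hq, h⟩ := ih g' N C hd' hb'
    refine ⟨q, hq, fun s hs => ?_⟩
    simp only [Finset.mem_insert, not_or] at hs
    rw [← h s hs.2]
    exact (update_of_ne hs.1 _ _).symm

end Groth.Agent.Lib.Seat20.ConnAn1
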