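import Mathlib
import Groth.Agent.Lib.Seat20ConnAn1

/-!
# Several complex variables: polynomial growth implies polynomial

`exists_mvPoly_of_growth`: a function on `{t | h(t) ≠ 0} ⊆ ℂⁿ` (`h ≠ 0` a polynomial), complex
differentiable there and bounded by `C (1+‖t‖)^N`, agrees on that set with a polynomial.
-/

set_option autoImplicit false

namespace Groth.Agent.Lib.Seat20.ConnAn2

open Complex Polynomial Filter Topology Set Function
open Groth.Agent.Lib.Seat20.ConnAn1

/-- the nonvanishing locus of a nonzero polynomial is dense in `ℂ^m`. -/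
theorem dense_eval_ne_zero {m : ℕ} (g : MvPolynomial (Fin m) ℂ) (hg : g ≠ 0) :
    Dense {t : Fin m → ℂ | MvPolynomial.eval t g ≠ 0} := by
  by_contra hnd
  rw [dense_iff_inter_open] at hnd
  push Not at hnd
  obtain ⟨O, hO, ⟨t₀, ht₀⟩, hOe⟩ := hnd
  have hvan : ∀ t ∈ O, MvPolynomial.eval t g = 0 := by
    intro t ht
    by_contra hne
    exact (Set.eq_empty_iff_forall_notMem.1 hOe) t ⟨ht, hne⟩
  have han : AnalyticOnNhd ℂ (fun t : Fin m → ℂ => MvPolynomial.eval t g) Set.univ := by
    have := AnalyticOnNhd.eval_continuousLinearMap (𝕜 := ℂ)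
      (ContinuousLinearMap.id ℂ (Fin m → ℂ)) g
    simpa using this
  have hz : (fun t : Fin m → ℂ => MvPolynomial.eval t g) =ᶠ[𝓝 t₀] 0 := by
    filter_upwards [hO.mem_nhds ht₀] with t ht
    exact hvan t ht
  have hall := han.eqOn_zero_of_preconnected_of_eventuallyEq_zero isPreconnected_univ
    (Set.mem_univ t₀) hz
  apply hg
  apply MvPolynomial.funext
  intro t
  simpa using hall (Set.mem_univ t)

lemma norm_cons_le {n : ℕ} (s : ℂ) (t' : Fin n → ℂ) :
    ‖(Fin.cons s t' : Fin (n + 1) → ℂ)‖ ≤ ‖s‖ + ‖t'‖ := by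
  rw [pi_norm_le_iff_of_nonneg (by positivity)]
  intro i
  refine Fin.cases ?_ (fun j => ?_) i
  · simp only [Fin.cons_zero]
    linarith [norm_nonneg t']
  · simp only [Fin.cons_succ]
    linarith [norm_le_pi_norm t' j, norm_nonneg s]

lemma differentiable_cons_left {n : ℕ} (t' : Fin n → ℂ) :
    Differentiable ℂ (fun s : ℂ => (Fin.cons s t' : Fin (n + 1) → ℂ)) := by
  rw [differentiable_pi]
  intro i
  refine Fin.cases ?_ (fun j => ?_) i
  · simpa using differentiable_id
  · simpa using differentiable_const _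

lemma differentiable_cons_right {n : ℕ} (s : ℂ) :
    Differentiable ℂ (fun t' : Fin n → ℂ => (Fin.cons s t' : Fin (n + 1) → ℂ)) := by
  rw [differentiable_pi]
  intro i
  refine Fin.cases ?_ (fun j => ?_) i
  · simpa using differentiable_const _
  · simpa using differentiable_apply j

lemma one_add_add_pow_le (a b : ℝ) (ha : 0 ≤ a) (hb : 0 ≤ b) (N : ℕ) :
    (1 + (a + b)) ^ N ≤ (1 + a) ^ N * (1 + b) ^ N := by
  rw [← mul_pow]
  exact pow_le_pow_left₀ (by positivity) (by nlinarith) N

theorem exists_mvPoly_of_growth (n : ℕ) : ∀ (h : MvPolynomial (Fin n) ℂ), h ≠ 0 →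
    ∀ (f : (Fin n → ℂ) → ℂ) (N : ℕ) (C : ℝ),
    (∀ t, MvPolynomial.eval t h ≠ 0 → DifferentiableAt ℂ f t) →
    (∀ t, MvPolynomial.eval t h ≠ 0 → ‖f t‖ ≤ C * (1 + ‖t‖) ^ N) →
    ∃ p : MvPolynomial (Fin n) ℂ, ∀ t, MvPolynomial.eval t h ≠ 0 → f t = MvPolynomial.eval t p := by
  classical
  induction n with
  | zero =>
    intro h _ f N C _ _
    refine ⟨MvPolynomial.C (f 0), fun t _ => ?_⟩
    rw [MvPolynomial.eval_C, Subsingleton.elim t 0]
  | succ n ih =>
    intro h hh f N C hd hb
    -- WLOG C ≥ 0
    have hb : ∀ t, MvPolynomial.eval t h ≠ 0 → ‖f t‖ ≤ |C| * (1 + ‖t‖) ^ N := fun t ht =>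
      (hb t ht).trans (mul_le_mul_of_nonneg_right (le_abs_self C) (by positivity))
    set R' := MvPolynomial (Fin n) ℂ
    set H : R'[X] := MvPolynomial.finSuccEquiv ℂ n h with hH
    have hH0 : H ≠ 0 := by
      rw [hH]
      exact (map_ne_zero_iff _ (MvPolynomial.finSuccEquiv ℂ n).injective).2 hh
    have heval : ∀ (s : ℂ) (t' : Fin n → ℂ),
        MvPolynomial.eval (Fin.cons s t' : Fin (n + 1) → ℂ) h =
          (H.map (MvPolynomial.eval t')).eval s := fun s t' =>
      MvPolynomial.eval_eq_eval_mv_eval' t' s h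
    have heval2 : ∀ (a : ℂ) (t' : Fin n → ℂ),
        MvPolynomial.eval t' (H.eval (MvPolynomial.C a)) = (H.map (MvPolynomial.eval t')).eval a := by
      intro a t'
      rw [Polynomial.eval_map]
      have := Polynomial.eval₂_at_apply (p := H) (MvPolynomial.eval t') (MvPolynomial.C a)
      rw [MvPolynomial.eval_C] at this
      exact this.symm
    -- choose nodes
    have hbadfin : {a : ℂ | H.eval (MvPolynomial.C a) = 0}.Finite := by
      have : {a : ℂ | H.eval (MvPolynomial.C a) = 0} ⊆
          (MvPolynomial.C : ℂ → R') ⁻¹' (H.roots.toFinset : Set R') := by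
        intro a ha
        simp only [Set.mem_preimage, Finset.mem_coe, Multiset.mem_toFinset]
        exact (Polynomial.mem_roots hH0).2 ha
      exact (Set.Finite.preimage ((MvPolynomial.C_injective (Fin n) ℂ).injOn)
        (Finset.finite_toSet _)).subset this
    obtain ⟨𝒩, h𝒩good, h𝒩card⟩ := (hbadfin.infinite_compl).exists_subset_card_eq (N + 1)
    have h𝒩ne : 𝒩.Nonempty := by
      rw [← Finset.card_pos, h𝒩card]; omega
    have hgood : ∀ a ∈ 𝒩, H.eval (MvPolynomial.C a) ≠ 0 := fun a ha => h𝒩good ha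
    set h' : R' := ∏ a ∈ 𝒩, H.eval (MvPolynomial.C a) with hh'
    have hh'0 : h' ≠ 0 := Finset.prod_ne_zero_iff.2 hgood
    have hh'eval : ∀ t', MvPolynomial.eval t' h' ≠ 0 → ∀ a ∈ 𝒩,
        MvPolynomial.eval (Fin.cons a t' : Fin (n + 1) → ℂ) h ≠ 0 := by
      intro t' ht' a ha
      rw [heval, ← heval2]
      rw [hh', map_prod] at ht'
      exact (Finset.prod_ne_zero_iff.1 ht') a ha
    -- the functions t' ↦ f (a, t') are polynomials
    have hpa : ∀ a ∈ 𝒩, ∃ p : R', ∀ t', MvPolynomial.eval t' h' ≠ 0 →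
        f (Fin.cons a t') = MvPolynomial.eval t' p := by
      intro a ha
      refine ih h' hh'0 (fun t' => f (Fin.cons a t')) N (|C| * (1 + ‖a‖) ^ N) ?_ ?_
      · intro t' ht'
        exact DifferentiableAt.comp (f := fun t' : Fin n → ℂ => (Fin.cons a t' : Fin (n + 1) → ℂ))
          t' (hd _ (hh'eval t' ht' a ha)) (differentiable_cons_right a t')
      · intro t' ht'
        refine (hb _ (hh'eval t' ht' a ha)).trans ?_
        rw [mul_assoc]
        refine mul_le_mul_of_nonneg_left ?_ (abs_nonneg C)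
        refine le_trans ?_ (one_add_add_pow_le ‖a‖ ‖t'‖ (norm_nonneg _) (norm_nonneg _) N)
        exact pow_le_pow_left₀ (by positivity) (by linarith [norm_cons_le a t']) N
    choose! pa hpa using hpa
    -- the candidate polynomial
    set Q : R'[X] := ∑ a ∈ 𝒩, Polynomial.C (pa a) *
      (Lagrange.basis 𝒩 id a).map (MvPolynomial.C : ℂ →+* R') with hQ
    set p : MvPolynomial (Fin (n + 1)) ℂ := (MvPolynomial.finSuccEquiv ℂ n).symm Q with hp
    have hpeval : ∀ (s : ℂ) (t' : Fin n → ℂ),
        MvPolynomial.eval (Fin.cons s t' : Fin (n + 1) → ℂ) p =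
          ∑ a ∈ 𝒩, MvPolynomial.eval t' (pa a) * (Lagrange.basis 𝒩 id a).eval s := by
      intro s t'
      rw [MvPolynomial.eval_eq_eval_mv_eval', hp, AlgEquiv.apply_symm_apply, hQ,
        Polynomial.map_sum, Polynomial.eval_finsetSum]
      refine Finset.sum_congr rfl fun a _ => ?_
      rw [Polynomial.map_mul, Polynomial.map_C, Polynomial.map_map, Polynomial.eval_mul,
        Polynomial.eval_C]
      congr 2
      have : (MvPolynomial.eval t').comp (MvPolynomial.C : ℂ →+* R') = RingHom.id ℂ := by
        ext x; simp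
      rw [this, Polynomial.map_id]
    -- the key identity on the smaller set
    have hkey : ∀ (s : ℂ) (t' : Fin n → ℂ), MvPolynomial.eval t' h' ≠ 0 →
        MvPolynomial.eval (Fin.cons s t' : Fin (n + 1) → ℂ) h ≠ 0 →
        f (Fin.cons s t') = MvPolynomial.eval (Fin.cons s t' : Fin (n + 1) → ℂ) p := by
      intro s t' ht' hst'
      set Ht' : ℂ[X] := H.map (MvPolynomial.eval t') with hHt'
      have hHt'0 : Ht' ≠ 0 := by
        obtain ⟨a, ha⟩ := h𝒩ne
        intro h0
        have := hh'eval t' ht' a ha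
        rw [heval, ← hHt', h0] at this
        simp at this
      have hdu : ∀ u, u ∉ Ht'.roots.toFinset →
          DifferentiableAt ℂ (fun s => f (Fin.cons s t')) u := by
        intro u hu
        have hu' : MvPolynomial.eval (Fin.cons u t' : Fin (n + 1) → ℂ) h ≠ 0 := by
          simp only [Multiset.mem_toFinset, Polynomial.mem_roots hHt'0, Polynomial.IsRoot.def] at hu
          rw [heval]; exact hu
        exact DifferentiableAt.comp (f := fun u : ℂ => (Fin.cons u t' : Fin (n + 1) → ℂ))
          u (hd _ hu') (differentiable_cons_left t' u)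
      have hbu : ∀ u, u ∉ Ht'.roots.toFinset →
          ‖f (Fin.cons u t')‖ ≤ (|C| * (1 + ‖t'‖) ^ N) * (1 + ‖u‖) ^ N := by
        intro u hu
        have hu' : MvPolynomial.eval (Fin.cons u t' : Fin (n + 1) → ℂ) h ≠ 0 := by
          simp only [Multiset.mem_toFinset, Polynomial.mem_roots hHt'0, Polynomial.IsRoot.def] at hu
          rw [heval]; exact hu
        refine (hb _ hu').trans ?_
        rw [mul_assoc]
        refine mul_le_mul_of_nonneg_left ?_ (abs_nonneg C)
        rw [mul_comm]
        refine le_trans ?_ (one_add_add_pow_le ‖u‖ ‖t'‖ (norm_nonneg _) (norm_nonneg _) N)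
        exact pow_le_pow_left₀ (by positivity) (by linarith [norm_cons_le u t']) N
      obtain ⟨q, hqd, hq⟩ := exists_poly_of_diff_off_finite Ht'.roots.toFinset
        (fun s => f (Fin.cons s t')) N (|C| * (1 + ‖t'‖) ^ N) hdu hbu
      have hs : s ∉ Ht'.roots.toFinset := by
        simp only [Multiset.mem_toFinset, Polynomial.mem_roots hHt'0, Polynomial.IsRoot.def]
        rw [← heval]; exact hst'
      rw [hq s hs, hpeval]
      have hqint : q = Lagrange.interpolate 𝒩 id (fun a => f (Fin.cons a t')) := by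
        refine Lagrange.eq_interpolate_of_eval_eq _ (Set.injOn_id _) ?_ ?_
        · rw [h𝒩card]
          exact lt_of_le_of_lt Polynomial.degree_le_natDegree
            (by exact_mod_cast Nat.lt_succ_of_le hqd)
        · intro a ha
          have ha' : a ∉ Ht'.roots.toFinset := by
            simp only [Multiset.mem_toFinset, Polynomial.mem_roots hHt'0, Polynomial.IsRoot.def]
            rw [← heval]; exact hh'eval t' ht' a ha
          exact (hq a ha').symm
      rw [hqint, Lagrange.interpolate_apply, Polynomial.eval_finsetSum]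
      refine Finset.sum_congr rfl fun a ha => ?_
      rw [Polynomial.eval_mul, Polynomial.eval_C, hpa a ha t' ht']
    -- extend by density
    refine ⟨p, ?_⟩
    set g : MvPolynomial (Fin (n + 1)) ℂ := h * MvPolynomial.rename Fin.succ h' with hg
    have hg0 : g ≠ 0 := by
      refine mul_ne_zero hh ?_
      exact (map_ne_zero_iff _ (MvPolynomial.rename_injective _ (Fin.succ_injective n))).2 hh'0
    have hdense := dense_eval_ne_zero g hg0
    have hBopen : IsOpen {t : Fin (n + 1) → ℂ | MvPolynomial.eval t h ≠ 0} :=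
      isOpen_ne_fun (MvPolynomial.continuous_eval h) continuous_const
    have hEq : Set.EqOn f (fun t => MvPolynomial.eval t p)
        ({t : Fin (n + 1) → ℂ | MvPolynomial.eval t h ≠ 0} ∩
          {t : Fin (n + 1) → ℂ | MvPolynomial.eval t g ≠ 0}) := by
      rintro t ⟨ht1, ht2⟩
      have ht : t = Fin.cons (t 0) (Fin.tail t) := (Fin.cons_self_tail t).symm
      have h3 : MvPolynomial.eval (Fin.tail t) h' ≠ 0 := by
        simp only [Set.mem_ofPred_eq, hg, map_mul, MvPolynomial.eval_rename] at ht2
        exact (mul_ne_zero_iff.1 ht2).2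
      simp only
      rw [ht]
      exact hkey (t 0) (Fin.tail t) h3 (by rw [← ht]; exact ht1)
    have hfc : ContinuousOn f {t : Fin (n + 1) → ℂ | MvPolynomial.eval t h ≠ 0} := fun t ht =>
      (hd t ht).continuousAt.continuousWithinAt
    have hpc : ContinuousOn (fun t : Fin (n + 1) → ℂ => MvPolynomial.eval t p)
        {t : Fin (n + 1) → ℂ | MvPolynomial.eval t h ≠ 0} :=
      (MvPolynomial.continuous_eval p).continuousOn
    exact fun t ht => hEq.of_subset_closure hfc hpc Set.inter_subset_left
      (hdense.open_subset_closure_inter hBopen) ht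

end Groth.Agent.Lib.Seat20.ConnAn2
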