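import Mathlib
import Groth.Agent.Lib.Seat20ConnAn2

/-!
# Roots of a monic family of polynomials over `ℂⁿ`: local structure

`P` a monic polynomial in `T` with coefficients polynomials in `t ∈ ℂⁿ`.  Near a point `t₀` where
`P(t₀, T)` is separable the roots are given by functions differentiable at `t₀`
(`exists_local_root`), and the "partial products" over the roots lying in an open set `u` have
coefficients differentiable at `t₀` (`differentiableAt_coeff_G`).
-/

set_option autoImplicit false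

namespace Groth.Agent.Lib.Seat20.ConnAn3

open Polynomial Filter Topology Set Function

variable {n : ℕ}

/-- specialization of `P` at the point `t` -/
noncomputable def spec (P : (MvPolynomial (Fin n) ℂ)[X]) (t : Fin n → ℂ) : ℂ[X] :=
  P.map (MvPolynomial.eval t)

/-- `P` as a function of `(t, z)` -/
noncomputable def Φ (P : (MvPolynomial (Fin n) ℂ)[X]) (v : (Fin n → ℂ) × ℂ) : ℂ :=
  (spec P v.1).eval v.2

lemma Φ_eq (P : (MvPolynomial (Fin n) ℂ)[X]) (v : (Fin n → ℂ) × ℂ) :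
    Φ P v = MvPolynomial.eval (Fin.cons v.2 v.1 : Fin (n + 1) → ℂ)
      ((MvPolynomial.finSuccEquiv ℂ n).symm P) := by
  rw [MvPolynomial.eval_eq_eval_mv_eval', AlgEquiv.apply_symm_apply]
  rfl

lemma analyticOnNhd_Φ (P : (MvPolynomial (Fin n) ℂ)[X]) : AnalyticOnNhd ℂ (Φ P) Set.univ := by
  let L : Fin (n + 1) → ((Fin n → ℂ) × ℂ →L[ℂ] ℂ) :=
    Fin.cases (ContinuousLinearMap.snd ℂ _ _)
      (fun j => (ContinuousLinearMap.proj j).comp (ContinuousLinearMap.fst ℂ _ _))
  have := AnalyticOnNhd.eval_continuousLinearMap' (𝕜 := ℂ) L ((MvPolynomial.finSuccEquiv ℂ n).symm P)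
  have heq : Φ P = fun x => (MvPolynomial.eval fun i => (L i) x)
      ((MvPolynomial.finSuccEquiv ℂ n).symm P) := by
    funext v
    rw [Φ_eq]
    have hv : (Fin.cons v.2 v.1 : Fin (n + 1) → ℂ) = fun i => (L i) v := by
      funext i
      refine Fin.cases ?_ (fun j => ?_) i
      · simp [L]
      · simp [L]
    rw [hv]
  rw [heq]
  exact this

lemma continuous_Φ (P : (MvPolynomial (Fin n) ℂ)[X]) : Continuous (Φ P) := by
  have := (analyticOnNhd_Φ P).continuousOn
  rwa [continuousOn_univ] at this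

lemma hasDerivAt_Φ (P : (MvPolynomial (Fin n) ℂ)[X]) (t : Fin n → ℂ) (z : ℂ) :
    HasDerivAt (fun s : ℂ => Φ P (t, s)) ((spec P t).derivative.eval z) z :=
  (spec P t).hasDerivAt z

/-- implicit function theorem at a simple root -/
theorem exists_local_root (P : (MvPolynomial (Fin n) ℂ)[X]) (t₀ : Fin n → ℂ) (z₀ : ℂ)
    (h0 : (spec P t₀).eval z₀ = 0) (h1 : (spec P t₀).derivative.eval z₀ ≠ 0) :
    ∃ σ : (Fin n → ℂ) → ℂ, σ t₀ = z₀ ∧ DifferentiableAt ℂ σ t₀ ∧
      ∀ᶠ t in 𝓝 t₀, (spec P t).eval (σ t) = 0 := by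
  have hstrict : HasStrictFDerivAt (Φ P) (fderiv ℂ (Φ P) (t₀, z₀)) (t₀, z₀) :=
    (analyticOnNhd_Φ P (t₀, z₀) (Set.mem_univ _)).hasStrictFDerivAt
  have hcomp : (fderiv ℂ (Φ P) (t₀, z₀)).comp (ContinuousLinearMap.inr ℂ (Fin n → ℂ) ℂ) =
      ContinuousLinearMap.toSpanSingleton ℂ ((spec P t₀).derivative.eval z₀) := by
    have h1 : HasFDerivAt (fun s : ℂ => Φ P (t₀, s))
        ((fderiv ℂ (Φ P) (t₀, z₀)).comp (ContinuousLinearMap.inr ℂ (Fin n → ℂ) ℂ)) z₀ :=
      HasFDerivAt.comp z₀ hstrict.hasFDerivAt (hasFDerivAt_prodMk_right t₀ z₀)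
    exact h1.unique (hasDerivAt_Φ P t₀ z₀).hasFDerivAt
  have hinv : ((fderiv ℂ (Φ P) (t₀, z₀)).comp
      (ContinuousLinearMap.inr ℂ (Fin n → ℂ) ℂ)).IsInvertible := by
    rw [hcomp]
    refine ⟨ContinuousLinearEquiv.unitsEquivAut ℂ (Units.mk0 _ h1), ?_⟩
    ext
    simp
  refine ⟨hstrict.implicitFunctionOfProdDomain hinv, ?_, ?_, ?_⟩
  · exact ((hstrict.eventually_apply_eq_iff_implicitFunctionOfProdDomain hinv).self_of_nhds).1 rfl
  · exact (hstrict.hasStrictFDerivAt_implicitFunctionOfProdDomain hinv).hasFDerivAt.differentiableAt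
  · have := hstrict.eventually_apply_implicitFunctionOfProdDomain hinv
    filter_upwards [this] with t ht
    have h00 : Φ P (t₀, z₀) = 0 := h0
    rw [h00] at ht
    exact ht

/-- coefficients of `∏ (X - C (σ z t))` are differentiable at `t₀` if the `σ z` are. -/
lemma differentiableAt_coeff_prod {E : Type*} [NormedAddCommGroup E] [NormedSpace ℂ E]
    (s : Finset ℂ) (σ : ℂ → E → ℂ) (t₀ : E)
    (hσ : ∀ z ∈ s, DifferentiableAt ℂ (σ z) t₀) :
    ∀ k : ℕ, DifferentiableAt ℂ (fun t => (∏ z ∈ s, (X - C (σ z t))).coeff k) t₀ := by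
  classical
  induction s using Finset.induction_on with
  | empty =>
    intro k
    simp only [Finset.prod_empty]
    exact differentiableAt_const _
  | insert a s ha ih =>
    intro k
    have ih' := ih (fun z hz => hσ z (Finset.mem_insert_of_mem hz))
    have ha' := hσ a (Finset.mem_insert_self a s)
    cases k with
    | zero =>
      have : (fun t => (∏ z ∈ insert a s, (X - C (σ z t))).coeff 0) =
          fun t => - σ a t * (∏ z ∈ s, (X - C (σ z t))).coeff 0 := by
        funext t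
        rw [Finset.prod_insert ha, sub_mul, coeff_sub, coeff_X_mul_zero, coeff_C_mul]
        ring
      rw [this]
      exact ha'.neg.mul (ih' 0)
    | succ k =>
      have : (fun t => (∏ z ∈ insert a s, (X - C (σ z t))).coeff (k + 1)) =
          fun t => (∏ z ∈ s, (X - C (σ z t))).coeff k -
            σ a t * (∏ z ∈ s, (X - C (σ z t))).coeff (k + 1) := by
        funext t
        rw [Finset.prod_insert ha, sub_mul, coeff_sub, coeff_X_mul, coeff_C_mul]
      rw [this]
      exact (ih' k).sub (ha'.mul (ih' (k + 1)))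

open Classical in
/-- the roots of `P(t, T)` -/
noncomputable def rts (P : (MvPolynomial (Fin n) ℂ)[X]) (t : Fin n → ℂ) : Finset ℂ :=
  (spec P t).roots.toFinset

open Classical in
/-- partial product of `T - z` over the roots `z` of `P(t, T)` with `(t, z) ∈ u`. -/
noncomputable def G (P : (MvPolynomial (Fin n) ℂ)[X]) (u : Set ((Fin n → ℂ) × ℂ))
    (t : Fin n → ℂ) : ℂ[X] :=
  ∏ z ∈ (rts P t).filter (fun z => (t, z) ∈ u), (X - C z)

lemma spec_monic {P : (MvPolynomial (Fin n) ℂ)[X]} (hP : P.Monic) (t : Fin n → ℂ) :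
    (spec P t).Monic := hP.map _

lemma spec_natDegree {P : (MvPolynomial (Fin n) ℂ)[X]} (hP : P.Monic) (t : Fin n → ℂ) :
    (spec P t).natDegree = P.natDegree := hP.natDegree_map _

lemma mem_rts {P : (MvPolynomial (Fin n) ℂ)[X]} (hP : P.Monic) (t : Fin n → ℂ) (z : ℂ) :
    z ∈ rts P t ↔ (spec P t).eval z = 0 := by
  classical
  rw [rts, Multiset.mem_toFinset, mem_roots (spec_monic hP t).ne_zero, IsRoot.def]

lemma card_rts_le {P : (MvPolynomial (Fin n) ℂ)[X]} (hP : P.Monic) (t : Fin n → ℂ) :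
    (rts P t).card ≤ P.natDegree := by
  classical
  rw [← spec_natDegree hP t]
  exact (Multiset.toFinset_card_le _).trans (card_roots' _)

lemma card_rts_eq {P : (MvPolynomial (Fin n) ℂ)[X]} (hP : P.Monic) (t : Fin n → ℂ)
    (hsep : (spec P t).Separable) : (rts P t).card = P.natDegree := by
  classical
  rw [← spec_natDegree hP t, rts, Multiset.toFinset_card_of_nodup (nodup_roots hsep)]
  exact (IsAlgClosed.splits (spec P t)).natDegree_eq_card_roots.symm

lemma prod_rts_eq {P : (MvPolynomial (Fin n) ℂ)[X]} (hP : P.Monic) (t : Fin n → ℂ)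
    (hsep : (spec P t).Separable) : ∏ z ∈ rts P t, (X - C z) = spec P t := by
  classical
  conv_rhs => rw [(IsAlgClosed.splits (spec P t)).eq_prod_roots_of_monic (spec_monic hP t)]
  rw [Finset.prod_eq_multiset_prod, rts, Multiset.toFinset_val,
    Multiset.dedup_eq_self.2 (nodup_roots hsep)]

/-- local structure of the partial products near a point where `P` is separable. -/
theorem exists_local_G {P : (MvPolynomial (Fin n) ℂ)[X]} (hP : P.Monic)
    (h : MvPolynomial (Fin n) ℂ) (u v : Set ((Fin n → ℂ) × ℂ)) (hu : IsOpen u) (hv : IsOpen v)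
    (hcov : ∀ t z, MvPolynomial.eval t h ≠ 0 → (spec P t).eval z = 0 → (t, z) ∈ u ∨ (t, z) ∈ v)
    (hdisj : ∀ t z, MvPolynomial.eval t h ≠ 0 → (spec P t).eval z = 0 →
      ¬ ((t, z) ∈ u ∧ (t, z) ∈ v))
    (t₀ : Fin n → ℂ) (ht₀ : MvPolynomial.eval t₀ h ≠ 0) (hsep : (spec P t₀).Separable) :
    ∃ (s : Finset ℂ) (σ : ℂ → (Fin n → ℂ) → ℂ), (∀ z ∈ s, DifferentiableAt ℂ (σ z) t₀) ∧
      ∀ᶠ t in 𝓝 t₀, G P u t = ∏ z ∈ s, (X - C (σ z t)) := by
  classical
  -- local roots
  have hloc : ∀ z ∈ rts P t₀, ∃ σ : (Fin n → ℂ) → ℂ, σ t₀ = z ∧ DifferentiableAt ℂ σ t₀ ∧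
      ∀ᶠ t in 𝓝 t₀, (spec P t).eval (σ t) = 0 := by
    intro z hz
    have hz0 := (mem_rts hP t₀ z).1 hz
    refine exists_local_root P t₀ z hz0 ?_
    have := hsep.eval₂_derivative_ne_zero (RingHom.id ℂ) (x := z) (by simpa [eval₂_id] using hz0)
    simpa [eval₂_id] using this
  choose! σ hσ0 hσd hσr using hloc
  refine ⟨(rts P t₀).filter (fun z => (t₀, z) ∈ u), σ,
    fun z hz => hσd z (Finset.mem_filter.1 hz).1, ?_⟩
  -- eventual properties
  have e1 : ∀ᶠ t in 𝓝 t₀, ∀ z ∈ rts P t₀, (spec P t).eval (σ z t) = 0 :=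
    (Filter.eventually_all_finset _).2 hσr
  have e2 : ∀ᶠ t in 𝓝 t₀, ∀ z ∈ rts P t₀, ∀ z' ∈ rts P t₀, z ≠ z' → σ z t ≠ σ z' t := by
    refine (Filter.eventually_all_finset _).2 fun z hz => (Filter.eventually_all_finset _).2
      fun z' hz' => ?_
    by_cases hzz : z = z'
    · exact Filter.Eventually.of_forall fun t h => (h hzz).elim
    · have hc : ContinuousAt (fun t => σ z t - σ z' t) t₀ :=
        ((hσd z hz).continuousAt).sub ((hσd z' hz').continuousAt)
      have hne : σ z t₀ - σ z' t₀ ≠ 0 := by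
        rw [hσ0 z hz, hσ0 z' hz']
        exact sub_ne_zero.2 hzz
      filter_upwards [hc.eventually_ne hne] with t ht _
      exact sub_ne_zero.1 ht
  have e3 : ∀ᶠ t in 𝓝 t₀, MvPolynomial.eval t h ≠ 0 :=
    ((MvPolynomial.continuous_eval h).continuousAt).eventually_ne ht₀
  have e4 : ∀ᶠ t in 𝓝 t₀, ∀ z ∈ rts P t₀,
      ((t₀, z) ∈ u → (t, σ z t) ∈ u) ∧ ((t₀, z) ∈ v → (t, σ z t) ∈ v) := by
    refine (Filter.eventually_all_finset _).2 fun z hz => ?_
    have hc : ContinuousAt (fun t => (t, σ z t)) t₀ :=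
      continuousAt_id.prodMk (hσd z hz).continuousAt
    have hval : (fun t => (t, σ z t)) t₀ = (t₀, z) := by simp [hσ0 z hz]
    have a1 : (t₀, z) ∈ u → ∀ᶠ t in 𝓝 t₀, (t, σ z t) ∈ u := fun hm =>
      hc.eventually (hu.mem_nhds (by rw [hval]; exact hm))
    have a2 : (t₀, z) ∈ v → ∀ᶠ t in 𝓝 t₀, (t, σ z t) ∈ v := fun hm =>
      hc.eventually (hv.mem_nhds (by rw [hval]; exact hm))
    by_cases hm1 : (t₀, z) ∈ u <;> by_cases hm2 : (t₀, z) ∈ v
    · filter_upwards [a1 hm1, a2 hm2] with t h1 h2 using ⟨fun _ => h1, fun _ => h2⟩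
    · filter_upwards [a1 hm1] with t h1 using ⟨fun _ => h1, fun h => (hm2 h).elim⟩
    · filter_upwards [a2 hm2] with t h2 using ⟨fun h => (hm1 h).elim, fun _ => h2⟩
    · exact Filter.Eventually.of_forall fun t => ⟨fun h => (hm1 h).elim, fun h => (hm2 h).elim⟩
  filter_upwards [e1, e2, e3, e4] with t h1 h2 h3 h4
  -- the roots at `t`
  have hinj : Set.InjOn (fun z => σ z t) (rts P t₀ : Set ℂ) := by
    intro z hz z' hz' hzz
    by_contra hne
    exact h2 z hz z' hz' hne hzz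
  have himg : (rts P t₀).image (fun z => σ z t) = rts P t := by
    refine Finset.eq_of_subset_of_card_le ?_ ?_
    · intro w hw
      obtain ⟨z, hz, rfl⟩ := Finset.mem_image.1 hw
      exact (mem_rts hP t _).2 (h1 z hz)
    · rw [Finset.card_image_of_injOn hinj, card_rts_eq hP t₀ hsep]
      exact card_rts_le hP t
  rw [G, ← himg, Finset.filter_image]
  have hfil : (rts P t₀).filter (fun z => (t, σ z t) ∈ u) =
      (rts P t₀).filter (fun z => (t₀, z) ∈ u) := by
    refine Finset.filter_congr fun z hz => ?_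
    constructor
    · intro hm
      by_contra hnm
      have hz0 := (mem_rts hP t₀ z).1 hz
      have hv' : (t₀, z) ∈ v := (hcov t₀ z ht₀ hz0).resolve_left hnm
      exact hdisj t (σ z t) h3 (h1 z hz) ⟨hm, (h4 z hz).2 hv'⟩
    · exact (h4 z hz).1
  rw [hfil]
  rw [Finset.prod_image]
  intro z hz z' hz' hzz
  exact hinj (Finset.mem_filter.1 hz).1 (Finset.mem_filter.1 hz').1 hzz

theorem differentiableAt_coeff_G {P : (MvPolynomial (Fin n) ℂ)[X]} (hP : P.Monic)
    (h : MvPolynomial (Fin n) ℂ) (u v : Set ((Fin n → ℂ) × ℂ)) (hu : IsOpen u) (hv : IsOpen v)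
    (hcov : ∀ t z, MvPolynomial.eval t h ≠ 0 → (spec P t).eval z = 0 → (t, z) ∈ u ∨ (t, z) ∈ v)
    (hdisj : ∀ t z, MvPolynomial.eval t h ≠ 0 → (spec P t).eval z = 0 →
      ¬ ((t, z) ∈ u ∧ (t, z) ∈ v))
    (t₀ : Fin n → ℂ) (ht₀ : MvPolynomial.eval t₀ h ≠ 0) (hsep : (spec P t₀).Separable) (k : ℕ) :
    DifferentiableAt ℂ (fun t => (G P u t).coeff k) t₀ := by
  obtain ⟨s, σ, hσ, hev⟩ := exists_local_G hP h u v hu hv hcov hdisj t₀ ht₀ hsep
  have hd := differentiableAt_coeff_prod s σ t₀ hσ k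
  refine hd.congr_of_eventuallyEq ?_
  filter_upwards [hev] with t ht
  rw [ht]

end Groth.Agent.Lib.Seat20.ConnAn3
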