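import Mathlib
import Groth.Agent.Lib.Seat20ConnAn3

/-!
# Connectedness of an irreducible finite etale cover of a hypersurface complement in `ℂⁿ`

`isPreconnected_rootSet`: for `P ∈ ℂ[t₁..tₙ][T]` monic and irreducible, `h ≠ 0` with `P(t,T)`
separable whenever `h(t) ≠ 0`, the set `{(t,z) | h(t) ≠ 0 ∧ P(t,z) = 0}` is preconnected.
-/

set_option autoImplicit false

namespace Groth.Agent.Lib.Seat20.ConnAn4

open Polynomial Filter Topology Set Function
open Groth.Agent.Lib.Seat20.ConnAn2 Groth.Agent.Lib.Seat20.ConnAn3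

variable {n : ℕ}

lemma exists_growth (q : MvPolynomial (Fin n) ℂ) :
    ∃ (C : ℝ) (N : ℕ), 0 ≤ C ∧ ∀ t : Fin n → ℂ, ‖MvPolynomial.eval t q‖ ≤ C * (1 + ‖t‖) ^ N := by
  induction q using MvPolynomial.induction_on with
  | C a =>
    refine ⟨‖a‖, 0, norm_nonneg _, fun t => ?_⟩
    simp
  | add p q hp hq =>
    obtain ⟨C1, N1, hC1, h1⟩ := hp
    obtain ⟨C2, N2, hC2, h2⟩ := hq
    refine ⟨C1 + C2, max N1 N2, add_nonneg hC1 hC2, fun t => ?_⟩
    have hb : (1 : ℝ) ≤ 1 + ‖t‖ := by linarith [norm_nonneg t]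
    have e1 : (1 + ‖t‖) ^ N1 ≤ (1 + ‖t‖) ^ max N1 N2 := pow_le_pow_right₀ hb (le_max_left _ _)
    have e2 : (1 + ‖t‖) ^ N2 ≤ (1 + ‖t‖) ^ max N1 N2 := pow_le_pow_right₀ hb (le_max_right _ _)
    rw [map_add]
    calc ‖MvPolynomial.eval t p + MvPolynomial.eval t q‖
        ≤ ‖MvPolynomial.eval t p‖ + ‖MvPolynomial.eval t q‖ := norm_add_le _ _
      _ ≤ C1 * (1 + ‖t‖) ^ N1 + C2 * (1 + ‖t‖) ^ N2 := add_le_add (h1 t) (h2 t)
      _ ≤ C1 * (1 + ‖t‖) ^ max N1 N2 + C2 * (1 + ‖t‖) ^ max N1 N2 :=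
        add_le_add (mul_le_mul_of_nonneg_left e1 hC1) (mul_le_mul_of_nonneg_left e2 hC2)
      _ = (C1 + C2) * (1 + ‖t‖) ^ max N1 N2 := by ring
  | mul_X p i hp =>
    obtain ⟨C1, N1, hC1, h1⟩ := hp
    refine ⟨C1, N1 + 1, hC1, fun t => ?_⟩
    rw [map_mul, MvPolynomial.eval_X, norm_mul, pow_succ, ← mul_assoc]
    have : ‖t i‖ ≤ 1 + ‖t‖ := by linarith [norm_le_pi_norm t i]
    exact mul_le_mul (h1 t) this (norm_nonneg _) (by positivity)

/-- the Cauchy bound of a monic polynomial -/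
lemma norm_root_le (p : ℂ[X]) (hp : p.Monic) (z : ℂ) (hz : p.eval z = 0) :
    ‖z‖ ≤ 1 + ∑ k ∈ Finset.range p.natDegree, ‖p.coeff k‖ := by
  have h1 := IsRoot.norm_lt_cauchyBound hp.ne_zero (a := z) hz
  have h2 : cauchyBound p ≤ (∑ k ∈ Finset.range p.natDegree, ‖p.coeff k‖₊) + 1 := by
    unfold cauchyBound
    rw [hp.leadingCoeff, nnnorm_one, div_one]
    gcongr
    exact Finset.sup_le fun i hi =>
      Finset.single_le_sum (f := fun k => ‖p.coeff k‖₊) (fun _ _ => zero_le) hi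
  have h3 : (‖z‖₊ : ℝ) ≤ ((∑ k ∈ Finset.range p.natDegree, ‖p.coeff k‖₊) + 1 : NNReal) :=
    NNReal.coe_le_coe.2 (h1.le.trans h2)
  simp only [coe_nnnorm, NNReal.coe_add, NNReal.coe_sum, NNReal.coe_one] at h3
  linarith

/-- uniform polynomial bound on the roots -/
lemma exists_root_growth {P : (MvPolynomial (Fin n) ℂ)[X]} (hP : P.Monic) :
    ∃ (C : ℝ) (N : ℕ), 0 ≤ C ∧ ∀ (t : Fin n → ℂ) (z : ℂ), (spec P t).eval z = 0 →
      ‖z‖ ≤ C * (1 + ‖t‖) ^ N := by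
  classical
  choose Ck Nk hCk hk using fun k : ℕ => exists_growth (P.coeff k)
  refine ⟨1 + ∑ k ∈ Finset.range P.natDegree, Ck k, ∑ k ∈ Finset.range P.natDegree, Nk k,
    by have := Finset.sum_nonneg (fun k (_ : k ∈ Finset.range P.natDegree) => hCk k); linarith,
    fun t z hz => ?_⟩
  have h1 := norm_root_le (spec P t) (spec_monic hP t) z hz
  rw [spec_natDegree hP t] at h1
  refine h1.trans ?_
  have hb : (1 : ℝ) ≤ 1 + ‖t‖ := by linarith [norm_nonneg t]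
  set N := ∑ k ∈ Finset.range P.natDegree, Nk k with hN
  have h2 : ∀ k ∈ Finset.range P.natDegree, ‖(spec P t).coeff k‖ ≤ Ck k * (1 + ‖t‖) ^ N := by
    intro k hk'
    have : (spec P t).coeff k = MvPolynomial.eval t (P.coeff k) := by
      rw [spec, coeff_map]
    rw [this]
    refine (hk k t).trans (mul_le_mul_of_nonneg_left ?_ (hCk k))
    exact pow_le_pow_right₀ hb (Finset.single_le_sum (f := Nk) (fun _ _ => Nat.zero_le _) hk')
  calc 1 + ∑ k ∈ Finset.range P.natDegree, ‖(spec P t).coeff k‖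
      ≤ 1 * (1 + ‖t‖) ^ N + ∑ k ∈ Finset.range P.natDegree, Ck k * (1 + ‖t‖) ^ N := by
        refine add_le_add ?_ (Finset.sum_le_sum h2)
        rw [one_mul]
        exact one_le_pow₀ hb
    _ = (1 + ∑ k ∈ Finset.range P.natDegree, Ck k) * (1 + ‖t‖) ^ N := by
        rw [add_mul, Finset.sum_mul]

lemma G_monic (P : (MvPolynomial (Fin n) ℂ)[X]) (u : Set ((Fin n → ℂ) × ℂ)) (t : Fin n → ℂ) :
    (G P u t).Monic := monic_prod_X_sub_C _ _

open Classical in
lemma G_natDegree (P : (MvPolynomial (Fin n) ℂ)[X]) (u : Set ((Fin n → ℂ) × ℂ)) (t : Fin n → ℂ) :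
    (G P u t).natDegree = ((rts P t).filter (fun z => (t, z) ∈ u)).card := by
  rw [G]
  exact natDegree_finsetProd_X_sub_C_eq_card ((rts P t).filter (fun z => (t, z) ∈ u)) id

lemma G_natDegree_le {P : (MvPolynomial (Fin n) ℂ)[X]} (hP : P.Monic)
    (u : Set ((Fin n → ℂ) × ℂ)) (t : Fin n → ℂ) : (G P u t).natDegree ≤ P.natDegree := by
  classical
  rw [G_natDegree]
  exact (Finset.card_filter_le _ _).trans (card_rts_le hP t)

/-- polynomial growth of the coefficients of the partial products -/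
lemma exists_G_growth {P : (MvPolynomial (Fin n) ℂ)[X]} (hP : P.Monic)
    (u : Set ((Fin n → ℂ) × ℂ)) :
    ∃ (C : ℝ) (N : ℕ), ∀ (t : Fin n → ℂ) (k : ℕ), ‖(G P u t).coeff k‖ ≤ C * (1 + ‖t‖) ^ N := by
  classical
  obtain ⟨C0, N0, hC0, h0⟩ := exists_root_growth hP
  set d := P.natDegree with hd
  refine ⟨(max C0 1) ^ d * d.choose (d / 2), N0 * d, fun t k => ?_⟩
  have hb : (1 : ℝ) ≤ 1 + ‖t‖ := by linarith [norm_nonneg t]
  have hroots : ∀ z ∈ (map (RingHom.id ℂ) (G P u t)).roots, ‖z‖ ≤ C0 * (1 + ‖t‖) ^ N0 := by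
    intro z hz
    rw [Polynomial.map_id, G, roots_prod_X_sub_C] at hz
    have hz' : z ∈ rts P t := (Finset.mem_filter.1 hz).1
    exact h0 t z ((mem_rts hP t z).1 hz')
  have := coeff_bdd_of_roots_le (RingHom.id ℂ) (G_monic P u t)
    (by rw [Polynomial.map_id]; exact IsAlgClosed.splits _) (G_natDegree_le hP u t) hroots k
  rw [Polynomial.map_id] at this
  refine this.trans ?_
  have h1 : max (C0 * (1 + ‖t‖) ^ N0) 1 ≤ max C0 1 * (1 + ‖t‖) ^ N0 := by
    have hp1 : (1 : ℝ) ≤ (1 + ‖t‖) ^ N0 := one_le_pow₀ hb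
    refine max_le ?_ ?_
    · exact mul_le_mul_of_nonneg_right (le_max_left _ _) (by positivity)
    · calc (1 : ℝ) = 1 * 1 := (one_mul _).symm
        _ ≤ max C0 1 * (1 + ‖t‖) ^ N0 := mul_le_mul (le_max_right _ _) hp1 zero_le_one
          (le_trans zero_le_one (le_max_right _ _))
  calc max (C0 * (1 + ‖t‖) ^ N0) 1 ^ d * (d.choose (d / 2) : ℝ)
      ≤ (max C0 1 * (1 + ‖t‖) ^ N0) ^ d * (d.choose (d / 2) : ℝ) := by
        refine mul_le_mul_of_nonneg_right (pow_le_pow_left₀ ?_ h1 d) (Nat.cast_nonneg _)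
        exact le_trans zero_le_one (le_max_right _ _)
    _ = max C0 1 ^ d * (d.choose (d / 2) : ℝ) * (1 + ‖t‖) ^ (N0 * d) := by
        rw [mul_pow, ← pow_mul]; ring

/-- a polynomial vanishing on a hypersurface complement vanishes. -/
lemma eq_zero_of_eval_eq_zero (h : MvPolynomial (Fin n) ℂ) (hh : h ≠ 0)
    (q : MvPolynomial (Fin n) ℂ) (hq : ∀ t, MvPolynomial.eval t h ≠ 0 → MvPolynomial.eval t q = 0) :
    q = 0 := by
  have : q * h = 0 := by
    apply MvPolynomial.funext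
    intro t
    rw [map_mul, map_zero]
    by_cases ht : MvPolynomial.eval t h = 0
    · rw [ht, mul_zero]
    · rw [hq t ht, zero_mul]
  exact (mul_eq_zero.1 this).resolve_right hh

lemma poly_eq_of_map_eq (h : MvPolynomial (Fin n) ℂ) (hh : h ≠ 0)
    (Q Q' : (MvPolynomial (Fin n) ℂ)[X])
    (hq : ∀ t, MvPolynomial.eval t h ≠ 0 →
      Q.map (MvPolynomial.eval t) = Q'.map (MvPolynomial.eval t)) : Q = Q' := by
  ext1 k
  rw [← sub_eq_zero]
  refine eq_zero_of_eval_eq_zero h hh _ fun t ht => ?_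
  rw [map_sub, ← coeff_map, ← coeff_map, hq t ht, sub_self]

/-- the partial products are specializations of a polynomial over `ℂ[t]`. -/
theorem exists_global_G {P : (MvPolynomial (Fin n) ℂ)[X]} (hP : P.Monic)
    (h : MvPolynomial (Fin n) ℂ) (hh : h ≠ 0)
    (hsep : ∀ t, MvPolynomial.eval t h ≠ 0 → (spec P t).Separable)
    (u v : Set ((Fin n → ℂ) × ℂ)) (hu : IsOpen u) (hv : IsOpen v)
    (hcov : ∀ t z, MvPolynomial.eval t h ≠ 0 → (spec P t).eval z = 0 → (t, z) ∈ u ∨ (t, z) ∈ v)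
    (hdisj : ∀ t z, MvPolynomial.eval t h ≠ 0 → (spec P t).eval z = 0 →
      ¬ ((t, z) ∈ u ∧ (t, z) ∈ v)) :
    ∃ 𝔾 : (MvPolynomial (Fin n) ℂ)[X], ∀ t, MvPolynomial.eval t h ≠ 0 →
      𝔾.map (MvPolynomial.eval t) = G P u t := by
  classical
  obtain ⟨C, N, hCN⟩ := exists_G_growth hP u
  have hk : ∀ k : ℕ, ∃ p : MvPolynomial (Fin n) ℂ, ∀ t, MvPolynomial.eval t h ≠ 0 →
      (G P u t).coeff k = MvPolynomial.eval t p := fun k =>
    exists_mvPoly_of_growth n h hh (fun t => (G P u t).coeff k) N C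
      (fun t ht => differentiableAt_coeff_G hP h u v hu hv hcov hdisj t ht (hsep t ht) k)
      (fun t _ => hCN t k)
  choose p hp using hk
  set d := P.natDegree with hd
  refine ⟨∑ k ∈ Finset.range (d + 1), Polynomial.C (p k) * X ^ k, fun t ht => ?_⟩
  ext1 k
  rw [coeff_map, finsetSum_coeff]
  simp only [coeff_C_mul_X_pow]
  rw [Finset.sum_ite_eq]
  split_ifs with hkd
  · exact (hp k t ht).symm
  · rw [map_zero]
    symm
    refine coeff_eq_zero_of_natDegree_lt ?_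
    have := G_natDegree_le hP u t
    simp only [Finset.mem_range, not_lt] at hkd
    omega

theorem isPreconnected_rootSet {P : (MvPolynomial (Fin n) ℂ)[X]} (hP : P.Monic)
    (hirr : Irreducible P) (h : MvPolynomial (Fin n) ℂ) (hh : h ≠ 0)
    (hsep : ∀ t, MvPolynomial.eval t h ≠ 0 → (spec P t).Separable) :
    IsPreconnected {w : (Fin n → ℂ) × ℂ | MvPolynomial.eval w.1 h ≠ 0 ∧
      (spec P w.1).eval w.2 = 0} := by
  classical
  rw [isPreconnected_iff_subset_of_disjoint]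
  intro u v hu hv hcov hdisj
  have hcov' : ∀ t z, MvPolynomial.eval t h ≠ 0 → (spec P t).eval z = 0 →
      (t, z) ∈ u ∨ (t, z) ∈ v := fun t z h1 h2 => hcov ⟨h1, h2⟩
  have hdisj' : ∀ t z, MvPolynomial.eval t h ≠ 0 → (spec P t).eval z = 0 →
      ¬ ((t, z) ∈ u ∧ (t, z) ∈ v) := fun t z h1 h2 h3 =>
    (Set.eq_empty_iff_forall_notMem.1 hdisj) (t, z) ⟨⟨h1, h2⟩, h3⟩
  obtain ⟨𝔾u, h𝔾u⟩ := exists_global_G hP h hh hsep u v hu hv hcov' hdisj'
  obtain ⟨𝔾v, h𝔾v⟩ := exists_global_G hP h hh hsep v u hv hu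
    (fun t z h1 h2 => (hcov' t z h1 h2).symm) (fun t z h1 h2 h3 => hdisj' t z h1 h2 h3.symm)
  have hprod : P = 𝔾u * 𝔾v := by
    refine poly_eq_of_map_eq h hh _ _ fun t ht => ?_
    rw [Polynomial.map_mul, h𝔾u t ht, h𝔾v t ht]
    change spec P t = _
    rw [← prod_rts_eq hP t (hsep t ht), G, G]
    have hfil : (rts P t).filter (fun z => (t, z) ∈ v) =
        (rts P t).filter (fun z => ¬ (t, z) ∈ u) := by
      refine Finset.filter_congr fun z hz => ?_
      have hz0 := (mem_rts hP t z).1 hz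
      constructor
      · exact fun hzv hzu => hdisj' t z ht hz0 ⟨hzu, hzv⟩
      · exact fun hzu => (hcov' t z ht hz0).resolve_left hzu
    rw [hfil, Finset.prod_filter_mul_prod_filter_not]
  have hunit : ∀ (w : Set ((Fin n → ℂ) × ℂ)) (𝔾 : (MvPolynomial (Fin n) ℂ)[X]),
      (∀ t, MvPolynomial.eval t h ≠ 0 → 𝔾.map (MvPolynomial.eval t) = G P w t) → IsUnit 𝔾 →
      ∀ t z, MvPolynomial.eval t h ≠ 0 → (spec P t).eval z = 0 → (t, z) ∉ w := by
    intro w 𝔾 h𝔾 hun t z ht hz hw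
    have h1 : IsUnit (G P w t) := by
      rw [← h𝔾 t ht]
      exact hun.map (Polynomial.mapRingHom (MvPolynomial.eval t))
    have h2 := natDegree_eq_zero_of_isUnit h1
    rw [G_natDegree, Finset.card_eq_zero] at h2
    have : z ∈ (rts P t).filter (fun z => (t, z) ∈ w) :=
      Finset.mem_filter.2 ⟨(mem_rts hP t z).2 hz, hw⟩
    rw [h2] at this
    simp at this
  rcases hirr.isUnit_or_isUnit hprod with hU | hV
  · right
    rintro ⟨t, z⟩ ⟨ht, hz⟩
    exact (hcov' t z ht hz).resolve_left (hunit u 𝔾u h𝔾u hU t z ht hz)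
  · left
    rintro ⟨t, z⟩ ⟨ht, hz⟩
    exact (hcov' t z ht hz).resolve_right (hunit v 𝔾v h𝔾v hV t z ht hz)

end Groth.Agent.Lib.Seat20.ConnAn4
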