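import Mathlib
import Groth.Agent.Lib.Seat20ConnAn4
import Groth.Agent.Lib.Seat20ConnAlg

/-!
# A connected parameter space for the `ℂ`-points of a finitely generated `ℂ`-domain

`exists_param`: for a finitely generated `ℂ`-algebra `A` which is a domain there are a preconnected
space `T`, a nonzero `f : A` and a map `Ψ : T → (A →ₐ[ℂ] ℂ)`, continuous for the topology of
pointwise convergence, whose image contains every point `y` with `y f ≠ 0`.
-/

set_option autoImplicit false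

namespace Groth.Agent.Lib.Seat20.ConnAlg2

open Polynomial
open Groth.Agent.Lib.Seat20.ConnAn3 Groth.Agent.Lib.Seat20.ConnAn4 Groth.Agent.Lib.Seat20.ConnAlg

section Point

variable {n : ℕ} {A : Type*} [CommRing A] [Algebra ℂ A]
  (g : MvPolynomial (Fin n) ℂ →ₐ[ℂ] A) (θ : A) (P : (MvPolynomial (Fin n) ℂ)[X])
  (h : MvPolynomial (Fin n) ℂ)
  (hdvd : ∀ Q : (MvPolynomial (Fin n) ℂ)[X], Q.eval₂ (g : MvPolynomial (Fin n) ℂ →+* A) θ = 0 → P ∣ Q)
  (hrep : ∀ a : A, ∃ Q : (MvPolynomial (Fin n) ℂ)[X],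
    g h * a = Q.eval₂ (g : MvPolynomial (Fin n) ℂ →+* A) θ)
  (t : Fin n → ℂ) (z : ℂ) (ht : MvPolynomial.eval t h ≠ 0)
  (hz : P.eval₂ (MvPolynomial.eval t) z = 0)

/-- the value at `a` of the point of `Spec A` attached to `(t, z)` -/
noncomputable def ptVal (a : A) : ℂ :=
  (Classical.choose (hrep a)).eval₂ (MvPolynomial.eval t) z / MvPolynomial.eval t h

include hdvd hz in
lemma ptVal_eq (a : A) (Q : (MvPolynomial (Fin n) ℂ)[X])
    (hQ : g h * a = Q.eval₂ (g : MvPolynomial (Fin n) ℂ →+* A) θ) :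
    ptVal g θ h hrep t z a = Q.eval₂ (MvPolynomial.eval t) z / MvPolynomial.eval t h := by
  have h0 := Classical.choose_spec (hrep a)
  have h1 : (Q - Classical.choose (hrep a)).eval₂ (g : MvPolynomial (Fin n) ℂ →+* A) θ = 0 := by
    rw [eval₂_sub, ← hQ, ← h0, sub_self]
  obtain ⟨S, hS⟩ := hdvd _ h1
  have h2 : (Q - Classical.choose (hrep a)).eval₂ (MvPolynomial.eval t) z = 0 := by
    rw [hS, eval₂_mul, hz, zero_mul]
  rw [eval₂_sub, sub_eq_zero] at h2
  rw [ptVal, h2]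

include hdvd hz ht in
/-- the point of `Spec A` attached to `(t, z)` -/
noncomputable def pt : A →ₐ[ℂ] ℂ where
  toFun := ptVal g θ h hrep t z
  map_one' := by
    rw [ptVal_eq g θ P h hdvd hrep t z hz 1 (C h) (by rw [eval₂_C, mul_one]; rfl), eval₂_C,
      div_self ht]
  map_mul' a b := by
    obtain ⟨Qa, hQa⟩ := hrep a
    obtain ⟨Qb, hQb⟩ := hrep b
    obtain ⟨Qab, hQab⟩ := hrep (a * b)
    rw [ptVal_eq g θ P h hdvd hrep t z hz a Qa hQa, ptVal_eq g θ P h hdvd hrep t z hz b Qb hQb,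
      ptVal_eq g θ P h hdvd hrep t z hz (a * b) Qab hQab]
    have h1 : (C h * Qab - Qa * Qb).eval₂ (g : MvPolynomial (Fin n) ℂ →+* A) θ = 0 := by
      rw [eval₂_sub, eval₂_mul, eval₂_mul, eval₂_C, ← hQab, ← hQa, ← hQb]
      change g h * (g h * (a * b)) - g h * a * (g h * b) = 0
      ring
    obtain ⟨S, hS⟩ := hdvd _ h1
    have h2 : (C h * Qab - Qa * Qb).eval₂ (MvPolynomial.eval t) z = 0 := by
      rw [hS, eval₂_mul, hz, zero_mul]
    rw [eval₂_sub, eval₂_mul, eval₂_mul, eval₂_C, sub_eq_zero] at h2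
    rw [div_mul_div_comm, ← h2]
    field_simp
  map_zero' := by
    rw [ptVal_eq g θ P h hdvd hrep t z hz 0 0 (by simp)]
    simp
  map_add' a b := by
    obtain ⟨Qa, hQa⟩ := hrep a
    obtain ⟨Qb, hQb⟩ := hrep b
    rw [ptVal_eq g θ P h hdvd hrep t z hz a Qa hQa, ptVal_eq g θ P h hdvd hrep t z hz b Qb hQb,
      ptVal_eq g θ P h hdvd hrep t z hz (a + b) (Qa + Qb) (by rw [mul_add, hQa, hQb, eval₂_add]),
      eval₂_add, add_div]
  commutes' c := by
    have hc : g h * algebraMap ℂ A c =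
        (C (h * MvPolynomial.C c)).eval₂ (g : MvPolynomial (Fin n) ℂ →+* A) θ := by
      rw [eval₂_C]
      change _ = g (h * MvPolynomial.C c)
      rw [map_mul]
      congr 1
      have := g.commutes c
      rw [← this]
      rfl
    change ptVal g θ h hrep t z _ = _
    rw [ptVal_eq g θ P h hdvd hrep t z hz _ _ hc, eval₂_C, map_mul, MvPolynomial.eval_C]
    rw [mul_div_assoc, mul_comm, div_mul_cancel₀ _ ht]
    simp

lemma pt_apply (a : A) (Q : (MvPolynomial (Fin n) ℂ)[X])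
    (hQ : g h * a = Q.eval₂ (g : MvPolynomial (Fin n) ℂ →+* A) θ) :
    pt g θ P h hdvd hrep t z ht hz a =
      Q.eval₂ (MvPolynomial.eval t) z / MvPolynomial.eval t h :=
  ptVal_eq g θ P h hdvd hrep t z hz a Q hQ

end Point

theorem exists_param (A : Type*) [CommRing A] [IsDomain A] [Algebra ℂ A]
    [Algebra.FiniteType ℂ A] :
    ∃ (T : Type) (_ : TopologicalSpace T) (_ : PreconnectedSpace T) (f : A)
      (Ψ : T → (A →ₐ[ℂ] ℂ)), f ≠ 0 ∧ (∀ a : A, Continuous fun x => Ψ x a) ∧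
        ∀ y : A →ₐ[ℂ] ℂ, y f ≠ 0 → y ∈ Set.range Ψ := by
  classical
  obtain ⟨n, g, hginj, hgfin⟩ := exists_finite_inj_algHom_of_fg ℂ A
  let _ : Algebra (MvPolynomial (Fin n) ℂ) A := g.toRingHom.toAlgebra
  have : Module.Finite (MvPolynomial (Fin n) ℂ) A := hgfin
  have hinj : Function.Injective (algebraMap (MvPolynomial (Fin n) ℂ) A) := hginj
  obtain ⟨θ, h₁, D, U, V, hh₁, hD, hdvd0, hrep0, hUV, hmonic, hirr⟩ :=
    exists_generic_presentation (MvPolynomial (Fin n) ℂ) A hinj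
  set P := minpoly (MvPolynomial (Fin n) ℂ) θ with hP
  set h := h₁ * D with hh
  have hh0 : h ≠ 0 := mul_ne_zero hh₁ hD
  have haeval : ∀ Q : (MvPolynomial (Fin n) ℂ)[X],
      aeval θ Q = Q.eval₂ (g : MvPolynomial (Fin n) ℂ →+* A) θ := fun Q => rfl
  have hdvd : ∀ Q : (MvPolynomial (Fin n) ℂ)[X],
      Q.eval₂ (g : MvPolynomial (Fin n) ℂ →+* A) θ = 0 → P ∣ Q := fun Q hQ =>
    hdvd0 Q (by rw [haeval]; exact hQ)
  have hrep : ∀ a : A, ∃ Q : (MvPolynomial (Fin n) ℂ)[X],
      g h * a = Q.eval₂ (g : MvPolynomial (Fin n) ℂ →+* A) θ := by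
    intro a
    obtain ⟨Q, hQ⟩ := hrep0 a
    refine ⟨C D * Q, ?_⟩
    rw [eval₂_mul, eval₂_C, ← haeval, ← hQ, hh, map_mul, Algebra.smul_def]
    change g h₁ * g D * a = g D * (g h₁ * a)
    ring
  have hPθ : P.eval₂ (g : MvPolynomial (Fin n) ℂ →+* A) θ = 0 := by
    rw [← haeval]; exact minpoly.aeval _ θ
  have hsep : ∀ t, MvPolynomial.eval t h ≠ 0 → (spec P t).Separable := by
    intro t ht
    have hDt : MvPolynomial.eval t D ≠ 0 := by
      rw [hh, map_mul] at ht
      exact (mul_ne_zero_iff.1 ht).2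
    have := congrArg (Polynomial.map (MvPolynomial.eval t)) hUV
    rw [Polynomial.map_add, Polynomial.map_mul, Polynomial.map_mul, Polynomial.map_C,
      ← derivative_map] at this
    refine ⟨C (MvPolynomial.eval t D)⁻¹ * U.map (MvPolynomial.eval t),
      C (MvPolynomial.eval t D)⁻¹ * V.map (MvPolynomial.eval t), ?_⟩
    change _ * P.map _ + _ * derivative (P.map _) = 1
    rw [mul_assoc, mul_assoc, ← mul_add, this, ← C_mul, inv_mul_cancel₀ hDt, C_1]
  have hconn := isPreconnected_rootSet hmonic hirr h hh0 hsep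
  let T : Type := {w : (Fin n → ℂ) × ℂ // MvPolynomial.eval w.1 h ≠ 0 ∧ (spec P w.1).eval w.2 = 0}
  have hT : PreconnectedSpace T := Subtype.preconnectedSpace hconn
  have hzT : ∀ w : T, P.eval₂ (MvPolynomial.eval w.1.1) w.1.2 = 0 := fun w => by
    have := w.2.2
    rwa [spec, eval_map] at this
  refine ⟨T, inferInstance, hT, g h, fun w => pt g θ P h hdvd hrep w.1.1 w.1.2 w.2.1 (hzT w),
    ?_, ?_, ?_⟩
  · rw [Ne, map_eq_zero_iff g hginj]
    exact hh0
  · intro a
    obtain ⟨Q, hQ⟩ := hrep a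
    have : (fun w : T => pt g θ P h hdvd hrep w.1.1 w.1.2 w.2.1 (hzT w) a) =
        fun w : T => Φ Q w.1 / MvPolynomial.eval w.1.1 h := by
      funext w
      rw [pt_apply g θ P h hdvd hrep w.1.1 w.1.2 w.2.1 (hzT w) a Q hQ, Φ, spec, eval_map]
    rw [this]
    refine Continuous.div ((continuous_Φ Q).comp continuous_subtype_val) ?_ (fun w => w.2.1)
    exact (MvPolynomial.continuous_eval h).comp (continuous_fst.comp continuous_subtype_val)
  · intro y hy
    set t : Fin n → ℂ := fun i => y (g (MvPolynomial.X i)) with ht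
    set z : ℂ := y θ with hz
    have hyg : ∀ r : MvPolynomial (Fin n) ℂ, y (g r) = MvPolynomial.eval t r := by
      intro r
      have : y.comp g = MvPolynomial.aeval t := by
        apply MvPolynomial.algHom_ext
        intro i
        simp [ht]
      have h1 := congrArg (fun φ : MvPolynomial (Fin n) ℂ →ₐ[ℂ] ℂ => φ r) this
      simpa [MvPolynomial.aeval_eq_eval] using h1
    have hyQ : ∀ Q : (MvPolynomial (Fin n) ℂ)[X],
        y (Q.eval₂ (g : MvPolynomial (Fin n) ℂ →+* A) θ) = Q.eval₂ (MvPolynomial.eval t) z := by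
      intro Q
      have := Polynomial.hom_eval₂ Q (g : MvPolynomial (Fin n) ℂ →+* A) (y : A →+* ℂ) θ
      rw [RingHom.coe_coe] at this
      rw [this]
      congr 1
      ext r
      · simp [hyg]
      · simp [hyg]
    have hth : MvPolynomial.eval t h ≠ 0 := by rw [← hyg]; exact hy
    have hzP : P.eval₂ (MvPolynomial.eval t) z = 0 := by rw [← hyQ, hPθ, map_zero]
    have hzP' : (spec P t).eval z = 0 := by rw [spec, eval_map]; exact hzP
    refine ⟨⟨(t, z), hth, hzP'⟩, ?_⟩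
    apply AlgHom.ext
    intro a
    obtain ⟨Q, hQ⟩ := hrep a
    rw [pt_apply g θ P h hdvd hrep t z hth hzP a Q hQ, ← hyQ, ← hQ, map_mul, hyg,
      mul_div_assoc, mul_comm, div_mul_cancel₀ _ hth]

end Groth.Agent.Lib.Seat20.ConnAlg2
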