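import Mathlib
import Groth.Agent.Lib.Helper6AnPts
import Groth.Agent.Lib.Helper6AnFT
import Groth.Agent.Lib.Helper6AnCons
import Groth.Agent.Lib.Helper6AnSep
import Groth.Agent.Lib.Helper6AnDensity
import Groth.Agent.Lib.Seat20ConnAlg2

/-!
# Connectedness of the complex points of an integral scheme of finite type over `ℂ`
-/

set_option autoImplicit false

open AlgebraicGeometry CategoryTheory TopologicalSpace Opposite An Topology
open Groth.Agent.Lib.Helper6

namespace Groth.Agent.Lib.Seat20.ConnSch

variable {X : Scheme.{0}} [X.Over SC]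

/-- an open subset is locally constructible on a scheme locally of finite type over `ℂ`. -/
lemma isLocallyConstructible_of_isOpen [LocallyOfFiniteType (X ↘ SC)] {T : Set X}
    (hT : IsOpen T) : IsLocallyConstructible T := by
  have := isLocallyNoetherian_of_lft (X := X)
  exact isLocallyConstructible_of_isLocallyClosed hT.isLocallyClosed

/-- dense open subsets have dense sets of complex points -/
lemma dense_preimage_pt_of_isOpen [LocallyOfFiniteType (X ↘ SC)] {T : Set X}
    (hT : IsOpen T) (hd : Dense T) : Dense (Pts.pt ⁻¹' T : Set (Pts X)) :=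
  (dense_iff_pts T (isLocallyConstructible_of_isOpen hT)).1 hd

theorem preconnectedSpace_pts_of_integral_affine [IsAffine X] [IsIntegral X]
    [LocallyOfFiniteType (X ↘ SC)] : PreconnectedSpace (Pts X) := by
  let _ : Algebra ℂ Γ(X, ⊤) := (strHom X).toAlgebra
  have hft : Algebra.FiniteType ℂ Γ(X, ⊤) := strHom_finiteType (X := X)
  have hdom : IsDomain Γ(X, ⊤) := by
    have : Nonempty ↥(⊤ : X.Opens) := by
      obtain ⟨x⟩ := (inferInstance : Nonempty X)
      exact ⟨⟨x, trivial⟩⟩
    infer_instance
  obtain ⟨T, _, _, f, Ψ, hf, hcont, hsurj⟩ :=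
    Groth.Agent.Lib.Seat20.ConnAlg2.exists_param Γ(X, ⊤)
  let F : T → Pts X := fun x =>
    ptOfRingHom ((Ψ x : Γ(X, ⊤) →ₐ[ℂ] ℂ) : Γ(X, ⊤) →+* ℂ) (fun c => (Ψ x).commutes c)
  have hFev : ∀ x a, (F x).evTop a = Ψ x a := fun x a => evTop_ptOfRingHom _ _ a
  have hFc : Continuous F := by
    rw [(isInducing_evAll (X := X)).continuous_iff]
    refine continuous_pi fun a => ?_
    have : (fun x => (evAll ∘ F) x a) = fun x => Ψ x a := by
      funext x
      exact hFev x a
    rw [this]
    exact hcont a
  have hrange : Pts.pt ⁻¹' (X.basicOpen f : Set X) ⊆ Set.range F := by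
    intro p hp
    have hp' : p.evTop f ≠ 0 := (mem_basicOpen_iff p ⊤ (Opens.mem_top _) f).1 hp
    let y : Γ(X, ⊤) →ₐ[ℂ] ℂ :=
      { (evHom p ⊤ (Opens.mem_top _)) with commutes' := fun c => evTop_strHom p c }
    have hy : ∀ a, y a = p.evTop a := fun a => rfl
    obtain ⟨x, hx⟩ := hsurj y (by rw [hy]; exact hp')
    refine ⟨x, ext_of_evTop fun a => ?_⟩
    rw [hFev, hx, hy]
  have hdense : Dense (Set.range F) := by
    have hne : (X.basicOpen f : Set X).Nonempty := by
      by_contra hemp
      rw [Set.not_nonempty_iff_eq_empty] at hemp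
      have : X.basicOpen f = ⊥ := by
        ext1
        rw [hemp]
        rfl
      exact hf ((AlgebraicGeometry.basicOpen_eq_bot_iff f).1 this)
    have hd : Dense (X.basicOpen f : Set X) := (X.basicOpen f).2.dense hne
    exact (dense_preimage_pt_of_isOpen (X.basicOpen f).2 hd).mono hrange
  refine ⟨?_⟩
  rw [← hdense.closure_eq]
  exact (isPreconnected_range hFc).closure

theorem preconnectedSpace_pts_of_integral [IsIntegral X] [LocallyOfFiniteType (X ↘ SC)] :
    PreconnectedSpace (Pts X) := by
  obtain ⟨x⟩ := (inferInstance : Nonempty X)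
  obtain ⟨_, ⟨(U : X.Opens), hU : IsAffineOpen U, rfl⟩, hxU, -⟩ :=
    X.isBasis_affineOpens.exists_subset_of_mem_open (Set.mem_univ x) isOpen_univ
  have : IsAffine U.toScheme := hU
  have : Nonempty U := ⟨⟨x, hxU⟩⟩
  have : LocallyOfFiniteType (U.toScheme ↘ SC) := by
    rw [← Scheme.Opens.ι_comp_over]; infer_instance
  have hpc : PreconnectedSpace (Pts U.toScheme) := preconnectedSpace_pts_of_integral_affine
  have hrange : Set.range (Pts.map U.ι) = Pts.pt ⁻¹' (U : Set X) := by
    rw [range_map_eq_preimage_range, Scheme.Opens.range_ι]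
  have hd : Dense (U : Set X) := U.2.dense ⟨x, hxU⟩
  have hdense : Dense (Set.range (Pts.map U.ι)) := by
    rw [hrange]
    exact dense_preimage_pt_of_isOpen U.2 hd
  refine ⟨?_⟩
  rw [← hdense.closure_eq]
  exact (isPreconnected_range (Pts.continuous_map U.ι)).closure

end Groth.Agent.Lib.Seat20.ConnSch
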