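import Mathlib
import Groth.Agent.Lib.Seat20ConnSch

/-!
# Connectedness comparison between a scheme locally of finite type over `ℂ` and its complex points

* `isPreconnected_preimage_of_integral`: the complex points lying in `W ∩ range ι`, for `ι : Z ⟶ X`
  a morphism from an integral scheme, form a preconnected set.
* `exists_preconnected_nhd`: every point of `X` has an open neighbourhood `W` such that the set of
  complex points lying in `W` is preconnected.
* `connectedSpace_iff_pts`: `X` is connected iff `X(ℂ)` is.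
-/

set_option autoImplicit false

open AlgebraicGeometry CategoryTheory TopologicalSpace Opposite An Topology
open Groth.Agent.Lib.Helper6

namespace Groth.Agent.Lib.Seat20.ConnSch

variable {X : Scheme.{0}} [X.Over SC]

theorem isPreconnected_preimage_of_integral [LocallyOfFiniteType (X ↘ SC)]
    {Z : Scheme.{0}} [Z.Over SC] [LocallyOfFiniteType (Z ↘ SC)] [IsIntegral Z]
    (ι : Z ⟶ X) [ι.IsOver SC] (W : X.Opens) (hne : ∃ z : Z, ι z ∈ W) :
    IsPreconnected (Pts.pt ⁻¹' ((W : Set X) ∩ Set.range ι) : Set (Pts X)) := by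
  obtain ⟨z, hz⟩ := hne
  let V : Z.Opens := ι ⁻¹ᵁ W
  have : Nonempty V := ⟨⟨z, hz⟩⟩
  have : LocallyOfFiniteType (V.toScheme ↘ SC) := by
    rw [← Scheme.Opens.ι_comp_over]; infer_instance
  have hpc : PreconnectedSpace (Pts V.toScheme) := preconnectedSpace_pts_of_integral
  have hrange : Set.range (V.ι ≫ ι) = (W : Set X) ∩ Set.range ι := by
    ext x
    constructor
    · rintro ⟨v, rfl⟩
      have e : (V.ι ≫ ι) v = ι (V.ι v) := Scheme.Hom.comp_apply _ _ _
      rw [e]
      refine ⟨?_, ⟨V.ι v, rfl⟩⟩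
      have : V.ι v ∈ V := by
        have := Set.mem_range_self (f := V.ι) v
        rwa [Scheme.Opens.range_ι] at this
      exact this
    · rintro ⟨hxW, z', rfl⟩
      have hz' : z' ∈ V := hxW
      have : z' ∈ Set.range V.ι := by rw [Scheme.Opens.range_ι]; exact hz'
      obtain ⟨v, rfl⟩ := this
      exact ⟨v, Scheme.Hom.comp_apply _ _ _⟩
  rw [← hrange, ← range_map_eq_preimage_range]
  exact isPreconnected_range (Pts.continuous_map (V.ι ≫ ι))

/-- the affine case of `exists_preconnected_nhd` -/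
theorem exists_preconnected_nhd_spec (A : CommRingCat.{0}) [(Spec A).Over SC]
    [LocallyOfFiniteType ((Spec A) ↘ SC)] (x : Spec A) :
    ∃ W : (Spec A).Opens, x ∈ W ∧
      IsPreconnected (Pts.pt ⁻¹' (W : Set (Spec A)) : Set (Pts (Spec A))) := by
  classical
  have hln : IsLocallyNoetherian (Spec A) := isLocallyNoetherian_of_lft
  have hnoeth : IsNoetherianRing A := isLocallyNoetherian_Spec.1 hln
  have hfin : (minimalPrimes A).Finite := minimalPrimes.finite_of_isNoetherianRing A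
  let px : Ideal A := PrimeSpectrum.asIdeal x
  have hpx : px.IsPrime := PrimeSpectrum.isPrime x
  let bad : Finset (Ideal A) := hfin.toFinset.filter (fun q => ¬ q ≤ px)
  have hbad : ∀ q ∈ bad, ∃ g : A, g ∈ q ∧ g ∉ px := by
    intro q hq
    have := (Finset.mem_filter.1 hq).2
    exact SetLike.not_le_iff_exists.1 this
  choose! gq hgq1 hgq2 using hbad
  let g : A := ∏ q ∈ bad, gq q
  have hg1 : g ∉ px := by
    intro hmem
    obtain ⟨q, hq, hq'⟩ := (hpx.prod_mem_iff).1 hmem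
    exact hgq2 q hq hq'
  have hg2 : ∀ q ∈ bad, g ∈ q := fun q hq =>
    Ideal.mem_of_dvd q (Finset.dvd_prod_of_mem gq hq) (hgq1 q hq)
  let W : (Spec A).Opens := PrimeSpectrum.basicOpen g
  have hxW : x ∈ W := hg1
  refine ⟨W, hxW, ?_⟩
  -- a common complex point
  have hlc : IsLocallyClosed ((W : Set (Spec A)) ∩ closure {x}) :=
    W.2.isLocallyClosed.inter isClosed_closure.isLocallyClosed
  obtain ⟨p₀, hp₀W, hp₀x⟩ := exists_pt_mem_of_isLocallyClosed hlc ⟨x, hxW, subset_closure rfl⟩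
  -- the pieces
  let piece : Ideal A → Set (Pts (Spec A)) := fun q =>
    Pts.pt ⁻¹' ((W : Set (Spec A)) ∩ PrimeSpectrum.zeroLocus (q : Set A))
  have hcover : (Pts.pt ⁻¹' (W : Set (Spec A)) : Set (Pts (Spec A))) =
      ⋃₀ {S | ∃ q ∈ minimalPrimes A, q ≤ px ∧ S = piece q} := by
    ext p
    constructor
    · intro hp
      let r : Ideal A := PrimeSpectrum.asIdeal p.pt
      have hr : r.IsPrime := PrimeSpectrum.isPrime p.pt
      obtain ⟨q, hqmin, hqr⟩ := Ideal.exists_minimalPrimes_le (I := ⊥) (J := r) bot_le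
      have hqpx : q ≤ px := by
        by_contra hnot
        have hqbad : q ∈ bad := Finset.mem_filter.2 ⟨hfin.mem_toFinset.2 hqmin, hnot⟩
        exact hp (hqr (hg2 q hqbad))
      exact ⟨piece q, ⟨q, hqmin, hqpx, rfl⟩, hp, hqr⟩
    · rintro ⟨S, ⟨q, -, -, rfl⟩, hp⟩
      exact hp.1
  rw [hcover]
  refine isPreconnected_sUnion p₀ _ ?_ ?_
  · rintro S ⟨q, -, hqpx, rfl⟩
    refine ⟨hp₀W, ?_⟩
    have hxq : x ∈ PrimeSpectrum.zeroLocus (q : Set A) := hqpx
    exact (PrimeSpectrum.isClosed_zeroLocus _).closure_subset_iff.2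
      (Set.singleton_subset_iff.2 hxq) hp₀x
  · rintro S ⟨q, hqmin, hqpx, rfl⟩
    have hqprime : q.IsPrime := hqmin.1.1
    let Y : Scheme.{0} := Spec (CommRingCat.of (A ⧸ q))
    let ι : Y ⟶ Spec A := Spec.map (CommRingCat.ofHom (Ideal.Quotient.mk q))
    let _ : Y.Over SC := ⟨ι ≫ (Spec A ↘ SC)⟩
    have : ι.IsOver SC := ⟨rfl⟩
    have : LocallyOfFiniteType (Y ↘ SC) := by
      change LocallyOfFiniteType (ι ≫ (Spec A ↘ SC))
      infer_instance
    have : IsIntegral Y := inferInstance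
    have hrange : Set.range ι = PrimeSpectrum.zeroLocus (q : Set A) := by
      have h1 := range_comap_of_surjective (A ⧸ q) (Ideal.Quotient.mk q)
        Ideal.Quotient.mk_surjective
      rw [Ideal.mk_ker] at h1
      exact h1
    have hne : ∃ z : Y, ι z ∈ W := by
      have hxq : x ∈ Set.range ι := by rw [hrange]; exact hqpx
      obtain ⟨z, hz⟩ := hxq
      exact ⟨z, by rw [hz]; exact hxW⟩
    have := isPreconnected_preimage_of_integral ι W hne
    rwa [hrange] at this

theorem exists_preconnected_nhd [LocallyOfFiniteType (X ↘ SC)] (x : X) :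
    ∃ W : X.Opens, x ∈ W ∧ IsPreconnected (Pts.pt ⁻¹' (W : Set X) : Set (Pts X)) := by
  obtain ⟨_, ⟨(U : X.Opens), hU : IsAffineOpen U, rfl⟩, hxU, -⟩ :=
    X.isBasis_affineOpens.exists_subset_of_mem_open (Set.mem_univ x) isOpen_univ
  let j : Spec Γ(X, U) ⟶ X := hU.fromSpec
  let _ : (Spec Γ(X, U)).Over SC := ⟨j ≫ (X ↘ SC)⟩
  have : j.IsOver SC := ⟨rfl⟩
  have : LocallyOfFiniteType ((Spec Γ(X, U)) ↘ SC) := by
    change LocallyOfFiniteType (j ≫ (X ↘ SC))
    infer_instance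
  have hrange : Set.range j = (U : Set X) := hU.range_fromSpec
  obtain ⟨x', hx'⟩ : x ∈ Set.range j := by rw [hrange]; exact hxU
  obtain ⟨W', hxW', hW'⟩ := exists_preconnected_nhd_spec Γ(X, U) x'
  refine ⟨j ''ᵁ W', ⟨x', hxW', hx'⟩, ?_⟩
  have himg : (Pts.pt ⁻¹' ((j ''ᵁ W' : X.Opens) : Set X) : Set (Pts X)) =
      Pts.map j '' (Pts.pt ⁻¹' (W' : Set (Spec Γ(X, U)))) := by
    ext p
    constructor
    · rintro ⟨w, hw, hwp⟩
      obtain ⟨p', rfl⟩ := exists_map_eq_of_pt_mem_range j p ⟨w, hwp⟩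
      refine ⟨p', ?_, rfl⟩
      rw [Pts.pt_map] at hwp
      have : w = p'.pt := j.isOpenEmbedding.injective hwp
      change p'.pt ∈ (W' : Set (Spec Γ(X, U)))
      rw [← this]
      exact hw
    · rintro ⟨p', hp', rfl⟩
      exact ⟨p'.pt, hp', (Pts.pt_map j p').symm⟩
  rw [himg]
  exact hW'.image _ (Pts.continuous_map j).continuousOn

theorem connectedSpace_pts_of_connectedSpace [LocallyOfFiniteType (X ↘ SC)] [ConnectedSpace X] :
    ConnectedSpace (Pts X) := by
  rw [connectedSpace_iff_clopen]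
  refine ⟨nonempty_pts_iff.1 inferInstance, fun S hS => ?_⟩
  let U₁ : Set X := {x | ∃ W : X.Opens, x ∈ W ∧ Pts.pt ⁻¹' (W : Set X) ⊆ S}
  let U₂ : Set X := {x | ∃ W : X.Opens, x ∈ W ∧ Pts.pt ⁻¹' (W : Set X) ⊆ Sᶜ}
  have hU₁ : IsOpen U₁ := by
    rw [isOpen_iff_forall_mem_open]
    rintro x ⟨W, hxW, hWS⟩
    exact ⟨W, fun y hy => ⟨W, hy, hWS⟩, W.2, hxW⟩
  have hU₂ : IsOpen U₂ := by
    rw [isOpen_iff_forall_mem_open]
    rintro x ⟨W, hxW, hWS⟩
    exact ⟨W, fun y hy => ⟨W, hy, hWS⟩, W.2, hxW⟩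
  have hcov : ∀ x, x ∈ U₁ ∨ x ∈ U₂ := by
    intro x
    obtain ⟨W, hxW, hW⟩ := exists_preconnected_nhd x
    by_cases hmeet : ((Pts.pt ⁻¹' (W : Set X)) ∩ S).Nonempty
    · exact Or.inl ⟨W, hxW, hW.subset_isClopen hS hmeet⟩
    · refine Or.inr ⟨W, hxW, fun p hp hpS => hmeet ⟨p, hp, hpS⟩⟩
  have hdisj : ∀ x, x ∈ U₁ → x ∈ U₂ → False := by
    rintro x ⟨W, hxW, hWS⟩ ⟨W', hxW', hWS'⟩
    obtain ⟨p, hp⟩ := exists_pt_mem_of_isLocallyClosed (T := ((W ⊓ W' : X.Opens) : Set X))
      (W ⊓ W').2.isLocallyClosed ⟨x, hxW, hxW'⟩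
    exact hWS' hp.2 (hWS hp.1)
  have hclopen : IsClopen U₁ := by
    refine ⟨?_, hU₁⟩
    have : U₁ᶜ = U₂ := by
      ext x
      constructor
      · intro hx
        exact (hcov x).resolve_left hx
      · intro hx hx1
        exact hdisj x hx1 hx
    rw [← isOpen_compl_iff, this]
    exact hU₂
  rcases isClopen_iff.1 hclopen with h | h
  · left
    rw [Set.eq_empty_iff_forall_notMem]
    intro p hp
    rcases hcov p.pt with h1 | ⟨W, hxW, hWS⟩
    · rw [h] at h1; exact h1
    · exact hWS hxW hp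
  · right
    rw [Set.eq_univ_iff_forall]
    intro p
    have : p.pt ∈ U₁ := by rw [h]; trivial
    obtain ⟨W, hxW, hWS⟩ := this
    exact hWS hxW

theorem connectedSpace_of_connectedSpace_pts [LocallyOfFiniteType (X ↘ SC)]
    [ConnectedSpace (Pts X)] : ConnectedSpace X := by
  rw [connectedSpace_iff_clopen]
  refine ⟨nonempty_pts_iff.2 inferInstance, fun T hT => ?_⟩
  have hcl : IsClopen (Pts.pt ⁻¹' T : Set (Pts X)) := hT.preimage Pts.continuous_pt
  have key : ∀ T' : Set X, IsOpen T' → (Pts.pt ⁻¹' T' : Set (Pts X)) = ∅ → T' = ∅ := by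
    intro T' hT' hemp
    by_contra hne
    obtain ⟨p, hp⟩ := exists_pt_mem_of_isLocallyClosed hT'.isLocallyClosed
      (Set.nonempty_iff_ne_empty.2 hne)
    have : p ∈ (Pts.pt ⁻¹' T' : Set (Pts X)) := hp
    rw [hemp] at this
    exact this
  rcases isClopen_iff.1 hcl with h | h
  · exact Or.inl (key T hT.2 h)
  · right
    have h2 : (Pts.pt ⁻¹' Tᶜ : Set (Pts X)) = ∅ := by
      rw [Set.preimage_compl, h, Set.compl_univ]
    have := key Tᶜ hT.1.isOpen_compl h2
    rwa [Set.compl_empty_iff] at this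

theorem connectedSpace_iff_pts [LocallyOfFiniteType (X ↘ SC)] :
    ConnectedSpace X ↔ ConnectedSpace (Pts X) :=
  ⟨fun _ => connectedSpace_pts_of_connectedSpace, fun _ => connectedSpace_of_connectedSpace_pts⟩

end Groth.Agent.Lib.Seat20.ConnSch
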