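import Mathlib
import Groth.Agent.Lib.Seat20ConnSch2

/-!
# `π₀(X(ℂ)) → π₀(X)` is bijective
-/

set_option autoImplicit false

open AlgebraicGeometry CategoryTheory TopologicalSpace Opposite An Topology
open Groth.Agent.Lib.Helper6

namespace Groth.Agent.Lib.Seat20.ConnSch

variable {X : Scheme.{0}} [X.Over SC]

/-- a clopen subset of `X(ℂ)` is the set of complex points of a clopen subset of `X`. -/
theorem exists_isClopen_preimage_eq [LocallyOfFiniteType (X ↘ SC)] (S : Set (Pts X))
    (hS : IsClopen S) : ∃ T : Set X, IsClopen T ∧ Pts.pt ⁻¹' T = S := by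
  let U₁ : Set X := {x | ∃ W : X.Opens, x ∈ W ∧ Pts.pt ⁻¹' (W : Set X) ⊆ S}
  let U₂ : Set X := {x | ∃ W : X.Opens, x ∈ W ∧ Pts.pt ⁻¹' (W : Set X) ⊆ Sᶜ}
  have hU₁ : IsOpen U₁ := by
    rw [isOpen_iff_forall_mem_open]
    rintro x ⟨W, hxW, hWS⟩
    exact ⟨W, fun y hy => ⟨W, hy, hWS⟩, W.2, hxW⟩
  have hU₂ : IsOpen U₂ := by
    rw [isOpen_iff_forall_mem_open]
    rintro x ⟨W, hxW, hWS⟩
    exact ⟨W, fun y hy => ⟨W, hy, hWS⟩, W.2, hxW⟩
  have hcov : ∀ x, x ∈ U₁ ∨ x ∈ U₂ := by
    intro x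
    obtain ⟨W, hxW, hW⟩ := exists_preconnected_nhd x
    by_cases hmeet : ((Pts.pt ⁻¹' (W : Set X)) ∩ S).Nonempty
    · exact Or.inl ⟨W, hxW, hW.subset_isClopen hS hmeet⟩
    · refine Or.inr ⟨W, hxW, fun p hp hpS => hmeet ⟨p, hp, hpS⟩⟩
  have hdisj : ∀ x, x ∈ U₁ → x ∈ U₂ → False := by
    rintro x ⟨W, hxW, hWS⟩ ⟨W', hxW', hWS'⟩
    obtain ⟨p, hp⟩ := exists_pt_mem_of_isLocallyClosed (T := ((W ⊓ W' : X.Opens) : Set X))
      (W ⊓ W').2.isLocallyClosed ⟨x, hxW, hxW'⟩
    exact hWS' hp.2 (hWS hp.1)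
  have hclopen : IsClopen U₁ := by
    refine ⟨?_, hU₁⟩
    have : U₁ᶜ = U₂ := by
      ext x
      constructor
      · intro hx
        exact (hcov x).resolve_left hx
      · intro hx hx1
        exact hdisj x hx1 hx
    rw [← isOpen_compl_iff, this]
    exact hU₂
  refine ⟨U₁, hclopen, ?_⟩
  ext p
  constructor
  · rintro ⟨W, hxW, hWS⟩
    exact hWS hxW
  · intro hp
    rcases hcov p.pt with h1 | ⟨W, hxW, hWS⟩
    · exact h1
    · exact (hWS hxW hp).elim

/-- connected components of `X(ℂ)` are open. -/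
theorem isOpen_connectedComponent_pts [LocallyOfFiniteType (X ↘ SC)] (p : Pts X) :
    IsOpen (connectedComponent p) := by
  rw [isOpen_iff_forall_mem_open]
  intro p' hp'
  obtain ⟨W, hxW, hW⟩ := exists_preconnected_nhd p'.pt
  refine ⟨Pts.pt ⁻¹' (W : Set X), ?_, W.2.preimage Pts.continuous_pt, hxW⟩
  have := hW.subset_connectedComponent (x := p') hxW
  rwa [← connectedComponent_eq hp'] at this

theorem connectedComponentsMap_pt_bijective [LocallyOfFiniteType (X ↘ SC)] :
    Function.Bijective (Pts.continuous_pt (X := X)).connectedComponentsMap := by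
  constructor
  · intro a b hab
    obtain ⟨p, rfl⟩ := ConnectedComponents.surjective_coe a
    obtain ⟨q, rfl⟩ := ConnectedComponents.surjective_coe b
    rw [Continuous.connectedComponentsMap_mk, Continuous.connectedComponentsMap_mk,
      ConnectedComponents.coe_eq_coe'] at hab
    have hS : IsClopen (connectedComponent q) :=
      ⟨isClosed_connectedComponent, isOpen_connectedComponent_pts q⟩
    obtain ⟨T, hT, hTS⟩ := exists_isClopen_preimage_eq (connectedComponent q) hS
    have hq : q.pt ∈ T := by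
      have : q ∈ Pts.pt ⁻¹' T := by rw [hTS]; exact mem_connectedComponent
      exact this
    have hsub : connectedComponent q.pt ⊆ T :=
      isPreconnected_connectedComponent.subset_isClopen hT ⟨q.pt, mem_connectedComponent, hq⟩
    have hp : p ∈ Pts.pt ⁻¹' T := hsub hab
    rw [hTS] at hp
    exact ConnectedComponents.coe_eq_coe'.2 hp
  · intro c
    obtain ⟨x, rfl⟩ := ConnectedComponents.surjective_coe c
    obtain ⟨p, hp⟩ := exists_pt_mem_of_isLocallyClosed
      (isClosed_connectedComponent (x := x)).isLocallyClosed ⟨x, mem_connectedComponent⟩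
    refine ⟨ConnectedComponents.mk p, ?_⟩
    rw [Continuous.connectedComponentsMap_mk]
    exact ConnectedComponents.coe_eq_coe'.2 hp

end Groth.Agent.Lib.Seat20.ConnSch
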