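import Mathlib
import Groth.Agent.Lib.Seat20ConnSch3
import Groth.Agent.Lib.Seat20AnEtaleLH
import Groth.Agent.Lib.Helper6AnFib

/-!
# Full faithfulness of `U ↦ U(ℂ)` on etale schemes (towards separated targets)

* `eq_univ_of_forall_pt_mem`: an open subset containing all complex points is everything.
* `eq_of_map_eq`: two `X`-morphisms `U ⟶ V` to an unramified `X`-scheme agreeing on complex points
  are equal.
* `isIso_of_etale_of_bijective`: an etale morphism bijective on complex points is an isomorphism.
* `exists_hom_of_continuous`: a continuous map `U(ℂ) → V(ℂ)` over `X(ℂ)` with `V` etale and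
  separated over `X` comes from an `X`-morphism.
-/

set_option autoImplicit false
set_option linter.style.haveILetI false

open AlgebraicGeometry CategoryTheory CategoryTheory.Limits TopologicalSpace Opposite An Topology
open Groth.Agent.Lib.Helper6

namespace Groth.Agent.Lib.Seat20.AnFull

open Groth.Agent.Lib.Seat20.ConnSch Groth.Agent.Lib.Seat20.AnEtaleLH

section basic

variable {X : Scheme.{0}} [X.Over SC]

theorem eq_univ_of_forall_pt_mem [LocallyOfFiniteType (X ↘ SC)] (O : Set X) (hO : IsOpen O)
    (h : ∀ a : Pts X, a.pt ∈ O) : O = Set.univ := by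
  by_contra hne
  have hne' : (Oᶜ).Nonempty := by
    rw [Set.nonempty_compl]; exact hne
  obtain ⟨a, ha⟩ := exists_pt_mem_of_isLocallyClosed hO.isClosed_compl.isLocallyClosed hne'
  exact ha (h a)

end basic

section faithful

variable {X U V : Scheme.{0}} [X.Over SC] [U.Over SC] [V.Over SC]
  [LocallyOfFiniteType (U ↘ SC)]

omit [X.Over SC] [V.Over SC] in
/-- two morphisms to a scheme unramified over `X`, agreeing over `X` and on complex points, are
equal. -/
theorem eq_of_map_eq (u : U ⟶ X) (v : V ⟶ X) [FormallyUnramified v] [LocallyOfFiniteType v]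
    (g g' : U ⟶ V) (hg : g ≫ v = u) (hg' : g' ≫ v = u)
    (hpts : ∀ a : Pts U, a.1 ≫ g = a.1 ≫ g') : g = g' := by
  let l : U ⟶ pullback v v := pullback.lift g g' (by rw [hg, hg'])
  let E := pullback l (pullback.diagonal v)
  let e : E ⟶ U := pullback.fst l (pullback.diagonal v)
  have he : IsOpenImmersion e := inferInstance
  have hcond : e ≫ l = pullback.snd l (pullback.diagonal v) ≫ pullback.diagonal v :=
    pullback.condition
  have heq : e ≫ g = e ≫ g' := by
    have h1 := congrArg (· ≫ pullback.fst v v) hcond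
    have h2 := congrArg (· ≫ pullback.snd v v) hcond
    simp only [Category.assoc, l, pullback.lift_fst, pullback.lift_snd, pullback.diagonal_fst,
      pullback.diagonal_snd, Category.comp_id] at h1 h2
    rw [h1, h2]
  have hsurj : Set.range e = Set.univ := by
    refine eq_univ_of_forall_pt_mem _ e.isOpenEmbedding.isOpen_range fun a => ?_
    have hlift : a.1 ≫ l = (a.1 ≫ g) ≫ pullback.diagonal v := by
      apply pullback.hom_ext
      · rw [Category.assoc, Category.assoc, pullback.lift_fst, pullback.diagonal_fst,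
          Category.comp_id]
      · rw [Category.assoc, Category.assoc, pullback.lift_snd, pullback.diagonal_snd,
          Category.comp_id, hpts a]
    let c : SC ⟶ E := pullback.lift a.1 (a.1 ≫ g) hlift
    have hc : c ≫ e = a.1 := pullback.lift_fst _ _ _
    refine ⟨c cpt, ?_⟩
    change e (c cpt) = a.1 cpt
    rw [← hc]
    exact (Scheme.Hom.comp_apply _ _ _).symm
  have hiso : IsIso e := by
    apply isIso_of_isOpenImmersion_of_opensRange_eq_top
    ext1
    exact hsurj
  exact (cancel_epi e).1 heq

end faithful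

section iso

variable {X Y : Scheme.{0}} [X.Over SC] [Y.Over SC]
  [LocallyOfFiniteType (X ↘ SC)] [LocallyOfFiniteType (Y ↘ SC)]

theorem isIso_of_etale_of_bijective (f : X ⟶ Y) [f.IsOver SC] [Etale f]
    (hbij : Function.Bijective (Pts.map f)) : IsIso f := by
  -- `f` is a monomorphism
  have hmono : Mono f := by
    rw [← pullback.isIso_diagonal_iff]
    have hopen : IsOpenImmersion (pullback.diagonal f) := inferInstance
    apply isIso_of_isOpenImmersion_of_opensRange_eq_top
    ext1
    refine eq_univ_of_forall_pt_mem _ (pullback.diagonal f).isOpenEmbedding.isOpen_range fun w => ?_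
    have hcond := Pts.map_pullback_condition f f w
    have hab : Pts.map (pullback.fst f f) w = Pts.map (pullback.snd f f) w := hbij.1 hcond
    have hw : w = Pts.map (pullback.diagonal f) (Pts.map (pullback.fst f f) w) := by
      apply (isHomeomorph_pts_pullback f f).injective
      apply Subtype.ext
      apply Prod.ext
      · change Pts.map (pullback.fst f f) w =
          Pts.map (pullback.fst f f) (Pts.map (pullback.diagonal f) (Pts.map (pullback.fst f f) w))
        rw [← Pts.map_comp]
        apply Subtype.ext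
        change w.1 ≫ pullback.fst f f = (w.1 ≫ pullback.fst f f) ≫ pullback.diagonal f ≫ pullback.fst f f
        rw [pullback.diagonal_fst, Category.comp_id]
      · change Pts.map (pullback.snd f f) w =
          Pts.map (pullback.snd f f) (Pts.map (pullback.diagonal f) (Pts.map (pullback.fst f f) w))
        rw [← Pts.map_comp, ← hab]
        apply Subtype.ext
        change w.1 ≫ pullback.fst f f = (w.1 ≫ pullback.fst f f) ≫ pullback.diagonal f ≫ pullback.snd f f
        rw [pullback.diagonal_snd, Category.comp_id]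
    rw [hw, Pts.pt_map]
    exact Set.mem_range_self _
  have hoi : IsOpenImmersion f := IsOpenImmersion.of_flat_of_mono f
  apply isIso_of_isOpenImmersion_of_opensRange_eq_top
  ext1
  refine eq_univ_of_forall_pt_mem _ f.isOpenEmbedding.isOpen_range fun b => ?_
  obtain ⟨a, rfl⟩ := hbij.2 b
  rw [Pts.pt_map]
  exact Set.mem_range_self _

end iso

section full

variable {X U V : Scheme.{0}} [X.Over SC] [U.Over SC] [V.Over SC]
  [LocallyOfFiniteType (X ↘ SC)] [LocallyOfFiniteType (U ↘ SC)] [LocallyOfFiniteType (V ↘ SC)]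

theorem exists_hom_of_continuous (u : U ⟶ X) (v : V ⟶ X) [u.IsOver SC] [v.IsOver SC]
    [Etale v] [IsSeparated v] (φ : Pts U → Pts V) (hφ : Continuous φ)
    (hover : ∀ a, Pts.map v (φ a) = Pts.map u a) :
    ∃ g : U ⟶ V, g ≫ v = u ∧ ∀ a : Pts U, a.1 ≫ g = (φ a).1 := by
  let W := pullback u v
  let p₁ : W ⟶ U := pullback.fst u v
  let p₂ : W ⟶ V := pullback.snd u v
  have hWlft : LocallyOfFiniteType (W ↘ SC) := inferInstance
  have hcomp := isHomeomorph_pts_pullback u v
  -- the graph of `φ`
  let Γ : Set (Pts W) := {w | φ (Pts.map p₁ w) = Pts.map p₂ w}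
  have hsep : IsSeparatedMap (Pts.map v) := (isSeparated_iff_pts v).1 inferInstance
  have hlh : IsLocalHomeomorph (Pts.map v) := isLocalHomeomorph_pts_of_etale v
  have hlinj : IsLocallyInjective (Pts.map v) := by
    rw [isLocallyInjective_iff_nhds]
    intro b
    obtain ⟨e, hbe, he⟩ := hlh b
    refine ⟨e.source, e.open_source.mem_nhds hbe, ?_⟩
    rw [he]
    exact e.injOn
  have hc₁ : Continuous (fun w : Pts W => φ (Pts.map p₁ w)) := hφ.comp (Pts.continuous_map p₁)
  have hc₂ : Continuous (fun w : Pts W => Pts.map p₂ w) := Pts.continuous_map p₂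
  have hcompeq : Pts.map v ∘ (fun w : Pts W => φ (Pts.map p₁ w)) =
      Pts.map v ∘ (fun w : Pts W => Pts.map p₂ w) := by
    funext w
    change Pts.map v (φ (Pts.map p₁ w)) = Pts.map v (Pts.map p₂ w)
    rw [hover]
    exact Pts.map_pullback_condition u v w
  have hΓ : IsClopen Γ :=
    ⟨hsep.isClosed_eqLocus hc₁ hc₂ hcompeq, hlinj.isOpen_eqLocus hc₁ hc₂ hcompeq⟩
  obtain ⟨T, hT, hTΓ⟩ := exists_isClopen_preimage_eq Γ hΓ
  let W' : W.Opens := ⟨T, hT.2⟩
  let j : W'.toScheme ⟶ W := W'.ι
  have hW'lft : LocallyOfFiniteType (W'.toScheme ↘ SC) := by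
    rw [← Scheme.Opens.ι_comp_over]; infer_instance
  let q₁ : W'.toScheme ⟶ U := j ≫ p₁
  have hjrange : Set.range (Pts.map j) = Γ := by
    rw [range_map_eq_preimage_range, Scheme.Opens.range_ι]
    exact hTΓ
  have hjinj : Function.Injective (Pts.map j) := map_injective_of_mono j
  have hq₁ : ∀ a' : Pts W'.toScheme, Pts.map q₁ a' = Pts.map p₁ (Pts.map j a') := fun a' =>
    Pts.map_comp j p₁ a'
  have hbij : Function.Bijective (Pts.map q₁) := by
    constructor
    · intro a' b' hab
      rw [hq₁, hq₁] at hab
      have ha' : Pts.map j a' ∈ Γ := by rw [← hjrange]; exact Set.mem_range_self _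
      have hb' : Pts.map j b' ∈ Γ := by rw [← hjrange]; exact Set.mem_range_self _
      apply hjinj
      apply hcomp.injective
      apply Subtype.ext
      apply Prod.ext
      · exact hab
      · change Pts.map p₂ (Pts.map j a') = Pts.map p₂ (Pts.map j b')
        rw [← ha', ← hb', hab]
    · intro a
      obtain ⟨w, hw⟩ := hcomp.surjective ⟨(a, φ a), (hover a).symm⟩
      have hw1 : Pts.map p₁ w = a := congrArg (fun q => q.1.1) hw
      have hw2 : Pts.map p₂ w = φ a := congrArg (fun q => q.1.2) hw
      have hwΓ : w ∈ Γ := by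
        change φ (Pts.map p₁ w) = Pts.map p₂ w
        rw [hw1, hw2]
      rw [← hjrange] at hwΓ
      obtain ⟨a', rfl⟩ := hwΓ
      exact ⟨a', by rw [hq₁, hw1]⟩
  have hq₁et : Etale q₁ := inferInstance
  have hiso : IsIso q₁ := isIso_of_etale_of_bijective q₁ hbij
  refine ⟨inv q₁ ≫ j ≫ p₂, ?_, fun a => ?_⟩
  · rw [Category.assoc, Category.assoc, IsIso.inv_comp_eq]
    change j ≫ p₂ ≫ v = (j ≫ p₁) ≫ u
    rw [Category.assoc, pullback.condition]
  · obtain ⟨a', rfl⟩ := hbij.2 a
    have ha' : Pts.map j a' ∈ Γ := by rw [← hjrange]; exact Set.mem_range_self _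
    have h1 : (Pts.map q₁ a').1 ≫ inv q₁ = a'.1 := by
      change (a'.1 ≫ q₁) ≫ inv q₁ = a'.1
      rw [Category.assoc, IsIso.hom_inv_id, Category.comp_id]
    rw [← Category.assoc, h1]
    have h2 : φ (Pts.map p₁ (Pts.map j a')) = Pts.map p₂ (Pts.map j a') := ha'
    rw [hq₁, h2]
    rfl

end full

end Groth.Agent.Lib.Seat20.AnFull
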