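import Mathlib

/-!
# Seat20: evaluation of sections at ring-valued points `Spec R ⟶ X`
-/

set_option autoImplicit false

universe u

open AlgebraicGeometry CategoryTheory TopologicalSpace Opposite

namespace Groth.Agent.Lib.Seat20.RPts

variable {X : Scheme.{u}} {R : CommRingCat.{u}} (t : Spec R ⟶ X)

/-- evaluation of sections over `U` at an `R`-point landing in `U` -/
noncomputable def evR (U : X.Opens) (h : t ⁻¹ᵁ U = ⊤) : Γ(X, U) →+* R :=
  ((Scheme.ΓSpecIso R).hom.hom).comp (t.appLE U ⊤ h.ge).hom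

lemma evR_apply (U : X.Opens) (h : t ⁻¹ᵁ U = ⊤) (a : Γ(X, U)) :
    evR t U h a = (Scheme.ΓSpecIso R).hom (t.appLE U ⊤ h.ge a) := rfl

lemma preimage_eq_top_of_le {U U' : X.Opens} (hUU' : U' ≤ U) (h' : t ⁻¹ᵁ U' = ⊤) :
    t ⁻¹ᵁ U = ⊤ :=
  top_le_iff.1 (h'.ge.trans ((Opens.map t.base).map (homOfLE hUU')).le)

lemma evR_res {U U' : X.Opens} (hUU' : U' ≤ U) (h' : t ⁻¹ᵁ U' = ⊤) (a : Γ(X, U)) :
    evR t U' h' (X.presheaf.map (homOfLE hUU').op a) =
      evR t U (preimage_eq_top_of_le t hUU' h') a := by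
  rw [evR_apply, evR_apply]
  congr 1
  have := Scheme.Hom.map_appLE t (U := U') (V := ⊤) h'.ge (homOfLE hUU').op
  exact congrArg (fun k => k.hom a) this

/-- compatibility with change of ring -/
lemma evR_SpecMap_comp {R' : CommRingCat.{u}} (ρ : R ⟶ R') (U : X.Opens) (h : t ⁻¹ᵁ U = ⊤)
    (h' : (Spec.map ρ ≫ t) ⁻¹ᵁ U = ⊤) (a : Γ(X, U)) :
    evR (Spec.map ρ ≫ t) U h' a = ρ.hom (evR t U h a) := by
  rw [evR_apply, evR_apply]
  have h1 : (Spec.map ρ ≫ t).appLE U ⊤ h'.ge =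
      t.appLE U ⊤ h.ge ≫ (Spec.map ρ).appLE ⊤ ⊤ le_top := by
    rw [Scheme.Hom.appLE_comp_appLE]
  rw [h1]
  have h2 : (Spec.map ρ).appLE ⊤ ⊤ le_top = (Spec.map ρ).appTop := by
    simp [Scheme.Hom.appTop, Scheme.Hom.app_eq_appLE]
  rw [h2]
  have h3 := Scheme.ΓSpecIso_naturality ρ
  have h4 := congrArg (fun k => k.hom (t.appLE U ⊤ h.ge a)) h3
  simp only [CommRingCat.hom_comp, RingHom.coe_comp, Function.comp_apply] at h4 ⊢
  exact h4

lemma preimage_comp_eq_top {Y : Scheme.{u}} (f : X ⟶ Y) {V : Y.Opens} {U : X.Opens}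
    (e : U ≤ f ⁻¹ᵁ V) (h : t ⁻¹ᵁ U = ⊤) : (t ≫ f) ⁻¹ᵁ V = ⊤ :=
  top_le_iff.1 (h.ge.trans ((Opens.map t.base).map (homOfLE e)).le)

/-- compatibility with morphisms of schemes -/
lemma evR_comp {Y : Scheme.{u}} (f : X ⟶ Y) {V : Y.Opens} {U : X.Opens}
    (e : U ≤ f ⁻¹ᵁ V) (h : t ⁻¹ᵁ U = ⊤) (b : Γ(Y, V)) :
    evR (t ≫ f) V (preimage_comp_eq_top t f e h) b = evR t U h (f.appLE V U e b) := by
  rw [evR_apply, evR_apply]
  congr 1
  have := Scheme.Hom.appLE_comp_appLE t f V U ⊤ e h.ge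
  exact (congrArg (fun k => k.hom b) this).symm

/-- preimage of a basic open under an `R`-point -/
lemma preimage_basicOpen (U : X.Opens) (h : t ⁻¹ᵁ U = ⊤) (a : Γ(X, U)) :
    t ⁻¹ᵁ X.basicOpen a = PrimeSpectrum.basicOpen (evR t U h a) := by
  have h1 := Scheme.basicOpen_appLE t ⊤ U h.ge a
  rw [top_inf_eq] at h1
  rw [← h1, basicOpen_eq_of_affine']
  rfl

/-- an `R`-point landing in an affine open factors through it -/
lemma eq_SpecMap_comp_fromSpec {U : X.Opens} (hU : IsAffineOpen U) (h : t ⁻¹ᵁ U = ⊤) :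
    t = Spec.map (CommRingCat.ofHom (evR t U h)) ≫ hU.fromSpec := by
  have h1 := IsAffineOpen.SpecMap_appLE_fromSpec t hU (isAffineOpen_top (Spec R)) h.ge
  rw [IsAffineOpen.fromSpec_top, Scheme.isoSpec_Spec_inv] at h1
  have h2 : CommRingCat.ofHom (evR t U h) = t.appLE U ⊤ h.ge ≫ (Scheme.ΓSpecIso R).hom := rfl
  rw [h2, Spec.map_comp, Category.assoc, h1, ← Category.assoc, ← Spec.map_comp,
    Iso.inv_hom_id, Spec.map_id]
  exact (Category.id_comp t).symm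

lemma fromSpec_preimage_eq_top {U : X.Opens} (hU : IsAffineOpen U) (α : Γ(X, U) ⟶ R) :
    (Spec.map α ≫ hU.fromSpec) ⁻¹ᵁ U = ⊤ := by
  rw [Scheme.Hom.comp_preimage, hU.fromSpec_preimage_self]
  rfl

/-- evaluation at a point given by a ring homomorphism on an affine open -/
lemma evR_fromSpec {U : X.Opens} (hU : IsAffineOpen U) (α : Γ(X, U) ⟶ R) (a : Γ(X, U)) :
    evR (Spec.map α ≫ hU.fromSpec) U (fromSpec_preimage_eq_top hU α) a = α.hom a := by
  have h0 := fromSpec_preimage_eq_top hU α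
  have h1 := eq_SpecMap_comp_fromSpec (Spec.map α ≫ hU.fromSpec) hU h0
  have h2 : Spec.map α = Spec.map (CommRingCat.ofHom (evR (Spec.map α ≫ hU.fromSpec) U h0)) := by
    have : IsOpenImmersion hU.fromSpec := inferInstance
    exact (cancel_mono hU.fromSpec).1 h1
  have h3 := Spec.map_injective h2
  exact (congrArg (fun k => k.hom a) h3).symm

end Groth.Agent.Lib.Seat20.RPts
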