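import Mathlib

/-!
# Seat20: the ultrapower of `ℂ`, its valuation ring of bounded elements and the standard part
-/

set_option autoImplicit false

open Filter Topology

namespace Groth.Agent.Lib.Seat20.UltraC

variable {I : Type*} (𝒰 : Ultrafilter I)

/-- the ultrapower of `ℂ` -/
abbrev K : Type _ := Germ (𝒰 : Filter I) ℂ

/-- boundedness of a germ -/
def IsBdd (x : K 𝒰) : Prop := ∃ C : ℝ, Germ.map (fun z : ℂ => ‖z‖) x ≤ (↑C : Germ (𝒰 : Filter I) ℝ)

variable {𝒰}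

lemma isBdd_coe {g : I → ℂ} : IsBdd 𝒰 (↑g : K 𝒰) ↔ ∃ C : ℝ, ∀ᶠ i in (𝒰 : Filter I), ‖g i‖ ≤ C := by
  unfold IsBdd
  simp only [Germ.map_coe]
  constructor
  · rintro ⟨C, hC⟩
    exact ⟨C, Germ.coe_le.1 hC⟩
  · rintro ⟨C, hC⟩
    exact ⟨C, Germ.coe_le.2 hC⟩

variable (𝒰)

/-- the valuation subring of bounded elements -/
noncomputable def O : ValuationSubring (K 𝒰) where
  carrier := {x | IsBdd 𝒰 x}
  mul_mem' := by
    intro x y hx hy
    induction x using Germ.inductionOn with | _ g => ?_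
    induction y using Germ.inductionOn with | _ h => ?_
    replace hx : IsBdd 𝒰 (↑g : K 𝒰) := hx
    replace hy : IsBdd 𝒰 (↑h : K 𝒰) := hy
    rw [isBdd_coe] at hx hy
    obtain ⟨C, hC⟩ := hx
    obtain ⟨D, hD⟩ := hy
    change IsBdd 𝒰 (↑(g * h) : K 𝒰)
    rw [isBdd_coe]
    refine ⟨C * D, ?_⟩
    filter_upwards [hC, hD] with i h1 h2
    rw [Pi.mul_apply, norm_mul]
    exact mul_le_mul h1 h2 (norm_nonneg _) ((norm_nonneg _).trans h1)
  one_mem' := by
    change IsBdd 𝒰 (↑(fun _ : I => (1 : ℂ)) : K 𝒰)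
    rw [isBdd_coe]
    exact ⟨1, Eventually.of_forall fun _ => by simp⟩
  add_mem' := by
    intro x y hx hy
    induction x using Germ.inductionOn with | _ g => ?_
    induction y using Germ.inductionOn with | _ h => ?_
    replace hx : IsBdd 𝒰 (↑g : K 𝒰) := hx
    replace hy : IsBdd 𝒰 (↑h : K 𝒰) := hy
    rw [isBdd_coe] at hx hy
    obtain ⟨C, hC⟩ := hx
    obtain ⟨D, hD⟩ := hy
    change IsBdd 𝒰 (↑(g + h) : K 𝒰)
    rw [isBdd_coe]
    refine ⟨C + D, ?_⟩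
    filter_upwards [hC, hD] with i h1 h2
    rw [Pi.add_apply]
    exact (norm_add_le _ _).trans (add_le_add h1 h2)
  zero_mem' := by
    change IsBdd 𝒰 (↑(fun _ : I => (0 : ℂ)) : K 𝒰)
    rw [isBdd_coe]
    exact ⟨0, Eventually.of_forall fun _ => by simp⟩
  neg_mem' := by
    intro x hx
    induction x using Germ.inductionOn with | _ g => ?_
    replace hx : IsBdd 𝒰 (↑g : K 𝒰) := hx
    rw [isBdd_coe] at hx
    obtain ⟨C, hC⟩ := hx
    change IsBdd 𝒰 (↑(-g) : K 𝒰)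
    rw [isBdd_coe]
    refine ⟨C, ?_⟩
    filter_upwards [hC] with i h1
    rw [Pi.neg_apply, norm_neg]
    exact h1
  mem_or_inv_mem' := by
    intro x
    induction x using Germ.inductionOn with | _ g => ?_
    rcases 𝒰.em (fun i => ‖g i‖ ≤ 1) with h | h
    · left
      change IsBdd 𝒰 (↑g : K 𝒰)
      rw [isBdd_coe]
      exact ⟨1, h⟩
    · right
      change IsBdd 𝒰 (↑(g⁻¹) : K 𝒰)
      rw [isBdd_coe]
      refine ⟨1, ?_⟩
      filter_upwards [h] with i hi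
      rw [Pi.inv_apply, norm_inv]
      exact inv_le_one_of_one_le₀ (le_of_not_ge hi)

lemma mem_O_iff (x : K 𝒰) : x ∈ O 𝒰 ↔ IsBdd 𝒰 x := Iff.rfl

/-- the standard part (junk on unbounded elements) -/
noncomputable def st (x : K 𝒰) : ℂ :=
  Germ.liftOn x (fun g => limUnder (𝒰 : Filter I) g) (fun g g' h => by
    change lim (Filter.map g 𝒰) = lim (Filter.map g' 𝒰)
    rw [Filter.map_congr h])

variable {𝒰}

lemma st_coe (g : I → ℂ) : st 𝒰 (↑g : K 𝒰) = limUnder (𝒰 : Filter I) g := rfl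

lemma st_eq_of_tendsto {g : I → ℂ} {z : ℂ} (h : Tendsto g 𝒰 (𝓝 z)) : st 𝒰 (↑g : K 𝒰) = z := by
  rw [st_coe]
  exact h.limUnder_eq

lemma exists_tendsto_of_isBdd {g : I → ℂ} (h : IsBdd 𝒰 (↑g : K 𝒰)) :
    ∃ z : ℂ, Tendsto g 𝒰 (𝓝 z) := by
  rw [isBdd_coe] at h
  obtain ⟨C, hC⟩ := h
  have hcomp : IsCompact (Metric.closedBall (0 : ℂ) C) := isCompact_closedBall 0 C
  have hle : (𝒰.map g : Filter ℂ) ≤ 𝓟 (Metric.closedBall (0 : ℂ) C) := by
    rw [le_principal_iff]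
    change g ⁻¹' _ ∈ (𝒰 : Filter I)
    filter_upwards [hC] with i hi
    simpa using hi
  obtain ⟨z, -, hz⟩ := hcomp.ultrafilter_le_nhds (𝒰.map g) hle
  exact ⟨z, hz⟩

lemma tendsto_st {g : I → ℂ} (h : IsBdd 𝒰 (↑g : K 𝒰)) : Tendsto g 𝒰 (𝓝 (st 𝒰 (↑g : K 𝒰))) := by
  obtain ⟨z, hz⟩ := exists_tendsto_of_isBdd h
  rw [st_eq_of_tendsto hz]
  exact hz

lemma isBdd_of_tendsto {g : I → ℂ} {z : ℂ} (h : Tendsto g 𝒰 (𝓝 z)) : IsBdd 𝒰 (↑g : K 𝒰) := by
  rw [isBdd_coe]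
  refine ⟨‖z‖ + 1, ?_⟩
  have h1 : ∀ᶠ w in 𝓝 z, ‖w‖ < ‖z‖ + 1 :=
    (continuous_norm.tendsto z).eventually (gt_mem_nhds (lt_add_one _))
  filter_upwards [h.eventually h1] with i hi
  exact hi.le

variable (𝒰)

/-- the standard part as a ring homomorphism on bounded elements -/
noncomputable def stHom : O 𝒰 →+* ℂ where
  toFun x := st 𝒰 x.1
  map_one' := st_eq_of_tendsto (g := fun _ => (1 : ℂ)) tendsto_const_nhds
  map_zero' := st_eq_of_tendsto (g := fun _ => (0 : ℂ)) tendsto_const_nhds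
  map_mul' := by
    rintro ⟨x, hx⟩ ⟨y, hy⟩
    induction x using Germ.inductionOn with | _ g => ?_
    induction y using Germ.inductionOn with | _ h => ?_
    exact st_eq_of_tendsto (g := g * h) ((tendsto_st hx).mul (tendsto_st hy))
  map_add' := by
    rintro ⟨x, hx⟩ ⟨y, hy⟩
    induction x using Germ.inductionOn with | _ g => ?_
    induction y using Germ.inductionOn with | _ h => ?_
    exact st_eq_of_tendsto (g := g + h) ((tendsto_st hx).add (tendsto_st hy))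

lemma stHom_apply (x : O 𝒰) : stHom 𝒰 x = st 𝒰 x.1 := rfl

/-- the diagonal embedding of `ℂ` lands in bounded elements -/
lemma const_mem_O (c : ℂ) : ((↑c : K 𝒰)) ∈ O 𝒰 :=
  isBdd_of_tendsto (g := fun _ => c) tendsto_const_nhds

lemma st_const (c : ℂ) : st 𝒰 (↑c : K 𝒰) = c :=
  st_eq_of_tendsto (g := fun _ => c) tendsto_const_nhds

end Groth.Agent.Lib.Seat20.UltraC
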