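import Mathlib
import Groth.Agent.Lib.Seat20UltraC
import Groth.Agent.Lib.Seat20RPts
import Groth.Agent.Lib.Helper6AnPts

/-!
# Seat20: universally closed morphisms over `ℂ` induce proper maps on complex points
(ultrapower of `ℂ` + valuative criterion)
-/

set_option autoImplicit false
set_option linter.style.haveILetI false

open AlgebraicGeometry CategoryTheory TopologicalSpace Opposite An Topology Filter
open Groth.Agent.Lib.Helper6

namespace Groth.Agent.Lib.Seat20.AnUltra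

open Groth.Agent.Lib.Seat20

variable {X Y : Scheme.{0}} [X.Over SC] [Y.Over SC]

lemma evHom_eq_evR (x : Pts X) (U : X.Opens) (h : x.pt ∈ U) :
    evHom x U h = RPts.evR x.1 U (Pts.preimage_eq_top x h) := rfl

lemma ev_eq_evR (x : Pts X) (U : X.Opens) (h : x.pt ∈ U) (a : Γ(X, U)) :
    x.ev U h a = RPts.evR x.1 U (Pts.preimage_eq_top x h) a := rfl

omit [X.Over SC] in
lemma evR_congr {R : CommRingCat.{0}} {t t' : Spec R ⟶ X} (e : t = t') (U : X.Opens)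
    (h : t ⁻¹ᵁ U = ⊤) (h' : t' ⁻¹ᵁ U = ⊤) (a : Γ(X, U)) :
    RPts.evR t U h a = RPts.evR t' U h' a := by
  subst e
  rfl

/-- neighbourhood criterion in terms of subbasic sets -/
lemma le_nhds_of_basicSet_mem (𝒰 : Filter (Pts X)) (x₀ : Pts X)
    (H : ∀ (U : X.Opens) (a : Γ(X, U)) (W : Set ℂ), IsOpen W → x₀ ∈ Pts.basicSet U a W →
      Pts.basicSet U a W ∈ 𝒰) : 𝒰 ≤ 𝓝 x₀ := by
  change 𝒰 ≤ @nhds _ (TopologicalSpace.generateFrom _) x₀
  rw [TopologicalSpace.nhds_generateFrom]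
  refine le_iInf₂ (fun s hs => le_principal_iff.2 ?_)
  obtain ⟨hx, U, a, W, hW, rfl⟩ := hs
  exact H U a W hW hx

/-- neighbourhood criterion: affine opens suffice -/
lemma le_nhds_of_basicSet_mem_affine (𝒰 : Filter (Pts X)) (x₀ : Pts X)
    (H : ∀ (U : X.Opens), IsAffineOpen U → ∀ (hU : x₀.pt ∈ U) (a : Γ(X, U)) (W : Set ℂ), IsOpen W →
      x₀.ev U hU a ∈ W → Pts.basicSet U a W ∈ 𝒰) : 𝒰 ≤ 𝓝 x₀ := by
  refine le_nhds_of_basicSet_mem 𝒰 x₀ (fun U a W hW hx => ?_)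
  obtain ⟨hxU, hxW⟩ := hx
  obtain ⟨_, ⟨(U' : X.Opens), hU' : IsAffineOpen U', rfl⟩, hxU', hU'U⟩ :=
    X.isBasis_affineOpens.exists_subset_of_mem_open hxU U.2
  have hle : U' ≤ U := hU'U
  have h1 := H U' hU' hxU' (X.presheaf.map (homOfLE hle).op a) W hW (by rw [ev_res]; exact hxW)
  rw [basicSet_res] at h1
  exact Filter.mem_of_superset h1 Set.inter_subset_left

/-- total evaluation (zero outside `U`) -/
noncomputable def evT (x : Pts X) (U : X.Opens) (a : Γ(X, U)) : ℂ := by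
  classical
  exact if h : x.pt ∈ U then x.ev U h a else 0

lemma evT_of_mem (x : Pts X) (U : X.Opens) (a : Γ(X, U)) (h : x.pt ∈ U) :
    evT x U a = x.ev U h a := by
  unfold evT
  rw [dif_pos h]

lemma mem_basicSet_iff (x : Pts X) (U : X.Opens) (a : Γ(X, U)) (W : Set ℂ) :
    x ∈ Pts.basicSet U a W ↔ x.pt ∈ U ∧ evT x U a ∈ W := by
  constructor
  · rintro ⟨h, hw⟩
    exact ⟨h, by rw [evT_of_mem x U a h]; exact hw⟩
  · rintro ⟨h, hw⟩
    exact ⟨h, by rw [evT_of_mem x U a h] at hw; exact hw⟩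

/-- continuity of evaluation along a filter -/
lemma tendsto_evT {I : Type*} (𝒰 : Filter I) (φ : I → Pts Y) (y : Pts Y)
    (h : Tendsto φ 𝒰 (𝓝 y)) (V : Y.Opens) (hy : y.pt ∈ V) (b : Γ(Y, V)) :
    Tendsto (fun i => evT (φ i) V b) 𝒰 (𝓝 (y.ev V hy b)) := by
  rw [tendsto_nhds]
  intro W hW hyW
  have h1 : Pts.basicSet V b W ∈ 𝓝 y := (Pts.isOpen_basicSet V b hW).mem_nhds ⟨hy, hyW⟩
  filter_upwards [h.eventually h1] with i hi
  exact ((mem_basicSet_iff _ _ _ _).1 hi).2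

open UltraC in
set_option maxHeartbeats 4000000 in
/-- **Main theorem**: for a universally closed morphism over `ℂ`, an ultrafilter on `X(ℂ)` whose image
converges in `Y(ℂ)` converges to a point of the fibre. -/
theorem exists_le_nhds_of_universallyClosed (f : X ⟶ Y) [f.IsOver SC] [UniversallyClosed f]
    (𝒰 : Ultrafilter (Pts X)) (y : Pts Y) (h : Tendsto (Pts.map f) 𝒰 (𝓝 y)) :
    ∃ x, Pts.map f x = y ∧ (𝒰 : Filter (Pts X)) ≤ 𝓝 x := by
  classical
  -- Step 1: an affine neighbourhood of `y`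
  obtain ⟨_, ⟨(V : Y.Opens), hV : IsAffineOpen V, rfl⟩, hyV, -⟩ :=
    Y.isBasis_affineOpens.exists_subset_of_mem_open (Set.mem_univ y.pt) isOpen_univ
  have hS₁ : {x : Pts X | (Pts.map f x).pt ∈ V} ∈ (𝒰 : Filter (Pts X)) :=
    h.eventually ((Pts.isOpen_preimage_pt V).mem_nhds hyV)
  -- Step 2: an affine open `U` of `f⁻¹ V` containing most points
  have hqc : IsCompact ((f ⁻¹ᵁ V : X.Opens) : Set X) :=
    QuasiCompact.isCompact_preimage (f := f) _ V.2 hV.isCompact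
  obtain ⟨s, hsfin, hs⟩ :=
    isCompact_and_isOpen_iff_finite_and_eq_biUnion_affineOpens.1 ⟨hqc, (f ⁻¹ᵁ V).2⟩
  have hS₂ : (⋃ U ∈ s, {x : Pts X | x.pt ∈ (U : X.Opens)}) ∈ (𝒰 : Filter (Pts X)) := by
    refine Filter.mem_of_superset hS₁ (fun x hx => ?_)
    have hx' : x.pt ∈ ((f ⁻¹ᵁ V : X.Opens) : Set X) := by
      replace hx : (Pts.map f x).pt ∈ V := hx
      rw [Pts.pt_map] at hx
      exact hx
    rw [hs] at hx'
    simp only [Set.mem_iUnion] at hx' ⊢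
    exact hx'
  obtain ⟨⟨U, hU⟩, hUs, hSU⟩ := (Ultrafilter.finite_biUnion_mem_iff hsfin).1 hS₂
  replace hU : IsAffineOpen U := hU
  have hUV : U ≤ f ⁻¹ᵁ V := by
    intro p hp
    have : p ∈ ((f ⁻¹ᵁ V : X.Opens) : Set X) := by
      rw [hs]
      simp only [Set.mem_iUnion]
      exact ⟨⟨U, hU⟩, hUs, hp⟩
    exact this
  change {x : Pts X | x.pt ∈ U} ∈ (𝒰 : Filter (Pts X)) at hSU
  -- Step 3: modify the family of points
  obtain ⟨x₁, hx₁⟩ := Filter.nonempty_of_mem hSU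
  replace hx₁ : x₁.pt ∈ U := hx₁
  let x' : Pts X → Pts X := fun i => if i.pt ∈ U then i else x₁
  have hx' : ∀ i, (x' i).pt ∈ U := by
    intro i
    by_cases hi : i.pt ∈ U
    · simp only [x', if_pos hi]; exact hi
    · simp only [x', if_neg hi]; exact hx₁
  have hx'ev : ∀ᶠ i in (𝒰 : Filter (Pts X)), x' i = i := by
    filter_upwards [hSU] with i hi
    exact if_pos hi
  -- Step 4: the `K`-point
  let α : Γ(X, U) →+* K 𝒰 :=
    (Germ.coeRingHom (𝒰 : Filter (Pts X))).comp (RingHom.pi fun i => evHom (x' i) U (hx' i))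
  have hα : ∀ a, α a = ((fun i => (x' i).ev U (hx' i) a : Pts X → ℂ) : K 𝒰) := fun a => rfl
  have hαT : ∀ a, α a = ((fun i => evT i U a : Pts X → ℂ) : K 𝒰) := by
    intro a
    rw [hα]
    apply Germ.coe_eq.2
    filter_upwards [hx'ev, hSU] with i hi hiU
    have key : ∀ z : Pts X, z = i → ∀ hz : z.pt ∈ U, z.ev U hz a = evT i U a := by
      rintro z rfl hz
      exact (evT_of_mem z U a hz).symm
    exact key (x' i) hi (hx' i)
  -- Step 5: boundedness on `Γ(Y, V)`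
  have hβtend : ∀ b : Γ(Y, V), Tendsto (fun i => evT i U (f.appLE V U hUV b)) 𝒰
      (𝓝 (y.ev V hyV b)) := by
    intro b
    have h1 := tendsto_evT (𝒰 : Filter (Pts X)) (Pts.map f) y h V hyV b
    refine h1.congr' ?_
    filter_upwards [hSU] with i hiU
    have hiV : (Pts.map f i).pt ∈ V := by rw [Pts.pt_map]; exact hUV hiU
    rw [evT_of_mem _ V b hiV, evT_of_mem i U _ hiU, ev_eq_evR, ev_eq_evR]
    exact RPts.evR_comp i.1 f hUV (Pts.preimage_eq_top i hiU) b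
  have hβmem : ∀ b : Γ(Y, V), α (f.appLE V U hUV b) ∈ O 𝒰 := by
    intro b
    rw [hαT]
    exact isBdd_of_tendsto (hβtend b)
  let β' : Γ(Y, V) →+* ↥(O 𝒰) :=
    { toFun := fun b => ⟨α (f.appLE V U hUV b), hβmem b⟩
      map_one' := Subtype.ext (by simp)
      map_mul' := fun b b' => Subtype.ext (by simp)
      map_zero' := Subtype.ext (by simp)
      map_add' := fun b b' => Subtype.ext (by simp) }
  have hstβ : ∀ b, stHom 𝒰 (β' b) = y.ev V hyV b := by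
    intro b
    change st 𝒰 (α (f.appLE V U hUV b)) = _
    rw [hαT]
    exact st_eq_of_tendsto (hβtend b)
  -- Step 7: the valuative square
  let i₁ : Spec (CommRingCat.of (K 𝒰)) ⟶ X := Spec.map (CommRingCat.ofHom α) ≫ hU.fromSpec
  let i₂ : Spec (CommRingCat.of ↥(O 𝒰)) ⟶ Y := Spec.map (CommRingCat.ofHom β') ≫ hV.fromSpec
  have hsq : i₁ ≫ f = Spec.map (CommRingCat.ofHom (algebraMap ↥(O 𝒰) (K 𝒰))) ≫ i₂ := by
    change (Spec.map (CommRingCat.ofHom α) ≫ hU.fromSpec) ≫ f =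
      Spec.map (CommRingCat.ofHom (algebraMap ↥(O 𝒰) (K 𝒰))) ≫
        Spec.map (CommRingCat.ofHom β') ≫ hV.fromSpec
    rw [Category.assoc, ← IsAffineOpen.SpecMap_appLE_fromSpec f hV hU hUV, ← Category.assoc,
      ← Category.assoc, ← Spec.map_comp, ← Spec.map_comp]
    rfl
  let S : ValuativeCommSq f :=
    { R := ↥(O 𝒰)
      K := K 𝒰
      i₁ := i₁
      i₂ := i₂
      commSq := ⟨hsq⟩ }
  have hex : ValuativeCriterion.Existence f := by
    have huc : UniversallyClosed f := inferInstance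
    rw [UniversallyClosed.eq_valuativeCriterion] at huc
    exact huc.1
  obtain ⟨ℓ, hℓ₁, hℓ₂⟩ : ∃ ℓ : Spec (CommRingCat.of ↥(O 𝒰)) ⟶ X,
      Spec.map (CommRingCat.ofHom (algebraMap ↥(O 𝒰) (K 𝒰))) ≫ ℓ = i₁ ∧ ℓ ≫ f = i₂ := by
    obtain ⟨⟨ℓ, h1, h2⟩⟩ := (hex S).exists_lift
    exact ⟨ℓ, h1, h2⟩
  -- Step 8: the limit point
  let x₀ : SC ⟶ X := Spec.map (CommRingCat.ofHom (stHom 𝒰)) ≫ ℓ
  have hx₀f : x₀ ≫ f = y.1 := by
    change (Spec.map (CommRingCat.ofHom (stHom 𝒰)) ≫ ℓ) ≫ f = y.1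
    rw [Category.assoc, hℓ₂]
    change Spec.map (CommRingCat.ofHom (stHom 𝒰)) ≫ Spec.map (CommRingCat.ofHom β') ≫ hV.fromSpec = _
    rw [← Category.assoc, ← Spec.map_comp,
      RPts.eq_SpecMap_comp_fromSpec y.1 hV (Pts.preimage_eq_top y hyV)]
    congr 2
    ext b
    exact hstβ b
  let x₀pt : Pts X := ⟨x₀, by rw [← comp_over f SC, ← Category.assoc, hx₀f]; exact y.2⟩
  refine ⟨x₀pt, Subtype.ext hx₀f, ?_⟩
  -- Step 9: convergence
  refine le_nhds_of_basicSet_mem_affine _ x₀pt (fun U' hU' hxU' a W hW hxW => ?_)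
  -- (9a) `ℓ` lands in `U'`
  have hℓU' : ℓ ⁻¹ᵁ U' = ⊤ := by
    apply (IsLocalRing.closed_point_mem_iff (R := ↥(O 𝒰)) (U := ℓ ⁻¹ᵁ U')).1
    let c : PrimeSpectrum ↥(O 𝒰) := Spec.map (CommRingCat.ofHom (stHom 𝒰)) cpt
    have hc : c = IsLocalRing.closedPoint ↥(O 𝒰) := by
      apply PrimeSpectrum.ext
      have hmax : c.asIdeal.IsMaximal := by
        have hsurj : Function.Surjective (stHom 𝒰) := by
          intro z
          refine ⟨⟨(↑z : K 𝒰), const_mem_O 𝒰 z⟩, ?_⟩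
          exact st_const 𝒰 z
        have : c.asIdeal = RingHom.ker (stHom 𝒰) := by
          ext r
          change stHom 𝒰 r ∈ (⊥ : Ideal ℂ) ↔ _
          rw [RingHom.mem_ker, Ideal.mem_bot]
        rw [this]
        exact RingHom.ker_isMaximal_of_surjective _ hsurj
      exact IsLocalRing.eq_maximalIdeal hmax
    rw [← hc]
    change ℓ c ∈ U'
    have : ℓ c = x₀pt.pt := by
      change ℓ (Spec.map (CommRingCat.ofHom (stHom 𝒰)) cpt) = (Spec.map (CommRingCat.ofHom (stHom 𝒰)) ≫ ℓ) cpt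
      rw [Scheme.Hom.comp_apply]
    rw [this]
    exact hxU'
  -- (9b) most points lie in a basic open `D(g) ⊆ U ⊓ U'`
  have hi₁U' : i₁ ⁻¹ᵁ U' = ⊤ := by
    rw [← hℓ₁, Scheme.Hom.comp_preimage, hℓU']
    rfl
  have hi₁U : i₁ ⁻¹ᵁ U = ⊤ := RPts.fromSpec_preimage_eq_top hU (CommRingCat.ofHom α)
  let ptK : ↥(Spec (CommRingCat.of (K 𝒰))) := (⊥ : PrimeSpectrum (K 𝒰))
  have hq' : i₁ ptK ∈ U' := by
    have : ptK ∈ i₁ ⁻¹ᵁ U' := by rw [hi₁U']; trivial
    exact this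
  have hq : i₁ ptK ∈ U := by
    have : ptK ∈ i₁ ⁻¹ᵁ U := by rw [hi₁U]; trivial
    exact this
  obtain ⟨g, hgU', hqg⟩ := hU.exists_basicOpen_le ⟨i₁ ptK, hq'⟩ hq
  have hevα : ∀ c : Γ(X, U), RPts.evR i₁ U hi₁U c = α c :=
    fun c => RPts.evR_fromSpec hU (CommRingCat.ofHom α) c
  have hαg : α g ≠ 0 := by
    intro h0
    have h1 : ptK ∈ i₁ ⁻¹ᵁ X.basicOpen g := hqg
    rw [RPts.preimage_basicOpen i₁ U hi₁U g, hevα, h0] at h1
    exact h1 (zero_mem _)
  have hgev : ∀ᶠ i in (𝒰 : Filter (Pts X)), evT i U g ≠ 0 := by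
    have h1 : α g ≠ 0 := hαg
    rw [hαT] at h1
    exact (Ultrafilter.eventually_not (f := 𝒰) (p := fun i => evT i U g = 0)).2
      (fun h0 => h1 (Germ.coe_eq.2 h0))
  have hDU : X.basicOpen g ≤ U := X.basicOpen_le g
  have hDev : ∀ᶠ i in (𝒰 : Filter (Pts X)), i.pt ∈ X.basicOpen g := by
    filter_upwards [hgev, hSU] with i hi hiU
    rw [evT_of_mem i U g hiU] at hi
    exact (mem_basicOpen_iff i U hiU g).2 hi
  -- (9c) localization
  obtain ⟨m, b, hb⟩ := exists_eq_pow_mul_of_isAffineOpen X U hU g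
    (X.presheaf.map (homOfLE hgU').op a)
  replace hb : X.presheaf.map (homOfLE hDU).op b =
      (X.presheaf.map (homOfLE hDU).op g) ^ m * X.presheaf.map (homOfLE hgU').op a := hb
  have hi₁D : i₁ ⁻¹ᵁ X.basicOpen g = ⊤ := by
    ext p
    simp only [Opens.coe_top, Set.mem_univ, iff_true]
    have : p = ptK := Subsingleton.elim (α := PrimeSpectrum (K 𝒰)) _ _
    rw [this]
    exact hqg
  have hstar : α b = (α g) ^ m * RPts.evR i₁ U' hi₁U' a := by
    have h1 := congrArg (RPts.evR i₁ (X.basicOpen g) hi₁D) hb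
    rw [map_mul, map_pow, RPts.evR_res i₁ hDU hi₁D b, RPts.evR_res i₁ hDU hi₁D g,
      RPts.evR_res i₁ hgU' hi₁D a] at h1
    rw [← hevα, ← hevα]
    exact h1
  have hstar2 : α b = (α g) ^ m * ((fun i => evT i U' a : Pts X → ℂ) : K 𝒰) := by
    rw [hαT, hαT]
    apply Germ.coe_eq.2
    filter_upwards [hDev] with i hiD
    have hiU : i.pt ∈ U := hDU hiD
    have hiU' : i.pt ∈ U' := hgU' hiD
    have h1 := congrArg (evHom i (X.basicOpen g) hiD) hb
    rw [map_mul, map_pow, evHom_apply, evHom_apply, evHom_apply, ev_res i hDU hiD b,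
      ev_res i hDU hiD g, ev_res i hgU' hiD a] at h1
    change evT i U b = (evT i U g) ^ m * evT i U' a
    rw [evT_of_mem i U b hiU, evT_of_mem i U g hiU, evT_of_mem i U' a hiU']
    exact h1
  have hgerm : ((fun i => evT i U' a : Pts X → ℂ) : K 𝒰) = RPts.evR i₁ U' hi₁U' a := by
    have h1 : (α g) ^ m * ((fun i => evT i U' a : Pts X → ℂ) : K 𝒰) =
        (α g) ^ m * RPts.evR i₁ U' hi₁U' a := hstar2.symm.trans hstar
    exact mul_left_cancel₀ (pow_ne_zero m hαg) h1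
  -- (9d) the standard part
  have hγ : RPts.evR i₁ U' hi₁U' a =
      algebraMap ↥(O 𝒰) (K 𝒰) (RPts.evR ℓ U' hℓU' a) := by
    have h' : (Spec.map (CommRingCat.ofHom (algebraMap ↥(O 𝒰) (K 𝒰))) ≫ ℓ) ⁻¹ᵁ U' = ⊤ := by
      rw [hℓ₁]; exact hi₁U'
    rw [evR_congr hℓ₁.symm U' hi₁U' h' a]
    exact RPts.evR_SpecMap_comp ℓ (CommRingCat.ofHom (algebraMap ↥(O 𝒰) (K 𝒰))) U' hℓU' h' a
  have hst : stHom 𝒰 (RPts.evR ℓ U' hℓU' a) = x₀pt.ev U' hxU' a := by
    rw [ev_eq_evR]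
    exact (RPts.evR_SpecMap_comp ℓ (CommRingCat.ofHom (stHom 𝒰)) U' hℓU'
      (Pts.preimage_eq_top x₀pt hxU') a).symm
  have hbdd : IsBdd 𝒰 ((fun i => evT i U' a : Pts X → ℂ) : K 𝒰) := by
    rw [hgerm, hγ]
    exact (RPts.evR ℓ U' hℓU' a).2
  have htend := tendsto_st hbdd
  have hlim : st 𝒰 ((fun i => evT i U' a : Pts X → ℂ) : K 𝒰) = x₀pt.ev U' hxU' a := by
    rw [← hst, stHom_apply, hgerm, hγ]
    rfl
  rw [hlim] at htend
  have hWev : ∀ᶠ i in (𝒰 : Filter (Pts X)), evT i U' a ∈ W :=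
    htend.eventually (hW.mem_nhds hxW)
  filter_upwards [hWev, hDev] with i hiW hiD
  exact (mem_basicSet_iff i U' a W).2 ⟨hgU' hiD, hiW⟩

/-- a universally closed morphism over `ℂ` induces a proper map on complex points -/
theorem isProperMap_pts_of_universallyClosed (f : X ⟶ Y) [f.IsOver SC] [UniversallyClosed f] :
    IsProperMap (Pts.map f) := by
  rw [isProperMap_iff_ultrafilter]
  exact ⟨Pts.continuous_map f, fun 𝒰 y h => exists_le_nhds_of_universallyClosed f 𝒰 y h⟩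

end Groth.Agent.Lib.Seat20.AnUltra
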