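import Mathlib

/-!
# Seat20: the commutative algebra behind "universally closed can be tested on finite type bases"
-/

set_option autoImplicit false

universe u v

namespace Groth.Agent.Lib.Seat20.UCAlg

/-- if no prime of `D` containing `I` lies over the prime `𝔭` of `B`, then some `s ∉ 𝔭` is, modulo
`I`, a combination of elements of `𝔭`. -/
theorem exists_descent_data {B D : Type*} [CommRing B] [CommRing D] (ρ : B →+* D) (I : Ideal D)
    (𝔭 : Ideal B) [𝔭.IsPrime]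
    (hno : ∀ 𝔮 : Ideal D, 𝔮.IsPrime → I ≤ 𝔮 → 𝔮.comap ρ ≠ 𝔭) :
    ∃ (s : B) (t : Finset B) (d : B → D), s ∉ 𝔭 ∧ (∀ x ∈ t, x ∈ 𝔭) ∧
      ρ s - ∑ x ∈ t, d x * ρ x ∈ I := by
  classical
  let ρ' : B →+* D ⧸ I := (Ideal.Quotient.mk I).comp ρ
  have hne : (𝔭.map ρ').comap ρ' ≠ 𝔭 := by
    intro h
    obtain ⟨𝔮', h𝔮', h𝔮'p⟩ := (Ideal.comap_map_eq_self_iff_of_isPrime 𝔭).1 h
    refine hno (𝔮'.comap (Ideal.Quotient.mk I)) (Ideal.comap_isPrime _ _) ?_ ?_
    · intro x hx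
      rw [Ideal.mem_comap, Ideal.Quotient.eq_zero_iff_mem.2 hx]
      exact zero_mem _
    · rw [← h𝔮'p]
      rfl
  have hle : 𝔭 ≤ (𝔭.map ρ').comap ρ' := Ideal.le_comap_map
  obtain ⟨s, hs, hsp⟩ : ∃ s, s ∈ (𝔭.map ρ').comap ρ' ∧ s ∉ 𝔭 := by
    by_contra hcon
    apply hne
    refine le_antisymm (fun s hs => ?_) hle
    by_contra hsp
    exact hcon ⟨s, hs, hsp⟩
  rw [Ideal.mem_comap, Ideal.map, Ideal.span, Submodule.mem_span_image_iff_exists_fun] at hs
  obtain ⟨t, ht, c, hc⟩ := hs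
  choose lift hlift using fun y : D ⧸ I => Ideal.Quotient.mk_surjective y
  refine ⟨s, t, fun x => if h : x ∈ t then lift (c ⟨x, h⟩) else 0, hsp, fun x hx => ht hx, ?_⟩
  rw [← Ideal.Quotient.eq_zero_iff_mem, map_sub, map_sum, sub_eq_zero]
  change ρ' s = _
  rw [← hc, ← Finset.sum_coe_sort t]
  refine Finset.sum_congr rfl (fun x _ => ?_)
  simp only [dif_pos x.2]
  rw [map_mul, hlift, smul_eq_mul]
  rfl

/-- the descended data witnesses that no prime over the closure lies over the contracted prime -/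
theorem comap_ne_of_descent {B B₀ D D₀ : Type*} [CommRing B] [CommRing B₀] [CommRing D]
    [CommRing D₀] (ρ : B →+* D) (ρ₀ : B₀ →+* D₀) (ι : B₀ →+* B) (π : D₀ →+* D)
    (hcomm : π.comp ρ₀ = ρ.comp ι) (I : Ideal D) (𝔭 : Ideal B) (s : B) (t : Finset B) (d : B → D)
    (hs : s ∉ 𝔭) (ht : ∀ x ∈ t, x ∈ 𝔭) (hI : ρ s - ∑ x ∈ t, d x * ρ x ∈ I)
    (hs₀ : s ∈ Set.range ι) (ht₀ : ∀ x ∈ t, x ∈ Set.range ι) (hd₀ : ∀ x ∈ t, d x ∈ Set.range π)
    (𝔮₀ : Ideal D₀) (h𝔮₀ : I.comap π ≤ 𝔮₀) : 𝔮₀.comap ρ₀ ≠ 𝔭.comap ι := by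
  classical
  intro heq
  obtain ⟨s₀, rfl⟩ := hs₀
  let x₀ : B → B₀ := fun x => if h : x ∈ t then (ht₀ x h).choose else 0
  have hx₀ : ∀ x ∈ t, ι (x₀ x) = x := by
    intro x hx
    simp only [x₀, dif_pos hx]
    exact (ht₀ x hx).choose_spec
  let d₀ : B → D₀ := fun x => if h : x ∈ t then (hd₀ x h).choose else 0
  have hd₀' : ∀ x ∈ t, π (d₀ x) = d x := by
    intro x hx
    simp only [d₀, dif_pos hx]
    exact (hd₀ x hx).choose_spec
  have hc : ∀ b, π (ρ₀ b) = ρ (ι b) := fun b => congrArg (fun k => k b) hcomm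
  let a₀ : D₀ := ρ₀ s₀ - ∑ x ∈ t, d₀ x * ρ₀ (x₀ x)
  have ha₀ : a₀ ∈ 𝔮₀ := by
    apply h𝔮₀
    rw [Ideal.mem_comap, map_sub, map_sum, hc]
    have : ∑ x ∈ t, π (d₀ x * ρ₀ (x₀ x)) = ∑ x ∈ t, d x * ρ x := by
      refine Finset.sum_congr rfl (fun x hx => ?_)
      rw [map_mul, hd₀' x hx, hc, hx₀ x hx]
    rw [this]
    exact hI
  have hsum : ∑ x ∈ t, d₀ x * ρ₀ (x₀ x) ∈ 𝔮₀ := by
    refine Ideal.sum_mem _ (fun x hx => Ideal.mul_mem_left _ _ ?_)
    have h1 : x₀ x ∈ 𝔭.comap ι := by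
      rw [Ideal.mem_comap, hx₀ x hx]
      exact ht x hx
    rw [← heq] at h1
    exact h1
  have hs₀ : ρ₀ s₀ ∈ 𝔮₀ := by
    have : ρ₀ s₀ = a₀ + ∑ x ∈ t, d₀ x * ρ₀ (x₀ x) := by simp [a₀]
    rw [this]
    exact Ideal.add_mem _ ha₀ hsum
  have h2 : s₀ ∈ 𝔮₀.comap ρ₀ := hs₀
  rw [heq] at h2
  exact hs h2

open TensorProduct CategoryTheory in
/-- In a pushout square of commutative rings, the pushout is generated by the two images. -/
lemma closure_range_eq_top_of_isPushout {R S T P : CommRingCat.{u}} {f : R ⟶ S} {g : R ⟶ T}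
    {inl : S ⟶ P} {inr : T ⟶ P} (h : IsPushout f g inl inr) :
    Subring.closure (Set.range inl.hom ∪ Set.range inr.hom) = ⊤ := by
  set B : Subring P := Subring.closure (Set.range inl.hom ∪ Set.range inr.hom) with hB
  let inl' : S ⟶ CommRingCat.of B := CommRingCat.ofHom
    (inl.hom.codRestrict B fun a => Subring.subset_closure (Or.inl ⟨a, rfl⟩))
  let inr' : T ⟶ CommRingCat.of B := CommRingCat.ofHom
    (inr.hom.codRestrict B fun a => Subring.subset_closure (Or.inr ⟨a, rfl⟩))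
  let ι : CommRingCat.of B ⟶ P := CommRingCat.ofHom B.subtype
  have hl : inl' ≫ ι = inl := by ext a; rfl
  have hr : inr' ≫ ι = inr := by ext a; rfl
  have hw : f ≫ inl' = g ≫ inr' := by
    ext a
    have := congrArg (fun k => k.hom a) h.w
    exact this
  have hid : h.desc inl' inr' hw ≫ ι = 𝟙 P := by
    apply h.hom_ext
    · rw [← Category.assoc, h.inl_desc, hl, Category.comp_id]
    · rw [← Category.assoc, h.inr_desc, hr, Category.comp_id]
  rw [eq_top_iff]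
  intro γ _
  have : γ = ι.hom ((h.desc inl' inr' hw).hom γ) := by
    have := congrArg (fun k => k.hom γ) hid
    exact this.symm
  rw [this]
  exact ((h.desc inl' inr' hw).hom γ).2

open TensorProduct in
/-- the product map `S ⊗[ℤ] T → P`, `c ⊗ b ↦ inl c * inr b` -/
noncomputable def prodMap {S T P : Type*} [CommRing S] [CommRing T] [CommRing P]
    (inl : S →+* P) (inr : T →+* P) : S ⊗[ℤ] T →+* P :=
  (Algebra.TensorProduct.productMap inl.toIntAlgHom inr.toIntAlgHom).toRingHom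

open TensorProduct in
lemma prodMap_tmul {S T P : Type*} [CommRing S] [CommRing T] [CommRing P]
    (inl : S →+* P) (inr : T →+* P) (c : S) (b : T) :
    prodMap inl inr (c ⊗ₜ b) = inl c * inr b := by
  simp [prodMap]

open TensorProduct in
lemma prodMap_surjective {S T P : Type*} [CommRing S] [CommRing T] [CommRing P]
    (inl : S →+* P) (inr : T →+* P)
    (h : Subring.closure (Set.range inl ∪ Set.range inr) = ⊤) :
    Function.Surjective (prodMap inl inr) := by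
  rw [← RingHom.range_eq_top, eq_top_iff, ← h, Subring.closure_le]
  rintro _ (⟨c, rfl⟩ | ⟨b, rfl⟩)
  · exact ⟨c ⊗ₜ 1, by rw [prodMap_tmul, map_one, mul_one]⟩
  · exact ⟨1 ⊗ₜ b, by rw [prodMap_tmul, map_one, one_mul]⟩

open TensorProduct in
/-- a tensor involves only finitely many elements of the second factor -/
lemma exists_finset_mem_range_map {S B : Type*} [CommRing S] [CommRing B] (τ : S ⊗[ℤ] B) :
    ∃ S₀ : Finset B, ∀ {B₀ : Type v} [CommRing B₀] (ι : B₀ →+* B), (↑S₀ : Set B) ⊆ Set.range ι →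
      τ ∈ Set.range (Algebra.TensorProduct.map (AlgHom.id ℤ S) ι.toIntAlgHom) := by
  classical
  induction τ using TensorProduct.induction_on with
  | zero => exact ⟨∅, fun ι _ => ⟨0, map_zero _⟩⟩
  | tmul c b =>
    refine ⟨{b}, fun ι h => ?_⟩
    obtain ⟨b₀, hb₀⟩ := h (Finset.mem_coe.2 (Finset.mem_singleton_self b))
    exact ⟨c ⊗ₜ b₀, by simp [hb₀]⟩
  | add x y hx hy =>
    obtain ⟨S₁, h₁⟩ := hx
    obtain ⟨S₂, h₂⟩ := hy
    refine ⟨S₁ ∪ S₂, fun ι h => ?_⟩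
    obtain ⟨x₀, hx₀⟩ := h₁ ι (fun b hb => h (by simp [Finset.mem_coe.1 hb]))
    obtain ⟨y₀, hy₀⟩ := h₂ ι (fun b hb => h (by simp [Finset.mem_coe.1 hb]))
    exact ⟨x₀ + y₀, by rw [map_add, hx₀, hy₀]⟩

end Groth.Agent.Lib.Seat20.UCAlg
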