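import Mathlib
import Groth.Agent.Lib.Seat20UCAlg

/-!
# Seat20: universal closedness can be tested on base changes locally of finite type
(a form of Stacks 05JX)
-/

set_option autoImplicit false

universe u

open AlgebraicGeometry CategoryTheory CategoryTheory.Limits TopologicalSpace Opposite

namespace Groth.Agent.Lib.Seat20.UCDescent

open Groth.Agent.Lib.Seat20

section ptIdeal

variable {P : Scheme.{u}}

/-- the prime ideal of sections over `C` which are not invertible at `z` -/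
noncomputable def ptIdeal (C : P.Opens) (z : P) (hz : z ∈ C) : Ideal Γ(P, C) :=
  Ideal.comap (P.presheaf.germ C z hz).hom (IsLocalRing.maximalIdeal (P.presheaf.stalk z))

instance (C : P.Opens) (z : P) (hz : z ∈ C) : (ptIdeal C z hz).IsPrime :=
  Ideal.comap_isPrime _ _

lemma mem_ptIdeal_iff (C : P.Opens) (z : P) (hz : z ∈ C) (d : Γ(P, C)) :
    d ∈ ptIdeal C z hz ↔ z ∉ P.basicOpen d := by
  rw [ptIdeal, Ideal.mem_comap, IsLocalRing.mem_maximalIdeal, mem_nonunits_iff,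
    Scheme.mem_basicOpen P d z hz]

/-- on an affine open every prime ideal is the ideal of a point -/
lemma exists_ptIdeal_eq {C : P.Opens} (hC : IsAffineOpen C) (𝔮 : Ideal Γ(P, C)) [h𝔮 : 𝔮.IsPrime] :
    ∃ (z : P) (hz : z ∈ C), ptIdeal C z hz = 𝔮 := by
  let x : PrimeSpectrum Γ(P, C) := ⟨𝔮, h𝔮⟩
  have hz : hC.fromSpec x ∈ C := by
    have : hC.fromSpec x ∈ hC.fromSpec.opensRange := ⟨x, rfl⟩
    rwa [hC.opensRange_fromSpec] at this
  refine ⟨hC.fromSpec x, hz, ?_⟩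
  ext d
  rw [mem_ptIdeal_iff]
  have h1 : hC.fromSpec x ∈ P.basicOpen d ↔ x ∈ hC.fromSpec ⁻¹ᵁ P.basicOpen d := Iff.rfl
  rw [h1, hC.fromSpec_preimage_basicOpen]
  change ¬ (d ∉ 𝔮) ↔ d ∈ 𝔮
  exact not_not

/-- functoriality of point ideals -/
lemma comap_ptIdeal {T : Scheme.{u}} (p : P ⟶ T) (C : P.Opens) (W : T.Opens) (e : C ≤ p ⁻¹ᵁ W)
    (z : P) (hz : z ∈ C) :
    Ideal.comap (p.appLE W C e).hom (ptIdeal C z hz) = ptIdeal W (p z) (e hz) := by
  ext b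
  rw [Ideal.mem_comap, mem_ptIdeal_iff, mem_ptIdeal_iff, Scheme.basicOpen_appLE]
  constructor
  · intro h h'
    exact h ⟨hz, h'⟩
  · rintro h ⟨-, h'⟩
    exact h h'

/-- point ideals on `Spec` -/
lemma ptIdeal_Spec {R : CommRingCat.{u}} (x : Spec R) (b : R) :
    (Scheme.ΓSpecIso R).inv b ∈ ptIdeal (⊤ : (Spec R).Opens) x trivial ↔ b ∈ x.asIdeal := by
  rw [mem_ptIdeal_iff, basicOpen_eq_of_affine]
  change ¬ (b ∉ x.asIdeal) ↔ _
  exact not_not

end ptIdeal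

lemma appLE_eq_of_eq {X Y : Scheme.{u}} {f f' : X ⟶ Y} (h : f = f') (U : Y.Opens) (V : X.Opens)
    (e : V ≤ f ⁻¹ᵁ U) (e' : V ≤ f' ⁻¹ᵁ U) : f.appLE U V e = f'.appLE U V e' := by
  subst h
  rfl

/-- points of an affine scheme are determined by their ideals of global sections -/
lemma eq_of_ptIdeal_eq {T : Scheme.{u}} [IsAffine T] (t t' : T)
    (h : ptIdeal (⊤ : T.Opens) t trivial = ptIdeal (⊤ : T.Opens) t' trivial) : t = t' := by
  apply Inseparable.eq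
  rw [(isBasis_basicOpen T).inseparable_iff]
  rintro _ ⟨_, ⟨b, rfl⟩, rfl⟩
  have h1 := mem_ptIdeal_iff (⊤ : T.Opens) t trivial b
  have h2 := mem_ptIdeal_iff (⊤ : T.Opens) t' trivial b
  rw [h] at h1
  change t ∈ T.basicOpen b ↔ t' ∈ T.basicOpen b
  exact not_iff_not.1 (h1.symm.trans h2)

section core

variable {X Y T P : Scheme.{u}} [IsAffine Y] [IsAffine T] (f : X ⟶ Y) (g : T ⟶ Y)
  (p₁ : P ⟶ X) (p₂ : P ⟶ T) (hP : IsPullback p₁ p₂ f g)

include hP in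
lemma isPushout_chart {U : X.Opens} (hU : IsAffineOpen U) :
    IsPushout (f.appLE ⊤ U le_top) (g.appLE ⊤ ⊤ le_top)
      (p₁.appLE U (p₁ ⁻¹ᵁ U) le_rfl) (p₂.appLE ⊤ (p₁ ⁻¹ᵁ U) le_top) := by
  have hUY : p₁ ⁻¹ᵁ U = p₁ ⁻¹ᵁ U ⊓ p₂ ⁻¹ᵁ ⊤ := by simp
  have h1 := isIso_pushoutSection_of_isAffineOpen hP (US := ⊤) (UT := ⊤) (UX := U) le_top le_top
    hUY (isAffineOpen_top Y) (isAffineOpen_top T) hU
  exact (isIso_pushoutSection_iff hP le_top le_top hUY).1 h1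

/-- the ideal of sections over `C` vanishing (non-invertible) at all points of `Z` -/
noncomputable def chartIdeal (Z : Set P) (C : P.Opens) : Ideal Γ(P, C) :=
  ⨅ (z : P) (_ : z ∈ Z) (hz : z ∈ C), ptIdeal C z hz

lemma mem_chartIdeal_iff (Z : Set P) (C : P.Opens) (d : Γ(P, C)) :
    d ∈ chartIdeal Z C ↔ ∀ z ∈ Z, z ∉ P.basicOpen d := by
  simp only [chartIdeal, Ideal.mem_iInf, mem_ptIdeal_iff]
  constructor
  · intro h z hz hzd
    exact h z hz (P.basicOpen_le d hzd) hzd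
  · intro h z hz _
    exact h z hz

include hP in
lemma isAffineHom_fst : IsAffineHom p₁ :=
  MorphismProperty.of_isPullback (P := @IsAffineHom) hP.flip inferInstance

include hP in
/-- descent data on a chart -/
lemma exists_chart_data {U : X.Opens} (hU : IsAffineOpen U) (Z : Set P) (hZ : IsClosed Z) (t : T)
    (ht : t ∉ p₂ '' Z) :
    ∃ (s : Γ(T, ⊤)) (F : Finset Γ(T, ⊤)) (d : Γ(T, ⊤) → Γ(P, p₁ ⁻¹ᵁ U)),
      s ∉ ptIdeal (⊤ : T.Opens) t trivial ∧ (∀ x ∈ F, x ∈ ptIdeal (⊤ : T.Opens) t trivial) ∧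
      (p₂.appLE ⊤ (p₁ ⁻¹ᵁ U) le_top).hom s -
        ∑ x ∈ F, d x * (p₂.appLE ⊤ (p₁ ⁻¹ᵁ U) le_top).hom x ∈ chartIdeal Z (p₁ ⁻¹ᵁ U) := by
  have := isAffineHom_fst f g p₁ p₂ hP
  have hC : IsAffineOpen (p₁ ⁻¹ᵁ U) := hU.preimage p₁
  refine UCAlg.exists_descent_data _ _ _ (fun 𝔮 h𝔮 hI𝔮 hcomap => ?_)
  obtain ⟨z, hzC, rfl⟩ := exists_ptIdeal_eq hC 𝔮
  have hzZ : z ∈ Z := by
    by_contra hzZ
    let V : P.Opens := ⟨Zᶜ, hZ.isOpen_compl⟩
    obtain ⟨d, hdV, hzd⟩ := hC.exists_basicOpen_le (V := V) ⟨z, hzZ⟩ hzC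
    have hd : d ∈ chartIdeal Z (p₁ ⁻¹ᵁ U) := by
      rw [mem_chartIdeal_iff]
      intro z' hz' hz'd
      exact hdV hz'd hz'
    have := hI𝔮 hd
    rw [mem_ptIdeal_iff] at this
    exact this hzd
  rw [comap_ptIdeal] at hcomap
  have := eq_of_ptIdeal_eq _ _ hcomap
  exact ht ⟨z, hzZ, this⟩

open TensorProduct in
include hP in
set_option maxHeartbeats 4000000 in
/-- **Core descent**: over an affine base, closedness of the base change to an affine scheme follows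
from closedness of the base changes to spectra of finitely generated algebras. -/
theorem isClosedMap_of_forall_finiteType [QuasiCompact f]
    (H : ∀ (B₀ : CommRingCat.{u}) (g₀ : Spec B₀ ⟶ Y), LocallyOfFiniteType g₀ →
      IsClosedMap (pullback.snd f g₀)) :
    IsClosedMap p₂ := by
  classical
  intro Z hZ
  rw [← isOpen_compl_iff, isOpen_iff_forall_mem_open]
  intro t ht
  replace ht : t ∉ p₂ '' Z := ht
  -- the chart data for all affine opens
  choose sU FU dU hsU hFU hdU using fun U : X.affineOpens =>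
    exists_chart_data f g p₁ p₂ hP U.2 Z hZ t ht
  -- tensors representing the `dU`
  have hsurj : ∀ U : X.affineOpens, Function.Surjective
      (UCAlg.prodMap (p₁.appLE U.1 (p₁ ⁻¹ᵁ U.1) le_rfl).hom (p₂.appLE ⊤ (p₁ ⁻¹ᵁ U.1) le_top).hom) :=
    fun U => UCAlg.prodMap_surjective _ _
      (UCAlg.closure_range_eq_top_of_isPushout (isPushout_chart f g p₁ p₂ hP U.2))
  choose τ hτ using fun (U : X.affineOpens) (x : Γ(T, ⊤)) => hsurj U (dU U x)
  choose Sτ hSτ using fun (U : X.affineOpens) (x : Γ(T, ⊤)) =>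
    UCAlg.exists_finset_mem_range_map.{u, u, u} (τ U x)
  -- a finite affine cover of `X`
  have hcpt : CompactSpace X := (quasiCompact_iff_compactSpace f).1 inferInstance
  obtain ⟨𝒮, h𝒮fin, h𝒮⟩ := isCompact_and_isOpen_iff_finite_and_eq_biUnion_affineOpens.1
    ⟨(isCompact_univ : IsCompact (Set.univ : Set X)), isOpen_univ⟩
  -- the finite set of elements of `B = Γ(T, ⊤)`
  let S₀ : Finset Γ(T, ⊤) := h𝒮fin.toFinset.biUnion fun U =>
    insert (sU U) (FU U ∪ (FU U).biUnion fun x => Sτ U x)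
  let : Algebra Γ(Y, ⊤) Γ(T, ⊤) := g.appTop.hom.toAlgebra
  let B₀ : Subalgebra Γ(Y, ⊤) Γ(T, ⊤) := Algebra.adjoin Γ(Y, ⊤) (↑S₀ : Set Γ(T, ⊤))
  have hS₀B₀ : ∀ b ∈ S₀, b ∈ B₀ := fun b hb => Algebra.subset_adjoin (Finset.mem_coe.2 hb)
  let ι : CommRingCat.of ↥B₀ ⟶ Γ(T, ⊤) := CommRingCat.ofHom B₀.val.toRingHom
  let φ₀ : Γ(Y, ⊤) ⟶ CommRingCat.of ↥B₀ := CommRingCat.ofHom (algebraMap Γ(Y, ⊤) ↥B₀)
  have hφ₀ι : φ₀ ≫ ι = g.appTop := by
    ext a
    rfl
  let g₀ : Spec (CommRingCat.of ↥B₀) ⟶ Y := Spec.map φ₀ ≫ Y.isoSpec.inv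
  have hg₀ : LocallyOfFiniteType g₀ := by
    have h1 : LocallyOfFiniteType (Spec.map φ₀) := by
      rw [HasRingHomProperty.Spec_iff (P := @LocallyOfFiniteType)]
      have hfg : B₀.FG := Subalgebra.fg_adjoin_finset S₀
      have hft : Algebra.FiniteType Γ(Y, ⊤) ↥B₀ := (Subalgebra.fg_iff_finiteType B₀).1 hfg
      exact (RingHom.finiteType_algebraMap (A := Γ(Y, ⊤)) (B := ↥B₀)).2 hft
    infer_instance
  let r : T ⟶ Spec (CommRingCat.of ↥B₀) := T.isoSpec.hom ≫ Spec.map ι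
  have hr : r ≫ g₀ = g := by
    change (T.isoSpec.hom ≫ Spec.map ι) ≫ Spec.map φ₀ ≫ Y.isoSpec.inv = g
    rw [Category.assoc, ← Category.assoc (Spec.map ι), ← Spec.map_comp, hφ₀ι,
      ← Category.assoc, Scheme.isoSpec_hom_naturality, Category.assoc, Iso.hom_inv_id,
      Category.comp_id]
  have hrapp : ∀ b₀ : ↥B₀, r.appTop.hom ((Scheme.ΓSpecIso (CommRingCat.of ↥B₀)).inv.hom b₀) =
      (b₀ : Γ(T, ⊤)) := by
    intro b₀
    have h1 : (Scheme.ΓSpecIso (CommRingCat.of ↥B₀)).inv ≫ r.appTop = ι := by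
      change _ ≫ (T.isoSpec.hom ≫ Spec.map ι).appTop = ι
      rw [Scheme.Hom.comp_appTop, ← Category.assoc, ← Scheme.ΓSpecIso_inv_naturality,
        Category.assoc, Scheme.isoSpec_hom, Scheme.toSpecΓ_appTop, Iso.inv_hom_id,
        Category.comp_id]
    exact congrArg (fun k => k.hom b₀) h1
  -- the approximating pullback
  let q₁ : pullback f g₀ ⟶ X := pullback.fst f g₀
  let q₂ : pullback f g₀ ⟶ Spec (CommRingCat.of ↥B₀) := pullback.snd f g₀
  let π : P ⟶ pullback f g₀ := pullback.lift p₁ (p₂ ≫ r) (by rw [Category.assoc, hr, hP.w])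
  have hπ₁ : π ≫ q₁ = p₁ := pullback.lift_fst _ _ _
  have hπ₂ : π ≫ q₂ = p₂ ≫ r := pullback.lift_snd _ _ _
  have hclosed : IsClosed (q₂ '' closure (π '' Z)) := H _ g₀ hg₀ _ isClosed_closure
  refine ⟨r ⁻¹' (q₂ '' closure (π '' Z))ᶜ, ?_, hclosed.isOpen_compl.preimage r.continuous, ?_⟩
  · rintro t' ht' ⟨z, hz, rfl⟩
    apply ht'
    refine ⟨π z, subset_closure ⟨z, hz, rfl⟩, ?_⟩
    rw [← Scheme.Hom.comp_apply, ← Scheme.Hom.comp_apply, hπ₂]
  · rintro ⟨z₀, hz₀, hz₀t⟩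
    have hcov : q₁ z₀ ∈ (Set.univ : Set X) := trivial
    rw [h𝒮] at hcov
    simp only [Set.mem_iUnion] at hcov
    obtain ⟨U, hU𝒮, hz₀U⟩ := hcov
    let C : P.Opens := p₁ ⁻¹ᵁ U.1
    let C₀ : (pullback f g₀).Opens := q₁ ⁻¹ᵁ U.1
    have hz₀C₀ : z₀ ∈ C₀ := hz₀U
    have hCC₀ : C ≤ π ⁻¹ᵁ C₀ := by
      rw [← Scheme.Hom.comp_preimage, hπ₁]
    let Γi := (Scheme.ΓSpecIso (CommRingCat.of ↥B₀)).inv
    let πs : Γ(pullback f g₀, C₀) →+* Γ(P, C) := (π.appLE C₀ C hCC₀).hom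
    let ρ : Γ(T, ⊤) →+* Γ(P, C) := (p₂.appLE ⊤ C le_top).hom
    let ρ₀ : ↥B₀ →+* Γ(pullback f g₀, C₀) := (q₂.appLE ⊤ C₀ le_top).hom.comp Γi.hom
    let inl : Γ(X, U.1) →+* Γ(P, C) := (p₁.appLE U.1 C le_rfl).hom
    let inl₀ : Γ(X, U.1) →+* Γ(pullback f g₀, C₀) := (q₁.appLE U.1 C₀ le_rfl).hom
    have hrtop : r.appLE ⊤ ⊤ le_top = r.appTop := by
      simp [Scheme.Hom.appTop, Scheme.Hom.app_eq_appLE]
    have hcomm' : ∀ b₀ : ↥B₀, πs (ρ₀ b₀) = ρ (b₀ : Γ(T, ⊤)) := by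
      intro b₀
      have h1 : q₂.appLE ⊤ C₀ le_top ≫ π.appLE C₀ C hCC₀ = (π ≫ q₂).appLE ⊤ C le_top :=
        Scheme.Hom.appLE_comp_appLE ..
      have h2 : (π ≫ q₂).appLE ⊤ C le_top = (p₂ ≫ r).appLE ⊤ C le_top :=
        appLE_eq_of_eq hπ₂ ..
      have h3 : r.appLE ⊤ ⊤ le_top ≫ p₂.appLE ⊤ C le_top = (p₂ ≫ r).appLE ⊤ C le_top :=
        Scheme.Hom.appLE_comp_appLE ..
      have h4 := congrArg (fun k => k.hom (Γi.hom b₀)) (h1.trans (h2.trans h3.symm))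
      rw [hrtop] at h4
      simp only [CommRingCat.hom_comp, RingHom.coe_comp, Function.comp_apply] at h4
      rw [hrapp b₀] at h4
      exact h4
    have hcomm : πs.comp ρ₀ = ρ.comp ι.hom := RingHom.ext hcomm'
    have hinl : ∀ c, πs (inl₀ c) = inl c := by
      intro c
      have h1 : q₁.appLE U.1 C₀ le_rfl ≫ π.appLE C₀ C hCC₀ = (π ≫ q₁).appLE U.1 C
          (hCC₀.trans ((Opens.map π.base).map (homOfLE (le_refl C₀))).le) :=
        Scheme.Hom.appLE_comp_appLE ..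
      have h2 : (π ≫ q₁).appLE U.1 C
          (hCC₀.trans ((Opens.map π.base).map (homOfLE (le_refl C₀))).le) =
          p₁.appLE U.1 C le_rfl := appLE_eq_of_eq hπ₁ ..
      exact congrArg (fun k => k.hom c) (h1.trans h2)
    have hU₀ : U ∈ h𝒮fin.toFinset := h𝒮fin.mem_toFinset.2 hU𝒮
    have hs₀ : sU U ∈ Set.range ι.hom := by
      have : sU U ∈ S₀ := by
        simp only [S₀, Finset.mem_biUnion]
        exact ⟨U, hU₀, Finset.mem_insert_self _ _⟩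
      exact ⟨⟨sU U, hS₀B₀ _ this⟩, rfl⟩
    have ht₀ : ∀ x ∈ FU U, x ∈ Set.range ι.hom := by
      intro x hx
      have : x ∈ S₀ := by
        simp only [S₀, Finset.mem_biUnion]
        exact ⟨U, hU₀, Finset.mem_insert_of_mem (Finset.mem_union_left _ hx)⟩
      exact ⟨⟨x, hS₀B₀ _ this⟩, rfl⟩
    have hd₀ : ∀ x ∈ FU U, dU U x ∈ Set.range πs := by
      intro x hx
      have hsub : (↑(Sτ U x) : Set Γ(T, ⊤)) ⊆ Set.range ι.hom := by
        intro b hb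
        have : b ∈ S₀ := by
          simp only [S₀, Finset.mem_biUnion]
          refine ⟨U, hU₀, Finset.mem_insert_of_mem (Finset.mem_union_right _ ?_)⟩
          rw [Finset.mem_biUnion]
          exact ⟨x, hx, Finset.mem_coe.1 hb⟩
        exact ⟨⟨b, hS₀B₀ _ this⟩, rfl⟩
      obtain ⟨τ₀, hτ₀⟩ := hSτ U x ι.hom hsub
      refine ⟨UCAlg.prodMap inl₀ ρ₀ τ₀, ?_⟩
      rw [← hτ U x, ← hτ₀]
      clear hτ₀
      induction τ₀ using TensorProduct.induction_on with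
      | zero => simp
      | tmul c b₀ =>
        rw [UCAlg.prodMap_tmul, map_mul, hinl, hcomm', Algebra.TensorProduct.map_tmul,
          UCAlg.prodMap_tmul]
        rfl
      | add x y hx hy => rw [map_add, map_add, hx, hy, map_add, map_add]
    have h𝔮₀ : (chartIdeal Z C).comap πs ≤ ptIdeal C₀ z₀ hz₀C₀ := by
      intro d₀ hd₀
      rw [mem_ptIdeal_iff]
      intro hz₀d
      obtain ⟨_, hy, ⟨z, hzZ, rfl⟩⟩ := mem_closure_iff.1 hz₀ _
        ((pullback f g₀).basicOpen d₀).2 hz₀d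
      have h1 := (mem_chartIdeal_iff Z C _).1 hd₀ z hzZ
      apply h1
      change z ∈ P.basicOpen (π.appLE C₀ C hCC₀ d₀)
      rw [Scheme.basicOpen_appLE]
      refine ⟨?_, hy⟩
      have h2 : π z ∈ C₀ := (pullback f g₀).basicOpen_le d₀ hy
      change p₁ z ∈ U.1
      rw [← hπ₁, Scheme.Hom.comp_apply]
      exact h2
    have hne := UCAlg.comap_ne_of_descent ρ ρ₀ ι.hom πs hcomm (chartIdeal Z C)
      (ptIdeal (⊤ : T.Opens) t trivial) (sU U) (FU U) (dU U) (hsU U) (hFU U) (hdU U)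
      hs₀ ht₀ hd₀ (ptIdeal C₀ z₀ hz₀C₀) h𝔮₀
    apply hne
    ext b₀
    rw [Ideal.mem_comap, Ideal.mem_comap]
    have hL : ρ₀ b₀ ∈ ptIdeal C₀ z₀ hz₀C₀ ↔ b₀ ∈ (q₂ z₀).asIdeal := by
      rw [← ptIdeal_Spec, ← comap_ptIdeal q₂ C₀ ⊤ le_top z₀ hz₀C₀, Ideal.mem_comap]
      rfl
    have hR : ι.hom b₀ ∈ ptIdeal (⊤ : T.Opens) t trivial ↔ b₀ ∈ (r t).asIdeal := by
      rw [← ptIdeal_Spec, ← comap_ptIdeal r ⊤ ⊤ le_top t trivial, Ideal.mem_comap, hrtop,
        hrapp b₀]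
      rfl
    rw [hL, hR, hz₀t]

end core

section glob

/-- the class of morphisms all of whose base changes locally of finite type are closed maps -/
def ClosedOnLFT {X Y : Scheme.{u}} (f : X ⟶ Y) : Prop :=
  ∀ (T₀ : Scheme.{u}) (g₀ : T₀ ⟶ Y), LocallyOfFiniteType g₀ → IsClosedMap (pullback.snd f g₀)

lemma ClosedOnLFT.snd {X Y Y' : Scheme.{u}} {f : X ⟶ Y} (H : ClosedOnLFT f) (g : Y' ⟶ Y)
    [LocallyOfFiniteType g] : ClosedOnLFT (pullback.snd f g) := by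
  intro T₀ g₀ hg₀
  have h1 : pullback.snd (pullback.snd f g) g₀ =
      (pullbackLeftPullbackSndIso f g g₀).hom ≫ pullback.snd f (g₀ ≫ g) :=
    (pullbackLeftPullbackSndIso_hom_snd f g g₀).symm
  rw [h1]
  have h2 := H T₀ (g₀ ≫ g) inferInstance
  have h3 : IsClosedMap (pullbackLeftPullbackSndIso f g g₀).hom :=
    (Scheme.homeoOfIso (pullbackLeftPullbackSndIso f g g₀)).isClosedMap
  have h4 : ⇑((pullbackLeftPullbackSndIso f g g₀).hom ≫ pullback.snd f (g₀ ≫ g)) =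
      ⇑(pullback.snd f (g₀ ≫ g)) ∘ ⇑(pullbackLeftPullbackSndIso f g g₀).hom := by
    funext x
    exact Scheme.Hom.comp_apply _ _ x
  rw [h4]
  exact h2.comp h3

theorem isClosedMap_of_isPullback_of_isAffine {X Y X' Y' : Scheme.{u}} [IsAffine Y] (f : X ⟶ Y)
    [QuasiCompact f] (H : ClosedOnLFT f) (f' : X' ⟶ Y') (i₁ : X' ⟶ X) (i₂ : Y' ⟶ Y)
    (hsq : IsPullback f' i₁ i₂ f) : IsClosedMap f' := by
  have hcov : IsOpenCover (fun W : Y'.affineOpens => W.1) := iSup_affineOpens_eq_top Y'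
  rw [hcov.isClosedMap_iff_restrictPreimage]
  intro W
  rw [← morphismRestrict_base]
  have hW : IsAffine W.1 := W.2
  have h1 := (isPullback_morphismRestrict f' W.1).flip
  have h2 := (h1.paste_horiz hsq.flip).flip
  exact isClosedMap_of_forall_finiteType f (W.1.ι ≫ i₂) ((f' ⁻¹ᵁ W.1).ι ≫ i₁) (f' ∣_ W.1) h2.flip
    (fun B₀ g₀ h => H _ g₀ h)

/-- **Universal closedness can be tested on base changes locally of finite type** -/
theorem universallyClosed_of_closedOnLFT {X Y : Scheme.{u}} (f : X ⟶ Y) [QuasiCompact f]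
    (H : ClosedOnLFT f) : UniversallyClosed f := by
  refine IsZariskiLocalAtTarget.of_openCover (P := @UniversallyClosed) Y.affineCover (fun i => ?_)
  rw [universallyClosed_eq]
  intro X' Y' i₁ i₂ f' hsq
  have : QuasiCompact (Y.affineCover.pullbackHom f i) := by
    change QuasiCompact (pullback.snd f (Y.affineCover.f i))
    infer_instance
  exact isClosedMap_of_isPullback_of_isAffine (Y.affineCover.pullbackHom f i)
    (H.snd (Y.affineCover.f i)) f' i₁ i₂ hsq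

end glob

end Groth.Agent.Lib.Seat20.UCDescent
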