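import Mathlib
import Groth.Agent.Lib.Helper6AnSep
import Groth.Agent.Lib.Helper6AnCons
import Groth.Agent.Lib.Seat20UCDescent
import Groth.Agent.Lib.Seat20AnUltra

/-!
# Seat20: a morphism over `ℂ` that is proper on complex points is universally closed
-/

set_option autoImplicit false

open AlgebraicGeometry CategoryTheory CategoryTheory.Limits TopologicalSpace Opposite An Topology
open Groth.Agent.Lib.Helper6

namespace Groth.Agent.Lib.Seat20.AnProperConv

section pt

variable {T : Scheme.{0}} [T.Over SC]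

/-- the underlying point of a complex point is closed -/
lemma isClosed_singleton_pt (t : Pts T) : IsClosed ({t.pt} : Set T) := by
  have : Subsingleton ↥SC := inferInstanceAs (Subsingleton (PrimeSpectrum ℂ))
  have h1 : IsClosedImmersion t.1 := isClosedImmersion_of_comp_eq_id (T ↘ SC) t.1 t.2
  have h2 := t.1.isClosedEmbedding.isClosed_range
  have h3 : Set.range t.1 = {t.pt} := by
    refine Set.range_eq_singleton (fun x => ?_)
    rw [eq_cpt x]
    rfl
  rwa [h3] at h2

variable {P : Scheme.{0}} [P.Over SC] [LocallyOfFiniteType (P ↘ SC)]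

/-- complex points of the image of a closed set -/
theorem preimage_pt_image_eq (q : P ⟶ T) [q.IsOver SC] (Z : Set P) (hZ : IsClosed Z) :
    Pts.pt ⁻¹' (q '' Z) = Pts.map q '' (Pts.pt ⁻¹' Z) := by
  ext t
  constructor
  · rintro ⟨z, hzZ, hz⟩
    have hW : IsClosed (Z ∩ q ⁻¹' {t.pt}) :=
      hZ.inter ((isClosed_singleton_pt t).preimage q.continuous)
    obtain ⟨z', hz'Z, hz't⟩ := exists_pt_mem_of_isLocallyClosed hW.isLocallyClosed ⟨z, hzZ, hz⟩
    refine ⟨z', hz'Z, ?_⟩
    apply pt_injective
    rw [Pts.pt_map]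
    exact hz't
  · rintro ⟨z, hz, rfl⟩
    exact ⟨z.pt, hz, (Pts.pt_map q z).symm⟩

end pt

section closed

variable {X Y T : Scheme.{0}} [X.Over SC] [Y.Over SC] [T.Over SC]
  (f : X ⟶ Y) (g : T ⟶ Y) [f.IsOver SC] [g.IsOver SC]

/-- base change of a proper map on complex points is a closed map -/
theorem isClosedMap_pts_snd (hf : IsProperMap (Pts.map f)) :
    IsClosedMap (Pts.map (pullback.snd f g)) := by
  intro C hC
  have hΦ := isHomeomorph_pts_pullback f g
  set Φ : Pts (pullback f g) → {q : Pts X × Pts T // Pts.map f q.1 = Pts.map g q.2} := fun z =>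
    ⟨(Pts.map (pullback.fst f g) z, Pts.map (pullback.snd f g) z),
        Pts.map_pullback_condition f g z⟩ with hΦdef
  have hC' : IsClosed (Φ '' C) := hΦ.isClosedMap _ hC
  obtain ⟨C', hC'cl, hC'eq⟩ := isClosed_induced_iff.1 hC'
  have hcl := hf.universally_closed (Pts T) _ hC'cl
  have hcont : Continuous (fun t : Pts T => (Pts.map g t, t)) :=
    (Pts.continuous_map g).prodMk continuous_id
  have := hcl.preimage hcont
  convert this using 1
  ext t
  constructor
  · rintro ⟨c, hc, rfl⟩
    refine ⟨(Pts.map (pullback.fst f g) c, Pts.map (pullback.snd f g) c), ?_, ?_⟩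
    · have : Φ c ∈ Φ '' C := ⟨c, hc, rfl⟩
      rw [← hC'eq] at this
      exact this
    · exact Prod.ext (Pts.map_pullback_condition f g c) rfl
  · rintro ⟨⟨x, t'⟩, hxt, hxt'⟩
    have h1 : Pts.map f x = Pts.map g t := congrArg Prod.fst hxt'
    have h2 : t' = t := congrArg Prod.snd hxt'
    subst h2
    have : (⟨(x, t'), h1⟩ : {q : Pts X × Pts T // Pts.map f q.1 = Pts.map g q.2}) ∈ Φ '' C := by
      rw [← hC'eq]
      exact hxt
    obtain ⟨c, hc, hce⟩ := this
    refine ⟨c, hc, ?_⟩
    exact congrArg (fun q => q.1.2) hce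

variable [LocallyOfFiniteType (X ↘ SC)] [LocallyOfFiniteType (T ↘ SC)]

/-- a base change (locally of finite type over `ℂ`) of a morphism proper on complex points is closed
for the Zariski topology -/
theorem isClosedMap_snd_of_isProperMap_pts [QuasiCompact f] (hf : IsProperMap (Pts.map f)) :
    IsClosedMap (pullback.snd f g) := by
  intro Z hZ
  have hPN := isLocallyNoetherian_of_lft (X := pullback f g)
  have hTN := isLocallyNoetherian_of_lft (X := T)
  have hq := locallyOfFiniteType_of_isOver (pullback.snd f g)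
  have hZc : IsLocallyConstructible Z := isLocallyConstructible_of_isLocallyClosed hZ.isLocallyClosed
  have hlc : IsLocallyConstructible ((pullback.snd f g) '' Z) :=
    (pullback.snd f g).isLocallyConstructible_image hZc
  rw [isClosed_iff_pts _ hlc, preimage_pt_image_eq _ Z hZ]
  exact isClosedMap_pts_snd f g hf _ (hZ.preimage Pts.continuous_pt)

end closed

section main

variable {X Y : Scheme.{0}} [X.Over SC] [Y.Over SC] [LocallyOfFiniteType (X ↘ SC)]
  [LocallyOfFiniteType (Y ↘ SC)] (f : X ⟶ Y) [f.IsOver SC]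

/-- **Proper on complex points implies universally closed** -/
theorem universallyClosed_of_isProperMap_pts [QuasiCompact f] (hf : IsProperMap (Pts.map f)) :
    UniversallyClosed f := by
  apply UCDescent.universallyClosed_of_closedOnLFT
  intro T₀ g₀ hg₀
  let _ : T₀.Over SC := ⟨g₀ ≫ (Y ↘ SC)⟩
  have : g₀.IsOver SC := ⟨rfl⟩
  have : LocallyOfFiniteType (T₀ ↘ SC) :=
    inferInstanceAs (LocallyOfFiniteType (g₀ ≫ (Y ↘ SC)))
  exact isClosedMap_snd_of_isProperMap_pts f g₀ hf

/-- **Properness can be tested on complex points** -/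
theorem isProper_iff_pts [QuasiCompact f] :
    IsProper f ↔ IsProperMap (Pts.map f) ∧ IsSeparatedMap (Pts.map f) := by
  constructor
  · intro h
    exact ⟨AnUltra.isProperMap_pts_of_universallyClosed f, (isSeparated_iff_pts f).1 inferInstance⟩
  · rintro ⟨h1, h2⟩
    have := locallyOfFiniteType_of_isOver f
    have := universallyClosed_of_isProperMap_pts f h1
    have := (isSeparated_iff_pts f).2 h2
    exact {}

end main

section ptSC

variable {X : Scheme.{0}} [X.Over SC] [LocallyOfFiniteType (X ↘ SC)]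

/-- **Properness over `ℂ` means compact Hausdorff complex points** -/
theorem isProper_iff_compactSpace_t2Space [QuasiCompact (X ↘ SC)] :
    IsProper (X ↘ SC) ↔ CompactSpace (Pts X) ∧ T2Space (Pts X) := by
  let iSC : SC.Over SC := instOverClass
  have hlft : LocallyOfFiniteType (SC ↘ SC) := inferInstanceAs (LocallyOfFiniteType (𝟙 SC))
  have hover : (X ↘ SC).IsOver SC := ⟨Category.comp_id _⟩
  rw [isProper_iff_pts (X ↘ SC)]
  let y₀ : Pts SC := ⟨𝟙 SC, Category.comp_id _⟩
  have h : Pts.map (X ↘ SC) = fun _ => y₀ := funext fun x => Subsingleton.elim _ _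
  rw [h, isProperMap_const_iff, t2space_iff_isSeparatedMap y₀]

end ptSC

section fin

variable {X Y : Scheme.{0}} [X.Over SC] [Y.Over SC] [LocallyOfFiniteType (X ↘ SC)]
  [LocallyOfFiniteType (Y ↘ SC)] (f : X ⟶ Y) [f.IsOver SC]

omit [LocallyOfFiniteType (Y ↘ SC)] in
/-- a closed fibre with finitely many complex points is finite -/
lemma finite_preimage_singleton_of_pts (y : Pts Y) (h : (Pts.map f ⁻¹' {y}).Finite) :
    (f ⁻¹' {y.pt}).Finite := by
  have hJ := jacobsonSpace_of_lft (X := X)
  have hcl : IsClosed (f ⁻¹' {y.pt}) := (isClosed_singleton_pt y).preimage f.continuous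
  have hsub : f ⁻¹' {y.pt} ∩ closedPoints X ⊆ Pts.pt '' (Pts.map f ⁻¹' {y}) := by
    rintro p ⟨hp1, hp2⟩
    obtain ⟨x, rfl⟩ := exists_pt_eq_of_isClosed p hp2
    refine ⟨x, ?_, rfl⟩
    apply pt_injective
    rw [Pts.pt_map]
    exact hp1
  have hfin : (f ⁻¹' {y.pt} ∩ closedPoints X).Finite := (h.image _).subset hsub
  have hcl2 : IsClosed (f ⁻¹' {y.pt} ∩ closedPoints X) := by
    have := hfin.isClosed_biUnion (f := fun p => ({p} : Set X)) (fun p hp => hp.2)
    rwa [Set.biUnion_of_singleton] at this
  rw [← closure_inter_closedPoints hcl, hcl2.closure_eq]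
  exact hfin

/-- **Finiteness can be tested on complex points** -/
theorem isFinite_iff_pts [QuasiCompact f] :
    IsFinite f ↔ IsProperMap (Pts.map f) ∧ IsSeparatedMap (Pts.map f) ∧
      ∀ y : Pts Y, (Pts.map f ⁻¹' {y}).Finite := by
  constructor
  · intro h
    have hp : IsProper f := inferInstance
    obtain ⟨h1, h2⟩ := (isProper_iff_pts f).1 hp
    refine ⟨h1, h2, fun y => ?_⟩
    have hfin : (f ⁻¹' {y.pt}).Finite := Scheme.Hom.finite_preimage_singleton f y.pt
    refine Set.Finite.of_finite_image (f := Pts.pt) (hfin.subset ?_) pt_injective.injOn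
    rintro _ ⟨x, hx, rfl⟩
    change f x.pt = y.pt
    rw [← Pts.pt_map, hx]
  · rintro ⟨h1, h2, h3⟩
    have hp : IsProper f := (isProper_iff_pts f).2 ⟨h1, h2⟩
    have key : ∀ y : Pts Y, ∃ V : Y.Opens, y.pt ∈ V ∧ IsFinite (f ∣_ V) := fun y =>
      exists_isFinite_morphismRestrict_of_finite_preimage_singleton f y.pt
        (finite_preimage_singleton_of_pts f y (h3 y))
    choose V hyV hV using key
    refine IsZariskiLocalAtTarget.of_iSup_eq_top (P := @IsFinite) V ?_ hV
    apply Opens.ext
    rw [Opens.coe_top]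
    by_contra hne
    have hne' : ((↑(iSup V) : Set Y)ᶜ).Nonempty := by
      rw [Set.nonempty_compl]
      exact hne
    obtain ⟨a, ha⟩ := exists_pt_mem_of_isLocallyClosed
      (iSup V).2.isClosed_compl.isLocallyClosed hne'
    exact ha (Opens.mem_iSup.2 ⟨a, hyV a⟩)

end fin

end Groth.Agent.Lib.Seat20.AnProperConv
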