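import Mathlib
import Groth.Prelude.Def_AnFib

/-!
# Seat20: base change of elementary fibrations (`An.IsElementaryFibration`)

* `range_fst_of_isPullback`, `range_snd_of_isPullback`: ranges in a pullback square of schemes.
* `dense_fibre_baseChange`: fibrewise density is stable under base change (fibres change by a field extension,
  which is universally open).
* `isPullback_projSpaceOver`: `P^n_{S'} = P^n_S ×_S S'`.
* `isElementaryFibration_pullback_snd`.
-/

set_option autoImplicit false
set_option linter.style.haveILetI false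
open CategoryTheory CategoryTheory.Limits AlgebraicGeometry

universe u
namespace Groth.Agent.Lib.Seat20.ElemFib

/-- range of the first projection of a pullback square -/
theorem range_fst_of_isPullback {P X Y Z : Scheme.{u}} {fst : P ⟶ X} {snd : P ⟶ Y} {f : X ⟶ Z}
    {g : Y ⟶ Z} (h : IsPullback fst snd f g) : Set.range fst = f ⁻¹' Set.range g := by
  rw [← Scheme.Pullback.range_fst, ← h.isoPullback_hom_fst]
  have hs : Function.Surjective h.isoPullback.hom := h.isoPullback.hom.homeomorph.surjective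
  ext x
  constructor
  · rintro ⟨y, rfl⟩
    exact ⟨h.isoPullback.hom y, rfl⟩
  · rintro ⟨y, rfl⟩
    obtain ⟨z, rfl⟩ := hs y
    exact ⟨z, rfl⟩

theorem range_snd_of_isPullback {P X Y Z : Scheme.{u}} {fst : P ⟶ X} {snd : P ⟶ Y} {f : X ⟶ Z}
    {g : Y ⟶ Z} (h : IsPullback fst snd f g) : Set.range snd = g ⁻¹' Set.range f :=
  range_fst_of_isPullback h.flip

/-- density of an open in the fibres is stable under base change -/
theorem dense_fibre_baseChange {Xb S S' Xb' : Scheme.{u}} {fb : Xb ⟶ S} {u : S' ⟶ S} {p : Xb' ⟶ Xb}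
    {fb' : Xb' ⟶ S'} (h : IsPullback p fb' fb u) (D : Set Xb)
    (hD : ∀ s : S, fb ⁻¹' {s} ⊆ closure (D ∩ fb ⁻¹' {s})) (s' : S') :
    fb' ⁻¹' {s'} ⊆ closure (p ⁻¹' D ∩ fb' ⁻¹' {s'}) := by
  intro x' hx'
  rw [mem_closure_iff]
  intro W' hW' hxW'
  -- the fibres
  let q : fb'.fiber s' ⟶ fb.fiber (u s') :=
    pullback.map _ _ _ _ p (Spec.map (u.residueFieldMap s')) u h.w.symm (by simp)
  have hq : IsPullback q (fb'.fiberToSpecResidueField s') (fb.fiberToSpecResidueField (u s'))
      (Spec.map (u.residueFieldMap s')) := isPullback_fiberToSpecResidueField_of_isPullback h s'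
  have hqι : q ≫ fb.fiberι (u s') = fb'.fiberι s' ≫ p := pullback.lift_fst _ _ _
  haveI : UniversallyOpen (Spec.map (u.residueFieldMap s')) := inferInstance
  haveI : UniversallyOpen q := MorphismProperty.of_isPullback hq.flip inferInstance
  have hqo : IsOpenMap q := q.isOpenMap
  have hx's : fb' x' = s' := hx'
  -- the point of the fibre
  have hx'r : x' ∈ Set.range (fb'.fiberι s') := by rw [fb'.range_fiberι s']; exact hx'
  obtain ⟨z₀', rfl⟩ := hx'r
  -- the open set in the fibre
  have hWF : IsOpen ((fb'.fiberι s') ⁻¹' W') := hW'.preimage (fb'.fiberι s').continuous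
  have hO : IsOpen (q '' ((fb'.fiberι s') ⁻¹' W')) := hqo _ hWF
  -- the image point
  have hz : fb.fiberι (u s') (q z₀') ∈ fb ⁻¹' {u s'} := by
    rw [← fb.range_fiberι (u s')]; exact ⟨_, rfl⟩
  have hcl := hD (u s') hz
  -- an open of Xb inducing the open of the fibre
  obtain ⟨O₁, hO₁, hO₁eq⟩ := (fb.fiberι (u s')).isEmbedding.isInducing.isOpen_iff.1 hO
  have hmem : fb.fiberι (u s') (q z₀') ∈ O₁ := by
    have : q z₀' ∈ (fb.fiberι (u s')) ⁻¹' O₁ := by
      rw [hO₁eq]; exact ⟨z₀', hxW', rfl⟩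
    exact this
  obtain ⟨w, hwO₁, hwD, hws⟩ := mem_closure_iff.1 hcl O₁ hO₁ hmem
  have hwr : w ∈ Set.range (fb.fiberι (u s')) := by rw [fb.range_fiberι (u s')]; exact hws
  obtain ⟨z₁, rfl⟩ := hwr
  have hz₁ : z₁ ∈ q '' ((fb'.fiberι s') ⁻¹' W') := by
    rw [← hO₁eq]; exact hwO₁
  obtain ⟨z₁', hz₁'W, rfl⟩ := hz₁
  refine ⟨fb'.fiberι s' z₁', hz₁'W, ?_, ?_⟩
  · change p (fb'.fiberι s' z₁') ∈ D
    have : p (fb'.fiberι s' z₁') = fb.fiberι (u s') (q z₁') := by
      rw [← Scheme.Hom.comp_apply, ← hqι, Scheme.Hom.comp_apply]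
    rw [this]; exact hwD
  · rw [← fb'.range_fiberι s']; exact ⟨_, rfl⟩


theorem irreducibleSpace_of_homeomorph {A B : Type*} [TopologicalSpace A] [TopologicalSpace B]
    (e : A ≃ₜ B) [IrreducibleSpace A] : IrreducibleSpace B := by
  rw [irreducibleSpace_def]
  have h := ((irreducibleSpace_def A).1 inferInstance).image e e.continuous.continuousOn
  have h2 : (e '' (⊤ : Set A)) = (⊤ : Set B) := by
    rw [Set.top_eq_univ, Set.top_eq_univ]; exact Set.image_univ_of_surjective e.surjective
  rwa [h2] at h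

/-- base change of projective space over a scheme -/
theorem isPullback_projSpaceOver (n : ℕ) {S S' : Scheme.{u}} (u : S' ⟶ S) :
    ∃ v : CohB1.ProjSpaceOver n S' ⟶ CohB1.ProjSpaceOver n S,
      IsPullback v (CohB1.ProjSpaceOver.toBase n S') (CohB1.ProjSpaceOver.toBase n S) u := by
  let π := CohB1.ProjSpace.toSpec n (ULift.{u} ℤ)
  let tS := specULiftZIsTerminal.from S
  let tS' := specULiftZIsTerminal.from S'
  have htt : u ≫ tS = tS' := specULiftZIsTerminal.hom_ext _ _
  let v : CohB1.ProjSpaceOver n S' ⟶ CohB1.ProjSpaceOver n S :=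
    pullback.map π tS' π tS (𝟙 _) u (𝟙 _) (by simp) (by rw [Category.comp_id, htt])
  refine ⟨v, ?_⟩
  have h1 : v ≫ pullback.fst π tS = pullback.fst π tS' := by
    change pullback.map _ _ _ _ _ _ _ _ _ ≫ _ = _
    rw [pullback.lift_fst, Category.comp_id]
  have hbig : IsPullback (v ≫ pullback.fst π tS) (pullback.snd π tS') π (u ≫ tS) := by
    rw [h1, htt]; exact IsPullback.of_hasPullback _ _
  have h2 : v ≫ pullback.snd π tS = pullback.snd π tS' ≫ u := by
    change pullback.map _ _ _ _ _ _ _ _ _ ≫ _ = _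
    rw [pullback.lift_snd]
  exact IsPullback.of_right hbig h2 (IsPullback.of_hasPullback π tS)


/-- base change of a morphism over `S` along `u : S' ⟶ S`, as a pullback square -/
theorem isPullback_map_of_comp {A B S S' : Scheme.{u}} (a : A ⟶ B) (b : B ⟶ S) (u : S' ⟶ S) :
    IsPullback (pullback.map (a ≫ b) u b u a (𝟙 _) (𝟙 _) (by simp) (by simp))
      (pullback.fst (a ≫ b) u) (pullback.fst b u) a := by
  have h1 : pullback.map (a ≫ b) u b u a (𝟙 _) (𝟙 _) (by simp) (by simp) ≫ pullback.snd b u =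
      pullback.snd (a ≫ b) u := by
    rw [pullback.lift_snd, Category.comp_id]
  have hbig : IsPullback (pullback.map (a ≫ b) u b u a (𝟙 _) (𝟙 _) (by simp) (by simp) ≫
      pullback.snd b u) (pullback.fst (a ≫ b) u) u (a ≫ b) := by
    rw [h1]; exact (IsPullback.of_hasPullback (a ≫ b) u).flip
  exact IsPullback.of_right hbig (pullback.lift_fst _ _ _) (IsPullback.of_hasPullback b u).flip

/-- **Base change of an elementary fibration is an elementary fibration.** -/
theorem isElementaryFibration_pullback_snd {X S S' : Scheme.{u}} (f : X ⟶ S) (u : S' ⟶ S)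
    (hf : An.IsElementaryFibration f) : An.IsElementaryFibration (pullback.snd f u) := by
  obtain ⟨Xb, Y, j, fb, i, hjf, hj, hi, hcompl, hdense, hsm, hproj, hgeom, hfin, het, hsurj⟩ := hf
  subst hjf
  let p : pullback fb u ⟶ Xb := pullback.fst fb u
  let fb' : pullback fb u ⟶ S' := pullback.snd fb u
  have hP : IsPullback p fb' fb u := IsPullback.of_hasPullback fb u
  let j' : pullback (j ≫ fb) u ⟶ pullback fb u :=
    pullback.map (j ≫ fb) u fb u j (𝟙 _) (𝟙 _) (by simp) (by simp)
  let i' : pullback (i ≫ fb) u ⟶ pullback fb u :=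
    pullback.map (i ≫ fb) u fb u i (𝟙 _) (𝟙 _) (by simp) (by simp)
  have hj' : IsPullback j' (pullback.fst (j ≫ fb) u) p j := isPullback_map_of_comp j fb u
  have hi' : IsPullback i' (pullback.fst (i ≫ fb) u) p i := isPullback_map_of_comp i fb u
  have hj'snd : j' ≫ fb' = pullback.snd (j ≫ fb) u := by
    rw [pullback.lift_snd, Category.comp_id]
  have hi'snd : i' ≫ fb' = pullback.snd (i ≫ fb) u := by
    rw [pullback.lift_snd, Category.comp_id]
  have hrj : Set.range j' = p ⁻¹' Set.range j := range_fst_of_isPullback hj'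
  have hri : Set.range i' = p ⁻¹' Set.range i := range_fst_of_isPullback hi'
  refine ⟨pullback fb u, pullback (i ≫ fb) u, j', fb', i', hj'snd, ?_, ?_, ?_, ?_, ?_, ?_, ?_, ?_, ?_, ?_⟩
  · exact MorphismProperty.of_isPullback (P := @IsOpenImmersion) hj'.flip hj
  · exact MorphismProperty.of_isPullback (P := @IsClosedImmersion) hi'.flip hi
  · rw [hrj, hri, ← Set.preimage_compl]
    congr 1
  · intro s'
    have := dense_fibre_baseChange hP (Set.range j) hdense s'
    rw [← hrj] at this
    exact this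
  · haveI := hsm
    change Smooth (pullback.snd fb u)
    infer_instance
  · obtain ⟨n, c, hc, hcf⟩ := hproj
    obtain ⟨v, hv⟩ := isPullback_projSpaceOver n u
    have hw : (p ≫ c) ≫ CohB1.ProjSpaceOver.toBase n S = fb' ≫ u := by
      rw [Category.assoc, hcf]; exact hP.w
    let c' : pullback fb u ⟶ CohB1.ProjSpaceOver n S' := hv.lift (p ≫ c) fb' hw
    have hc'1 : c' ≫ v = p ≫ c := hv.lift_fst _ _ _
    have hc'2 : c' ≫ CohB1.ProjSpaceOver.toBase n S' = fb' := hv.lift_snd _ _ _
    refine ⟨n, c', ?_, hc'2⟩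
    have hbig : IsPullback (c' ≫ CohB1.ProjSpaceOver.toBase n S') p u
        (c ≫ CohB1.ProjSpaceOver.toBase n S) := by
      rw [hc'2, hcf]; exact hP.flip
    have hleft : IsPullback c' p v c := IsPullback.of_right hbig hc'1 hv.flip
    exact MorphismProperty.of_isPullback (P := @IsClosedImmersion) hleft.flip hc
  · intro Ω _ _ σ
    obtain ⟨h1, h2⟩ := hgeom Ω (σ ≫ u)
    let e : pullback fb' σ ≅ pullback fb (σ ≫ u) := pullbackLeftPullbackSndIso fb u σ
    let eh : ↥(pullback fb (σ ≫ u)) ≃ₜ ↥(pullback fb' σ) := e.symm.hom.homeomorph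
    refine ⟨irreducibleSpace_of_homeomorph eh, ?_⟩
    rw [← h2]
    exact (IsHomeomorph.topologicalKrullDim_eq eh eh.isHomeomorph).symm
  · rw [hi'snd]; haveI := hfin; infer_instance
  · rw [hi'snd]; haveI := het; infer_instance
  · rw [hi'snd]
    haveI : Surjective (i ≫ fb) := ⟨hsurj⟩
    exact (inferInstance : Surjective (pullback.snd (i ≫ fb) u)).surj

end Groth.Agent.Lib.Seat20.ElemFib
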