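import Mathlib
import Groth.Prelude.Def_CInt

set_option autoImplicit false
universe u
open CategoryTheory Limits AlgebraicGeometry TopologicalSpace TensorProduct

namespace Groth.Agent.Lib.Seat20.EtDense

section Ring

/-- If `B` is a smooth `A`-algebra, `C` a formally étale `B`-algebra which is formally unramified
over `A`, then the module of differentials of `B/A` has rank zero at all primes coming from `C`. -/
theorem rankAtStalk_kaehler_eq_zero (A B C : Type*) [CommRing A] [CommRing B] [CommRing C]
    [Algebra A B] [Algebra A C] [Algebra B C] [IsScalarTower A B C] [Algebra.Smooth A B]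
    [Algebra.FormallyEtale B C] [Algebra.FormallyUnramified A C] (p : PrimeSpectrum C) :
    Module.rankAtStalk (R := B) Ω[B⁄A] (p.comap (algebraMap B C)) = 0 := by
  rw [← Module.rankAtStalk_isBaseChange (KaehlerDifferential.isBaseChange_of_formallyEtale A B C) p]
  have : Subsingleton Ω[C⁄A] := inferInstance
  simp

/-- A smooth algebra which is unramified at a dense set of primes is étale. -/
theorem etale_of_smooth_of_dense (A B : Type*) [CommRing A] [CommRing B] [Algebra A B]
    [Algebra.Smooth A B] (D : Set (PrimeSpectrum B)) (hD : Dense D)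
    (h : ∀ q ∈ D, Module.rankAtStalk (R := B) Ω[B⁄A] q = 0) : Algebra.Etale A B := by
  have hfp : Module.FinitePresentation B Ω[B⁄A] := Module.finitePresentation_of_projective B _
  have hlc : IsLocallyConstant (Module.rankAtStalk (R := B) Ω[B⁄A]) :=
    Module.isLocallyConstant_rankAtStalk
  have hzero : Module.rankAtStalk (R := B) Ω[B⁄A] = 0 := by
    ext q
    have hclopen : IsClopen {q | Module.rankAtStalk (R := B) Ω[B⁄A] q = 0} :=
      hlc.isClopen_fiber 0
    have hsub : D ⊆ {q | Module.rankAtStalk (R := B) Ω[B⁄A] q = 0} := h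
    have huniv : {q | Module.rankAtStalk (R := B) Ω[B⁄A] q = 0} = Set.univ := by
      rw [← hclopen.isClosed.closure_eq]
      exact (hD.mono hsub).closure_eq
    have : q ∈ {q | Module.rankAtStalk (R := B) Ω[B⁄A] q = 0} := by rw [huniv]; trivial
    exact this
  have hsub : Subsingleton Ω[B⁄A] := Module.rankAtStalk_eq_zero_iff_subsingleton.mp hzero
  have hunr : Algebra.FormallyUnramified A B := ⟨hsub⟩
  have hfe : Algebra.FormallyEtale A B := Algebra.FormallyEtale.of_formallyUnramified_and_formallySmooth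
  exact ⟨hfe, inferInstance⟩

end Ring

section Scheme

/-- schematically dense opens are dense -/
theorem dense_of_isSchematicallyDense {X : Scheme.{u}} (U : X.Opens)
    (hU : CInt.IsSchematicallyDense U) : Dense (U : Set X) := by
  rw [dense_iff_inter_open]
  intro V hV hVne
  by_contra hemp
  rw [Set.not_nonempty_iff_eq_empty] at hemp
  let V' : X.Opens := ⟨V, hV⟩
  have h1 : V' ⊓ U = ⊥ := by
    ext x
    simp only [Opens.coe_inf, Opens.coe_bot, Set.mem_empty_iff_false, iff_false]
    intro hx
    have : x ∈ V ∩ (U : Set X) := hx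
    rw [hemp] at this
    exact this
  have hinj := hU V'
  have hs1 : Subsingleton Γ(X, V' ⊓ U) := by rw [h1]; infer_instance
  have hs2 : Subsingleton Γ(X, V') := hinj.subsingleton
  have h0 : (1 : Γ(X, V')) = 0 := Subsingleton.elim _ _
  have h2 := X.basicOpen_of_isUnit (isUnit_one : IsUnit (1 : Γ(X, V')))
  rw [h0, X.basicOpen_zero] at h2
  obtain ⟨x, hx⟩ := hVne
  have : x ∈ V' := hx
  rw [← h2] at this
  exact this

/-- restriction of an étale-over-a-dense-open morphism to an affine open inside is étale on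
sections -/
theorem etale_appLE_of_le_preimage {N S : Scheme.{u}} (h : N ⟶ S) (S₀ : S.Opens)
    [Etale (pullback.snd h S₀.ι)] {U : S.Opens} (hU : IsAffineOpen U) {W : N.Opens}
    (hW : IsAffineOpen W) (e : W ≤ h ⁻¹ᵁ U) (hW₀ : W ≤ h ⁻¹ᵁ S₀) :
    (h.appLE U W e).hom.Etale := by
  have hr : Set.range W.ι ⊆ Set.range (pullback.fst h S₀.ι) := by
    rw [Scheme.Opens.range_ι, Scheme.Pullback.range_fst, Scheme.Opens.range_ι]
    exact hW₀
  let k : (W : Scheme.{u}) ⟶ pullback h S₀.ι := IsOpenImmersion.lift (pullback.fst h S₀.ι) W.ι hr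
  have hk : k ≫ pullback.fst h S₀.ι = W.ι := IsOpenImmersion.lift_fac _ _ _
  have hko : IsOpenImmersion k := by
    have : IsOpenImmersion (k ≫ pullback.fst h S₀.ι) := by rw [hk]; infer_instance
    exact IsOpenImmersion.of_comp k (pullback.fst h S₀.ι)
  have het : Etale (W.ι ≫ h) := by
    rw [← hk, Category.assoc, pullback.condition]
    infer_instance
  have hWaff : IsAffine (W : Scheme.{u}) := hW
  have e₂ : (⊤ : (W : Scheme.{u}).Opens) ≤ W.ι ⁻¹ᵁ W := by
    intro x _
    exact x.2
  have h1 := Scheme.Hom.appLE_comp_appLE W.ι h U W ⊤ e e₂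
  have e₃ : (⊤ : (W : Scheme.{u}).Opens) ≤ (W.ι ≫ h) ⁻¹ᵁ U := by
    intro x _
    exact e x.2
  have h2 : ((W.ι ≫ h).appLE U ⊤ e₃).hom.Etale :=
    Etale.etale_appLE (W.ι ≫ h) hU (isAffineOpen_top _) e₃
  have hiso : IsIso (W.ι.appLE W ⊤ e₂) := by
    rw [Scheme.Hom.appLE]
    have h3 := W.ι.isIso_app W (by rw [Scheme.Opens.opensRange_ι])
    have h4 : IsIso (homOfLE e₂) := ⟨homOfLE le_top, Subsingleton.elim _ _, Subsingleton.elim _ _⟩
    infer_instance
  rw [← h1] at h2
  exact (RingHom.Etale.respectsIso.cancel_right_isIso _ (W.ι.appLE W ⊤ e₂)).mp h2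

/-- **A smooth morphism which is étale over a dense open of the base is étale.** -/
theorem etale_of_smooth_of_etale_over_dense {N S : Scheme.{u}} (h : N ⟶ S) [Smooth h]
    (S₀ : S.Opens) (hS₀ : Dense (S₀ : Set S)) [Etale (pullback.snd h S₀.ι)] : Etale h := by
  constructor
  intro U hU V hV e
  have hsm : (h.appLE U V e).hom.Smooth := h.smooth_appLE hU hV e
  algebraize [(h.appLE U V e).hom]
  suffices Algebra.Etale Γ(S, U) Γ(N, V) from this
  have hN₀ : Dense ((h ⁻¹ᵁ S₀ : N.Opens) : Set N) := hS₀.preimage h.isOpenMap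
  refine etale_of_smooth_of_dense Γ(S, U) Γ(N, V) (hV.fromSpec ⁻¹' ((h ⁻¹ᵁ S₀ : N.Opens) : Set N))
    (hN₀.preimage hV.fromSpec.isOpenMap) ?_
  intro q hq
  have hxV : hV.fromSpec q ∈ V := by
    rw [← SetLike.mem_coe, ← hV.range_fromSpec]; exact ⟨q, rfl⟩
  obtain ⟨g, hg₀, hxg⟩ := hV.exists_basicOpen_le (V := h ⁻¹ᵁ S₀) ⟨hV.fromSpec q, hq⟩ hxV
  have hW : IsAffineOpen (N.basicOpen g) := hV.basicOpen g
  have hWV : N.basicOpen g ≤ V := N.basicOpen_le g
  have hloc : IsLocalization.Away g Γ(N, N.basicOpen g) := hV.isLocalization_basicOpen g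
  have hfe : Algebra.FormallyEtale Γ(N, V) Γ(N, N.basicOpen g) :=
    Algebra.FormallyEtale.of_isLocalization (Submonoid.powers g)
  let := (h.appLE U (N.basicOpen g) (hWV.trans e)).hom.toAlgebra
  have htower : IsScalarTower Γ(S, U) Γ(N, V) Γ(N, N.basicOpen g) := by
    refine IsScalarTower.of_algebraMap_eq' ?_
    have := h.appLE_map e (homOfLE hWV).op
    exact congrArg CommRingCat.Hom.hom this.symm
  have het : (h.appLE U (N.basicOpen g) (hWV.trans e)).hom.Etale :=
    etale_appLE_of_le_preimage h S₀ hU hW (hWV.trans e) hg₀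
  have hetA : Algebra.Etale Γ(S, U) Γ(N, N.basicOpen g) := het
  have hq' : q ∈ Set.range (PrimeSpectrum.comap (algebraMap Γ(N, V) Γ(N, N.basicOpen g))) := by
    rw [PrimeSpectrum.localization_away_comap_range Γ(N, N.basicOpen g) g]
    have := hV.fromSpec_preimage_basicOpen g
    have h3 : q ∈ hV.fromSpec ⁻¹ᵁ N.basicOpen g := hxg
    rw [this] at h3
    exact h3
  obtain ⟨p, rfl⟩ := hq'
  exact rankAtStalk_kaehler_eq_zero Γ(S, U) Γ(N, V) Γ(N, N.basicOpen g) p

/-- an open immersion with full range is an isomorphism -/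
lemma isIso_of_range_eq_univ {X Y : Scheme.{u}} (e : X ⟶ Y) [IsOpenImmersion e]
    (h : Set.range e = Set.univ) : IsIso e :=
  isIso_of_isOpenImmersion_of_opensRange_eq_top e (TopologicalSpace.Opens.ext (by simpa using h))

/-- **Étale extensions inject.** Let `S₀ ⊆ S` be a dense open, `N` a smooth `S`-scheme which is
étale over `S₀`, `M` an étale separated `S`-scheme and `φ : M ⟶ N` an `S`-morphism which is an
isomorphism over `S₀`. Then `φ` is an open immersion. -/
theorem isOpenImmersion_of_isIso_over_dense {S : Scheme.{u}} (S₀ : S.Opens)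
    (hS₀ : Dense (S₀ : Set S)) (N M : Over S) [Smooth N.hom]
    [Etale (pullback.snd N.hom S₀.ι)] [Etale M.hom] [IsSeparated M.hom] (φ : M ⟶ N)
    [IsIso ((Over.pullback S₀.ι).map φ)] : IsOpenImmersion φ.left := by
  have hNet : Etale N.hom := etale_of_smooth_of_etale_over_dense N.hom S₀ hS₀
  have hw : φ.left ≫ N.hom = M.hom := Over.w φ
  have hφet : Etale φ.left := by
    have : Etale (φ.left ≫ N.hom) := by rw [hw]; infer_instance
    exact Etale.of_comp φ.left N.hom
  have hφsep : IsSeparated φ.left := by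
    have : IsSeparated (φ.left ≫ N.hom) := by rw [hw]; infer_instance
    exact IsSeparated.of_comp φ.left N.hom
  have hmono : Mono φ.left := by
    rw [← pullback.isIso_diagonal_iff]
    have hΔo : IsOpenImmersion (pullback.diagonal φ.left) := inferInstance
    have hΔc : IsClosedImmersion (pullback.diagonal φ.left) := inferInstance
    refine isIso_of_range_eq_univ _ ?_
    let q : pullback φ.left φ.left ⟶ S := pullback.fst φ.left φ.left ≫ M.hom
    have hq : Etale q := inferInstance
    have hdense : Dense (q ⁻¹' (S₀ : Set S)) := hS₀.preimage q.isOpenMap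
    have hsub : q ⁻¹' (S₀ : Set S) ⊆ Set.range (pullback.diagonal φ.left) := by
      let w : pullback q S₀.ι ⟶ pullback φ.left φ.left := pullback.fst q S₀.ι
      have hrw : Set.range w = q ⁻¹' (S₀ : Set S) := by
        rw [Scheme.Pullback.range_fst, Scheme.Opens.range_ι]
      let φ₀ : pullback M.hom S₀.ι ⟶ pullback N.hom S₀.ι := ((Over.pullback S₀.ι).map φ).left
      have hφ₀iso : IsIso φ₀ :=
        inferInstanceAs (IsIso ((Over.forget _).map ((Over.pullback S₀.ι).map φ)))
      have hφ₀1 : φ₀ ≫ pullback.fst N.hom S₀.ι = pullback.fst M.hom S₀.ι ≫ φ.left :=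
        pullback.lift_fst _ _ _
      have hφ₀2 : φ₀ ≫ pullback.snd N.hom S₀.ι = pullback.snd M.hom S₀.ι :=
        pullback.lift_snd _ _ _
      have hc1 : (w ≫ pullback.fst φ.left φ.left) ≫ M.hom = pullback.snd q S₀.ι ≫ S₀.ι := by
        rw [Category.assoc]; exact pullback.condition
      have hc0 : pullback.snd φ.left φ.left ≫ M.hom = pullback.fst φ.left φ.left ≫ M.hom := by
        rw [← hw, ← Category.assoc, ← pullback.condition, Category.assoc]
      have hc2 : (w ≫ pullback.snd φ.left φ.left) ≫ M.hom = pullback.snd q S₀.ι ≫ S₀.ι := by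
        rw [Category.assoc, hc0, ← Category.assoc]; exact hc1
      let a₁ : pullback q S₀.ι ⟶ pullback M.hom S₀.ι :=
        pullback.lift (w ≫ pullback.fst φ.left φ.left) (pullback.snd q S₀.ι) hc1
      let a₂ : pullback q S₀.ι ⟶ pullback M.hom S₀.ι :=
        pullback.lift (w ≫ pullback.snd φ.left φ.left) (pullback.snd q S₀.ι) hc2
      have ha12 : a₁ = a₂ := by
        rw [← cancel_mono φ₀]
        apply pullback.hom_ext
        · rw [Category.assoc, hφ₀1, Category.assoc, hφ₀1, ← Category.assoc, pullback.lift_fst,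
            ← Category.assoc, pullback.lift_fst, Category.assoc, Category.assoc,
            pullback.condition]
        · rw [Category.assoc, hφ₀2, Category.assoc, hφ₀2, pullback.lift_snd, pullback.lift_snd]
      have hfs : w ≫ pullback.fst φ.left φ.left = w ≫ pullback.snd φ.left φ.left := by
        have h1 : a₁ ≫ pullback.fst M.hom S₀.ι = w ≫ pullback.fst φ.left φ.left :=
          pullback.lift_fst _ _ _
        have h2 : a₂ ≫ pullback.fst M.hom S₀.ι = w ≫ pullback.snd φ.left φ.left :=
          pullback.lift_fst _ _ _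
        rw [← h1, ← h2, ha12]
      have hwΔ : w = (w ≫ pullback.fst φ.left φ.left) ≫ pullback.diagonal φ.left := by
        apply pullback.hom_ext
        · rw [Category.assoc, pullback.diagonal_fst, Category.comp_id]
        · rw [Category.assoc, pullback.diagonal_snd, Category.comp_id, hfs]
      rw [← hrw]
      rintro _ ⟨y, rfl⟩
      refine ⟨(w ≫ pullback.fst φ.left φ.left) y, ?_⟩
      change ((w ≫ pullback.fst φ.left φ.left) ≫ pullback.diagonal φ.left) y = w y
      rw [← hwΔ]
    have hclosed : IsClosed (Set.range (pullback.diagonal φ.left)) :=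
      (pullback.diagonal φ.left).isClosedEmbedding.isClosed_range
    rw [← hclosed.closure_eq]
    exact (hdense.mono hsub).closure_eq
  exact IsOpenImmersion.of_flat_of_mono φ.left

end Scheme

end Groth.Agent.Lib.Seat20.EtDense
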