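import Mathlib
import Groth.Prelude.Def_Hens2
import Groth.Agent.Lib.Helper20EtFinParts

set_option autoImplicit false
universe u
open CategoryTheory CategoryTheory.Limits AlgebraicGeometry

namespace Groth.Agent.Lib.Seat20.EtFinitePart

variable {X S : Scheme.{u}}

/-- A point of a fibre is isolated iff the morphism is quasi-finite at its image. -/
theorem isOpen_singleton_iff_quasiFiniteAt {Y Z : Scheme.{u}} (h : Y ⟶ Z) [LocallyOfFiniteType h]
    (y : Y) (z : Z) (hz : h y = z) (w : h.fiber z) (hw : h.fiberι z w = y) :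
    IsOpen ({w} : Set (h.fiber z)) ↔ h.QuasiFiniteAt y := by
  subst hz
  have : w = h.asFiber y :=
    (h.fiberι (h y)).isEmbedding.injective (hw.trans (h.fiberι_asFiber y).symm)
  rw [this]
  exact Scheme.Hom.quasiFiniteAt_iff_isOpen_singleton_asFiber.symm

/-- finite unions of opens finite over the base are finite over the base -/
theorem isFinite_sup {Y U : Scheme.{u}} (p : Y ⟶ U) [IsSeparated p] [LocallyOfFiniteType p]
    (W₁ W₂ : Y.Opens) (h₁ : IsFinite (W₁.ι ≫ p)) (h₂ : IsFinite (W₂.ι ≫ p)) :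
    IsFinite ((W₁ ⊔ W₂).ι ≫ p) := by
  rw [IsFinite.iff_isProper_and_locallyQuasiFinite]
  constructor
  · let q : (W₁ : Scheme.{u}) ⨿ (W₂ : Scheme.{u}) ⟶ ((W₁ ⊔ W₂ : Y.Opens) : Scheme.{u}) :=
      coprod.desc (Y.homOfLE le_sup_left) (Y.homOfLE le_sup_right)
    have hq : q ≫ (W₁ ⊔ W₂).ι ≫ p = coprod.desc (W₁.ι ≫ p) (W₂.ι ≫ p) := by
      apply coprod.hom_ext <;> simp [q]
    have hsurj : Surjective q := by
      constructor
      rintro ⟨x, hx⟩
      rcases hx with hx | hx
      · refine ⟨(coprod.inl : (W₁ : Scheme.{u}) ⟶ _) ⟨x, hx⟩, ?_⟩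
        rw [← Scheme.Hom.comp_apply]
        simp only [q, coprod.inl_desc]
        exact Scheme.homOfLE_apply' _ _ _
      · refine ⟨(coprod.inr : (W₂ : Scheme.{u}) ⟶ _) ⟨x, hx⟩, ?_⟩
        rw [← Scheme.Hom.comp_apply]
        simp only [q, coprod.inr_desc]
        exact Scheme.homOfLE_apply' _ _ _
    have hfin : IsFinite (q ≫ (W₁ ⊔ W₂).ι ≫ p) := by rw [hq]; infer_instance
    have huc : UniversallyClosed ((W₁ ⊔ W₂).ι ≫ p) :=
      UniversallyClosed.of_comp_surjective q _
    exact { }
  · refine LocallyQuasiFinite.of_finite_preimage_singleton _ fun x => ?_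
    have f₁ : ((W₁.ι ≫ p) ⁻¹' {x}).Finite := (W₁.ι ≫ p).finite_preimage_singleton x
    have f₂ : ((W₂.ι ≫ p) ⁻¹' {x}).Finite := (W₂.ι ≫ p).finite_preimage_singleton x
    have hfin : ((W₁.ι '' ((W₁.ι ≫ p) ⁻¹' {x})) ∪ (W₂.ι '' ((W₂.ι ≫ p) ⁻¹' {x}))).Finite :=
      (f₁.image _).union (f₂.image _)
    refine Set.Finite.of_finite_image (f := (W₁ ⊔ W₂).ι) (hfin.subset ?_)
      (W₁ ⊔ W₂).ι.injective.injOn
    rintro _ ⟨⟨y, hy⟩, hyx, rfl⟩
    rcases hy with hy | hy
    · exact Or.inl ⟨⟨y, hy⟩, hyx, rfl⟩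
    · exact Or.inr ⟨⟨y, hy⟩, hyx, rfl⟩

/-- opens finite over a separated base morphism are closed -/
theorem isClosed_of_isFinite {Y U : Scheme.{u}} (p : Y ⟶ U) [IsSeparated p] (W : Y.Opens)
    (h : IsFinite (W.ι ≫ p)) : IsClosed (W : Set Y) := by
  have : IsProper W.ι := IsProper.of_comp W.ι p
  have := W.ι.isClosedMap.isClosed_range
  rwa [Scheme.Opens.range_ι] at this

theorem isFinite_finset_sup {Y U : Scheme.{u}} (p : Y ⟶ U) [IsSeparated p]
    [LocallyOfFiniteType p] {ι : Type*} (s : Finset ι) (W : ι → Y.Opens)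
    (h : ∀ i ∈ s, IsFinite ((W i).ι ≫ p)) : IsFinite ((s.sup W).ι ≫ p) := by
  classical
  induction s using Finset.induction_on with
  | empty =>
    rw [Finset.sup_empty]
    have : IsEmpty ((⊥ : Y.Opens) : Scheme.{u}) := by
      constructor
      rintro ⟨x, hx⟩
      exact hx
    infer_instance
  | insert a s ha ih =>
    rw [Finset.sup_insert]
    exact isFinite_sup p _ _ (h a (Finset.mem_insert_self a s))
      (ih fun i hi => h i (Finset.mem_insert_of_mem hi))

/-- For an elementary étale neighbourhood, isolated points of the fibre of the base change map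
to points where the original morphism is quasi-finite. -/
theorem quasiFiniteAt_fst_of_isOpen_singleton (f : X ⟶ S) [LocallyOfFiniteType f]
    {U : Scheme.{u}} (g : U ⟶ S) (u : U) (hbij : Function.Bijective (g.residueFieldMap u))
    (w : (pullback.snd f g).fiber u) (hw : IsOpen ({w} : Set ((pullback.snd f g).fiber u))) :
    f.QuasiFiniteAt (pullback.fst f g ((pullback.snd f g).fiberι u w)) := by
  have hpb := isPullback_fiberToSpecResidueField_of_isPullback (IsPullback.of_hasPullback f g) u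
  set φ := pullback.map (pullback.snd f g) (U.fromSpecResidueField u) f
    (S.fromSpecResidueField (g u)) (pullback.fst f g) (Spec.map (g.residueFieldMap u)) g
    (IsPullback.of_hasPullback f g).w.symm (by simp) with hφ
  have hiso1 : IsIso (g.residueFieldMap u) :=
    (ConcreteCategory.isIso_iff_bijective _).mpr hbij
  have hiso : IsIso φ := hpb.isIso_fst_of_isIso
  have hcomp : φ ≫ f.fiberι (g u) = (pullback.snd f g).fiberι u ≫ pullback.fst f g :=
    pullback.lift_fst _ _ _
  let e : (pullback.snd f g).fiber u ≃ₜ f.fiber (g u) := Scheme.homeoOfIso (@asIso _ _ _ _ φ hiso)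
  have hopen : IsOpen ({φ w} : Set (f.fiber (g u))) := by
    have := e.isOpenMap _ hw
    rw [Set.image_singleton] at this
    exact this
  have hx : f.fiberι (g u) (φ w) = pullback.fst f g ((pullback.snd f g).fiberι u w) :=
    congrArg (fun ψ : (pullback.snd f g).fiber u ⟶ X => ψ w) hcomp
  have hz : f (pullback.fst f g ((pullback.snd f g).fiberι u w)) = g u := by
    rw [← hx]
    have := (f.range_fiberι (g u)).le ⟨φ w, rfl⟩
    exact this
  exact (isOpen_singleton_iff_quasiFiniteAt f _ (g u) hz (φ w) hx).mp hopen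

/-- **Étale localization of the finite part**: for `f` separated, locally of finite type and a
point `s` whose fibre has finitely many isolated points, after an elementary étale neighbourhood
the base change of `f` contains a clopen part, finite over the base, outside which no point over
the marked point is isolated in its fibre. -/
theorem exists_etale_nbhd_finite_part (f : X ⟶ S) [LocallyOfFiniteType f] [IsSeparated f] (s : S)
    (hfin : {x : ↑(f.fiber s) | IsOpen ({x} : Set ↑(f.fiber s))}.Finite) :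
    ∃ (U : Scheme.{u}) (g : U ⟶ S) (u : U), Hens2.IsEtaleNbhd g u s ∧
      ∃ V : (pullback f g).Opens, IsClopen (V : Set ↑(pullback f g)) ∧
        IsFinite (V.ι ≫ pullback.snd f g) ∧
        ∀ w : ↑((pullback.snd f g).fiber u), (pullback.snd f g).fiberι u w ∉ V →
          ¬ IsOpen ({w} : Set ↑((pullback.snd f g).fiber u)) := by
  classical
  set T : Set X := f.fiberι s '' {x | IsOpen ({x} : Set ↑(f.fiber s))} with hT
  have hTfin : T.Finite := hfin.image _
  have hTprop : ∀ t ∈ T, f t = s ∧ f.QuasiFiniteAt t := by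
    rintro _ ⟨x₀, hx₀, rfl⟩
    have h1 : f (f.fiberι s x₀) = s := (f.range_fiberι s).le ⟨x₀, rfl⟩
    exact ⟨h1, (isOpen_singleton_iff_quasiFiniteAt f _ s h1 x₀ rfl).mp hx₀⟩
  obtain ⟨U, g, u, hg, hu, hbij, d⟩ :=
    Groth.Agent.Lib.Helper20.EtSections.hasFinParts_of_finite (f := f) s T hTfin hTprop
  refine ⟨U, g, u, ⟨hg, hu, hbij⟩, ?_⟩
  choose! V hVfin hV using d
  have hfinV : IsFinite ((hTfin.toFinset.sup V).ι ≫ pullback.snd f g) :=
    isFinite_finset_sup _ _ V fun t ht => hVfin t (hTfin.mem_toFinset.mp ht)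
  refine ⟨hTfin.toFinset.sup V, ⟨isClosed_of_isFinite _ _ hfinV, (hTfin.toFinset.sup V).2⟩,
    hfinV, fun w hw hopen => hw ?_⟩
  have hq := quasiFiniteAt_fst_of_isOpen_singleton f g u hbij w hopen
  set y := (pullback.snd f g).fiberι u w with hy
  have hyu : pullback.snd f g y = u := ((pullback.snd f g).range_fiberι u).le ⟨w, rfl⟩
  have hxs : f (pullback.fst f g y) = s := by
    rw [← Scheme.Hom.comp_apply, pullback.condition, Scheme.Hom.comp_apply, hyu, hu]
  have hxT : pullback.fst f g y ∈ T := by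
    obtain ⟨x₀, hx₀⟩ : pullback.fst f g y ∈ Set.range (f.fiberι s) := by
      rw [f.range_fiberι s]; exact hxs
    exact ⟨x₀, (isOpen_singleton_iff_quasiFiniteAt f _ s hxs x₀ hx₀).mpr hq, hx₀⟩
  have hyV : y ∈ V (pullback.fst f g y) := (hV _ hxT y hyu).mpr rfl
  exact (Finset.le_sup (f := V) (hTfin.mem_toFinset.mpr hxT)) hyV

end Groth.Agent.Lib.Seat20.EtFinitePart
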