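/-
Seat 20 helper library: étale-local lifting of idempotents along integral ring maps, relative to an
ideal `I` of the base (Stacks 09XH-type statement, proved via Mathlib's universal coprime
factorization ring).
-/
import Mathlib

open Polynomial TensorProduct

universe u

namespace Groth.Agent.Lib.Seat20.EtIdemLift


/-- Elements of a finite type algebra are congruent to scalars modulo finitely many elements of
the kernel of an augmentation-like map. -/
theorem exists_finset_ker {A R : Type*} [CommRing A] [CommRing R] [Algebra A R]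
    [Algebra.FiniteType A R] (I : Ideal A) (φ : R →ₐ[A] A ⧸ I) :
    ∃ K : Ideal R, K.FG ∧ K ≤ RingHom.ker φ ∧
      RingHom.ker φ ≤ K ⊔ I.map (algebraMap A R) := by
  classical
  obtain ⟨s, hs⟩ := (Algebra.FiniteType.out : (⊤ : Subalgebra A R).FG)
  have hsurj : ∀ y : R, ∃ a : A, φ y = Ideal.Quotient.mk I a := fun y =>
    ⟨_, (Ideal.Quotient.mk_surjective (φ y)).choose_spec.symm⟩
  choose a ha using hsurj
  let K : Ideal R := Ideal.span ((fun y => y - algebraMap A R (a y)) '' (s : Set R))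
  have hKker : K ≤ RingHom.ker φ := by
    rw [Ideal.span_le]
    rintro _ ⟨y, -, rfl⟩
    change φ (y - algebraMap A R (a y)) = 0
    rw [map_sub, AlgHom.commutes, ha]
    exact sub_self _
  have key : ∀ x : R, ∃ c : A, x - algebraMap A R c ∈ K := by
    intro x
    have hx : x ∈ Algebra.adjoin A (s : Set R) := by rw [hs]; trivial
    induction hx using Algebra.adjoin_induction with
    | mem y hy => exact ⟨a y, Ideal.subset_span ⟨y, hy, rfl⟩⟩
    | algebraMap r => exact ⟨r, by simp⟩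
    | add x y _ _ hx hy =>
      obtain ⟨c, hc⟩ := hx
      obtain ⟨d, hd⟩ := hy
      refine ⟨c + d, ?_⟩
      have : x + y - algebraMap A R (c + d) = (x - algebraMap A R c) + (y - algebraMap A R d) := by
        rw [map_add]; ring
      rw [this]
      exact K.add_mem hc hd
    | mul x y _ _ hx hy =>
      obtain ⟨c, hc⟩ := hx
      obtain ⟨d, hd⟩ := hy
      refine ⟨c * d, ?_⟩
      have : x * y - algebraMap A R (c * d) =
          x * (y - algebraMap A R d) + algebraMap A R d * (x - algebraMap A R c) := by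
        rw [map_mul]; ring
      rw [this]
      exact K.add_mem (K.mul_mem_left _ hd) (K.mul_mem_left _ hc)
  refine ⟨K, ⟨s.image (fun y => y - algebraMap A R (a y)), by simp [K]⟩, hKker, ?_⟩
  intro x hx
  obtain ⟨c, hc⟩ := key x
  have hc' : algebraMap A R c ∈ RingHom.ker φ := by
    have := (RingHom.ker φ).sub_mem hx (hKker hc)
    simpa using this
  have hcI : c ∈ I := by
    rw [RingHom.mem_ker, AlgHom.commutes] at hc'
    exact Ideal.Quotient.eq_zero_iff_mem.mp hc'
  have : x = (x - algebraMap A R c) + algebraMap A R c := by ring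
  rw [this]
  exact Ideal.add_mem _ (Ideal.mem_sup_left hc) (Ideal.mem_sup_right (Ideal.mem_map_of_mem _ hcI))

/-- The kernel of an `A`-algebra map from a formally unramified algebra to `A ⧸ I` is idempotent
modulo `I`. -/
theorem ker_le_sq_sup {A R : Type*} [CommRing A] [CommRing R] [Algebra A R]
    [Algebra.FormallyUnramified A R] (I : Ideal A) (φ : R →ₐ[A] A ⧸ I) :
    RingHom.ker φ ≤ RingHom.ker φ ^ 2 ⊔ I.map (algebraMap A R) := by
  set J := RingHom.ker φ with hJ
  set L : Ideal R := J ^ 2 ⊔ I.map (algebraMap A R) with hL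
  let N₀ : Ideal (R ⧸ L) := J.map (Ideal.Quotient.mk L)
  have hN₀ : N₀ ^ 2 = ⊥ := by
    rw [← Ideal.map_pow, ← le_bot_iff]
    rw [Ideal.map_le_iff_le_comap]
    intro x hx
    rw [Ideal.mem_comap]
    exact (Ideal.Quotient.eq_zero_iff_mem.mpr (Ideal.mem_sup_left hx))
  have hI : ∀ a ∈ I, (Algebra.ofId A (R ⧸ L)) a = 0 := by
    intro a ha
    change algebraMap A (R ⧸ L) a = 0
    rw [IsScalarTower.algebraMap_apply A R (R ⧸ L)]
    exact Ideal.Quotient.eq_zero_iff_mem.mpr (Ideal.mem_sup_right (Ideal.mem_map_of_mem _ ha))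
  let ψ : A ⧸ I →ₐ[A] R ⧸ L := Ideal.Quotient.liftₐ I (Algebra.ofId A (R ⧸ L)) hI
  let f₁ : R →ₐ[A] R ⧸ L := Ideal.Quotient.mkₐ A L
  let f₂ : R →ₐ[A] R ⧸ L := ψ.comp φ
  have heq : f₁ = f₂ := by
    refine Algebra.FormallyUnramified.ext N₀ ⟨2, hN₀⟩ ?_
    intro x
    obtain ⟨c, hc⟩ := Ideal.Quotient.mk_surjective (φ x)
    rw [Ideal.Quotient.eq]
    have h2 : f₂ x = Ideal.Quotient.mk L (algebraMap A R c) := by
      change ψ (φ x) = _
      rw [← hc]
      rfl
    have h1 : f₁ x = Ideal.Quotient.mk L x := rfl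
    rw [h1, h2, ← map_sub]
    refine Ideal.mem_map_of_mem _ ?_
    rw [hJ, RingHom.mem_ker, map_sub, AlgHom.commutes, ← hc]
    exact sub_self _
  intro x hx
  have h1 : f₁ x = f₂ x := by rw [heq]
  have h2 : f₂ x = 0 := by
    change ψ (φ x) = 0
    rw [show φ x = 0 from hx, map_zero]
  rw [h2] at h1
  exact Ideal.Quotient.eq_zero_iff_mem.mp h1

/-- A retraction-like map `φ : R → A ⧸ I` from a finite type, formally unramified `A`-algebra
is cut out, modulo `I`, by inverting a single element. -/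
theorem exists_mul_mem_map {A R : Type*} [CommRing A] [CommRing R] [Algebra A R]
    [Algebra.FiniteType A R] [Algebra.FormallyUnramified A R] (I : Ideal A)
    (φ : R →ₐ[A] A ⧸ I) :
    ∃ h : R, φ h = 1 ∧ ∀ x ∈ RingHom.ker φ, h * x ∈ I.map (algebraMap A R) := by
  obtain ⟨K, hKfg, hK1, hK2⟩ := exists_finset_ker I φ
  have hsq := ker_le_sq_sup I φ
  set J := RingHom.ker φ with hJ
  set M : Ideal R := I.map (algebraMap A R) with hM
  have hMJ : M ≤ J := by
    rw [hM, Ideal.map_le_iff_le_comap]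
    intro a ha
    rw [Ideal.mem_comap, hJ, RingHom.mem_ker, AlgHom.commutes]
    exact Ideal.Quotient.eq_zero_iff_mem.mpr ha
  let N : Ideal (R ⧸ M) := J.map (Ideal.Quotient.mk M)
  have hNK : N = K.map (Ideal.Quotient.mk M) := by
    apply le_antisymm
    · refine (Ideal.map_mono hK2).trans ?_
      rw [Ideal.map_sup, Ideal.map_quotient_self, sup_bot_eq]
    · exact Ideal.map_mono hK1
  have hNfg : N.FG := by
    rw [hNK]; exact hKfg.map _
  have hNN : N ≤ N • N := by
    have : N ≤ (J ^ 2 ⊔ M).map (Ideal.Quotient.mk M) := Ideal.map_mono hsq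
    rw [Ideal.map_sup, Ideal.map_quotient_self, sup_bot_eq, Ideal.map_pow, pow_two] at this
    exact this
  obtain ⟨r, hr1, hr2⟩ :=
    Submodule.exists_sub_one_mem_and_smul_eq_zero_of_fg_of_le_smul N N hNfg hNN
  obtain ⟨h, rfl⟩ := Ideal.Quotient.mk_surjective r
  refine ⟨h, ?_, ?_⟩
  · have h1 : Ideal.Quotient.mk M (h - 1) ∈ N := by simpa using hr1
    rw [Ideal.mem_map_iff_of_surjective _ Ideal.Quotient.mk_surjective] at h1
    obtain ⟨j, hj, hje⟩ := h1
    have : h - 1 - j ∈ M := by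
      rw [← Ideal.Quotient.eq_zero_iff_mem, map_sub, hje, sub_self]
    have h2 : h - 1 ∈ J := by
      have := J.add_mem (hMJ this) hj
      simpa using this
    rw [hJ, RingHom.mem_ker, map_sub, map_one, sub_eq_zero] at h2
    exact h2
  · intro x hx
    have := hr2 _ (Ideal.mem_map_of_mem (Ideal.Quotient.mk M) hx)
    rw [smul_eq_mul, ← map_mul] at this
    exact Ideal.Quotient.eq_zero_iff_mem.mp this

/-- Localizing away from `h` extends `φ` to a map whose kernel is generated by `I`. -/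
theorem exists_away_section {A R : Type*} [CommRing A] [CommRing R] [Algebra A R] (I : Ideal A)
    (φ : R →ₐ[A] A ⧸ I) (h : R) (hu : IsUnit (φ h))
    (hker : ∀ x ∈ RingHom.ker φ, ∃ n : ℕ, h ^ n * x ∈ I.map (algebraMap A R)) :
    ∃ σ : Localization.Away h →ₐ[A] A ⧸ I,
      (∀ x, σ (algebraMap R (Localization.Away h) x) = φ x) ∧
      RingHom.ker σ = I.map (algebraMap A (Localization.Away h)) := by
  let σ : Localization.Away h →ₐ[A] A ⧸ I := IsLocalization.Away.liftAlgHom (f := φ) h hu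
  have hσ : ∀ x, σ (algebraMap R (Localization.Away h) x) = φ x := fun x =>
    IsLocalization.Away.lift_eq h hu x
  refine ⟨σ, hσ, le_antisymm ?_ ?_⟩
  · intro y hy
    obtain ⟨⟨x, ⟨_, n, rfl⟩⟩, hx⟩ := IsLocalization.surj (Submonoid.powers h) y
    simp only at hx
    have hunit : IsUnit (algebraMap R (Localization.Away h) (h ^ n)) :=
      IsLocalization.map_units _ (⟨h ^ n, n, rfl⟩ : Submonoid.powers h)
    have hxk : x ∈ RingHom.ker φ := by
      rw [RingHom.mem_ker, ← hσ, ← hx, map_mul, (RingHom.mem_ker).mp hy, zero_mul]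
    obtain ⟨m, hm⟩ := hker x hxk
    have hm' : algebraMap R (Localization.Away h) (h ^ m * x) ∈
        I.map (algebraMap A (Localization.Away h)) := by
      rw [IsScalarTower.algebraMap_eq A R (Localization.Away h), ← Ideal.map_map]
      exact Ideal.mem_map_of_mem _ hm
    have hunit' : IsUnit (algebraMap R (Localization.Away h) (h ^ m)) :=
      IsLocalization.map_units _ (⟨h ^ m, m, rfl⟩ : Submonoid.powers h)
    rw [map_mul, ← hx] at hm'
    have h3 : algebraMap R (Localization.Away h) (h ^ m) *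
        (y * algebraMap R (Localization.Away h) (h ^ n)) =
        y * (algebraMap R (Localization.Away h) (h ^ m) *
          algebraMap R (Localization.Away h) (h ^ n)) := by ring
    rw [h3] at hm'
    exact (Ideal.mul_unit_mem_iff_mem _ (hunit'.mul hunit)).mp hm'
  · rw [Ideal.map_le_iff_le_comap]
    intro a ha
    rw [Ideal.mem_comap, RingHom.mem_ker, AlgHom.commutes]
    exact Ideal.Quotient.eq_zero_iff_mem.mpr ha



open Polynomial.UniversalCoprimeFactorizationRing in
theorem factor_map {R : Type u} [CommRing R] {n : ℕ} (m k : ℕ) (hn : n = m + k)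
    (p : Polynomial.MonicDegreeEq R n) {S : Type*} [CommRing S] [Algebra R S]
    (f : UniversalCoprimeFactorizationRing m k hn p →ₐ[R] S) :
    (homEquiv S m k hn p f).1.1.1 = (factor₁ m k hn p).1.map (f : _ →+* S) ∧
    (homEquiv S m k hn p f).1.2.1 = (factor₂ m k hn p).1.map (f : _ →+* S) := by
  constructor
  · simp [homEquiv, UniversalFactorizationRing.homEquiv, factor₁,
          MonicDegreeEq.map, Polynomial.map_map]
    rfl
  · simp [homEquiv, UniversalFactorizationRing.homEquiv, factor₂,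
          MonicDegreeEq.map, Polynomial.map_map]
    rfl






/-- Abstract form: shrink an étale algebra with a factorization lifting `X^D (X-1)^D`. -/
theorem exists_etale_factorization_aux {A : Type u} [CommRing A] (I : Ideal A) (D : ℕ) (f : A[X])
    (R' : Type u) [CommRing R'] [Algebra A R'] [Algebra.Etale A R'] (φ : R' →ₐ[A] A ⧸ I)
    (g₀ g₁ : R'[X]) (hmul : g₀ * g₁ = f.map (algebraMap A R')) (hcop : IsCoprime g₀ g₁)
    (hφ₁ : g₀.map (φ : R' →+* A ⧸ I) = X ^ D) (hφ₂ : g₁.map (φ : R' →+* A ⧸ I) = (X - 1) ^ D) :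
    ∃ (A' : Type u) (_ : CommRing A') (_ : Algebra A A') (_ : Algebra.Etale A A')
      (σ : A' →ₐ[A] A ⧸ I) (f₀ f₁ : A'[X]),
      RingHom.ker σ = I.map (algebraMap A A') ∧ f.map (algebraMap A A') = f₀ * f₁ ∧
      IsCoprime f₀ f₁ ∧ f₀.map (σ : A' →+* A ⧸ I) = X ^ D ∧
      f₁.map (σ : A' →+* A ⧸ I) = (X - 1) ^ D ∧ IsUnit (f₁.coeff 0) := by
  obtain ⟨h₁, hh₁, hker⟩ := exists_mul_mem_map I φ
  set c₀ := g₁.coeff 0 with hc₀
  have hφc₀ : φ c₀ = (-1) ^ D := by
    have : φ c₀ = (g₁.map (φ : _ →+* A ⧸ I)).coeff 0 := by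
      rw [coeff_map]; rfl
    rw [this, hφ₂, coeff_zero_eq_eval_zero]
    simp
  have hu : IsUnit (φ (h₁ * c₀)) := by
    rw [map_mul, hh₁, one_mul, hφc₀]
    exact (isUnit_one.neg).pow D
  obtain ⟨σ, hσ, hσker⟩ := exists_away_section I φ (h₁ * c₀) hu (fun x hx => ⟨1, by
    rw [pow_one, mul_comm h₁, mul_assoc]
    exact Ideal.mul_mem_left _ _ (hker x hx)⟩)
  have hσ' : (σ : _ →+* A ⧸ I).comp (algebraMap R' (Localization.Away (h₁ * c₀))) =
      (φ : _ →+* A ⧸ I) := RingHom.ext (fun x => by simpa using hσ x)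
  refine ⟨Localization.Away (h₁ * c₀), inferInstance, inferInstance,
    Algebra.Etale.comp A R' _, σ,
    g₀.map (algebraMap _ _), g₁.map (algebraMap _ _),
    hσker, ?_, ?_, ?_, ?_, ?_⟩
  · rw [← Polynomial.map_mul, hmul, Polynomial.map_map,
      ← IsScalarTower.algebraMap_eq]
  · have := hcop.map (Polynomial.mapRingHom (algebraMap R' (Localization.Away (h₁ * c₀))))
    simpa only [Polynomial.coe_mapRingHom] using this
  · rw [Polynomial.map_map, hσ', hφ₁]
  · rw [Polynomial.map_map, hσ', hφ₂]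
  · rw [coeff_map]
    exact IsLocalization.Away.isUnit_of_dvd (h₁ * c₀) (Dvd.intro_left _ rfl)

open Polynomial.UniversalCoprimeFactorizationRing in
theorem exists_etale_factorization {A : Type u} [CommRing A] (I : Ideal A) (D : ℕ)
    (p : MonicDegreeEq A (D + D))
    (hmap : p.1.map (Ideal.Quotient.mk I) = X ^ D * (X - 1) ^ D) :
    ∃ (A' : Type u) (_ : CommRing A') (_ : Algebra A A') (_ : Algebra.Etale A A')
      (σ : A' →ₐ[A] A ⧸ I) (f₀ f₁ : A'[X]),
      RingHom.ker σ = I.map (algebraMap A A') ∧ p.1.map (algebraMap A A') = f₀ * f₁ ∧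
      IsCoprime f₀ f₁ ∧ f₀.map (σ : A' →+* A ⧸ I) = X ^ D ∧
      f₁.map (σ : A' →+* A ⧸ I) = (X - 1) ^ D ∧ IsUnit (f₁.coeff 0) := by
  classical
  have hq₁ : ((X : (A ⧸ I)[X]) ^ D).coeff D = 1 ∧ ∀ i > D, ((X : (A ⧸ I)[X]) ^ D).coeff i = 0 := by
    refine ⟨by simp [coeff_X_pow], fun i hi => ?_⟩
    rw [coeff_X_pow, if_neg hi.ne']
  have hq₂ : (((X : (A ⧸ I)[X]) - 1) ^ D).coeff D = 1 ∧
      ∀ i > D, (((X : (A ⧸ I)[X]) - 1) ^ D).coeff i = 0 := by
    have hmon : (((X : (A ⧸ I)[X]) - C 1) ^ D).Monic := (monic_X_sub_C 1).pow D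
    rw [map_one] at hmon
    rcases subsingleton_or_nontrivial (A ⧸ I) with hs | hs
    · exact ⟨Subsingleton.elim _ _, fun i _ => Subsingleton.elim _ _⟩
    · have hnd : (((X : (A ⧸ I)[X]) - 1) ^ D).natDegree = D := by
        have := (monic_X_sub_C (1 : A ⧸ I)).natDegree_pow D
        rw [natDegree_X_sub_C, mul_one, map_one] at this
        exact this
      refine ⟨?_, fun i hi => coeff_eq_zero_of_natDegree_lt (by rw [hnd]; exact hi)⟩
      have := hmon.coeff_natDegree
      rwa [hnd] at this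
  let q₁ : MonicDegreeEq (A ⧸ I) D := ⟨X ^ D, hq₁⟩
  let q₂ : MonicDegreeEq (A ⧸ I) D := ⟨(X - 1) ^ D, hq₂⟩
  have hmul : q₁.1 * q₂.1 = p.1.map (algebraMap A (A ⧸ I)) := hmap.symm
  have hcop : IsCoprime q₁.1 q₂.1 := by
    refine IsCoprime.pow ?_
    exact ⟨1, -1, by ring⟩
  let φ : UniversalCoprimeFactorizationRing D D rfl p →ₐ[A] A ⧸ I :=
    (homEquiv (A ⧸ I) D D rfl p).symm ⟨(q₁, q₂), hmul, hcop⟩
  have hφ : homEquiv (A ⧸ I) D D rfl p φ = ⟨(q₁, q₂), hmul, hcop⟩ := Equiv.apply_symm_apply _ _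
  obtain ⟨hφ₁, hφ₂⟩ := factor_map D D rfl p φ
  rw [hφ] at hφ₁ hφ₂
  refine exists_etale_factorization_aux I D p.1 (UniversalCoprimeFactorizationRing D D rfl p) φ
    (factor₁ D D rfl p).1 (factor₂ D D rfl p).1 ?_ (isCoprime_factor₁_factor₂ D D rfl p)
    hφ₁.symm hφ₂.symm
  rw [factor₁_mul_factor₂]
  rfl



theorem exists_finset_mul_mem {A B' : Type*} [CommRing A] [CommRing B'] [Algebra A B']
    (I : Ideal A) (z : B') (hz : z ∈ I • (⊤ : Submodule A B')) :
    ∃ t : Finset B', ∀ S : Subalgebra A B', (t : Set B') ⊆ S → ∀ x ∈ S,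
      z * x ∈ I • Subalgebra.toSubmodule S := by
  classical
  refine Submodule.smul_induction_on hz ?_ ?_
  · intro c hc b _
    refine ⟨{b}, fun S hS x hx => ?_⟩
    rw [smul_mul_assoc]
    refine Submodule.smul_mem_smul hc ?_
    exact S.mul_mem (hS (by simp)) hx
  · rintro w₁ w₂ ⟨t₁, ht₁⟩ ⟨t₂, ht₂⟩
    refine ⟨t₁ ∪ t₂, fun S hS x hx => ?_⟩
    rw [add_mul]
    refine Submodule.add_mem _ (ht₁ S ?_ x hx) (ht₂ S ?_ x hx)
    · exact fun y hy => hS (by simp [Finset.mem_coe.mp hy])
    · exact fun y hy => hS (by simp [Finset.mem_coe.mp hy])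

/-- An element of `I B'` (with `B'` integral over `A`) is a root of a monic polynomial which is
`X ^ d` modulo `I`. -/
theorem exists_monic_of_mem_map {A B' : Type*} [CommRing A] [CommRing B'] [Algebra A B']
    [Algebra.IsIntegral A B'] (I : Ideal A) (z : B') (hz : z ∈ I.map (algebraMap A B')) :
    ∃ p : A[X], p.Monic ∧ aeval z p = 0 ∧
      p.map (Ideal.Quotient.mk I) = X ^ p.natDegree := by
  classical
  have hz' : z ∈ I • (⊤ : Submodule A B') := by
    rw [Ideal.smul_top_eq_map]; exact hz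
  obtain ⟨t₀, ht₀⟩ := exists_finset_mul_mem I z hz'
  let t : Finset B' := insert z t₀
  let S : Subalgebra A B' := Algebra.adjoin A (t : Set B')
  have hfin : Module.Finite A S :=
    Algebra.finite_adjoin_of_finite_of_isIntegral t.finite_toSet
      (fun x _ => Algebra.IsIntegral.isIntegral x)
  have hzS : z ∈ S := Algebra.subset_adjoin (Finset.mem_insert_self _ _)
  have htS : (t₀ : Set B') ⊆ S := fun y hy =>
    Algebra.subset_adjoin (Finset.mem_insert_of_mem hy)
  let z' : S := ⟨z, hzS⟩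
  have hmap : Submodule.map S.val.toLinearMap (I • (⊤ : Submodule A S)) =
      I • Subalgebra.toSubmodule S := by
    rw [Submodule.map_smul'', Submodule.map_top]
    congr 1
    ext y
    simp
  have hrange : LinearMap.range (Algebra.lmul A S z') ≤ I • (⊤ : Submodule A S) := by
    rintro _ ⟨x, rfl⟩
    have h1 := ht₀ S htS x x.2
    rw [← hmap] at h1
    obtain ⟨y, hy, hyx⟩ := h1
    have : y = z' * x := Subtype.ext hyx
    rw [this] at hy
    exact hy
  obtain ⟨p, hpm, -, hpc, hp0⟩ :=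
    LinearMap.exists_monic_and_natDegree_eq_and_coeff_mem_pow_and_aeval_eq_zero A
      (Algebra.lmul A S z') I hrange
  refine ⟨p, hpm, ?_, ?_⟩
  · rw [Polynomial.aeval_algHom_apply] at hp0
    have h1 : Algebra.lmul A S (aeval z' p) 1 = 0 := by rw [hp0]; rfl
    have h2 : aeval z' p = 0 := by simpa using h1
    have h3 : S.val (aeval z' p) = aeval z p := by
      rw [← Polynomial.aeval_algHom_apply]; rfl
    rw [← h3, h2, map_zero]
  · ext k
    rw [coeff_map, coeff_X_pow]
    split_ifs with hk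
    · rw [hk, hpm.coeff_natDegree, map_one]
    · rcases lt_or_gt_of_ne hk with hlt | hgt
      · have := hpc k
        have hpos : 0 < p.natDegree - k := Nat.sub_pos_of_lt hlt
        have hle : I ^ (p.natDegree - k) ≤ I := Ideal.pow_le_self hpos.ne'
        exact Ideal.Quotient.eq_zero_iff_mem.mpr (hle this)
      · rw [coeff_eq_zero_of_natDegree_lt hgt, map_zero]


/-- An element `g` of an integral `A`-algebra which is idempotent modulo `I` is a root of a monic
polynomial which is `X ^ D * (X - 1) ^ D` modulo `I`. -/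
theorem exists_monicDegreeEq_of_sq_sub_mem {A B' : Type*} [CommRing A] [CommRing B'] [Algebra A B']
    [Algebra.IsIntegral A B'] (I : Ideal A) (g : B')
    (hg : g ^ 2 - g ∈ I.map (algebraMap A B')) :
    ∃ (D : ℕ) (f : MonicDegreeEq A (D + D)), 0 < D ∧ aeval g f.1 = 0 ∧
      f.1.map (Ideal.Quotient.mk I) = X ^ D * (X - 1) ^ D := by
  rcases subsingleton_or_nontrivial A with hA | hA
  · have : Subsingleton B' := (algebraMap A B').codomain_trivial
    have : Subsingleton (A ⧸ I) := (Ideal.Quotient.mk I).codomain_trivial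
    exact ⟨1, ⟨0, Subsingleton.elim _ _, fun _ _ => Subsingleton.elim _ _⟩, one_pos,
      Subsingleton.elim _ _, Subsingleton.elim _ _⟩
  obtain ⟨p, hpm, hp0, hpmap⟩ := exists_monic_of_mem_map I (g ^ 2 - g) hg
  set d := p.natDegree with hd
  have hq : (X ^ 2 - X : A[X]).Monic :=
    monic_X_pow_sub (degree_X_le.trans_lt (by exact_mod_cast one_lt_two))
  have hqd : (X ^ 2 - X : A[X]).natDegree = 2 := by
    rw [natDegree_sub_eq_left_of_natDegree_lt] <;> simp
  have hP : (X * p).Monic := monic_X.mul hpm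
  have hPd : (X * p).natDegree = 1 + d := by
    rw [monic_X.natDegree_mul hpm, natDegree_X]
  have hfm : ((X * p).comp (X ^ 2 - X)).Monic := hP.comp hq (by rw [hqd]; norm_num)
  have hfd : ((X * p).comp (X ^ 2 - X)).natDegree = (d + 1) + (d + 1) := by
    rw [natDegree_comp_eq_of_mul_ne_zero (by simp [hP.leadingCoeff, hq.leadingCoeff]), hPd, hqd]
    ring
  refine ⟨d + 1, .mk _ hfm hfd, Nat.succ_pos _, ?_, ?_⟩
  · change aeval g ((X * p).comp (X ^ 2 - X)) = 0
    rw [aeval_comp]
    have : aeval g (X ^ 2 - X : A[X]) = g ^ 2 - g := by simp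
    rw [this, map_mul, hp0, mul_zero]
  · change ((X * p).comp (X ^ 2 - X)).map (Ideal.Quotient.mk I) = _
    rw [Polynomial.map_comp, Polynomial.map_mul, hpmap, Polynomial.map_X, Polynomial.map_sub,
      Polynomial.map_pow, Polynomial.map_X, mul_comp, X_comp, X_pow_comp, ← pow_succ', ← mul_pow]
    congr 1
    ring







attribute [local instance] Algebra.TensorProduct.rightAlgebra

/-- Evaluating polynomials over `A'` at an element of `B' ⊗ A'` modulo `I` only depends on the
reduction of the polynomial along `σ`. -/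
theorem mk_aeval_eq {A B' A' : Type*} [CommRing A] [CommRing B'] [Algebra A B'] [CommRing A']
    [Algebra A A'] (I : Ideal A) (σ : A' →ₐ[A] A ⧸ I)
    (hker : RingHom.ker σ = I.map (algebraMap A A')) (γ : B' ⊗[A] A') :
    ∃ ψ : A ⧸ I →+* (B' ⊗[A] A') ⧸ I.map (algebraMap A (B' ⊗[A] A')),
      ∀ q : A'[X], Ideal.Quotient.mk (I.map (algebraMap A (B' ⊗[A] A'))) (aeval γ q) =
        eval₂ ψ (Ideal.Quotient.mk _ γ) (q.map (σ : A' →+* A ⧸ I)) := by
  set K := I.map (algebraMap A (B' ⊗[A] A')) with hK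
  let ψ : A ⧸ I →+* (B' ⊗[A] A') ⧸ K :=
    Ideal.Quotient.lift I ((Ideal.Quotient.mk K).comp (algebraMap A (B' ⊗[A] A'))) (fun a ha => by
      rw [RingHom.comp_apply]
      exact Ideal.Quotient.eq_zero_iff_mem.mpr (Ideal.mem_map_of_mem _ ha))
  have hcomp : (Ideal.Quotient.mk K).comp (algebraMap A' (B' ⊗[A] A')) =
      ψ.comp (σ : A' →+* A ⧸ I) := by
    ext x
    obtain ⟨a, ha⟩ := Ideal.Quotient.mk_surjective (σ x)
    have hx : x - algebraMap A A' a ∈ RingHom.ker σ := by
      rw [RingHom.mem_ker, map_sub, AlgHom.commutes, ← ha]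
      exact sub_self _
    rw [hker] at hx
    have hx' : algebraMap A' (B' ⊗[A] A') (x - algebraMap A A' a) ∈ K := by
      have := Ideal.mem_map_of_mem (algebraMap A' (B' ⊗[A] A')) hx
      rwa [Ideal.map_map, ← IsScalarTower.algebraMap_eq] at this
    rw [RingHom.comp_apply, RingHom.comp_apply]
    have h1 : Ideal.Quotient.mk K (algebraMap A' (B' ⊗[A] A') x) =
        Ideal.Quotient.mk K (algebraMap A' (B' ⊗[A] A') (algebraMap A A' a)) := by
      rw [Ideal.Quotient.eq, ← map_sub]; exact hx'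
    rw [h1, ← IsScalarTower.algebraMap_apply]
    change _ = ψ (σ x)
    rw [← ha]
    rfl
  refine ⟨ψ, fun q => ?_⟩
  rw [aeval_def, hom_eval₂, eval₂_map, hcomp]


/-- **Étale-local lifting of idempotents along integral maps.** -/
theorem exists_etale_idempotent_lift {A B' : Type u} [CommRing A] [CommRing B'] [Algebra A B']
    [Algebra.IsIntegral A B'] (I : Ideal A) (g : B')
    (hg : g ^ 2 - g ∈ I.map (algebraMap A B')) :
    ∃ (A' : Type u) (_ : CommRing A') (_ : Algebra A A') (_ : Algebra.Etale A A')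
      (σ : A' →ₐ[A] A ⧸ I) (ε w : B' ⊗[A] A'),
      RingHom.ker σ = I.map (algebraMap A A') ∧ IsIdempotentElem ε ∧
      ε - g ⊗ₜ 1 ∈ I.map (algebraMap A (B' ⊗[A] A')) ∧ w * (g ⊗ₜ 1) * ε = ε := by
  obtain ⟨D, f, hD, hfg, hfmap⟩ := exists_monicDegreeEq_of_sq_sub_mem I g hg
  obtain ⟨A', _, _, _, σ, f₀, f₁, hker, hmul, hcop, h₀, h₁, hunit⟩ :=
    exists_etale_factorization I D f hfmap
  obtain ⟨u, v, huv⟩ := hcop
  set γ : B' ⊗[A] A' := g ⊗ₜ 1 with hγ
  have hfγ : aeval γ (f₀ * f₁) = 0 := by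
    rw [← hmul, aeval_map_algebraMap]
    have : aeval γ f.1 = (Algebra.TensorProduct.includeLeft : B' →ₐ[A] B' ⊗[A] A') (aeval g f.1) :=
      aeval_algHom_apply (Algebra.TensorProduct.includeLeft : B' →ₐ[A] B' ⊗[A] A') g f.1
    rw [this, hfg, map_zero]
  set ε : B' ⊗[A] A' := aeval γ (u * f₀) with hε
  have h1ε : 1 - ε = aeval γ (v * f₁) := by
    rw [hε, sub_eq_iff_eq_add, ← map_add, add_comm, huv, map_one]
  have hεε : ε * (1 - ε) = 0 := by
    rw [h1ε, hε, ← map_mul, show u * f₀ * (v * f₁) = u * v * (f₀ * f₁) by ring, map_mul, hfγ,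
      mul_zero]
  have hidem : IsIdempotentElem ε := by
    change ε * ε = ε
    have : ε * ε = ε - ε * (1 - ε) := by ring
    rw [this, hεε, sub_zero]
  -- the inverse of `γ` on the `ε`-part
  obtain ⟨c, hc⟩ := hunit
  have hf₁ε : aeval γ f₁ * ε = 0 := by
    rw [hε, ← map_mul, show f₁ * (u * f₀) = u * (f₀ * f₁) by ring, map_mul, hfγ, mul_zero]
  have hdiv : aeval γ f₁ = aeval γ f₁.divX * γ + algebraMap A' (B' ⊗[A] A') (f₁.coeff 0) := by
    conv_lhs => rw [← divX_mul_X_add f₁]
    rw [map_add, map_mul, aeval_X, aeval_C]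
  set w : B' ⊗[A] A' := -(algebraMap A' (B' ⊗[A] A') (↑c⁻¹ : A')) * aeval γ f₁.divX with hw
  have hwγ : w * γ * ε = ε := by
    have h2 : aeval γ f₁.divX * γ * ε = -(algebraMap A' (B' ⊗[A] A') (f₁.coeff 0)) * ε := by
      have := hf₁ε
      rw [hdiv, add_mul] at this
      rw [neg_mul]
      exact eq_neg_of_add_eq_zero_left this
    rw [hw, mul_assoc, mul_assoc, ← mul_assoc (aeval γ f₁.divX), h2, ← hc]
    rw [neg_mul, neg_mul, mul_neg, neg_neg, ← mul_assoc, ← map_mul, Units.inv_mul, map_one, one_mul]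
  -- congruence modulo `I`
  obtain ⟨ψ, hψ⟩ := mk_aeval_eq (B' := B') I σ hker γ
  set K := I.map (algebraMap A (B' ⊗[A] A')) with hK
  set γb := Ideal.Quotient.mk K γ with hγb
  have hγidem : γb * γb = γb := by
    rw [hγb, ← map_mul, Ideal.Quotient.eq]
    have : γ * γ - γ = (Algebra.TensorProduct.includeLeft : B' →ₐ[A] B' ⊗[A] A') (g ^ 2 - g) := by
      rw [hγ, map_sub, map_pow]
      simp [pow_two]
    rw [this]
    have h3 := Ideal.mem_map_of_mem
      ((Algebra.TensorProduct.includeLeft : B' →ₐ[A] B' ⊗[A] A') : B' →+* B' ⊗[A] A') hg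
    rw [Ideal.map_map] at h3
    have h4 : ((Algebra.TensorProduct.includeLeft : B' →ₐ[A] B' ⊗[A] A') : B' →+* _).comp
        (algebraMap A B') = algebraMap A (B' ⊗[A] A') :=
      (Algebra.TensorProduct.includeLeft : B' →ₐ[A] B' ⊗[A] A').comp_algebraMap
    rw [h4] at h3
    exact h3
  have hγpow : γb ^ D = γb := by
    obtain ⟨n, rfl⟩ := Nat.exists_eq_succ_of_ne_zero hD.ne'
    exact IsIdempotentElem.pow_succ_eq n hγidem
  have hεb : Ideal.Quotient.mk K ε = Ideal.Quotient.mk K (aeval γ u) * γb := by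
    rw [hε, map_mul, map_mul, hψ f₀, h₀, eval₂_pow, eval₂_X, hγpow]
  have h1εb : Ideal.Quotient.mk K (1 - ε) = Ideal.Quotient.mk K (aeval γ v) * (γb - 1) ^ D := by
    rw [h1ε, map_mul, map_mul, hψ f₁, h₁, eval₂_pow, eval₂_sub, eval₂_X, eval₂_one]
  have hzero : (γb - 1) ^ D * γb = 0 := by
    obtain ⟨n, rfl⟩ := Nat.exists_eq_succ_of_ne_zero hD.ne'
    rw [pow_succ, mul_assoc, sub_mul, one_mul, hγidem, sub_self, mul_zero]
  have hfin : Ideal.Quotient.mk K ε = γb := by
    have e1 : Ideal.Quotient.mk K ε * γb = Ideal.Quotient.mk K ε := by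
      rw [hεb, mul_assoc, hγidem]
    have e2 : Ideal.Quotient.mk K (1 - ε) * γb = 0 := by
      rw [h1εb, mul_assoc, hzero, mul_zero]
    rw [map_sub, map_one, sub_mul, one_mul, e1, sub_eq_zero] at e2
    exact e2.symm
  refine ⟨A', inferInstance, inferInstance, inferInstance, σ, ε, w, hker, hidem, ?_, hwγ⟩
  rw [← Ideal.Quotient.eq]
  exact hfin

end Groth.Agent.Lib.Seat20.EtIdemLift
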