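import Mathlib.Algebra.Homology.DerivedCategory.Ext.Map
import Mathlib.Algebra.Homology.DerivedCategory.Ext.ExactSequences
import Mathlib.Algebra.Homology.DerivedCategory.Ext.EnoughInjectives

set_option autoImplicit false
universe w w' v v' u u'

namespace Groth.Agent.Lib.Seat20.ExtNat2

open CategoryTheory CategoryTheory.Limits Abelian

variable {C : Type u} [Category.{v} C] [Abelian C] [HasExt.{w} C]
  {D : Type u'} [Category.{v'} D] [Abelian D] [HasExt.{w'} D]
  (Φ Ψ : C ⥤ D) [Φ.Additive] [PreservesFiniteLimits Φ] [PreservesFiniteColimits Φ]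
  [Ψ.Additive] [PreservesFiniteLimits Ψ] [PreservesFiniteColimits Ψ]
  (τ : Φ ⟶ Ψ)

theorem aux {n : ℕ} {A M B : C} (z : Ext.{w} A M n) (δ : Ext.{w} M B 1)
    (ih : (Ext.mk₀ (τ.app A)).comp (z.mapExactFunctor Ψ) (zero_add n) =
      (z.mapExactFunctor Φ).comp (Ext.mk₀ (τ.app M)) (add_zero n))
    (hnat : (δ.mapExactFunctor Φ).comp (Ext.mk₀ (τ.app B)) (add_zero 1) =
      (Ext.mk₀ (τ.app M)).comp (δ.mapExactFunctor Ψ) (zero_add 1)) :
    (Ext.mk₀ (τ.app A)).comp ((z.comp δ rfl).mapExactFunctor Ψ) (zero_add (n + 1)) =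
      ((z.comp δ rfl).mapExactFunctor Φ).comp (Ext.mk₀ (τ.app B)) (add_zero (n + 1)) := by
  rw [Ext.mapExactFunctor_comp, Ext.mapExactFunctor_comp]
  rw [← Ext.comp_assoc (Ext.mk₀ (τ.app A)) (z.mapExactFunctor Ψ) (δ.mapExactFunctor Ψ)
    (zero_add n) rfl (by omega), ih]
  rw [Ext.comp_assoc (z.mapExactFunctor Φ) (Ext.mk₀ (τ.app M)) (δ.mapExactFunctor Ψ) (add_zero n) (zero_add 1)
    (by omega)]
  rw [Ext.comp_assoc (z.mapExactFunctor Φ) (δ.mapExactFunctor Φ) (Ext.mk₀ (τ.app B)) rfl (add_zero 1) (by omega)]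
  rw [hnat]

variable [EnoughInjectives C]

/-- naturality of the maps on `Ext` induced by two exact functors `Φ Ψ` related by `τ : Φ ⟶ Ψ` -/
theorem mk₀_comp_mapExactFunctor : ∀ (n : ℕ) {A B : C} (e : Ext.{w} A B n),
    (Ext.mk₀ (τ.app A)).comp (e.mapExactFunctor Ψ) (zero_add n) =
      (e.mapExactFunctor Φ).comp (Ext.mk₀ (τ.app B)) (add_zero n)
  | 0, A, B, e => by
    obtain ⟨f, rfl⟩ := (Ext.mk₀_bijective A B).2 e
    rw [Ext.mapExactFunctor_mk₀, Ext.mapExactFunctor_mk₀, Ext.mk₀_comp_mk₀, Ext.mk₀_comp_mk₀]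
    congr 1
    exact (τ.naturality f).symm
  | n + 1, A, B, e => by
    -- embed `B` in an injective
    let ι := Injective.ι B
    let S : ShortComplex C := ShortComplex.mk ι (cokernel.π ι) (cokernel.condition ι)
    have hS : S.ShortExact :=
      { exact := ShortComplex.exact_of_g_is_cokernel _ (cokernelIsCokernel S.f) }
    obtain ⟨z, rfl⟩ := Ext.covariant_sequence_exact₁ A hS e (Ext.eq_zero_of_injective _) rfl
    have ih := mk₀_comp_mapExactFunctor n z
    let f : S.map Φ ⟶ S.map Ψ :=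
      { τ₁ := τ.app _
        τ₂ := τ.app _
        τ₃ := τ.app _
        comm₁₂ := (τ.naturality S.f).symm
        comm₂₃ := (τ.naturality S.g).symm }
    have hnat := ShortComplex.ShortExact.extClass_naturality (hS.map_of_exact Φ) (hS.map_of_exact Ψ) f
    refine aux Φ Ψ τ z hS.extClass ih ?_
    rw [Ext.mapExactFunctor_extClass _ hS, Ext.mapExactFunctor_extClass _ hS]
    exact hnat

end Groth.Agent.Lib.Seat20.ExtNat2
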