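import Groth.Prelude.Def_EtCore
import Groth.Agent.Lib.Helper9EtPull

set_option autoImplicit false
universe u

namespace Groth.Agent.Lib.Seat20.PullConstComp

open CategoryTheory CategoryTheory.Limits AlgebraicGeometry Opposite
open Groth.Agent.Lib.Helper9.EtPull

variable {X Y Z : Scheme.{u}} (f : X ⟶ Y) (h : Y ⟶ Z)

/-- `bc f (bc h top)` is terminal -/
noncomputable def bcBcTopIsTerminal : IsTerminal ((EtCoh.bc f).obj ((EtCoh.bc h).obj (EtCoh.top Z))) :=
  IsTerminal.isTerminalObj (EtCoh.bc f) _ (EtCore.bcTopIsTerminal h)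

lemma pushComp_hom_app_hom_app' (A : EtCoh.Ab X) (P : Z.Etale) :
    ∃ m : (EtCoh.bc (f ≫ h)).obj P ⟶ (EtCoh.bc f).obj ((EtCoh.bc h).obj P),
      ((EtCoh.pushComp h f).hom.app A).hom.app (op P) = A.obj.map m.op := by
  refine ⟨(MorphismProperty.Over.pullbackComp (P := EtCoh.etaleMP.{u}) (Q := ⊤) f h).hom.app P, ?_⟩
  simp [EtCoh.pushComp]

theorem L00 (A : EtCoh.Ab X) :
    (EtCore.gsec Z).map ((EtCoh.pushComp h f).hom.app A) ≫ (EtCore.pushGsecIso (f ≫ h)).hom.app A =
      (EtCore.pushGsecIso h).hom.app ((EtCoh.push f).obj A) ≫ (EtCore.pushGsecIso f).hom.app A := by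
  obtain ⟨m, hm⟩ := pushComp_hom_app_hom_app' f h A (EtCoh.top Z)
  change ((EtCoh.pushComp h f).hom.app A).hom.app (op (EtCoh.top Z)) ≫
      A.obj.map (EtCore.bcTopIso (f ≫ h)).inv.op =
    A.obj.map ((EtCoh.bc f).map (EtCore.bcTopIso h).inv).op ≫ A.obj.map (EtCore.bcTopIso f).inv.op
  rw [hm]
  refine (A.obj.map_comp m.op (EtCore.bcTopIso (f ≫ h)).inv.op).symm.trans ?_
  refine Eq.trans ?_ (A.obj.map_comp _ _)
  rw [← op_comp, ← op_comp]
  congr 2
  exact (bcBcTopIsTerminal f h).hom_ext _ _

/-- pullback of global sections is compatible with composition -/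
theorem L0 (G : EtCoh.Ab Z) :
    pullSec (f ≫ h) G ≫ (EtCore.gsec X).map ((EtCore.pullComp f h).hom.app G) =
      pullSec h G ≫ pullSec f ((EtCoh.pull h).obj G) := by
  have hunit : (EtCoh.pullPushAdj (f ≫ h)).unit.app G ≫
      (EtCoh.push (f ≫ h)).map ((EtCore.pullComp f h).hom.app G) = (adjB f h).unit.app G :=
    Adjunction.unit_leftAdjointUniq_hom_app (EtCoh.pullPushAdj (f ≫ h)) (adjB f h) G
  have nat1 := (EtCore.pushGsecIso (f ≫ h)).hom.naturality ((EtCore.pullComp f h).hom.app G)
  have nat2 := (EtCore.pushGsecIso h).hom.naturality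
    ((EtCoh.pullPushAdj f).unit.app ((EtCoh.pull h).obj G))
  have h00 := L00 f h ((EtCoh.pull f).obj ((EtCoh.pull h).obj G))
  rw [Functor.comp_map] at nat1 nat2
  simp only [Functor.comp_obj, Functor.id_obj] at nat1 nat2
  unfold pullSec
  rw [Category.assoc, ← nat1, ← Category.assoc, ← Functor.map_comp, hunit, adjB_unit_app]
  rw [Functor.map_comp, Functor.map_comp, Category.assoc, Category.assoc, h00]
  rw [Category.assoc, ← Category.assoc ((EtCore.pushGsecIso h).hom.app _), ← nat2]
  simp only [Category.assoc]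

/-- naturality of `pullSec` -/
theorem pullSec_naturality {G G' : EtCoh.Ab Y} (φ : G ⟶ G') :
    pullSec f G ≫ (EtCore.gsec X).map ((EtCoh.pull f).map φ) = (EtCore.gsec Y).map φ ≫ pullSec f G' := by
  have nat1 := (EtCore.pushGsecIso f).hom.naturality ((EtCoh.pull f).map φ)
  have nat2 := (EtCoh.pullPushAdj f).unit.naturality φ
  rw [Functor.comp_map] at nat1
  simp only [Functor.comp_obj, Functor.id_obj, Functor.id_map, Functor.comp_map] at nat1 nat2
  unfold pullSec
  rw [Category.assoc, ← nat1, ← Category.assoc, ← Functor.map_comp, ← nat2, Functor.map_comp, Category.assoc]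

/-- compatibility of `pullConstIso` with composition -/
theorem pullConstIso_comp_inv (M : AddCommGrpCat.{u + 1}) :
    (EtCore.pullConstIso (f ≫ h)).inv.app M ≫
        (EtCore.pullComp f h).hom.app ((constantSheaf Z.smallEtaleTopology AddCommGrpCat.{u + 1}).obj M) =
      (EtCore.pullConstIso f).inv.app M ≫ (EtCoh.pull f).map ((EtCore.pullConstIso h).inv.app M) := by
  apply ((EtCore.constAdj X).homEquiv _ _).injective
  rw [Adjunction.homEquiv_unit, Adjunction.homEquiv_unit, Functor.map_comp, Functor.map_comp,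
    ← Category.assoc, ← Category.assoc]
  have e1 := unit_pullConst_inv (f ≫ h) M
  have e2 := unit_pullConst_inv f M
  have e3 := unit_pullConst_inv h M
  simp only [Functor.comp_obj] at e1 e2 e3
  rw [e1, e2, adj1_unit_app, adj1_unit_app, Category.assoc, Category.assoc, L0, pullSec_naturality,
    ← Category.assoc, ← Category.assoc, e3, adj1_unit_app, Category.assoc]
  rfl

/-- compatibility of `pullConstIso` with composition, `hom` form -/
theorem pullConstIso_comp_hom (M : AddCommGrpCat.{u + 1}) :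
    (EtCore.pullComp f h).inv.app ((constantSheaf Z.smallEtaleTopology AddCommGrpCat.{u + 1}).obj M) ≫
        (EtCore.pullConstIso (f ≫ h)).hom.app M =
      (EtCoh.pull f).map ((EtCore.pullConstIso h).hom.app M) ≫ (EtCore.pullConstIso f).hom.app M := by
  have e := pullConstIso_comp_inv f h M
  -- both sides are inverse to the two sides of `e`
  have hL : ((EtCore.pullConstIso (f ≫ h)).inv.app M ≫
      (EtCore.pullComp f h).hom.app ((constantSheaf Z.smallEtaleTopology AddCommGrpCat.{u + 1}).obj M)) ≫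
      ((EtCore.pullComp f h).inv.app ((constantSheaf Z.smallEtaleTopology AddCommGrpCat.{u + 1}).obj M) ≫
        (EtCore.pullConstIso (f ≫ h)).hom.app M) = 𝟙 _ := by
    rw [Category.assoc, ← Category.assoc ((EtCore.pullComp f h).hom.app _), Iso.hom_inv_id_app,
      Category.id_comp, Iso.inv_hom_id_app]
  have hR : ((EtCore.pullConstIso f).inv.app M ≫ (EtCoh.pull f).map ((EtCore.pullConstIso h).inv.app M)) ≫
      ((EtCoh.pull f).map ((EtCore.pullConstIso h).hom.app M) ≫ (EtCore.pullConstIso f).hom.app M) = 𝟙 _ := by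
    rw [Category.assoc, ← Category.assoc ((EtCoh.pull f).map _), ← Functor.map_comp, Iso.inv_hom_id_app,
      CategoryTheory.Functor.map_id, Category.id_comp, Iso.inv_hom_id_app]
  rw [e] at hL
  have hmono : Mono ((EtCore.pullConstIso f).inv.app M ≫
      (EtCoh.pull f).map ((EtCore.pullConstIso h).inv.app M)) := inferInstance
  exact (cancel_epi ((EtCore.pullConstIso f).inv.app M ≫
      (EtCoh.pull f).map ((EtCore.pullConstIso h).inv.app M))).1 (hL.trans hR.symm)

/-- `pullConstIso` and transport along an equality of morphisms -/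
theorem pullConstIso_congr {f f' : X ⟶ Y} (w : f = f') (M : AddCommGrpCat.{u + 1}) :
    (EtCore.pullConstIso f).inv.app M ≫
        (EtCore.pullCongr w).hom.app ((constantSheaf Y.smallEtaleTopology AddCommGrpCat.{u + 1}).obj M) =
      (EtCore.pullConstIso f').inv.app M := by
  subst w
  simp [EtCore.pullCongr]

end Groth.Agent.Lib.Seat20.PullConstComp
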