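import Groth.Prelude.Def_FinFr
import Groth.Agent.Lib.Seat20FrobCoh
import Groth.Agent.Lib.Seat20AbsFrob
import Groth.Agent.Lib.Seat20ExtNat2
import Groth.Agent.Lib.Seat20PullConstComp

set_option autoImplicit false
universe u

namespace Groth.Agent.Lib.Seat20.FrobPull

open CategoryTheory CategoryTheory.Limits AlgebraicGeometry Opposite Abelian

section M1

variable {X : Scheme.{u}} (g Fr : X ⟶ X) (FrN : 𝟭 X.Etale ⟶ EtCoh.bc Fr)

/-- the natural transformation `g⁻¹ ⟶ (g ≫ Fr)⁻¹` deduced from a "Frobenius" structure on `Fr` -/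
noncomputable def T : EtCoh.pull g ⟶ EtCoh.pull (g ≫ Fr) where
  app A := (EtCoh.pull g).map ((FrobCoh.tauNat Fr FrN).app A) ≫ (EtCore.pullComp g Fr).inv.app A
  naturality := by
    intro A B φ
    have n1 := (FrobCoh.tauNat Fr FrN).naturality φ
    have n2 := (EtCore.pullComp g Fr).inv.naturality φ
    simp only [Functor.id_obj, Functor.id_map, Functor.comp_obj, Functor.comp_map] at n1 n2
    rw [Category.assoc, ← n2, ← Category.assoc, ← Category.assoc, ← Functor.map_comp, ← Functor.map_comp, n1]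

theorem T_app (A : EtCoh.Ab X) :
    (T g Fr FrN).app A =
      (EtCoh.pull g).map ((FrobCoh.tauNat Fr FrN).app A) ≫ (EtCore.pullComp g Fr).inv.app A := rfl

theorem T_app_const (M : Type) [AddCommGroup M] :
    (T g Fr FrN).app (EtCoh.const X M) ≫ (EtCore.pullConst (g ≫ Fr) M).hom = (EtCore.pullConst g M).hom := by
  have h1 := PullConstComp.pullConstIso_comp_hom g Fr (AddCommGrpCat.of (ULift.{u + 1} M))
  change (EtCore.pullComp g Fr).inv.app (EtCoh.const X M) ≫ (EtCore.pullConst (g ≫ Fr) M).hom =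
    (EtCoh.pull g).map (EtCore.pullConst Fr M).hom ≫ (EtCore.pullConst g M).hom at h1
  rw [T_app, Category.assoc, h1, FrobCoh.tauNat_app_const, ← Category.assoc, ← Functor.map_comp,
    Iso.inv_hom_id, CategoryTheory.Functor.map_id]
  exact Category.id_comp _

theorem pullConst_inv_comp_T (M : Type) [AddCommGroup M] :
    (EtCore.pullConst g M).inv ≫ (T g Fr FrN).app (EtCoh.const X M) = (EtCore.pullConst (g ≫ Fr) M).inv := by
  rw [Iso.inv_comp_eq, ← T_app_const g Fr FrN M, Category.assoc, Iso.hom_inv_id, Category.comp_id]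

include FrN in
/-- pulling back along `g ≫ Fr` is pulling back along `g`, on cohomology with constant coefficients -/
theorem endConstAdd_comp [Fact FinFr.PullExact.{u}] {Λ : Type} [CommRing Λ] (n : ℕ)
    (y : EtCoh.H X (EtCoh.const X Λ) n) :
    FinFr.endConstAdd (Λ := Λ) (g ≫ Fr) n y = FinFr.endConstAdd (Λ := Λ) g n y := by
  have := FinFr.pullExact_out g
  have := FinFr.pullExact_out (g ≫ Fr)
  change Sheaf.H.map (EtCore.pullConst (g ≫ Fr) Λ).hom n (EtCore.Hpull (g ≫ Fr) (EtCoh.const X Λ) n y) =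
    Sheaf.H.map (EtCore.pullConst g Λ).hom n (EtCore.Hpull g (EtCoh.const X Λ) n y)
  rw [Sheaf.H.map_apply, Sheaf.H.map_apply]
  change ((Ext.mk₀ (EtCore.pullConst (g ≫ Fr) ℤ).inv).comp (y.mapExactFunctor (EtCoh.pull (g ≫ Fr)))
      (zero_add n)).comp (Ext.mk₀ (EtCore.pullConst (g ≫ Fr) Λ).hom) (add_zero n) =
    ((Ext.mk₀ (EtCore.pullConst g ℤ).inv).comp (y.mapExactFunctor (EtCoh.pull g)) (zero_add n)).comp
      (Ext.mk₀ (EtCore.pullConst g Λ).hom) (add_zero n)
  have key := ExtNat2.mk₀_comp_mapExactFunctor (EtCoh.pull g) (EtCoh.pull (g ≫ Fr)) (T g Fr FrN) n y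
  rw [← pullConst_inv_comp_T g Fr FrN ℤ, ← Ext.mk₀_comp_mk₀,
    Ext.comp_assoc (Ext.mk₀ (EtCore.pullConst g ℤ).inv) (Ext.mk₀ ((T g Fr FrN).app (EtCoh.const X ℤ)))
      (y.mapExactFunctor (EtCoh.pull (g ≫ Fr))) (zero_add 0) (zero_add n) (by omega), key,
    ← Ext.comp_assoc (Ext.mk₀ (EtCore.pullConst g ℤ).inv) (y.mapExactFunctor (EtCoh.pull g))
      (Ext.mk₀ ((T g Fr FrN).app (EtCoh.const X Λ))) (zero_add n) (add_zero n) (by omega),
    Ext.comp_assoc_of_third_deg_zero, Ext.mk₀_comp_mk₀, T_app_const]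

end M1

section M2

variable {X X₀ : Scheme.{u}} (g : X ⟶ X) (π : X ⟶ X₀) (w : g ≫ π = π)

theorem pullConst_via (M : Type) [AddCommGroup M] :
    (EtCoh.pull g).map (EtCore.pullConst π M).inv ≫
        (((EtCore.pullComp g π).symm ≪≫ EtCore.pullCongr w).app (EtCoh.const X₀ M)).hom =
      (EtCore.pullConst g M).hom ≫ (EtCore.pullConst π M).inv := by
  have h1 := PullConstComp.pullConstIso_comp_inv g π (AddCommGrpCat.of (ULift.{u + 1} M))
  have h2 := PullConstComp.pullConstIso_congr w (AddCommGrpCat.of (ULift.{u + 1} M))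
  change (EtCore.pullConst (g ≫ π) M).inv ≫ (EtCore.pullComp g π).hom.app (EtCoh.const X₀ M) =
    (EtCore.pullConst g M).inv ≫ (EtCoh.pull g).map (EtCore.pullConst π M).inv at h1
  change (EtCore.pullConst (g ≫ π) M).inv ≫ (EtCore.pullCongr w).hom.app (EtCoh.const X₀ M) =
    (EtCore.pullConst π M).inv at h2
  change (EtCoh.pull g).map (EtCore.pullConst π M).inv ≫
    ((EtCore.pullComp g π).inv.app (EtCoh.const X₀ M) ≫ (EtCore.pullCongr w).hom.app (EtCoh.const X₀ M)) = _
  have h3 : (EtCoh.pull g).map (EtCore.pullConst π M).inv =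
      (EtCore.pullConst g M).hom ≫ (EtCore.pullConst (g ≫ π) M).inv ≫
        (EtCore.pullComp g π).hom.app (EtCoh.const X₀ M) := by
    rw [h1, Iso.hom_inv_id_assoc]
  rw [h3, Category.assoc, Category.assoc, Iso.hom_inv_id_app_assoc, h2]

theorem HpullVia_const [PreservesFiniteLimits (EtCoh.pull g)] (M : Type) [AddCommGroup M] (n : ℕ)
    (x : EtCoh.H X ((EtCoh.pull π).obj (EtCoh.const X₀ M)) n) :
    EtCore.HpullVia g π π w (EtCoh.const X₀ M) n x =
      Sheaf.H.map (EtCore.pullConst π M).inv n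
        (Sheaf.H.map (EtCore.pullConst g M).hom n
          (EtCore.Hpull g (EtCoh.const X M) n (Sheaf.H.map (EtCore.pullConst π M).hom n x))) := by
  have hx : x = Sheaf.H.map (EtCore.pullConst π M).inv n (Sheaf.H.map (EtCore.pullConst π M).hom n x) := by
    rw [← Sheaf.H.map_comp_apply, Iso.hom_inv_id, Sheaf.H.map_id_apply]
  change Sheaf.H.map (((EtCore.pullComp g π).symm ≪≫ EtCore.pullCongr w).app (EtCoh.const X₀ M)).hom n
    (EtCore.Hpull g ((EtCoh.pull π).obj (EtCoh.const X₀ M)) n x) = _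
  conv_lhs => rw [hx]
  rw [EtCore.Hpull_natural, ← Sheaf.H.map_comp_apply, ← Sheaf.H.map_comp_apply, pullConst_via]

end M2

section FrN

variable {k : Type u} [Field k] [Fintype k] {X : Scheme.{u}} (s : X ⟶ Spec (CommRingCat.of k))

/-- the relative Frobenius of étale `X`-schemes, as a natural transformation -/
noncomputable def frobN : 𝟭 X.Etale ⟶ EtCoh.bc (AbsFrob.frobK s) where
  app U := MorphismProperty.Over.homMk
    (pullback.lift (AbsFrob.frobK (U.hom ≫ s)) U.hom (AbsFrob.frobK_natural (U.hom ≫ s) s U.hom))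
    (pullback.lift_snd _ _ _)
  naturality := by
    intro U V f
    apply MorphismProperty.Over.Hom.ext
    exact FrobNat.lift_comp_lift U.hom V.hom f.left (Over.w f.hom) (AbsFrob.frobK (U.hom ≫ s))
      (AbsFrob.frobK (V.hom ≫ s)) (AbsFrob.frobK_natural (U.hom ≫ s) s U.hom)
      (AbsFrob.frobK_natural (V.hom ≫ s) s V.hom)
      (AbsFrob.frobK_natural (U.hom ≫ s) (V.hom ≫ s) f.left) _

end FrN

section Decomp

variable {k K : Type u} [Field k] [Fintype k] [Field K] [Algebra k K] [Algebra.IsAlgebraic k K]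
  {R : Type u} [CommRing R] [Algebra k R] (φ : R →+* R) (hφ : ∀ r : R, φ r = r ^ Fintype.card k)
  (hw : Spec.map (CommRingCat.ofHom φ) ≫ Spec.map (CommRingCat.ofHom (algebraMap k R)) =
      Spec.map (CommRingCat.ofHom (algebraMap k R)))

theorem frobK_specK :
    AbsFrob.frobK (FinFr.specι k K) =
      Spec.map (CommRingCat.ofHom ((FinFr.arith k K : K ≃ₐ[k] K) : K →+* K)) :=
  AbsFrob.frobK_spec (CommRingCat.of K) (FinFr.specι k K) _ (fun _ => rfl)

theorem spec_symm_comp_frobK :
    Spec.map (CommRingCat.ofHom (((FinFr.arith k K).symm : K ≃ₐ[k] K) : K →+* K)) ≫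
      AbsFrob.frobK (FinFr.specι k K) = 𝟙 _ := by
  rw [frobK_specK, ← Spec.map_comp, ← Spec.map_id]
  congr 1
  ext x
  exact (FinFr.arith k K).symm_apply_apply x

include hφ in
theorem extHom_eq :
    FinFr.extHom K (Spec.map (CommRingCat.ofHom (algebraMap k R))) (Spec.map (CommRingCat.ofHom φ)) hw =
      FinFr.galAct (Spec.map (CommRingCat.ofHom (algebraMap k R))) (FinFr.arith k K).symm ≫
        AbsFrob.frobK (FinFr.extπ K (Spec.map (CommRingCat.ofHom (algebraMap k R))) ≫
          Spec.map (CommRingCat.ofHom (algebraMap k R))) := by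
  apply pullback.hom_ext
  · rw [FinFr.extHom_fst, Category.assoc,
      AbsFrob.frobK_natural _ (Spec.map (CommRingCat.ofHom (algebraMap k R)))
        (pullback.fst (Spec.map (CommRingCat.ofHom (algebraMap k R))) (FinFr.specι k K)),
      ← Category.assoc, FinFr.galAct_fst,
      AbsFrob.frobK_spec (CommRingCat.of R) (Spec.map (CommRingCat.ofHom (algebraMap k R)))
        (CommRingCat.ofHom φ) hφ]
  · have h1 : FinFr.extHom K (Spec.map (CommRingCat.ofHom (algebraMap k R))) (Spec.map (CommRingCat.ofHom φ)) hw ≫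
        pullback.snd (Spec.map (CommRingCat.ofHom (algebraMap k R))) (FinFr.specι k K) =
        pullback.snd (Spec.map (CommRingCat.ofHom (algebraMap k R))) (FinFr.specι k K) := by
      unfold FinFr.extHom pullback.map
      rw [pullback.lift_snd, Category.comp_id]
    rw [h1, Category.assoc,
      AbsFrob.frobK_natural _ (FinFr.specι k K)
        (pullback.snd (Spec.map (CommRingCat.ofHom (algebraMap k R))) (FinFr.specι k K)),
      ← Category.assoc, FinFr.galAct_snd, Category.assoc, spec_symm_comp_frobK, Category.comp_id]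

include hφ in
theorem main (Λ : Type) [CommRing Λ] [Fact FinFr.PullExact.{u}] (n : ℕ)
    (x : EtCoh.H (FinFr.ext K (Spec.map (CommRingCat.ofHom (algebraMap k R))))
      (EtLam.pullback (FinFr.extπ K (Spec.map (CommRingCat.ofHom (algebraMap k R))))
        (FinFr.constLam Λ (Spec (CommRingCat.of R)))).carrier n) :
    FinFr.frob (K := K) (Spec.map (CommRingCat.ofHom (algebraMap k R)))
        (FinFr.constLam Λ (Spec (CommRingCat.of R))) n x =
      Sheaf.H.map (EtCore.pullConst (FinFr.extπ K (Spec.map (CommRingCat.ofHom (algebraMap k R)))) Λ).inv n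
        (FinFr.endConstAdd (Λ := Λ)
          (FinFr.extHom K (Spec.map (CommRingCat.ofHom (algebraMap k R))) (Spec.map (CommRingCat.ofHom φ)) hw) n
          (Sheaf.H.map (EtCore.pullConst (FinFr.extπ K (Spec.map (CommRingCat.ofHom (algebraMap k R)))) Λ).hom n
            x)) := by
  have := FinFr.pullExact_out
    (FinFr.galAct (Spec.map (CommRingCat.ofHom (algebraMap k R))) (FinFr.arith k K).symm)
  rw [extHom_eq φ hφ hw, endConstAdd_comp _ _ (frobN _)]
  exact HpullVia_const _ _ (FinFr.galAct_fst _ _) Λ n x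

end Decomp

end Groth.Agent.Lib.Seat20.FrobPull
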