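/-
Seat 21 helper library: quasi-affine morphisms of finite type, local criteria (towards EGA II 5.1.9).
-/
import Mathlib
import Groth.Prelude.Def_Mor2

set_option autoImplicit false
set_option linter.style.haveILetI false
universe u
open CategoryTheory Limits AlgebraicGeometry TopologicalSpace Opposite

namespace Groth.Agent.Lib.Seat21.QAff


/-- pure algebra: localization through an injective map -/
theorem away_of_injective {R₀ B A A' : Type*} [CommRing R₀] [CommRing B] [CommRing A] [CommRing A']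
    (σ : R₀ →+* B) (ω : B →+* A) (ρ : A →+* A') (hω : Function.Injective ω) (g : B)
    (hloc : letI := ρ.toAlgebra; IsLocalization.Away (ω g) A')
    (zs : Set A') (hzs : Subring.closure (Set.range (ρ.comp (ω.comp σ)) ∪ zs) = ⊤)
    (hz : ∀ z ∈ zs, ∃ (b : B) (n : ℕ), ρ (ω b) = ρ (ω g) ^ n * z) :
    letI := (ρ.comp ω).toAlgebra; IsLocalization.Away g A' := by
  letI := ρ.toAlgebra
  letI algB := (ρ.comp ω).toAlgebra
  have hunit : IsUnit (ρ (ω g)) := IsLocalization.Away.algebraMap_isUnit (S := A') (ω g)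
  refine IsLocalization.Away.mk g hunit ?_ ?_
  · -- surjectivity
    intro s
    have hs : s ∈ Subring.closure (Set.range (ρ.comp (ω.comp σ)) ∪ zs) := hzs ▸ Subring.mem_top s
    change ∃ (n : ℕ) (a : B), s * (ρ (ω g)) ^ n = ρ (ω a)
    induction hs using Subring.closure_induction with
    | mem x hx =>
      rcases hx with ⟨r, rfl⟩ | hx
      · exact ⟨0, σ r, by simp⟩
      · obtain ⟨b, n, hb⟩ := hz x hx
        exact ⟨n, b, by rw [hb, mul_comm]⟩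
    | zero => exact ⟨0, 0, by simp⟩
    | one => exact ⟨0, 1, by simp⟩
    | add x y _ _ hx hy =>
      obtain ⟨n, a, ha⟩ := hx
      obtain ⟨m, b, hb⟩ := hy
      refine ⟨n + m, a * g ^ m + b * g ^ n, ?_⟩
      simp only [map_add, map_mul, map_pow, ← ha, ← hb]
      ring
    | neg x _ hx =>
      obtain ⟨n, a, ha⟩ := hx
      exact ⟨n, -a, by simp only [map_neg, ← ha]; ring⟩
    | mul x y _ _ hx hy =>
      obtain ⟨n, a, ha⟩ := hx
      obtain ⟨m, b, hb⟩ := hy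
      refine ⟨n + m, a * b, ?_⟩
      simp only [map_mul, ← ha, ← hb]
      ring
  · intro a b hab
    change ρ (ω a) = ρ (ω b) at hab
    obtain ⟨⟨_, n, rfl⟩, hn⟩ := (IsLocalization.eq_iff_exists (Submonoid.powers (ω g)) A').1 hab
    refine ⟨n, hω ?_⟩
    simpa using hn



theorem isOpenImmersion_toSpecΓ_comp {Z : Scheme.{u}} {R : CommRingCat.{u}} (ψ : R ⟶ Γ(Z, ⊤))
    (H : ∀ x : Z, ∃ g : R, x ∈ Z.basicOpen (ψ.hom g) ∧ IsAffineOpen (Z.basicOpen (ψ.hom g)) ∧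
      (letI := (ψ ≫ Z.presheaf.map (homOfLE (le_top : Z.basicOpen (ψ.hom g) ≤ ⊤)).op).hom.toAlgebra
       IsLocalization.Away g Γ(Z, Z.basicOpen (ψ.hom g)))) :
    IsOpenImmersion (Z.toSpecΓ ≫ Spec.map ψ) := by
  refine IsZariskiLocalAtTarget.of_forall_source_exists_preimage _ fun x ↦ ?_
  obtain ⟨g, hxg, haff, hloc⟩ := H x
  have hpre : (Z.toSpecΓ ≫ Spec.map ψ) ⁻¹ᵁ PrimeSpectrum.basicOpen g = Z.basicOpen (ψ.hom g) :=
    Z.toSpecΓ_preimage_basicOpen (ψ.hom g)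
  refine ⟨PrimeSpectrum.basicOpen g, hpre.ge hxg, ?_⟩
  have key : ∀ W : Z.Opens, W = Z.basicOpen (ψ.hom g) → IsOpenImmersion (W.ι ≫ Z.toSpecΓ ≫ Spec.map ψ) := by
    intro W hW
    subst hW
    rw [← Scheme.Opens.toSpecΓ_SpecMap_presheaf_map_top_assoc, ← Spec.map_comp]
    let _ := (ψ ≫ Z.presheaf.map (homOfLE (le_top : Z.basicOpen (ψ.hom g) ≤ ⊤)).op).hom.toAlgebra
    have h1 : IsOpenImmersion (Spec.map (ψ ≫ Z.presheaf.map (homOfLE (le_top : Z.basicOpen (ψ.hom g) ≤ ⊤)).op)) :=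
      IsOpenImmersion.of_isLocalization (R := R) (S := Γ(Z, Z.basicOpen (ψ.hom g))) g
    have h2 : IsOpenImmersion (Z.basicOpen (ψ.hom g)).toSpecΓ := by
      rw [← haff.isoSpec_hom]
      infer_instance
    infer_instance
  exact key _ hpre

theorem topIso_inv_map_le_top {X : Scheme.{u}} (W : X.Opens) (V : W.toScheme.Opens) (hle : W.ι ''ᵁ V ≤ W) :
    W.topIso.inv ≫ W.toScheme.presheaf.map (homOfLE (le_top : V ≤ ⊤)).op =
      (X.presheaf.map (homOfLE hle).op : Γ(X, W) ⟶ Γ(X, W.ι ''ᵁ V)) := by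
  rw [Scheme.Opens.topIso_inv, Scheme.Opens.toScheme_presheaf_map]
  exact (X.presheaf.map_comp _ _).symm

/-- version for an open subscheme -/
theorem isOpenImmersion_opens_toSpecΓ_comp {X : Scheme.{u}} (W : X.Opens) {R : CommRingCat.{u}}
    (ψ : R ⟶ Γ(X, W))
    (H : ∀ x ∈ W, ∃ (g : R) (hle : X.basicOpen (ψ.hom g) ≤ W), x ∈ X.basicOpen (ψ.hom g) ∧
      IsAffineOpen (X.basicOpen (ψ.hom g)) ∧
      (letI := (ψ ≫ X.presheaf.map (homOfLE hle).op).hom.toAlgebra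
       IsLocalization.Away g Γ(X, X.basicOpen (ψ.hom g)))) :
    IsOpenImmersion (W.toSpecΓ ≫ Spec.map ψ) := by
  have h0 : W.toSpecΓ ≫ Spec.map ψ = W.toScheme.toSpecΓ ≫ Spec.map (ψ ≫ W.topIso.inv) := by
    rw [Spec.map_comp]; rfl
  rw [h0]
  refine isOpenImmersion_toSpecΓ_comp (Z := W.toScheme) (ψ ≫ W.topIso.inv) ?_
  intro x
  obtain ⟨g, hle, hxg, haff, hloc⟩ := H x.1 x.2
  have himg : W.ι ''ᵁ W.toScheme.basicOpen ((ψ ≫ W.topIso.inv).hom g) = X.basicOpen (ψ.hom g) :=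
    Scheme.Opens.ι_image_basicOpen_topIso_inv W (ψ.hom g)
  refine ⟨g, ?_, ?_, ?_⟩
  · have : (W.ι x) ∈ W.ι ''ᵁ W.toScheme.basicOpen ((ψ ≫ W.topIso.inv).hom g) := by
      rw [himg]; exact hxg
    obtain ⟨y, hy, hyx⟩ := this
    have : y = x := W.ι.isOpenEmbedding.injective hyx
    exact this ▸ hy
  · rw [← Scheme.Hom.isAffineOpen_iff_of_isOpenImmersion W.ι, himg]
    exact haff
  · -- transport of the localization
    have key : ∀ (D : X.Opens) (hD : D = X.basicOpen (ψ.hom g)) (hDle : D ≤ W),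
        (letI := (ψ ≫ X.presheaf.map (homOfLE hDle).op).hom.toAlgebra
         IsLocalization.Away g Γ(X, D)) := by
      intro D hD hDle
      subst hD
      exact hloc
    have hle' : W.ι ''ᵁ W.toScheme.basicOpen ((ψ ≫ W.topIso.inv).hom g) ≤ W := himg ▸ hle
    have h1 := key _ himg hle'
    have h2 : (ψ ≫ W.topIso.inv) ≫ W.toScheme.presheaf.map
        (homOfLE (le_top : W.toScheme.basicOpen ((ψ ≫ W.topIso.inv).hom g) ≤ ⊤)).op =
        ψ ≫ (X.presheaf.map (homOfLE hle').op : Γ(X, W) ⟶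
          Γ(X, W.ι ''ᵁ W.toScheme.basicOpen ((ψ ≫ W.topIso.inv).hom g))) := by
      rw [Category.assoc, topIso_inv_map_le_top W _ hle']
      rfl
    rw [h2]
    exact h1



variable {X Y : Scheme.{u}}

/-- restriction from `f⁻¹U` to a basic open -/
abbrev resD (f : X ⟶ Y) (U : Y.Opens) (g : Γ(X, f ⁻¹ᵁ U)) : Γ(X, f ⁻¹ᵁ U) →+* Γ(X, X.basicOpen g) :=
  (X.presheaf.map (homOfLE (X.basicOpen_le g)).op).hom

/-- generating data over an affine open `U` of the base -/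
def Good (f : X ⟶ Y) (U : Y.Opens) (T : Set Γ(X, f ⁻¹ᵁ U)) : Prop :=
  ∀ x ∈ f ⁻¹ᵁ U, ∃ g ∈ T, x ∈ X.basicOpen g ∧ IsAffineOpen (X.basicOpen g) ∧
    ∃ zs : Set Γ(X, X.basicOpen g),
      Subring.closure (Set.range ((resD f U g).comp (f.app U).hom) ∪ zs) = ⊤ ∧
      ∀ z ∈ zs, ∃ h ∈ T, ∃ n : ℕ, resD f U g h = resD f U g g ^ n * z

theorem Good.mono {f : X ⟶ Y} {U : Y.Opens} {T T' : Set Γ(X, f ⁻¹ᵁ U)} (h : Good f U T) (hT : T ⊆ T') :
    Good f U T' := by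
  intro x hx
  obtain ⟨g, hg, hxg, haff, zs, hzs, hz⟩ := h x hx
  refine ⟨g, hT hg, hxg, haff, zs, hzs, fun z hz' => ?_⟩
  obtain ⟨h', hh', n, hn⟩ := hz z hz'
  exact ⟨h', hT hh', n, hn⟩

theorem exists_good (f : X ⟶ Y) (hf : Mor2.IsQuasiAffine f) [LocallyOfFiniteType f] (U : Y.Opens)
    (hU : IsAffineOpen U) : ∃ T : Set Γ(X, f ⁻¹ᵁ U), T.Finite ∧ Good f U T := by
  classical
  haveI := hf.1
  have hWc : IsCompact ((f ⁻¹ᵁ U) : Set X) := f.isCompact_preimage hU.isCompact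
  haveI hqa : Scheme.IsQuasiAffine (f ⁻¹ᵁ U).toScheme := hf.2 U hU
  have hWqs : IsQuasiSeparated ((f ⁻¹ᵁ U) : Set X) :=
    (isQuasiSeparated_iff_quasiSeparatedSpace _ (f ⁻¹ᵁ U).2).mpr
      (inferInstance : QuasiSeparatedSpace (f ⁻¹ᵁ U).toScheme)
  -- affine basic opens cover `(f ⁻¹ᵁ U)`
  have hcov : ∀ x : (f ⁻¹ᵁ U), ∃ g : Γ(X, (f ⁻¹ᵁ U)), (x : X) ∈ X.basicOpen g ∧ IsAffineOpen (X.basicOpen g) := by
    intro x
    obtain ⟨_, ⟨_, ⟨r, hr, rfl⟩, rfl⟩, hxr, -⟩ :=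
      (Scheme.IsQuasiAffine.isBasis_basicOpen (f ⁻¹ᵁ U).toScheme).exists_subset_of_mem_open
        (Set.mem_univ x) isOpen_univ
    refine ⟨(f ⁻¹ᵁ U).topIso.hom.hom r, ?_, ?_⟩
    · have h1 := Scheme.Opens.ι_image_basicOpen_topIso_inv (f ⁻¹ᵁ U) ((f ⁻¹ᵁ U).topIso.hom.hom r)
      rw [← h1]
      refine ⟨x, ?_, rfl⟩
      have : (f ⁻¹ᵁ U).topIso.inv.hom ((f ⁻¹ᵁ U).topIso.hom.hom r) = r := by
        rw [← CommRingCat.comp_apply, Iso.hom_inv_id]; rfl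
      rw [this]; exact hxr
    · have h1 := Scheme.Opens.ι_image_basicOpen_topIso_inv (f ⁻¹ᵁ U) ((f ⁻¹ᵁ U).topIso.hom.hom r)
      rw [← h1, Scheme.Hom.isAffineOpen_iff_of_isOpenImmersion (f ⁻¹ᵁ U).ι]
      have : (f ⁻¹ᵁ U).topIso.inv.hom ((f ⁻¹ᵁ U).topIso.hom.hom r) = r := by
        rw [← CommRingCat.comp_apply, Iso.hom_inv_id]; rfl
      rw [this]; exact hr
  choose g hxg hgaff using hcov
  obtain ⟨t, ht⟩ := hWc.elim_finite_subcover (fun x : (f ⁻¹ᵁ U) => ((X.basicOpen (g x) : X.Opens) : Set X))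
    (fun x => (X.basicOpen (g x)).isOpen) (fun x hx => Set.mem_iUnion.2 ⟨⟨x, hx⟩, hxg ⟨x, hx⟩⟩)
  -- finite type
  have hft : ∀ x : (f ⁻¹ᵁ U), ∃ zs : Finset Γ(X, X.basicOpen (g x)),
      Subring.closure (Set.range ((resD f U (g x)).comp (f.app U).hom) ∪ (zs : Set _)) = ⊤ := by
    intro x
    have h1 : (f.appLE U (X.basicOpen (g x)) (X.basicOpen_le (g x))).hom.FiniteType :=
      HasRingHomProperty.appLE (P := @LocallyOfFiniteType) f inferInstance ⟨U, hU⟩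
        ⟨X.basicOpen (g x), hgaff x⟩ (X.basicOpen_le (g x))
    letI := (f.appLE U (X.basicOpen (g x)) (X.basicOpen_le (g x))).hom.toAlgebra
    obtain ⟨zs, hzs⟩ := h1.out
    refine ⟨zs, ?_⟩
    have h2 := Algebra.adjoin_eq_ring_closure (R := Γ(Y, U)) (A := Γ(X, X.basicOpen (g x)))
      (zs : Set Γ(X, X.basicOpen (g x)))
    rw [hzs] at h2
    have h3 : (algebraMap Γ(Y, U) Γ(X, X.basicOpen (g x))) = (resD f U (g x)).comp (f.app U).hom := by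
      rw [RingHom.algebraMap_toAlgebra, Scheme.Hom.appLE]
      rfl
    rw [← h3]
    exact h2.symm
  choose zs hzs using hft
  have hlift : ∀ (x : (f ⁻¹ᵁ U)) (z : Γ(X, X.basicOpen (g x))), ∃ (h : Γ(X, (f ⁻¹ᵁ U))) (n : ℕ),
      resD f U (g x) h = resD f U (g x) (g x) ^ n * z := by
    intro x z
    obtain ⟨n, y, hy⟩ := exists_eq_pow_mul_of_isCompact_of_isQuasiSeparated X (f ⁻¹ᵁ U) hWc hWqs (g x) z
    exact ⟨y, n, hy⟩
  choose h n hn using hlift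
  refine ⟨(t.image g : Set Γ(X, (f ⁻¹ᵁ U))) ∪ ⋃ x ∈ t, ⋃ z ∈ zs x, {h x z}, ?_, ?_⟩
  · refine (Finset.finite_toSet _).union ?_
    refine Set.Finite.biUnion (Finset.finite_toSet t) fun x _ => ?_
    exact Set.Finite.biUnion (Finset.finite_toSet (zs x)) fun z _ => Set.finite_singleton _
  · intro x hx
    obtain ⟨y, hy, hxy⟩ := Set.mem_iUnion₂.1 (ht hx)
    have hgy : g y ∈ (t.image g : Set Γ(X, (f ⁻¹ᵁ U))) ∪ ⋃ x ∈ t, ⋃ z ∈ zs x, {h x z} :=
      Or.inl (Finset.mem_coe.2 (Finset.mem_image_of_mem g hy))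
    refine ⟨g y, hgy, hxy, hgaff y, ?_⟩
    refine ⟨((zs y : Finset Γ(X, X.basicOpen (g y))) : Set Γ(X, X.basicOpen (g y))), hzs y, ?_⟩
    intro z hz
    have hmem : h y z ∈ (t.image g : Set Γ(X, (f ⁻¹ᵁ U))) ∪ ⋃ x ∈ t, ⋃ z ∈ zs x, {h x z} :=
      Or.inr (Set.mem_iUnion₂.2 ⟨y, hy, Set.mem_iUnion₂.2 ⟨z, hz, rfl⟩⟩)
    exact ⟨h y z, hmem, n y z, hn y z⟩

end Groth.Agent.Lib.Seat21.QAff
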