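import Mathlib
import Groth.Agent.Lib.Seat21SubShQC

/-!
# Presheaves of submodules and their sheafification (seat 21)

* `PreSub H`: a family of submodules of the modules of sections of `H`, stable under restriction.
* `PreSub.sh`: the subsheaf of the sections which are locally in the family.
* `PreSub.ExtOn P T`: sections of `P` over basic opens of `T` extend to `T` after multiplication by a power.
* `PreSub.sh_carrier_eq_of_affine`: if `H` is quasi-coherent and `P` is `ExtOn` the affine open `T`, then `P.sh` and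
  `P` have the same sections over `T`; `PreSub.qcOn_sh`, `PreSub.ftOn_sh`.
* `SubSh.iSup`: the sum of a family of subsheaves; it is quasi-coherent (and of finite type, for a finite family) on
  an open if all the members are.
-/

set_option autoImplicit false
universe u
open CategoryTheory Limits AlgebraicGeometry TopologicalSpace Opposite

noncomputable section

namespace Groth.Agent.Lib.Seat21.QSub

open Groth.Agent.Lib.Helper2.Push Groth.Agent.Lib.Helper23.QCohLocal

variable {X : Scheme.{u}}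

/-- a family of submodules of the modules of sections, stable under restriction -/
structure PreSub (H : X.Modules) where
  /-- the submodule over an open -/
  carrier : ∀ V : X.Opens, Submodule Γ(X, V) Γ(H, V)
  res_mem : ∀ {V V' : X.Opens} (h : V' ≤ V) {s : Γ(H, V)}, s ∈ carrier V → res H h s ∈ carrier V'

namespace PreSub

variable {H : X.Modules} (P : PreSub H)

/-- the subsheaf of the sections which are locally in `P` -/
def sh : SubSh H where
  carrier T :=
    { carrier := {s | ∀ x ∈ T, ∃ (T' : X.Opens) (h : T' ≤ T), x ∈ T' ∧ res H h s ∈ P.carrier T'}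
      add_mem' := fun {a b} ha hb => by
        intro x hxT
        obtain ⟨Ta, ha1, hxa, hma⟩ := ha x hxT
        obtain ⟨Tb, hb1, hxb, hmb⟩ := hb x hxT
        refine ⟨Ta ⊓ Tb, inf_le_left.trans ha1, ⟨hxa, hxb⟩, ?_⟩
        rw [res_add]
        refine Submodule.add_mem _ ?_ ?_
        · have := P.res_mem (inf_le_left : Ta ⊓ Tb ≤ Ta) hma
          rwa [res_res] at this
        · have := P.res_mem (inf_le_right : Ta ⊓ Tb ≤ Tb) hmb
          rwa [res_res] at this
      zero_mem' := by
        intro x hxT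
        refine ⟨T, le_rfl, hxT, ?_⟩
        rw [res_zero]
        exact Submodule.zero_mem _
      smul_mem' := fun r a ha => by
        intro x hxT
        obtain ⟨Ta, ha1, hxa, hma⟩ := ha x hxT
        refine ⟨Ta, ha1, hxa, ?_⟩
        rw [res_smul]
        exact Submodule.smul_mem _ _ hma }
  res_mem {T T₂} h s hs := by
    intro x hxT
    obtain ⟨T', h1, hx, hm⟩ := hs x (h hxT)
    refine ⟨T' ⊓ T₂, inf_le_right, ⟨hx, hxT⟩, ?_⟩
    have := P.res_mem (inf_le_left : T' ⊓ T₂ ≤ T') hm
    rw [res_res] at this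
    rw [res_res]
    exact this
  local_mem T s hs := by
    intro x hxT
    obtain ⟨T₁, h, hx₁, hm⟩ := hs x hxT
    obtain ⟨T', h1, hx, hm'⟩ := hm x hx₁
    refine ⟨T', h1.trans h, hx, ?_⟩
    rw [res_res] at hm'
    exact hm'

theorem mem_sh_iff (T : X.Opens) (s : Γ(H, T)) :
    s ∈ P.sh.carrier T ↔ ∀ x ∈ T, ∃ (T' : X.Opens) (h : T' ≤ T), x ∈ T' ∧ res H h s ∈ P.carrier T' := Iff.rfl

theorem le_sh (T : X.Opens) : P.carrier T ≤ P.sh.carrier T := by
  intro s hs x hxT
  refine ⟨T, le_rfl, hxT, ?_⟩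
  rw [res_self]
  exact hs

/-- sections of `P` over basic opens of `T` extend to `T` after multiplication by a power of the function -/
def ExtOn (T : X.Opens) : Prop :=
  ∀ (g : Γ(X, T)) (s : Γ(H, X.basicOpen g)), s ∈ P.carrier (X.basicOpen g) →
    ∃ (n : ℕ) (t : Γ(H, T)), t ∈ P.carrier T ∧
      res H (X.basicOpen_le g) t = (resf X (X.basicOpen_le g) g) ^ n • s

variable {P}

theorem ExtOn.exists_pow_smul_mem {T : X.Opens} (hP : P.ExtOn T) (hH : IsLocOn H T) (g : Γ(X, T))
    (t₀ : Γ(H, T)) (h : res H (X.basicOpen_le g) t₀ ∈ P.carrier (X.basicOpen g)) :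
    ∃ m : ℕ, g ^ m • t₀ ∈ P.carrier T := by
  obtain ⟨n, t, htN, ht⟩ := hP g _ h
  have h0 : res H (X.basicOpen_le g) (t - g ^ n • t₀) = 0 := by
    rw [res_sub, res_smul, ht, resf_pow, sub_self]
  obtain ⟨m, hm⟩ := isLocOn_unique hH g _ rfl (X.basicOpen_le g) _ h0
  refine ⟨m + n, ?_⟩
  rw [smul_sub, sub_eq_zero, smul_smul, ← pow_add] at hm
  rw [← hm]
  exact (P.carrier T).smul_mem _ htN

/-- over an affine open on which `P` has the extension property, the sections of the sheafification are those of `P` -/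
theorem sh_carrier_eq_of_affine [H.IsQuasicoherent] {T : X.Opens} (hT : IsAffineOpen T) (hP : P.ExtOn T) :
    P.sh.carrier T = P.carrier T := by
  refine le_antisymm ?_ (P.le_sh T)
  intro s hs
  have hH : IsLocOn H T := IsLocOn.of_isQuasicoherent hT H
  have hx : ∀ x : X, ∀ hxT : x ∈ T, ∃ a : Γ(X, T), x ∈ X.basicOpen a ∧ ∃ n : ℕ, a ^ n • s ∈ P.carrier T := by
    intro x hxT
    obtain ⟨T', h1, hxT', hm⟩ := hs x hxT
    obtain ⟨a, ha1, ha2⟩ := hT.exists_basicOpen_le (V := T') ⟨x, hxT'⟩ hxT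
    refine ⟨a, ha2, hP.exists_pow_smul_mem hH a s ?_⟩
    have := P.res_mem ha1 hm
    rwa [res_res] at this
  refine Submodule.mem_of_span_eq_top_of_smul_pow_mem _
    {a : Γ(X, T) | ∃ n : ℕ, a ^ n • s ∈ P.carrier T} ?_ s (fun r => r.2)
  rw [← hT.self_le_iSup_basicOpen_iff]
  intro x hxT
  obtain ⟨a, ha, hn⟩ := hx x hxT
  exact Opens.mem_iSup.2 ⟨⟨a, hn⟩, ha⟩

theorem qcOn_sh [H.IsQuasicoherent] (W : X.Opens) (hP : ∀ T : X.Opens, IsAffineOpen T → T ≤ W → P.ExtOn T) :
    P.sh.QCOn W := by
  intro T hT hTW g s hs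
  rw [sh_carrier_eq_of_affine (hT.basicOpen g) (hP _ (hT.basicOpen g) ((X.basicOpen_le g).trans hTW))] at hs
  obtain ⟨n, y, hy, e⟩ := hP T hT hTW g s hs
  exact ⟨n, y, P.le_sh T hy, e⟩

theorem ftOn_sh [H.IsQuasicoherent] (W : X.Opens) (hP : ∀ T : X.Opens, IsAffineOpen T → T ≤ W → P.ExtOn T)
    (hfg : ∀ T : X.Opens, IsAffineOpen T → T ≤ W → (P.carrier T).FG) : P.sh.FTOn W := by
  intro T hT hTW
  rw [sh_carrier_eq_of_affine hT (hP T hT hTW)]
  exact hfg T hT hTW

end PreSub

namespace SubSh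

variable {H : X.Modules}

/-- a subsheaf as a presheaf of submodules -/
def toPreSub (N : SubSh H) : PreSub H where
  carrier := N.carrier
  res_mem := N.res_mem

/-- the presheaf sum of a family of subsheaves -/
def iSupPre {ι : Type*} (N : ι → SubSh H) : PreSub H where
  carrier T := ⨆ i, (N i).carrier T
  res_mem {V V'} h s hs := by
    induction hs using Submodule.iSup_induction' with
    | mem i x hx => exact Submodule.mem_iSup_of_mem i ((N i).res_mem h hx)
    | zero => rw [res_zero]; exact Submodule.zero_mem _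
    | add x y _ _ hx hy => rw [res_add]; exact Submodule.add_mem _ hx hy

theorem extOn_iSupPre {ι : Type*} (N : ι → SubSh H) {T : X.Opens} (hN : ∀ i, (N i).ExtOn T) :
    (iSupPre N).ExtOn T := by
  intro g s hs
  change s ∈ ⨆ i, (N i).carrier (X.basicOpen g) at hs
  induction hs using Submodule.iSup_induction' with
  | mem i x hx =>
    obtain ⟨n, t, ht, e⟩ := hN i g x hx
    exact ⟨n, t, Submodule.mem_iSup_of_mem i ht, e⟩
  | zero => exact ⟨0, 0, Submodule.zero_mem _, by rw [res_zero, smul_zero]⟩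
  | add x y _ _ hx hy =>
    obtain ⟨n1, y1, hy1, e1⟩ := hx
    obtain ⟨n2, y2, hy2, e2⟩ := hy
    refine ⟨n1 + n2, g ^ n2 • y1 + g ^ n1 • y2,
      Submodule.add_mem _ (Submodule.smul_mem _ _ hy1) (Submodule.smul_mem _ _ hy2), ?_⟩
    rw [res_add, res_smul, res_smul, e1, e2, resf_pow, resf_pow, smul_smul, smul_smul, smul_add, ← pow_add,
      ← pow_add, add_comm n2 n1]

/-- the sum of a family of subsheaves -/
def iSup {ι : Type*} (N : ι → SubSh H) : SubSh H := (iSupPre N).sh

theorem le_iSup {ι : Type*} (N : ι → SubSh H) (i : ι) (T : X.Opens) : (N i).carrier T ≤ (iSup N).carrier T :=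
  fun _ hs => (iSupPre N).le_sh T (Submodule.mem_iSup_of_mem i hs)

theorem iSup_carrier_eq_of_affine [H.IsQuasicoherent] {ι : Type*} (N : ι → SubSh H) {T : X.Opens}
    (hT : IsAffineOpen T) (hN : ∀ i, (N i).ExtOn T) : (iSup N).carrier T = ⨆ i, (N i).carrier T :=
  PreSub.sh_carrier_eq_of_affine hT (extOn_iSupPre N hN)

theorem qcOn_iSup [H.IsQuasicoherent] {ι : Type*} (N : ι → SubSh H) (W : X.Opens) (hN : ∀ i, (N i).QCOn W) :
    (iSup N).QCOn W :=
  PreSub.qcOn_sh W fun T hT hTW => extOn_iSupPre N fun i => hN i T hT hTW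

theorem ftOn_iSup [H.IsQuasicoherent] {ι : Type*} [Finite ι] (N : ι → SubSh H) (W : X.Opens)
    (hN : ∀ i, (N i).QCOn W) (hf : ∀ i, (N i).FTOn W) : (iSup N).FTOn W :=
  PreSub.ftOn_sh W (fun T hT hTW => extOn_iSupPre N fun i => hN i T hT hTW) fun T hT hTW => by
    have := Fintype.ofFinite ι
    change (⨆ i, (N i).carrier T).FG
    rw [← Finset.sup_univ_eq_iSup]
    exact Submodule.fg_finset_sup _ _ fun i _ => hf i T hT hTW

end SubSh

end Groth.Agent.Lib.Seat21.QSub
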