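import Mathlib
import Groth.Prelude.Def_RelSpec
import Groth.Agent.Lib.Seat21PreSub
import Groth.Agent.Lib.Seat21SubShStep
import Groth.Agent.Lib.Helper18QCAlg1

/-!
# The subalgebra of a quasi-coherent algebra generated by a quasi-coherent submodule (seat 21)

For a quasi-coherent algebra `B : RelSpec.QCAlg X` and a subsheaf `E` of `B.toModule`:
* `adjoinPre B E`: the presheaf of the subalgebras `O(T)[E(T)]` of `B(T)`; `extOn_adjoinPre`.
* `subalg B E T`: the sections over `T` of the sub-`O_X`-algebra generated by `E` (sections locally in `O(T')[E(T')]`);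
  over an affine open `T` it is `O(T)[E(T)]` (`subalg_eq_adjoin_of_affine`) if `E` is quasi-coherent.
* `subQCAlg B E hE`: the quasi-coherent subalgebra generated by a quasi-coherent `E`, with `subQCAlgι : subQCAlg ⟶ B`.
-/

set_option autoImplicit false
universe u
open CategoryTheory Limits AlgebraicGeometry TopologicalSpace Opposite

noncomputable section

namespace Groth.Agent.Lib.Seat21.QSub

open Groth.Agent.Lib.Helper2.Push Groth.Agent.Lib.Helper23.QCohLocal

variable {X : Scheme.{u}} (B : RelSpec.QCAlg X)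

/-- the algebra structure on the sections of a quasi-coherent algebra -/
@[reducible] def algSect (T : X.Opens) : Algebra Γ(X, T) (B.presheaf.obj (op T)) :=
  (B.str.app (op T)).hom.toAlgebra

attribute [local instance] algSect

/-- restriction of sections of a quasi-coherent algebra, as a ring homomorphism -/
def resB {V V' : X.Opens} (h : V' ≤ V) : B.presheaf.obj (op V) →+* B.presheaf.obj (op V') :=
  (B.presheaf.map (homOfLE h).op).hom

theorem res_eq_resB {V V' : X.Opens} (h : V' ≤ V) (s : Γ(B.toModule, V)) :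
    res B.toModule h s = resB B h s := rfl

theorem resB_algebraMap {V V' : X.Opens} (h : V' ≤ V) (r : Γ(X, V)) :
    resB B h (algebraMap Γ(X, V) (B.presheaf.obj (op V)) r) =
      algebraMap Γ(X, V') (B.presheaf.obj (op V')) (resf X h r) :=
  Groth.Agent.Helper18QCAlg.str_res_apply' B h r

theorem smul_eq_algebraMap_mul {T : X.Opens} (r : Γ(X, T)) (s : Γ(B.toModule, T)) :
    r • s = (algebraMap Γ(X, T) (B.presheaf.obj (op T)) r * (show B.presheaf.obj (op T) from s) :
      B.presheaf.obj (op T)) := rfl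

/-- the subalgebra generated by the sections of a subsheaf over an open -/
def adjoinAt (E : SubSh B.toModule) (T : X.Opens) : Subalgebra Γ(X, T) (B.presheaf.obj (op T)) :=
  Algebra.adjoin Γ(X, T) ((E.carrier T : Set Γ(B.toModule, T)) : Set (B.presheaf.obj (op T)))

theorem resB_mem_adjoinAt (E : SubSh B.toModule) {V V' : X.Opens} (h : V' ≤ V) {s : B.presheaf.obj (op V)}
    (hs : s ∈ adjoinAt B E V) : resB B h s ∈ adjoinAt B E V' := by
  unfold adjoinAt at hs
  induction hs using Algebra.adjoin_induction with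
  | mem x hx => exact Algebra.subset_adjoin (E.res_mem h hx)
  | algebraMap r => rw [resB_algebraMap]; exact Subalgebra.algebraMap_mem _ _
  | add x y _ _ hx hy => rw [map_add]; exact Subalgebra.add_mem _ hx hy
  | mul x y _ _ hx hy => rw [map_mul]; exact Subalgebra.mul_mem _ hx hy

/-- the presheaf of the subalgebras generated by the sections of a subsheaf -/
def adjoinPre (E : SubSh B.toModule) : PreSub B.toModule where
  carrier T := (Subalgebra.toSubmodule (adjoinAt B E T) : Submodule Γ(X, T) (B.presheaf.obj (op T)))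
  res_mem h _ hs := resB_mem_adjoinAt B E h hs

theorem mem_adjoinPre_iff (E : SubSh B.toModule) (T : X.Opens) (s : Γ(B.toModule, T)) :
    s ∈ (adjoinPre B E).carrier T ↔ (show B.presheaf.obj (op T) from s) ∈ adjoinAt B E T := Iff.rfl

theorem extOn_adjoinPre_aux (E : SubSh B.toModule) {T : X.Opens} (hT : IsAffineOpen T) (hE : E.ExtOn T)
    (g : Γ(X, T)) (s : B.presheaf.obj (op (X.basicOpen g))) (hs : s ∈ adjoinAt B E (X.basicOpen g)) :
    ∃ (n : ℕ) (t : B.presheaf.obj (op T)), t ∈ adjoinAt B E T ∧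
      resB B (X.basicOpen_le g) t =
        algebraMap Γ(X, X.basicOpen g) (B.presheaf.obj (op (X.basicOpen g)))
          ((resf X (X.basicOpen_le g) g) ^ n) * s := by
  unfold adjoinAt at hs
  induction hs using Algebra.adjoin_induction with
  | mem x hx =>
    obtain ⟨n, t, ht, e⟩ := hE g x hx
    exact ⟨n, t, Algebra.subset_adjoin ht, e⟩
  | algebraMap r =>
    have hloc := hT.isLocalization_basicOpen g
    obtain ⟨m, r', hr'⟩ := IsLocalization.Away.surj g r
    have hr'' : r * (resf X (X.basicOpen_le g) g) ^ m = resf X (X.basicOpen_le g) r' := hr'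
    refine ⟨m, algebraMap Γ(X, T) (B.presheaf.obj (op T)) r', Subalgebra.algebraMap_mem _ _, ?_⟩
    rw [resB_algebraMap, ← hr'', map_mul, mul_comm]
  | add x y _ _ hx hy =>
    obtain ⟨n1, y1, hy1, e1⟩ := hx
    obtain ⟨n2, y2, hy2, e2⟩ := hy
    refine ⟨n1 + n2, algebraMap Γ(X, T) (B.presheaf.obj (op T)) (g ^ n2) * y1 +
      algebraMap Γ(X, T) (B.presheaf.obj (op T)) (g ^ n1) * y2,
      Subalgebra.add_mem _ (Subalgebra.mul_mem _ (Subalgebra.algebraMap_mem _ _) hy1)
        (Subalgebra.mul_mem _ (Subalgebra.algebraMap_mem _ _) hy2), ?_⟩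
    rw [map_add, map_mul, map_mul, e1, e2, resB_algebraMap, resB_algebraMap, resf_pow, resf_pow, pow_add, map_mul]
    ring
  | mul x y _ _ hx hy =>
    obtain ⟨n1, y1, hy1, e1⟩ := hx
    obtain ⟨n2, y2, hy2, e2⟩ := hy
    refine ⟨n1 + n2, y1 * y2, Subalgebra.mul_mem _ hy1 hy2, ?_⟩
    rw [map_mul, e1, e2, pow_add, map_mul]
    ring

theorem extOn_adjoinPre (E : SubSh B.toModule) {T : X.Opens} (hT : IsAffineOpen T) (hE : E.ExtOn T) :
    (adjoinPre B E).ExtOn T :=
  fun g s hs => extOn_adjoinPre_aux B E hT hE g s hs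

theorem resB_resB {V V' V'' : X.Opens} (h : V' ≤ V) (h' : V'' ≤ V') (s : B.presheaf.obj (op V)) :
    resB B h' (resB B h s) = resB B (h'.trans h) s :=
  res_res B.toModule h h' s

theorem resB_self {V : X.Opens} (s : B.presheaf.obj (op V)) : resB B (le_refl V) s = s :=
  res_self B.toModule s

/-- the sub-`O_X`-module of `B` underlying the subalgebra generated by `E` -/
def genAlg (E : SubSh B.toModule) : SubSh B.toModule := (adjoinPre B E).sh

theorem mem_genAlg_iff (E : SubSh B.toModule) (T : X.Opens) (s : B.presheaf.obj (op T)) :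
    (show Γ(B.toModule, T) from s) ∈ (genAlg B E).carrier T ↔
      ∀ x ∈ T, ∃ (T' : X.Opens) (h : T' ≤ T), x ∈ T' ∧ resB B h s ∈ adjoinAt B E T' := Iff.rfl

theorem adjoinAt_le_genAlg (E : SubSh B.toModule) (T : X.Opens) {s : B.presheaf.obj (op T)}
    (hs : s ∈ adjoinAt B E T) : (show Γ(B.toModule, T) from s) ∈ (genAlg B E).carrier T :=
  (adjoinPre B E).le_sh T hs

/-- the sections over `T` of the subalgebra generated by `E` -/
def subalg (E : SubSh B.toModule) (T : X.Opens) : Subalgebra Γ(X, T) (B.presheaf.obj (op T)) where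
  carrier := {s | (show Γ(B.toModule, T) from s) ∈ (genAlg B E).carrier T}
  mul_mem' := fun {a b} ha hb => by
    change (show Γ(B.toModule, T) from _) ∈ (genAlg B E).carrier T at ha hb ⊢
    rw [mem_genAlg_iff] at ha hb ⊢
    intro x hxT
    obtain ⟨Ta, ha1, hxa, hma⟩ := ha x hxT
    obtain ⟨Tb, hb1, hxb, hmb⟩ := hb x hxT
    refine ⟨Ta ⊓ Tb, inf_le_left.trans ha1, ⟨hxa, hxb⟩, ?_⟩
    rw [map_mul]
    refine Subalgebra.mul_mem _ ?_ ?_
    · have := resB_mem_adjoinAt B E (inf_le_left : Ta ⊓ Tb ≤ Ta) hma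
      rwa [resB_resB] at this
    · have := resB_mem_adjoinAt B E (inf_le_right : Ta ⊓ Tb ≤ Tb) hmb
      rwa [resB_resB] at this
  one_mem' := adjoinAt_le_genAlg B E T (Subalgebra.one_mem _)
  add_mem' := fun {a b} ha hb => (genAlg B E).carrier T |>.add_mem ha hb
  zero_mem' := (genAlg B E).carrier T |>.zero_mem
  algebraMap_mem' := fun r => adjoinAt_le_genAlg B E T (Subalgebra.algebraMap_mem _ r)

theorem mem_subalg_iff (E : SubSh B.toModule) (T : X.Opens) (s : B.presheaf.obj (op T)) :
    s ∈ subalg B E T ↔ (show Γ(B.toModule, T) from s) ∈ (genAlg B E).carrier T := Iff.rfl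

theorem adjoinAt_le_subalg (E : SubSh B.toModule) (T : X.Opens) : adjoinAt B E T ≤ subalg B E T :=
  fun _ hs => adjoinAt_le_genAlg B E T hs

theorem le_subalg (E : SubSh B.toModule) (T : X.Opens) {s : Γ(B.toModule, T)} (hs : s ∈ E.carrier T) :
    (show B.presheaf.obj (op T) from s) ∈ subalg B E T :=
  adjoinAt_le_subalg B E T (Algebra.subset_adjoin hs)

theorem resB_mem_subalg (E : SubSh B.toModule) {V V' : X.Opens} (h : V' ≤ V) {s : B.presheaf.obj (op V)}
    (hs : s ∈ subalg B E V) : resB B h s ∈ subalg B E V' :=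
  (genAlg B E).res_mem h hs

/-- over an affine open the subalgebra generated by a quasi-coherent `E` is `O(T)[E(T)]` -/
theorem subalg_eq_adjoin_of_affine (E : SubSh B.toModule) {T : X.Opens} (hT : IsAffineOpen T) (hE : E.ExtOn T) :
    subalg B E T = adjoinAt B E T := by
  have h := PreSub.sh_carrier_eq_of_affine hT (extOn_adjoinPre B E hT hE)
  ext s
  rw [mem_subalg_iff]
  change _ ∈ (adjoinPre B E).sh.carrier T ↔ _
  rw [h]
  rfl

theorem qcOn_genAlg (E : SubSh B.toModule) (hE : E.QCOn ⊤) : (genAlg B E).QCOn ⊤ :=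
  PreSub.qcOn_sh ⊤ fun T hT _ => extOn_adjoinPre B E hT (hE T hT le_top)

/-- restriction of sections of the subalgebra -/
def subRes (E : SubSh B.toModule) {V V' : X.Opens} (h : V' ≤ V) : subalg B E V →+* subalg B E V' :=
  (resB B h).restrict (subalg B E V) (subalg B E V') fun _ hx => resB_mem_subalg B E h hx

theorem subRes_coe (E : SubSh B.toModule) {V V' : X.Opens} (h : V' ≤ V) (s : subalg B E V) :
    (subRes B E h s : B.presheaf.obj (op V')) = resB B h s.1 := rfl

/-- the presheaf of rings of the subalgebra generated by `E` -/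
def subPresheaf (E : SubSh B.toModule) : TopCat.Presheaf CommRingCat.{u} X.carrier where
  obj V := CommRingCat.of (subalg B E V.unop)
  map {V V'} i := CommRingCat.ofHom (subRes B E (leOfHom i.unop))
  map_id V := by
    ext s
    exact resB_self B s.1
  map_comp {V V' V''} i j := by
    ext s
    exact (resB_resB B _ _ s.1).symm

theorem isSheaf_subPresheaf (E : SubSh B.toModule) : (subPresheaf B E).IsSheaf := by
  rw [TopCat.Presheaf.isSheaf_iff_isSheafUniqueGluing]
  intro ι U sf hsf
  let sf' : ∀ i, B.presheaf.obj (op (U i)) := fun i => (sf i : subalg B E (U i)).1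
  have hsf' : TopCat.Presheaf.IsCompatible B.presheaf U sf' := by
    intro i j
    have := congrArg (fun t : subalg B E (U i ⊓ U j) => t.1) (hsf i j)
    exact this
  obtain ⟨s, hs, huniq⟩ := (TopCat.Presheaf.IsSheaf.isSheafUniqueGluing B.isSheaf U sf' hsf')
  have hmem : s ∈ subalg B E (iSup U) := by
    rw [mem_subalg_iff]
    apply (genAlg B E).local_mem
    intro x hx
    obtain ⟨i, hi⟩ := Opens.mem_iSup.1 hx
    refine ⟨U i, le_iSup U i, hi, ?_⟩
    have h1 : resB B (le_iSup U i) s = sf' i := hs i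
    rw [res_eq_resB, h1]
    exact (sf i : subalg B E (U i)).2
  refine ⟨(⟨s, hmem⟩ : subalg B E (iSup U)), ?_, ?_⟩
  · intro i
    apply Subtype.ext
    exact hs i
  · intro t ht
    apply Subtype.ext
    apply huniq
    intro i
    have := congrArg (fun t : subalg B E (U i) => t.1) (ht i)
    exact this

/-- the structure map of the subalgebra generated by `E` -/
def subStr (E : SubSh B.toModule) : X.presheaf ⟶ subPresheaf B E where
  app V := CommRingCat.ofHom (algebraMap Γ(X, V.unop) (subalg B E V.unop))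
  naturality V V' i := by
    ext r
    apply Subtype.ext
    exact (resB_algebraMap B (leOfHom i.unop) r).symm

/-- Abstract algebra form of "localizing on `D(r)`" (copied from the library of helper10). -/
theorem away_of_elementwise' {R A A' R' : Type*} [CommRing R] [CommRing A] [CommRing A'] [CommRing R']
    (fU : R →+* A) (fD : R' →+* A') (ρB : A →+* A') (ρS : R →+* R')
    (hnat : ∀ a, ρB (fU a) = fD (ρS a)) (r : R) (hunit : IsUnit (ρS r))
    (hex : ∀ z : A', ∃ (n : ℕ) (t : A), ρB t = (fD (ρS r)) ^ n * z)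
    (huniq : ∀ t : A, ρB t = 0 → ∃ n : ℕ, fU (r ^ n) * t = 0) :
    letI := ρB.toAlgebra
    IsLocalization.Away (fU r) A' := by
  let _ := ρB.toAlgebra
  have halg : ∀ b : A, algebraMap A A' b = ρB b := fun b => rfl
  rw [IsLocalization.Away, isLocalization_iff]
  refine ⟨?_, ?_, ?_⟩
  · rintro ⟨_, n, rfl⟩
    rw [map_pow, halg, hnat]
    exact (hunit.map fD).pow n
  · intro z
    obtain ⟨n, t, ht⟩ := hex z
    refine ⟨⟨t, ⟨_, n, rfl⟩⟩, ?_⟩
    show z * algebraMap A A' (fU r ^ n) = algebraMap A A' t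
    rw [halg, halg, ht, map_pow, hnat, mul_comm]
  · intro a b hab
    rw [halg, halg] at hab
    have h0 : ρB (a - b) = 0 := by rw [map_sub, hab, sub_self]
    obtain ⟨n, hn⟩ := huniq (a - b) h0
    refine ⟨⟨_, n, rfl⟩, ?_⟩
    show fU r ^ n * a = fU r ^ n * b
    rw [map_pow, mul_sub, sub_eq_zero] at hn
    exact hn

theorem isQC_subPresheaf (E : SubSh B.toModule) (hE : E.QCOn ⊤) :
    RelSpec.IsQC (subPresheaf B E) (subStr B E) := by
  intro U hU r
  have hq := qcOn_genAlg B E hE U hU le_top
  have hloc : IsLocOn B.toModule U := IsLocOn.of_isQuasicoherent hU B.toModule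
  refine away_of_elementwise' (R := Γ(X, U)) (A := subalg B E U)
    (A' := subalg B E (X.basicOpen r)) (R' := Γ(X, X.basicOpen r))
    ((subStr B E).app (op U)).hom ((subStr B E).app (op (X.basicOpen r))).hom
    ((subPresheaf B E).map (homOfLE (X.basicOpen_le r)).op).hom
    (X.presheaf.map (homOfLE (X.basicOpen_le r)).op).hom ?_ r ?_ ?_ ?_
  · intro a
    apply Subtype.ext
    exact resB_algebraMap B (X.basicOpen_le r) a
  · exact isUnit_resf_basicOpen r
  · intro z
    obtain ⟨n, t, ht, e⟩ := hq r z.1 z.2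
    refine ⟨n, ⟨t, ht⟩, ?_⟩
    apply Subtype.ext
    refine e.trans ?_
    change algebraMap Γ(X, X.basicOpen r) (B.presheaf.obj (op (X.basicOpen r)))
      ((resf X (X.basicOpen_le r) r) ^ n) * z.1 = _
    rw [map_pow]
    rfl
  · intro t ht
    have h0 : res B.toModule (X.basicOpen_le r) (show Γ(B.toModule, U) from t.1) = 0 :=
      congrArg Subtype.val ht
    obtain ⟨n, hn⟩ := hloc.exists_pow_smul_eq_zero r _ h0
    refine ⟨n, ?_⟩
    apply Subtype.ext
    exact hn

/-- the quasi-coherent subalgebra generated by a quasi-coherent subsheaf of modules -/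
def subQCAlg (E : SubSh B.toModule) (hE : E.QCOn ⊤) : RelSpec.QCAlg X where
  presheaf := subPresheaf B E
  isSheaf := isSheaf_subPresheaf B E
  str := subStr B E
  isQC := isQC_subPresheaf B E hE

/-- the inclusion of the subalgebra generated by `E` -/
def subQCAlgι (E : SubSh B.toModule) (hE : E.QCOn ⊤) : subQCAlg B E hE ⟶ B where
  hom :=
    { app := fun V => CommRingCat.ofHom (subalg B E V.unop).val.toRingHom
      naturality := fun _ _ _ => rfl }
  comm := rfl

theorem subQCAlgι_injective (E : SubSh B.toModule) (hE : E.QCOn ⊤) (V : X.Opens) :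
    Function.Injective ((subQCAlgι B E hE).hom.app (op V)).hom :=
  Subtype.val_injective

theorem subQCAlg_finiteType (E : SubSh B.toModule) (hE : E.QCOn ⊤) (hf : E.FTOn ⊤) {V : X.Opens}
    (hV : IsAffineOpen V) : ((subQCAlg B E hE).str.app (op V)).hom.FiniteType := by
  change (algebraMap Γ(X, V) (subalg B E V)).FiniteType
  rw [RingHom.finiteType_algebraMap, ← Subalgebra.fg_iff_finiteType,
    subalg_eq_adjoin_of_affine B E hV (hE V hV le_top)]
  obtain ⟨S, hS⟩ := hf V hV le_top
  let S' : Finset (B.presheaf.obj (op V)) := S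
  refine ⟨S', ?_⟩
  have h1 : Algebra.adjoin Γ(X, V) ((Submodule.span Γ(X, V) (S' : Set (B.presheaf.obj (op V))) :
      Submodule Γ(X, V) (B.presheaf.obj (op V))) : Set (B.presheaf.obj (op V))) =
      Algebra.adjoin Γ(X, V) (S' : Set (B.presheaf.obj (op V))) := Algebra.adjoin_span _
  rw [← h1]
  have h2 : ((Submodule.span Γ(X, V) (S' : Set (B.presheaf.obj (op V))) :
      Submodule Γ(X, V) (B.presheaf.obj (op V))) : Set (B.presheaf.obj (op V))) =
      ((E.carrier V : Set Γ(B.toModule, V)) : Set (B.presheaf.obj (op V))) :=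
    congrArg (fun M : Submodule Γ(X, V) Γ(B.toModule, V) => (M : Set Γ(B.toModule, V))) hS
  unfold adjoinAt
  rw [h2]

theorem mem_range_subQCAlgι (E : SubSh B.toModule) (hE : E.QCOn ⊤) {V : X.Opens} {b : B.presheaf.obj (op V)}
    (hb : (show Γ(B.toModule, V) from b) ∈ E.carrier V) :
    b ∈ Set.range ((subQCAlgι B E hE).hom.app (op V)).hom :=
  ⟨⟨b, le_subalg B E V hb⟩, rfl⟩

end Groth.Agent.Lib.Seat21.QSub
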