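import Mathlib
import Groth.Agent.Lib.Seat21SubAlg
import Groth.Agent.Lib.Seat21QCohSupNoeth

/-!
# Quasi-coherent algebras as limits of subalgebras of finite type; generating submodules (seat 21)

* `HasSubExt X`: every finite set of sections of a quasi-coherent module over an affine open lies in a quasi-coherent
  subsheaf of finite type. It holds when the underlying space of `X` is locally Noetherian
  (`hasSubExt_of_locallyNoetherian`) and when `X` is quasi-compact and quasi-separated (`hasSubExt_of_qcqs`).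
* `exists_subQCAlg_through`: a section of a quasi-coherent algebra over an affine open lies in a quasi-coherent
  subalgebra of finite type.
* `exists_generating_subSh`: a quasi-coherent algebra of finite type on a quasi-compact scheme is generated by a
  quasi-coherent submodule of finite type.
-/

set_option autoImplicit false
universe u
open CategoryTheory Limits AlgebraicGeometry TopologicalSpace Opposite

noncomputable section

namespace Groth.Agent.Lib.Seat21.QSub

open Groth.Agent.Lib.Helper2.Push Groth.Agent.Lib.Helper23.QCohLocal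

variable {X : Scheme.{u}}

/-- EGA I 9.4.7 for a quasi-separated scheme with a finite affine cover, for sectionwise subsheaves -/
theorem exists_subSh_of_finite_cover [QuasiSeparatedSpace X] {H : X.Modules} [H.IsQuasicoherent]
    {L : Type u} [Finite L] (W : L → X.Opens) (hW : ∀ l, IsAffineOpen (W l)) (hcov : ⨆ l, W l = ⊤)
    (U : X.Opens) (hU : IsCompact (U : Set X)) (N₀ : SubSh H) (hq : N₀.QCOn U) (hf : N₀.FTOn U) :
    ∃ N : SubSh H, SubSh.AgreeOn N N₀ U ∧ N.QCOn ⊤ ∧ N.FTOn ⊤ := by
  obtain ⟨inst, hwf⟩ := exists_wellFoundedLT L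
  refine exists_subSh (L := L) W hW hcov ?_ U ?_ N₀ hq hf
  · intro l
    rw [Set.inter_iUnion₂]
    exact (Set.toFinite (Set.Iio l)).isCompact_biUnion fun m _ =>
      QuasiSeparatedSpace.inter_isCompact _ _ (W l).isOpen (hW l).isCompact (W m).isOpen (hW m).isCompact
  · intro l
    exact QuasiSeparatedSpace.inter_isCompact _ _ (W l).isOpen (hW l).isCompact U.isOpen hU

/-- a quasi-compact scheme has a finite affine open cover -/
theorem exists_finite_affine_cover [CompactSpace X] :
    ∃ (t : Finset X.affineOpens), ⨆ l : t, (l.1 : X.Opens) = ⊤ := by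
  classical
  have hx : ∀ x : X, ∃ W : X.affineOpens, x ∈ (W : X.Opens) := fun x => by
    obtain ⟨W, hW, hxW, -⟩ := exists_isAffineOpen_mem_and_subset (x := x) (U := ⊤) trivial
    exact ⟨⟨W, hW⟩, hxW⟩
  choose W hxW using hx
  obtain ⟨t, -, ht⟩ := isCompact_univ.elim_nhds_subcover (fun x => ((W x : X.Opens) : Set X))
    (fun x _ => (W x).1.isOpen.mem_nhds (hxW x))
  refine ⟨t.image W, ?_⟩
  rw [eq_top_iff]
  intro x _
  obtain ⟨y, hy, hxy⟩ := Set.mem_iUnion₂.1 (ht (Set.mem_univ x))
  exact Opens.mem_iSup.2 ⟨⟨W y, Finset.mem_image_of_mem W hy⟩, hxy⟩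

/-- EGA I 9.4.7 for quasi-compact quasi-separated schemes, for sectionwise subsheaves -/
theorem exists_subSh_of_qcqs [CompactSpace X] [QuasiSeparatedSpace X] {H : X.Modules} [H.IsQuasicoherent]
    (U : X.Opens) (hU : IsCompact (U : Set X)) (N₀ : SubSh H) (hq : N₀.QCOn U) (hf : N₀.FTOn U) :
    ∃ N : SubSh H, SubSh.AgreeOn N N₀ U ∧ N.QCOn ⊤ ∧ N.FTOn ⊤ := by
  obtain ⟨t, ht⟩ := exists_finite_affine_cover (X := X)
  exact exists_subSh_of_finite_cover (L := t) (fun l => (l.1 : X.Opens)) (fun l => l.1.2) ht U hU N₀ hq hf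

/-- every finite set of sections of a quasi-coherent module over an affine open lies in a quasi-coherent subsheaf of
finite type -/
def HasSubExt (X : Scheme.{u}) : Prop :=
  ∀ (H : X.Modules) [H.IsQuasicoherent] (U : X.Opens), IsAffineOpen U → ∀ Q : Set Γ(H, U), Q.Finite →
    ∃ N : SubSh H, N.QCOn ⊤ ∧ N.FTOn ⊤ ∧ ∀ q ∈ Q, q ∈ N.carrier U

theorem hasSubExt_of_locallyNoetherian
    (hX : ∀ x : X, ∃ U : X.Opens, x ∈ U ∧ NoetherianSpace (U : Set X)) : HasSubExt X :=
  fun _ _ U _ Q hQ => exists_subSh_mem_of_locallyNoetherian hX U Q hQ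

theorem hasSubExt_of_qcqs [CompactSpace X] [QuasiSeparatedSpace X] : HasSubExt X := by
  intro H _ U hU Q hQ
  obtain ⟨N, ha, hNq, hNf⟩ := exists_subSh_of_qcqs U hU.isCompact (gen H U Q) (qcOn_gen Q) (ftOn_gen Q hQ)
  refine ⟨N, hNq, hNf, fun q hq => ?_⟩
  rw [ha U le_rfl]
  apply spanRes_le_gen Q le_rfl
  have := res_mem_spanRes Q (le_refl U) hq
  rwa [res_self] at this

attribute [local instance] algSect

/-- a section of a quasi-coherent algebra over an affine open lies in a quasi-coherent subalgebra of finite type -/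
theorem exists_subQCAlg_through (hX : HasSubExt X) (B : RelSpec.QCAlg X) (U : X.Opens) (hU : IsAffineOpen U)
    (b : B.presheaf.obj (op U)) :
    ∃ (B' : RelSpec.QCAlg X) (φ : B' ⟶ B),
      (∀ V : X.Opens, Function.Injective (φ.hom.app (op V)).hom) ∧
      (∀ V : X.Opens, IsAffineOpen V → (B'.str.app (op V)).hom.FiniteType) ∧
      b ∈ Set.range (φ.hom.app (op U)).hom := by
  obtain ⟨N, hNq, hNf, hmem⟩ := hX B.toModule U hU {(show Γ(B.toModule, U) from b)} (Set.finite_singleton _)
  exact ⟨subQCAlg B N hNq, subQCAlgι B N hNq, subQCAlgι_injective B N hNq,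
    fun V hV => subQCAlg_finiteType B N hNq hNf hV, mem_range_subQCAlgι B N hNq (hmem _ rfl)⟩

/-- a quasi-coherent algebra of finite type on a quasi-compact scheme is generated by a quasi-coherent subsheaf of
modules of finite type -/
theorem exists_generating_subSh (hX : HasSubExt X) [CompactSpace X] (B : RelSpec.QCAlg X)
    (hB : ∀ U : X.Opens, IsAffineOpen U → (B.str.app (op U)).hom.FiniteType) :
    ∃ N : SubSh B.toModule, N.QCOn ⊤ ∧ N.FTOn ⊤ ∧ ∀ U : X.Opens, IsAffineOpen U → adjoinAt B N U = ⊤ := by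
  obtain ⟨t, ht⟩ := exists_finite_affine_cover (X := X)
  let W : t → X.Opens := fun l => (l.1 : X.Opens)
  have hW : ∀ l, IsAffineOpen (W l) := fun l => l.1.2
  -- generators over the members of the cover
  have hgen : ∀ i : t, ∃ S : Finset (B.presheaf.obj (op (W i))),
      Algebra.adjoin Γ(X, W i) (S : Set (B.presheaf.obj (op (W i)))) = ⊤ :=
    fun i => (hB (W i) (hW i)).out
  choose S hS using hgen
  have hN : ∀ i : t, ∃ N : SubSh B.toModule, N.QCOn ⊤ ∧ N.FTOn ⊤ ∧
      ∀ q ∈ ((S i : Set (B.presheaf.obj (op (W i)))) : Set Γ(B.toModule, W i)), q ∈ N.carrier (W i) :=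
    fun i => hX B.toModule (W i) (hW i) _ (Finset.finite_toSet (S i))
  choose N hNq hNf hNmem using hN
  let M : SubSh B.toModule := SubSh.iSup N
  have hMq : M.QCOn ⊤ := SubSh.qcOn_iSup N ⊤ hNq
  have hMf : M.FTOn ⊤ := SubSh.ftOn_iSup N ⊤ hNq hNf
  refine ⟨M, hMq, hMf, ?_⟩
  -- the subalgebra generated by `M` is everything over the members of the cover
  have htop : ∀ i : t, subalg B M (W i) = ⊤ := by
    intro i
    rw [eq_top_iff, ← hS i]
    apply Algebra.adjoin_le
    intro s hs
    exact le_subalg B M (W i) (SubSh.le_iSup N i (W i) (hNmem i s hs))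
  -- hence everywhere
  have hall : ∀ (T : X.Opens) (s : B.presheaf.obj (op T)), s ∈ subalg B M T := by
    intro T s
    rw [mem_subalg_iff]
    apply (genAlg B M).local_mem
    intro x hxT
    obtain ⟨y, hxy⟩ := Opens.mem_iSup.1 (show x ∈ ⨆ l : t, (l.1 : X.Opens) from ht ▸ trivial)
    obtain ⟨a, ha1, ha2⟩ := (hW y).exists_basicOpen_le (V := T) ⟨x, hxT⟩ hxy
    refine ⟨X.basicOpen a, ha1, ha2, ?_⟩
    have hloc : IsLocOn B.toModule (W y) := IsLocOn.of_isQuasicoherent (hW y) B.toModule
    obtain ⟨n, t', ht'⟩ := isLocOn_exists hloc a _ rfl (X.basicOpen_le a)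
      (res B.toModule ha1 (show Γ(B.toModule, T) from s))
    have h1 : (show B.presheaf.obj (op (W y)) from t') ∈ subalg B M (W y) := by
      rw [htop y]
      exact Algebra.mem_top
    have h2 := (genAlg B M).res_mem (X.basicOpen_le a) h1
    rw [ht'] at h2
    exact mem_of_isUnit_pow_smul_mem _ (isUnit_resf_basicOpen a) _ h2
  intro U hU
  rw [← subalg_eq_adjoin_of_affine B M hU (hMq U hU le_top), eq_top_iff]
  intro s _
  exact hall U s

/-- reformulation of `adjoinAt B N U = ⊤` in terms of the closure of the images of the functions and of the sections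
of the module associated with `N` -/
theorem closure_eq_top_of_adjoinAt_eq_top (B : RelSpec.QCAlg X) (N : SubSh B.toModule) (U : X.Opens)
    (h : adjoinAt B N U = ⊤) :
    Subring.closure (Set.range (B.str.app (op U)).hom ∪
      Set.range (fun e : N.toModules.val.obj (op U) ↦
        (show B.presheaf.obj (op U) from (N.ι.val.app (op U)).hom e))) = ⊤ := by
  have h2 : Set.range (fun e : N.toModules.val.obj (op U) ↦
      (show B.presheaf.obj (op U) from (N.ι.val.app (op U)).hom e)) =
      ((N.carrier U : Set Γ(B.toModule, U)) : Set (B.presheaf.obj (op U))) := by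
    ext s
    constructor
    · rintro ⟨e, rfl⟩
      exact (N.sec U e).2
    · intro hs
      exact ⟨N.mkSec U ⟨s, hs⟩, rfl⟩
  rw [h2]
  have h3 := Algebra.adjoin_eq_ring_closure (R := Γ(X, U)) (A := B.presheaf.obj (op U))
    (((N.carrier U : Set Γ(B.toModule, U)) : Set (B.presheaf.obj (op U))))
  refine h3.symm.trans ?_
  change (adjoinAt B N U).toSubring = ⊤
  rw [h]
  rfl

end Groth.Agent.Lib.Seat21.QSub
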