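/-
Seat 21 helper library: EGA II 5.1.9, factorisation of a quasi-affine morphism of finite type.
-/
import Mathlib
import Groth.Prelude.Def_Mor2
import Groth.Prelude.Def_RelSpec
import Groth.Agent.Lib.Helper10RelSpecHom
import Groth.Agent.S8255
import Groth.Agent.Lib.Seat21QAffA
import Groth.Agent.Lib.Seat21SubAlgGen
import Groth.Agent.Lib.Helper13RelSpecLocal
import Groth.Agent.S4409

set_option autoImplicit false
set_option linter.style.haveILetI false
universe u
open CategoryTheory Limits AlgebraicGeometry TopologicalSpace Opposite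

namespace Groth.Agent.Lib.Seat21.QAff

open Groth.Agent.Lib.Helper10.RelSpecHom

variable {X Y : Scheme.{u}}

theorem hω_of (f : X ⟶ Y) [QuasiCompact f] [QuasiSeparated f] (B : RelSpec.QCAlg Y)
    (φ : B ⟶ RelSpec.QCAlg.directImage f) : B.π.c ≫ (B.gammaMap ≫ φ.hom) = f.c := by
  rw [← Category.assoc, B.π_c_gammaMap]
  exact φ.comm

theorem isOpenImmersion_local (f : X ⟶ Y) [QuasiCompact f] [QuasiSeparated f] (B : RelSpec.QCAlg Y)
    (φ : B ⟶ RelSpec.QCAlg.directImage f) (U : Y.Opens) (hU : IsAffineOpen U)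
    (hinj : Function.Injective (φ.hom.app (op U)).hom)
    (T : Set Γ(X, f ⁻¹ᵁ U)) (hT : Good f U T) (hTr : T ⊆ Set.range (φ.hom.app (op U)).hom) :
    IsOpenImmersion ((f ⁻¹ᵁ U).ι ≫ glued B.π f (B.gammaMap ≫ φ.hom)) := by
  have hWc : IsCompact ((f ⁻¹ᵁ U : X.Opens) : Set X) := f.isCompact_preimage hU.isCompact
  have hWqs : IsQuasiSeparated ((f ⁻¹ᵁ U : X.Opens) : Set X) :=
    f.isQuasiSeparated_preimage hU.isQuasiSeparated
  rw [ι_glued B.π f (B.gammaMap ≫ φ.hom) U hU]
  unfold piece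
  rw [← Category.assoc]
  have hiso0 : IsIso B.gammaMap := Groth.Agent.S8255.result B
  have hiso : IsIso (B.gammaMap.app (op U)) := @NatIso.isIso_app_of_isIso _ _ _ _ _ _ _ hiso0 (op U)
  have hωinj : Function.Injective ((B.gammaMap ≫ φ.hom).app (op U)).hom := by
    have h1 : Function.Bijective (B.gammaMap.app (op U)).hom :=
      ConcreteCategory.bijective_of_isIso (B.gammaMap.app (op U))
    intro a b hab
    apply h1.1
    apply hinj
    exact hab
  have hσ : (B.π.app U) ≫ (B.gammaMap ≫ φ.hom).app (op U) = f.app U :=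
    congrArg (fun α => α.app (op U)) (hω_of f B φ)
  have h1 : IsOpenImmersion ((f ⁻¹ᵁ U).toSpecΓ ≫ Spec.map ((B.gammaMap ≫ φ.hom).app (op U))) := by
    refine isOpenImmersion_opens_toSpecΓ_comp (f ⁻¹ᵁ U) ((B.gammaMap ≫ φ.hom).app (op U)) ?_
    intro x hx
    obtain ⟨g, hgT, hxg, haff, zs, hzs, hz⟩ := hT x hx
    obtain ⟨b, hb⟩ := hTr hgT
    have hb' : ((B.gammaMap ≫ φ.hom).app (op U)).hom ((inv (B.gammaMap.app (op U))).hom b) = g := by
      rw [NatTrans.comp_app, CommRingCat.hom_comp, RingHom.comp_apply]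
      have : (B.gammaMap.app (op U)).hom ((inv (B.gammaMap.app (op U))).hom b) = b := by
        rw [← CommRingCat.comp_apply, IsIso.inv_hom_id]; rfl
      rw [this]; exact hb
    subst hb'
    refine ⟨(inv (B.gammaMap.app (op U))).hom b, X.basicOpen_le _, hxg, haff, ?_⟩
    have hloc := isLocalization_basicOpen_of_qcqs hWc hWqs
      (((B.gammaMap ≫ φ.hom).app (op U)).hom ((inv (B.gammaMap.app (op U))).hom b))
    refine away_of_injective (B.π.app U).hom ((B.gammaMap ≫ φ.hom).app (op U)).hom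
      (resD f U _) hωinj _ hloc zs ?_ ?_
    · rw [← hzs]
      congr 3
      rw [← hσ]
      rfl
    · intro z hz'
      obtain ⟨h, hhT, n, hn⟩ := hz z hz'
      obtain ⟨c, hc⟩ := hTr hhT
      refine ⟨(inv (B.gammaMap.app (op U))).hom c, n, ?_⟩
      have hc' : ((B.gammaMap ≫ φ.hom).app (op U)).hom ((inv (B.gammaMap.app (op U))).hom c) = h := by
        rw [NatTrans.comp_app, CommRingCat.hom_comp, RingHom.comp_apply]
        have : (B.gammaMap.app (op U)).hom ((inv (B.gammaMap.app (op U))).hom c) = c := by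
          rw [← CommRingCat.comp_apply, IsIso.inv_hom_id]; rfl
        rw [this]; exact hc
      rw [hc']
      exact hn
  have h2 : IsOpenImmersion (hU.preimage B.π).fromSpec := inferInstance
  exact MorphismProperty.comp_mem (W := @IsOpenImmersion) _ _ h1 h2

theorem isOpenImmersion_of_local_family {P : Scheme.{u}} (c : X ⟶ P) (π : P ⟶ Y) (f : X ⟶ Y) (e : c ≫ π = f)
    {ι : Type*} (U : ι → Y.Opens) (hU : ⨆ i, U i = ⊤)
    (h : ∀ i, IsOpenImmersion ((f ⁻¹ᵁ U i).ι ≫ c)) : IsOpenImmersion c := by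
  have hcov : ⨆ i, π ⁻¹ᵁ U i = ⊤ := by
    rw [← Scheme.Hom.preimage_iSup, hU]
    rfl
  rw [IsZariskiLocalAtTarget.iff_of_iSup_eq_top (P := @IsOpenImmersion) (fun i => π ⁻¹ᵁ U i) hcov]
  intro i
  have key : ∀ W : X.Opens, W = f ⁻¹ᵁ U i → IsOpenImmersion (W.ι ≫ c) := by
    intro W hW; subst hW; exact h i
  haveI : IsOpenImmersion ((c ∣_ (π ⁻¹ᵁ U i)) ≫ (π ⁻¹ᵁ U i).ι) := by
    rw [morphismRestrict_ι]
    refine key _ ?_
    subst e; rfl
  exact IsOpenImmersion.of_comp (c ∣_ (π ⁻¹ᵁ U i)) (π ⁻¹ᵁ U i).ι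

open Groth.Agent.Lib.Seat21.QSub in
/-- EGA II 5.1.9: a quasi-affine morphism of finite type to a quasi-compact quasi-separated scheme factors as an open
immersion followed by an affine morphism of finite type -/
theorem exists_factor [CompactSpace Y] [QuasiSeparatedSpace Y] (f : X ⟶ Y) (hf : Mor2.IsQuasiAffine f)
    [LocallyOfFiniteType f] :
    ∃ (X'' : Scheme.{u}) (g : X'' ⟶ Y) (j : X ⟶ X''), IsAffineHom g ∧ LocallyOfFiniteType g ∧
      IsOpenImmersion j ∧ j ≫ g = f := by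
  classical
  haveI := hf.1
  haveI : IsSeparated f := ((Groth.Agent.S4409.result f).1 hf).1
  obtain ⟨t, ht⟩ := exists_finite_affine_cover (X := Y)
  have hgood : ∀ l : t, ∃ T : Set Γ(X, f ⁻¹ᵁ l.1.1), T.Finite ∧ Good f l.1.1 T :=
    fun l => exists_good f hf l.1.1 l.1.2
  choose T hTfin hTgood using hgood
  have hX : HasSubExt Y := hasSubExt_of_qcqs
  have hN : ∀ l : t, ∃ N : SubSh (RelSpec.QCAlg.directImage f).toModule, N.QCOn ⊤ ∧ N.FTOn ⊤ ∧
      ∀ q ∈ (T l : Set Γ((RelSpec.QCAlg.directImage f).toModule, l.1.1)), q ∈ N.carrier l.1.1 :=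
    fun l => hX (RelSpec.QCAlg.directImage f).toModule l.1.1 l.1.2 (T l) (hTfin l)
  choose N hNq hNf hNmem using hN
  let M : SubSh (RelSpec.QCAlg.directImage f).toModule := SubSh.iSup N
  have hMq : M.QCOn ⊤ := SubSh.qcOn_iSup N ⊤ hNq
  have hMf : M.FTOn ⊤ := SubSh.ftOn_iSup N ⊤ hNq hNf
  let B := subQCAlg (RelSpec.QCAlg.directImage f) M hMq
  let φ : B ⟶ RelSpec.QCAlg.directImage f := subQCAlgι (RelSpec.QCAlg.directImage f) M hMq
  have hcomp : glued B.π f (B.gammaMap ≫ φ.hom) ≫ B.π = f := glued_comp _ _ _ (hω_of f B φ)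
  refine ⟨B.spec, B.π, glued B.π f (B.gammaMap ≫ φ.hom), inferInstance, ?_, ?_, hcomp⟩
  · exact Groth.Agent.Helper13RelSpecLocal.locallyOfFiniteType_π B
      (fun V hV => subQCAlg_finiteType (RelSpec.QCAlg.directImage f) M hMq hMf hV)
  · refine isOpenImmersion_of_local_family _ B.π f hcomp (fun l : t => l.1.1) ht fun l => ?_
    refine isOpenImmersion_local f B φ l.1.1 l.1.2
      (subQCAlgι_injective (RelSpec.QCAlg.directImage f) M hMq l.1.1) (T l) (hTgood l) ?_
    intro q hq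
    exact mem_range_subQCAlgι (RelSpec.QCAlg.directImage f) M hMq
      (SubSh.le_iSup N l l.1.1 (hNmem l q hq))

end Groth.Agent.Lib.Seat21.QAff
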