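import Mathlib
import Groth.Prelude.Def_RelSpec
import Groth.Agent.Lib.Seat21QAffFactor

set_option autoImplicit false
universe u
open CategoryTheory Limits AlgebraicGeometry TopologicalSpace Opposite

namespace Groth.Agent.Lib.Seat20.ZMTFinite

open Groth.Agent.Lib.Seat21.QAff Groth.Agent.Lib.Helper10.RelSpecHom

variable {X N Y : Scheme.{u}}

/-- the algebra map `π_* O_N ⟶ f_* O_X` induced by `j : X ⟶ N` over `Y` -/
noncomputable def rho (f : X ⟶ Y) (j : X ⟶ N) (π : N ⟶ Y) (w : j ≫ π = f) [QuasiCompact f]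
    [QuasiSeparated f] [QuasiCompact π] [QuasiSeparated π] :
    RelSpec.QCAlg.directImage π ⟶ RelSpec.QCAlg.directImage f :=
  ⟨AffAlg.algHom π f j w, AffAlg.algHom_comm π f j w⟩

lemma rho_app (j : X ⟶ N) (π : N ⟶ Y) [QuasiCompact (j ≫ π)]
    [QuasiSeparated (j ≫ π)] [QuasiCompact π] [QuasiSeparated π] (U : Y.Opens) :
    (rho (j ≫ π) j π rfl).hom.app (op U) = j.app (π ⁻¹ᵁ U) := by
  simp [rho, AffAlg.algHom]
  rfl

/-- restriction of sections along `j` -/
noncomputable def resJ (j : X ⟶ N) (π : N ⟶ Y) (U : Y.Opens) :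
    Γ(N, π ⁻¹ᵁ U) →+* Γ(X, (j ≫ π) ⁻¹ᵁ U) :=
  (j.app (π ⁻¹ᵁ U)).hom

lemma rho_app' (j : X ⟶ N) (π : N ⟶ Y) [QuasiCompact (j ≫ π)]
    [QuasiSeparated (j ≫ π)] [QuasiCompact π] [QuasiSeparated π] (U : Y.Opens) :
    ((rho (j ≫ π) j π rfl).hom.app (op U)).hom = resJ j π U := by
  rw [rho_app]
  rfl

/-- per-point generating data coming from an affine scheme `N` containing `X` as an open -/
theorem exists_local_data (j : X ⟶ N) (π : N ⟶ Y) [IsOpenImmersion j] [IsAffineHom π]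
    [LocallyOfFiniteType (j ≫ π)] (U : Y.Opens) (hU : IsAffineOpen U) (x : X)
    (hx : x ∈ (j ≫ π) ⁻¹ᵁ U) :
    ∃ (a : Γ(N, π ⁻¹ᵁ U)) (hs : Finset Γ(N, π ⁻¹ᵁ U)),
      x ∈ X.basicOpen (resJ j π U a) ∧
      IsAffineOpen (X.basicOpen (resJ j π U a)) ∧
      ∃ zs : Set Γ(X, X.basicOpen (resJ j π U a)),
        Subring.closure (Set.range ((resD (j ≫ π) U (resJ j π U a)).comp
          ((j ≫ π).app U).hom) ∪ zs) = ⊤ ∧
        ∀ z ∈ zs, ∃ h ∈ hs, ∃ n : ℕ,
          resD (j ≫ π) U (resJ j π U a) (resJ j π U h) =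
            resD (j ≫ π) U (resJ j π U a) (resJ j π U a) ^ n * z := by
  classical
  set W : N.Opens := π ⁻¹ᵁ U with hWdef
  have hW : IsAffineOpen W := hU.preimage π
  have hxW : j x ∈ W := hx
  obtain ⟨a, hale, hxa⟩ := hW.exists_basicOpen_le (V := j.opensRange) ⟨j x, ⟨x, rfl⟩⟩ hxW
  set g : Γ(X, (j ≫ π) ⁻¹ᵁ U) := resJ j π U a with hg
  have hbo : X.basicOpen g = j ⁻¹ᵁ N.basicOpen a := (Scheme.preimage_basicOpen j a).symm
  have hxg : x ∈ X.basicOpen g := by
    rw [hbo]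
    exact hxa
  have haff : IsAffineOpen (X.basicOpen g) := by
    rw [hbo, ← Scheme.Hom.isAffineOpen_iff_of_isOpenImmersion j,
      Scheme.Hom.image_preimage_eq_opensRange_inf, inf_eq_right.2 hale]
    exact hW.basicOpen a
  have e : X.basicOpen g ≤ (j ≫ π) ⁻¹ᵁ U := X.basicOpen_le g
  have hft := (j ≫ π).finiteType_appLE hU haff e
  -- generators
  let : Algebra Γ(Y, U) Γ(X, X.basicOpen g) := ((j ≫ π).appLE U (X.basicOpen g) e).hom.toAlgebra
  obtain ⟨s, hs⟩ : ∃ s : Finset Γ(X, X.basicOpen g),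
      Algebra.adjoin Γ(Y, U) (s : Set Γ(X, X.basicOpen g)) = ⊤ := hft.out
  -- the comparison iso
  have e' : X.basicOpen g ≤ j ⁻¹ᵁ N.basicOpen a := hbo.le
  have hiso : IsIso (j.appLE (N.basicOpen a) (X.basicOpen g) e') := by
    have h1 : IsIso (j.app (N.basicOpen a)) := j.isIso_app _ hale
    have h2 : IsIso (X.presheaf.map (homOfLE e').op) := by
      have : homOfLE e' = eqToHom hbo := rfl
      rw [this]
      infer_instance
    rw [Scheme.Hom.appLE]
    infer_instance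
  have hbij : Function.Bijective (j.appLE (N.basicOpen a) (X.basicOpen g) e').hom :=
    ConcreteCategory.bijective_of_isIso _
  have hloc := hW.isLocalization_basicOpen a
  -- numerators
  have key : ∀ c : Γ(N, W), resD (j ≫ π) U g (resJ j π U c) =
      (j.appLE (N.basicOpen a) (X.basicOpen g) e').hom
        (algebraMap Γ(N, W) Γ(N, N.basicOpen a) c) := by
    intro c
    rw [RingHom.algebraMap_toAlgebra]
    change (j.app W ≫ X.presheaf.map (homOfLE (X.basicOpen_le g)).op).hom c =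
      (N.presheaf.map (homOfLE (N.basicOpen_le a)).op ≫
        j.appLE (N.basicOpen a) (X.basicOpen g) e').hom c
    rw [Scheme.Hom.map_appLE]
    rfl
  have hnum : ∀ z : Γ(X, X.basicOpen g), ∃ (h : Γ(N, W)) (n : ℕ),
      resD (j ≫ π) U g (resJ j π U h) = resD (j ≫ π) U g g ^ n * z := by
    intro z
    obtain ⟨z', rfl⟩ := hbij.2 z
    obtain ⟨n, h, hh⟩ := IsLocalization.Away.surj a z'
    refine ⟨h, n, ?_⟩
    have hga : resD (j ≫ π) U g g = (j.appLE (N.basicOpen a) (X.basicOpen g) e').hom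
        (algebraMap Γ(N, W) Γ(N, N.basicOpen a) a) := key a
    rw [key, hga, ← hh, map_mul, map_pow, mul_comm]
  choose hfun nfun hhn using hnum
  refine ⟨a, s.image hfun, hxg, haff, (s : Set Γ(X, X.basicOpen g)), ?_, ?_⟩
  · have h1 := Algebra.adjoin_eq_ring_closure (R := Γ(Y, U)) (s : Set Γ(X, X.basicOpen g))
    rw [hs] at h1
    have h2 : Set.range ((resD (j ≫ π) U g).comp ((j ≫ π).app U).hom) =
        Set.range (algebraMap Γ(Y, U) Γ(X, X.basicOpen g)) := rfl
    rw [h2]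
    exact h1.symm
  · intro z hz
    exact ⟨hfun z, Finset.mem_image_of_mem _ hz, nfun z, hhn z⟩

/-- finite generating data over an affine open of the base, coming from `N` -/
theorem exists_good_integral (j : X ⟶ N) (π : N ⟶ Y) [IsOpenImmersion j] [IsAffineHom π]
    [QuasiCompact (j ≫ π)] [LocallyOfFiniteType (j ≫ π)] (U : Y.Opens) (hU : IsAffineOpen U) :
    ∃ T' : Set Γ(N, π ⁻¹ᵁ U), T'.Finite ∧ Good (j ≫ π) U (resJ j π U '' T') := by
  classical
  have hloc : ∀ x : ↥((j ≫ π) ⁻¹ᵁ U), ∃ (a : Γ(N, π ⁻¹ᵁ U)) (hs : Finset Γ(N, π ⁻¹ᵁ U)),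
      x.1 ∈ X.basicOpen (resJ j π U a) ∧
      IsAffineOpen (X.basicOpen (resJ j π U a)) ∧
      ∃ zs : Set Γ(X, X.basicOpen (resJ j π U a)),
        Subring.closure (Set.range ((resD (j ≫ π) U (resJ j π U a)).comp
          ((j ≫ π).app U).hom) ∪ zs) = ⊤ ∧
        ∀ z ∈ zs, ∃ h ∈ hs, ∃ n : ℕ,
          resD (j ≫ π) U (resJ j π U a) (resJ j π U h) =
            resD (j ≫ π) U (resJ j π U a) (resJ j π U a) ^ n * z :=
    fun x => exists_local_data j π U hU x.1 x.2
  choose a hs hxa haff hzs using hloc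
  have hcpt : IsCompact (((j ≫ π) ⁻¹ᵁ U : X.Opens) : Set X) :=
    (j ≫ π).isCompact_preimage hU.isCompact
  obtain ⟨t, ht⟩ := hcpt.elim_finite_subcover
    (fun x : ↥((j ≫ π) ⁻¹ᵁ U) => (X.basicOpen (resJ j π U (a x)) : Set X))
    (fun x => (X.basicOpen _).2)
    (fun y hy => Set.mem_iUnion.2 ⟨⟨y, hy⟩, hxa ⟨y, hy⟩⟩)
  refine ⟨⋃ x ∈ t, ({a x} ∪ (hs x : Set Γ(N, π ⁻¹ᵁ U))), ?_, ?_⟩
  · refine Set.Finite.biUnion t.finite_toSet fun x _ => ?_
    exact (Set.finite_singleton _).union (hs x).finite_toSet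
  · intro y hy
    obtain ⟨x, hx⟩ := Set.mem_iUnion.1 (ht hy)
    obtain ⟨hxt, hyx⟩ := Set.mem_iUnion.1 hx
    obtain ⟨zs, hzs1, hzs2⟩ := hzs x
    refine ⟨resJ j π U (a x), ⟨a x, ?_, rfl⟩, hyx, haff x, zs, hzs1, fun z hz => ?_⟩
    · exact Set.mem_biUnion hxt (Or.inl rfl)
    · obtain ⟨h, hh, n, hn⟩ := hzs2 z hz
      exact ⟨resJ j π U h, ⟨h, Set.mem_biUnion hxt (Or.inr hh), rfl⟩, n, hn⟩

open Groth.Agent.Lib.Seat21.QSub in
/-- an open subscheme of a scheme integral and affine over a qcqs base, of finite type over the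
base, is an open subscheme of a finite scheme over the base -/
theorem exists_finite_factor_of_integral [CompactSpace Y] [QuasiSeparatedSpace Y]
    (j : X ⟶ N) (π : N ⟶ Y) [IsOpenImmersion j] [IsIntegralHom π]
    [QuasiCompact (j ≫ π)] [LocallyOfFiniteType (j ≫ π)]
    (hinj : ∀ U : Y.Opens, IsAffineOpen U → Function.Injective (resJ j π U)) :
    ∃ (T : Scheme.{u}) (i : X ⟶ T) (p : T ⟶ Y), IsOpenImmersion i ∧ QuasiCompact i ∧ IsFinite p ∧
      i ≫ p = j ≫ π := by
  classical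
  have : QuasiSeparated (j ≫ π) := inferInstance
  set f := j ≫ π with hf
  obtain ⟨t, ht⟩ := exists_finite_affine_cover (X := Y)
  have hgood : ∀ l : t, ∃ T' : Set Γ(N, π ⁻¹ᵁ l.1.1), T'.Finite ∧
      Good (j ≫ π) l.1.1 (resJ j π l.1.1 '' T') :=
    fun l => exists_good_integral j π l.1.1 l.1.2
  choose T' hTfin hTgood using hgood
  have hX : HasSubExt Y := hasSubExt_of_qcqs
  let 𝒜 := RelSpec.QCAlg.directImage π
  have hN : ∀ l : t, ∃ M : SubSh 𝒜.toModule, M.QCOn ⊤ ∧ M.FTOn ⊤ ∧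
      ∀ q ∈ (T' l : Set Γ(𝒜.toModule, l.1.1)), q ∈ M.carrier l.1.1 :=
    fun l => hX 𝒜.toModule l.1.1 l.1.2 (T' l) (hTfin l)
  choose M₀ hMq₀ hMf₀ hMmem using hN
  let M : SubSh 𝒜.toModule := SubSh.iSup M₀
  have hMq : M.QCOn ⊤ := SubSh.qcOn_iSup M₀ ⊤ hMq₀
  have hMf : M.FTOn ⊤ := SubSh.ftOn_iSup M₀ ⊤ hMq₀ hMf₀
  let B := subQCAlg 𝒜 M hMq
  let φ₀ : B ⟶ 𝒜 := subQCAlgι 𝒜 M hMq
  let φ : B ⟶ RelSpec.QCAlg.directImage (j ≫ π) := φ₀ ≫ rho (j ≫ π) j π rfl
  have hcomp : glued B.π (j ≫ π) (B.gammaMap ≫ φ.hom) ≫ B.π = j ≫ π :=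
    glued_comp _ _ _ (hω_of (j ≫ π) B φ)
  have hφapp : ∀ U : Y.Opens, (φ.hom.app (op U)).hom =
      (resJ j π U).comp (φ₀.hom.app (op U)).hom := by
    intro U
    change ((φ₀.hom.app (op U)) ≫ ((rho (j ≫ π) j π rfl).hom.app (op U))).hom = _
    rw [CommRingCat.hom_comp, rho_app']
    rfl
  refine ⟨B.spec, glued B.π (j ≫ π) (B.gammaMap ≫ φ.hom), B.π, ?_, ?_, ?_, hcomp⟩
  · refine isOpenImmersion_of_local_family _ B.π (j ≫ π) hcomp (fun l : t => l.1.1) ht fun l => ?_
    refine isOpenImmersion_local (j ≫ π) B φ l.1.1 l.1.2 ?_ (resJ j π l.1.1 '' T' l) (hTgood l) ?_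
    · rw [hφapp]
      exact (hinj l.1.1 l.1.2).comp (subQCAlgι_injective 𝒜 M hMq l.1.1)
    · rintro _ ⟨q, hq, rfl⟩
      obtain ⟨b, hb⟩ := mem_range_subQCAlgι 𝒜 M hMq
        (SubSh.le_iSup M₀ l l.1.1 (hMmem l q hq))
      refine ⟨b, ?_⟩
      rw [hφapp]
      exact congrArg (resJ j π l.1.1) hb
  · apply MorphismProperty.of_postcomp (W := @QuasiCompact) (W' := @QuasiSeparated) _ B.π
    · infer_instance
    · rw [hcomp]
      infer_instance
  · have hlft : LocallyOfFiniteType B.π :=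
      Groth.Agent.Helper13RelSpecLocal.locallyOfFiniteType_π B
        (fun V hV => subQCAlg_finiteType 𝒜 M hMq hMf hV)
    have hint : IsIntegralHom B.π := by
      refine ⟨fun U hU => ?_⟩
      have hiso0 : IsIso B.gammaMap := Groth.Agent.S8255.result B
      have hiso : IsIso (B.gammaMap.app (op U)) :=
        @NatIso.isIso_app_of_isIso _ _ _ _ _ _ _ hiso0 (op U)
      have h1 : B.π.app U ≫ B.gammaMap.app (op U) = B.str.app (op U) :=
        congrArg (fun α => α.app (op U)) B.π_c_gammaMap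
      have h2 : B.π.app U = B.str.app (op U) ≫ inv (B.gammaMap.app (op U)) := by
        rw [← h1, Category.assoc, IsIso.hom_inv_id, Category.comp_id]
      rw [h2, CommRingCat.hom_comp]
      refine RingHom.IsIntegral.trans _ _ ?_ ?_
      · -- `B(U) ⊆ 𝒜(U)` is integral over `Γ(Y, U)`
        refine RingHom.IsIntegral.tower_bot _ (φ₀.hom.app (op U)).hom
          (subQCAlgι_injective 𝒜 M hMq U) ?_
        have h3 : (φ₀.hom.app (op U)).hom.comp (B.str.app (op U)).hom = (π.app U).hom := by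
          have := congrArg (fun α => (α.app (op U)).hom) φ₀.comm
          exact this
        rw [h3]
        exact IsIntegralHom.isIntegral_app π U hU
      · exact RingHom.isIntegral_of_surjective _
          (ConcreteCategory.bijective_of_isIso (inv (B.gammaMap.app (op U)))).2
    exact (IsFinite.iff_isIntegralHom_and_locallyOfFiniteType _).2 ⟨hint, hlft⟩

/-- **Zariski's main theorem, finite form**: a quasi-finite separated morphism to a qcqs scheme is
a quasi-compact open immersion followed by a finite morphism. -/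
theorem exists_openImmersion_finite_factor {S : Scheme.{u}} (f : X ⟶ S) [CompactSpace S]
    [QuasiSeparatedSpace S] [LocallyQuasiFinite f] [LocallyOfFiniteType f] [QuasiCompact f]
    [IsSeparated f] :
    ∃ (T : Scheme.{u}) (j : X ⟶ T) (π : T ⟶ S), IsOpenImmersion j ∧ QuasiCompact j ∧
      IsFinite π ∧ j ≫ π = f := by
  have w : f.toNormalization ≫ f.fromNormalization = f := f.toNormalization_fromNormalization
  have h1 : QuasiCompact (f.toNormalization ≫ f.fromNormalization) := by rw [w]; infer_instance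
  have h2 : LocallyOfFiniteType (f.toNormalization ≫ f.fromNormalization) := by
    rw [w]; infer_instance
  have hinj : ∀ U : S.Opens, IsAffineOpen U →
      Function.Injective (resJ f.toNormalization f.fromNormalization U) := by
    intro U hU
    let := (f.app U).hom.toAlgebra
    have h3 := f.toNormalization_app_preimage ⟨U, hU⟩
    have h4 : resJ f.toNormalization f.fromNormalization U =
        ((f.normalizationObjIso hU).hom ≫
          CommRingCat.ofHom (integralClosure ↑Γ(S, U) ↑Γ(X, f ⁻¹ᵁ U)).val.toRingHom ≫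
          X.presheaf.map (eqToHom (by simp)).op).hom := by
      rw [resJ]
      exact congrArg CommRingCat.Hom.hom h3
    rw [h4, CommRingCat.hom_comp, CommRingCat.hom_comp, RingHom.coe_comp, RingHom.coe_comp]
    refine Function.Injective.comp (Function.Injective.comp ?_ ?_) ?_
    · exact (ConcreteCategory.bijective_of_isIso (X.presheaf.map (eqToHom _).op)).1
    · exact Subtype.val_injective
    · exact (ConcreteCategory.bijective_of_isIso (f.normalizationObjIso hU).hom).1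
  obtain ⟨T, i, p, hi, hiq, hp, hip⟩ :=
    exists_finite_factor_of_integral f.toNormalization f.fromNormalization hinj
  exact ⟨T, i, p, hi, hiq, hp, hip.trans w⟩

end Groth.Agent.Lib.Seat20.ZMTFinite
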