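import Mathlib
import Groth.Agent.Lib.Seat20ZMTFinite

set_option autoImplicit false
universe u
open CategoryTheory Limits AlgebraicGeometry TopologicalSpace

namespace Groth.Agent.Lib.Seat20.HenselSections

variable {S S₀ : Scheme.{u}} (i : S₀ ⟶ S)

/-- the hypothesis: clopen subsets lift uniquely along every finite morphism -/
def ClopenLift : Prop :=
  ∀ (S' : Scheme.{u}) (g : S' ⟶ S), IsFinite g →
    ∀ V : Set ↥(pullback g i), IsClopen V →
      ∃! U : Set ↥S', IsClopen U ∧ (pullback.fst g i).base ⁻¹' U = V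

variable {i}

/-- a finite `S`-scheme with empty restriction to `S₀` is empty -/
lemma isEmpty_of_isEmpty_pullback (ha : ClopenLift i) {T : Scheme.{u}} (π : T ⟶ S) [IsFinite π]
    [IsEmpty ↥(pullback π i)] : IsEmpty T := by
  obtain ⟨U, -, hU⟩ := ha T π inferInstance ∅ isClopen_empty
  have h1 := hU ∅ ⟨isClopen_empty, by simp⟩
  have h2 := hU Set.univ ⟨isClopen_univ, Set.eq_empty_of_isEmpty _⟩
  rw [← Set.univ_eq_empty_iff, h2, ← h1]

/-- a clopen subset of a finite `S`-scheme containing everything over `S₀` is everything -/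
lemma eq_univ_of_preimage_eq_univ (ha : ClopenLift i) {T : Scheme.{u}} (π : T ⟶ S) [IsFinite π]
    (U : Set T) (hU : IsClopen U) (h : (pullback.fst π i).base ⁻¹' U = Set.univ) :
    U = Set.univ := by
  obtain ⟨U', -, hU'⟩ := ha T π inferInstance Set.univ isClopen_univ
  rw [hU' U ⟨hU, h⟩, hU' Set.univ ⟨isClopen_univ, rfl⟩]

/-- a clopen subset of `S` containing `S₀` is everything -/
lemma eq_univ_of_range_subset (ha : ClopenLift i) (U : Set S) (hU : IsClopen U)
    (h : Set.range i ⊆ U) : U = Set.univ := by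
  refine eq_univ_of_preimage_eq_univ ha (𝟙 S) U hU ?_
  ext y
  simp only [Set.mem_preimage, Set.mem_univ, iff_true]
  have h1 : pullback.fst (𝟙 S) i = pullback.snd (𝟙 S) i ≫ i := by
    have := pullback.condition (f := 𝟙 S) (g := i)
    simpa using this
  have h2 : (pullback.fst (𝟙 S) i).base y = i (pullback.snd (𝟙 S) i y) := by
    rw [h1]; rfl
  rw [h2]
  exact h ⟨_, rfl⟩

/-- a closed subset of a finite `S`-scheme with nothing over `S₀` is empty -/
lemma eq_empty_of_isClosed (ha : ClopenLift i) {T : Scheme.{u}} (π : T ⟶ S) [IsFinite π]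
    (C : Set T) (hC : IsClosed C) (h : (pullback.fst π i).base ⁻¹' C = ∅) : C = ∅ := by
  let I := Scheme.IdealSheafData.vanishingIdeal ⟨C, hC⟩
  let c : I.subscheme ⟶ T := I.subschemeι
  have hr : Set.range c = C := by
    rw [I.range_subschemeι, Scheme.IdealSheafData.coe_support_vanishingIdeal]
    rfl
  have hfin : IsFinite (c ≫ π) := inferInstance
  have hemp : IsEmpty ↥(pullback (c ≫ π) i) := by
    refine ⟨fun y => ?_⟩
    let x := (pullback.map (c ≫ π) i π i c (𝟙 _) (𝟙 _) (by simp) (by simp)) y
    have hx : (pullback.fst π i).base x = c (pullback.fst (c ≫ π) i y) := by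
      change (pullback.map (c ≫ π) i π i c (𝟙 _) (𝟙 _) (by simp) (by simp) ≫ pullback.fst π i) y = _
      rw [pullback.lift_fst]; rfl
    have hx2 : x ∈ (pullback.fst π i).base ⁻¹' C := by
      rw [Set.mem_preimage, hx, ← hr]
      exact ⟨_, rfl⟩
    rw [h] at hx2
    exact hx2
  have := isEmpty_of_isEmpty_pullback ha (c ≫ π)
  rw [← hr]
  exact Set.range_eq_empty _

/-- an open immersion with full range is an isomorphism -/
lemma isIso_of_range_eq_univ {X Y : Scheme.{u}} (e : X ⟶ Y) [IsOpenImmersion e]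
    (h : Set.range e = Set.univ) : IsIso e :=
  isIso_of_isOpenImmersion_of_opensRange_eq_top e (TopologicalSpace.Opens.ext (by simpa using h))

/-- uniqueness of sections of an étale separated morphism extending a given one over `S₀` -/
lemma section_unique (ha : ClopenLift i) {S' : Scheme.{u}} (g : S' ⟶ S) [Etale g] [IsSeparated g]
    (u u' : S ⟶ S') (hu : u ≫ g = 𝟙 S) (hu' : u' ≫ g = 𝟙 S) (h : i ≫ u = i ≫ u') : u = u' := by
  let v : S ⟶ pullback g g := pullback.lift u u' (by rw [hu, hu'])
  let e := pullback.snd (pullback.diagonal g) v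
  have he1 : IsOpenImmersion e := inferInstance
  have he2 : IsClosedImmersion e := inferInstance
  have hr : Set.range e = Set.univ := by
    refine eq_univ_of_range_subset ha _
      ⟨e.isClosedEmbedding.isClosed_range, e.isOpenEmbedding.isOpen_range⟩ ?_
    rintro _ ⟨s, rfl⟩
    rw [Scheme.Pullback.range_snd]
    refine ⟨(i ≫ u) s, ?_⟩
    have h3 : i ≫ v = (i ≫ u) ≫ pullback.diagonal g := by
      apply pullback.hom_ext
      · rw [Category.assoc, pullback.lift_fst, Category.assoc, pullback.diagonal_fst,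
          Category.comp_id]
      · rw [Category.assoc, pullback.lift_snd, Category.assoc, pullback.diagonal_snd,
          Category.comp_id, h]
    change ((i ≫ u) ≫ pullback.diagonal g) s = (i ≫ v) s
    rw [h3]
  have : IsIso e := isIso_of_range_eq_univ e hr
  rw [← cancel_epi e]
  have hc := pullback.condition (f := pullback.diagonal g) (g := v)
  have h1 := congr($hc ≫ pullback.fst g g)
  have h2 := congr($hc ≫ pullback.snd g g)
  simp only [Category.assoc, pullback.diagonal_fst, pullback.diagonal_snd, Category.comp_id, v,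
    pullback.lift_fst, pullback.lift_snd] at h1 h2
  rw [← h1, ← h2]

/-- a finite étale `S`-scheme through which `S₀` factors is surjective onto `S` -/
lemma surjective_of_section (ha : ClopenLift i) {Z : Scheme.{u}} (p : Z ⟶ S) [IsFinite p]
    [Etale p] (σ : S₀ ⟶ Z) (hσ : σ ≫ p = i) : Surjective p := by
  have hr : Set.range p = Set.univ := by
    refine eq_univ_of_range_subset ha _ ⟨p.isClosedMap.isClosed_range, p.isOpenMap.isOpen_range⟩ ?_
    rintro _ ⟨s, rfl⟩
    exact ⟨σ s, by rw [← hσ]; rfl⟩
  exact ⟨Set.range_eq_univ.mp hr⟩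

/-- a finite étale `S`-scheme whose restriction to `S₀` is a monomorphism is a monomorphism -/
lemma mono_of_mono_snd (ha : ClopenLift i) {Z : Scheme.{u}} (p : Z ⟶ S) [IsFinite p]
    [Etale p] [Mono (pullback.snd p i)] : Mono p := by
  rw [← pullback.isIso_diagonal_iff]
  let q : pullback p p ⟶ S := pullback.fst p p ≫ p
  have hq : IsFinite q := inferInstance
  have hΔo : IsOpenImmersion (pullback.diagonal p) := inferInstance
  have hΔc : IsClosedImmersion (pullback.diagonal p) := inferInstance
  refine isIso_of_range_eq_univ _ (eq_univ_of_preimage_eq_univ ha q _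
    ⟨(pullback.diagonal p).isClosedEmbedding.isClosed_range,
      (pullback.diagonal p).isOpenEmbedding.isOpen_range⟩ ?_)
  let w : pullback q i ⟶ pullback p p := pullback.fst q i
  have hw : w ≫ pullback.fst p p ≫ p = pullback.snd q i ≫ i := pullback.condition
  have hw' : w ≫ pullback.snd p p ≫ p = pullback.snd q i ≫ i := by
    rw [← pullback.condition (f := p) (g := p)]; exact hw
  let a₁ : pullback q i ⟶ pullback p i :=
    pullback.lift (w ≫ pullback.fst p p) (pullback.snd q i) (by rw [Category.assoc, hw])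
  let a₂ : pullback q i ⟶ pullback p i :=
    pullback.lift (w ≫ pullback.snd p p) (pullback.snd q i) (by rw [Category.assoc, hw'])
  have ha12 : a₁ = a₂ := by
    rw [← cancel_mono (pullback.snd p i)]
    simp only [a₁, a₂, pullback.lift_snd]
  have hfs : w ≫ pullback.fst p p = w ≫ pullback.snd p p := by
    have h1 : a₁ ≫ pullback.fst p i = w ≫ pullback.fst p p := pullback.lift_fst _ _ _
    have h2 : a₂ ≫ pullback.fst p i = w ≫ pullback.snd p p := pullback.lift_fst _ _ _
    rw [← h1, ← h2, ha12]
  have hwΔ : w = (w ≫ pullback.fst p p) ≫ pullback.diagonal p := by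
    apply pullback.hom_ext
    · rw [Category.assoc, pullback.diagonal_fst, Category.comp_id]
    · rw [Category.assoc, pullback.diagonal_snd, Category.comp_id, hfs]
  ext y
  simp only [Set.mem_preimage, Set.mem_univ, iff_true]
  refine ⟨(w ≫ pullback.fst p p) y, ?_⟩
  change ((w ≫ pullback.fst p p) ≫ pullback.diagonal p) y = w y
  rw [← hwΔ]

/-- a finite étale `S`-scheme through which `S₀` factors and whose restriction to `S₀` is a
monomorphism is isomorphic to `S` -/
lemma isIso_of_section_of_mono (ha : ClopenLift i) {Z : Scheme.{u}} (p : Z ⟶ S) [IsFinite p]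
    [Etale p] [Mono (pullback.snd p i)] (σ : S₀ ⟶ Z) (hσ : σ ≫ p = i) : IsIso p := by
  have := surjective_of_section ha p σ hσ
  have := mono_of_mono_snd ha p
  exact Flat.isIso_of_surjective_of_mono p

/-- étale morphisms are locally quasi-finite -/
theorem locallyQuasiFinite_of_etale {X S : Scheme.{u}} (f : X ⟶ S) [Etale f] :
    LocallyQuasiFinite f := by
  constructor
  intro U hU V hV e
  have h1 := f.etale_appLE hU hV e
  algebraize [(f.appLE U V e).hom]
  have : Algebra.Etale Γ(S, U) Γ(X, V) := h1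
  exact RingHom.quasiFinite_algebraMap.mpr inferInstance

/-- a quasi-compact open neighbourhood of the image of `S₀` -/
lemma exists_compact_open [IsClosedImmersion i] [CompactSpace ↥S] {S' : Scheme.{u}}
    (σ₀ : S₀ ⟶ S') : ∃ W : S'.Opens, IsCompact (W : Set S') ∧ Set.range σ₀ ⊆ W := by
  have : CompactSpace S₀ := i.isClosedEmbedding.compactSpace
  obtain ⟨W, hWc, hWo, hKW, -⟩ := PrespectralSpace.exists_isCompact_and_isOpen_between
    (isCompact_range σ₀.continuous) isOpen_univ (Set.subset_univ _)
  exact ⟨⟨W, hWo⟩, hWc, hKW⟩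

/-- existence of a section of an étale separated morphism extending a given one over `S₀` -/
theorem exists_section [IsClosedImmersion i] [CompactSpace ↥S] [QuasiSeparatedSpace ↥S]
    (ha : ClopenLift i) {S' : Scheme.{u}} (g : S' ⟶ S) [Etale g] [IsSeparated g]
    (σ₀ : S₀ ⟶ S') (hσ₀ : σ₀ ≫ g = i) : ∃ u : S ⟶ S', u ≫ g = 𝟙 S ∧ i ≫ u = σ₀ := by
  obtain ⟨W, hWc, hσW⟩ := exists_compact_open (i := i) σ₀
  have : CompactSpace W := isCompact_iff_compactSpace.mp hWc
  let gW : W.toScheme ⟶ S := W.ι ≫ g
  have hgWqf : LocallyQuasiFinite gW := locallyQuasiFinite_of_etale gW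
  obtain ⟨T, j, π, hj, hjq, hπ, hjπ⟩ := ZMTFinite.exists_openImmersion_finite_factor gW
  let σW : S₀ ⟶ W := IsOpenImmersion.lift W.ι σ₀ (by simpa using hσW)
  have hσW' : σW ≫ W.ι = σ₀ := IsOpenImmersion.lift_fac _ _ _
  have hσWg : σW ≫ gW = i := by
    simp only [gW]; rw [← Category.assoc, hσW', hσ₀]
  have hσWπ : (σW ≫ j) ≫ π = 𝟙 S₀ ≫ i := by
    rw [Category.assoc, hjπ, Category.id_comp, hσWg]
  let t₀ : S₀ ⟶ pullback π i := pullback.lift (σW ≫ j) (𝟙 S₀) hσWπ
  have ht₀c : IsClosedImmersion t₀ := by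
    have : IsClosedImmersion (t₀ ≫ pullback.snd π i) := by
      rw [pullback.lift_snd]; infer_instance
    exact IsClosedImmersion.of_comp t₀ (pullback.snd π i)
  have ht₀o : IsOpenImmersion t₀ := by
    let t₀W : S₀ ⟶ pullback gW i := pullback.lift σW (𝟙 S₀) (by rw [Category.id_comp, hσWg])
    have h1 : Etale (t₀W ≫ pullback.snd gW i) := by rw [pullback.lift_snd]; infer_instance
    have h2 : Etale t₀W := MorphismProperty.of_postcomp (W := @Etale) (W' := @Etale) t₀W
      (pullback.snd gW i) inferInstance h1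
    have h3 : Mono t₀W := by
      have : Mono (t₀W ≫ pullback.snd gW i) := by rw [pullback.lift_snd]; infer_instance
      exact mono_of_mono t₀W (pullback.snd gW i)
    have h4 : IsOpenImmersion t₀W := IsOpenImmersion.of_flat_of_mono t₀W
    have h5 : t₀ = t₀W ≫ pullback.map gW i π i j (𝟙 _) (𝟙 _) (by rw [Category.comp_id, hjπ])
        (by rw [Category.comp_id, Category.id_comp]) := by
      apply pullback.hom_ext
      · rw [Category.assoc, pullback.lift_fst, pullback.lift_fst, ← Category.assoc,
          pullback.lift_fst]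
      · rw [Category.assoc, pullback.lift_snd, pullback.lift_snd, ← Category.assoc,
          pullback.lift_snd, Category.comp_id]
    rw [h5]; infer_instance
  let V : Set ↥(pullback π i) := Set.range t₀
  have hV : IsClopen V := ⟨t₀.isClosedEmbedding.isClosed_range, t₀.isOpenEmbedding.isOpen_range⟩
  obtain ⟨Z, ⟨hZ, hZV⟩, -⟩ := ha T π hπ V hV
  have hfst_t₀ : ∀ s, (pullback.fst π i).base (t₀ s) = j (σW s) := by
    intro s
    change (t₀ ≫ pullback.fst π i) s = _
    rw [pullback.lift_fst]; rfl
  -- `Z` lies in the image of `W`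
  have hZj : Z ⊆ Set.range j := by
    have h0 := eq_empty_of_isClosed ha π (Z \ Set.range j)
      (hZ.isClosed.sdiff j.isOpenEmbedding.isOpen_range) ?_
    · rwa [Set.sdiff_eq_empty] at h0
    · ext x
      simp only [Set.mem_preimage, Set.mem_sdiff, Set.mem_empty_iff_false, iff_false, not_and,
        not_not]
      intro hx
      have hxV : x ∈ V := by rw [← hZV]; exact hx
      obtain ⟨s, rfl⟩ := hxV
      exact ⟨σW s, (hfst_t₀ s).symm⟩
  let Zo : W.toScheme.Opens := j ⁻¹ᵁ ⟨Z, hZ.isOpen⟩
  let k : Zo.toScheme ⟶ T := Zo.ι ≫ j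
  have hk : Set.range k = Z := by
    rw [Scheme.Hom.comp_base, TopCat.coe_comp, Set.range_comp, Scheme.Opens.range_ι]
    change j '' (j ⁻¹' Z) = Z
    rw [Set.image_preimage_eq_inter_range, Set.inter_eq_left.mpr hZj]
  have hkc : IsClosedImmersion k := IsClosedImmersion.of_isPreimmersion k (hk ▸ hZ.isClosed)
  let p : Zo.toScheme ⟶ S := Zo.ι ≫ gW
  have hp : p = k ≫ π := by simp only [p, k, Category.assoc, hjπ]
  have hpfin : IsFinite p := by rw [hp]; infer_instance
  have hpet : Etale p := inferInstance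
  have hσWZ : Set.range σW ⊆ Zo := by
    rintro _ ⟨s, rfl⟩
    change j (σW s) ∈ Z
    rw [← hfst_t₀ s]
    have h1 : t₀ s ∈ V := ⟨s, rfl⟩
    rw [← hZV] at h1
    exact h1
  let σZ : S₀ ⟶ Zo := IsOpenImmersion.lift Zo.ι σW (by simpa using hσWZ)
  have hσZ : σZ ≫ Zo.ι = σW := IsOpenImmersion.lift_fac _ _ _
  have hσZp : σZ ≫ p = i := by
    simp only [p]; rw [← Category.assoc, hσZ, hσWg]
  have hmono : Mono (pullback.snd p i) := by
    let e : pullback p i ⟶ pullback π i := pullback.map p i π i k (𝟙 _) (𝟙 _)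
      (by rw [Category.comp_id, hp]) (by rw [Category.comp_id, Category.id_comp])
    have he : IsOpenImmersion e := inferInstance
    have hre : Set.range e ⊆ Set.range t₀ := by
      rintro _ ⟨y, rfl⟩
      change e y ∈ V
      rw [← hZV, Set.mem_preimage]
      have h1 : (pullback.fst π i).base (e y) = k (pullback.fst p i y) := by
        change (e ≫ pullback.fst π i) y = _
        rw [pullback.lift_fst]; rfl
      rw [h1, ← hk]
      exact ⟨_, rfl⟩
    let m : pullback p i ⟶ S₀ := IsOpenImmersion.lift t₀ e hre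
    have hm : m ≫ t₀ = e := IsOpenImmersion.lift_fac _ _ _
    have hm' : m = pullback.snd p i := by
      have h1 := congr($hm ≫ pullback.snd π i)
      rw [Category.assoc, pullback.lift_snd, Category.comp_id, pullback.lift_snd,
        Category.comp_id] at h1
      exact h1
    rw [← hm']
    have : Mono (m ≫ t₀) := by rw [hm]; infer_instance
    exact mono_of_mono m t₀
  have hiso : IsIso p := isIso_of_section_of_mono ha p σZ hσZp
  refine ⟨inv p ≫ Zo.ι ≫ W.ι, ?_, ?_⟩
  · rw [Category.assoc, Category.assoc]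
    change inv p ≫ p = _
    rw [IsIso.inv_hom_id]
  · have h1 : i ≫ inv p = σZ := by
      rw [← hσZp, Category.assoc, IsIso.hom_inv_id, Category.comp_id]
    rw [← Category.assoc, h1, ← Category.assoc, hσZ, hσW']

/-- **Sections lift when clopens lift along finite morphisms.** -/
theorem existsUnique_section [IsClosedImmersion i] [CompactSpace ↥S] [QuasiSeparatedSpace ↥S]
    (ha : ClopenLift i) {S' : Scheme.{u}} (g : S' ⟶ S) [Etale g] [IsSeparated g]
    (u₀ : S₀ ⟶ pullback g i) (hu₀ : u₀ ≫ pullback.snd g i = 𝟙 S₀) :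
    ∃! u : S ⟶ S', u ≫ g = 𝟙 S ∧ i ≫ u = u₀ ≫ pullback.fst g i := by
  have hσ₀ : (u₀ ≫ pullback.fst g i) ≫ g = i := by
    rw [Category.assoc, pullback.condition, ← Category.assoc, hu₀, Category.id_comp]
  obtain ⟨u, hu1, hu2⟩ := exists_section ha g (u₀ ≫ pullback.fst g i) hσ₀
  refine ⟨u, ⟨hu1, hu2⟩, fun u' hu' => ?_⟩
  exact section_unique ha g u' u hu'.1 hu1 (hu'.2.trans hu2.symm)

end Groth.Agent.Lib.Seat20.HenselSections
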