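import Mathlib
import Groth.Agent.Lib.Seat20ZMTFinite

set_option autoImplicit false
universe u
open CategoryTheory Limits AlgebraicGeometry TopologicalSpace Opposite

namespace Groth.Agent.Lib.Seat20.ImmFinFactor

open Groth.Agent.Lib.Seat20.ZMTFinite

variable {X Y : Scheme.{u}}

/-- A quasi-compact immersion with trivial kernel is an open immersion. -/
theorem isOpenImmersion_of_isImmersion_of_ker_eq_bot {X N : Scheme.{u}} (j : X ⟶ N)
    [IsImmersion j] [QuasiCompact j] (h : j.ker = ⊥) : IsOpenImmersion j := by
  have h1 : IsIso j.imageι := by
    simpa [Scheme.Hom.imageι, Scheme.Hom.image] using h ▸ inferInstance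
  rw [← j.toImage_imageι]
  infer_instance

/-- sections of the relative normalization inject into the sections of the source -/
theorem resJ_toNormalization_injective (f : X ⟶ Y) [QuasiCompact f] [QuasiSeparated f]
    (U : Y.Opens) (hU : IsAffineOpen U) :
    Function.Injective (resJ f.toNormalization f.fromNormalization U) := by
  let := (f.app U).hom.toAlgebra
  have h3 := f.toNormalization_app_preimage ⟨U, hU⟩
  have h4 : resJ f.toNormalization f.fromNormalization U =
      ((f.normalizationObjIso hU).hom ≫
        CommRingCat.ofHom (integralClosure ↑Γ(Y, U) ↑Γ(X, f ⁻¹ᵁ U)).val.toRingHom ≫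
        X.presheaf.map (eqToHom (by simp)).op).hom := by
    rw [resJ]
    exact congrArg CommRingCat.Hom.hom h3
  rw [h4, CommRingCat.hom_comp, CommRingCat.hom_comp, RingHom.coe_comp, RingHom.coe_comp]
  refine Function.Injective.comp (Function.Injective.comp ?_ ?_) ?_
  · exact (ConcreteCategory.bijective_of_isIso (X.presheaf.map (eqToHom _).op)).1
  · exact Subtype.val_injective
  · exact (ConcreteCategory.bijective_of_isIso (f.normalizationObjIso hU).hom).1

/-- A separated finite type morphism to a qcqs scheme factors as an immersion followed by a
finite morphism iff the map to the relative normalization is an immersion. Moreover in that case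
one may choose the immersion to be a quasi-compact open immersion. -/
theorem exists_immersion_finite_fac_iff (f : X ⟶ Y)
    [CompactSpace Y] [QuasiSeparatedSpace Y] [QuasiSeparated f] [LocallyOfFiniteType f]
    [QuasiCompact f] :
    (∃ (Y' : Scheme.{u}) (f' : X ⟶ Y') (u : Y' ⟶ Y), IsImmersion f' ∧ IsFinite u ∧ f' ≫ u = f) ↔
      IsImmersion f.toNormalization := by
  constructor
  · rintro ⟨Y', f', u, hf', hu, hfu⟩
    have : IsIntegralHom u := inferInstance
    have h1 : f.toNormalization ≫ f.normalizationDesc f' u hfu.symm = f' :=
      f.toNormalization_normalizationDesc f' u hfu.symm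
    have : IsImmersion (f.toNormalization ≫ f.normalizationDesc f' u hfu.symm) := by
      rw [h1]; exact hf'
    exact IsImmersion.of_comp f.toNormalization (f.normalizationDesc f' u hfu.symm)
  · intro hj
    have : IsOpenImmersion f.toNormalization :=
      isOpenImmersion_of_isImmersion_of_ker_eq_bot _ f.ker_toNormalization
    have w : f.toNormalization ≫ f.fromNormalization = f := f.toNormalization_fromNormalization
    have h1 : QuasiCompact (f.toNormalization ≫ f.fromNormalization) := by rw [w]; infer_instance
    have h2 : LocallyOfFiniteType (f.toNormalization ≫ f.fromNormalization) := by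
      rw [w]; infer_instance
    obtain ⟨T, i, p, hi, hiq, hp, hip⟩ :=
      exists_finite_factor_of_integral f.toNormalization f.fromNormalization
        (resJ_toNormalization_injective f)
    exact ⟨T, i, p, inferInstance, hp, hip.trans w⟩

end Groth.Agent.Lib.Seat20.ImmFinFactor
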