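import Mathlib
import Groth.Prelude.Def_ModSite
import Groth.Agent.Lib.Helper21Dual12

open CategoryTheory MonoidalCategory Opposite Limits

universe u

namespace Groth.Agent.Lib.Seat20.InvMod

open Groth.Agent.Lib.Helper21.ModTensor Groth.Agent.Lib.Helper21.ModTensor2
  Groth.Agent.Lib.Helper21.ModTensor3 Groth.Agent.Lib.Helper21.ModTensor4
  Groth.Agent.Lib.Helper21.ModTensor5
  Groth.Agent.Lib.Helper21.ModTensor6 Groth.Agent.Lib.Helper21.ModRestr
  Groth.Agent.Lib.Helper21.LocFact Groth.Agent.Lib.Helper21.RestrExact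
  Groth.Agent.Lib.Helper21.Dual

attribute [local instance] Groth.Agent.Lib.Helper21.ExtShDelta.hasSheafHom

section general

variable {A B : Type*} [Category A] [Category B]

/-- adjuncts for two right adjoints of the same functor -/
theorem homEquiv_comp_rightAdjointUniq {F : A ⥤ B} {G G' : B ⥤ A} (adj1 : F ⊣ G) (adj2 : F ⊣ G')
    {X : A} {Y : B} (g : F.obj X ⟶ Y) :
    adj1.homEquiv X Y g ≫ (adj1.rightAdjointUniq adj2).hom.app Y = adj2.homEquiv X Y g := by
  rw [Adjunction.homEquiv_unit, Adjunction.homEquiv_unit, Category.assoc,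
    (adj1.rightAdjointUniq adj2).hom.naturality g, ← Category.assoc,
    Adjunction.unit_rightAdjointUniq_hom_app]

end general

variable {C : Type u} [SmallCategory C] {J : GrothendieckTopology C} (O : Sheaf J CommRingCat.{u})

/-- `- ⊗ O ≅ id` -/
noncomputable def tRUnitIso : tR O (ModSite.unit O) ≅ 𝟭 (ModSite.Mod O) :=
  NatIso.ofComponents (fun A => rU O A) (fun f => rU_nat O f)

/-- a perfect pairing `D ⊗ E ⟶ O` with `E ≅ O` is an isomorphism -/
theorem isIso_of_perfect_of_iso_unit {D E : ModSite.Mod O} (e : ModSite.unit O ≅ E)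
    (ev : ((ModSite.tensorBi O).obj D).obj E ⟶ ModSite.unit O)
    (hperf : IsIso ((ModSite.sheafHomAdj E).homEquiv D (ModSite.unit O) ev)) : IsIso ev := by
  let α : tR O E ≅ 𝟭 (ModSite.Mod O) := (ModSite.tensorBi O).flip.mapIso e.symm ≪≫ tRUnitIso O
  let adj' : 𝟭 (ModSite.Mod O) ⊣ ModSite.sheafHom E := (ModSite.sheafHomAdj E).ofNatIsoLeft α
  let g : D ⟶ ModSite.unit O := α.inv.app D ≫ ev
  have h1 : adj'.homEquiv D (ModSite.unit O) g =
      (ModSite.sheafHomAdj E).homEquiv D (ModSite.unit O) ev := by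
    rw [Adjunction.homEquiv_ofNatIsoLeft_apply]
    congr 1
    exact Iso.hom_inv_id_app_assoc α D ev
  have h2 := homEquiv_comp_rightAdjointUniq adj' (Adjunction.id (C := ModSite.Mod O)) g
  have h3 : (Adjunction.id (C := ModSite.Mod O)).homEquiv D (ModSite.unit O) g = g := by
    rw [Adjunction.homEquiv_unit]
    exact (Category.id_comp _)
  rw [h3, h1] at h2
  have hg : IsIso g := by
    rw [← h2]
    infer_instance
  have hev : ev = α.hom.app D ≫ g := (Iso.hom_inv_id_app_assoc α D ev).symm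
  rw [hev]
  infer_instance

variable {O}

/-- locally isomorphic to the structure sheaf -/
def IsLocTriv (E : ModSite.Mod O) : Prop :=
  ∃ (K : Type u) (X : K → C), J.CoversTop X ∧
    ∀ k, Nonempty (ModSite.unit (O.over (X k)) ≅ (ModSite.restr O (X k)).obj E)

/-- a perfect pairing `D ⊗ E ⟶ O` with `E` locally trivial is an isomorphism -/
theorem isIso_of_perfect_of_isLocTriv {D E : ModSite.Mod O} (hE : IsLocTriv E)
    (ev : ((ModSite.tensorBi O).obj D).obj E ⟶ ModSite.unit O)
    (hperf : IsIso ((ModSite.sheafHomAdj E).homEquiv D (ModSite.unit O) ev)) : IsIso ev := by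
  obtain ⟨K, X, hX, h⟩ := hE
  refine Groth.Agent.Lib.Helper21.ModLocalIso.isIso_of_isIso_restr O X hX ev (fun k => ?_)
  obtain ⟨e⟩ := h k
  have h1 : IsIso (evRes O (X k) (D := D) (E := E) ev) :=
    isIso_of_perfect_of_iso_unit (O.over (X k)) e _ (isIso_adjunct_evRes O (X k) ev hperf)
  have h2 : (ModSite.restr O (X k)).map ev =
      (μP O (X k) ((fgt O).obj D) ((fgt O).obj E)).hom ≫ evRes O (X k) (D := D) (E := E) ev := by
    exact (Iso.hom_inv_id_assoc (μP O (X k) ((fgt O).obj D) ((fgt O).obj E)) _).symm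
  rw [h2]
  exact IsIso.comp_isIso' (Iso.isIso_hom _) h1

/-- the inverse of a locally trivial module: `E^∨ ⊗ E ≅ O` -/
theorem isIso_evStd_of_isLocTriv (E : ModSite.Mod O) (hE : IsLocTriv E) : IsIso (evStd E) :=
  isIso_of_perfect_of_isLocTriv hE (evStd E) (hperf_std E)

end Groth.Agent.Lib.Seat20.InvMod
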