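import Mathlib
import Groth.Prelude.Def_ModSite
import Groth.Prelude.Def_Pic
import Groth.Prelude.Def_CohB1
import Groth.Agent.Lib.Helper21Dual9
import Groth.Agent.Lib.Seat20InvMod

open CategoryTheory MonoidalCategory Opposite Limits AlgebraicGeometry

universe u

namespace Groth.Agent.Lib.Seat20.InvMod

open Groth.Agent.Lib.Helper21.Dual

attribute [local instance] Groth.Agent.Lib.Helper21.ExtShDelta.hasSheafHom

variable {X : Scheme.{u}}

/-- a trivialization of `L` on `U` gives one of `L.over U`. -/
noncomputable def overIsoUnit (L : X.Modules) (U : X.Opens)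
    (e : L.restrict U.ι ≅ Coh.structureModule (↑U)) :
    SheafOfModules.unit.{u} (X.ringCatSheaf.over U) ≅ (SheafOfModules.overFunctor X.ringCatSheaf U).obj L := by
  let Φ : SheafOfModules.{u} (X.ringCatSheaf.over U) ⥤ (↑U : Scheme.{u}).Modules :=
    (Scheme.Modules.overEquiv U).functor
  let i1 : Φ.obj ((SheafOfModules.overFunctor X.ringCatSheaf U).obj L) ≅ L.restrict U.ι :=
    (Scheme.Modules.overFunctorEquiv U).app L
  let i2 : Φ.obj (SheafOfModules.unit.{u} (X.ringCatSheaf.over U)) ≅ Coh.structureModule (↑U) := Iso.refl _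
  exact Φ.preimageIso (i2 ≪≫ e.symm ≪≫ i1.symm)

theorem isLocTriv_of_isInvertible (L : X.Modules) (hL : PicF.IsInvertible L) :
    IsLocTriv (O := X.sheaf) L := by
  choose U hxU he using hL
  exact ⟨X, U, coversTop_of_mem U hxU, fun x => ⟨overIsoUnit L (U x) (he x).some⟩⟩

/-- the inverse of an invertible module -/
theorem exists_inverse (L : X.Modules) (hL : PicF.IsInvertible L) :
    ∃ M : X.Modules, Nonempty (CohB1.tensorMod M L ≅ Coh.structureModule X) := by
  have h := isIso_evStd_of_isLocTriv (O := X.sheaf) L (isLocTriv_of_isInvertible L hL)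
  exact ⟨dual (O := X.sheaf) L, ⟨@asIso _ _ _ _ (evStd (O := X.sheaf) L) h⟩⟩

end Groth.Agent.Lib.Seat20.InvMod
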