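import Mathlib
import Groth.Agent.Lib.Helper23LocGen

set_option autoImplicit false
universe u
open CategoryTheory CategoryTheory.Limits AlgebraicGeometry TopologicalSpace Opposite

namespace Groth.Agent.Lib.Seat20.Untwist
open Groth.Agent.Lib.Helper23.SecTw Groth.Agent.Lib.Helper23.GenLocus Groth.Agent.Lib.Helper6
open Groth.Agent.Lib.Helper23.Extend

variable {X : Scheme.{u}} (M Q : X.Modules) (θ : CohB1.tensorMod M Q ≅ Coh.structureModule X)

theorem bijective_iso_app {A B : X.Modules} (e : A ≅ B) (W : X.Opens) : Function.Bijective (e.hom.app W) := by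
  have hc : IsIso (e.hom.app W) := Scheme.Modules.Hom.isIso_iff_isIso_app.1 inferInstance _
  exact ConcreteCategory.bijective_of_isIso _

/-- the pairing map `m ↦ θ (m ⊗ e)` on sections over `A ≤ W` -/
noncomputable def pair {W : X.Opens} (e : Γ(Q, W)) {A : X.Opens} (hA : A ≤ W) (m : Γ(M, A)) :
    Γ(Coh.structureModule X, A) :=
  θ.hom.app A (tm M Q A m (res Q hA e))

theorem bijective_pair {W : X.Opens} (e : Γ(Q, W)) (he : IsGen Q W e) {A : X.Opens} (hA : A ≤ W) :
    Function.Bijective (pair M Q θ e hA) :=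
  (bijective_iso_app θ A).comp (bijective_tm_of_isGen M Q W e he A hA)

theorem pair_smul {W : X.Opens} (e : Γ(Q, W)) {A : X.Opens} (hA : A ≤ W) (c : Γ(X, A)) (m : Γ(M, A)) :
    pair M Q θ e hA (c • m) = c • pair M Q θ e hA m := by
  unfold pair
  rw [tm_smul_left, Scheme.Modules.Hom.app_smul]

theorem res_pair {W : X.Opens} (e : Γ(Q, W)) {A B : X.Opens} (hA : A ≤ W) (hB : B ≤ A) (m : Γ(M, A)) :
    res (Coh.structureModule X) hB (pair M Q θ e hA m) = pair M Q θ e (hB.trans hA) (res M hB m) := by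
  unfold pair
  have h := app_map θ.hom (homOfLE hB) (tm M Q A m (res Q hA e))
  change θ.hom.app B (res _ hB (tm M Q A m (res Q hA e))) = res _ hB (θ.hom.app A (tm M Q A m (res Q hA e))) at h
  rw [← h, res_tm, res_res]

/-- the generator of `M` dual to a generator `e` of `Q` -/
theorem exists_dualGen {W : X.Opens} (e : Γ(Q, W)) (he : IsGen Q W e) :
    ∃ μ : Γ(M, W), pair M Q θ e le_rfl μ = toS W 1 ∧ IsGen M W μ := by
  obtain ⟨μ, hμ⟩ := (bijective_pair M Q θ e he (le_refl W)).2 (toS W 1)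
  refine ⟨μ, hμ, fun A hA => ?_⟩
  have h1 : (pair M Q θ e hA) ∘ (fun c : Γ(X, A) => c • res M hA μ) = toS A := by
    funext c
    change pair M Q θ e hA (c • res M hA μ) = toS A c
    rw [pair_smul, ← res_pair M Q θ e le_rfl hA μ, hμ]
    have : res (Coh.structureModule X) hA (toS W 1) = toS A 1 := (map_toS (homOfLE hA) 1).trans (by rw [map_one])
    rw [this, smul_toS, mul_one]
  have h2 : Function.Bijective (toS (Y := X) A) := Function.bijective_id
  rw [← h1] at h2
  exact (Function.Bijective.of_comp_iff' (bijective_pair M Q θ e he hA) _).1 h2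

theorem tm_res_self (F : X.Modules) {W : X.Opens} (e : Γ(Q, W)) (f : Γ(F, W)) :
    tm F Q W f (res Q (le_refl W) e) = tm F Q W f e := by
  rw [res_self]

include θ in
/-- **Untwisting**: a global section `σ` of `F ⊗ Q` gives a morphism `M ⟶ F` from the inverse `M` of `Q`,
whose image over an open where `Q` is generated by `e` and `σ = f ⊗ e` contains all multiples of `f`. -/
theorem exists_untwist (hQ : PicF.IsInvertible Q) (F : X.Modules)
    (σ : Coh.structureModule X ⟶ CohB1.tensorMod F Q) :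
    ∃ Φ : M ⟶ F, ∀ (W : X.Opens) (e : Γ(Q, W)) (_ : IsGen Q W e) (f : Γ(F, W)) (_ : tm F Q W f e = sv σ W)
      (A : X.Opens) (hA : A ≤ W) (c : Γ(X, A)), ∃ a : Γ(M, A), Φ.app A a = c • res F hA f := by
  classical
  let I := {p : Σ W : X.Opens, Γ(Q, W) // IsGen Q p.1 p.2}
  let W : I → X.Opens := fun i => i.1.1
  let e : ∀ i : I, Γ(Q, W i) := fun i => i.1.2
  have he : ∀ i : I, IsGen Q (W i) (e i) := fun i => i.2
  have hμex := fun i : I => exists_dualGen M Q θ (e i) (he i)
  choose μ hμ1 hμ2 using hμex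
  have hfex : ∀ i : I, ∃ f : Γ(F, W i), tm F Q (W i) f (e i) = sv σ (W i) := by
    intro i
    obtain ⟨f, hf⟩ := (bijective_tm_of_isGen F Q (W i) (e i) (he i) (W i) le_rfl).2 (sv σ (W i))
    exact ⟨f, by rw [← hf]; exact (tm_res_self Q F (e i) f).symm⟩
  choose f hf using hfex
  have hcov : ∀ x : X, ∃ i : I, x ∈ W i := by
    intro x
    obtain ⟨W₀, e₀, hx, hgen⟩ := exists_gen Q hQ x
    exact ⟨⟨⟨W₀, e₀⟩, hgen⟩, hx⟩
  have hc : ∀ (i j : I) (g : Γ(X, W i ⊓ W j)), res M inf_le_left (μ i) = g • res M inf_le_right (μ j) →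
      res F inf_le_left (f i) = g • res F inf_le_right (f j) := by
    intro i j g hg
    obtain ⟨γ, hγ⟩ := exists_transition' (e i) (he j)
    -- step 1 : g * γ = 1
    have h1 : toS (W i ⊓ W j) (1 : Γ(X, W i ⊓ W j)) = toS (W i ⊓ W j) (g * γ) := by
      have ha : res (Coh.structureModule X) (inf_le_left : W i ⊓ W j ≤ W i) (pair M Q θ (e i) le_rfl (μ i)) =
          toS (W i ⊓ W j) 1 := by
        rw [hμ1]
        exact (map_toS (homOfLE inf_le_left) 1).trans (by rw [map_one])
      have hb : res (Coh.structureModule X) (inf_le_right : W i ⊓ W j ≤ W j) (pair M Q θ (e j) le_rfl (μ j)) =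
          toS (W i ⊓ W j) 1 := by
        rw [hμ1]
        exact (map_toS (homOfLE inf_le_right) 1).trans (by rw [map_one])
      rw [res_pair] at ha hb
      unfold pair at ha hb
      rw [← ha, hg, hγ, tm_smul_left, tm_smul_right, ← mul_smul, Scheme.Modules.Hom.app_smul, hb, smul_toS,
        mul_one]
    have h1' : g * γ = 1 := h1.symm
    -- step 2
    have h2 : tm F Q (W i ⊓ W j) (γ • res F inf_le_left (f i)) (res Q inf_le_right (e j)) =
        tm F Q (W i ⊓ W j) (res F inf_le_right (f j)) (res Q inf_le_right (e j)) := by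
      rw [tm_smul_left, ← tm_smul_right, ← hγ, ← res_tm, ← res_tm, hf, hf, res_sv, res_sv]
    have h3 := (bijective_tm_of_isGen F Q (W j) (e j) (he j) (W i ⊓ W j) inf_le_right).1 h2
    rw [← h3, ← mul_smul, h1', one_smul]
  obtain ⟨Φ, hΦ⟩ := exists_hom_of_frames M F W hcov μ f hμ2 hc
  refine ⟨Φ, fun W₀ e₀ he₀ f₀ hf₀ A hA c => ?_⟩
  let i : I := ⟨⟨W₀, e₀⟩, he₀⟩
  have hfi : f i = f₀ := by
    apply (bijective_tm_of_isGen F Q W₀ e₀ he₀ W₀ le_rfl).1
    change tm F Q W₀ (f i) (res Q (le_refl W₀) e₀) = tm F Q W₀ f₀ (res Q (le_refl W₀) e₀)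
    rw [tm_res_self, tm_res_self, hf₀]
    exact hf i
  refine ⟨c • res M hA (μ i), ?_⟩
  rw [hΦ i A hA c, hfi]

end Groth.Agent.Lib.Seat20.Untwist
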