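import Mathlib
import Groth.Agent.Lib.Helper23LocGen
import Groth.Agent.Lib.Seat20Untwist
import Groth.Agent.Lib.Seat20InvMod2
import Groth.Prelude.Def_KSix

set_option autoImplicit false
universe u
open CategoryTheory CategoryTheory.Limits AlgebraicGeometry TopologicalSpace Opposite

namespace Groth.Agent.Lib.Seat20.NegPow
open Groth.Agent.Lib.Helper23.SecTw Groth.Agent.Lib.Helper23.GenLocus Groth.Agent.Lib.Helper6
open Groth.Agent.Lib.Helper23.Extend Groth.Agent.Lib.Helper23.LocGen Groth.Agent.Lib.Helper23.QCohLocal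
open Groth.Agent.Lib.Helper2.Push Groth.Agent.Lib.Helper23.FinType

variable {X : Scheme.{u}}

/-- `m` is in the image of `p` on sections over `B` -/
def InIm {E F : X.Modules} (p : E ⟶ F) (B : X.Opens) (m : Γ(F, B)) : Prop := ∃ a : Γ(E, B), p.app B a = m

theorem InIm.zero {E F : X.Modules} (p : E ⟶ F) (B : X.Opens) : InIm p B 0 := ⟨0, map_zero _⟩

theorem InIm.add {E F : X.Modules} {p : E ⟶ F} {B : X.Opens} {m m' : Γ(F, B)} (h : InIm p B m) (h' : InIm p B m') :
    InIm p B (m + m') := by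
  obtain ⟨a, ha⟩ := h
  obtain ⟨a', ha'⟩ := h'
  exact ⟨a + a', by rw [map_add, ha, ha']⟩

theorem InIm.smul {E F : X.Modules} {p : E ⟶ F} {B : X.Opens} {m : Γ(F, B)} (c : Γ(X, B)) (h : InIm p B m) :
    InIm p B (c • m) := by
  obtain ⟨a, ha⟩ := h
  exact ⟨c • a, by rw [Scheme.Modules.Hom.app_smul, ha]⟩

theorem InIm.restrict {E F : X.Modules} {p : E ⟶ F} {B B' : X.Opens} (hB : B' ≤ B) {m : Γ(F, B)} (h : InIm p B m) :
    InIm p B' (res F hB m) := by
  obtain ⟨a, ha⟩ := h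
  exact ⟨res E hB a, by rw [← ha]; exact app_map p (homOfLE hB) a⟩

theorem InIm.comp {E' E F : X.Modules} (ι : E' ⟶ E) (p : E ⟶ F) {B : X.Opens} {m : Γ(F, B)}
    (h : InIm (ι ≫ p) B m) : InIm p B m := by
  obtain ⟨a, ha⟩ := h
  exact ⟨ι.app B a, ha⟩

/-- local surjectivity over an affine open on which `F` is generated by finitely many sections all of whose
multiples are in the image -/
theorem locSurj_of_gens {E F : X.Modules} (p : E ⟶ F) {V : X.Opens} (haff : IsAffineOpen V) (hloc : IsLocOn F V)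
    (T : Set Γ(F, V)) (hT : Submodule.span Γ(X, V) T = ⊤)
    (hp : ∀ τ ∈ T, ∀ (A : X.Opens) (hA : A ≤ V) (c : Γ(X, A)), InIm p A (c • res F hA τ))
    (A : X.Opens) (hA : A ≤ V) (t : Γ(F, A)) (y : X) (hy : y ∈ A) :
    ∃ (B : X.Opens) (hB : B ≤ A), y ∈ B ∧ InIm p B (res F hB t) := by
  obtain ⟨f, hfA, hyf⟩ := haff.exists_basicOpen_le (V := A) ⟨y, hy⟩ (hA hy)
  have key : ∀ t₀ ∈ Submodule.span Γ(X, V) T, InIm p (X.basicOpen f) (res F (X.basicOpen_le f) t₀) := by
    intro t₀ h0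
    induction h0 using Submodule.span_induction with
    | mem τ hτ =>
      have := hp τ hτ (X.basicOpen f) (X.basicOpen_le f) 1
      rwa [one_smul] at this
    | zero => rw [res_zero]; exact InIm.zero _ _
    | add x y _ _ hx hy => rw [res_add']; exact hx.add hy
    | smul r x _ hx => rw [res_smul]; exact hx.smul _
  obtain ⟨n, t₀, ht₀⟩ := hloc.exists_extension f (res F hfA t)
  refine ⟨X.basicOpen f, hfA, hyf, ?_⟩
  have hunit : IsUnit (resf (X.basicOpen_le f) f) := RingedSpace.isUnit_res_basicOpen _ f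
  obtain ⟨u, hu⟩ := hunit.pow n
  have h1 : res F hfA t = (↑u⁻¹ : Γ(X, X.basicOpen f)) • res F (X.basicOpen_le f) t₀ := by
    change res F (X.basicOpen_le f) t₀ = resf (X.basicOpen_le f) f ^ n • res F hfA t at ht₀
    rw [ht₀, ← hu, ← mul_smul, Units.inv_mul, one_smul]
  rw [h1]
  exact InIm.smul _ (key t₀ (by rw [hT]; trivial))

/-- on an affine `X_s`: maps from a negative power of `P` whose images contain all multiples of a finite generating
family of `F` over `X_s` -/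
theorem exists_chart_maps [CompactSpace X] [QuasiSeparatedSpace X] (P : X.Modules) (hP : PicF.IsInvertible P)
    (s : Coh.structureModule X ⟶ P) (haff : IsAffineOpen (CohB1.genLocus P s))
    (F : X.Modules) [F.IsQuasicoherent] [SheafOfModules.IsFiniteType (R := X.ringCatSheaf) F] :
    ∃ (N : ℕ) (_ : 0 < N) (M : X.Modules)
      (_ : Nonempty (CohB1.tensorMod M (CohB1.tensorPow P N) ≅ Coh.structureModule X))
      (T : Finset Γ(F, CohB1.genLocus P s)) (Φ : T → (M ⟶ F)),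
      Submodule.span Γ(X, CohB1.genLocus P s) (T : Set Γ(F, CohB1.genLocus P s)) = ⊤ ∧
      ∀ τ : T, ∀ (A : X.Opens) (hA : A ≤ CohB1.genLocus P s) (c : Γ(X, A)),
        InIm (Φ τ) A (c • res F hA τ.1) := by
  classical
  have hfin : Module.Finite Γ(X, CohB1.genLocus P s) Γ(F, CohB1.genLocus P s) := finite_of_isFiniteType F haff
  obtain ⟨T, hT⟩ := hfin.fg_top
  have hext := fun τ : Γ(F, CohB1.genLocus P s) => main_eventually X P hP s F τ
  choose n₀ hn₀ using hext
  obtain ⟨N, hN1, hN2⟩ : ∃ N : ℕ, 0 < N ∧ T.sup n₀ ≤ N := ⟨T.sup n₀ + 1, Nat.succ_pos _, Nat.le_succ _⟩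
  have hQ := isInvertible_tensorPow hP N
  obtain ⟨M, ⟨θ⟩⟩ := Groth.Agent.Lib.Seat20.InvMod.exists_inverse (CohB1.tensorPow P N) hQ
  have hgen : IsGen (CohB1.tensorPow P N) (CohB1.genLocus P s) (pw P _ (sv s _) N) :=
    isGen_pw P _ _ (isGen_sv_genLocus P s) N
  have hΦ : ∀ τ : T, ∃ Φ : M ⟶ F, ∀ (A : X.Opens) (hA : A ≤ CohB1.genLocus P s) (c : Γ(X, A)),
      InIm Φ A (c • res F hA τ.1) := by
    intro τ
    obtain ⟨t', ht'⟩ := hn₀ τ.1 N ((Finset.le_sup τ.2).trans hN2)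
    obtain ⟨Φ, hΦ⟩ := Groth.Agent.Lib.Seat20.Untwist.exists_untwist M (CohB1.tensorPow P N) θ hQ F
      (secHom _ t')
    refine ⟨Φ, fun A hA c => ?_⟩
    refine hΦ (CohB1.genLocus P s) (pw P _ (sv s _) N) hgen τ.1 ?_ A hA c
    rw [sv_secHom, ht']
    rfl
  choose Φ hΦ' using hΦ
  exact ⟨N, hN1, M, ⟨θ⟩, T, Φ, hT, hΦ'⟩

/-- on a quasi-compact quasi-separated scheme covered by affine opens `X_s` (`s` a section of an invertible `P`),
every quasi-coherent module of finite type is a quotient of a finite direct sum of inverses of powers of such `P` -/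
theorem exists_epi_of_charts [CompactSpace X] [QuasiSeparatedSpace X]
    (F : X.Modules) [F.IsQuasicoherent] [SheafOfModules.IsFiniteType (R := X.ringCatSheaf) F]
    (Good : X.Modules → Prop)
    (h : ∀ x : X, ∃ (P : X.Modules) (_ : PicF.IsInvertible P) (s : Coh.structureModule X ⟶ P),
      x ∈ CohB1.genLocus P s ∧ IsAffineOpen (CohB1.genLocus P s) ∧
      ∀ (N : ℕ) (_ : 0 < N) (M : X.Modules)
        (_ : Nonempty (CohB1.tensorMod M (CohB1.tensorPow P N) ≅ Coh.structureModule X)), Good M) :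
    ∃ (K : Type u) (_ : Fintype K) (N' : K → X.Modules) (π : (⨁ N') ⟶ F), (∀ k, Good (N' k)) ∧ Epi π := by
  classical
  choose P hP s hxs haff hgood using h
  have hc := fun x : X => exists_chart_maps (P x) (hP x) (s x) (haff x) F
  choose N hN M hθ T Φ hT hΦ using hc
  obtain ⟨S, hS⟩ : ∃ S : Finset X, (Set.univ : Set X) ⊆ ⋃ x ∈ S, (CohB1.genLocus (P x) (s x) : Set X) :=
    isCompact_univ.elim_finite_subcover (fun x => (CohB1.genLocus (P x) (s x) : Set X))
      (fun x => (CohB1.genLocus (P x) (s x)).2) (fun x _ => Set.mem_iUnion.2 ⟨x, hxs x⟩)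
  let K := Σ x : S, T x.1
  let N' : K → X.Modules := fun k => M k.1.1
  let Φall : ∀ k : K, N' k ⟶ F := fun k => Φ k.1.1 k.2
  refine ⟨K, inferInstance, N', biproduct.desc Φall, fun k => hgood k.1.1 (N k.1.1) (hN k.1.1) _ (hθ k.1.1), ?_⟩
  apply Groth.Agent.Lib.Helper23.Serre.epi_of_locally_surjective
  intro V' t y hy
  obtain ⟨x, hx⟩ := Set.mem_iUnion.1 (hS (Set.mem_univ y))
  obtain ⟨hxS, hyx⟩ := Set.mem_iUnion.1 hx
  have hloc : IsLocOn F (CohB1.genLocus (P x) (s x)) := IsLocOn.of_isQuasicoherent (haff x) F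
  obtain ⟨B, hB, hyB, a, ha⟩ := locSurj_of_gens (biproduct.desc Φall) (haff x) hloc (T x : Set _) (hT x)
    (fun τ hτ A hA c => by
      have h1 := hΦ x ⟨τ, hτ⟩ A hA c
      have h2 : biproduct.ι N' (⟨⟨x, hxS⟩, ⟨τ, hτ⟩⟩ : K) ≫ biproduct.desc Φall = Φ x ⟨τ, hτ⟩ :=
        biproduct.ι_desc Φall _
      rw [← h2] at h1
      exact InIm.comp _ _ h1)
    (V' ⊓ CohB1.genLocus (P x) (s x)) inf_le_right (res F inf_le_left t) y ⟨hy, hyx⟩
  refine ⟨B, hB.trans inf_le_left, hyB, a, ?_⟩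
  rw [ha, res_res]

end Groth.Agent.Lib.Seat20.NegPow
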