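import Mathlib

/-!
# Seat20: an element of a finitely generated domain over an algebraically closed field having
`n`-th roots for all `n` is a constant
-/

set_option autoImplicit false

open Polynomial

namespace Groth.Agent.Lib.Seat20.NullHtAlg

/-- In a polynomial ring over a domain, a variable times a `p`-th power is not a `p`-th power
(`p ≥ 2`). -/
theorem X_mul_pow_ne_pow {σ R : Type*} [CommRing R] [IsDomain R] (i : σ) (P Q : MvPolynomial σ R)
    (p : ℕ) (hp : 2 ≤ p) (hQ : Q ≠ 0) : P ^ p ≠ MvPolynomial.X i * Q ^ p := by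
  classical
  intro h
  have hP : P ≠ 0 := by
    rintro rfl
    rw [zero_pow (by omega)] at h
    have := (mul_eq_zero.1 h.symm)
    rcases this with h1 | h1
    · exact MvPolynomial.X_ne_zero i h1
    · exact hQ (pow_eq_zero_iff (by omega) |>.1 h1)
  have h1 := congrArg (MvPolynomial.degreeOf i) h
  rw [MvPolynomial.degreeOf_pow_eq i P p hP,
    MvPolynomial.degreeOf_mul_eq (MvPolynomial.X_ne_zero i) (pow_ne_zero p hQ),
    MvPolynomial.degreeOf_pow_eq i Q p hQ, MvPolynomial.degreeOf_X] at h1
  simp only [if_true] at h1
  have h2 := congrArg (· % p) h1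
  simp only [Nat.mul_mod_right, Nat.add_mul_mod_self_left] at h2
  rw [Nat.mod_eq_of_lt (by omega)] at h2
  omega

variable {k K : Type*} [Field k] [Field K] [Algebra k K]

/-- a member of a transcendence basis is not a `p`-th power in the field generated by the
basis. -/
theorem not_pow_of_mem_basis {ι : Type*} (x : ι → K) (hx : AlgebraicIndependent k x) (i : ι)
    (p : ℕ) (hp : 2 ≤ p) (b : K) (hb : b ∈ IntermediateField.adjoin k (Set.range x)) :
    b ^ p ≠ x i := by
  intro h
  rw [IntermediateField.mem_adjoin_range_iff] at hb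
  obtain ⟨P, Q, rfl⟩ := hb
  have hxi : x i ≠ 0 := hx.ne_zero i
  have hQ : MvPolynomial.aeval x Q ≠ 0 := by
    intro hQ0
    rw [hQ0, div_zero, zero_pow (by omega)] at h
    exact hxi h.symm
  have hQ' : Q ≠ 0 := by
    rintro rfl
    exact hQ (map_zero _)
  rw [div_pow, div_eq_iff (pow_ne_zero p hQ)] at h
  have h' : MvPolynomial.aeval x (P ^ p) = MvPolynomial.aeval x (MvPolynomial.X i * Q ^ p) := by
    rw [map_pow, map_mul, map_pow, MvPolynomial.aeval_X, h]
  exact X_mul_pow_ne_pow i P Q p hp hQ' (hx h')

/-- field version of the main algebraic lemma -/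
theorem exists_algebraMap_eq_of_roots_aux {k A K : Type*} [Field k] [IsAlgClosed k] [CommRing A]
    [IsDomain A] [Algebra k A] [Algebra.FiniteType k A] [Field K] [Algebra A K]
    [IsFractionRing A K] [Algebra k K] [IsScalarTower k A K]
    (u : A) (h : ∀ p : ℕ, p.Prime → ∃ w : A, w ^ p = u) : ∃ c : k, algebraMap k A c = u := by
  by_contra hne
  replace hne : ∀ c : k, algebraMap k A c ≠ u := fun c hc => hne ⟨c, hc⟩
  have htr : Transcendental k u := by
    intro halg
    have hint : IsIntegral k u := halg.isIntegral
    have hirr := minpoly.irreducible hint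
    have hdeg := IsAlgClosed.degree_eq_one_of_irreducible k hirr
    obtain ⟨c, hc⟩ := minpoly.mem_range_of_degree_eq_one k u hdeg
    exact hne c hc
  have hinj : Function.Injective (algebraMap A K) := IsFractionRing.injective A K
  have htr' : Transcendental k (algebraMap A K u) := by
    rwa [transcendental_algebraMap_iff hinj]
  have hind : AlgebraicIndepOn k id ({algebraMap A K u} : Set K) :=
    (algebraicIndependent_singleton_iff
      (⟨algebraMap A K u, rfl⟩ : ({algebraMap A K u} : Set K))).2 htr'
  obtain ⟨t, hst, ht⟩ := exists_isTranscendenceBasis_superset hind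
  let M := IntermediateField.adjoin k (Set.range ((↑) : t → K))
  have halgMK : Algebra.IsAlgebraic M K := ht.isAlgebraic_field
  have h1 : Algebra.EssFiniteType k A := inferInstance
  have h2 : Algebra.EssFiniteType A K := Algebra.EssFiniteType.of_isLocalization K (nonZeroDivisors A)
  have h3 : Algebra.EssFiniteType k K := Algebra.EssFiniteType.comp k A K
  have h4 : Algebra.EssFiniteType M K := Algebra.EssFiniteType.of_comp k M K
  have hfin : Module.Finite M K := Algebra.finite_of_essFiniteType_of_isAlgebraic
  obtain ⟨p, hpD, hp⟩ := Nat.exists_infinite_primes (Module.finrank M K + 2)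
  obtain ⟨w, hw⟩ := h p hp
  have hu'M : algebraMap A K u ∈ M :=
    IntermediateField.subset_adjoin _ _ ⟨⟨_, hst rfl⟩, rfl⟩
  let um : M := ⟨_, hu'M⟩
  by_cases hpow : ∃ b : M, b ^ p = um
  · obtain ⟨b, hb⟩ := hpow
    exact not_pow_of_mem_basis ((↑) : t → K) ht.1 ⟨_, hst rfl⟩ p hp.two_le b.1 b.2
      (congrArg Subtype.val hb)
  · replace hpow : ∀ b : M, b ^ p ≠ um := fun b hb => hpow ⟨b, hb⟩
    have hirr : Irreducible (X ^ p - C um) := X_pow_sub_C_irreducible_of_prime hp hpow
    have hroot : aeval (algebraMap A K w) (X ^ p - C um) = 0 := by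
      rw [map_sub, map_pow, aeval_X, aeval_C, ← map_pow, hw]
      exact sub_self _
    have hmin : minpoly M (algebraMap A K w) = X ^ p - C um :=
      (minpoly.eq_of_irreducible_of_monic hirr hroot (monic_X_pow_sub_C _ hp.ne_zero)).symm
    have hle := minpoly.natDegree_le (A := M) (algebraMap A K w)
    rw [hmin, natDegree_X_pow_sub_C] at hle
    omega

/-- **Main algebraic lemma**: in a finitely generated domain over an algebraically closed field, an
element having a `p`-th root for every prime `p` is a constant. -/
theorem exists_algebraMap_eq_of_roots {k A : Type*} [Field k] [IsAlgClosed k] [CommRing A]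
    [IsDomain A] [Algebra k A] [Algebra.FiniteType k A]
    (u : A) (h : ∀ p : ℕ, p.Prime → ∃ w : A, w ^ p = u) : ∃ c : k, algebraMap k A c = u :=
  exists_algebraMap_eq_of_roots_aux (K := FractionRing A) u h

end Groth.Agent.Lib.Seat20.NullHtAlg
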