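import Mathlib
import Groth.Agent.Lib.Seat20AnStdEt
import Groth.Agent.Lib.Seat20AnFull

/-!
# Seat20: algebraic `n`-th roots from continuous logarithms on affine `ℂ`-schemes
-/

set_option autoImplicit false
set_option linter.style.haveILetI false

open AlgebraicGeometry CategoryTheory TopologicalSpace Opposite An Topology Polynomial
open Groth.Agent.Lib.Helper6

namespace Groth.Agent.Lib.Seat20.NullHtRoot

open Groth.Agent.Lib.Seat20

variable {Y : Scheme.{0}} [Y.Over SC]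

theorem isUnit_of_evTop_ne_zero [LocallyOfFiniteType (Y ↘ SC)] (u : Γ(Y, ⊤))
    (h : ∀ y : Pts Y, y.evTop u ≠ 0) : IsUnit u := by
  have hall : ((Y.basicOpen u : Y.Opens) : Set Y) = Set.univ :=
    AnFull.eq_univ_of_forall_pt_mem _ (Y.basicOpen u).2
      (fun a => (mem_basicOpen_iff a ⊤ (Opens.mem_top _) u).2 (h a))
  apply Y.toRingedSpace.isUnit_of_isUnit_germ ⊤ u
  intro x hx
  refine (Y.mem_basicOpen_top u x).1 ?_
  rw [← SetLike.mem_coe, hall]
  trivial

/-- the Kummer standard etale pair `(X ^ n - u, 1)` -/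
noncomputable def kummerPair {R : Type} [CommRing R] [Algebra ℂ R] (u : R) (hu : IsUnit u) (n : ℕ)
    (hn : 0 < n) : StandardEtalePair R where
  f := X ^ n - C u
  monic_f := monic_X_pow_sub_C u hn.ne'
  g := 1
  cond := by
    refine ⟨C (↑hu.unit⁻¹ * algebraMap ℂ R ((n : ℂ)⁻¹)) * X, - C (↑hu.unit⁻¹ : R), 0, ?_⟩
    obtain ⟨m, rfl⟩ := Nat.exists_eq_succ_of_ne_zero hn.ne'
    have h1 : ((m + 1 : ℕ) : R) * algebraMap ℂ R (((m + 1 : ℕ) : ℂ)⁻¹) = 1 := by
      rw [← map_natCast (algebraMap ℂ R), ← map_mul, mul_inv_cancel₀ (by exact_mod_cast hn.ne'),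
        map_one]
    have h2 : u * (↑hu.unit⁻¹ : R) = 1 := hu.mul_val_inv
    rw [derivative_sub, derivative_X_pow, derivative_C, sub_zero, pow_zero]
    have e1 : C ((m + 1 : ℕ) : R) * X ^ m * (C (↑hu.unit⁻¹ * algebraMap ℂ R (((m + 1 : ℕ) : ℂ)⁻¹)) * X)
        = C (↑hu.unit⁻¹ : R) * X ^ (m + 1) := by
      have : C ((m + 1 : ℕ) : R) * C (↑hu.unit⁻¹ * algebraMap ℂ R (((m + 1 : ℕ) : ℂ)⁻¹)) =
          C (↑hu.unit⁻¹ : R) := by
        rw [← C_mul, mul_left_comm, h1, mul_one]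
      calc _ = (C ((m + 1 : ℕ) : R) * C (↑hu.unit⁻¹ * algebraMap ℂ R (((m + 1 : ℕ) : ℂ)⁻¹))) *
            X ^ (m + 1) := by ring
        _ = _ := by rw [this]
    have e2 : (X ^ (m + 1) - C u) * (- C (↑hu.unit⁻¹ : R)) =
        - (C (↑hu.unit⁻¹ : R) * X ^ (m + 1)) + 1 := by
      have : C u * C (↑hu.unit⁻¹ : R) = 1 := by rw [← C_mul, h2, C_1]
      calc _ = - (C (↑hu.unit⁻¹ : R) * X ^ (m + 1)) + C u * C (↑hu.unit⁻¹ : R) := by ring
        _ = _ := by rw [this]
    change C ((m + 1 : ℕ) : R) * X ^ m *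
      (C (↑hu.unit⁻¹ * algebraMap ℂ R (((m + 1 : ℕ) : ℂ)⁻¹)) * X) +
      (X ^ (m + 1) - C u) * (- C (↑hu.unit⁻¹ : R)) = 1
    rw [e1, e2]
    ring

set_option maxHeartbeats 4000000 in
/-- **Algebraic roots from a continuous logarithm**: on an affine scheme locally of finite type
over `ℂ`, a function with a continuous logarithm on the complex points has algebraic `n`-th roots
for all `n ≥ 1`. -/
theorem exists_root [IsAffine Y] [LocallyOfFiniteType (Y ↘ SC)]
    (u : Γ(Y, ⊤)) (g : Pts Y → ℂ) (hg : Continuous g)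
    (hexp : ∀ y, Complex.exp (g y) = y.evTop u)
    (n : ℕ) (hn : 0 < n) : ∃ w : Γ(Y, ⊤), w ^ n = u := by
  have hu : IsUnit u :=
    isUnit_of_evTop_ne_zero u (fun y => by rw [← hexp]; exact Complex.exp_ne_zero _)
  let P : StandardEtalePair Γ(Y, ⊤) := kummerPair u hu n hn
  let Pr : StandardEtalePresentation Γ(Y, ⊤) P.Ring :=
    ⟨P, P.X, P.hasMap_X, by simpa [StandardEtalePair.lift_X_left] using Function.bijective_id⟩
  let φ : Γ(Y, ⊤) ⟶ CommRingCat.of P.Ring := CommRingCat.ofHom (algebraMap Γ(Y, ⊤) P.Ring)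
  let V : Scheme.{0} := Spec (CommRingCat.of P.Ring)
  let v : V ⟶ Y := Spec.map φ ≫ Y.isoSpec.inv
  letI : V.Over SC := ⟨v ≫ (Y ↘ SC)⟩
  haveI : v.IsOver SC := ⟨rfl⟩
  haveI hEt0 : Etale (Spec.map φ) := by
    rw [HasRingHomProperty.Spec_iff (P := @Etale)]
    exact RingHom.etale_algebraMap.2 inferInstance
  haveI hEt : Etale v := inferInstance
  haveI hSep : IsSeparated v := inferInstance
  haveI hVlft : LocallyOfFiniteType (V ↘ SC) := by
    change LocallyOfFiniteType (v ≫ (Y ↘ SC))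
    infer_instance
  let eS : P.Ring ≃+* Γ(V, ⊤) :=
    (Scheme.ΓSpecIso (CommRingCat.of P.Ring)).symm.commRingCatIsoToRingEquiv
  have comm : ∀ r, v.appTop.hom ((RingEquiv.refl Γ(Y, ⊤)) r) = eS (algebraMap Γ(Y, ⊤) P.Ring r) := by
    intro r
    have h1 : v.appTop = φ ≫ (Scheme.ΓSpecIso (CommRingCat.of P.Ring)).inv := by
      rw [Scheme.Hom.comp_appTop, isoSpec_inv_appTop', ← Scheme.ΓSpecIso_inv_naturality]
    rw [h1]
    rfl
  -- the continuous section
  have hsec : ∀ y : Pts Y, ∃ x : Pts V, Pts.map v x = y ∧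
      AnStdEt.τ eS Pr x = Complex.exp (g y / n) := by
    intro y
    rw [AnStdEt.range_Φ v (RingEquiv.refl _) eS comm Pr y (Complex.exp (g y / n))]
    refine ⟨?_, ?_⟩
    · change AnStdEt.pev (RingEquiv.refl _) (1 : Γ(Y, ⊤)[X]) _ ≠ 0
      unfold AnStdEt.pev
      rw [eval₂_one]
      exact one_ne_zero
    · rw [← AnStdEt.pev_f (RingEquiv.refl _) Pr (y, Complex.exp (g y / n))]
      change AnStdEt.pev (RingEquiv.refl _) (X ^ n - C u) _ = 0
      unfold AnStdEt.pev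
      rw [eval₂_sub, eval₂_pow, eval₂_X, eval₂_C]
      change Complex.exp (g y / n) ^ n - y.evTop u = 0
      rw [← Complex.exp_nat_mul, mul_div_cancel₀ _ (by exact_mod_cast hn.ne'), hexp, sub_self]
  choose s hs1 hs2 using hsec
  have hscont : Continuous s := by
    rw [(AnStdEt.isInducing_Φ v (RingEquiv.refl _) eS comm Pr).continuous_iff]
    have : AnStdEt.Φ v eS Pr ∘ s = fun y => (y, Complex.exp (g y / n)) := by
      funext y
      exact Prod.ext (hs1 y) (hs2 y)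
    rw [this]
    exact continuous_id.prodMk (Complex.continuous_exp.comp (hg.div_const _))
  obtain ⟨h, hh, -⟩ := AnFull.exists_hom_of_continuous (𝟙 Y) v s hscont
    (fun a => by rw [hs1, Pts.map_id])
  refine ⟨h.appTop.hom (eS P.X), ?_⟩
  have hX : P.X ^ n = algebraMap Γ(Y, ⊤) P.Ring u := by
    have h0 := P.hasMap_X.1
    change aeval P.X (X ^ n - C u) = 0 at h0
    rw [map_sub, map_pow, aeval_X, aeval_C, sub_eq_zero] at h0
    exact h0
  rw [← map_pow, ← map_pow, hX, ← comm]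
  change (v.appTop ≫ h.appTop).hom u = u
  rw [← Scheme.Hom.comp_appTop, hh]
  simp

end Groth.Agent.Lib.Seat20.NullHtRoot
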