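import Mathlib
import Groth.Agent.Lib.Seat20NullHtAlg
import Groth.Agent.Lib.Seat20NullHtRoot
import Groth.Agent.Lib.Seat20ConnSch2

/-!
# Seat20: a regular function with a continuous logarithm is locally constant on complex points
-/

set_option autoImplicit false
set_option linter.style.haveILetI false

open AlgebraicGeometry CategoryTheory TopologicalSpace Opposite An Topology Polynomial
open Groth.Agent.Lib.Helper6

namespace Groth.Agent.Lib.Seat20.NullHtFin

open Groth.Agent.Lib.Seat20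

variable {Y : Scheme.{0}} [Y.Over SC]

/-- affine case: finitely many values -/
theorem exists_finset_evTop_mem [IsAffine Y] [LocallyOfFiniteType (Y ↘ SC)]
    (u : Γ(Y, ⊤)) (g : Pts Y → ℂ) (hg : Continuous g)
    (hexp : ∀ y, Complex.exp (g y) = y.evTop u) :
    ∃ F : Finset ℂ, ∀ y : Pts Y, y.evTop u ∈ F := by
  classical
  have hft : Algebra.FiniteType ℂ Γ(Y, ⊤) := strHom_finiteType (X := Y)
  have hnoeth : IsNoetherianRing Γ(Y, ⊤) := Algebra.FiniteType.isNoetherianRing ℂ Γ(Y, ⊤)
  have hfin : (minimalPrimes Γ(Y, ⊤)).Finite := minimalPrimes.finite_of_isNoetherianRing _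
  have key : ∀ p ∈ minimalPrimes Γ(Y, ⊤), ∃ c : ℂ, u - algebraMap ℂ Γ(Y, ⊤) c ∈ p := by
    intro p hp
    haveI : p.IsPrime := hp.1.1
    have hftq : Algebra.FiniteType ℂ (Γ(Y, ⊤) ⧸ p) :=
      Algebra.FiniteType.of_surjective (Ideal.Quotient.mkₐ ℂ p) (Ideal.Quotient.mkₐ_surjective ℂ p)
    obtain ⟨c, hc⟩ := NullHtAlg.exists_algebraMap_eq_of_roots (k := ℂ)
      (Ideal.Quotient.mk p u) (fun q hq => by
        obtain ⟨w, hw⟩ := NullHtRoot.exists_root u g hg hexp q hq.pos
        exact ⟨Ideal.Quotient.mk p w, by rw [← map_pow, hw]⟩)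
    refine ⟨c, ?_⟩
    rw [← Ideal.Quotient.eq]
    exact hc.symm
  let c : Ideal Γ(Y, ⊤) → ℂ := fun p =>
    if h : p ∈ minimalPrimes Γ(Y, ⊤) then Classical.choose (key p h) else 0
  have hc : ∀ p (h : p ∈ minimalPrimes Γ(Y, ⊤)), u - algebraMap ℂ Γ(Y, ⊤) (c p) ∈ p := by
    intro p h
    simp only [c, dif_pos h]
    exact Classical.choose_spec (key p h)
  refine ⟨hfin.toFinset.image c, fun y => ?_⟩
  let ev : Γ(Y, ⊤) →+* ℂ := evHom y ⊤ (Opens.mem_top _)
  haveI : (RingHom.ker ev).IsPrime := RingHom.ker_isPrime ev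
  obtain ⟨p, hp, hple⟩ := Ideal.exists_minimalPrimes_le (I := ⊥) (J := RingHom.ker ev) bot_le
  have h1 : ev (u - algebraMap ℂ Γ(Y, ⊤) (c p)) = 0 := hple (hc p hp)
  rw [map_sub, sub_eq_zero] at h1
  have h2 : ev (algebraMap ℂ Γ(Y, ⊤) (c p)) = c p := evTop_strHom y (c p)
  rw [Finset.mem_image]
  refine ⟨p, hfin.mem_toFinset.2 hp, ?_⟩
  rw [← h2, ← h1]
  rfl

variable {X : Scheme.{0}} [X.Over SC]

/-- a regular function with a continuous logarithm is locally constant on complex points -/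
theorem isLocallyConstant_evTop_of_log [LocallyOfFiniteType (X ↘ SC)] (u : Γ(X, ⊤))
    (g : Pts X → ℂ) (hg : Continuous g) (hexp : ∀ x, Complex.exp (g x) = x.evTop u) :
    IsLocallyConstant (fun x : Pts X => x.evTop u) := by
  classical
  have hcont : Continuous (fun x : Pts X => x.evTop u) := by
    have : (fun x : Pts X => x.evTop u) = fun x => Complex.exp (g x) :=
      funext (fun x => (hexp x).symm)
    rw [this]
    exact Complex.continuous_exp.comp hg
  rw [IsLocallyConstant.iff_exists_open]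
  intro x
  obtain ⟨_, ⟨(U : X.Opens), hU : IsAffineOpen U, rfl⟩, hxU, -⟩ :=
    X.isBasis_affineOpens.exists_subset_of_mem_open (Set.mem_univ x.pt) isOpen_univ
  have : IsAffine U.toScheme := hU
  have : LocallyOfFiniteType (U.toScheme ↘ SC) := by
    rw [← Scheme.Opens.ι_comp_over]; infer_instance
  obtain ⟨F, hF⟩ := exists_finset_evTop_mem (Y := U.toScheme) (U.ι.appTop.hom u)
    (g ∘ Pts.map U.ι) (hg.comp (Pts.continuous_map U.ι))
    (fun y => by rw [Function.comp_apply, hexp, evTop_map])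
  have hrange : Set.range (Pts.map U.ι) = Pts.pt ⁻¹' (U : Set X) := by
    rw [range_map_eq_preimage_range, Scheme.Opens.range_ι]
  refine ⟨Pts.pt ⁻¹' (U : Set X) ∩
    (fun x' : Pts X => x'.evTop u) ⁻¹' ((↑(F.erase (x.evTop u)) : Set ℂ)ᶜ), ?_, ?_, ?_⟩
  · exact (Pts.isOpen_preimage_pt U).inter
      ((Finset.finite_toSet _).isClosed.isOpen_compl.preimage hcont)
  · exact ⟨hxU, by simp⟩
  · rintro x' ⟨hx'U, hx'F⟩
    have hx'r : x' ∈ Set.range (Pts.map U.ι) := by rw [hrange]; exact hx'U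
    obtain ⟨y, rfl⟩ := hx'r
    have h1 := hF y
    have h2 : (Pts.map U.ι y).evTop u = y.evTop (U.ι.appTop.hom u) := evTop_map U.ι y u
    rw [← h2] at h1
    by_contra hne
    exact hx'F (Finset.mem_coe.2 (Finset.mem_erase.2 ⟨hne, h1⟩))

/-- **Main result**: on a connected scheme locally of finite type over `ℂ`, a regular function with a
continuous logarithm on complex points takes the same value at all complex points. -/
theorem evTop_eq_of_log [LocallyOfFiniteType (X ↘ SC)] [ConnectedSpace X] (u : Γ(X, ⊤))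
    (g : Pts X → ℂ) (hg : Continuous g) (hexp : ∀ x, Complex.exp (g x) = x.evTop u) :
    ∀ x y : Pts X, x.evTop u = y.evTop u := by
  haveI : ConnectedSpace (Pts X) := ConnSch.connectedSpace_iff_pts.1 inferInstance
  exact fun x y =>
    (isLocallyConstant_evTop_of_log u g hg hexp).apply_eq_of_preconnectedSpace x y

end Groth.Agent.Lib.Seat20.NullHtFin
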