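import Mathlib

/-!
# Seat20: a null-homotopic map to `ℂ ∖ {0}` has a continuous logarithm
-/

set_option autoImplicit false

open unitInterval

namespace Groth.Agent.Lib.Seat20.NullHtTop

theorem exists_log_of_nullhomotopic {T : Type*} [TopologicalSpace T]
    (φ : C(T, {z : ℂ // z ≠ 0})) (z₀ : {z : ℂ // z ≠ 0})
    (h : φ.Homotopic (ContinuousMap.const T z₀)) :
    ∃ g : C(T, ℂ), ∀ t, Complex.exp (g t) = (φ t).1 := by
  obtain ⟨F⟩ := h.symm
  have cov := Complex.isCoveringMap_exp
  let f : C(T, ℂ) := ContinuousMap.const T (Complex.log z₀.1)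
  have H_0 : ∀ a, F.toContinuousMap (0, a) =
      (fun z : ℂ ↦ (⟨_, z.exp_ne_zero⟩ : {z : ℂ // z ≠ 0})) (f a) := by
    intro a
    have h1 : F.toContinuousMap (0, a) = z₀ := F.map_zero_left a
    rw [h1]
    apply Subtype.ext
    exact (Complex.exp_log z₀.2).symm
  let G := cov.liftHomotopy F.toContinuousMap f H_0
  refine ⟨G.comp (ContinuousMap.prodMk (ContinuousMap.const T 1) (ContinuousMap.id T)), fun t => ?_⟩
  have h2 := congrFun (cov.liftHomotopy_lifts F.toContinuousMap f H_0) (1, t)
  have h3 : F.toContinuousMap (1, t) = φ t := F.map_one_left t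
  have h4 := congrArg Subtype.val (h2.trans h3)
  exact h4

end Groth.Agent.Lib.Seat20.NullHtTop
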