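import Mathlib

/-!
# Seat20: finite ring maps send closed nowhere dense subsets of the spectrum to nowhere dense subsets

Elementary proof, valid without Noetherian hypotheses.
-/

set_option autoImplicit false

open scoped Pointwise

namespace Groth.Agent.Lib.Seat20.NwdFinite

section minNil

variable {B : Type*} [CommRing B]

/-- elements of a minimal prime are killed, up to nilpotents, by elements outside it -/
lemma exists_notMem_isNilpotent_mul (𝔮 : Ideal B) [h𝔮 : 𝔮.IsPrime]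
    (hmin : ∀ 𝔮' : Ideal B, 𝔮'.IsPrime → 𝔮' ≤ 𝔮 → 𝔮 ≤ 𝔮') (x : B) (hx : x ∈ 𝔮) :
    ∃ s : B, s ∉ 𝔮 ∧ IsNilpotent (s * x) := by
  by_contra hcon
  push Not at hcon
  let S : Submonoid B :=
    { carrier := {y | ∃ s : B, s ∉ 𝔮 ∧ ∃ n : ℕ, y = s * x ^ n}
      mul_mem' := by
        rintro _ _ ⟨s, hs, n, rfl⟩ ⟨s', hs', n', rfl⟩
        refine ⟨s * s', fun h => ?_, n + n', by ring⟩
        rcases h𝔮.mem_or_mem h with h | h
        · exact hs h
        · exact hs' h
      one_mem' := ⟨1, fun h => h𝔮.ne_top ((Ideal.eq_top_iff_one _).2 h), 0, by simp⟩ }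
  have hdisj : Disjoint ((⊥ : Ideal B) : Set B) S := by
    rw [Set.disjoint_left]
    rintro y hy ⟨s, hs, n, rfl⟩
    have hy0 : s * x ^ n = 0 := hy
    apply hcon s hs
    cases n with
    | zero =>
      exfalso
      apply hs
      rw [pow_zero, mul_one] at hy0
      rw [hy0]
      exact 𝔮.zero_mem
    | succ n =>
      refine ⟨n + 1, ?_⟩
      rw [mul_pow, pow_succ s n, mul_assoc, hy0, mul_zero]
  obtain ⟨p, hp, -, hpS⟩ := Ideal.exists_le_prime_disjoint (⊥ : Ideal B) S hdisj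
  have hp𝔮 : p ≤ 𝔮 := by
    intro y hy
    by_contra hy𝔮
    exact Set.disjoint_left.1 hpS hy ⟨y, hy𝔮, 0, by simp⟩
  have hxp : x ∈ p := hmin p hp hp𝔮 hx
  exact Set.disjoint_left.1 hpS hxp ⟨1, fun h => h𝔮.ne_top ((Ideal.eq_top_iff_one _).2 h), 1, by simp⟩

end minNil

section core

variable {A B : Type*} [CommRing A] [CommRing B] [Algebra A B]

/-- the finite set `s` generates `B` modulo `J` after inverting `a` -/
def Gen (J : Ideal B) (a : A) (s : Finset B) : Prop :=
  ∀ b : B, ∃ k : ℕ, a ^ k • b ∈ Submodule.span A (s : Set B) ⊔ J.restrictScalars A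

variable (J : Ideal B)

lemma Gen.pow_smul_mem {a : A} {s : Finset B} (h : Gen J a s) (T : Finset B) :
    ∃ K : ℕ, ∀ y ∈ T, a ^ K • y ∈ Submodule.span A (s : Set B) ⊔ J.restrictScalars A := by
  classical
  induction T using Finset.induction_on with
  | empty => exact ⟨0, by simp⟩
  | insert y T _ ih =>
    obtain ⟨K, hK⟩ := ih
    obtain ⟨k, hk⟩ := h y
    refine ⟨K + k, fun z hz => ?_⟩
    rcases Finset.mem_insert.1 hz with rfl | hz
    · rw [pow_add, mul_smul]
      exact Submodule.smul_mem _ _ hk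
    · rw [pow_add, mul_comm, mul_smul]
      exact Submodule.smul_mem _ _ (hK z hz)

/-- eliminating a generator -/
lemma Gen.erase [DecidableEq B] {a : A} {s : Finset B} (h : Gen J a s) (c : A) (x₀ : B)
    (hc : c • x₀ ∈ Submodule.span A ((s.erase x₀ : Finset B) : Set B) ⊔ J.restrictScalars A) :
    Gen J (a * c) (s.erase x₀) := by
  intro b
  obtain ⟨k, hk⟩ := h b
  refine ⟨k + 1, ?_⟩
  set N := Submodule.span A ((s.erase x₀ : Finset B) : Set B) ⊔ J.restrictScalars A with hN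
  have h1 : Submodule.span A (s : Set B) ⊔ J.restrictScalars A ≤
      N.comap (LinearMap.lsmul A B c) := by
    rw [sup_le_iff]
    constructor
    · rw [Submodule.span_le]
      intro x hx
      rw [SetLike.mem_coe, Submodule.mem_comap, LinearMap.lsmul_apply]
      by_cases hxx : x = x₀
      · rw [hxx]
        exact hc
      · exact Submodule.smul_mem _ _ (Submodule.mem_sup_left (Submodule.subset_span
          (Finset.mem_coe.2 (Finset.mem_erase.2 ⟨hxx, Finset.mem_coe.1 hx⟩))))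
    · intro x hx
      rw [Submodule.mem_comap, LinearMap.lsmul_apply]
      exact Submodule.smul_mem _ _ (Submodule.mem_sup_right hx)
  have h2 : c • (a ^ k • b) ∈ N := h1 hk
  have h3 : (a * c) ^ (k + 1) • b = (a * c ^ k) • (c • (a ^ k • b)) := by
    simp only [smul_smul]
    congr 1
    ring
  rw [h3]
  exact Submodule.smul_mem _ _ h2

/-- **Core lemma**: if `B` is a finite `A`-algebra and `V(J) → Spec A` covers the nonempty basic open
`D(a₀)`, then `V(J)` contains a nonempty basic open `D(β)` of `Spec B`. -/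
theorem exists_not_isNilpotent_forall_isNilpotent_mul [Module.Finite A B] (a₀ : A)
    (ha₀ : ¬ IsNilpotent a₀)
    (H : ∀ 𝔭 : Ideal A, 𝔭.IsPrime → a₀ ∉ 𝔭 →
      ∃ 𝔮 : Ideal B, 𝔮.IsPrime ∧ J ≤ 𝔮 ∧ 𝔮.comap (algebraMap A B) = 𝔭) :
    ∃ β : B, ¬ IsNilpotent β ∧ ∀ j ∈ J, IsNilpotent (β * j) := by
  classical
  -- minimal generating data
  have hex : ∃ n : ℕ, ∃ (a' : A) (s : Finset B),
      ¬ IsNilpotent (a₀ * a') ∧ s.card = n ∧ Gen J (a₀ * a') s := by
    obtain ⟨T, hT⟩ := (Module.Finite.fg_top : (⊤ : Submodule A B).FG)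
    refine ⟨T.card, 1, T, by rwa [mul_one], rfl, fun b => ⟨0, ?_⟩⟩
    rw [pow_zero, one_smul]
    exact Submodule.mem_sup_left (hT ▸ Submodule.mem_top)
  obtain ⟨a', s, ha, hcard, hgen⟩ := Nat.find_spec hex
  have hmin : ∀ (a'' : A) (s' : Finset B), ¬ IsNilpotent (a₀ * a'') → Gen J (a₀ * a'') s' →
      s.card ≤ s'.card := by
    intro a'' s' h1 h2
    rw [hcard]
    exact Nat.find_min' hex ⟨a'', s', h1, rfl, h2⟩
  set a := a₀ * a' with ha_def
  -- linear independence modulo nilpotents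
  have hLI : ∀ y ∈ Submodule.span A (s : Set B), y ∈ J → IsNilpotent (a • y) := by
    intro y hy hyJ
    obtain ⟨γ, -, rfl⟩ := Submodule.mem_span_finset.1 hy
    by_contra hnil
    have hx : ∃ x₀ ∈ s, ¬ IsNilpotent (a * γ x₀) := by
      by_contra hall
      push Not at hall
      apply hnil
      rw [Finset.smul_sum, ← mem_nilradical]
      refine Ideal.sum_mem _ (fun x hx => ?_)
      rw [smul_smul, Algebra.smul_def]
      exact Ideal.mul_mem_right _ _ (mem_nilradical.2 ((hall x hx).map (algebraMap A B)))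
    obtain ⟨x₀, hx₀, hx₀nil⟩ := hx
    have hc : γ x₀ • x₀ ∈
        Submodule.span A ((s.erase x₀ : Finset B) : Set B) ⊔ J.restrictScalars A := by
      have hsum := Finset.add_sum_erase s (fun x => γ x • x) hx₀
      have h1 : γ x₀ • x₀ = (∑ x ∈ s, γ x • x) - ∑ x ∈ s.erase x₀, γ x • x := by
        rw [← hsum]
        abel
      rw [h1]
      refine Submodule.sub_mem _ (Submodule.mem_sup_right hyJ) (Submodule.mem_sup_left ?_)
      exact Submodule.sum_mem _ (fun x hx => Submodule.smul_mem _ _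
        (Submodule.subset_span (Finset.mem_coe.2 hx)))
    have hgen' := hgen.erase J (γ x₀) x₀ hc
    have e : a₀ * (a' * γ x₀) = a * γ x₀ := by rw [ha_def, mul_assoc]
    have hle := hmin (a' * γ x₀) (s.erase x₀) (by rwa [e]) (by rwa [e])
    rw [Finset.card_erase_of_mem hx₀] at hle
    have hpos : 0 < s.card := Finset.card_pos.2 ⟨x₀, hx₀⟩
    omega
  -- finitely many elements of `J` control `J` after inverting `a`
  obtain ⟨T, hT⟩ := (Module.Finite.fg_top : (⊤ : Submodule A B).FG)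
  obtain ⟨K, hK⟩ := hgen.pow_smul_mem J T
  have hdec : ∀ y ∈ T, ∃ jy ∈ J, a ^ K • y - jy ∈ Submodule.span A (s : Set B) := by
    intro y hy
    obtain ⟨ν, hν, jy, hjy, h⟩ := Submodule.mem_sup.1 (hK y hy)
    refine ⟨jy, hjy, ?_⟩
    rw [← h, add_sub_cancel_right]
    exact hν
  choose! jf hjfJ hjf using hdec
  let N₀ : Submodule A B := Submodule.span A (jf '' (T : Set B))
  have hN₀J : N₀ ≤ J.restrictScalars A := Submodule.span_le.2 (by
    rintro _ ⟨y, hy, rfl⟩
    exact hjfJ y hy)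
  have hall : ∀ b : B, a ^ K • b ∈ Submodule.span A (s : Set B) ⊔ N₀ := by
    intro b
    have hb : b ∈ Submodule.span A (T : Set B) := hT ▸ Submodule.mem_top
    have hle : Submodule.span A (T : Set B) ≤
        (Submodule.span A (s : Set B) ⊔ N₀).comap (LinearMap.lsmul A B (a ^ K)) := by
      rw [Submodule.span_le]
      intro y hy
      rw [SetLike.mem_coe, Submodule.mem_comap, LinearMap.lsmul_apply]
      have h1 : a ^ K • y = (a ^ K • y - jf y) + jf y := by abel
      rw [h1]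
      exact Submodule.add_mem _ (Submodule.mem_sup_left (hjf y hy))
        (Submodule.mem_sup_right (Submodule.subset_span ⟨y, hy, rfl⟩))
    exact hle hb
  -- a minimal prime of `A` avoiding `a`, and a minimal prime of `B` above it containing `J`
  obtain ⟨𝔭, h𝔭, ha𝔭⟩ : ∃ 𝔭 : Ideal A, 𝔭.IsPrime ∧ a ∉ 𝔭 := by
    by_contra h
    push Not at h
    exact ha (nilpotent_iff_mem_prime.2 h)
  obtain ⟨η, hη, hη𝔭⟩ := Ideal.exists_minimalPrimes_le (bot_le : (⊥ : Ideal A) ≤ 𝔭)
  have hηprime : η.IsPrime := hη.1.1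
  have haη : a ∉ η := fun h => ha𝔭 (hη𝔭 h)
  have ha₀η : a₀ ∉ η := fun h => haη (η.mul_mem_right _ h)
  obtain ⟨𝔮, h𝔮, hJ𝔮, h𝔮η⟩ := H η hηprime ha₀η
  have h𝔮min : ∀ 𝔮' : Ideal B, 𝔮'.IsPrime → 𝔮' ≤ 𝔮 → 𝔮 ≤ 𝔮' := by
    intro 𝔮' h𝔮' hle
    by_contra hnot
    obtain ⟨x, hx𝔮, hx𝔮'⟩ := Set.not_subset.1 hnot
    have hint : IsIntegral A x := Algebra.IsIntegral.isIntegral x
    have hlt := Ideal.comap_lt_comap_of_integral_mem_sdiff hle ⟨hx𝔮, hx𝔮'⟩ hint
    rw [h𝔮η] at hlt
    have h1 : η ≤ 𝔮'.comap (algebraMap A B) := hη.2 ⟨Ideal.comap_isPrime _ _, bot_le⟩ hlt.le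
    exact absurd hlt (not_lt_of_ge h1)
  have hkill : ∀ y ∈ T, ∃ sy : B, sy ∉ 𝔮 ∧ IsNilpotent (sy * jf y) := fun y hy =>
    exists_notMem_isNilpotent_mul 𝔮 h𝔮min (jf y) (hJ𝔮 (hjfJ y hy))
  choose! sf hsf𝔮 hsfnil using hkill
  let σ : B := ∏ y ∈ T, sf y
  have hσ𝔮 : σ ∉ 𝔮 := by
    intro h
    obtain ⟨y, hy, hy'⟩ := (h𝔮.prod_mem_iff).1 h
    exact hsf𝔮 y hy hy'
  have hσN₀ : ∀ z ∈ N₀, σ * z ∈ nilradical B := by
    intro z hz
    induction hz using Submodule.span_induction with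
    | mem z hz =>
      obtain ⟨y, hy, rfl⟩ := hz
      have h1 : σ = (∏ y' ∈ T.erase y, sf y') * sf y := by
        rw [mul_comm]
        exact (Finset.mul_prod_erase T sf (Finset.mem_coe.1 hy)).symm
      rw [h1, mul_assoc]
      exact Ideal.mul_mem_left _ _ (mem_nilradical.2 (hsfnil y hy))
    | zero => rw [mul_zero]; exact Ideal.zero_mem _
    | add z w _ _ hz hw => rw [mul_add]; exact Ideal.add_mem _ hz hw
    | smul c z _ hz =>
      rw [mul_smul_comm, Algebra.smul_def]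
      exact Ideal.mul_mem_left _ _ hz
  refine ⟨σ * algebraMap A B a, ?_, ?_⟩
  · intro hnil
    have h1 : σ * algebraMap A B a ∈ 𝔮 := nilpotent_iff_mem_prime.1 hnil 𝔮 h𝔮
    rcases h𝔮.mem_or_mem h1 with h | h
    · exact hσ𝔮 h
    · apply haη
      rw [← h𝔮η]
      exact h
  · intro j hj
    obtain ⟨ν, hν, ν₀, hν₀, hsum⟩ := Submodule.mem_sup.1 (hall j)
    have hνJ : ν ∈ J := by
      have h1 : ν = a ^ K • j - ν₀ := by
        rw [← hsum]
        abel
      rw [h1]
      refine J.sub_mem ?_ (hN₀J hν₀)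
      rw [Algebra.smul_def]
      exact J.mul_mem_left _ hj
    have h1 : IsNilpotent (a • ν) := hLI ν hν hνJ
    have h2 : σ * ν₀ ∈ nilradical B := hσN₀ ν₀ hν₀
    have h3 : σ * algebraMap A B a ^ (K + 1) * j ∈ nilradical B := by
      have h4 : σ * algebraMap A B a ^ (K + 1) * j =
          σ * (a • ν) + algebraMap A B a * (σ * ν₀) := by
        have h5 : a ^ K • j = ν + ν₀ := hsum.symm
        rw [Algebra.smul_def, map_pow] at h5
        rw [Algebra.smul_def, pow_succ]
        linear_combination (σ * algebraMap A B a) * h5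
      rw [h4]
      exact Ideal.add_mem _ (Ideal.mul_mem_left _ _ (mem_nilradical.2 h1))
        (Ideal.mul_mem_left _ _ h2)
    have h6 : (σ * algebraMap A B a * j) ^ (K + 1) =
        (σ ^ K * j ^ K) * (σ * algebraMap A B a ^ (K + 1) * j) := by ring
    have h7 : IsNilpotent ((σ * algebraMap A B a * j) ^ (K + 1)) := by
      rw [h6, ← mem_nilradical]
      exact Ideal.mul_mem_left _ _ h3
    exact (IsNilpotent.pow_iff_pos (Nat.succ_ne_zero K)).1 h7

end core

section top

open PrimeSpectrum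

variable {A B : Type*} [CommRing A] [CommRing B] [Algebra A B]

/-- **Finite ring maps send closed nowhere dense sets to nowhere dense sets** -/
theorem isNowhereDense_image_comap_of_finite [Module.Finite A B] (C : Set (PrimeSpectrum B))
    (hC : IsClosed C) (hnd : IsNowhereDense C) :
    IsNowhereDense (comap (algebraMap A B) '' C) := by
  have hint : (algebraMap A B).IsIntegral := Algebra.IsIntegral.of_finite A B |>.isIntegral
  have hcl : IsClosed (comap (algebraMap A B) '' C) :=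
    isClosedMap_comap_of_isIntegral _ hint _ hC
  rw [hcl.isNowhereDense_iff]
  by_contra hne
  obtain ⟨J, rfl⟩ := (isClosed_iff_zeroLocus_ideal C).1 hC
  obtain ⟨x, hx⟩ := Set.nonempty_iff_ne_empty.2 hne
  obtain ⟨_, ⟨a₀, rfl⟩, hxa₀, ha₀sub⟩ :=
    isTopologicalBasis_basic_opens.exists_subset_of_mem_open hx isOpen_interior
  replace hxa₀ : x ∈ (basicOpen a₀ : Set (PrimeSpectrum A)) := hxa₀
  replace ha₀sub : (basicOpen a₀ : Set (PrimeSpectrum A)) ⊆
      interior (comap (algebraMap A B) '' zeroLocus (J : Set B)) := ha₀sub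
  have ha₀ : ¬ IsNilpotent a₀ := by
    rw [← basicOpen_eq_bot_iff]
    intro h
    rw [h] at hxa₀
    exact hxa₀
  have H : ∀ 𝔭 : Ideal A, 𝔭.IsPrime → a₀ ∉ 𝔭 →
      ∃ 𝔮 : Ideal B, 𝔮.IsPrime ∧ J ≤ 𝔮 ∧ 𝔮.comap (algebraMap A B) = 𝔭 := by
    intro 𝔭 h𝔭 ha𝔭
    have h1 : (⟨𝔭, h𝔭⟩ : PrimeSpectrum A) ∈ (basicOpen a₀ : Set (PrimeSpectrum A)) := ha𝔭
    obtain ⟨q, hq, hq'⟩ := interior_subset (ha₀sub h1)
    refine ⟨q.asIdeal, q.2, hq, ?_⟩
    exact congrArg PrimeSpectrum.asIdeal hq'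
  obtain ⟨β, hβ, hβJ⟩ := exists_not_isNilpotent_forall_isNilpotent_mul J a₀ ha₀ H
  have hsub : (basicOpen β : Set (PrimeSpectrum B)) ⊆ zeroLocus (J : Set B) := by
    intro q hq j hj
    have h1 : β * j ∈ q.asIdeal := nilpotent_iff_mem_prime.1 (hβJ j hj) q.asIdeal q.2
    rcases q.2.mem_or_mem h1 with h | h
    · exact absurd h hq
    · exact h
  have hne' : (basicOpen β : Set (PrimeSpectrum B)).Nonempty := by
    rw [Set.nonempty_iff_ne_empty]
    intro h
    apply hβ
    rw [← basicOpen_eq_bot_iff]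
    exact TopologicalSpace.Opens.ext h
  rw [hC.isNowhereDense_iff] at hnd
  obtain ⟨q, hq⟩ := hne'
  have : q ∈ interior (zeroLocus (J : Set B)) :=
    interior_maximal hsub (basicOpen β).2 hq
  rw [hnd] at this
  exact this

end top

section union

variable {X : Type*} [TopologicalSpace X]

lemma isNowhereDense_union {s t : Set X} (hs : IsNowhereDense s) (ht : IsNowhereDense t) :
    IsNowhereDense (s ∪ t) := by
  rw [IsNowhereDense, closure_union, interior_union_isClosed_of_interior_empty isClosed_closure ht]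
  exact hs

lemma isNowhereDense_biUnion_finset {ι : Type*} (t : Finset ι) (f : ι → Set X)
    (h : ∀ i ∈ t, IsNowhereDense (f i)) : IsNowhereDense (⋃ i ∈ t, f i) := by
  classical
  induction t using Finset.induction_on with
  | empty => simp
  | insert i t _ ih =>
    rw [Finset.set_biUnion_insert]
    exact isNowhereDense_union (h i (Finset.mem_insert_self _ _))
      (ih fun j hj => h j (Finset.mem_insert_of_mem hj))

end union

section qf

open PrimeSpectrum

variable {R S : Type*} [CommRing R] [CommRing S] [Algebra R S]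

/-- one chart of the local structure of quasi-finite algebras -/
lemma isNowhereDense_image_chart (S' : Subalgebra R S) (r : S')
    (hsurj : ∀ x : S, ∃ (b : S') (m : ℕ), (b : S) = (r : S) ^ m * x)
    (C : Set (PrimeSpectrum S)) (hC : IsClosed C) (hnd : IsNowhereDense C) :
    IsNowhereDense (comap S'.val.toRingHom ''
      (C ∩ (basicOpen (r : S) : Set (PrimeSpectrum S)))) := by
  set Sg := comap S'.val.toRingHom '' (C ∩ (basicOpen (r : S) : Set (PrimeSpectrum S))) with hSg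
  obtain ⟨J, rfl⟩ := (isClosed_iff_zeroLocus_ideal C).1 hC
  rw [IsNowhereDense]
  by_contra hne
  obtain ⟨q', hq'⟩ := Set.nonempty_iff_ne_empty.2 hne
  obtain ⟨_, ⟨β, rfl⟩, hq'β, hβsub⟩ :=
    isTopologicalBasis_basic_opens.exists_subset_of_mem_open hq' isOpen_interior
  replace hq'β : q' ∈ (basicOpen β : Set (PrimeSpectrum S')) := hq'β
  replace hβsub : (basicOpen β : Set (PrimeSpectrum S')) ⊆ interior (closure Sg) := hβsub
  -- `D(β r)` is contained in `C`
  have hsub : (basicOpen ((β : S) * (r : S)) : Set (PrimeSpectrum S)) ⊆ zeroLocus (J : Set S) := by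
    intro 𝔮 h𝔮 j hj
    have hβ𝔮 : (β : S) ∉ 𝔮.asIdeal := fun h => h𝔮 (𝔮.asIdeal.mul_mem_right _ h)
    have hr𝔮 : (r : S) ∉ 𝔮.asIdeal := fun h => h𝔮 (𝔮.asIdeal.mul_mem_left _ h)
    obtain ⟨b, m, hb⟩ := hsurj j
    have h1 : comap S'.val.toRingHom 𝔮 ∈ (basicOpen β : Set (PrimeSpectrum S')) := hβ𝔮
    have h2 : comap S'.val.toRingHom 𝔮 ∈ closure Sg := interior_subset (hβsub h1)
    rw [← zeroLocus_vanishingIdeal_eq_closure] at h2
    have h3 : b ∈ vanishingIdeal Sg := by
      rw [mem_vanishingIdeal]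
      rintro _ ⟨𝔮₁, ⟨h𝔮₁, -⟩, rfl⟩
      change (b : S) ∈ 𝔮₁.asIdeal
      rw [hb]
      exact 𝔮₁.asIdeal.mul_mem_left _ (h𝔮₁ hj)
    have h4 : (b : S) ∈ 𝔮.asIdeal := h2 h3
    rw [hb] at h4
    rcases 𝔮.2.mem_or_mem h4 with h | h
    · exact absurd (𝔮.2.mem_of_pow_mem _ h) hr𝔮
    · exact h
  -- `D(β r)` is nonempty
  have hne' : ((basicOpen β : Set (PrimeSpectrum S')) ∩ Sg).Nonempty :=
    mem_closure_iff.1 (interior_subset (hβsub hq'β)) _ (basicOpen β).2 hq'β
  obtain ⟨_, hσβ, 𝔮, ⟨h𝔮C, h𝔮r⟩, rfl⟩ := hne'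
  have h𝔮 : 𝔮 ∈ (basicOpen ((β : S) * (r : S)) : Set (PrimeSpectrum S)) := by
    intro h
    rcases 𝔮.2.mem_or_mem h with h | h
    · exact hσβ h
    · exact h𝔮r h
  have hint : 𝔮 ∈ interior (zeroLocus (J : Set S)) :=
    interior_maximal hsub (basicOpen ((β : S) * (r : S))).2 h𝔮
  rw [(isClosed_zeroLocus _).isNowhereDense_iff] at hnd
  rw [hnd] at hint
  exact hint

/-- **Quasi-finite ring maps of finite type send closed nowhere dense sets to nowhere dense sets**
-/
theorem isNowhereDense_image_comap_of_quasiFinite [Algebra.FiniteType R S]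
    [Algebra.QuasiFinite R S] (C : Set (PrimeSpectrum S)) (hC : IsClosed C)
    (hnd : IsNowhereDense C) : IsNowhereDense (comap (algebraMap R S) '' C) := by
  classical
  have hloc : ∀ x : PrimeSpectrum S, ∃ S' : Subalgebra R S, S'.toSubmodule.FG ∧ ∃ r : S',
      r.1 ∉ x.asIdeal ∧ Function.Bijective (Localization.awayMap S'.val.toRingHom r) := fun x =>
    Algebra.QuasiFiniteAt.exists_fg_and_exists_notMem_and_awayMap_bijective x.asIdeal
  choose S' hS' r hrx hbij using hloc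
  have hcover : (Set.univ : Set (PrimeSpectrum S)) ⊆
      ⋃ x, (basicOpen ((r x : S' x) : S) : Set (PrimeSpectrum S)) := by
    intro x _
    exact Set.mem_iUnion.2 ⟨x, hrx x⟩
  obtain ⟨t, ht⟩ := isCompact_univ.elim_finite_subcover _ (fun x => (basicOpen _).2) hcover
  refine IsNowhereDense.mono ?_ (isNowhereDense_biUnion_finset t
    (fun x => comap (algebraMap R (S' x)) '' closure (comap (S' x).val.toRingHom ''
      (C ∩ (basicOpen ((r x : S' x) : S) : Set (PrimeSpectrum S))))) (fun x _ => ?_))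
  · rintro _ ⟨𝔮, h𝔮, rfl⟩
    obtain ⟨x, hx⟩ := Set.mem_iUnion.1 (ht (Set.mem_univ 𝔮))
    obtain ⟨hxt, h𝔮x⟩ := Set.mem_iUnion.1 hx
    refine Set.mem_iUnion₂.2 ⟨x, hxt, comap (S' x).val.toRingHom 𝔮,
      subset_closure ⟨𝔮, ⟨h𝔮, h𝔮x⟩, rfl⟩, ?_⟩
    rfl
  · have : Module.Finite R (S' x) := ⟨(Submodule.fg_top _).2 (hS' x)⟩
    refine isNowhereDense_image_comap_of_finite _ isClosed_closure (IsNowhereDense.closure ?_)
    refine isNowhereDense_image_chart (S' x) (r x) ?_ C hC hnd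
    intro y
    obtain ⟨b, m, hb⟩ := Localization.awayMap_surjective_iff.1 (hbij x).2 y
    exact ⟨b, m, hb⟩

end qf

end Groth.Agent.Lib.Seat20.NwdFinite
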