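import Mathlib
import Groth.Agent.Lib.Seat20NwdFinite

/-!
# Seat20: quasi-finite morphisms send closed nowhere dense sets to nowhere dense sets
-/

set_option autoImplicit false

universe u

open AlgebraicGeometry CategoryTheory TopologicalSpace Topology

namespace Groth.Agent.Lib.Seat20.NwdScheme

open Groth.Agent.Lib.Seat20.NwdFinite

section top

variable {X Y : Type*} [TopologicalSpace X] [TopologicalSpace Y]

lemma isNowhereDense_preimage_of_isOpenEmbedding {e : X → Y} (he : IsOpenEmbedding e) {s : Set Y}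
    (hs : IsNowhereDense s) : IsNowhereDense (e ⁻¹' s) := by
  rw [IsNowhereDense] at hs ⊢
  have h1 : closure (e ⁻¹' s) ⊆ e ⁻¹' closure s := he.continuous.closure_preimage_subset s
  have h2 : interior (closure (e ⁻¹' s)) ⊆ interior (e ⁻¹' closure s) := interior_mono h1
  rw [← he.isOpenMap.preimage_interior_eq_interior_preimage he.continuous, hs,
    Set.preimage_empty] at h2
  exact Set.subset_empty_iff.1 h2

end top

variable {Y X : Scheme.{u}} (f : Y ⟶ X)

/-- the image of the part of a closed nowhere dense set lying in an affine chart -/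
lemma isNowhereDense_image_inter_affine [LocallyQuasiFinite f] [LocallyOfFiniteType f]
    {W : X.Opens} (hW : IsAffineOpen W) {V : Y.Opens} (hV : IsAffineOpen V) (e : V ≤ f ⁻¹ᵁ W)
    (T : Set Y) (hT : IsClosed T) (hT' : IsNowhereDense T) :
    IsNowhereDense (f '' (T ∩ V)) := by
  let φ := (f.appLE W V e).hom
  let : Algebra Γ(X, W) Γ(Y, V) := φ.toAlgebra
  have hft : Algebra.FiniteType Γ(X, W) Γ(Y, V) :=
    (RingHom.finiteType_algebraMap (A := Γ(X, W)) (B := Γ(Y, V))).1 (f.finiteType_appLE hW hV e)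
  have hqf : Algebra.QuasiFinite Γ(X, W) Γ(Y, V) :=
    (LocallyQuasiFinite.quasiFinite_appLE (f := f) hW hV e)
  have heV : IsOpenEmbedding hV.fromSpec := hV.fromSpec.isOpenEmbedding
  have heW : IsOpenEmbedding hW.fromSpec := hW.fromSpec.isOpenEmbedding
  have h1 : IsNowhereDense (hV.fromSpec ⁻¹' T) := isNowhereDense_preimage_of_isOpenEmbedding heV hT'
  have h2 : IsClosed (hV.fromSpec ⁻¹' T) := hT.preimage hV.fromSpec.continuous
  have h3 := isNowhereDense_image_comap_of_quasiFinite (R := Γ(X, W)) (S := Γ(Y, V)) _ h2 h1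
  have h4 := heW.isInducing.isNowhereDense_image h3
  refine h4.mono ?_
  rintro _ ⟨y, ⟨hyT, hyV⟩, rfl⟩
  have hy : y ∈ Set.range hV.fromSpec := by
    rw [hV.range_fromSpec]
    exact hyV
  obtain ⟨p, rfl⟩ := hy
  refine ⟨PrimeSpectrum.comap (algebraMap Γ(X, W) Γ(Y, V)) p, ⟨p, hyT, rfl⟩, ?_⟩
  have h5 := IsAffineOpen.SpecMap_appLE_fromSpec f hW hV e
  have h6 := congrArg (fun g => g p) h5
  simp only [Scheme.Hom.comp_apply] at h6
  exact h6

/-- **Quasi-finite morphisms map closed nowhere dense sets to nowhere dense sets** -/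
theorem isNowhereDense_image [LocallyQuasiFinite f] [LocallyOfFiniteType f] [QuasiCompact f]
    (T : Set Y) (hT : IsClosed T) (hT' : IsNowhereDense T) : IsNowhereDense (f '' T) := by
  rw [IsNowhereDense]
  by_contra hne
  obtain ⟨x, hx⟩ := Set.nonempty_iff_ne_empty.2 hne
  obtain ⟨_, ⟨(W : X.Opens), hW : IsAffineOpen W, rfl⟩, hxW, hWsub⟩ :=
    X.isBasis_affineOpens.exists_subset_of_mem_open hx isOpen_interior
  have hcpt : IsCompact (f ⁻¹ᵁ W : Set Y) := f.isCompact_preimage hW.isCompact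
  obtain ⟨𝒮, h𝒮fin, h𝒮⟩ := isCompact_and_isOpen_iff_finite_and_eq_biUnion_affineOpens.1
    ⟨hcpt, (f ⁻¹ᵁ W).2⟩
  -- the nowhere dense set containing `f '' T ∩ W`
  have hN : IsNowhereDense (⋃ V ∈ h𝒮fin.toFinset, f '' (T ∩ (V : Y.Opens))) := by
    refine isNowhereDense_biUnion_finset _ _ (fun V hV => ?_)
    have hV𝒮 : V ∈ 𝒮 := h𝒮fin.mem_toFinset.1 hV
    have hle : (V : Y.Opens) ≤ f ⁻¹ᵁ W := by
      intro y hy
      have : y ∈ (f ⁻¹ᵁ W : Set Y) := by
        rw [h𝒮]
        exact Set.mem_biUnion hV𝒮 hy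
      exact this
    exact isNowhereDense_image_inter_affine f hW V.2 hle T hT hT'
  have hsub : (W : Set X) ∩ f '' T ⊆ ⋃ V ∈ h𝒮fin.toFinset, f '' (T ∩ (V : Y.Opens)) := by
    rintro _ ⟨hyW, y, hyT, rfl⟩
    have hy : y ∈ (f ⁻¹ᵁ W : Set Y) := hyW
    rw [h𝒮] at hy
    obtain ⟨V, hV𝒮, hyV⟩ := Set.mem_iUnion₂.1 hy
    exact Set.mem_iUnion₂.2 ⟨V, h𝒮fin.mem_toFinset.2 hV𝒮, y, ⟨hyT, hyV⟩, rfl⟩
  have h1 : (W : Set X) ⊆ closure (⋃ V ∈ h𝒮fin.toFinset, f '' (T ∩ (V : Y.Opens))) := by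
    intro z hz
    have hz' : z ∈ (W : Set X) ∩ closure (f '' T) := ⟨hz, interior_subset (hWsub hz)⟩
    exact closure_mono hsub (W.2.inter_closure hz')
  have h2 : x ∈ interior (closure (⋃ V ∈ h𝒮fin.toFinset, f '' (T ∩ (V : Y.Opens)))) :=
    interior_maximal h1 W.2 hxW
  rw [hN] at h2
  exact h2

end Groth.Agent.Lib.Seat20.NwdScheme
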