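import Mathlib

/-!
# Seat 80: lifting an idempotent to the integral closure (Zariski's main theorem)

For `A → B` of finite type, an ideal `I ⊆ A` and an idempotent `e` of `B/IB` whose factor
`(B/IB)/(1 - e)` is finite over `A/I`, we find `g` in the integral closure `B'` of `A` in `B`,
idempotent modulo `IB'`, lifting `e`, with `B'_g → B_g` bijective.  The input is Mathlib's
Zariski main theorem (`Algebra.ZariskisMainProperty.of_finiteType`).
-/

set_option autoImplicit false
universe u

namespace Groth.Agent.Lib.Seat80.IdemLift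

variable {A B C : Type*} [CommRing A] [CommRing B] [CommRing C] [Algebra A B] [Algebra A C]

variable (A) in
/-- the conductor-type ideal `{r ∈ B' | r x ∈ B'}` of the integral closure `B'`. -/
def cond (x : B) : Ideal (integralClosure A B) where
  carrier := {r | (r : B) * x ∈ integralClosure A B}
  add_mem' := by
    intro a b ha hb
    simp only [Set.mem_ofPred_eq] at ha hb ⊢
    rw [Subalgebra.coe_add, add_mul]
    exact add_mem ha hb
  zero_mem' := by simp
  smul_mem' := by
    intro c r hr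
    simp only [Set.mem_ofPred_eq] at hr ⊢
    rw [smul_eq_mul, Subalgebra.coe_mul, mul_assoc]
    exact mul_mem c.2 hr

variable (A B) in
/-- the ideal of `r` in the integral closure `B'` with `B'[1/r] = B[1/r]`. -/
def good : Ideal (integralClosure A B) := ⨅ x : B, (cond A x).radical

theorem mem_good_iff (r : integralClosure A B) :
    r ∈ good A B ↔ ∀ x : B, ∃ m : ℕ, IsIntegral A ((r : B) ^ m * x) := by
  simp only [good, Ideal.mem_iInf, Ideal.mem_radical_iff]
  refine forall_congr' fun x => exists_congr fun m => ?_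
  show ((r ^ m : integralClosure A B) : B) * x ∈ integralClosure A B ↔ _
  rw [Subalgebra.coe_pow, mem_integralClosure_iff]

/-- ZMT at a quasi-finite prime gives an element of `good` outside the prime. -/
theorem exists_mem_good_notMem [Algebra.FiniteType A B] (q : Ideal B) [q.IsPrime]
    [Algebra.QuasiFiniteAt A q] : ∃ r ∈ good A B, (r : B) ∉ q := by
  obtain ⟨r, hrq, hr, H⟩ := Algebra.zariskisMainProperty_iff.mp
    (Algebra.ZariskisMainProperty.of_finiteType (R := A) q)
  exact ⟨⟨r, hr⟩, (mem_good_iff _).mpr H, hrq⟩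

/-- Lying-over argument: an ideal of the integral closure whose image avoids no maximal ideal of the
integral quotient `C` contains an element mapping to `1`. -/
theorem exists_map_eq_one [Algebra.IsIntegral A C] (π : B →ₐ[A] C)
    (𝔡 : Ideal (integralClosure A B))
    (h : ∀ Q : Ideal C, Q.IsMaximal → ∃ d ∈ 𝔡, π (d : B) ∉ Q) :
    ∃ d ∈ 𝔡, π (d : B) = 1 := by
  let φ : integralClosure A B →ₐ[A] C := π.comp (integralClosure A B).val
  let φ' : integralClosure A B →ₐ[A] φ.range := φ.rangeRestrict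
  have hφ' : Function.Surjective φ' := φ.rangeRestrict_surjective
  by_cases htop : 𝔡.map φ' = ⊤
  · have h1 : (1 : φ.range) ∈ 𝔡.map φ' := htop ▸ Submodule.mem_top
    obtain ⟨d, hd, hd1⟩ := (Ideal.mem_map_iff_of_surjective φ' hφ').mp h1
    exact ⟨d, hd, congrArg Subtype.val hd1⟩
  · exfalso
    obtain ⟨𝔪, h𝔪, hle⟩ := Ideal.exists_le_maximal _ htop
    have : Algebra.IsIntegral φ.range C := Algebra.IsIntegral.tower_top (R := A)
    have hker : RingHom.ker (algebraMap φ.range C) ≤ 𝔪 := by
      have : RingHom.ker (algebraMap φ.range C) = ⊥ :=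
        (RingHom.injective_iff_ker_eq_bot _).mp Subtype.val_injective
      rw [this]; exact bot_le
    obtain ⟨Q, hQ, hQ𝔪⟩ := Ideal.exists_ideal_over_maximal_of_isIntegral 𝔪 hker
    obtain ⟨d, hd, hdQ⟩ := h Q hQ
    apply hdQ
    have h2 : φ' d ∈ 𝔪 := hle (Ideal.mem_map_of_mem _ hd)
    rw [← hQ𝔪] at h2
    exact h2

theorem quasiFiniteAt_comap [Algebra.FiniteType A B] [Module.Finite A C] (π : B →ₐ[A] C)
    (hπ : Function.Surjective π) (I : Ideal A) (e : B)
    (hker : RingHom.ker π = I.map (algebraMap A B) ⊔ Ideal.span {1 - e})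
    (hidem : e * (1 - e) ∈ I.map (algebraMap A B))
    (Q : Ideal C) [hQ : Q.IsPrime] : Algebra.QuasiFiniteAt A (Q.comap π) := by
  classical
  let q : PrimeSpectrum B := PrimeSpectrum.comap π.toRingHom ⟨Q, hQ⟩
  let p : PrimeSpectrum A := q.comap (algebraMap A B)
  have hqe : e ∉ q.asIdeal := by
    intro he
    have h1 : (1 - e) ∈ RingHom.ker π :=
      hker ▸ Ideal.mem_sup_right (Ideal.subset_span rfl)
    have h2 : (1 - e) ∈ q.asIdeal := Ideal.comap_mono bot_le h1
    exact q.2.ne_top ((Ideal.eq_top_iff_one _).mpr (by simpa using add_mem h2 he))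
  have hIq : I.map (algebraMap A B) ≤ q.asIdeal := by
    have : I.map (algebraMap A B) ≤ RingHom.ker π := hker ▸ le_sup_left
    exact this.trans (Ideal.comap_mono bot_le)
  -- the fibre over `p`
  let F : Set (PrimeSpectrum B) := PrimeSpectrum.comap (algebraMap A B) ⁻¹' {p}
  -- points of the fibre in `D(e)` come from `Spec C`
  have hS0 : ∀ x ∈ F, e ∉ x.asIdeal → ∃ X : PrimeSpectrum C,
      PrimeSpectrum.comap π.toRingHom X = x ∧ PrimeSpectrum.comap (algebraMap A C) X = p := by
    intro x hxF hxe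
    have hxp : x.comap (algebraMap A B) = p := hxF
    have h1 : I.map (algebraMap A B) ≤ x.asIdeal := by
      rw [Ideal.map_le_iff_le_comap]
      intro a ha
      have : a ∈ p.asIdeal := hIq (Ideal.mem_map_of_mem _ ha)
      rw [← hxp] at this
      exact this
    have h2 : (1 - e) ∈ x.asIdeal := (x.2.mem_or_mem (h1 hidem)).resolve_left hxe
    have h3 : RingHom.ker π.toRingHom ≤ x.asIdeal := by
      show RingHom.ker π ≤ _
      rw [hker]
      exact sup_le h1 ((Ideal.span_singleton_le_iff_mem _).mpr h2)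
    have h4 : x ∈ Set.range (PrimeSpectrum.comap π.toRingHom) := by
      rw [range_comap_of_surjective _ _ hπ]
      exact h3
    obtain ⟨X, rfl⟩ := h4
    refine ⟨X, rfl, ?_⟩
    rw [← hxp]
    ext a
    simp
  have hqF : q ∈ F := rfl
  -- finitely many fibre points in `D(e)`
  have hfin : {x ∈ F | e ∉ x.asIdeal}.Finite := by
    refine ((Algebra.QuasiFinite.finite_comap_preimage_singleton (R := A) (S := C) p).image
      (PrimeSpectrum.comap π.toRingHom)).subset ?_
    rintro x ⟨hxF, hxe⟩
    obtain ⟨X, rfl, hXp⟩ := hS0 x hxF hxe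
    exact ⟨X, hXp, rfl⟩
  -- incomparability
  have hinc : ∀ x ∈ F, e ∉ x.asIdeal → ∀ y ∈ F, e ∉ y.asIdeal →
      x.asIdeal ≤ y.asIdeal → x = y := by
    intro x hxF hxe y hyF hye hle
    obtain ⟨X, rfl, hXp⟩ := hS0 x hxF hxe
    obtain ⟨Y, rfl, hYp⟩ := hS0 y hyF hye
    have h1 : X.asIdeal ≤ Y.asIdeal :=
      (Ideal.comap_le_comap_iff_of_surjective π.toRingHom hπ _ _).mp hle
    have h2 : X.asIdeal.under A = Y.asIdeal.under A :=
      congrArg PrimeSpectrum.asIdeal (hXp.trans hYp.symm)
    have h3 := Algebra.QuasiFinite.eq_of_le_of_under_eq (R := A) X.asIdeal Y.asIdeal h1 h2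
    rw [PrimeSpectrum.ext h3]
  refine Algebra.QuasiFiniteAt.of_isOpen_singleton_fiber q ?_
  rw [isOpen_induced_iff]
  refine ⟨(PrimeSpectrum.basicOpen e : Set _) ∩
    (⋃ x ∈ ({x ∈ F | e ∉ x.asIdeal} \ {q}), PrimeSpectrum.zeroLocus (x.asIdeal : Set B))ᶜ, ?_, ?_⟩
  · refine (PrimeSpectrum.basicOpen e).2.inter (isOpen_compl_iff.mpr ?_)
    exact (hfin.subset Set.sdiff_subset).isClosed_biUnion
      fun x _ => PrimeSpectrum.isClosed_zeroLocus _
  · ext ⟨y, hy⟩
    have hyF : y ∈ F := hy
    simp only [Set.mem_preimage, Set.mem_inter_iff, Set.mem_compl_iff, Set.mem_iUnion,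
      Set.mem_singleton_iff, Subtype.mk.injEq, SetLike.mem_coe, PrimeSpectrum.mem_basicOpen,
      PrimeSpectrum.mem_zeroLocus, SetLike.coe_subset_coe, not_exists]
    constructor
    · rintro ⟨hye, hy2⟩
      by_contra hne
      exact hy2 y ⟨⟨hyF, hye⟩, hne⟩ le_rfl
    · intro hyq
      subst hyq
      refine ⟨hqe, fun x hx hle => ?_⟩
      exact hx.2 (hinc x hx.1.1 hx.1.2 q hqF hqe hle)

/-- multiplying an element of `I B` by a high power of a good element lands in `I B'`. -/
theorem exists_pow_mul_mem (I : Ideal A) (g : integralClosure A B) (hg : g ∈ good A B) (x : B)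
    (hx : x ∈ I.map (algebraMap A B)) :
    ∃ (N : ℕ) (y : integralClosure A B), y ∈ I.map (algebraMap A (integralClosure A B)) ∧
      (y : B) = (g : B) ^ N * x := by
  rw [Ideal.map] at hx
  induction hx using Submodule.span_induction with
  | mem x hx =>
    obtain ⟨a, ha, rfl⟩ := hx
    exact ⟨0, algebraMap A _ a, Ideal.mem_map_of_mem _ ha, by simp⟩
  | zero => exact ⟨0, 0, zero_mem _, by simp⟩
  | add x₁ x₂ _ _ h₁ h₂ =>
    obtain ⟨N₁, y₁, hy₁, e₁⟩ := h₁
    obtain ⟨N₂, y₂, hy₂, e₂⟩ := h₂
    refine ⟨N₁ + N₂, g ^ N₂ * y₁ + g ^ N₁ * y₂,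
      add_mem (Ideal.mul_mem_left _ _ hy₁) (Ideal.mul_mem_left _ _ hy₂), ?_⟩
    push_cast
    rw [e₁, e₂]
    ring
  | smul b x _ h =>
    obtain ⟨N, y, hy, e⟩ := h
    obtain ⟨M, hM⟩ := (mem_good_iff g).mp hg b
    refine ⟨M + N, ⟨_, hM⟩ * y, Ideal.mul_mem_left _ _ hy, ?_⟩
    push_cast
    rw [e, smul_eq_mul]
    ring

/-- first stage: a good element congruent to `e` modulo `I B`. -/
theorem exists_good_congr [Algebra.FiniteType A B] [Module.Finite A C] (π : B →ₐ[A] C)
    (hπ : Function.Surjective π) (I : Ideal A) (e : B)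
    (hker : RingHom.ker π = I.map (algebraMap A B) ⊔ Ideal.span {1 - e})
    (hidem : e * (1 - e) ∈ I.map (algebraMap A B)) :
    ∃ g : integralClosure A B, g ∈ good A B ∧ (g : B) - e ∈ I.map (algebraMap A B) := by
  have hπe : π e = 1 := by
    have h1 : (1 - e) ∈ RingHom.ker π := hker ▸ Ideal.mem_sup_right (Ideal.subset_span rfl)
    rw [RingHom.mem_ker, map_sub, map_one, sub_eq_zero] at h1
    exact h1.symm
  -- an element of `good` mapping to `1`
  obtain ⟨c, hc, hc1⟩ := exists_map_eq_one π (good A B) (fun Q hQ => by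
    have := quasiFiniteAt_comap π hπ I e hker hidem Q
    obtain ⟨r, hr, hrq⟩ := exists_mem_good_notMem (A := A) (Q.comap π)
    exact ⟨r, hr, hrq⟩)
  -- an element of `e B + I B` mapping to `1`
  obtain ⟨g₂, hg₂, hg₂1⟩ := exists_map_eq_one π
    ((Ideal.span {e} ⊔ I.map (algebraMap A B)).comap (algebraMap (integralClosure A B) B))
    (fun Q hQ => by
      have := quasiFiniteAt_comap π hπ I e hker hidem Q
      obtain ⟨r, hr, hrq⟩ := exists_mem_good_notMem (A := A) (Q.comap π)
      obtain ⟨N, hN⟩ := (mem_good_iff r).mp hr e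
      refine ⟨⟨_, hN⟩, ?_, ?_⟩
      · exact Ideal.mem_sup_left (Ideal.mul_mem_left _ _ (Ideal.subset_span rfl))
      · show π ((r : B) ^ N * e) ∉ Q
        rw [map_mul, hπe, mul_one, map_pow]
        exact fun h => hrq (hQ.isPrime.mem_of_pow_mem _ h))
  refine ⟨g₂ * c, Ideal.mul_mem_left _ _ hc, ?_⟩
  -- congruence
  have h1 : ((g₂ * c : integralClosure A B) : B) ∈ Ideal.span {e} ⊔ I.map (algebraMap A B) := by
    push_cast
    exact Ideal.mul_mem_right _ _ hg₂
  have h2 : 1 - ((g₂ * c : integralClosure A B) : B) ∈ RingHom.ker π := by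
    rw [RingHom.mem_ker, map_sub, map_one]
    push_cast
    rw [map_mul, hg₂1, hc1, mul_one, sub_self]
  set g₀ : B := ((g₂ * c : integralClosure A B) : B) with hg₀
  obtain ⟨eb, heb, i, hi, hsum⟩ := Submodule.mem_sup.mp h1
  obtain ⟨b, rfl⟩ := Ideal.mem_span_singleton'.mp heb
  rw [hker] at h2
  obtain ⟨i', hi', eb', heb', hsum'⟩ := Submodule.mem_sup.mp h2
  obtain ⟨b', rfl⟩ := Ideal.mem_span_singleton'.mp heb'
  -- g₀ = b e + i,  1 - g₀ = i' + b' (1 - e)
  have key : g₀ - e = i + (e * (1 - e)) * b - e * i - e * i' - (e * (1 - e)) * b' := by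
    have e1 : g₀ = b * e + i := hsum.symm
    have e2 : 1 - g₀ = i' + b' * (1 - e) := hsum'.symm
    have e3 : g₀ - e = i + (e * (1 - e)) * b - e * i - e * (1 - g₀) := by rw [e1]; ring
    rw [e3, e2]; ring
  rw [key]
  refine sub_mem (sub_mem (sub_mem (add_mem hi (Ideal.mul_mem_right _ _ hidem))
    (Ideal.mul_mem_left _ _ hi)) (Ideal.mul_mem_left _ _ hi')) (Ideal.mul_mem_right _ _ hidem)

/-- second stage: a good element, idempotent modulo `I B'`, congruent to `e` modulo `I B`. -/
theorem exists_good_lift [Algebra.FiniteType A B] [Module.Finite A C] (π : B →ₐ[A] C)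
    (hπ : Function.Surjective π) (I : Ideal A) (e : B)
    (hker : RingHom.ker π = I.map (algebraMap A B) ⊔ Ideal.span {1 - e})
    (hidem : e * (1 - e) ∈ I.map (algebraMap A B)) :
    ∃ g : integralClosure A B, g ∈ good A B ∧
      g * g - g ∈ I.map (algebraMap A (integralClosure A B)) ∧
      (g : B) - e ∈ I.map (algebraMap A B) := by
  obtain ⟨g₀, hg₀, hcongr⟩ := exists_good_congr π hπ I e hker hidem
  have h1 : (g₀ : B) * g₀ - g₀ ∈ I.map (algebraMap A B) := by
    have : (g₀ : B) * g₀ - g₀ = (g₀ - e) * (g₀ + e - 1) - e * (1 - e) := by ring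
    rw [this]
    exact sub_mem (Ideal.mul_mem_right _ _ hcongr) hidem
  obtain ⟨N, y, hy, hyeq⟩ := exists_pow_mul_mem I g₀ hg₀ _ h1
  have h2 : g₀ ^ N * (g₀ * g₀ - g₀) ∈ I.map (algebraMap A (integralClosure A B)) := by
    have : g₀ ^ N * (g₀ * g₀ - g₀) = y := Subtype.ext (by push_cast; exact hyeq.symm)
    rw [this]
    exact hy
  have h30 : (Ideal.Quotient.mk (I.map (algebraMap A (integralClosure A B))) g₀) ^ (N + 2) =
      (Ideal.Quotient.mk (I.map (algebraMap A (integralClosure A B))) g₀) ^ (N + 1) := by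
    have := Ideal.Quotient.eq_zero_iff_mem.mpr h2
    rw [map_mul, map_sub, map_mul, map_pow] at this
    linear_combination this
  have h3 : ∀ k, (Ideal.Quotient.mk (I.map (algebraMap A (integralClosure A B))) g₀) ^ (N + 1 + k) =
      (Ideal.Quotient.mk (I.map (algebraMap A (integralClosure A B))) g₀) ^ (N + 1) := by
    intro k
    induction k with
    | zero => rfl
    | succ k ih => rw [← add_assoc, pow_succ, ih, ← pow_succ, h30]
  refine ⟨g₀ ^ (N + 1), Ideal.pow_mem_of_mem _ hg₀ _ (Nat.succ_pos _), ?_, ?_⟩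
  · rw [← Ideal.Quotient.eq_zero_iff_mem, map_sub, map_mul, map_pow, ← pow_add, h3 (N + 1),
      sub_self]
  · have he : Ideal.Quotient.mk (I.map (algebraMap A B)) (g₀ : B) =
        Ideal.Quotient.mk (I.map (algebraMap A B)) e := Ideal.Quotient.eq.mpr hcongr
    have hee : IsIdempotentElem (Ideal.Quotient.mk (I.map (algebraMap A B)) e) := by
      have : e * e - e ∈ I.map (algebraMap A B) := by
        have : e * e - e = -(e * (1 - e)) := by ring
        rw [this]
        exact neg_mem hidem
      have h := Ideal.Quotient.eq.mpr this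
      rwa [map_mul] at h
    rw [← Ideal.Quotient.eq]
    push_cast
    rw [map_pow, he, hee.pow_succ_eq]

theorem bijective_of_mem_good (g : integralClosure A B) (hg : g ∈ good A B) :
    Function.Bijective (algebraMap (Localization.Away g)
        (Localization (Algebra.algebraMapSubmonoid B (Submonoid.powers g)))) := by
  constructor
  · exact localizationAlgebra_injective (M := Submonoid.powers g) (S := B) _ _
      Subtype.val_injective
  · intro x
    obtain ⟨⟨b, ⟨_, ⟨_, ⟨n, rfl⟩, rfl⟩⟩⟩, rfl⟩ :=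
      IsLocalization.mk'_surjective (Algebra.algebraMapSubmonoid B (Submonoid.powers g)) x
    obtain ⟨m, hm⟩ := (mem_good_iff g).mp hg b
    refine ⟨IsLocalization.mk' _ (⟨_, hm⟩ : integralClosure A B)
      (⟨g ^ (m + n), ⟨m + n, rfl⟩⟩ : Submonoid.powers g), ?_⟩
    rw [localizationAlgebraMap_def (M := Submonoid.powers g) (S := B), IsLocalization.map_mk',
      IsLocalization.mk'_eq_iff_eq]
    congr 1
    simp only [map_pow]
    change ((g : B)) ^ n * ((g : B) ^ m * b) = (g : B) ^ (m + n) * b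
    ring

theorem main (A B : Type u) [CommRing A] [CommRing B]
    [Algebra A B] [Algebra.FiniteType A B] (I : Ideal A) (e : B ⧸ Ideal.map (algebraMap A B) I)
    (he : IsIdempotentElem e)
    (hfin : Module.Finite (A ⧸ I) ((B ⧸ Ideal.map (algebraMap A B) I) ⧸ Ideal.span {1 - e})) :
    ∃ g : integralClosure A B,
      IsIdempotentElem (Ideal.Quotient.mk (Ideal.map (algebraMap A (integralClosure A B)) I) g) ∧
      Ideal.Quotient.mk (Ideal.map (algebraMap A B) I) (g : B) = e ∧
      Function.Bijective (algebraMap (Localization.Away g)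
        (Localization (Algebra.algebraMapSubmonoid B (Submonoid.powers g)))) := by
  obtain ⟨e', rfl⟩ := Ideal.Quotient.mk_surjective e
  set IB := Ideal.map (algebraMap A B) I with hIB
  set C := (B ⧸ IB) ⧸ Ideal.span {1 - Ideal.Quotient.mk IB e'} with hC
  have hfinA : Module.Finite A C := Module.Finite.trans (A ⧸ I) C
  let π : B →ₐ[A] C := (Ideal.Quotient.mkₐ A _).comp (Ideal.Quotient.mkₐ A IB)
  have hπ : Function.Surjective π :=
    (Ideal.Quotient.mkₐ_surjective A _).comp (Ideal.Quotient.mkₐ_surjective A IB)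
  have hidem : e' * (1 - e') ∈ IB := by
    rw [← Ideal.Quotient.eq_zero_iff_mem]
    have := he.eq
    simp only [map_mul, map_sub, mul_sub, mul_one, this, sub_self]
  have hker : RingHom.ker π = IB ⊔ Ideal.span {1 - e'} := by
    ext x
    rw [RingHom.mem_ker]
    change Ideal.Quotient.mk _ (Ideal.Quotient.mk IB x) = 0 ↔ _
    rw [Ideal.Quotient.eq_zero_iff_mem, Ideal.mem_span_singleton']
    constructor
    · rintro ⟨a, ha⟩
      obtain ⟨a', rfl⟩ := Ideal.Quotient.mk_surjective a
      have h2 : x - a' * (1 - e') ∈ IB := by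
        rw [← Ideal.Quotient.eq_zero_iff_mem]
        simp only [map_mul, map_sub, map_one] at ha ⊢
        rw [ha, sub_self]
      have : x = (x - a' * (1 - e')) + a' * (1 - e') := by ring
      rw [this]
      exact Ideal.add_mem _ (Ideal.mem_sup_left h2)
        (Ideal.mem_sup_right (Ideal.mul_mem_left _ _ (Ideal.subset_span rfl)))
    · intro hx
      obtain ⟨y, hy, z, hz, rfl⟩ := Submodule.mem_sup.mp hx
      obtain ⟨c, rfl⟩ := Ideal.mem_span_singleton'.mp hz
      refine ⟨Ideal.Quotient.mk IB c, ?_⟩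
      simp only [map_add, map_mul, map_sub, map_one]
      rw [Ideal.Quotient.eq_zero_iff_mem.mpr hy, zero_add]
  obtain ⟨g, hg, hgg, hge⟩ := exists_good_lift π hπ I e' hker hidem
  refine ⟨g, ?_, ?_, bijective_of_mem_good g hg⟩
  · change _ * _ = _
    rw [← map_mul, Ideal.Quotient.eq]
    exact hgg
  · rw [Ideal.Quotient.eq]
    exact hge

end Groth.Agent.Lib.Seat80.IdemLift
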