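/-
Seat 20 helper library for S17976: étale neighbourhoods of `V(I)` splitting off the part of a finite
type algebra which is finite modulo `I` (Stacks 09XI-type statement without henselian hypothesis).
-/
import Mathlib
import Groth.Agent.Lib.Seat20EtIdemLift
import Groth.Agent.Lib.Seat80IdemLift

open Polynomial TensorProduct

universe u

namespace Groth.Agent.Lib.Seat20.PairEtFinite

attribute [local instance] Algebra.TensorProduct.rightAlgebra

section Core

variable {A B B' A' : Type u} [CommRing A] [CommRing B] [CommRing B'] [CommRing A']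
  [Algebra A B] [Algebra A B'] [Algebra A A'] (ι : B' →ₐ[A] B)

/-- The base change of `ι` to `A'`. -/
noncomputable abbrev jmap : B' ⊗[A] A' →ₐ[A] B ⊗[A] A' :=
  Algebra.TensorProduct.map ι (AlgHom.id A A')

theorem jmap_tmul (b : B') (a : A') : jmap ι (b ⊗ₜ[A] a) = ι b ⊗ₜ a := by
  simp [jmap]

/-- Elements in the image of `B' ⊗ A'` are integral over `A'`. -/
theorem isIntegral_jmap [Algebra.IsIntegral A B'] (x : B' ⊗[A] A') :
    IsIntegral A' (jmap ι x) := by
  induction x using TensorProduct.induction_on with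
  | zero => rw [map_zero]; exact isIntegral_zero
  | tmul b a =>
    rw [jmap_tmul]
    have h1 : (ι b ⊗ₜ[A] a : B ⊗[A] A') = (ι b ⊗ₜ 1) * algebraMap A' (B ⊗[A] A') a := by
      rw [Algebra.TensorProduct.right_algebraMap_apply, Algebra.TensorProduct.tmul_mul_tmul,
        mul_one, one_mul]
    rw [h1]
    refine IsIntegral.mul ?_ isIntegral_algebraMap
    have h2 : IsIntegral A (ι b) := (Algebra.IsIntegral.isIntegral b).map ι
    have h3 : IsIntegral A ((Algebra.TensorProduct.includeLeft : B →ₐ[A] B ⊗[A] A') (ι b)) :=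
      h2.map _
    exact h3.tower_top
  | add x y hx hy => rw [map_add]; exact hx.add hy

variable (g : B') (ε w : B' ⊗[A] A')

/-- The element inverted to form `C`. -/
noncomputable abbrev tt : B ⊗[A] A' := jmap ι ε * (ι g ⊗ₜ[A] (1 : A'))

/-- The ring `C`. -/
abbrev CC : Type u := Localization.Away (tt ι g ε)

variable {g ε w}

theorem algebraMap_jmap_ε (hε : IsIdempotentElem ε) :
    algebraMap (B ⊗[A] A') (CC ι g ε) (jmap ι ε) = 1 := by
  have hu : IsUnit (algebraMap (B ⊗[A] A') (CC ι g ε) (tt ι g ε)) :=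
    IsLocalization.Away.algebraMap_isUnit _
  have htt : algebraMap (B ⊗[A] A') (CC ι g ε) (tt ι g ε) =
      algebraMap (B ⊗[A] A') (CC ι g ε) (jmap ι ε) *
        algebraMap (B ⊗[A] A') (CC ι g ε) (ι g ⊗ₜ[A] (1 : A')) := map_mul _ _ _
  rw [htt] at hu
  have hu' := isUnit_of_mul_isUnit_left hu
  have hid : algebraMap (B ⊗[A] A') (CC ι g ε) (jmap ι ε) *
      algebraMap (B ⊗[A] A') (CC ι g ε) (jmap ι ε) =
      algebraMap (B ⊗[A] A') (CC ι g ε) (jmap ι ε) * 1 := by
    rw [← map_mul, ← map_mul, hε.eq, mul_one]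
  exact hu'.mul_left_cancel hid

theorem algebraMap_jmap_w (hε : IsIdempotentElem ε) (hw : w * (g ⊗ₜ 1) * ε = ε) :
    algebraMap (B ⊗[A] A') (CC ι g ε) (jmap ι w) *
      algebraMap (B ⊗[A] A') (CC ι g ε) (ι g ⊗ₜ[A] (1 : A')) = 1 := by
  have h1 := congrArg (fun x => algebraMap (B ⊗[A] A') (CC ι g ε) (jmap ι x)) hw
  simp only [map_mul, jmap_tmul, algebraMap_jmap_ε ι hε, mul_one] at h1
  exact h1

/-- The inverse of the image of `tt` in `C` is the image of `w`. -/
theorem algebraMap_tt_mul (hε : IsIdempotentElem ε) (hw : w * (g ⊗ₜ 1) * ε = ε) :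
    algebraMap (B ⊗[A] A') (CC ι g ε) (tt ι g ε) *
      algebraMap (B ⊗[A] A') (CC ι g ε) (jmap ι w) = 1 := by
  have htt : algebraMap (B ⊗[A] A') (CC ι g ε) (tt ι g ε) =
      algebraMap (B ⊗[A] A') (CC ι g ε) (jmap ι ε) *
        algebraMap (B ⊗[A] A') (CC ι g ε) (ι g ⊗ₜ[A] (1 : A')) := map_mul _ _ _
  rw [htt, algebraMap_jmap_ε ι hε, one_mul, mul_comm]
  exact algebraMap_jmap_w ι hε hw

/-- Every element of `C` is the image of an element of `B ⊗ A'` times a power of the image of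
`w`. -/
theorem exists_eq_mul_pow (hε : IsIdempotentElem ε) (hw : w * (g ⊗ₜ 1) * ε = ε)
    (c : CC ι g ε) : ∃ (x : B ⊗[A] A') (n : ℕ),
      c = algebraMap (B ⊗[A] A') (CC ι g ε) x *
        algebraMap (B ⊗[A] A') (CC ι g ε) (jmap ι w) ^ n := by
  obtain ⟨⟨x, ⟨_, n, rfl⟩⟩, hx⟩ := IsLocalization.surj (Submonoid.powers (tt ι g ε)) c
  simp only at hx
  refine ⟨x, n, ?_⟩
  rw [← hx, map_pow, mul_assoc, ← mul_pow, algebraMap_tt_mul ι hε hw, one_pow, mul_one]

theorem isIntegral_algebraMap_tensor [Algebra.IsIntegral A B'] (hε : IsIdempotentElem ε)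
    (hw : w * (g ⊗ₜ 1) * ε = ε)
    (hloc : ∀ b : B, ∃ (N : ℕ) (b' : B'), ι g ^ N * b = ι b') (x : B ⊗[A] A') :
    IsIntegral A' (algebraMap (B ⊗[A] A') (CC ι g ε) x) := by
  have hj : ∀ y : B' ⊗[A] A', IsIntegral A' (algebraMap (B ⊗[A] A') (CC ι g ε) (jmap ι y)) :=
    fun y => (isIntegral_jmap ι y).algebraMap
  induction x using TensorProduct.induction_on with
  | zero => rw [map_zero]; exact isIntegral_zero
  | tmul b a =>
    have h1 : (b ⊗ₜ[A] a : B ⊗[A] A') = (b ⊗ₜ 1) * algebraMap A' (B ⊗[A] A') a := by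
      rw [Algebra.TensorProduct.right_algebraMap_apply, Algebra.TensorProduct.tmul_mul_tmul,
        mul_one, one_mul]
    rw [h1, map_mul]
    refine IsIntegral.mul ?_ ?_
    · obtain ⟨N, b', hb'⟩ := hloc b
      have h2 : (ι g ⊗ₜ[A] (1 : A')) ^ N * (b ⊗ₜ[A] (1 : A')) = jmap ι (b' ⊗ₜ 1) := by
        rw [jmap_tmul, Algebra.TensorProduct.tmul_pow, one_pow,
          Algebra.TensorProduct.tmul_mul_tmul, mul_one, hb']
      have h3 : algebraMap (B ⊗[A] A') (CC ι g ε) (b ⊗ₜ[A] (1 : A')) =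
          algebraMap (B ⊗[A] A') (CC ι g ε) (jmap ι w) ^ N *
            algebraMap (B ⊗[A] A') (CC ι g ε) (jmap ι (b' ⊗ₜ 1)) := by
        rw [← h2, map_mul, map_pow, ← mul_assoc, ← mul_pow, algebraMap_jmap_w ι hε hw, one_pow,
          one_mul]
      rw [h3]
      exact ((hj w).pow N).mul (hj _)
    · rw [← IsScalarTower.algebraMap_apply A' (B ⊗[A] A') (CC ι g ε)]
      exact isIntegral_algebraMap
  | add x y hx hy => rw [map_add]; exact hx.add hy

theorem isIntegral_CC [Algebra.IsIntegral A B'] (hε : IsIdempotentElem ε)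
    (hw : w * (g ⊗ₜ 1) * ε = ε)
    (hloc : ∀ b : B, ∃ (N : ℕ) (b' : B'), ι g ^ N * b = ι b') :
    Algebra.IsIntegral A' (CC ι g ε) := by
  refine ⟨fun c => ?_⟩
  obtain ⟨x, n, rfl⟩ := exists_eq_mul_pow ι hε hw c
  exact (isIntegral_algebraMap_tensor ι hε hw hloc x).mul
    ((isIntegral_jmap ι w).algebraMap.pow n)

theorem finite_CC [Algebra.IsIntegral A B'] [Algebra.FiniteType A B] [Algebra.Etale A A']
    (hε : IsIdempotentElem ε)
    (hw : w * (g ⊗ₜ 1) * ε = ε)
    (hloc : ∀ b : B, ∃ (N : ℕ) (b' : B'), ι g ^ N * b = ι b') :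
    Module.Finite A' (CC ι g ε) := by
  have := isIntegral_CC ι hε hw hloc
  have h1 : Algebra.Etale B (CC ι g ε) := Algebra.Etale.comp B (B ⊗[A] A') _
  have h2 : Algebra.FiniteType A (CC ι g ε) :=
    Algebra.FiniteType.trans (S := B) inferInstance inferInstance
  have h3 : Algebra.FiniteType A' (CC ι g ε) :=
    Algebra.FiniteType.of_restrictScalars_finiteType A A' _
  exact Algebra.IsIntegral.finite

section Retraction

variable (I : Ideal A) (σ : A' →ₐ[A] A ⧸ I)

theorem algebraMap_quot_eq_zero {a : A} (ha : a ∈ I) :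
    algebraMap A (B ⧸ I.map (algebraMap A B)) a = 0 := by
  rw [IsScalarTower.algebraMap_apply A B (B ⧸ I.map (algebraMap A B))]
  exact Ideal.Quotient.eq_zero_iff_mem.mpr (Ideal.mem_map_of_mem _ ha)

/-- An `A`-algebra map to `B ⧸ I B` kills `I R`. -/
theorem eq_zero_of_mem_map {R : Type*} [CommRing R] [Algebra A R]
    (φ : R →ₐ[A] B ⧸ I.map (algebraMap A B)) {k : R} (hk : k ∈ I.map (algebraMap A R)) :
    φ k = 0 := by
  have hle : I.map (algebraMap A R) ≤ RingHom.ker (φ : R →+* B ⧸ I.map (algebraMap A B)) := by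
    rw [Ideal.map_le_iff_le_comap]
    intro a ha
    rw [Ideal.mem_comap, RingHom.mem_ker]
    change φ (algebraMap A R a) = 0
    rw [AlgHom.commutes]
    exact algebraMap_quot_eq_zero I ha
  exact hle hk

variable (B) in
/-- `A ⧸ I → B ⧸ I B`. -/
noncomputable def quotMap : A ⧸ I →ₐ[A] B ⧸ I.map (algebraMap A B) :=
  Ideal.Quotient.liftₐ I (Algebra.ofId A _) (fun _ ha => algebraMap_quot_eq_zero I ha)

/-- The retraction `B ⊗ A' → B ⧸ I B`. -/
noncomputable def r₀ : B ⊗[A] A' →ₐ[A] B ⧸ I.map (algebraMap A B) :=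
  Algebra.TensorProduct.lift (Ideal.Quotient.mkₐ A _) ((quotMap B I).comp σ)
    (fun _ _ => Commute.all _ _)

theorem r₀_tmul (b : B) (a : A') :
    r₀ I σ (b ⊗ₜ[A] a) = Ideal.Quotient.mk _ b * quotMap B I (σ a) := by
  simp [r₀]

variable {I}

theorem r₀_tt (hg1 : Ideal.Quotient.mk (I.map (algebraMap A B)) (ι g) = 1)
    (hεg : ε - g ⊗ₜ 1 ∈ I.map (algebraMap A (B' ⊗[A] A'))) :
    r₀ I σ (tt ι g ε) = 1 := by
  have h1 : r₀ I σ (ι g ⊗ₜ[A] (1 : A')) = 1 := by
    rw [r₀_tmul, hg1, map_one, map_one, one_mul]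
  have h2 : r₀ I σ (jmap ι ε) = 1 := by
    have h3 : ((r₀ I σ).comp (jmap ι)) (ε - g ⊗ₜ 1) = 0 := eq_zero_of_mem_map I _ hεg
    rw [map_sub, sub_eq_zero, AlgHom.comp_apply, AlgHom.comp_apply, jmap_tmul, h1] at h3
    exact h3
  change r₀ I σ (jmap ι ε * (ι g ⊗ₜ[A] (1 : A'))) = 1
  rw [map_mul, h1, h2, one_mul]

/-- The retraction `C → B ⧸ I B`. -/
noncomputable def rr (hg1 : Ideal.Quotient.mk (I.map (algebraMap A B)) (ι g) = 1)
    (hεg : ε - g ⊗ₜ 1 ∈ I.map (algebraMap A (B' ⊗[A] A'))) :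
    CC ι g ε →+* B ⧸ I.map (algebraMap A B) :=
  IsLocalization.Away.lift (tt ι g ε)
    (g := ((r₀ I σ : B ⊗[A] A' →ₐ[A] B ⧸ I.map (algebraMap A B)) :
      B ⊗[A] A' →+* B ⧸ I.map (algebraMap A B))) (by
    change IsUnit (r₀ I σ (tt ι g ε))
    rw [r₀_tt ι σ hg1 hεg]
    exact isUnit_one)

theorem rr_algebraMap (hg1 : Ideal.Quotient.mk (I.map (algebraMap A B)) (ι g) = 1)
    (hεg : ε - g ⊗ₜ 1 ∈ I.map (algebraMap A (B' ⊗[A] A'))) (b : B) :
    rr ι σ hg1 hεg (algebraMap B (CC ι g ε) b) = Ideal.Quotient.mk _ b := by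
  rw [IsScalarTower.algebraMap_apply B (B ⊗[A] A') (CC ι g ε)]
  have : rr ι σ hg1 hεg (algebraMap (B ⊗[A] A') (CC ι g ε) (algebraMap B (B ⊗[A] A') b)) =
      r₀ I σ (algebraMap B (B ⊗[A] A') b) := IsLocalization.Away.lift_eq _ _ _
  rw [this, Algebra.TensorProduct.algebraMap_apply, Algebra.algebraMap_self_apply, r₀_tmul, map_one, map_one,
    mul_one]

theorem map_algebraMap_B_le :
    (I.map (algebraMap A B)).map (algebraMap B (CC ι g ε)) = I.map (algebraMap A (CC ι g ε)) := by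
  rw [Ideal.map_map, ← IsScalarTower.algebraMap_eq]

include σ in
theorem quot_ker (hg1 : Ideal.Quotient.mk (I.map (algebraMap A B)) (ι g) = 1)
    (hεg : ε - g ⊗ₜ 1 ∈ I.map (algebraMap A (B' ⊗[A] A'))) :
    RingHom.ker ((Ideal.Quotient.mk (I.map (algebraMap A (CC ι g ε)))).comp
      (algebraMap B (CC ι g ε))) = I.map (algebraMap A B) := by
  apply le_antisymm
  · intro b hb
    rw [RingHom.mem_ker, RingHom.comp_apply, Ideal.Quotient.eq_zero_iff_mem] at hb
    have hle : I.map (algebraMap A (CC ι g ε)) ≤ RingHom.ker (rr ι σ hg1 hεg) := by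
      rw [Ideal.map_le_iff_le_comap]
      intro a ha
      rw [Ideal.mem_comap, RingHom.mem_ker, IsScalarTower.algebraMap_apply A B (CC ι g ε),
        rr_algebraMap]
      exact Ideal.Quotient.eq_zero_iff_mem.mpr (Ideal.mem_map_of_mem _ ha)
    have := hle hb
    rw [RingHom.mem_ker, rr_algebraMap] at this
    exact Ideal.Quotient.eq_zero_iff_mem.mp this
  · intro b hb
    rw [RingHom.mem_ker, RingHom.comp_apply, Ideal.Quotient.eq_zero_iff_mem,
      ← map_algebraMap_B_le ι]
    exact Ideal.mem_map_of_mem _ hb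

theorem quot_surjective (hε : IsIdempotentElem ε) (hw : w * (g ⊗ₜ 1) * ε = ε)
    (hker : RingHom.ker σ = I.map (algebraMap A A'))
    (hg1 : Ideal.Quotient.mk (I.map (algebraMap A B)) (ι g) = 1) :
    Function.Surjective ((Ideal.Quotient.mk (I.map (algebraMap A (CC ι g ε)))).comp
      (algebraMap B (CC ι g ε))) := by
  set KC := I.map (algebraMap A (CC ι g ε)) with hKC
  set ρ := (Ideal.Quotient.mk KC).comp (algebraMap B (CC ι g ε)) with hρ
  have h1 : ∀ a : A', Ideal.Quotient.mk KC (algebraMap A' (CC ι g ε) a) ∈ ρ.range := by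
    intro a
    obtain ⟨a₀, ha₀⟩ := Ideal.Quotient.mk_surjective (σ a)
    have hx : a - algebraMap A A' a₀ ∈ RingHom.ker σ := by
      rw [RingHom.mem_ker, map_sub, AlgHom.commutes, ← ha₀]
      exact sub_self _
    rw [hker] at hx
    have hx' : algebraMap A' (CC ι g ε) (a - algebraMap A A' a₀) ∈ KC := by
      have := Ideal.mem_map_of_mem (algebraMap A' (CC ι g ε)) hx
      rwa [Ideal.map_map, ← IsScalarTower.algebraMap_eq] at this
    refine ⟨algebraMap A B a₀, ?_⟩
    rw [hρ, RingHom.comp_apply, ← IsScalarTower.algebraMap_apply, Ideal.Quotient.eq,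
      IsScalarTower.algebraMap_apply A A' (CC ι g ε), ← map_sub, ← Ideal.neg_mem_iff, ← map_neg,
      neg_sub]
    exact hx'
  have h2 : ∀ x : B ⊗[A] A', Ideal.Quotient.mk KC (algebraMap (B ⊗[A] A') (CC ι g ε) x) ∈
      ρ.range := by
    intro x
    induction x using TensorProduct.induction_on with
    | zero => rw [map_zero, map_zero]; exact ρ.range.zero_mem
    | tmul b a =>
      have e1 : (b ⊗ₜ[A] a : B ⊗[A] A') = algebraMap B (B ⊗[A] A') b *
          algebraMap A' (B ⊗[A] A') a := by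
        rw [Algebra.TensorProduct.right_algebraMap_apply, Algebra.TensorProduct.algebraMap_apply,
          Algebra.algebraMap_self_apply, Algebra.TensorProduct.tmul_mul_tmul, mul_one, one_mul]
      rw [e1, map_mul, map_mul, ← IsScalarTower.algebraMap_apply,
        ← IsScalarTower.algebraMap_apply]
      exact ρ.range.mul_mem ⟨b, rfl⟩ (h1 a)
    | add x y hx hy => rw [map_add, map_add]; exact ρ.range.add_mem hx hy
  have h3 : Ideal.Quotient.mk KC (algebraMap (B ⊗[A] A') (CC ι g ε) (jmap ι w)) = 1 := by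
    have e1 := congrArg (Ideal.Quotient.mk KC) (algebraMap_jmap_w ι hε hw)
    rw [map_mul, map_one] at e1
    have e2 : Ideal.Quotient.mk KC (algebraMap (B ⊗[A] A') (CC ι g ε) (ι g ⊗ₜ[A] (1 : A'))) =
        1 := by
      have e3 : (ι g ⊗ₜ[A] (1 : A') : B ⊗[A] A') = algebraMap B (B ⊗[A] A') (ι g) := by
        rw [Algebra.TensorProduct.algebraMap_apply, Algebra.algebraMap_self_apply]
      rw [e3, ← IsScalarTower.algebraMap_apply, ← map_one (Ideal.Quotient.mk KC),
        Ideal.Quotient.eq, ← map_one (algebraMap B (CC ι g ε)), ← map_sub, hKC,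
        ← map_algebraMap_B_le ι]
      refine Ideal.mem_map_of_mem _ ?_
      rw [← Ideal.Quotient.eq, hg1, map_one]
    rw [e2, mul_one] at e1
    exact e1
  intro c
  obtain ⟨c, rfl⟩ := Ideal.Quotient.mk_surjective c
  obtain ⟨x, n, rfl⟩ := exists_eq_mul_pow ι hε hw c
  rw [map_mul, map_pow, h3, one_pow, mul_one]
  exact h2 x

end Retraction

/-- The conditions on `A'`. -/
theorem base_conditions (I : Ideal A) (σ : A' →ₐ[A] A ⧸ I)
    (hker : RingHom.ker σ = I.map (algebraMap A A')) :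
    Function.Surjective ((Ideal.Quotient.mk (I.map (algebraMap A A'))).comp (algebraMap A A')) ∧
    RingHom.ker ((Ideal.Quotient.mk (I.map (algebraMap A A'))).comp (algebraMap A A')) = I := by
  constructor
  · intro x
    obtain ⟨x, rfl⟩ := Ideal.Quotient.mk_surjective x
    obtain ⟨a₀, ha₀⟩ := Ideal.Quotient.mk_surjective (σ x)
    refine ⟨a₀, ?_⟩
    rw [RingHom.comp_apply, Ideal.Quotient.eq, ← hker, RingHom.mem_ker, map_sub, AlgHom.commutes,
      ← ha₀]
    exact sub_self _
  · ext a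
    rw [RingHom.mem_ker, RingHom.comp_apply, Ideal.Quotient.eq_zero_iff_mem, ← hker,
      RingHom.mem_ker, AlgHom.commutes]
    exact Ideal.Quotient.eq_zero_iff_mem

/-- The conditions on `C`. -/
theorem core [Algebra.IsIntegral A B'] [Algebra.FiniteType A B] [Algebra.Etale A A']
    (I : Ideal A) (σ : A' →ₐ[A] A ⧸ I) (hker : RingHom.ker σ = I.map (algebraMap A A'))
    (hε : IsIdempotentElem ε) (hεg : ε - g ⊗ₜ 1 ∈ I.map (algebraMap A (B' ⊗[A] A')))
    (hw : w * (g ⊗ₜ 1) * ε = ε)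
    (hg1 : Ideal.Quotient.mk (I.map (algebraMap A B)) (ι g) = 1)
    (hloc : ∀ b : B, ∃ (N : ℕ) (b' : B'), ι g ^ N * b = ι b') :
    ∃ (C : Type u) (_ : CommRing C) (_ : Algebra A C) (_ : Algebra A' C) (_ : Algebra B C)
      (_ : IsScalarTower A A' C) (_ : IsScalarTower A B C),
      Algebra.Etale B C ∧ Module.Finite A' C ∧
      Function.Surjective ((Ideal.Quotient.mk (Ideal.map (algebraMap A C) I)).comp
        (algebraMap B C)) ∧
      RingHom.ker ((Ideal.Quotient.mk (Ideal.map (algebraMap A C) I)).comp (algebraMap B C)) =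
        Ideal.map (algebraMap A B) I :=
  ⟨CC ι g ε, inferInstance, inferInstance, inferInstance, inferInstance, inferInstance,
    inferInstance, Algebra.Etale.comp B (B ⊗[A] A') _, finite_CC ι hε hw hloc,
    quot_surjective ι σ hε hw hker hg1, quot_ker ι σ hg1 hεg⟩

end Core

/-- **Main theorem** (S17976). -/
theorem main (A : Type u) [CommRing A] (I : Ideal A) (B : Type u) [CommRing B] [Algebra A B]
    [Algebra.FiniteType A B]
    (hfin : Module.Finite A (B ⧸ Ideal.map (algebraMap A B) I)) :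
    ∃ (A' : Type u) (_ : CommRing A') (_ : Algebra A A') (_ : Algebra.Etale A A')
      (C : Type u) (_ : CommRing C) (_ : Algebra A C) (_ : Algebra A' C) (_ : Algebra B C)
      (_ : IsScalarTower A A' C) (_ : IsScalarTower A B C),
      Function.Surjective ((Ideal.Quotient.mk (Ideal.map (algebraMap A A') I)).comp
        (algebraMap A A')) ∧
      RingHom.ker ((Ideal.Quotient.mk (Ideal.map (algebraMap A A') I)).comp (algebraMap A A')) =
        I ∧
      Algebra.Etale B C ∧ Module.Finite A' C ∧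
      Function.Surjective ((Ideal.Quotient.mk (Ideal.map (algebraMap A C) I)).comp
        (algebraMap B C)) ∧
      RingHom.ker ((Ideal.Quotient.mk (Ideal.map (algebraMap A C) I)).comp (algebraMap B C)) =
        Ideal.map (algebraMap A B) I := by
  -- Step 1: Zariski's main theorem (helper80's lemma) with the idempotent `1`.
  have hker0 : RingHom.ker (Ideal.Quotient.mkₐ A (I.map (algebraMap A B))) =
      I.map (algebraMap A B) ⊔ Ideal.span {(1 : B) - 1} := by
    rw [sub_self, Ideal.span_singleton_zero, sup_bot_eq]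
    exact Ideal.Quotient.mkₐ_ker A _
  obtain ⟨g, hgood, hgg, hg1⟩ := Groth.Agent.Lib.Seat80.IdemLift.exists_good_lift
    (Ideal.Quotient.mkₐ A (I.map (algebraMap A B))) (Ideal.Quotient.mkₐ_surjective A _) I 1 hker0
    (by rw [sub_self, mul_zero]; exact Ideal.zero_mem _)
  have hgood' := (Groth.Agent.Lib.Seat80.IdemLift.mem_good_iff g).mp hgood
  -- Step 2: étale-local lifting of the idempotent `g mod I`.
  have hgg' : g ^ 2 - g ∈ I.map (algebraMap A (integralClosure A B)) := by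
    rw [pow_two]; exact hgg
  obtain ⟨A', _, _, _, σ, ε, w, hker, hε, hεg, hw⟩ :=
    EtIdemLift.exists_etale_idempotent_lift I g hgg'
  -- Step 3: the algebra `C`.
  have hg1' : Ideal.Quotient.mk (I.map (algebraMap A B)) ((integralClosure A B).val g) = 1 := by
    rw [← map_one (Ideal.Quotient.mk (I.map (algebraMap A B))), Ideal.Quotient.eq]
    exact hg1
  have hloc : ∀ b : B, ∃ (N : ℕ) (b' : integralClosure A B),
      (integralClosure A B).val g ^ N * b = (integralClosure A B).val b' := by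
    intro b
    obtain ⟨m, hm⟩ := hgood' b
    exact ⟨m, ⟨_, hm⟩, rfl⟩
  obtain ⟨C, _, _, _, _, _, _, h1, h2, h3, h4⟩ :=
    core (integralClosure A B).val I σ hker hε hεg hw hg1' hloc
  obtain ⟨h5, h6⟩ := base_conditions I σ hker
  exact ⟨A', inferInstance, inferInstance, inferInstance, C, inferInstance, inferInstance,
    inferInstance, inferInstance, inferInstance, inferInstance, h5, h6, h1, h2, h3, h4⟩

end Groth.Agent.Lib.Seat20.PairEtFinite
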