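import Mathlib
import Groth.Agent.Lib.Seat20NwdFinite

/-!
# Seat20: a chart of a quasi-finite algebra is finite after a generic localization of the base
-/

set_option autoImplicit false

namespace Groth.Agent.Lib.Seat20.QFChart

open PrimeSpectrum Groth.Agent.Lib.Seat20.NwdFinite

section finite

variable {A S Aa Sb : Type*} [CommRing A] [CommRing S] [CommRing Aa] [CommRing Sb]
  [Algebra A S] [Algebra A Aa] [Algebra S Sb]

/-- the key finiteness statement -/
theorem finite_of_chart (a : A) (b : S) [IsLocalization.Away a Aa] [IsLocalization.Away b Sb]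
    (ψ : Aa →+* Sb) (hψ : ψ.comp (algebraMap A Aa) = (algebraMap S Sb).comp (algebraMap A S))
    (S' : Subalgebra A S) (hfin : S'.toSubmodule.FG) (r : S')
    (hb : b = (r : S) * algebraMap A S a)
    (hsurj : ∀ x : S, ∃ (s' : S') (k : ℕ), (s' : S) = (r : S) ^ k * x)
    (m : ℕ) (s i : S') (N : ℕ) (h1 : algebraMap A S' a ^ m = r * s + i) (h2 : r ^ N * i = 0) :
    ψ.Finite := by
  classical
  have hψ' : ∀ c : A, ψ (algebraMap A Aa c) = algebraMap S Sb (algebraMap A S c) := fun c =>
    RingHom.congr_fun hψ c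
  set ι : S →+* Sb := algebraMap S Sb with hι
  set u : Sb := ι (algebraMap A S a) with hu
  set u' : Sb := ψ (IsLocalization.Away.invSelf a) with hu'
  have huu' : u * u' = 1 := by
    rw [hu, ← hψ', hu', ← map_mul, IsLocalization.Away.mul_invSelf, map_one]
  set ρ : Sb := ι (r : S) with hρ
  have hbunit : IsUnit (ι b) := IsLocalization.Away.algebraMap_isUnit b
  have hρunit : IsUnit ρ := by
    rw [hb, map_mul] at hbunit
    exact isUnit_of_mul_isUnit_left hbunit
  have hi0 : ι (i : S) = 0 := by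
    have h3 : ρ ^ N * ι (i : S) = 0 := by
      rw [hρ, ← map_pow, ← map_mul]
      have h4 : ((r : S) ^ N * (i : S)) = 0 := by
        have := congrArg (fun z : S' => (z : S)) h2
        simpa using this
      rw [h4, map_zero]
    exact (hρunit.pow N).mul_right_eq_zero.1 h3
  have hum : u ^ m = ρ * ι (s : S) := by
    have h3 := congrArg (fun z : S' => ι (z : S)) h1
    simp only [Subalgebra.coe_pow, Subalgebra.coe_algebraMap, Subalgebra.coe_add,
      Subalgebra.coe_mul, map_pow, map_add, map_mul, hi0, add_zero] at h3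
    exact h3
  set ρ' : Sb := ι (s : S) * u' ^ m with hρ'
  have hρρ' : ρ * ρ' = 1 := by
    calc ρ * (ι (s : S) * u' ^ m) = (ρ * ι (s : S)) * u' ^ m := by ring
      _ = u ^ m * u' ^ m := by rw [hum]
      _ = (u * u') ^ m := by rw [mul_pow]
      _ = 1 := by rw [huu', one_pow]
  have hιb : ι b * (ρ' * u') = 1 := by
    rw [hb, map_mul]
    calc ι (r : S) * ι (algebraMap A S a) * (ρ' * u') = (ρ * ρ') * (u * u') := by ring
      _ = 1 := by rw [hρρ', huu', one_mul]
  obtain ⟨t, ht⟩ := hfin
  let := ψ.toAlgebra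
  refine ⟨⟨t.image ι, ?_⟩⟩
  set M : Submodule Aa Sb := Submodule.span Aa ((t.image ι : Finset Sb) : Set Sb) with hM
  have step1 : ∀ x : S, x ∈ Submodule.span A (t : Set S) → ι x ∈ M := by
    intro x hx
    induction hx using Submodule.span_induction with
    | mem y hy =>
      refine Submodule.subset_span ?_
      rw [Finset.coe_image]
      exact ⟨y, hy, rfl⟩
    | zero => rw [map_zero]; exact M.zero_mem
    | add y z _ _ hy hz => rw [map_add]; exact M.add_mem hy hz
    | smul c y _ hy =>
      rw [Algebra.smul_def, map_mul]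
      have h3 : ι (algebraMap A S c) * ι y = (algebraMap A Aa c) • ι y := by
        rw [Algebra.smul_def, RingHom.algebraMap_toAlgebra, hψ']
      rw [h3]
      exact M.smul_mem _ hy
  rw [eq_top_iff]
  rintro z -
  obtain ⟨n, x, hzx⟩ := IsLocalization.Away.surj b z
  obtain ⟨s'', k, hs''⟩ := hsurj x
  have hz : z = ι x * (ρ' * u') ^ n := by
    calc z = z * (ι b * (ρ' * u')) ^ n := by rw [hιb, one_pow, mul_one]
      _ = (z * ι b ^ n) * (ρ' * u') ^ n := by ring
      _ = ι x * (ρ' * u') ^ n := by rw [hzx]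
  have hx : ι x = ρ' ^ k * ι (s'' : S) := by
    rw [hs'', map_mul, map_pow]
    calc ι x = (ρ * ρ') ^ k * ι x := by rw [hρρ', one_pow, one_mul]
      _ = ρ' ^ k * (ρ ^ k * ι x) := by ring
  have hfinal : z = (IsLocalization.Away.invSelf a ^ (m * (k + n) + n) : Aa) •
      ι ((s : S) ^ (k + n) * (s'' : S)) := by
    rw [Algebra.smul_def, RingHom.algebraMap_toAlgebra, hz, hx, map_pow, map_mul, map_pow, hρ']
    rw [← hu']
    ring
  rw [hfinal]
  refine M.smul_mem _ (step1 _ ?_)
  rw [ht]
  exact S'.mul_mem (S'.pow_mem s.2 _) s''.2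

end finite

section bad

variable {A S' : Type*} [CommRing A] [CommRing S'] [Algebra A S']

/-- the ideal of `r`-power torsion elements -/
def torsIdeal (r : S') : Ideal S' := RingHom.ker (algebraMap S' (Localization.Away r))

lemma mem_torsIdeal {r i : S'} : i ∈ torsIdeal r ↔ ∃ N : ℕ, r ^ N * i = 0 := by
  rw [torsIdeal, RingHom.mem_ker, IsLocalization.map_eq_zero_iff (Submonoid.powers r)]
  constructor
  · rintro ⟨⟨_, N, rfl⟩, h⟩
    exact ⟨N, h⟩
  · rintro ⟨N, h⟩
    exact ⟨⟨_, N, rfl⟩, h⟩

/-- the boundary of the basic open `D(r)` -/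
def badSet (r : S') : Set (PrimeSpectrum S') :=
  zeroLocus {r} ∩ zeroLocus (torsIdeal r : Set S')

lemma isClosed_badSet (r : S') : IsClosed (badSet r) :=
  (isClosed_zeroLocus _).inter (isClosed_zeroLocus _)

lemma isNowhereDense_badSet (r : S') : IsNowhereDense (badSet r) := by
  rw [(isClosed_badSet r).isNowhereDense_iff]
  by_contra hne
  obtain ⟨q, hq⟩ := Set.nonempty_iff_ne_empty.2 hne
  obtain ⟨_, ⟨β, rfl⟩, hqβ, hβsub⟩ :=
    isTopologicalBasis_basic_opens.exists_subset_of_mem_open hq isOpen_interior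
  replace hqβ : q ∈ (basicOpen β : Set (PrimeSpectrum S')) := hqβ
  replace hβsub : (basicOpen β : Set (PrimeSpectrum S')) ⊆ interior (badSet r) := hβsub
  have hsub : (basicOpen β : Set (PrimeSpectrum S')) ⊆ badSet r := hβsub.trans interior_subset
  -- `β * r` is nilpotent
  have hnil : IsNilpotent (β * r) := by
    rw [nilpotent_iff_mem_prime]
    intro J hJ
    by_cases hβJ : β ∈ J
    · exact J.mul_mem_right _ hβJ
    · have h1 : (⟨J, hJ⟩ : PrimeSpectrum S') ∈ badSet r := hsub hβJ
      have h2 : r ∈ J := h1.1 (Set.mem_singleton r)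
      exact J.mul_mem_left _ h2
  obtain ⟨n, hn⟩ := hnil
  have h3 : β ^ n ∈ torsIdeal r := by
    rw [mem_torsIdeal]
    refine ⟨n, ?_⟩
    rw [← mul_pow, mul_comm]
    exact hn
  have h4 : β ^ n ∈ q.asIdeal := (hsub hqβ).2 h3
  exact hqβ (q.2.mem_of_pow_mem _ h4)

/-- if `a` vanishes on the bad set then a power of it decomposes -/
theorem exists_decomp (r : S') (a : A)
    (h : ∀ q ∈ badSet r, algebraMap A S' a ∈ q.asIdeal) :
    ∃ (m : ℕ) (s i : S') (N : ℕ), algebraMap A S' a ^ m = r * s + i ∧ r ^ N * i = 0 := by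
  have h1 : algebraMap A S' a ∈ (Ideal.span {r} ⊔ torsIdeal r).radical := by
    rw [← vanishingIdeal_zeroLocus_eq_radical, mem_vanishingIdeal]
    intro q hq
    refine h q ⟨?_, ?_⟩
    · rw [← zeroLocus_span]
      exact zeroLocus_anti_mono_ideal le_sup_left hq
    · exact zeroLocus_anti_mono_ideal le_sup_right hq
  obtain ⟨m, hm⟩ := h1
  obtain ⟨x, hx, i, hi, hxi⟩ := Submodule.mem_sup.1 hm
  obtain ⟨s, rfl⟩ := Ideal.mem_span_singleton'.1 hx
  obtain ⟨N, hN⟩ := mem_torsIdeal.1 hi
  exact ⟨m, s, i, N, by rw [← hxi, mul_comm], hN⟩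

variable [Module.Finite A S']

/-- the image of the bad set in the base -/
lemma isClosed_image_badSet (r : S') : IsClosed (comap (algebraMap A S') '' badSet r) :=
  isClosedMap_comap_of_isIntegral _ (Algebra.IsIntegral.of_finite A S').isIntegral _
    (isClosed_badSet r)

lemma isNowhereDense_image_badSet (r : S') :
    IsNowhereDense (comap (algebraMap A S') '' badSet r) :=
  isNowhereDense_image_comap_of_finite _ (isClosed_badSet r) (isNowhereDense_badSet r)

end bad

end Groth.Agent.Lib.Seat20.QFChart
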