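import Mathlib
import Groth.Agent.Lib.Seat20NwdScheme
import Groth.Agent.Lib.Seat20QFChart

/-!
# Seat20: a quasi-finite morphism is finite over a dense open of the target
-/

set_option autoImplicit false

universe u

open AlgebraicGeometry CategoryTheory Limits TopologicalSpace Topology

namespace Groth.Agent.Lib.Seat20.QFDense

open Groth.Agent.Lib.Seat20.NwdFinite Groth.Agent.Lib.Seat20.NwdScheme
  Groth.Agent.Lib.Seat20.QFChart

variable {Y X : Scheme.{u}} (f : Y ⟶ X)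

/-- `U → V` is finite -/
def FinOn (U : Y.Opens) (V : X.Opens) : Prop :=
  ∃ h : U ≤ f ⁻¹ᵁ V, IsFinite (f.resLE V U h)

variable {f}

lemma FinOn.congr {U U' : Y.Opens} {V V' : X.Opens} (h : FinOn f U V) (e₁ : U = U')
    (e₂ : V = V') : FinOn f U' V' := by
  subst e₁; subst e₂; exact h

variable (f) in
lemma FinOn.bot (V : X.Opens) : FinOn f ⊥ V := by
  refine ⟨bot_le, ?_⟩
  have : IsEmpty ↥(⊥ : Y.Opens) := ⟨fun x => x.2⟩
  have : IsEmpty ((⊥ : Y.Opens) : Scheme.{u}) := this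
  infer_instance

variable (f) in
lemma finOn_top_iff (V : X.Opens) : FinOn f (f ⁻¹ᵁ V) V ↔ IsFinite (f ∣_ V) := by
  constructor
  · rintro ⟨h, hfin⟩
    rwa [Scheme.Hom.resLE_eq_morphismRestrict] at hfin
  · intro hfin
    refine ⟨le_rfl, ?_⟩
    rwa [Scheme.Hom.resLE_eq_morphismRestrict]

lemma FinOn.mono {U : Y.Opens} {V : X.Opens} (h : FinOn f U V) {V' : X.Opens} (hV : V' ≤ V) :
    FinOn f (U ⊓ f ⁻¹ᵁ V') V' := by
  obtain ⟨e, hfin⟩ := h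
  refine ⟨inf_le_right, ?_⟩
  have H : IsPullback (𝟙 Y) f f (𝟙 X) := IsPullback.id_horiz f
  have hsq := Scheme.Hom.isPullback_resLE H (US := V) (UT := V') (UX := U)
    (UY := U ⊓ f ⁻¹ᵁ V') (show V' ≤ (𝟙 X) ⁻¹ᵁ V from hV) e (by simp)
  exact MorphismProperty.of_isPullback hsq hfin

lemma FinOn.of_closed {U : Y.Opens} {V : X.Opens} (h : FinOn f U V) {U' : Y.Opens} (hU : U' ≤ U)
    (Z : Set Y) (hZ : IsClosed Z) (hUZ : (U' : Set Y) = (U : Set Y) ∩ Z) : FinOn f U' V := by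
  obtain ⟨e, hfin⟩ := h
  refine ⟨hU.trans e, ?_⟩
  rw [← Scheme.Hom.map_resLE f e hU]
  have hcl : IsClosedImmersion (Y.homOfLE hU) := by
    refine IsClosedImmersion.of_isPreimmersion _ ?_
    have hrange : Set.range (Y.homOfLE hU) = U.ι ⁻¹' Z := by
      ext y
      constructor
      · rintro ⟨x, rfl⟩
        have hx : (U'.ι x) ∈ (U' : Set Y) := x.2
        have : U.ι ((Y.homOfLE hU) x) = U'.ι x := by
          rw [← Scheme.Hom.comp_apply, Scheme.homOfLE_ι]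
        change U.ι ((Y.homOfLE hU) x) ∈ Z
        rw [this]
        rw [hUZ] at hx
        exact hx.2
      · intro hy
        have hy' : (U.ι y) ∈ (U' : Set Y) := by
          rw [hUZ]
          exact ⟨y.2, hy⟩
        refine ⟨⟨U.ι y, hy'⟩, ?_⟩
        apply U.ι.isOpenEmbedding.injective
        rw [← Scheme.Hom.comp_apply, Scheme.homOfLE_ι]
        rfl
    rw [hrange]
    exact hZ.preimage U.ι.continuous
  infer_instance

lemma FinOn.sup_of_disjoint {U₁ U₂ : Y.Opens} {V : X.Opens} (h₁ : FinOn f U₁ V)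
    (h₂ : FinOn f U₂ V) (hd : Disjoint U₁ U₂) : FinOn f (U₁ ⊔ U₂) V := by
  obtain ⟨e₁, hfin₁⟩ := h₁
  obtain ⟨e₂, hfin₂⟩ := h₂
  have e : U₁ ⊔ U₂ ≤ f ⁻¹ᵁ V := sup_le e₁ e₂
  refine ⟨e, ?_⟩
  have hl₁ : U₁ ≤ U₁ ⊔ U₂ := le_sup_left
  have hl₂ : U₂ ≤ U₁ ⊔ U₂ := le_sup_right
  let i₁ := Y.homOfLE hl₁
  let i₂ := Y.homOfLE hl₂
  have hcompl : IsCompl i₁.opensRange i₂.opensRange := by
    simp only [i₁, i₂, Scheme.opensRange_homOfLE]
    constructor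
    · rw [disjoint_iff]
      ext x
      simp only [Opens.coe_inf, Set.mem_inter_iff, SetLike.mem_coe, Opens.coe_bot,
        Set.mem_empty_iff_false, iff_false, not_and]
      intro hx₁ hx₂
      have : (U₁ ⊔ U₂).ι x ∈ U₁ ⊓ U₂ := ⟨hx₁, hx₂⟩
      rw [disjoint_iff.1 hd] at this
      exact this
    · rw [codisjoint_iff]
      ext x
      simp only [Opens.coe_sup, Set.mem_union, SetLike.mem_coe, Opens.coe_top, Set.mem_univ,
        iff_true]
      have hx : (U₁ ⊔ U₂).ι x ∈ U₁ ⊔ U₂ := x.2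
      rcases hx with hx | hx
      · exact Or.inl hx
      · exact Or.inr hx
  obtain ⟨H⟩ := nonempty_isColimit_binaryCofanMk_of_isCompl i₁ i₂ hcompl
  let ε := (colimit.isColimit (pair (U₁ : Scheme.{u}) (U₂ : Scheme.{u}))).coconePointUniqueUpToIso H
  have hε : ε.hom = coprod.desc i₁ i₂ := rfl
  have hiso : IsIso (coprod.desc i₁ i₂) := by
    rw [← hε]; infer_instance
  have hfin : IsFinite (coprod.desc i₁ i₂ ≫ f.resLE V (U₁ ⊔ U₂) e) := by
    rw [coprod.desc_comp]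
    have h3 : i₁ ≫ f.resLE V (U₁ ⊔ U₂) e = f.resLE V U₁ e₁ := Scheme.Hom.map_resLE f e hl₁
    have h4 : i₂ ≫ f.resLE V (U₁ ⊔ U₂) e = f.resLE V U₂ e₂ := Scheme.Hom.map_resLE f e hl₂
    rw [h3, h4]
    infer_instance
  exact (MorphismProperty.cancel_left_of_respectsIso @IsFinite (coprod.desc i₁ i₂) _).1 hfin

lemma FinOn.glue {U₁ U₂ : Y.Opens} {V : X.Opens} (h₁ : FinOn f U₁ V) (h₂ : FinOn f U₂ V) :
    ∃ V' : X.Opens, V' ≤ V ∧ (∀ O : X.Opens, O ≤ V → O ≠ ⊥ → O ⊓ V' ≠ ⊥) ∧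
      FinOn f ((U₁ ⊔ U₂) ⊓ f ⁻¹ᵁ V') V' := by
  obtain ⟨e₂, hfin₂⟩ := id h₂
  set g := f.resLE V U₂ e₂ with hg
  -- the bad locus in `U₂`
  set P : Set (U₂ : Scheme.{u}) := U₂.ι ⁻¹' (U₁ : Set Y) with hP
  have hPo : IsOpen P := U₁.2.preimage U₂.ι.continuous
  set T : Set (U₂ : Scheme.{u}) := frontier P with hT
  have hTc : IsClosed T := isClosed_frontier
  have hTn : IsNowhereDense T := by
    rw [hTc.isNowhereDense_iff, hT, ← frontier_compl]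
    exact interior_frontier hPo.isClosed_compl
  set D : Set (V : Scheme.{u}) := g '' T with hD
  have hDc : IsClosed D := g.isClosedMap _ hTc
  have hDn : IsNowhereDense D := isNowhereDense_image g T hTc hTn
  let V'' : (V : Scheme.{u}).Opens := ⟨Dᶜ, hDc.isOpen_compl⟩
  let V' : X.Opens := V.ι ''ᵁ V''
  have hV'V : V' ≤ V := V.ι_image_le V''
  have hmemV' : ∀ x : X, x ∈ V' ↔ ∃ hx : x ∈ V, (⟨x, hx⟩ : ↥V) ∉ D := by
    intro x
    constructor
    · rintro ⟨z, hz, rfl⟩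
      exact ⟨z.2, hz⟩
    · rintro ⟨hx, hxD⟩
      exact ⟨⟨x, hx⟩, hxD, rfl⟩
  refine ⟨V', hV'V, ?_, ?_⟩
  · intro O hO hne hbot
    obtain ⟨x, hx⟩ : (O : Set X).Nonempty := by
      rw [Set.nonempty_iff_ne_empty]
      intro h
      exact hne (Opens.ext h)
    have hsub : (↑(V.ι ⁻¹ᵁ O) : Set (V : Scheme.{u})) ⊆ D := by
      intro z hz
      by_contra hzD
      have : V.ι z ∈ O ⊓ V' := ⟨hz, (hmemV' _).2 ⟨z.2, hzD⟩⟩
      rw [hbot] at this
      exact this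
    have hint : (⟨x, hO hx⟩ : ↥V) ∈ interior D :=
      interior_maximal hsub (V.ι ⁻¹ᵁ O).2 hx
    rw [hDc.isNowhereDense_iff] at hDn
    rw [hDn] at hint
    exact hint
  · -- key fact: points of `U₂` over `V'` in the closure of `U₁ ∩ U₂` are in `U₁`
    have hkey : ∀ y : (U₂ : Scheme.{u}), f y.1 ∈ V' → y ∈ closure P → y ∈ P := by
      intro y hyV' hycl
      by_contra hyP
      have hyT : y ∈ T := by
        rw [hT, hPo.frontier_eq]
        exact ⟨hycl, hyP⟩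
      obtain ⟨hx, hxD⟩ := (hmemV' _).1 hyV'
      apply hxD
      refine ⟨y, hyT, ?_⟩
      apply Subtype.ext
      exact Scheme.Hom.coe_resLE_apply f e₂ y
    -- the open set `U₂ ∩ f⁻¹ V' \ U₁`
    let G : (U₂ : Scheme.{u}).Opens :=
      ⟨(↑(U₂.ι ⁻¹ᵁ f ⁻¹ᵁ V') : Set (U₂ : Scheme.{u})) ∩ (closure P)ᶜ,
        (U₂.ι ⁻¹ᵁ f ⁻¹ᵁ V').2.inter isClosed_closure.isOpen_compl⟩
    let U₂'' : Y.Opens := U₂.ι ''ᵁ G
    have hmemU₂'' : ∀ y : Y, y ∈ U₂'' ↔ (y ∈ U₂ ∧ f y ∈ V') ∧ y ∉ U₁ := by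
      intro y
      constructor
      · rintro ⟨z, ⟨hz1, hz2⟩, rfl⟩
        exact ⟨⟨z.2, hz1⟩, fun h => hz2 (subset_closure h)⟩
      · rintro ⟨⟨hy2, hyV'⟩, hy1⟩
        refine ⟨⟨y, hy2⟩, ⟨hyV', fun hcl => hy1 ?_⟩, rfl⟩
        exact hkey ⟨y, hy2⟩ hyV' hcl
    have F₁ : FinOn f (U₁ ⊓ f ⁻¹ᵁ V') V' := h₁.mono hV'V
    have F₂ : FinOn f (U₂ ⊓ f ⁻¹ᵁ V') V' := h₂.mono hV'V
    have hle : U₂'' ≤ U₂ ⊓ f ⁻¹ᵁ V' := fun y hy => ((hmemU₂'' y).1 hy).1
    have F₂'' : FinOn f U₂'' V' := by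
      refine F₂.of_closed hle ((U₁ : Set Y)ᶜ) U₁.2.isClosed_compl ?_
      ext y
      exact hmemU₂'' y
    have hdisj : Disjoint (U₁ ⊓ f ⁻¹ᵁ V') U₂'' := by
      rw [disjoint_iff]
      ext y
      simp only [Opens.coe_inf, Set.mem_inter_iff, SetLike.mem_coe, Opens.coe_bot,
        Set.mem_empty_iff_false, iff_false, not_and]
      intro hy1 hy2
      exact ((hmemU₂'' y).1 hy2).2 hy1.1
    refine (F₁.sup_of_disjoint F₂'' hdisj).congr ?_ rfl
    ext y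
    simp only [Opens.coe_sup, Opens.coe_inf, Set.mem_union, Set.mem_inter_iff, SetLike.mem_coe]
    rw [hmemU₂'' y]
    change (y ∈ U₁ ∧ f y ∈ V' ∨ (y ∈ U₂ ∧ f y ∈ V') ∧ y ∉ U₁) ↔ (y ∈ U₁ ∨ y ∈ U₂) ∧ f y ∈ V'
    tauto

variable (f) in
/-- generically over `W`, the open `U` is finite over the base -/
def GoodOn (W : X.Opens) (U : Y.Opens) : Prop :=
  ∀ O : X.Opens, O ≤ W → O ≠ ⊥ → ∃ V : X.Opens, V ≤ O ∧ V ≠ ⊥ ∧ FinOn f (U ⊓ f ⁻¹ᵁ V) V

variable (f) in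
lemma GoodOn.bot (W : X.Opens) : GoodOn f W ⊥ := by
  intro O _ hne
  refine ⟨O, le_rfl, hne, (FinOn.bot f O).congr ?_ rfl⟩
  rw [bot_inf_eq]

lemma GoodOn.sup {W : X.Opens} {U₁ U₂ : Y.Opens} (h₁ : GoodOn f W U₁) (h₂ : GoodOn f W U₂) :
    GoodOn f W (U₁ ⊔ U₂) := by
  intro O hO hne
  obtain ⟨V₁, hV₁O, hV₁ne, F₁⟩ := h₁ O hO hne
  obtain ⟨V₂, hV₂V₁, hV₂ne, F₂⟩ := h₂ V₁ (hV₁O.trans hO) hV₁ne
  have F₁' := F₁.mono hV₂V₁
  obtain ⟨V', hV'V₂, hdense, F⟩ := F₁'.glue F₂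
  refine ⟨V', hV'V₂.trans (hV₂V₁.trans hV₁O), ?_, F.congr ?_ rfl⟩
  · intro hbot
    apply hdense V₂ le_rfl hV₂ne
    rw [hbot, inf_bot_eq]
  · ext y
    simp only [Opens.coe_sup, Opens.coe_inf, Set.mem_union, Set.mem_inter_iff, SetLike.mem_coe]
    change (((y ∈ U₁ ∧ f y ∈ V₁) ∧ f y ∈ V₂ ∨ y ∈ U₂ ∧ f y ∈ V₂) ∧ f y ∈ V') ↔
      (y ∈ U₁ ∨ y ∈ U₂) ∧ f y ∈ V'
    have h1 : f y ∈ V' → f y ∈ V₂ := fun h => hV'V₂ h
    have h2 : f y ∈ V₂ → f y ∈ V₁ := fun h => hV₂V₁ h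
    tauto

lemma GoodOn.finset_sup {W : X.Opens} {ι : Type*} (t : Finset ι) (U : ι → Y.Opens)
    (h : ∀ i ∈ t, GoodOn f W (U i)) : GoodOn f W (t.sup U) :=
  Finset.sup_induction (GoodOn.bot f W) (fun _ h₁ _ h₂ => h₁.sup h₂) h

lemma finOn_basicOpen {W : X.Opens} (hW : IsAffineOpen W) {V₀ : Y.Opens} (hV₀ : IsAffineOpen V₀)
    (a : Γ(X, W)) (b : Γ(Y, V₀)) (hle : Y.basicOpen b ≤ f ⁻¹ᵁ X.basicOpen a)
    (hfin : (f.appLE (X.basicOpen a) (Y.basicOpen b) hle).hom.Finite) :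
    FinOn f (Y.basicOpen b) (X.basicOpen a) := by
  refine ⟨hle, ?_⟩
  have : IsAffine (X.basicOpen a : Scheme.{u}) := hW.basicOpen a
  have : IsAffine (Y.basicOpen b : Scheme.{u}) := hV₀.basicOpen b
  rw [HasAffineProperty.iff_of_isAffine (P := @IsFinite)]
  refine ⟨inferInstance, ?_⟩
  exact (RingHom.finite_respectsIso.arrow_mk_iso_iff (arrowResLEAppIso f _ _ hle)).mpr hfin

lemma exists_goodOn_nhds [LocallyQuasiFinite f] [LocallyOfFiniteType f] {W : X.Opens}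
    (hW : IsAffineOpen W) {V₀ : Y.Opens} (hV₀ : IsAffineOpen V₀) (e : V₀ ≤ f ⁻¹ᵁ W) (y : Y)
    (hy : y ∈ V₀) : ∃ U : Y.Opens, y ∈ U ∧ U ≤ V₀ ∧ GoodOn f W U := by
  classical
  let φ := (f.appLE W V₀ e).hom
  let : Algebra Γ(X, W) Γ(Y, V₀) := φ.toAlgebra
  have hft : Algebra.FiniteType Γ(X, W) Γ(Y, V₀) :=
    (RingHom.finiteType_algebraMap (A := Γ(X, W)) (B := Γ(Y, V₀))).1 (f.finiteType_appLE hW hV₀ e)
  have hqf : Algebra.QuasiFinite Γ(X, W) Γ(Y, V₀) :=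
    (LocallyQuasiFinite.quasiFinite_appLE (f := f) hW hV₀ e)
  obtain ⟨p, rfl⟩ : ∃ p, hV₀.fromSpec p = y := by
    have : y ∈ Set.range hV₀.fromSpec := by rw [hV₀.range_fromSpec]; exact hy
    exact this
  obtain ⟨S', hS'fg, r, hrp, hbij⟩ :=
    Algebra.QuasiFiniteAt.exists_fg_and_exists_notMem_and_awayMap_bijective
      (R := Γ(X, W)) p.asIdeal
  have hsurj : ∀ x : Γ(Y, V₀), ∃ (s' : S') (k : ℕ),
      (s' : Γ(Y, V₀)) = (r : Γ(Y, V₀)) ^ k * x := by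
    intro x
    obtain ⟨b, m, hb⟩ := Localization.awayMap_surjective_iff.1 hbij.2 x
    exact ⟨b, m, hb⟩
  have : Module.Finite Γ(X, W) S' := ⟨(Submodule.fg_top _).2 hS'fg⟩
  refine ⟨Y.basicOpen (r : Γ(Y, V₀)), ?_, Y.basicOpen_le _, ?_⟩
  · have : p ∈ hV₀.fromSpec ⁻¹ᵁ Y.basicOpen (r : Γ(Y, V₀)) := by
      rw [hV₀.fromSpec_preimage_basicOpen]
      exact hrp
    exact this
  · intro O hO hne
    set D := PrimeSpectrum.comap (algebraMap Γ(X, W) S') '' badSet r with hD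
    have hDc : IsClosed D := isClosed_image_badSet r
    have hDn : IsNowhereDense D := isNowhereDense_image_badSet r
    obtain ⟨x, hx⟩ : (O : Set X).Nonempty := by
      rw [Set.nonempty_iff_ne_empty]
      intro h
      exact hne (Opens.ext h)
    obtain ⟨p₀, rfl⟩ : ∃ p₀, hW.fromSpec p₀ = x := by
      have : x ∈ Set.range hW.fromSpec := by rw [hW.range_fromSpec]; exact hO hx
      exact this
    let O' := hW.fromSpec ⁻¹ᵁ O
    have hnsub : ¬ ((O' : Set (Spec Γ(X, W))) ⊆ D) := fun hsub => by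
      have h1 : p₀ ∈ interior D := interior_maximal hsub O'.2 hx
      rw [hDc.isNowhereDense_iff] at hDn
      rw [hDn] at h1
      exact h1
    obtain ⟨p₁, hp₁O, hp₁D⟩ := Set.not_subset.1 hnsub
    obtain ⟨_, ⟨a, rfl⟩, hp₁a, hasub⟩ :=
      PrimeSpectrum.isTopologicalBasis_basic_opens.exists_subset_of_mem_open
        (show p₁ ∈ (O' : Set (Spec Γ(X, W))) ∩ Dᶜ from ⟨hp₁O, hp₁D⟩)
        (O'.2.inter hDc.isOpen_compl)
    refine ⟨X.basicOpen a, ?_, ?_, ?_⟩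
    · rw [← hW.fromSpec_image_basicOpen]
      rintro _ ⟨q, hq, rfl⟩
      exact (hasub hq).1
    · intro hbot
      have h1 : p₁ ∈ hW.fromSpec ⁻¹ᵁ X.basicOpen a := by
        rw [hW.fromSpec_preimage_basicOpen]
        exact hp₁a
      have h2 : hW.fromSpec p₁ ∈ X.basicOpen a := h1
      rw [hbot] at h2
      exact h2
    · have hvan : ∀ q ∈ badSet r, algebraMap Γ(X, W) S' a ∈ q.asIdeal := by
        intro q hq
        by_contra hna
        have h1 : PrimeSpectrum.comap (algebraMap Γ(X, W) S') q ∈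
            (PrimeSpectrum.basicOpen a : Set (PrimeSpectrum Γ(X, W))) := hna
        exact (hasub h1).2 ⟨q, hq, rfl⟩
      obtain ⟨m, s, i, N, h1, h2⟩ := exists_decomp r a hvan
      set b : Γ(Y, V₀) := (r : Γ(Y, V₀)) * φ a with hb
      have hbo : Y.basicOpen b = Y.basicOpen (r : Γ(Y, V₀)) ⊓ f ⁻¹ᵁ X.basicOpen a := by
        rw [hb, Scheme.basicOpen_mul]
        have h3 : Y.basicOpen (φ a) = V₀ ⊓ f ⁻¹ᵁ X.basicOpen a :=
          Scheme.basicOpen_appLE f V₀ W e a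
        rw [h3, ← inf_assoc, inf_eq_left.2 (Y.basicOpen_le _)]
      have hle : Y.basicOpen b ≤ f ⁻¹ᵁ X.basicOpen a := by rw [hbo]; exact inf_le_right
      have := hW.isLocalization_basicOpen a
      have := hV₀.isLocalization_basicOpen b
      refine (finOn_basicOpen hW hV₀ a b hle ?_).congr hbo rfl
      refine finite_of_chart a b _ ?_ S' hS'fg r hb hsurj m s i N h1 h2
      rw [RingHom.algebraMap_toAlgebra, RingHom.algebraMap_toAlgebra,
        RingHom.algebraMap_toAlgebra, ← CommRingCat.hom_comp, ← CommRingCat.hom_comp,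
        Scheme.Hom.appLE_map, Scheme.Hom.map_appLE]

lemma goodOn_preimage [LocallyQuasiFinite f] [LocallyOfFiniteType f] [QuasiCompact f]
    {W : X.Opens} (hW : IsAffineOpen W) : GoodOn f W (f ⁻¹ᵁ W) := by
  classical
  have hloc : ∀ y : ↥(f ⁻¹ᵁ W), ∃ U : Y.Opens, y.1 ∈ U ∧ U ≤ f ⁻¹ᵁ W ∧ GoodOn f W U := by
    intro y
    obtain ⟨_, ⟨(V₀ : Y.Opens), hV₀ : IsAffineOpen V₀, rfl⟩, hyV₀, hV₀sub⟩ :=
      Y.isBasis_affineOpens.exists_subset_of_mem_open y.2 (f ⁻¹ᵁ W).2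
    obtain ⟨U, hyU, hUV₀, hU⟩ := exists_goodOn_nhds hW hV₀ hV₀sub y.1 hyV₀
    exact ⟨U, hyU, hUV₀.trans hV₀sub, hU⟩
  choose U hyU hUle hU using hloc
  have hcpt : IsCompact (f ⁻¹ᵁ W : Set Y) := f.isCompact_preimage hW.isCompact
  obtain ⟨t, ht⟩ := hcpt.elim_finite_subcover (fun y => (U y : Set Y)) (fun y => (U y).2)
    (fun y hy => Set.mem_iUnion.2 ⟨⟨y, hy⟩, hyU ⟨y, hy⟩⟩)
  have heq : t.sup U = f ⁻¹ᵁ W := by
    apply le_antisymm
    · exact Finset.sup_le fun y _ => hUle y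
    · intro y hy
      obtain ⟨i, hi⟩ := Set.mem_iUnion.1 (ht hy)
      obtain ⟨hit, hyi⟩ := Set.mem_iUnion.1 hi
      exact (Finset.le_sup (f := U) hit) hyi
  rw [← heq]
  exact GoodOn.finset_sup t U fun i _ => hU i

variable (f) in
/-- every nonempty open of the base contains a nonempty open over which `f` is finite -/
lemma exists_isFinite_le [LocallyQuasiFinite f] [LocallyOfFiniteType f] [QuasiCompact f]
    (O : X.Opens) (hO : O ≠ ⊥) : ∃ V : X.Opens, V ≤ O ∧ V ≠ ⊥ ∧ IsFinite (f ∣_ V) := by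
  obtain ⟨x, hx⟩ : (O : Set X).Nonempty := by
    rw [Set.nonempty_iff_ne_empty]
    intro h
    exact hO (Opens.ext h)
  obtain ⟨_, ⟨(W : X.Opens), hW : IsAffineOpen W, rfl⟩, hxW, hWsub⟩ :=
    X.isBasis_affineOpens.exists_subset_of_mem_open hx O.2
  have hWne : W ≠ ⊥ := by
    intro h
    rw [h] at hxW
    exact hxW
  obtain ⟨V, hVW, hVne, F⟩ := goodOn_preimage (f := f) hW W le_rfl hWne
  refine ⟨V, hVW.trans hWsub, hVne, (finOn_top_iff f V).1 (F.congr ?_ rfl)⟩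
  exact inf_eq_right.2 (f.preimage_mono hVW)

variable (f) in
/-- **A quasi-finite morphism is finite over a dense open of the target.** -/
theorem exists_dense_isFinite [LocallyQuasiFinite f] [LocallyOfFiniteType f] [QuasiCompact f] :
    ∃ U : X.Opens, Dense (U : Set X) ∧ IsFinite (f ∣_ U) := by
  let E : X.Opens := sSup {V : X.Opens | IsFinite (f ∣_ V)}
  refine ⟨E, ?_, ?_⟩
  · rw [dense_iff_inter_open]
    intro O hOo hOne
    let O' : X.Opens := ⟨O, hOo⟩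
    have hO' : O' ≠ ⊥ := by
      intro h
      obtain ⟨x, hx⟩ := hOne
      have : x ∈ O' := hx
      rw [h] at this
      exact this
    obtain ⟨V, hVO, hVne, hfin⟩ := exists_isFinite_le f O' hO'
    obtain ⟨x, hx⟩ : (V : Set X).Nonempty := by
      rw [Set.nonempty_iff_ne_empty]
      intro h
      exact hVne (Opens.ext h)
    exact ⟨x, hVO hx, (le_sSup (show V ∈ {V : X.Opens | IsFinite (f ∣_ V)} from hfin)) hx⟩
  · refine IsZariskiLocalAtTarget.of_forall_exists_morphismRestrict (P := @IsFinite) ?_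
    intro x
    have hx : x.1 ∈ E := x.2
    obtain ⟨V, hV, hxV⟩ := Opens.mem_sSup.1 hx
    have hfin : IsFinite (f ∣_ V) := hV
    have hVE : V ≤ E := le_sSup hV
    refine ⟨E.ι ⁻¹ᵁ V, hxV, ?_⟩
    rw [MorphismProperty.arrow_mk_iso_iff @IsFinite (morphismRestrictRestrict f E (E.ι ⁻¹ᵁ V))]
    have himg : E.ι ''ᵁ E.ι ⁻¹ᵁ V = V := by
      rw [Scheme.Hom.image_preimage_eq_opensRange_inf, Scheme.Opens.opensRange_ι]
      exact inf_eq_right.2 hVE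
    rw [himg]
    exact hfin

end Groth.Agent.Lib.Seat20.QFDense
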