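/-
Seat 20 helper library for S13423: a quasi-finite dominant morphism with smooth fibres from a connected
scheme to a reduced locally Noetherian geometrically unibranch scheme is étale
(reduction to the prior rows S5007 and S2755).
-/
import Mathlib
import Groth.Agent.S5007
import Groth.Agent.S2755
import Groth.Agent.Lib.Helper6SmQF
import Groth.Agent.Lib.Helper3GenFibDim
import Groth.Agent.Lib.Helper4EtNormalSch

set_option autoImplicit false
universe u
open CategoryTheory Limits AlgebraicGeometry TopologicalSpace

namespace Groth.Agent.Lib.Seat20.QFEtale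

/-- On a locally Noetherian scheme with domain local rings, irreducible components are open. -/
theorem isOpen_irreducibleComponent {S : Scheme.{u}} [IsLocallyNoetherian S]
    (hdom : ∀ s : S, IsDomain (S.presheaf.stalk s)) (s₀ : S) :
    IsOpen (irreducibleComponent s₀) := by
  rw [isOpen_iff_forall_mem_open]
  intro s hs
  obtain ⟨_, ⟨V, hV, rfl⟩, hsV, -⟩ := S.isBasis_affineOpens.exists_subset_of_mem_open
    (Set.mem_univ s) isOpen_univ
  have : IsNoetherianRing Γ(S, V) := IsLocallyNoetherian.component_noetherian ⟨V, hV⟩
  have hN : NoetherianSpace ↥V := noetherianSpace_of_isAffineOpen V hV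
  have hfin : (irreducibleComponents ↥V).Finite :=
    TopologicalSpace.NoetherianSpace.finite_irreducibleComponents
  let s' : ↥V := ⟨s, hsV⟩
  let bad : Set (Set ↥V) := {C | C ∈ irreducibleComponents ↥V ∧ s' ∉ C}
  have hbadfin : bad.Finite := hfin.subset fun C hC => hC.1
  let W' : Set ↥V := ⋂ C ∈ bad, Cᶜ
  have hW'open : IsOpen W' := hbadfin.isOpen_biInter fun C hC =>
    (isClosed_of_mem_irreducibleComponents C hC.1).isOpen_compl
  refine ⟨Subtype.val '' W', ?_, V.isOpenEmbedding'.isOpenMap _ hW'open, ?_⟩
  · rintro _ ⟨w', hw', rfl⟩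
    -- the component of `w'` in `V` contains `s'`
    have hs'C : s' ∈ irreducibleComponent w' := by
      by_contra hcon
      have := Set.mem_iInter₂.mp hw' (irreducibleComponent w')
        ⟨irreducibleComponent_mem_irreducibleComponents w', hcon⟩
      exact this mem_irreducibleComponent
    have hirr : IsIrreducible (Subtype.val '' (irreducibleComponent w') : Set S) :=
      isIrreducible_irreducibleComponent.image _ continuous_subtype_val.continuousOn
    obtain ⟨Z', hZ'irr, hsub, hmax⟩ := exists_preirreducible _ hirr.isPreirreducible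
    have hZ'mem : Z' ∈ irreducibleComponents S := by
      refine ⟨⟨hirr.nonempty.mono hsub, hZ'irr⟩, fun u hu hle => ?_⟩
      exact (hmax u hu.isPreirreducible hle).le
    have hsZ' : s ∈ Z' := hsub ⟨s', hs'C, rfl⟩
    have hwZ' : (w' : S) ∈ Z' := hsub ⟨w', mem_irreducibleComponent, rfl⟩
    have := hdom s
    have heq : Z' = irreducibleComponent s₀ :=
      Groth.Agent.Lib.Helper4.EtNormalSch.irreducibleComponents_eq_of_mem s hZ'mem
        (irreducibleComponent_mem_irreducibleComponents s₀) hsZ' hs
    rw [← heq]
    exact hwZ'
  · refine ⟨s', ?_, rfl⟩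
    exact Set.mem_iInter₂.mpr fun C hC => hC.2


/-- A locally Noetherian scheme with domain local rings receiving a dominant morphism from a
connected scheme is irreducible. -/
theorem irreducibleSpace_of_dominant {X S : Scheme.{u}} [IsLocallyNoetherian S]
    (hdom : ∀ s : S, IsDomain (S.presheaf.stalk s)) (f : X ⟶ S) [IsDominant f]
    [ConnectedSpace X] : IrreducibleSpace S := by
  obtain ⟨x₀⟩ := (inferInstance : Nonempty X)
  set Z₀ := irreducibleComponent (f x₀) with hZ₀
  have hclopen : IsClopen Z₀ :=
    ⟨isClosed_irreducibleComponent, isOpen_irreducibleComponent hdom (f x₀)⟩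
  have hpre : IsClopen (f ⁻¹' Z₀) := hclopen.preimage f.continuous
  have huniv : f ⁻¹' Z₀ = Set.univ := hpre.eq_univ ⟨x₀, mem_irreducibleComponent⟩
  have hrange : Set.range f ⊆ Z₀ := by
    rintro _ ⟨x, rfl⟩
    have : x ∈ f ⁻¹' Z₀ := by rw [huniv]; trivial
    exact this
  have hZuniv : Z₀ = Set.univ := by
    apply Set.eq_univ_of_univ_subset
    rw [← f.denseRange.closure_range]
    exact closure_minimal hrange hclopen.isClosed
  have hirr : IsIrreducible (Set.univ : Set S) := hZuniv ▸ isIrreducible_irreducibleComponent
  have : PreirreducibleSpace S := ⟨hirr.2⟩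
  exact { toNonempty := ⟨f x₀⟩ }

/-- Formal unramifiedness of the base change along `a` from that along `k` if `a` factors
through `k`. -/
theorem formallyUnramified_snd_of_factor {X S T T' : Scheme.{u}} (f : X ⟶ S) (k : T ⟶ S)
    (a : T' ⟶ S) (b : T' ⟶ T) (hab : a = b ≫ k) [FormallyUnramified (pullback.snd f k)] :
    FormallyUnramified (pullback.snd f a) := by
  subst hab
  have h1 : pullback.snd f (b ≫ k) =
      (pullbackLeftPullbackSndIso f k b).inv ≫ pullback.snd (pullback.snd f k) b := by
    rw [Iso.eq_inv_comp, pullbackLeftPullbackSndIso_hom_snd]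
  rw [h1]
  have h2 : FormallyUnramified (pullback.snd (pullback.snd f k) b) :=
    MorphismProperty.pullback_snd (P := @FormallyUnramified) _ _ inferInstance
  exact (MorphismProperty.cancel_left_of_respectsIso @FormallyUnramified
    (pullbackLeftPullbackSndIso f k b).inv _).mpr h2

/-- A locally finitely presented morphism whose fibres over the residue fields are étale
is formally unramified. -/
theorem formallyUnramified_of_fibres {X S : Scheme.{u}} (f : X ⟶ S)
    [LocallyOfFinitePresentation f]
    (h : ∀ s : S, FormallyUnramified (pullback.snd f (S.fromSpecResidueField s))) :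
    FormallyUnramified f := by
  rw [Groth.Agent.S5007.result (𝟙 S) f f (Category.comp_id f)]
  intro s
  have := h s
  refine formallyUnramified_snd_of_factor f (S.fromSpecResidueField s) (Scheme.Hom.fiberι (𝟙 S) s)
    (pullback.snd (𝟙 S) (S.fromSpecResidueField s)) ?_
  have := pullback.condition (f := 𝟙 S) (g := S.fromSpecResidueField s)
  rw [Category.comp_id] at this
  exact this

/-- **S13423.** -/
theorem main {S : Scheme.{u}} [IsLocallyNoetherian S] [IsReduced S]
    (hS : ∀ s : S, CAlg2.IsGeomUnibranch (S.presheaf.stalk s))
    {X : Scheme.{u}} (f : X ⟶ S) [LocallyOfFiniteType f] [QuasiCompact f] [LocallyQuasiFinite f]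
    [IsDominant f] [ConnectedSpace X]
    (hfib : ∀ s : S, Smooth (Limits.pullback.snd f (S.fromSpecResidueField s))) :
    Etale f := by
  have hdom : ∀ s : S, IsDomain (S.presheaf.stalk s) := by
    intro s
    have h1 : IsDomain (CAlg2.red (S.presheaf.stalk s)) := (hS s).1.1
    have hinj : Function.Injective (Ideal.Quotient.mk (nilradical (S.presheaf.stalk s))) := by
      rw [injective_iff_map_eq_zero]
      intro a ha
      rw [Ideal.Quotient.eq_zero_iff_mem, nilradical_eq_zero] at ha
      exact ha
    exact Function.Injective.isDomain (Ideal.Quotient.mk (nilradical (S.presheaf.stalk s))) hinj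
  have : IrreducibleSpace S := irreducibleSpace_of_dominant hdom f
  have : IsIntegral S := isIntegral_of_irreducibleSpace_of_isReduced S
  have hunr : FormallyUnramified f := by
    apply formallyUnramified_of_fibres
    intro s
    have h1 : Etale (pullback.snd f (S.fromSpecResidueField s)) :=
      (Groth.Agent.Lib.Helper6.SmQF.etale_iff_smooth_and_locallyQuasiFinite _).mpr
        ⟨hfib s, inferInstance⟩
    infer_instance
  have hη : ∃ x : X, f.base x = genericPoint S := by
    by_contra hcon
    have h1 : genericPoint S ∉ Set.range f.base := fun ⟨x, hx⟩ => hcon ⟨x, hx⟩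
    have h2 := Groth.Agent.Lib.Helper3.GenFibDim.genericPoint_notMem_closure_range f h1
    apply h2
    have := f.denseRange.closure_range
    rw [this]
    trivial
  exact (Groth.Agent.S2755.result f hS hη).1

end Groth.Agent.Lib.Seat20.QFEtale
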