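import Mathlib
import Groth.Prelude.Def_Pi1

set_option autoImplicit false
universe u
open CategoryTheory Limits AlgebraicGeometry TopologicalSpace

namespace Groth.Agent.Lib.Seat20.RatSection

section Ring

variable {A B K : Type*} [CommRing A] [IsIntegrallyClosed A] [Field K] [Algebra A K]
  [IsFractionRing A K] [CommRing B] [Algebra A B] [Algebra.FiniteType A B]

/-- **Ring-level core.** Let `A` be a normal domain with fraction field `K`, `B` a finite type
`A`-algebra, `β : B → K` an `A`-algebra map and `q` a prime of `B` containing `ker β` at which `B`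
is quasi-finite over `A`. Then `β` factors through `A[1/a]` for some `a ∉ q ∩ A`. -/
theorem exists_away_factor (β : B →ₐ[A] K) (q : Ideal B) [q.IsPrime] [Algebra.QuasiFiniteAt A q]
    (hq : RingHom.ker β ≤ q) :
    ∃ (a : A) (ha : IsUnit (algebraMap A K a)) (σ : B →+* Localization.Away a),
      a ∉ q.comap (algebraMap A B) ∧
      σ.comp (algebraMap A B) = algebraMap A (Localization.Away a) ∧
      (IsLocalization.Away.lift a ha).comp σ = β.toRingHom ∧
      Function.Injective (IsLocalization.Away.lift (S := Localization.Away a) a ha) := by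
  obtain ⟨r, hrq, hrint, hr⟩ := Algebra.zariskisMainProperty_iff.mp
    (Algebra.ZariskisMainProperty.of_finiteType (R := A) q)
  have hint : ∀ y : B, IsIntegral A y → ∃ c : A, algebraMap A K c = β y := by
    intro y hy
    exact (IsIntegrallyClosed.isIntegral_iff (R := A) (K := K)).mp (hy.map β)
  obtain ⟨a, ha⟩ := hint r hrint
  have hker : r - algebraMap A B a ∈ RingHom.ker β := by
    rw [RingHom.mem_ker, map_sub, AlgHom.commutes, ha, sub_self]
  have haq : a ∉ q.comap (algebraMap A B) := by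
    intro h
    rw [Ideal.mem_comap] at h
    apply hrq
    have := q.add_mem (hq hker) h
    simpa using this
  have ha0 : a ≠ 0 := by
    rintro rfl
    apply haq
    simp
  have haK : algebraMap A K a ≠ 0 := by
    rwa [Ne, map_eq_zero_iff _ (IsFractionRing.injective A K)]
  have hau : IsUnit (algebraMap A K a) := isUnit_iff_ne_zero.mpr haK
  let ℓ : Localization.Away a →+* K := IsLocalization.Away.lift a hau
  have hℓ : ∀ x : A, ℓ (algebraMap A _ x) = algebraMap A K x := fun x =>
    IsLocalization.Away.lift_eq a hau x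
  have hℓinj : Function.Injective ℓ := by
    rw [injective_iff_map_eq_zero]
    intro x hx
    obtain ⟨⟨c, ⟨_, n, rfl⟩⟩, rfl⟩ := IsLocalization.mk'_surjective (Submonoid.powers a) x
    rw [IsLocalization.mk'_eq_zero_iff]
    have h1 : ℓ (IsLocalization.mk' (Localization.Away a) c
        (⟨a ^ n, n, rfl⟩ : Submonoid.powers a)) *
        ℓ (algebraMap A _ (a ^ n)) = ℓ (algebraMap A _ c) := by
      rw [← map_mul]
      exact congrArg ℓ (IsLocalization.mk'_spec (Localization.Away a) c
        (⟨a ^ n, n, rfl⟩ : Submonoid.powers a))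
    rw [hx, zero_mul, hℓ] at h1
    have hc : c = 0 := by
      rw [← map_eq_zero_iff _ (IsFractionRing.injective A K)]
      exact h1.symm
    exact ⟨1, by simp [hc]⟩
  have hrange : ∀ b : B, β b ∈ ℓ.range := by
    intro b
    obtain ⟨m, hm⟩ := hr b
    obtain ⟨c, hc⟩ := hint _ hm
    refine ⟨IsLocalization.mk' (Localization.Away a) c (⟨a ^ m, m, rfl⟩ : Submonoid.powers a),
      ?_⟩
    have h1 : ℓ (IsLocalization.mk' (Localization.Away a) c
        (⟨a ^ m, m, rfl⟩ : Submonoid.powers a)) *
        ℓ (algebraMap A _ (a ^ m)) = ℓ (algebraMap A _ c) := by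
      rw [← map_mul]
      exact congrArg ℓ (IsLocalization.mk'_spec (Localization.Away a) c
        (⟨a ^ m, m, rfl⟩ : Submonoid.powers a))
    rw [hℓ, hℓ, hc, map_mul, map_pow, map_pow, ← ha] at h1
    have h2 : (algebraMap A K a) ^ m ≠ 0 := pow_ne_zero _ haK
    rw [mul_comm (algebraMap A K a ^ m)] at h1
    exact mul_right_cancel₀ h2 h1
  let e : Localization.Away a ≃+* ℓ.range :=
    RingEquiv.ofBijective ℓ.rangeRestrict
      ⟨fun x y h => hℓinj (congrArg Subtype.val h), ℓ.rangeRestrict_surjective⟩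
  let σ : B →+* Localization.Away a :=
    e.symm.toRingHom.comp (β.toRingHom.codRestrict ℓ.range hrange)
  have hσ : ∀ b, ℓ (σ b) = β b := by
    intro b
    have h1 : e (σ b) = β.toRingHom.codRestrict ℓ.range hrange b := by
      simp only [σ, RingHom.comp_apply, RingEquiv.toRingHom_eq_coe, RingHom.coe_coe,
        RingEquiv.apply_symm_apply]
    exact congrArg Subtype.val h1
  refine ⟨a, hau, σ, haq, ?_, ?_, hℓinj⟩
  · ext x
    apply hℓinj
    rw [RingHom.comp_apply, hσ, hℓ, AlgHom.commutes]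
  · ext b
    exact hσ b

end Ring

section Scheme

variable {S Z : Scheme.{u}}

theorem isReduced_of_isNormalScheme (hS : Pi1.IsNormalScheme S) : IsReduced S := by
  have : ∀ x : S, _root_.IsReduced (S.presheaf.stalk x) := fun x => by
    have := (hS x).1
    infer_instance
  exact isReduced_of_isReduced_stalk S

/-- around every point of a locally Noetherian normal scheme there is an affine open whose ring of
sections is a normal domain -/
theorem exists_affine_normal_domain_nbhd [IsLocallyNoetherian S] (hS : Pi1.IsNormalScheme S)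
    (s : S) : ∃ V : S.Opens, s ∈ V ∧ IsAffineOpen V ∧ ∃ _ : IsDomain Γ(S, V),
      IsIntegrallyClosed Γ(S, V) := by
  obtain ⟨V, hsV, hV, hinj⟩ := S.exists_germ_injective s
  have := (hS s).1
  have hdom : IsDomain Γ(S, V) := Function.Injective.isDomain (S.presheaf.germ V s hsV).hom hinj
  refine ⟨V, hsV, hV, hdom, ?_⟩
  apply IsIntegrallyClosed.of_localization_maximal
  intro p _ _
  let y : PrimeSpectrum Γ(S, V) := ⟨p, inferInstance⟩
  have hy : hV.fromSpec y ∈ (V : Set S) := by
    rw [← hV.range_fromSpec]; exact ⟨y, rfl⟩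
  let := TopCat.Presheaf.algebra_section_stalk S.presheaf ⟨hV.fromSpec y, hy⟩
  have : IsLocalization p.primeCompl (S.presheaf.stalk (hV.fromSpec y)) :=
    hV.isLocalization_stalk' y hy
  let e : Localization.AtPrime p ≃ₐ[Γ(S, V)] S.presheaf.stalk (hV.fromSpec y) :=
    IsLocalization.algEquiv p.primeCompl _ _
  have := (hS (hV.fromSpec y)).2
  exact IsIntegrallyClosed.of_equiv e.symm.toRingEquiv

/-- unramified morphisms are locally quasi-finite -/
theorem locallyQuasiFinite_of_unramified (f : Z ⟶ S) [FormallyUnramified f]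
    [LocallyOfFiniteType f] : LocallyQuasiFinite f := by
  constructor
  intro U hU V hV e
  have h1 : (f.appLE U V e).hom.FormallyUnramified :=
    HasRingHomProperty.appLE (P := @FormallyUnramified) f inferInstance ⟨U, hU⟩ ⟨V, hV⟩ e
  have h2 : (f.appLE U V e).hom.FiniteType := f.finiteType_appLE hU hV e
  algebraize [(f.appLE U V e).hom]
  exact RingHom.quasiFinite_algebraMap.mpr inferInstance

/-- the image of the point of `Spec K` in `Spec A` is the generic point -/
theorem specMap_fractionRing_asIdeal (A K : Type u) [CommRing A] [IsDomain A] [Field K]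
    [Algebra A K] [IsFractionRing A K] (x : Spec (.of K)) :
    (Spec.map (CommRingCat.ofHom (algebraMap A K)) x).asIdeal = ⊥ := by
  have hx : x.asIdeal = ⊥ := Ideal.eq_bot_of_prime x.asIdeal
  change Ideal.comap (algebraMap A K) x.asIdeal = ⊥
  rw [hx, ← RingHom.ker_eq_comap_bot, RingHom.ker_eq_bot_iff_eq_zero]
  intro a ha
  exact (map_eq_zero_iff _ (IsFractionRing.injective A K)).mp ha

theorem closure_singleton_eq_univ {R : Type*} [CommRing R] (x : PrimeSpectrum R)
    (hx : x.asIdeal = ⊥) : closure ({x} : Set (PrimeSpectrum R)) = Set.univ := by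
  rw [PrimeSpectrum.closure_singleton, hx, PrimeSpectrum.zeroLocus_bot]

/-- affine-local form of the extension: all data given by spectra -/
theorem exists_local_section_aux {R B : CommRingCat.{u}} [IsDomain R] [IsIntegrallyClosed R]
    (K : Type u) [Field K] [Algebra R K] [IsFractionRing R K] (f : Z ⟶ S) [IsSeparated f]
    [IsReduced S] (U : S.Opens) (v : (U : Scheme.{u}) ⟶ Z) (hv : v ≫ f = U.ι)
    (a : Spec R ⟶ S) [IsOpenImmersion a] (b : Spec B ⟶ Z) [IsOpenImmersion b] (φ : R ⟶ B)
    (hφ : Spec.map φ ≫ a = b ≫ f) (hφ1 : φ.hom.FiniteType) (hφ2 : φ.hom.QuasiFinite)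
    (κU : Spec (.of K) ⟶ U)
    (hκU : κU ≫ U.ι = Spec.map (CommRingCat.ofHom (algebraMap R K)) ≫ a)
    (κB : Spec (.of K) ⟶ Spec B) (hκB : κB ≫ b = κU ≫ v) (z' : Spec B)
    (hz' : ∀ x, κB x ⤳ z') :
    ∃ (Y : Scheme.{u}) (ι : Y ⟶ S) (w : Y ⟶ Z), IsOpenImmersion ι ∧
      a (Spec.map φ z') ∈ Set.range ι ∧
      w ≫ f = ι ∧ pullback.fst U.ι ι ≫ v = pullback.snd U.ι ι ≫ w := by
  algebraize [φ.hom]
  let pt : Spec (.of K) := ⟨⊥, Ideal.isPrime_bot⟩
  let β₀ : B ⟶ .of K := Spec.preimage κB
  have hβ₀ : Spec.map β₀ = κB := Spec.map_preimage κB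
  have hβφ : φ ≫ β₀ = CommRingCat.ofHom (algebraMap R K) := by
    apply Spec.map_injective
    rw [← cancel_mono a, Spec.map_comp, Category.assoc, hφ, hβ₀, ← Category.assoc, hκB,
      Category.assoc, hv, hκU]
  let β : B →ₐ[R] K :=
    { β₀.hom with
      commutes' := fun x => by
        have := congr($(hβφ).hom x)
        exact this }
  have hz'prime : z'.asIdeal.IsPrime := z'.isPrime
  have hker : RingHom.ker β ≤ z'.asIdeal := by
    have h2 := (PrimeSpectrum.le_iff_specializes _ _).mpr (hz' pt)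
    have h3 : (κB pt).asIdeal = RingHom.ker β := by
      rw [← hβ₀]
      change Ideal.comap β₀.hom pt.asIdeal = _
      rw [Ideal.eq_bot_of_prime pt.asIdeal, ← RingHom.ker_eq_comap_bot]; rfl
    rw [← h3]; exact h2
  obtain ⟨c, hcu, σ, hcq, hσ1, hσ2, hℓinj⟩ := exists_away_factor β z'.asIdeal hker
  let ℓ : Localization.Away c →+* K := IsLocalization.Away.lift c hcu
  let ιA : Spec (.of (Localization.Away c)) ⟶ Spec R :=
    Spec.map (CommRingCat.ofHom (algebraMap R (Localization.Away c)))
  have hιA : IsOpenImmersion ιA := inferInstance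
  let ι : Spec (.of (Localization.Away c)) ⟶ S := ιA ≫ a
  let w : Spec (.of (Localization.Away c)) ⟶ Z := Spec.map (CommRingCat.ofHom σ) ≫ b
  have hφσ : φ ≫ CommRingCat.ofHom σ =
      CommRingCat.ofHom (algebraMap R (Localization.Away c)) := by
    ext x
    exact congr($hσ1 x)
  have hwf : w ≫ f = ι := by
    change (Spec.map _ ≫ b) ≫ f = Spec.map _ ≫ a
    rw [Category.assoc, ← hφ, ← Category.assoc, ← Spec.map_comp, hφσ]
  refine ⟨_, ι, w, inferInstance, ?_, hwf, ?_⟩
  · have h1 : Spec.map φ z' ∈ Set.range ιA := by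
      change _ ∈ Set.range (PrimeSpectrum.comap (algebraMap _ _))
      rw [PrimeSpectrum.localization_away_comap_range (Localization.Away c) c]
      exact hcq
    obtain ⟨y, hy⟩ := h1
    exact ⟨y, by rw [← hy]; rfl⟩
  · have hPred : IsReduced (pullback U.ι ι) :=
      isReduced_of_isOpenImmersion (pullback.fst U.ι ι ≫ U.ι)
    have hℓA : CommRingCat.ofHom (algebraMap R (Localization.Away c)) ≫
        CommRingCat.ofHom ℓ = CommRingCat.ofHom (algebraMap R K) := by
      ext x
      exact IsLocalization.Away.lift_eq c hcu x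
    have hcond : κU ≫ U.ι = Spec.map (CommRingCat.ofHom ℓ) ≫ ι := by
      rw [hκU]
      change _ = Spec.map _ ≫ (Spec.map _ ≫ a)
      rw [← Category.assoc, ← Spec.map_comp, hℓA]
    let κP : Spec (.of K) ⟶ pullback U.ι ι :=
      pullback.lift κU (Spec.map (CommRingCat.ofHom ℓ)) hcond
    have hdomi : IsDominant κP := by
      constructor
      have hsub : ({κP pt} : Set ↥(pullback U.ι ι)) ⊆ Set.range κP := by
        rintro _ rfl
        exact ⟨pt, rfl⟩
      refine Dense.mono hsub ?_
      rw [dense_iff_closure_eq,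
        (pullback.snd U.ι ι).isOpenEmbedding.isInducing.closure_eq_preimage_closure_image,
        Set.image_singleton]
      have h1 : (pullback.snd U.ι ι) (κP pt) = Spec.map (CommRingCat.ofHom ℓ) pt := by
        change (κP ≫ pullback.snd U.ι ι) pt = _
        rw [pullback.lift_snd]
      have h2 : (Spec.map (CommRingCat.ofHom ℓ) pt).asIdeal = ⊥ := by
        change Ideal.comap ℓ pt.asIdeal = ⊥
        rw [Ideal.eq_bot_of_prime pt.asIdeal, ← RingHom.ker_eq_comap_bot]
        exact (RingHom.injective_iff_ker_eq_bot ℓ).mp hℓinj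
      rw [h1]
      have h3 : closure ({Spec.map (CommRingCat.ofHom ℓ) pt} :
          Set ↥(Spec (.of (Localization.Away c)))) = Set.univ :=
        closure_singleton_eq_univ _ h2
      rw [h3, Set.preimage_univ]
    refine ext_of_isDominant_of_isSeparated f ?_ κP ?_
    · rw [Category.assoc, hv, Category.assoc, hwf]
      exact pullback.condition
    · rw [← Category.assoc, pullback.lift_fst, ← Category.assoc, pullback.lift_snd]
      have hσℓ : CommRingCat.ofHom σ ≫ CommRingCat.ofHom ℓ = β₀ := by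
        ext x
        exact congr($hσ2 x)
      change _ = Spec.map _ ≫ (Spec.map _ ≫ b)
      rw [← Category.assoc, ← Spec.map_comp, hσℓ, hβ₀, hκB]

/-- **Local extension.** Around every point `s` of a locally Noetherian normal scheme `S`, a section
`v` over a dense open `U` of a separated quasi-finite morphism `f : Z ⟶ S` satisfying the existence
part of the valuative criterion extends over a neighbourhood of `s`. -/
theorem exists_local_section [IsLocallyNoetherian S] (hS : Pi1.IsNormalScheme S) (f : Z ⟶ S)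
    [IsSeparated f] [LocallyQuasiFinite f] [LocallyOfFiniteType f]
    (hfp : ValuativeCriterion.Existence f) (U : S.Opens) (hU : Dense (U : Set S))
    (v : (U : Scheme.{u}) ⟶ Z) (hv : v ≫ f = U.ι) (s : S) :
    ∃ (Y : Scheme.{u}) (ι : Y ⟶ S) (w : Y ⟶ Z), IsOpenImmersion ι ∧ s ∈ Set.range ι ∧
      w ≫ f = ι ∧ pullback.fst U.ι ι ≫ v = pullback.snd U.ι ι ≫ w := by
  have hred : IsReduced S := isReduced_of_isNormalScheme hS
  obtain ⟨V, hsV, hV, hdom, hic⟩ := exists_affine_normal_domain_nbhd hS s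
  let κA : Spec (.of (FractionRing Γ(S, V))) ⟶ Spec Γ(S, V) :=
    Spec.map (CommRingCat.ofHom (algebraMap Γ(S, V) (FractionRing Γ(S, V))))
  let κ : Spec (.of (FractionRing Γ(S, V))) ⟶ S := κA ≫ hV.fromSpec
  let ξ : PrimeSpectrum Γ(S, V) := ⟨⊥, Ideal.isPrime_bot⟩
  have hκA : ∀ x, κA x = ξ := fun x =>
    PrimeSpectrum.ext (specMap_fractionRing_asIdeal Γ(S, V) (FractionRing Γ(S, V)) x)
  have hξ : ∀ y : PrimeSpectrum Γ(S, V), ξ ⤳ y := fun y =>
    (PrimeSpectrum.le_iff_specializes ξ y).mp bot_le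
  have hη : ∀ y : PrimeSpectrum Γ(S, V), hV.fromSpec ξ ⤳ hV.fromSpec y := fun y =>
    (hξ y).map hV.fromSpec.continuous
  have hηU : hV.fromSpec ξ ∈ U := by
    obtain ⟨x, hxV, hxU⟩ := hU.inter_open_nonempty V V.isOpen ⟨s, hsV⟩
    rw [← hV.range_fromSpec] at hxV
    obtain ⟨y, rfl⟩ := hxV
    exact (hη y).mem_open U.isOpen hxU
  have hκU : Set.range κ ⊆ Set.range U.ι := by
    rintro _ ⟨x, rfl⟩
    rw [Scheme.Opens.range_ι]
    change hV.fromSpec (κA x) ∈ U
    rw [hκA]
    exact hηU
  let κU : Spec (.of (FractionRing Γ(S, V))) ⟶ U := IsOpenImmersion.lift U.ι κ hκU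
  have hκU' : κU ≫ U.ι = κ := IsOpenImmersion.lift_fac _ _ _
  obtain ⟨s', rfl⟩ : s ∈ Set.range hV.fromSpec := by rw [hV.range_fromSpec]; exact hsV
  let pt : Spec (.of (FractionRing Γ(S, V))) := ⟨⊥, Ideal.isPrime_bot⟩
  have hpt : ∀ x : Spec (.of (FractionRing Γ(S, V))), x = pt := fun x =>
    PrimeSpectrum.ext ((Ideal.eq_bot_of_prime x.asIdeal).trans
      (Ideal.eq_bot_of_prime pt.asIdeal).symm)
  have hfpt : f ((κU ≫ v) pt) = hV.fromSpec ξ := by
    change ((κU ≫ v) ≫ f) pt = _
    rw [Category.assoc, hv, hκU']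
    change hV.fromSpec (κA pt) = _
    rw [hκA]
  obtain ⟨z, hζz, hfz⟩ := ValuativeCriterion.Existence.specializingMap f hfp (hfpt ▸ hη s')
  obtain ⟨_, ⟨Z', hZ', rfl⟩, hzZ', hZ'V⟩ := Z.isBasis_affineOpens.exists_subset_of_mem_open
    (show z ∈ (f ⁻¹ᵁ V : Set Z) by
      change f z ∈ V
      rw [hfz]; exact hsV) (f ⁻¹ᵁ V).isOpen
  have hζZ' : (κU ≫ v) pt ∈ Z' := hζz.mem_open Z'.isOpen hzZ'
  have hφ : Spec.map (f.appLE V Z' hZ'V) ≫ hV.fromSpec = hZ'.fromSpec ≫ f :=
    IsAffineOpen.SpecMap_appLE_fromSpec f hV hZ' hZ'V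
  have hκB : Set.range (κU ≫ v) ⊆ Set.range hZ'.fromSpec := by
    rintro _ ⟨x, rfl⟩
    rw [hZ'.range_fromSpec, hpt x]
    exact hζZ'
  let κB : Spec (.of (FractionRing Γ(S, V))) ⟶ Spec Γ(Z, Z') :=
    IsOpenImmersion.lift hZ'.fromSpec (κU ≫ v) hκB
  have hκB' : κB ≫ hZ'.fromSpec = κU ≫ v := IsOpenImmersion.lift_fac _ _ _
  obtain ⟨z', rfl⟩ : z ∈ Set.range hZ'.fromSpec := by rw [hZ'.range_fromSpec]; exact hzZ'
  have hz' : ∀ x, κB x ⤳ z' := by
    intro x
    rw [hpt x, ← hZ'.fromSpec.isOpenEmbedding.isInducing.specializes_iff]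
    change (κB ≫ hZ'.fromSpec) pt ⤳ _
    rw [hκB']; exact hζz
  obtain ⟨Y, ι, w, h1, h2, h3, h4⟩ := exists_local_section_aux (FractionRing Γ(S, V)) f U v hv
    hV.fromSpec hZ'.fromSpec (f.appLE V Z' hZ'V) hφ (f.finiteType_appLE hV hZ' hZ'V)
    (LocallyQuasiFinite.quasiFinite_appLE hV hZ' hZ'V) κU hκU' κB hκB' z' hz'
  refine ⟨Y, ι, w, h1, ?_, h3, h4⟩
  have h5 : hV.fromSpec (Spec.map (f.appLE V Z' hZ'V) z') = hV.fromSpec s' := by
    change (Spec.map (f.appLE V Z' hZ'V) ≫ hV.fromSpec) z' = _
    rw [hφ]; exact hfz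
  rw [← h5]
  exact h2

/-- **Extension of rational sections.** Over a locally Noetherian normal scheme `S`, a section over a
dense open of a separated, locally quasi-finite, locally finite type morphism satisfying the
existence part of the valuative criterion extends (uniquely) to a global section. -/
theorem exists_section_extending [IsLocallyNoetherian S] (hS : Pi1.IsNormalScheme S) (f : Z ⟶ S)
    [IsSeparated f] [LocallyQuasiFinite f] [LocallyOfFiniteType f]
    (hfp : ValuativeCriterion.Existence f) (U : S.Opens) (hU : Dense (U : Set S))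
    (v : (U : Scheme.{u}) ⟶ Z) (hv : v ≫ f = U.ι) :
    ∃ w : S ⟶ Z, w ≫ f = 𝟙 S ∧ U.ι ≫ w = v := by
  have hred : IsReduced S := isReduced_of_isNormalScheme hS
  choose Y ι w hι hs hwf hagree using exists_local_section hS f hfp U hU v hv
  let 𝒰 : S.OpenCover := Scheme.Cover.mkOfCovers S Y ι (fun s => ⟨s, hs s⟩) hι
  have hglue : ∀ s t, pullback.fst (ι s) (ι t) ≫ w s = pullback.snd (ι s) (ι t) ≫ w t := by
    intro s t
    have hPred : IsReduced (pullback (ι s) (ι t)) :=
      isReduced_of_isOpenImmersion (pullback.fst (ι s) (ι t) ≫ ι s)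
    let h : pullback (ι s) (ι t) ⟶ S := pullback.fst (ι s) (ι t) ≫ ι s
    let d := pullback.snd U.ι h
    have hd : IsDominant d := by
      constructor
      rw [DenseRange, Scheme.Pullback.range_snd, Scheme.Opens.range_ι]
      exact hU.preimage h.isOpenMap
    have hc1 : pullback.fst U.ι h ≫ U.ι = (d ≫ pullback.fst (ι s) (ι t)) ≫ ι s := by
      rw [Category.assoc]; exact pullback.condition
    have hc2 : pullback.fst U.ι h ≫ U.ι = (d ≫ pullback.snd (ι s) (ι t)) ≫ ι t := by
      rw [Category.assoc, ← pullback.condition]; exact hc1.trans (Category.assoc _ _ _)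
    refine ext_of_isDominant_of_isSeparated f ?_ d ?_
    · rw [Category.assoc, hwf, Category.assoc, hwf]; exact pullback.condition
    · have e1 : d ≫ pullback.fst (ι s) (ι t) ≫ w s = pullback.fst U.ι h ≫ v := by
        have h1 := congr(pullback.lift (pullback.fst U.ι h) (d ≫ pullback.fst (ι s) (ι t)) hc1 ≫
          $(hagree s))
        rw [← Category.assoc, pullback.lift_fst, ← Category.assoc, pullback.lift_snd] at h1
        rw [h1, Category.assoc]
      have e2 : d ≫ pullback.snd (ι s) (ι t) ≫ w t = pullback.fst U.ι h ≫ v := by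
        have h1 := congr(pullback.lift (pullback.fst U.ι h) (d ≫ pullback.snd (ι s) (ι t)) hc2 ≫
          $(hagree t))
        rw [← Category.assoc, pullback.lift_fst, ← Category.assoc, pullback.lift_snd] at h1
        rw [h1, Category.assoc]
      rw [e1, e2]
  let W := 𝒰.glueMorphisms w hglue
  have hW : ∀ s, ι s ≫ W = w s := fun s => 𝒰.ι_glueMorphisms w hglue s
  refine ⟨W, ?_, ?_⟩
  · apply 𝒰.hom_ext
    intro s
    change ι s ≫ W ≫ f = ι s ≫ 𝟙 S
    rw [← Category.assoc, hW, hwf, Category.comp_id]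
  · apply (𝒰.pullback₁ U.ι).hom_ext
    intro s
    change pullback.fst U.ι (ι s) ≫ U.ι ≫ W = pullback.fst U.ι (ι s) ≫ v
    rw [hagree s, ← Category.assoc, pullback.condition, Category.assoc, hW]

end Scheme

end Groth.Agent.Lib.Seat20.RatSection
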