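import Mathlib
import Groth.Agent.Lib.Seat20NegPow
import Groth.Agent.Lib.Seat28FLF
import Groth.Agent.Lib.Helper23QAffSec
import Groth.Agent.Lib.Helper2TensorInv
import Groth.Prelude.Def_PerfAux

set_option autoImplicit false
universe u
open CategoryTheory CategoryTheory.Limits AlgebraicGeometry TopologicalSpace Opposite

namespace Groth.Agent.Lib.Seat20.ResProp
open Groth.Agent.Lib.Helper23.SecTw

variable (X : Scheme.{u})

/-- a scheme covered by affine opens `X_s`, `s` a section of an invertible module, is quasi-separated -/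
theorem quasiSeparatedSpace_of_cover'
    (h : ∀ x : X, ∃ (P : X.Modules) (_ : PicF.IsInvertible P) (s : Coh.structureModule X ⟶ P),
      x ∈ CohB1.genLocus P s ∧ IsAffineOpen (CohB1.genLocus P s)) : QuasiSeparatedSpace X := by
  choose P hP s hxs haff using h
  refine Scheme.quasiSeparatedSpace_of_isOpenCover (fun x : X => CohB1.genLocus _ (s x)) ?_ haff (fun x y => ?_)
  · rw [IsOpenCover, eq_top_iff]
    intro x _
    exact Opens.mem_iSup.2 ⟨x, hxs x⟩
  · exact (isAffineOpen_inf_genLocus _ (hP y) (s y) _ (haff x)).isCompact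

/-- resolution property for a quasi-compact scheme covered by affine opens `X_s`, `s` a section of an invertible
module -/
theorem hasResolutionProperty_of_cover [CompactSpace X]
    (h : ∀ x : X, ∃ (P : X.Modules) (_ : PicF.IsInvertible P) (s : Coh.structureModule X ⟶ P),
      x ∈ CohB1.genLocus P s ∧ IsAffineOpen (CohB1.genLocus P s)) : PerfAux.HasResolutionProperty X := by
  classical
  have := quasiSeparatedSpace_of_cover' X h
  intro F hF hF'
  have : F.IsQuasicoherent := hF
  have : SheafOfModules.IsFiniteType (R := X.ringCatSheaf) F := hF'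
  obtain ⟨K, hK, N', π, hgood, hepi⟩ := Groth.Agent.Lib.Seat20.NegPow.exists_epi_of_charts F
    (fun M => FlatMod.IsFinLocFree M) (fun x => by
      obtain ⟨P, hP, s, hxs, haff⟩ := h x
      refine ⟨P, hP, s, hxs, haff, fun N _ M hθ => ?_⟩
      obtain ⟨θ⟩ := hθ
      have hM : PicF.IsInvertible M :=
        Groth.Agent.Lib.Helper2.TensorInv.isInvertible_of_tensor_iso M _ θ
      intro y
      obtain ⟨U, hyU, e⟩ := isFinLocFreeOfRank_one_of_isInvertible M hM y
      exact ⟨U, 1, hyU, e⟩)
  refine ⟨⨁ N', π, ?_, hepi⟩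
  have e : (⨁ N') ≅ ⨁ (N' ∘ (Fintype.equivFin K).symm) :=
    biproduct.whiskerEquiv (f := N') (g := N' ∘ (Fintype.equivFin K).symm) (Fintype.equivFin K)
      (fun k => eqToIso (by simp))
  exact Groth.Agent.Lib.Seat28.FLF.isFinLocFree_of_iso e.symm
    (Groth.Agent.Lib.Seat28.FLF.isFinLocFree_biproduct _ (fun j => hgood _))

end Groth.Agent.Lib.Seat20.ResProp
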