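import Mathlib

set_option autoImplicit false
universe u
open Polynomial TensorProduct

namespace Groth.Agent.Lib.Seat20.SplitEtale

/-- Two primes of two `R`-algebras lying over the same prime of `R` are both cut out by maps to a
common field, compatibly over `R`. -/
theorem exists_field_of_comap_eq {R R' B : Type u} [CommRing R] [CommRing R'] [CommRing B]
    [Algebra R R'] [Algebra R B] (t : PrimeSpectrum R') (q : PrimeSpectrum B)
    (h : t.comap (algebraMap R R') = q.comap (algebraMap R B)) :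
    ∃ (L : Type u) (_ : Field L) (ρ₁ : R' →+* L) (ρ₂ : B →+* L),
      ρ₁.comp (algebraMap R R') = ρ₂.comp (algebraMap R B) ∧
      RingHom.ker ρ₁ = t.asIdeal ∧ RingHom.ker ρ₂ = q.asIdeal := by
  let p : PrimeSpectrum R := t.comap (algebraMap R R')
  have hp1 : p.asIdeal = t.asIdeal.comap (algebraMap R R') := rfl
  have hp2 : p.asIdeal = q.asIdeal.comap (algebraMap R B) := congrArg PrimeSpectrum.asIdeal h
  let k := p.asIdeal.ResidueField
  let K := t.asIdeal.ResidueField
  let K' := q.asIdeal.ResidueField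
  let φ₁ : k →+* K := Ideal.ResidueField.map p.asIdeal t.asIdeal (algebraMap R R') hp1
  let φ₂ : k →+* K' := Ideal.ResidueField.map p.asIdeal q.asIdeal (algebraMap R B) hp2
  let _ : Algebra k K := φ₁.toAlgebra
  let _ : Algebra k K' := φ₂.toAlgebra
  have : Nontrivial (K ⊗[k] K') :=
    Algebra.TensorProduct.nontrivial_of_algebraMap_injective_of_flat_left (R := k) (A := K)
      (B := K') (algebraMap k K').injective
  obtain ⟨m, hm⟩ := Ideal.exists_maximal (K ⊗[k] K')
  let L := (K ⊗[k] K') ⧸ m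
  let _ : Field L := Ideal.Quotient.field m
  let ι₁ : K →+* L := (Ideal.Quotient.mk m).comp
    (Algebra.TensorProduct.includeLeft (R := k) (S := k) (A := K) (B := K')).toRingHom
  let ι₂ : K' →+* L := (Ideal.Quotient.mk m).comp
    (Algebra.TensorProduct.includeRight (R := k) (A := K) (B := K')).toRingHom
  refine ⟨L, inferInstance, ι₁.comp (algebraMap R' K), ι₂.comp (algebraMap B K'), ?_, ?_, ?_⟩
  · ext r
    simp only [RingHom.comp_apply]
    have e1 : algebraMap R' K (algebraMap R R' r) = φ₁ (algebraMap R k r) :=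
      (Ideal.ResidueField.map_algebraMap p.asIdeal t.asIdeal (algebraMap R R') hp1 r).symm
    have e2 : algebraMap B K' (algebraMap R B r) = φ₂ (algebraMap R k r) :=
      (Ideal.ResidueField.map_algebraMap p.asIdeal q.asIdeal (algebraMap R B) hp2 r).symm
    rw [e1, e2]
    change Ideal.Quotient.mk m (algebraMap k K (algebraMap R k r) ⊗ₜ[k] (1 : K')) =
      Ideal.Quotient.mk m ((1 : K) ⊗ₜ[k] algebraMap k K' (algebraMap R k r))
    rw [Algebra.algebraMap_eq_smul_one, Algebra.algebraMap_eq_smul_one (A := K'),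
      TensorProduct.smul_tmul]
  · rw [← RingHom.comap_ker, (RingHom.injective_iff_ker_eq_bot ι₁).mp ι₁.injective,
      ← RingHom.ker_eq_comap_bot, Ideal.ker_algebraMap_residueField]
  · rw [← RingHom.comap_ker, (RingHom.injective_iff_ker_eq_bot ι₂).mp ι₂.injective,
      ← RingHom.ker_eq_comap_bot, Ideal.ker_algebraMap_residueField]

/-- Key algebraic step: if the monic polynomial of a standard étale algebra `B` splits over `R'`,
then at any pair of primes `t` of `R'` and `q` of `B` over the same prime of `R`, there is an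
`R`-algebra map from `B` to a principal localization of `R'` near `t` pulling `t` back to `q`. -/
theorem exists_algHom_away {R R' B : Type u} [CommRing R] [CommRing R'] [CommRing B]
    [Algebra R R'] [Algebra R B] (P : StandardEtalePresentation R B)
    (hsplit : (P.f.map (algebraMap R R')).Splits)
    (t : PrimeSpectrum R') (q : PrimeSpectrum B)
    (h : t.comap (algebraMap R R') = q.comap (algebraMap R B)) :
    ∃ (a : R') (ψ : B →ₐ[R] Localization.Away a) (t' : PrimeSpectrum (Localization.Away a)),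
      t'.comap (algebraMap R' (Localization.Away a)) = t ∧ t'.comap ψ.toRingHom = q := by
  obtain ⟨L, _, ρ₁, ρ₂, hρ, hk₁, hk₂⟩ := exists_field_of_comap_eq t q h
  let _ : Algebra R L := (ρ₁.comp (algebraMap R R')).toAlgebra
  let ρ₁ₐ : R' →ₐ[R] L := ⟨ρ₁, fun r => rfl⟩
  let ρ₂ₐ : B →ₐ[R] L := ⟨ρ₂, fun r => (congrArg (fun g => g r) hρ).symm⟩
  set y : L := ρ₂ₐ P.x with hy
  have hfy : aeval y P.f = 0 := by
    rw [hy, aeval_algHom_apply, P.hasMap.1, map_zero]
  -- the splitting
  obtain ⟨m, hm⟩ := splits_iff_exists_multiset'.mp hsplit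
  have hmonic : (P.f.map (algebraMap R R')).Monic := P.monic_f.map _
  rw [hmonic.leadingCoeff, C_1, one_mul] at hm
  -- evaluate at `y` in `L`
  have hL : (P.f.map (algebraMap R R')).map ρ₁ = ((m.map ρ₁).map (fun a => X + C a)).prod := by
    rw [hm, Polynomial.map_multiset_prod, Multiset.map_map, Multiset.map_map]
    congr 1
    refine Multiset.map_congr rfl fun a _ => ?_
    simp
  have hev : eval y ((P.f.map (algebraMap R R')).map ρ₁) = 0 := by
    rw [Polynomial.map_map]
    have : (ρ₁.comp (algebraMap R R')) = algebraMap R L := rfl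
    rw [this, eval_map_algebraMap]
    exact hfy
  rw [hL, eval_multiset_prod, Multiset.prod_eq_zero_iff] at hev
  simp only [Multiset.mem_map, exists_exists_and_eq_and] at hev
  obtain ⟨a₀, ha₀, ha₀y⟩ := hev
  simp only [eval_add, eval_X, eval_C] at ha₀y
  set α : R' := -a₀ with hα
  have hαy : ρ₁ α = y := by
    rw [hα, map_neg]
    exact (eq_neg_of_add_eq_zero_left ha₀y).symm
  have hfα : aeval α P.f = 0 := by
    rw [← eval_map_algebraMap, hm, eval_multiset_prod]
    refine Multiset.prod_eq_zero ?_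
    simp only [Multiset.mem_map, exists_exists_and_eq_and]
    exact ⟨a₀, ha₀, by simp [hα]⟩
  set a : R' := aeval α P.g with ha
  have hρa : ρ₁ a = ρ₂ₐ (aeval P.x P.g) := by
    have : ρ₁ a = ρ₁ₐ (aeval α P.g) := rfl
    rw [this, ← aeval_algHom_apply, ← aeval_algHom_apply]
    exact congrArg (fun z => aeval z P.g) hαy
  have hunit : IsUnit (ρ₁ a) := by
    rw [hρa]
    exact P.hasMap.2.map ρ₂ₐ
  let A := Localization.Away a
  have hmap : P.P.HasMap (algebraMap R' A α) := by
    refine ⟨?_, ?_⟩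
    · rw [← IsScalarTower.toAlgHom_apply R R' A, aeval_algHom_apply, hfα, map_zero]
    · rw [← IsScalarTower.toAlgHom_apply R R' A, aeval_algHom_apply]
      exact IsLocalization.Away.algebraMap_isUnit a
  let ψ : B →ₐ[R] A := (P.P.lift (algebraMap R' A α) hmap).comp P.equivRing.toAlgHom
  have hψx : ψ P.x = algebraMap R' A α := by
    simp [ψ]
  let ρ' : A →+* L := IsLocalization.Away.lift a hunit
  have hρ' : ρ'.comp (algebraMap R' A) = ρ₁ := IsLocalization.Away.lift_comp a hunit
  let ρ'ₐ : A →ₐ[R] L := ⟨ρ', fun r => by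
    rw [IsScalarTower.algebraMap_apply R R' A]
    exact congrArg (fun g => g (algebraMap R R' r)) hρ'⟩
  have hcomp : ρ'ₐ.comp ψ = ρ₂ₐ := by
    refine P.hom_ext ?_
    rw [AlgHom.comp_apply, hψx]
    change ρ' (algebraMap R' A α) = y
    rw [← hαy]
    exact congrArg (fun g => g α) hρ'
  let t' : PrimeSpectrum A := ⟨RingHom.ker ρ', RingHom.ker_isPrime ρ'⟩
  refine ⟨a, ψ, t', ?_, ?_⟩
  · ext1
    change Ideal.comap (algebraMap R' A) (RingHom.ker ρ') = t.asIdeal
    rw [RingHom.comap_ker, hρ', hk₁]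
  · ext1
    change Ideal.comap ψ.toRingHom (RingHom.ker ρ') = q.asIdeal
    rw [RingHom.comap_ker, ← hk₂]
    have : ρ'.comp ψ.toRingHom = ρ₂ := congrArg (fun g : B →ₐ[R] L => g.toRingHom) hcomp
    rw [this]

open CategoryTheory AlgebraicGeometry

/-- Scheme-level consequence: a standard étale chart around `u` is dominated, Zariski locally on a
finite free cover of the affine base, at every point over the image of `u`. -/
theorem exists_cover_of_standardEtale {U S : Scheme.{u}} (e : U ⟶ S) (u : U)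
    (R : Type u) [CommRing R] (v : Spec (.of R) ⟶ S) (B : Type u) [CommRing B]
    [Algebra R B] [Algebra.IsStandardEtale R B]
    (ι : Spec (.of B) ⟶ U)
    (hι : ι ≫ e = Spec.map (CommRingCat.ofHom (algebraMap R B)) ≫ v)
    (q : Spec (.of B)) (hq : ι q = u) :
    ∃ (T : Scheme.{u}) (π : T ⟶ Spec (.of R)), Surjective π ∧ IsFinite π ∧ Flat π ∧
      LocallyOfFinitePresentation π ∧
      ∀ t : T, π t = Spec.map (CommRingCat.ofHom (algebraMap R B)) q →
        ∃ (W : T.Opens) (h : (W : Scheme.{u}) ⟶ U), t ∈ W ∧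
        h ≫ e = W.ι ≫ π ≫ v ∧ ∀ ht : t ∈ W, h ⟨t, ht⟩ = u := by
  have hBnt : Nontrivial B := by
    have : Nonempty (PrimeSpectrum B) := ⟨q⟩
    exact (PrimeSpectrum.nonempty_iff_nontrivial.mp this)
  have hRnt : Nontrivial R := (algebraMap R B).domain_nontrivial
  let P : StandardEtalePresentation R B :=
    Algebra.IsStandardEtale.nonempty_standardEtalePresentation.some
  obtain ⟨R', _, _, hfin, hfree, hnt, hsplit⟩ := P.monic_f.exists_splits_map
  let φ : CommRingCat.of R ⟶ CommRingCat.of R' := CommRingCat.ofHom (algebraMap R R')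
  let σ : Spec (.of B) ⟶ Spec (.of R) := Spec.map (CommRingCat.ofHom (algebraMap R B))
  have hff : φ.hom.FaithfullyFlat := by
    change (algebraMap R R').FaithfullyFlat
    rw [RingHom.faithfullyFlat_algebraMap_iff]
    infer_instance
  have h1 := (flat_and_surjective_SpecMap_iff φ).mpr hff
  have hflat : Flat (Spec.map φ) := h1.1
  have hsurj : Surjective (Spec.map φ) := h1.2
  have hfinite : IsFinite (Spec.map φ) := by
    rw [IsFinite.SpecMap_iff]
    change (algebraMap R R').Finite
    rw [RingHom.finite_algebraMap]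
    infer_instance
  have hfp : LocallyOfFinitePresentation (Spec.map φ) := by
    rw [LocallyOfFinitePresentation.SpecMap_iff]
    change (algebraMap R R').FinitePresentation
    rw [RingHom.finitePresentation_algebraMap]
    have : Module.FinitePresentation R R' := Module.finitePresentation_of_projective R R'
    infer_instance
  refine ⟨Spec (.of R'), Spec.map φ, hsurj, hfinite, hflat, hfp, fun t hpt => ?_⟩
  obtain ⟨a, ψ, t', ht', hψ⟩ := exists_algHom_away P hsplit t q hpt
  let A := Localization.Away a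
  let j : Spec (.of A) ⟶ Spec (.of R') := Spec.map (CommRingCat.ofHom (algebraMap R' A))
  have hjt : j t' = t := ht'
  have hψq : Spec.map (CommRingCat.ofHom ψ.toRingHom) t' = q := hψ
  refine ⟨j.opensRange, j.isoOpensRange.inv ≫ Spec.map (CommRingCat.ofHom ψ.toRingHom) ≫ ι,
    ⟨t', hjt⟩, ?_, fun ht0 => ?_⟩
  · rw [Category.assoc, Category.assoc, hι]
    have h7 : Spec.map (CommRingCat.ofHom ψ.toRingHom) ≫
        Spec.map (CommRingCat.ofHom (algebraMap R B)) = j ≫ Spec.map φ := by
      rw [← Spec.map_comp, ← Spec.map_comp, ← CommRingCat.ofHom_comp, ← CommRingCat.ofHom_comp]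
      congr 2
      ext r
      simp only [RingHom.comp_apply]
      rw [← IsScalarTower.algebraMap_apply R R' A]
      exact ψ.commutes r
    rw [reassoc_of% h7, ← Scheme.Hom.isoOpensRange_inv_comp_assoc]
  · have h8 : (⟨t, ht0⟩ : j.opensRange) = j.isoOpensRange.hom t' := by
      apply j.opensRange.ι.injective
      change t = (j.isoOpensRange.hom ≫ j.opensRange.ι) t'
      rw [Scheme.Hom.isoOpensRange_hom_ι, hjt]
    rw [h8]
    change (j.isoOpensRange.hom ≫ j.isoOpensRange.inv ≫
      Spec.map (CommRingCat.ofHom ψ.toRingHom) ≫ ι) t' = u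
    rw [Iso.hom_inv_id_assoc]
    change ι (Spec.map (CommRingCat.ofHom ψ.toRingHom) t') = u
    rw [hψq, hq]

/-- An étale neighbourhood is dominated, Zariski locally at all points over `s`, by a finite
locally free cover of an affine open neighbourhood of `s`. -/
theorem exists_finite_flat_cover_dominating_etale_nbhd {U S : Scheme.{u}} (e : U ⟶ S) [Etale e]
    (u : U) (s : S) (hu : e u = s) :
    ∃ (V : S.Opens) (T : Scheme.{u}) (π : T ⟶ (V : Scheme.{u})), s ∈ V ∧ IsAffineOpen V ∧
      Surjective π ∧ IsFinite π ∧ Flat π ∧ LocallyOfFinitePresentation π ∧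
      ∀ t : T, V.ι (π t) = s → ∃ (W : T.Opens) (h : (W : Scheme.{u}) ⟶ U), t ∈ W ∧
        h ≫ e = W.ι ≫ π ≫ V.ι ∧ ∀ ht : t ∈ W, h ⟨t, ht⟩ = u := by
  obtain ⟨V, hV, hsV, -⟩ := exists_isAffineOpen_mem_and_subset (x := s) (U := ⊤) trivial
  have huV : u ∈ e ⁻¹ᵁ V := by
    change e u ∈ V
    rw [hu]; exact hsV
  obtain ⟨U₁, hU₁, huU₁, hle⟩ := exists_isAffineOpen_mem_and_subset huV
  have hle' : U₁ ≤ e ⁻¹ᵁ V := hle
  let φ₀ := e.appLE V U₁ hle'
  have hφ₀ : φ₀.hom.Etale := Etale.etale_appLE e hV hU₁ hle'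
  let _ : Algebra Γ(S, V) Γ(U, U₁) := φ₀.hom.toAlgebra
  have hEt : Algebra.Etale Γ(S, V) Γ(U, U₁) := hφ₀
  let q₀ := hU₁.primeIdealOf ⟨u, huU₁⟩
  have hq₀ : hU₁.fromSpec q₀ = u := hU₁.fromSpec_primeIdealOf ⟨u, huU₁⟩
  obtain ⟨f₀, hf₀, hstd⟩ := Algebra.IsEtaleAt.exists_isStandardEtale (R := Γ(S, V)) q₀.asIdeal
  let B := Localization.Away f₀
  let ι : Spec (.of B) ⟶ U := Spec.map (CommRingCat.ofHom (algebraMap Γ(U, U₁) B)) ≫ hU₁.fromSpec
  have hι : ι ≫ e = Spec.map (CommRingCat.ofHom (algebraMap Γ(S, V) B)) ≫ hV.fromSpec := by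
    rw [Category.assoc, ← IsAffineOpen.SpecMap_appLE_fromSpec e hV hU₁ hle', ← Spec.map_comp_assoc]
    congr 2
  obtain ⟨q, hq⟩ : ∃ q : PrimeSpectrum B, PrimeSpectrum.comap (algebraMap Γ(U, U₁) B) q = q₀ := by
    have : q₀ ∈ Set.range (PrimeSpectrum.comap (algebraMap Γ(U, U₁) B)) := by
      rw [PrimeSpectrum.localization_away_comap_range B f₀]
      exact hf₀
    exact this
  have hιq : ι q = u := by
    change hU₁.fromSpec (Spec.map (CommRingCat.ofHom (algebraMap Γ(U, U₁) B)) q) = u
    rw [← hq₀]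
    exact congrArg _ hq
  obtain ⟨T, π', hsurj, hfin, hflat, hfp, hloc⟩ :=
    exists_cover_of_standardEtale e u Γ(S, V) hV.fromSpec B ι hι q hιq
  refine ⟨V, T, π' ≫ hV.isoSpec.inv, hsV, hV, inferInstance, inferInstance, inferInstance,
    inferInstance, fun t ht => ?_⟩
  have hσ : hV.fromSpec (Spec.map (CommRingCat.ofHom (algebraMap Γ(S, V) B)) q) = s := by
    change (Spec.map (CommRingCat.ofHom (algebraMap Γ(S, V) B)) ≫ hV.fromSpec) q = s
    rw [← hι]
    change e (ι q) = s
    rw [hιq, hu]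
  have ht' : hV.fromSpec (π' t) = s := ht
  have hpt : π' t = Spec.map (CommRingCat.ofHom (algebraMap Γ(S, V) B)) q :=
    hV.fromSpec.injective (ht'.trans hσ.symm)
  obtain ⟨W, h, htW, hh, hhu⟩ := hloc t hpt
  refine ⟨W, h, htW, ?_, hhu⟩
  rw [hh, Category.assoc, hV.isoSpec_inv_ι]

end Groth.Agent.Lib.Seat20.SplitEtale
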