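import Mathlib
import Groth.Agent.Lib.Helper23DerLES
import Groth.Agent.Lib.Helper21DerLES2

/-!
# Seat81: five-term exact sequences, closure properties along long exact sequences of derived functors,
and pointwise biproducts of functors
-/

open CategoryTheory Limits

namespace Groth.Agent.Lib.Seat81.Five

universe v v' u u'

section five

variable {D : Type u'} [Category.{v'} D] [Abelian D]

/-- the short exact sequence `0 → coker a → C → ker d → 0` of a five term exact sequence -/
theorem shortExact_of_five {A B C' D' E : D} (a : A ⟶ B) (b : B ⟶ C') (c : C' ⟶ D') (d : D' ⟶ E)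
    (wab : a ≫ b = 0) (wbc : b ≫ c = 0) (wcd : c ≫ d = 0)
    (hB : (ShortComplex.mk a b wab).Exact) (hC : (ShortComplex.mk b c wbc).Exact)
    (hD : (ShortComplex.mk c d wcd).Exact) :
    ∃ w : cokernel.desc a b wab ≫ kernel.lift d c wcd = 0,
      (ShortComplex.mk (cokernel.desc a b wab) (kernel.lift d c wcd) w).ShortExact := by
  have w2 : cokernel.desc a b wab ≫ c = 0 := by
    rw [← cancel_epi (cokernel.π a), cokernel.π_desc_assoc, wbc, comp_zero]
  have w3 : cokernel.desc a b wab ≫ kernel.lift d c wcd = 0 := by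
    rw [← cancel_mono (kernel.ι d), Category.assoc, kernel.lift_ι, w2, zero_comp]
  refine ⟨w3, ?_⟩
  let S1 : ShortComplex D := ShortComplex.mk b c wbc
  let S2 : ShortComplex D := ShortComplex.mk (cokernel.desc a b wab) c w2
  let S3 : ShortComplex D := ShortComplex.mk (cokernel.desc a b wab) (kernel.lift d c wcd) w3
  let φ12 : S1 ⟶ S2 :=
    { τ₁ := cokernel.π a
      τ₂ := 𝟙 _
      τ₃ := 𝟙 _
      comm₁₂ := by simp [S1, S2]
      comm₂₃ := by simp [S1, S2] }
  let φ32 : S3 ⟶ S2 :=
    { τ₁ := 𝟙 _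
      τ₂ := 𝟙 _
      τ₃ := kernel.ι d
      comm₁₂ := by simp [S3, S2]
      comm₂₃ := by simp [S3, S2] }
  have : Epi φ12.τ₁ := by dsimp [φ12]; infer_instance
  have : IsIso φ12.τ₂ := by dsimp [φ12]; infer_instance
  have : Mono φ12.τ₃ := by dsimp [φ12]; infer_instance
  have : Epi φ32.τ₁ := by dsimp [φ32]; infer_instance
  have : IsIso φ32.τ₂ := by dsimp [φ32]; infer_instance
  have : Mono φ32.τ₃ := by dsimp [φ32]; infer_instance
  have h2 : S2.Exact := (ShortComplex.exact_iff_of_epi_of_isIso_of_mono φ12).1 hC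
  have h3 : S3.Exact := (ShortComplex.exact_iff_of_epi_of_isIso_of_mono φ32).2 h2
  have hm : Mono S3.f := (ShortComplex.exact_iff_mono_cokernel_desc _).1 hB
  have he : Epi S3.g := (ShortComplex.exact_iff_epi_kernel_lift _).1 hD
  exact { exact := h3, mono_f := hm, epi_g := he }

/-- Closure hypotheses on a property of objects of an abelian category. -/
structure Closed (P : D → Prop) : Prop where
  ker : ∀ {X Y : D} (f : X ⟶ Y), P X → P Y → P (kernel f)
  coker : ∀ {X Y : D} (f : X ⟶ Y), P X → P Y → P (cokernel f)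
  ext : ∀ (S : ShortComplex D), S.ShortExact → P S.X₁ → P S.X₃ → P S.X₂

theorem Closed.of_five {P : D → Prop} (hP : Closed P)
    {A B C' D' E : D} (a : A ⟶ B) (b : B ⟶ C') (c : C' ⟶ D') (d : D' ⟶ E)
    (wab : a ≫ b = 0) (wbc : b ≫ c = 0) (wcd : c ≫ d = 0)
    (hB : (ShortComplex.mk a b wab).Exact) (hC : (ShortComplex.mk b c wbc).Exact)
    (hD : (ShortComplex.mk c d wcd).Exact)
    (pA : P A) (pB : P B) (pD : P D') (pE : P E) : P C' := by
  obtain ⟨w, hS⟩ := shortExact_of_five a b c d wab wbc wcd hB hC hD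
  exact hP.ext _ hS (hP.coker a pA pB) (hP.ker d pD pE)

/-- four term version: `0 → B → C → D → E` -/
theorem Closed.of_four {P : D → Prop} (hP : Closed P)
    {B C' D' E : D} (b : B ⟶ C') (c : C' ⟶ D') (d : D' ⟶ E) [Mono b]
    (wbc : b ≫ c = 0) (wcd : c ≫ d = 0)
    (hC : (ShortComplex.mk b c wbc).Exact) (hD : (ShortComplex.mk c d wcd).Exact)
    (pB : P B) (pD : P D') (pE : P E) : P C' := by
  have hz : kernel.ι (𝟙 B) = 0 := by
    rw [← cancel_mono (𝟙 B), kernel.condition, zero_comp]
  refine hP.of_five (kernel.ι (𝟙 B)) b c d (by rw [hz, zero_comp]) wbc wcd ?_ hC hD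
    (hP.ker (𝟙 B) pB pB) pB pD pE
  exact (ShortComplex.exact_iff_mono _ hz).2 (by assumption)

end five

section les

variable {C : Type u} [Category.{v} C] [Abelian C]
  {D : Type u'} [Category.{v'} D] [Abelian D]
  {T' T T'' : C ⥤ D} [T'.Additive] [T.Additive] [T''.Additive]
  (α : T' ⟶ T) (β : T ⟶ T'') (w : α ≫ β = 0)
  (hex : ∀ Q : C, Injective Q → (ShortComplex.mk (α.app Q) (β.app Q) (by
    rw [← NatTrans.comp_app, w]; rfl)).ShortExact)
  [HasInjectiveResolutions C]

open Groth.Agent.Lib.Helper21.DerLES2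

include hex in
/-- the left functor in positive degrees -/
theorem Closed.left_succ {P : D → Prop} (hP : Closed P) (X : C) (p : ℕ)
    (h1 : P ((T.rightDerived p).obj X)) (h2 : P ((T''.rightDerived p).obj X))
    (h3 : P ((T.rightDerived (p + 1)).obj X)) (h4 : P ((T''.rightDerived (p + 1)).obj X)) :
    P ((T'.rightDerived (p + 1)).obj X) := by
  obtain ⟨w3, e3⟩ := exact₃ α β w hex p X
  obtain ⟨w1, e1⟩ := exact₁ α β w hex p X
  obtain ⟨w2, e2⟩ := exact₂ α β w hex (p + 1) X
  exact hP.of_five _ _ _ _ w3 w1 w2 e3 e1 e2 h1 h2 h3 h4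

include hex in
/-- the middle functor in positive degrees -/
theorem Closed.mid_succ {P : D → Prop} (hP : Closed P) (X : C) (p : ℕ)
    (h1 : P ((T''.rightDerived p).obj X)) (h2 : P ((T'.rightDerived (p + 1)).obj X))
    (h3 : P ((T''.rightDerived (p + 1)).obj X)) (h4 : P ((T'.rightDerived (p + 2)).obj X)) :
    P ((T.rightDerived (p + 1)).obj X) := by
  obtain ⟨w1, e1⟩ := exact₁ α β w hex p X
  obtain ⟨w2, e2⟩ := exact₂ α β w hex (p + 1) X
  obtain ⟨w3, e3⟩ := exact₃ α β w hex (p + 1) X
  exact hP.of_five _ _ _ _ w1 w2 w3 e1 e2 e3 h1 h2 h3 h4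

include hex in
/-- the middle functor in degree zero, when `α` has a retraction -/
theorem Closed.mid_zero {P : D → Prop} (hP : Closed P) (X : C) (r : T ⟶ T') (hr : α ≫ r = 𝟙 T')
    (h2 : P ((T'.rightDerived 0).obj X))
    (h3 : P ((T''.rightDerived 0).obj X)) (h4 : P ((T'.rightDerived 1).obj X)) :
    P ((T.rightDerived 0).obj X) := by
  obtain ⟨w2, e2⟩ := exact₂ α β w hex 0 X
  obtain ⟨w3, e3⟩ := exact₃ α β w hex 0 X
  have : Mono ((NatTrans.rightDerived α 0).app X) := by
    have h : (NatTrans.rightDerived α 0).app X ≫ (NatTrans.rightDerived r 0).app X = 𝟙 _ := by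
      rw [← NatTrans.comp_app, ← NatTrans.rightDerived_comp, hr, NatTrans.rightDerived_id]
      rfl
    exact mono_of_mono_fac h
  exact hP.of_four _ _ _ w2 w3 e2 e3 h2 h3 h4

include hex in
theorem Closed.left_all {P : D → Prop} (hP : Closed P) (X : C)
    (hT : ∀ p, P ((T.rightDerived p).obj X)) (hT'' : ∀ p, P ((T''.rightDerived p).obj X))
    (h0 : P ((T'.rightDerived 0).obj X)) : ∀ p, P ((T'.rightDerived p).obj X)
  | 0 => h0
  | p + 1 => hP.left_succ α β w hex X p (hT p) (hT'' p) (hT (p + 1)) (hT'' (p + 1))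

include hex in
theorem Closed.mid_all {P : D → Prop} (hP : Closed P) (X : C) (r : T ⟶ T') (hr : α ≫ r = 𝟙 T')
    (hT' : ∀ p, P ((T'.rightDerived p).obj X)) (hT'' : ∀ p, P ((T''.rightDerived p).obj X)) :
    ∀ p, P ((T.rightDerived p).obj X)
  | 0 => hP.mid_zero α β w hex X r hr (hT' 0) (hT'' 0) (hT' 1)
  | p + 1 => hP.mid_succ α β w hex X p (hT'' p) (hT' (p + 1)) (hT'' (p + 1)) (hT' (p + 2))

end les

section biF

variable {C : Type u} [Category.{v} C] [Abelian C]
  {D : Type u'} [Category.{v'} D] [Abelian D]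

/-- pointwise biproduct of two functors -/
@[simps]
noncomputable def biF (F G : C ⥤ D) : C ⥤ D where
  obj M := F.obj M ⊞ G.obj M
  map φ := biprod.map (F.map φ) (G.map φ)

instance (F G : C ⥤ D) [F.Additive] [G.Additive] : (biF F G).Additive where
  map_add {X Y f g} := by
    change biprod.map (F.map (f + g)) (G.map (f + g)) =
      biprod.map (F.map f) (G.map f) + biprod.map (F.map g) (G.map g)
    rw [Functor.map_add, Functor.map_add]
    apply biprod.hom_ext
    · rw [Preadditive.add_comp, biprod.map_fst, biprod.map_fst, biprod.map_fst, Preadditive.comp_add]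
    · rw [Preadditive.add_comp, biprod.map_snd, biprod.map_snd, biprod.map_snd, Preadditive.comp_add]

variable (F G : C ⥤ D)

@[simps] noncomputable def inlF : F ⟶ biF F G where
  app M := biprod.inl
  naturality {M N} φ := (biprod.inl_map _ _).symm
@[simps] noncomputable def inrF : G ⟶ biF F G where
  app M := biprod.inr
  naturality {M N} φ := (biprod.inr_map _ _).symm
@[simps] noncomputable def fstF : biF F G ⟶ F where
  app M := biprod.fst
  naturality {M N} φ := biprod.map_fst _ _
@[simps] noncomputable def sndF : biF F G ⟶ G where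
  app M := biprod.snd
  naturality {M N} φ := biprod.map_snd _ _

/-- the transformation into a pointwise biproduct with given components -/
@[simps] noncomputable def liftF {H : C ⥤ D} (a : H ⟶ F) (b : H ⟶ G) : H ⟶ biF F G where
  app M := biprod.lift (a.app M) (b.app M)
  naturality M N φ := by
    change H.map φ ≫ biprod.lift (a.app N) (b.app N) =
      biprod.lift (a.app M) (b.app M) ≫ biprod.map (F.map φ) (G.map φ)
    apply biprod.hom_ext
    · rw [Category.assoc, Category.assoc, biprod.lift_fst, biprod.map_fst, biprod.lift_fst_assoc]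
      exact a.naturality φ
    · rw [Category.assoc, Category.assoc, biprod.lift_snd, biprod.map_snd, biprod.lift_snd_assoc]
      exact b.naturality φ

/-- the transformation out of a pointwise biproduct with given components -/
@[simps] noncomputable def descF {H : C ⥤ D} (c : F ⟶ H) (d : G ⟶ H) : biF F G ⟶ H where
  app M := biprod.desc (c.app M) (d.app M)
  naturality M N φ := by
    change biprod.map (F.map φ) (G.map φ) ≫ biprod.desc (c.app N) (d.app N) =
      biprod.desc (c.app M) (d.app M) ≫ H.map φ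
    apply biprod.hom_ext'
    · rw [biprod.inl_map_assoc, biprod.inl_desc, biprod.inl_desc_assoc]
      exact c.naturality φ
    · rw [biprod.inr_map_assoc, biprod.inr_desc, biprod.inr_desc_assoc]
      exact d.naturality φ

theorem liftF_descF {H H' : C ⥤ D} (a : H ⟶ F) (b : H ⟶ G) (c : F ⟶ H') (d : G ⟶ H') :
    liftF F G a b ≫ descF F G c d = a ≫ c + b ≫ d := by
  ext M : 2
  change biprod.lift (a.app M) (b.app M) ≫ biprod.desc (c.app M) (d.app M) = _
  rw [biprod.lift_desc]
  rfl

theorem inlF_fstF : inlF F G ≫ fstF F G = 𝟙 F := by ext M; exact biprod.inl_fst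
theorem inlF_sndF : inlF F G ≫ sndF F G = 0 := by ext M; exact biprod.inl_snd

theorem split_shortExact (Q : C) :
    (ShortComplex.mk ((inlF F G).app Q) ((sndF F G).app Q) biprod.inl_snd).ShortExact :=
  (ShortComplex.Splitting.ofHasBinaryBiproduct (F.obj Q) (G.obj Q)).shortExact

variable [F.Additive] [G.Additive] [HasInjectiveResolutions C]

/-- the derived functors of a pointwise biproduct inherit a closed property -/
theorem Closed.biF {P : D → Prop} (hP : Closed P) (X : C)
    (hF : ∀ p, P ((F.rightDerived p).obj X)) (hG : ∀ p, P ((G.rightDerived p).obj X)) :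
    ∀ p, P (((biF F G).rightDerived p).obj X) :=
  hP.mid_all (inlF F G) (sndF F G) (inlF_sndF F G) (fun Q _ => split_shortExact F G Q) X
    (fstF F G) (inlF_fstF F G) hF hG

end biF

end Groth.Agent.Lib.Seat81.Five
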