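/-
Seat 21 helper library: a low-degree consequence of the Grothendieck spectral sequence `RᵖG(RᵠT M) ⇒ Rⁿ(T ⋙ G) M`
WITHOUT spectral sequences: if `P` is a property of objects closed under kernels, cokernels and extensions
(`Seat81.Five.Closed`), `T` sends injectives to `G`-acyclics, and `P (RᵖG (RᵠT M))` for all `p` and all `q ≤ n`, then
`P (Rⁱ(T ⋙ G) M)` for all `i ≤ n`.  Proof by dimension shifting along the injective hull `0 → M → I → Q → 0`.
-/
import Mathlib
import Groth.Agent.Lib.Seat81GSS3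
import Groth.Agent.Lib.Seat81Five

open CategoryTheory Limits

namespace Groth.Agent.Lib.Seat21.GSSClosed

open Groth.Agent.Lib.Seat81.GSS Groth.Agent.Lib.Seat81.Five

universe v v' v'' u u' u''

section closed
variable {D : Type u'} [Category.{v'} D] [Abelian D]

theorem closed_of_iso {P : D → Prop} (hP : Closed P) {X Y : D} (e : X ≅ Y) (h : P X) : P Y := by
  have hz : kernel.ι (𝟙 X) = 0 := by rw [← cancel_mono (𝟙 X), kernel.condition, zero_comp]
  have hZ : IsZero (kernel (𝟙 X)) := IsZero.of_mono_eq_zero _ hz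
  let S : ShortComplex D := ShortComplex.mk (0 : kernel (𝟙 X) ⟶ Y) e.inv (by simp)
  have hS : S.ShortExact :=
    { exact := (ShortComplex.exact_iff_mono _ rfl).2 (inferInstanceAs (Mono e.inv))
      mono_f := ⟨fun _ _ _ => hZ.eq_of_tgt _ _⟩
      epi_g := inferInstanceAs (Epi e.inv) }
  exact hP.ext S hS (hP.ker (𝟙 X) h h) h

theorem closed_of_isZero {P : D → Prop} (hP : Closed P) {X Z : D} (h : P X) (hZ : IsZero Z) : P Z :=
  closed_of_iso hP ((isZero_kernel_of_mono (𝟙 X)).iso hZ) (hP.ker (𝟙 X) h h)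

/-- `0 → coker u → coker (u ≫ v) → coker v → 0` for `v` mono. -/
theorem closed_cokernel_comp {P : D → Prop} (hP : Closed P) {X Y Z : D} (u : X ⟶ Y) (v : Y ⟶ Z) [Mono v]
    (h1 : P (cokernel u)) (h2 : P (cokernel v)) : P (cokernel (u ≫ v)) := by
  have hex := kernelCokernelCompSequence_exact u v
  have e3 := hex.exact 3
  have e2 := hex.exact 2
  have hm : Mono (cokernel.map u (u ≫ v) (𝟙 _) v (by simp)) :=
    e2.mono_g ((isZero_kernel_of_mono v).eq_of_src _ _)
  have he : Epi (cokernel.map (u ≫ v) v u (𝟙 _) (by simp)) := by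
    have : cokernel.π (u ≫ v) ≫ cokernel.map (u ≫ v) v u (𝟙 _) (by simp) = cokernel.π v := by simp
    exact epi_of_epi_fac this
  exact hP.ext _ { exact := e3, mono_f := hm, epi_g := he } h1 h2

/-- for an exact sequence `A → B → C → D`, the cokernel of `A → B` is the kernel of `C → D`. -/
theorem closed_cokernel_of_exact {P : D → Prop} (hP : Closed P) {A B C E : D} (a : A ⟶ B) (b : B ⟶ C) (c : C ⟶ E)
    (wab : a ≫ b = 0) (wbc : b ≫ c = 0)
    (hB : (ShortComplex.mk a b wab).Exact) (hC : (ShortComplex.mk b c wbc).Exact)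
    (pC : P C) (pE : P E) : P (cokernel a) := by
  have w2 : cokernel.desc a b wab ≫ c = 0 := by
    rw [← cancel_epi (cokernel.π a), cokernel.π_desc_assoc, wbc, comp_zero]
  let S1 : ShortComplex D := ShortComplex.mk b c wbc
  let S2 : ShortComplex D := ShortComplex.mk (cokernel.desc a b wab) c w2
  let φ12 : S1 ⟶ S2 :=
    { τ₁ := cokernel.π a
      τ₂ := 𝟙 _
      τ₃ := 𝟙 _
      comm₁₂ := by simp [S1, S2]
      comm₂₃ := by simp [S1, S2] }
  have : Epi φ12.τ₁ := by dsimp [φ12]; infer_instance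
  have : IsIso φ12.τ₂ := by dsimp [φ12]; infer_instance
  have : Mono φ12.τ₃ := by dsimp [φ12]; infer_instance
  have h2 : S2.Exact := (ShortComplex.exact_iff_of_epi_of_isIso_of_mono φ12).1 hC
  have hm : Mono S2.f := (ShortComplex.exact_iff_mono_cokernel_desc _).1 hB
  have hl : IsLimit (KernelFork.ofι S2.f S2.zero) := h2.fIsKernel
  let e : cokernel a ≅ kernel c := IsLimit.conePointUniqueUpToIso hl (limit.isLimit (parallelPair c 0))
  exact closed_of_iso hP e.symm (hP.ker c pC pE)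

end closed

section gss

variable {𝒜 : Type u} [Category.{v} 𝒜] [Abelian 𝒜] [EnoughInjectives 𝒜]
  {ℬ : Type u'} [Category.{v'} ℬ] [Abelian ℬ] [EnoughInjectives ℬ]
  {𝒞 : Type u''} [Category.{v''} 𝒞] [Abelian 𝒞]
  (T : 𝒜 ⥤ ℬ) [T.Additive] [PreservesFiniteLimits T]
  (G : ℬ ⥤ 𝒞) [G.Additive] [PreservesFiniteLimits G]

variable (ΔT : RDer.DerivedLES T) (ΔG : RDer.DerivedLES G) (ΔTG : RDer.DerivedLES (T ⋙ G))

variable (hTG : ∀ I : 𝒜, Injective I → Acyc G (T.obj I))

theorem exact_T_hull (M : 𝒜) : ((hullSC M).map T).Exact ∧ Mono (T.map (hullSC M).f) :=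
  (Functor.preservesFiniteLimits_iff_forall_exact_map_and_mono T).1 inferInstance (hullSC M)
    (hullSC_shortExact M)

instance (M : 𝒜) : Mono (T.map (hullSC M).f) := (exact_T_hull T M).2

/-- first short exact sequence `0 → T M → T I → B → 0` -/
noncomputable abbrev S1 (M : 𝒜) : ShortComplex ℬ :=
  ShortComplex.mk (T.map (hullSC M).f) (cokernel.π (T.map (hullSC M).f)) (cokernel.condition _)

theorem S1_shortExact (M : 𝒜) : (S1 T M).ShortExact :=
  { exact := ShortComplex.exact_cokernel _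
    mono_f := inferInstanceAs (Mono (T.map (hullSC M).f))
    epi_g := inferInstanceAs (Epi (cokernel.π (T.map (hullSC M).f))) }

theorem wab (M : 𝒜) : T.map (hullSC M).f ≫ T.map (hullSC M).g = 0 := by
  rw [← T.map_comp, (hullSC M).zero, T.map_zero]

/-- `B → T Q` -/
noncomputable abbrev jB (M : 𝒜) : cokernel (T.map (hullSC M).f) ⟶ T.obj (hullSC M).X₃ :=
  cokernel.desc _ (T.map (hullSC M).g) (wab T M)

theorem jB_γ (M : 𝒜) : jB T M ≫ γ T ΔT M = 0 := by
  rw [← cancel_epi (cokernel.π _), cokernel.π_desc_assoc, map_g_γ, comp_zero]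

/-- second short exact sequence `0 → B → T Q → R¹T M → 0` -/
noncomputable abbrev S2 (M : 𝒜) : ShortComplex ℬ :=
  ShortComplex.mk (jB T M) (γ T ΔT M) (jB_γ T ΔT M)

theorem S2_shortExact (M : 𝒜) : (S2 T ΔT M).ShortExact := by
  let S0 : ShortComplex ℬ := ShortComplex.mk (T.map (hullSC M).g) (γ T ΔT M) (map_g_γ T ΔT M)
  let φ : S0 ⟶ S2 T ΔT M :=
    { τ₁ := cokernel.π _
      τ₂ := 𝟙 _
      τ₃ := 𝟙 _
      comm₁₂ := by simp [S0]
      comm₂₃ := by simp [S0] }
  have : Epi φ.τ₁ := by dsimp [φ]; infer_instance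
  have : IsIso φ.τ₂ := by dsimp [φ]; infer_instance
  have : Mono φ.τ₃ := by dsimp [φ]; infer_instance
  exact
    { exact := (ShortComplex.exact_iff_of_epi_of_isIso_of_mono φ).1 (exact_map_g_γ T ΔT M)
      mono_f := (ShortComplex.exact_iff_mono_cokernel_desc _).1 (exact_T_hull T M).1
      epi_g := inferInstanceAs (Epi (γ T ΔT M)) }

instance (M : 𝒜) : Mono (jB T M) := by
  obtain ⟨ΔT⟩ := Groth.Agent.S16463.result T
  exact (S2_shortExact T ΔT M).mono_f

variable {P : 𝒞 → Prop} (hP : Closed P)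

include ΔG hTG hP in
/-- `RᵖG(B) ≅ Rᵖ⁺¹G(T M)` for `p ≥ 1` -/
theorem P_RG_B (M : 𝒜) (p : ℕ) (h : P ((G.rightDerived (p + 2)).obj (T.obj M))) :
    P ((G.rightDerived (p + 1)).obj (cokernel (T.map (hullSC M).f))) := by
  have := isIso_δ G ΔG (S1 T M) (S1_shortExact T M) (p + 1) (hTG _ inferInstance p)
    (hTG _ inferInstance (p + 1))
  exact closed_of_iso hP (asIso (ΔG.δ (S1 T M) (S1_shortExact T M) (p + 1) (p + 2) rfl)).symm h

include ΔT ΔG hTG hP in
/-- `Rᵖ⁺¹G(T Q)` from the second short exact sequence -/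
theorem P_RG_TQ (M : 𝒜) (p : ℕ)
    (h1 : P ((G.rightDerived p).obj ((T.rightDerived 1).obj M)))
    (h2 : P ((G.rightDerived (p + 1)).obj ((T.rightDerived 1).obj M)))
    (h3 : P ((G.rightDerived (p + 2)).obj (T.obj M)))
    (h4 : P ((G.rightDerived (p + 3)).obj (T.obj M))) :
    P ((G.rightDerived (p + 1)).obj (T.obj (hullSC M).X₃)) := by
  have hS2 := S2_shortExact T ΔT M
  exact hP.of_five _ _ _ _ (ΔG.δ_comp (S2 T ΔT M) hS2 p (p + 1) rfl) _
    (ΔG.comp_δ (S2 T ΔT M) hS2 (p + 1) (p + 2) rfl)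
    (ΔG.exact₁ (S2 T ΔT M) hS2 p (p + 1) rfl) (ΔG.exact₂ (S2 T ΔT M) hS2 (p + 1))
    (ΔG.exact₃ (S2 T ΔT M) hS2 (p + 1) (p + 2) rfl)
    h1 (P_RG_B T G ΔG hTG hP M p h3) h2 (P_RG_B T G ΔG hTG hP M (p + 1) h4)

include ΔT ΔG ΔTG hTG hP in
/-- degree one: the five term exact sequence -/
theorem P_R1 (M : 𝒜)
    (h1 : P ((G.rightDerived 1).obj (T.obj M))) (h2 : P ((G.rightDerived 2).obj (T.obj M)))
    (h3 : P (G.obj ((T.rightDerived 1).obj M))) :
    P (((T ⋙ G).rightDerived 1).obj M) := by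
  have hS1 := S1_shortExact T M
  have hS2 := S2_shortExact T ΔT M
  let u := G.map (cokernel.π (T.map (hullSC M).f))
  let v := G.map (jB T M)
  have huv : u ≫ v = (T ⋙ G).map (hullSC M).g := by
    change G.map _ ≫ G.map _ = G.map (T.map _)
    rw [← G.map_comp, cokernel.π_desc]
  -- cokernel of u
  have hcu : P (cokernel u) := by
    have hex := exact_map_g_γS G ΔG (S1 T M) hS1
    have hepi := epi_γS G ΔG (S1 T M) hS1 (hTG _ inferInstance 0)
    obtain ⟨e⟩ := nonempty_iso_of_cokernels u (γS G ΔG (S1 T M) hS1) (cokernel.π u)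
      (map_g_γS G ΔG (S1 T M) hS1) (cokernel.condition u) hex (ShortComplex.exact_cokernel u)
    exact closed_of_iso hP e h1
  -- cokernel of v
  have hcv : P (cokernel v) := by
    have hex1 : ((S2 T ΔT M).map G).Exact :=
      hS2.exact.map_of_mono_of_preservesKernel G hS2.mono_f inferInstance
    have hex2 := exact_map_g_γS G ΔG (S2 T ΔT M) hS2
    exact closed_cokernel_of_exact hP v (G.map (γ T ΔT M)) (γS G ΔG (S2 T ΔT M) hS2)
      ((S2 T ΔT M).map G).zero (map_g_γS G ΔG (S2 T ΔT M) hS2) hex1 hex2 h3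
      (P_RG_B T G ΔG hTG hP M 0 h2)
  have hc : P (cokernel (u ≫ v)) := closed_cokernel_comp hP u v hcu hcv
  rw [huv] at hc
  obtain ⟨e⟩ := nonempty_iso_of_cokernels ((T ⋙ G).map (hullSC M).g) (cokernel.π _)
    (γ (T ⋙ G) ΔTG M) (cokernel.condition _) (map_g_γ (T ⋙ G) ΔTG M)
    (ShortComplex.exact_cokernel _) (exact_map_g_γ (T ⋙ G) ΔTG M)
  exact closed_of_iso hP e hc

include ΔT ΔG ΔTG hTG hP in
theorem main (n : ℕ) : ∀ M : 𝒜,
    (∀ p, P ((G.rightDerived (p + 1)).obj (T.obj M))) →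
    (∀ q p, q < n → P ((G.rightDerived p).obj ((T.rightDerived (q + 1)).obj M))) →
    ∀ i, i < n → P (((T ⋙ G).rightDerived (i + 1)).obj M) := by
  induction n with
  | zero => intro M _ _ i hi; omega
  | succ n ih =>
    intro M ha hb i hi
    cases i with
    | zero =>
      exact P_R1 T G ΔT ΔG ΔTG hTG hP M (ha 0) (ha 1)
        (closed_of_iso hP (G.rightDerivedZeroIsoSelf.app _) (hb 0 0 (by omega)))
    | succ i =>
      have hQ := ih (hullSC M).X₃
        (fun p => P_RG_TQ T G ΔT ΔG hTG hP M p (hb 0 p (by omega)) (hb 0 (p + 1) (by omega))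
          (ha (p + 1)) (ha (p + 2)))
        (fun q p hq => by
          have := isIso_δ T ΔT (hullSC M) (hullSC_shortExact M) (q + 1)
            (Functor.isZero_rightDerived_obj_injective_succ T q _)
            (Functor.isZero_rightDerived_obj_injective_succ T (q + 1) _)
          exact closed_of_iso hP ((G.rightDerived p).mapIso
            (asIso (ΔT.δ (hullSC M) (hullSC_shortExact M) (q + 1) (q + 2) rfl)).symm)
            (hb (q + 1) p (by omega)))
        i (by omega)
      have := isIso_δ (T ⋙ G) ΔTG (hullSC M) (hullSC_shortExact M) (i + 1)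
        (Functor.isZero_rightDerived_obj_injective_succ (T ⋙ G) i _)
        (Functor.isZero_rightDerived_obj_injective_succ (T ⋙ G) (i + 1) _)
      exact closed_of_iso hP (asIso (ΔTG.δ (hullSC M) (hullSC_shortExact M) (i + 1) (i + 2) rfl)) hQ

include hTG hP in
/-- **Low-degree closure for the Grothendieck spectral sequence.** -/
theorem closed_rightDerived_comp (M : 𝒜) (n : ℕ)
    (h : ∀ q p, q ≤ n → P ((G.rightDerived p).obj ((T.rightDerived q).obj M))) :
    ∀ i, i ≤ n → P (((T ⋙ G).rightDerived i).obj M) := by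
  obtain ⟨ΔT⟩ := Groth.Agent.S16463.result T
  obtain ⟨ΔG⟩ := Groth.Agent.S16463.result G
  obtain ⟨ΔTG⟩ := Groth.Agent.S16463.result (T ⋙ G)
  intro i hi
  cases i with
  | zero =>
    exact closed_of_iso hP (((T ⋙ G).rightDerivedZeroIsoSelf.app M ≪≫
      G.mapIso (T.rightDerivedZeroIsoSelf.app M).symm ≪≫
      (G.rightDerivedZeroIsoSelf.app _).symm)).symm (h 0 0 (by omega))
  | succ i =>
    exact main T G ΔT ΔG ΔTG hTG hP n M
      (fun p => closed_of_iso hP ((G.rightDerived (p + 1)).mapIso (T.rightDerivedZeroIsoSelf.app M))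
        (h 0 (p + 1) (by omega)))
      (fun q p hq => h (q + 1) p (by omega)) i (by omega)

end gss

end Groth.Agent.Lib.Seat21.GSSClosed
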