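/-
Seat 81 helper library: the functors `A W = j_* j^*` on `X.Modules` for opens `W` of `X`, with their restriction
transformations `ρ : A W' ⟶ A W` for `W ≤ W'`.
-/
import Mathlib
import Groth.Agent.Lib.Helper23QCohAbelian

namespace Groth.Agent.Lib.Seat81.AW
open CategoryTheory CategoryTheory.Limits AlgebraicGeometry TopologicalSpace Opposite
open AlgebraicGeometry.Scheme.Modules
universe u
set_option autoImplicit false

variable {X : Scheme.{u}}

/-- `j_* j^*` for the inclusion `j` of an open `W` -/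
noncomputable abbrev A (W : X.Opens) : X.Modules ⥤ X.Modules :=
  restrictFunctor W.ι ⋙ pushforward W.ι

/-- the unit `M ⟶ j_* j^* M` -/
noncomputable abbrev η (W : X.Opens) : 𝟭 X.Modules ⟶ A W := (restrictAdjunction W.ι).unit

/-- the open `W ∩ O`, in the form in which it occurs in sections of `j_* j^* M` -/
abbrev cap (W O : X.Opens) : X.Opens := W.ι ''ᵁ (W.ι ⁻¹ᵁ O)

theorem cap_eq (W O : X.Opens) : cap W O = W ⊓ O := by
  rw [cap, Scheme.Hom.image_preimage_eq_opensRange_inf, Scheme.Opens.opensRange_ι]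

theorem cap_le (W O : X.Opens) : cap W O ≤ O := W.ι.image_preimage_le O

theorem cap_mono {W W' : X.Opens} (h : W ≤ W') (O : X.Opens) : cap W O ≤ cap W' O := by
  rw [cap_eq, cap_eq]; exact inf_le_inf_right O h

theorem cap_cap {W W' : X.Opens} (h : W ≤ W') (O : X.Opens) : cap W' (cap W O) = cap W O := by
  rw [cap_eq W' (cap W O), cap_eq W O, ← inf_assoc, inf_eq_right.2 h]

theorem isIso_map_of_eq (M : X.Modules) {O O' : X.Opens} (h : O ≤ O') (e : O = O') :
    IsIso (M.presheaf.map (homOfLE h).op) := by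
  subst e
  have : (homOfLE h).op = 𝟙 (op O) := rfl
  rw [this, M.presheaf.map_id]
  infer_instance

theorem A_map_app (W : X.Opens) {M N : X.Modules} (φ : M ⟶ N) (O : X.Opens) :
    ((A W).map φ).app O = φ.app (cap W O) := rfl

theorem η_app_app (W : X.Opens) (M : X.Modules) (O : X.Opens) :
    ((η W).app M).app O = M.presheaf.map (homOfLE (cap_le W O)).op := rfl

theorem A_obj_map (W : X.Opens) (M : X.Modules) {O O' : X.Opens} (h : O ≤ O') :
    ((A W).obj M).presheaf.map (homOfLE h).op =
      M.presheaf.map (homOfLE (W.ι.image_mono (W.ι.preimage_mono h))).op := rfl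

theorem isIso_A_map_η {W W' : X.Opens} (h : W ≤ W') (M : X.Modules) :
    IsIso ((A W).map ((η W').app M)) := by
  rw [Hom.isIso_iff_isIso_app]
  intro O
  rw [A_map_app, η_app_app]
  exact isIso_map_of_eq M _ (cap_cap h O)

/-- restriction `A W' ⟶ A W` for `W ≤ W'` -/
noncomputable def ρ {W W' : X.Opens} (h : W ≤ W') : A W' ⟶ A W where
  app M :=
    haveI := isIso_A_map_η h M
    (η W).app ((A W').obj M) ≫ inv ((A W).map ((η W').app M))
  naturality M N φ := by
    have := isIso_A_map_η h M
    have := isIso_A_map_η h N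
    have h1 : (A W').map φ ≫ (η W).app ((A W').obj N) =
        (η W).app ((A W').obj M) ≫ (A W).map ((A W').map φ) := (η W).naturality ((A W').map φ)
    have h2 : (A W).map φ ≫ (A W).map ((η W').app N) =
        (A W).map ((η W').app M) ≫ (A W).map ((A W').map φ) := by
      rw [← Functor.map_comp, ← Functor.map_comp]
      exact congrArg (A W).map ((η W').naturality φ)
    rw [← Category.assoc, h1, Category.assoc, Category.assoc]
    congr 1
    rw [IsIso.comp_inv_eq, Category.assoc, h2, IsIso.inv_hom_id_assoc]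

theorem map_comp_eq (M : X.Modules) {a b c : X.Opens} (h1 : b ≤ a) (h2 : c ≤ b) (h3 : c ≤ a) :
    M.presheaf.map (homOfLE h1).op ≫ M.presheaf.map (homOfLE h2).op = M.presheaf.map (homOfLE h3).op := by
  rw [← Functor.map_comp]
  rfl

theorem ρ_app_comp {W W' : X.Opens} (h : W ≤ W') (M : X.Modules) :
    (ρ h).app M ≫ (A W).map ((η W').app M) = (η W).app ((A W').obj M) := by
  haveI := isIso_A_map_η h M
  change ((η W).app ((A W').obj M) ≫ inv ((A W).map ((η W').app M))) ≫ _ = _
  rw [Category.assoc, IsIso.inv_hom_id, Category.comp_id]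

theorem eq_of_comp_eq {P Q R : Ab.{u}} (x m : P ⟶ Q) (r : Q ⟶ R) [IsIso r] (t : P ⟶ R)
    (h1 : x ≫ r = t) (h2 : m ≫ r = t) : x = m := (cancel_mono r).1 (h1.trans h2.symm)

end Groth.Agent.Lib.Seat81.AW
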