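/-
Seat 81 helper library: sections of the restriction transformations `ρ : A W' ⟶ A W`.
-/
import Groth.Agent.Lib.Seat81AW

namespace Groth.Agent.Lib.Seat81.AW
open CategoryTheory CategoryTheory.Limits AlgebraicGeometry TopologicalSpace Opposite
open AlgebraicGeometry.Scheme.Modules
universe u
set_option autoImplicit false
variable {X : Scheme.{u}}

set_option maxHeartbeats 2000000 in
theorem ρ_app_app {W W' : X.Opens} (h : W ≤ W') (M : X.Modules) (O : X.Opens) :
    ((ρ h).app M).app O = M.presheaf.map (homOfLE (cap_mono h O)).op := by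
  have hiso := isIso_map_of_eq M (cap_le W' (cap W O)) (cap_cap h O)
  have e0 : ((ρ h).app M ≫ (A W).map ((η W').app M)).app O = ((η W).app ((A W').obj M)).app O :=
    congrArg (fun φ => Hom.app φ O) (ρ_app_comp h M)
  have e : ((ρ h).app M).app O ≫ M.presheaf.map (homOfLE (cap_le W' (cap W O))).op =
      M.presheaf.map (homOfLE (W'.ι.image_mono (W'.ι.preimage_mono (cap_le W O)))).op := e0
  have e2 : M.presheaf.map (homOfLE (cap_mono h O)).op ≫
      M.presheaf.map (homOfLE (cap_le W' (cap W O))).op =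
      M.presheaf.map (homOfLE (W'.ι.image_mono (W'.ι.preimage_mono (cap_le W O)))).op :=
    map_comp_eq M _ _ _
  exact @eq_of_comp_eq _ _ _ (((ρ h).app M).app O) _
    (M.presheaf.map (homOfLE (cap_le W' (cap W O))).op) hiso _ e e2

set_option maxHeartbeats 2000000 in
theorem ρ_comp {W W' W'' : X.Opens} (h : W ≤ W') (h' : W' ≤ W'') :
    ρ h' ≫ ρ h = ρ (h.trans h') := by
  ext M : 2
  apply hom_ext
  intro O
  have e1 : ((ρ h').app M ≫ (ρ h).app M).app O =
      ((ρ h').app M).app O ≫ ((ρ h).app M).app O := rfl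
  have e2 := ρ_app_app h M O
  have e3 := ρ_app_app h' M O
  have e4 := ρ_app_app (h.trans h') M O
  refine e1.trans ?_
  refine Eq.trans ?_ e4.symm
  refine Eq.trans ?_ (map_comp_eq M (cap_mono h' O) (cap_mono h O) (cap_mono (h.trans h') O))
  exact congrArg₂ (· ≫ ·) e3 e2

end Groth.Agent.Lib.Seat81.AW
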