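/-
Seat 81 helper library: exact sequences of O-modules are locally exact on sections; monomorphisms are injective on
sections.
-/
import Mathlib
import Groth.Agent.Lib.Helper23SectCmpLib

namespace Groth.Agent.Lib.Seat81.LocExact
open CategoryTheory CategoryTheory.Limits AlgebraicGeometry TopologicalSpace Opposite
open AlgebraicGeometry.Scheme.Modules
universe u
set_option autoImplicit false

theorem ab_lift {A B K : Ab.{u}} (g : A ⟶ B) (ι : K ⟶ A) (w : ι ≫ g = 0)
    (hl : IsLimit (KernelFork.ofι ι w)) (a : A) (ha : g a = 0) : ∃ c : K, ι c = a := by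
  have hS : (ShortComplex.mk ι g w).Exact := ShortComplex.exact_of_f_is_kernel _ hl
  exact (ShortComplex.ab_exact_iff _).1 hS a ha

variable {Y : Scheme.{u}}

/-- the sections functor over `V` -/
noncomputable abbrev secF (V : Y.Opens) : Y.Modules ⥤ Ab.{u} :=
  Scheme.Modules.toPresheaf Y ⋙ (evaluation (Opens Y)ᵒᵖ Ab.{u}).obj (op V)

instance (V : Y.Opens) : (secF V).PreservesZeroMorphisms := ⟨fun _ _ => rfl⟩

instance (V : Y.Opens) : PreservesFiniteLimits (secF V) := by
  have : PreservesFiniteLimits (Scheme.Modules.toPresheaf Y) :=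
    PreservesLimitsOfSize.preservesFiniteLimits _
  have : PreservesFiniteLimits ((evaluation (Opens Y)ᵒᵖ Ab.{u}).obj (op V)) :=
    PreservesLimitsOfSize.preservesFiniteLimits _
  exact comp_preservesFiniteLimits _ _

theorem exists_local_lift_of_exact (T : ShortComplex Y.Modules) (hT : T.Exact) (V : Y.Opens)
    (t : T.X₂.presheaf.obj (op V)) (ht : T.g.app V t = 0) (y : Y) (hy : y ∈ V) :
    ∃ (W : Y.Opens) (hWV : W ≤ V), y ∈ W ∧ ∃ s : T.X₁.presheaf.obj (op W),
      T.f.app W s = T.X₂.presheaf.map (homOfLE hWV).op t := by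
  have hl := KernelFork.mapIsLimit _ T.cyclesIsKernel (secF V)
  have w : (secF V).map T.iCycles ≫ (secF V).map T.g = 0 := by
    rw [← Functor.map_comp, T.iCycles_g, Functor.map_zero]
  obtain ⟨c, hc⟩ := ab_lift ((secF V).map T.g) ((secF V).map T.iCycles) w hl t ht
  have : Epi T.toCycles := T.exact_iff_epi_toCycles.1 hT
  obtain ⟨W, hWV, hyW, s, hs⟩ :=
    Groth.Agent.Lib.Helper23.SectCmpLib.exists_local_lift T.toCycles V c y hy
  refine ⟨W, hWV, hyW, s, ?_⟩
  have h1 : T.f.app W s = T.iCycles.app W (T.toCycles.app W s) := by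
    rw [← ConcreteCategory.comp_apply, ← Hom.comp_app, T.toCycles_i]
  rw [h1, hs]
  have nat := ConcreteCategory.congr_hom (T.iCycles.mapPresheaf.naturality (homOfLE hWV).op) c
  have nat' : T.iCycles.app W (T.cycles.presheaf.map (homOfLE hWV).op c) =
      T.X₂.presheaf.map (homOfLE hWV).op (T.iCycles.app V c) := nat
  refine nat'.trans ?_
  exact congrArg _ hc

theorem app_injective_of_mono {A B : Y.Modules} (φ : A ⟶ B) [Mono φ] (V : Y.Opens) :
    Function.Injective (φ.app V) := by
  have : Mono ((secF V).map φ) := inferInstance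
  exact (AddCommGrpCat.mono_iff_injective ((secF V).map φ)).1 this

end Groth.Agent.Lib.Seat81.LocExact
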