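/-
Seat 81 helper library: a sequence of O-modules which is short exact on sections over every open is short exact.
-/
import Mathlib
import Groth.Agent.Lib.Seat81LocExact
import Groth.Agent.Lib.Helper16ClosedEmb

namespace Groth.Agent.Lib.Seat81.SecExact
open CategoryTheory CategoryTheory.Limits AlgebraicGeometry TopologicalSpace Opposite
open AlgebraicGeometry.Scheme.Modules
open Groth.Agent.Lib.Seat81.LocExact
universe u
set_option autoImplicit false

variable {Y : Scheme.{u}}

theorem mono_of_app_injective {A B : Y.Modules} (φ : A ⟶ B)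
    (h : ∀ V : Y.Opens, Function.Injective (φ.app V)) : Mono φ := by
  have h1 : Mono ((Scheme.Modules.toPresheaf Y).map φ) := by
    have : ∀ U : (Opens Y)ᵒᵖ, Mono (((Scheme.Modules.toPresheaf Y).map φ).app U) := by
      intro U
      exact (AddCommGrpCat.mono_iff_injective _).2 (h U.unop)
    exact NatTrans.mono_of_mono_app _
  exact (Scheme.Modules.toPresheaf Y).mono_of_mono_map h1

theorem epi_of_app_surjective {A B : Y.Modules} (φ : A ⟶ B)
    (h : ∀ V : Y.Opens, Function.Surjective (φ.app V)) : Epi φ := by
  have h1 : Epi ((SheafOfModules.toSheaf Y.ringCatSheaf).map φ) := by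
    rw [Groth.Agent.Lib.Helper16.ClosedEmb.locSurj_iff]
    intro V t x hx
    obtain ⟨s, hs⟩ := h V t
    refine ⟨V, le_rfl, ⟨s, ?_⟩, hx⟩
    refine Eq.trans hs ?_
    have : (homOfLE (le_refl V)).op = 𝟙 (op V) := rfl
    rw [this]
    exact (ConcreteCategory.congr_hom
      (((SheafOfModules.toSheaf Y.ringCatSheaf).obj B).obj.map_id (op V)) t).symm
  exact (SheafOfModules.toSheaf Y.ringCatSheaf).epi_of_epi_map h1

theorem shortExact_of_app (S : ShortComplex Y.Modules)
    (h1 : ∀ V : Y.Opens, Function.Injective (S.f.app V))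
    (h2 : ∀ (V : Y.Opens) (y : Γ(S.X₂, V)), S.g.app V y = 0 → ∃ x, S.f.app V x = y)
    (h3 : ∀ V : Y.Opens, Function.Surjective (S.g.app V)) : S.ShortExact := by
  have hm : Mono S.f := mono_of_app_injective S.f h1
  have he : Epi S.g := epi_of_app_surjective S.g h3
  have hex : S.Exact := by
    rw [S.exact_iff_epi_kernel_lift]
    apply epi_of_app_surjective
    intro V k
    have hk : S.g.app V ((kernel.ι S.g).app V k) = 0 := by
      have : (kernel.ι S.g ≫ S.g).app V k = 0 := by
        rw [kernel.condition]; rfl
      exact this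
    obtain ⟨x, hx⟩ := h2 V _ hk
    refine ⟨x, ?_⟩
    apply app_injective_of_mono (kernel.ι S.g) V
    have : (kernel.lift S.g S.f S.zero ≫ kernel.ι S.g).app V x = S.f.app V x := by
      rw [kernel.lift_ι]
    exact this.trans hx
  exact { exact := hex, mono_f := hm, epi_g := he }

end Groth.Agent.Lib.Seat81.SecExact
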