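/-
Seat 81 helper library: the relative Mayer-Vietoris sequence
`0 → f_* A(U ⊔ V) I → f_* A(U) I ⊞ f_* A(V) I → f_* A(U ⊓ V) I → 0` for an injective `O_X`-module `I`.
Part 1: generalities on sections of biproducts and Mayer-Vietoris for flasque abelian sheaves.
-/
import Groth.Agent.Lib.Seat81AW2
import Groth.Agent.Lib.Seat81Five
import Groth.Agent.Lib.Seat81SecExact
import Groth.Agent.Lib.Helper16SectSupp

namespace Groth.Agent.Lib.Seat81.MV
open CategoryTheory CategoryTheory.Limits AlgebraicGeometry TopologicalSpace Opposite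
open AlgebraicGeometry.Scheme.Modules
open Groth.Agent.Lib.Seat81.AW Groth.Agent.Lib.Seat81.Five
universe u
set_option autoImplicit false

section biprod

variable {Y : Scheme.{u}} {P Q R : Y.Modules} (O : Y.Opens)

theorem lift_fst_app (a : R ⟶ P) (b : R ⟶ Q) (x : Γ(R, O)) :
    (biprod.fst : P ⊞ Q ⟶ P).app O ((biprod.lift a b).app O x) = a.app O x := by
  have : (biprod.lift a b ≫ biprod.fst).app O x = a.app O x := by rw [biprod.lift_fst]
  exact this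

theorem lift_snd_app (a : R ⟶ P) (b : R ⟶ Q) (x : Γ(R, O)) :
    (biprod.snd : P ⊞ Q ⟶ Q).app O ((biprod.lift a b).app O x) = b.app O x := by
  have : (biprod.lift a b ≫ biprod.snd).app O x = b.app O x := by rw [biprod.lift_snd]
  exact this

theorem desc_app (c : P ⟶ R) (d : Q ⟶ R) (y : Γ(P ⊞ Q, O)) :
    (biprod.desc c d).app O y =
      c.app O ((biprod.fst : P ⊞ Q ⟶ P).app O y) + d.app O ((biprod.snd : P ⊞ Q ⟶ Q).app O y) := by
  have h : biprod.desc c d = biprod.fst ≫ c + biprod.snd ≫ d := biprod.desc_eq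
  rw [h]
  rfl

theorem bi_ext (y y' : Γ(P ⊞ Q, O))
    (h1 : (biprod.fst : P ⊞ Q ⟶ P).app O y = (biprod.fst : P ⊞ Q ⟶ P).app O y')
    (h2 : (biprod.snd : P ⊞ Q ⟶ Q).app O y = (biprod.snd : P ⊞ Q ⟶ Q).app O y') : y = y' := by
  have key : ∀ z : Γ(P ⊞ Q, O), z = (biprod.inl : P ⟶ P ⊞ Q).app O ((biprod.fst : P ⊞ Q ⟶ P).app O z) +
      (biprod.inr : Q ⟶ P ⊞ Q).app O ((biprod.snd : P ⊞ Q ⟶ Q).app O z) := by
    intro z
    have h : (𝟙 (P ⊞ Q) : P ⊞ Q ⟶ P ⊞ Q) = biprod.fst ≫ biprod.inl + biprod.snd ≫ biprod.inr :=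
      biprod.total.symm
    have h' : (𝟙 (P ⊞ Q) : P ⊞ Q ⟶ P ⊞ Q).app O z =
        (biprod.fst ≫ biprod.inl + biprod.snd ≫ biprod.inr : P ⊞ Q ⟶ P ⊞ Q).app O z := by rw [← h]
    exact h'
  rw [key y, key y', h1, h2]

theorem bi_mk (p : Γ(P, O)) (q : Γ(Q, O)) :
    ∃ y : Γ(P ⊞ Q, O), (biprod.fst : P ⊞ Q ⟶ P).app O y = p ∧
      (biprod.snd : P ⊞ Q ⟶ Q).app O y = q := by
  refine ⟨(biprod.inl : P ⟶ P ⊞ Q).app O p + (biprod.inr : Q ⟶ P ⊞ Q).app O q, ?_, ?_⟩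
  · rw [map_add]
    have h1 : (biprod.fst : P ⊞ Q ⟶ P).app O ((biprod.inl : P ⟶ P ⊞ Q).app O p) = p := by
      have : ((biprod.inl : P ⟶ P ⊞ Q) ≫ (biprod.fst : P ⊞ Q ⟶ P)).app O p = p := by rw [biprod.inl_fst]; rfl
      exact this
    have h2 : (biprod.fst : P ⊞ Q ⟶ P).app O ((biprod.inr : Q ⟶ P ⊞ Q).app O q) = 0 := by
      have : ((biprod.inr : Q ⟶ P ⊞ Q) ≫ (biprod.fst : P ⊞ Q ⟶ P)).app O q = 0 := by rw [biprod.inr_fst]; rfl
      exact this
    rw [h1, h2, add_zero]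
  · rw [map_add]
    have h1 : (biprod.snd : P ⊞ Q ⟶ Q).app O ((biprod.inl : P ⟶ P ⊞ Q).app O p) = 0 := by
      have : ((biprod.inl : P ⟶ P ⊞ Q) ≫ (biprod.snd : P ⊞ Q ⟶ Q)).app O p = 0 := by rw [biprod.inl_snd]; rfl
      exact this
    have h2 : (biprod.snd : P ⊞ Q ⟶ Q).app O ((biprod.inr : Q ⟶ P ⊞ Q).app O q) = q := by
      have : ((biprod.inr : Q ⟶ P ⊞ Q) ≫ (biprod.snd : P ⊞ Q ⟶ Q)).app O q = q := by rw [biprod.inr_snd]; rfl
      exact this
    rw [h1, h2, zero_add]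

end biprod

section sheaf

variable {Z : TopCat.{u}} (F : CohTop.Ab Z) {A B C D : Opens Z}
  (hA : A ≤ C) (hB : B ≤ C) (hC : C ≤ A ⊔ B) (hDA : D ≤ A) (hDB : D ≤ B) (hD : A ⊓ B ≤ D)

include hC in
theorem mv_inj (x x' : F.obj.obj (op C))
    (h1 : F.obj.map (homOfLE hA).op x = F.obj.map (homOfLE hA).op x')
    (h2 : F.obj.map (homOfLE hB).op x = F.obj.map (homOfLE hB).op x') : x = x' :=
  TopCat.Sheaf.eq_of_locally_eq₂ F (homOfLE hA) (homOfLE hB) hC x x' h1 h2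

include hC hD in
theorem mv_glue (a : F.obj.obj (op A)) (b : F.obj.obj (op B))
    (hab : F.obj.map (homOfLE hDA).op a = F.obj.map (homOfLE hDB).op b) :
    ∃ x : F.obj.obj (op C), F.obj.map (homOfLE hA).op x = a ∧ F.obj.map (homOfLE hB).op x = b := by
  apply Groth.Agent.Lib.Helper16.SectSupp.glue2 F A B C hA hB hC a b
  have h := congrArg (F.obj.map (homOfLE hD).op) hab
  have e1 := Groth.Agent.Lib.Helper16.ClosedEmb.map_map_apply F (homOfLE hDA) (homOfLE hD)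
    (homOfLE (inf_le_left : A ⊓ B ≤ A)) a
  have e2 := Groth.Agent.Lib.Helper16.ClosedEmb.map_map_apply F (homOfLE hDB) (homOfLE hD)
    (homOfLE (inf_le_right : A ⊓ B ≤ B)) b
  exact e1.symm.trans (h.trans e2)

theorem mv_surj [TopCat.Sheaf.IsFlasque F] (d : F.obj.obj (op D)) :
    ∃ a : F.obj.obj (op A), F.obj.map (homOfLE hDA).op a = d := by
  have h : Epi (F.obj.map (homOfLE hDA).op) := TopCat.Presheaf.IsFlasque.epi _
  exact (AddCommGrpCat.epi_iff_surjective _).1 h d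

end sheaf

end Groth.Agent.Lib.Seat81.MV
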