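/-
Seat 81 helper library: the comparison morphism inside `CohPull.resLE`; its transpose under `j^* ⊣ j_*` is the
restriction map of `F` (mates computation through `restrictFunctorIsoPullback`, `pullbackComp`, `pullbackCongr`,
`pullbackId`).
-/
import Mathlib
import Groth.Prelude.Def_CohPull

namespace Groth.Agent.Lib.Seat81.ResLE
open CategoryTheory AlgebraicGeometry TopologicalSpace Opposite
open AlgebraicGeometry.Scheme.Modules
universe u
set_option autoImplicit false
variable {X Y Z : Scheme.{u}}

/-- G1 -/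
theorem unit_restrictIsoPullback (f : X ⟶ Y) [IsOpenImmersion f] (M : Y.Modules) :
    (restrictAdjunction f).unit.app M ≫ (pushforward f).map ((restrictFunctorIsoPullback f).hom.app M) =
      (pullbackPushforwardAdjunction f).unit.app M :=
  Adjunction.unit_leftAdjointUniq_hom_app _ _ _

/-- G2 -/
theorem unit_pullbackComp (f : X ⟶ Y) (g : Y ⟶ Z) (M : Z.Modules) :
    (pullbackPushforwardAdjunction g).unit.app M ≫
      (pushforward g).map ((pullbackPushforwardAdjunction f).unit.app ((pullback g).obj M)) ≫
      (pushforwardComp f g).hom.app _ =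
    (pullbackPushforwardAdjunction (f ≫ g)).unit.app M ≫
      (pushforward (f ≫ g)).map ((pullbackComp f g).inv.app M) := by
  have h := unit_conjugateEquiv ((pullbackPushforwardAdjunction g).comp (pullbackPushforwardAdjunction f))
    (pullbackPushforwardAdjunction (f ≫ g)) (pullbackComp f g).inv M
  rw [conjugateEquiv_pullbackComp_inv] at h
  rw [← h]
  simp [Adjunction.comp_unit_app]

/-- G3 -/
theorem unit_pullbackCongr {f g : X ⟶ Y} (hf : f = g) (M : Y.Modules) :
    (pullbackPushforwardAdjunction f).unit.app M ≫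
      (pushforward f).map ((pullbackCongr hf).hom.app M) ≫ (pushforwardCongr hf).hom.app _ =
    (pullbackPushforwardAdjunction g).unit.app M := by
  subst hf
  have h1 : (pullbackCongr (rfl : f = f)).hom.app M = 𝟙 _ := rfl
  rw [h1, CategoryTheory.Functor.map_id]
  have h2 : (pushforwardCongr (rfl : f = f)).hom.app ((pullback f).obj M) = 𝟙 _ := by
    ext U
    rw [pushforwardCongr_hom_app_app]
    simp
  rw [h2]
  simp

/-- G4 -/
theorem pullbackComp_id_inv (f : X ⟶ Y) (M : Y.Modules) :
    (pullbackComp f (𝟙 Y)).inv.app M ≫ (pullback f).map ((pullbackId Y).hom.app M) =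
      (pullbackCongr (Category.comp_id f)).hom.app M := by
  have h := congrArg (fun t => t.app M) (pseudofunctor_left_unitality f)
  simp only [NatTrans.comp_app, Functor.whiskerRight_app, Functor.leftUnitor_hom_app] at h
  refine Eq.trans ?_ (h.trans ?_)
  · exact congrArg (fun t => _ ≫ t) (Category.comp_id _).symm
  · rfl

theorem map3 (P : (Opens X)ᵒᵖ ⥤ Ab.{u}) {a b c d : (Opens X)ᵒᵖ} (f : a ⟶ b) (g : b ⟶ c) (h : c ⟶ d)
    (k : a ⟶ d) : (P.map f ≫ P.map g ≫ 𝟙 _) ≫ P.map h = P.map k := by
  rw [Category.comp_id, ← P.map_comp, ← P.map_comp]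
  congr 1

section T2
variable {A A' : Scheme.{u}} (ιU : A ⟶ X) (ιU' : A' ⟶ X) [IsOpenImmersion ιU] [IsOpenImmersion ιU']
  (j : A' ⟶ A) (e' : j ≫ ιU = ιU') (F : X.Modules)

/-- the comparison `j^*(F|_U) ⟶ F|_{U'}` in simplified form -/
noncomputable def sigma : (pullback j).obj (F.restrict ιU) ⟶ F.restrict ιU' :=
  (pullback j).map ((restrictFunctorIsoPullback ιU).hom.app F) ≫ (pullbackComp j ιU).hom.app F ≫
    (pullbackCongr e').hom.app F ≫ (restrictFunctorIsoPullback ιU').inv.app F

theorem T2 :
    (restrictAdjunction ιU).unit.app F ≫ (pushforward ιU).map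
      ((pullbackPushforwardAdjunction j).unit.app (F.restrict ιU) ≫ (pushforward j).map (sigma ιU ιU' j e' F)) =
    (restrictAdjunction ιU').unit.app F ≫ (pushforwardCongr e').inv.app _ ≫
      (pushforwardComp j ιU).inv.app _ := by
  -- step a: unit naturality
  have ha : (pullbackPushforwardAdjunction j).unit.app (F.restrict ιU) ≫
      (pushforward j).map ((pullback j).map ((restrictFunctorIsoPullback ιU).hom.app F)) =
      (restrictFunctorIsoPullback ιU).hom.app F ≫
        (pullbackPushforwardAdjunction j).unit.app ((pullback ιU).obj F) :=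
    ((pullbackPushforwardAdjunction j).unit.naturality ((restrictFunctorIsoPullback ιU).hom.app F)).symm
  have hG1 := unit_restrictIsoPullback ιU F
  have hG1' := unit_restrictIsoPullback ιU' F
  have hG2 := unit_pullbackComp j ιU F
  have hG3 := unit_pullbackCongr e' F
  -- G2 rearranged
  have hG2' : (pullbackPushforwardAdjunction ιU).unit.app F ≫
      (pushforward ιU).map ((pullbackPushforwardAdjunction j).unit.app ((pullback ιU).obj F)) =
      (pullbackPushforwardAdjunction (j ≫ ιU)).unit.app F ≫
        (pushforward (j ≫ ιU)).map ((pullbackComp j ιU).inv.app F) ≫ (pushforwardComp j ιU).inv.app _ := by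
    rw [← Category.assoc, ← hG2]
    simp
  have hG3' : (pullbackPushforwardAdjunction (j ≫ ιU)).unit.app F ≫
      (pushforward (j ≫ ιU)).map ((pullbackCongr e').hom.app F) =
      (pullbackPushforwardAdjunction ιU').unit.app F ≫ (pushforwardCongr e').inv.app _ := by
    rw [← hG3]
    simp
  have hG1'' : (pullbackPushforwardAdjunction ιU').unit.app F ≫
      (pushforward ιU').map ((restrictFunctorIsoPullback ιU').inv.app F) =
      (restrictAdjunction ιU').unit.app F := by
    rw [← hG1']
    simp [← Functor.map_comp]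
  have haP : (pushforward ιU).map ((pullbackPushforwardAdjunction j).unit.app (F.restrict ιU)) ≫
      (pushforward ιU).map ((pushforward j).map ((pullback j).map ((restrictFunctorIsoPullback ιU).hom.app F))) =
      (pushforward ιU).map ((restrictFunctorIsoPullback ιU).hom.app F) ≫
        (pushforward ιU).map ((pullbackPushforwardAdjunction j).unit.app ((pullback ιU).obj F)) := by
    rw [← Functor.map_comp, ha, Functor.map_comp]
  have nat1 : ∀ {M N : A'.Modules} (φ : M ⟶ N),
      (pushforwardComp j ιU).inv.app M ≫ (pushforward ιU).map ((pushforward j).map φ) =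
        (pushforward (j ≫ ιU)).map φ ≫ (pushforwardComp j ιU).inv.app N :=
    fun φ => ((pushforwardComp j ιU).inv.naturality φ).symm
  have nat2 : ∀ {M N : A'.Modules} (φ : M ⟶ N),
      (pushforwardCongr e').inv.app M ≫ (pushforward (j ≫ ιU)).map φ =
        (pushforward ιU').map φ ≫ (pushforwardCongr e').inv.app N :=
    fun φ => ((pushforwardCongr e').inv.naturality φ).symm
  unfold sigma
  simp only [Functor.map_comp]
  rw [reassoc_of% haP, reassoc_of% hG1, reassoc_of% hG2']
  rw [reassoc_of% nat1, reassoc_of% nat1, nat1]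
  have hc : (pushforward (j ≫ ιU)).map ((pullbackComp j ιU).inv.app F) ≫
      (pushforward (j ≫ ιU)).map ((pullbackComp j ιU).hom.app F) = 𝟙 _ := by
    rw [← Functor.map_comp, Iso.inv_hom_id_app, CategoryTheory.Functor.map_id]
  rw [reassoc_of% hc, reassoc_of% hG3', reassoc_of% nat2, reassoc_of% hG1'']

theorem T1 {B : A.Modules} (t : F.restrict ιU ⟶ B) :
    t = (restrictFunctor ιU).map ((restrictAdjunction ιU).unit.app F ≫ (pushforward ιU).map t) ≫
      (restrictAdjunction ιU).counit.app B := by
  have h := ((restrictAdjunction ιU).homEquiv F B).symm_apply_apply t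
  rw [Adjunction.homEquiv_unit, Adjunction.homEquiv_counit] at h
  exact h.symm

theorem T3 (W : A.Opens) (hle : ιU' ''ᵁ (j ⁻¹ᵁ W) ≤ ιU ''ᵁ W) :
    ((pullbackPushforwardAdjunction j).unit.app (F.restrict ιU) ≫
      (pushforward j).map (sigma ιU ιU' j e' F)).app W = F.presheaf.map (homOfLE hle).op := by
  rw [T1 ιU F ((pullbackPushforwardAdjunction j).unit.app (F.restrict ιU) ≫
      (pushforward j).map (sigma ιU ιU' j e' F)), T2 ιU ιU' j e' F]
  have hr : ∀ {M N : X.Modules} (φ : M ⟶ N), ((restrictFunctor ιU).map φ).app W = φ.app (ιU ''ᵁ W) :=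
    fun φ => rfl
  rw [Hom.comp_app, hr, Hom.comp_app, Hom.comp_app, restrictAdjunction_unit_app_app,
    pushforwardCongr_inv_app_app, pushforwardComp_inv_app_app, restrictAdjunction_counit_app_app]
  exact map3 F.presheaf _ _ _ _
end T2

theorem pullbackCongr_trans {f g k : X ⟶ Y} (h1 : f = g) (h2 : g = k) (M : Y.Modules) :
    (pullbackCongr h1).hom.app M ≫ (pullbackCongr h2).hom.app M = (pullbackCongr (h1.trans h2)).hom.app M := by
  subst h2; subst h1
  exact Category.comp_id _

section Res
variable (F : X.Modules) {U U' : X.Opens} (h : U' ≤ U)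

omit F in
theorem le' {U U' : X.Opens} (h : U' ≤ U) : U' ≤ (𝟙 X) ⁻¹ᵁ U := by rwa [Scheme.Hom.id_preimage]

/-- the restricted identity `U' ⟶ U` -/
noncomputable abbrev jj {U U' : X.Opens} (h : U' ≤ U) : (U' : Scheme.{u}) ⟶ U :=
  Scheme.Hom.resLE (𝟙 X) U U' (le' h)

omit F in
theorem jj_ι {U U' : X.Opens} (h : U' ≤ U) : jj h ≫ U.ι = U'.ι :=
  (Scheme.Hom.resLE_comp_ι (𝟙 X) (le' h)).trans (Category.comp_id _)

/-- the comparison morphism `j^*(F|_U) ⟶ F|_{U'}` occurring in `CohPull.resLE` -/
noncomputable def rho : (pullback (jj h)).obj (F.restrict U.ι) ⟶ F.restrict U'.ι :=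
  (CohPull.pullOnIso (𝟙 X) U U' (le' h) F).hom ≫ (restrictFunctor U'.ι).map ((pullbackId X).hom.app F)

theorem rho_eq_sigma : rho F h = sigma U.ι U'.ι (jj h) (jj_ι h) F := by
  unfold rho sigma CohPull.pullOnIso
  simp only [Iso.trans_hom, Functor.mapIso_hom, Iso.app_hom, Iso.symm_hom, Iso.app_inv, Category.assoc]
  have n1 : (restrictFunctorIsoPullback U'.ι).inv.app ((pullback (𝟙 X)).obj F) ≫
      (restrictFunctor U'.ι).map ((pullbackId X).hom.app F) =
      (pullback U'.ι).map ((pullbackId X).hom.app F) ≫ (restrictFunctorIsoPullback U'.ι).inv.app F :=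
    ((restrictFunctorIsoPullback U'.ι).inv.naturality ((pullbackId X).hom.app F)).symm
  rw [n1, reassoc_of% (pullbackComp_id_inv U'.ι F), reassoc_of% (pullbackCongr_trans _ _ F)]

end Res

end Groth.Agent.Lib.Seat81.ResLE
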