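/-
Seat 81 helper library: `CohPull.resLE` as `mapH rho ∘ pullMod`; `equiv₀` of `sectH0`.
-/
import Mathlib
import Groth.Agent.Lib.Seat81ResLE

namespace Groth.Agent.Lib.Seat81.ResLE
open CategoryTheory AlgebraicGeometry TopologicalSpace Opposite
open AlgebraicGeometry.Scheme.Modules
universe u
set_option autoImplicit false
variable {X : Scheme.{u}} (F : X.Modules) {U U' : X.Opens} (h : U' ≤ U)

theorem mapH_comp {M N K : X.Modules} (a : M ⟶ N) (b : N ⟶ K) (p : ℕ) (x : Coh.HH X M p) :
    CohPull.mapH (a ≫ b) p x = CohPull.mapH b p (CohPull.mapH a p x) := by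
  have e : (SheafOfModules.toSheaf X.ringCatSheaf).map (a ≫ b) =
      (SheafOfModules.toSheaf X.ringCatSheaf).map a ≫ (SheafOfModules.toSheaf X.ringCatSheaf).map b :=
    Functor.map_comp _ _ _
  refine (congrArg (fun t => Sheaf.H.map t p x) e).trans ?_
  exact Sheaf.H.map_comp_apply _ _ _

theorem resLE_eq (p : ℕ) (x : Coh.HHon X F U p) :
    CohPull.resLE F h p x =
      CohPull.mapH (rho F h) p (CohPull.pullMod (jj h) (F.restrict U.ι) p x) := by
  unfold rho
  rw [mapH_comp]
  rfl

theorem equiv₀_sectH0 (s : F.presheaf.obj (op U)) :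
    Sheaf.H.equiv₀ (Coh.toAb (F.restrict U.ι)) (Limits.isTerminalTop : Limits.IsTerminal (⊤ : U.toScheme.Opens))
      (CohPull.sectH0 F U s) = F.presheaf.map (eqToHom U.ι_image_top).op s := by
  unfold CohPull.sectH0
  refine (AddEquiv.apply_symm_apply (Sheaf.H.equiv₀ (Coh.toAb (F.restrict U.ι)) Limits.isTerminalTop) _).trans ?_
  rfl

end Groth.Agent.Lib.Seat81.ResLE
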