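/-
Seat 81 helper library: injective modules are acyclic on opens (`subsingleton_HHon_of_injective`); naturality of
`CohPull.sectH0` in the module (`mapH_sectH0`).
-/
import Mathlib
import Groth.Prelude.Def_CohCmp
import Groth.Agent.Lib.Helper21ModCoh
import Groth.Agent.Lib.Helper21TorsFree
import Groth.Agent.Lib.Helper21RelExtSS
import Groth.Agent.Lib.Helper16Restr
import Groth.Agent.Lib.Helper16Flasque
import Groth.Agent.Lib.Seat81ResLE2

namespace Groth.Agent.Lib.Seat81.ResLE
open CategoryTheory AlgebraicGeometry TopologicalSpace Opposite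
open AlgebraicGeometry.Scheme.Modules
universe u
set_option autoImplicit false
variable {X : Scheme.{u}}

open Groth.Agent.Lib.Helper21 Groth.Agent.Lib.Helper21.FreeAb Groth.Agent.Lib.Helper21.TorsFree in
theorem isTotallyAcyclic_toAb_of_injective (I : X.Modules) [Injective I] :
    CohCx.IsTotallyAcyclic (Coh.toAb I) := by
  intro K p
  have key : ∀ x : CohCx.HK K (Coh.toAb I) (p + 1), x = 0 := fun x =>
    @ext_toSheaf_eq_zero _ _ _ X.ringCatSheaf I ‹_› p _ (TF_freeAb K) x
  exact ⟨fun x y => (key x).trans (key y).symm⟩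

theorem isFlasque_toAb_of_injective (I : X.Modules) [Injective I] :
    TopCat.Sheaf.IsFlasque (Coh.toAb I) :=
  Groth.Agent.Lib.Helper21.RelExtSS.isFlasque_of_isTotallyAcyclic _ (isTotallyAcyclic_toAb_of_injective I)

/-- L1: `H^{p+1}(U, I|_U) = 0` for an injective module `I`. -/
theorem subsingleton_HHon_of_injective (I : X.Modules) [Injective I] (U : X.Opens) (p : ℕ) :
    Subsingleton (Coh.HHon X I U (p + 1)) := by
  have := isFlasque_toAb_of_injective I
  have : TopCat.Sheaf.IsFlasque ((CohTop.restrFunctor (X := X.toTopCat) U).obj (Coh.toAb I)) :=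
    Groth.Agent.Lib.Helper16.Restr.restr_flasque (X := X.toTopCat) (U := U) (Coh.toAb I)
  exact Groth.Agent.Lib.Helper16.Flasque.H_subsingleton
    ((CohTop.restrFunctor (X := X.toTopCat) U).obj (Coh.toAb I)) p

/-- L7: naturality of `sectH0` in the module. -/
theorem mapH_sectH0 {F G : X.Modules} (ψ : F ⟶ G) (U : X.Opens) (s : F.presheaf.obj (op U)) :
    CohPull.mapH ((restrictFunctor U.ι).map ψ) 0 (CohPull.sectH0 F U s) =
      CohPull.sectH0 G U (ψ.app U s) := by
  apply (Sheaf.H.equiv₀ (Coh.toAb (G.restrict U.ι))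
    (Limits.isTerminalTop : Limits.IsTerminal (⊤ : U.toScheme.Opens))).injective
  rw [equiv₀_sectH0]
  have h1 := Sheaf.H.equiv₀_naturality (T := (⊤ : U.toScheme.Opens)) Limits.isTerminalTop
    ((SheafOfModules.toSheaf _).map ((restrictFunctor U.ι).map ψ)) (CohPull.sectH0 F U s)
  refine h1.symm.trans ?_
  rw [equiv₀_sectH0]
  have nat := ConcreteCategory.congr_hom (ψ.mapPresheaf.naturality (eqToHom U.ι_image_top).op) s
  rw [ConcreteCategory.comp_apply, ConcreteCategory.comp_apply] at nat
  exact nat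

end Groth.Agent.Lib.Seat81.ResLE
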