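/-
Seat 81 helper library: the relative Mayer-Vietoris transformations `mvα`, `mvβ` between the functors
`T W = f_* j_* j^*` and their sections.
-/
import Groth.Agent.Lib.Seat81MV
import Groth.Agent.Lib.Seat81ResAux

namespace Groth.Agent.Lib.Seat81.MV
open CategoryTheory CategoryTheory.Limits AlgebraicGeometry TopologicalSpace Opposite
open AlgebraicGeometry.Scheme.Modules
open Groth.Agent.Lib.Seat81.AW Groth.Agent.Lib.Seat81.Five
universe u
set_option autoImplicit false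

variable {X S : Scheme.{u}} (f : X ⟶ S)

attribute [local instance] Groth.Agent.Lib.Helper23.QCohLocal.restrictFunctor_isRightAdjoint

/-- `M ↦ f_* j_* j^* M` -/
noncomputable abbrev T (W : X.Opens) : X.Modules ⥤ S.Modules := A W ⋙ pushforward f

/-- restriction `T W' ⟶ T W` -/
noncomputable def Tρ {W W' : X.Opens} (h : W ≤ W') : T f W' ⟶ T f W :=
  Functor.whiskerRight (ρ h) (pushforward f)

theorem Tρ_comp {W W' W'' : X.Opens} (h : W ≤ W') (h' : W' ≤ W'') :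
    Tρ f h' ≫ Tρ f h = Tρ f (h.trans h') := by
  unfold Tρ
  rw [← Functor.whiskerRight_comp, ρ_comp]

/-- the open over which sections of `T W M` over `O` live -/
abbrev capf (W : X.Opens) (O : S.Opens) : X.Opens := cap W (f ⁻¹ᵁ O)

set_option maxHeartbeats 2000000 in
theorem Tρ_apply {W W' : X.Opens} (h : W ≤ W') (M : X.Modules) (O : S.Opens)
    (x : (Coh.toAb M).obj.obj (op (capf f W' O))) :
    ((Tρ f h).app M).app O x = (Coh.toAb M).obj.map (homOfLE (cap_mono h (f ⁻¹ᵁ O))).op x :=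
  congrArg (fun φ => φ x) (ρ_app_app h M (f ⁻¹ᵁ O))

variable (U V : X.Opens)

/-- `s ↦ (s|_U, s|_V)` -/
noncomputable def mvα : T f (U ⊔ V) ⟶ biF (T f U) (T f V) :=
  liftF _ _ (Tρ f (le_sup_left : U ≤ U ⊔ V)) (Tρ f (le_sup_right : V ≤ U ⊔ V))

/-- `(a, b) ↦ a|_{U ⊓ V} - b|_{U ⊓ V}` -/
noncomputable def mvβ : biF (T f U) (T f V) ⟶ T f (U ⊓ V) :=
  descF _ _ (Tρ f (inf_le_left : U ⊓ V ≤ U)) (-(Tρ f (inf_le_right : U ⊓ V ≤ V)))

theorem mv_zero : mvα f U V ≫ mvβ f U V = 0 := by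
  unfold mvα mvβ
  rw [liftF_descF, Preadditive.comp_neg, Tρ_comp, Tρ_comp]
  exact add_neg_cancel _

theorem cap_sup (O' : X.Opens) : cap (U ⊔ V) O' ≤ cap U O' ⊔ cap V O' := by
  rw [cap_eq, cap_eq, cap_eq, inf_sup_right]

theorem cap_inf (O' : X.Opens) : cap U O' ⊓ cap V O' ≤ cap (U ⊓ V) O' := by
  rw [cap_eq, cap_eq, cap_eq]
  exact (inf_inf_distrib_right U V O').symm.le

variable (I : X.Modules) (O : S.Opens)

set_option maxHeartbeats 2000000 in
theorem mvα_fst (x : (Coh.toAb I).obj.obj (op (capf f (U ⊔ V) O))) :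
    (biprod.fst : (T f U).obj I ⊞ (T f V).obj I ⟶ _).app O (((mvα f U V).app I).app O x) =
      (Coh.toAb I).obj.map (homOfLE (cap_mono (le_sup_left : U ≤ U ⊔ V) (f ⁻¹ᵁ O))).op x :=
  (lift_fst_app (P := (T f U).obj I) (Q := (T f V).obj I) (R := (T f (U ⊔ V)).obj I) O
    ((Tρ f le_sup_left).app I) ((Tρ f le_sup_right).app I) x).trans (Tρ_apply f _ I O x)

set_option maxHeartbeats 2000000 in
theorem mvα_snd (x : (Coh.toAb I).obj.obj (op (capf f (U ⊔ V) O))) :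
    (biprod.snd : (T f U).obj I ⊞ (T f V).obj I ⟶ _).app O (((mvα f U V).app I).app O x) =
      (Coh.toAb I).obj.map (homOfLE (cap_mono (le_sup_right : V ≤ U ⊔ V) (f ⁻¹ᵁ O))).op x :=
  (lift_snd_app (P := (T f U).obj I) (Q := (T f V).obj I) (R := (T f (U ⊔ V)).obj I) O
    ((Tρ f le_sup_left).app I) ((Tρ f le_sup_right).app I) x).trans (Tρ_apply f _ I O x)

theorem neg_app_apply {Y : Scheme.{u}} {P Q : Y.Modules} (φ : P ⟶ Q) (O : Y.Opens) (z : Γ(P, O)) :
    (-φ).app O z = -(φ.app O z) := rfl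

theorem Tρ_neg_app {W W' : X.Opens} (h : W ≤ W') (M : X.Modules) :
    (-(Tρ f h)).app M = -((Tρ f h).app M) := rfl

set_option maxHeartbeats 2000000 in
theorem mvβ_apply (y : Γ((T f U).obj I ⊞ (T f V).obj I, O)) :
    ((mvβ f U V).app I).app O y =
      (Coh.toAb I).obj.map (homOfLE (cap_mono (inf_le_left : U ⊓ V ≤ U) (f ⁻¹ᵁ O))).op
        ((biprod.fst : (T f U).obj I ⊞ (T f V).obj I ⟶ _).app O y) -
      (Coh.toAb I).obj.map (homOfLE (cap_mono (inf_le_right : U ⊓ V ≤ V) (f ⁻¹ᵁ O))).op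
        ((biprod.snd : (T f U).obj I ⊞ (T f V).obj I ⟶ _).app O y) := by
  have e1 := Tρ_apply f (inf_le_left : U ⊓ V ≤ U) I O
    ((biprod.fst : (T f U).obj I ⊞ (T f V).obj I ⟶ _).app O y)
  have e2 := Tρ_apply f (inf_le_right : U ⊓ V ≤ V) I O
    ((biprod.snd : (T f U).obj I ⊞ (T f V).obj I ⟶ _).app O y)
  have e2' : ((-(Tρ f (inf_le_right : U ⊓ V ≤ V))).app I).app O
      ((biprod.snd : (T f U).obj I ⊞ (T f V).obj I ⟶ _).app O y) =
      -((Coh.toAb I).obj.map (homOfLE (cap_mono (inf_le_right : U ⊓ V ≤ V) (f ⁻¹ᵁ O))).op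
        ((biprod.snd : (T f U).obj I ⊞ (T f V).obj I ⟶ _).app O y)) :=
    (neg_app_apply ((Tρ f (inf_le_right : U ⊓ V ≤ V)).app I) O _).trans (congrArg Neg.neg e2)
  have e0 := desc_app (P := (T f U).obj I) (Q := (T f V).obj I) (R := (T f (U ⊓ V)).obj I) O
    ((Tρ f (inf_le_left : U ⊓ V ≤ U)).app I) ((-(Tρ f (inf_le_right : U ⊓ V ≤ V))).app I) y
  exact (e0.trans (congrArg₂ (fun a b => a + b) e1 e2')).trans (sub_eq_add_neg _ _).symm

end Groth.Agent.Lib.Seat81.MV
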