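/-
Seat 81 helper library: the relative Mayer-Vietoris sequence is short exact on injective modules; the
Mayer-Vietoris step for properties of the derived functors of `T W = f_* j_* j^*`.
-/
import Groth.Agent.Lib.Seat81MV2

namespace Groth.Agent.Lib.Seat81.MV
open CategoryTheory CategoryTheory.Limits AlgebraicGeometry TopologicalSpace Opposite
open AlgebraicGeometry.Scheme.Modules
open Groth.Agent.Lib.Seat81.AW Groth.Agent.Lib.Seat81.Five
universe u
set_option autoImplicit false

variable {X S : Scheme.{u}} (f : X ⟶ S) (U V : X.Opens) (I : X.Modules) (O : S.Opens)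

attribute [local instance] Groth.Agent.Lib.Helper23.QCohLocal.restrictFunctor_isRightAdjoint

set_option maxHeartbeats 2000000 in
theorem mvα_injective : Function.Injective (((mvα f U V).app I).app O) := by
  intro x x' hxx
  have h1 := congrArg ((biprod.fst : (T f U).obj I ⊞ (T f V).obj I ⟶ _).app O) hxx
  have h2 := congrArg ((biprod.snd : (T f U).obj I ⊞ (T f V).obj I ⟶ _).app O) hxx
  have h1' := (mvα_fst f U V I O x).symm.trans (h1.trans (mvα_fst f U V I O x'))
  have h2' := (mvα_snd f U V I O x).symm.trans (h2.trans (mvα_snd f U V I O x'))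
  exact mv_inj (Coh.toAb I) (cap_mono le_sup_left (f ⁻¹ᵁ O)) (cap_mono le_sup_right (f ⁻¹ᵁ O))
    (cap_sup U V (f ⁻¹ᵁ O)) x x' h1' h2'

set_option maxHeartbeats 2000000 in
theorem mv_exact_mid (y : Γ((T f U).obj I ⊞ (T f V).obj I, O))
    (hy : ((mvβ f U V).app I).app O y = 0) :
    ∃ x, ((mvα f U V).app I).app O x = y := by
  have e := (mvβ_apply f U V I O y).symm.trans hy
  have hab := sub_eq_zero.1 e
  obtain ⟨x, hx1, hx2⟩ := mv_glue (Coh.toAb I) (cap_mono le_sup_left (f ⁻¹ᵁ O))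
    (cap_mono le_sup_right (f ⁻¹ᵁ O)) (cap_sup U V (f ⁻¹ᵁ O)) (cap_mono inf_le_left (f ⁻¹ᵁ O))
    (cap_mono inf_le_right (f ⁻¹ᵁ O)) (cap_inf U V (f ⁻¹ᵁ O))
    ((biprod.fst : (T f U).obj I ⊞ (T f V).obj I ⟶ _).app O y)
    ((biprod.snd : (T f U).obj I ⊞ (T f V).obj I ⟶ _).app O y) hab
  refine ⟨x, ?_⟩
  apply bi_ext (P := (T f U).obj I) (Q := (T f V).obj I) O
  · exact (mvα_fst f U V I O x).trans hx1
  · exact (mvα_snd f U V I O x).trans hx2

set_option maxHeartbeats 2000000 in
theorem mvβ_surjective [Injective I] : Function.Surjective (((mvβ f U V).app I).app O) := by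
  intro d
  have := Groth.Agent.Lib.Seat81.ResLE.isFlasque_toAb_of_injective I
  obtain ⟨a, ha⟩ := mv_surj (Coh.toAb I) (cap_mono (inf_le_left : U ⊓ V ≤ U) (f ⁻¹ᵁ O)) d
  obtain ⟨y, hy1, hy2⟩ := bi_mk (P := (T f U).obj I) (Q := (T f V).obj I) O a
    (0 : (Coh.toAb I).obj.obj (op (capf f V O)))
  refine ⟨y, ?_⟩
  refine (mvβ_apply f U V I O y).trans ?_
  have e1 : (Coh.toAb I).obj.map (homOfLE (cap_mono (inf_le_left : U ⊓ V ≤ U) (f ⁻¹ᵁ O))).op
      ((biprod.fst : (T f U).obj I ⊞ (T f V).obj I ⟶ _).app O y) = d :=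
    (congrArg ((Coh.toAb I).obj.map
      (homOfLE (cap_mono (inf_le_left : U ⊓ V ≤ U) (f ⁻¹ᵁ O))).op) hy1).trans ha
  have e2 : (Coh.toAb I).obj.map (homOfLE (cap_mono (inf_le_right : U ⊓ V ≤ V) (f ⁻¹ᵁ O))).op
      ((biprod.snd : (T f U).obj I ⊞ (T f V).obj I ⟶ _).app O y) = 0 :=
    (congrArg ((Coh.toAb I).obj.map
      (homOfLE (cap_mono (inf_le_right : U ⊓ V ≤ V) (f ⁻¹ᵁ O))).op) hy2).trans (map_zero _)
  exact (congrArg₂ (fun a b => a - b) e1 e2).trans (sub_zero d)

open Groth.Agent.Lib.Seat81.SecExact in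
set_option maxHeartbeats 2000000 in
/-- the relative Mayer-Vietoris sequence is short exact on injective modules -/
theorem mv_shortExact [Injective I] :
    (ShortComplex.mk ((mvα f U V).app I) ((mvβ f U V).app I) (by
      rw [← NatTrans.comp_app, mv_zero]; rfl)).ShortExact :=
  shortExact_of_app _ (fun O => mvα_injective f U V I O)
    (fun O y hy => mv_exact_mid f U V I O y hy) (fun O => mvβ_surjective f U V I O)

/-- Mayer-Vietoris step for a property closed under kernels, cokernels and extensions -/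
theorem mv_step [HasInjectiveResolutions X.Modules] {P : S.Modules → Prop} (hP : Closed P)
    (M : X.Modules) (hU : ∀ p, P (((T f U).rightDerived p).obj M))
    (hV : ∀ p, P (((T f V).rightDerived p).obj M))
    (hUV : ∀ p, P (((T f (U ⊓ V)).rightDerived p).obj M))
    (h0 : P (((T f (U ⊔ V)).rightDerived 0).obj M)) :
    ∀ p, P (((T f (U ⊔ V)).rightDerived p).obj M) :=
  hP.left_all (mvα f U V) (mvβ f U V) (mv_zero f U V) (fun Q _ => mv_shortExact f U V Q) M
    (hP.biF _ _ M hU hV) hUV h0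

end Groth.Agent.Lib.Seat81.MV
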