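/-
Seat 81 helper library: higher direct images of quasi-coherent modules along a quasi-compact quasi-separated
morphism to an affine scheme are quasi-coherent (relative Mayer-Vietoris induction).
-/
import Groth.Agent.Lib.Seat81MV3
import Groth.Agent.Lib.Helper21DerAcyc
import Groth.Agent.Lib.Helper21DerPost
import Groth.Agent.Lib.Helper21RelExtSS
import Groth.Agent.Lib.Helper23ModAbBridge
import Groth.Agent.Lib.Helper23QCohLocal
import Groth.Agent.Lib.Helper23QCohExt
import Groth.Agent.Lib.Helper23TensorQCoh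
import Groth.Agent.S0484
import Groth.Agent.S0028
import Groth.Agent.S0015

namespace Groth.Agent.Lib.Seat81.DerRes
open CategoryTheory CategoryTheory.Limits AlgebraicGeometry TopologicalSpace Opposite
open AlgebraicGeometry.Scheme.Modules
open Groth.Agent.Lib.Seat81.AW Groth.Agent.Lib.Seat81.Five Groth.Agent.Lib.Seat81.MV
open Groth.Agent.Lib.Helper21 Groth.Agent.Lib.Helper23.QCohLocal
universe u
set_option autoImplicit false

attribute [local instance] Groth.Agent.Lib.Helper23.QCohLocal.restrictFunctor_isRightAdjoint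

theorem enoughInjectives (Y : Scheme.{u}) : EnoughInjectives Y.Modules := by
  have := Groth.Agent.S0484.result (Opens.grothendieckTopology Y) Y.ringCatSheaf
  exact inferInstanceAs (EnoughInjectives (SheafOfModules.{u} Y.ringCatSheaf))

theorem isFlasque_restrict {X : Scheme.{u}} (W : X.Opens) (I : X.Modules)
    (hI : TopCat.Sheaf.IsFlasque (Coh.toAb I)) :
    TopCat.Sheaf.IsFlasque (Coh.toAb (I.restrict W.ι)) := by
  constructor
  intro U V i
  exact TopCat.Presheaf.IsFlasque.epi (F := (Coh.toAb I).obj) ((W.ι.opensFunctor).map i.unop).op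

/-- `Rⁿ(j^* ⋙ g_*)(M) ≅ Rⁿg_*(M|_W)` -/
theorem nonempty_rightDerived_restrict_comp {X S : Scheme.{u}} (W : X.Opens) (g : (W : Scheme.{u}) ⟶ S)
    [HasInjectiveResolutions X.Modules] [HasInjectiveResolutions (W : Scheme.{u}).Modules]
    (M : X.Modules) (n : ℕ) :
    Nonempty (((restrictFunctor W.ι ⋙ pushforward g).rightDerived n).obj M ≅
      (Coh.Rpush g n).obj (M.restrict W.ι)) := by
  have := enoughInjectives X
  have := enoughInjectives (W : Scheme.{u})
  have hE : ∀ I : X.Modules, Injective I → ∀ q : ℕ, 0 < q →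
      IsZero (((pushforward g).rightDerived q).obj ((restrictFunctor W.ι).obj I)) := by
    intro I hI q hq
    obtain ⟨q, rfl⟩ : ∃ k, q = k + 1 := ⟨q - 1, by omega⟩
    exact RelExtSS.isZero_Rpush_of_isFlasque g (I.restrict W.ι)
      (isFlasque_restrict W I (Groth.Agent.Lib.Seat81.ResLE.isFlasque_toAb_of_injective I)) q
  exact DerAcyc.nonempty_rightDerived_comp_iso (restrictFunctor W.ι) (pushforward g) hE M n

/-- quasi-coherent modules are closed under kernels, cokernels and extensions -/
theorem qcohClosed (S : Scheme.{u}) : Closed (fun N : S.Modules => N.IsQuasicoherent) where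
  ker := fun φ hX hY => by
    have := hX; have := hY
    exact isQuasicoherent_kernel φ
  coker := fun φ hX hY => by
    have := hX; have := hY
    exact isQuasicoherent_cokernel φ
  ext := fun T hT h1 h3 => isQuasicoherent_of_shortExact T hT h1 h3

theorem isQuasicoherent_of_isZero {S : Scheme.{u}} {Z N : S.Modules} (hZ : IsZero Z)
    [N.IsQuasicoherent] : Z.IsQuasicoherent := by
  have := isQuasicoherent_kernel (𝟙 N)
  exact Groth.Agent.Lib.Helper23.TensorQCoh.isQuasicoherent_of_iso
    ((isZero_kernel_of_mono (𝟙 N)).iso hZ)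

theorem quasiCompact_ι_of_isCompact {X : Scheme.{u}} [QuasiSeparatedSpace X] (W : X.Opens)
    (hW : IsCompact (W : Set X)) : QuasiCompact W.ι := by
  constructor
  intro U hU hUc
  have h1 : IsCompact ((W : Set X) ∩ U) := QuasiSeparatedSpace.inter_isCompact _ _ W.2 hW hU hUc
  have h2 : W.ι ⁻¹' U = W.ι ⁻¹' ((W : Set X) ∩ U) := by
    ext x
    simp only [Set.mem_preimage, Set.mem_inter_iff, iff_and_self]
    intro _
    exact x.2
  rw [h2, W.ι.isOpenEmbedding.isInducing.isCompact_preimage_iff]
  · exact h1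
  · rw [Scheme.Opens.range_ι]
    exact Set.inter_subset_left

variable {X S : Scheme.{u}} (f : X ⟶ S)

/-- `T W ≅ j^* ⋙ (f ∘ j)_*` -/
noncomputable def TIso (W : X.Opens) :
    T f W ≅ restrictFunctor W.ι ⋙ pushforward (W.ι ≫ f) :=
  Functor.associator _ _ _ ≪≫ Functor.isoWhiskerLeft (restrictFunctor W.ι) (pushforwardComp W.ι f)

/-- degree zero: `R⁰(T W) M ≅ f_* j_* j^* M` is quasi-coherent -/
theorem qcoh_T_zero [QuasiCompact f] [QuasiSeparated f] [QuasiSeparatedSpace X]
    [HasInjectiveResolutions X.Modules] (W : X.Opens) (hW : IsCompact (W : Set X))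
    (M : X.Modules) [M.IsQuasicoherent] :
    (((T f W).rightDerived 0).obj M).IsQuasicoherent := by
  have := quasiCompact_ι_of_isCompact W hW
  have h1 : ((pushforward W.ι).obj (M.restrict W.ι)).IsQuasicoherent :=
    isQuasicoherent_pushforward W.ι (M.restrict W.ι)
  have h2 : ((T f W).obj M).IsQuasicoherent :=
    isQuasicoherent_pushforward f ((pushforward W.ι).obj (M.restrict W.ι))
  exact Groth.Agent.Lib.Helper23.TensorQCoh.isQuasicoherent_of_iso
    ((T f W).rightDerivedZeroIsoSelf.app M).symm

/-- higher direct images along an affine morphism are quasi-coherent -/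
theorem qcoh_Rpush_of_isAffineHom {Y : Scheme.{u}} (g : Y ⟶ S) [IsAffineHom g]
    [HasInjectiveResolutions Y.Modules] (N : Y.Modules) [N.IsQuasicoherent] (n : ℕ) :
    ((Coh.Rpush g n).obj N).IsQuasicoherent := by
  have h0 : ((pushforward g).obj N).IsQuasicoherent := isQuasicoherent_pushforward g N
  cases n with
  | zero =>
    exact Groth.Agent.Lib.Helper23.TensorQCoh.isQuasicoherent_of_iso
      ((pushforward g).rightDerivedZeroIsoSelf.app N).symm
  | succ n =>
    refine isQuasicoherent_of_isZero (N := (pushforward g).obj N) ?_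
    apply RelExtSS.isZero_of_isZero_toAb
    obtain ⟨e⟩ := Groth.Agent.Lib.Helper23.ModAbBridge.nonempty_toAb_Rpush_iso g N (n + 1)
    exact IsZero.of_iso (Groth.Agent.S0028.result g N (n + 1) (Nat.succ_pos n)) e

/-- base case: `W` affine and `S` affine -/
theorem qcoh_T_affine [IsAffine S] [HasInjectiveResolutions X.Modules] (W : X.Opens)
    (hW : IsAffineOpen W) (M : X.Modules) [M.IsQuasicoherent] (p : ℕ) :
    (((T f W).rightDerived p).obj M).IsQuasicoherent := by
  have : IsAffine (W : Scheme.{u}) := hW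
  have := enoughInjectives (W : Scheme.{u})
  have : HasInjectiveResolutions (W : Scheme.{u}).Modules := inferInstance
  obtain ⟨e⟩ := nonempty_rightDerived_restrict_comp W (W.ι ≫ f) M p
  have h : ((Coh.Rpush (W.ι ≫ f) p).obj (M.restrict W.ι)).IsQuasicoherent :=
    qcoh_Rpush_of_isAffineHom (W.ι ≫ f) (M.restrict W.ι) p
  exact Groth.Agent.Lib.Helper23.TensorQCoh.isQuasicoherent_of_iso
    (((DerPost.natIsoRightDerived (TIso f W) p).app M) ≪≫ e).symm

theorem isIso_η_top (M : X.Modules) : IsIso ((η (⊤ : X.Opens)).app M) := by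
  rw [Hom.isIso_iff_isIso_app]
  intro O
  rw [η_app_app]
  exact isIso_map_of_eq M _ (by rw [cap_eq, top_inf_eq])

/-- `f_* ≅ T ⊤` -/
noncomputable def TTopIso : pushforward f ≅ T f ⊤ :=
  haveI : ∀ M : X.Modules, IsIso ((η (⊤ : X.Opens)).app M) := isIso_η_top
  haveI : IsIso (η (⊤ : X.Opens)) := NatIso.isIso_of_isIso_app _
  (Functor.leftUnitor _).symm ≪≫ Functor.isoWhiskerRight (asIso (η (⊤ : X.Opens))) (pushforward f)

/-- **Higher direct images of quasi-coherent modules over an affine base are quasi-coherent.** -/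
theorem qcoh_Rpush_affine_base [QuasiCompact f] [QuasiSeparated f] [IsAffine S]
    [HasInjectiveResolutions X.Modules] (M : X.Modules) [M.IsQuasicoherent] (p : ℕ) :
    ((Coh.Rpush f p).obj M).IsQuasicoherent := by
  have : CompactSpace X := QuasiCompact.compactSpace_of_compactSpace f
  have : QuasiSeparatedSpace X := quasiSeparatedSpace_of_quasiSeparated f
  have key := Groth.Agent.S0015.result X
    (fun W => ∀ p, (((T f W).rightDerived p).obj M).IsQuasicoherent)
    (fun W hW p => qcoh_T_affine f W hW M p)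
    (fun U V hU hV hPU hPV hPUV => mv_step f U V (qcohClosed S) M hPU hPV hPUV
      (qcoh_T_zero f (U ⊔ V) (hU.union hV.isCompact) M))
    ⊤ isCompact_univ p
  exact Groth.Agent.Lib.Helper23.TensorQCoh.isQuasicoherent_of_iso
    ((DerPost.natIsoRightDerived (TTopIso f) p).app M).symm

end Groth.Agent.Lib.Seat81.DerRes
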