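/-
Seat 81 helper library: base change of direct images to an open of the base, and quasi-coherence of higher direct
images along quasi-compact quasi-separated morphisms (S0030).
-/
import Groth.Agent.Lib.Seat81DerRes

namespace Groth.Agent.Lib.Seat81.BC
open CategoryTheory CategoryTheory.Limits AlgebraicGeometry TopologicalSpace Opposite
open AlgebraicGeometry.Scheme.Modules
open Groth.Agent.Lib.Seat81.AW Groth.Agent.Lib.Seat81.Five Groth.Agent.Lib.Seat81.MV
open Groth.Agent.Lib.Seat81.DerRes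
open Groth.Agent.Lib.Helper21 Groth.Agent.Lib.Helper23.QCohLocal
universe u
set_option autoImplicit false

attribute [local instance] Groth.Agent.Lib.Helper23.QCohLocal.restrictFunctor_isRightAdjoint

variable {X S : Scheme.{u}} (f : X ⟶ S) (V : S.Opens)

theorem le_preimage (O' : (V : Scheme.{u}).Opens) : f ⁻¹ᵁ (V.ι ''ᵁ O') ≤ f ⁻¹ᵁ V :=
  f.preimage_mono (V.ι_image_le O')

set_option maxHeartbeats 2000000 in
theorem isIso_whisker_η (M : X.Modules) :
    IsIso ((restrictFunctor V.ι).map ((pushforward f).map ((η (f ⁻¹ᵁ V)).app M))) := by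
  rw [Hom.isIso_iff_isIso_app]
  intro O'
  have e : ((restrictFunctor V.ι).map ((pushforward f).map ((η (f ⁻¹ᵁ V)).app M))).app O' =
      M.presheaf.map (homOfLE (cap_le (f ⁻¹ᵁ V) (f ⁻¹ᵁ (V.ι ''ᵁ O')))).op := rfl
  rw [e]
  exact isIso_map_of_eq M _ (by rw [cap_eq, inf_eq_right.2 (le_preimage f V O')])

/-- `f_* ⋙ (-)|_V ≅ T (f⁻¹V) ⋙ (-)|_V` -/
noncomputable def whiskIso :
    pushforward f ⋙ restrictFunctor V.ι ≅ T f (f ⁻¹ᵁ V) ⋙ restrictFunctor V.ι :=
  haveI : ∀ M : X.Modules, IsIso ((Functor.whiskerRight (Functor.whiskerRight (η (f ⁻¹ᵁ V))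
      (pushforward f)) (restrictFunctor V.ι)).app M) := fun M => isIso_whisker_η f V M
  haveI : IsIso (Functor.whiskerRight (Functor.whiskerRight (η (f ⁻¹ᵁ V))
      (pushforward f)) (restrictFunctor V.ι)) := NatIso.isIso_of_isIso_app _
  asIso (Functor.whiskerRight (Functor.whiskerRight (η (f ⁻¹ᵁ V))
      (pushforward f)) (restrictFunctor V.ι))

/-- `(j'_* ⋙ f_*) ⋙ (-)|_V ≅ (f|_V)_*` -/
noncomputable def pushIso :
    (pushforward (f ⁻¹ᵁ V).ι ⋙ pushforward f) ⋙ restrictFunctor V.ι ≅ pushforward (f ∣_ V) :=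
  Functor.isoWhiskerRight (pushforwardComp (f ⁻¹ᵁ V).ι f ≪≫
      pushforwardCongr (morphismRestrict_ι f V).symm ≪≫ (pushforwardComp (f ∣_ V) V.ι).symm)
    (restrictFunctor V.ι) ≪≫
  Functor.associator _ _ _ ≪≫
  Functor.isoWhiskerLeft (pushforward (f ∣_ V)) (restrictFunctorAdjCounitIso V.ι) ≪≫
  Functor.rightUnitor _

/-- base change of direct images to an open of the base -/
noncomputable def bcIso :
    pushforward f ⋙ restrictFunctor V.ι ≅
      restrictFunctor (f ⁻¹ᵁ V).ι ⋙ pushforward (f ∣_ V) :=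
  whiskIso f V ≪≫
  Functor.isoWhiskerRight (Functor.associator (restrictFunctor (f ⁻¹ᵁ V).ι)
    (pushforward (f ⁻¹ᵁ V).ι) (pushforward f)) (restrictFunctor V.ι) ≪≫
  Functor.associator _ _ _ ≪≫
  Functor.isoWhiskerLeft (restrictFunctor (f ⁻¹ᵁ V).ι) (pushIso f V)

theorem qcoh_restrict (hV : IsAffineOpen V) [QuasiCompact f] [QuasiSeparated f]
    [HasInjectiveResolutions X.Modules] (M : X.Modules) [M.IsQuasicoherent] (p : ℕ) :
    (((Coh.Rpush f p).obj M).restrict V.ι).IsQuasicoherent := by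
  have : IsAffine (V : Scheme.{u}) := hV
  have := enoughInjectives ((f ⁻¹ᵁ V : X.Opens) : Scheme.{u})
  have : HasInjectiveResolutions ((f ⁻¹ᵁ V : X.Opens) : Scheme.{u}).Modules := inferInstance
  let e1 := (DerPost.postIso (pushforward f) (restrictFunctor V.ι) p).app M
  let e2 := (DerPost.natIsoRightDerived (bcIso f V) p).app M
  obtain ⟨e3⟩ := nonempty_rightDerived_restrict_comp (f ⁻¹ᵁ V) (f ∣_ V) M p
  have h := qcoh_Rpush_affine_base (f ∣_ V) (M.restrict (f ⁻¹ᵁ V).ι) p
  exact Groth.Agent.Lib.Helper23.TensorQCoh.isQuasicoherent_of_iso (e1.symm ≪≫ e2 ≪≫ e3).symm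

/-- **Higher direct images of quasi-coherent modules along a quasi-compact quasi-separated morphism are
quasi-coherent.** -/
theorem qcoh_Rpush [QuasiCompact f] [QuasiSeparated f]
    [HasInjectiveResolutions X.Modules] (M : X.Modules) [M.IsQuasicoherent] (p : ℕ) :
    ((Coh.Rpush f p).obj M).IsQuasicoherent := by
  refine isQuasicoherent_of_forall_affine _ (fun V hV => ?_)
  have h := qcoh_restrict f V hV M p
  have e : ((Coh.Rpush f p).obj M).restrict hV.fromSpec ≅
      (((Coh.Rpush f p).obj M).restrict V.ι).restrict hV.isoSpec.inv :=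
    (restrictFunctorComp hV.isoSpec.inv V.ι).app ((Coh.Rpush f p).obj M)
  exact Groth.Agent.Lib.Helper23.TensorQCoh.isQuasicoherent_of_iso e.symm

end Groth.Agent.Lib.Seat81.BC
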