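/-
Seat 81 helper library: acyclic objects for a left exact functor via the long exact sequence of right derived
functors; the four-term lemma; the degenerate case of the Grothendieck spectral sequence.
-/
import Mathlib
import Groth.Agent.S16463

open CategoryTheory Limits

namespace Groth.Agent.Lib.Seat81.GSS

universe v v' v'' u u' u''

section acyc

variable {ℬ : Type u'} [Category.{v'} ℬ] [Abelian ℬ] [EnoughInjectives ℬ]
  {𝒞 : Type u''} [Category.{v''} 𝒞] [Abelian 𝒞]
  (G : ℬ ⥤ 𝒞) [G.Additive]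

/-- `N` is `G`-acyclic -/
def Acyc (N : ℬ) : Prop := ∀ a : ℕ, IsZero ((G.rightDerived (a + 1)).obj N)

variable {G} in
theorem Acyc.of_iso {N N' : ℬ} (e : N ≅ N') (h : Acyc G N) : Acyc G N' :=
  fun a => IsZero.of_iso (h a) ((G.rightDerived (a + 1)).mapIso e.symm)

theorem acyc_of_injective (I : ℬ) [Injective I] : Acyc G I :=
  fun a => Functor.isZero_rightDerived_obj_injective_succ G a I

variable (Δ : RDer.DerivedLES G)

include Δ in
theorem acyc_X₃ (S : ShortComplex ℬ) (hS : S.ShortExact) (h1 : Acyc G S.X₁) (h2 : Acyc G S.X₂) :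
    Acyc G S.X₃ :=
  fun a => (Δ.exact₃ S hS (a + 1) (a + 2) rfl).isZero_of_both_isZero (h2 a) (h1 (a + 1))

include Δ in
theorem acyc_X₂ (S : ShortComplex ℬ) (hS : S.ShortExact) (h1 : Acyc G S.X₁) (h3 : Acyc G S.X₃) :
    Acyc G S.X₂ :=
  fun a => (Δ.exact₂ S hS (a + 1)).isZero_of_both_isZero (h1 a) (h3 a)

variable [PreservesFiniteLimits G]

include Δ in
/-- a left exact functor preserves short exact sequences with acyclic kernel -/
theorem shortExact_map_of_acyc (S : ShortComplex ℬ) (hS : S.ShortExact) (h1 : Acyc G S.X₁) :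
    (S.map G).ShortExact := by
  have := hS.mono_f
  have hex : (S.map G).Exact := hS.exact.map_of_mono_of_preservesKernel G inferInstance inferInstance
  have hmono : Mono (S.map G).f := by
    change Mono (G.map S.f)
    infer_instance
  have hepi0 : Epi ((G.rightDerived 0).map S.g) :=
    (Δ.exact₃ S hS 0 1 rfl).epi_f ((h1 0).eq_of_tgt _ _)
  have hepi : Epi (S.map G).g := by
    change Epi (G.map S.g)
    have nat := G.toRightDerivedZero.naturality S.g
    have : Epi (G.map S.g ≫ G.toRightDerivedZero.app S.X₃) := by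
      rw [nat]; infer_instance
    have e : G.map S.g = (G.map S.g ≫ G.toRightDerivedZero.app S.X₃) ≫
        inv (G.toRightDerivedZero.app S.X₃) := by
      rw [Category.assoc, IsIso.hom_inv_id, Category.comp_id]
    rw [e]; infer_instance
  exact { exact := hex, mono_f := hmono, epi_g := hepi }

include Δ in
/-- the four term lemma: for an exact sequence `0 → A → B → C → D → 0` with `A, B, D` acyclic, `C` is
acyclic and `G B → G C → G D → 0` is exact. -/
theorem four_term {A B C D : ℬ} (a : A ⟶ B) (b : B ⟶ C) (c : C ⟶ D) [Mono a] [Epi c]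
    (wab : a ≫ b = 0) (wbc : b ≫ c = 0)
    (hB : (ShortComplex.mk a b wab).Exact) (hC : (ShortComplex.mk b c wbc).Exact)
    (pA : Acyc G A) (pB : Acyc G B) (pD : Acyc G D) :
    Acyc G C ∧ (ShortComplex.mk (G.map b) (G.map c)
      (by rw [← G.map_comp, wbc, G.map_zero])).Exact ∧ Epi (G.map c) := by
  -- the two short exact sequences
  let S1 : ShortComplex ℬ := ShortComplex.mk a (cokernel.π a) (cokernel.condition a)
  have hS1 : S1.ShortExact :=
    { exact := ShortComplex.exact_cokernel a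
      mono_f := inferInstanceAs (Mono a)
      epi_g := inferInstanceAs (Epi (cokernel.π a)) }
  have w2 : cokernel.desc a b wab ≫ c = 0 := by
    rw [← cancel_epi (cokernel.π a), cokernel.π_desc_assoc, wbc, comp_zero]
  let S2 : ShortComplex ℬ := ShortComplex.mk (cokernel.desc a b wab) c w2
  let S0 : ShortComplex ℬ := ShortComplex.mk b c wbc
  let φ : S0 ⟶ S2 :=
    { τ₁ := cokernel.π a
      τ₂ := 𝟙 _
      τ₃ := 𝟙 _
      comm₁₂ := by simp [S0, S2]
      comm₂₃ := by simp [S0, S2] }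
  have : Epi φ.τ₁ := by dsimp [φ]; infer_instance
  have : IsIso φ.τ₂ := by dsimp [φ]; infer_instance
  have : Mono φ.τ₃ := by dsimp [φ]; infer_instance
  have hS2 : S2.ShortExact :=
    { exact := (ShortComplex.exact_iff_of_epi_of_isIso_of_mono φ).1 hC
      mono_f := (ShortComplex.exact_iff_mono_cokernel_desc _).1 hB
      epi_g := inferInstanceAs (Epi c) }
  have pK : Acyc G (cokernel a) := acyc_X₃ G Δ S1 hS1 pA pB
  have pC : Acyc G C := acyc_X₂ G Δ S2 hS2 pK pD
  have h1 := shortExact_map_of_acyc G Δ S1 hS1 pA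
  have h2 := shortExact_map_of_acyc G Δ S2 hS2 pK
  refine ⟨pC, ?_, h2.epi_g⟩
  let T0 : ShortComplex 𝒞 := ShortComplex.mk (G.map b) (G.map c)
    (by rw [← G.map_comp, wbc, G.map_zero])
  let ψ : T0 ⟶ S2.map G :=
    { τ₁ := G.map (cokernel.π a)
      τ₂ := 𝟙 _
      τ₃ := 𝟙 _
      comm₁₂ := by
        change G.map (cokernel.π a) ≫ G.map (cokernel.desc a b wab) = G.map b ≫ 𝟙 _
        rw [Category.comp_id, ← G.map_comp, cokernel.π_desc]
      comm₂₃ := by
        change 𝟙 _ ≫ G.map c = G.map c ≫ 𝟙 _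
        rw [Category.comp_id, Category.id_comp] }
  have : Epi ψ.τ₁ := h1.epi_g
  have : IsIso ψ.τ₂ := inferInstanceAs (IsIso (𝟙 (G.obj C)))
  have : Mono ψ.τ₃ := inferInstanceAs (Mono (𝟙 (G.obj D)))
  exact (ShortComplex.exact_iff_of_epi_of_isIso_of_mono ψ).2 h2.exact

end acyc

section delta

variable {𝒜 : Type u} [Category.{v} 𝒜] [Abelian 𝒜] [EnoughInjectives 𝒜]
  {ℬ : Type u'} [Category.{v'} ℬ] [Abelian ℬ]
  (F : 𝒜 ⥤ ℬ) [F.Additive] (Δ : RDer.DerivedLES F)

/-- the connecting morphism is an isomorphism when the middle term has vanishing derived functors -/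
theorem isIso_δ (S : ShortComplex 𝒜) (hS : S.ShortExact) (b : ℕ)
    (h0 : IsZero ((F.rightDerived b).obj S.X₂)) (h1 : IsZero ((F.rightDerived (b + 1)).obj S.X₂)) :
    IsIso (Δ.δ S hS b (b + 1) rfl) := by
  have hm : Mono (Δ.δ S hS b (b + 1) rfl) :=
    (Δ.exact₃ S hS b (b + 1) rfl).mono_g (h0.eq_of_src _ _)
  have he : Epi (Δ.δ S hS b (b + 1) rfl) :=
    (Δ.exact₁ S hS b (b + 1) rfl).epi_f (h1.eq_of_tgt _ _)
  exact isIso_of_mono_of_epi _

/-- the connecting morphism is an epimorphism when the next derived functor of the middle term vanishes -/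
theorem epi_δ (S : ShortComplex 𝒜) (hS : S.ShortExact) (b : ℕ)
    (h1 : IsZero ((F.rightDerived (b + 1)).obj S.X₂)) :
    Epi (Δ.δ S hS b (b + 1) rfl) :=
  (Δ.exact₁ S hS b (b + 1) rfl).epi_f (h1.eq_of_tgt _ _)

/-- the injective hull sequence `0 → M → I → Q → 0` -/
noncomputable abbrev hullSC (M : 𝒜) : ShortComplex 𝒜 :=
  ShortComplex.mk (Injective.ι M) (cokernel.π (Injective.ι M)) (cokernel.condition _)

theorem hullSC_shortExact (M : 𝒜) : (hullSC M).ShortExact :=
  { exact := ShortComplex.exact_cokernel _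
    mono_f := inferInstanceAs (Mono (Injective.ι M))
    epi_g := inferInstanceAs (Epi (cokernel.π (Injective.ι M))) }

instance (M : 𝒜) : Injective (hullSC M).X₂ := inferInstanceAs (Injective (Injective.under M))

/-- `R¹F(M)` is the cokernel of `R⁰F(I) → R⁰F(Q)` -/
theorem exact_and_epi_δ_zero (M : 𝒜) :
    (ShortComplex.mk ((F.rightDerived 0).map (hullSC M).g)
      (Δ.δ (hullSC M) (hullSC_shortExact M) 0 1 rfl)
      (Δ.comp_δ (hullSC M) (hullSC_shortExact M) 0 1 rfl)).Exact ∧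
    Epi (Δ.δ (hullSC M) (hullSC_shortExact M) 0 1 rfl) :=
  ⟨Δ.exact₃ (hullSC M) (hullSC_shortExact M) 0 1 rfl,
    epi_δ F Δ (hullSC M) (hullSC_shortExact M) 0
      (Functor.isZero_rightDerived_obj_injective_succ F 0 _)⟩

variable [PreservesFiniteLimits F]

/-- the map `T Q ⟶ R¹T M` of the injective hull sequence -/
noncomputable def γ (M : 𝒜) : F.obj (hullSC M).X₃ ⟶ (F.rightDerived 1).obj M :=
  F.toRightDerivedZero.app (hullSC M).X₃ ≫ Δ.δ (hullSC M) (hullSC_shortExact M) 0 1 rfl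

instance (M : 𝒜) : Epi (γ F Δ M) := by
  have := (exact_and_epi_δ_zero F Δ M).2
  unfold γ
  infer_instance

theorem map_g_γ (M : 𝒜) : F.map (hullSC M).g ≫ γ F Δ M = 0 := by
  unfold γ
  rw [← Category.assoc, F.toRightDerivedZero.naturality, Category.assoc,
    Δ.comp_δ (hullSC M) (hullSC_shortExact M) 0 1 rfl, comp_zero]

theorem exact_map_g_γ (M : 𝒜) :
    (ShortComplex.mk (F.map (hullSC M).g) (γ F Δ M) (map_g_γ F Δ M)).Exact := by
  let S0 : ShortComplex ℬ := ShortComplex.mk (F.map (hullSC M).g) (γ F Δ M) (map_g_γ F Δ M)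
  let S1 : ShortComplex ℬ := ShortComplex.mk ((F.rightDerived 0).map (hullSC M).g)
      (Δ.δ (hullSC M) (hullSC_shortExact M) 0 1 rfl)
      (Δ.comp_δ (hullSC M) (hullSC_shortExact M) 0 1 rfl)
  let φ : S0 ⟶ S1 :=
    { τ₁ := F.toRightDerivedZero.app _
      τ₂ := F.toRightDerivedZero.app _
      τ₃ := 𝟙 _
      comm₁₂ := (F.toRightDerivedZero.naturality (hullSC M).g).symm
      comm₂₃ := by
        change _ = γ F Δ M ≫ 𝟙 _
        rw [Category.comp_id]
        rfl }
  have : Epi φ.τ₁ := inferInstanceAs (Epi (F.toRightDerivedZero.app _))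
  have : IsIso φ.τ₂ := inferInstanceAs (IsIso (F.toRightDerivedZero.app _))
  have : Mono φ.τ₃ := inferInstanceAs (Mono (𝟙 ((F.rightDerived 1).obj M)))
  exact (ShortComplex.exact_iff_of_epi_of_isIso_of_mono φ).2 (exact_and_epi_δ_zero F Δ M).1

end delta

section gss

variable {𝒜 : Type u} [Category.{v} 𝒜] [Abelian 𝒜] [EnoughInjectives 𝒜]
  {ℬ : Type u'} [Category.{v'} ℬ] [Abelian ℬ] [EnoughInjectives ℬ]
  {𝒞 : Type u''} [Category.{v''} 𝒞] [Abelian 𝒞]
  (T : 𝒜 ⥤ ℬ) [T.Additive] [PreservesFiniteLimits T]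
  (G : ℬ ⥤ 𝒞) [G.Additive] [PreservesFiniteLimits G]

/-- all higher direct images of `M` are `G`-acyclic -/
def Good (M : 𝒜) : Prop := ∀ b : ℕ, Acyc G ((T.rightDerived b).obj M)

variable (ΔT : RDer.DerivedLES T) (ΔG : RDer.DerivedLES G)

variable (hTG : ∀ I : 𝒜, Injective I → Acyc G (T.obj I))

include ΔG hTG in
/-- the four term sequence `0 → T M → T I → T Q → R¹T M → 0` for a good `M` -/
theorem four_term_hull (M : 𝒜) (hM : Good T G M) :
    Acyc G (T.obj (hullSC M).X₃) ∧
      (ShortComplex.mk (G.map (T.map (hullSC M).g)) (G.map (γ T ΔT M))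
        (by rw [← G.map_comp, map_g_γ, G.map_zero])).Exact ∧ Epi (G.map (γ T ΔT M)) := by
  have hex : ((hullSC M).map T).Exact ∧ Mono (T.map (hullSC M).f) :=
    (Functor.preservesFiniteLimits_iff_forall_exact_map_and_mono T).1 inferInstance (hullSC M)
      (hullSC_shortExact M)
  have := hex.2
  exact four_term G ΔG (T.map (hullSC M).f) (T.map (hullSC M).g) (γ T ΔT M)
    (by rw [← T.map_comp, (hullSC M).zero, T.map_zero]) (map_g_γ T ΔT M) hex.1
    (exact_map_g_γ T ΔT M)
    ((hM 0).of_iso (asIso (T.toRightDerivedZero.app M)).symm)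
    (hTG _ inferInstance) (hM 1)

include ΔT ΔG hTG in
theorem good_hull (M : 𝒜) (hM : Good T G M) : Good T G (hullSC M).X₃ := by
  intro b
  cases b with
  | zero =>
    exact (four_term_hull T G ΔT ΔG hTG M hM).1.of_iso (asIso (T.toRightDerivedZero.app _))
  | succ b =>
    have := isIso_δ T ΔT (hullSC M) (hullSC_shortExact M) (b + 1)
      (Functor.isZero_rightDerived_obj_injective_succ T b _)
      (Functor.isZero_rightDerived_obj_injective_succ T (b + 1) _)
    exact (hM (b + 2)).of_iso (asIso (ΔT.δ (hullSC M) (hullSC_shortExact M) (b + 1) (b + 2) rfl)).symm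

theorem nonempty_iso_of_cokernels {X Y Z Z' : 𝒞} (u : X ⟶ Y) (p : Y ⟶ Z) (p' : Y ⟶ Z')
    (w : u ≫ p = 0) (w' : u ≫ p' = 0) (h : (ShortComplex.mk u p w).Exact) [Epi p]
    (h' : (ShortComplex.mk u p' w').Exact) [Epi p'] : Nonempty (Z ≅ Z') :=
  ⟨IsColimit.coconePointUniqueUpToIso h.gIsCokernel h'.gIsCokernel⟩

variable (ΔTG : RDer.DerivedLES (T ⋙ G))

include ΔT ΔG ΔTG hTG in
theorem gss_degenerate_succ (n : ℕ) : ∀ M : 𝒜, Good T G M →
    Nonempty (((T ⋙ G).rightDerived (n + 1)).obj M ≅ G.obj ((T.rightDerived (n + 1)).obj M)) := by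
  induction n with
  | zero =>
    intro M hM
    obtain ⟨-, hex, hepi⟩ := four_term_hull T G ΔT ΔG hTG M hM
    have h1 := exact_map_g_γ (T ⋙ G) ΔTG M
    exact nonempty_iso_of_cokernels (G.map (T.map (hullSC M).g)) (γ (T ⋙ G) ΔTG M)
      (G.map (γ T ΔT M)) _ _ h1 hex
  | succ n ih =>
    intro M hM
    obtain ⟨e⟩ := ih (hullSC M).X₃ (good_hull T G ΔT ΔG hTG M hM)
    have h1 := isIso_δ (T ⋙ G) ΔTG (hullSC M) (hullSC_shortExact M) (n + 1)
      (Functor.isZero_rightDerived_obj_injective_succ (T ⋙ G) n _)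
      (Functor.isZero_rightDerived_obj_injective_succ (T ⋙ G) (n + 1) _)
    have h2 := isIso_δ T ΔT (hullSC M) (hullSC_shortExact M) (n + 1)
      (Functor.isZero_rightDerived_obj_injective_succ T n _)
      (Functor.isZero_rightDerived_obj_injective_succ T (n + 1) _)
    exact ⟨(asIso (ΔTG.δ (hullSC M) (hullSC_shortExact M) (n + 1) (n + 2) rfl)).symm ≪≫ e ≪≫
      G.mapIso (asIso (ΔT.δ (hullSC M) (hullSC_shortExact M) (n + 1) (n + 2) rfl))⟩

include hTG in
/-- **Degenerate Grothendieck spectral sequence**: if all `RᵇT(M)` are `G`-acyclic (and `T` sends injectives to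
`G`-acyclics), then `Rⁿ(T ⋙ G)(M) ≅ G(RⁿT(M))`. -/
theorem gss_degenerate (M : 𝒜) (hM : Good T G M) (n : ℕ) :
    Nonempty (((T ⋙ G).rightDerived n).obj M ≅ G.obj ((T.rightDerived n).obj M)) := by
  obtain ⟨ΔT⟩ := Groth.Agent.S16463.result T
  obtain ⟨ΔG⟩ := Groth.Agent.S16463.result G
  obtain ⟨ΔTG⟩ := Groth.Agent.S16463.result (T ⋙ G)
  cases n with
  | zero =>
    exact ⟨(T ⋙ G).rightDerivedZeroIsoSelf.app M ≪≫
      G.mapIso (T.rightDerivedZeroIsoSelf.app M).symm⟩
  | succ n => exact gss_degenerate_succ T G ΔT ΔG hTG ΔTG n M hM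

end gss

end Groth.Agent.Lib.Seat81.GSS
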