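/-
Seat 81 helper library: complements to `Seat81GSS`: acyclicity of zero objects, goodness of injectives, and the
"bottom row" of the dimension shifting argument for the injective hull sequence of a good object.
-/
import Mathlib
import Groth.Agent.Lib.Seat81GSS

open CategoryTheory Limits

namespace Groth.Agent.Lib.Seat81.GSS

universe v v' v'' u u' u''

section acyc

variable {ℬ : Type u'} [Category.{v'} ℬ] [Abelian ℬ] [EnoughInjectives ℬ]
  {𝒞 : Type u''} [Category.{v''} 𝒞] [Abelian 𝒞]
  (G : ℬ ⥤ 𝒞) [G.Additive]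

theorem acyc_of_isZero {N : ℬ} (h : IsZero N) : Acyc G N :=
  fun a => Functor.map_isZero (G.rightDerived (a + 1)) h

end acyc

section gss

variable {𝒜 : Type u} [Category.{v} 𝒜] [Abelian 𝒜] [EnoughInjectives 𝒜]
  {ℬ : Type u'} [Category.{v'} ℬ] [Abelian ℬ] [EnoughInjectives ℬ]
  {𝒞 : Type u''} [Category.{v''} 𝒞] [Abelian 𝒞]
  (T : 𝒜 ⥤ ℬ) [T.Additive] [PreservesFiniteLimits T]
  (G : ℬ ⥤ 𝒞) [G.Additive] [PreservesFiniteLimits G]

variable (ΔT : RDer.DerivedLES T) (ΔG : RDer.DerivedLES G)

variable (hTG : ∀ I : 𝒜, Injective I → Acyc G (T.obj I))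

include hTG in
theorem good_of_injective (I : 𝒜) [Injective I] : Good T G I := by
  intro b
  cases b with
  | zero => exact (hTG I inferInstance).of_iso (asIso (T.toRightDerivedZero.app I))
  | succ b => exact acyc_of_isZero G (Functor.isZero_rightDerived_obj_injective_succ T b I)

include ΔG hTG in
/-- the bottom row `G(Rᵠ T I) → G(Rᵠ T Q) → G(Rᵠ⁺¹ T M) → 0` is exact for a good `M` -/
theorem bottom_row (M : 𝒜) (hM : Good T G M) (q : ℕ) :
    (ShortComplex.mk (G.map ((T.rightDerived q).map (hullSC M).g))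
      (G.map (ΔT.δ (hullSC M) (hullSC_shortExact M) q (q + 1) rfl))
      (by rw [← G.map_comp, ΔT.comp_δ, G.map_zero])).Exact ∧
    Epi (G.map (ΔT.δ (hullSC M) (hullSC_shortExact M) q (q + 1) rfl)) := by
  cases q with
  | zero =>
    obtain ⟨-, hex, hepi⟩ := four_term_hull T G ΔT ΔG hTG M hM
    let S0 : ShortComplex 𝒞 := ShortComplex.mk (G.map (T.map (hullSC M).g)) (G.map (γ T ΔT M))
        (by rw [← G.map_comp, map_g_γ, G.map_zero])
    let S1 : ShortComplex 𝒞 := ShortComplex.mk (G.map ((T.rightDerived 0).map (hullSC M).g))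
      (G.map (ΔT.δ (hullSC M) (hullSC_shortExact M) 0 1 rfl))
      (by rw [← G.map_comp, ΔT.comp_δ, G.map_zero])
    let φ : S0 ⟶ S1 :=
      { τ₁ := G.map (T.toRightDerivedZero.app _)
        τ₂ := G.map (T.toRightDerivedZero.app _)
        τ₃ := 𝟙 _
        comm₁₂ := by
          change G.map _ ≫ G.map _ = G.map _ ≫ G.map _
          rw [← G.map_comp, ← G.map_comp, T.toRightDerivedZero.naturality]
        comm₂₃ := by
          change G.map _ ≫ G.map _ = G.map (γ T ΔT M) ≫ 𝟙 _
          rw [Category.comp_id, ← G.map_comp]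
          rfl }
    have : Epi φ.τ₁ := inferInstanceAs (Epi (G.map (T.toRightDerivedZero.app _)))
    have : IsIso φ.τ₂ := inferInstanceAs (IsIso (G.map (T.toRightDerivedZero.app _)))
    have : Mono φ.τ₃ := inferInstanceAs (Mono (𝟙 (G.obj ((T.rightDerived 1).obj M))))
    refine ⟨(ShortComplex.exact_iff_of_epi_of_isIso_of_mono φ).1 hex, ?_⟩
    have h : G.map (γ T ΔT M) = G.map (T.toRightDerivedZero.app _) ≫
        G.map (ΔT.δ (hullSC M) (hullSC_shortExact M) 0 1 rfl) := by
      rw [← G.map_comp]; rfl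
    rw [h] at hepi
    exact epi_of_epi (G.map (T.toRightDerivedZero.app _)) _
  | succ q =>
    have hiso := isIso_δ T ΔT (hullSC M) (hullSC_shortExact M) (q + 1)
      (Functor.isZero_rightDerived_obj_injective_succ T q _)
      (Functor.isZero_rightDerived_obj_injective_succ T (q + 1) _)
    have hz : IsZero (G.obj ((T.rightDerived (q + 1)).obj (hullSC M).X₂)) :=
      Functor.map_isZero G (Functor.isZero_rightDerived_obj_injective_succ T q _)
    refine ⟨?_, inferInstance⟩
    rw [ShortComplex.exact_iff_mono _ (hz.eq_of_src _ _)]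
    change Mono (G.map (ΔT.δ (hullSC M) (hullSC_shortExact M) (q + 1) (q + 1 + 1) rfl))
    infer_instance

end gss

end Groth.Agent.Lib.Seat81.GSS
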