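/-
Seat 81 helper library: a left exact functor commutes with the cohomology of a cochain complex whose terms and
cohomology objects are acyclic (`RDer.homologyComparison` is an isomorphism); consequently the second edge map
`RDer.edgeOut` of a composite is an isomorphism in the degenerate case.
-/
import Mathlib
import Groth.Prelude.Def_RDer
import Groth.Agent.Lib.Seat81GSS2

open CategoryTheory Limits

namespace Groth.Agent.Lib.Seat81.HomCmp
open Groth.Agent.Lib.Seat81.GSS

universe v₁ v₂ v₃ u₁ u₂ u₃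

section general

variable {B : Type u₂} [Category.{v₂} B] [Abelian B] {C : Type u₃} [Category.{v₃} C] [Abelian C]
  (Ψ : B ⥤ C) [Ψ.Additive] [PreservesFiniteLimits Ψ]
  {ι' : Type*} {c : ComplexShape ι'} (K : HomologicalComplex B c) (i : ι')

theorem isIso_cyclesComparison : IsIso (RDer.cyclesComparison Ψ K i) := by
  let k : Ψ.obj (K.cycles i) ⟶ ((Ψ.mapHomologicalComplex c).obj K).X i := Ψ.map (K.iCycles i)
  have h0 : k ≫ ((Ψ.mapHomologicalComplex c).obj K).d i (c.next i) = 0 := by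
    change Ψ.map (K.iCycles i) ≫ Ψ.map (K.d i (c.next i)) = 0
    rw [← Ψ.map_comp, K.iCycles_d, Ψ.map_zero]
  let l := ((Ψ.mapHomologicalComplex c).obj K).liftCycles k (c.next i) rfl h0
  have e1 : l ≫ ((Ψ.mapHomologicalComplex c).obj K).iCycles i = k :=
    HomologicalComplex.liftCycles_i _ _ _ _ _
  have e2 : RDer.cyclesComparison Ψ K i ≫ k = ((Ψ.mapHomologicalComplex c).obj K).iCycles i :=
    RDer.cyclesComparison_i Ψ K i
  refine ⟨⟨l, ?_, ?_⟩⟩
  · rw [← cancel_mono (((Ψ.mapHomologicalComplex c).obj K).iCycles i), Category.assoc, e1, e2,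
      Category.id_comp]
  · have : Mono k := inferInstanceAs (Mono (Ψ.map (K.iCycles i)))
    rw [← cancel_mono k, Category.assoc, e2, e1, Category.id_comp]

theorem isIso_homologyComparison_of_exact
    (hex : (ShortComplex.mk (Ψ.map (K.toCycles (c.prev i) i)) (Ψ.map (K.homologyπ i))
      (by rw [← Ψ.map_comp, K.toCycles_comp_homologyπ, Ψ.map_zero])).Exact)
    (hepi : Epi (Ψ.map (K.homologyπ i))) : IsIso (RDer.homologyComparison Ψ K i) := by
  have hφ := isIso_cyclesComparison Ψ K i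
  let t1 : ((Ψ.mapHomologicalComplex c).obj K).X (c.prev i) ⟶ ((Ψ.mapHomologicalComplex c).obj K).cycles i :=
    ((Ψ.mapHomologicalComplex c).obj K).toCycles (c.prev i) i
  let π1 := ((Ψ.mapHomologicalComplex c).obj K).homologyπ i
  let φ := RDer.cyclesComparison Ψ K i
  let t2 : ((Ψ.mapHomologicalComplex c).obj K).X (c.prev i) ⟶ Ψ.obj (K.cycles i) :=
    Ψ.map (K.toCycles (c.prev i) i)
  let π2 := Ψ.map (K.homologyπ i)
  have e1 : t1 ≫ φ = t2 := RDer.toCycles_cyclesComparison Ψ K i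
  have e2 : π1 ≫ RDer.homologyComparison Ψ K i = φ ≫ π2 := RDer.homologyπ_homologyComparison Ψ K i
  have e3 : t1 ≫ π1 = 0 := HomologicalComplex.toCycles_comp_homologyπ _ _ _
  have w : t2 ≫ inv φ ≫ π1 = 0 := by rw [← e1, Category.assoc, IsIso.hom_inv_id_assoc, e3]
  let S : ShortComplex C := ShortComplex.mk (Ψ.map (K.toCycles (c.prev i) i)) (Ψ.map (K.homologyπ i))
      (by rw [← Ψ.map_comp, K.toCycles_comp_homologyπ, Ψ.map_zero])
  have hS : S.Exact := hex
  haveI : Epi S.g := hepi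
  let d : Ψ.obj (K.homology i) ⟶ ((Ψ.mapHomologicalComplex c).obj K).homology i := hS.desc (inv φ ≫ π1) w
  have e4 : π2 ≫ d = inv φ ≫ π1 := hS.g_desc (inv φ ≫ π1) w
  haveI : Epi π2 := hepi
  haveI : Epi π1 := inferInstance
  refine ⟨⟨d, ?_, ?_⟩⟩
  · rw [← cancel_epi π1, reassoc_of% e2, e4, IsIso.hom_inv_id_assoc, Category.comp_id]
  · rw [← cancel_epi π2, reassoc_of% e4, e2, IsIso.inv_hom_id_assoc, Category.comp_id]

theorem isIso_homologyComparison_of_exact' (j : ι') (hj : c.prev i = j)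
    (hex : (ShortComplex.mk (Ψ.map (K.toCycles j i)) (Ψ.map (K.homologyπ i))
      (by rw [← Ψ.map_comp, K.toCycles_comp_homologyπ, Ψ.map_zero])).Exact)
    (hepi : Epi (Ψ.map (K.homologyπ i))) : IsIso (RDer.homologyComparison Ψ K i) := by
  subst hj
  exact isIso_homologyComparison_of_exact Ψ K i hex hepi

end general

section cochain

variable {B : Type u₂} [Category.{v₂} B] [Abelian B] [EnoughInjectives B]
  {C : Type u₃} [Category.{v₃} C] [Abelian C]
  (Ψ : B ⥤ C) [Ψ.Additive] [PreservesFiniteLimits Ψ] (ΔΨ : RDer.DerivedLES Ψ) (K : CochainComplex B ℕ)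

include ΔΨ in
theorem four_term_cycles (j : ℕ) (hZ : Acyc Ψ (K.cycles j)) (hKj : Acyc Ψ (K.X j))
    (hH : Acyc Ψ (K.homology (j + 1))) :
    Acyc Ψ (K.cycles (j + 1)) ∧ (ShortComplex.mk (Ψ.map (K.toCycles j (j + 1))) (Ψ.map (K.homologyπ (j + 1)))
      (by rw [← Ψ.map_comp, K.toCycles_comp_homologyπ, Ψ.map_zero])).Exact ∧
      Epi (Ψ.map (K.homologyπ (j + 1))) := by
  have wab : K.iCycles j ≫ K.toCycles j (j + 1) = 0 := by
    rw [← cancel_mono (K.iCycles (j + 1)), Category.assoc, K.toCycles_i, K.iCycles_d, zero_comp]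
  have wbc := K.toCycles_comp_homologyπ j (j + 1)
  have hB : (ShortComplex.mk _ _ wab).Exact :=
    ShortComplex.exact_of_f_is_kernel _ (isKernelOfComp (K.iCycles (j + 1)) (K.d j (j + 1))
      (K.cyclesIsKernel j (j + 1) (by simp)) wab (K.toCycles_i j (j + 1)))
  have hC : (ShortComplex.mk _ _ wbc).Exact :=
    ShortComplex.exact_of_g_is_cokernel _ (K.homologyIsCokernel j (j + 1) (by simp))
  exact four_term Ψ ΔΨ (K.iCycles j) (K.toCycles j (j + 1)) (K.homologyπ (j + 1)) wab wbc hB hC hZ hKj hH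

include ΔΨ in
theorem acyc_cycles (hK : ∀ n, Acyc Ψ (K.X n)) (hH : ∀ n, Acyc Ψ (K.homology n)) :
    ∀ n, Acyc Ψ (K.cycles n)
  | 0 => (hH 0).of_iso (asIso (K.homologyπ 0)).symm
  | n + 1 => (four_term_cycles Ψ ΔΨ K n (acyc_cycles hK hH n) (hK n) (hH (n + 1))).1

include ΔΨ in
/-- for a cochain complex with `Ψ`-acyclic terms and `Ψ`-acyclic cohomology, `Ψ` commutes with cohomology -/
theorem isIso_homologyComparison (hK : ∀ n, Acyc Ψ (K.X n)) (hH : ∀ n, Acyc Ψ (K.homology n)) (n : ℕ) :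
    IsIso (RDer.homologyComparison Ψ K n) := by
  cases n with
  | zero =>
    apply isIso_homologyComparison_of_exact
    · have h0 : K.toCycles ((ComplexShape.up ℕ).prev 0) 0 = 0 := by
        rw [← cancel_mono (K.iCycles 0), K.toCycles_i, zero_comp]
        exact K.shape _ _ (by simp)
      rw [ShortComplex.exact_iff_mono _ (by change Ψ.map _ = 0; rw [h0, Ψ.map_zero])]
      change Mono (Ψ.map (K.homologyπ 0))
      infer_instance
    · infer_instance
  | succ j =>
    obtain ⟨-, hex, hepi⟩ := four_term_cycles Ψ ΔΨ K j (acyc_cycles Ψ ΔΨ K hK hH j) (hK j) (hH (j + 1))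
    exact isIso_homologyComparison_of_exact' Ψ K (j + 1) j (by simp) hex hepi

end cochain

section edge

variable {A : Type u₁} [Category.{v₁} A] [Abelian A] [EnoughInjectives A]
  {B : Type u₂} [Category.{v₂} B] [Abelian B] [EnoughInjectives B]
  {C : Type u₃} [Category.{v₃} C] [Abelian C]
  (Φ : A ⥤ B) [Φ.Additive] (Ψ : B ⥤ C) [Ψ.Additive] [PreservesFiniteLimits Ψ]

/-- the second edge map `Rᵠ(Φ ⋙ Ψ) X ⟶ Ψ(Rᵠ Φ X)` is an isomorphism when all `Rᵇ Φ X` are `Ψ`-acyclic and `Φ` sends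
injectives to `Ψ`-acyclics -/
theorem isIso_edgeOut (hΦΨ : ∀ I : A, Injective I → Acyc Ψ (Φ.obj I)) (X : A) (hX : Good Φ Ψ X) (q : ℕ) :
    IsIso (RDer.edgeOut Φ Ψ q X) := by
  obtain ⟨ΔΨ⟩ := Groth.Agent.S16463.result Ψ
  have hK : ∀ n, Acyc Ψ (((Φ.mapHomologicalComplex _).obj (injectiveResolution X).cocomplex).X n) :=
    fun n => hΦΨ ((injectiveResolution X).cocomplex.X n) inferInstance
  have hH : ∀ n, Acyc Ψ (((Φ.mapHomologicalComplex _).obj (injectiveResolution X).cocomplex).homology n) :=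
    fun n => (hX n).of_iso ((injectiveResolution X).isoRightDerivedObj Φ n)
  have := isIso_homologyComparison Ψ ΔΨ _ hK hH q
  unfold RDer.edgeOut
  exact IsIso.comp_isIso' inferInstance (IsIso.comp_isIso' this
    (Ψ.mapIso ((injectiveResolution X).isoRightDerivedObj Φ q).symm).isIso_hom)

end edge

end Groth.Agent.Lib.Seat81.HomCmp
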