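/-
Seat 21 helper library: on a locally Noetherian scheme, coherent modules are closed under kernels, cokernels and
extensions (`Seat81.Five.Closed`), and the application of `Seat21GSSClosed` to higher direct images:
`U ⊆ X` open, `f : X → S` proper, `S` locally Noetherian, `R^q (U.ι)_* F` coherent for `q ≤ n` ⇒ `R^i (U.ι ≫ f)_* F`
coherent for `i ≤ n` (conditional on `Seat81.ProperCoh.FiniteCohomology`, the statement of S0002).
-/
import Groth.Agent.Lib.Seat21GSSClosed
import Groth.Agent.Lib.Seat81ProperCoh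
import Groth.Agent.Lib.Seat81LerayOut
import Groth.Agent.Lib.Helper21DerPost
import Groth.Agent.Lib.Helper23FinType2
import Groth.Agent.Lib.Helper23FinTypeLocal
import Groth.Agent.Lib.Helper23QCohExt
import Groth.Agent.Lib.Helper23QCohLocal
import Groth.Agent.Lib.Seat96ModSec
import Groth.Agent.Lib.Seat21DevGraph

set_option autoImplicit false
universe u

namespace Groth.Agent.Lib.Seat21.CohClosed

open AlgebraicGeometry CategoryTheory Scheme.Modules Opposite Limits TopologicalSpace
open Groth.Agent.Lib.Seat81 Groth.Agent.Lib.Seat81.GSS Groth.Agent.Lib.Seat81.Five Groth.Agent.Lib.Helper21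

variable {X : Scheme.{u}}

/-- an extension of coherent modules on a locally Noetherian scheme is coherent -/
theorem isCoh_of_shortExact [IsLocallyNoetherian X] (S : ShortComplex X.Modules) (hS : S.ShortExact)
    (h1 : Coh.IsCoh S.X₁) (h3 : Coh.IsCoh S.X₃) : Coh.IsCoh S.X₂ := by
  have := h1.1
  have := h3.1
  have hq : S.X₂.IsQuasicoherent :=
    Groth.Agent.Lib.Helper23.QCohLocal.isQuasicoherent_of_shortExact S hS h1.1 h3.1
  refine ⟨hq, ?_⟩
  rw [Groth.Agent.Lib.Helper23.FinType.isFiniteType_iff_forall_affine]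
  intro U hU
  have : SheafOfModules.IsFiniteType (R := X.ringCatSheaf) S.X₁ := h1.2
  have : SheafOfModules.IsFiniteType (R := X.ringCatSheaf) S.X₃ := h3.2
  have : IsNoetherianRing Γ(X, U) := IsLocallyNoetherian.component_noetherian ⟨U, hU⟩
  have f1 : Module.Finite Γ(X, U) Γ(S.X₁, U) :=
    Groth.Agent.Lib.Helper23.FinType.finite_of_isFiniteType S.X₁ hU
  have f3 : Module.Finite Γ(X, U) Γ(S.X₃, U) :=
    Groth.Agent.Lib.Helper23.FinType.finite_of_isFiniteType S.X₃ hU
  have : IsNoetherian Γ(X, U) Γ(S.X₁, U) := isNoetherian_of_isNoetherianRing_of_finite _ _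
  have : IsNoetherian Γ(X, U) Γ(S.X₃, U) := isNoetherian_of_isNoetherianRing_of_finite _ _
  let f : Γ(S.X₁, U) →ₗ[Γ(X, U)] Γ(S.X₂, U) :=
    { toFun := fun x => S.f.app U x
      map_add' := fun x y => map_add _ x y
      map_smul' := fun r x => Scheme.Modules.Hom.app_smul S.f r x }
  let g : Γ(S.X₂, U) →ₗ[Γ(X, U)] Γ(S.X₃, U) :=
    { toFun := fun x => S.g.app U x
      map_add' := fun x y => map_add _ x y
      map_smul' := fun r x => Scheme.Modules.Hom.app_smul S.g r x }
  have hfg : LinearMap.range f = LinearMap.ker g := by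
    ext s
    constructor
    · rintro ⟨x, rfl⟩
      change S.g.app U (S.f.app U x) = 0
      rw [← Groth.Agent.Lib.Seat96.ModSec.comp_app_apply, S.zero]
      rfl
    · intro hs
      have hs' : S.g.app U s = 0 := hs
      obtain ⟨t, ht⟩ := Groth.Agent.Lib.Seat96.ModSec.exists_kernelι_app_eq S.g U s hs'
      have hl : IsLimit (KernelFork.ofι S.f S.zero) := hS.fIsKernel
      let e : kernel S.g ≅ S.X₁ :=
        IsLimit.conePointUniqueUpToIso (limit.isLimit (parallelPair S.g 0)) hl
      have he : e.hom ≫ S.f = kernel.ι S.g :=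
        IsLimit.conePointUniqueUpToIso_hom_comp (limit.isLimit (parallelPair S.g 0)) hl
          WalkingParallelPair.zero
      refine ⟨e.hom.app U t, ?_⟩
      change S.f.app U (e.hom.app U t) = s
      rw [← Groth.Agent.Lib.Seat96.ModSec.comp_app_apply, he, ht]
  have : IsNoetherian Γ(X, U) Γ(S.X₂, U) := isNoetherian_of_range_eq_ker f g hfg
  exact Module.IsNoetherian.finite _ _

theorem isCoh_kernel [IsLocallyNoetherian X] {F G : X.Modules} (hF : Coh.IsCoh F) (hG : Coh.IsCoh G)
    (φ : F ⟶ G) : Coh.IsCoh (kernel φ) := by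
  have := hF.1
  have := hF.2
  have := hG.1
  have : (kernel φ).IsQuasicoherent := Groth.Agent.Lib.Helper23.QCohLocal.isQuasicoherent_kernel φ
  exact ⟨inferInstance, Groth.Agent.Lib.Helper23.FinType.isFiniteType_of_mono (kernel.ι φ)⟩

/-- coherent modules on a locally Noetherian scheme are closed under kernels, cokernels and extensions -/
theorem cohClosed (S : Scheme.{u}) [IsLocallyNoetherian S] :
    Closed (fun N : S.Modules => Coh.IsCoh N) where
  ker := fun φ hX hY => isCoh_kernel hX hY φ
  coker := fun φ hX hY => Groth.Agent.Lib.Seat21.Dev.isCoh_cokernel hX hY φ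
  ext := fun T hT h1 h3 => isCoh_of_shortExact T hT h1 h3

attribute [local instance] Groth.Agent.Lib.Seat81.LerayOut.enoughInj

/-- S5186, conditional on finiteness of coherent cohomology of proper schemes. -/
theorem isCoh_Rpush_comp_of_open (hfin : ProperCoh.FiniteCohomology.{u})
    {X S : Scheme.{u}} (f : X ⟶ S) [IsProper f] [IsLocallyNoetherian S] (U : X.Opens)
    [HasInjectiveResolutions (U : Scheme.{u}).Modules] [HasInjectiveResolutions X.Modules]
    (F : (U : Scheme.{u}).Modules) (n : ℕ)
    (hg : ∀ i : ℕ, i ≤ n → Coh.IsCoh ((Coh.Rpush U.ι i).obj F)) (i : ℕ) (hi : i ≤ n) :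
    Coh.IsCoh ((Coh.Rpush (U.ι ≫ f) i).obj F) := by
  have key := Groth.Agent.Lib.Seat21.GSSClosed.closed_rightDerived_comp (pushforward U.ι) (pushforward f)
    (LerayOut.acyc_push_push_injective U.ι f) (cohClosed S) F n
    (fun q p hq => ProperCoh.isCoh_Rpush f hfin _ (hg q hq) p) i hi
  exact Groth.Agent.Lib.Seat21.Dev.isCoh_of_iso
    ((DerPost.natIsoRightDerived (pushforwardComp U.ι f) i).app F) key

end Groth.Agent.Lib.Seat21.CohClosed
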