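import Groth.Agent.Lib.Seat21DevTF
import Groth.Agent.Lib.Seat21PreSub
import Groth.Agent.Lib.Seat21SubAlgGen
import Groth.Agent.Lib.Helper14FtPts

/-!
# The subsheaves `I^n · H` and the Artin–Rees lemma for coherent modules (seat 21)

Namespace `Groth.Agent.Lib.Seat21.Dev`.

* `Jv I V` : the sections of the ideal sheaf `I` over an arbitrary open `V` (kernel of `O_X(V) → O_Z(V ∩ Z)`).
* `powPre I n H`, `powSub I n H` : the presheaf of submodules `V ↦ I(V)^n • H(V)` and the associated subsheaf `I^n H`.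
* `powSub_carrier_eq_of_affine`, `qcOn_powSub`.
-/

set_option autoImplicit false
set_option linter.style.haveILetI false
universe u
open CategoryTheory Limits AlgebraicGeometry TopologicalSpace Opposite

noncomputable section

namespace Groth.Agent.Lib.Seat21.Dev

open Groth.Agent.Lib.Helper1.StalkTensor Groth.Agent.Lib.Helper1.Sky Groth.Agent.Lib.Seat21.QSub
open Groth.Agent.Lib.Helper2.Push Groth.Agent.Lib.Helper23.QCohLocal

variable {X : Scheme.{u}} (I : X.IdealSheafData)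

/-- the sections of the ideal sheaf over an arbitrary open -/
def Jv (V : X.Opens) : Ideal Γ(X, V) := RingHom.ker (I.subschemeι.app V).hom

theorem Jv_eq_of_affine (T : X.affineOpens) : Jv I T.1 = I.ideal T := I.ker_subschemeι_app T

theorem resf_mem_Jv {V V' : X.Opens} (h : V' ≤ V) {a : Γ(X, V)} (ha : a ∈ Jv I V) : resf X h a ∈ Jv I V' := by
  rw [Jv, RingHom.mem_ker] at ha ⊢
  have e := congr($(I.subschemeι.naturality (homOfLE h).op) a)
  have e' : (I.subschemeι.app V').hom (resf X h a) =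
      (I.subscheme.presheaf.map ((Opens.map I.subschemeι.base).map (homOfLE h)).op).hom ((I.subschemeι.app V).hom a) := e
  rw [e', ha, map_zero]

theorem resf_mem_Jv_pow {V V' : X.Opens} (h : V' ≤ V) (n : ℕ) {a : Γ(X, V)} (ha : a ∈ Jv I V ^ n) :
    resf X h a ∈ Jv I V' ^ n := by
  have hle : (Jv I V ^ n).map (X.presheaf.map (homOfLE h).op).hom ≤ Jv I V' ^ n := by
    rw [Ideal.map_pow]
    exact Ideal.pow_right_mono (Ideal.map_le_iff_le_comap.2 fun a ha => Ideal.mem_comap.2 (resf_mem_Jv I h ha)) n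
  exact hle (Ideal.mem_map_of_mem _ ha)

/-- the presheaf of submodules `V ↦ I(V)^n • H(V)` -/
def powPre (n : ℕ) (H : X.Modules) : PreSub H where
  carrier V := (Jv I V ^ n) • (⊤ : Submodule Γ(X, V) Γ(H, V))
  res_mem := by
    intro V V' h s hs
    refine Submodule.smul_induction_on hs (fun a ha m _ => ?_) (fun x z hx hz => ?_)
    · rw [res_smul]
      exact Submodule.smul_mem_smul (resf_mem_Jv_pow I h n ha) Submodule.mem_top
    · rw [res_add]
      exact Submodule.add_mem _ hx hz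

/-- elements of `I(D(g))^n` are fractions with numerator in `I(T)^n` -/
theorem exists_lift_Jv_pow {T : X.Opens} (hT : IsAffineOpen T) (g : Γ(X, T)) (n : ℕ)
    (a : Γ(X, X.basicOpen g)) (ha : a ∈ Jv I (X.basicOpen g) ^ n) :
    ∃ (p : ℕ) (a' : Γ(X, T)), a' ∈ Jv I T ^ n ∧
      resf X (X.basicOpen_le g) a' = (resf X (X.basicOpen_le g) g) ^ p * a := by
  let Ta : X.affineOpens := ⟨T, hT⟩
  have h1 : Jv I (X.basicOpen g) = I.ideal (X.affineBasicOpen (U := Ta) g) :=
    Jv_eq_of_affine I (X.affineBasicOpen (U := Ta) g)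
  have h2 : Jv I T = I.ideal Ta := Jv_eq_of_affine I Ta
  letI alg : Algebra Γ(X, T) Γ(X, X.basicOpen g) := (X.presheaf.map (homOfLE (X.basicOpen_le g)).op).hom.toAlgebra
  haveI inst : IsLocalization.Away g Γ(X, X.basicOpen g) := hT.isLocalization_basicOpen g
  have h3 : Jv I (X.basicOpen g) ^ n = Ideal.map (algebraMap Γ(X, T) Γ(X, X.basicOpen g)) (Jv I T ^ n) := by
    rw [Ideal.map_pow, h1, h2, ← I.map_ideal_basicOpen Ta g]
    rfl
  rw [h3, IsLocalization.mem_map_algebraMap_iff (Submonoid.powers g)] at ha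
  obtain ⟨⟨⟨a', ha'⟩, ⟨_, p, rfl⟩⟩, e⟩ := ha
  refine ⟨p, a', ha', ?_⟩
  have e' : a * resf X (X.basicOpen_le g) (g ^ p) = resf X (X.basicOpen_le g) a' := e
  rw [← e', resf_pow, mul_comm]

variable {I} in
theorem extOn_powPre {H : X.Modules} [H.IsQuasicoherent] (n : ℕ) {T : X.Opens} (hT : IsAffineOpen T) :
    (powPre I n H).ExtOn T := by
  intro g s hs
  have hH : IsLocOn H T := IsLocOn.of_isQuasicoherent hT H
  refine Submodule.smul_induction_on hs (fun a ha m _ => ?_) (fun x z hx hz => ?_)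
  · obtain ⟨p, a', ha', ea⟩ := exists_lift_Jv_pow I hT g n a ha
    obtain ⟨q, m', em⟩ := isLocOn_exists hH g _ rfl (X.basicOpen_le g) m
    refine ⟨p + q, a' • m', Submodule.smul_mem_smul ha' Submodule.mem_top, ?_⟩
    rw [res_smul, ea, em, smul_smul, smul_smul, pow_add]
    congr 1
    ring
  · obtain ⟨n1, t1, h1, e1⟩ := hx
    obtain ⟨n2, t2, h2, e2⟩ := hz
    refine ⟨n1 + n2, g ^ n2 • t1 + g ^ n1 • t2,
      Submodule.add_mem _ (Submodule.smul_mem _ _ h1) (Submodule.smul_mem _ _ h2), ?_⟩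
    rw [res_add, res_smul, res_smul, e1, e2, resf_pow, resf_pow, smul_smul, smul_smul, ← pow_add, ← pow_add,
      smul_add, add_comm n2 n1]

/-- the subsheaf `I^n H` -/
def powSub (n : ℕ) (H : X.Modules) : SubSh H := (powPre I n H).sh

theorem powSub_carrier_eq_of_affine {H : X.Modules} [H.IsQuasicoherent] (n : ℕ) {T : X.Opens} (hT : IsAffineOpen T) :
    (powSub I n H).carrier T = (Jv I T ^ n) • (⊤ : Submodule Γ(X, T) Γ(H, T)) :=
  PreSub.sh_carrier_eq_of_affine hT (extOn_powPre n hT)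

theorem qcOn_powSub {H : X.Modules} [H.IsQuasicoherent] (n : ℕ) : (powSub I n H).QCOn ⊤ :=
  PreSub.qcOn_sh ⊤ fun _ hT _ => extOn_powPre n hT

theorem le_powSub {H : X.Modules} (n : ℕ) (V : X.Opens) :
    (Jv I V ^ n) • (⊤ : Submodule Γ(X, V) Γ(H, V)) ≤ (powSub I n H).carrier V :=
  (powPre I n H).le_sh V

/-! ### Artin–Rees -/

/-- the kernel of `v` on sections over `V`, as a submodule -/
def kerSec {H M : X.Modules} (v : H ⟶ M) (V : X.Opens) : Submodule Γ(X, V) Γ(H, V) where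
  carrier := {s | v.app V s = 0}
  add_mem' := fun {a b} ha hb => by
    show v.app V (a + b) = 0
    rw [map_add, ha, hb, add_zero]
  zero_mem' := map_zero _
  smul_mem' := fun r a ha => by
    show v.app V (r • a) = 0
    rw [Scheme.Modules.Hom.app_smul, ha, smul_zero]

theorem mem_kerSec {H M : X.Modules} (v : H ⟶ M) (V : X.Opens) (s : Γ(H, V)) :
    s ∈ kerSec v V ↔ v.app V s = 0 := Iff.rfl

variable {I} in
/-- Artin–Rees on one affine open: if `v` is injective at the points where some section of `I` is invertible, then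
`I^n H ∩ ker v = 0` over `T` for `n` large. -/
theorem ar_affine [IsNoetherian X] {H M : X.Modules} (hH : Coh.IsCoh H) (v : H ⟶ M)
    (hv : ∀ (T : X.Opens), IsAffineOpen T → ∀ a : Γ(X, T), a ∈ Jv I T → ∀ x ∈ X.basicOpen a,
      Function.Injective (sm (toPMMap v) x))
    {T : X.Opens} (hT : IsAffineOpen T) :
    ∃ n₀ : ℕ, ∀ n ≥ n₀, ∀ s : Γ(H, T), s ∈ (Jv I T ^ n) • (⊤ : Submodule Γ(X, T) Γ(H, T)) →
      v.app T s = 0 → s = 0 := by
  haveI := hH.1
  haveI := hH.2
  haveI : IsNoetherianRing Γ(X, T) := IsLocallyNoetherian.component_noetherian ⟨T, hT⟩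
  haveI : Module.Finite Γ(X, T) Γ(H, T) := Groth.Agent.Lib.Helper23.FinType.finite_of_isFiniteType H hT
  haveI : IsNoetherian Γ(X, T) Γ(H, T) := isNoetherian_of_isNoetherianRing_of_finite _ _
  have hloc : IsLocOn H T := IsLocOn.of_isQuasicoherent hT H
  -- step 1: elements of `I(T)` act nilpotently on the kernel
  have h1 : ∀ a ∈ Jv I T, ∀ s ∈ kerSec v T, ∃ p : ℕ, a ^ p • s = 0 := by
    intro a ha s hs
    have h0 : res H (X.basicOpen_le a) s = 0 := by
      apply eq_zero_of_gmM_eq_zero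
      intro x hx
      apply hv T hT a ha x hx
      rw [map_zero, gmM_res, smM_gmM, (mem_kerSec v T s).1 hs, map_zero]
    exact isLocOn_unique hloc a _ rfl (X.basicOpen_le a) s h0
  -- step 2: a power of `I(T)` kills the kernel
  have h2 : ∃ m : ℕ, ∀ a ∈ Jv I T ^ m, ∀ s ∈ kerSec v T, a • s = 0 := by
    have h2' : ∃ m : ℕ, Jv I T ^ m ≤ Module.annihilator Γ(X, T) (kerSec v T) := by
      apply Ideal.exists_pow_le_of_le_radical_of_fg _ (IsNoetherian.noetherian (Jv I T))
      intro a ha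
      obtain ⟨S, hS⟩ := (IsNoetherian.noetherian (kerSec v T) : (kerSec v T).FG)
      choose! p hp using fun s : Γ(H, T) => h1 a ha s
      refine ⟨S.sup p, ?_⟩
      rw [Module.mem_annihilator]
      intro z
      have hz : (z : Γ(H, T)) ∈ Submodule.span Γ(X, T) (S : Set Γ(H, T)) := by rw [hS]; exact z.2
      have key : ∀ w ∈ Submodule.span Γ(X, T) (S : Set Γ(H, T)), a ^ S.sup p • w = 0 := by
        intro w hw
        induction hw using Submodule.span_induction with
        | mem x hx =>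
          have hxk : x ∈ kerSec v T := by rw [← hS]; exact Submodule.subset_span hx
          have hle : p x ≤ S.sup p := Finset.le_sup hx
          rw [← Nat.sub_add_cancel hle, pow_add, mul_smul, hp x hxk, smul_zero]
        | zero => rw [smul_zero]
        | add x z _ _ hx hz => rw [smul_add, hx, hz, add_zero]
        | smul r x _ hx => rw [smul_comm, hx, smul_zero]
      apply Subtype.ext
      exact key _ hz
    obtain ⟨m, hm⟩ := h2'
    refine ⟨m, fun a ha s hs => ?_⟩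
    have := Module.mem_annihilator.1 (hm ha) ⟨s, hs⟩
    exact congrArg Subtype.val this
  obtain ⟨m, hm⟩ := h2
  -- step 3: Artin–Rees
  obtain ⟨k, hk⟩ := Ideal.exists_pow_inf_eq_pow_smul (Jv I T) (kerSec v T)
  refine ⟨k + m, fun n hn s hs hvs => ?_⟩
  have hmem : s ∈ Jv I T ^ n • (⊤ : Submodule Γ(X, T) Γ(H, T)) ⊓ kerSec v T := ⟨hs, hvs⟩
  rw [hk n (by omega)] at hmem
  have hle : Jv I T ^ (n - k) ≤ Jv I T ^ m := Ideal.pow_le_pow_right (by omega)
  refine Submodule.smul_induction_on hmem (fun a ha w hw => ?_) (fun x z hx hz => ?_)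
  · exact hm a (hle ha) w hw.2
  · rw [hx, hz, add_zero]

variable {I} in
/-- **Artin–Rees** for coherent modules: if `v : H ⟶ M` is injective at the points where some section of `I` is
invertible, then `I^n H ∩ ker v = 0` for `n` large. -/
theorem ar_global [IsNoetherian X] {H M : X.Modules} (hH : Coh.IsCoh H) [M.IsQuasicoherent] (v : H ⟶ M)
    (hv : ∀ (T : X.Opens), IsAffineOpen T → ∀ a : Γ(X, T), a ∈ Jv I T → ∀ x ∈ X.basicOpen a,
      Function.Injective (sm (toPMMap v) x)) :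
    ∃ n₀ : ℕ, ∀ n ≥ n₀, ∀ (V : X.Opens) (s : Γ(H, V)), s ∈ (powSub I n H).carrier V → v.app V s = 0 → s = 0 := by
  classical
  haveI := hH.1
  obtain ⟨t, ht⟩ := exists_finite_affine_cover (X := X)
  choose n₀ hn₀ using fun T : X.affineOpens => ar_affine hH v hv T.2
  refine ⟨t.sup n₀, fun n hn V s hs hvs => ?_⟩
  apply eq_of_locally_eq H s 0
  intro x hxV
  have hxtop : x ∈ ⨆ l : t, (l.1 : X.Opens) := ht ▸ (trivial : x ∈ (⊤ : X.Opens))
  obtain ⟨⟨T, hTt⟩, hxT⟩ := Opens.mem_iSup.1 hxtop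
  have hxT' : x ∈ (T : X.Opens) := hxT
  obtain ⟨g, hg1, hg2⟩ := T.2.exists_basicOpen_le (V := V ⊓ T.1) ⟨x, hxV, hxT'⟩ hxT'
  have hDV : X.basicOpen g ≤ V := hg1.trans inf_le_left
  refine ⟨X.basicOpen g, hDV, hg2, ?_⟩
  rw [res_zero]
  -- the restriction of `s`
  have hs' : res H hDV s ∈ (powSub I n H).carrier (X.basicOpen g) := (powSub I n H).res_mem hDV hs
  have hvs' : v.app (X.basicOpen g) (res H hDV s) = 0 := by
    rw [app_res, hvs, res_zero]
  obtain ⟨k₁, t₁, ht₁, e₁⟩ := qcOn_powSub I n (H := H) T.1 T.2 le_top g _ hs'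
  rw [powSub_carrier_eq_of_affine I n T.2] at ht₁
  have hlocM : IsLocOn M T.1 := IsLocOn.of_isQuasicoherent T.2 M
  have h0 : res M (X.basicOpen_le g) (v.app T.1 t₁) = 0 := by
    rw [← app_res, e₁, Scheme.Modules.Hom.app_smul, hvs', smul_zero]
  obtain ⟨k₂, hk₂⟩ := isLocOn_unique hlocM g _ rfl (X.basicOpen_le g) _ h0
  have hw : g ^ k₂ • t₁ = 0 := by
    refine hn₀ T n ((Finset.le_sup hTt).trans hn) _ (Submodule.smul_mem _ _ ht₁) ?_
    rw [Scheme.Modules.Hom.app_smul, hk₂]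
  have hres : res H (X.basicOpen_le g) (g ^ k₂ • t₁) = 0 := by rw [hw, res_zero]
  rw [res_smul, e₁, resf_pow, smul_smul, ← pow_add] at hres
  exact (((isUnit_resf_basicOpen g).pow (k₂ + k₁)).smul_eq_zero).1 hres

/-! ### the stalks of `I^n H` -/

/-- at a point where some section of `I` is invertible, `I^n H` has the same stalk as `H` -/
theorem stalkSub_powSub_eq_top (n : ℕ) (H : X.Modules) (y : X)
    (hy : ∃ (T : X.Opens) (a : Γ(X, T)), a ∈ Jv I T ∧ y ∈ X.basicOpen a) :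
    SubShStalk.stalkSub (powSub I n H) y = ⊤ := by
  obtain ⟨T, a, ha, hya⟩ := hy
  rw [eq_top_iff]
  intro w _
  obtain ⟨V, hyV, s₀, rfl⟩ := exists_gm_eq (P := toPM H) w
  let s : Γ(H, V) := s₀
  show gmM H y V hyV s ∈ _
  have hyT : y ∈ T := X.basicOpen_le a hya
  have hyW : y ∈ V ⊓ T := ⟨hyV, hyT⟩
  have ha' : resf X (inf_le_right : V ⊓ T ≤ T) a ∈ Jv I (V ⊓ T) := resf_mem_Jv I _ ha
  have hmem : (resf X (inf_le_right : V ⊓ T ≤ T) a) ^ n • res H (inf_le_left : V ⊓ T ≤ V) s ∈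
      (powSub I n H).carrier (V ⊓ T) :=
    le_powSub I n _ (Submodule.smul_mem_smul (Ideal.pow_mem_pow ha' n) Submodule.mem_top)
  have h1 := SubShStalk.gmM_mem_stalkSub (powSub I n H) y hyW hmem
  have e1 : gmM H y (V ⊓ T) hyW ((resf X (inf_le_right : V ⊓ T ≤ T) a) ^ n • res H (inf_le_left : V ⊓ T ≤ V) s) =
      (grX y (V ⊓ T) hyW (resf X (inf_le_right : V ⊓ T ≤ T) a)) ^ n • gmM H y V hyV s := by
    rw [gmM_smul, map_pow, gmM_res]
  rw [e1] at h1
  have hu : IsUnit (grX y (V ⊓ T) hyW (resf X (inf_le_right : V ⊓ T ≤ T) a)) := by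
    have e : grX y (V ⊓ T) hyW (resf X (inf_le_right : V ⊓ T ≤ T) a) = grX y T hyT a :=
      gr_rr (R := X.presheaf) (homOfLE (inf_le_right : V ⊓ T ≤ T)) hyW a
    rw [e]
    exact (Scheme.mem_basicOpen X a y hyT).1 hya
  exact (Submodule.smul_mem_iff_of_isUnit _ (hu.pow n)).1 h1

section Vanishing

variable {C : Set X} (hC : IsClosed C)

/-- sections of the vanishing ideal of `C` are invertible only away from `C` -/
theorem notMem_of_mem_basicOpen_of_mem_vanishingIdeal {T : X.Opens} (hT : IsAffineOpen T) {a : Γ(X, T)}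
    (ha : a ∈ Jv (Scheme.IdealSheafData.vanishingIdeal ⟨C, hC⟩) T) {x : X} (hx : x ∈ X.basicOpen a) : x ∉ C := by
  intro hxC
  have hxT : x ∈ T := X.basicOpen_le a hx
  rw [Jv_eq_of_affine _ ⟨T, hT⟩, Scheme.IdealSheafData.vanishingIdeal_ideal, PrimeSpectrum.mem_vanishingIdeal] at ha
  have h1 : hT.primeIdealOf ⟨x, hxT⟩ ∈ (hT.fromSpec ⁻¹' C) := by
    show hT.fromSpec (hT.primeIdealOf ⟨x, hxT⟩) ∈ C
    rw [hT.fromSpec_primeIdealOf ⟨x, hxT⟩]
    exact hxC
  exact (Groth.Agent.Lib.Helper14.mem_basicOpen_iff_notMem_primeIdealOf hT x hxT a).1 hx (ha _ h1)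

/-- near a point outside `C` some section of the vanishing ideal of `C` is invertible -/
theorem exists_mem_vanishingIdeal_of_notMem {y : X} (hy : y ∉ C) :
    ∃ (T : X.Opens) (a : Γ(X, T)), a ∈ Jv (Scheme.IdealSheafData.vanishingIdeal ⟨C, hC⟩) T ∧ y ∈ X.basicOpen a := by
  obtain ⟨T, hT, hyT, -⟩ := exists_isAffineOpen_mem_and_subset (x := y) (U := ⊤) trivial
  let C' : Set (PrimeSpectrum Γ(X, T)) := hT.fromSpec ⁻¹' C
  have hcl : IsClosed C' := hC.preimage hT.fromSpec.continuous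
  have h1 : hT.primeIdealOf ⟨y, hyT⟩ ∉ C' := by
    intro h
    have h2 : hT.fromSpec (hT.primeIdealOf ⟨y, hyT⟩) ∈ C := h
    rw [hT.fromSpec_primeIdealOf ⟨y, hyT⟩] at h2
    exact hy h2
  have h3 : ∃ a ∈ PrimeSpectrum.vanishingIdeal C', a ∉ (hT.primeIdealOf ⟨y, hyT⟩).asIdeal := by
    by_contra hcon
    push Not at hcon
    have h4 : hT.primeIdealOf ⟨y, hyT⟩ ∈ PrimeSpectrum.zeroLocus (PrimeSpectrum.vanishingIdeal C' : Set Γ(X, T)) :=
      fun a ha => hcon a ha
    rw [PrimeSpectrum.zeroLocus_vanishingIdeal_eq_closure, hcl.closure_eq] at h4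
    exact h1 h4
  obtain ⟨a, ha1, ha2⟩ := h3
  refine ⟨T, a, ?_, ?_⟩
  · rw [Jv_eq_of_affine _ ⟨T, hT⟩, Scheme.IdealSheafData.vanishingIdeal_ideal]
    exact ha1
  · exact (Groth.Agent.Lib.Helper14.mem_basicOpen_iff_notMem_primeIdealOf hT y hyT a).2 ha2

end Vanishing

/-- if `v : H ⟶ M` is injective on the stalks outside the closed set `C`, there is a coherent subsheaf `N ⊆ H` with
the same stalks as `H` outside `C` and on which `v` is injective -/
theorem exists_subSh_inj [IsNoetherian X] {H M : X.Modules} (hH : Coh.IsCoh H) [M.IsQuasicoherent] (v : H ⟶ M)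
    {C : Set X} (hC : IsClosed C) (hv : ∀ x : X, x ∉ C → Function.Injective (sm (toPMMap v) x)) :
    ∃ N : SubSh H, N.QCOn ⊤ ∧ (∀ (V : X.Opens) (s : Γ(H, V)), s ∈ N.carrier V → v.app V s = 0 → s = 0) ∧
      ∀ y : X, y ∉ C → SubShStalk.stalkSub N y = ⊤ := by
  haveI := hH.1
  obtain ⟨n₀, hn₀⟩ := ar_global (I := Scheme.IdealSheafData.vanishingIdeal ⟨C, hC⟩) hH v
    (fun T hT a ha x hx => hv x (notMem_of_mem_basicOpen_of_mem_vanishingIdeal hC hT ha hx))
  exact ⟨powSub _ n₀ H, qcOn_powSub _ n₀, hn₀ n₀ le_rfl, fun y hy =>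
    stalkSub_powSub_eq_top _ n₀ H y (exists_mem_vanishingIdeal_of_notMem hC hy)⟩

end Groth.Agent.Lib.Seat21.Dev
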