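import Groth.Agent.Lib.Seat21DevNilp
import Groth.Agent.Lib.Seat21DevSupp
import Groth.Agent.S0020

set_option autoImplicit false
set_option linter.style.haveILetI false
universe u
open CategoryTheory Limits AlgebraicGeometry TopologicalSpace Opposite

noncomputable section

namespace Groth.Agent.Lib.Seat21.Dev

open Groth.Agent.Lib.Helper1.StalkTensor Groth.Agent.Lib.Helper1.Sky Groth.Agent.Lib.Seat21.QSub

variable {X : Scheme.{u}}

/-- the hypotheses on a class of modules for the dévissage: stable under isomorphism, containing the zero modules,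
two-out-of-three in short exact sequences of coherent modules with support in `X'` -/
structure Hyp (K : X.Modules → Prop) (X' : Set X) : Prop where
  iso : ∀ M N : X.Modules, Nonempty (M ≅ N) → K M → K N
  zero : ∀ M : X.Modules, IsZero M → K M
  ex : ∀ S : ShortComplex X.Modules, S.ShortExact → Coh.IsCoh S.X₁ → Coh.IsCoh S.X₂ → Coh.IsCoh S.X₃ →
    CohB1.support S.X₂ ⊆ X' →
    (K S.X₁ → K S.X₂ → K S.X₃) ∧ (K S.X₁ → K S.X₃ → K S.X₂) ∧ (K S.X₂ → K S.X₃ → K S.X₁)

theorem shortExact_cokernel {A B : X.Modules} (i : A ⟶ B) [Mono i] :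
    (ShortComplex.mk i (cokernel.π i) (cokernel.condition i)).ShortExact :=
  ShortComplex.ShortExact.mk' (ShortComplex.exact_of_g_is_cokernel _ (cokernelIsCokernel i))
    (inferInstanceAs (Mono i)) (inferInstanceAs (Epi (cokernel.π i)))

theorem shortExact_kernel {B C : X.Modules} (p : B ⟶ C) [Epi p] :
    (ShortComplex.mk (kernel.ι p) p (kernel.condition p)).ShortExact :=
  ShortComplex.ShortExact.mk' (ShortComplex.exact_of_f_is_kernel _ (kernelIsKernel p))
    (inferInstanceAs (Mono (kernel.ι p))) (inferInstanceAs (Epi p))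

/-- a module with empty support is zero -/
theorem isZero_of_support_subset_empty (F : X.Modules) (h : CohB1.support F ⊆ ∅) : IsZero F := by
  rw [IsZero.iff_id_eq_zero]
  have key : ∀ (V : X.Opens) (s : Γ(F, V)), s = 0 := fun V s =>
    Groth.Agent.Lib.Helper23.Support.eq_zero_of_disjoint_support F V (fun x _ hx => h hx) s
  apply SheafOfModules.hom_ext
  apply PresheafOfModules.hom_ext
  intro V
  ext s
  exact (key V.unop _).trans (key V.unop _).symm

theorem subsingleton_stalk_of_not_mem_support {F : X.Modules} {y : X} (h : y ∉ CohB1.support F) :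
    Subsingleton (St (toPM F) y) := by
  rw [mem_support_iff, not_not] at h
  exact h

theorem not_mem_support_of_forall_eq_zero {F : X.Modules} {y : X} (h : ∀ a : St (toPM F) y, a = 0) :
    y ∉ CohB1.support F := by
  rw [mem_support_iff, not_not]
  exact ⟨fun a b => by rw [h a, h b]⟩

section Chain

variable {K : X.Modules → Prop} {X' : Set X} (hyp : Hyp K X')

include hyp in
/-- transport of the class along a correspondence which is an isomorphism at `y` -/
theorem K_of_correspondence [IsNoetherian X] {Z : Set X} (hZX' : Z ⊆ X') (y : X)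
    (hIH : ∀ F : X.Modules, Coh.IsCoh F → CohB1.support F ⊆ Z → y ∉ CohB1.support F → K F)
    {H G M : X.Modules} (hH : Coh.IsCoh H) (hG : Coh.IsCoh G) (hM : Coh.IsCoh M)
    (hHZ : CohB1.support H ⊆ Z) (hGZ : CohB1.support G ⊆ Z) (hMZ : CohB1.support M ⊆ Z)
    (u : H ⟶ G) (v : H ⟶ M) (hu : Function.Bijective (sm (toPMMap u) y))
    (hv : Function.Bijective (sm (toPMMap v) y)) (hKG : K G) : K M := by
  -- a general step: from `K` of the source or target of a generic isomorphism
  have hinj : ∀ {A B : X.Modules} (w : A ⟶ B), Function.Injective (sm (toPMMap w) y) →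
      Function.Injective (sm (toPMMap (Abelian.factorThruImage w)) y) := by
    intro A B w hw a b hab
    apply hw
    rw [← Abelian.image.fac w, sm_comp_apply, sm_comp_apply, hab]
  -- `u`
  have hCu : Coh.IsCoh (cokernel u) := isCoh_cokernel hH hG u
  have hIu : Coh.IsCoh (Abelian.image u) := isCoh_kernel hG hCu (cokernel.π u)
  have hKu : Coh.IsCoh (kernel (Abelian.factorThruImage u)) := isCoh_kernel hH hIu _
  have hCuZ : CohB1.support (cokernel u) ⊆ Z := (support_subset_of_epi (cokernel.π u)).trans hGZ
  have hKuZ : CohB1.support (kernel (Abelian.factorThruImage u)) ⊆ Z :=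
    (support_subset_of_mono (kernel.ι (Abelian.factorThruImage u))).trans hHZ
  have h1 : K (cokernel u) := hIH _ hCu hCuZ (not_mem_support_cokernel u y hu.2)
  have h2 : K (kernel (Abelian.factorThruImage u)) :=
    hIH _ hKu hKuZ (not_mem_support_kernel _ y (hinj u hu.1))
  have h3 : K (Abelian.image u) :=
    (hyp.ex _ (shortExact_kernel (cokernel.π u)) hIu hG hCu (hGZ.trans hZX')).2.2 hKG h1
  have h4 : K H :=
    (hyp.ex _ (shortExact_kernel (Abelian.factorThruImage u)) hKu hH hIu (hHZ.trans hZX')).2.1 h2 h3
  -- `v`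
  have hCv : Coh.IsCoh (cokernel v) := isCoh_cokernel hH hM v
  have hIv : Coh.IsCoh (Abelian.image v) := isCoh_kernel hM hCv (cokernel.π v)
  have hKv : Coh.IsCoh (kernel (Abelian.factorThruImage v)) := isCoh_kernel hH hIv _
  have hCvZ : CohB1.support (cokernel v) ⊆ Z := (support_subset_of_epi (cokernel.π v)).trans hMZ
  have hKvZ : CohB1.support (kernel (Abelian.factorThruImage v)) ⊆ Z :=
    (support_subset_of_mono (kernel.ι (Abelian.factorThruImage v))).trans hHZ
  have h5 : K (cokernel v) := hIH _ hCv hCvZ (not_mem_support_cokernel v y hv.2)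
  have h6 : K (kernel (Abelian.factorThruImage v)) :=
    hIH _ hKv hKvZ (not_mem_support_kernel _ y (hinj v hv.1))
  have h7 : K (Abelian.image v) :=
    (hyp.ex _ (shortExact_kernel (Abelian.factorThruImage v)) hKv hH hIv (hHZ.trans hZX')).1 h6 h4
  exact (hyp.ex _ (shortExact_kernel (cokernel.π v)) hIv hM hCv (hMZ.trans hZX')).2.1 h7 h5

end Chain

end Groth.Agent.Lib.Seat21.Dev
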