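import Groth.Agent.Lib.Seat21DevMul

/-!
# Dévissage with extensions and direct-sum roots, generator given up to `J · G` (seat 21)

Namespace `Groth.Agent.Lib.Seat21.Dev`: `K_of_killed_summand` (Stacks 01YL-type step).
-/

set_option autoImplicit false
set_option linter.style.haveILetI false
universe u
open CategoryTheory Limits AlgebraicGeometry TopologicalSpace Opposite

noncomputable section

namespace Groth.Agent.Lib.Seat21.Dev

open Groth.Agent.Lib.Helper1.StalkTensor Groth.Agent.Lib.Helper1.Sky Groth.Agent.Lib.Seat21.QSub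

variable {X : Scheme.{u}} {K : X.Modules → Prop} {X' : Set X}

/-- the step for modules whose stalk at `y` is killed by the maximal ideal, when the class is stable under extensions and
direct-sum roots and, for every ideal `J` invertible at `y`, contains a subobject of `J · G` with the same stalk at `y` -/
theorem K_of_killed_summand [IsNoetherian X] (hyp : HypE K X')
    (hroot : ∀ (F : X.Modules) (n : ℕ), Coh.IsCoh F → K (pw F n) → K F)
    {Z : Set X} (hZX' : Z ⊆ X') {y : X}
    (hIH : ∀ F : X.Modules, Coh.IsCoh F → CohB1.support F ⊆ Z → y ∉ CohB1.support F → K F)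
    (G : X.Modules) (hG : Coh.IsCoh G) (hGZ : CohB1.support G ⊆ Z) (hyG : y ∈ CohB1.support G)
    (hGk : ∀ r ∈ IsLocalRing.maximalIdeal (Ox y), ∀ a : St (toPM G) y, r • a = 0)
    (hG' : ∀ J : X.IdealSheafData, y ∉ (J.support : Set X) →
      ∃ (G' : X.Modules) (j : G' ⟶ G), Mono j ∧ Coh.IsCoh G' ∧
        (∀ (T : X.affineOpens) (t : Γ(G', T.1)),
          j.app T.1 t ∈ J.ideal T • (⊤ : Submodule Γ(X, T.1) Γ(G, T.1))) ∧
        Function.Bijective (sm (toPMMap j) y) ∧ K G')
    (F : X.Modules) (hF : Coh.IsCoh F) (hFZ : CohB1.support F ⊆ Z)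
    (hkill : ∀ r ∈ IsLocalRing.maximalIdeal (Ox y), ∀ a : St (toPM F) y, r • a = 0) : K F := by
  haveI : Module.Finite (Ox y) (St (toPM F) y) := finite_stalk_of_isCoh hF y
  haveI : Module.Finite (Ox y) (St (toPM G) y) := finite_stalk_of_isCoh hG y
  obtain ⟨s, ⟨eF⟩⟩ := exists_linearEquiv_pi_of_killed hkill
  obtain ⟨r, ⟨eG⟩⟩ := exists_linearEquiv_pi_of_killed hGk
  cases s with
  | zero =>
    refine hIH F hF hFZ (not_mem_support_of_forall_eq_zero fun a => ?_)
    apply eF.injective
    exact Subsingleton.elim _ _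
  | succ s =>
  cases r with
  | zero =>
    exfalso
    refine (not_mem_support_of_forall_eq_zero fun a => ?_) hyG
    apply eG.injective
    exact Subsingleton.elim _ _
  | succ r =>
    obtain ⟨eGs⟩ := stalk_pw eG s
    obtain ⟨eFr⟩ := stalk_pw eF r
    let θ : St (toPM (pw G s)) y ≃ₗ[Ox y] St (toPM (pw F r)) y :=
      eGs ≪≫ₗ swapLinearEquiv (Ox y) (Ox y ⧸ IsLocalRing.maximalIdeal (Ox y)) (Fin (s + 1)) (Fin (r + 1)) ≪≫ₗ
        eFr.symm
    have hGs : Coh.IsCoh (pw G s) := isCoh_pw hG s
    have hFr : Coh.IsCoh (pw F r) := isCoh_pw hF r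
    have hGsZ : CohB1.support (pw G s) ⊆ Z := (support_pw G s).trans hGZ
    have hFrZ : CohB1.support (pw F r) ⊆ Z := (support_pw F r).trans hFZ
    obtain ⟨H, u, v, hH, hu, hv, hHs⟩ := exists_correspondence (pw G s) (pw F r) hGs hFr y θ
    have hHZ : CohB1.support H ⊆ Z := hHs.trans (Set.union_subset hGsZ hFrZ)
    haveI := hH.1
    haveI := hGs.1
    haveI := hFr.1
    -- the closed set outside of which `u` and `v` are injective
    have hCu₀ : Coh.IsCoh (cokernel u) := isCoh_cokernel hH hGs u
    have hIu₀ : Coh.IsCoh (Abelian.image u) := isCoh_kernel hGs hCu₀ (cokernel.π u)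
    have hKu₀ : Coh.IsCoh (kernel (Abelian.factorThruImage u)) := isCoh_kernel hH hIu₀ _
    have hCv₀ : Coh.IsCoh (cokernel v) := isCoh_cokernel hH hFr v
    have hIv₀ : Coh.IsCoh (Abelian.image v) := isCoh_kernel hFr hCv₀ (cokernel.π v)
    have hKv₀ : Coh.IsCoh (kernel (Abelian.factorThruImage v)) := isCoh_kernel hH hIv₀ _
    have hinj : ∀ {A B : X.Modules} (w : A ⟶ B), Function.Injective (sm (toPMMap w) y) →
        Function.Injective (sm (toPMMap (Abelian.factorThruImage w)) y) := by
      intro A B w hw a b hab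
      apply hw
      rw [← Abelian.image.fac w, sm_comp_apply, sm_comp_apply, hab]
    have hC₁ : IsClosed (CohB1.support (kernel (Abelian.factorThruImage u)) ∪
        CohB1.support (kernel (Abelian.factorThruImage v))) :=
      (Groth.Agent.S0020.result X _ hKu₀.2).union (Groth.Agent.S0020.result X _ hKv₀.2)
    have hyC₁ : y ∉ CohB1.support (kernel (Abelian.factorThruImage u)) ∪
        CohB1.support (kernel (Abelian.factorThruImage v)) := by
      rintro (h | h)
      · exact not_mem_support_kernel _ y (hinj u hu.1) h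
      · exact not_mem_support_kernel _ y (hinj v hv.1) h
    obtain ⟨nu, hnu⟩ := ar_global (I := Scheme.IdealSheafData.vanishingIdeal ⟨_, hC₁⟩) hH u
      (fun T hT a ha x hx => sm_injective_of_notMem_support_kernel u x
        (fun h => notMem_of_mem_basicOpen_of_mem_vanishingIdeal hC₁ hT ha hx (Or.inl h)))
    obtain ⟨nv, hnv⟩ := ar_global (I := Scheme.IdealSheafData.vanishingIdeal ⟨_, hC₁⟩) hH v
      (fun T hT a ha x hx => sm_injective_of_notMem_support_kernel v x
        (fun h => notMem_of_mem_basicOpen_of_mem_vanishingIdeal hC₁ hT ha hx (Or.inr h)))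
    let N : SubSh H := powSub (Scheme.IdealSheafData.vanishingIdeal ⟨_, hC₁⟩) (max nu nv) H
    have hNq : N.QCOn ⊤ := qcOn_powSub _ _
    have hN : Coh.IsCoh N.toModules := isCoh_subSh hH N hNq
    have hNZ : CohB1.support N.toModules ⊆ Z := (support_subset_of_mono N.ι).trans hHZ
    have hιy : Function.Bijective (sm (toPMMap N.ι) y) := by
      refine ⟨sm_injective_of_mono N.ι y, fun b => ?_⟩
      have htop := stalkSub_powSub_eq_top (Scheme.IdealSheafData.vanishingIdeal ⟨_, hC₁⟩) (max nu nv) H y
        (exists_mem_vanishingIdeal_of_notMem hC₁ hyC₁)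
      exact exists_of_mem_stalkSub N y (htop ▸ Submodule.mem_top)
    let uN : N.toModules ⟶ pw G s := N.ι ≫ u
    let vN : N.toModules ⟶ pw F r := N.ι ≫ v
    have huN : Function.Bijective (sm (toPMMap uN) y) := by
      have : sm (toPMMap uN) y = sm (toPMMap u) y ∘ sm (toPMMap N.ι) y := funext fun a => sm_comp_apply N.ι u y a
      rw [this]
      exact hu.comp hιy
    have hvN : Function.Bijective (sm (toPMMap vN) y) := by
      have : sm (toPMMap vN) y = sm (toPMMap v) y ∘ sm (toPMMap N.ι) y := funext fun a => sm_comp_apply N.ι v y a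
      rw [this]
      exact hv.comp hιy
    haveI : Mono uN := by
      apply mono_of_injective_app
      intro V
      rw [injective_iff_map_eq_zero]
      intro t ht
      apply N.ι_app_injective V
      rw [map_zero]
      exact hnu _ (le_max_left nu nv) V _ (N.ι_app_mem V t) ht
    haveI : Mono vN := by
      apply mono_of_injective_app
      intro V
      rw [injective_iff_map_eq_zero]
      intro t ht
      apply N.ι_app_injective V
      rw [map_zero]
      exact hnv _ (le_max_right nu nv) V _ (N.ι_app_mem V t) ht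
    -- the cokernel of `uN`
    have hQ : Coh.IsCoh (cokernel uN) := isCoh_cokernel hN hGs uN
    haveI := hQ.1
    have hC₂ : IsClosed (CohB1.support (cokernel uN)) := Groth.Agent.S0020.result X _ hQ.2
    have hyC₂ : y ∉ CohB1.support (cokernel uN) := not_mem_support_cokernel uN y huN.2
    obtain ⟨n₂, hn₂⟩ := ar_global (I := Scheme.IdealSheafData.vanishingIdeal ⟨_, hC₂⟩) hQ
      (0 : cokernel uN ⟶ cokernel uN)
      (fun T hT a ha x hx => by
        have hx' := notMem_of_mem_basicOpen_of_mem_vanishingIdeal hC₂ hT ha hx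
        haveI : Subsingleton (St (toPM (cokernel uN)) x) := subsingleton_stalk_of_not_mem_support hx'
        exact fun a b _ => Subsingleton.elim a b)
    let J' : X.IdealSheafData := Scheme.IdealSheafData.vanishingIdeal ⟨_, hC₂⟩ ^ (n₂ + 1)
    have hyJ' : y ∉ (J'.support : Set X) := by
      show y ∉ ((Scheme.IdealSheafData.vanishingIdeal ⟨_, hC₂⟩ ^ (n₂ + 1)).support : Set X)
      rw [Scheme.IdealSheafData.support_pow_succ, Scheme.IdealSheafData.coe_support_vanishingIdeal]
      exact hyC₂
    obtain ⟨G', j, hj, hG'c, hjmem, hjy, hKG'⟩ := hG' J' hyJ'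
    haveI := hj
    -- `J'` kills the cokernel
    have hkillQ : ∀ (T : X.affineOpens), ∀ a ∈ J'.ideal T, ∀ q : Γ(cokernel uN, T.1), a • q = 0 := by
      intro T a ha q
      have ha' : a ∈ Jv (Scheme.IdealSheafData.vanishingIdeal ⟨_, hC₂⟩) T.1 ^ n₂ := by
        rw [Jv_eq_of_affine]
        have h1 : a ∈ (Scheme.IdealSheafData.vanishingIdeal ⟨_, hC₂⟩).ideal T ^ (n₂ + 1) := ha
        exact Ideal.pow_le_pow_right (Nat.le_succ n₂) h1
      have hmem : a • q ∈ (powSub (Scheme.IdealSheafData.vanishingIdeal ⟨_, hC₂⟩) n₂ (cokernel uN)).carrier T.1 :=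
        le_powSub _ n₂ T.1 (Submodule.smul_mem_smul ha' Submodule.mem_top)
      exact hn₂ n₂ le_rfl T.1 _ hmem rfl
    have hzero : pwMap j s ≫ cokernel.π uN = 0 :=
      pwMap_comp_eq_zero j (fun ρ => comp_eq_zero_of_killed j ρ (fun T => J'.ideal T) hjmem hkillQ) s _
    let lam : pw G' s ⟶ N.toModules := Abelian.monoLift uN (pwMap j s) hzero
    have hlam : lam ≫ uN = pwMap j s := Abelian.monoLift_comp uN (pwMap j s) hzero
    haveI : Mono lam := mono_of_mono_fac hlam
    have hlamy : Function.Bijective (sm (toPMMap lam) y) := by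
      refine ⟨sm_injective_of_mono lam y, fun b => ?_⟩
      obtain ⟨a, ha⟩ := (sm_pwMap_bijective j y hjy s).2 (sm (toPMMap uN) y b)
      refine ⟨a, huN.1 ?_⟩
      rw [← sm_comp_apply, hlam, ha]
    let φ : pw G' s ⟶ pw F r := lam ≫ vN
    haveI : Mono φ := mono_comp lam vN
    have hφy : Function.Bijective (sm (toPMMap φ) y) := by
      have : sm (toPMMap φ) y = sm (toPMMap vN) y ∘ sm (toPMMap lam) y := funext fun a => sm_comp_apply lam vN y a
      rw [this]
      exact hvN.comp hlamy
    have hG'Z : CohB1.support G' ⊆ Z := (support_subset_of_mono j).trans hGZ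
    have hKG's : K (pw G' s) := K_pw hyp hG'c (hG'Z.trans hZX') hKG' s
    have hG's : Coh.IsCoh (pw G' s) := isCoh_pw hG'c s
    have hCφ : Coh.IsCoh (cokernel φ) := isCoh_cokernel hG's hFr φ
    have hCφZ : CohB1.support (cokernel φ) ⊆ Z := (support_subset_of_epi (cokernel.π φ)).trans hFrZ
    have h5 : K (cokernel φ) := hIH _ hCφ hCφZ (not_mem_support_cokernel φ y hφy.2)
    have hKFr : K (pw F r) := hyp.ext _ (shortExact_cokernel φ) hG's hFr hCφ (hFrZ.trans hZX') hKG's h5
    exact hroot F r hF hKFr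

end Groth.Agent.Lib.Seat21.Dev
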