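import Groth.Agent.Lib.Seat21DevH1
import Groth.Agent.Lib.Seat21DevPushCoh
import Groth.Agent.Lib.Seat21DevSummand
import Groth.Agent.Lib.Seat16SubSheaf
import Groth.Agent.Lib.Helper22IdealComap
import Groth.Agent.S0012
import Groth.Agent.S0007

/-!
# The submodule `f_* ((f⁻¹ J) F) ⊆ f_* F` for an affine morphism `f` (seat 21)

Namespace `Groth.Agent.Lib.Seat21.Dev`.

For an affine morphism `f : Y ⟶ X`, an ideal sheaf `J` on `X` and a quasi-coherent module `F` on `Y`:

* `pushMul f J F`, `pushMulι f J F` : the direct image of `(J.comap f) · F ⟶ F`.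
* `pushMulι_app_mem` : its sections over an affine open `T` lie in `J(T) · Γ(f_* F, T)`.
* `sm_pushMulι_bijective` : it is bijective on the stalks outside of the support of `J`.
* `subsingleton_HH_pushMul` : its higher cohomology vanishes when `Y` is affine.
* `isCoh_pushMul` : it is coherent when `f` is finite, `X` is locally Noetherian and `F` is coherent.
-/

set_option autoImplicit false
set_option linter.style.haveILetI false
universe u
open CategoryTheory Limits AlgebraicGeometry TopologicalSpace Opposite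

noncomputable section

namespace Groth.Agent.Lib.Seat21.Dev

open Groth.Agent.Lib.Helper1.StalkTensor Groth.Agent.Lib.Helper1.Sky Groth.Agent.Lib.Seat21.QSub

/-- extension of an ideal along a ring homomorphism and the generated submodules -/
theorem mem_smul_top_of_mem_map_smul_top {A B N N' : Type*} [CommRing A] [CommRing B] [AddCommGroup N]
    [AddCommGroup N'] [Module A N'] [Module B N] (φ : A →+* B) (e : N →+ N')
    (hφ : ∀ (a : A) (n : N), e (φ a • n) = a • e n) (I : Ideal A) (m : N)
    (hm : m ∈ (I.map φ) • (⊤ : Submodule B N)) : e m ∈ I • (⊤ : Submodule A N') := by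
  have key : ∀ r ∈ I.map φ, ∀ n : N, e (r • n) ∈ I • (⊤ : Submodule A N') := by
    intro r hr
    refine Submodule.span_induction (p := fun r _ => ∀ n : N, e (r • n) ∈ I • (⊤ : Submodule A N'))
      ?_ ?_ ?_ ?_ hr
    · rintro _ ⟨a, ha, rfl⟩ n
      rw [hφ]
      exact Submodule.smul_mem_smul ha Submodule.mem_top
    · intro n
      rw [zero_smul, map_zero]
      exact Submodule.zero_mem _
    · intro r s _ _ hr hs n
      rw [add_smul, map_add]
      exact Submodule.add_mem _ (hr n) (hs n)
    · intro b r _ hr n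
      rw [smul_eq_mul, mul_comm, mul_smul]
      exact hr (b • n)
  refine Submodule.smul_induction_on hm (fun r hr n _ => key r hr n) (fun x y hx hy => ?_)
  rw [map_add]
  exact Submodule.add_mem _ hx hy

variable {Y X : Scheme.{u}} (f : Y ⟶ X) (J : X.IdealSheafData) (F : Y.Modules)

/-- the direct image of `(f⁻¹ J) · F` -/
def pushMul : X.Modules := (Scheme.Modules.pushforward f).obj ((Dual3.idealMul (J.comap f)).obj F)

/-- the inclusion `f_* ((f⁻¹ J) · F) ⟶ f_* F` -/
def pushMulι : pushMul f J F ⟶ (Scheme.Modules.pushforward f).obj F :=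
  (Scheme.Modules.pushforward f).map (Dual3.idealMulι (J.comap f) F)

instance mono_pushMulι : Mono (pushMulι f J F) :=
  inferInstanceAs (Mono ((Scheme.Modules.pushforward f).map (Dual3.idealMulι (J.comap f) F)))

theorem pushMulι_app_mem [IsAffineHom f] [F.IsQuasicoherent] (T : X.affineOpens) (t : Γ(pushMul f J F, T.1)) :
    (pushMulι f J F).app T.1 t ∈
      J.ideal T • (⊤ : Submodule Γ(X, T.1) Γ((Scheme.Modules.pushforward f).obj F, T.1)) := by
  let U : Y.affineOpens := ⟨f ⁻¹ᵁ T.1, T.2.preimage f⟩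
  let t' : Γ((Dual3.idealMul (J.comap f)).obj F, U.1) := t
  have h1 := Groth.Agent.Lib.Seat16.SubSheaf.idealMulι_app_mem (J.comap f) F U t'
  rw [Groth.Agent.Lib.Helper22.IdealComap.ideal_comap_eq_map f J U T le_rfl] at h1
  have happ : f.appLE T.1 U.1 le_rfl = f.app T.1 := Scheme.Hom.appLE_eq_app f
  rw [happ] at h1
  let e : Γ(F, U.1) →+ Γ((Scheme.Modules.pushforward f).obj F, T.1) := AddMonoidHom.id _
  exact mem_smul_top_of_mem_map_smul_top (N := Γ(F, U.1)) (N' := Γ((Scheme.Modules.pushforward f).obj F, T.1))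
    (f.app T.1).hom e (fun a n => rfl) (J.ideal T) _ h1

/-- outside of the support of `J`, the inclusion is bijective on stalks -/
theorem sm_pushMulι_bijective [IsAffineHom f] [F.IsQuasicoherent] (y : X) (hy : y ∉ (J.support : Set X)) :
    Function.Bijective (sm (toPMMap (pushMulι f J F)) y) := by
  refine ⟨sm_injective_of_mono (pushMulι f J F) y, fun b => ?_⟩
  obtain ⟨V, hyV, s, rfl⟩ := exists_gm_eq (P := toPM ((Scheme.Modules.pushforward f).obj F)) b
  obtain ⟨T0, hT0, hyT0, hT0V⟩ := exists_isAffineOpen_mem_and_subset hyV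
  have h1 : y ∉ X.zeroLocus (U := T0) (J.ideal ⟨T0, hT0⟩) := fun h =>
    hy ((Scheme.IdealSheafData.mem_support_iff_of_mem (U := ⟨T0, hT0⟩) hyT0).2 h)
  rw [Scheme.mem_zeroLocus_iff] at h1
  push Not at h1
  obtain ⟨a, ha, hya⟩ := h1
  let T : X.affineOpens := X.affineBasicOpen (U := ⟨T0, hT0⟩) a
  have hyT : y ∈ T.1 := hya
  have hTV : T.1 ≤ V := (X.basicOpen_le a).trans hT0V
  have htop : J.ideal T = ⊤ := by
    rw [← J.map_ideal_basicOpen ⟨T0, hT0⟩ a]
    exact Ideal.eq_top_of_isUnit_mem _ (Ideal.mem_map_of_mem _ ha) (X.toRingedSpace.isUnit_res_basicOpen a)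
  let U : Y.affineOpens := ⟨f ⁻¹ᵁ T.1, T.2.preimage f⟩
  let sT : Γ((Scheme.Modules.pushforward f).obj F, T.1) := res ((Scheme.Modules.pushforward f).obj F) hTV s
  let sT' : Γ(F, U.1) := sT
  have hmem : sT' ∈ ((J.comap f).ideal U • ⊤ : Submodule Γ(Y, U.1) Γ(F, U.1)) := by
    rw [Groth.Agent.Lib.Helper22.IdealComap.ideal_comap_eq_map f J U T le_rfl, htop, Ideal.map_top,
      Submodule.top_smul]
    exact Submodule.mem_top
  obtain ⟨t, ht⟩ := Groth.Agent.Lib.Seat16.SubSheaf.exists_idealMulι_app_eq (J.comap f) F U sT' hmem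
  let t' : Γ(pushMul f J F, T.1) := t
  refine ⟨gmM (pushMul f J F) y T.1 hyT t', ?_⟩
  rw [smM_gmM]
  have h2 : (pushMulι f J F).app T.1 t' = sT := ht
  rw [h2]
  exact gmM_res ((Scheme.Modules.pushforward f).obj F) y hTV hyT s

/-- vanishing of the higher cohomology when the source is affine -/
theorem subsingleton_HH_pushMul [IsAffineHom f] [IsAffine Y] [F.IsQuasicoherent] (i : ℕ) (hi : 0 < i) :
    Subsingleton (Coh.HH X (pushMul f J F) i) := by
  haveI : ((Dual3.idealMul (J.comap f)).obj F).IsQuasicoherent :=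
    Groth.Agent.Lib.Seat16.SubSheaf.isQuasicoherent_idealMul _ _
  obtain ⟨e⟩ := Groth.Agent.S0012.result f ((Dual3.idealMul (J.comap f)).obj F) i
  haveI := Groth.Agent.S0007.result Y ((Dual3.idealMul (J.comap f)).obj F) i hi
  exact e.symm.toEquiv.subsingleton

/-- direct images of coherent modules along finite morphisms -/
theorem isCoh_pushforward_of_isFinite [IsFinite f] (hF : Coh.IsCoh F) :
    Coh.IsCoh ((Scheme.Modules.pushforward f).obj F) := by
  haveI := hF.1
  exact ⟨Groth.Agent.Lib.Helper23.QCohLocal.isQuasicoherent_pushforward f F,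
    (Groth.Agent.Lib.Helper2.FinPushFP.isFiniteType_pushforward_iff f F).1 hF.2⟩

theorem isCoh_pushMul [IsFinite f] [IsLocallyNoetherian X] (hF : Coh.IsCoh F) : Coh.IsCoh (pushMul f J F) := by
  haveI := hF.1
  haveI : IsLocallyNoetherian Y := LocallyOfFiniteType.isLocallyNoetherian f
  have hq := Groth.Agent.Lib.Seat16.SubSheaf.isQuasicoherent_idealMul (J.comap f) F
  exact isCoh_pushforward_of_isFinite f _ (isCoh_of_mono (Dual3.idealMulι (J.comap f) F) hq hF)

end Groth.Agent.Lib.Seat21.Dev
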