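import Groth.Agent.Lib.Seat21DevSteps

set_option autoImplicit false
set_option linter.style.haveILetI false
universe u
open CategoryTheory Limits AlgebraicGeometry TopologicalSpace Opposite

noncomputable section

namespace Groth.Agent.Lib.Seat21.Dev

open Groth.Agent.Lib.Helper1.StalkTensor Groth.Agent.Lib.Helper1.Sky Groth.Agent.Lib.Seat21.QSub

variable {X : Scheme.{u}}

/-- **Dévissage** (EGA III 3.1.2): the core induction. -/
theorem core [IsNoetherian X] {K : X.Modules → Prop} {X' : Set X} (hyp : Hyp K X') (hX' : IsClosed X')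
    (hgen : ∀ (Z : Set X), IsClosed Z → IsIrreducible Z → Z ⊆ X' → ∀ y : X, closure {y} = Z →
      (∀ F : X.Modules, Coh.IsCoh F → CohB1.support F ⊆ Z → y ∉ CohB1.support F → K F) →
      ∃ G : X.Modules, Coh.IsCoh G ∧ K G ∧ CohB1.support G ⊆ Z ∧
        ∀ F : X.Modules, Coh.IsCoh F → CohB1.support F ⊆ Z → RankOne F y →
          ∃ M : X.Modules, Coh.IsCoh M ∧ CohB1.support M ⊆ Z ∧
            Nonempty (St (toPM M) y ≃ₗ[Ox y] St (toPM G) y) ∧ (K M → K F))
    (F : X.Modules) (hF : Coh.IsCoh F) (hsupp : CohB1.support F ⊆ X') : K F := by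
  suffices H : ∀ Y : Closeds X, (Y : Set X) ⊆ X' → ∀ F : X.Modules, Coh.IsCoh F →
      CohB1.support F ⊆ (Y : Set X) → K F from H ⟨X', hX'⟩ le_rfl F hF hsupp
  intro Y
  induction Y using WellFoundedLT.induction with
  | ind Y ih =>
  intro hYX' F hF hFY
  by_cases hemp : (Y : Set X) = ∅
  · exact hyp.zero F (isZero_of_support_subset_empty F (hemp ▸ hFY))
  by_cases hirr : IsIrreducible (Y : Set X)
  · -- the irreducible case
    obtain ⟨y, hy⟩ := QuasiSober.sober hirr Y.isClosed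
    have hyY : closure {y} = (Y : Set X) := hy.def
    have hyin : y ∈ (Y : Set X) := hyY ▸ subset_closure (Set.mem_singleton y)
    have hIH : ∀ F' : X.Modules, Coh.IsCoh F' → CohB1.support F' ⊆ (Y : Set X) →
        y ∉ CohB1.support F' → K F' := by
      intro F' hF' hF'Y hyF'
      let Y' : Closeds X := ⟨CohB1.support F', Groth.Agent.S0020.result X F' hF'.2⟩
      have hle : Y' ≤ Y := hF'Y
      have hne : Y' ≠ Y := fun h => hyF' (show y ∈ (Y' : Set X) from h ▸ hyin)
      exact ih Y' (lt_of_le_of_ne hle hne) (hF'Y.trans hYX') F' hF' le_rfl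
    obtain ⟨G, hG, hKG, hGY, hM⟩ := hgen Y Y.isClosed hirr hYX' y hyY hIH
    have hR1 := step_c hyp hYX' y hIH G hG hKG hGY hM
    have hB : ∀ F' : X.Modules, Coh.IsCoh F' → CohB1.support F' ⊆ (Y : Set X) →
        (∀ r ∈ IsLocalRing.maximalIdeal (Ox y), ∀ a : St (toPM F') y, r • a = 0) → K F' := by
      intro F' hF' hF'Y hk
      haveI : Module.Finite (Ox y) (St (toPM F') y) := finite_stalk_of_isCoh hF' y
      obtain ⟨S, hS⟩ := (Module.Finite.fg_top : (⊤ : Submodule (Ox y) (St (toPM F') y)).FG)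
      exact step_b hyp hYX' y hIH hR1 S.card F' hF' hF'Y hk ⟨S, le_rfl, hS⟩
    obtain ⟨d, hd⟩ := exists_pow_le_annihilator_stalk hF y (hyY ▸ hFY)
    exact step_a hyp hYX' y hIH hB d F hF hFY (fun r hr a => Module.mem_annihilator.1 (hd hr) a)
  · -- the reducible case
    have hne : (Y : Set X).Nonempty := Set.nonempty_iff_ne_empty.2 hemp
    have hnp : ¬ IsPreirreducible (Y : Set X) := fun h => hirr ⟨hne, h⟩
    rw [isPreirreducible_iff_isClosed_union_isClosed] at hnp
    simp only [not_forall] at hnp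
    obtain ⟨Z₁, Z₂, hZ₁, hZ₂, hcov, hnot⟩ := hnp
    rw [not_or] at hnot
    let Y₁ : Closeds X := ⟨(Y : Set X) ∩ Z₁, Y.isClosed.inter hZ₁⟩
    let Y₂ : Closeds X := ⟨(Y : Set X) ∩ Z₂, Y.isClosed.inter hZ₂⟩
    have hY₁ : Y₁ < Y := lt_of_le_of_ne Set.inter_subset_left
      (fun h => hnot.1 (fun x hx => ((show (Y₁ : Set X) = Y from congrArg _ h) ▸ hx : x ∈ (Y₁ : Set X)).2))
    have hY₂ : Y₂ < Y := lt_of_le_of_ne Set.inter_subset_left
      (fun h => hnot.2 (fun x hx => ((show (Y₂ : Set X) = Y from congrArg _ h) ▸ hx : x ∈ (Y₂ : Set X)).2))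
    haveI := hF.1
    have hq := qcOn_suppSub F Y₂.isClosed
    have hF₁ : Coh.IsCoh (suppSub F (Y₂ : Set X)).toModules := isCoh_subSh hF _ hq
    have hQ : Coh.IsCoh (cokernel (suppSub F (Y₂ : Set X)).ι) := isCoh_cokernel hF₁ hF _
    have hK₁ : K (suppSub F (Y₂ : Set X)).toModules :=
      ih Y₂ hY₂ (Set.inter_subset_left.trans hYX') _ hF₁ (support_suppSub F _)
    have hK₂ : K (cokernel (suppSub F (Y₂ : Set X)).ι) := by
      refine ih Y₁ hY₁ (Set.inter_subset_left.trans hYX') _ hQ ?_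
      refine support_cokernel_suppSub F (Y₂ : Set X) (Y₁ : Set X) Y₁.isClosed ?_
      intro x hx
      have hxY := hFY hx
      rcases hcov hxY with h | h
      · exact Or.inl ⟨hxY, h⟩
      · exact Or.inr ⟨hxY, h⟩
    haveI : Mono (suppSub F (Y₂ : Set X)).ι := SubSh.mono_ι _
    exact (hyp.ex _ (shortExact_cokernel (suppSub F (Y₂ : Set X)).ι) hF₁ hF hQ (hFY.trans hYX')).2.1 hK₁ hK₂

end Groth.Agent.Lib.Seat21.Dev
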