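import Groth.Agent.Lib.Seat21DevRank
import Groth.Prelude.Def_ClSub2

set_option autoImplicit false
set_option linter.style.haveILetI false
universe u
open CategoryTheory Limits AlgebraicGeometry TopologicalSpace Opposite

noncomputable section

namespace Groth.Agent.Lib.Seat21.Dev

open Groth.Agent.Lib.Helper1.StalkTensor Groth.Agent.Lib.Helper1.Sky Groth.Agent.Lib.Seat21.QSub

variable {X : Scheme.{u}}

/-- a finite module over a local ring killed by the maximal ideal is a finite product of copies of the residue field -/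
theorem exists_linearEquiv_pi_of_killed {R V : Type*} [CommRing R] [IsLocalRing R] [AddCommGroup V] [Module R V]
    [Module.Finite R V] (h : ∀ r ∈ IsLocalRing.maximalIdeal R, ∀ v : V, r • v = 0) :
    ∃ q : ℕ, Nonempty (V ≃ₗ[R] (Fin q → R ⧸ IsLocalRing.maximalIdeal R)) := by
  have ht : Module.IsTorsionBySet R V (IsLocalRing.maximalIdeal R : Set R) := fun v r => h r.1 r.2 v
  letI : Module (R ⧸ IsLocalRing.maximalIdeal R) V := ht.module
  haveI : IsScalarTower R (R ⧸ IsLocalRing.maximalIdeal R) V := ht.isScalarTower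
  letI : Field (R ⧸ IsLocalRing.maximalIdeal R) := Ideal.Quotient.field _
  haveI : Module.Finite (R ⧸ IsLocalRing.maximalIdeal R) V :=
    Module.Finite.of_restrictScalars_finite R (R ⧸ IsLocalRing.maximalIdeal R) V
  let b := Module.finBasis (R ⧸ IsLocalRing.maximalIdeal R) V
  exact ⟨_, ⟨(b.equivFun).restrictScalars R⟩⟩

theorem RankOne.nonempty_linearEquiv_quotient {F : X.Modules} {y : X} (hF : RankOne F y) :
    Nonempty (St (toPM F) y ≃ₗ[Ox y] (Ox y ⧸ IsLocalRing.maximalIdeal (Ox y))) := by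
  obtain ⟨c, hc, hs, hm⟩ := hF
  refine nonempty_linearEquiv_of_cyclic c hc hs hm (1 : Ox y ⧸ IsLocalRing.maximalIdeal (Ox y)) one_ne_zero ?_ ?_
  · intro w
    obtain ⟨r, rfl⟩ := Ideal.Quotient.mk_surjective w
    exact ⟨r, by rw [Algebra.smul_def, mul_one]; rfl⟩
  · intro r hr
    rw [Algebra.smul_def, mul_one]
    exact Ideal.Quotient.eq_zero_iff_mem.2 hr

/-- the stalk of a binary direct sum -/
def stalkBiprod (A B : X.Modules) (y : X) :
    St (toPM (A ⊞ B)) y ≃ₗ[Ox y] St (toPM A) y × St (toPM B) y :=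
  LinearEquiv.ofBijective
    ((smₗ (toPMMap (biprod.fst : A ⊞ B ⟶ A)) y).prod (smₗ (toPMMap (biprod.snd : A ⊞ B ⟶ B)) y))
    ⟨by
      intro p p' h
      rw [← sub_eq_zero]
      have h1 : sm (toPMMap (biprod.fst : A ⊞ B ⟶ A)) y p = sm (toPMMap (biprod.fst : A ⊞ B ⟶ A)) y p' :=
        congrArg Prod.fst h
      have h2 : sm (toPMMap (biprod.snd : A ⊞ B ⟶ B)) y p = sm (toPMMap (biprod.snd : A ⊞ B ⟶ B)) y p' :=
        congrArg Prod.snd h
      refine biprod_stalk_ext y _ ?_ ?_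
      · rw [map_sub, h1, sub_self]
      · rw [map_sub, h2, sub_self],
    by
      rintro ⟨a, b⟩
      refine ⟨sm (toPMMap (biprod.inl : A ⟶ A ⊞ B)) y a + sm (toPMMap (biprod.inr : B ⟶ A ⊞ B)) y b,
        Prod.ext ?_ ?_⟩
      · change sm (toPMMap (biprod.fst : A ⊞ B ⟶ A)) y _ = a
        rw [map_add, ← sm_comp_apply, ← sm_comp_apply, biprod.inl_fst, biprod.inr_fst, sm_id_apply,
          sm_zero_apply, add_zero]
      · change sm (toPMMap (biprod.snd : A ⊞ B ⟶ B)) y _ = b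
        rw [map_add, ← sm_comp_apply, ← sm_comp_apply, biprod.inl_snd, biprod.inr_snd, sm_id_apply,
          sm_zero_apply, zero_add]⟩

theorem support_biprod (A B : X.Modules) : CohB1.support (A ⊞ B) ⊆ CohB1.support A ∪ CohB1.support B := by
  intro x hx
  by_contra hcon
  rw [Set.mem_union, not_or, mem_support_iff, mem_support_iff, not_not, not_not] at hcon
  rw [mem_support_iff] at hx
  apply hx
  refine ⟨fun a b => ?_⟩
  rw [← sub_eq_zero]
  exact biprod_stalk_ext x _ (hcon.1.elim _ _) (hcon.2.elim _ _)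

/-- the direct sum of `n + 1` copies of `F` -/
def pw (F : X.Modules) : ℕ → X.Modules
  | 0 => F
  | n + 1 => F ⊞ pw F n

theorem isCoh_pw {F : X.Modules} (hF : Coh.IsCoh F) : ∀ n, Coh.IsCoh (pw F n)
  | 0 => hF
  | n + 1 => isCoh_biprod hF (isCoh_pw hF n)

theorem support_pw (F : X.Modules) : ∀ n, CohB1.support (pw F n) ⊆ CohB1.support F
  | 0 => le_rfl
  | n + 1 => (support_biprod F (pw F n)).trans (Set.union_subset le_rfl (support_pw F n))

/-- the first inclusion -/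
def pwι (F : X.Modules) : ∀ n, F ⟶ pw F n
  | 0 => 𝟙 F
  | _ + 1 => biprod.inl

/-- the first projection -/
def pwπ (F : X.Modules) : ∀ n, pw F n ⟶ F
  | 0 => 𝟙 F
  | _ + 1 => biprod.fst

theorem pwι_π (F : X.Modules) : ∀ n, pwι F n ≫ pwπ F n = 𝟙 F
  | 0 => Category.id_comp _
  | _ + 1 => biprod.inl_fst

theorem stalk_pw {F : X.Modules} {y : X} {κ : Type*} [AddCommGroup κ] [Module (Ox y) κ]
    (e : St (toPM F) y ≃ₗ[Ox y] κ) : ∀ n, Nonempty (St (toPM (pw F n)) y ≃ₗ[Ox y] (Fin (n + 1) → κ))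
  | 0 => ⟨e ≪≫ₗ (LinearEquiv.funUnique (Fin 1) (Ox y) κ).symm⟩
  | n + 1 => by
    obtain ⟨e'⟩ := stalk_pw e n
    exact ⟨stalkBiprod F (pw F n) y ≪≫ₗ (e.prodCongr e') ≪≫ₗ
      Fin.consLinearEquiv (Ox y) (fun _ : Fin (n + 2) => κ)⟩

/-- if `M` is killed by the vanishing ideal of the closure of `y`, its stalk at `y` is killed by the maximal ideal -/
theorem maximalIdeal_smul_eq_zero_of_killedByIdeal {Z : Set X} (hZ : IsClosed Z) {y : X} (hy : closure {y} = Z)
    {G : X.Modules} (hk : ClSub.KilledByIdeal (Scheme.IdealSheafData.vanishingIdeal ⟨Z, hZ⟩) G) :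
    ∀ r ∈ IsLocalRing.maximalIdeal (Ox y), ∀ a : St (toPM G) y, r • a = 0 := by
  intro r hr a
  obtain ⟨U, hyU, f, rfl⟩ := exists_gr_eq (R := X.presheaf) r
  obtain ⟨V, hyV, s, rfl⟩ := exists_gm_eq (P := toPM G) a
  obtain ⟨W, hW, hyW, hWle⟩ := exists_isAffineOpen_mem_and_subset (x := y) (U := U ⊓ V) ⟨hyU, hyV⟩
  have hWU : W ≤ U := fun x hx => (hWle hx).1
  have hWV : W ≤ V := fun x hx => (hWle hx).2
  have e1 : gr X.presheaf y U hyU f = grX y W hyW (resf X hWU f) :=
    (gr_rr (R := X.presheaf) (homOfLE hWU) hyW f).symm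
  have e2 : gmM G y V hyV s = gmM G y W hyW (res G hWV s) := (gmM_res G y hWV hyW s).symm
  change gr X.presheaf y U hyU f • gmM G y V hyV s = 0
  rw [e1, e2, ← gmM_smul]
  have hyf : y ∉ X.basicOpen (resf X hWU f) := by
    intro h
    rw [Scheme.mem_basicOpen X _ y hyW] at h
    have : IsUnit (gr X.presheaf y U hyU f) := e1 ▸ h
    exact (IsLocalRing.mem_maximalIdeal _).1 hr this
  have hmem : resf X hWU f ∈ (Scheme.IdealSheafData.vanishingIdeal ⟨Z, hZ⟩).ideal ⟨W, hW⟩ := by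
    rw [Scheme.IdealSheafData.vanishingIdeal_ideal, PrimeSpectrum.mem_vanishingIdeal]
    intro 𝔮 h𝔮
    by_contra hcon
    have h1 : 𝔮 ∈ PrimeSpectrum.basicOpen (resf X hWU f) := hcon
    rw [← hW.fromSpec_preimage_basicOpen] at h1
    have h2 : hW.fromSpec 𝔮 ∈ X.basicOpen (resf X hWU f) := h1
    have h3 : hW.fromSpec 𝔮 ∈ closure {y} := hy ▸ h𝔮
    obtain ⟨z, hz1, hz2⟩ := mem_closure_iff.1 h3 _ (X.basicOpen (resf X hWU f)).isOpen h2
    rw [Set.mem_singleton_iff] at hz2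
    subst hz2
    exact hyf hz1
  have h0 : (resf X hWU f • res G hWV s : Γ(G, W)) = 0 := hk ⟨W, hW⟩ (resf X hWU f) hmem (res G hWV s)
  exact (congrArg (gmM G y W hyW) h0).trans (map_zero _)

end Groth.Agent.Lib.Seat21.Dev
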