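import Groth.Agent.Lib.Seat21DevCore
import Groth.Agent.Lib.Seat21DevPow

/-!
# Dévissage with extension-closure only (seat 21)

Namespace `Groth.Agent.Lib.Seat21.Dev`.

* `HypE K X'` : `K` is stable under isomorphism, contains the zero modules and is stable under extensions of coherent
  modules with support in `X'`.
* `step_aE`, `coreE` : the Noetherian induction reducing to modules, supported on an irreducible closed subset, whose
  stalk at the generic point is killed by the maximal ideal.
-/

set_option autoImplicit false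
set_option linter.style.haveILetI false
universe u
open CategoryTheory Limits AlgebraicGeometry TopologicalSpace Opposite

noncomputable section

namespace Groth.Agent.Lib.Seat21.Dev

open Groth.Agent.Lib.Helper1.StalkTensor Groth.Agent.Lib.Helper1.Sky Groth.Agent.Lib.Seat21.QSub

variable {X : Scheme.{u}}

/-- the hypotheses on a class of modules for the dévissage with extensions only -/
structure HypE (K : X.Modules → Prop) (X' : Set X) : Prop where
  iso : ∀ M N : X.Modules, Nonempty (M ≅ N) → K M → K N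
  zero : ∀ M : X.Modules, IsZero M → K M
  ext : ∀ S : ShortComplex X.Modules, S.ShortExact → Coh.IsCoh S.X₁ → Coh.IsCoh S.X₂ → Coh.IsCoh S.X₃ →
    CohB1.support S.X₂ ⊆ X' → K S.X₁ → K S.X₃ → K S.X₂

theorem Hyp.toHypE {K : X.Modules → Prop} {X' : Set X} (h : Hyp K X') : HypE K X' :=
  ⟨h.iso, h.zero, fun S hS h1 h2 h3 hs => (h.ex S hS h1 h2 h3 hs).2.1⟩

section Irr

variable [IsNoetherian X] {K : X.Modules → Prop} {X' : Set X} (hyp : HypE K X') {Z : Set X} (hZX' : Z ⊆ X') (y : X)
  (hIH : ∀ F : X.Modules, Coh.IsCoh F → CohB1.support F ⊆ Z → y ∉ CohB1.support F → K F)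

include hyp hZX' hIH

/-- step (a): modules whose stalk at `y` is killed by a power of the maximal ideal -/
theorem step_aE (hB : ∀ F : X.Modules, Coh.IsCoh F → CohB1.support F ⊆ Z →
      (∀ r ∈ IsLocalRing.maximalIdeal (Ox y), ∀ a : St (toPM F) y, r • a = 0) → K F) :
    ∀ (d : ℕ) (F : X.Modules), Coh.IsCoh F → CohB1.support F ⊆ Z →
      (∀ r ∈ (IsLocalRing.maximalIdeal (Ox y)) ^ d, ∀ a : St (toPM F) y, r • a = 0) → K F := by
  intro d
  induction d with
  | zero =>
    intro F hF hFZ hkill
    refine hIH F hF hFZ (not_mem_support_of_forall_eq_zero fun a => ?_)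
    have := hkill 1 (by rw [pow_zero, Ideal.one_eq_top]; exact Submodule.mem_top) a
    rwa [one_smul] at this
  | succ d ih =>
    intro F hF hFZ hkill
    haveI := hF.1
    haveI : Module.Finite (Ox y) (St (toPM F) y) := finite_stalk_of_isCoh hF y
    haveI : IsNoetherianRing (Ox y) := inferInstanceAs (IsNoetherianRing (X.presheaf.stalk y))
    haveI : IsNoetherian (Ox y) (St (toPM F) y) := isNoetherian_of_isNoetherianRing_of_finite _ _
    obtain ⟨N, hNq, hNf, hNs⟩ := SubShStalk.exists_subSh_stalkSub (F := F) hX_of_isNoetherian y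
      (IsLocalRing.maximalIdeal (Ox y) • (⊤ : Submodule (Ox y) (St (toPM F) y))) (IsNoetherian.noetherian _)
    have hF₁ : Coh.IsCoh N.toModules := isCoh_subSh hF N hNq
    have hQ : Coh.IsCoh (cokernel N.ι) := isCoh_cokernel hF₁ hF N.ι
    have hF₁Z : CohB1.support N.toModules ⊆ Z := (support_subset_of_mono N.ι).trans hFZ
    have hQZ : CohB1.support (cokernel N.ι) ⊆ Z := (support_subset_of_epi (cokernel.π N.ι)).trans hFZ
    have hinj := sm_injective_of_mono N.ι y
    have hK₁ : K N.toModules := by
      refine ih N.toModules hF₁ hF₁Z ?_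
      intro r hr z
      apply hinj
      rw [sm_smul, map_zero]
      have hz : sm (toPMMap N.ι) y z ∈
          IsLocalRing.maximalIdeal (Ox y) • (⊤ : Submodule (Ox y) (St (toPM F) y)) :=
        hNs ▸ sm_ι_mem_stalkSub N y z
      have key : ∀ w ∈ IsLocalRing.maximalIdeal (Ox y) • (⊤ : Submodule (Ox y) (St (toPM F) y)),
          r • w = 0 := by
        intro w hw
        refine Submodule.smul_induction_on hw (fun s hs t _ => ?_) (fun x z hx hz => ?_)
        · rw [smul_smul]
          exact hkill (r * s) (by rw [pow_succ]; exact Ideal.mul_mem_mul hr hs) t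
        · rw [smul_add, hx, hz, add_zero]
      exact key _ hz
    have hK₂ : K (cokernel N.ι) := by
      refine hB _ hQ hQZ ?_
      intro r hr w
      obtain ⟨b, rfl⟩ := sm_surjective_of_epi (cokernel.π N.ι) y w
      rw [← sm_smul]
      have hb : r • b ∈ SubShStalk.stalkSub N y := by
        rw [hNs]
        exact Submodule.smul_mem_smul hr Submodule.mem_top
      obtain ⟨z, hz⟩ := exists_of_mem_stalkSub N y hb
      rw [← hz, ← sm_comp_apply, cokernel.condition, sm_zero_apply]
    exact hyp.ext _ (shortExact_cokernel N.ι) hF₁ hF hQ (hFZ.trans hZX') hK₁ hK₂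

end Irr

/-- **Dévissage**, extension-only form: it suffices to treat modules supported on an irreducible closed subset whose stalk
at the generic point is killed by the maximal ideal (assuming the modules with smaller support are known). -/
theorem coreE [IsNoetherian X] {K : X.Modules → Prop} {X' : Set X} (hyp : HypE K X') (hX' : IsClosed X')
    (hB : ∀ (Z : Set X), IsClosed Z → IsIrreducible Z → Z ⊆ X' → ∀ y : X, closure {y} = Z →
      (∀ F : X.Modules, Coh.IsCoh F → CohB1.support F ⊆ Z → y ∉ CohB1.support F → K F) →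
      ∀ F : X.Modules, Coh.IsCoh F → CohB1.support F ⊆ Z →
        (∀ r ∈ IsLocalRing.maximalIdeal (Ox y), ∀ a : St (toPM F) y, r • a = 0) → K F)
    (F : X.Modules) (hF : Coh.IsCoh F) (hsupp : CohB1.support F ⊆ X') : K F := by
  suffices H : ∀ Y : Closeds X, (Y : Set X) ⊆ X' → ∀ F : X.Modules, Coh.IsCoh F →
      CohB1.support F ⊆ (Y : Set X) → K F from H ⟨X', hX'⟩ le_rfl F hF hsupp
  intro Y
  induction Y using WellFoundedLT.induction with
  | ind Y ih =>
  intro hYX' F hF hFY
  by_cases hemp : (Y : Set X) = ∅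
  · exact hyp.zero F (isZero_of_support_subset_empty F (hemp ▸ hFY))
  by_cases hirr : IsIrreducible (Y : Set X)
  · -- the irreducible case
    obtain ⟨y, hy⟩ := QuasiSober.sober hirr Y.isClosed
    have hyY : closure {y} = (Y : Set X) := hy.def
    have hyin : y ∈ (Y : Set X) := hyY ▸ subset_closure (Set.mem_singleton y)
    have hIH : ∀ F' : X.Modules, Coh.IsCoh F' → CohB1.support F' ⊆ (Y : Set X) →
        y ∉ CohB1.support F' → K F' := by
      intro F' hF' hF'Y hyF'
      let Y' : Closeds X := ⟨CohB1.support F', Groth.Agent.S0020.result X F' hF'.2⟩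
      have hle : Y' ≤ Y := hF'Y
      have hne : Y' ≠ Y := fun h => hyF' (show y ∈ (Y' : Set X) from h ▸ hyin)
      exact ih Y' (lt_of_le_of_ne hle hne) (hF'Y.trans hYX') F' hF' le_rfl
    obtain ⟨d, hd⟩ := exists_pow_le_annihilator_stalk hF y (hyY ▸ hFY)
    exact step_aE hyp hYX' y hIH (hB Y Y.isClosed hirr hYX' y hyY hIH) d F hF hFY
      (fun r hr a => Module.mem_annihilator.1 (hd hr) a)
  · -- the reducible case
    have hne : (Y : Set X).Nonempty := Set.nonempty_iff_ne_empty.2 hemp
    have hnp : ¬ IsPreirreducible (Y : Set X) := fun h => hirr ⟨hne, h⟩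
    rw [isPreirreducible_iff_isClosed_union_isClosed] at hnp
    simp only [not_forall] at hnp
    obtain ⟨Z₁, Z₂, hZ₁, hZ₂, hcov, hnot⟩ := hnp
    rw [not_or] at hnot
    let Y₁ : Closeds X := ⟨(Y : Set X) ∩ Z₁, Y.isClosed.inter hZ₁⟩
    let Y₂ : Closeds X := ⟨(Y : Set X) ∩ Z₂, Y.isClosed.inter hZ₂⟩
    have hY₁ : Y₁ < Y := lt_of_le_of_ne Set.inter_subset_left
      (fun h => hnot.1 (fun x hx => ((show (Y₁ : Set X) = Y from congrArg _ h) ▸ hx : x ∈ (Y₁ : Set X)).2))
    have hY₂ : Y₂ < Y := lt_of_le_of_ne Set.inter_subset_left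
      (fun h => hnot.2 (fun x hx => ((show (Y₂ : Set X) = Y from congrArg _ h) ▸ hx : x ∈ (Y₂ : Set X)).2))
    haveI := hF.1
    have hq := qcOn_suppSub F Y₂.isClosed
    have hF₁ : Coh.IsCoh (suppSub F (Y₂ : Set X)).toModules := isCoh_subSh hF _ hq
    have hQ : Coh.IsCoh (cokernel (suppSub F (Y₂ : Set X)).ι) := isCoh_cokernel hF₁ hF _
    have hK₁ : K (suppSub F (Y₂ : Set X)).toModules :=
      ih Y₂ hY₂ (Set.inter_subset_left.trans hYX') _ hF₁ (support_suppSub F _)
    have hK₂ : K (cokernel (suppSub F (Y₂ : Set X)).ι) := by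
      refine ih Y₁ hY₁ (Set.inter_subset_left.trans hYX') _ hQ ?_
      refine support_cokernel_suppSub F (Y₂ : Set X) (Y₁ : Set X) Y₁.isClosed ?_
      intro x hx
      have hxY := hFY hx
      rcases hcov hxY with h | h
      · exact Or.inl ⟨hxY, h⟩
      · exact Or.inr ⟨hxY, h⟩
    haveI : Mono (suppSub F (Y₂ : Set X)).ι := SubSh.mono_ι _
    exact hyp.ext _ (shortExact_cokernel (suppSub F (Y₂ : Set X)).ι) hF₁ hF hQ (hFY.trans hYX') hK₁ hK₂

end Groth.Agent.Lib.Seat21.Dev
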