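import Groth.Agent.Lib.Seat21DevPushM

/-!
# Filtrations of coherent modules by direct images of ideals of integral closed subschemes (seat 21)

Namespace `Groth.Agent.Lib.Seat21.Dev`.

* `IsIdealPush Q` : `Q ≅ i_* I` for a nonzero quasi-coherent ideal `I` of an integral closed subscheme `i : Z → X`.
* `Filt M` : inductive predicate, `M` has a finite filtration by coherent submodules with graded pieces `IsIdealPush`.
* `Filt.of_iso`, `Filt.ext` : stability under isomorphisms and extensions.
* `exists_append`, `Filt.exists_chain` : the chain form.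
-/

set_option autoImplicit false
set_option linter.style.haveILetI false
universe u
open CategoryTheory Limits AlgebraicGeometry TopologicalSpace Opposite

noncomputable section

namespace Groth.Agent.Lib.Seat21.Dev

/-- appending one step to a chain of morphisms indexed by `ℕ` -/
theorem exists_append {C : Type*} [Category C] (m : ℕ) (F : ℕ → C) (φ : ∀ j, F j ⟶ F (j + 1)) (N : C)
    (ψ : F m ⟶ N) :
    ∃ (F' : ℕ → C) (φ' : ∀ j, F' j ⟶ F' (j + 1)) (e : ∀ j, j ≤ m → (F' j ≅ F j)) (e' : F' (m + 1) ≅ N),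
      (∀ j (hj : j < m), φ' j ≫ (e (j + 1) hj).hom = (e j hj.le).hom ≫ φ j) ∧
      φ' m ≫ e'.hom = (e m le_rfl).hom ≫ ψ := by
  classical
  let F' : ℕ → C := fun j => if j ≤ m then F j else N
  have eF : ∀ j, j ≤ m → F' j = F j := fun j h => if_pos h
  have eN : ∀ j, ¬ j ≤ m → F' j = N := fun j h => if_neg h
  let φ' : ∀ j, F' j ⟶ F' (j + 1) := fun j =>
    if h : j + 1 ≤ m then eqToHom (eF j (Nat.le_of_succ_le h)) ≫ φ j ≫ eqToHom (eF (j + 1) h).symm
    else if h2 : j = m then
      eqToHom (eF j h2.le) ≫ (h2 ▸ ψ : F j ⟶ N) ≫ eqToHom (eN (j + 1) h).symm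
    else eqToHom (eN j (fun hle => h2 (le_antisymm hle (Nat.lt_succ_iff.1 (Nat.lt_of_not_le h))))) ≫
      eqToHom (eN (j + 1) h).symm
  refine ⟨F', φ', fun j hj => eqToIso (eF j hj), eqToIso (eN (m + 1) (Nat.not_succ_le_self m)), ?_, ?_⟩
  · intro j hj
    have h : j + 1 ≤ m := hj
    simp only [φ', dif_pos h, eqToIso.hom, Category.assoc, eqToHom_trans, eqToHom_refl, Category.comp_id]
  · have h : ¬ m + 1 ≤ m := Nat.not_succ_le_self m
    simp only [φ', dif_neg h, dite_true, eqToIso.hom, Category.assoc, eqToHom_trans, eqToHom_refl,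
      Category.comp_id]

variable {X : Scheme.{u}}

/-- the module is the direct image of a nonzero quasi-coherent ideal of an integral closed subscheme -/
def IsIdealPush (Q : X.Modules) : Prop :=
  ∃ (Z : Scheme.{u}) (i : Z ⟶ X), IsClosedImmersion i ∧ IsIntegral Z ∧
    ∃ (I : Z.Modules) (ι : I ⟶ Coh.structureModule Z), Mono ι ∧ Coh.IsQCoh I ∧ ¬ IsZero I ∧
      Nonempty (Q ≅ (Coh.push i).obj I)

theorem IsIdealPush.of_iso {Q Q' : X.Modules} (e : Q ≅ Q') (h : IsIdealPush Q) : IsIdealPush Q' := by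
  obtain ⟨Z, i, h1, h2, I, ι, h3, h4, h5, ⟨e'⟩⟩ := h
  exact ⟨Z, i, h1, h2, I, ι, h3, h4, h5, ⟨e.symm ≪≫ e'⟩⟩

/-- `M` has a finite filtration by coherent submodules whose graded pieces are direct images of nonzero ideals of
integral closed subschemes -/
inductive Filt : X.Modules → Prop
  | zero (M : X.Modules) : IsZero M → Filt M
  | step (M' M : X.Modules) (φ : M' ⟶ M) : Mono φ → Filt M' → Coh.IsCoh M' → Coh.IsCoh M →
      IsIdealPush (cokernel φ) → Filt M

theorem Filt.of_iso {M N : X.Modules} (e : M ≅ N) (h : Filt M) : Filt N := by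
  cases h with
  | zero _ hz => exact Filt.zero N (hz.of_iso e.symm)
  | step M' _ φ hφ hM' hcM' hcM hQ =>
    haveI := hφ
    exact Filt.step M' N (φ ≫ e.hom) (mono_comp _ _) hM' hcM' (isCoh_of_iso e hcM)
      (hQ.of_iso (cokernelCompIsIso φ e.hom).symm)

theorem isCoh_of_isZero [IsNoetherian X] {M : X.Modules} (h : IsZero M) : Coh.IsCoh M := by
  have hO := isCoh_structureModule X
  have hk : Coh.IsCoh (kernel (𝟙 (Coh.structureModule X))) := isCoh_kernel hO hO _
  exact isCoh_of_iso ((isZero_kernel_of_mono (𝟙 (Coh.structureModule X))).iso h) hk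

open ZeroObject in
/-- a coherent module which is the direct image of a nonzero ideal has a one-step filtration -/
theorem Filt.of_isIdealPush [IsNoetherian X] {M : X.Modules} (hM : Coh.IsCoh M) (h : IsIdealPush M) : Filt M :=
  Filt.step (0 : X.Modules) M (0 : (0 : X.Modules) ⟶ M) inferInstance (Filt.zero _ (isZero_zero _))
    (isCoh_of_isZero (isZero_zero _)) hM (h.of_iso cokernelZeroIsoTarget.symm)

/-- stability of `Filt` under extensions -/
theorem Filt.ext [IsNoetherian X] {C : X.Modules} (hC : Filt C) :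
    ∀ {A B : X.Modules} (a : A ⟶ B) (p : B ⟶ C) (w : a ≫ p = 0), (ShortComplex.mk a p w).ShortExact →
      Coh.IsCoh A → Coh.IsCoh B → Filt A → Filt B := by
  induction hC with
  | zero C hz =>
    intro A B a p w hS hA hB hFA
    haveI : IsIso a := hS.isIso_f_iff.2 hz
    exact hFA.of_iso (asIso a)
  | step C' C c hc hFC' hcC' hcC hQ ih =>
    intro A B a p w hS hA hB hFA
    haveI := hc
    haveI : Mono a := hS.mono_f
    haveI : Epi p := hS.epi_g
    -- the preimage of `C'` in `B`
    have hQc : Coh.IsCoh (cokernel c) := isCoh_cokernel hcC' hcC c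
    have hB' : Coh.IsCoh (kernel (p ≫ cokernel.π c)) := isCoh_kernel hB hQc _
    let b : kernel (p ≫ cokernel.π c) ⟶ B := kernel.ι _
    have hbp : (b ≫ p) ≫ cokernel.π c = 0 := by rw [Category.assoc]; exact kernel.condition _
    let p' : kernel (p ≫ cokernel.π c) ⟶ C' := Abelian.monoLift c (b ≫ p) hbp
    have hp' : p' ≫ c = b ≫ p := Abelian.monoLift_comp c (b ≫ p) hbp
    have hap : a ≫ p ≫ cokernel.π c = 0 := by rw [← Category.assoc, w, zero_comp]
    let a' : A ⟶ kernel (p ≫ cokernel.π c) := kernel.lift _ a hap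
    have ha' : a' ≫ b = a := kernel.lift_ι _ a hap
    have w' : a' ≫ p' = 0 := by
      rw [← cancel_mono c, Category.assoc, hp', ← Category.assoc, ha', w, zero_comp]
    haveI : Mono a' := mono_of_mono_fac ha'
    -- `p'` is an epimorphism: the square is a pullback
    haveI : Epi p' := by
      let s : PullbackCone p c := PullbackCone.mk b p' hp'.symm
      have hs : IsLimit s := by
        refine PullbackCone.IsLimit.mk hp'.symm
          (fun t => kernel.lift _ t.fst (by rw [← Category.assoc, t.condition, Category.assoc,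
            cokernel.condition, comp_zero])) (fun t => kernel.lift_ι _ _ _) (fun t => ?_) (fun t m h1 _ => ?_)
        · rw [← cancel_mono c, Category.assoc, hp', ← Category.assoc, kernel.lift_ι, t.condition]
        · rw [← cancel_mono b, h1, kernel.lift_ι]
      exact Abelian.epi_snd_of_isLimit p c hs
    -- the short exact sequence `A ⟶ B' ⟶ C'`
    have hS' : (ShortComplex.mk a' p' w').ShortExact := by
      refine ShortComplex.ShortExact.mk' (ShortComplex.exact_of_f_is_kernel _ ?_) ‹_› ‹_›
      have hz : ∀ {T : X.Modules} (t : T ⟶ kernel (p ≫ cokernel.π c)), t ≫ p' = 0 → (t ≫ b) ≫ p = 0 := by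
        intro T t ht
        rw [Category.assoc, ← hp', ← Category.assoc, ht, zero_comp]
      refine KernelFork.IsLimit.ofι _ _
        (fun {T} t ht => (KernelFork.IsLimit.lift' hS.fIsKernel (t ≫ b) (hz t ht)).1)
        (fun {T} t ht => ?_) (fun {T} t ht m hm => ?_)
      · have h2 := (KernelFork.IsLimit.lift' hS.fIsKernel (t ≫ b) (hz t ht)).2
        have h3 : (KernelFork.IsLimit.lift' hS.fIsKernel (t ≫ b) (hz t ht)).1 ≫ a = t ≫ b := h2
        show _ ≫ a' = t
        rw [← cancel_mono b, Category.assoc, ha', h3]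
      · have h2 := (KernelFork.IsLimit.lift' hS.fIsKernel (t ≫ b) (hz t ht)).2
        have h3 : (KernelFork.IsLimit.lift' hS.fIsKernel (t ≫ b) (hz t ht)).1 ≫ a = t ≫ b := h2
        have hm' : m ≫ a' = t := hm
        rw [← cancel_mono a', hm', ← cancel_mono b, Category.assoc, ha', h3]
    have hFB' : Filt (kernel (p ≫ cokernel.π c)) := ih a' p' w' hS' hA hB' hFA
    -- the last step
    have hcok : cokernel b ≅ cokernel c :=
      (cokernelIsCokernel b).coconePointUniqueUpToIso
        (Abelian.epiIsCokernelOfKernel (limit.cone (parallelPair (p ≫ cokernel.π c) 0))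
          (limit.isLimit _))
    exact Filt.step _ B b inferInstance hFB' hB' hB (hQ.of_iso hcok.symm)

/-- the chain form of a filtration -/
theorem Filt.exists_chain [IsNoetherian X] {M : X.Modules} (h : Filt M) :
    ∃ (m : ℕ) (F : ℕ → X.Modules) (φ : (j : ℕ) → (F j ⟶ F (j + 1))),
      IsZero (F 0) ∧ Nonempty (F m ≅ M) ∧ (∀ j ≤ m, Coh.IsCoh (F j)) ∧
        ∀ j < m, Mono (φ j) ∧ IsIdealPush (cokernel (φ j)) := by
  induction h with
  | zero M hz =>
    exact ⟨0, fun _ => M, fun _ => 𝟙 M, hz, ⟨Iso.refl _⟩, fun j _ => isCoh_of_isZero hz,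
      fun j hj => absurd hj (Nat.not_lt_zero j)⟩
  | step M' M φ₀ hφ hFM' hcM' hcM hQ ih =>
    obtain ⟨m, F, φ, hz, ⟨e⟩, hcoh, hstep⟩ := ih
    obtain ⟨F', φ', eF, e', h1, h2⟩ := exists_append m F φ M (e.hom ≫ φ₀)
    haveI := hφ
    refine ⟨m + 1, F', φ', hz.of_iso (eF 0 (Nat.zero_le m)), ⟨e'⟩, ?_, ?_⟩
    · intro j hj
      by_cases hjm : j ≤ m
      · exact isCoh_of_iso (eF j hjm).symm (hcoh j hjm)
      · have : j = m + 1 := by omega
        subst this
        exact isCoh_of_iso e'.symm hcM
    · intro j hj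
      by_cases hjm : j < m
      · obtain ⟨hm, hq⟩ := hstep j hjm
        have e1 : φ' j = (eF j hjm.le).hom ≫ φ j ≫ (eF (j + 1) hjm).inv := by
          rw [← Category.assoc, Iso.eq_comp_inv]
          exact h1 j hjm
        refine ⟨?_, hq.of_iso (cokernel.mapIso (φ' j) (φ j) (eF j hjm.le) (eF (j + 1) hjm) (h1 j hjm)).symm⟩
        rw [e1]
        infer_instance
      · have : j = m := by omega
        subst this
        have h2' : φ' j ≫ e'.hom = ((eF j le_rfl) ≪≫ e).hom ≫ φ₀ := by
          rw [h2, Iso.trans_hom, Category.assoc]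
        have e1 : φ' j = ((eF j le_rfl) ≪≫ e).hom ≫ φ₀ ≫ e'.inv := by
          rw [← Category.assoc, Iso.eq_comp_inv]
          exact h2'
        refine ⟨?_, hQ.of_iso (cokernel.mapIso (φ' j) φ₀ ((eF j le_rfl) ≪≫ e) e' h2').symm⟩
        rw [e1]
        infer_instance

end Groth.Agent.Lib.Seat21.Dev
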