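import Groth.Agent.Lib.Seat21DevGenIso
import Groth.Agent.Lib.Seat21DevChev

/-!
# Finite surjective morphisms: a coherent module upstairs with prescribed generic direct image (seat 21)

Namespace `Groth.Agent.Lib.Seat21.Dev`.

* `pushPwIso` : `f_*` commutes with the finite direct sums `pw`.
* `stalkEquivOfIso` : the linear equivalence of stalks induced by an isomorphism of modules.
* `maximalIdeal_Ox_genericPoint_eq_bot` : the stalk at the generic point of an integral scheme is a field.
* `exists_push_to_pw` (Hartshorne III Ex. 4.2-type statement): `f : X ⟶ Y` finite surjective, `Y` integral Noetherian, `X`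
  Noetherian, `F` coherent on `Y`: there are `m`, a coherent `G` on `X` and `β : f_* G ⟶ F^{⊕(m+1)}` bijective on the stalks
  at the generic point of `Y`.
-/

set_option autoImplicit false
set_option linter.style.haveILetI false
universe u
open CategoryTheory Limits AlgebraicGeometry TopologicalSpace Opposite ZeroObject

noncomputable section

namespace Groth.Agent.Lib.Seat21.Dev

open Groth.Agent.Lib.Helper1.StalkTensor Groth.Agent.Lib.Helper1.Sky Groth.Agent.Lib.Seat21.QSub

attribute [local instance] preservesBinaryBiproducts_of_preservesBinaryProducts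

variable {X Y : Scheme.{u}} (f : X ⟶ Y)

/-- direct images commute with the finite direct sums `pw` -/
def pushPwIso (G : X.Modules) :
    ∀ n, (Scheme.Modules.pushforward f).obj (pw G n) ≅ pw ((Scheme.Modules.pushforward f).obj G) n
  | 0 => Iso.refl _
  | n + 1 => (Scheme.Modules.pushforward f).mapBiprod G (pw G n) ≪≫ biprod.mapIso (Iso.refl _) (pushPwIso G n)

/-- the linear equivalence of stalks induced by an isomorphism -/
def stalkEquivOfIso {A B : Y.Modules} (e : A ≅ B) (y : Y) : St (toPM A) y ≃ₗ[Ox y] St (toPM B) y :=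
  LinearEquiv.ofBijective (smₗ (toPMMap e.hom) y) (sm_bijective_of_iso e y)

theorem maximalIdeal_Ox_genericPoint_eq_bot [IsIntegral Y] :
    IsLocalRing.maximalIdeal (Ox (genericPoint Y)) = ⊥ := by
  have h : IsField (Y.presheaf.stalk (genericPoint Y)) := Field.toIsField Y.functionField
  exact IsLocalRing.isField_iff_maximalIdeal_eq.1 h

/-- **Hartshorne III Ex. 4.2.** -/
theorem exists_push_to_pw [IsNoetherian X] [IsIntegral Y] [IsNoetherian Y] [IsFinite f] [Surjective f]
    (F : Y.Modules) (hF : Coh.IsCoh F) :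
    ∃ (m' : ℕ) (G : X.Modules) (β : (Scheme.Modules.pushforward f).obj G ⟶ pw F m'), Coh.IsCoh G ∧
      Function.Bijective (sm (toPMMap β) (genericPoint Y)) := by
  classical
  set η := genericPoint Y with hη
  have hmax : IsLocalRing.maximalIdeal (Ox η) = ⊥ := maximalIdeal_Ox_genericPoint_eq_bot
  have hkillany : ∀ (M : Y.Modules), ∀ r ∈ IsLocalRing.maximalIdeal (Ox η), ∀ a : St (toPM M) η, r • a = 0 := by
    intro M r hr a
    rw [hmax] at hr
    rw [(Submodule.mem_bot _).1 hr, zero_smul]
  have hOX : Coh.IsCoh (Coh.structureModule X) := isCoh_structureModule X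
  have hA : Coh.IsCoh (pushO f) := isCoh_pushforward_of_isFinite f _ hOX
  haveI : Module.Finite (Ox η) (St (toPM F) η) := finite_stalk_of_isCoh hF η
  haveI : Module.Finite (Ox η) (St (toPM (pushO f)) η) := finite_stalk_of_isCoh hA η
  obtain ⟨s, ⟨eF⟩⟩ := exists_linearEquiv_pi_of_killed (hkillany F)
  obtain ⟨m, ⟨eA⟩⟩ := exists_linearEquiv_pi_of_killed (hkillany (pushO f))
  cases s with
  | zero =>
    have hz : IsZero ((Scheme.Modules.pushforward f).obj (0 : X.Modules)) := Functor.map_isZero _ (isZero_zero _)
    refine ⟨0, 0, 0, isCoh_of_isZero (isZero_zero _), ?_, ?_⟩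
    · intro a b _
      rw [stalk_eq_zero_of_isZero hz η a, stalk_eq_zero_of_isZero hz η b]
    · intro b
      refine ⟨0, ?_⟩
      apply eF.injective
      exact Subsingleton.elim _ _
  | succ s' =>
  cases m with
  | zero =>
    exfalso
    obtain ⟨z, hz⟩ := f.surjective η
    have hne := gmM_oneP_ne_zero f z ⊤ trivial
    have hall : ∀ a : St (toPM (pushO f)) (f z), a = 0 := by
      rw [hz]
      intro a
      apply eA.injective
      exact Subsingleton.elim _ _
    exact hne (hall _)
  | succ m' =>
    have hG₀ : Coh.IsCoh (pw (Coh.structureModule X) s') := isCoh_pw hOX s'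
    have hP : Coh.IsCoh ((Scheme.Modules.pushforward f).obj (pw (Coh.structureModule X) s')) :=
      isCoh_pushforward_of_isFinite f _ hG₀
    have hR : Coh.IsCoh (pw F m') := isCoh_pw hF m'
    obtain ⟨eP'⟩ := stalk_pw eA s'
    obtain ⟨eR⟩ := stalk_pw eF m'
    let θ : St (toPM ((Scheme.Modules.pushforward f).obj (pw (Coh.structureModule X) s'))) η ≃ₗ[Ox η]
        St (toPM (pw F m')) η :=
      stalkEquivOfIso (pushPwIso f (Coh.structureModule X) s') η ≪≫ₗ eP' ≪≫ₗ
        swapLinearEquiv (Ox η) (Ox η ⧸ IsLocalRing.maximalIdeal (Ox η)) (Fin (s' + 1)) (Fin (m' + 1)) ≪≫ₗ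
        eR.symm
    obtain ⟨H, u, v, hH, hu, hv, hHs⟩ := exists_correspondence _ _ hP hR η θ
    haveI := hH.1
    haveI := hP.1
    haveI := hG₀.1
    -- a subsheaf of `H` on which `u` is injective
    have hCu₀ : Coh.IsCoh (cokernel u) := isCoh_cokernel hH hP u
    have hIu₀ : Coh.IsCoh (Abelian.image u) := isCoh_kernel hP hCu₀ (cokernel.π u)
    have hKu₀ : Coh.IsCoh (kernel (Abelian.factorThruImage u)) := isCoh_kernel hH hIu₀ _
    have hC₁ : IsClosed (CohB1.support (kernel (Abelian.factorThruImage u))) :=
      Groth.Agent.S0020.result Y _ hKu₀.2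
    have hinjF : Function.Injective (sm (toPMMap (Abelian.factorThruImage u)) η) := by
      intro a b hab
      apply hu.1
      rw [← Abelian.image.fac u, sm_comp_apply, sm_comp_apply, hab]
    have hyC₁ : η ∉ CohB1.support (kernel (Abelian.factorThruImage u)) := not_mem_support_kernel _ η hinjF
    obtain ⟨N, hNq, hNinj, hNtop⟩ := exists_subSh_inj hH u hC₁
      (fun x hx => sm_injective_of_notMem_support_kernel u x hx)
    have hN : Coh.IsCoh N.toModules := isCoh_subSh hH N hNq
    have hιy : Function.Bijective (sm (toPMMap N.ι) η) := by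
      refine ⟨sm_injective_of_mono N.ι η, fun b => ?_⟩
      exact exists_of_mem_stalkSub N η ((hNtop η hyC₁) ▸ Submodule.mem_top)
    let uN : N.toModules ⟶ (Scheme.Modules.pushforward f).obj (pw (Coh.structureModule X) s') := N.ι ≫ u
    let vN : N.toModules ⟶ pw F m' := N.ι ≫ v
    have huN : Function.Bijective (sm (toPMMap uN) η) := by
      have : sm (toPMMap uN) η = sm (toPMMap u) η ∘ sm (toPMMap N.ι) η := funext fun a => sm_comp_apply N.ι u η a
      rw [this]
      exact hu.comp hιy
    have hvN : Function.Bijective (sm (toPMMap vN) η) := by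
      have : sm (toPMMap vN) η = sm (toPMMap v) η ∘ sm (toPMMap N.ι) η := funext fun a => sm_comp_apply N.ι v η a
      rw [this]
      exact hv.comp hιy
    haveI : Mono uN := by
      apply mono_of_injective_app
      intro V
      rw [injective_iff_map_eq_zero]
      intro t ht
      apply N.ι_app_injective V
      rw [map_zero]
      exact hNinj V _ (N.ι_app_mem V t) ht
    -- the cokernel of `uN` is killed by a power of the ideal of its support
    have hQ : Coh.IsCoh (cokernel uN) := isCoh_cokernel hN hP uN
    haveI := hQ.1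
    have hC₂ : IsClosed (CohB1.support (cokernel uN)) := Groth.Agent.S0020.result Y _ hQ.2
    have hyC₂ : η ∉ CohB1.support (cokernel uN) := not_mem_support_cokernel uN η huN.2
    obtain ⟨n₂, hn₂⟩ := ar_global (I := Scheme.IdealSheafData.vanishingIdeal ⟨_, hC₂⟩) hQ
      (0 : cokernel uN ⟶ cokernel uN)
      (fun T hT a ha x hx => by
        have hx' := notMem_of_mem_basicOpen_of_mem_vanishingIdeal hC₂ hT ha hx
        haveI : Subsingleton (St (toPM (cokernel uN)) x) := subsingleton_stalk_of_not_mem_support hx'
        exact fun a b _ => Subsingleton.elim a b)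
    let J' : Y.IdealSheafData := Scheme.IdealSheafData.vanishingIdeal ⟨_, hC₂⟩ ^ (n₂ + 1)
    have hyJ' : η ∉ (J'.support : Set Y) := by
      show η ∉ ((Scheme.IdealSheafData.vanishingIdeal ⟨_, hC₂⟩ ^ (n₂ + 1)).support : Set Y)
      rw [Scheme.IdealSheafData.support_pow_succ, Scheme.IdealSheafData.coe_support_vanishingIdeal]
      exact hyC₂
    have hkillQ : ∀ (T : Y.affineOpens), ∀ a ∈ J'.ideal T, ∀ q : Γ(cokernel uN, T.1), a • q = 0 := by
      intro T a ha q
      have ha' : a ∈ Jv (Scheme.IdealSheafData.vanishingIdeal ⟨_, hC₂⟩) T.1 ^ n₂ := by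
        rw [Jv_eq_of_affine]
        have h1 : a ∈ (Scheme.IdealSheafData.vanishingIdeal ⟨_, hC₂⟩).ideal T ^ (n₂ + 1) := ha
        exact Ideal.pow_le_pow_right (Nat.le_succ n₂) h1
      have hmem : a • q ∈ (powSub (Scheme.IdealSheafData.vanishingIdeal ⟨_, hC₂⟩) n₂ (cokernel uN)).carrier T.1 :=
        le_powSub _ n₂ T.1 (Submodule.smul_mem_smul ha' Submodule.mem_top)
      exact hn₂ n₂ le_rfl T.1 _ hmem rfl
    let jι : (Scheme.Modules.pushforward f).obj ((Dual3.idealMul (J'.comap f)).obj (pw (Coh.structureModule X) s')) ⟶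
        (Scheme.Modules.pushforward f).obj (pw (Coh.structureModule X) s') :=
      (Scheme.Modules.pushforward f).map (Dual3.idealMulι (J'.comap f) (pw (Coh.structureModule X) s'))
    have hzero : jι ≫ cokernel.π uN = 0 :=
      comp_eq_zero_of_killed jι _ (fun T => J'.ideal T)
        (pushMulι_app_mem f J' (pw (Coh.structureModule X) s')) hkillQ
    let lam : (Scheme.Modules.pushforward f).obj ((Dual3.idealMul (J'.comap f)).obj (pw (Coh.structureModule X) s')) ⟶
        N.toModules := Abelian.monoLift uN jι hzero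
    have hlam : lam ≫ uN = jι := Abelian.monoLift_comp uN _ hzero
    have hjy : Function.Bijective (sm (toPMMap jι) η) :=
      sm_pushMulι_bijective f J' (pw (Coh.structureModule X) s') η hyJ'
    have hlamy : Function.Bijective (sm (toPMMap lam) η) := by
      have e : ∀ c, sm (toPMMap jι) η c = sm (toPMMap uN) η (sm (toPMMap lam) η c) := fun c => by
        rw [← sm_comp_apply, hlam]
      constructor
      · intro a b hab
        apply hjy.1
        rw [e a, e b, hab]
      · intro b
        obtain ⟨a, ha⟩ := hjy.2 (sm (toPMMap uN) η b)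
        refine ⟨a, huN.1 ?_⟩
        rw [← e a, ha]
    have hGq := Groth.Agent.Lib.Seat16.SubSheaf.isQuasicoherent_idealMul (J'.comap f) (pw (Coh.structureModule X) s')
    have hG : Coh.IsCoh ((Dual3.idealMul (J'.comap f)).obj (pw (Coh.structureModule X) s')) :=
      isCoh_of_mono (Dual3.idealMulι (J'.comap f) (pw (Coh.structureModule X) s')) hGq hG₀
    refine ⟨m', (Dual3.idealMul (J'.comap f)).obj (pw (Coh.structureModule X) s'), lam ≫ vN, hG, ?_⟩
    have : sm (toPMMap (lam ≫ vN)) η = sm (toPMMap vN) η ∘ sm (toPMMap lam) η :=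
      funext fun a => sm_comp_apply lam vN η a
    rw [this]
    exact hvN.comp hlamy

end Groth.Agent.Lib.Seat21.Dev
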