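import Groth.Agent.Lib.Seat21DevPushO
import Groth.Agent.Lib.Helper2FinPushFP

/-!
# Direct images of coherent modules along closed immersions (seat 21)

Namespace `Groth.Agent.Lib.Seat21.Dev`: `isCoh_push`, `support_push_subset`, `killedByIdeal_push`, `mem_support_push`.
-/

set_option autoImplicit false
set_option linter.style.haveILetI false
universe u
open CategoryTheory Limits AlgebraicGeometry TopologicalSpace Opposite

noncomputable section

namespace Groth.Agent.Lib.Seat21.Dev

variable {X Z : Scheme.{u}} (i : Z ⟶ X) [IsClosedImmersion i]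

theorem isCoh_push {M : Z.Modules} (hM : Coh.IsCoh M) : Coh.IsCoh ((Scheme.Modules.pushforward i).obj M) := by
  haveI := hM.1
  exact ⟨Groth.Agent.Lib.Helper23.QCohLocal.isQuasicoherent_pushforward i M,
    (Groth.Agent.Lib.Helper2.FinPushFP.isFiniteType_pushforward_iff i M).1 hM.2⟩

theorem support_push_subset (M : Z.Modules) :
    CohB1.support ((Scheme.Modules.pushforward i).obj M) ⊆ Set.range i := by
  intro x hx
  by_contra hcon
  apply hx
  have h := Groth.Agent.Lib.Seat16.ClosedPush.isZero_stalk_pushforward_of_notMem i M x hcon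
  exact AddCommGrpCat.subsingleton_of_isZero h

theorem killedByIdeal_push (M : Z.Modules) : ClSub.KilledByIdeal i.ker ((Scheme.Modules.pushforward i).obj M) := by
  intro U a ha m
  have h0 : (i.app U.1).hom a = 0 := by
    rw [Scheme.Hom.ker_apply] at ha
    exact ha
  let m' : Γ(M, i ⁻¹ᵁ U.1) := m
  show (i.app U.1).hom a • m' = 0
  rw [h0, zero_smul]

theorem mem_support_push {M : Z.Modules} {z : Z} (h : Nontrivial (M.presheaf.stalk z)) :
    i z ∈ CohB1.support ((Scheme.Modules.pushforward i).obj M) := by
  intro hsub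
  haveI := Groth.Agent.Lib.Seat16.ClosedPush.isIso_stalkPushforward i M z
  have hb := ConcreteCategory.bijective_of_isIso (TopCat.Presheaf.stalkPushforward Ab.{u} i.base M.presheaf z)
  obtain ⟨a, b, hab⟩ := h
  obtain ⟨a', rfl⟩ := hb.2 a
  obtain ⟨b', rfl⟩ := hb.2 b
  apply hab
  have : a' = b' := @Subsingleton.elim _ hsub a' b'
  rw [this]

end Groth.Agent.Lib.Seat21.Dev
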