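import Mathlib

/-!
# Seat28: stalks of a pushforward along a closed map

If `π : X ⟶ Y` is a closed map of schemes and `F` an `O_X`-module all of whose stalks at the points
of the fibre `π⁻¹(y)` are trivial, then the stalk of `π_* F` at `y` is trivial.
-/

set_option autoImplicit false
universe u
open CategoryTheory Limits AlgebraicGeometry TopologicalSpace Opposite

namespace Groth.Agent.Lib.Seat28.PushStalk

variable {X Y : Scheme.{u}}

theorem section_eq_zero_of_germ (F : X.Modules) (W : X.Opens) (m : Γ(F, W))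
    (h : ∀ (x : X) (hx : x ∈ W), F.presheaf.germ W x hx m = 0) : m = 0 := by
  apply TopCat.Presheaf.section_ext (⟨F.presheaf, F.isSheaf⟩ : TopCat.Sheaf _ _) W
  intro x hx
  rw [map_zero]
  exact h x hx

/-- If all stalks of `F` along the fibre over `y` are trivial and `π` is closed, then the stalk of
`π_* F` at `y` is trivial. -/
theorem subsingleton_stalk_pushforward (π : X ⟶ Y) (hcl : IsClosedMap π) (F : X.Modules) (y : Y)
    (h : ∀ x : X, π x = y → Subsingleton (F.presheaf.stalk x)) :
    Subsingleton (((Scheme.Modules.pushforward π).obj F).presheaf.stalk y) := by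
  refine ⟨fun t t' => ?_⟩
  suffices H : ∀ t : ((Scheme.Modules.pushforward π).obj F).presheaf.stalk y, t = 0 by
    rw [H t, H t']
  intro t
  obtain ⟨V, hyV, s, rfl⟩ := ((Scheme.Modules.pushforward π).obj F).presheaf.exists_germ_eq (x := y) t
  -- s : Γ(F, π ⁻¹ᵁ V)
  change Γ(F, π ⁻¹ᵁ V) at s
  -- for each x in the fibre, s vanishes near x
  have hloc : ∀ x : X, π x = y → ∃ (W : X.Opens) (hW : W ≤ π ⁻¹ᵁ V), x ∈ W ∧
      F.presheaf.map (homOfLE hW).op s = 0 := by
    intro x hx
    have hxV : x ∈ π ⁻¹ᵁ V := by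
      change π x ∈ V
      rw [hx]; exact hyV
    have := h x hx
    have h0 : F.presheaf.germ (π ⁻¹ᵁ V) x hxV s = F.presheaf.germ (π ⁻¹ᵁ V) x hxV 0 :=
      Subsingleton.elim _ _
    obtain ⟨W, hxW, i1, i2, hW⟩ := TopCat.Presheaf.germ_eq F.presheaf x hxV hxV s 0 h0
    refine ⟨W, i1.le, hxW, ?_⟩
    have : F.presheaf.map i1.op s = F.presheaf.map i2.op 0 := hW
    rw [map_zero] at this
    exact this
  choose W hWle hxW hW0 using hloc
  -- the closed complement of the union of the W x
  let Wtot : Set X := ⋃ (x : X) (hx : π x = y), ((W x hx : X.Opens) : Set X)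
  have hWopen : IsOpen Wtot := isOpen_iUnion fun x => isOpen_iUnion fun hx => (W x hx).isOpen
  have hCclosed : IsClosed (π '' Wtotᶜ) := hcl _ hWopen.isClosed_compl
  have hy_not : y ∉ π '' Wtotᶜ := by
    rintro ⟨x, hxC, hxy⟩
    exact hxC (Set.mem_iUnion.2 ⟨x, Set.mem_iUnion.2 ⟨hxy, hxW x hxy⟩⟩)
  let V' : Y.Opens := V ⊓ ⟨(π '' Wtotᶜ)ᶜ, hCclosed.isOpen_compl⟩
  have hyV' : y ∈ V' := ⟨hyV, hy_not⟩
  have hV'V : V' ≤ V := inf_le_left
  have hres : ((Scheme.Modules.pushforward π).obj F).presheaf.map (homOfLE hV'V).op s = 0 := by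
    change F.presheaf.map ((Opens.map π.base).map (homOfLE hV'V)).op s = 0
    apply section_eq_zero_of_germ
    intro p hp
    -- p ∈ π⁻¹ V', so p ∈ Wtot
    have hpW : p ∈ Wtot := by
      by_contra hn
      exact hp.2 ⟨p, hn, rfl⟩
    obtain ⟨x, hx'⟩ := Set.mem_iUnion.1 hpW
    obtain ⟨hx, hpWx⟩ := Set.mem_iUnion.1 hx'
    -- compare germs through W x ⊓ π⁻¹ V'
    let U : X.Opens := W x hx ⊓ π ⁻¹ᵁ V'
    have hpU : p ∈ U := ⟨hpWx, hp⟩
    have e1 : F.presheaf.germ U p hpU (F.presheaf.map (homOfLE (inf_le_right : U ≤ π ⁻¹ᵁ V')).op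
        (F.presheaf.map ((Opens.map π.base).map (homOfLE hV'V)).op s)) =
        F.presheaf.germ (π ⁻¹ᵁ V') p hp (F.presheaf.map ((Opens.map π.base).map (homOfLE hV'V)).op s) :=
      TopCat.Presheaf.germ_res_apply F.presheaf _ p hpU _
    rw [← e1]
    have e2 : F.presheaf.map (homOfLE (inf_le_right : U ≤ π ⁻¹ᵁ V')).op
        (F.presheaf.map ((Opens.map π.base).map (homOfLE hV'V)).op s) =
        F.presheaf.map (homOfLE (inf_le_left : U ≤ W x hx)).op
          (F.presheaf.map (homOfLE (hWle x hx)).op s) := by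
      rw [← ConcreteCategory.comp_apply, ← ConcreteCategory.comp_apply, ← Functor.map_comp,
        ← Functor.map_comp]
      rfl
    rw [e2, hW0 x hx, map_zero, map_zero]
  have e3 : ((Scheme.Modules.pushforward π).obj F).presheaf.germ V' y hyV'
      (((Scheme.Modules.pushforward π).obj F).presheaf.map (homOfLE hV'V).op s) =
      ((Scheme.Modules.pushforward π).obj F).presheaf.germ V y hyV s :=
    TopCat.Presheaf.germ_res_apply ((Scheme.Modules.pushforward π).obj F).presheaf (homOfLE hV'V) y hyV' s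
  rw [← e3, hres, map_zero]

/-- Contrapositive form: a nontrivial stalk of `π_* F` at `y` comes from a nontrivial stalk of `F`
at some point of the fibre over `y` (for `π` a closed map). -/
theorem exists_nontrivial_stalk_of_pushforward (π : X ⟶ Y) (hcl : IsClosedMap π) (F : X.Modules)
    (y : Y) (h : Nontrivial (((Scheme.Modules.pushforward π).obj F).presheaf.stalk y)) :
    ∃ x : X, π x = y ∧ Nontrivial (F.presheaf.stalk x) := by
  by_contra hne
  have := subsingleton_stalk_pushforward π hcl F y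
    (fun x hx => not_nontrivial_iff_subsingleton.1 (fun hn => hne ⟨x, hx, hn⟩))
  exact not_nontrivial_iff_subsingleton.2 this h

end Groth.Agent.Lib.Seat28.PushStalk
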