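import Groth.Agent.Lib.Seat21DevAR
import Groth.Agent.Lib.Seat21DevPushM
import Groth.Agent.Lib.Seat28PushStalk

/-!
# Direct images of `O_W` along a closed map, for a closed subscheme `W ⊆ Y` (seat 21)

Namespace `Groth.Agent.Lib.Seat21.Dev`: `support_push_quotMod`, `killedByIdeal_push_quotMod`.
-/

set_option autoImplicit false
set_option linter.style.haveILetI false
universe u
open CategoryTheory Limits AlgebraicGeometry TopologicalSpace Opposite

noncomputable section

namespace Groth.Agent.Lib.Seat21.Dev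

open Groth.Agent.Lib.Helper1.StalkTensor Groth.Agent.Lib.Helper1.Sky Groth.Agent.Lib.Seat21.QSub

variable {Y X : Scheme.{u}} (f : Y ⟶ X) (I : Y.IdealSheafData)

/-- the support of `f_* (O_Y / I)` for a closed map `f` is the image of `V(I)` -/
theorem support_push_quotMod (hcl : IsClosedMap f) :
    CohB1.support ((Coh.push f).obj (ClSub.quotMod I)) = f '' (Set.range I.subschemeι) := by
  apply Set.Subset.antisymm
  · intro x hx
    by_contra hcon
    apply hx
    refine Groth.Agent.Lib.Seat28.PushStalk.subsingleton_stalk_pushforward f hcl (ClSub.quotMod I) x ?_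
    intro y hy
    by_contra hns
    exact hcon ⟨y, support_quotMod_subset I hns, hy⟩
  · rintro x ⟨y, ⟨w, rfl⟩, rfl⟩
    intro hsub
    -- the germ of the section `1`
    let G := (Coh.push f).obj (ClSub.quotMod I)
    let one : Γ(G, ⊤) := (1 : Γ(I.subscheme, I.subschemeι ⁻¹ᵁ (f ⁻¹ᵁ ⊤)))
    have h0 : gmM G (f (I.subschemeι w)) ⊤ trivial one = gmM G (f (I.subschemeι w)) ⊤ trivial 0 :=
      @Subsingleton.elim _ hsub _ _
    obtain ⟨W, hxW, iU, iV, hW⟩ := gm_eq (P := toPM G) (U := ⊤) (V := ⊤) (Opens.mem_top _) (Opens.mem_top _) _ _ h0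
    have h1 : res G iU.le one = 0 := by
      have : rs (toPM G) iV 0 = 0 := map_zero _
      exact hW.trans this
    have h2 : (1 : Γ(I.subscheme, I.subschemeι ⁻¹ᵁ (f ⁻¹ᵁ W))) = 0 := by
      have e : res G iU.le one = (1 : Γ(I.subscheme, I.subschemeι ⁻¹ᵁ (f ⁻¹ᵁ W))) := by
        show (I.subscheme.presheaf.map (homOfLE (fun z hz => iU.le hz :
          I.subschemeι ⁻¹ᵁ (f ⁻¹ᵁ W) ≤ I.subschemeι ⁻¹ᵁ (f ⁻¹ᵁ ⊤))).op).hom 1 = 1
        exact map_one _
      exact e.symm.trans h1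
    have hw : w ∈ I.subschemeι ⁻¹ᵁ (f ⁻¹ᵁ W) := hxW
    have h3 := congrArg (I.subscheme.presheaf.germ (I.subschemeι ⁻¹ᵁ (f ⁻¹ᵁ W)) w hw).hom h2
    rw [map_one, map_zero] at h3
    exact one_ne_zero h3

/-- if `V(I)` is reduced and maps into the closed set `C`, then `f_* (O_Y / I)` is killed by the vanishing ideal of
`C` -/
theorem killedByIdeal_push_quotMod [IsReduced I.subscheme] {C : Set X} (hC : IsClosed C)
    (hIC : ∀ w : I.subscheme, f (I.subschemeι w) ∈ C) :
    ClSub.KilledByIdeal (Scheme.IdealSheafData.vanishingIdeal ⟨C, hC⟩) ((Coh.push f).obj (ClSub.quotMod I)) := by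
  intro U a ha m
  let b : Γ(I.subscheme, I.subschemeι ⁻¹ᵁ (f ⁻¹ᵁ U.1)) :=
    (I.subschemeι.app (f ⁻¹ᵁ U.1)).hom ((f.app U.1).hom a)
  have hb : b = 0 := by
    rw [← AlgebraicGeometry.basicOpen_eq_bot_iff]
    ext w
    simp only [Opens.coe_bot, Set.mem_empty_iff_false, iff_false]
    intro hw
    have h1 : I.subscheme.basicOpen b = I.subschemeι ⁻¹ᵁ (Y.basicOpen ((f.app U.1).hom a)) :=
      (Scheme.preimage_basicOpen I.subschemeι ((f.app U.1).hom a)).symm
    have h2 : Y.basicOpen ((f.app U.1).hom a) = f ⁻¹ᵁ (X.basicOpen a) :=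
      (Scheme.preimage_basicOpen f a).symm
    rw [h1, h2] at hw
    have hw' : f (I.subschemeι w) ∈ X.basicOpen a := hw
    have ha' : a ∈ Jv (Scheme.IdealSheafData.vanishingIdeal ⟨C, hC⟩) U.1 := by
      rw [Jv_eq_of_affine]; exact ha
    exact notMem_of_mem_basicOpen_of_mem_vanishingIdeal hC U.2 ha' hw' (hIC w)
  let m' : Γ(I.subscheme, I.subschemeι ⁻¹ᵁ (f ⁻¹ᵁ U.1)) := m
  show b * m' = 0
  rw [hb, zero_mul]

end Groth.Agent.Lib.Seat21.Dev
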