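import Groth.Agent.S0786
import Groth.Agent.Lib.Helper2PullbackSec
import Groth.Agent.Lib.Seat96ModSec

/-!
# Subobjects of `i_* O_Z` for a closed immersion `i` (seat 21)

Namespace `Groth.Agent.Lib.Seat21.Dev`.

* `faithful_pushforward i` : `i_*` is faithful for a closed immersion `i` (hence reflects monomorphisms).
* `exists_ideal_of_mono i N j` : a quasi-coherent subobject `j : N ↪ i_* O_Z` is `≅ i_* I` for a quasi-coherent
  ideal `ι : I ↪ O_Z`.
-/

set_option autoImplicit false
set_option linter.style.haveILetI false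
universe u
open CategoryTheory Limits AlgebraicGeometry TopologicalSpace Opposite

noncomputable section

namespace Groth.Agent.Lib.Seat21.Dev

variable {Z X : Scheme.{u}} (i : Z ⟶ X) [IsClosedImmersion i]

theorem pushforward_map_injective {A B : Z.Modules} (f g : A ⟶ B)
    (h : (Scheme.Modules.pushforward i).map f = (Scheme.Modules.pushforward i).map g) : f = g := by
  apply Scheme.Modules.hom_ext
  intro V
  obtain ⟨U, rfl⟩ : ∃ U : X.Opens, i ⁻¹ᵁ U = V := by
    obtain ⟨U, hU, hUV⟩ := i.isClosedEmbedding.isInducing.isOpen_iff.1 V.isOpen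
    exact ⟨⟨U, hU⟩, Opens.ext hUV⟩
  have := congrArg (fun φ => Scheme.Modules.Hom.app φ U) h
  exact this

instance faithful_pushforward : (Scheme.Modules.pushforward i).Faithful :=
  ⟨fun {_ _ f g} h => pushforward_map_injective i f g h⟩

/-- a subobject of `i_* O_Z` is killed by the ideal of `i` -/
theorem killed_of_mono (N : X.Modules) (j : N ⟶ (Scheme.Modules.pushforward i).obj (Coh.structureModule Z)) [Mono j]
    (U : X.affineOpens) (r : Γ(X, U.1)) (hr : r ∈ i.ker.ideal U) (m : Γ(N, U.1)) : r • m = 0 := by
  apply Groth.Agent.Lib.Seat96.ModSec.injective_app_of_mono j U.1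
  rw [Scheme.Modules.Hom.app_smul, map_zero]
  have h0 : (i.app U.1).hom r = 0 := by
    rw [Scheme.Hom.ker_apply] at hr
    exact hr
  let t : Γ(Z, i ⁻¹ᵁ U.1) := j.app U.1 m
  show (i.app U.1).hom r * t = 0
  rw [h0, zero_mul]

/-- a quasi-coherent subobject of `i_* O_Z` is the direct image of a quasi-coherent ideal of `O_Z` -/
theorem exists_ideal_of_mono (N : X.Modules) [N.IsQuasicoherent]
    (j : N ⟶ (Scheme.Modules.pushforward i).obj (Coh.structureModule Z)) [Mono j] :
    ∃ (I : Z.Modules) (ι : I ⟶ Coh.structureModule Z), Mono ι ∧ Coh.IsQCoh I ∧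
      Nonempty ((Coh.push i).obj I ≅ N) := by
  let adj := Scheme.Modules.pullbackPushforwardAdjunction i
  haveI hη : IsIso (adj.unit.app N) :=
    Groth.Agent.S0786.isIso_unit_closedImmersion i N (killed_of_mono i N j)
  let ι : (Scheme.Modules.pullback i).obj N ⟶ Coh.structureModule Z :=
    (Scheme.Modules.pullback i).map j ≫ adj.counit.app (Coh.structureModule Z)
  have hι : adj.unit.app N ≫ (Scheme.Modules.pushforward i).map ι = j := by
    have h1 := adj.unit.naturality j
    have h2 := adj.right_triangle_components (Coh.structureModule Z)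
    simp only [Functor.id_obj, Functor.comp_obj, Functor.id_map, Functor.comp_map] at h1 h2
    rw [Functor.map_comp, ← Category.assoc, ← h1, Category.assoc, h2, Category.comp_id]
  have hm : Mono ((Scheme.Modules.pushforward i).map ι) := by
    have : (Scheme.Modules.pushforward i).map ι = inv (adj.unit.app N) ≫ j := by
      rw [← hι, IsIso.inv_hom_id_assoc]
    rw [this]
    infer_instance
  refine ⟨(Scheme.Modules.pullback i).obj N, ι, (Scheme.Modules.pushforward i).mono_of_mono_map hm,
    Groth.Agent.Lib.Helper2.PullbackSec.isQuasicoherent_pullback i N, ⟨(asIso (adj.unit.app N)).symm⟩⟩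

end Groth.Agent.Lib.Seat21.Dev
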