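import Groth.Agent.Lib.Seat21DevTF
import Groth.Agent.Lib.Seat21DevPushM
import Groth.Agent.Lib.Seat21DevAR

/-!
# `i_* O_Z` for a closed immersion from an integral scheme (seat 21)

Namespace `Groth.Agent.Lib.Seat21.Dev`.  `i : Z ⟶ X` a closed immersion, `Z` integral, `ξ = i (genericPoint Z)`.

* `epi_unitToPush` : `O_X ⟶ i_* O_Z` is an epimorphism.
* `rankOne_pushO` : the stalk of `i_* O_Z` at `ξ` is the residue field (in the form `RankOne`).
* `torsionFreeAt_pushO` : a subobject of `i_* O_Z` with vanishing stalk at `ξ` is zero.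
-/

set_option autoImplicit false
set_option linter.style.haveILetI false
universe u
open CategoryTheory Limits AlgebraicGeometry TopologicalSpace Opposite

noncomputable section

namespace Groth.Agent.Lib.Seat21.Dev

open Groth.Agent.Lib.Helper1.StalkTensor Groth.Agent.Lib.Helper1.Sky Groth.Agent.Lib.Seat21.QSub

variable {X Z : Scheme.{u}} (i : Z ⟶ X)

/-- `i_* O_Z` -/
abbrev pushO : X.Modules := (Scheme.Modules.pushforward i).obj (Coh.structureModule Z)

instance epi_unitToPush [IsClosedImmersion i] : Epi (ClSub.unitToPush i) := by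
  refine ⟨fun {T} g h hgh => ?_⟩
  apply Groth.Agent.Lib.Seat96.ModSec.hom_ext_affine
  intro U
  ext b
  obtain ⟨a, rfl⟩ := Scheme.Hom.app_surjective i U.1 U.2 b
  have := congr($(congrArg (fun φ => Scheme.Modules.Hom.app φ U.1) hgh) a)
  exact this

/-- the section `1` of `i_* O_Z` over `V` -/
def oneP (V : X.Opens) : Γ(pushO i, V) := (1 : Γ(Z, i ⁻¹ᵁ V))

theorem unitToPush_app_eq_smul (V : X.Opens) (s : Γ(X, V)) :
    (ClSub.unitToPush i).app V (s : Γ(Coh.structureModule X, V)) = s • oneP i V := by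
  show (i.app V).hom s = (i.app V).hom s * 1
  rw [mul_one]

theorem res_oneP {V V' : X.Opens} (h : V' ≤ V) : res (pushO i) h (oneP i V) = oneP i V' := by
  show (Z.presheaf.map (homOfLE ((Opens.map i.base).monotone h)).op).hom 1 = 1
  exact map_one _

theorem gmM_oneP_ne_zero (z : Z) (V : X.Opens) (hyV : i z ∈ V) :
    gmM (pushO i) (i z) V hyV (oneP i V) ≠ 0 := by
  intro hc
  have h0 : gmM (pushO i) (i z) V hyV (oneP i V) = gmM (pushO i) (i z) V hyV 0 := by rw [hc, map_zero]
  obtain ⟨W, hzW, iU, iV, hW⟩ := gm_eq (P := toPM (pushO i)) hyV hyV _ _ h0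
  have h1 : res (pushO i) iU.le (oneP i V) = 0 := by
    have : rs (toPM (pushO i)) iV 0 = 0 := map_zero _
    exact hW.trans this
  rw [res_oneP] at h1
  have h2 : (1 : Γ(Z, i ⁻¹ᵁ W)) = 0 := h1
  have hz : z ∈ i ⁻¹ᵁ W := hzW
  have h3 := congrArg (Z.presheaf.germ (i ⁻¹ᵁ W) z hz).hom h2
  rw [map_one, map_zero] at h3
  exact one_ne_zero h3

/-- for `Z` reduced, `i_* O_Z` is killed by the ideal of functions vanishing on a closed set containing the image -/
theorem killedByIdeal_pushO_vanishingIdeal [IsReduced Z] {C : Set X} (hC : IsClosed C) (hiC : Set.range i ⊆ C) :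
    ClSub.KilledByIdeal (Scheme.IdealSheafData.vanishingIdeal ⟨C, hC⟩) (pushO i) := by
  intro U a ha m
  have h0 : (i.app U.1).hom a = 0 := by
    rw [← AlgebraicGeometry.basicOpen_eq_bot_iff]
    have hpre : i ⁻¹ᵁ X.basicOpen a = Z.basicOpen ((i.app U.1).hom a) := Scheme.preimage_basicOpen i a
    rw [← hpre]
    ext z
    simp only [Opens.coe_bot, Set.mem_empty_iff_false, iff_false]
    intro hz
    have hz' : i z ∈ X.basicOpen a := hz
    have ha' : a ∈ Jv (Scheme.IdealSheafData.vanishingIdeal ⟨C, hC⟩) U.1 := by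
      rw [Jv_eq_of_affine _ U]
      exact ha
    exact notMem_of_mem_basicOpen_of_mem_vanishingIdeal hC U.2 ha' hz' (hiC (Set.mem_range_self z))
  let m' : Γ(Z, i ⁻¹ᵁ U.1) := m
  show (i.app U.1).hom a * m' = 0
  rw [h0, zero_mul]

variable [IsClosedImmersion i] [IsIntegral Z]

omit [IsClosedImmersion i] in
theorem range_subset_closure_genericPoint : Set.range i ⊆ closure {i (genericPoint Z)} := by
  rintro _ ⟨z, rfl⟩
  exact specializes_iff_mem_closure.1 ((genericPoint_specializes z).map i.continuous)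

/-- `i_* O_Z` has stalk the residue field at the image of the generic point. -/
theorem rankOne_pushO : RankOne (pushO i) (i (genericPoint Z)) := by
  set y := i (genericPoint Z) with hy
  refine ⟨gmM (pushO i) y ⊤ trivial (oneP i ⊤), gmM_oneP_ne_zero i (genericPoint Z) ⊤ trivial, ?_, ?_⟩
  · intro w
    obtain ⟨a, rfl⟩ := sm_surjective_of_epi (ClSub.unitToPush i) y w
    obtain ⟨V, hyV, s, rfl⟩ := exists_gm_eq (P := toPM (Coh.structureModule X)) a
    refine ⟨grX y V hyV s, ?_⟩
    have e1 := smM_gmM (ClSub.unitToPush i) y V hyV s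
    let s' : Γ(X, V) := s
    have e2 : (ClSub.unitToPush i).app V s = s' • oneP i V := unitToPush_app_eq_smul i V s'
    have e3 : gmM (pushO i) y V hyV (s' • oneP i V) =
        grX y V hyV s' • gmM (pushO i) y V hyV (oneP i V) := gmM_smul _ y V hyV s' _
    have e4 : gmM (pushO i) y V hyV (oneP i V) = gmM (pushO i) y ⊤ trivial (oneP i ⊤) := by
      rw [← res_oneP i (le_top : V ≤ ⊤), gmM_res]
    exact (e1.trans (congrArg _ e2)).trans (e3.trans (by rw [e4]))
  · intro r hr
    exact maximalIdeal_smul_eq_zero_of_killedByIdeal (isClosed_closure (s := {y})) rfl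
      (killedByIdeal_pushO_vanishingIdeal i isClosed_closure (range_subset_closure_genericPoint i)) r hr _

omit [IsClosedImmersion i] in
/-- `i_* O_Z` is torsion-free at the image of the generic point -/
theorem torsionFreeAt_pushO : TorsionFreeAt (pushO i) (i (genericPoint Z)) := by
  set y := i (genericPoint Z) with hy
  intro A j hj hyA
  haveI := hj
  haveI : Subsingleton (St (toPM A) y) := subsingleton_stalk_of_not_mem_support hyA
  apply isZero_of_forall_section_eq_zero
  intro U s
  apply Groth.Agent.Lib.Seat96.ModSec.injective_app_of_mono j U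
  rw [map_zero]
  by_cases hU : i ⁻¹ᵁ U = ⊥
  · haveI : Subsingleton Γ(Z, i ⁻¹ᵁ U) := by
      rw [hU]; infer_instance
    exact Subsingleton.elim (α := Γ(Z, i ⁻¹ᵁ U)) _ _
  · obtain ⟨z, hz⟩ : ∃ z, z ∈ i ⁻¹ᵁ U := by
      by_contra hcon
      apply hU
      ext w
      simp only [Opens.coe_bot, Set.mem_empty_iff_false, iff_false]
      exact fun hw => hcon ⟨w, hw⟩
    have hzZ : i z ∈ closure {y} := range_subset_closure_genericPoint i (Set.mem_range_self z)
    have hyU : y ∈ U := (specializes_iff_mem_closure.2 hzZ).mem_open U.isOpen hz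
    have h0 : gmM A y U hyU s = gmM A y U hyU 0 := Subsingleton.elim _ _
    obtain ⟨W, hyW, iU, iV, hW⟩ := gm_eq (P := toPM A) hyU hyU _ _ h0
    have h1 : res A iU.le s = 0 := by
      have : rs (toPM A) iV 0 = 0 := map_zero _
      exact hW.trans this
    have h2 : res (pushO i) iU.le (j.app U s) = 0 := by
      rw [← app_res, h1, map_zero]
    have hz₀W : genericPoint Z ∈ i ⁻¹ᵁ W := show i (genericPoint Z) ∈ W from hyW
    have hle : i ⁻¹ᵁ W ≤ i ⁻¹ᵁ U := fun w hw => iU.le hw
    have hinj := map_injective_of_isIntegral (X := Z) (H := ⟨⟨genericPoint Z, hz₀W⟩⟩) (homOfLE hle)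
    exact hinj (h2.trans (map_zero (Z.presheaf.map (homOfLE hle).op).hom).symm)

end Groth.Agent.Lib.Seat21.Dev
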