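import Groth.Agent.Lib.Seat21DevPow

/-!
# Finite coproducts of copies of a module as iterated biproducts (seat 21)

`nonempty_sigma_iso_pw F n : Nonempty ((∐ fun _ : Fin (n + 1) => F) ≅ pw F n)`.
-/

set_option autoImplicit false
set_option linter.style.haveILetI false
universe u
open CategoryTheory Limits AlgebraicGeometry TopologicalSpace Opposite

noncomputable section

namespace Groth.Agent.Lib.Seat21.Dev

variable {X : Scheme.{u}}

theorem nonempty_sigma_iso_pw (F : X.Modules) : ∀ n : ℕ, Nonempty ((∐ fun _ : Fin (n + 1) => F) ≅ pw F n)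
  | 0 => ⟨coproductUniqueIso (fun _ : Fin 1 => F)⟩
  | n + 1 => by
    obtain ⟨e⟩ := nonempty_sigma_iso_pw F n
    let c₁ : Cofan (fun _ : Fin (n + 1) => F) := Cofan.mk (pw F n) (fun i => Sigma.ι (fun _ : Fin (n + 1) => F) i ≫ e.hom)
    have t₁ : IsColimit c₁ :=
      IsColimit.ofIsoColimit (colimit.isColimit _) (Cocone.ext e (fun ⟨i⟩ => rfl))
    let c₂ : BinaryCofan F c₁.pt := (BinaryBiproduct.bicone F (pw F n)).toCocone
    have t₂ : IsColimit c₂ := BinaryBiproduct.isColimit F (pw F n)
    have t := extendCofanIsColimit (fun _ : Fin (n + 2) => F) t₁ t₂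
    exact ⟨(colimit.isColimit _).coconePointUniqueUpToIso t⟩

end Groth.Agent.Lib.Seat21.Dev
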