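import Groth.Agent.Lib.Seat21DevSummand
import Groth.Agent.Lib.Seat21DevPushInt
import Groth.Agent.Lib.Seat21DevIdeal
import Groth.Agent.Lib.Seat21DevSigma
import Groth.Agent.Lib.Seat21DevFilt
import Groth.Agent.Lib.Helper23Extend2

/-!
# Coherent modules killed by the maximal ideal at a generic point (seat 21)

Namespace `Groth.Agent.Lib.Seat21.Dev`.

* `exists_open_isIso_restrict` : a monomorphism of coherent modules which is surjective on the stalks at `y` restricts to
  an isomorphism on an open neighbourhood of `y`.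
* `exists_mono_push_ideal_pow` (Stacks 01YE-type statement): `X` Noetherian, `i : Z ⟶ X` a closed immersion with `Z` integral,
  `ξ` the image of the generic point, `F` coherent with `F_ξ` killed by the maximal ideal: there are `r`, a coherent ideal
  `I ⊆ O_Z` and a monomorphism `i_*(I^⊕r) ⟶ F` bijective on the stalks at `ξ`.
-/

set_option autoImplicit false
set_option linter.style.haveILetI false
universe u
open CategoryTheory Limits AlgebraicGeometry TopologicalSpace Opposite

noncomputable section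

namespace Groth.Agent.Lib.Seat21.Dev

open Groth.Agent.Lib.Helper1.StalkTensor Groth.Agent.Lib.Helper1.Sky Groth.Agent.Lib.Seat21.QSub

variable {X : Scheme.{u}}

theorem sm_bijective_of_iso {A B : X.Modules} (e : A ≅ B) (y : X) : Function.Bijective (sm (toPMMap e.hom) y) := by
  refine Function.bijective_iff_has_inverse.2 ⟨sm (toPMMap e.inv) y, fun a => ?_, fun b => ?_⟩
  · rw [← sm_comp_apply, e.hom_inv_id, sm_id_apply]
  · rw [← sm_comp_apply, e.inv_hom_id, sm_id_apply]

theorem section_eq_zero_of_isZero {A : X.Modules} (hA : IsZero A) (V : X.Opens) (s : Γ(A, V)) : s = 0 := by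
  have h : (𝟙 A : A ⟶ A) = 0 := hA.eq_of_src _ _
  have := Groth.Agent.Lib.Seat96.ModSec.app_congr h V s
  rwa [Groth.Agent.Lib.Seat96.ModSec.id_app_apply, Groth.Agent.Lib.Seat96.ModSec.zero_app_apply] at this

theorem stalk_eq_zero_of_isZero {A : X.Modules} (hA : IsZero A) (y : X) (a : St (toPM A) y) : a = 0 := by
  obtain ⟨V, hyV, s, rfl⟩ := exists_gm_eq (P := toPM A) a
  have : s = 0 := section_eq_zero_of_isZero hA V s
  rw [this, map_zero]

/-- a monomorphism of coherent modules which is surjective on stalks at `y` is an isomorphism near `y` -/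
theorem exists_open_isIso_restrict {A F : X.Modules} (hA : Coh.IsCoh A) (hF : Coh.IsCoh F) (φ : A ⟶ F) [Mono φ]
    (y : X) (hφ : Function.Surjective (sm (toPMMap φ) y)) :
    ∃ U : X.Opens, y ∈ U ∧ IsIso ((Scheme.Modules.restrictFunctor U.ι).map φ) := by
  have hC : Coh.IsCoh (cokernel φ) := isCoh_cokernel hA hF φ
  have hcl : IsClosed (CohB1.support (cokernel φ)) := Groth.Agent.S0020.result X _ hC.2
  have hy : y ∉ CohB1.support (cokernel φ) := not_mem_support_cokernel φ y hφ
  refine ⟨⟨(CohB1.support (cokernel φ))ᶜ, hcl.isOpen_compl⟩, hy, ?_⟩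
  rw [Groth.Agent.Lib.Helper23.Extend.isIso_restrict_iff]
  intro W' hW'
  rw [Scheme.Opens.opensRange_ι] at hW'
  rw [ConcreteCategory.isIso_iff_bijective]
  refine ⟨Groth.Agent.Lib.Seat96.ModSec.injective_app_of_mono φ W', fun a => ?_⟩
  have h0 : (cokernel.π φ).app W' a = 0 := by
    apply eq_zero_of_gmM_eq_zero
    intro x hx
    haveI : Subsingleton (St (toPM (cokernel φ)) x) := subsingleton_stalk_of_not_mem_support (hW' hx)
    exact Subsingleton.elim _ _
  obtain ⟨r, hr⟩ := Groth.Agent.Lib.Seat96.ModSec.exists_kernelι_app_eq (cokernel.π φ) W' a h0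
  let ℓ : kernel (cokernel.π φ) ⟶ A := Abelian.monoLift φ (kernel.ι (cokernel.π φ)) (kernel.condition _)
  have hℓ : ℓ ≫ φ = kernel.ι (cokernel.π φ) := Abelian.monoLift_comp φ _ _
  refine ⟨ℓ.app W' r, ?_⟩
  rw [← hr, ← hℓ]
  rfl

variable {Z : Scheme.{u}}

/-- **Stacks 01YE**: a coherent module whose stalk at the generic point `ξ` of the integral closed subscheme `Z` is killed by
the maximal ideal contains `i_*(I^⊕r)` for a coherent ideal `I ⊆ O_Z`, with the same stalk at `ξ`. -/
theorem exists_mono_push_ideal_pow [IsNoetherian X] (i : Z ⟶ X) [IsClosedImmersion i] [IsIntegral Z]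
    (F : X.Modules) (hF : Coh.IsCoh F)
    (hkill : ∀ r ∈ IsLocalRing.maximalIdeal (Ox (i (genericPoint Z))),
      ∀ a : St (toPM F) (i (genericPoint Z)), r • a = 0) :
    ∃ (r : ℕ) (I : Z.Modules) (ι : I ⟶ Coh.structureModule Z)
      (φ : (Coh.push i).obj (∐ fun _ : Fin r => I) ⟶ F),
      Mono ι ∧ Coh.IsCoh I ∧ Coh.IsCoh ((Coh.push i).obj (∐ fun _ : Fin r => I)) ∧ Mono φ ∧
        Function.Bijective (sm (toPMMap φ) (i (genericPoint Z))) := by
  classical
  set y := i (genericPoint Z) with hy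
  have hOZ : Coh.IsCoh (Coh.structureModule Z) := isCoh_structureModule Z
  have hO' : Coh.IsCoh (pushO i) := isCoh_push i hOZ
  have hO'1 : RankOne (pushO i) y := rankOne_pushO i
  have hO'tf : TorsionFreeAt (pushO i) y := torsionFreeAt_pushO i
  haveI : Module.Finite (Ox y) (St (toPM F) y) := finite_stalk_of_isCoh hF y
  obtain ⟨q, ⟨e⟩⟩ := exists_linearEquiv_pi_of_killed hkill
  cases q with
  | zero =>
    have hz0 : IsZero (∐ fun _ : Fin 0 => Coh.structureModule Z) :=
      (IsZero.iff_id_eq_zero _).2 (Sigma.hom_ext _ _ (fun j => j.elim0))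
    have hz : IsZero ((Coh.push i).obj (∐ fun _ : Fin 0 => Coh.structureModule Z)) :=
      Functor.map_isZero (Coh.push i) hz0
    refine ⟨0, Coh.structureModule Z, 𝟙 _, 0, inferInstance, hOZ, isCoh_of_isZero hz, ?_, ?_, ?_⟩
    · exact ⟨fun {T} g h _ => hz.eq_of_tgt g h⟩
    · intro a b _
      rw [stalk_eq_zero_of_isZero hz y a, stalk_eq_zero_of_isZero hz y b]
    · intro b
      refine ⟨0, ?_⟩
      apply e.injective
      exact Subsingleton.elim _ _
  | succ n =>
    obtain ⟨eG⟩ := hO'1.nonempty_linearEquiv_quotient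
    obtain ⟨eP⟩ := stalk_pw eG n
    have hPn : Coh.IsCoh (pw (pushO i) n) := isCoh_pw hO' n
    obtain ⟨H, u, v, hH, hu, hv, hHs, huv⟩ :=
      exists_correspondence' (pw (pushO i) n) F hPn hF y (eP ≪≫ₗ e.symm)
    haveI : Mono v := mono_of_torsionFreeAt u v huv (hO'tf.pw n) hv.1
    haveI := hH.1
    haveI := hPn.1
    haveI := hO'.1
    -- a subsheaf of `H` on which `u` is injective
    have hCu₀ : Coh.IsCoh (cokernel u) := isCoh_cokernel hH hPn u
    have hIu₀ : Coh.IsCoh (Abelian.image u) := isCoh_kernel hPn hCu₀ (cokernel.π u)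
    have hKu₀ : Coh.IsCoh (kernel (Abelian.factorThruImage u)) := isCoh_kernel hH hIu₀ _
    have hC₁ : IsClosed (CohB1.support (kernel (Abelian.factorThruImage u))) :=
      Groth.Agent.S0020.result X _ hKu₀.2
    have hinjF : Function.Injective (sm (toPMMap (Abelian.factorThruImage u)) y) := by
      intro a b hab
      apply hu.1
      rw [← Abelian.image.fac u, sm_comp_apply, sm_comp_apply, hab]
    have hyC₁ : y ∉ CohB1.support (kernel (Abelian.factorThruImage u)) := not_mem_support_kernel _ y hinjF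
    obtain ⟨N, hNq, hNinj, hNtop⟩ := exists_subSh_inj hH u hC₁
      (fun x hx => sm_injective_of_notMem_support_kernel u x hx)
    have hN : Coh.IsCoh N.toModules := isCoh_subSh hH N hNq
    have hιy : Function.Bijective (sm (toPMMap N.ι) y) := by
      refine ⟨sm_injective_of_mono N.ι y, fun b => ?_⟩
      exact exists_of_mem_stalkSub N y ((hNtop y hyC₁) ▸ Submodule.mem_top)
    let uN : N.toModules ⟶ pw (pushO i) n := N.ι ≫ u
    let vN : N.toModules ⟶ F := N.ι ≫ v
    have huN : Function.Bijective (sm (toPMMap uN) y) := by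
      have : sm (toPMMap uN) y = sm (toPMMap u) y ∘ sm (toPMMap N.ι) y := funext fun a => sm_comp_apply N.ι u y a
      rw [this]
      exact hu.comp hιy
    have hvN : Function.Bijective (sm (toPMMap vN) y) := by
      have : sm (toPMMap vN) y = sm (toPMMap v) y ∘ sm (toPMMap N.ι) y := funext fun a => sm_comp_apply N.ι v y a
      rw [this]
      exact hv.comp hιy
    haveI : Mono uN := by
      apply mono_of_injective_app
      intro V
      rw [injective_iff_map_eq_zero]
      intro t ht
      apply N.ι_app_injective V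
      rw [map_zero]
      exact hNinj V _ (N.ι_app_mem V t) ht
    haveI : Mono vN := mono_comp N.ι v
    -- the cokernel of `uN` is killed by a power of the ideal of its support
    have hQ : Coh.IsCoh (cokernel uN) := isCoh_cokernel hN hPn uN
    haveI := hQ.1
    have hC₂ : IsClosed (CohB1.support (cokernel uN)) := Groth.Agent.S0020.result X _ hQ.2
    have hyC₂ : y ∉ CohB1.support (cokernel uN) := not_mem_support_cokernel uN y huN.2
    obtain ⟨n₂, hn₂⟩ := ar_global (I := Scheme.IdealSheafData.vanishingIdeal ⟨_, hC₂⟩) hQ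
      (0 : cokernel uN ⟶ cokernel uN)
      (fun T hT a ha x hx => by
        have hx' := notMem_of_mem_basicOpen_of_mem_vanishingIdeal hC₂ hT ha hx
        haveI : Subsingleton (St (toPM (cokernel uN)) x) := subsingleton_stalk_of_not_mem_support hx'
        exact fun a b _ => Subsingleton.elim a b)
    set 𝔍 : X.IdealSheafData := Scheme.IdealSheafData.vanishingIdeal ⟨_, hC₂⟩ with h𝔍
    let J : SubSh (pushO i) := powSub 𝔍 n₂ (pushO i)
    have hJq : J.QCOn ⊤ := qcOn_powSub _ _
    have hJ : Coh.IsCoh J.toModules := isCoh_subSh hO' J hJq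
    haveI := hJ.1
    have hjmem : ∀ (T : X.affineOpens) (t : Γ(J.toModules, T.1)),
        J.ι.app T.1 t ∈ (Jv 𝔍 T.1 ^ n₂) • (⊤ : Submodule Γ(X, T.1) Γ(pushO i, T.1)) := by
      intro T t
      rw [← powSub_carrier_eq_of_affine 𝔍 n₂ T.2]
      exact J.ι_app_mem T.1 t
    have hkillQ : ∀ (T : X.affineOpens), ∀ a ∈ Jv 𝔍 T.1 ^ n₂, ∀ q : Γ(cokernel uN, T.1), a • q = 0 := by
      intro T a ha q
      have hmem : a • q ∈ (powSub 𝔍 n₂ (cokernel uN)).carrier T.1 :=
        le_powSub _ n₂ T.1 (Submodule.smul_mem_smul ha Submodule.mem_top)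
      exact hn₂ n₂ le_rfl T.1 _ hmem rfl
    have hzero : pwMap J.ι n ≫ cokernel.π uN = 0 :=
      pwMap_comp_eq_zero J.ι (fun ρ => comp_eq_zero_of_killed J.ι ρ (fun T => Jv 𝔍 T.1 ^ n₂) hjmem hkillQ) n _
    have hjy : Function.Bijective (sm (toPMMap J.ι) y) := by
      refine ⟨sm_injective_of_mono J.ι y, fun b => ?_⟩
      have htop := stalkSub_powSub_eq_top 𝔍 n₂ (pushO i) y (exists_mem_vanishingIdeal_of_notMem hC₂ hyC₂)
      exact exists_of_mem_stalkSub J y (htop ▸ Submodule.mem_top)
    let lam : pw J.toModules n ⟶ N.toModules := Abelian.monoLift uN (pwMap J.ι n) hzero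
    have hlam : lam ≫ uN = pwMap J.ι n := Abelian.monoLift_comp uN (pwMap J.ι n) hzero
    haveI : Mono lam := mono_of_mono_fac hlam
    have hlamy : Function.Bijective (sm (toPMMap lam) y) := by
      refine ⟨sm_injective_of_mono lam y, fun b => ?_⟩
      obtain ⟨a, ha⟩ := (sm_pwMap_bijective J.ι y hjy n).2 (sm (toPMMap uN) y b)
      refine ⟨a, huN.1 ?_⟩
      rw [← sm_comp_apply, hlam, ha]
    let φ₀ : pw J.toModules n ⟶ F := lam ≫ vN
    haveI : Mono φ₀ := mono_comp lam vN
    have hφ₀y : Function.Bijective (sm (toPMMap φ₀) y) := by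
      have : sm (toPMMap φ₀) y = sm (toPMMap vN) y ∘ sm (toPMMap lam) y := funext fun a => sm_comp_apply lam vN y a
      rw [this]
      exact hvN.comp hlamy
    -- the ideal of `O_Z`
    obtain ⟨I, ι, hι, hIq, ⟨eI⟩⟩ := exists_ideal_of_mono i J.toModules J.ι
    haveI := hι
    haveI : IsLocallyNoetherian Z := LocallyOfFiniteType.isLocallyNoetherian i
    haveI := hOZ.1
    haveI := hOZ.2
    haveI hIq' : I.IsQuasicoherent := hIq
    have hI : Coh.IsCoh I := ⟨hIq, Groth.Agent.Lib.Helper23.FinType.isFiniteType_of_mono ι⟩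
    obtain ⟨eS⟩ := nonempty_sigma_iso_pw J.toModules n
    let Ψ : (Coh.push i).obj (∐ fun _ : Fin (n + 1) => I) ≅ pw J.toModules n :=
      PreservesCoproduct.iso (Coh.push i) (fun _ : Fin (n + 1) => I) ≪≫
        Sigma.mapIso (fun _ : Fin (n + 1) => eI) ≪≫ eS
    refine ⟨n + 1, I, ι, Ψ.hom ≫ φ₀, hι, hI, isCoh_of_iso Ψ.symm (isCoh_pw hJ n), mono_comp _ _, ?_⟩
    have : sm (toPMMap (Ψ.hom ≫ φ₀)) y = sm (toPMMap φ₀) y ∘ sm (toPMMap Ψ.hom) y :=
      funext fun a => sm_comp_apply Ψ.hom φ₀ y a
    rw [this]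
    exact hφ₀y.comp (sm_bijective_of_iso Ψ y)

end Groth.Agent.Lib.Seat21.Dev
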