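import Groth.Agent.Lib.Seat54HHFinite
import Groth.Agent.Lib.Seat21DevPow

/-!
# Vanishing of a cohomology group as a dévissage class (seat 21)

Namespace `Groth.Agent.Lib.Seat21.Dev`.

The class `F ↦ Subsingleton (Coh.HH X F i)` is stable under isomorphisms, contains the zero modules, is stable under
extensions and under retracts.
-/

set_option autoImplicit false
set_option linter.style.haveILetI false
universe u
open CategoryTheory Limits AlgebraicGeometry TopologicalSpace Opposite Abelian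

noncomputable section

namespace Groth.Agent.Lib.Seat21.Dev

open Groth.Agent.Lib.Helper23.QCohLocal

variable {X : Scheme.{u}}

/-- the map induced on cohomology -/
def hmap {F G : X.Modules} (φ : F ⟶ G) (i : ℕ) : Coh.HH X F i →+ Coh.HH X G i :=
  Sheaf.H.map ((SheafOfModules.toSheaf X.ringCatSheaf).map φ) i

theorem hmap_id (F : X.Modules) (i : ℕ) (x : Coh.HH X F i) : hmap (𝟙 F) i x = x :=
  (congrArg (fun f => Sheaf.H.map f i x) (Groth.Agent.Lib.Seat54.HHFinite.toSheaf_id F)).trans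
    (Sheaf.H.map_id_apply x)

theorem hmap_comp {F G H : X.Modules} (φ : F ⟶ G) (ψ : G ⟶ H) (i : ℕ) (x : Coh.HH X F i) :
    hmap (φ ≫ ψ) i x = hmap ψ i (hmap φ i x) :=
  (congrArg (fun f => Sheaf.H.map f i x) (Groth.Agent.Lib.Seat54.HHFinite.toSheaf_comp φ ψ)).trans
    (Sheaf.H.map_comp_apply _ _ x)

theorem hmap_zero (F G : X.Modules) (i : ℕ) (x : Coh.HH X F i) : hmap (0 : F ⟶ G) i x = 0 :=
  (congrArg (fun f => Sheaf.H.map f i x) (Groth.Agent.Lib.Seat54.HHFinite.toSheaf_zero F G)).trans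
    (Groth.Agent.Lib.Seat54.HHFinite.H_map_zero i x)

/-- retracts -/
theorem subsingleton_HH_of_retract {F G : X.Modules} (a : F ⟶ G) (b : G ⟶ F) (hab : a ≫ b = 𝟙 F) (i : ℕ)
    (h : Subsingleton (Coh.HH X G i)) : Subsingleton (Coh.HH X F i) := by
  refine ⟨fun x y => ?_⟩
  rw [← hmap_id F i x, ← hmap_id F i y, ← hab, hmap_comp, hmap_comp, Subsingleton.elim (hmap a i x) (hmap a i y)]

theorem subsingleton_HH_of_iso {F G : X.Modules} (e : F ≅ G) (i : ℕ)
    (h : Subsingleton (Coh.HH X F i)) : Subsingleton (Coh.HH X G i) :=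
  subsingleton_HH_of_retract e.inv e.hom e.inv_hom_id i h

theorem subsingleton_HH_of_isZero {F : X.Modules} (hF : IsZero F) (i : ℕ) : Subsingleton (Coh.HH X F i) := by
  refine ⟨fun x y => ?_⟩
  have h : ∀ z : Coh.HH X F i, z = 0 := fun z => by
    rw [← hmap_id F i z, hF.eq_of_src (𝟙 F) 0, hmap_zero]
  rw [h x, h y]

/-- exactness in the middle of the cohomology sequence -/
theorem exists_hmap_eq_of_hmap_eq_zero (S : ShortComplex X.Modules) (hS : S.ShortExact) (i : ℕ)
    (y : Coh.HH X S.X₂ i) (hy : hmap S.g i y = 0) : ∃ x : Coh.HH X S.X₁ i, hmap S.f i x = y := by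
  have hS' := shortExact_toAbF S hS
  have hy' : (show Ext _ ((S.map (toAbF X)).X₂) i from y).comp
      (Ext.mk₀ (S.map (toAbF X)).g) (add_zero i) = 0 := hy
  obtain ⟨x₁, hx₁⟩ := Ext.covariant_sequence_exact₂ _ hS' _ hy'
  exact ⟨x₁, hx₁⟩

/-- extensions -/
theorem subsingleton_HH_mid (S : ShortComplex X.Modules) (hS : S.ShortExact) (i : ℕ)
    (h₁ : Subsingleton (Coh.HH X S.X₁ i)) (h₃ : Subsingleton (Coh.HH X S.X₃ i)) :
    Subsingleton (Coh.HH X S.X₂ i) := by
  have h : ∀ z : Coh.HH X S.X₂ i, z = 0 := fun z => by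
    obtain ⟨x, rfl⟩ := exists_hmap_eq_of_hmap_eq_zero S hS i z (Subsingleton.elim _ _)
    rw [Subsingleton.elim x 0, map_zero]
  exact ⟨fun x y => by rw [h x, h y]⟩

end Groth.Agent.Lib.Seat21.Dev
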