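import Groth.Agent.Lib.Seat21DevAR

/-!
# Dévissage with "extensions" and "kernels of epimorphisms" (seat 21)

Namespace `Groth.Agent.Lib.Seat21.Dev`.

* `HypL K X'` : `K` is stable under isomorphism, contains the zero modules, is stable under extensions and under
  kernels of epimorphisms (coherent modules with support in `X'`).
* `K_of_correspondence_left` : transport of `K` along a correspondence `G ⟵ H ⟶ M` which is bijective at the generic
  point `y`, using the Artin–Rees lemma to make `H ⟶ M` injective.
-/

set_option autoImplicit false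
set_option linter.style.haveILetI false
universe u
open CategoryTheory Limits AlgebraicGeometry TopologicalSpace Opposite

noncomputable section

namespace Groth.Agent.Lib.Seat21.Dev

open Groth.Agent.Lib.Helper1.StalkTensor Groth.Agent.Lib.Helper1.Sky Groth.Agent.Lib.Seat21.QSub

variable {X : Scheme.{u}}

/-- the hypotheses on a class of modules: extensions and kernels of epimorphisms -/
structure HypL (K : X.Modules → Prop) (X' : Set X) : Prop where
  iso : ∀ M N : X.Modules, Nonempty (M ≅ N) → K M → K N
  zero : ∀ M : X.Modules, IsZero M → K M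
  ext : ∀ S : ShortComplex X.Modules, S.ShortExact → Coh.IsCoh S.X₁ → Coh.IsCoh S.X₂ → Coh.IsCoh S.X₃ →
    CohB1.support S.X₂ ⊆ X' → K S.X₁ → K S.X₃ → K S.X₂
  left : ∀ S : ShortComplex X.Modules, S.ShortExact → Coh.IsCoh S.X₁ → Coh.IsCoh S.X₂ → Coh.IsCoh S.X₃ →
    CohB1.support S.X₂ ⊆ X' → K S.X₂ → K S.X₃ → K S.X₁

theorem HypL.toHypE {K : X.Modules → Prop} {X' : Set X} (h : HypL K X') : HypE K X' :=
  ⟨h.iso, h.zero, h.ext⟩

/-- a morphism is injective on the stalks outside the support of its kernel -/
theorem sm_injective_of_notMem_support_kernel {F G : X.Modules} (φ : F ⟶ G) (x : X)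
    (h : x ∉ CohB1.support (kernel (Abelian.factorThruImage φ))) : Function.Injective (sm (toPMMap φ) x) := by
  haveI : Subsingleton (St (toPM (kernel (Abelian.factorThruImage φ))) x) :=
    subsingleton_stalk_of_not_mem_support h
  obtain ⟨-, -, hex⟩ := stalk_shortExact x _ (shortExact_kernel (Abelian.factorThruImage φ))
  have h1 : Function.Injective (sm (toPMMap (Abelian.factorThruImage φ)) x) := by
    rw [injective_iff_map_eq_zero]
    intro a ha
    obtain ⟨b, rfl⟩ := (hex a).1 ha
    rw [Subsingleton.elim b 0, map_zero]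
  have h2 : Function.Injective (sm (toPMMap (Abelian.image.ι φ)) x) := sm_injective_of_mono _ x
  intro a b hab
  rw [← Abelian.image.fac φ, sm_comp_apply, sm_comp_apply] at hab
  exact h1 (h2 hab)

/-- a morphism which is injective on sections is a monomorphism -/
theorem mono_of_injective_app {F G : X.Modules} (φ : F ⟶ G)
    (h : ∀ V : X.Opens, Function.Injective (φ.app V)) : Mono φ := by
  refine ⟨fun {T} a b hab => ?_⟩
  apply Scheme.Modules.hom_ext
  intro V
  ext t
  apply h V
  have := congr($(congrArg (fun ψ => Scheme.Modules.Hom.app ψ V) hab) t)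
  exact this

section Chain

variable {K : X.Modules → Prop} {X' : Set X} (hyp : HypL K X')

include hyp in
/-- transport of the class along a correspondence which is an isomorphism at `y`, using only extensions and kernels of
epimorphisms -/
theorem K_of_correspondence_left [IsNoetherian X] {Z : Set X} (hZX' : Z ⊆ X') (y : X)
    (hIH : ∀ F : X.Modules, Coh.IsCoh F → CohB1.support F ⊆ Z → y ∉ CohB1.support F → K F)
    {H G M : X.Modules} (hH : Coh.IsCoh H) (hG : Coh.IsCoh G) (hM : Coh.IsCoh M)
    (hHZ : CohB1.support H ⊆ Z) (hGZ : CohB1.support G ⊆ Z) (hMZ : CohB1.support M ⊆ Z)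
    (u : H ⟶ G) (v : H ⟶ M) (hu : Function.Bijective (sm (toPMMap u) y))
    (hv : Function.Bijective (sm (toPMMap v) y)) (hKG : K G) : K M := by
  haveI := hM.1
  -- the closed set outside of which `v` is injective
  have hCv₀ : Coh.IsCoh (cokernel v) := isCoh_cokernel hH hM v
  have hIv₀ : Coh.IsCoh (Abelian.image v) := isCoh_kernel hM hCv₀ (cokernel.π v)
  have hKv₀ : Coh.IsCoh (kernel (Abelian.factorThruImage v)) := isCoh_kernel hH hIv₀ _
  have hC : IsClosed (CohB1.support (kernel (Abelian.factorThruImage v))) :=
    Groth.Agent.S0020.result X _ hKv₀.2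
  have hinjv : Function.Injective (sm (toPMMap (Abelian.factorThruImage v)) y) := by
    intro a b hab
    apply hv.1
    rw [← Abelian.image.fac v, sm_comp_apply, sm_comp_apply, hab]
  have hyC : y ∉ CohB1.support (kernel (Abelian.factorThruImage v)) := not_mem_support_kernel _ y hinjv
  obtain ⟨N, hNq, hNinj, hNst⟩ := exists_subSh_inj hH v hC
    (fun x hx => sm_injective_of_notMem_support_kernel v x hx)
  have hH' : Coh.IsCoh N.toModules := isCoh_subSh hH N hNq
  have hH'Z : CohB1.support N.toModules ⊆ Z := (support_subset_of_mono N.ι).trans hHZ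
  -- the stalk of `N` at `y`
  have hιy : Function.Bijective (sm (toPMMap N.ι) y) := by
    refine ⟨sm_injective_of_mono N.ι y, fun b => ?_⟩
    exact exists_of_mem_stalkSub N y (hNst y hyC ▸ Submodule.mem_top)
  let u' : N.toModules ⟶ G := N.ι ≫ u
  let v' : N.toModules ⟶ M := N.ι ≫ v
  have hu' : Function.Bijective (sm (toPMMap u') y) := by
    have : sm (toPMMap u') y = sm (toPMMap u) y ∘ sm (toPMMap N.ι) y := funext fun a => sm_comp_apply N.ι u y a
    rw [this]
    exact hu.comp hιy
  have hv' : Function.Bijective (sm (toPMMap v') y) := by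
    have : sm (toPMMap v') y = sm (toPMMap v) y ∘ sm (toPMMap N.ι) y := funext fun a => sm_comp_apply N.ι v y a
    rw [this]
    exact hv.comp hιy
  haveI : Mono v' := by
    apply mono_of_injective_app
    intro V
    rw [injective_iff_map_eq_zero]
    intro t ht
    apply N.ι_app_injective V
    rw [map_zero]
    exact hNinj V _ (N.ι_app_mem V t) ht
  -- `K N`
  have hinj : Function.Injective (sm (toPMMap (Abelian.factorThruImage u')) y) := by
    intro a b hab
    apply hu'.1
    rw [← Abelian.image.fac u', sm_comp_apply, sm_comp_apply, hab]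
  have hCu : Coh.IsCoh (cokernel u') := isCoh_cokernel hH' hG u'
  have hIu : Coh.IsCoh (Abelian.image u') := isCoh_kernel hG hCu (cokernel.π u')
  have hKu : Coh.IsCoh (kernel (Abelian.factorThruImage u')) := isCoh_kernel hH' hIu _
  have hCuZ : CohB1.support (cokernel u') ⊆ Z := (support_subset_of_epi (cokernel.π u')).trans hGZ
  have hKuZ : CohB1.support (kernel (Abelian.factorThruImage u')) ⊆ Z :=
    (support_subset_of_mono (kernel.ι (Abelian.factorThruImage u'))).trans hH'Z
  have h1 : K (cokernel u') := hIH _ hCu hCuZ (not_mem_support_cokernel u' y hu'.2)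
  have h2 : K (kernel (Abelian.factorThruImage u')) := hIH _ hKu hKuZ (not_mem_support_kernel _ y hinj)
  have h3 : K (Abelian.image u') :=
    hyp.left _ (shortExact_kernel (cokernel.π u')) hIu hG hCu (hGZ.trans hZX') hKG h1
  have h4 : K N.toModules :=
    hyp.ext _ (shortExact_kernel (Abelian.factorThruImage u')) hKu hH' hIu (hH'Z.trans hZX') h2 h3
  -- `K M`
  have hCv : Coh.IsCoh (cokernel v') := isCoh_cokernel hH' hM v'
  have hCvZ : CohB1.support (cokernel v') ⊆ Z := (support_subset_of_epi (cokernel.π v')).trans hMZ
  have h5 : K (cokernel v') := hIH _ hCv hCvZ (not_mem_support_cokernel v' y hv'.2)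
  exact hyp.ext _ (shortExact_cokernel v') hH' hM hCv (hMZ.trans hZX') h4 h5

end Chain

end Groth.Agent.Lib.Seat21.Dev
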