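import Groth.Agent.Lib.Seat21DevRoots
import Groth.Agent.Lib.Helper13PullbackUnit
import Groth.Prelude.Def_Dual3

/-!
# The submodule `I · F` of the prelude (`Dual3.idealMul`) on affine opens (seat 21)

Namespace `Groth.Agent.Lib.Seat21.Dev`.

* `mem_smul_top_of_unit_app_eq_zero` : over an affine open `T`, the kernel of `Γ(F, T) → Γ(i_* i^* F, T)` is contained
  in `I(T) • Γ(F, T)`.
* `idealMulι_app_mem` : sections of `Dual3.idealMul I F` over an affine open lie in `I(T) • Γ(F, T)`.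
-/

set_option autoImplicit false
set_option linter.style.haveILetI false
universe u
open CategoryTheory Limits AlgebraicGeometry TopologicalSpace Opposite

noncomputable section

namespace Groth.Agent.Lib.Seat21.Dev

open Groth.Agent.Lib.Helper1.StalkTensor Groth.Agent.Lib.Helper1.Sky Groth.Agent.Lib.Seat21.QSub

variable {X : Scheme.{u}} (I : X.IdealSheafData)

/-- over an affine open, the kernel of the unit `F → i_* i^* F` is contained in `I · F` -/
theorem mem_smul_top_of_unit_app_eq_zero (F : X.Modules) [F.IsQuasicoherent] {T : X.Opens} (hT : IsAffineOpen T)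
    (m : Γ(F, T))
    (hm : ((Scheme.Modules.pullbackPushforwardAdjunction I.subschemeι).unit.app F).app T m = 0) :
    m ∈ (I.ideal ⟨T, hT⟩) • (⊤ : Submodule Γ(X, T) Γ(F, T)) := by
  have hT' : IsAffineOpen (I.subschemeι ⁻¹ᵁ T) := hT.preimage I.subschemeι
  have hle : I.subschemeι ⁻¹ᵁ T ≤ I.subschemeι ⁻¹ᵁ T := le_rfl
  let φ : Γ(X, T) →+* Γ(I.subscheme, I.subschemeι ⁻¹ᵁ T) := (I.subschemeι.app T).hom
  have hφ : Function.Surjective φ := I.subschemeι_app_surjective ⟨T, hT⟩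
  have hker : RingHom.ker φ = I.ideal ⟨T, hT⟩ := I.ker_subschemeι_app ⟨T, hT⟩
  let P : Submodule Γ(X, T) Γ(F, T) := (I.ideal ⟨T, hT⟩) • (⊤ : Submodule Γ(X, T) Γ(F, T))
  let g : Γ(X, T) →+* AddMonoid.End (Γ(F, T) ⧸ P) := Module.toAddMonoidEnd Γ(X, T) (Γ(F, T) ⧸ P)
  have hg : RingHom.ker φ ≤ RingHom.ker g := by
    intro a ha
    rw [hker] at ha
    rw [RingHom.mem_ker]
    ext z
    obtain ⟨x, rfl⟩ := Submodule.Quotient.mk_surjective P z
    show a • (Submodule.Quotient.mk x : Γ(F, T) ⧸ P) = 0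
    rw [← Submodule.Quotient.mk_smul, Submodule.Quotient.mk_eq_zero]
    exact Submodule.smul_mem_smul ha Submodule.mem_top
  let ψ : Γ(I.subscheme, I.subschemeι ⁻¹ᵁ T) →+* AddMonoid.End (Γ(F, T) ⧸ P) :=
    φ.liftOfSurjective hφ ⟨g, hg⟩
  letI : Module Γ(I.subscheme, I.subschemeι ⁻¹ᵁ T) (Γ(F, T) ⧸ P) := Module.compHom (Γ(F, T) ⧸ P) ψ
  let l : Γ(F, T) →+ (Γ(F, T) ⧸ P) := (Submodule.mkQ P).toAddMonoidHom
  have hl : ∀ (r : Γ(X, T)) (x : Γ(F, T)),
      l (r • x) = (I.subschemeι.appLE T (I.subschemeι ⁻¹ᵁ T) hle r : Γ(I.subscheme, I.subschemeι ⁻¹ᵁ T)) • l x := by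
    intro r x
    rw [Scheme.Hom.appLE_eq_app]
    show Submodule.Quotient.mk (r • x) = ψ (φ r) (Submodule.Quotient.mk x)
    rw [RingHom.liftOfSurjective_comp_apply]
    rfl
  obtain ⟨l', hl', -⟩ := Groth.Agent.Helper13PullbackUnit.existsUnique_lift I.subschemeι F hT hT' hle
    (Γ(F, T) ⧸ P) l hl
  have h0 : Groth.Agent.Helper13PullbackUnit.unitSec I.subschemeι F hle m = 0 := by
    have e := Groth.Agent.Helper13PullbackUnit.unitSec_apply I.subschemeι F hle m
    rw [e]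
    exact (congrArg _ hm).trans (map_zero _)
  have h1 : l m = 0 := by rw [← hl' m, h0, map_zero]
  exact (Submodule.Quotient.mk_eq_zero P).1 h1

/-- sections of `I · F` over an affine open lie in `I(T) • Γ(F, T)` -/
theorem idealMulι_app_mem (F : X.Modules) [F.IsQuasicoherent] {T : X.Opens} (hT : IsAffineOpen T)
    (t : Γ((Dual3.idealMul I).obj F, T)) :
    (Dual3.idealMulι I F).app T t ∈ (I.ideal ⟨T, hT⟩) • (⊤ : Submodule Γ(X, T) Γ(F, T)) := by
  apply mem_smul_top_of_unit_app_eq_zero I F hT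
  have h : Dual3.idealMulι I F ≫ (Scheme.Modules.pullbackPushforwardAdjunction I.subschemeι).unit.app F = 0 :=
    kernel.condition _
  have := congr($(congrArg (fun ψ => Scheme.Modules.Hom.app ψ T) h) t)
  exact this

/-- a morphism with sections in `J(T) • ⊤` followed by a morphism to a module whose sections are killed by `J(T)` is
zero -/
theorem comp_eq_zero_of_killed {A B Q : X.Modules} (j : A ⟶ B) (ρ : B ⟶ Q)
    (J : ∀ T : X.affineOpens, Ideal Γ(X, T.1))
    (hj : ∀ (T : X.affineOpens) (t : Γ(A, T.1)), j.app T.1 t ∈ J T • (⊤ : Submodule Γ(X, T.1) Γ(B, T.1)))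
    (hQ : ∀ (T : X.affineOpens), ∀ a ∈ J T, ∀ q : Γ(Q, T.1), a • q = 0) : j ≫ ρ = 0 := by
  apply Groth.Agent.Lib.Seat96.ModSec.hom_ext_affine
  intro T
  ext t
  show ρ.app T.1 (j.app T.1 t) = 0
  refine Submodule.smul_induction_on (hj T t) (fun a ha m _ => ?_) (fun x z hx hz => ?_)
  · rw [Scheme.Modules.Hom.app_smul]
    exact hQ T a ha _
  · rw [map_add, hx, hz, add_zero]

/-! ### functoriality of `pw` -/

/-- the map induced on direct sums of copies -/
def pwMap {A B : X.Modules} (φ : A ⟶ B) : ∀ n, pw A n ⟶ pw B n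
  | 0 => φ
  | n + 1 => biprod.map φ (pwMap φ n)

instance mono_pwMap {A B : X.Modules} (φ : A ⟶ B) [Mono φ] : ∀ n, Mono (pwMap φ n)
  | 0 => inferInstanceAs (Mono φ)
  | n + 1 => by
    haveI := mono_pwMap φ n
    exact inferInstanceAs (Mono (biprod.map φ (pwMap φ n)))

theorem pwMap_comp_eq_zero {A B Q : X.Modules} (φ : A ⟶ B) (hφ : ∀ ρ : B ⟶ Q, φ ≫ ρ = 0) :
    ∀ (n : ℕ) (ρ : pw B n ⟶ Q), pwMap φ n ≫ ρ = 0
  | 0 => hφ
  | n + 1 => fun ρ => by
    let ρ' : B ⊞ pw B n ⟶ Q := ρ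
    show biprod.map φ (pwMap φ n) ≫ ρ' = 0
    apply biprod.hom_ext'
    · rw [biprod.inl_map_assoc, hφ, comp_zero]
    · rw [biprod.inr_map_assoc, pwMap_comp_eq_zero φ hφ n, comp_zero]

theorem sm_biprod_map_bijective {A₁ A₂ B₁ B₂ : X.Modules} (f : A₁ ⟶ B₁) (g : A₂ ⟶ B₂) (y : X)
    (hf : Function.Bijective (sm (toPMMap f) y)) (hg : Function.Bijective (sm (toPMMap g) y)) :
    Function.Bijective (sm (toPMMap (biprod.map f g)) y) := by
  constructor
  · rw [injective_iff_map_eq_zero]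
    intro p hp
    apply biprod_stalk_ext y p
    · apply hf.1
      rw [map_zero, ← sm_comp_apply, ← biprod.map_fst, sm_comp_apply, hp, map_zero]
    · apply hg.1
      rw [map_zero, ← sm_comp_apply, ← biprod.map_snd, sm_comp_apply, hp, map_zero]
  · intro q
    obtain ⟨a, ha⟩ := hf.2 (sm (toPMMap (biprod.fst : B₁ ⊞ B₂ ⟶ B₁)) y q)
    obtain ⟨b, hb⟩ := hg.2 (sm (toPMMap (biprod.snd : B₁ ⊞ B₂ ⟶ B₂)) y q)
    refine ⟨sm (toPMMap (biprod.inl : A₁ ⟶ A₁ ⊞ A₂)) y a + sm (toPMMap (biprod.inr : A₂ ⟶ A₁ ⊞ A₂)) y b, ?_⟩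
    rw [map_add, ← sm_comp_apply, ← sm_comp_apply, biprod.inl_map, biprod.inr_map, sm_comp_apply, sm_comp_apply,
      ha, hb]
    have h := sm_id_apply (F := B₁ ⊞ B₂) y q
    rw [← biprod.total, sm_add_apply, sm_comp_apply, sm_comp_apply] at h
    exact h

theorem sm_pwMap_bijective {A B : X.Modules} (φ : A ⟶ B) (y : X) (hφ : Function.Bijective (sm (toPMMap φ) y)) :
    ∀ n, Function.Bijective (sm (toPMMap (pwMap φ n)) y)
  | 0 => hφ
  | n + 1 => sm_biprod_map_bijective φ (pwMap φ n) y hφ (sm_pwMap_bijective φ y hφ n)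

end Groth.Agent.Lib.Seat21.Dev
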