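import Groth.Agent.Lib.Seat21DevGraph
import Groth.Agent.Lib.Helper14FtPts

set_option autoImplicit false
set_option linter.style.haveILetI false
universe u
open CategoryTheory Limits AlgebraicGeometry TopologicalSpace Opposite

noncomputable section

namespace Groth.Agent.Lib.Seat21.Dev

open Groth.Agent.Lib.Helper1.StalkTensor Groth.Agent.Lib.Helper1.Sky Groth.Agent.Lib.Seat21.QSub
open Groth.Agent.Lib.Helper2.FlatOver

variable {X : Scheme.{u}}

/-- a coherent module supported in the closure of `y` has its stalk at `y` killed by a power of the maximal ideal -/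
theorem exists_pow_le_annihilator_stalk [IsNoetherian X] {F : X.Modules} (hF : Coh.IsCoh F) (y : X)
    (hsupp : CohB1.support F ⊆ closure {y}) :
    ∃ d : ℕ, (IsLocalRing.maximalIdeal (X.presheaf.stalk y)) ^ d ≤
      Module.annihilator (X.presheaf.stalk y) (F.presheaf.stalk y) := by
  haveI := hF.1
  haveI := hF.2
  obtain ⟨U, hU, hyU, -⟩ := exists_isAffineOpen_mem_and_subset (x := y) (U := ⊤) trivial
  haveI : IsNoetherianRing Γ(X, U) := IsLocallyNoetherian.component_noetherian ⟨U, hU⟩
  haveI : Module.Finite Γ(X, U) Γ(F, U) := Groth.Agent.Lib.Helper23.FinType.finite_of_isFiniteType F hU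
  let p : Ideal Γ(X, U) := (hU.primeIdealOf ⟨y, hyU⟩).asIdeal
  -- step 1: elements of `p` act nilpotently on sections
  have h1 : ∀ a ∈ p, ∀ s : Γ(F, U), ∃ n : ℕ, a ^ n • s = 0 := by
    intro a ha s
    have hya : y ∉ X.basicOpen a := by
      rw [Groth.Agent.Lib.Helper14.mem_basicOpen_iff_notMem_primeIdealOf hU y hyU a, not_not]
      exact ha
    have hdisj : ∀ x ∈ X.basicOpen a, x ∉ CohB1.support F := by
      intro x hxa hx
      have hx' := hsupp hx
      obtain ⟨z, hz1, hz2⟩ := mem_closure_iff.1 hx' (X.basicOpen a) (X.basicOpen a).isOpen hxa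
      rw [Set.mem_singleton_iff] at hz2
      subst hz2
      exact hya hz1
    have h0 : F.presheaf.map (homOfLE (X.basicOpen_le a)).op s = 0 :=
      Groth.Agent.Lib.Helper23.Support.eq_zero_of_disjoint_support F (X.basicOpen a) hdisj _
    exact Groth.Agent.Lib.Helper23.QCohLocal.exists_pow_smul_eq_zero_qc' hU.isCompact F a _ rfl
      (X.basicOpen_le a) s h0
  -- step 2: a power of `p` kills the sections
  have h2 : ∃ d : ℕ, p ^ d ≤ Module.annihilator Γ(X, U) Γ(F, U) := by
    apply Ideal.exists_pow_le_of_le_radical_of_fg _ (IsNoetherian.noetherian p)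
    intro a ha
    obtain ⟨S, hS⟩ := (Module.Finite.fg_top : (⊤ : Submodule Γ(X, U) Γ(F, U)).FG)
    choose n hn using fun s : Γ(F, U) => h1 a ha s
    refine ⟨S.sup n, ?_⟩
    rw [Module.mem_annihilator]
    intro m
    have hm : m ∈ Submodule.span Γ(X, U) (S : Set Γ(F, U)) := hS ▸ Submodule.mem_top
    induction hm using Submodule.span_induction with
    | mem x hx =>
      have hle : n x ≤ S.sup n := Finset.le_sup hx
      rw [← Nat.sub_add_cancel hle, pow_add, mul_smul, hn x, smul_zero]
    | zero => rw [smul_zero]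
    | add x z _ _ hx hz => rw [smul_add, hx, hz, add_zero]
    | smul r x _ hx => rw [smul_comm, hx, smul_zero]
  obtain ⟨d, hd⟩ := h2
  refine ⟨d, ?_⟩
  -- step 3: pass to the stalk
  letI : Algebra Γ(X, U) (X.presheaf.stalk y) := X.presheaf.algebra_section_stalk ⟨y, hyU⟩
  haveI := hU.isLocalization_stalk ⟨y, hyU⟩
  letI : Module Γ(X, U) (F.presheaf.stalk y) := moduleStalkSections F U y hyU
  haveI hloc := isLocalizedModule_germ hU F y hyU
  have hmax : IsLocalRing.maximalIdeal (X.presheaf.stalk y) =
      Ideal.map (algebraMap Γ(X, U) (X.presheaf.stalk y)) p :=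
    (IsLocalization.AtPrime.map_eq_maximalIdeal p (X.presheaf.stalk y)).symm
  rw [hmax, ← Ideal.map_pow, Ideal.map_le_iff_le_comap]
  intro c hc
  rw [Ideal.mem_comap, Module.mem_annihilator]
  intro z
  obtain ⟨⟨m, s⟩, hms⟩ := IsLocalizedModule.surj p.primeCompl (germₗ F U y hyU) z
  have hcm : c • m = 0 := Module.mem_annihilator.1 (hd hc) m
  have hs : IsUnit (algebraMap Γ(X, U) (X.presheaf.stalk y) (s : Γ(X, U))) :=
    IsLocalization.map_units (X.presheaf.stalk y) s
  have e1 : algebraMap Γ(X, U) (X.presheaf.stalk y) (s : Γ(X, U)) • z = germₗ F U y hyU m := hms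
  have e2 : algebraMap Γ(X, U) (X.presheaf.stalk y) c • germₗ F U y hyU m = 0 := by
    have := (germₗ F U y hyU).map_smul c m
    rw [hcm, map_zero] at this
    exact this.symm
  rw [← e1, smul_smul, mul_comm, ← smul_smul] at e2
  exact (hs.smul_eq_zero).1 e2

end Groth.Agent.Lib.Seat21.Dev
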