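import Groth.Agent.Lib.Seat21DevPow
import Groth.Agent.Lib.Seat96ModSec
import Groth.Agent.Lib.Seat16ClosedPush
import Groth.Agent.Lib.Helper20OmegaAff
import Groth.Agent.Lib.Helper18FinFlat1
import Groth.Agent.Lib.Helper6EquiSubB

/-!
# The structure sheaf of a closed subscheme as a dévissage generator (seat 21)

Namespace `Groth.Agent.Lib.Seat21.Dev`.

* `isCoh_quotMod I` : `O_X / I = i_* O_Z` is coherent (qc + finite type).
* `support_quotMod_subset I` : its support lies in the range of `I.subschemeι`.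
* `killedByIdeal_quotMod I` : it is killed by `I`.
* `rankOne_quotMod hZ hy` : for `Z = closure {y}` with the reduced structure, the stalk of `i_* O_Z` at `y`
  is the residue field (in the elementary form `RankOne`).
-/

set_option autoImplicit false
set_option linter.style.haveILetI false
universe u
open CategoryTheory Limits AlgebraicGeometry TopologicalSpace Opposite

noncomputable section

namespace Groth.Agent.Lib.Seat21.Dev

open Groth.Agent.Lib.Helper1.StalkTensor Groth.Agent.Lib.Helper1.Sky Groth.Agent.Lib.Seat21.QSub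

variable {X : Scheme.{u}} (I : X.IdealSheafData)

theorem isCoh_structureModule (X : Scheme.{u}) : Coh.IsCoh (Coh.structureModule X) := by
  haveI : SheafOfModules.IsFinitePresentation (R := X.ringCatSheaf) (Coh.structureModule X) :=
    Groth.Agent.Helper18FinFlat.isFinitePresentation_structureModule X
  exact ⟨Groth.Agent.Lib.Helper20.OmegaAff.isQuasicoherent_structureModule, inferInstance⟩

theorem isCoh_quotMod : Coh.IsCoh (ClSub.quotMod I) := by
  haveI : (Coh.structureModule I.subscheme).IsQuasicoherent :=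
    Groth.Agent.Lib.Helper20.OmegaAff.isQuasicoherent_structureModule
  haveI : (Coh.structureModule X).IsQuasicoherent :=
    Groth.Agent.Lib.Helper20.OmegaAff.isQuasicoherent_structureModule
  haveI hq : (ClSub.quotMod I).IsQuasicoherent :=
    Groth.Agent.Lib.Helper23.QCohLocal.isQuasicoherent_pushforward _ _
  refine ⟨hq, ?_⟩
  haveI := (isCoh_structureModule X).2
  exact Groth.Agent.Lib.Helper23.FinType.isFiniteType_of_epi (ClSub.toSubscheme I)

theorem support_quotMod_subset : CohB1.support (ClSub.quotMod I) ⊆ Set.range I.subschemeι := by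
  intro x hx
  by_contra hcon
  apply hx
  have h := Groth.Agent.Lib.Seat16.ClosedPush.isZero_stalk_pushforward_of_notMem I.subschemeι
    (Coh.structureModule I.subscheme) x hcon
  exact AddCommGrpCat.subsingleton_of_isZero h

theorem killedByIdeal_quotMod : ClSub.KilledByIdeal I (ClSub.quotMod I) := by
  intro U a ha m
  have h0 : (I.subschemeι.app U.1).hom a = 0 := by
    have := (Groth.Agent.Lib.Seat96.ModSec.toSubscheme_app_eq_zero_iff I U a).2 ha
    exact this
  let m' : Γ(I.subscheme, I.subschemeι ⁻¹ᵁ U.1) := m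
  show (I.subschemeι.app U.1).hom a * m' = 0
  rw [h0, zero_mul]

/-- the section `1` of `O_X / I` over `V` -/
def oneQ (V : X.Opens) : Γ(ClSub.quotMod I, V) := (1 : Γ(I.subscheme, I.subschemeι ⁻¹ᵁ V))

theorem toSubscheme_app_eq_smul (V : X.Opens) (s : Γ(X, V)) :
    (ClSub.toSubscheme I).app V (s : Γ(Coh.structureModule X, V)) = s • oneQ I V := by
  show (I.subschemeι.app V).hom s = (I.subschemeι.app V).hom s * 1
  rw [mul_one]

theorem res_oneQ {V V' : X.Opens} (h : V' ≤ V) : res (ClSub.quotMod I) h (oneQ I V) = oneQ I V' := by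
  show (I.subscheme.presheaf.map (homOfLE ((Opens.map I.subschemeι.base).monotone h)).op).hom 1 = 1
  exact map_one _

theorem gmM_oneQ_ne_zero (y : X) (hy : y ∈ Set.range I.subschemeι) (V : X.Opens) (hyV : y ∈ V) :
    gmM (ClSub.quotMod I) y V hyV (oneQ I V) ≠ 0 := by
  intro hc
  obtain ⟨z, rfl⟩ := hy
  have h0 : gmM (ClSub.quotMod I) (I.subschemeι z) V hyV (oneQ I V) =
      gmM (ClSub.quotMod I) (I.subschemeι z) V hyV 0 := by rw [hc, map_zero]
  obtain ⟨W, hzW, iU, iV, hW⟩ := gm_eq (P := toPM (ClSub.quotMod I)) hyV hyV _ _ h0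
  have h1 : res (ClSub.quotMod I) iU.le (oneQ I V) = 0 := by
    have : rs (toPM (ClSub.quotMod I)) iV 0 = 0 := map_zero _
    exact hW.trans this
  rw [res_oneQ] at h1
  have h2 : (1 : Γ(I.subscheme, I.subschemeι ⁻¹ᵁ W)) = 0 := h1
  have hz : z ∈ I.subschemeι ⁻¹ᵁ W := hzW
  have h3 := congrArg (I.subscheme.presheaf.germ (I.subschemeι ⁻¹ᵁ W) z hz).hom h2
  rw [map_one, map_zero] at h3
  exact one_ne_zero h3

/-- `i_* O_Z` for `Z = closure {y}` (reduced structure) has stalk the residue field at `y`. -/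
theorem rankOne_quotMod {Z : Set X} (hZ : IsClosed Z) {y : X} (hy : closure {y} = Z) :
    RankOne (ClSub.quotMod (Scheme.IdealSheafData.vanishingIdeal ⟨Z, hZ⟩)) y := by
  set I := Scheme.IdealSheafData.vanishingIdeal ⟨Z, hZ⟩ with hI
  have hyr : y ∈ Set.range I.subschemeι := by
    rw [Groth.Agent.Lib.Helper6.EquiSub.range_subschemeι_vanishingIdeal]
    exact hy ▸ subset_closure (Set.mem_singleton y)
  refine ⟨gmM (ClSub.quotMod I) y ⊤ trivial (oneQ I ⊤), gmM_oneQ_ne_zero I y hyr ⊤ trivial, ?_, ?_⟩
  · intro w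
    obtain ⟨a, rfl⟩ := sm_surjective_of_epi (ClSub.toSubscheme I) y w
    obtain ⟨V, hyV, s, rfl⟩ := exists_gm_eq (P := toPM (Coh.structureModule X)) a
    refine ⟨grX y V hyV s, ?_⟩  -- s as a function
    have e1 := smM_gmM (ClSub.toSubscheme I) y V hyV s
    let s' : Γ(X, V) := s
    have e2 : (ClSub.toSubscheme I).app V s = s' • oneQ I V := toSubscheme_app_eq_smul I V s'
    have e3 : gmM (ClSub.quotMod I) y V hyV (s' • oneQ I V) =
        grX y V hyV s' • gmM (ClSub.quotMod I) y V hyV (oneQ I V) := gmM_smul _ y V hyV s' _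
    have e4 : gmM (ClSub.quotMod I) y V hyV (oneQ I V) = gmM (ClSub.quotMod I) y ⊤ trivial (oneQ I ⊤) := by
      rw [← res_oneQ I (le_top : V ≤ ⊤), gmM_res]
    exact (e1.trans (congrArg _ e2)).trans (e3.trans (by rw [e4]))
  · intro r hr
    exact maximalIdeal_smul_eq_zero_of_killedByIdeal hZ hy (killedByIdeal_quotMod I) r hr _

end Groth.Agent.Lib.Seat21.Dev
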