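import Groth.Agent.Lib.Seat21DevCore

set_option autoImplicit false
set_option linter.style.haveILetI false
universe u
open CategoryTheory Limits AlgebraicGeometry TopologicalSpace Opposite

noncomputable section

namespace Groth.Agent.Lib.Seat21.Dev

open Groth.Agent.Lib.Helper1.StalkTensor Groth.Agent.Lib.Helper1.Sky Groth.Agent.Lib.Seat21.QSub

variable {X : Scheme.{u}}

theorem rankOne_of_length_eq_one {F : X.Modules} {y : X}
    (h : Module.length (X.presheaf.stalk y) (F.presheaf.stalk y) = 1) : RankOne F y := by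
  have hs : IsSimpleModule (Ox y) (St (toPM F) y) := Module.length_eq_one_iff.1 h
  haveI : Nontrivial (St (toPM F) y) := IsSimpleModule.nontrivial (Ox y) _
  obtain ⟨c, hc⟩ := exists_ne (0 : St (toPM F) y)
  refine ⟨c, hc, fun w => ?_, fun r hr => ?_⟩
  · obtain ⟨r, hr⟩ := IsSimpleModule.toSpanSingleton_surjective (Ox y) hc w
    exact ⟨r, hr.symm⟩
  · have hmax := IsSimpleModule.ker_toSpanSingleton_isMaximal (Ox y) hc
    have heq := IsLocalRing.eq_maximalIdeal hmax
    have : r ∈ LinearMap.ker (LinearMap.toSpanSingleton (Ox y) (St (toPM F) y) c) := heq ▸ hr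
    rwa [LinearMap.mem_ker, LinearMap.toSpanSingleton_apply] at this

theorem rankOne_of_linearEquiv {F : X.Modules} {y : X}
    (e : ↑(F.presheaf.stalk y) ≃ₗ[X.presheaf.stalk y] IsLocalRing.ResidueField (X.presheaf.stalk y)) :
    RankOne F y := by
  have e' : St (toPM F) y ≃ₗ[Ox y] IsLocalRing.ResidueField (Ox y) := e
  clear e
  refine ⟨e'.symm 1, ?_, fun w => ?_, fun r hr => ?_⟩
  · intro h
    have := e'.symm.injective (h.trans (map_zero e'.symm).symm)
    exact one_ne_zero this
  · obtain ⟨r, hr⟩ := IsLocalRing.residue_surjective (e' w)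
    refine ⟨r, ?_⟩
    apply e'.injective
    rw [map_smul, LinearEquiv.apply_symm_apply, ← hr, Algebra.smul_def, mul_one]
    rfl
  · rw [← map_smul, Algebra.smul_def, mul_one]
    have : algebraMap (Ox y) (IsLocalRing.ResidueField (Ox y)) r = 0 :=
      (IsLocalRing.residue_eq_zero_iff r).2 hr
    rw [this, map_zero]

end Groth.Agent.Lib.Seat21.Dev
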