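import Groth.Agent.Lib.Seat21DevLeft
import Groth.Agent.Lib.Seat21DevSigma
import Groth.Agent.Lib.Seat21DevPushM

/-!
# Dévissage with extensions, kernels of epimorphisms and direct-sum roots (seat 21)

Namespace `Groth.Agent.Lib.Seat21.Dev`: `K_pw`, `K_of_killed_roots`.
-/

set_option autoImplicit false
set_option linter.style.haveILetI false
universe u
open CategoryTheory Limits AlgebraicGeometry TopologicalSpace Opposite

noncomputable section

namespace Groth.Agent.Lib.Seat21.Dev

open Groth.Agent.Lib.Helper1.StalkTensor Groth.Agent.Lib.Helper1.Sky Groth.Agent.Lib.Seat21.QSub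

variable {X : Scheme.{u}}

/-- swapping the two indices of a double family, as a linear equivalence -/
def swapLinearEquiv (R : Type*) [Semiring R] (κ : Type*) [AddCommMonoid κ] [Module R κ] (a b : Type*) :
    (a → b → κ) ≃ₗ[R] (b → a → κ) where
  toFun f := Function.swap f
  invFun f := Function.swap f
  map_add' _ _ := rfl
  map_smul' _ _ := rfl
  left_inv _ := rfl
  right_inv _ := rfl

section

variable {K : X.Modules → Prop} {X' : Set X}

theorem K_pw (hyp : HypE K X') {G : X.Modules} (hG : Coh.IsCoh G) (hGX' : CohB1.support G ⊆ X') (hKG : K G) :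
    ∀ n, K (pw G n)
  | 0 => hKG
  | n + 1 =>
    hyp.ext _ (ShortComplex.Splitting.ofHasBinaryBiproduct G (pw G n)).shortExact hG (isCoh_pw hG (n + 1))
      (isCoh_pw hG n) ((support_pw G (n + 1)).trans hGX') hKG (K_pw hyp hG hGX' hKG n)

/-- the step for modules whose stalk at `y` is killed by the maximal ideal, given one generator `G` in the class with
nonzero stalk at `y` killed by the maximal ideal, when the class has direct-sum roots -/
theorem K_of_killed_roots [IsNoetherian X] (hyp : HypL K X')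
    (hroot : ∀ (F : X.Modules) (n : ℕ), Coh.IsCoh F → K (pw F n) → K F)
    {Z : Set X} (hZX' : Z ⊆ X') {y : X}
    (hIH : ∀ F : X.Modules, Coh.IsCoh F → CohB1.support F ⊆ Z → y ∉ CohB1.support F → K F)
    (G : X.Modules) (hG : Coh.IsCoh G) (hGZ : CohB1.support G ⊆ Z) (hyG : y ∈ CohB1.support G)
    (hGk : ∀ r ∈ IsLocalRing.maximalIdeal (Ox y), ∀ a : St (toPM G) y, r • a = 0) (hKG : K G)
    (F : X.Modules) (hF : Coh.IsCoh F) (hFZ : CohB1.support F ⊆ Z)
    (hkill : ∀ r ∈ IsLocalRing.maximalIdeal (Ox y), ∀ a : St (toPM F) y, r • a = 0) : K F := by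
  haveI : Module.Finite (Ox y) (St (toPM F) y) := finite_stalk_of_isCoh hF y
  haveI : Module.Finite (Ox y) (St (toPM G) y) := finite_stalk_of_isCoh hG y
  obtain ⟨s, ⟨eF⟩⟩ := exists_linearEquiv_pi_of_killed hkill
  obtain ⟨r, ⟨eG⟩⟩ := exists_linearEquiv_pi_of_killed hGk
  cases s with
  | zero =>
    refine hIH F hF hFZ (not_mem_support_of_forall_eq_zero fun a => ?_)
    apply eF.injective
    exact Subsingleton.elim _ _
  | succ s =>
  cases r with
  | zero =>
    exfalso
    refine (not_mem_support_of_forall_eq_zero fun a => ?_) hyG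
    apply eG.injective
    exact Subsingleton.elim _ _
  | succ r =>
    obtain ⟨eGs⟩ := stalk_pw eG s
    obtain ⟨eFr⟩ := stalk_pw eF r
    let θ : St (toPM (pw G s)) y ≃ₗ[Ox y] St (toPM (pw F r)) y :=
      eGs ≪≫ₗ swapLinearEquiv (Ox y) (Ox y ⧸ IsLocalRing.maximalIdeal (Ox y)) (Fin (s + 1)) (Fin (r + 1)) ≪≫ₗ
        eFr.symm
    have hGs : Coh.IsCoh (pw G s) := isCoh_pw hG s
    have hFr : Coh.IsCoh (pw F r) := isCoh_pw hF r
    have hGsZ : CohB1.support (pw G s) ⊆ Z := (support_pw G s).trans hGZ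
    have hFrZ : CohB1.support (pw F r) ⊆ Z := (support_pw F r).trans hFZ
    obtain ⟨H, u, v, hH, hu, hv, hHs⟩ := exists_correspondence (pw G s) (pw F r) hGs hFr y θ
    have hHZ : CohB1.support H ⊆ Z := hHs.trans (Set.union_subset hGsZ hFrZ)
    have hKGs : K (pw G s) := K_pw hyp.toHypE hG (hGZ.trans hZX') hKG s
    have hKFr : K (pw F r) :=
      K_of_correspondence_left hyp hZX' y hIH hH hGs hFr hHZ hGsZ hFrZ u v hu hv hKGs
    exact hroot F r hF hKFr

end

end Groth.Agent.Lib.Seat21.Dev
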