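import Mathlib
import Groth.Prelude.Def_Coh
import Groth.Prelude.Def_CohB1
import Groth.Agent.Lib.Helper1Sky4
import Groth.Agent.Lib.Helper20StalkExact
import Groth.Agent.Lib.Helper23Support
import Groth.Agent.Lib.Seat21QCohSupNoeth

set_option autoImplicit false
set_option linter.style.haveILetI false
universe u
open CategoryTheory Limits AlgebraicGeometry TopologicalSpace Opposite

noncomputable section

namespace Groth.Agent.Lib.Seat21.Dev

open Groth.Agent.Lib.Helper1.StalkTensor Groth.Agent.Lib.Helper1.Sky Groth.Agent.Lib.Seat21.QSub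

variable {X : Scheme.{u}}

/-- germ at `y` of a section of an `O_X`-module -/
abbrev gmM (F : X.Modules) (y : X) (V : X.Opens) (hy : y ∈ V) : Γ(F, V) →+ St (toPM F) y :=
  gm (toPM F) y V hy

/-- germ at `y` of a function -/
abbrev grX (y : X) (V : X.Opens) (hy : y ∈ V) : Γ(X, V) →+* Ox y := gr X.presheaf y V hy

theorem mem_support_iff (M : X.Modules) (x : X) :
    x ∈ CohB1.support M ↔ ¬ Subsingleton (St (toPM M) x) := Iff.rfl

theorem support_shortExact (S : ShortComplex X.Modules) (hS : S.ShortExact) :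
    CohB1.support S.X₂ = CohB1.support S.X₁ ∪ CohB1.support S.X₃ := by
  ext x
  have h := Groth.Agent.Lib.Helper20.StalkExact.subsingleton_stalk_iff S hS x
  simp only [Set.mem_union, mem_support_iff]
  constructor
  · intro h2
    by_contra hcon
    rw [not_or, not_not, not_not] at hcon
    exact h2 (h.2 ⟨hcon.1, hcon.2⟩)
  · rintro (h1 | h3) h2
    · exact h1 (h.1 h2).1
    · exact h3 (h.1 h2).2

theorem gmM_res (F : X.Modules) (y : X) {V V' : X.Opens} (h : V' ≤ V) (hy : y ∈ V') (s : Γ(F, V)) :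
    gmM F y V' hy (res F h s) = gmM F y V (h hy) s :=
  gm_rs (P := toPM F) (homOfLE h) hy s

theorem gmM_smul (F : X.Modules) (y : X) (V : X.Opens) (hy : y ∈ V) (r : Γ(X, V)) (s : Γ(F, V)) :
    gmM F y V hy (r • s) = grX y V hy r • gmM F y V hy s :=
  gm_smul (P := toPM F) hy r s

theorem smM_gmM {F G : X.Modules} (φ : F ⟶ G) (y : X) (V : X.Opens) (hy : y ∈ V) (s : Γ(F, V)) :
    sm (toPMMap φ) y (gmM F y V hy s) = gmM G y V hy (φ.app V s) :=
  sm_gm (toPMMap φ) hy s

/-- a section all of whose germs vanish is zero -/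
theorem eq_zero_of_gmM_eq_zero (F : X.Modules) (V : X.Opens) (s : Γ(F, V))
    (h : ∀ (x : X) (hx : x ∈ V), gmM F x V hx s = 0) : s = 0 :=
  Groth.Agent.Lib.Helper2.QcPush.section_eq_zero_of_germ F V s h

namespace SubShStalk

variable {F : X.Modules} (N : SubSh F)

/-- the germs at `y` of the sections of a subsheaf -/
def stalkSub (y : X) : Submodule (Ox y) (St (toPM F) y) := LinearMap.range (smₗ (toPMMap N.ι) y)

theorem mem_stalkSub_iff (y : X) (a : St (toPM F) y) :
    a ∈ stalkSub N y ↔ ∃ (V : X.Opens) (hy : y ∈ V) (s : Γ(F, V)), s ∈ N.carrier V ∧ gmM F y V hy s = a := by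
  constructor
  · rintro ⟨b, rfl⟩
    obtain ⟨V, hy, t, rfl⟩ := exists_gm_eq (P := toPM N.toModules) b
    refine ⟨V, hy, N.ι.app V t, N.ι_app_mem V t, ?_⟩
    exact (smM_gmM N.ι y V hy t).symm
  · rintro ⟨V, hy, s, hs, rfl⟩
    refine ⟨gmM N.toModules y V hy (N.mkSec V ⟨s, hs⟩), ?_⟩
    exact smM_gmM N.ι y V hy (N.mkSec V ⟨s, hs⟩)

theorem gmM_mem_stalkSub (y : X) {V : X.Opens} (hy : y ∈ V) {s : Γ(F, V)} (hs : s ∈ N.carrier V) :
    gmM F y V hy s ∈ stalkSub N y :=
  (mem_stalkSub_iff N y _).2 ⟨V, hy, s, hs, rfl⟩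

/-- the stalk of a subsheaf agreeing with `gen F V Q` near `y` is spanned by the germs of `Q` -/
theorem stalkSub_eq_span [F.IsQuasicoherent] {V : X.Opens} (Q : Set Γ(F, V)) (h : SubSh.AgreeOn N (gen F V Q) V)
    (y : X) (hy : y ∈ V) :
    stalkSub N y = Submodule.span (Ox y) ((gmM F y V hy) '' Q) := by
  apply le_antisymm
  · intro a ha
    obtain ⟨V', hy', s, hs, rfl⟩ := (mem_stalkSub_iff N y a).1 ha
    obtain ⟨T, hT, hyT, hTle⟩ := exists_isAffineOpen_mem_and_subset (x := y) (U := V ⊓ V') ⟨hy, hy'⟩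
    have h1 : res F (hTle.trans inf_le_right) s ∈ N.carrier T := N.res_mem _ hs
    rw [h T (hTle.trans inf_le_left), gen_carrier_eq_of_affine Q hT (hTle.trans inf_le_left)] at h1
    rw [← gmM_res F y (hTle.trans inf_le_right) hyT s]
    generalize res F (hTle.trans inf_le_right) s = t at h1
    unfold spanRes at h1
    induction h1 using Submodule.span_induction with
    | mem x hx =>
      obtain ⟨q, hq, rfl⟩ := hx
      rw [gmM_res F y (hTle.trans inf_le_left) hyT q]
      exact Submodule.subset_span ⟨q, hq, rfl⟩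
    | zero => rw [map_zero]; exact Submodule.zero_mem _
    | add x z _ _ hx hz => rw [map_add]; exact Submodule.add_mem _ hx hz
    | smul r x _ hx => rw [gmM_smul]; exact Submodule.smul_mem _ _ hx
  · rw [Submodule.span_le]
    rintro _ ⟨q, hq, rfl⟩
    refine gmM_mem_stalkSub N y hy ?_
    rw [h V le_rfl]
    apply spanRes_le_gen Q le_rfl
    have := res_mem_spanRes Q (le_refl V) hq
    rwa [res_self] at this

end SubShStalk

end Groth.Agent.Lib.Seat21.Dev
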