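import Groth.Agent.Lib.Seat21DevStalk
import Groth.Agent.Lib.Helper2FibreCrit2
import Groth.Agent.Lib.Helper23QCohAbelian
import Groth.Agent.Lib.Helper23FinTypeLocal

set_option autoImplicit false
set_option linter.style.haveILetI false
universe u
open CategoryTheory Limits AlgebraicGeometry TopologicalSpace Opposite

noncomputable section

namespace Groth.Agent.Lib.Seat21.Dev

open Groth.Agent.Lib.Helper1.StalkTensor Groth.Agent.Lib.Helper1.Sky Groth.Agent.Lib.Seat21.QSub

variable {X : Scheme.{u}}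

theorem mem_finset_inf_opens {ι : Type*} (S : Finset ι) (V : ι → X.Opens) (y : X) (h : ∀ i ∈ S, y ∈ V i) :
    y ∈ S.inf V := by
  classical
  induction S using Finset.induction_on with
  | empty => simp
  | insert a S _ ih =>
    rw [Finset.inf_insert]
    exact ⟨h a (Finset.mem_insert_self a S), ih fun i hi => h i (Finset.mem_insert_of_mem hi)⟩

namespace SubShStalk

variable {F : X.Modules}

/-- on a locally Noetherian scheme, every finitely generated submodule of a stalk of a quasi-coherent module is the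
stalk of a quasi-coherent subsheaf of finite type -/
theorem exists_subSh_stalkSub [F.IsQuasicoherent]
    (hX : ∀ x : X, ∃ U : X.Opens, x ∈ U ∧ NoetherianSpace (U : Set X)) (y : X)
    (N₀ : Submodule (Ox y) (St (toPM F) y)) (hN₀ : N₀.FG) :
    ∃ N : SubSh F, N.QCOn ⊤ ∧ N.FTOn ⊤ ∧ stalkSub N y = N₀ := by
  classical
  obtain ⟨S, hS⟩ := hN₀
  have hrep : ∀ a : St (toPM F) y, ∃ (V : X.Opens) (hy : y ∈ V) (s : Γ(F, V)), gmM F y V hy s = a :=
    fun a => exists_gm_eq (P := toPM F) a
  choose V hyV s hs using hrep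
  have hyinf : y ∈ S.inf V := mem_finset_inf_opens S V y fun i _ => hyV i
  obtain ⟨T, hT, hyT, hTle⟩ := exists_isAffineOpen_mem_and_subset (x := y) (U := S.inf V) hyinf
  have hTle' : T ≤ S.inf V := hTle
  have hle : ∀ a ∈ S, T ≤ V a := fun a ha => hTle'.trans (Finset.inf_le ha)
  let Q : Set Γ(F, T) := {q | ∃ (a : St (toPM F) y) (ha : a ∈ S), q = res F (hle a ha) (s a)}
  have hQfin : Q.Finite := by
    have : Q = Set.range (fun a : S => res F (hle a.1 a.2) (s a.1)) := by
      ext q
      constructor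
      · rintro ⟨a, ha, rfl⟩
        exact ⟨⟨a, ha⟩, rfl⟩
      · rintro ⟨⟨a, ha⟩, rfl⟩
        exact ⟨a, ha, rfl⟩
    rw [this]
    exact Set.finite_range _
  obtain ⟨N, hag, hNq, hNf⟩ := exists_subSh_of_locallyNoetherian hX T (gen F T Q) (qcOn_gen Q) (ftOn_gen Q hQfin)
  refine ⟨N, hNq, hNf, ?_⟩
  rw [stalkSub_eq_span N Q hag y hyT, ← hS]
  congr 1
  ext a
  constructor
  · rintro ⟨q, ⟨a, ha, rfl⟩, rfl⟩
    rw [gmM_res, hs]
    exact ha
  · intro ha
    refine ⟨res F (hle a ha) (s a), ⟨a, ha, rfl⟩, ?_⟩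
    rw [gmM_res, hs]

end SubShStalk

/-! ### stalks of kernels and cokernels -/

theorem sm_comp_apply {F G H : X.Modules} (φ : F ⟶ G) (ψ : G ⟶ H) (y : X) (a : St (toPM F) y) :
    sm (toPMMap (φ ≫ ψ)) y a = sm (toPMMap ψ) y (sm (toPMMap φ) y a) :=
  sm_comp (toPMMap φ) (toPMMap ψ) y a

theorem sm_zero_apply {F G : X.Modules} (y : X) (a : St (toPM F) y) :
    sm (toPMMap (0 : F ⟶ G)) y a = 0 := by
  have h := (stalkFun y).map_zero F G
  have h2 := congrArg (fun t => t.hom a) h
  exact h2

theorem sm_add_apply {F G : X.Modules} (φ ψ : F ⟶ G) (y : X) (a : St (toPM F) y) :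
    sm (toPMMap (φ + ψ)) y a = sm (toPMMap φ) y a + sm (toPMMap ψ) y a := by
  have h := (stalkFun y).map_add (f := φ) (g := ψ)
  have h2 := congrArg (fun t => t.hom a) h
  exact h2

theorem sm_id_apply {F : X.Modules} (y : X) (a : St (toPM F) y) :
    sm (toPMMap (𝟙 F)) y a = a := sm_id y (toPM F) a

theorem sm_surjective_of_epi {F G : X.Modules} (φ : F ⟶ G) [Epi φ] (y : X) :
    Function.Surjective (sm (toPMMap φ) y) := fun c =>
  Groth.Agent.Lib.Helper4.ModEpi.exists_germ_eq_of_epi φ y c

theorem not_mem_support_kernel {F G : X.Modules} (φ : F ⟶ G) (y : X)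
    (h : Function.Injective (sm (toPMMap φ) y)) : y ∉ CohB1.support (kernel φ) := by
  rw [mem_support_iff, not_not]
  refine ⟨fun a b => ?_⟩
  apply sm_injective_of_mono (kernel.ι φ) y
  apply h
  rw [← sm_comp_apply, ← sm_comp_apply, kernel.condition, sm_zero_apply, sm_zero_apply]

theorem not_mem_support_cokernel {F G : X.Modules} (φ : F ⟶ G) (y : X)
    (h : Function.Surjective (sm (toPMMap φ) y)) : y ∉ CohB1.support (cokernel φ) := by
  rw [mem_support_iff, not_not]
  have key : ∀ c : St (toPM (cokernel φ)) y, c = 0 := by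
    intro c
    obtain ⟨b, rfl⟩ := sm_surjective_of_epi (cokernel.π φ) y c
    obtain ⟨a, rfl⟩ := h b
    rw [← sm_comp_apply, cokernel.condition, sm_zero_apply]
  exact ⟨fun a b => by rw [key a, key b]⟩

/-- supports of subobjects and quotients -/
theorem support_subset_of_mono {F G : X.Modules} (φ : F ⟶ G) [Mono φ] :
    CohB1.support F ⊆ CohB1.support G := by
  intro x hx
  rw [mem_support_iff] at hx ⊢
  intro h
  exact hx (sm_injective_of_mono φ x).subsingleton

theorem support_subset_of_epi {F G : X.Modules} (φ : F ⟶ G) [Epi φ] :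
    CohB1.support G ⊆ CohB1.support F := by
  intro x hx
  rw [mem_support_iff] at hx ⊢
  intro h
  exact hx (sm_surjective_of_epi φ x).subsingleton

end Groth.Agent.Lib.Seat21.Dev
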