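import Groth.Agent.Lib.Seat21DevChain

set_option autoImplicit false
set_option linter.style.haveILetI false
universe u
open CategoryTheory Limits AlgebraicGeometry TopologicalSpace Opposite

noncomputable section

namespace Groth.Agent.Lib.Seat21.Dev

open Groth.Agent.Lib.Helper1.StalkTensor Groth.Agent.Lib.Helper1.Sky Groth.Agent.Lib.Seat21.QSub

variable {X : Scheme.{u}}

instance instIsLocalRingOx (y : X) : IsLocalRing (Ox y) := inferInstanceAs (IsLocalRing (X.presheaf.stalk y))

/-- the stalk at `y` is isomorphic to the residue field, in elementary terms -/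
def RankOne (F : X.Modules) (y : X) : Prop :=
  ∃ c : St (toPM F) y, c ≠ 0 ∧ (∀ w : St (toPM F) y, ∃ r : Ox y, w = r • c) ∧
    ∀ r ∈ IsLocalRing.maximalIdeal (Ox y), r • c = 0

theorem ker_toSpanSingleton_eq {R M : Type*} [CommRing R] [IsLocalRing R] [AddCommGroup M] [Module R M]
    (c : M) (hc : c ≠ 0) (hm : ∀ r ∈ IsLocalRing.maximalIdeal R, r • c = 0) :
    LinearMap.ker (LinearMap.toSpanSingleton R M c) = IsLocalRing.maximalIdeal R := by
  apply le_antisymm
  · apply IsLocalRing.le_maximalIdeal
    intro h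
    have : (1 : R) ∈ LinearMap.ker (LinearMap.toSpanSingleton R M c) := h ▸ Submodule.mem_top
    rw [LinearMap.mem_ker, LinearMap.toSpanSingleton_apply, one_smul] at this
    exact hc this
  · intro r hr
    rw [LinearMap.mem_ker, LinearMap.toSpanSingleton_apply]
    exact hm r hr

/-- a cyclic module over a local ring killed by the maximal ideal and nonzero is the residue field -/
theorem nonempty_linearEquiv_of_cyclic {R M M' : Type*} [CommRing R] [IsLocalRing R] [AddCommGroup M] [Module R M]
    [AddCommGroup M'] [Module R M']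
    (c : M) (hc : c ≠ 0) (hs : ∀ w : M, ∃ r : R, w = r • c) (hm : ∀ r ∈ IsLocalRing.maximalIdeal R, r • c = 0)
    (c' : M') (hc' : c' ≠ 0) (hs' : ∀ w : M', ∃ r : R, w = r • c')
    (hm' : ∀ r ∈ IsLocalRing.maximalIdeal R, r • c' = 0) : Nonempty (M ≃ₗ[R] M') := by
  have h1 : Function.Surjective (LinearMap.toSpanSingleton R M c) := fun w => by
    obtain ⟨r, rfl⟩ := hs w
    exact ⟨r, rfl⟩
  have h2 : Function.Surjective (LinearMap.toSpanSingleton R M' c') := fun w => by
    obtain ⟨r, rfl⟩ := hs' w
    exact ⟨r, rfl⟩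
  have hk : LinearMap.ker (LinearMap.toSpanSingleton R M c) = LinearMap.ker (LinearMap.toSpanSingleton R M' c') :=
    (ker_toSpanSingleton_eq c hc hm).trans (ker_toSpanSingleton_eq c' hc' hm').symm
  exact ⟨((LinearMap.toSpanSingleton R M c).quotKerEquivOfSurjective h1).symm ≪≫ₗ
    Submodule.quotEquivOfEq _ _ hk ≪≫ₗ (LinearMap.toSpanSingleton R M' c').quotKerEquivOfSurjective h2⟩

theorem RankOne.nonempty_linearEquiv {F G : X.Modules} {y : X} (hF : RankOne F y) (hG : RankOne G y) :
    Nonempty (St (toPM F) y ≃ₗ[Ox y] St (toPM G) y) := by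
  obtain ⟨c, hc, hs, hm⟩ := hF
  obtain ⟨c', hc', hs', hm'⟩ := hG
  exact nonempty_linearEquiv_of_cyclic c hc hs hm c' hc' hs' hm'

section Irr

variable [IsNoetherian X] {K : X.Modules → Prop} {X' : Set X} (hyp : Hyp K X') {Z : Set X} (hZX' : Z ⊆ X') (y : X)
  (hIH : ∀ F : X.Modules, Coh.IsCoh F → CohB1.support F ⊆ Z → y ∉ CohB1.support F → K F)

include hyp hZX' hIH

/-- step (c): modules with stalk the residue field at `y` -/
theorem step_c (G : X.Modules) (hG : Coh.IsCoh G) (hKG : K G) (hGZ : CohB1.support G ⊆ Z)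
    (hM : ∀ F : X.Modules, Coh.IsCoh F → CohB1.support F ⊆ Z → RankOne F y →
      ∃ M : X.Modules, Coh.IsCoh M ∧ CohB1.support M ⊆ Z ∧
        Nonempty (St (toPM M) y ≃ₗ[Ox y] St (toPM G) y) ∧ (K M → K F))
    (F : X.Modules) (hF : Coh.IsCoh F) (hFZ : CohB1.support F ⊆ Z) (hF1 : RankOne F y) : K F := by
  obtain ⟨M, hMc, hMZ, ⟨θ⟩, hKM⟩ := hM F hF hFZ hF1
  obtain ⟨H, u, v, hH, hu, hv, hHs⟩ := exists_correspondence G M hG hMc y θ.symm
  refine hKM (K_of_correspondence hyp hZX' y hIH hH hG hMc ?_ hGZ hMZ u v hu hv hKG)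
  exact hHs.trans (Set.union_subset hGZ hMZ)

/-- step (b): modules whose stalk at `y` is killed by the maximal ideal -/
theorem step_b (hR1 : ∀ F : X.Modules, Coh.IsCoh F → CohB1.support F ⊆ Z → RankOne F y → K F) :
    ∀ (n : ℕ) (F : X.Modules), Coh.IsCoh F → CohB1.support F ⊆ Z →
      (∀ r ∈ IsLocalRing.maximalIdeal (Ox y), ∀ a : St (toPM F) y, r • a = 0) →
      (∃ S : Finset (St (toPM F) y), S.card ≤ n ∧ Submodule.span (Ox y) (S : Set (St (toPM F) y)) = ⊤) →
      K F := by
  classical
  intro n
  induction n with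
  | zero =>
    intro F hF hFZ _ ⟨S, hcard, hspan⟩
    refine hIH F hF hFZ (not_mem_support_of_forall_eq_zero fun a => ?_)
    have hS : S = ∅ := Finset.card_eq_zero.1 (Nat.le_zero.1 hcard)
    have ha : a ∈ Submodule.span (Ox y) (S : Set (St (toPM F) y)) := hspan ▸ Submodule.mem_top
    rw [hS, Finset.coe_empty, Submodule.span_empty] at ha
    exact ha
  | succ n ih =>
    intro F hF hFZ hkill ⟨S, hcard, hspan⟩
    haveI := hF.1
    by_cases hS : S = ∅
    · refine hIH F hF hFZ (not_mem_support_of_forall_eq_zero fun a => ?_)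
      have ha : a ∈ Submodule.span (Ox y) (S : Set (St (toPM F) y)) := hspan ▸ Submodule.mem_top
      rw [hS, Finset.coe_empty, Submodule.span_empty] at ha
      exact ha
    obtain ⟨a, haS⟩ := Finset.nonempty_iff_ne_empty.2 hS
    let S' := S.erase a
    have hS'card : S'.card ≤ n := by
      have := Finset.card_erase_of_mem haS
      show (S.erase a).card ≤ n
      omega
    have hSins : (S : Set (St (toPM F) y)) = insert a (S' : Set (St (toPM F) y)) := by
      rw [← Finset.coe_insert, Finset.insert_erase haS]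
    obtain ⟨N, hNq, hNf, hNs⟩ := SubShStalk.exists_subSh_stalkSub (F := F) hX_of_isNoetherian y
      (Submodule.span (Ox y) (S' : Set (St (toPM F) y))) (Submodule.fg_span (Finset.finite_toSet S'))
    have hF₁ : Coh.IsCoh N.toModules := isCoh_subSh hF N hNq
    have hQ : Coh.IsCoh (cokernel N.ι) := isCoh_cokernel hF₁ hF N.ι
    have hF₁Z : CohB1.support N.toModules ⊆ Z := (support_subset_of_mono N.ι).trans hFZ
    have hQZ : CohB1.support (cokernel N.ι) ⊆ Z := (support_subset_of_epi (cokernel.π N.ι)).trans hFZ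
    have hinj := sm_injective_of_mono N.ι y
    -- the subsheaf
    have hK₁ : K N.toModules := by
      refine ih N.toModules hF₁ hF₁Z ?_ ?_
      · intro r hr z
        apply hinj
        rw [sm_smul, hkill r hr, map_zero]
      · have hpre : ∀ b : S', ∃ z : St (toPM N.toModules) y, sm (toPMMap N.ι) y z = b.1 := fun b =>
          exists_of_mem_stalkSub N y (hNs ▸ Submodule.subset_span b.2)
        choose pre hpre using hpre
        refine ⟨Finset.univ.image pre, ?_, ?_⟩
        · refine (Finset.card_image_le).trans ?_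
          rw [Finset.card_univ, Fintype.card_coe]
          exact hS'card
        · rw [eq_top_iff]
          intro z _
          have hz : sm (toPMMap N.ι) y z ∈ Submodule.span (Ox y) (S' : Set (St (toPM F) y)) :=
            hNs ▸ sm_ι_mem_stalkSub N y z
          have key : ∀ w ∈ Submodule.span (Ox y) (S' : Set (St (toPM F) y)),
              ∃ z' ∈ Submodule.span (Ox y) ((Finset.univ.image pre : Finset _) : Set (St (toPM N.toModules) y)),
                sm (toPMMap N.ι) y z' = w := by
            intro w hw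
            induction hw using Submodule.span_induction with
            | mem x hx =>
              exact ⟨pre ⟨x, hx⟩, Submodule.subset_span (Finset.mem_coe.2
                (Finset.mem_image_of_mem pre (Finset.mem_univ _))), hpre ⟨x, hx⟩⟩
            | zero => exact ⟨0, Submodule.zero_mem _, map_zero _⟩
            | add x z _ _ hx hz =>
              obtain ⟨x', hx', ex⟩ := hx
              obtain ⟨z', hz', ez⟩ := hz
              exact ⟨x' + z', Submodule.add_mem _ hx' hz', by rw [map_add, ex, ez]⟩
            | smul r x _ hx =>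
              obtain ⟨x', hx', ex⟩ := hx
              exact ⟨r • x', Submodule.smul_mem _ r hx', by rw [sm_smul, ex]⟩
          obtain ⟨z', hz', e⟩ := key _ hz
          rw [← hinj e]
          exact hz'
    -- the quotient
    have hK₂ : K (cokernel N.ι) := by
      let c : St (toPM (cokernel N.ι)) y := sm (toPMMap (cokernel.π N.ι)) y a
      have hgen : ∀ w : St (toPM (cokernel N.ι)) y, ∃ r : Ox y, w = r • c := by
        intro w
        obtain ⟨b, rfl⟩ := sm_surjective_of_epi (cokernel.π N.ι) y w
        have hb : b ∈ Submodule.span (Ox y) (S : Set (St (toPM F) y)) := hspan ▸ Submodule.mem_top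
        rw [hSins, Submodule.mem_span_insert] at hb
        obtain ⟨r, b', hb', rfl⟩ := hb
        obtain ⟨z, hz⟩ := exists_of_mem_stalkSub N y (hNs ▸ hb')
        refine ⟨r, ?_⟩
        rw [map_add, sm_smul, ← hz, ← sm_comp_apply, cokernel.condition, sm_zero_apply, add_zero]
      have hmc : ∀ r ∈ IsLocalRing.maximalIdeal (Ox y), r • c = 0 := by
        intro r hr
        rw [← sm_smul, hkill r hr, map_zero]
      by_cases hc : c = 0
      · refine hIH _ hQ hQZ (not_mem_support_of_forall_eq_zero fun w => ?_)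
        obtain ⟨r, rfl⟩ := hgen w
        rw [hc, smul_zero]
      · exact hR1 _ hQ hQZ ⟨c, hc, hgen, hmc⟩
    exact (hyp.ex _ (shortExact_cokernel N.ι) hF₁ hF hQ (hFZ.trans hZX')).2.1 hK₁ hK₂

/-- step (a): modules whose stalk at `y` is killed by a power of the maximal ideal -/
theorem step_a (hB : ∀ F : X.Modules, Coh.IsCoh F → CohB1.support F ⊆ Z →
      (∀ r ∈ IsLocalRing.maximalIdeal (Ox y), ∀ a : St (toPM F) y, r • a = 0) → K F) :
    ∀ (d : ℕ) (F : X.Modules), Coh.IsCoh F → CohB1.support F ⊆ Z →
      (∀ r ∈ (IsLocalRing.maximalIdeal (Ox y)) ^ d, ∀ a : St (toPM F) y, r • a = 0) → K F := by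
  intro d
  induction d with
  | zero =>
    intro F hF hFZ hkill
    refine hIH F hF hFZ (not_mem_support_of_forall_eq_zero fun a => ?_)
    have := hkill 1 (by rw [pow_zero, Ideal.one_eq_top]; exact Submodule.mem_top) a
    rwa [one_smul] at this
  | succ d ih =>
    intro F hF hFZ hkill
    haveI := hF.1
    haveI : Module.Finite (Ox y) (St (toPM F) y) := finite_stalk_of_isCoh hF y
    haveI : IsNoetherianRing (Ox y) := inferInstanceAs (IsNoetherianRing (X.presheaf.stalk y))
    haveI : IsNoetherian (Ox y) (St (toPM F) y) := isNoetherian_of_isNoetherianRing_of_finite _ _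
    obtain ⟨N, hNq, hNf, hNs⟩ := SubShStalk.exists_subSh_stalkSub (F := F) hX_of_isNoetherian y
      (IsLocalRing.maximalIdeal (Ox y) • (⊤ : Submodule (Ox y) (St (toPM F) y))) (IsNoetherian.noetherian _)
    have hF₁ : Coh.IsCoh N.toModules := isCoh_subSh hF N hNq
    have hQ : Coh.IsCoh (cokernel N.ι) := isCoh_cokernel hF₁ hF N.ι
    have hF₁Z : CohB1.support N.toModules ⊆ Z := (support_subset_of_mono N.ι).trans hFZ
    have hQZ : CohB1.support (cokernel N.ι) ⊆ Z := (support_subset_of_epi (cokernel.π N.ι)).trans hFZ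
    have hinj := sm_injective_of_mono N.ι y
    have hK₁ : K N.toModules := by
      refine ih N.toModules hF₁ hF₁Z ?_
      intro r hr z
      apply hinj
      rw [sm_smul, map_zero]
      have hz : sm (toPMMap N.ι) y z ∈
          IsLocalRing.maximalIdeal (Ox y) • (⊤ : Submodule (Ox y) (St (toPM F) y)) :=
        hNs ▸ sm_ι_mem_stalkSub N y z
      have key : ∀ w ∈ IsLocalRing.maximalIdeal (Ox y) • (⊤ : Submodule (Ox y) (St (toPM F) y)),
          r • w = 0 := by
        intro w hw
        refine Submodule.smul_induction_on hw (fun s hs t _ => ?_) (fun x z hx hz => ?_)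
        · rw [smul_smul]
          exact hkill (r * s) (by rw [pow_succ]; exact Ideal.mul_mem_mul hr hs) t
        · rw [smul_add, hx, hz, add_zero]
      exact key _ hz
    have hK₂ : K (cokernel N.ι) := by
      refine hB _ hQ hQZ ?_
      intro r hr w
      obtain ⟨b, rfl⟩ := sm_surjective_of_epi (cokernel.π N.ι) y w
      rw [← sm_smul]
      have hb : r • b ∈ SubShStalk.stalkSub N y := by
        rw [hNs]
        exact Submodule.smul_mem_smul hr Submodule.mem_top
      obtain ⟨z, hz⟩ := exists_of_mem_stalkSub N y hb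
      rw [← hz, ← sm_comp_apply, cokernel.condition, sm_zero_apply]
    exact (hyp.ex _ (shortExact_cokernel N.ι) hF₁ hF hQ (hFZ.trans hZX')).2.1 hK₁ hK₂

end Irr

end Groth.Agent.Lib.Seat21.Dev
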