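import Groth.Agent.Lib.Seat21DevExt
import Groth.Agent.Lib.Seat21DevPushO
import Groth.Agent.Lib.Helper10RedInd

/-!
# Dévissage with extensions only: torsion-free generators (seat 21)

Namespace `Groth.Agent.Lib.Seat21.Dev`.

* `exists_correspondence'` : the graph correspondence `G ⟵ H ⟶ M`, with `H ⟶ G ⊞ M` a monomorphism.
* `TorsionFreeAt G y` : every subobject of `G` with vanishing stalk at `y` is zero; stable under `⊞`, `pw`; holds for
  `O_X / I` when `I` is the vanishing ideal of `closure {y}`.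
* `mono_of_torsionFreeAt` : in a correspondence with `G` torsion-free at `y` and `v` injective at `y`, `v` is a mono.
* `K_of_subobject_pw`, `K_of_killed` : the extension-only step for modules whose stalk at `y` is killed by the maximal
  ideal.
-/

set_option autoImplicit false
set_option linter.style.haveILetI false
universe u
open CategoryTheory Limits AlgebraicGeometry TopologicalSpace Opposite

noncomputable section

namespace Groth.Agent.Lib.Seat21.Dev

open Groth.Agent.Lib.Helper1.StalkTensor Groth.Agent.Lib.Helper1.Sky Groth.Agent.Lib.Seat21.QSub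

variable {X : Scheme.{u}}

/-- two coherent modules with isomorphic stalks at `y` are related by a correspondence which is an isomorphism
at `y`, jointly monic -/
theorem exists_correspondence' [IsNoetherian X] (G M : X.Modules) (hG : Coh.IsCoh G) (hM : Coh.IsCoh M) (y : X)
    (θ : St (toPM G) y ≃ₗ[Ox y] St (toPM M) y) :
    ∃ (H : X.Modules) (u : H ⟶ G) (v : H ⟶ M), Coh.IsCoh H ∧
      Function.Bijective (sm (toPMMap u) y) ∧ Function.Bijective (sm (toPMMap v) y) ∧
      CohB1.support H ⊆ CohB1.support G ∪ CohB1.support M ∧ Mono (biprod.lift u v) := by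
  have hP : Coh.IsCoh (G ⊞ M) := isCoh_biprod hG hM
  haveI := hP.1
  haveI : Module.Finite (Ox y) (St (toPM (G ⊞ M)) y) := finite_stalk_of_isCoh hP y
  haveI : IsNoetherianRing (Ox y) := inferInstanceAs (IsNoetherianRing (X.presheaf.stalk y))
  haveI : IsNoetherian (Ox y) (St (toPM (G ⊞ M)) y) := isNoetherian_of_isNoetherianRing_of_finite _ _
  let N₀ : Submodule (Ox y) (St (toPM (G ⊞ M)) y) :=
    LinearMap.ker (θ.toLinearMap ∘ₗ smₗ (toPMMap (biprod.fst : G ⊞ M ⟶ G)) y -
      smₗ (toPMMap (biprod.snd : G ⊞ M ⟶ M)) y)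
  have hN₀ : ∀ p, p ∈ N₀ ↔ θ (sm (toPMMap (biprod.fst : G ⊞ M ⟶ G)) y p) =
      sm (toPMMap (biprod.snd : G ⊞ M ⟶ M)) y p := by
    intro p
    simp only [N₀, LinearMap.mem_ker, LinearMap.sub_apply, LinearMap.comp_apply, sub_eq_zero]
    rfl
  obtain ⟨N, hNq, hNf, hNs⟩ := SubShStalk.exists_subSh_stalkSub (F := G ⊞ M) hX_of_isNoetherian y N₀
    (IsNoetherian.noetherian N₀)
  refine ⟨N.toModules, N.ι ≫ biprod.fst, N.ι ≫ biprod.snd, isCoh_subSh hP N hNq, ⟨?_, ?_⟩, ⟨?_, ?_⟩, ?_, ?_⟩
  · -- injectivity of `u`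
    intro a b hab
    apply sm_injective_of_mono N.ι y
    rw [← sub_eq_zero, ← map_sub]
    rw [sm_comp_apply, sm_comp_apply, ← sub_eq_zero, ← map_sub, ← map_sub] at hab
    have hmem : sm (toPMMap N.ι) y (a - b) ∈ N₀ := hNs ▸ sm_ι_mem_stalkSub N y (a - b)
    refine biprod_stalk_ext y _ hab ?_
    rw [← (hN₀ _).1 hmem, hab, map_zero]
  · -- surjectivity of `u`
    intro g
    let p : St (toPM (G ⊞ M)) y := sm (toPMMap (biprod.inl : G ⟶ G ⊞ M)) y g +
      sm (toPMMap (biprod.inr : M ⟶ G ⊞ M)) y (θ g)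
    have hp1 : sm (toPMMap (biprod.fst : G ⊞ M ⟶ G)) y p = g := by
      simp only [p, map_add]
      rw [← sm_comp_apply, ← sm_comp_apply, biprod.inl_fst, biprod.inr_fst, sm_id_apply, sm_zero_apply, add_zero]
    have hp2 : sm (toPMMap (biprod.snd : G ⊞ M ⟶ M)) y p = θ g := by
      simp only [p, map_add]
      rw [← sm_comp_apply, ← sm_comp_apply, biprod.inl_snd, biprod.inr_snd, sm_id_apply, sm_zero_apply, zero_add]
    have hmem : p ∈ SubShStalk.stalkSub N y := by
      rw [hNs, hN₀, hp1, hp2]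
    obtain ⟨a, ha⟩ := exists_of_mem_stalkSub N y hmem
    exact ⟨a, by rw [sm_comp_apply, ha, hp1]⟩
  · -- injectivity of `v`
    intro a b hab
    apply sm_injective_of_mono N.ι y
    rw [← sub_eq_zero, ← map_sub]
    rw [sm_comp_apply, sm_comp_apply, ← sub_eq_zero, ← map_sub, ← map_sub] at hab
    have hmem : sm (toPMMap N.ι) y (a - b) ∈ N₀ := hNs ▸ sm_ι_mem_stalkSub N y (a - b)
    refine biprod_stalk_ext y _ ?_ hab
    apply θ.injective
    rw [(hN₀ _).1 hmem, hab, map_zero]
  · -- surjectivity of `v`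
    intro m
    let p : St (toPM (G ⊞ M)) y := sm (toPMMap (biprod.inl : G ⟶ G ⊞ M)) y (θ.symm m) +
      sm (toPMMap (biprod.inr : M ⟶ G ⊞ M)) y m
    have hp1 : sm (toPMMap (biprod.fst : G ⊞ M ⟶ G)) y p = θ.symm m := by
      simp only [p, map_add]
      rw [← sm_comp_apply, ← sm_comp_apply, biprod.inl_fst, biprod.inr_fst, sm_id_apply, sm_zero_apply, add_zero]
    have hp2 : sm (toPMMap (biprod.snd : G ⊞ M ⟶ M)) y p = m := by
      simp only [p, map_add]
      rw [← sm_comp_apply, ← sm_comp_apply, biprod.inl_snd, biprod.inr_snd, sm_id_apply, sm_zero_apply, zero_add]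
    have hmem : p ∈ SubShStalk.stalkSub N y := by
      rw [hNs, hN₀, hp1, hp2, LinearEquiv.apply_symm_apply]
    obtain ⟨a, ha⟩ := exists_of_mem_stalkSub N y hmem
    exact ⟨a, by rw [sm_comp_apply, ha, hp2]⟩
  · -- support
    intro x hx
    have h1 := support_subset_of_mono N.ι hx
    by_contra hcon
    rw [Set.mem_union, not_or, mem_support_iff, mem_support_iff, not_not, not_not] at hcon
    rw [mem_support_iff] at h1
    apply h1
    refine ⟨fun a b => ?_⟩
    rw [← sub_eq_zero]
    exact biprod_stalk_ext x _ (hcon.1.elim _ _) (hcon.2.elim _ _)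
  · -- jointly monic
    have e : biprod.lift (N.ι ≫ biprod.fst) (N.ι ≫ biprod.snd) = N.ι := by
      apply biprod.hom_ext <;> simp
    rw [e]
    exact SubSh.mono_ι N

/-- every subobject of `G` with vanishing stalk at `y` is zero -/
def TorsionFreeAt (G : X.Modules) (y : X) : Prop :=
  ∀ (A : X.Modules) (j : A ⟶ G), Mono j → y ∉ CohB1.support A → IsZero A

theorem TorsionFreeAt.biprod {G₁ G₂ : X.Modules} {y : X} (h₁ : TorsionFreeAt G₁ y) (h₂ : TorsionFreeAt G₂ y) :
    TorsionFreeAt (G₁ ⊞ G₂) y := by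
  intro A j hj hy
  have hk : Mono (kernel.ι (j ≫ biprod.snd) ≫ j ≫ biprod.fst) := by
    refine Preadditive.mono_of_cancel_zero _ fun {T} f hf => ?_
    have h1 : (f ≫ kernel.ι (j ≫ biprod.snd)) ≫ j = 0 := by
      apply biprod.hom_ext
      · simpa using hf
      · simp
    have h2 : f ≫ kernel.ι (j ≫ biprod.snd) = 0 := by
      rw [← cancel_mono j, h1, zero_comp]
    rw [← cancel_mono (kernel.ι (j ≫ biprod.snd)), h2, zero_comp]
  have hs : y ∉ CohB1.support (kernel (j ≫ biprod.snd)) :=
    fun h => hy (support_subset_of_mono (kernel.ι (j ≫ biprod.snd)) h)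
  have hz : IsZero (kernel (j ≫ biprod.snd)) := h₁ _ _ hk hs
  have hm : Mono (j ≫ biprod.snd) := Preadditive.mono_of_kernel_zero (hz.eq_of_src _ _)
  exact h₂ A _ hm hy

theorem TorsionFreeAt.pw {G : X.Modules} {y : X} (h : TorsionFreeAt G y) : ∀ n, TorsionFreeAt (pw G n) y
  | 0 => h
  | n + 1 => TorsionFreeAt.biprod h (TorsionFreeAt.pw h n)

theorem app_res {F G : X.Modules} (φ : F ⟶ G) {V V' : X.Opens} (h : V' ≤ V) (s : Γ(F, V)) :
    φ.app V' (res F h s) = res G h (φ.app V s) := by
  have := congr($(φ.mapPresheaf.naturality (homOfLE h).op) s)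
  exact this

/-- a module all of whose sections vanish is zero -/
theorem isZero_of_forall_section_eq_zero (A : X.Modules) (h : ∀ (U : X.Opens) (s : Γ(A, U)), s = 0) : IsZero A := by
  apply isZero_of_support_subset_empty
  intro x hx
  refine absurd hx (not_mem_support_of_forall_eq_zero fun a => ?_)
  obtain ⟨U, hxU, s, rfl⟩ := exists_gm_eq (P := toPM A) a
  have : s = 0 := h U s
  rw [this, map_zero]

/-- `O_X / I`, for `I` the vanishing ideal of `closure {y}`, is torsion-free at `y` -/
theorem torsionFreeAt_quotMod {Z : Set X} (hZ : IsClosed Z) {y : X} (hy : closure {y} = Z) :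
    TorsionFreeAt (ClSub.quotMod (Scheme.IdealSheafData.vanishingIdeal ⟨Z, hZ⟩)) y := by
  set I := Scheme.IdealSheafData.vanishingIdeal ⟨Z, hZ⟩ with hI
  haveI : IrreducibleSpace ↥I.subscheme :=
    Groth.Agent.Lib.Helper6.EquiSub.irreducibleSpace_subscheme ⟨Z, hZ⟩ y hy
  haveI : IsReduced I.subscheme :=
    Groth.Agent.Lib.Helper10.RedInd.isReduced_subscheme_vanishingIdeal ⟨Z, hZ⟩
  haveI : IsIntegral I.subscheme := isIntegral_of_irreducibleSpace_of_isReduced _
  have hr : Set.range ⇑I.subschemeι = Z := Groth.Agent.Lib.Helper6.EquiSub.range_subschemeι_vanishingIdeal ⟨Z, hZ⟩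
  have hyZ : y ∈ Z := hy ▸ subset_closure (Set.mem_singleton y)
  obtain ⟨z₀, hz₀⟩ : y ∈ Set.range ⇑I.subschemeι := hr ▸ hyZ
  intro A j hj hyA
  haveI := hj
  haveI : Subsingleton (St (toPM A) y) := subsingleton_stalk_of_not_mem_support hyA
  apply isZero_of_forall_section_eq_zero
  intro U s
  apply Groth.Agent.Lib.Seat96.ModSec.injective_app_of_mono j U
  rw [map_zero]
  by_cases hU : I.subschemeι ⁻¹ᵁ U = ⊥
  · haveI : Subsingleton Γ(I.subscheme, I.subschemeι ⁻¹ᵁ U) := by
      rw [hU]; infer_instance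
    exact Subsingleton.elim (α := Γ(I.subscheme, I.subschemeι ⁻¹ᵁ U)) _ _
  · obtain ⟨z, hz⟩ : ∃ z, z ∈ I.subschemeι ⁻¹ᵁ U := by
      by_contra hcon
      apply hU
      ext w
      simp only [Opens.coe_bot, Set.mem_empty_iff_false, iff_false]
      exact fun hw => hcon ⟨w, hw⟩
    have hzZ : I.subschemeι z ∈ closure {y} := hy ▸ hr ▸ Set.mem_range_self z
    have hyU : y ∈ U := (specializes_iff_mem_closure.2 hzZ).mem_open U.isOpen hz
    have h0 : gmM A y U hyU s = gmM A y U hyU 0 := Subsingleton.elim _ _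
    obtain ⟨W, hyW, iU, iV, hW⟩ := gm_eq (P := toPM A) hyU hyU _ _ h0
    have h1 : res A iU.le s = 0 := by
      have : rs (toPM A) iV 0 = 0 := map_zero _
      exact hW.trans this
    have h2 : res (ClSub.quotMod I) iU.le (j.app U s) = 0 := by
      rw [← app_res, h1, map_zero]
    have hz₀W : z₀ ∈ I.subschemeι ⁻¹ᵁ W := show I.subschemeι z₀ ∈ W from hz₀ ▸ hyW
    have hle : I.subschemeι ⁻¹ᵁ W ≤ I.subschemeι ⁻¹ᵁ U := fun w hw => iU.le hw
    have hinj := map_injective_of_isIntegral (X := I.subscheme) (H := ⟨⟨z₀, hz₀W⟩⟩) (homOfLE hle)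
    exact hinj (h2.trans (map_zero (I.subscheme.presheaf.map (homOfLE hle).op).hom).symm)

/-- in a jointly monic correspondence with `G` torsion-free at `y`, if `v` is injective at `y` it is a monomorphism -/
theorem mono_of_torsionFreeAt {H G M : X.Modules} {y : X} (u : H ⟶ G) (v : H ⟶ M) (huv : Mono (biprod.lift u v))
    (hG : TorsionFreeAt G y) (hv : Function.Injective (sm (toPMMap v) y)) : Mono v := by
  have hk : Mono (kernel.ι v ≫ u) := by
    refine Preadditive.mono_of_cancel_zero _ fun {T} f hf => ?_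
    have h1 : (f ≫ kernel.ι v) ≫ biprod.lift u v = 0 := by
      apply biprod.hom_ext
      · simpa using hf
      · simp
    have h2 : f ≫ kernel.ι v = 0 := by
      rw [← cancel_mono (biprod.lift u v), h1, zero_comp]
    rw [← cancel_mono (kernel.ι v), h2, zero_comp]
  have hz : IsZero (kernel v) := hG _ _ hk (not_mem_support_kernel v y hv)
  exact Preadditive.mono_of_kernel_zero (hz.eq_of_src _ _)

section Ext

variable [IsNoetherian X] {K : X.Modules → Prop} {X' : Set X} (hyp : HypE K X')

include hyp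

/-- if all coherent subobjects of `G` lie in `K`, so do those of `G ⊕ ⋯ ⊕ G` -/
theorem K_of_subobject_pw {G : X.Modules} (hG : Coh.IsCoh G) (hGX' : CohB1.support G ⊆ X')
    (h0 : ∀ (N : X.Modules) (j : N ⟶ G), Mono j → Coh.IsCoh N → K N) :
    ∀ (n : ℕ) (N : X.Modules) (j : N ⟶ pw G n), Mono j → Coh.IsCoh N → K N
  | 0 => h0
  | n + 1 => fun N j hj hN => by
    haveI := hj
    let j' : N ⟶ G ⊞ pw G n := j
    haveI : Mono j' := hj
    let q : N ⟶ pw G n := j' ≫ biprod.snd
    have hPn : Coh.IsCoh (pw G n) := isCoh_pw hG n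
    have hCq : Coh.IsCoh (cokernel q) := isCoh_cokernel hN hPn q
    have hIq : Coh.IsCoh (Abelian.image q) := isCoh_kernel hPn hCq (cokernel.π q)
    have hKq : Coh.IsCoh (kernel (Abelian.factorThruImage q)) := isCoh_kernel hN hIq _
    have hk : Mono (kernel.ι (Abelian.factorThruImage q) ≫ j' ≫ biprod.fst) := by
      refine Preadditive.mono_of_cancel_zero _ fun {T} f hf => ?_
      have h1 : (f ≫ kernel.ι (Abelian.factorThruImage q)) ≫ j' = 0 := by
        apply biprod.hom_ext
        · simpa using hf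
        · have e1 : (f ≫ kernel.ι (Abelian.factorThruImage q)) ≫ Abelian.factorThruImage q ≫ Abelian.image.ι q = 0 := by
            rw [Category.assoc, kernel.condition_assoc, zero_comp, comp_zero]
          have : (f ≫ kernel.ι (Abelian.factorThruImage q)) ≫ q = 0 := by
            rw [Abelian.image.fac q] at e1
            exact e1
          simpa [q] using this
      have h2 : f ≫ kernel.ι (Abelian.factorThruImage q) = 0 := by
        rw [← cancel_mono j', h1, zero_comp]
      rw [← cancel_mono (kernel.ι (Abelian.factorThruImage q)), h2, zero_comp]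
    have h1 : K (kernel (Abelian.factorThruImage q)) := h0 _ _ hk hKq
    have h2 : K (Abelian.image q) :=
      K_of_subobject_pw hG hGX' h0 n _ (Abelian.image.ι q) inferInstance hIq
    have hNX' : CohB1.support N ⊆ X' :=
      ((support_subset_of_mono j).trans (support_pw G (n + 1))).trans hGX'
    exact hyp.ext _ (shortExact_kernel (Abelian.factorThruImage q)) hKq hN hIq hNX' h1 h2

/-- the extension-only step: modules whose stalk at `y` is killed by the maximal ideal, given a torsion-free generator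
all of whose coherent subobjects are in the class -/
theorem K_of_killed {Z : Set X} (hZX' : Z ⊆ X') {y : X}
    (hIH : ∀ F : X.Modules, Coh.IsCoh F → CohB1.support F ⊆ Z → y ∉ CohB1.support F → K F)
    (G : X.Modules) (hG : Coh.IsCoh G) (hGZ : CohB1.support G ⊆ Z) (hG1 : RankOne G y) (hGtf : TorsionFreeAt G y)
    (h0 : ∀ (N : X.Modules) (j : N ⟶ G), Mono j → Coh.IsCoh N → K N)
    (F : X.Modules) (hF : Coh.IsCoh F) (hFZ : CohB1.support F ⊆ Z)
    (hkill : ∀ r ∈ IsLocalRing.maximalIdeal (Ox y), ∀ a : St (toPM F) y, r • a = 0) : K F := by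
  haveI : Module.Finite (Ox y) (St (toPM F) y) := finite_stalk_of_isCoh hF y
  obtain ⟨q, ⟨e⟩⟩ := exists_linearEquiv_pi_of_killed hkill
  cases q with
  | zero =>
    refine hIH F hF hFZ (not_mem_support_of_forall_eq_zero fun a => ?_)
    apply e.injective
    exact Subsingleton.elim _ _
  | succ n =>
    obtain ⟨eG⟩ := hG1.nonempty_linearEquiv_quotient
    obtain ⟨eP⟩ := stalk_pw eG n
    obtain ⟨H, u, v, hH, hu, hv, hHs, huv⟩ :=
      exists_correspondence' (pw G n) F (isCoh_pw hG n) hF y (eP ≪≫ₗ e.symm)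
    haveI : Mono v := mono_of_torsionFreeAt u v huv (hGtf.pw n) hv.1
    have hPn : Coh.IsCoh (pw G n) := isCoh_pw hG n
    have hPZ : CohB1.support (pw G n) ⊆ Z := (support_pw G n).trans hGZ
    have hHZ : CohB1.support H ⊆ Z := hHs.trans (Set.union_subset hPZ hFZ)
    -- `K H`
    have hinj : Function.Injective (sm (toPMMap (Abelian.factorThruImage u)) y) := by
      intro a b hab
      apply hu.1
      rw [← Abelian.image.fac u, sm_comp_apply, sm_comp_apply, hab]
    have hCu : Coh.IsCoh (cokernel u) := isCoh_cokernel hH hPn u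
    have hIu : Coh.IsCoh (Abelian.image u) := isCoh_kernel hPn hCu (cokernel.π u)
    have hKu : Coh.IsCoh (kernel (Abelian.factorThruImage u)) := isCoh_kernel hH hIu _
    have hKuZ : CohB1.support (kernel (Abelian.factorThruImage u)) ⊆ Z :=
      (support_subset_of_mono (kernel.ι (Abelian.factorThruImage u))).trans hHZ
    have h2 : K (kernel (Abelian.factorThruImage u)) := hIH _ hKu hKuZ (not_mem_support_kernel _ y hinj)
    have h3 : K (Abelian.image u) :=
      K_of_subobject_pw hyp hG (hGZ.trans hZX') h0 n _ (Abelian.image.ι u) inferInstance hIu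
    have h4 : K H :=
      hyp.ext _ (shortExact_kernel (Abelian.factorThruImage u)) hKu hH hIu (hHZ.trans hZX') h2 h3
    -- `K F`
    have hCv : Coh.IsCoh (cokernel v) := isCoh_cokernel hH hF v
    have hCvZ : CohB1.support (cokernel v) ⊆ Z := (support_subset_of_epi (cokernel.π v)).trans hFZ
    have h5 : K (cokernel v) := hIH _ hCv hCvZ (not_mem_support_cokernel v y hv.2)
    exact hyp.ext _ (shortExact_cokernel v) hH hF hCv (hFZ.trans hZX') h4 h5

end Ext

end Groth.Agent.Lib.Seat21.Dev
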