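import Mathlib
import Groth.Agent.Lib.Seat21SubShZorn

/-!
# Extension of finite type quasi-coherent subsheaves keeping a morphism injective (seat 21)

Namespace `Groth.Agent.Lib.Seat21.QSub`.

`H`, `M` quasi-coherent modules, `v : H ⟶ M`.  A subsheaf `N` of `H` is `InjOn v W` if `v` is injective on the sections
of `N` over the opens contained in `W`.

* `exists_pow_smul_inf_eq_bot` : Artin–Rees in the form `𝔞ⁿ M₀ ∩ K = 0` when `M₀ ∩ K` is killed by powers of the generators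
  of `𝔞`.
* `exists_step_inj` : one affine (Noetherian) step of the extension, keeping `InjOn`.
* `exists_subSh_inj_wellOrdered`, `exists_subSh_injOn` : on a locally Noetherian scheme, a subsheaf which is quasi-coherent
  of finite type on `U` and on which `v` is injective over `U` can be modified outside of `U` to a quasi-coherent finite
  type subsheaf on which `v` is injective.
-/

set_option autoImplicit false
set_option linter.style.haveILetI false
universe u v
open CategoryTheory Limits AlgebraicGeometry TopologicalSpace Opposite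

noncomputable section

namespace Groth.Agent.Lib.Seat21.QSub

open Groth.Agent.Lib.Helper2.Push Groth.Agent.Lib.Helper23.QCohLocal

/-- **Artin–Rees**: if the elements of `M₀ ∩ K` are killed by powers of each generator of `𝔞`, then `𝔞ⁿ M₀ ∩ K = 0` for
some `n`. -/
theorem exists_pow_smul_inf_eq_bot {R P : Type*} [CommRing R] [IsNoetherianRing R] [AddCommGroup P] [Module R P]
    (M₀ K : Submodule R P) (hM₀ : M₀.FG) (t : Finset R)
    (h : ∀ g ∈ t, ∀ ℓ ∈ M₀ ⊓ K, ∃ k : ℕ, g ^ k • ℓ = 0) :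
    ∃ n : ℕ, (Ideal.span (t : Set R)) ^ n • M₀ ⊓ K = ⊥ := by
  classical
  set 𝔞 : Ideal R := Ideal.span (t : Set R) with h𝔞
  haveI : Module.Finite R ↥M₀ := Module.Finite.iff_fg.2 hM₀
  haveI : IsNoetherian R ↥M₀ := isNoetherian_of_isNoetherianRing_of_finite R ↥M₀
  let L' : Submodule R ↥M₀ := K.comap M₀.subtype
  obtain ⟨c, hc⟩ := Ideal.exists_pow_inf_eq_pow_smul 𝔞 L'
  -- a power of `𝔞` kills `L'`
  have hL'fg : L'.FG := IsNoetherian.noetherian L'
  have hrad : 𝔞 ≤ (L'.annihilator).radical := by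
    rw [h𝔞, Ideal.span_le]
    intro g hg
    obtain ⟨S, hS⟩ := hL'fg
    have hk : ∀ s : ↥M₀, s ∈ S → ∃ k : ℕ, g ^ k • s = 0 := by
      intro s hs
      have hsL : s ∈ L' := hS ▸ Submodule.subset_span hs
      obtain ⟨k, hk⟩ := h g hg s.1 ⟨s.2, hsL⟩
      exact ⟨k, Subtype.ext hk⟩
    choose! k hk using hk
    refine ⟨S.sup k, ?_⟩
    rw [Submodule.mem_annihilator]
    intro ℓ hℓ
    rw [← hS] at hℓ
    induction hℓ using Submodule.span_induction with
    | mem x hx =>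
      obtain ⟨d, hd⟩ := Nat.exists_eq_add_of_le (Finset.le_sup (f := k) hx)
      rw [hd, add_comm, pow_add, mul_smul, hk x hx, smul_zero]
    | zero => exact smul_zero _
    | add x y _ _ hx hy => rw [smul_add, hx, hy, add_zero]
    | smul r x _ hx => rw [smul_comm, hx, smul_zero]
  obtain ⟨j, hj⟩ := Ideal.exists_pow_le_of_le_radical_of_fg hrad (IsNoetherian.noetherian 𝔞)
  refine ⟨c + j, ?_⟩
  rw [eq_bot_iff]
  rintro x ⟨hx1, hx2⟩
  have hmap : (𝔞 ^ (c + j) • (⊤ : Submodule R ↥M₀)).map M₀.subtype = 𝔞 ^ (c + j) • M₀ := by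
    rw [Submodule.map_smul'', Submodule.map_subtype_top]
  rw [← hmap] at hx1
  obtain ⟨x', hx', rfl⟩ := hx1
  have hx'L : x' ∈ L' := hx2
  have h1 : x' ∈ 𝔞 ^ (c + j) • (⊤ : Submodule R ↥M₀) ⊓ L' := ⟨hx', hx'L⟩
  rw [hc (c + j) (Nat.le_add_right c j), Nat.add_sub_cancel_left] at h1
  have h2 : 𝔞 ^ j • (𝔞 ^ c • (⊤ : Submodule R ↥M₀) ⊓ L') ≤ ⊥ := by
    rw [Submodule.smul_le]
    intro r hr n hn
    have := Submodule.mem_annihilator.1 (hj hr) n hn.2
    rw [this]
    exact Submodule.zero_mem _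
  have h3 : x' = 0 := (Submodule.mem_bot R).1 (h2 h1)
  rw [h3]
  exact Submodule.zero_mem _

variable {X : Scheme.{u}} {H M : X.Modules}

theorem app_res' (φ : H ⟶ M) {V V' : X.Opens} (h : V' ≤ V) (s : Γ(H, V)) :
    φ.app V' (res H h s) = res M h (φ.app V s) := by
  have := congr($(φ.mapPresheaf.naturality (homOfLE h).op) s)
  exact this

/-- the map on sections over `V` as a linear map -/
def appₗ (v : H ⟶ M) (V : X.Opens) : Γ(H, V) →ₗ[Γ(X, V)] Γ(M, V) where
  toFun s := v.app V s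
  map_add' a b := map_add _ a b
  map_smul' r s := Scheme.Modules.Hom.app_smul v r s

theorem appₗ_apply (v : H ⟶ M) (V : X.Opens) (s : Γ(H, V)) : appₗ v V s = v.app V s := rfl

theorem res_mem_spanRes_of_mem_span {V : X.Opens} (Q : Set Γ(H, V)) {T : X.Opens} (h : T ≤ V) {q : Γ(H, V)}
    (hq : q ∈ Submodule.span Γ(X, V) Q) : res H h q ∈ spanRes H Q T h := by
  induction hq using Submodule.span_induction with
  | mem x hx => exact res_mem_spanRes Q h hx
  | zero => rw [res_zero]; exact Submodule.zero_mem _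
  | add x y _ _ hx hy => rw [res_add]; exact Submodule.add_mem _ hx hy
  | smul r x _ hx => rw [res_smul]; exact Submodule.smul_mem _ _ hx

theorem spanRes_self {V : X.Opens} (Q : Set Γ(H, V)) : spanRes H Q V le_rfl = Submodule.span Γ(X, V) Q := by
  unfold spanRes
  congr 1
  ext s
  constructor
  · rintro ⟨q, hq, rfl⟩
    rwa [res_self]
  · intro hs
    exact ⟨s, hs, res_self H s⟩

namespace SubSh

/-- `v` is injective on the sections of `N` over the opens contained in `W` -/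
def InjOn (N : SubSh H) (v : H ⟶ M) (W : X.Opens) : Prop :=
  ∀ T : X.Opens, T ≤ W → ∀ s : Γ(H, T), s ∈ N.carrier T → v.app T s = 0 → s = 0

variable {N : SubSh H} {v : H ⟶ M}

theorem InjOn.mono {W W' : X.Opens} (h : N.InjOn v W) (hle : W' ≤ W) : N.InjOn v W' :=
  fun T hT => h T (hT.trans hle)

theorem InjOn.of_agreeOn {N' : SubSh H} {W : X.Opens} (h : N.InjOn v W) (ha : AgreeOn N N' W) : N'.InjOn v W :=
  fun T hT s hs hv => h T hT s (by rw [ha T hT]; exact hs) hv

theorem InjOn.iSup {ι : Type*} (W : ι → X.Opens) (h : ∀ i, N.InjOn v (W i)) : N.InjOn v (⨆ i, W i) := by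
  intro T hT s hs hv
  apply eq_of_locally_eq H s 0
  intro x hx
  obtain ⟨i, hi⟩ := Opens.mem_iSup.1 (hT hx)
  refine ⟨T ⊓ W i, inf_le_left, ⟨hx, hi⟩, ?_⟩
  rw [res_zero]
  apply h i (T ⊓ W i) inf_le_right _ (N.res_mem _ hs)
  rw [app_res', hv, res_zero]

theorem InjOn.sup {W W' : X.Opens} (h : N.InjOn v W) (h' : N.InjOn v W') : N.InjOn v (W ⊔ W') := by
  intro T hT s hs hv
  apply eq_of_locally_eq H s 0
  intro x hx
  rcases hT hx with hxW | hxW'
  · refine ⟨T ⊓ W, inf_le_left, ⟨hx, hxW⟩, ?_⟩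
    rw [res_zero]
    apply h (T ⊓ W) inf_le_right _ (N.res_mem _ hs)
    rw [app_res', hv, res_zero]
  · refine ⟨T ⊓ W', inf_le_left, ⟨hx, hxW'⟩, ?_⟩
    rw [res_zero]
    apply h' (T ⊓ W') inf_le_right _ (N.res_mem _ hs)
    rw [app_res', hv, res_zero]

end SubSh

/-- generators over `V` of a subsheaf which is quasi-coherent of finite type on `W`, `V ∩ W` being covered by finitely
many basic opens -/
theorem exists_gens [H.IsQuasicoherent] (N : SubSh H) (W V : X.Opens) (hV : IsAffineOpen V)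
    (t : Finset Γ(X, V)) (ht1 : ∀ g ∈ t, X.basicOpen g ≤ W)
    (ht2 : ∀ x : X, x ∈ V → x ∈ W → ∃ g ∈ t, x ∈ X.basicOpen g)
    (hq : N.QCOn W) (hf : N.FTOn W) :
    ∃ Q' : Set Γ(H, V), Q'.Finite ∧ (∀ q ∈ Q', res H (inf_le_left : V ⊓ W ≤ V) q ∈ N.carrier (V ⊓ W)) ∧
      ∀ g ∈ t, N.carrier (X.basicOpen g) ≤ spanRes H Q' (X.basicOpen g) (X.basicOpen_le g) := by
  classical
  have hgen : ∀ g : t, ∃ S : Set Γ(H, X.basicOpen g.1), S.Finite ∧
      Submodule.span Γ(X, X.basicOpen g.1) S = N.carrier (X.basicOpen g.1) := fun g =>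
    Submodule.fg_def.1 (hf _ (hV.basicOpen g.1) (ht1 g.1 g.2))
  choose S hSfin hSspan using hgen
  have hlift : ∀ (g : t) (s : S g), ∃ (p : Γ(H, V)) (n : ℕ),
      res H (inf_le_left : V ⊓ W ≤ V) p ∈ N.carrier (V ⊓ W) ∧
      res H (X.basicOpen_le g.1) p = (resf X (X.basicOpen_le g.1) g.1) ^ n • s.1 := fun g s =>
    exists_lift_mem N hV hq t ht1 ht2 g.1 s.1 (by rw [← hSspan g]; exact Submodule.subset_span s.2)
  choose p n hp1 hp2 using hlift
  have : ∀ g : t, Finite (S g) := fun g => (hSfin g).to_subtype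
  let Q' : Set Γ(H, V) := Set.range (fun gs : (Σ g : t, S g) => p gs.1 gs.2)
  refine ⟨Q', Set.finite_range _, ?_, ?_⟩
  · rintro _ ⟨gs, rfl⟩
    exact hp1 gs.1 gs.2
  · intro g hg
    rw [← hSspan ⟨g, hg⟩, Submodule.span_le]
    intro s hs
    have h1 : res H (X.basicOpen_le g) (p ⟨g, hg⟩ ⟨s, hs⟩) ∈ spanRes H Q' (X.basicOpen g) (X.basicOpen_le g) :=
      res_mem_spanRes Q' _ ⟨⟨⟨g, hg⟩, ⟨s, hs⟩⟩, rfl⟩
    rw [hp2 ⟨g, hg⟩ ⟨s, hs⟩] at h1
    exact mem_of_isUnit_pow_smul_mem _ (isUnit_resf_basicOpen g) _ h1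

/-- glueing `N` on `W` with the subsheaf generated on `V` by suitable generators -/
theorem exists_step_of_gens [H.IsQuasicoherent] (N : SubSh H) (W V : X.Opens) (hV : IsAffineOpen V)
    (t : Finset Γ(X, V)) (ht1 : ∀ g ∈ t, X.basicOpen g ≤ W)
    (ht2 : ∀ x : X, x ∈ V → x ∈ W → ∃ g ∈ t, x ∈ X.basicOpen g)
    (hq : N.QCOn W) (hf : N.FTOn W) (Q' : Set Γ(H, V)) (hQ'fin : Q'.Finite)
    (hQ'a : ∀ q ∈ Q', res H (inf_le_left : V ⊓ W ≤ V) q ∈ N.carrier (V ⊓ W))
    (hQ'b : ∀ g ∈ t, N.carrier (X.basicOpen g) ≤ spanRes H Q' (X.basicOpen g) (X.basicOpen_le g)) :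
    ∃ N' : SubSh H, SubSh.AgreeOn N' N W ∧ SubSh.AgreeOn N' (gen H V Q') V ∧ N'.QCOn (W ⊔ V) ∧
      N'.FTOn (W ⊔ V) := by
  classical
  -- agreement on the intersection
  have hagree : SubSh.AgreeOn N (gen H V Q') (W ⊓ V) := by
    intro T hT
    have hTV : T ≤ V := hT.trans inf_le_right
    have hTW : T ≤ W := hT.trans inf_le_left
    apply le_antisymm
    · intro s hs x hxT hxV
      obtain ⟨g, hg, hxg⟩ := ht2 x hxV (hTW hxT)
      have hD : IsAffineOpen (X.basicOpen g) := hV.basicOpen g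
      obtain ⟨a, ha1, ha2⟩ := hD.exists_basicOpen_le (V := T) ⟨x, hxT⟩ hxg
      refine ⟨X.basicOpen a, ha1, (X.basicOpen_le a).trans (X.basicOpen_le g), ha2, ?_⟩
      obtain ⟨k, y, hy, e⟩ := (hq _ hD (ht1 g hg)) a (res H ha1 s) (N.res_mem ha1 hs)
      have hy' := hQ'b g hg hy
      have := spanRes_res Q' (X.basicOpen_le g) (X.basicOpen_le a) hy'
      rw [e] at this
      exact mem_of_isUnit_pow_smul_mem _ (isUnit_resf_basicOpen a) _ this
    · intro s hs
      apply N.local_mem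
      intro x hxT
      obtain ⟨T', h1, h2, hxT', hm⟩ := hs x hxT (hTV hxT)
      refine ⟨T', h1, hxT', ?_⟩
      have hle : T' ≤ V ⊓ W := le_inf h2 (h1.trans hTW)
      exact spanRes_le_carrier Q' N inf_le_left hQ'a hle hm
  -- glueing
  let Wb : Bool → X.Opens := fun b => cond b W V
  let Mb : Bool → SubSh H := fun b => cond b N (gen H V Q')
  have hcomp : ∀ i j, SubSh.AgreeOn (Mb i) (Mb j) (Wb i ⊓ Wb j) := by
    intro i j
    cases i <;> cases j
    · exact SubSh.AgreeOn.refl _ _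
    · exact (hagree.mono (le_of_eq (inf_comm _ _))).symm
    · exact hagree
    · exact SubSh.AgreeOn.refl _ _
  let N' : SubSh H := SubSh.iInf fun j => (Mb j).sat (Wb j)
  have hN'W : SubSh.AgreeOn N' N W := SubSh.agreeOn_iInf_sat Wb Mb hcomp true
  have hN'V : SubSh.AgreeOn N' (gen H V Q') V := SubSh.agreeOn_iInf_sat Wb Mb hcomp false
  have hqW : N'.QCOn W := hq.of_agreeOn hN'W.symm
  have hqV : N'.QCOn V := (qcOn_gen Q').of_agreeOn hN'V.symm
  refine ⟨N', hN'W, hN'V, hqW.sup hqV, SubSh.FTOn.sup hqW hqV (hf.of_agreeOn hN'W.symm) ?_⟩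
  exact (ftOn_gen Q' hQ'fin).of_agreeOn hN'V.symm

/-- **One step of the extension, keeping injectivity**: `V` affine with Noetherian ring of sections. -/
theorem exists_step_inj [H.IsQuasicoherent] [M.IsQuasicoherent] (v : H ⟶ M) (N : SubSh H) (W V : X.Opens)
    (hV : IsAffineOpen V) [IsNoetherianRing Γ(X, V)]
    (hVW : IsCompact ((V : Set X) ∩ (W : Set X))) (hq : N.QCOn W) (hf : N.FTOn W) (hinj : N.InjOn v W) :
    ∃ N' : SubSh H, SubSh.AgreeOn N' N W ∧ N'.QCOn (W ⊔ V) ∧ N'.FTOn (W ⊔ V) ∧ N'.InjOn v (W ⊔ V) := by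
  classical
  obtain ⟨t, ht1, ht2⟩ := exists_finite_basicOpen_cover hV W hVW
  obtain ⟨Q', hQ'fin, hQ'a, hQ'b⟩ := exists_gens N W V hV t ht1 ht2 hq hf
  have hHV : IsLocOn H V := IsLocOn.of_isQuasicoherent hV H
  have hMV : IsLocOn M V := IsLocOn.of_isQuasicoherent hV M
  let M₀ : Submodule Γ(X, V) Γ(H, V) := Submodule.span Γ(X, V) Q'
  let Kv : Submodule Γ(X, V) Γ(H, V) := LinearMap.ker (appₗ v V)
  have hM₀a : ∀ q ∈ M₀, res H (inf_le_left : V ⊓ W ≤ V) q ∈ N.carrier (V ⊓ W) := by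
    intro q hq'
    induction hq' using Submodule.span_induction with
    | mem x hx => exact hQ'a x hx
    | zero => rw [res_zero]; exact Submodule.zero_mem _
    | add x y _ _ hx hy => rw [res_add]; exact Submodule.add_mem _ hx hy
    | smul r x _ hx => rw [res_smul]; exact Submodule.smul_mem _ _ hx
  have hkill : ∀ g ∈ t, ∀ ℓ ∈ M₀ ⊓ Kv, ∃ k : ℕ, g ^ k • ℓ = 0 := by
    intro g hg ℓ hℓ
    have hle : X.basicOpen g ≤ V ⊓ W := le_inf (X.basicOpen_le g) (ht1 g hg)
    have h1 : res H (X.basicOpen_le g) ℓ ∈ N.carrier (X.basicOpen g) := by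
      have := N.res_mem hle (hM₀a ℓ hℓ.1)
      rwa [res_res] at this
    have h2 : v.app (X.basicOpen g) (res H (X.basicOpen_le g) ℓ) = 0 := by
      rw [app_res']
      have : v.app V ℓ = 0 := hℓ.2
      rw [this, res_zero]
    have h0 := hinj _ (ht1 g hg) _ h1 h2
    exact isLocOn_unique hHV g _ rfl (X.basicOpen_le g) ℓ h0
  obtain ⟨n, hn⟩ := exists_pow_smul_inf_eq_bot M₀ Kv (Submodule.fg_span hQ'fin) t hkill
  set 𝔞 : Ideal Γ(X, V) := Ideal.span (t : Set Γ(X, V)) with h𝔞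
  let M₁ : Submodule Γ(X, V) Γ(H, V) := 𝔞 ^ n • M₀
  have hM₁fg : M₁.FG := Submodule.FG.smul (IsNoetherian.noetherian _) (Submodule.fg_span hQ'fin)
  obtain ⟨S, hS⟩ := hM₁fg
  let Q'' : Set Γ(H, V) := ↑S
  have hQ''span : Submodule.span Γ(X, V) Q'' = M₁ := hS
  have hM₁le : M₁ ≤ M₀ := Submodule.smul_le_right
  have hQ''a : ∀ q ∈ Q'', res H (inf_le_left : V ⊓ W ≤ V) q ∈ N.carrier (V ⊓ W) := fun q hq' =>
    hM₀a q (hM₁le (hQ''span ▸ Submodule.subset_span hq'))
  have hQ''b : ∀ g ∈ t, N.carrier (X.basicOpen g) ≤ spanRes H Q'' (X.basicOpen g) (X.basicOpen_le g) := by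
    intro g hg
    refine (hQ'b g hg).trans ?_
    unfold spanRes
    rw [Submodule.span_le]
    rintro _ ⟨q, hq', rfl⟩
    have h1 : g ^ n • q ∈ M₁ :=
      Submodule.smul_mem_smul (Ideal.pow_mem_pow (Ideal.subset_span (Finset.mem_coe.2 hg)) n)
        (Submodule.subset_span hq')
    rw [← hQ''span] at h1
    have h2 := res_mem_spanRes_of_mem_span Q'' (X.basicOpen_le g) h1
    rw [res_smul, resf_pow] at h2
    exact mem_of_isUnit_pow_smul_mem _ (isUnit_resf_basicOpen g) _ h2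
  obtain ⟨N', hN'W, hN'V, hqN', hfN'⟩ :=
    exists_step_of_gens N W V hV t ht1 ht2 hq hf Q'' S.finite_toSet hQ''a hQ''b
  refine ⟨N', hN'W, hqN', hfN', ?_⟩
  have hinjV : (gen H V Q'').InjOn v V := by
    intro T hT s hs hvs
    apply eq_of_locally_eq H s 0
    intro x hxT
    obtain ⟨T', h1, h2, hxT', hm⟩ := hs x hxT (hT hxT)
    obtain ⟨a, ha1, ha2⟩ := hV.exists_basicOpen_le (V := T') ⟨x, hxT'⟩ (hT hxT)
    refine ⟨X.basicOpen a, ha1.trans h1, ha2, ?_⟩
    rw [res_zero]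
    have hu : res H (ha1.trans h1) s ∈ spanRes H Q'' (X.basicOpen a) ((X.basicOpen_le a).trans le_rfl) := by
      have := spanRes_res Q'' h2 ha1 hm
      rwa [res_res] at this
    obtain ⟨k, y, hy, e⟩ := spanRes_basicOpen_exists Q'' hV le_rfl a _ hu
    have hyM₁ : y ∈ M₁ := by
      rw [spanRes_self, hQ''span] at hy
      exact hy
    have hvu : v.app (X.basicOpen a) (res H (ha1.trans h1) s) = 0 := by
      rw [app_res', hvs, res_zero]
    have hvy : res M (X.basicOpen_le a) (v.app V y) = 0 := by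
      rw [← app_res', e, Scheme.Modules.Hom.app_smul, hvu, smul_zero]
    obtain ⟨m, hm'⟩ := isLocOn_unique hMV a _ rfl (X.basicOpen_le a) _ hvy
    have h3 : a ^ m • y ∈ M₁ ⊓ Kv := by
      refine ⟨Submodule.smul_mem _ _ hyM₁, ?_⟩
      show v.app V (a ^ m • y) = 0
      rw [Scheme.Modules.Hom.app_smul, hm']
    rw [hn] at h3
    have h4 : a ^ m • y = 0 := (Submodule.mem_bot _).1 h3
    have h5 : (resf X (X.basicOpen_le a) a) ^ m • res H (X.basicOpen_le a) y = 0 := by
      rw [← resf_pow, ← res_smul, h4, res_zero]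
    have h6 : res H (X.basicOpen_le a) y = 0 :=
      (IsUnit.smul_eq_zero ((isUnit_resf_basicOpen a).pow m)).1 h5
    rw [h6] at e
    exact (IsUnit.smul_eq_zero ((isUnit_resf_basicOpen a).pow k)).1 e.symm
  exact (hinj.of_agreeOn hN'W.symm).sup (hinjV.of_agreeOn hN'V.symm)

variable {L : Type v}

/-- a stage of the transfinite construction, with the injectivity invariant -/
structure StageI (H : X.Modules) {M : X.Modules} (v : H ⟶ M) (V : L → X.Opens) (U : X.Opens) (N₀ : SubSh H)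
    [LE L] where
  /-- the set of indices already treated -/
  I : Set L
  lower : ∀ m l : L, l ∈ I → m ≤ l → m ∈ I
  /-- the subsheaf -/
  N : SubSh H
  agree : SubSh.AgreeOn N N₀ U
  qc : N.QCOn (WI V U I)
  ft : N.FTOn (WI V U I)
  inj : N.InjOn v (WI V U I)

instance (v : H ⟶ M) (V : L → X.Opens) (U : X.Opens) (N₀ : SubSh H) [LE L] : Preorder (StageI H v V U N₀) where
  le s s' := s.I ⊆ s'.I ∧ SubSh.AgreeOn s'.N s.N (WI V U s.I)
  le_refl s := ⟨subset_rfl, SubSh.AgreeOn.refl _ _⟩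
  le_trans s s' s'' h h' := ⟨h.1.trans h'.1, (h'.2.mono (WI_mono V U h.1)).trans h.2⟩

/-- **Extension of subsheaves along a well-ordered affine cover, keeping injectivity.** -/
theorem exists_subSh_inj_wellOrdered [LinearOrder L] [WellFoundedLT L] [H.IsQuasicoherent] [M.IsQuasicoherent]
    (v : H ⟶ M) (V : L → X.Opens) (hV : ∀ l, IsAffineOpen (V l)) (hVn : ∀ l, IsNoetherianRing Γ(X, V l))
    (hcov : ⨆ l, V l = ⊤)
    (hW : ∀ l, IsCompact ((V l : Set X) ∩ ⋃ m ∈ Set.Iio l, (V m : Set X)))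
    (U : X.Opens) (hU : ∀ l, IsCompact ((V l : Set X) ∩ (U : Set X)))
    (N₀ : SubSh H) (hq : N₀.QCOn U) (hf : N₀.FTOn U) (hinj : N₀.InjOn v U) :
    ∃ N : SubSh H, SubSh.AgreeOn N N₀ U ∧ N.QCOn ⊤ ∧ N.FTOn ⊤ ∧ N.InjOn v ⊤ := by
  classical
  have hWempty : WI V U (∅ : Set L) ≤ U := by
    rw [WI_le_iff]
    exact ⟨le_rfl, fun m hm => (Set.notMem_empty m hm).elim⟩
  have hne : Nonempty (StageI H v V U N₀) :=
    ⟨⟨∅, fun m l hl _ => (Set.notMem_empty l hl).elim, N₀, SubSh.AgreeOn.refl _ _, hq.mono hWempty,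
      hf.mono hWempty, hinj.mono hWempty⟩⟩
  have hchain : ∀ c : Set (StageI H v V U N₀), IsChain (· ≤ ·) c → c.Nonempty → BddAbove c := by
    intro c hc hcne
    obtain ⟨s0, hs0⟩ := hcne
    let Wc : c → X.Opens := fun s => WI V U s.1.I
    let Mc : c → SubSh H := fun s => s.1.N
    have hcomp : ∀ s s' : c, SubSh.AgreeOn (Mc s) (Mc s') (Wc s ⊓ Wc s') := by
      intro s s'
      rcases hc.total s.2 s'.2 with h | h
      · exact (h.2.mono inf_le_left).symm
      · exact h.2.mono inf_le_right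
    let N' : SubSh H := SubSh.iInf fun s : c => (Mc s).sat (Wc s)
    have hag : ∀ s : c, SubSh.AgreeOn N' s.1.N (WI V U s.1.I) := fun s =>
      SubSh.agreeOn_iInf_sat Wc Mc hcomp s
    let I' : Set L := ⋃ s ∈ c, StageI.I s
    have hWle : WI V U I' ≤ ⨆ s : c, Wc s := by
      rw [WI_le_iff]
      refine ⟨(le_WI V U s0.I).trans (le_iSup Wc ⟨s0, hs0⟩), fun m hm => ?_⟩
      obtain ⟨s, hs, hms⟩ := Set.mem_iUnion₂.1 hm
      exact (le_WI_of_mem V U hms).trans (le_iSup Wc ⟨s, hs⟩)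
    have hqc : ∀ s : c, N'.QCOn (Wc s) := fun s => s.1.qc.of_agreeOn (hag s).symm
    refine ⟨⟨I', ?_, N', ((hag ⟨s0, hs0⟩).mono (le_WI V U s0.I)).trans s0.agree,
      (SubSh.QCOn.iSup Wc hqc).mono hWle,
      (SubSh.FTOn.iSup Wc hqc (fun s => s.1.ft.of_agreeOn (hag s).symm)).mono hWle,
      (SubSh.InjOn.iSup Wc (fun s => s.1.inj.of_agreeOn (hag s).symm)).mono hWle⟩, ?_⟩
    · intro m l hl hml
      obtain ⟨s, hs, hls⟩ := Set.mem_iUnion₂.1 hl
      exact Set.mem_iUnion₂.2 ⟨s, hs, s.lower m l hls hml⟩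
    · intro s hs
      exact ⟨Set.subset_biUnion_of_mem (u := StageI.I) hs, hag ⟨s, hs⟩⟩
  obtain ⟨s, hs⟩ := zorn_le_nonempty hchain
  by_cases hI : s.I = Set.univ
  · have htop : (⊤ : X.Opens) ≤ WI V U s.I := by
      rw [← hcov, iSup_le_iff]
      intro l
      exact le_WI_of_mem V U (by rw [hI]; exact Set.mem_univ l)
    exact ⟨s.N, s.agree, s.qc.mono htop, s.ft.mono htop, s.inj.mono htop⟩
  · exfalso
    have hcne : (s.Iᶜ).Nonempty := Set.nonempty_compl.2 hI
    let l := WellFounded.min (wellFounded_lt (α := L)) _ hcne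
    have hl : l ∉ s.I := WellFounded.min_mem (wellFounded_lt (α := L)) _ hcne
    have hlt : ∀ m, m < l → m ∈ s.I := fun m hm => by
      by_contra h
      exact WellFounded.not_lt_min (wellFounded_lt (α := L)) _ (show m ∈ s.Iᶜ from h) hm
    have hIlt : ∀ m, m ∈ s.I → m < l := fun m hm => by
      by_contra h
      exact hl (s.lower l m hm (not_lt.1 h))
    have hcpt : IsCompact ((V l : Set X) ∩ (WI V U s.I : Set X)) := by
      have : (V l : Set X) ∩ (WI V U s.I : Set X) =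
          ((V l : Set X) ∩ (U : Set X)) ∪ ((V l : Set X) ∩ ⋃ m ∈ Set.Iio l, (V m : Set X)) := by
        ext x
        constructor
        · rintro ⟨hxl, hx⟩
          rcases hx with hx | hx
          · exact Or.inl ⟨hxl, hx⟩
          · obtain ⟨m, hm⟩ := Opens.mem_iSup.1 hx
            exact Or.inr ⟨hxl, Set.mem_iUnion₂.2 ⟨m.1, hIlt m.1 m.2, hm⟩⟩
        · rintro (⟨hxl, hx⟩ | ⟨hxl, hx⟩)
          · exact ⟨hxl, le_WI V U s.I hx⟩
          · obtain ⟨m, hm, hxm⟩ := Set.mem_iUnion₂.1 hx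
            exact ⟨hxl, le_WI_of_mem V U (hlt m hm) hxm⟩
      rw [this]
      exact (hU l).union (hW l)
    haveI := hVn l
    obtain ⟨N', ha, hq', hf', hi'⟩ := exists_step_inj v s.N (WI V U s.I) (V l) (hV l) hcpt s.qc s.ft s.inj
    have hle' : WI V U (insert l s.I) ≤ WI V U s.I ⊔ V l := by
      rw [WI_le_iff]
      refine ⟨le_sup_of_le_left (le_WI V U s.I), fun m hm => ?_⟩
      rcases Set.mem_insert_iff.1 hm with rfl | hm
      · exact le_sup_right
      · exact le_sup_of_le_left (le_WI_of_mem V U hm)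
    let s' : StageI H v V U N₀ :=
      ⟨insert l s.I, fun m k hk hmk => by
          rcases Set.mem_insert_iff.1 hk with rfl | hk
          · rcases hmk.lt_or_eq with h | h
            · exact Set.mem_insert_of_mem _ (hlt m h)
            · exact h ▸ Set.mem_insert _ _
          · exact Set.mem_insert_of_mem _ (s.lower m k hk hmk),
        N', (ha.mono (le_WI V U s.I)).trans s.agree, hq'.mono hle', hf'.mono hle', hi'.mono hle'⟩
    have hle : s ≤ s' := ⟨Set.subset_insert _ _, ha⟩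
    exact hl ((hs hle).1 (Set.mem_insert _ _))

/-- **Locally Noetherian schemes**: a subsheaf of `H`, quasi-coherent of finite type on `U` and on which `v` is injective
over `U`, can be modified outside of `U` to a quasi-coherent finite type subsheaf on which `v` is injective. -/
theorem exists_subSh_injOn [IsLocallyNoetherian X] [H.IsQuasicoherent] [M.IsQuasicoherent] (v : H ⟶ M)
    (U : X.Opens) (N₀ : SubSh H) (hq : N₀.QCOn U) (hf : N₀.FTOn U) (hinj : N₀.InjOn v U) :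
    ∃ N : SubSh H, SubSh.AgreeOn N N₀ U ∧ N.QCOn ⊤ ∧ N.FTOn ⊤ ∧ N.InjOn v ⊤ := by
  classical
  obtain ⟨_, hwf⟩ := exists_wellFoundedLT X.affineOpens
  haveI := hwf
  have hVn : ∀ l : X.affineOpens, IsNoetherianRing Γ(X, (l : X.Opens)) := fun l =>
    IsLocallyNoetherian.component_noetherian l
  have hcpt : ∀ (l : X.affineOpens) (S : Set X), IsCompact (((l : X.Opens) : Set X) ∩ S) := by
    intro l S
    haveI := hVn l
    haveI : NoetherianSpace ↥(l : X.Opens) := noetherianSpace_of_isAffineOpen l.1 l.2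
    exact (noetherianSpace_set_iff _).1 (this) _ Set.inter_subset_left
  exact exists_subSh_inj_wellOrdered v (fun l : X.affineOpens => (l : X.Opens)) (fun l => l.2) hVn
    (iSup_affineOpens_eq_top X) (fun l => hcpt l _) U (fun l => hcpt l _) N₀ hq hf hinj

end Groth.Agent.Lib.Seat21.QSub
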