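import Mathlib
import Groth.Agent.Lib.Seat21SubShInj
import Groth.Agent.Lib.Seat96ModSec

/-!
# The graph of a morphism defined on an open, as a subsheaf of `F ⊞ G` (seat 21)

Namespace `Groth.Agent.Lib.Seat21.ExtHom`.

`U` an open of `X`, `φ : F|_U ⟶ G|_U`.

* `φT U φ hT : Γ(F, T) → Γ(G, T)` for `T ≤ U`, with `φT_res`, `φT_smul`, `φT_add`.
* `graph U φ : SubSh (F ⊞ G)` : sections whose restriction to `U` lies in the graph of `φ`;
  `mem_graph_iff_of_le`, `mem_graph_image_iff`, `qcOn_graph`, `ftOn_graph`, `injOn_graph`.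
* `exists_extension` : on a locally Noetherian scheme, `F`, `G` quasi-coherent, `F` of finite type on `U`: there is a
  subsheaf `N` of `F ⊞ G`, quasi-coherent of finite type, agreeing with the graph on `U`, on which `fst` is injective.
-/

set_option autoImplicit false
set_option linter.style.haveILetI false
universe u
open CategoryTheory Limits AlgebraicGeometry TopologicalSpace Opposite

noncomputable section
namespace Groth.Agent.Lib.Seat21.ExtHom
open Groth.Agent.Lib.Seat21.QSub Groth.Agent.Lib.Seat96.ModSec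
open Groth.Agent.Lib.Helper2.Push Groth.Agent.Lib.Helper23.QCohLocal

variable {X : Scheme.{u}} (U : X.Opens) {F G : X.Modules}
  (φ : (Scheme.Modules.restrictFunctor U.ι).obj F ⟶ (Scheme.Modules.restrictFunctor U.ι).obj G)

/-- `φ` on sections, in terms of sections of `F` and `G` -/
def φs (T' : U.toScheme.Opens) : Γ(F, U.ι ''ᵁ T') →+ Γ(G, U.ι ''ᵁ T') := (φ.app T').hom

theorem φs_res {T' T₂' : U.toScheme.Opens} (h : T₂' ≤ T') (x : Γ(F, U.ι ''ᵁ T')) :
    φs U φ T₂' (res F (Scheme.Hom.image_mono U.ι h) x) = res G (Scheme.Hom.image_mono U.ι h) (φs U φ T' x) := by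
  have := congr($(φ.mapPresheaf.naturality (homOfLE h).op) x)
  exact this

theorem φs_smul (T' : U.toScheme.Opens) (a : Γ(X, U.ι ''ᵁ T')) (x : Γ(F, U.ι ''ᵁ T')) :
    φs U φ T' (a • x) = a • φs U φ T' x := by
  let x' : Γ((Scheme.Modules.restrictFunctor U.ι).obj F, T') := x
  have h := Scheme.Modules.Hom.app_smul φ ((U.ι.appIso T').hom a) x'
  have e : (U.ι.appIso T').inv ((U.ι.appIso T').hom a) = a := Iso.hom_inv_id_apply _ _
  have h1 : ((U.ι.appIso T').hom a) • x' =
      ((U.ι.appIso T').inv ((U.ι.appIso T').hom a) • x : Γ(F, U.ι ''ᵁ T')) := rfl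
  let y' : Γ((Scheme.Modules.restrictFunctor U.ι).obj G, T') := φ.app T' x'
  have h2 : ((U.ι.appIso T').hom a) • y' =
      ((U.ι.appIso T').inv ((U.ι.appIso T').hom a) • (φs U φ T' x) : Γ(G, U.ι ''ᵁ T')) := rfl
  rw [e] at h1 h2
  show φ.app T' (a • x) = _
  rw [← h1, h, ← h2]

/-- the open `U ∩ T`, as the image of the preimage -/
abbrev im (T : X.Opens) : X.Opens := U.ι ''ᵁ (U.ι ⁻¹ᵁ T)

theorem im_eq (T : X.Opens) : im U T = U ⊓ T := by
  unfold im
  rw [Scheme.Hom.image_preimage_eq_opensRange_inf, Scheme.Opens.opensRange_ι]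

theorem im_le (T : X.Opens) : im U T ≤ T := by
  rw [im_eq]; exact inf_le_right

theorem im_le_U (T : X.Opens) : im U T ≤ U := by
  rw [im_eq]; exact inf_le_left

theorem im_mono {T₂ T : X.Opens} (h : T₂ ≤ T) : im U T₂ ≤ im U T :=
  Scheme.Hom.image_mono U.ι (Scheme.Hom.preimage_mono U.ι h)

theorem le_im {T : X.Opens} (h : T ≤ U) : T ≤ im U T := by
  rw [im_eq]; exact le_inf h le_rfl

theorem mem_im_iff (T : X.Opens) (x : X) : x ∈ im U T ↔ x ∈ U ∧ x ∈ T := by
  rw [im_eq]; rfl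

/-- `φ` on the sections over an open contained in `U` -/
def φT {T : X.Opens} (hT : T ≤ U) (a : Γ(F, T)) : Γ(G, T) :=
  res G (le_im U hT) (φs U φ (U.ι ⁻¹ᵁ T) (res F (im_le U T) a))

theorem φT_add {T : X.Opens} (hT : T ≤ U) (a b : Γ(F, T)) : φT U φ hT (a + b) = φT U φ hT a + φT U φ hT b := by
  unfold φT
  rw [res_add, map_add, res_add]

theorem φT_zero {T : X.Opens} (hT : T ≤ U) : φT U φ hT (0 : Γ(F, T)) = 0 := by
  unfold φT
  rw [res_zero, map_zero, res_zero]

theorem φT_smul {T : X.Opens} (hT : T ≤ U) (r : Γ(X, T)) (a : Γ(F, T)) :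
    φT U φ hT (r • a) = r • φT U φ hT a := by
  unfold φT
  rw [res_smul, φs_smul, res_smul, resf_resf, resf_self]

theorem φT_res {T T₂ : X.Opens} (hT : T ≤ U) (h : T₂ ≤ T) (a : Γ(F, T)) :
    φT U φ (h.trans hT) (res F h a) = res G h (φT U φ hT a) := by
  unfold φT
  have e1 : res F (im_le U T₂) (res F h a) = res F (im_mono U h) (res F (im_le U T) a) := by
    rw [res_res, res_res]
  rw [e1]
  have e2 := φs_res U φ (Scheme.Hom.preimage_mono U.ι h) (res F (im_le U T) a)
  rw [e2, res_res, res_res]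

/-- the graph condition on `T`, for `T ≤ U` -/
theorem φs_eq_iff {T : X.Opens} (hT : T ≤ U) (a : Γ(F, T)) (b : Γ(G, T)) :
    φs U φ (U.ι ⁻¹ᵁ T) (res F (im_le U T) a) = res G (im_le U T) b ↔ φT U φ hT a = b := by
  unfold φT
  constructor
  · intro h
    rw [h, res_res, res_self]
  · intro h
    rw [← h, res_res, res_self]

variable (F G) in
/-- the first projection on sections -/
abbrev p₁ (T : X.Opens) (s : Γ((F ⊞ G : X.Modules), T)) : Γ(F, T) := (biprod.fst : F ⊞ G ⟶ F).app T s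

variable (F G) in
/-- the second projection on sections -/
abbrev p₂ (T : X.Opens) (s : Γ((F ⊞ G : X.Modules), T)) : Γ(G, T) := (biprod.snd : F ⊞ G ⟶ G).app T s

theorem p₁_res {T T₂ : X.Opens} (h : T₂ ≤ T) (s : Γ((F ⊞ G : X.Modules), T)) :
    p₁ F G T₂ (res (F ⊞ G) h s) = res F h (p₁ F G T s) := app_res' _ h s

theorem p₂_res {T T₂ : X.Opens} (h : T₂ ≤ T) (s : Γ((F ⊞ G : X.Modules), T)) :
    p₂ F G T₂ (res (F ⊞ G) h s) = res G h (p₂ F G T s) := app_res' _ h s

/-- the pair `(a, b)` as a section of `F ⊞ G` -/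
def pair (T : X.Opens) (a : Γ(F, T)) (b : Γ(G, T)) : Γ((F ⊞ G : X.Modules), T) :=
  (biprod.inl : F ⟶ F ⊞ G).app T a + (biprod.inr : G ⟶ F ⊞ G).app T b

theorem p₁_pair (T : X.Opens) (a : Γ(F, T)) (b : Γ(G, T)) : p₁ F G T (pair T a b) = a := by
  unfold pair p₁
  rw [map_add, ← comp_app_apply, ← comp_app_apply, app_congr (biprod.inl_fst (X := F) (Y := G)),
    app_congr (biprod.inr_fst (X := F) (Y := G)), id_app_apply, zero_app_apply, add_zero]

theorem p₂_pair (T : X.Opens) (a : Γ(F, T)) (b : Γ(G, T)) : p₂ F G T (pair T a b) = b := by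
  unfold pair p₂
  rw [map_add, ← comp_app_apply, ← comp_app_apply, app_congr (biprod.inl_snd (X := F) (Y := G)),
    app_congr (biprod.inr_snd (X := F) (Y := G)), id_app_apply, zero_app_apply, zero_add]

theorem pair_p (T : X.Opens) (s : Γ((F ⊞ G : X.Modules), T)) : pair T (p₁ F G T s) (p₂ F G T s) = s :=
  (biprod_total_apply F G T s).symm

theorem pair_smul (T : X.Opens) (r : Γ(X, T)) (a : Γ(F, T)) (b : Γ(G, T)) :
    pair T (r • a) (r • b) = r • pair T a b := by
  unfold pair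
  rw [Scheme.Modules.Hom.app_smul, Scheme.Modules.Hom.app_smul, smul_add]

theorem pair_add (T : X.Opens) (a a' : Γ(F, T)) (b b' : Γ(G, T)) :
    pair T (a + a') (b + b') = pair T a b + pair T a' b' := by
  unfold pair
  rw [map_add, map_add]
  abel

theorem pair_res {T T₂ : X.Opens} (h : T₂ ≤ T) (a : Γ(F, T)) (b : Γ(G, T)) :
    res (F ⊞ G) h (pair T a b) = pair T₂ (res F h a) (res G h b) := by
  unfold pair
  rw [res_add, ← app_res', ← app_res']

/-- the sections of `F ⊞ G` whose restriction to `U` lies in the graph of `φ` -/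
def graph : SubSh (F ⊞ G) where
  carrier T :=
    { carrier := {s | φs U φ (U.ι ⁻¹ᵁ T) (res F (im_le U T) (p₁ F G T s)) = res G (im_le U T) (p₂ F G T s)}
      add_mem' := fun {a b} ha hb => by
        show φs U φ (U.ι ⁻¹ᵁ T) (res F (im_le U T) (p₁ F G T (a + b))) = res G (im_le U T) (p₂ F G T (a + b))
        have ha' : φs U φ (U.ι ⁻¹ᵁ T) (res F (im_le U T) (p₁ F G T a)) = res G (im_le U T) (p₂ F G T a) := ha
        have hb' : φs U φ (U.ι ⁻¹ᵁ T) (res F (im_le U T) (p₁ F G T b)) = res G (im_le U T) (p₂ F G T b) := hb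
        unfold p₁ p₂ at *
        rw [map_add, map_add, res_add, res_add, map_add, ha', hb']
      zero_mem' := by
        show φs U φ (U.ι ⁻¹ᵁ T) (res F (im_le U T) (p₁ F G T 0)) = res G (im_le U T) (p₂ F G T 0)
        unfold p₁ p₂
        rw [map_zero, map_zero, res_zero, res_zero, map_zero]
      smul_mem' := fun r a ha => by
        show φs U φ (U.ι ⁻¹ᵁ T) (res F (im_le U T) (p₁ F G T (r • a))) = res G (im_le U T) (p₂ F G T (r • a))
        have ha' : φs U φ (U.ι ⁻¹ᵁ T) (res F (im_le U T) (p₁ F G T a)) = res G (im_le U T) (p₂ F G T a) := ha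
        unfold p₁ p₂ at *
        rw [Scheme.Modules.Hom.app_smul, Scheme.Modules.Hom.app_smul, res_smul, res_smul, φs_smul, ha'] }
  res_mem {T T₂} h s hs := by
    show φs U φ (U.ι ⁻¹ᵁ T₂) (res F (im_le U T₂) (p₁ F G T₂ (res (F ⊞ G) h s))) =
      res G (im_le U T₂) (p₂ F G T₂ (res (F ⊞ G) h s))
    have hs' : φs U φ (U.ι ⁻¹ᵁ T) (res F (im_le U T) (p₁ F G T s)) = res G (im_le U T) (p₂ F G T s) := hs
    rw [p₁_res, p₂_res]
    have e1 : res F (im_le U T₂) (res F h (p₁ F G T s)) = res F (im_mono U h) (res F (im_le U T) (p₁ F G T s)) := by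
      rw [res_res, res_res]
    rw [e1, φs_res U φ (Scheme.Hom.preimage_mono U.ι h), hs', res_res, res_res]
  local_mem T s hs := by
    show φs U φ (U.ι ⁻¹ᵁ T) (res F (im_le U T) (p₁ F G T s)) = res G (im_le U T) (p₂ F G T s)
    apply eq_of_locally_eq G
    intro x hx
    have hxT : x ∈ T := im_le U T hx
    have hxU : x ∈ U := im_le_U U T hx
    obtain ⟨T₂, h, hxT₂, hm⟩ := hs x hxT
    have hm' : φs U φ (U.ι ⁻¹ᵁ T₂) (res F (im_le U T₂) (p₁ F G T₂ (res (F ⊞ G) h s))) =
      res G (im_le U T₂) (p₂ F G T₂ (res (F ⊞ G) h s)) := hm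
    refine ⟨im U T₂, im_mono U h, (mem_im_iff U T₂ x).2 ⟨hxU, hxT₂⟩, ?_⟩
    rw [p₁_res, p₂_res] at hm'
    have e1 : res F (im_le U T₂) (res F h (p₁ F G T s)) = res F (im_mono U h) (res F (im_le U T) (p₁ F G T s)) := by
      rw [res_res, res_res]
    rw [e1, φs_res U φ (Scheme.Hom.preimage_mono U.ι h)] at hm'
    rw [hm', res_res, res_res]

theorem mem_graph_iff (T : X.Opens) (s : Γ((F ⊞ G : X.Modules), T)) :
    s ∈ (graph U φ).carrier T ↔
      φs U φ (U.ι ⁻¹ᵁ T) (res F (im_le U T) (p₁ F G T s)) = res G (im_le U T) (p₂ F G T s) := Iff.rfl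

theorem mem_graph_iff_of_le {T : X.Opens} (hT : T ≤ U) (s : Γ((F ⊞ G : X.Modules), T)) :
    s ∈ (graph U φ).carrier T ↔ φT U φ hT (p₁ F G T s) = p₂ F G T s := by
  rw [mem_graph_iff, φs_eq_iff U φ hT]

theorem pair_mem_graph {T : X.Opens} (hT : T ≤ U) (a : Γ(F, T)) : pair T a (φT U φ hT a) ∈ (graph U φ).carrier T := by
  rw [mem_graph_iff_of_le U φ hT, p₁_pair, p₂_pair]

theorem eq_pair_of_mem_graph {T : X.Opens} (hT : T ≤ U) (s : Γ((F ⊞ G : X.Modules), T))
    (hs : s ∈ (graph U φ).carrier T) : s = pair T (p₁ F G T s) (φT U φ hT (p₁ F G T s)) := by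
  rw [(mem_graph_iff_of_le U φ hT s).1 hs, pair_p]

/-- the graph condition over the image of an open of `U` -/
theorem mem_graph_image_iff (T' : U.toScheme.Opens) (s : Γ((F ⊞ G : X.Modules), U.ι ''ᵁ T')) :
    s ∈ (graph U φ).carrier (U.ι ''ᵁ T') ↔ φs U φ T' (p₁ F G _ s) = p₂ F G _ s := by
  rw [mem_graph_iff]
  have hpre : U.ι ⁻¹ᵁ (U.ι ''ᵁ T') = T' := Scheme.Hom.preimage_image_eq U.ι T'
  have hle : U.ι ⁻¹ᵁ (U.ι ''ᵁ T') ≤ T' := hpre.le
  have hge : U.ι ''ᵁ T' ≤ im U (U.ι ''ᵁ T') := Scheme.Hom.image_mono U.ι hpre.ge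
  have e := φs_res U φ hle (p₁ F G _ s)
  constructor
  · intro h
    have h1 : res G (im_le U (U.ι ''ᵁ T')) (φs U φ T' (p₁ F G _ s)) = res G (im_le U (U.ι ''ᵁ T')) (p₂ F G _ s) :=
      e.symm.trans h
    have h2 := congrArg (res G hge) h1
    rwa [res_res, res_res, res_self, res_self] at h2
  · intro h
    exact e.trans (by rw [h])

section QC

variable [F.IsQuasicoherent]

theorem qcOn_graph : (graph U φ).QCOn U := by
  intro T hT hTU g s hs
  have hD : X.basicOpen g ≤ U := (X.basicOpen_le g).trans hTU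
  obtain ⟨n, a', ha'⟩ := isLocOn_exists (IsLocOn.of_isQuasicoherent hT F) g _ rfl (X.basicOpen_le g) (p₁ F G _ s)
  refine ⟨n, pair T a' (φT U φ hTU a'), pair_mem_graph U φ hTU a', ?_⟩
  rw [pair_res, ← φT_res U φ hTU (X.basicOpen_le g), ha', φT_smul, pair_smul]
  congr 1
  exact (eq_pair_of_mem_graph U φ hD s hs).symm

omit [F.IsQuasicoherent] in
theorem ftOn_graph (hF : ∀ T : X.Opens, IsAffineOpen T → T ≤ U → Module.Finite Γ(X, T) Γ(F, T)) :
    (graph U φ).FTOn U := by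
  intro T hT hTU
  haveI := hF T hT hTU
  let ℓ : Γ(F, T) →ₗ[Γ(X, T)] Γ((F ⊞ G : X.Modules), T) :=
    { toFun := fun a => pair T a (φT U φ hTU a)
      map_add' := fun a b => by rw [φT_add, pair_add]
      map_smul' := fun r a => by rw [φT_smul, pair_smul]; rfl }
  have h : (graph U φ).carrier T = LinearMap.range ℓ := by
    ext s
    constructor
    · intro hs
      exact ⟨p₁ F G T s, (eq_pair_of_mem_graph U φ hTU s hs).symm⟩
    · rintro ⟨a, rfl⟩
      exact pair_mem_graph U φ hTU a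
  rw [h, LinearMap.range_eq_map]
  exact Submodule.FG.map _ Module.Finite.fg_top

end QC

theorem injOn_graph : (graph U φ).InjOn (biprod.fst : F ⊞ G ⟶ F) U := by
  intro T hT s hs h0
  have h0' : p₁ F G T s = 0 := h0
  rw [eq_pair_of_mem_graph U φ hT s hs, h0', φT_zero]
  unfold pair
  rw [map_zero, map_zero, add_zero]

/-- **Extension of the graph**: on a locally Noetherian scheme there is a quasi-coherent finite type subsheaf of `F ⊞ G`,
agreeing with the graph of `φ` on `U`, on which the first projection is injective. -/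
theorem exists_extension [IsLocallyNoetherian X] [F.IsQuasicoherent] [G.IsQuasicoherent]
    (hF : ∀ T : X.Opens, IsAffineOpen T → T ≤ U → Module.Finite Γ(X, T) Γ(F, T)) :
    ∃ N : SubSh (F ⊞ G), SubSh.AgreeOn N (graph U φ) U ∧ N.QCOn ⊤ ∧ N.FTOn ⊤ ∧
      N.InjOn (biprod.fst : F ⊞ G ⟶ F) ⊤ := by
  haveI : (F ⊞ G : X.Modules).IsQuasicoherent :=
    Groth.Agent.Lib.Helper23.QCohLocal.isQuasicoherent_biprod F G
  exact exists_subSh_injOn (biprod.fst : F ⊞ G ⟶ F) U (graph U φ) (qcOn_graph U φ) (ftOn_graph U φ hF)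
    (injOn_graph U φ)

end Groth.Agent.Lib.Seat21.ExtHom
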