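/-
Seat 21 helper library (Grothendieck vanishing, part 1): generic lemmas on abelian sheaves on a topological space:
vanishing of cohomology along isomorphisms and short exact sequences, sections of kernels, sheaves vanishing on
opens inside a fixed open `U` (`Helper16.ClosedEmb.SZ`), kernel / coimage of the restriction `F ⟶ j_* (F|_U)`.
-/
import Mathlib
import Groth.Prelude.Def_CohTop
import Groth.Prelude.Def_CohCx
import Groth.Agent.Lib.Helper16ClosedEmb

set_option autoImplicit false
set_option linter.style.haveILetI false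
set_option linter.unusedSectionVars false
universe u
open CategoryTheory CategoryTheory.Limits Opposite TopologicalSpace Abelian

namespace Groth.Agent.Lib.Seat21.GV

open Groth.Agent.Lib.Helper16.ClosedEmb

variable {X : TopCat.{u}}

/-! ### cohomology vanishing -/

theorem subsingleton_H_of_iso {F G : CohTop.Ab X} (e : F ≅ G) (p : ℕ)
    (h : Subsingleton (CohTop.H F p)) : Subsingleton (CohTop.H G p) := by
  refine subsingleton_of_forall_eq 0 (fun x => ?_)
  have h1 : Sheaf.H.map e.hom p (Sheaf.H.map e.inv p x) = x := by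
    rw [← Sheaf.H.map_comp_apply, e.inv_hom_id, Sheaf.H.map_id_apply]
  rw [← h1, Subsingleton.elim (Sheaf.H.map e.inv p x) 0, map_zero]

theorem subsingleton_H_of_isZero {F : CohTop.Ab X} (h : IsZero F) (p : ℕ) :
    Subsingleton (CohTop.H F p) :=
  Sheaf.subsingleton_H_of_isZero h p

theorem subsingleton_H_mid (S : ShortComplex (CohTop.Ab X)) (hS : S.ShortExact) (p : ℕ)
    (h1 : Subsingleton (CohTop.H S.X₁ p)) (h3 : Subsingleton (CohTop.H S.X₃ p)) :
    Subsingleton (CohTop.H S.X₂ p) := by
  refine subsingleton_of_forall_eq 0 (fun x => ?_)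
  obtain ⟨x₁, hx₁⟩ := Ext.covariant_sequence_exact₂ _ hS x (Subsingleton.elim _ _)
  rw [← hx₁, Subsingleton.elim x₁ 0, Ext.zero_comp]

theorem subsingleton_H_left (S : ShortComplex (CohTop.Ab X)) (hS : S.ShortExact) (p : ℕ)
    (h2 : Subsingleton (CohTop.H S.X₂ (p + 1))) (h3 : Subsingleton (CohTop.H S.X₃ p)) :
    Subsingleton (CohTop.H S.X₁ (p + 1)) := by
  refine subsingleton_of_forall_eq 0 (fun x => ?_)
  obtain ⟨x₃, hx₃⟩ := Ext.covariant_sequence_exact₁ _ hS x (Subsingleton.elim _ _) (n₀ := p) rfl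
  rw [← hx₃, Subsingleton.elim x₃ 0, Ext.zero_comp]

/-! ### sections -/

/-- the sections functor -/
noncomputable abbrev secF (V : Opens X) : CohTop.Ab X ⥤ AddCommGrpCat.{u} :=
  sheafToPresheaf _ _ ⋙ (evaluation (Opens X)ᵒᵖ AddCommGrpCat.{u}).obj (op V)

noncomputable instance (V : Opens X) : PreservesLimits (secF (X := X) V) := by
  haveI h1 : PreservesLimits (sheafToPresheaf (Opens.grothendieckTopology X) AddCommGrpCat.{u}) :=
    inferInstance
  haveI h2 : PreservesLimits ((evaluation (Opens X)ᵒᵖ AddCommGrpCat.{u}).obj (op V)) := inferInstance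
  exact comp_preservesLimits _ _

/-- sections of a kernel -/
theorem exists_kernelι_app_eq {F G : CohTop.Ab X} (f : F ⟶ G) (V : Opens X)
    (t : ToType (F.obj.obj (op V))) (ht : f.hom.app (op V) t = 0) :
    ∃ r : ToType ((kernel f).obj.obj (op V)), (kernel.ι f).hom.app (op V) r = t := by
  let E : ShortComplex (CohTop.Ab X) := ShortComplex.mk (kernel.ι f) f (kernel.condition _)
  have hE : E.Exact := ShortComplex.exact_of_f_is_kernel E (kernelIsKernel f)
  haveI : Mono E.f := inferInstanceAs (Mono (kernel.ι f))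
  haveI : (secF (X := X) V).PreservesZeroMorphisms := ⟨fun _ _ => rfl⟩
  have h1 : (E.map (secF V)).Exact :=
    hE.map_of_mono_of_preservesKernel (secF V) inferInstance inferInstance
  rw [ShortComplex.ab_exact_iff] at h1
  exact h1 t ht

theorem comp_app_apply {F G K : CohTop.Ab X} (φ : F ⟶ G) (ψ : G ⟶ K) (V : Opens X)
    (x : ToType (F.obj.obj (op V))) :
    (φ ≫ ψ).hom.app (op V) x = ψ.hom.app (op V) (φ.hom.app (op V) x) := rfl

theorem app_congr {F G : CohTop.Ab X} {φ ψ : F ⟶ G} (h : φ = ψ) (V : Opens X)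
    (x : ToType (F.obj.obj (op V))) : φ.hom.app (op V) x = ψ.hom.app (op V) x := by rw [h]

theorem zero_app_apply {F G : CohTop.Ab X} (V : Opens X) (x : ToType (F.obj.obj (op V))) :
    (0 : F ⟶ G).hom.app (op V) x = 0 := rfl

theorem map_app_apply {F G : CohTop.Ab X} (φ : F ⟶ G) {V W : Opens X} (h : W ≤ V)
    (x : ToType (F.obj.obj (op V))) :
    G.obj.map (homOfLE h).op (φ.hom.app (op V) x) = φ.hom.app (op W) (F.obj.map (homOfLE h).op x) :=
  (ConcreteCategory.congr_hom (φ.hom.naturality (homOfLE h).op) x).symm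

theorem map_map_apply' (F : CohTop.Ab X) {A B C : Opens X} (h1 : B ≤ A) (h2 : C ≤ B)
    (s : ToType (F.obj.obj (op A))) :
    F.obj.map (homOfLE h2).op (F.obj.map (homOfLE h1).op s) = F.obj.map (homOfLE (h2.trans h1)).op s :=
  map_map_apply F (homOfLE h1) (homOfLE h2) (homOfLE (h2.trans h1)) s

/-- a morphism of sheaves which is bijective on all sections is an isomorphism -/
theorem isIso_of_bijective {F G : CohTop.Ab X} (φ : F ⟶ G)
    (h : ∀ V : Opens X, Function.Bijective (φ.hom.app (op V))) : IsIso φ := by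
  haveI : ∀ V, IsIso (φ.hom.app V) := fun V =>
    (ConcreteCategory.isIso_iff_bijective _).2 (h V.unop)
  haveI : IsIso φ.hom := NatIso.isIso_of_isIso_app _
  haveI : IsIso ((sheafToPresheaf _ _).map φ) := ‹IsIso φ.hom›
  exact isIso_of_reflects_iso φ (sheafToPresheaf _ _)

/-! ### sheaves vanishing inside `U` -/

variable (U : Opens X)

theorem isZero_of_SZ_top (F : CohTop.Ab X) (hF : SZ (⊤ : Opens X) F) : IsZero F := by
  rw [IsZero.iff_id_eq_zero]
  apply Sheaf.hom_ext
  ext V s
  haveI := hF V.unop le_top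
  exact Subsingleton.elim _ _

theorem SZ_of_mono {A B : CohTop.Ab X} (f : A ⟶ B) [Mono f] (hB : SZ U B) : SZ U A := by
  intro V hV
  haveI := hB V hV
  exact (injective_of_mono f V).subsingleton

theorem SZ_mono {U U' : Opens X} (h : U' ≤ U) {F : CohTop.Ab X} (hF : SZ U F) : SZ U' F :=
  fun V hV => hF V (hV.trans h)

/-- the restriction `ρ U F` on sections -/
theorem ρ_app (F : CohTop.Ab X) (V : Opens X) (s : ToType (F.obj.obj (op V))) :
    (ρ U F).hom.app (op V) s = F.obj.map (homOfLE (img_map_le U V)).op s := rfl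

/-- the kernel of `F ⟶ j_* (F|_U)` vanishes inside `U` -/
theorem SZ_kernel_ρ (F : CohTop.Ab X) : SZ U (kernel (ρ U F)) := by
  intro V hV
  refine subsingleton_of_forall_eq 0 (fun t => ?_)
  apply injective_of_mono (kernel.ι (ρ U F)) V
  rw [map_zero]
  have hc : (kernel.ι (ρ U F) ≫ ρ U F).hom.app (op V) t = 0 := by
    rw [kernel.condition]; rfl
  rw [comp_app_apply, ρ_app] at hc
  exact map_injective_of_eq F (homOfLE (img_map_le U V)) (img_map_eq U hV) (hc.trans (map_zero _).symm)

/-- sections of the kernel of `ρ`: a section whose restriction to `V ⊓ U` vanishes -/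
theorem exists_kernel_ρ_of_res_eq_zero (F : CohTop.Ab X) (V : Opens X) (s : ToType (F.obj.obj (op V)))
    (hs : F.obj.map (homOfLE (inf_le_left : V ⊓ U ≤ V)).op s = 0) :
    ∃ r : ToType ((kernel (ρ U F)).obj.obj (op V)), (kernel.ι (ρ U F)).hom.app (op V) r = s := by
  apply exists_kernelι_app_eq
  rw [ρ_app]
  have hle : img U ((Opens.map (jU U)).obj V) ≤ V ⊓ U := by
    rintro _ ⟨x, hx, rfl⟩
    exact ⟨hx, x.2⟩
  have := congrArg (F.obj.map (homOfLE hle).op) hs
  rw [map_zero, map_map_apply'] at this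
  exact this

/-- sections of the kernel of `ρ` vanish on `V ⊓ U` -/
theorem kernel_ρ_res_eq_zero (F : CohTop.Ab X) (V : Opens X) (r : ToType ((kernel (ρ U F)).obj.obj (op V))) :
    F.obj.map (homOfLE (inf_le_left : V ⊓ U ≤ V)).op ((kernel.ι (ρ U F)).hom.app (op V) r) = 0 := by
  rw [map_app_apply]
  haveI := SZ_kernel_ρ U F (V ⊓ U) inf_le_right
  rw [Subsingleton.elim ((kernel (ρ U F)).obj.map (homOfLE (inf_le_left : V ⊓ U ≤ V)).op r) 0, map_zero]

/-- `j_* (F|_{U₂})` vanishes inside `U₁` if `F` vanishes inside `U ≥ U₁ ⊓ U₂` -/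
theorem SZ_push_restr {U₁ U₂ : Opens X} (h : U₁ ⊓ U₂ ≤ U) (F : CohTop.Ab X) (hF : SZ U F) :
    SZ U₁ ((CohTop.push (jU U₂)).obj ((CohTop.restrFunctor U₂).obj F)) := by
  intro V hV
  refine hF (img U₂ ((Opens.map (jU U₂)).obj V)) ?_
  rintro _ ⟨x, hx, rfl⟩
  exact h ⟨hV hx, x.2⟩

/-- the two short exact sequences of a morphism -/
theorem shortExact_kernel_coimage {F G : CohTop.Ab X} (f : F ⟶ G) :
    (ShortComplex.mk (kernel.ι f) (cokernel.π (kernel.ι f)) (cokernel.condition _)).ShortExact :=
  { exact := ShortComplex.exact_cokernel _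
    mono_f := inferInstanceAs (Mono (kernel.ι f))
    epi_g := inferInstanceAs (Epi (cokernel.π (kernel.ι f))) }

theorem factorThruCoimage_cokernel {F G : CohTop.Ab X} (f : F ⟶ G) :
    Abelian.factorThruCoimage f ≫ cokernel.π f = 0 := by
  rw [← cancel_epi (Abelian.coimage.π f), ← Category.assoc, Abelian.coimage.fac, cokernel.condition,
    comp_zero]

theorem shortExact_coimage_cokernel {F G : CohTop.Ab X} (f : F ⟶ G) :
    (ShortComplex.mk (Abelian.factorThruCoimage f) (cokernel.π f)
      (factorThruCoimage_cokernel f)).ShortExact := by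
  let S0 : ShortComplex (CohTop.Ab X) := ShortComplex.mk f (cokernel.π f) (cokernel.condition f)
  let S1 : ShortComplex (CohTop.Ab X) := ShortComplex.mk (Abelian.factorThruCoimage f) (cokernel.π f)
      (factorThruCoimage_cokernel f)
  let φ : S0 ⟶ S1 :=
    { τ₁ := Abelian.coimage.π f
      τ₂ := 𝟙 _
      τ₃ := 𝟙 _
      comm₁₂ := by simp [S0, S1]
      comm₂₃ := by simp [S0, S1] }
  have : Epi φ.τ₁ := by dsimp [φ]; infer_instance
  have : IsIso φ.τ₂ := by dsimp [φ]; infer_instance
  have : Mono φ.τ₃ := by dsimp [φ]; infer_instance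
  exact
    { exact := (ShortComplex.exact_iff_of_epi_of_isIso_of_mono φ).1 (ShortComplex.exact_cokernel f)
      mono_f := inferInstanceAs (Mono (Abelian.factorThruCoimage f))
      epi_g := inferInstanceAs (Epi (cokernel.π f)) }

end Groth.Agent.Lib.Seat21.GV
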