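/-
Seat 21 helper library (Grothendieck vanishing, part 3): the irreducible case.  For an abelian sheaf `F` on an
irreducible Noetherian space `Z`, the "generic stalk" `M = colim_{U ≠ ∅} F(U)` gives a map `φ : F ⟶ M_Z` to a flasque
sheaf whose kernel and cokernel are "torsion" sheaves (every section dies on a nonempty open), and a torsion sheaf is
the directed colimit of its subsheaves of sections supported on proper closed subsets.
-/
import Mathlib
import Groth.Agent.Lib.Seat21GVReduce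
import Groth.Agent.Lib.Helper16IrredConst
import Groth.Agent.Lib.Helper16QcSect
import Groth.Agent.Lib.Helper16FiltColim
import Groth.Agent.S11320
import Groth.Agent.S0468
import Groth.Agent.S0453
import Groth.Prelude.Def_E1Deg2

set_option autoImplicit false
set_option linter.style.haveILetI false
set_option linter.unusedSectionVars false
universe u
open CategoryTheory CategoryTheory.Limits Opposite TopologicalSpace Abelian

namespace Groth.Agent.Lib.Seat21.GV

open Groth.Agent.Lib.Helper16.ClosedEmb Groth.Agent.Lib.Helper16.IrredConst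
open Groth.Agent.Lib.Helper16.FiltColim Groth.Agent.Lib.Helper16.QcSect

variable {Z : TopCat.{u}}

/-- nonempty opens -/
abbrev NE (Z : TopCat.{u}) : Type u := {U : Opens Z // (U : Set Z).Nonempty}

instance [IrreducibleSpace Z] : IsDirected (NE Z) (· ≥ ·) :=
  ⟨fun a b => ⟨⟨a.1 ⊓ b.1, nonempty_preirreducible_inter a.1.2 b.1.2 a.2 b.2⟩,
    (inf_le_left : a.1 ⊓ b.1 ≤ a.1), (inf_le_right : a.1 ⊓ b.1 ≤ b.1)⟩⟩

instance [IrreducibleSpace Z] : Nonempty (NE Z) := ⟨⟨⊤, top_nonempty⟩⟩

/-- the diagram of sections over nonempty opens -/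
noncomputable abbrev genDiag (F : CohTop.Ab Z) : (NE Z)ᵒᵖ ⥤ AddCommGrpCat.{u} :=
  (Subtype.mono_coe (fun U : Opens Z => (U : Set Z).Nonempty)).functor.op ⋙ F.obj

/-- the generic stalk -/
noncomputable abbrev genStalk (F : CohTop.Ab Z) : AddCommGrpCat.{u} := colimit (genDiag F)

/-- germ at the generic stalk -/
noncomputable def genGerm (F : CohTop.Ab Z) (U : NE Z) :
    ToType (F.obj.obj (op U.1)) →+ ToType (genStalk F) :=
  (colimit.ι (genDiag F) (op U)).hom

theorem genGerm_res (F : CohTop.Ab Z) {U V : NE Z} (h : V.1 ≤ U.1) (s : ToType (F.obj.obj (op U.1))) :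
    genGerm F V (F.obj.map (homOfLE h).op s) = genGerm F U s := by
  have hw := colimit.w (genDiag F) (homOfLE (show V ≤ U from h)).op
  exact ConcreteCategory.congr_hom hw s

variable [IrreducibleSpace Z]

theorem genGerm_surjective (F : CohTop.Ab Z) (x : ToType (genStalk F)) :
    ∃ (U : NE Z) (s : ToType (F.obj.obj (op U.1))), genGerm F U s = x := by
  obtain ⟨i, y, hy⟩ := (good_of_isColimit (colimit.isColimit (genDiag F))).surj x
  exact ⟨i.unop, y, hy⟩

theorem genGerm_eq_zero (F : CohTop.Ab Z) (U : NE Z) (s : ToType (F.obj.obj (op U.1)))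
    (hs : genGerm F U s = 0) : ∃ (V : NE Z) (h : V.1 ≤ U.1), F.obj.map (homOfLE h).op s = 0 := by
  obtain ⟨j, f, hf⟩ := (good_of_isColimit (colimit.isColimit (genDiag F))).inj (op U) s hs
  exact ⟨j.unop, f.unop.le, hf⟩

/-- the map to the constant sheaf on the generic stalk -/
noncomputable def toGen (F : CohTop.Ab Z) : F ⟶ cS Z (ToType (genStalk F)) :=
  ⟨{ app := fun V => AddCommGrpCat.ofHom
        { toFun := fun s h => genGerm F ⟨V.unop, h.down⟩ s
          map_zero' := by funext h; exact map_zero _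
          map_add' := fun a b => by funext h; exact map_add _ a b }
     naturality := fun V V' f => by
        ext s
        funext h
        exact genGerm_res F (U := ⟨V.unop, h.down.mono f.unop.le⟩) (V := ⟨V'.unop, h.down⟩) f.unop.le s }⟩

theorem toGen_app (F : CohTop.Ab Z) (V : Opens Z) (s : ToType (F.obj.obj (op V)))
    (h : PLift (V : Set Z).Nonempty) :
    ((toGen F).hom.app (op V) s : PLift (V : Set Z).Nonempty → ToType (genStalk F)) h =
      genGerm F ⟨V, h.down⟩ s := rfl

/-- torsion sheaves: every section dies on a nonempty open -/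
def Tor (T : CohTop.Ab Z) : Prop :=
  ∀ (V : Opens Z) (s : ToType (T.obj.obj (op V))), ∃ U : NE Z,
    T.obj.map (homOfLE (inf_le_left : V ⊓ U.1 ≤ V)).op s = 0

theorem tor_kernel_toGen (F : CohTop.Ab Z) : Tor (kernel (toGen F)) := by
  intro V s
  by_cases hV : (V : Set Z).Nonempty
  · set t := (kernel.ι (toGen F)).hom.app (op V) s with ht
    have h0 : (toGen F).hom.app (op V) t = 0 := by
      have hc : (kernel.ι (toGen F) ≫ toGen F).hom.app (op V) s = 0 := by
        rw [kernel.condition]; rfl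
      exact hc
    have h1 : genGerm F ⟨V, hV⟩ t = 0 := by
      have := congrFun (congrArg (fun (f : PLift (V : Set Z).Nonempty → ToType (genStalk F)) => f) h0) ⟨hV⟩
      exact this
    obtain ⟨W, hW, hWt⟩ := genGerm_eq_zero F ⟨V, hV⟩ t h1
    refine ⟨W, ?_⟩
    apply injective_of_mono (kernel.ι (toGen F)) (V ⊓ W.1)
    rw [map_zero, ← map_app_apply, ← ht]
    have : F.obj.map (homOfLE (inf_le_left : V ⊓ W.1 ≤ V)).op t =
        F.obj.map (homOfLE (inf_le_right : V ⊓ W.1 ≤ W.1)).op (F.obj.map (homOfLE hW).op t) :=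
      (map_map_apply' F hW inf_le_right t).symm
    rw [this, hWt, map_zero]
  · refine ⟨⟨⊤, top_nonempty⟩, ?_⟩
    haveI := subsingleton_of_empty (kernel (toGen F)) (U := V ⊓ ⊤)
      (fun h => hV (h.mono (fun x hx => hx.1)))
    exact Subsingleton.elim _ _

theorem tor_cokernel_toGen [NoetherianSpace Z] (F : CohTop.Ab Z) : Tor (cokernel (toGen F)) := by
  intro V s
  let C : CohTop.Ab Z := cokernel (toGen F)
  let π : cS Z (ToType (genStalk F)) ⟶ C := cokernel.π (toGen F)
  have hepi := (locSurj_iff π).1 inferInstance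
  -- the property of sets
  let P : Set Z → Prop := fun S => ∃ (V' : Opens Z) (h : V' ≤ V), S ⊆ V' ∧ ∃ U : NE Z,
    C.obj.map (homOfLE (inf_le_left : V' ⊓ U.1 ≤ V')).op (C.obj.map (homOfLE h).op s) = 0
  have key : P (V : Set Z) := by
    refine IsCompact.induction_on (NoetherianSpace.isCompact (V : Set Z)) (p := P) ?_ ?_ ?_ ?_
    · refine ⟨⊥, bot_le, Set.empty_subset _, ⟨⊤, top_nonempty⟩, ?_⟩
      haveI := subsingleton_of_empty C (U := (⊥ : Opens Z) ⊓ ⊤) (fun h => h.ne_empty (by simp))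
      exact Subsingleton.elim _ _
    · rintro S S' hSS' ⟨V', h, hS', U, hU⟩
      exact ⟨V', h, hSS'.trans hS', U, hU⟩
    · rintro S S' ⟨V₁, h₁, hS₁, U₁, hU₁⟩ ⟨V₂, h₂, hS₂, U₂, hU₂⟩
      obtain ⟨U, hUU₁, hUU₂⟩ := directed_of (· ≥ ·) U₁ U₂
      refine ⟨V₁ ⊔ V₂, sup_le h₁ h₂, Set.union_subset_union hS₁ hS₂, U, ?_⟩
      have hcov : (V₁ ⊔ V₂) ⊓ U.1 ≤ (V₁ ⊓ U.1) ⊔ (V₂ ⊓ U.1) := by
        rintro x ⟨h | h, hxU⟩
        · exact Or.inl ⟨h, hxU⟩
        · exact Or.inr ⟨h, hxU⟩
      refine TopCat.Sheaf.eq_of_locally_eq₂ C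
        (homOfLE (inf_le_inf_right _ le_sup_left : V₁ ⊓ U.1 ≤ (V₁ ⊔ V₂) ⊓ U.1))
        (homOfLE (inf_le_inf_right _ le_sup_right : V₂ ⊓ U.1 ≤ (V₁ ⊔ V₂) ⊓ U.1)) hcov _ _ ?_ ?_
      · rw [map_zero, map_map_apply', map_map_apply']
        have e : C.obj.map (homOfLE ((inf_le_left : V₁ ⊓ U.1 ≤ V₁).trans h₁)).op s =
            C.obj.map (homOfLE (inf_le_inf_left V₁ hUU₁ : V₁ ⊓ U.1 ≤ V₁ ⊓ U₁.1)).op
              (C.obj.map (homOfLE (inf_le_left : V₁ ⊓ U₁.1 ≤ V₁)).op (C.obj.map (homOfLE h₁).op s)) := by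
          rw [map_map_apply', map_map_apply']
        exact e.trans (by rw [hU₁, map_zero])
      · rw [map_zero, map_map_apply', map_map_apply']
        have e : C.obj.map (homOfLE ((inf_le_left : V₂ ⊓ U.1 ≤ V₂).trans h₂)).op s =
            C.obj.map (homOfLE (inf_le_inf_left V₂ hUU₂ : V₂ ⊓ U.1 ≤ V₂ ⊓ U₂.1)).op
              (C.obj.map (homOfLE (inf_le_left : V₂ ⊓ U₂.1 ≤ V₂)).op (C.obj.map (homOfLE h₂).op s)) := by
          rw [map_map_apply', map_map_apply']
        exact e.trans (by rw [hU₂, map_zero])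
    · intro x hx
      obtain ⟨V', hV', ⟨m, hm⟩, hxV'⟩ := hepi V s x hx
      have hne : (V' : Set Z).Nonempty := ⟨x, hxV'⟩
      obtain ⟨W, y, hy⟩ := genGerm_surjective F (m ⟨hne⟩)
      refine ⟨V', mem_nhdsWithin_of_mem_nhds (V'.isOpen.mem_nhds hxV'), V', hV', subset_rfl, W, ?_⟩
      rw [← hm, map_app_apply]
      -- `m` restricted to `V' ⊓ W` comes from `F`
      have hm' : (cS Z (ToType (genStalk F))).obj.map (homOfLE (inf_le_left : V' ⊓ W.1 ≤ V')).op m =
          (toGen F).hom.app (op (V' ⊓ W.1))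
            (F.obj.map (homOfLE (inf_le_right : V' ⊓ W.1 ≤ W.1)).op y) := by
        funext h
        change m ⟨h.down.mono inf_le_left⟩ = genGerm F ⟨V' ⊓ W.1, h.down⟩ _
        rw [genGerm_res F (U := W) (V := ⟨V' ⊓ W.1, h.down⟩) inf_le_right y, hy]
      rw [hm']
      have hc : (toGen F ≫ π).hom.app (op (V' ⊓ W.1))
          (F.obj.map (homOfLE (inf_le_right : V' ⊓ W.1 ≤ W.1)).op y) = 0 := by
        change (toGen F ≫ cokernel.π (toGen F)).hom.app _ _ = 0
        rw [cokernel.condition]; rfl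
      exact hc
  obtain ⟨V', h, hVV', U, hU⟩ := key
  refine ⟨U, ?_⟩
  have hle : V ⊓ U.1 ≤ V' ⊓ U.1 := inf_le_inf_right _ hVV'
  have e : C.obj.map (homOfLE (inf_le_left : V ⊓ U.1 ≤ V)).op s =
      C.obj.map (homOfLE hle).op
        (C.obj.map (homOfLE (inf_le_left : V' ⊓ U.1 ≤ V')).op (C.obj.map (homOfLE h).op s)) := by
    rw [map_map_apply', map_map_apply']
  exact e.trans (by rw [hU, map_zero])

/-! ### the directed system of sections with proper closed support -/

omit [IrreducibleSpace Z] in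
theorem kernel_ι_ρ_of_le (T : CohTop.Ab Z) {U U' : Opens Z} (h : U' ≤ U) :
    kernel.ι (ρ U T) ≫ ρ U' T = 0 := by
  apply Sheaf.hom_ext
  ext V r
  change (ρ U' T).hom.app (op V.unop) ((kernel.ι (ρ U T)).hom.app (op V.unop) r) = 0
  rw [ρ_app]
  have h0 := kernel_ρ_res_eq_zero U T V.unop r
  have hle : img U' ((Opens.map (jU U')).obj V.unop) ≤ V.unop ⊓ U := by
    rintro _ ⟨x, hx, rfl⟩
    exact ⟨hx, h x.2⟩
  have := congrArg (T.obj.map (homOfLE hle).op) h0
  rw [map_zero, map_map_apply'] at this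
  exact this

/-- `U ↦ Γ_{Z ∖ U}(T)`, covariant for reverse inclusion of nonempty opens -/
noncomputable def suppDiag (T : CohTop.Ab Z) : (NE Z)ᵒᵈ ⥤ CohTop.Ab Z where
  obj U := kernel (ρ (OrderDual.ofDual U).1 T)
  map {U U'} f := kernel.lift _ (kernel.ι _)
    (kernel_ι_ρ_of_le T (show (OrderDual.ofDual U').1 ≤ (OrderDual.ofDual U).1 from f.le))
  map_id U := by
    rw [← cancel_mono (kernel.ι _), kernel.lift_ι, Category.id_comp]
  map_comp f g := by
    rw [← cancel_mono (kernel.ι _), kernel.lift_ι, Category.assoc, kernel.lift_ι, kernel.lift_ι]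

/-- the cocone to `T` -/
noncomputable def suppCocone (T : CohTop.Ab Z) : Cocone (suppDiag T) where
  pt := T
  ι := { app := fun U => kernel.ι _
         naturality := fun U U' f => by
           change kernel.lift _ _ _ ≫ kernel.ι _ = kernel.ι _ ≫ 𝟙 _
           rw [kernel.lift_ι, Category.comp_id] }

instance [NoetherianSpace Z] : QuasiSeparatedSpace Z :=
  ⟨fun _ _ _ _ _ _ => NoetherianSpace.isCompact _⟩

omit [IrreducibleSpace Z] in
/-- on a Noetherian space, cohomology of a directed colimit of sheaves with vanishing `H^p` vanishes -/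
theorem subsingleton_H_colimit [NoetherianSpace Z] (ι : Type u) [Preorder ι] [IsDirected ι (· ≤ ·)]
    [Nonempty ι] (D : ι ⥤ CohTop.Ab Z) (p : ℕ) (h : ∀ i, Subsingleton (CohTop.H (D.obj i) p)) :
    Subsingleton (CohTop.H (colimit D) p) := by
  let Hf : CohTop.Ab Z ⥤ AddCommGrpCat.{u} :=
    (Sheaf.cohomologyPresheafFunctor (Opens.grothendieckTopology Z) p).flip.obj (op ⊤)
  haveI : PreservesColimitsOfShape ι Hf :=
    Groth.Agent.S0468.result ⊤ (NoetherianSpace.isCompact _) ι p
  have hc := isColimitOfPreserves Hf (colimit.isColimit D)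
  have hg := good_of_isColimit hc
  let e : ∀ G : CohTop.Ab Z,
      Abelian.Ext.{u} (CohCx.freeSheaf (Opens.grothendieckTopology Z) ⊤) G p ≃+ CohTop.H G p :=
    fun G => E1Deg.extCongrLeft (E1Deg.freeSheafIsoConstant (Opens.grothendieckTopology Z) isTerminalTop) G p
  refine subsingleton_of_forall_eq 0 (fun x => ?_)
  obtain ⟨i, y, hy⟩ := hg.surj ((e _).symm x)
  haveI := h i
  have hy0 : y = 0 := (e (D.obj i)).injective (Subsingleton.elim _ _)
  rw [hy0, map_zero] at hy
  have h0 : (e _).symm x = 0 := hy.symm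
  have := congrArg (e _) h0
  rw [AddEquiv.apply_symm_apply, map_zero] at this
  exact this

/-- a torsion sheaf is the colimit of its subsheaves of sections with proper closed support -/
theorem isIso_desc_suppCocone [NoetherianSpace Z] (T : CohTop.Ab Z) (hT : Tor T) :
    IsIso (colimit.desc (suppDiag T) (suppCocone T)) := by
  apply isIso_of_bijective
  intro V
  have hg := good_sections' (Opens.grothendieckTopology Z) (suppDiag T) V
    (Groth.Agent.S11320.qc2_of_noetherian V) (colimit.cocone (suppDiag T)) (colimit.isColimit (suppDiag T))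
  have hfac : ∀ (U : (NE Z)ᵒᵈ) (y : ToType (((suppDiag T).obj U).obj.obj (op V))),
      (colimit.desc (suppDiag T) (suppCocone T)).hom.app (op V)
        ((colimit.ι (suppDiag T) U).hom.app (op V) y) =
      (kernel.ι (ρ (OrderDual.ofDual U).1 T)).hom.app (op V) y := by
    intro U y
    rw [← comp_app_apply, colimit.ι_desc]
    rfl
  constructor
  · rw [injective_iff_map_eq_zero]
    intro x hx
    obtain ⟨U, y, hy⟩ := hg.surj x
    have hy' : (colimit.ι (suppDiag T) U).hom.app (op V) y = x := hy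
    rw [← hy', hfac] at hx
    have hy0 : y = 0 := injective_of_mono (kernel.ι (ρ (OrderDual.ofDual U).1 T)) V (hx.trans (map_zero _).symm)
    rw [← hy', hy0, map_zero]
  · intro s
    obtain ⟨U, hU⟩ := hT V s
    obtain ⟨r, hr⟩ := exists_kernel_ρ_of_res_eq_zero U.1 T V s hU
    exact ⟨(colimit.ι (suppDiag T) (OrderDual.toDual U)).hom.app (op V) r, (hfac _ r).trans hr⟩

/-- **Torsion sheaves** on an irreducible Noetherian space of dimension `< m + 1` have no cohomology in degrees
`≥ m`, if all Noetherian spaces of dimension `< m` have no cohomology in degrees `≥ m`. -/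
theorem subsingleton_H_of_tor [NoetherianSpace Z] (m : ℕ)
    (hdim : topologicalKrullDim Z < ((m + 1 : ℕ) : WithBot ℕ∞))
    (IH : ∀ (Y : TopCat.{u}) [NoetherianSpace Y], topologicalKrullDim Y < ((m : ℕ) : WithBot ℕ∞) →
      ∀ (G : CohTop.Ab Y) (p : ℕ), m ≤ p → Subsingleton (CohTop.H G p))
    (T : CohTop.Ab Z) (hT : Tor T) (p : ℕ) (hp : m ≤ p) : Subsingleton (CohTop.H T p) := by
  haveI := isIso_desc_suppCocone T hT
  refine subsingleton_H_of_iso (asIso (colimit.desc (suppDiag T) (suppCocone T))) p ?_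
  refine subsingleton_H_colimit _ (suppDiag T) p (fun U => ?_)
  have hU : ((OrderDual.ofDual U).1 : Set Z).Nonempty := (OrderDual.ofDual U).2
  refine subsingleton_H_of_SZ (OrderDual.ofDual U).1 _ (SZ_kernel_ρ _ T) p ?_
  haveI : NoetherianSpace (TopCat.of ((((OrderDual.ofDual U).1 : Opens Z) : Set Z)ᶜ : Set Z)) :=
    inferInstanceAs (NoetherianSpace ((((OrderDual.ofDual U).1 : Opens Z) : Set Z)ᶜ : Set Z))
  exact IH _ (topologicalKrullDim_compl_lt Z _ (OrderDual.ofDual U).1.isOpen hU m hdim) _ p hp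

/-- **The irreducible case.** -/
theorem subsingleton_H_of_irreducibleSpace [NoetherianSpace Z] (m : ℕ)
    (hdim : topologicalKrullDim Z < ((m + 1 : ℕ) : WithBot ℕ∞))
    (IH : ∀ (Y : TopCat.{u}) [NoetherianSpace Y], topologicalKrullDim Y < ((m : ℕ) : WithBot ℕ∞) →
      ∀ (G : CohTop.Ab Y) (p : ℕ), m ≤ p → Subsingleton (CohTop.H G p))
    (F : CohTop.Ab Z) (p : ℕ) (hp : m + 1 ≤ p) : Subsingleton (CohTop.H F p) := by
  obtain ⟨p', rfl⟩ : ∃ p', p = p' + 1 := ⟨p - 1, by omega⟩
  have hK : Subsingleton (CohTop.H (kernel (toGen F)) (p' + 1)) :=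
    subsingleton_H_of_tor m hdim IH _ (tor_kernel_toGen F) _ (by omega)
  have hC : Subsingleton (CohTop.H (cokernel (toGen F)) p') :=
    subsingleton_H_of_tor m hdim IH _ (tor_cokernel_toGen F) _ (by omega)
  have hM : Subsingleton (CohTop.H (cS Z (ToType (genStalk F))) (p' + 1)) :=
    Groth.Agent.S0453.result _ p'
  have hI : Subsingleton (CohTop.H (Abelian.coimage (toGen F)) (p' + 1)) :=
    subsingleton_H_left _ (shortExact_coimage_cokernel (toGen F)) p' hM hC
  exact subsingleton_H_mid _ (shortExact_kernel_coimage (toGen F)) (p' + 1) hK hI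

end Groth.Agent.Lib.Seat21.GV
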