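/-
Seat 21 helper library (Grothendieck vanishing, part 4): the induction on the dimension.
-/
import Mathlib
import Groth.Agent.Lib.Seat21GVIrred

set_option autoImplicit false
set_option linter.style.haveILetI false
set_option linter.unusedSectionVars false
universe u
open CategoryTheory CategoryTheory.Limits Opposite TopologicalSpace Abelian

namespace Groth.Agent.Lib.Seat21.GV

open Groth.Agent.Lib.Helper16.ClosedEmb

/-- **Grothendieck vanishing**, inductive form: on a Noetherian space of dimension `< m`, `H^p` vanishes for `p ≥ m`. -/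
theorem main (m : ℕ) : ∀ (X : TopCat.{u}) [NoetherianSpace X],
    topologicalKrullDim X < ((m : ℕ) : WithBot ℕ∞) →
    ∀ (F : CohTop.Ab X) (p : ℕ), m ≤ p → Subsingleton (CohTop.H F p) := by
  induction m with
  | zero =>
    intro X _ hdim F p _
    have hE : IsEmpty X := isEmpty_of_topologicalKrullDim_lt_zero X (by simpa using hdim)
    refine subsingleton_H_of_isZero (isZero_of_SZ_top F (fun V _ => ?_)) p
    refine subsingleton_of_eq_bot F ?_
    ext x
    exact (hE.false x).elim
  | succ m ih =>
    intro X _ hdim F p hp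
    refine subsingleton_H_of_irreducible p (fun U hU G => ?_) ⊥ F (SZ_bot F)
    haveI : IrreducibleSpace (TopCat.of ((U : Set X)ᶜ : Set X)) := Subtype.irreducibleSpace hU
    haveI : NoetherianSpace (TopCat.of ((U : Set X)ᶜ : Set X)) :=
      inferInstanceAs (NoetherianSpace ((U : Set X)ᶜ : Set X))
    have hd : topologicalKrullDim (TopCat.of ((U : Set X)ᶜ : Set X)) < ((m + 1 : ℕ) : WithBot ℕ∞) :=
      lt_of_le_of_lt (topologicalKrullDim_subspace_le X _) hdim
    exact subsingleton_H_of_irreducibleSpace m hd (fun Y _ hY G' q hq => ih Y hY G' q hq) G p hp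

/-- **Grothendieck's vanishing theorem.** -/
theorem grothendieck_vanishing {X : TopCat.{u}} [NoetherianSpace X] (d : ℕ)
    (hd : topologicalKrullDim X ≤ d) (F : CohTop.Ab X) (p : ℕ) (hp : d < p) :
    Subsingleton (CohTop.H F p) := by
  refine main (d + 1) X (lt_of_le_of_lt hd ?_) F p hp
  exact_mod_cast Nat.lt_succ_self d

end Groth.Agent.Lib.Seat21.GV
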