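/-
Seat 21 helper library (Grothendieck vanishing, part 2): on a Noetherian space, vanishing of `H^p` for all sheaves on all
irreducible closed subspaces implies vanishing of `H^p` for all sheaves; dimension of proper closed subsets of an
irreducible space.
-/
import Mathlib
import Groth.Agent.Lib.Seat21GVBasic

set_option autoImplicit false
set_option linter.style.haveILetI false
set_option linter.unusedSectionVars false
universe u
open CategoryTheory CategoryTheory.Limits Opposite TopologicalSpace Abelian

namespace Groth.Agent.Lib.Seat21.GV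

open Groth.Agent.Lib.Helper16.ClosedEmb

variable {X : TopCat.{u}}

/-- a sheaf vanishing inside `U` is the direct image of a sheaf on the closed complement -/
theorem subsingleton_H_of_SZ (U : Opens X) (F : CohTop.Ab X) (hF : SZ U F) (p : ℕ)
    (h : Subsingleton (CohTop.H (toZ U F hF) p)) : Subsingleton (CohTop.H F p) := by
  obtain ⟨e⟩ := nonempty_H_push (iZ U) (hiZ U) (toZ U F hF) p
  have h1 : Subsingleton (CohTop.H ((CohTop.push (iZ U)).obj (toZ U F hF)) p) :=
    e.symm.injective.subsingleton
  exact subsingleton_H_of_iso (asIso (θ U F hF)) p h1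

/-- **Reduction to irreducible closed subsets.** -/
theorem subsingleton_H_of_irreducible [NoetherianSpace X] (p : ℕ)
    (hirr : ∀ U : Opens X, IsIrreducible ((U : Set X)ᶜ) →
      ∀ G : CohTop.Ab (TopCat.of ((U : Set X)ᶜ : Set X)), Subsingleton (CohTop.H G p)) :
    ∀ (U : Opens X) (F : CohTop.Ab X), SZ U F → Subsingleton (CohTop.H F p) := by
  intro U
  induction U using WellFoundedGT.induction with
  | ind U ih =>
    intro F hF
    by_cases hne : ((U : Set X)ᶜ).Nonempty
    · by_cases hpre : IsPreirreducible ((U : Set X)ᶜ)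
      · exact subsingleton_H_of_SZ U F hF p (hirr U ⟨hne, hpre⟩ _)
      · rw [isPreirreducible_iff_isClosed_union_isClosed] at hpre
        push Not at hpre
        obtain ⟨z₁, z₂, hz₁, hz₂, hcov, hn₁, hn₂⟩ := hpre
        let U₁ : Opens X := U ⊔ ⟨z₁ᶜ, hz₁.isOpen_compl⟩
        let U₂ : Opens X := U ⊔ ⟨z₂ᶜ, hz₂.isOpen_compl⟩
        have hlt₁ : U < U₁ := by
          refine lt_of_le_of_ne le_sup_left (fun heq => hn₁ (fun x hx => ?_))
          by_contra hxz
          have : x ∈ U₁ := Or.inr hxz
          rw [← heq] at this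
          exact hx this
        have hlt₂ : U < U₂ := by
          refine lt_of_le_of_ne le_sup_left (fun heq => hn₂ (fun x hx => ?_))
          by_contra hxz
          have : x ∈ U₂ := Or.inr hxz
          rw [← heq] at this
          exact hx this
        have hinf : U₁ ⊓ U₂ ≤ U := by
          rintro x ⟨h1, h2⟩
          by_contra hxU
          have hx1 : x ∈ z₁ᶜ := h1.resolve_left hxU
          have hx2 : x ∈ z₂ᶜ := h2.resolve_left hxU
          rcases hcov hxU with h | h
          · exact hx1 h
          · exact hx2 h
        -- kernel and coimage of the restriction to `U₂`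
        have hK : Subsingleton (CohTop.H (kernel (ρ U₂ F)) p) :=
          ih U₂ hlt₂ _ (SZ_kernel_ρ U₂ F)
        have hB := SZ_push_restr U hinf F hF
        have hI : Subsingleton (CohTop.H (Abelian.coimage (ρ U₂ F)) p) :=
          ih U₁ hlt₁ _ (SZ_of_mono U₁ (Abelian.factorThruCoimage (ρ U₂ F)) hB)
        exact subsingleton_H_mid _ (shortExact_kernel_coimage (ρ U₂ F)) p hK hI
    · have hU : U = ⊤ := by
        rw [Set.not_nonempty_iff_eq_empty, Set.compl_empty_iff] at hne
        exact SetLike.coe_injective hne
      subst hU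
      exact subsingleton_H_of_isZero (isZero_of_SZ_top F hF) p

/-- every sheaf vanishes inside `⊥` -/
theorem SZ_bot (F : CohTop.Ab X) : SZ (⊥ : Opens X) F := by
  intro V hV
  exact subsingleton_of_eq_bot F (le_bot_iff.1 hV)

/-! ### dimension -/

theorem isEmpty_of_topologicalKrullDim_lt_zero (T : Type*) [TopologicalSpace T]
    (h : topologicalKrullDim T < 0) : IsEmpty T := by
  by_contra hne
  rw [not_isEmpty_iff] at hne
  obtain ⟨x⟩ := hne
  have : Nonempty (IrreducibleCloseds T) :=
    ⟨⟨closure {x}, isIrreducible_singleton.closure, isClosed_closure⟩⟩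
  have h0 : (0 : WithBot ℕ∞) ≤ topologicalKrullDim T := Order.krullDim_nonneg
  exact absurd h (not_lt.2 h0)

/-- a proper closed subset of an irreducible space has smaller dimension -/
theorem topologicalKrullDim_compl_lt (T : Type*) [TopologicalSpace T] [IrreducibleSpace T]
    (U : Set T) (hU : IsOpen U) (hne : U.Nonempty) (m : ℕ) (h : topologicalKrullDim T < (m + 1 : ℕ)) :
    topologicalKrullDim ↥(Uᶜ) < (m : ℕ) := by
  by_contra hcon
  rw [not_lt] at hcon
  obtain ⟨l, hl⟩ := (Order.le_krullDim_iff (α := IrreducibleCloseds ↥(Uᶜ))).1 hcon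
  let g : IrreducibleCloseds ↥(Uᶜ) → IrreducibleCloseds T :=
    IrreducibleCloseds.map Subtype.val continuous_subtype_val
  have hg : StrictMono g := IrreducibleCloseds.map_strictMono_of_isInducing Topology.IsInducing.subtypeVal
  let top : IrreducibleCloseds T := ⟨Set.univ, IrreducibleSpace.isIrreducible_univ T, isClosed_univ⟩
  have hlt : ∀ a : IrreducibleCloseds ↥(Uᶜ), g a < top := by
    intro a
    have hsub : (g a : Set T) ⊆ Uᶜ := by
      have hcl : IsClosed (Uᶜ : Set T) := hU.isClosed_compl
      change closure (Subtype.val '' (a : Set ↥(Uᶜ))) ⊆ Uᶜ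
      refine closure_minimal ?_ hcl
      rintro _ ⟨y, _, rfl⟩
      exact y.2
    refine lt_of_le_of_ne (fun x _ => trivial) (fun heq => ?_)
    obtain ⟨x, hx⟩ := hne
    have hx' : x ∈ (g a : Set T) := by rw [heq]; trivial
    exact hsub hx' hx
  let l' : LTSeries (IrreducibleCloseds T) := (l.map g hg).snoc top (hlt _)
  have hl' : l'.length = m + 1 := by
    change l.length + 1 = m + 1
    rw [hl]
  have : ((m + 1 : ℕ) : WithBot ℕ∞) ≤ topologicalKrullDim T := by
    rw [← hl']
    exact Order.LTSeries.length_le_krullDim l'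
  exact absurd h (not_lt.2 this)

end Groth.Agent.Lib.Seat21.GV
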