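import Groth.Agent.Lib.Helper4DimFormulaAV

/-!
# Cohen–Macaulay modules of full support over a regular local ring are free (seat 21)

Namespace `Groth.Agent.Lib.Seat21.RegCM`.

* `free_of_cm_of_support_univ` : a finite Cohen–Macaulay module with full support over a regular local ring is free.
* `cm_of_free` : a nonzero finite free module over a regular local ring is Cohen–Macaulay.
-/

set_option autoImplicit false
set_option linter.style.haveILetI false
universe u
open CategoryTheory

namespace Groth.Agent.Lib.Seat21.RegCM

open Groth.Agent.Lib.Helper4.DimFormula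

variable (R : Type u) [CommRing R] [IsRegularLocalRing R] (M : Type u) [AddCommGroup M] [Module R M]
  [Module.Finite R M] [Nontrivial M]

omit [Module.Finite R M] [Nontrivial M] [IsRegularLocalRing R] in
theorem supportDim_eq_of_support_eq_univ (hsupp : Module.support R M = Set.univ) :
    Module.supportDim R M = ringKrullDim R := by
  unfold Module.supportDim ringKrullDim
  rw [hsupp]
  exact Order.krullDim_eq_of_orderIso OrderIso.Set.univ

theorem free_of_cm_of_support_univ (hsupp : Module.support R M = Set.univ)
    (hcm : LocCoh.IsCohenMacaulayModule R M) : Module.Free R M := by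
  have h1 := supportDim_eq_of_support_eq_univ R M hsupp
  have hAB := depth_add_projectiveDimension_eq_ringKrullDim R M
  have hcm' : Module.supportDim R M = ((LocCoh.depth R M : ℕ∞) : WithBot ℕ∞) := hcm
  obtain ⟨d, hd⟩ := Groth.Agent.Lib.Helper5.exists_nat_ringKrullDim_eq R
  obtain ⟨e, he⟩ := exists_nat_projectiveDimension_eq R M
  rw [← hcm', h1, hd, he] at hAB
  have he0 : e = 0 := by
    have : ((d + e : ℕ) : WithBot ℕ∞) = ((d : ℕ) : WithBot ℕ∞) := by
      push_cast
      exact hAB
    have h2 : d + e = d := by exact_mod_cast this
    omega
  subst he0
  have hproj : Projective (ModuleCat.of R M) := ((projectiveDimension_eq_zero_iff _).1 (by exact_mod_cast he)).1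
  haveI : Module.Projective R M := (IsProjective.iff_projective M).2 hproj
  exact Module.free_of_flat_of_isLocalRing

theorem cm_of_free [Module.Free R M] : LocCoh.IsCohenMacaulayModule R M := by
  have hAB := depth_add_projectiveDimension_eq_ringKrullDim R M
  have hproj : Projective (ModuleCat.of R M) := (IsProjective.iff_projective M).1 inferInstance
  have hnz : ¬ Limits.IsZero (ModuleCat.of R M) := by
    intro h
    have : Subsingleton M := ModuleCat.subsingleton_of_isZero h
    exact not_subsingleton M this
  have hpd : projectiveDimension (ModuleCat.of R M) = 0 := (projectiveDimension_eq_zero_iff _).2 ⟨hproj, hnz⟩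
  rw [hpd, add_zero] at hAB
  show Module.supportDim R M = ((LocCoh.depth R M : ℕ∞) : WithBot ℕ∞)
  rw [hAB]
  apply le_antisymm (Module.supportDim_le_ringKrullDim R M)
  rw [← Module.supportDim_self_eq_ringKrullDim]
  -- an injective linear map `R → M`
  let b := Module.Free.chooseBasis R M
  haveI : Nonempty (Module.Free.ChooseBasisIndex R M) := by
    by_contra hne
    rw [not_nonempty_iff] at hne
    have : Subsingleton M := b.repr.toEquiv.subsingleton
    exact not_subsingleton M this
  obtain ⟨i⟩ := ‹Nonempty (Module.Free.ChooseBasisIndex R M)›
  refine Module.supportDim_le_of_injective (LinearMap.toSpanSingleton R M (b i)) ?_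
  intro r s hrs
  have h := congrArg (fun m => b.repr m i) hrs
  simpa using h

end Groth.Agent.Lib.Seat21.RegCM
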