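/-
Seat 21 helper library: a scheme affine and of finite type over a qcqs or Noetherian base is a closed subscheme of a
vector bundle V(E), E quasi-coherent of finite type (EGA II 1.7.15 style).
-/
import Mathlib
import Groth.Prelude.Def_RelSpec
import Groth.Prelude.Def_Coh
import Groth.Agent.Lib.Seat21SubAlgGen
import Groth.Agent.Lib.Helper13SymAlg
import Groth.Agent.Lib.Helper13RelSpecLocal
import Groth.Agent.Lib.Helper10QAffRelSpec
import Groth.Agent.Lib.Helper10AffAlgIso
import Groth.Prelude.Def_Coh

set_option autoImplicit false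
set_option linter.style.haveILetI false
universe u
open CategoryTheory Limits AlgebraicGeometry TopologicalSpace Opposite

namespace Groth.Agent.Lib.Seat21.VBEmb

open Groth.Agent.Lib.Seat21.QSub Groth.Agent.Helper13SymAlg

variable {X Y : Scheme.{u}}

/-- the canonical morphism `X ⟶ Spec (f_* O_X)` is an isomorphism for an affine morphism `f` -/
theorem isIso_can (f : X ⟶ Y) [IsAffineHom f] : IsIso (Groth.Agent.Lib.Helper10.QAffRelSpec.can f) := by
  rw [Groth.Agent.Lib.Helper10.AffAlgIso.main3570 (RelSpec.QCAlg.directImage f).π f _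
    (Groth.Agent.Lib.Helper10.QAffRelSpec.can_π f), Groth.Agent.Lib.Helper10.QAffRelSpec.algHom_can]
  exact Groth.Agent.S8255.result _

/-- a homomorphism of quasi-coherent algebras out of a symmetric algebra is surjective on the sections over an affine
open `U` if the target is generated over `U` by the image of the module -/
theorem surjective_of_closure_eq_top {E : Y.Modules} {A B : RelSpec.QCAlg Y} (j : E ⟶ A.toModule)
    (φ : E ⟶ B.toModule) (ψ : A ⟶ B) (hψ : j ≫ RelSpec.QCAlg.Hom.toModuleMap ψ = φ) (U : Y.Opens)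
    (h : Subring.closure (Set.range (B.str.app (op U)).hom ∪
      Set.range (fun e : E.val.obj (op U) ↦ (show B.presheaf.obj (op U) from (φ.val.app (op U)).hom e))) = ⊤) :
    Function.Surjective (ψ.hom.app (op U)).hom := by
  rw [← RingHom.range_eq_top, eq_top_iff, ← h, Subring.closure_le]
  rintro b (⟨a, rfl⟩ | ⟨e, rfl⟩)
  · refine ⟨(A.str.app (op U)).hom a, ?_⟩
    have h0 := NatTrans.congr_app ψ.comm (op U)
    rw [NatTrans.comp_app] at h0
    exact congrArg (fun t : Γ(Y, U) ⟶ B.presheaf.obj (op U) => t.hom a) h0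
  · refine ⟨(show A.presheaf.obj (op U) from (j.val.app (op U)).hom e), ?_⟩
    subst hψ
    rfl

/-- EGA II 1.7.15-type statement: a scheme affine and of finite type over a quasi-compact quasi-separated (or
Noetherian) base embeds as a closed subscheme of a vector bundle `V(E)` with `E` quasi-coherent of finite type -/
theorem exists_closedImmersion_symAlg (hY : (CompactSpace Y ∧ QuasiSeparatedSpace Y) ∨ NoetherianSpace Y)
    (f : X ⟶ Y) [IsAffineHom f] [LocallyOfFiniteType f] :
    ∃ (E : Y.Modules) (_ : Coh.IsCoh E) (A : RelSpec.QCAlg Y) (j : E ⟶ A.toModule)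
      (_ : RelSpec.IsSymAlg E A j) (i : X ⟶ A.spec), IsClosedImmersion i ∧ i ≫ A.π = f := by
  have hX : HasSubExt Y := by
    rcases hY with ⟨h1, h2⟩ | h
    · exact hasSubExt_of_qcqs
    · exact hasSubExt_of_locallyNoetherian fun x => ⟨⊤, trivial, inferInstance⟩
  haveI : CompactSpace Y := by
    rcases hY with ⟨h1, h2⟩ | h
    · exact h1
    · infer_instance
  have hB : ∀ U : Y.Opens, IsAffineOpen U →
      ((RelSpec.QCAlg.directImage f).str.app (op U)).hom.FiniteType := by
    intro U hU
    have h1 : (f.appLE U (f ⁻¹ᵁ U) le_rfl).hom.FiniteType :=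
      HasRingHomProperty.appLE (P := @LocallyOfFiniteType) f inferInstance ⟨U, hU⟩
        ⟨f ⁻¹ᵁ U, hU.preimage f⟩ le_rfl
    rw [← Scheme.Hom.app_eq_appLE] at h1
    exact h1
  obtain ⟨N, hNq, hNf, hgen⟩ := exists_generating_subSh hX (RelSpec.QCAlg.directImage f) hB
  haveI hEq : N.toModules.IsQuasicoherent := SubSh.isQuasicoherent_toModules hNq
  have hEf : SheafOfModules.IsFiniteType (R := Y.ringCatSheaf) N.toModules := SubSh.isFiniteType_toModules hNq hNf
  refine ⟨N.toModules, ⟨hEq, hEf⟩, symAlg N.toModules, Groth.Agent.Helper13SymAlg.j N.toModules,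
    isSymAlg N.toModules,
    Groth.Agent.Lib.Helper10.QAffRelSpec.can f ≫
      RelSpec.QCAlg.specMap (ψ N.toModules (RelSpec.QCAlg.directImage f) N.ι), ?_, ?_⟩
  · haveI := isIso_can f
    haveI : IsClosedImmersion
        (RelSpec.QCAlg.specMap (ψ N.toModules (RelSpec.QCAlg.directImage f) N.ι)) := by
      refine Groth.Agent.Helper13RelSpecLocal.specMap_of_target_local _ @IsClosedImmersion fun U hU => ?_
      refine IsClosedImmersion.spec_of_surjective _ ?_
      exact surjective_of_closure_eq_top _ N.ι _ (j_ψ N.toModules (RelSpec.QCAlg.directImage f) N.ι) U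
        (closure_eq_top_of_adjoinAt_eq_top _ N U (hgen U hU))
    infer_instance
  · rw [Category.assoc, RelSpec.QCAlg.specMap_π]
    exact Groth.Agent.Lib.Helper10.QAffRelSpec.can_π f

end Groth.Agent.Lib.Seat21.VBEmb
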