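import Mathlib.RingTheory.Flat.FaithfullyFlat.Basic
import Mathlib.RingTheory.LocalRing.MaximalIdeal.Basic

/-!
# Seat22: flatness descends through a faithfully flat module

If `M` is a faithfully flat `B`-module which is flat over `A` (with `A → B` an algebra and compatible
actions), then `B` is flat over `A`.
-/

set_option autoImplicit false

namespace Groth.Agent.Lib.Seat22.FFlatDesc

open TensorProduct

/-- If `M` is a faithfully flat `B`-module which is flat as an `A`-module, then `B` is a flat
`A`-module. -/
theorem flat_of_faithfullyFlat_module (A B M : Type*) [CommRing A] [CommRing B] [Algebra A B]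
    [AddCommGroup M] [Module A M] [Module B M] [IsScalarTower A B M]
    [Module.FaithfullyFlat B M] [Module.Flat A M] : Module.Flat A B := by
  rw [Module.Flat.iff_lTensor_preserves_injective_linearMap]
  intro N P _ _ _ _ f hf
  -- the `B`-linear version of `f.lTensor B`
  let fB : B ⊗[A] N →ₗ[B] B ⊗[A] P := f.baseChange B
  have hfB : (fB : B ⊗[A] N → B ⊗[A] P) = f.lTensor B := by
    ext x
    rfl
  rw [← hfB, ← Module.FaithfullyFlat.lTensor_injective_iff_injective B M]
  have key : ∀ t : M ⊗[B] (B ⊗[A] N),
      AlgebraTensorModule.cancelBaseChange A B B M P (fB.lTensor M t) =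
        f.lTensor M (AlgebraTensorModule.cancelBaseChange A B B M N t) := by
    intro t
    induction t using TensorProduct.induction_on with
    | zero => simp
    | add x y hx hy => simp only [map_add, hx, hy]
    | tmul m bn =>
      induction bn using TensorProduct.induction_on with
      | zero => simp
      | add x y hx hy => simp only [tmul_add, map_add, hx, hy]
      | tmul b n => simp [fB]
  have hinj : Function.Injective (f.lTensor M) :=
    Module.Flat.lTensor_preserves_injective_linearMap f hf
  intro s t hst
  apply (AlgebraTensorModule.cancelBaseChange A B B M N).injective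
  apply hinj
  rw [← key, ← key, hst]

/-- A flat module `M` over a local ring `B` with `𝔪 M ≠ M` is faithfully flat. -/
theorem faithfullyFlat_of_flat_of_maximalIdeal_smul_ne_top (B M : Type*) [CommRing B] [IsLocalRing B]
    [AddCommGroup M] [Module B M] [Module.Flat B M]
    (h : IsLocalRing.maximalIdeal B • (⊤ : Submodule B M) ≠ ⊤) : Module.FaithfullyFlat B M := by
  refine ⟨fun {m} hm => ?_⟩
  rw [IsLocalRing.eq_maximalIdeal hm]
  exact h

end Groth.Agent.Lib.Seat22.FFlatDesc
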