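import Mathlib
import Groth.Agent.Lib.Helper3FlatModelMod

/-!
# Kernel of a surjection onto a flat finitely presented module (seat 22)

`B` a finitely presented `R`-algebra, `G`, `H` finitely presented `B`-modules, `H` flat over `R`,
`p : G → H` surjective. Then `ker p` is a finitely presented `B`-module.
(Noetherian approximation through `Helper3.FlatModelMod.exists_flat_module_model`.)
-/

set_option autoImplicit false
set_option linter.style.haveILetI false
universe u
open TensorProduct

namespace Groth.Agent.Lib.Seat22.KerFP

section theta
variable {B : Type*} [CommRing B] {F G H : Type*} [AddCommGroup F] [AddCommGroup G] [AddCommGroup H]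
  [Module B F] [Module B G] [Module B H]

/-- If `H` has one surjection from a finite free module with finitely presented kernel, then
every surjection from a finitely presented module onto `H` has finitely presented kernel. -/
theorem finitePresentation_ker_of_presentation [Module.Free B F] [Module.Finite B F]
    [Module.FinitePresentation B G]
    (π : F →ₗ[B] H) (hπ : Function.Surjective π) [Module.FinitePresentation B (LinearMap.ker π)]
    (p : G →ₗ[B] H) (hp : Function.Surjective p) :
    Module.FinitePresentation B (LinearMap.ker p) := by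
  obtain ⟨lam, hlam⟩ := Module.projective_lifting_property p π hp
  have hlam' : ∀ x, p (lam x) = π x := fun x => congr($hlam x)
  let θ : (F × LinearMap.ker p) →ₗ[B] G := lam.coprod (LinearMap.ker p).subtype
  have hθapp : ∀ z : F × LinearMap.ker p, θ z = lam z.1 + (z.2 : G) := fun z => by
    simp [θ, LinearMap.coprod_apply]
  have hθ : Function.Surjective θ := by
    intro y
    obtain ⟨x, hx⟩ := hπ (p y)
    have hk : y - lam x ∈ LinearMap.ker p := by
      rw [LinearMap.mem_ker, map_sub, hlam', hx, sub_self]
    refine ⟨(x, ⟨y - lam x, hk⟩), ?_⟩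
    rw [hθapp]
    simp
  -- `ker θ ≅ ker π`
  let j : LinearMap.ker π →ₗ[B] LinearMap.ker θ :=
    LinearMap.codRestrict (LinearMap.ker θ)
      ((LinearMap.inl B F (LinearMap.ker p)).comp (LinearMap.ker π).subtype -
        (LinearMap.inr B F (LinearMap.ker p)).comp
          (LinearMap.codRestrict (LinearMap.ker p) (lam.comp (LinearMap.ker π).subtype)
            (fun x => by
              rw [LinearMap.mem_ker, LinearMap.comp_apply, hlam']
              exact x.2)))
      (fun x => by
        rw [LinearMap.mem_ker, hθapp]
        simp)
  have hjapp : ∀ x : LinearMap.ker π, ((j x : F × LinearMap.ker p)).1 = (x : F) := fun x => by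
    simp [j]
  have hjinj : Function.Injective j := by
    intro x y hxy
    apply Subtype.ext
    rw [← hjapp x, ← hjapp y, hxy]
  have hjsurj : Function.Surjective j := by
    rintro ⟨⟨x, k⟩, hz⟩
    have hz' : lam x + (k : G) = 0 := by
      have := LinearMap.mem_ker.mp hz
      rwa [hθapp] at this
    have hxπ : x ∈ LinearMap.ker π := by
      rw [LinearMap.mem_ker, ← hlam', eq_neg_of_add_eq_zero_left hz', map_neg,
        LinearMap.mem_ker.mp k.2, neg_zero]
    refine ⟨⟨x, hxπ⟩, ?_⟩
    apply Subtype.ext
    apply Prod.ext
    · exact hjapp ⟨x, hxπ⟩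
    · apply Subtype.ext
      have : ((j ⟨x, hxπ⟩ : F × LinearMap.ker p).2 : G) = - lam x := by
        simp [j]
      rw [this]
      exact (eq_neg_of_add_eq_zero_right hz').symm
  haveI : Module.FinitePresentation B (LinearMap.ker θ) :=
    Module.FinitePresentation.of_equiv (LinearEquiv.ofBijective j ⟨hjinj, hjsurj⟩)
  haveI : Module.FinitePresentation B (F × LinearMap.ker p) :=
    Module.finitePresentation_of_ker θ hθ
  refine Module.finitePresentation_of_surjective (LinearMap.snd B F (LinearMap.ker p))
    Prod.snd_surjective ?_
  rw [LinearMap.ker_snd, LinearMap.range_eq_map]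
  exact Submodule.FG.map _ Module.Finite.fg_top

end theta


section main

open Groth.Agent.Lib.Helper3.FlatModelMod in
/-- **Kernel of a surjection onto a flat finitely presented module is finitely presented.**
`B` a finitely presented `R`-algebra, `G`, `H` finitely presented `B`-modules, `H` flat over `R`,
`p : G → H` surjective. -/
theorem finitePresentation_ker (R : Type u) [CommRing R]
    (B : Type u) [CommRing B] [Algebra R B] [Algebra.FinitePresentation R B]
    (H : Type u) [AddCommGroup H] [Module B H] [Module R H] [IsScalarTower R B H]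
    [Module.FinitePresentation B H] [Module.Flat R H]
    {G : Type*} [AddCommGroup G] [Module B G] [Module.FinitePresentation B G]
    (p : G →ₗ[B] H) (hp : Function.Surjective p) :
    Module.FinitePresentation B (LinearMap.ker p) := by
  obtain ⟨R₀, _, _, B₀, _, _, _, _, _, _, H₀, _, _, _, _, _, _, f, hR₀, hB₀, hfin, hflat, hpo, hbc⟩ :=
    exists_flat_module_model R B H
  haveI : IsNoetherianRing R₀ := Algebra.FiniteType.isNoetherianRing ℤ R₀
  haveI : IsNoetherianRing B₀ := Algebra.FiniteType.isNoetherianRing R₀ B₀
  obtain ⟨n, π₀, hπ₀⟩ := Module.Finite.exists_fin' B₀ H₀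
  set K₀ := LinearMap.ker π₀ with hK₀
  haveI : Module.Finite B₀ K₀ := Module.IsNoetherian.finite B₀ K₀
  haveI : Module.FinitePresentation B₀ K₀ := Module.finitePresentation_of_finite B₀ K₀
  -- injectivity after base change to `R`
  have hinjR : Function.Injective ((K₀.subtype.restrictScalars R₀).lTensor R) :=
    LinearMap.lTensor_injective_of_exact_of_flat (π₀.restrictScalars R₀) hπ₀
      (K₀.subtype.restrictScalars R₀) K₀.subtype_injective
      (LinearMap.exact_subtype_ker_map π₀) R
  -- transport to `B ⊗[B₀] -`
  let eK := Algebra.IsPushout.cancelBaseChange R₀ R B₀ B K₀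
  let eF := Algebra.IsPushout.cancelBaseChange R₀ R B₀ B (Fin n → B₀)
  have hcomm : ∀ z : R ⊗[R₀] K₀, (K₀.subtype.baseChange B) (eK.symm z) =
      eF.symm ((K₀.subtype.restrictScalars R₀).lTensor R z) := by
    intro z
    induction z with
    | zero => simp
    | add x y hx hy => simp only [map_add, hx, hy]
    | tmul r k =>
      simp only [eK, eF, Algebra.IsPushout.cancelBaseChange_symm_tmul, LinearMap.baseChange_tmul,
        LinearMap.lTensor_tmul]
      rfl
  have hinjB : Function.Injective (K₀.subtype.baseChange B) := by
    intro x y hxy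
    obtain ⟨x, rfl⟩ := eK.symm.surjective x
    obtain ⟨y, rfl⟩ := eK.symm.surjective y
    rw [hcomm, hcomm] at hxy
    rw [hinjR (eF.symm.injective hxy)]
  have hexB : Function.Exact (K₀.subtype.baseChange B) (π₀.baseChange B) :=
    lTensor_exact B (LinearMap.exact_subtype_ker_map π₀) hπ₀
  have hsurjB : Function.Surjective (π₀.baseChange B) := LinearMap.lTensor_surjective B hπ₀
  let π : B ⊗[B₀] (Fin n → B₀) →ₗ[B] H := hbc.equiv.toLinearMap ∘ₗ π₀.baseChange B
  have hπ : Function.Surjective π := hbc.equiv.surjective.comp hsurjB
  have hker : LinearMap.ker π = LinearMap.range (K₀.subtype.baseChange B) := by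
    rw [← LinearMap.exact_iff.mp hexB]
    exact LinearMap.ker_comp_of_ker_eq_bot _ (LinearMap.ker_eq_bot.mpr hbc.equiv.injective)
  haveI : Module.FinitePresentation B (LinearMap.ker π) := by
    rw [hker]
    have e : (B ⊗[B₀] K₀) ≃ₗ[B] LinearMap.range (K₀.subtype.baseChange B) :=
      LinearEquiv.ofInjective _ hinjB
    have h1 : Module.FinitePresentation B (B ⊗[B₀] K₀) := inferInstance
    exact Module.FinitePresentation.of_equiv (R := B) (M := B ⊗[B₀] K₀)
      (N := LinearMap.range (K₀.subtype.baseChange B)) e
  exact finitePresentation_ker_of_presentation π hπ p hp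

end main

end Groth.Agent.Lib.Seat22.KerFP
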