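import Mathlib
import Groth.Agent.Lib.Helper3FlatOpenFP

/-!
# Local criterion of flatness without Noetherian hypotheses, presented modules (seat 22)

For the presented module `M = R[X]^ι / K_w` over a polynomial ring and a prime `q` of `R[X]` over `p = q ∩ R`:
if the kernel of `M ⊗ p → M` is killed locally at `q` (i.e. `Tor₁^R(M_q, R/p) = 0`), then `M_q` is flat over `R`.
This is the observation that the proof of local descent of flatness in `Helper3FlatDescC` only uses the
ideal `p`.
-/

set_option autoImplicit false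
set_option linter.style.haveILetI false

universe u

namespace Groth.Agent.Lib.Seat22.LocCritA

open TensorProduct MvPolynomial Groth.Agent.Lib.Helper3.FlatLoc Groth.Agent.Lib.Helper3.FlatDesc
  Groth.Agent.Lib.Helper3.FlatOpen

attribute [local instance] MvPolynomial.algebraMvPolynomial

variable {Λ R : Type u} [CommRing Λ] [CommRing R] [Algebra Λ R]
  {σ ι κ : Type} [Finite σ] [Fintype ι] [DecidableEq ι] [Fintype κ]
  (w : κ → ι → MvPolynomial σ Λ)

/-- Consequence of `Tor₁(M_q, R/p) = 0` at the top level: the finitely many torsion conditions. -/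
theorem exists_torsion_top' (q : Ideal (MvPolynomial σ R)) [q.IsPrime]
    (hT : ∀ z : ((ι → MvPolynomial σ R) ⧸ KT w (MvPolynomial σ R)) ⊗[R]
        (q.comap (algebraMap R (MvPolynomial σ R)) : Ideal R),
      (q.comap (algebraMap R (MvPolynomial σ R))).subtype.lTensor
        ((ι → MvPolynomial σ R) ⧸ KT w (MvPolynomial σ R)) z = 0 → ∃ s ∈ q.primeCompl, s • z = 0)
    (y : ι → MvPolynomial σ Λ) (hyK : y ∈ KT w (MvPolynomial σ Λ))
    (hyp : ∀ i, y i ∈ ((q.comap (algebraMap R (MvPolynomial σ R))).comap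
      (algebraMap Λ R)).map (C (σ := σ))) :
    ∃ s ∈ q.primeCompl, ∃ e : κ → MvPolynomial σ R,
      (∀ l, e l ∈ (q.comap (algebraMap R (MvPolynomial σ R))).map (C (σ := σ))) ∧
      WT w (MvPolynomial σ R) e = s • Fmap (MvPolynomial σ Λ) (MvPolynomial σ R) ι y := by
  set p : Ideal R := q.comap (algebraMap R (MvPolynomial σ R)) with hp
  have hF : Function.Injective (p.subtype.lTensor (ι → MvPolynomial σ R)) :=
    Module.Flat.lTensor_preserves_injective_linearMap _ Subtype.val_injective
  have hK := (kernel_torsion_iff (KT w (MvPolynomial σ R)) p q.primeCompl hF).mp hT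
  have hsm := Ideal.smul_restrictScalars (S := MvPolynomial σ R) p
    (⊤ : Submodule (MvPolynomial σ R) (ι → MvPolynomial σ R))
  rw [Submodule.restrictScalars_top, MvPolynomial.algebraMap_eq] at hsm
  have hsm2 := Ideal.smul_restrictScalars (S := MvPolynomial σ R) p (KT w (MvPolynomial σ R))
  rw [MvPolynomial.algebraMap_eq] at hsm2
  have h1 : Fmap (MvPolynomial σ Λ) (MvPolynomial σ R) ι y ∈ p • (⊤ : Submodule R _) := by
    rw [← hsm, Submodule.restrictScalars_mem, mem_smul_top_pi_iff]
    intro i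
    rw [Fmap_apply, MvPolynomial.algebraMap_def]
    exact map_mem_map_C _ p (hyp i)
  obtain ⟨s, hs, hsy⟩ := hK _ (Fmap_mem_KT w _ _ hyK) h1
  rw [← hsm2, Submodule.restrictScalars_mem, mem_smul_KT_iff] at hsy
  obtain ⟨e, he, hew⟩ := hsy
  exact ⟨s, hs, e, he, hew⟩

/-- **Local descent of flatness from the vanishing of `Tor₁(M_q, R/p)`**. -/
theorem exists_fg_subalgebra_flat' [IsNoetherianRing Λ] (q : Ideal (MvPolynomial σ R))
    [q.IsPrime]
    (hT : ∀ z : ((ι → MvPolynomial σ R) ⧸ KT w (MvPolynomial σ R)) ⊗[R]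
        (q.comap (algebraMap R (MvPolynomial σ R)) : Ideal R),
      (q.comap (algebraMap R (MvPolynomial σ R))).subtype.lTensor
        ((ι → MvPolynomial σ R) ⧸ KT w (MvPolynomial σ R)) z = 0 → ∃ s ∈ q.primeCompl, s • z = 0)
    (extra : Finset R) :
    ∃ A : Subalgebra Λ R, A.FG ∧ (extra : Set R) ⊆ A ∧
      Module.Flat A (LocalizedModule
        (q.comap (algebraMap (MvPolynomial σ A) (MvPolynomial σ R))).primeCompl
        ((ι → MvPolynomial σ A) ⧸ KT w (MvPolynomial σ A))) := by
  classical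
  set p : Ideal R := q.comap (algebraMap R (MvPolynomial σ R)) with hp
  set p₀ : Ideal Λ := p.comap (algebraMap Λ R) with hp₀
  let Y₀ : Submodule (MvPolynomial σ Λ) (ι → MvPolynomial σ Λ) :=
    KT w (MvPolynomial σ Λ) ⊓ Submodule.pi Set.univ (fun _ => p₀.map (C (σ := σ)))
  obtain ⟨G, hG⟩ : Y₀.FG := IsNoetherian.noetherian Y₀
  have hGY : ∀ y ∈ G, y ∈ KT w (MvPolynomial σ Λ) ∧ ∀ i, y i ∈ p₀.map (C (σ := σ)) := by
    intro y hy
    have : y ∈ Y₀ := hG ▸ Submodule.subset_span hy
    exact ⟨this.1, fun i => this.2 i (Set.mem_univ i)⟩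
  have hex : ∀ y, ∃ (s : MvPolynomial σ R) (e : κ → MvPolynomial σ R), y ∈ G →
      s ∈ q.primeCompl ∧ (∀ l, e l ∈ p.map (C (σ := σ))) ∧
      WT w (MvPolynomial σ R) e = s • Fmap (MvPolynomial σ Λ) (MvPolynomial σ R) ι y := by
    intro y
    by_cases hy : y ∈ G
    · obtain ⟨s, hs, e, he, hew⟩ := exists_torsion_top' w q hT y (hGY y hy).1 (hGY y hy).2
      exact ⟨s, e, fun _ => ⟨hs, he, hew⟩⟩
    · exact ⟨0, 0, fun h => absurd h hy⟩
  choose s e hse using hex
  let cs : Finset R := extra ∪ G.biUnion fun y =>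
    (s y).coeffs ∪ Finset.univ.biUnion fun l => (e y l).coeffs
  let A : Subalgebra Λ R := Algebra.adjoin Λ (cs : Set R)
  have hAfg : A.FG := Subalgebra.fg_adjoin_finset cs
  have hcsA : ∀ c ∈ cs, c ∈ A := fun c hc => Algebra.subset_adjoin hc
  have hlift : ∀ f : MvPolynomial σ R, f.coeffs ⊆ cs →
      ∃ f' : MvPolynomial σ A, algebraMap (MvPolynomial σ A) (MvPolynomial σ R) f' = f := by
    intro f hf
    rw [MvPolynomial.algebraMap_def]
    apply MvPolynomial.mem_range_map_iff_coeffs_subset.mpr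
    intro c hc
    exact ⟨⟨c, hcsA c (hf hc)⟩, rfl⟩
  refine ⟨A, hAfg, fun c hc => hcsA c (Finset.mem_union_left _ hc), ?_⟩
  haveI : Algebra.FiniteType Λ A := (Subalgebra.fg_iff_finiteType A).mp hAfg
  haveI : IsNoetherianRing A := Algebra.FiniteType.isNoetherianRing Λ A
  haveI := isScalarTower_mvPolynomial (σ := σ) Λ A R
  set qA : Ideal (MvPolynomial σ A) :=
    q.comap (algebraMap (MvPolynomial σ A) (MvPolynomial σ R)) with hqA
  have hinj : Function.Injective (Fmap (MvPolynomial σ A) (MvPolynomial σ R) ι) := by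
    intro a b hab
    ext i : 1
    have := congrFun hab i
    rw [Fmap_apply, Fmap_apply, MvPolynomial.algebraMap_def] at this
    exact MvPolynomial.map_injective _ Subtype.val_injective this
  have hpA : ∀ a : A, a ∈ qA.comap (algebraMap A (MvPolynomial σ A)) ↔ (a : R) ∈ p := by
    intro a
    rw [Ideal.mem_comap, hqA, Ideal.mem_comap, hp, Ideal.mem_comap, MvPolynomial.algebraMap_eq,
      MvPolynomial.algebraMap_eq, MvPolynomial.algebraMap_def, MvPolynomial.map_C]
    rfl
  have hp₀A : (qA.comap (algebraMap A (MvPolynomial σ A))).comap (algebraMap Λ A) = p₀ := by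
    ext x
    rw [Ideal.mem_comap, hpA, hp₀, Ideal.mem_comap]
    rfl
  refine flat_level w qA G ?_ ?_
  · intro y hyK hyp
    rw [hp₀A] at hyp
    rw [hG]
    exact ⟨hyK, fun i _ => hyp i⟩
  · intro y hy
    obtain ⟨hs, he, hew⟩ := hse y hy
    obtain ⟨s', hs'⟩ := hlift (s y) (fun c hc => Finset.mem_union_right _
      (Finset.mem_biUnion.mpr ⟨y, hy, Finset.mem_union_left _ hc⟩))
    have hl : ∀ l, ∃ f' : MvPolynomial σ A,
        algebraMap (MvPolynomial σ A) (MvPolynomial σ R) f' = e y l := fun l =>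
      hlift (e y l) (fun c hc => Finset.mem_union_right _
        (Finset.mem_biUnion.mpr ⟨y, hy, Finset.mem_union_right _
          (Finset.mem_biUnion.mpr ⟨l, Finset.mem_univ l, hc⟩)⟩))
    choose e' he' using hl
    refine ⟨s', ?_, ?_⟩
    · intro h
      apply hs
      rw [← hs']
      exact h
    · rw [mem_smul_KT_iff]
      refine ⟨e', ?_, ?_⟩
      · intro l
        rw [MvPolynomial.mem_map_C_iff]
        intro m
        rw [hpA]
        have := he l
        rw [MvPolynomial.mem_map_C_iff] at this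
        have h2 := this m
        rw [← he' l, MvPolynomial.algebraMap_def, MvPolynomial.coeff_map] at h2
        exact h2
      · apply hinj
        rw [← WT_Fmap, Fmap_smul', Fmap_Fmap, hs', ← hew]
        congr 1
        ext l : 1
        exact he' l

/-- **Local criterion of flatness, presented form**: if `Tor₁^R(M_q, R/p) = 0` for `p = q ∩ R`, then `M_q` is flat
over `R`. -/
theorem flat_localizedModule_of_tor [IsNoetherianRing Λ] (q : Ideal (MvPolynomial σ R))
    [q.IsPrime]
    (hT : ∀ z : ((ι → MvPolynomial σ R) ⧸ KT w (MvPolynomial σ R)) ⊗[R]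
        (q.comap (algebraMap R (MvPolynomial σ R)) : Ideal R),
      (q.comap (algebraMap R (MvPolynomial σ R))).subtype.lTensor
        ((ι → MvPolynomial σ R) ⧸ KT w (MvPolynomial σ R)) z = 0 → ∃ s ∈ q.primeCompl, s • z = 0) :
    Module.Flat R (LocalizedModule q.primeCompl
      ((ι → MvPolynomial σ R) ⧸ KT w (MvPolynomial σ R))) := by
  obtain ⟨A, -, -, hA⟩ := exists_fg_subalgebra_flat' w q hT ∅
  exact flat_of_flat_subalgebra w A q hA

end Groth.Agent.Lib.Seat22.LocCritA
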