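import Mathlib
import Groth.Agent.Lib.Seat22LocCritA

/-!
# Local criterion of flatness without Noetherian hypotheses, finitely presented modules (seat 22)

`S` a finitely presented `R`-algebra, `M` a finitely presented `S`-module, `q` a prime of `S`, `p = q ∩ R`.
If `p ⊗_R M_q → M_q` is injective (i.e. `Tor₁^R(M_q, R/p) = 0`), then `M_q` is flat over `R`.
-/

set_option autoImplicit false
set_option linter.style.haveILetI false

universe u

namespace Groth.Agent.Lib.Seat22.LocCritB

open TensorProduct MvPolynomial Groth.Agent.Lib.Helper3.FlatLoc Groth.Agent.Lib.Helper3.FlatDesc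
  Groth.Agent.Lib.Helper3.FlatOpen Groth.Agent.Lib.Seat22.LocCritA

attribute [local instance] MvPolynomial.algebraMvPolynomial

/-- Transport of the torsion condition at an ideal along a linear equivalence. -/
theorem tor_cond_of_linearEquiv {R S M M' : Type*} [CommRing R] [CommRing S]
    [Algebra R S] [AddCommGroup M] [Module R M] [Module S M] [IsScalarTower R S M]
    [AddCommGroup M'] [Module R M'] [Module S M'] [IsScalarTower R S M'] (e : M ≃ₗ[S] M')
    (T : Submonoid S) (I : Ideal R)
    (h : ∀ z : M ⊗[R] I, I.subtype.lTensor M z = 0 → ∃ s ∈ T, s • z = 0) :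
    ∀ z : M' ⊗[R] I, I.subtype.lTensor M' z = 0 → ∃ s ∈ T, s • z = 0 := by
  intro z' hz'
  let eR : M ≃ₗ[R] M' := e.restrictScalars R
  obtain ⟨z, rfl⟩ : ∃ z, eR.toLinearMap.rTensor I z = z' :=
    ⟨eR.symm.toLinearMap.rTensor I z', by
      rw [← LinearMap.comp_apply, ← LinearMap.rTensor_comp]
      simp⟩
  have hz : I.subtype.lTensor M z = 0 := by
    have h1 : eR.toLinearMap.rTensor R (I.subtype.lTensor M z) = 0 := by
      rw [← LinearMap.comp_apply, LinearMap.rTensor_comp_lTensor, ← LinearMap.lTensor_comp_rTensor,
        LinearMap.comp_apply, hz']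
    have hinj : Function.Injective (eR.toLinearMap.rTensor R) := by
      have : eR.toLinearMap.rTensor R = (TensorProduct.congr eR (LinearEquiv.refl R R)).toLinearMap := by
        ext; simp
      rw [this]
      exact LinearEquiv.injective _
    exact hinj (by rw [h1, map_zero])
  obtain ⟨s, hs, hsz⟩ := h z hz
  refine ⟨s, hs, ?_⟩
  have comp : ∀ z : M ⊗[R] I, eR.toLinearMap.rTensor I (s • z) =
      s • eR.toLinearMap.rTensor I z := by
    intro z
    induction z with
    | zero => simp
    | add a b ha hb => simp only [smul_add, map_add, ha, hb]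
    | tmul m i =>
      rw [smul_tmul', LinearMap.rTensor_tmul, LinearMap.rTensor_tmul, smul_tmul']
      congr 1
      exact map_smul e s m
  rw [← comp, hsz, map_zero]

/-- Local criterion for finitely presented modules over polynomial rings. -/
theorem flat_localizedModule_mvPolynomial_of_tor {R : Type u} [CommRing R] {n : ℕ} {M : Type u}
    [AddCommGroup M] [Module (MvPolynomial (Fin n) R) M] [Module R M]
    [IsScalarTower R (MvPolynomial (Fin n) R) M]
    [Module.FinitePresentation (MvPolynomial (Fin n) R) M]
    (q : Ideal (MvPolynomial (Fin n) R)) [q.IsPrime] (p : Ideal R)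
    (hp : p = q.comap (algebraMap R (MvPolynomial (Fin n) R)))
    (hT : ∀ z : M ⊗[R] p, p.subtype.lTensor M z = 0 → ∃ s ∈ q.primeCompl, s • z = 0) :
    Module.Flat R (LocalizedModule q.primeCompl M) := by
  classical
  subst hp
  obtain ⟨k, m, π, g, hπ, hex⟩ :=
    Module.FinitePresentation.exists_fin' (MvPolynomial (Fin n) R) M
  let v : Fin m → Fin k → MvPolynomial (Fin n) R := fun j => g (Pi.single j 1)
  let cs : Finset R := Finset.univ.biUnion fun j => Finset.univ.biUnion fun i => (v j i).coeffs
  let Λ : Subalgebra ℤ R := Algebra.adjoin ℤ (cs : Set R)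
  haveI : Algebra.FiniteType ℤ Λ :=
    (Subalgebra.fg_iff_finiteType Λ).mp (Subalgebra.fg_adjoin_finset cs)
  haveI : IsNoetherianRing Λ := Algebra.FiniteType.isNoetherianRing ℤ Λ
  have hw : ∀ j i, ∃ f : MvPolynomial (Fin n) Λ,
      MvPolynomial.map (algebraMap Λ R) f = v j i := by
    intro j i
    apply MvPolynomial.mem_range_map_iff_coeffs_subset.mpr
    intro c hc
    refine ⟨⟨c, Algebra.subset_adjoin ?_⟩, rfl⟩
    exact Finset.mem_biUnion.mpr ⟨j, Finset.mem_univ j,
      Finset.mem_biUnion.mpr ⟨i, Finset.mem_univ i, hc⟩⟩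
  choose w hw using hw
  have hwT : wT w (MvPolynomial (Fin n) R) = v := by
    ext j i : 2
    exact hw j i
  have hg : WT w (MvPolynomial (Fin n) R) = g := by
    apply LinearMap.ext
    intro a
    rw [WT_apply, hwT, LinearMap.pi_apply_eq_sum_univ g a]
    refine Finset.sum_congr rfl fun j _ => ?_
    have hsingle : (Pi.single j 1 : Fin m → MvPolynomial (Fin n) R) =
        fun j' => if j = j' then 1 else 0 := by
      funext j'
      simp [Pi.single_apply, eq_comm]
    change a j • g (Pi.single j 1) = _
    rw [hsingle]
  have hK : KT w (MvPolynomial (Fin n) R) = LinearMap.ker π := by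
    rw [KT, hg]
    exact (LinearMap.exact_iff.mp hex).symm
  let e : ((Fin k → MvPolynomial (Fin n) R) ⧸ KT w (MvPolynomial (Fin n) R)) ≃ₗ[
      MvPolynomial (Fin n) R] M :=
    (Submodule.quotEquivOfEq _ _ hK) ≪≫ₗ (LinearMap.quotKerEquivOfSurjective π hπ)
  have hT' := tor_cond_of_linearEquiv e.symm q.primeCompl _ hT
  exact flat_localizedModule_of_linearEquiv e _ (flat_localizedModule_of_tor (R := R) w q hT')

/-- **Local criterion of flatness** for a finitely presented module over a finitely presented algebra, at a prime `q`: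
the vanishing of `Tor₁^R(M_q, R/p)` for `p = q ∩ R` (elementwise form) implies that `M_q` is `R`-flat. -/
theorem flat_localizedModule_of_tor_fp {R S M : Type u} [CommRing R] [CommRing S]
    [Algebra R S] [Algebra.FinitePresentation R S] [AddCommGroup M] [Module S M] [Module R M]
    [IsScalarTower R S M] [Module.FinitePresentation S M] (q : Ideal S) [q.IsPrime] (p : Ideal R)
    (hp : p = q.comap (algebraMap R S))
    (hT : ∀ z : M ⊗[R] p, p.subtype.lTensor M z = 0 → ∃ s ∈ q.primeCompl, s • z = 0) :
    Module.Flat R (LocalizedModule q.primeCompl M) := by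
  obtain ⟨n, f, hf, hker⟩ := Algebra.FinitePresentation.out (R := R) (A := S)
  letI : Algebra (MvPolynomial (Fin n) R) S := f.toRingHom.toAlgebra
  haveI : IsScalarTower R (MvPolynomial (Fin n) R) S :=
    .of_algebraMap_eq' f.comp_algebraMap.symm
  letI : Module (MvPolynomial (Fin n) R) M := Module.compHom M f.toRingHom
  haveI : IsScalarTower (MvPolynomial (Fin n) R) S M :=
    ⟨fun p s m => by
      change (f p * s) • m = f p • (s • m)
      rw [mul_smul]⟩
  haveI : IsScalarTower R (MvPolynomial (Fin n) R) M :=
    ⟨fun r p m => by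
      change f (r • p) • m = r • (f p • m)
      rw [map_smul, smul_assoc]⟩
  haveI : Module.FinitePresentation (MvPolynomial (Fin n) R) S :=
    Module.finitePresentation_of_surjective (Algebra.linearMap (MvPolynomial (Fin n) R) S) hf
      hker
  haveI : Module.FinitePresentation (MvPolynomial (Fin n) R) M :=
    Module.FinitePresentation.trans (MvPolynomial (Fin n) R) M S
  have key : ∀ (P : MvPolynomial (Fin n) R) (z : M ⊗[R] p),
      P • z = algebraMap (MvPolynomial (Fin n) R) S P • z := by
    intro P z
    induction z with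
    | zero => simp
    | add a b ha hb => simp only [smul_add, ha, hb]
    | tmul m i => rw [smul_tmul', smul_tmul', algebraMap_smul]
  have hp' : p = (q.comap (algebraMap (MvPolynomial (Fin n) R) S)).comap
      (algebraMap R (MvPolynomial (Fin n) R)) := by
    rw [hp, Ideal.comap_comap, ← IsScalarTower.algebraMap_eq]
  have hflat := flat_localizedModule_mvPolynomial_of_tor (R := R) (n := n) (M := M)
    (q.comap (algebraMap (MvPolynomial (Fin n) R) S)) p hp' (by
      intro z hz
      obtain ⟨s, hs, hsz⟩ := hT z hz
      obtain ⟨P, rfl⟩ := hf s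
      exact ⟨P, hs, by rw [key]; exact hsz⟩)
  exact (flat_localizedModule_comap_iff (R := R) (P := MvPolynomial (Fin n) R) hf q).mp hflat

/-- The same with the hypothesis stated as injectivity of `p ⊗ M_q → M_q`. -/
theorem flat_localizedModule_of_lTensor_injective {R S M : Type u} [CommRing R] [CommRing S]
    [Algebra R S] [Algebra.FinitePresentation R S] [AddCommGroup M] [Module S M] [Module R M]
    [IsScalarTower R S M] [Module.FinitePresentation S M] (q : Ideal S) [q.IsPrime] (p : Ideal R)
    (hp : p = q.comap (algebraMap R S))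
    (hT : Function.Injective (p.subtype.lTensor (LocalizedModule q.primeCompl M))) :
    Module.Flat R (LocalizedModule q.primeCompl M) :=
  flat_localizedModule_of_tor_fp q p hp
    ((lTensor_localizedModule_injective_iff q.primeCompl p.subtype).mp hT)

end Groth.Agent.Lib.Seat22.LocCritB
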