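import Mathlib

/-!
# Flatness over a base `R` and (faithfully) flat extension of the middle ring

For rings `R → S`, an `S`-module `X` (also an `R`-module, compatibly) and a flat `S`-module `P`:
`P ⊗[S] X` is `R`-flat if `X` is, and conversely if `P` is faithfully flat over `S`.
-/

set_option autoImplicit false
set_option linter.style.haveILetI false
universe u

namespace Groth.Agent.Lib.Seat6.FlatLocal

open TensorProduct

section Tensor

variable {R S : Type u} [CommRing R] [CommRing S] [Algebra R S]
  (P : Type u) [AddCommGroup P] [Module S P] [Module R P] [IsScalarTower R S P]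
  (X : Type u) [AddCommGroup X] [Module S X] [Module R X] [IsScalarTower R S X]

/-- conjugation identity: `(P ⊗[S] X) ⊗[R] f` corresponds to `P ⊗[S] (X ⊗[R] f)`. -/
theorem assoc_comp_lTensor {K L : Type u} [AddCommGroup K] [AddCommGroup L] [Module R K]
    [Module R L] (f : K →ₗ[R] L) :
    (AlgebraTensorModule.assoc R S S P X L).toLinearMap.restrictScalars R ∘ₗ
        (f.lTensor (P ⊗[S] X)) =
      ((AlgebraTensorModule.lTensor S X f).lTensor P).restrictScalars R ∘ₗ
        (AlgebraTensorModule.assoc R S S P X K).toLinearMap.restrictScalars R := by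
  refine TensorProduct.ext' fun p k => ?_
  induction p using TensorProduct.induction_on with
  | zero => simp
  | tmul p x => simp
  | add a b ha hb =>
    simp only [LinearMap.comp_apply] at ha hb ⊢
    rw [add_tmul, map_add, map_add, ha, hb, map_add, map_add]

/-- `P` flat over `S`, `X` flat over `R` ⟹ `P ⊗[S] X` flat over `R`. -/
theorem flat_tensor_of_flat [Module.Flat S P] [Module.Flat R X] : Module.Flat R (P ⊗[S] X) := by
  rw [Module.Flat.iff_lTensor_preserves_injective_linearMap]
  intro K L _ _ _ _ f hf
  have h1 : Function.Injective (AlgebraTensorModule.lTensor S X f) := by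
    have : ⇑(AlgebraTensorModule.lTensor S X f) = ⇑(f.lTensor X) := rfl
    rw [this]
    exact Module.Flat.lTensor_preserves_injective_linearMap f hf
  have h2 := Module.Flat.lTensor_preserves_injective_linearMap (M := P) _ h1
  have h3 : Function.Injective
      ((AlgebraTensorModule.assoc R S S P X L).toLinearMap.restrictScalars R ∘ₗ
        (f.lTensor (P ⊗[S] X))) := by
    rw [assoc_comp_lTensor P X f]
    exact h2.comp (AlgebraTensorModule.assoc R S S P X K).injective
  exact Function.Injective.of_comp h3

/-- `P` faithfully flat over `S`, `P ⊗[S] X` flat over `R` ⟹ `X` flat over `R`. -/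
theorem flat_of_faithfullyFlat_tensor [Module.FaithfullyFlat S P] [Module.Flat R (P ⊗[S] X)] :
    Module.Flat R X := by
  rw [Module.Flat.iff_lTensor_preserves_injective_linearMap]
  intro K L _ _ _ _ f hf
  have h1 : Function.Injective (f.lTensor (P ⊗[S] X)) :=
    Module.Flat.lTensor_preserves_injective_linearMap f hf
  have h3 : Function.Injective
      (((AlgebraTensorModule.lTensor S X f).lTensor P).restrictScalars R ∘ₗ
        (AlgebraTensorModule.assoc R S S P X K).toLinearMap.restrictScalars R) := by
    rw [← assoc_comp_lTensor P X f]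
    exact (AlgebraTensorModule.assoc R S S P X L).injective.comp h1
  have h4 : Function.Injective ((AlgebraTensorModule.lTensor S X f).lTensor P) := by
    intro a b hab
    obtain ⟨a', rfl⟩ := (AlgebraTensorModule.assoc R S S P X K).surjective a
    obtain ⟨b', rfl⟩ := (AlgebraTensorModule.assoc R S S P X K).surjective b
    exact congrArg _ (h3 hab)
  have h5 : Function.Injective (AlgebraTensorModule.lTensor S X f) :=
    (Module.FaithfullyFlat.lTensor_injective_iff_injective S P _).1 h4
  exact h5

end Tensor

section BaseChange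

variable {R S T : Type u} [CommRing R] [CommRing S] [CommRing T] [Algebra R S] [Algebra S T]
  [Algebra R T] [IsScalarTower R S T]
  {X : Type u} [AddCommGroup X] [Module S X] [Module R X] [IsScalarTower R S X]
  {Y : Type u} [AddCommGroup Y] [Module T Y] [Module S Y] [IsScalarTower S T Y] [Module R Y]
  [IsScalarTower R T Y]

/-- flatness over `R` passes to a base change along a flat map `S → T` of the middle ring. -/
theorem flat_of_isBaseChange_of_flat [Module.Flat S T] [Module.Flat R X] (h : X →ₗ[S] Y)
    (hbc : IsBaseChange T h) : Module.Flat R Y := by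
  have := flat_tensor_of_flat (R := R) (S := S) T X
  exact Module.Flat.of_linearEquiv (hbc.equiv.restrictScalars R).symm

/-- flatness over `R` descends along a faithfully flat map `S → T` of the middle ring. -/
theorem flat_of_isBaseChange_of_faithfullyFlat [Module.FaithfullyFlat S T] [Module.Flat R Y]
    (h : X →ₗ[S] Y) (hbc : IsBaseChange T h) : Module.Flat R X := by
  have : Module.Flat R (T ⊗[S] X) := Module.Flat.of_linearEquiv (hbc.equiv.restrictScalars R)
  exact flat_of_faithfullyFlat_tensor (R := R) (S := S) T X

end BaseChange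

section Square

/-- Base change commutes with base change: given `f : X₀ → Y₀` a base change along `S₀ → T₀`,
`a : X₀ → X` a base change along `S₀ → S` and `b : Y₀ → Y` a base change along `T₀ → T`, with a
commutative square of rings, the induced map `X → Y` is a base change along `S → T`. -/
theorem exists_isBaseChange_of_square {S₀ T₀ S T : Type u} [CommRing S₀] [CommRing T₀] [CommRing S]
    [CommRing T] [Algebra S₀ T₀] [Algebra S₀ S] [Algebra T₀ T] [Algebra S T] [Algebra S₀ T]
    [IsScalarTower S₀ S T] [IsScalarTower S₀ T₀ T]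
    {X₀ Y₀ X Y : Type u} [AddCommGroup X₀] [AddCommGroup Y₀] [AddCommGroup X] [AddCommGroup Y]
    [Module S₀ X₀] [Module S₀ Y₀] [Module T₀ Y₀] [IsScalarTower S₀ T₀ Y₀]
    [Module S₀ X] [Module S X] [IsScalarTower S₀ S X]
    [Module S₀ Y] [Module T₀ Y] [Module S Y] [Module T Y] [IsScalarTower S₀ T₀ Y]
    [IsScalarTower T₀ T Y] [IsScalarTower S₀ S Y] [IsScalarTower S T Y] [IsScalarTower S₀ T Y]
    (f : X₀ →ₗ[S₀] Y₀) (hf : IsBaseChange T₀ f) (a : X₀ →ₗ[S₀] X) (ha : IsBaseChange S a)
    (b : Y₀ →ₗ[T₀] Y) (hb : IsBaseChange T b) :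
    ∃ h : X →ₗ[S] Y, IsBaseChange T h ∧ ∀ x, h (a x) = b (f x) := by
  have hbf : IsBaseChange T ((b.restrictScalars S₀).comp f) := IsBaseChange.comp hf hb
  refine ⟨ha.lift ((b.restrictScalars S₀).comp f), ?_, fun x => ?_⟩
  · refine IsBaseChange.of_comp ha ?_
    convert hbf using 1
    ext x
    simp [IsBaseChange.lift_eq]
  · simp [IsBaseChange.lift_eq]

end Square

section PrimeOver

open IsLocalRing

/-- In a pushout `C' = C ⊗[B] B'` along a local homomorphism of local rings `B → C`, every prime
`q'` of `B'` containing `𝔪_B B'` is the contraction of a prime of `C'` containing `𝔪_C C'`. -/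
theorem exists_prime_comap_eq_of_isPushout {B C B' C' : Type u} [CommRing B] [IsLocalRing B]
    [CommRing C] [IsLocalRing C] [Algebra B C] [IsLocalHom (algebraMap B C)]
    [CommRing B'] [CommRing C'] [Algebra B B'] [Algebra B C'] [Algebra C C'] [Algebra B' C']
    [IsScalarTower B C C'] [IsScalarTower B B' C'] [Algebra.IsPushout B C B' C']
    (q' : Ideal B') [q'.IsPrime] (hq : (maximalIdeal B).map (algebraMap B B') ≤ q') :
    ∃ Q : Ideal C', Q.IsPrime ∧ Q.comap (algebraMap B' C') = q' ∧
      (maximalIdeal C).map (algebraMap C C') ≤ Q := by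
  let K := q'.ResidueField
  let φ : B →+* K := (algebraMap B' K).comp (algebraMap B B')
  have hφ : IsLocalHom φ := by
    refine ⟨fun b hb => ?_⟩
    by_contra hb'
    have h1 : b ∈ maximalIdeal B := (mem_maximalIdeal b).2 hb'
    have h2 : algebraMap B B' b ∈ q' := hq (Ideal.mem_map_of_mem _ h1)
    have h3 : φ b = 0 := Ideal.algebraMap_residueField_eq_zero.2 h2
    rw [h3] at hb
    exact not_isUnit_zero hb
  let ψ : ResidueField B →+* K := ResidueField.lift φ
  letI : Algebra (ResidueField B) K := ψ.toAlgebra
  let T := K ⊗[ResidueField B] ResidueField C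
  have hT : Nontrivial T := inferInstance
  obtain ⟨𝔫, h𝔫⟩ := Ideal.exists_maximal T
  let Ω := T ⧸ 𝔫
  letI : Field Ω := Ideal.Quotient.field 𝔫
  let gB' : B' →+* Ω := (Ideal.Quotient.mk 𝔫).comp
    ((Algebra.TensorProduct.includeLeftRingHom).comp (algebraMap B' K))
  let gC : C →+* Ω := (Ideal.Quotient.mk 𝔫).comp
    ((Algebra.TensorProduct.includeRight (R := ResidueField B) (A := K)
      (B := ResidueField C)).toRingHom.comp (residue C))
  letI : Algebra B Ω := (gB'.comp (algebraMap B B')).toAlgebra
  have hcompat : ∀ b : B, gC (algebraMap B C b) = gB' (algebraMap B B' b) := by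
    intro b
    simp only [gC, gB', RingHom.comp_apply, AlgHom.toRingHom_eq_coe, RingHom.coe_coe,
      Algebra.TensorProduct.includeRight_apply, Algebra.TensorProduct.includeLeftRingHom_apply]
    congr 1
    have h1 : residue C (algebraMap B C b) = algebraMap (ResidueField B) (ResidueField C)
        (residue B b) := (ResidueField.algebraMap_residue b).symm
    have h2 : algebraMap B' K (algebraMap B B' b) = algebraMap (ResidueField B) K (residue B b) := by
      change φ b = ψ (residue B b)
      exact (ResidueField.lift_residue_apply φ b).symm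
    rw [h1, h2, Algebra.algebraMap_eq_smul_one, Algebra.algebraMap_eq_smul_one (A := K),
      TensorProduct.smul_tmul]
  let fB' : B' →ₐ[B] Ω := { gB' with commutes' := fun b => rfl }
  let fC : C →ₐ[B] Ω := { gC with commutes' := fun b => hcompat b }
  let χ : C' →ₐ[B] Ω := Algebra.pushoutDesc C' fC fB' (fun x y => mul_comm _ _)
  have hχB' : ∀ x : B', χ (algebraMap B' C' x) = gB' x :=
    fun x => Algebra.pushoutDesc_right C' fC fB' _ x
  have hχC : ∀ x : C, χ (algebraMap C C' x) = gC x :=
    fun x => Algebra.pushoutDesc_left C' fC fB' _ x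
  refine ⟨RingHom.ker χ.toRingHom, RingHom.ker_isPrime _, ?_, ?_⟩
  · ext x
    rw [Ideal.mem_comap, RingHom.mem_ker]
    change χ (algebraMap B' C' x) = 0 ↔ _
    rw [hχB']
    have hinj : Function.Injective ((Ideal.Quotient.mk 𝔫).comp
        (Algebra.TensorProduct.includeLeftRingHom : K →+* T)) := RingHom.injective _
    change ((Ideal.Quotient.mk 𝔫).comp (Algebra.TensorProduct.includeLeftRingHom : K →+* T))
      (algebraMap B' K x) = 0 ↔ _
    rw [map_eq_zero_iff _ hinj, Ideal.algebraMap_residueField_eq_zero]
  · rw [Ideal.map_le_iff_le_comap]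
    intro c hc
    rw [Ideal.mem_comap, RingHom.mem_ker]
    change χ (algebraMap C C' c) = 0
    rw [hχC]
    have : residue C c = 0 := (residue_eq_zero_iff c).2 hc
    simp only [gC, RingHom.comp_apply, this, map_zero]

end PrimeOver

end Groth.Agent.Lib.Seat6.FlatLocal
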