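import Mathlib
import Groth.Agent.Lib.Seat6FlatLocal

/-!
# Flatness over a base ring of localizations of a module over an algebra

For `R → S`, an `S`-module `N` (compatibly an `R`-module) and a submonoid `W` of `S`:
`W⁻¹N` is `R`-flat iff `N_Q` is `R`-flat for all primes `Q` of `S` disjoint from `W`.
-/

set_option autoImplicit false
set_option linter.style.haveILetI false
universe u

namespace Groth.Agent.Lib.Seat6.FlatLocus

open TensorProduct Groth.Agent.Lib.Seat6.FlatLocal

variable {R S : Type u} [CommRing R] [CommRing S] [Algebra R S]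
  {N : Type u} [AddCommGroup N] [Module S N] [Module R N] [IsScalarTower R S N]

/-- localization of a localization is a localization (module version, for `W ≤ W'`). -/
theorem isLocalizedModule_lift (W W' : Submonoid S) (hW : W ≤ W')
    {NW NW' : Type u} [AddCommGroup NW] [Module S NW] [AddCommGroup NW'] [Module S NW']
    (f : N →ₗ[S] NW) [IsLocalizedModule W f] (f' : N →ₗ[S] NW') [IsLocalizedModule W' f']
    (g : NW →ₗ[S] NW') (hg : ∀ n, g (f n) = f' n) : IsLocalizedModule W' g where
  map_units s := IsLocalizedModule.map_units f' s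
  surj y := by
    obtain ⟨⟨n, s⟩, hs⟩ := IsLocalizedModule.surj W' f' y
    exact ⟨⟨f n, s⟩, by rw [hg]; exact hs⟩
  exists_of_eq {x₁ x₂} h := by
    obtain ⟨⟨n₁, w₁⟩, h₁⟩ := IsLocalizedModule.surj W f x₁
    obtain ⟨⟨n₂, w₂⟩, h₂⟩ := IsLocalizedModule.surj W f x₂
    simp only [Submonoid.smul_def] at h₁ h₂
    have e1 : f' ((w₂ : S) • n₁) = f' ((w₁ : S) • n₂) := by
      have a1 : f' ((w₂ : S) • n₁) = (w₂ : S) • (w₁ : S) • g x₁ := by
        rw [map_smul, ← hg, ← h₁, map_smul]
      have a2 : f' ((w₁ : S) • n₂) = (w₁ : S) • (w₂ : S) • g x₂ := by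
        rw [map_smul, ← hg, ← h₂, map_smul]
      rw [a1, a2, h, smul_comm]
    obtain ⟨c, hc⟩ := IsLocalizedModule.exists_of_eq (S := W') (f := f') e1
    rw [Submonoid.smul_def, Submonoid.smul_def] at hc
    refine ⟨c * ⟨w₁ * w₂, hW (W.mul_mem w₁.2 w₂.2)⟩, ?_⟩
    have e2 : f ((c : S) • (w₂ : S) • n₁) = f ((c : S) • (w₁ : S) • n₂) := by rw [hc]
    rw [map_smul, map_smul, map_smul, map_smul, ← h₁, ← h₂] at e2
    rw [Submonoid.smul_def, Submonoid.smul_def, Submonoid.coe_mul]
    simp only [mul_smul]
    rw [smul_comm (w₁ : S) (w₂ : S) x₁]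
    exact e2

/-- If `W⁻¹N` is `R`-flat then so is `N_Q` for every prime `Q` disjoint from `W`. -/
theorem flat_localizedModule_atPrime_of_flat (W : Submonoid S) {NW : Type u} [AddCommGroup NW]
    [Module S NW] [Module R NW] [IsScalarTower R S NW] (f : N →ₗ[S] NW) [IsLocalizedModule W f]
    [Module.Flat R NW] (Q : Ideal S) [Q.IsPrime] (hQ : W ≤ Q.primeCompl) :
    Module.Flat R (LocalizedModule Q.primeCompl N) := by
  let g : NW →ₗ[S] LocalizedModule Q.primeCompl N :=
    IsLocalizedModule.lift W f (LocalizedModule.mkLinearMap Q.primeCompl N)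
      (fun w => IsLocalizedModule.map_units (LocalizedModule.mkLinearMap Q.primeCompl N)
        ⟨w, hQ w.2⟩)
  have hg : ∀ n, g (f n) = LocalizedModule.mkLinearMap Q.primeCompl N n :=
    fun n => IsLocalizedModule.lift_apply W f _ _ n
  haveI := isLocalizedModule_lift W Q.primeCompl hQ f
    (LocalizedModule.mkLinearMap Q.primeCompl N) g hg
  have hbc : IsBaseChange (Localization.AtPrime Q) g :=
    IsLocalizedModule.isBaseChange Q.primeCompl _ g
  exact flat_of_isBaseChange_of_flat (R := R) (S := S) (T := Localization.AtPrime Q) g hbc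

/-- If `N_Q` is `R`-flat for every prime `Q` disjoint from `W`, then `W⁻¹N` is `R`-flat. -/
theorem flat_localizedModule_of_forall (W : Submonoid S)
    (H : ∀ (Q : Ideal S) [Q.IsPrime], W ≤ Q.primeCompl →
      Module.Flat R (LocalizedModule Q.primeCompl N)) :
    Module.Flat R (LocalizedModule W N) := by
  refine Module.flat_of_isLocalized_maximal (Localization W) (LocalizedModule W N)
    (fun P _ => LocalizedModule P.primeCompl (LocalizedModule W N))
    (fun P _ => LocalizedModule.mkLinearMap P.primeCompl (LocalizedModule W N)) ?_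
  intro P hP
  let Q := P.comap (algebraMap S (Localization W))
  have hQW : W ≤ Q.primeCompl := by
    intro w hw hwQ
    have h1 : algebraMap S (Localization W) w ∈ P := hwQ
    exact hP.ne_top (P.eq_top_of_isUnit_mem h1 (IsLocalization.map_units _ ⟨w, hw⟩))
  have hflat := H Q hQW
  let k : N →ₗ[S] LocalizedModule P.primeCompl (LocalizedModule W N) :=
    ((LocalizedModule.mkLinearMap P.primeCompl (LocalizedModule W N)).restrictScalars S).comp
      (LocalizedModule.mkLinearMap W N)
  have hb : IsBaseChange (Localization.AtPrime P) k :=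
    IsBaseChange.comp (IsLocalizedModule.isBaseChange W (Localization W)
      (LocalizedModule.mkLinearMap W N))
      (IsLocalizedModule.isBaseChange P.primeCompl (Localization.AtPrime P)
        (LocalizedModule.mkLinearMap P.primeCompl (LocalizedModule W N)))
  haveI : IsLocalizedModule Q.primeCompl k :=
    (isLocalizedModule_iff_isBaseChange Q.primeCompl (Localization.AtPrime P) k).2 hb
  let e := IsLocalizedModule.iso Q.primeCompl k
  exact Module.Flat.of_linearEquiv (e.restrictScalars R).symm

end Groth.Agent.Lib.Seat6.FlatLocus
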