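import Mathlib
import Groth.Prelude.Def_FlatCA

/-!
# Content ideals and universal injectivity (Seat 6)

* `tmul_one_eq_zero_iff`: `1 ⊗ y = 0` in `(A ⧸ I) ⊗ Y` iff `y ∈ I Y`.
* `exists_content_of_projective`: elements of projective modules have (finitely generated)
  content ideals.
* `mem_smul_top_of_map_mem_smul_top`: if every element of `N` has a finitely generated content
  ideal, `M` is flat and `u : N → M` is injective modulo every maximal ideal, then
  `u x ∈ I M → x ∈ I N` for every ideal `I`.
* `univInj_of_forall_ideal`: for `M` flat, this last property implies universal injectivity.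
-/

set_option autoImplicit false

universe u v w

namespace Groth.Agent.Lib.Seat6.Content

open TensorProduct Pointwise

section Basic

variable {A : Type u} [CommRing A]

theorem tmul_one_eq_zero_iff (I : Ideal A) {Y : Type v} [AddCommGroup Y] [Module A Y] (y : Y) :
    (1 : A ⧸ I) ⊗ₜ[A] y = 0 ↔ y ∈ (I • ⊤ : Submodule A Y) := by
  rw [← (TensorProduct.quotTensorEquivQuotSMul Y I).map_eq_zero_iff]
  have : (TensorProduct.quotTensorEquivQuotSMul Y I) ((1 : A ⧸ I) ⊗ₜ[A] y) =
      Submodule.Quotient.mk y := by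
    have := TensorProduct.quotTensorEquivQuotSMul_mk_tmul I (1 : A) y
    rwa [map_one, one_smul] at this
  rw [this, Submodule.Quotient.mk_eq_zero]

/-- If `u x ∈ I M` then `1 ⊗ x` is killed by `lTensor (A ⧸ I) u`. -/
theorem lTensor_tmul_one_eq_zero {N : Type v} {M : Type w} [AddCommGroup N] [Module A N]
    [AddCommGroup M] [Module A M] (u : N →ₗ[A] M) (I : Ideal A) (x : N)
    (h : u x ∈ (I • ⊤ : Submodule A M)) : (u.lTensor (A ⧸ I)) ((1 : A ⧸ I) ⊗ₜ[A] x) = 0 := by
  rw [LinearMap.lTensor_tmul, tmul_one_eq_zero_iff]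
  exact h

/-- Elements of a projective module have finitely generated content ideals. -/
theorem exists_content_of_projective {P : Type v} [AddCommGroup P] [Module A P]
    [Module.Projective A P] (x : P) :
    ∃ I : Ideal A, I.FG ∧ x ∈ (I • ⊤ : Submodule A P) ∧
      ∀ J : Ideal A, x ∈ (J • ⊤ : Submodule A P) → I ≤ J := by
  classical
  obtain ⟨s, hs⟩ := Module.projective_def'.1 (inferInstance : Module.Projective A P)
  set v : P →₀ A := s x with hv
  refine ⟨Ideal.span ((v.support.image v : Finset A) : Set A), ⟨_, rfl⟩, ?_, ?_⟩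
  · have hx : x = Finsupp.linearCombination A id v := by
      have := LinearMap.congr_fun hs x
      simpa using this.symm
    rw [hx, Finsupp.linearCombination_apply, Finsupp.sum]
    refine Submodule.sum_mem _ fun p hp => ?_
    refine Submodule.smul_mem_smul (Ideal.subset_span ?_) Submodule.mem_top
    exact Finset.mem_coe.2 (Finset.mem_image_of_mem v hp)
  · intro J hJ
    rw [Ideal.span_le]
    intro a ha
    obtain ⟨p, _, rfl⟩ := Finset.mem_image.1 (Finset.mem_coe.1 ha)
    -- the coordinate functional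
    let ℓ : P →ₗ[A] A := (Finsupp.lapply p : (P →₀ A) →ₗ[A] A).comp s
    have h1 : ℓ x ∈ (J • ⊤ : Submodule A A) := by
      have := Submodule.smul_top_le_comap_smul_top J ℓ hJ
      exact this
    have h2 : (J • ⊤ : Submodule A A) = J := by
      rw [smul_eq_mul, Ideal.mul_top]
    rw [h2] at h1
    exact h1

end Basic

section Key

variable {A : Type u} [CommRing A] {N : Type v} {M : Type w} [AddCommGroup N] [Module A N]
  [AddCommGroup M] [Module A M]

/-- For a flat module `M`: if `a z ∈ d M` then `1 ⊗ z = 0` in `(A ⧸ (d : a)) ⊗ M`. -/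
theorem tmul_one_eq_zero_of_smul_mem [Module.Flat A M] (d : Ideal A) (a : A) (z : M)
    (h : a • z ∈ (d • ⊤ : Submodule A M)) :
    (1 : A ⧸ (Submodule.colon d {a} : Ideal A)) ⊗ₜ[A] z = 0 := by
  set m : Ideal A := Submodule.colon d {a} with hm
  -- multiplication by `a` induces an injective map `A ⧸ m → A ⧸ d`
  have hle : m ≤ Submodule.comap (LinearMap.mulRight A a) d := by
    intro r hr
    rw [Submodule.mem_comap, LinearMap.mulRight_apply]
    have := Submodule.mem_colon_singleton.1 hr
    simpa [smul_eq_mul] using this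
  let μ : (A ⧸ m) →ₗ[A] (A ⧸ d) := Submodule.mapQ m d (LinearMap.mulRight A a) hle
  have hμ : Function.Injective μ := by
    rw [← LinearMap.ker_eq_bot, Submodule.ker_mapQ, eq_bot_iff]
    rintro _ ⟨r, hr, rfl⟩
    rw [Submodule.mem_bot, Submodule.mkQ_apply, Submodule.Quotient.mk_eq_zero]
    rw [SetLike.mem_coe, Submodule.mem_comap, LinearMap.mulRight_apply] at hr
    rw [hm, Submodule.mem_colon_singleton]
    simpa [smul_eq_mul] using hr
  have hinj : Function.Injective (LinearMap.rTensor M μ) :=
    Module.Flat.rTensor_preserves_injective_linearMap μ hμ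
  apply hinj
  rw [map_zero, LinearMap.rTensor_tmul]
  have h1 : μ (1 : A ⧸ m) = a • (1 : A ⧸ d) := by
    show μ (Submodule.Quotient.mk (1 : A)) = a • (Submodule.Quotient.mk (1 : A))
    rw [Submodule.mapQ_apply, LinearMap.mulRight_apply, one_mul, ← Submodule.Quotient.mk_smul,
      smul_eq_mul, mul_one]
  rw [h1, TensorProduct.smul_tmul, tmul_one_eq_zero_iff]
  exact h

/-- The key Nakayama-type argument (Stacks 05FZ-style): if elements of `N` have finitely generated
content ideals, `M` is flat, and `u : N → M` is injective modulo every maximal ideal, then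
`u x ∈ I M` implies `x ∈ I N`. -/
theorem mem_smul_top_of_map_mem_smul_top [Module.Flat A M] (u : N →ₗ[A] M)
    (hcont : ∀ x : N, ∃ c : Ideal A, c.FG ∧ x ∈ (c • ⊤ : Submodule A N) ∧
      ∀ J : Ideal A, x ∈ (J • ⊤ : Submodule A N) → c ≤ J)
    (hmax : ∀ (m : Ideal A) [m.IsMaximal], Function.Injective (u.lTensor (A ⧸ m)))
    (I : Ideal A) (x : N) (hx : u x ∈ (I • ⊤ : Submodule A M)) :
    x ∈ (I • ⊤ : Submodule A N) := by
  obtain ⟨c, hcfg, hxc, hcmin⟩ := hcont x
  by_contra hxI
  have hcI : ¬ c ≤ I := fun h => hxI (Submodule.smul_mono_left h hxc)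
  set J : Ideal A := I ⊓ c with hJ
  have hJc : J < c := lt_of_le_of_ne inf_le_right (fun h => hcI (by rw [← h]; exact inf_le_left))
  -- a coatom `c'` of `[⊥, c]` containing `J`
  have hcompact : IsCompactElement c := (Submodule.fg_iff_compact c).1 hcfg
  have := CompleteLattice.Iic_coatomic_of_compact_element hcompact
  rcases eq_top_or_exists_le_coatom (⟨J, hJc.le⟩ : Set.Iic c) with h | ⟨⟨c', hc'c⟩, hcoatom, hJc'⟩
  · have : J = c := congrArg Subtype.val h
    exact hJc.ne this
  have hJc'' : J ≤ c' := hJc'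
  have hc'lt : c' < c := by
    refine lt_of_le_of_ne hc'c (fun h => hcoatom.1 ?_)
    exact Subtype.ext h
  have hcoat : ∀ d : Ideal A, d ≤ c → c' < d → d = c := by
    intro d hdc hd
    have := hcoatom.2 (⟨d, hdc⟩ : Set.Iic c) hd
    exact congrArg Subtype.val this
  obtain ⟨a, hac, hac'⟩ := SetLike.exists_of_lt hc'lt
  -- the ideal `d = c' ⊔ I` meets `c` in `c'`
  set d : Ideal A := c' ⊔ I with hd
  have hdc : d ⊓ c = c' := by
    rw [hd, sup_inf_assoc_of_le I hc'c]
    exact sup_eq_left.2 hJc''
  have had : a ∉ d := fun h => hac' (by rw [← hdc]; exact ⟨h, hac⟩)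
  set m : Ideal A := Submodule.colon d {a} with hm
  have hmem : ∀ r : A, r ∈ m ↔ r * a ∈ d := fun r => by
    rw [hm, Submodule.mem_colon_singleton, smul_eq_mul]
  have hmmax : m.IsMaximal := by
    rw [Ideal.isMaximal_iff]
    refine ⟨fun h => had (by simpa using (hmem 1).1 h), fun K r hmK hr hrK => ?_⟩
    have hra : r * a ∉ c' := fun h => hr ((hmem r).2 (le_sup_left (a := c') (b := I) h))
    have hrac : r * a ∈ c := c.mul_mem_left r hac
    have hsup : c' ⊔ Ideal.span {r * a} = c := by
      refine hcoat _ (sup_le hc'c ((Ideal.span_singleton_le_iff_mem c).2 hrac)) ?_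
      refine lt_of_le_of_ne le_sup_left (fun h => hra ?_)
      rw [h]
      exact le_sup_right (a := c') (Ideal.mem_span_singleton_self _)
    have ha' : a ∈ c' ⊔ Ideal.span {r * a} := by rw [hsup]; exact hac
    obtain ⟨y, hy, z, hz, hyz⟩ := Submodule.mem_sup.1 ha'
    obtain ⟨s, rfl⟩ := Ideal.mem_span_singleton'.1 hz
    have h1 : (1 - s * r) * a ∈ d := by
      have : (1 - s * r) * a = y := by linear_combination -hyz
      rw [this]
      exact le_sup_left (a := c') (b := I) hy
    have h2 : 1 - s * r ∈ K := hmK ((hmem _).2 h1)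
    have h3 : s * r ∈ K := K.mul_mem_left s hrK
    have : (1 : A) = (1 - s * r) + s * r := by ring
    rw [this]
    exact K.add_mem h2 h3
  -- decompose `x`
  have hsupc : c' ⊔ Ideal.span {a} = c := by
    refine hcoat _ (sup_le hc'c ((Ideal.span_singleton_le_iff_mem c).2 hac)) ?_
    refine lt_of_le_of_ne le_sup_left (fun h => hac' ?_)
    rw [h]
    exact le_sup_right (a := c') (Ideal.mem_span_singleton_self _)
  have hxc' : x ∈ (c' • ⊤ : Submodule A N) ⊔ a • (⊤ : Submodule A N) := by
    rw [← Submodule.ideal_span_singleton_smul, ← Submodule.sup_smul, hsupc]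
    exact hxc
  obtain ⟨y, hy, z, hz, hyz⟩ := Submodule.mem_sup.1 hxc'
  obtain ⟨n, -, rfl⟩ := (Submodule.mem_smul_pointwise_iff_exists _ _ _).1 hz
  -- `a • u n ∈ d M`
  have huy : u y ∈ (d • ⊤ : Submodule A M) :=
    Submodule.smul_mono_left (le_sup_left (a := c') (b := I))
      (Submodule.smul_top_le_comap_smul_top c' u hy)
  have hux : u x ∈ (d • ⊤ : Submodule A M) :=
    Submodule.smul_mono_left (le_sup_right (a := c') (b := I)) hx
  have haun : a • u n ∈ (d • ⊤ : Submodule A M) := by
    have : a • u n = u x - u y := by rw [← hyz, map_add, map_smul]; abel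
    rw [this]
    exact Submodule.sub_mem _ hux huy
  have h1 : (1 : A ⧸ m) ⊗ₜ[A] u n = 0 := tmul_one_eq_zero_of_smul_mem d a (u n) haun
  have h2 : (u.lTensor (A ⧸ m)) ((1 : A ⧸ m) ⊗ₜ[A] n) = 0 := by
    rw [LinearMap.lTensor_tmul]; exact h1
  have h3 : (1 : A ⧸ m) ⊗ₜ[A] n = 0 := hmax m (by rw [h2, map_zero])
  have h4 : n ∈ (m • ⊤ : Submodule A N) := (tmul_one_eq_zero_iff m n).1 h3
  have h5 : a • n ∈ (c' • ⊤ : Submodule A N) := by
    refine Submodule.smul_induction_on h4 (fun r hr k _ => ?_) (fun k₁ k₂ h₁ h₂ => ?_)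
    · rw [← mul_smul]
      refine Submodule.smul_mem_smul ?_ Submodule.mem_top
      rw [← hdc]
      refine ⟨?_, c.mul_mem_right r hac⟩
      rw [mul_comm]
      exact (hmem r).1 hr
    · rw [smul_add]; exact Submodule.add_mem _ h₁ h₂
  have h6 : x ∈ (c' • ⊤ : Submodule A N) := by
    rw [← hyz]; exact Submodule.add_mem _ hy h5
  exact absurd (hcmin c' h6) (not_le_of_gt hc'lt)

end Key

section UnivInj

variable {A : Type u} [CommRing A] {N M : Type u} [AddCommGroup N] [Module A N]
  [AddCommGroup M] [Module A M]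

/-- The multiplication map `I ⊗ Y → Y`. -/
noncomputable def mulMap (I : Ideal A) (Y : Type v) [AddCommGroup Y] [Module A Y] :
    (I ⊗[A] Y) →ₗ[A] Y :=
  (TensorProduct.lid A Y).toLinearMap ∘ₗ (LinearMap.rTensor Y I.subtype)

@[simp] theorem mulMap_tmul (I : Ideal A) (Y : Type v) [AddCommGroup Y] [Module A Y] (i : I)
    (y : Y) : mulMap I Y (i ⊗ₜ y) = (i : A) • y := by
  simp [mulMap]

theorem mulMap_naturality (I : Ideal A) {Y : Type v} {Z : Type w} [AddCommGroup Y] [Module A Y]
    [AddCommGroup Z] [Module A Z] (f : Y →ₗ[A] Z) (t : I ⊗[A] Y) :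
    mulMap I Z ((LinearMap.lTensor I f) t) = f (mulMap I Y t) := by
  induction t with
  | zero => simp
  | tmul i y => simp
  | add t₁ t₂ h₁ h₂ => simp [h₁, h₂]

theorem range_mulMap (I : Ideal A) (Y : Type v) [AddCommGroup Y] [Module A Y] :
    LinearMap.range (mulMap I Y) = (I • ⊤ : Submodule A Y) := by
  apply le_antisymm
  · rintro _ ⟨t, rfl⟩
    induction t with
    | zero => simp
    | tmul i y =>
      rw [mulMap_tmul]
      exact Submodule.smul_mem_smul i.2 Submodule.mem_top
    | add t₁ t₂ h₁ h₂ => rw [map_add]; exact Submodule.add_mem _ h₁ h₂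
  · rw [Submodule.smul_le]
    intro r hr y _
    exact ⟨(⟨r, hr⟩ : I) ⊗ₜ y, by simp⟩

theorem mulMap_injective_of_flat (I : Ideal A) (Y : Type v) [AddCommGroup Y] [Module A Y]
    [Module.Flat A Y] : Function.Injective (mulMap I Y) := by
  have := (Module.Flat.iff_rTensor_injective'.1 (inferInstance : Module.Flat A Y)) I
  exact (TensorProduct.lid A Y).injective.comp this

/-- If `M` is flat and `u x ∈ I M → x ∈ I N` for all ideals `I`, then the cokernel of `u` is
flat. -/
theorem flat_coker_of_forall_ideal [Module.Flat A M] (u : N →ₗ[A] M)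
    (h : ∀ (I : Ideal A) (x : N), u x ∈ (I • ⊤ : Submodule A M) → x ∈ (I • ⊤ : Submodule A N)) :
    Module.Flat A (M ⧸ LinearMap.range u) := by
  rw [Module.Flat.iff_rTensor_injective']
  intro I
  set π : M →ₗ[A] (M ⧸ LinearMap.range u) := (LinearMap.range u).mkQ with hπ
  have hπsurj : Function.Surjective π := Submodule.mkQ_surjective _
  have hπu : π ∘ₗ u = 0 := by
    ext x
    simp [hπ]
  suffices hmul : Function.Injective (mulMap I (M ⧸ LinearMap.range u)) by
    intro w₁ w₂ hw
    apply hmul
    simp only [mulMap, LinearMap.comp_apply, hw]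
  rw [injective_iff_map_eq_zero]
  intro w hw
  obtain ⟨w', rfl⟩ := LinearMap.lTensor_surjective I hπsurj w
  rw [mulMap_naturality] at hw
  have hy : mulMap I M w' ∈ LinearMap.range u := by
    rw [← Submodule.ker_mkQ (LinearMap.range u)]
    exact hw
  obtain ⟨x, hx⟩ := hy
  have hxI : x ∈ (I • ⊤ : Submodule A N) := by
    apply h I x
    rw [hx, ← range_mulMap]
    exact ⟨w', rfl⟩
  rw [← range_mulMap] at hxI
  obtain ⟨v, hv⟩ := hxI
  have h1 : mulMap I M (w' - (LinearMap.lTensor I u) v) = 0 := by
    rw [map_sub, mulMap_naturality, hv, hx, sub_self]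
  have h2 : w' = (LinearMap.lTensor I u) v := by
    have := mulMap_injective_of_flat I M (by rw [h1, map_zero] : mulMap I M _ = mulMap I M 0)
    exact sub_eq_zero.1 this
  rw [h2, ← LinearMap.comp_apply, ← LinearMap.lTensor_comp, hπu, LinearMap.lTensor_zero,
    LinearMap.zero_apply]

/-- An injective map with flat cokernel (and exactness given) is universally injective. -/
theorem univInj_of_flat_coker (u : N →ₗ[A] M) (hu : Function.Injective u)
    [hK : Module.Flat A (M ⧸ LinearMap.range u)] : FlatCA.UnivInj A u := by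
  intro Q _ _
  set K := M ⧸ LinearMap.range u
  set π : M →ₗ[A] K := (LinearMap.range u).mkQ with hπ
  have hπsurj : Function.Surjective π := Submodule.mkQ_surjective _
  have hexact : Function.Exact u π := by
    intro y
    rw [hπ, Submodule.mkQ_apply, Submodule.Quotient.mk_eq_zero]
    rfl
  have hπu : π ∘ₗ u = 0 := by
    ext x
    exact (hexact (u x)).2 ⟨x, rfl⟩
  -- a free presentation of `Q`
  let F := Q →₀ A
  let ρ : F →ₗ[A] Q := Finsupp.linearCombination A id
  have hρsurj : Function.Surjective ρ := Finsupp.linearCombination_id_surjective A Q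
  let Rk : Submodule A F := LinearMap.ker ρ
  let ι : Rk →ₗ[A] F := Rk.subtype
  have hι : Function.Injective ι := Subtype.val_injective
  have hexact' : Function.Exact ι ρ := by
    intro f
    constructor
    · intro hf; exact ⟨⟨f, hf⟩, rfl⟩
    · rintro ⟨r, rfl⟩; exact r.2
  have hρι : ρ ∘ₗ ι = 0 := by
    ext r
    exact r.2
  rw [injective_iff_map_eq_zero]
  intro z hz
  -- (1) lift
  obtain ⟨f, rfl⟩ := LinearMap.rTensor_surjective N hρsurj z
  -- (2)
  have h2 : (LinearMap.rTensor M ρ) ((LinearMap.lTensor F u) f) = 0 := by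
    rw [← LinearMap.comp_apply, LinearMap.rTensor_comp_lTensor, ← LinearMap.lTensor_comp_rTensor,
      LinearMap.comp_apply, hz]
  obtain ⟨r, hr⟩ := (@rTensor_exact A Rk F Q _ _ _ _ _ _ _ ι ρ M _ _ hexact' hρsurj _).1 h2
  -- (3)
  have h3 : (LinearMap.rTensor K ι) ((LinearMap.lTensor Rk π) r) = 0 := by
    rw [← LinearMap.comp_apply, LinearMap.rTensor_comp_lTensor, ← LinearMap.lTensor_comp_rTensor,
      LinearMap.comp_apply, hr, ← LinearMap.comp_apply, ← LinearMap.lTensor_comp, hπu,
      LinearMap.lTensor_zero, LinearMap.zero_apply]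
  have h3' : (LinearMap.lTensor Rk π) r = 0 := by
    have hinj : Function.Injective (LinearMap.rTensor K ι) :=
      Module.Flat.rTensor_preserves_injective_linearMap ι hι
    exact hinj (by rw [h3, map_zero])
  obtain ⟨r', hr'⟩ := (@lTensor_exact A N M K _ _ _ _ _ _ _ u π Rk _ _ hexact hπsurj _).1 h3'
  -- (4)
  have h4 : (LinearMap.lTensor F u) ((LinearMap.rTensor N ι) r') = (LinearMap.lTensor F u) f := by
    rw [← LinearMap.comp_apply, LinearMap.lTensor_comp_rTensor, ← LinearMap.rTensor_comp_lTensor,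
      LinearMap.comp_apply, hr', hr]
  have hFinj : Function.Injective (LinearMap.lTensor F u) :=
    Module.Flat.lTensor_preserves_injective_linearMap u hu
  have h5 : (LinearMap.rTensor N ι) r' = f := hFinj h4
  -- (5)
  rw [← h5, ← LinearMap.comp_apply, ← LinearMap.rTensor_comp, hρι, LinearMap.rTensor_zero,
    LinearMap.zero_apply]

/-- For `M` flat: if `u x ∈ I M → x ∈ I N` for all ideals `I`, then `u` is universally
injective. -/
theorem univInj_of_forall_ideal [Module.Flat A M] (u : N →ₗ[A] M)
    (h : ∀ (I : Ideal A) (x : N), u x ∈ (I • ⊤ : Submodule A M) → x ∈ (I • ⊤ : Submodule A N)) :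
    FlatCA.UnivInj A u := by
  have hu : Function.Injective u := by
    rw [injective_iff_map_eq_zero]
    intro x hx
    have h0 : x ∈ ((⊥ : Ideal A) • ⊤ : Submodule A N) := by
      apply h ⊥ x
      rw [hx]
      exact Submodule.zero_mem _
    rw [Submodule.bot_smul, Submodule.mem_bot] at h0
    exact h0
  have := flat_coker_of_forall_ideal u h
  exact univInj_of_flat_coker u hu

end UnivInj

end Groth.Agent.Lib.Seat6.Content
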