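import Mathlib
import Groth.Prelude.Def_FlatCA
import Groth.Agent.Lib.Helper13Fiber

/-!
# Universal injectivity and localisation

* `univInj_mkLinearMap_of_forall`: if every `s ∈ Σ ⊆ S` acts `R`-universally injectively on the
  `S`-module `N`, then `N → Σ⁻¹ N` is `R`-universally injective.
* `smul_mem_of_mem_nzdFiber`: elementwise form of "nonzerodivisor on the closed fibre".
-/

set_option autoImplicit false
set_option linter.style.haveILetI false
universe u

namespace Groth.Agent.Lib.Seat6.UnivInjLoc

open TensorProduct

section Loc

variable {R S : Type u} [CommRing R] [CommRing S] [Algebra R S] {N : Type u} [AddCommGroup N]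
  [Module S N] [Module R N] [IsScalarTower R S N]

/-- `s` acts injectively on `N ⊗[R] Q` when it acts universally injectively on `N`. -/
theorem smul_tmul_injective (s : S)
    (hs : FlatCA.UnivInj R ((LinearMap.lsmul S N s).restrictScalars R))
    (Q : Type u) [AddCommGroup Q] [Module R Q] (z : N ⊗[R] Q) (hz : s • z = 0) : z = 0 := by
  have h1 := hs Q
  have h2 : ∀ w : N ⊗[R] Q, (TensorProduct.comm R N Q) (s • w) =
      ((LinearMap.lsmul S N s).restrictScalars R).lTensor Q (TensorProduct.comm R N Q w) := by
    intro w
    induction w using TensorProduct.induction_on with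
    | zero => simp
    | tmul n q => simp [TensorProduct.smul_tmul']
    | add a b ha hb => rw [smul_add, map_add, ha, hb, map_add, map_add]
  have h3 : ((LinearMap.lsmul S N s).restrictScalars R).lTensor Q (TensorProduct.comm R N Q z) =
      0 := by
    rw [← h2, hz, map_zero]
  have h4 : (TensorProduct.comm R N Q) z = 0 := h1 (by rw [h3, map_zero])
  exact (TensorProduct.comm R N Q).injective (by rw [h4, map_zero])

/-- If every element of `Σ` acts universally injectively then `N → Σ⁻¹N` is universally
injective. -/
theorem univInj_of_isLocalizedModule (T : Submonoid S) {N' : Type u} [AddCommGroup N']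
    [Module S N'] [Module R N'] [IsScalarTower R S N'] (g : N →ₗ[S] N') [IsLocalizedModule T g]
    (h : ∀ s ∈ T, FlatCA.UnivInj R ((LinearMap.lsmul S N s).restrictScalars R)) :
    FlatCA.UnivInj R (g.restrictScalars R) := by
  intro Q _ _
  rw [injective_iff_map_eq_zero]
  intro z hz
  -- pass to `N ⊗ Q`
  set z' := (TensorProduct.comm R Q N) z with hz'
  have h1 : AlgebraTensorModule.rTensor R Q g z' = 0 := by
    have : ∀ w : Q ⊗[R] N, AlgebraTensorModule.rTensor R Q g ((TensorProduct.comm R Q N) w) =
        (TensorProduct.comm R Q N') ((g.restrictScalars R).lTensor Q w) := by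
      intro w
      induction w using TensorProduct.induction_on with
      | zero => simp
      | tmul q n => simp
      | add a b ha hb => rw [map_add, map_add, ha, hb, map_add, map_add]
    rw [hz', this, hz, map_zero]
  obtain ⟨c, hc⟩ := (IsLocalizedModule.eq_zero_iff T (AlgebraTensorModule.rTensor R Q g)).1 h1
  have h2 : z' = 0 := smul_tmul_injective c.1 (h c.1 c.2) Q z' hc
  exact (TensorProduct.comm R Q N).injective (by rw [← hz', h2, map_zero])

theorem univInj_mkLinearMap_of_forall (T : Submonoid S)
    (h : ∀ s ∈ T, FlatCA.UnivInj R ((LinearMap.lsmul S N s).restrictScalars R)) :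
    FlatCA.UnivInj R ((LocalizedModule.mkLinearMap T N).restrictScalars R) :=
  univInj_of_isLocalizedModule T (LocalizedModule.mkLinearMap T N) h

end Loc

section Fiber

open IsLocalRing Groth.Agent.Helper13Fiber

variable {R S : Type u} [CommRing R] [IsLocalRing R] [CommRing S] [Algebra R S] {N : Type u}
  [AddCommGroup N] [Module S N] [Module R N] [IsScalarTower R S N]

/-- Elementwise form of "`s` is a nonzerodivisor on the closed fibre", for flat `N`. -/
theorem mem_smul_top_of_mem_nzdFiber [Module.Flat R N] {s : S}
    (hs : s ∈ FlatCA.nzdFiber R S N) (n : N)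
    (h : s • n ∈ (maximalIdeal R • ⊤ : Submodule R N)) :
    n ∈ (maximalIdeal R • ⊤ : Submodule R N) := by
  rw [smul_top_eq_restrictScalars (maximalIdeal R) S N, Submodule.restrictScalars_mem] at h ⊢
  have h1 : s • FlatCA.toFiberMod (maximalIdeal R) S N n = 0 := by
    rw [← map_smul]
    exact toFiberMod_eq_zero_of_mem _ S N h
  have h2 : FlatCA.toFiberMod (maximalIdeal R) S N n = 0 := hs _ h1
  exact (toFiberMod_eq_zero_iff_of_flat _ S N n).1 h2

end Fiber

end Groth.Agent.Lib.Seat6.UnivInjLoc
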