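import Mathlib
import Groth.Prelude.Def_FlatCA
import Groth.Agent.Lib.Helper13Fiber
import Groth.Agent.Lib.Helper3FlatBC
import Groth.Agent.Lib.Seat6UnivInjLoc

/-!
# General lemmas for the non-Noetherian local criterion (Stacks 00ME)

* `mem_smul_top_iff_of_isLocalizedModule`: clearing denominators in `I • (T⁻¹ X)`.
* transfer of "`s` acts injectively on `N ⊗[R] Q` for all `Q`" along restriction of scalars,
  localisation and base change.
-/

set_option autoImplicit false
set_option linter.style.haveILetI false
universe u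

namespace Groth.Agent.Lib.Seat6.NzdLemmas

open TensorProduct

section CL

variable {A B : Type*} [CommRing A] [CommRing B] [Algebra A B] {X X' : Type*} [AddCommGroup X]
  [Module B X] [Module A X] [IsScalarTower A B X] [AddCommGroup X'] [Module B X'] [Module A X']
  [IsScalarTower A B X'] (T : Submonoid B) (g : X →ₗ[B] X') [IsLocalizedModule T g] (I : Ideal A)

theorem smul_mem_smul_top (b : B) {x : X} (hx : x ∈ (I • ⊤ : Submodule A X)) :
    b • x ∈ (I • ⊤ : Submodule A X) := by
  refine Submodule.smul_induction_on hx ?_ ?_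
  · intro a ha y _
    rw [smul_comm]
    exact Submodule.smul_mem_smul ha trivial
  · intro y z hy hz
    rw [smul_add]
    exact Submodule.add_mem _ hy hz

theorem map_mem_smul_top {x : X} (hx : x ∈ (I • ⊤ : Submodule A X)) :
    g x ∈ (I • ⊤ : Submodule A X') := by
  refine Submodule.smul_induction_on hx ?_ ?_
  · intro a ha y _
    have : g (a • y) = a • g y := by
      rw [← algebraMap_smul B a y, map_smul, algebraMap_smul]
    rw [this]
    exact Submodule.smul_mem_smul ha trivial
  · intro y z hy hz
    rw [map_add]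
    exact Submodule.add_mem _ hy hz

/-- Clearing denominators. -/
theorem mem_smul_top_iff_of_isLocalizedModule (x : X) :
    g x ∈ (I • ⊤ : Submodule A X') ↔ ∃ t ∈ T, t • x ∈ (I • ⊤ : Submodule A X) := by
  constructor
  · intro h
    have key : ∀ y ∈ (I • ⊤ : Submodule A X'),
        ∃ t ∈ T, ∃ x₀ ∈ (I • ⊤ : Submodule A X), t • y = g x₀ := by
      intro y hy
      refine Submodule.smul_induction_on hy ?_ ?_
      · intro a ha y' _
        obtain ⟨⟨x', t⟩, hx'⟩ := IsLocalizedModule.surj T g y'
        refine ⟨t.1, t.2, a • x', Submodule.smul_mem_smul ha trivial, ?_⟩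
        have h1 : g (a • x') = a • g x' := by
          rw [← algebraMap_smul B a x', map_smul, algebraMap_smul]
        rw [h1, ← hx', smul_comm]
        rfl
      · rintro y₁ y₂ ⟨t₁, ht₁, x₁, hx₁, e₁⟩ ⟨t₂, ht₂, x₂, hx₂, e₂⟩
        refine ⟨t₁ * t₂, T.mul_mem ht₁ ht₂, t₂ • x₁ + t₁ • x₂,
          Submodule.add_mem _ (smul_mem_smul_top I t₂ hx₁) (smul_mem_smul_top I t₁ hx₂), ?_⟩
        rw [smul_add, map_add, map_smul, map_smul, ← e₁, ← e₂, mul_smul, mul_smul,
          smul_comm t₁ t₂ y₁]
    obtain ⟨t, ht, x₀, hx₀, e⟩ := key _ h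
    have h0 : g (t • x - x₀) = 0 := by rw [map_sub, map_smul, e, sub_self]
    obtain ⟨c, hc⟩ := (IsLocalizedModule.eq_zero_iff T g).1 h0
    refine ⟨c.1 * t, T.mul_mem c.2 ht, ?_⟩
    have h1 : (c.1 * t) • x = c.1 • x₀ := by
      have : c.1 • (t • x - x₀) = 0 := hc
      rw [smul_sub, sub_eq_zero] at this
      rw [mul_smul, this]
    rw [h1]
    exact smul_mem_smul_top I c.1 hx₀
  · rintro ⟨t, ht, h⟩
    have h1 : t • g x ∈ (I • ⊤ : Submodule A X') := by
      rw [← map_smul]
      exact map_mem_smul_top g I h
    -- `t` acts invertibly on `X'`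
    have hu := IsLocalizedModule.map_units g ⟨t, ht⟩
    obtain ⟨v, hv⟩ := hu
    have h2 : g x = (↑v⁻¹ : Module.End B X') (t • g x) := by
      have : (t • g x) = (v : Module.End B X') (g x) := by
        rw [hv]
        rfl
      rw [this, ← Module.End.mul_apply, Units.inv_mul, Module.End.one_apply]
    rw [h2]
    -- a `B`-linear endomorphism preserves `I • ⊤`
    have h3 : ∀ y ∈ (I • ⊤ : Submodule A X'),
        (↑v⁻¹ : Module.End B X') y ∈ (I • ⊤ : Submodule A X') := by
      intro y hy
      refine Submodule.smul_induction_on hy ?_ ?_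
      · intro a ha y' _
        have : (↑v⁻¹ : Module.End B X') (a • y') = a • (↑v⁻¹ : Module.End B X') y' := by
          rw [← algebraMap_smul B a y', map_smul, algebraMap_smul]
        rw [this]
        exact Submodule.smul_mem_smul ha trivial
      · intro y z hy hz
        rw [map_add]
        exact Submodule.add_mem _ hy hz
    exact h3 _ h1

include g in
/-- Elements of `T` act invertibly modulo `I • ⊤`. -/
theorem mem_smul_top_of_smul_mem {t : B} (ht : t ∈ T) (y : X')
    (h1 : t • y ∈ (I • ⊤ : Submodule A X')) : y ∈ (I • ⊤ : Submodule A X') := by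
  have hu := IsLocalizedModule.map_units g ⟨t, ht⟩
  obtain ⟨v, hv⟩ := hu
  have h2 : y = (↑v⁻¹ : Module.End B X') (t • y) := by
    have : (t • y) = (v : Module.End B X') y := by
      rw [hv]
      rfl
    rw [this, ← Module.End.mul_apply, Units.inv_mul, Module.End.one_apply]
  rw [h2]
  have h3 : ∀ y ∈ (I • ⊤ : Submodule A X'),
      (↑v⁻¹ : Module.End B X') y ∈ (I • ⊤ : Submodule A X') := by
    intro y hy
    refine Submodule.smul_induction_on hy ?_ ?_
    · intro a ha y' _
      have : (↑v⁻¹ : Module.End B X') (a • y') = a • (↑v⁻¹ : Module.End B X') y' := by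
        rw [← algebraMap_smul B a y', map_smul, algebraMap_smul]
      rw [this]
      exact Submodule.smul_mem_smul ha trivial
    · intro y z hy hz
      rw [map_add]
      exact Submodule.add_mem _ hy hz
  exact h3 _ h1

end CL

section Transfer

/-- "`s` acts injectively on `X ⊗[A] Q` for every `A`-module `Q`". -/
def SInj (A : Type u) {B : Type u} [CommRing A] [CommRing B] [Algebra A B] (X : Type u)
    [AddCommGroup X] [Module B X] [Module A X] [IsScalarTower A B X] (s : B) : Prop :=
  ∀ (Q : Type u) [AddCommGroup Q] [Module A Q] (z : X ⊗[A] Q), s • z = 0 → z = 0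

/-- "`s`-torsion of `X ⊗[A] Q` is `T`-torsion for every `A`-module `Q`". -/
def STors (A : Type u) {B : Type u} [CommRing A] [CommRing B] [Algebra A B] (X : Type u)
    [AddCommGroup X] [Module B X] [Module A X] [IsScalarTower A B X] (s : B) (T : Submonoid B) :
    Prop :=
  ∀ (Q : Type u) [AddCommGroup Q] [Module A Q] (z : X ⊗[A] Q), s • z = 0 → ∃ t ∈ T, t • z = 0

variable {A B : Type u} [CommRing A] [CommRing B] [Algebra A B] {X : Type u} [AddCommGroup X]
  [Module B X] [Module A X] [IsScalarTower A B X]

theorem sInj_of_univInj (s : B)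
    (hs : FlatCA.UnivInj A ((LinearMap.lsmul B X s).restrictScalars A)) : SInj A X s :=
  fun Q _ _ z hz => Groth.Agent.Lib.Seat6.UnivInjLoc.smul_tmul_injective s hs Q z hz

theorem univInj_of_sInj (s : B) (hs : SInj A X s) :
    FlatCA.UnivInj A ((LinearMap.lsmul B X s).restrictScalars A) := by
  intro Q _ _
  rw [injective_iff_map_eq_zero]
  intro z hz
  have h2 : ∀ w : Q ⊗[A] X, (TensorProduct.comm A Q X)
      (((LinearMap.lsmul B X s).restrictScalars A).lTensor Q w) =
        s • (TensorProduct.comm A Q X w) := by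
    intro w
    induction w using TensorProduct.induction_on with
    | zero => simp
    | tmul q n => simp [TensorProduct.smul_tmul']
    | add a b ha hb => rw [map_add, map_add, ha, hb, map_add, smul_add]
  have h3 : s • (TensorProduct.comm A Q X z) = 0 := by rw [← h2, hz, map_zero]
  have h4 := hs Q _ h3
  exact (TensorProduct.comm A Q X).injective (by rw [h4, map_zero])

/-- Restriction of scalars `A → A'`. -/
theorem sInj_restrictScalars {A' : Type u} [CommRing A'] [Algebra A A'] [Algebra A' B]
    [IsScalarTower A A' B] [Module A' X] [IsScalarTower A' B X] [IsScalarTower A A' X] (s : B)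
    (hs : SInj A' X s) : SInj A X s := by
  intro Q _ _ z hz
  let e := TensorProduct.AlgebraTensorModule.cancelBaseChange A A' B X Q
  have h1 : s • e.symm z = 0 := by rw [← map_smul, hz, map_zero]
  have h2 := hs (A' ⊗[A] Q) _ h1
  exact e.symm.injective (by rw [h2, map_zero])

/-- From the localisation back to the module: torsion statement. -/
theorem sTors_of_sInj_isLocalizedModule (T : Submonoid B) {X' : Type u} [AddCommGroup X']
    [Module B X'] [Module A X'] [IsScalarTower A B X'] (g : X →ₗ[B] X') [IsLocalizedModule T g]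
    (s : B) (hs : SInj A X' s) : STors A X s T := by
  intro Q _ _ z hz
  have h1 : s • (AlgebraTensorModule.rTensor A Q g z) = 0 := by rw [← map_smul, hz, map_zero]
  have h2 := hs Q _ h1
  obtain ⟨c, hc⟩ := (IsLocalizedModule.eq_zero_iff T (AlgebraTensorModule.rTensor A Q g)).1 h2
  exact ⟨c.1, c.2, hc⟩

/-- From the module to its localisation. -/
theorem sInj_of_sTors_isLocalizedModule (T : Submonoid B) {X' : Type u} [AddCommGroup X']
    [Module B X'] [Module A X'] [IsScalarTower A B X'] (g : X →ₗ[B] X') [IsLocalizedModule T g]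
    (s : B) (hs : STors A X s T) : SInj A X' s := by
  intro Q _ _ y hy
  set G := AlgebraTensorModule.rTensor A Q g with hG
  obtain ⟨⟨z, t⟩, hzt⟩ := IsLocalizedModule.surj T G y
  have h1 : G (s • z) = 0 := by
    rw [map_smul, ← hzt]
    change s • (t.1 • y) = 0
    rw [smul_comm, hy, smul_zero]
  obtain ⟨c, hc⟩ := (IsLocalizedModule.eq_zero_iff T G).1 h1
  have h2 : s • (c.1 • z) = 0 := by
    rw [smul_comm]
    exact hc
  obtain ⟨t', ht', h3⟩ := hs Q _ h2
  have h4 : G z = 0 := by
    rw [IsLocalizedModule.eq_zero_iff T G]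
    refine ⟨⟨t' * c.1, T.mul_mem ht' c.2⟩, ?_⟩
    change (t' * c.1) • z = 0
    rw [mul_smul]
    exact h3
  rw [h4] at hzt
  refine IsLocalizedModule.smul_injective G t ?_
  change t • y = t • 0
  rw [smul_zero]
  exact hzt

end Transfer

section BC

variable {A R : Type u} [CommRing A] [CommRing R] [Algebra A R]
  {MA MR : Type u} [AddCommGroup MA] [Module A MA] [AddCommGroup MR] [Module R MR] [Module A MR]
  [IsScalarTower A R MR]
  {SA SR : Type u} [CommRing SA] [CommRing SR] [Algebra A SA] [Algebra R SR]
  [Algebra SA SR] [Module SA MA] [IsScalarTower A SA MA] [Module SR MR] [IsScalarTower R SR MR]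
  [Module SA MR] [IsScalarTower SA SR MR] [IsScalarTower A SA MR]

open Groth.Agent.Lib.Helper3.FlatLoc in
/-- Base change of the torsion statement. -/
theorem sTors_of_isBaseChange (φ : MA →ₗ[SA] MR)
    (hφ : IsBaseChange R (φ.restrictScalars A)) (TA : Submonoid SA) (TR : Submonoid SR)
    (hT : ∀ s ∈ TA, algebraMap SA SR s ∈ TR) (s₀ : SA) (h : STors A MA s₀ TA) :
    STors R MR (algebraMap SA SR s₀) TR := by
  intro Q _ _ z' hz'
  letI : Module A Q := Module.compHom Q (algebraMap A R)
  haveI : IsScalarTower A R Q := ⟨fun a r q => by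
    change (a • r) • q = algebraMap A R a • (r • q)
    rw [Algebra.smul_def, mul_smul]⟩
  obtain ⟨z, rfl⟩ := (bcMap_bijective (φ.restrictScalars A) hφ Q).2 z'
  have comp : ∀ (b : SA) (z : MA ⊗[A] Q), bcMap (R := R) (φ.restrictScalars A) Q (b • z) =
      algebraMap SA SR b • bcMap (R := R) (φ.restrictScalars A) Q z := by
    intro b z
    induction z with
    | zero => simp
    | add a b ha hb => simp only [smul_add, map_add, ha, hb]
    | tmul m i =>
      rw [smul_tmul', bcMap_tmul, bcMap_tmul, smul_tmul', LinearMap.coe_restrictScalars,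
        map_smul, algebraMap_smul]
  have hz : s₀ • z = 0 := by
    apply (bcMap_bijective (φ.restrictScalars A) hφ Q).1
    rw [comp, hz', map_zero]
  obtain ⟨t, ht, htz⟩ := h Q z hz
  exact ⟨algebraMap SA SR t, hT t ht, by rw [← comp, htz, map_zero]⟩

end BC

end Groth.Agent.Lib.Seat6.NzdLemmas
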