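import Mathlib
import Groth.Prelude.Def_FlatCA
import Groth.Agent.Lib.Seat6NzdLemmas
import Groth.Agent.Lib.Seat6Content
import Groth.Agent.Lib.Helper5LocalFlat2
import Groth.Agent.Lib.Helper3FlatLocA

/-!
# The Noetherian step of the non-Noetherian local criterion (Stacks 00ME)
-/

set_option autoImplicit false
set_option linter.style.haveILetI false
universe u

namespace Groth.Agent.Lib.Seat6.NzdNoeth

open TensorProduct Groth.Agent.Lib.Seat6.NzdLemmas

/-- Noetherian step: `s₀` injective on the fibre at `p₀` (near `q₀`) implies that the `s₀`-torsion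
of `N₀ ⊗ Q` is killed by elements outside `q₀`. -/
theorem sTors_noetherian {R₀ S₀ : Type u} [CommRing R₀] [CommRing S₀] [Algebra R₀ S₀]
    [IsNoetherianRing S₀] {N₀ : Type u} [AddCommGroup N₀] [Module S₀ N₀] [Module R₀ N₀]
    [IsScalarTower R₀ S₀ N₀] [Module.Finite S₀ N₀] [Module.Flat R₀ N₀]
    (p₀ : Ideal R₀) [p₀.IsPrime] (q₀ : Ideal S₀) [q₀.IsPrime]
    (hpq : q₀.comap (algebraMap R₀ S₀) = p₀) (s₀ : S₀)
    (hB : ∀ n₀ : N₀, s₀ • n₀ ∈ (p₀ • ⊤ : Submodule R₀ N₀) →
      ∃ t : R₀, t ∉ p₀ ∧ t • n₀ ∈ (p₀ • ⊤ : Submodule R₀ N₀)) :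
    STors R₀ N₀ s₀ q₀.primeCompl := by
  letI algRS : Algebra (Localization.AtPrime p₀) (Localization.AtPrime q₀) :=
    (Localization.localRingHom p₀ q₀ (algebraMap R₀ S₀) hpq.symm).toAlgebra
  have halg : ∀ x : Localization.AtPrime p₀,
      algebraMap (Localization.AtPrime p₀) (Localization.AtPrime q₀) x =
        Localization.localRingHom p₀ q₀ (algebraMap R₀ S₀) hpq.symm x := fun _ => rfl
  haveI : IsLocalHom (algebraMap (Localization.AtPrime p₀) (Localization.AtPrime q₀)) :=
    Localization.isLocalHom_localRingHom p₀ q₀ (algebraMap R₀ S₀) hpq.symm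
  -- module structures on the localised module
  letI modRN : Module (Localization.AtPrime p₀) (LocalizedModule q₀.primeCompl N₀) :=
    Module.compHom (LocalizedModule q₀.primeCompl N₀)
      (algebraMap (Localization.AtPrime p₀) (Localization.AtPrime q₀))
  have hsmul : ∀ (r : Localization.AtPrime p₀) (n : LocalizedModule q₀.primeCompl N₀),
      r • n = algebraMap (Localization.AtPrime p₀) (Localization.AtPrime q₀) r • n :=
    fun _ _ => rfl
  haveI tow1 : IsScalarTower (Localization.AtPrime p₀) (Localization.AtPrime q₀)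
      (LocalizedModule q₀.primeCompl N₀) := ⟨fun r x n => by
    rw [hsmul, Algebra.smul_def, mul_smul]⟩
  haveI tow2 : IsScalarTower R₀ (Localization.AtPrime p₀) (LocalizedModule q₀.primeCompl N₀) :=
    ⟨fun r x n => by
      rw [hsmul, hsmul, Algebra.smul_def, map_mul, mul_smul, halg (algebraMap _ _ r),
        Localization.localRingHom_to_map]
      rw [algebraMap_smul (Localization.AtPrime q₀), algebraMap_smul S₀]⟩
  haveI flat0 : Module.Flat R₀ (LocalizedModule q₀.primeCompl N₀) :=
    Groth.Agent.Lib.Helper3.FlatLoc.flat_localizedModule_of_flat q₀.primeCompl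
  haveI flat1 : Module.Flat (Localization.AtPrime p₀) (LocalizedModule q₀.primeCompl N₀) :=
    (Module.flat_iff_of_isLocalization (Localization.AtPrime p₀) p₀.primeCompl
      (LocalizedModule q₀.primeCompl N₀)).2 flat0
  haveI fin1 : Module.Finite (Localization.AtPrime q₀) (LocalizedModule q₀.primeCompl N₀) :=
    inferInstance
  haveI noeth1 : IsNoetherianRing (Localization.AtPrime q₀) := inferInstance
  -- the multiplication map
  set u : LocalizedModule q₀.primeCompl N₀ →ₗ[Localization.AtPrime p₀]
      LocalizedModule q₀.primeCompl N₀ :=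
    (LinearMap.lsmul (Localization.AtPrime q₀) (LocalizedModule q₀.primeCompl N₀)
      (algebraMap S₀ (Localization.AtPrime q₀) s₀)).restrictScalars (Localization.AtPrime p₀)
    with hu
  have hu_apply : ∀ n, u n = s₀ • n := by
    intro n
    rw [hu]
    change algebraMap S₀ (Localization.AtPrime q₀) s₀ • n = s₀ • n
    rw [algebraMap_smul]
  -- identification of the two submodules
  have hmax : IsLocalRing.maximalIdeal (Localization.AtPrime p₀) =
      p₀.map (algebraMap R₀ (Localization.AtPrime p₀)) :=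
    (Localization.AtPrime.map_eq_maximalIdeal).symm
  have hsub : ∀ n : LocalizedModule q₀.primeCompl N₀,
      n ∈ (IsLocalRing.maximalIdeal (Localization.AtPrime p₀) • ⊤ :
        Submodule (Localization.AtPrime p₀) (LocalizedModule q₀.primeCompl N₀)) ↔
      n ∈ (p₀ • ⊤ : Submodule R₀ (LocalizedModule q₀.primeCompl N₀)) := by
    intro n
    rw [Groth.Agent.Helper13Fiber.smul_top_eq_restrictScalars p₀ (Localization.AtPrime p₀)
      (LocalizedModule q₀.primeCompl N₀), Submodule.restrictScalars_mem, hmax]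
  have hres : ∀ n' : LocalizedModule q₀.primeCompl N₀,
      u n' ∈ (IsLocalRing.maximalIdeal (Localization.AtPrime p₀) • ⊤ :
        Submodule (Localization.AtPrime p₀) (LocalizedModule q₀.primeCompl N₀)) →
      n' ∈ (IsLocalRing.maximalIdeal (Localization.AtPrime p₀) • ⊤ :
        Submodule (Localization.AtPrime p₀) (LocalizedModule q₀.primeCompl N₀)) := by
    intro n' hn'
    rw [hsub] at hn' ⊢
    rw [hu_apply] at hn'
    set g := LocalizedModule.mkLinearMap q₀.primeCompl N₀ with hg
    obtain ⟨⟨x, w⟩, hxw⟩ := IsLocalizedModule.surj q₀.primeCompl g n'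
    have hxw' : w.1 • n' = g x := hxw
    have h1 : g (s₀ • x) ∈ (p₀ • ⊤ : Submodule R₀ (LocalizedModule q₀.primeCompl N₀)) := by
      rw [map_smul, ← hxw', smul_comm]
      exact smul_mem_smul_top p₀ w.1 hn'
    obtain ⟨t, ht, h2⟩ :=
      (mem_smul_top_iff_of_isLocalizedModule q₀.primeCompl g p₀ (s₀ • x)).1 h1
    have h3 : s₀ • (t • x) ∈ (p₀ • ⊤ : Submodule R₀ N₀) := by rw [smul_comm]; exact h2
    obtain ⟨r, hr, h4⟩ := hB _ h3
    have h5 : g x ∈ (p₀ • ⊤ : Submodule R₀ (LocalizedModule q₀.primeCompl N₀)) := by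
      rw [mem_smul_top_iff_of_isLocalizedModule q₀.primeCompl g p₀ x]
      refine ⟨algebraMap R₀ S₀ r * t, ?_, ?_⟩
      · refine q₀.primeCompl.mul_mem ?_ ht
        change algebraMap R₀ S₀ r ∉ q₀
        intro hmem
        apply hr
        rw [← hpq]
        exact hmem
      · rw [mul_smul, algebraMap_smul]
        exact h4
    rw [← hxw'] at h5
    exact mem_smul_top_of_smul_mem q₀.primeCompl g p₀ w.2 n' h5
  have hinj : Function.Injective (u.lTensor (Localization.AtPrime p₀ ⧸
      IsLocalRing.maximalIdeal (Localization.AtPrime p₀))) :=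
    (Groth.Agent.Lib.Helper5.lTensor_quotient_injective_iff u _).2 hres
  have hall := Groth.Agent.Lib.Helper5.lTensor_quotient_injective_of_residue
    (Localization.AtPrime q₀) u hinj
  have hU : FlatCA.UnivInj (Localization.AtPrime p₀) u := by
    apply Groth.Agent.Lib.Seat6.Content.univInj_of_forall_ideal
    intro I n hn
    exact (Groth.Agent.Lib.Helper5.lTensor_quotient_injective_iff u I).1 (hall I) n hn
  have hS1 : SInj (Localization.AtPrime p₀) (LocalizedModule q₀.primeCompl N₀)
      (algebraMap S₀ (Localization.AtPrime q₀) s₀) := sInj_of_univInj _ hU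
  haveI tow3 : IsScalarTower R₀ (Localization.AtPrime p₀) (Localization.AtPrime q₀) := by
    apply IsScalarTower.of_algebraMap_eq
    intro r
    rw [halg, Localization.localRingHom_to_map, ← IsScalarTower.algebraMap_apply]
  have hS2 : SInj R₀ (LocalizedModule q₀.primeCompl N₀)
      (algebraMap S₀ (Localization.AtPrime q₀) s₀) := sInj_restrictScalars _ hS1
  have hS3 : SInj R₀ (LocalizedModule q₀.primeCompl N₀) s₀ := by
    intro Q _ _ z hz
    apply hS2 Q z
    rw [algebraMap_smul]
    exact hz
  exact sTors_of_sInj_isLocalizedModule q₀.primeCompl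
    (LocalizedModule.mkLinearMap q₀.primeCompl N₀) s₀ hS3

end Groth.Agent.Lib.Seat6.NzdNoeth
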