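import Mathlib
import Groth.Prelude.Def_FlatCA
import Groth.Agent.Lib.Seat6NzdNoeth
import Groth.Agent.Lib.Seat6FlatModelElt

/-!
# Core of the non-Noetherian local criterion (Stacks 00ME), finitely presented global form

`R` local, `S` a finitely presented `R`-algebra, `N` a finitely presented `S`-module flat over `R`,
`q` a prime of `S` over the maximal ideal, `s : S` injective on `N / 𝔪 N`. Then for every
`R`-module `Q` the `s`-torsion of `N ⊗[R] Q` is killed by elements outside `q`.
-/

set_option autoImplicit false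
set_option linter.style.haveILetI false
universe u

namespace Groth.Agent.Lib.Seat6.NzdCore

open TensorProduct IsLocalRing Groth.Agent.Lib.Seat6.NzdLemmas Groth.Agent.Lib.Seat6.NzdNoeth
  Groth.Agent.Lib.Seat6.FlatModelElt Groth.Agent.Lib.Helper3.FlatLoc

theorem tmul_one_eq_zero_of_mem {R : Type u} [CommRing R] (p : Ideal R) [p.IsPrime] {N : Type u}
    [AddCommGroup N] [Module R N] {n : N} (hn : n ∈ (p • ⊤ : Submodule R N)) :
    n ⊗ₜ[R] (1 : p.ResidueField) = 0 := by
  refine Submodule.smul_induction_on hn ?_ ?_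
  · intro a ha y _
    rw [TensorProduct.smul_tmul, Algebra.smul_def, mul_one,
      Ideal.algebraMap_residueField_eq_zero.mpr ha, TensorProduct.tmul_zero]
  · intro x y hx hy
    rw [TensorProduct.add_tmul, hx, hy, add_zero]

theorem core {R : Type u} [CommRing R] [IsLocalRing R]
    {S : Type u} [CommRing S] [Algebra R S] [Algebra.FinitePresentation R S]
    {N : Type u} [AddCommGroup N] [Module S N] [Module R N] [IsScalarTower R S N]
    [Module.FinitePresentation S N] [Module.Flat R N]
    (q : Ideal S) [q.IsPrime] (hq : q.comap (algebraMap R S) = maximalIdeal R)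
    (s : S) (hs : ∀ n : N, s • n ∈ (maximalIdeal R • ⊤ : Submodule R N) →
      n ∈ (maximalIdeal R • ⊤ : Submodule R N)) :
    STors R N s q.primeCompl := by
  obtain ⟨R₀, _, _, S₀, _, _, _, _, _, _, N₀, _, _, _, _, _, _, f, hZ, hft, hfin, hflat, hpush,
    hbc, s₀, hs₀⟩ := exists_flat_module_model_elt R S N s
  haveI := hfin
  haveI := hflat
  haveI := hpush
  haveI : IsNoetherianRing R₀ := Algebra.FiniteType.isNoetherianRing ℤ R₀
  haveI : IsNoetherianRing S₀ := Algebra.FiniteType.isNoetherianRing R₀ S₀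
  -- the `R₀`-module structure on `N`
  letI : Module R₀ N := Module.compHom N (algebraMap R₀ R)
  have hsm : ∀ (r : R₀) (n : N), r • n = algebraMap R₀ R r • n := fun _ _ => rfl
  haveI : IsScalarTower R₀ R N := ⟨fun a r n => by
    rw [hsm, Algebra.smul_def, mul_smul]⟩
  haveI : IsScalarTower R₀ S₀ N := ⟨fun a b n => by
    rw [hsm, Algebra.smul_def, mul_smul, ← algebraMap_smul S (algebraMap R₀ S₀ a) (b • n),
      ← IsScalarTower.algebraMap_apply R₀ S₀ S, ← algebraMap_smul S (algebraMap R₀ R a) (b • n),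
      ← IsScalarTower.algebraMap_apply R₀ R S]⟩
  have hb : IsBaseChange R (f.restrictScalars R₀) :=
    isBaseChange_restrictScalars_of_isPushout f hbc
  set p₀ : Ideal R₀ := (maximalIdeal R).comap (algebraMap R₀ R) with hp₀
  set q₀ : Ideal S₀ := q.comap (algebraMap S₀ S) with hq₀
  have hpq : q₀.comap (algebraMap R₀ S₀) = p₀ := by
    rw [hq₀, hp₀, Ideal.comap_comap, ← IsScalarTower.algebraMap_eq,
      IsScalarTower.algebraMap_eq R₀ R S, ← Ideal.comap_comap, hq]
  -- the fibre condition on the model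
  have hB : ∀ n₀ : N₀, s₀ • n₀ ∈ (p₀ • ⊤ : Submodule R₀ N₀) →
      ∃ t : R₀, t ∉ p₀ ∧ t • n₀ ∈ (p₀ • ⊤ : Submodule R₀ N₀) := by
    intro n₀ h
    have hfmem : ∀ y ∈ (p₀ • ⊤ : Submodule R₀ N₀),
        f y ∈ (maximalIdeal R • ⊤ : Submodule R N) := by
      intro y hy
      refine Submodule.smul_induction_on hy ?_ ?_
      · intro a ha y' _
        have : f (a • y') = algebraMap R₀ R a • f y' := by
          rw [← algebraMap_smul S₀ a y', map_smul, algebraMap_smul, hsm]
        rw [this]
        exact Submodule.smul_mem_smul ha trivial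
      · intro x y hx hy
        rw [map_add]
        exact Submodule.add_mem _ hx hy
    have h1 : s • f n₀ ∈ (maximalIdeal R • ⊤ : Submodule R N) := by
      rw [← hs₀, algebraMap_smul, ← map_smul]
      exact hfmem _ h
    have h2 := hs _ h1
    have h3 : f n₀ ⊗ₜ[R] (1 : (maximalIdeal R).ResidueField) = 0 :=
      tmul_one_eq_zero_of_mem _ h2
    have h4 : n₀ ⊗ₜ[R₀] (1 : (maximalIdeal R).ResidueField) = 0 := by
      apply (bcMap_bijective (f.restrictScalars R₀) hb (maximalIdeal R).ResidueField).1
      rw [bcMap_tmul, map_zero]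
      exact h3
    let ι : p₀.ResidueField →ₐ[R₀] (maximalIdeal R).ResidueField :=
      Ideal.ResidueField.mapₐ p₀ (maximalIdeal R) (Algebra.ofId R₀ R) rfl
    have hι : Function.Injective ι.toLinearMap := ι.toRingHom.injective
    have h5 : n₀ ⊗ₜ[R₀] (1 : p₀.ResidueField) = 0 := by
      apply Module.Flat.lTensor_preserves_injective_linearMap (M := N₀) ι.toLinearMap hι
      rw [map_zero, LinearMap.lTensor_tmul, AlgHom.toLinearMap_apply, map_one]
      exact h4
    have h6 : (1 : p₀.ResidueField) ⊗ₜ[R₀] n₀ = 0 := by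
      have := congrArg (TensorProduct.comm R₀ N₀ p₀.ResidueField) h5
      simpa using this
    exact Groth.Agent.Helper13Fiber.exists_smul_mem_of_tmul_eq_zero p₀ n₀ h6
  have h0 := sTors_noetherian p₀ q₀ hpq s₀ hB
  have h1 := sTors_of_isBaseChange f hb q₀.primeCompl q.primeCompl (fun t ht => ht) s₀ h0
  rwa [hs₀] at h1

end Groth.Agent.Lib.Seat6.NzdCore
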