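import Mathlib
import Groth.Prelude.Def_FlatCA
import Groth.Agent.Lib.Seat6NzdCore

/-!
# Core of the non-Noetherian local criterion, with hypotheses only near the prime `q`
-/

set_option autoImplicit false
set_option linter.style.haveILetI false
universe u

namespace Groth.Agent.Lib.Seat6.NzdCore

open TensorProduct IsLocalRing Groth.Agent.Lib.Seat6.NzdLemmas

theorem core' {R : Type u} [CommRing R] [IsLocalRing R]
    {S : Type u} [CommRing S] [Algebra R S] [Algebra.FinitePresentation R S]
    {N : Type u} [AddCommGroup N] [Module S N] [Module R N] [IsScalarTower R S N]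
    [Module.FinitePresentation S N]
    (q : Ideal S) [q.IsPrime] (hq : q.comap (algebraMap R S) = maximalIdeal R)
    (s h : S) (hhq : h ∉ q) [hflat : Module.Flat R (LocalizedModule (Submonoid.powers h) N)]
    (hH : ∀ n : N, s • n ∈ (maximalIdeal R • ⊤ : Submodule R N) →
      h • n ∈ (maximalIdeal R • ⊤ : Submodule R N)) :
    STors R N s q.primeCompl := by
  haveI : Algebra.FinitePresentation S (Localization.Away h) :=
    IsLocalization.Away.finitePresentation h
  haveI : Algebra.FinitePresentation R (Localization.Away h) :=
    Algebra.FinitePresentation.trans R S (Localization.Away h)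
  have hdisj : Disjoint (Submonoid.powers h : Set S) (q : Set S) := by
    rw [Set.disjoint_left]
    rintro _ ⟨a, rfl⟩ hmem
    exact hhq (Ideal.IsPrime.mem_of_pow_mem inferInstance a hmem)
  haveI hqh : (q.map (algebraMap S (Localization.Away h))).IsPrime :=
    IsLocalization.isPrime_of_isPrime_disjoint (Submonoid.powers h) _ q inferInstance hdisj
  have hcomap : (q.map (algebraMap S (Localization.Away h))).comap
      (algebraMap S (Localization.Away h)) = q :=
    IsLocalization.comap_map_of_isPrime_disjoint (Submonoid.powers h) _ inferInstance hdisj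
  have hqh' : (q.map (algebraMap S (Localization.Away h))).comap
      (algebraMap R (Localization.Away h)) = maximalIdeal R := by
    rw [IsScalarTower.algebraMap_eq R S (Localization.Away h), ← Ideal.comap_comap, hcomap, hq]
  set g := LocalizedModule.mkLinearMap (Submonoid.powers h) N with hg
  -- the fibre condition on the localisation
  have hHh : ∀ n' : LocalizedModule (Submonoid.powers h) N,
      algebraMap S (Localization.Away h) s • n' ∈
        (maximalIdeal R • ⊤ : Submodule R (LocalizedModule (Submonoid.powers h) N)) →
      n' ∈ (maximalIdeal R • ⊤ : Submodule R (LocalizedModule (Submonoid.powers h) N)) := by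
    intro n' hn'
    rw [algebraMap_smul] at hn'
    obtain ⟨⟨x, w⟩, hxw⟩ := IsLocalizedModule.surj (Submonoid.powers h) g n'
    have hxw' : w.1 • n' = g x := hxw
    have h1 : g (s • x) ∈
        (maximalIdeal R • ⊤ : Submodule R (LocalizedModule (Submonoid.powers h) N)) := by
      rw [map_smul, ← hxw', smul_comm]
      exact smul_mem_smul_top (maximalIdeal R) w.1 hn'
    obtain ⟨t, ht, h2⟩ := (mem_smul_top_iff_of_isLocalizedModule (Submonoid.powers h) g
      (maximalIdeal R) (s • x)).1 h1
    have h3 : s • (t • x) ∈ (maximalIdeal R • ⊤ : Submodule R N) := by rw [smul_comm]; exact h2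
    have h4 := hH _ h3
    have h5 : g x ∈
        (maximalIdeal R • ⊤ : Submodule R (LocalizedModule (Submonoid.powers h) N)) := by
      rw [mem_smul_top_iff_of_isLocalizedModule (Submonoid.powers h) g (maximalIdeal R) x]
      refine ⟨h * t, (Submonoid.powers h).mul_mem (Submonoid.mem_powers h) ht, ?_⟩
      rw [mul_smul]
      exact h4
    rw [← hxw'] at h5
    exact mem_smul_top_of_smul_mem (Submonoid.powers h) g (maximalIdeal R) w.2 n' h5
  have hcore := core (q.map (algebraMap S (Localization.Away h))) hqh'
    (algebraMap S (Localization.Away h) s) hHh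
  -- back to `N`
  intro Q _ _ z hz
  set G := AlgebraTensorModule.rTensor R Q g with hG
  have h1 : algebraMap S (Localization.Away h) s • G z = 0 := by
    rw [algebraMap_smul, ← map_smul, hz, map_zero]
  obtain ⟨th, hth, h2⟩ := hcore Q (G z) h1
  obtain ⟨⟨t, w⟩, htw⟩ := IsLocalization.surj (Submonoid.powers h) th
  have htq : t ∉ q := by
    intro htq
    have h3 : algebraMap S (Localization.Away h) t ∈ q.map (algebraMap S (Localization.Away h)) :=
      Ideal.mem_map_of_mem _ htq
    rw [← htw] at h3
    rcases hqh.mem_or_mem h3 with h4 | h4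
    · exact hth h4
    · exact hqh.ne_top (Ideal.eq_top_of_isUnit_mem _ h4 (IsLocalization.map_units _ w))
  have h3 : G (t • z) = 0 := by
    rw [map_smul, ← algebraMap_smul (Localization.Away h) t (G z), ← htw, mul_comm, mul_smul, h2,
      smul_zero]
  obtain ⟨c, hc⟩ := (IsLocalizedModule.eq_zero_iff (Submonoid.powers h) G).1 h3
  refine ⟨c.1 * t, ?_, ?_⟩
  · refine q.primeCompl.mul_mem ?_ htq
    obtain ⟨a, ha⟩ := c.2
    change c.1 ∉ q
    rw [← ha]
    intro hmem
    exact hhq (Ideal.IsPrime.mem_of_pow_mem inferInstance a hmem)
  · rw [mul_smul]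
    exact hc

end Groth.Agent.Lib.Seat6.NzdCore
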