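import Mathlib
import Groth.Prelude.Def_FlatCA
import Groth.Agent.Lib.Seat6NzdCore2
import Groth.Agent.Lib.Seat6FlatLocus

/-!
# Reduction steps for the non-Noetherian local criterion (Stacks 00ME)

* `exists_fp_model_of_isLocalization`: a finitely presented module over a localisation `W⁻¹S₁`
  is the base change of a finitely presented `S₁`-module.
* `exists_flat_away`: shrinking to a basic open in the flat locus.
* `exists_kill_fibre_kernel`: uniform killing of the kernel of `s₁` on the closed fibre.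
-/

set_option autoImplicit false
set_option linter.style.haveILetI false
universe u

namespace Groth.Agent.Lib.Seat6.NzdRed

open TensorProduct IsLocalRing Groth.Agent.Lib.Seat6.NzdLemmas
  Groth.Agent.Lib.Helper3.FlatDesc Groth.Agent.Lib.Helper3.FlatModelMod

section StepA

variable {S₁ S : Type u} [CommRing S₁] [CommRing S] [Algebra S₁ S] (W : Submonoid S₁)
  [IsLocalization W S]

include W in
theorem exists_presentation_of_isLocalization (N : Type u) [AddCommGroup N] [Module S N]
    [Module.FinitePresentation S N] :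
    ∃ (k m : ℕ) (w : Fin m → Fin k → S₁), Nonempty (((Fin k → S) ⧸ KT w S) ≃ₗ[S] N) := by
  classical
  obtain ⟨k, m, π, g, hπ, hex⟩ := Module.FinitePresentation.exists_fin' S N
  let v : Fin m → Fin k → S := fun j => g (Pi.single j 1)
  obtain ⟨b, hb⟩ := IsLocalization.exist_integer_multiples_of_finite W
    (fun ji : Fin m × Fin k => v ji.1 ji.2)
  choose w' hw' using hb
  let w : Fin m → Fin k → S₁ := fun j i => w' (j, i)
  have hw : ∀ j i, algebraMap S₁ S (w j i) = algebraMap S₁ S b.1 * v j i := by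
    intro j i
    rw [hw' (j, i), Algebra.smul_def]
  have hbu : IsUnit (algebraMap S₁ S b.1) := IsLocalization.map_units S b
  have hwT : ∀ j, wT w S j = algebraMap S₁ S b.1 • v j := by
    intro j
    funext i
    simp only [wT, Pi.smul_apply, smul_eq_mul]
    exact hw j i
  have hrange : LinearMap.range g = Submodule.span S (Set.range v) := by
    have hg : g = Fintype.linearCombination S v := by
      apply LinearMap.ext
      intro a
      rw [LinearMap.pi_apply_eq_sum_univ g a, Fintype.linearCombination_apply]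
      refine Finset.sum_congr rfl fun j _ => ?_
      have hsingle : (Pi.single j 1 : Fin m → S) = fun j' => if j = j' then 1 else 0 := by
        funext j'
        simp [Pi.single_apply, eq_comm]
      change a j • g (fun j' => if j = j' then 1 else 0) = a j • g (Pi.single j 1)
      rw [hsingle]
    rw [hg, Fintype.range_linearCombination]
  have hK : KT w S = LinearMap.ker π := by
    rw [KT_eq_span, LinearMap.exact_iff.mp hex, hrange]
    apply le_antisymm
    · rw [Submodule.span_le]
      rintro _ ⟨j, rfl⟩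
      rw [hwT]
      exact Submodule.smul_mem _ _ (Submodule.subset_span ⟨j, rfl⟩)
    · rw [Submodule.span_le]
      rintro _ ⟨j, rfl⟩
      obtain ⟨u, hu⟩ := hbu
      have : v j = (↑u⁻¹ : S) • wT w S j := by
        rw [hwT, ← hu, smul_smul, Units.inv_mul, one_smul]
      rw [SetLike.mem_coe, this]
      exact Submodule.smul_mem _ _ (Submodule.subset_span ⟨j, rfl⟩)
  exact ⟨k, m, w, ⟨(Submodule.quotEquivOfEq _ _ hK) ≪≫ₗ
    (LinearMap.quotKerEquivOfSurjective π hπ)⟩⟩

include W in
theorem exists_fp_model_of_isLocalization (N : Type u) [AddCommGroup N] [Module S N]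
    [Module S₁ N] [IsScalarTower S₁ S N] [Module.FinitePresentation S N] :
    ∃ (N₁ : Type u) (_ : AddCommGroup N₁) (_ : Module S₁ N₁)
      (_ : Module.FinitePresentation S₁ N₁) (g₁ : N₁ →ₗ[S₁] N), IsBaseChange S g₁ := by
  classical
  obtain ⟨k, m, w, ⟨e⟩⟩ := exists_presentation_of_isLocalization (S := S) W N
  have hfp : Module.FinitePresentation S₁ ((Fin k → S₁) ⧸ KT w S₁) := by
    refine Module.finitePresentation_of_surjective (KT w S₁).mkQ (Submodule.mkQ_surjective _) ?_
    rw [Submodule.ker_mkQ, KT_eq_span]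
    exact Submodule.fg_span (Set.finite_range _)
  refine ⟨(Fin k → S₁) ⧸ KT w S₁, inferInstance, inferInstance, hfp,
    (e.toLinearMap.restrictScalars S₁).comp (Mmap w S₁ S), ?_⟩
  exact (isBaseChange_Mmap w S₁ S).comp (IsBaseChange.ofEquiv e)

end StepA

section FlatAway

variable {R S₁ : Type u} [CommRing R] [CommRing S₁] [Algebra R S₁]
  [Algebra.FinitePresentation R S₁] {N₁ : Type u} [AddCommGroup N₁] [Module S₁ N₁] [Module R N₁]
  [IsScalarTower R S₁ N₁] [Module.FinitePresentation S₁ N₁]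

theorem exists_flat_away (q₁ : Ideal S₁) [q₁.IsPrime]
    (hflat : Module.Flat R (LocalizedModule q₁.primeCompl N₁)) :
    ∃ h : S₁, h ∉ q₁ ∧ Module.Flat R (LocalizedModule (Submonoid.powers h) N₁) := by
  have hopen := Groth.Agent.Lib.Helper3.FlatOpen.isOpen_flatLocus_of_finitePresentation
    (R := R) (S := S₁) (M := N₁)
  have hmem : (⟨q₁, inferInstance⟩ : PrimeSpectrum S₁) ∈
      {q : PrimeSpectrum S₁ | Module.Flat R (LocalizedModule q.asIdeal.primeCompl N₁)} := hflat
  obtain ⟨v, ⟨h, rfl⟩, hqv, hvU⟩ :=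
    PrimeSpectrum.isTopologicalBasis_basic_opens.exists_subset_of_mem_open hmem hopen
  refine ⟨h, hqv, ?_⟩
  apply Groth.Agent.Lib.Seat6.FlatLocus.flat_localizedModule_of_forall
  intro Q _ hQ
  have hhQ : h ∉ Q := hQ (Submonoid.mem_powers h)
  exact hvU (show (⟨Q, inferInstance⟩ : PrimeSpectrum S₁) ∈
    (PrimeSpectrum.basicOpen h : Set (PrimeSpectrum S₁)) from hhQ)

end FlatAway

section FibreKernel

attribute [local instance] Algebra.TensorProduct.rightAlgebra

open Groth.Agent.Helper13Fiber FlatCA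

variable {R S₁ : Type u} [CommRing R] [IsLocalRing R] [CommRing S₁] [Algebra R S₁]
  {N₁ : Type u} [AddCommGroup N₁] [Module S₁ N₁] [Module R N₁] [IsScalarTower R S₁ N₁]

/-- Over a local ring, the kernel of `N₁ → N₁ ⊗ κ(𝔪)` is `𝔪 N₁`. -/
theorem toFiberMod_eq_zero_iff_mem (n : N₁) :
    toFiberMod (maximalIdeal R) S₁ N₁ n = 0 ↔ n ∈ (maximalIdeal R • ⊤ : Submodule R N₁) := by
  rw [smul_top_eq_restrictScalars (maximalIdeal R) S₁ N₁, Submodule.restrictScalars_mem]
  constructor
  · intro h
    obtain ⟨t, ht, h1⟩ := (toFiberMod_eq_zero_iff (maximalIdeal R) S₁ N₁ n).1 h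
    have hu : IsUnit t := IsLocalRing.notMem_maximalIdeal.mp ht
    obtain ⟨u, rfl⟩ := hu
    have : n = algebraMap R S₁ (↑u⁻¹ : R) • (algebraMap R S₁ (u : R) • n) := by
      rw [smul_smul, ← map_mul, Units.inv_mul, map_one, one_smul]
    rw [this]
    exact Submodule.smul_mem _ _ h1
  · intro h
    exact toFiberMod_eq_zero_of_mem (maximalIdeal R) S₁ N₁ h

variable [Algebra.FiniteType R S₁] [Module.Finite S₁ N₁]

theorem exists_kill_fibre_kernel (q₁ : Ideal S₁) [q₁.IsPrime] (s₁ : S₁)
    (hloc : ∀ n₁ : N₁, s₁ • n₁ ∈ (maximalIdeal R • ⊤ : Submodule R N₁) →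
      ∃ w : S₁, w ∉ q₁ ∧ w • n₁ ∈ (maximalIdeal R • ⊤ : Submodule R N₁)) :
    ∃ h' : S₁, h' ∉ q₁ ∧ ∀ n₁ : N₁, s₁ • n₁ ∈ (maximalIdeal R • ⊤ : Submodule R N₁) →
      h' • n₁ ∈ (maximalIdeal R • ⊤ : Submodule R N₁) := by
  classical
  haveI : IsNoetherianRing ((maximalIdeal R).Fiber S₁) :=
    Algebra.FiniteType.isNoetherianRing (maximalIdeal R).ResidueField ((maximalIdeal R).Fiber S₁)
  haveI : Module.Finite ((maximalIdeal R).Fiber S₁) (fiberMod (maximalIdeal R) S₁ N₁) :=
    inferInstanceAs (Module.Finite ((maximalIdeal R).Fiber S₁)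
      (((maximalIdeal R).Fiber S₁) ⊗[S₁] N₁))
  haveI : IsNoetherian ((maximalIdeal R).Fiber S₁) (fiberMod (maximalIdeal R) S₁ N₁) :=
    isNoetherian_of_isNoetherianRing_of_finite _ _
  set φ := toFiberMod (maximalIdeal R) S₁ N₁ with hφ
  set K' : Submodule ((maximalIdeal R).Fiber S₁) (fiberMod (maximalIdeal R) S₁ N₁) :=
    LinearMap.ker (LinearMap.lsmul ((maximalIdeal R).Fiber S₁) (fiberMod (maximalIdeal R) S₁ N₁)
      (algebraMap S₁ ((maximalIdeal R).Fiber S₁) s₁)) with hK'
  have hmemK : ∀ z, z ∈ K' ↔ s₁ • z = 0 := by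
    intro z
    rw [hK', LinearMap.mem_ker, LinearMap.lsmul_apply, algebraMap_smul]
  -- pointwise killing
  have claim1 : ∀ z ∈ K', ∃ w : S₁, w ∉ q₁ ∧ w • z = 0 := by
    intro z hz
    rw [hmemK] at hz
    obtain ⟨t, ht, n, htn⟩ := exists_smul_eq_toFiberMod (maximalIdeal R) S₁ N₁ z
    have h1 : φ (s₁ • n) = 0 := by
      rw [map_smul, hφ, ← htn, smul_comm, hz, smul_zero]
    have h2 := (toFiberMod_eq_zero_iff_mem (s₁ • n)).1 h1
    obtain ⟨w, hw, h3⟩ := hloc n h2
    have h4 : φ (w • n) = 0 := (toFiberMod_eq_zero_iff_mem (w • n)).2 h3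
    have htu : IsUnit (algebraMap R S₁ t) := (IsLocalRing.notMem_maximalIdeal.mp ht).map _
    refine ⟨w * algebraMap R S₁ t, ?_, ?_⟩
    · intro hmem
      rcases Ideal.IsPrime.mem_or_mem inferInstance hmem with h | h
      · exact hw h
      · exact (Ideal.IsPrime.ne_top inferInstance) (Ideal.eq_top_of_isUnit_mem _ h htu)
    · rw [mul_smul, htn, ← map_smul]
      exact h4
  -- uniform killing
  have claim2 : ∀ (gens : Finset (fiberMod (maximalIdeal R) S₁ N₁)), (∀ z ∈ gens, z ∈ K') →
      ∃ h' : S₁, h' ∉ q₁ ∧ ∀ z ∈ Submodule.span ((maximalIdeal R).Fiber S₁)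
        (gens : Set (fiberMod (maximalIdeal R) S₁ N₁)), h' • z = 0 := by
    intro gens
    induction gens using Finset.induction_on with
    | empty =>
      intro _
      refine ⟨1, fun h => (Ideal.IsPrime.ne_top inferInstance) ((Ideal.eq_top_iff_one _).2 h), ?_⟩
      intro z hz
      rw [Finset.coe_empty, Submodule.span_empty, Submodule.mem_bot] at hz
      rw [hz, smul_zero]
    | insert a gens ha ih =>
      intro hgens
      obtain ⟨h₁, hh₁, hkill⟩ := ih (fun z hz => hgens z (Finset.mem_insert_of_mem hz))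
      obtain ⟨w, hw, hwa⟩ := claim1 a (hgens a (Finset.mem_insert_self a gens))
      refine ⟨w * h₁, ?_, ?_⟩
      · intro hmem
        rcases Ideal.IsPrime.mem_or_mem inferInstance hmem with h | h
        · exact hw h
        · exact hh₁ h
      · intro z hz
        rw [Finset.coe_insert, Submodule.mem_span_insert] at hz
        obtain ⟨c, y, hy, rfl⟩ := hz
        have e1 : (w * h₁) • (c • a) = 0 := by
          rw [mul_comm, mul_smul, ← algebraMap_smul ((maximalIdeal R).Fiber S₁) w (c • a),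
            smul_smul, mul_comm, ← smul_smul, algebraMap_smul, hwa, smul_zero, smul_zero]
        have e2 : (w * h₁) • y = 0 := by
          rw [mul_smul, hkill y hy, smul_zero]
        rw [smul_add, e1, e2, add_zero]
  obtain ⟨gens, hgens⟩ := IsNoetherian.noetherian K'
  obtain ⟨h', hh', hkill⟩ := claim2 gens (fun z hz => by
    rw [← hgens]
    exact Submodule.subset_span hz)
  refine ⟨h', hh', ?_⟩
  intro n₁ hn₁
  have h1 : φ (s₁ • n₁) = 0 := (toFiberMod_eq_zero_iff_mem (s₁ • n₁)).2 hn₁
  have h2 : φ n₁ ∈ K' := by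
    rw [hmemK, ← map_smul]
    exact h1
  rw [← hgens] at h2
  have h3 := hkill _ h2
  rw [← map_smul] at h3
  exact (toFiberMod_eq_zero_iff_mem (h' • n₁)).1 h3

end FibreKernel

end Groth.Agent.Lib.Seat6.NzdRed
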