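import Mathlib
import Groth.Agent.Lib.Seat22LocCritB
import Groth.Agent.Lib.Seat6NzdRed

/-!
# Local criterion of flatness for local rings essentially of finite presentation (seat 22)

`R → S` with `S` local and a localization of a finitely presented `R`-algebra, `N` a finitely presented `S`-module,
`p = 𝔪_S ∩ R`. If `p ⊗_R N → N` is injective then `N` is flat over `R`.
-/

set_option autoImplicit false
set_option linter.style.haveILetI false

universe u

namespace Groth.Agent.Lib.Seat22.LocCritC

open TensorProduct IsLocalRing Groth.Agent.Lib.Seat22.LocCritB Groth.Agent.Lib.Seat6.NzdRed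

/-- Injectivity of `I ⊗ X → X` is invariant under linear equivalences. -/
theorem lTensor_subtype_injective_of_linearEquiv {R X Y : Type*} [CommRing R] [AddCommGroup X]
    [AddCommGroup Y] [Module R X] [Module R Y] (e : X ≃ₗ[R] Y) (I : Ideal R)
    (h : Function.Injective (I.subtype.lTensor Y)) : Function.Injective (I.subtype.lTensor X) := by
  intro a b hab
  have h1 : I.subtype.lTensor Y (e.toLinearMap.rTensor I a) =
      I.subtype.lTensor Y (e.toLinearMap.rTensor I b) := by
    rw [← LinearMap.comp_apply, ← LinearMap.comp_apply, LinearMap.lTensor_comp_rTensor,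
      ← LinearMap.rTensor_comp_lTensor, LinearMap.comp_apply, LinearMap.comp_apply, hab]
  have h2 := h h1
  have hinj : Function.Injective (e.toLinearMap.rTensor I) := by
    have : e.toLinearMap.rTensor I = (TensorProduct.congr e (LinearEquiv.refl R I)).toLinearMap := by
      ext; simp
    rw [this]
    exact LinearEquiv.injective _
  exact hinj h2

/-- **Local criterion of flatness** over a local ring essentially of finite presentation. -/
theorem flat_of_lTensor_injective_of_essFP {R S : Type u} [CommRing R] [CommRing S] [IsLocalRing S]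
    [Algebra R S]
    (hS : ∃ (S₀ : Type u) (_ : CommRing S₀) (_ : Algebra R S₀) (_ : Algebra S₀ S)
      (_ : IsScalarTower R S₀ S) (M : Submonoid S₀), Algebra.FinitePresentation R S₀ ∧
        IsLocalization M S)
    (N : Type u) [AddCommGroup N] [Module S N] [Module R N] [IsScalarTower R S N]
    [Module.FinitePresentation S N] (p : Ideal R)
    (hp : p = (maximalIdeal S).comap (algebraMap R S))
    (hT : Function.Injective (p.subtype.lTensor N)) : Module.Flat R N := by
  obtain ⟨S₁, _, _, _, _, W, hfp, hloc⟩ := hS
  haveI := hfp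
  haveI := hloc
  letI : Module S₁ N := Module.compHom N (algebraMap S₁ S)
  have hsm : ∀ (b : S₁) (n : N), b • n = algebraMap S₁ S b • n := fun _ _ => rfl
  haveI : IsScalarTower S₁ S N := ⟨fun b c n => by
    rw [hsm, Algebra.smul_def, mul_smul]⟩
  haveI : IsScalarTower R S₁ N := ⟨fun r b n => by
    rw [hsm, hsm, Algebra.smul_def, map_mul, mul_smul, ← IsScalarTower.algebraMap_apply,
      algebraMap_smul]⟩
  set q₁ : Ideal S₁ := (maximalIdeal S).comap (algebraMap S₁ S) with hq₁def
  haveI : q₁.IsPrime := Ideal.comap_isPrime _ _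
  have hq₁ : p = q₁.comap (algebraMap R S₁) := by
    rw [hp, hq₁def, Ideal.comap_comap, ← IsScalarTower.algebraMap_eq]
  have hunits : ∀ r ∈ q₁.primeCompl, IsUnit (algebraMap S₁ S r) := by
    intro r hr
    exact IsLocalRing.notMem_maximalIdeal.mp hr
  have hle : W ≤ q₁.primeCompl := by
    intro w hw hmem
    have h1 : algebraMap S₁ S w ∈ maximalIdeal S := hmem
    exact (IsLocalRing.mem_maximalIdeal _).1 h1 (IsLocalization.map_units S ⟨w, hw⟩)
  haveI hlocq : IsLocalization q₁.primeCompl S := IsLocalization.of_le W q₁.primeCompl hle hunits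
  obtain ⟨N₁, _, _, hfpN₁, g₁, hg₁⟩ := exists_fp_model_of_isLocalization (S := S) W N
  haveI := hfpN₁
  letI : Module R N₁ := Module.compHom N₁ (algebraMap R S₁)
  have hsm₁ : ∀ (r : R) (n : N₁), r • n = algebraMap R S₁ r • n := fun _ _ => rfl
  haveI : IsScalarTower R S₁ N₁ := ⟨fun r b n => by
    rw [hsm₁, Algebra.smul_def, mul_smul]⟩
  haveI : IsLocalizedModule q₁.primeCompl g₁ :=
    (isLocalizedModule_iff_isBaseChange q₁.primeCompl S g₁).2 hg₁
  let e : LocalizedModule q₁.primeCompl N₁ ≃ₗ[S₁] N := IsLocalizedModule.iso q₁.primeCompl g₁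
  have hT' : Function.Injective (p.subtype.lTensor (LocalizedModule q₁.primeCompl N₁)) :=
    lTensor_subtype_injective_of_linearEquiv (e.restrictScalars R) p hT
  haveI : Module.Flat R (LocalizedModule q₁.primeCompl N₁) :=
    flat_localizedModule_of_lTensor_injective q₁ p hq₁ hT'
  exact Module.Flat.of_linearEquiv (e.restrictScalars R).symm

end Groth.Agent.Lib.Seat22.LocCritC
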