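import Mathlib
import Groth.Agent.Lib.Seat22LocCritC
import Groth.Agent.Lib.Seat22KerFP

/-!
# Kernels of surjections onto flat finitely presented modules over local rings essentially of finite presentation;
# injectivity modulo the maximal ideal (seat 22)

* `flat_of_exact_of_flat`: the kernel of a surjection of flat modules is flat.
* `finitePresentation_ker_of_flat_baseChange`: finite presentation of kernels passes along a flat base change.
* `finitePresentation_ker_of_essFP`: `S` local, a localization of a finitely presented `R`-algebra, `C` a finitely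
  presented `S`-module flat over `R`: every surjection from a finitely presented module onto `C` has finitely
  presented kernel.
* `injective_and_flat_coker_of_essFP`: EGA IV 11.3.7, Stacks 00ME in the finitely presented case.
-/

set_option autoImplicit false
set_option linter.style.haveILetI false

universe u

namespace Groth.Agent.Lib.Seat22.LocCritD

open TensorProduct IsLocalRing Groth.Agent.Lib.Seat22.LocCritC Groth.Agent.Lib.Seat6.NzdRed
  Groth.Agent.Lib.Helper3.FlatLoc

/-- The kernel of a surjection of flat modules is flat. -/
theorem flat_of_exact_of_flat {R M N P : Type*} [CommRing R] [AddCommGroup M] [AddCommGroup N]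
    [AddCommGroup P] [Module R M] [Module R N] [Module R P] [Module.Flat R N] [Module.Flat R P]
    (g : M →ₗ[R] N) (hg : Function.Injective g) (f : N →ₗ[R] P) (hf : Function.Surjective f)
    (H : Function.Exact g f) : Module.Flat R M := by
  rw [Module.Flat.iff_rTensor_preserves_injective_linearMap]
  intro A B _ _ _ _ φ hφ
  have h1 : Function.Injective (g.lTensor A) :=
    LinearMap.lTensor_injective_of_exact_of_flat f hf g hg H A
  have h2 : Function.Injective (φ.rTensor N) :=
    Module.Flat.rTensor_preserves_injective_linearMap φ hφ
  have h3 : (g.lTensor B) ∘ₗ (φ.rTensor M) = (φ.rTensor N) ∘ₗ (g.lTensor A) := by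
    rw [LinearMap.lTensor_comp_rTensor, LinearMap.rTensor_comp_lTensor]
  intro a b hab
  apply h1
  apply h2
  have := congrArg (fun t => g.lTensor B t) hab
  simp only [← LinearMap.comp_apply, h3] at this
  exact this

section BCK

variable {B₀ B : Type u} [CommRing B₀] [CommRing B] [Algebra B₀ B] [Module.Flat B₀ B]
  {H₀ H : Type u} [AddCommGroup H₀] [Module B₀ H₀] [AddCommGroup H] [Module B H] [Module B₀ H]
  [IsScalarTower B₀ B H]

/-- Finite presentation of the kernel of a surjection onto `H` passes along a flat base change. -/
theorem finitePresentation_ker_of_flat_baseChange (f : H₀ →ₗ[B₀] H) (hbc : IsBaseChange B f) {n : ℕ}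
    (π₀ : (Fin n → B₀) →ₗ[B₀] H₀) (hπ₀ : Function.Surjective π₀)
    [Module.FinitePresentation B₀ (LinearMap.ker π₀)]
    {G : Type*} [AddCommGroup G] [Module B G] [Module.FinitePresentation B G] (p : G →ₗ[B] H)
    (hp : Function.Surjective p) : Module.FinitePresentation B (LinearMap.ker p) := by
  set K₀ := LinearMap.ker π₀ with hK₀
  have hinjB : Function.Injective (K₀.subtype.baseChange B) := by
    have := Module.Flat.lTensor_preserves_injective_linearMap (M := B) K₀.subtype
      K₀.subtype_injective
    intro a b hab
    exact this hab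
  have hexB : Function.Exact (K₀.subtype.baseChange B) (π₀.baseChange B) :=
    lTensor_exact B (LinearMap.exact_subtype_ker_map π₀) hπ₀
  have hsurjB : Function.Surjective (π₀.baseChange B) := LinearMap.lTensor_surjective B hπ₀
  let π : B ⊗[B₀] (Fin n → B₀) →ₗ[B] H := hbc.equiv.toLinearMap ∘ₗ π₀.baseChange B
  have hπ : Function.Surjective π := hbc.equiv.surjective.comp hsurjB
  have hker : LinearMap.ker π = LinearMap.range (K₀.subtype.baseChange B) := by
    rw [← LinearMap.exact_iff.mp hexB]
    exact LinearMap.ker_comp_of_ker_eq_bot _ (LinearMap.ker_eq_bot.mpr hbc.equiv.injective)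
  haveI : Module.FinitePresentation B (LinearMap.ker π) := by
    rw [hker]
    have e : (B ⊗[B₀] K₀) ≃ₗ[B] LinearMap.range (K₀.subtype.baseChange B) :=
      LinearEquiv.ofInjective _ hinjB
    have h1 : Module.FinitePresentation B (B ⊗[B₀] K₀) := inferInstance
    exact Module.FinitePresentation.of_equiv (R := B) (M := B ⊗[B₀] K₀)
      (N := LinearMap.range (K₀.subtype.baseChange B)) e
  exact Groth.Agent.Lib.Seat22.KerFP.finitePresentation_ker_of_presentation π hπ p hp

end BCK

section FPK

/-- **Kernels of surjections onto a flat finitely presented module** over a local ring which is a localization of a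
finitely presented `R`-algebra are finitely presented. -/
theorem finitePresentation_ker_of_essFP {R S : Type u} [CommRing R] [CommRing S] [IsLocalRing S]
    [Algebra R S]
    (hS : ∃ (S₀ : Type u) (_ : CommRing S₀) (_ : Algebra R S₀) (_ : Algebra S₀ S)
      (_ : IsScalarTower R S₀ S) (M : Submonoid S₀), Algebra.FinitePresentation R S₀ ∧
        IsLocalization M S)
    (C : Type u) [AddCommGroup C] [Module S C] [Module R C] [IsScalarTower R S C]
    [Module.FinitePresentation S C] [Module.Flat R C]
    {G : Type*} [AddCommGroup G] [Module S G] [Module.FinitePresentation S G] (p : G →ₗ[S] C)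
    (hp : Function.Surjective p) : Module.FinitePresentation S (LinearMap.ker p) := by
  obtain ⟨S₁, _, _, _, _, W, hfp, hloc⟩ := hS
  haveI := hfp
  haveI := hloc
  letI : Module S₁ C := Module.compHom C (algebraMap S₁ S)
  have hsm : ∀ (b : S₁) (n : C), b • n = algebraMap S₁ S b • n := fun _ _ => rfl
  haveI : IsScalarTower S₁ S C := ⟨fun b c n => by
    rw [hsm, Algebra.smul_def, mul_smul]⟩
  haveI : IsScalarTower R S₁ C := ⟨fun r b n => by
    rw [hsm, hsm, Algebra.smul_def, map_mul, mul_smul, ← IsScalarTower.algebraMap_apply,
      algebraMap_smul]⟩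
  set q₁ : Ideal S₁ := (maximalIdeal S).comap (algebraMap S₁ S) with hq₁def
  haveI : q₁.IsPrime := Ideal.comap_isPrime _ _
  have hunits : ∀ r ∈ q₁.primeCompl, IsUnit (algebraMap S₁ S r) := by
    intro r hr
    exact IsLocalRing.notMem_maximalIdeal.mp hr
  have hle : W ≤ q₁.primeCompl := by
    intro w hw hmem
    have h1 : algebraMap S₁ S w ∈ maximalIdeal S := hmem
    exact (IsLocalRing.mem_maximalIdeal _).1 h1 (IsLocalization.map_units S ⟨w, hw⟩)
  haveI hlocq : IsLocalization q₁.primeCompl S := IsLocalization.of_le W q₁.primeCompl hle hunits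
  obtain ⟨C₁, _, _, hfpC₁, g₁, hg₁⟩ := exists_fp_model_of_isLocalization (S := S) W C
  haveI := hfpC₁
  letI : Module R C₁ := Module.compHom C₁ (algebraMap R S₁)
  have hsm₁ : ∀ (r : R) (n : C₁), r • n = algebraMap R S₁ r • n := fun _ _ => rfl
  haveI : IsScalarTower R S₁ C₁ := ⟨fun r b n => by
    rw [hsm₁, Algebra.smul_def, mul_smul]⟩
  haveI : IsLocalizedModule q₁.primeCompl g₁ :=
    (isLocalizedModule_iff_isBaseChange q₁.primeCompl S g₁).2 hg₁
  let e : LocalizedModule q₁.primeCompl C₁ ≃ₗ[S₁] C := IsLocalizedModule.iso q₁.primeCompl g₁
  have hflatq : Module.Flat R (LocalizedModule q₁.primeCompl C₁) :=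
    Module.Flat.of_linearEquiv (e.restrictScalars R)
  obtain ⟨g, hg, hflatg⟩ := exists_flat_away q₁ hflatq
  -- the localization away from `g`
  haveI : Algebra.FinitePresentation S₁ (Localization (Submonoid.powers g)) :=
    IsLocalization.Away.finitePresentation g
  haveI : Algebra.FinitePresentation R (Localization (Submonoid.powers g)) :=
    Algebra.FinitePresentation.trans R S₁ _
  haveI : Module.Flat R (LocalizedModule (Submonoid.powers g) C₁) := hflatg
  obtain ⟨n, π₂, hπ₂⟩ := Module.Finite.exists_fin' (Localization (Submonoid.powers g))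
    (LocalizedModule (Submonoid.powers g) C₁)
  haveI : Module.FinitePresentation (Localization (Submonoid.powers g)) (LinearMap.ker π₂) :=
    Groth.Agent.Lib.Seat22.KerFP.finitePresentation_ker R (Localization (Submonoid.powers g))
      (LocalizedModule (Submonoid.powers g) C₁) π₂ hπ₂
  -- the algebra structure `S₂ → S`
  have hgu : IsUnit (algebraMap S₁ S g) := hunits g hg
  letI algS₂S : Algebra (Localization (Submonoid.powers g)) S :=
    (IsLocalization.Away.lift (S := Localization (Submonoid.powers g)) g hgu).toAlgebra
  haveI : IsScalarTower S₁ (Localization (Submonoid.powers g)) S :=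
    IsScalarTower.of_algebraMap_eq (fun x => (IsLocalization.Away.lift_eq g hgu x).symm)
  have hpow : Submonoid.powers g ≤ q₁.primeCompl := by
    rintro _ ⟨k, rfl⟩ hmem
    exact hg (Ideal.IsPrime.mem_of_pow_mem inferInstance k hmem)
  haveI : Module.Flat (Localization (Submonoid.powers g)) S := by
    haveI : IsLocalization (Submonoid.map (algebraMap S₁ (Localization (Submonoid.powers g)))
        q₁.primeCompl) S :=
      IsLocalization.isLocalization_of_submonoid_le (Localization (Submonoid.powers g)) S
        (Submonoid.powers g) q₁.primeCompl hpow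
    exact IsLocalization.flat S (Submonoid.map (algebraMap S₁ (Localization (Submonoid.powers g)))
        q₁.primeCompl)
  letI : Module (Localization (Submonoid.powers g)) C :=
    Module.compHom C (algebraMap (Localization (Submonoid.powers g)) S)
  have hsm₂ : ∀ (b : Localization (Submonoid.powers g)) (n : C),
      b • n = algebraMap (Localization (Submonoid.powers g)) S b • n := fun _ _ => rfl
  haveI : IsScalarTower (Localization (Submonoid.powers g)) S C := ⟨fun b c n => by
    rw [hsm₂, Algebra.smul_def, mul_smul]⟩
  haveI : IsScalarTower S₁ (Localization (Submonoid.powers g)) C := ⟨fun a b n => by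
    rw [hsm₂, hsm₂, hsm, Algebra.smul_def, map_mul, mul_smul, ← IsScalarTower.algebraMap_apply]⟩
  have hun : ∀ x : Submonoid.powers g, IsUnit (algebraMap S₁ (Module.End S₁ C) x) :=
    fun x => IsLocalizedModule.map_units g₁ ⟨x.1, hpow x.2⟩
  let lam₁ : LocalizedModule (Submonoid.powers g) C₁ →ₗ[S₁] C :=
    IsLocalizedModule.lift (Submonoid.powers g)
      (LocalizedModule.mkLinearMap (Submonoid.powers g) C₁) g₁ hun
  let lam : LocalizedModule (Submonoid.powers g) C₁ →ₗ[Localization (Submonoid.powers g)] C :=
    LinearMap.extendScalarsOfIsLocalization (Submonoid.powers g)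
      (Localization (Submonoid.powers g)) lam₁
  have hbc : IsBaseChange S lam := by
    have h1 : IsBaseChange (Localization (Submonoid.powers g))
        (LocalizedModule.mkLinearMap (Submonoid.powers g) C₁) :=
      (isLocalizedModule_iff_isBaseChange (Submonoid.powers g) _ _).mp inferInstance
    refine IsBaseChange.of_comp h1 ?_
    have h2 : (lam.restrictScalars S₁) ∘ₗ (LocalizedModule.mkLinearMap (Submonoid.powers g) C₁)
        = g₁ := by
      ext x
      exact IsLocalizedModule.lift_apply (Submonoid.powers g)
        (LocalizedModule.mkLinearMap (Submonoid.powers g) C₁) g₁ hun x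
    rw [h2]
    exact hg₁
  exact finitePresentation_ker_of_flat_baseChange lam hbc π₂ hπ₂ p hp

end FPK

end Groth.Agent.Lib.Seat22.LocCritD
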