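import Mathlib
import Groth.Agent.Lib.Seat22LocCritD

/-!
# Injectivity modulo the maximal ideal, finitely presented case (seat 22)

`R → S` local homomorphism of local rings, `S` a localization of a finitely presented `R`-algebra, `M`, `N` finitely
presented `S`-modules, `N` flat over `R`, `u : M → N` an `S`-linear map injective modulo `𝔪_R`. Then `u` is injective
and `Coker u` is flat over `R` (EGA IV 11.3.7; Stacks 00ME without Noetherian hypotheses).
-/

set_option autoImplicit false
set_option linter.style.haveILetI false

universe u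

namespace Groth.Agent.Lib.Seat22.LocCritE

open TensorProduct IsLocalRing Groth.Agent.Lib.Seat22.LocCritC Groth.Agent.Lib.Seat22.LocCritD
  Groth.Agent.Lib.Helper3.FlatLoc

theorem mem_map_smul_iff {R S X : Type*} [CommRing R] [CommRing S] [Algebra R S] [AddCommGroup X]
    [Module S X] [Module R X] [IsScalarTower R S X] (I : Ideal R) (P : Submodule S X) (y : X) :
    y ∈ I.map (algebraMap R S) • P ↔ y ∈ I • P.restrictScalars R := by
  rw [← Ideal.smul_restrictScalars (S := S) I P, Submodule.restrictScalars_mem]

section General

variable {R S M N : Type*} [CommRing R] [CommRing S] [Algebra R S]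
  [AddCommGroup M] [Module S M] [Module R M] [IsScalarTower R S M]
  [AddCommGroup N] [Module S N] [Module R N] [IsScalarTower R S N]

/-- If `N` is flat and `u` is injective modulo `I`, then `Tor₁(Coker u, R/I) = 0`. -/
theorem lTensor_coker_injective (I : Ideal R) [Module.Flat R N] (u : M →ₗ[S] N)
    (hu : ∀ x : M, u x ∈ I • (⊤ : Submodule R N) → x ∈ I • (⊤ : Submodule R M)) :
    Function.Injective (I.subtype.lTensor (N ⧸ LinearMap.range u)) := by
  have hF : Function.Injective (I.subtype.lTensor N) :=
    Module.Flat.lTensor_preserves_injective_linearMap _ Subtype.val_injective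
  have hmapsmul : ∀ x : M, x ∈ I • (⊤ : Submodule R M) →
      u x ∈ I • (LinearMap.range u).restrictScalars R := by
    intro x hx
    refine Submodule.smul_induction_on hx ?_ ?_
    · intro r hr m _
      rw [← algebraMap_smul S r m, map_smul, algebraMap_smul]
      exact Submodule.smul_mem_smul hr ⟨m, rfl⟩
    · intro a b ha hb
      rw [map_add]
      exact Submodule.add_mem _ ha hb
  have hTor : ∀ z : (N ⧸ LinearMap.range u) ⊗[R] I,
      I.subtype.lTensor (N ⧸ LinearMap.range u) z = 0 →
        ∃ s ∈ (⊥ : Submonoid S), s • z = 0 := by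
    refine (kernel_torsion_iff (LinearMap.range u) I ⊥ hF).mpr ?_
    rintro y ⟨x, rfl⟩ hy
    refine ⟨1, Submonoid.one_mem _, ?_⟩
    rw [one_smul]
    exact hmapsmul x (hu x hy)
  rw [injective_iff_map_eq_zero]
  intro z hz
  obtain ⟨s, hs, hsz⟩ := hTor z hz
  rw [Submonoid.mem_bot] at hs
  rwa [hs, one_smul] at hsz

/-- If the image of `u` is flat and the kernel of `u` lies in `I M`, then the kernel is `I`-divisible. -/
theorem ker_le_smul_ker (I : Ideal R) (u : M →ₗ[S] N) [Module.Flat R (LinearMap.range u)]
    (hu : ∀ x ∈ LinearMap.ker u, x ∈ I • (⊤ : Submodule R M)) :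
    ∀ x ∈ LinearMap.ker u, x ∈ I • (LinearMap.ker u).restrictScalars R := by
  intro x hx
  have hxm := hu x hx
  have hinj : Function.Injective
      (((LinearMap.ker u).subtype.restrictScalars R).lTensor (R ⧸ I)) :=
    LinearMap.lTensor_injective_of_exact_of_flat (u.rangeRestrict.restrictScalars R)
      u.surjective_rangeRestrict ((LinearMap.ker u).subtype.restrictScalars R)
      (LinearMap.ker u).subtype_injective (by
        intro y
        change u.rangeRestrict y = 0 ↔ y ∈ Set.range (LinearMap.ker u).subtype
        rw [Submodule.coe_subtype, Subtype.range_coe_subtype, ← LinearMap.mem_ker,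
          LinearMap.ker_rangeRestrict]
        rfl) (R ⧸ I)
  have h0 : ((1 : R ⧸ I) ⊗ₜ[R] (⟨x, hx⟩ : LinearMap.ker u)) = 0 := by
    apply hinj
    rw [map_zero, LinearMap.lTensor_tmul]
    change (1 : R ⧸ I) ⊗ₜ[R] x = 0
    have := TensorProduct.quotTensorEquivQuotSMul_mk_one_tmul (M := M) I x
    apply (TensorProduct.quotTensorEquivQuotSMul M I).injective
    rw [this, map_zero, Submodule.Quotient.mk_eq_zero]
    exact hxm
  have h1 : (⟨x, hx⟩ : LinearMap.ker u) ∈ I • (⊤ : Submodule R (LinearMap.ker u)) := by
    have := TensorProduct.quotTensorEquivQuotSMul_mk_one_tmul (M := LinearMap.ker u) I ⟨x, hx⟩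
    rw [h0, map_zero] at this
    exact (Submodule.Quotient.mk_eq_zero _).mp this.symm
  have h2 : ∀ y : LinearMap.ker u, y ∈ I • (⊤ : Submodule R (LinearMap.ker u)) →
      (y : M) ∈ I • (LinearMap.ker u).restrictScalars R := by
    intro y hy
    refine Submodule.smul_induction_on hy ?_ ?_
    · intro r hr m _
      exact Submodule.smul_mem_smul hr m.2
    · intro a b ha hb
      exact Submodule.add_mem _ ha hb
  exact h2 _ h1

/-- The image of a map into a flat module with flat cokernel is flat. -/
theorem flat_range_of_flat_coker (u : M →ₗ[S] N) [Module.Flat R N]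
    [Module.Flat R (N ⧸ LinearMap.range u)] : Module.Flat R (LinearMap.range u) := by
  have hex : Function.Exact ((LinearMap.range u).subtype.restrictScalars R)
      ((LinearMap.range u).mkQ.restrictScalars R) := by
    intro y
    change (LinearMap.range u).mkQ y = 0 ↔ y ∈ Set.range (LinearMap.range u).subtype
    rw [Submodule.mkQ_apply, Submodule.Quotient.mk_eq_zero, Submodule.coe_subtype,
      Subtype.range_coe_subtype]
    rfl
  have hsurj : Function.Surjective ((LinearMap.range u).mkQ.restrictScalars R) := by
    intro y
    exact Submodule.mkQ_surjective _ y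
  have hinj : Function.Injective ((LinearMap.range u).subtype.restrictScalars R) := by
    intro a b hab
    exact Subtype.ext hab
  exact flat_of_exact_of_flat (R := R) (M := LinearMap.range u) (N := N)
    (P := N ⧸ LinearMap.range u) ((LinearMap.range u).subtype.restrictScalars R)
    hinj ((LinearMap.range u).mkQ.restrictScalars R) hsurj hex

end General

section Main

variable {R S M N : Type u} [CommRing R] [CommRing S]
    [IsLocalRing R] [IsLocalRing S] [Algebra R S] [IsLocalHom (algebraMap R S)]
    [AddCommGroup M] [Module S M] [Module R M] [IsScalarTower R S M] [Module.FinitePresentation S M]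
    [AddCommGroup N] [Module S N] [Module R N] [IsScalarTower R S N] [Module.FinitePresentation S N]
    [Module.Flat R N]

theorem maximalIdeal_eq_comap : maximalIdeal R = (maximalIdeal S).comap (algebraMap R S) := by
  have hp0 : (maximalIdeal S).comap (algebraMap R S) = maximalIdeal R :=
    ((IsLocalRing.local_hom_TFAE (algebraMap R S)).out 0 4).mp ‹IsLocalHom (algebraMap R S)›
  exact hp0.symm

theorem finitePresentation_coker (u : M →ₗ[S] N) :
    Module.FinitePresentation S (N ⧸ LinearMap.range u) := by
  have hfg : (LinearMap.range u).FG := by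
    rw [LinearMap.range_eq_map]
    exact Submodule.FG.map _ Module.Finite.fg_top
  exact Module.finitePresentation_of_surjective (LinearMap.range u).mkQ (Submodule.mkQ_surjective _)
      (by rw [Submodule.ker_mkQ]; exact hfg)

/-- The cokernel of a map which is injective modulo `𝔪_R` into a flat module is flat. -/
theorem flat_coker_of_essFP
    (hS : ∃ (S₀ : Type u) (_ : CommRing S₀) (_ : Algebra R S₀) (_ : Algebra S₀ S)
      (_ : IsScalarTower R S₀ S) (M : Submonoid S₀), Algebra.FinitePresentation R S₀ ∧
        IsLocalization M S)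
    (u : M →ₗ[S] N)
    (hu : ∀ x : M, u x ∈ maximalIdeal R • (⊤ : Submodule R N) →
      x ∈ maximalIdeal R • (⊤ : Submodule R M)) :
    Module.Flat R (N ⧸ LinearMap.range u) := by
  haveI := finitePresentation_coker u
  exact flat_of_lTensor_injective_of_essFP hS _ (maximalIdeal R) maximalIdeal_eq_comap
    (lTensor_coker_injective (maximalIdeal R) u hu)

theorem injective_of_essFP
    (hS : ∃ (S₀ : Type u) (_ : CommRing S₀) (_ : Algebra R S₀) (_ : Algebra S₀ S)
      (_ : IsScalarTower R S₀ S) (M : Submonoid S₀), Algebra.FinitePresentation R S₀ ∧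
        IsLocalization M S)
    (u : M →ₗ[S] N)
    (hu : ∀ x : M, u x ∈ maximalIdeal R • (⊤ : Submodule R N) →
      x ∈ maximalIdeal R • (⊤ : Submodule R M)) :
    Function.Injective u := by
  haveI := finitePresentation_coker u
  haveI hCflat : Module.Flat R (N ⧸ LinearMap.range u) := flat_coker_of_essFP hS u hu
  haveI hrange_fp : Module.FinitePresentation S (LinearMap.range u) := by
    have h1 := finitePresentation_ker_of_essFP hS (N ⧸ LinearMap.range u)
      (LinearMap.range u).mkQ (Submodule.mkQ_surjective _)
    exact Module.FinitePresentation.of_equiv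
      (LinearEquiv.ofEq _ _ (Submodule.ker_mkQ (LinearMap.range u)))
  haveI hrange_flat : Module.Flat R (LinearMap.range u) := flat_range_of_flat_coker u
  have hker_fg : (LinearMap.ker u).FG := by
    have h1 := Module.FinitePresentation.fg_ker u.rangeRestrict u.surjective_rangeRestrict
    rwa [LinearMap.ker_rangeRestrict] at h1
  have hdiv : LinearMap.ker u ≤ (maximalIdeal R).map (algebraMap R S) • LinearMap.ker u := by
    intro x hx
    rw [mem_map_smul_iff]
    refine ker_le_smul_ker (maximalIdeal R) u ?_ x hx
    intro y hy
    apply hu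
    rw [LinearMap.mem_ker.mp hy]
    exact Submodule.zero_mem _
  have hJ : (maximalIdeal R).map (algebraMap R S) ≤ Ideal.jacobson (⊥ : Ideal S) := by
    rw [IsLocalRing.jacobson_eq_maximalIdeal ⊥ bot_ne_top, Ideal.map_le_iff_le_comap,
      ← maximalIdeal_eq_comap]
  have hbot := Submodule.eq_bot_of_le_smul_of_le_jacobson_bot _ _ hker_fg hdiv hJ
  exact LinearMap.ker_eq_bot.mp hbot

/-- **EGA IV 11.3.7 / Stacks 00ME, finitely presented case without Noetherian hypotheses.** -/
theorem injective_and_flat_coker_of_essFP
    (hS : ∃ (S₀ : Type u) (_ : CommRing S₀) (_ : Algebra R S₀) (_ : Algebra S₀ S)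
      (_ : IsScalarTower R S₀ S) (M : Submonoid S₀), Algebra.FinitePresentation R S₀ ∧
        IsLocalization M S)
    (u : M →ₗ[S] N)
    (hu : ∀ x : M, u x ∈ (maximalIdeal R).map (algebraMap R S) • (⊤ : Submodule S N) →
      x ∈ (maximalIdeal R).map (algebraMap R S) • (⊤ : Submodule S M)) :
    Function.Injective u ∧ Module.Flat R (N ⧸ LinearMap.range u) := by
  have hu' : ∀ x : M, u x ∈ maximalIdeal R • (⊤ : Submodule R N) →
      x ∈ maximalIdeal R • (⊤ : Submodule R M) := by
    intro x hx
    have h1 : u x ∈ (maximalIdeal R).map (algebraMap R S) • (⊤ : Submodule S N) := by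
      rw [mem_map_smul_iff, Submodule.restrictScalars_top]
      exact hx
    have h2 := hu x h1
    rw [mem_map_smul_iff, Submodule.restrictScalars_top] at h2
    exact h2
  exact ⟨injective_of_essFP hS u hu', flat_coker_of_essFP hS u hu'⟩

end Main

end Groth.Agent.Lib.Seat22.LocCritE
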