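import Mathlib
import Groth.Agent.Lib.Seat22LocCritE

/-!
# Fibrewise criterion of flatness for modules, without Noetherian hypotheses (seat 22)

`A → B → C` local homomorphisms of local rings, `C` a localization of a finitely presented `B`-algebra, `M` a nonzero
finitely presented `C`-module which is flat over `A` and such that `M / 𝔪_A M` is flat over `B / 𝔪_A B`. Then `B` is
flat over `A` and `M` is flat over `B` (EGA IV 11.3.10, Stacks 00R7).
-/

set_option autoImplicit false
set_option linter.style.haveILetI false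

universe u

namespace Groth.Agent.Lib.Seat22.FibCritMod

open TensorProduct IsLocalRing Groth.Agent.Lib.Seat22.LocCritC

section Step1

variable {A B M : Type*} [CommRing A] [CommRing B] [Algebra A B] [AddCommGroup M] [Module A M]
  [Module B M] [IsScalarTower A B M]

/-- The canonical map `M ⊗_A I → M ⊗_B (I B)`. -/
noncomputable def psi (I : Ideal A) : M ⊗[A] I →ₗ[A] M ⊗[B] (I.map (algebraMap A B) : Ideal B) :=
  TensorProduct.lift (LinearMap.mk₂ A
    (fun (m : M) (a : I) => m ⊗ₜ[B] (⟨algebraMap A B a, Ideal.mem_map_of_mem _ a.2⟩ :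
      (I.map (algebraMap A B) : Ideal B)))
    (fun m₁ m₂ a => by rw [TensorProduct.add_tmul])
    (fun r m a => by rw [TensorProduct.smul_tmul'])
    (fun m a₁ a₂ => by
      rw [← TensorProduct.tmul_add]
      congr 1
      ext
      simp)
    (fun r m a => by
      rw [TensorProduct.smul_tmul', ← algebraMap_smul B r m, TensorProduct.smul_tmul]
      congr 1
      ext
      simp [Algebra.smul_def]))

@[simp]
theorem psi_tmul (I : Ideal A) (m : M) (a : I) :
    psi (B := B) I (m ⊗ₜ[A] a) = m ⊗ₜ[B] (⟨algebraMap A B a, Ideal.mem_map_of_mem _ a.2⟩ :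
      (I.map (algebraMap A B) : Ideal B)) := by
  simp [psi]

theorem psi_surjective (I : Ideal A) : Function.Surjective (psi (B := B) (M := M) I) := by
  have key : ∀ (j : B) (hj : j ∈ I.map (algebraMap A B)) (m : M),
      ∃ w : M ⊗[A] I, psi (B := B) I w = m ⊗ₜ[B] (⟨j, hj⟩ : (I.map (algebraMap A B) : Ideal B)) := by
    intro j hj
    refine Submodule.span_induction (p := fun j hj => ∀ m : M, ∃ w : M ⊗[A] I,
      psi (B := B) I w = m ⊗ₜ[B] (⟨j, hj⟩ : (I.map (algebraMap A B) : Ideal B))) ?_ ?_ ?_ ?_ hj
    · rintro _ ⟨a, ha, rfl⟩ m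
      exact ⟨m ⊗ₜ ⟨a, ha⟩, by simp⟩
    · intro m
      refine ⟨0, ?_⟩
      rw [map_zero]
      have : (⟨0, Submodule.zero_mem _⟩ : (I.map (algebraMap A B) : Ideal B)) = 0 := rfl
      rw [this, TensorProduct.tmul_zero]
    · intro x y hx hy ihx ihy m
      obtain ⟨w₁, hw₁⟩ := ihx m
      obtain ⟨w₂, hw₂⟩ := ihy m
      refine ⟨w₁ + w₂, ?_⟩
      rw [map_add, hw₁, hw₂, ← TensorProduct.tmul_add]
      rfl
    · intro b x hx ihx m
      obtain ⟨w, hw⟩ := ihx (b • m)
      refine ⟨w, ?_⟩
      rw [hw, TensorProduct.smul_tmul]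
      rfl
  intro z
  induction z with
  | zero => exact ⟨0, map_zero _⟩
  | tmul m j => exact key j.1 j.2 m
  | add x y hx hy =>
    obtain ⟨w₁, hw₁⟩ := hx
    obtain ⟨w₂, hw₂⟩ := hy
    exact ⟨w₁ + w₂, by rw [map_add, hw₁, hw₂]⟩

/-- `Tor₁^B(M, B / I B) = 0` when `M` is flat over `A`. -/
theorem lTensor_map_injective [Module.Flat A M] (I : Ideal A) :
    Function.Injective ((I.map (algebraMap A B)).subtype.lTensor M) := by
  rw [injective_iff_map_eq_zero]
  intro z hz
  obtain ⟨w, rfl⟩ := psi_surjective (B := B) I z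
  have hcomp : ∀ w : M ⊗[A] I,
      (TensorProduct.rid B M) ((I.map (algebraMap A B)).subtype.lTensor M (psi (B := B) I w)) =
        (TensorProduct.rid A M) (I.subtype.lTensor M w) := by
    intro w
    induction w with
    | zero => simp
    | add x y hx hy => simp only [map_add, hx, hy]
    | tmul m a => simp
  have h1 : I.subtype.lTensor M w = 0 := by
    apply (TensorProduct.rid A M).injective
    rw [← hcomp, hz, map_zero, map_zero]
  have h2 : w = 0 :=
    Module.Flat.lTensor_preserves_injective_linearMap (M := M) I.subtype Subtype.val_injective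
      (by rw [h1, map_zero])
  rw [h2, map_zero]

end Step1

section Step2

variable {B : Type*} [CommRing B] (J : Ideal B) {M : Type*} [AddCommGroup M] [Module B M]

/-- If `B/J ⊗ M` is flat over `B/J`, then `- ⊗_B M` preserves injections of `B/J`-modules. -/
theorem rTensor_restrictScalars_injective [Module.Flat (B ⧸ J) ((B ⧸ J) ⊗[B] M)]
    {Q Q' : Type*} [AddCommGroup Q] [Module (B ⧸ J) Q] [Module B Q] [IsScalarTower B (B ⧸ J) Q]
    [AddCommGroup Q'] [Module (B ⧸ J) Q'] [Module B Q'] [IsScalarTower B (B ⧸ J) Q']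
    (j : Q →ₗ[B ⧸ J] Q') (hj : Function.Injective j) :
    Function.Injective ((j.restrictScalars B).rTensor M) := by
  let e := TensorProduct.AlgebraTensorModule.cancelBaseChange B (B ⧸ J) (B ⧸ J) Q M
  let e' := TensorProduct.AlgebraTensorModule.cancelBaseChange B (B ⧸ J) (B ⧸ J) Q' M
  have hcomm : ∀ t : Q ⊗[B ⧸ J] ((B ⧸ J) ⊗[B] M),
      e' (j.rTensor ((B ⧸ J) ⊗[B] M) t) = (j.restrictScalars B).rTensor M (e t) := by
    intro t
    induction t with
    | zero => simp
    | add x y hx hy => simp only [map_add, hx, hy]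
    | tmul q t' =>
      induction t' with
      | zero => simp
      | add x y hx hy => simp only [TensorProduct.tmul_add, map_add, hx, hy]
      | tmul b m =>
        simp only [LinearMap.rTensor_tmul, e, e',
          TensorProduct.AlgebraTensorModule.cancelBaseChange_tmul, LinearMap.coe_restrictScalars,
          map_smul]
  have hflat : Function.Injective (j.rTensor ((B ⧸ J) ⊗[B] M)) :=
    Module.Flat.rTensor_preserves_injective_linearMap j hj
  intro a b hab
  obtain ⟨a, rfl⟩ := e.surjective a
  obtain ⟨b, rfl⟩ := e.surjective b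
  rw [← hcomm, ← hcomm] at hab
  rw [hflat (e'.injective hab)]

/-- From `Tor₁^B(M, B/J) = 0` and flatness of `M/JM` over `B/J` to `Tor₁^B(M, B/𝔞) = 0` for every `𝔞 ⊇ J`. -/
theorem lTensor_injective_of_le (𝔞 : Ideal B) (hJ𝔞 : J ≤ 𝔞)
    (h1 : Function.Injective (J.subtype.lTensor M)) [Module.Flat (B ⧸ J) ((B ⧸ J) ⊗[B] M)] :
    Function.Injective (𝔞.subtype.lTensor M) := by
  set 𝔞' : Ideal (B ⧸ J) := 𝔞.map (Ideal.Quotient.mk J) with h𝔞'
  let π : 𝔞 →ₗ[B] 𝔞' :=
    { toFun := fun a => ⟨Ideal.Quotient.mk J a, Ideal.mem_map_of_mem _ a.2⟩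
      map_add' := fun a b => by ext; simp
      map_smul' := fun r a => by ext; simp [Algebra.smul_def] }
  have hπsurj : Function.Surjective π := by
    rintro ⟨y, hy⟩
    obtain ⟨a, ha, rfl⟩ := (Ideal.mem_map_iff_of_surjective _ Ideal.Quotient.mk_surjective).mp hy
    exact ⟨⟨a, ha⟩, rfl⟩
  let ι : J →ₗ[B] 𝔞 := Submodule.inclusion hJ𝔞
  have hex : Function.Exact ι π := by
    intro a
    constructor
    · intro ha
      have h2 : Ideal.Quotient.mk J (a : B) = 0 := congrArg Subtype.val ha
      rw [Ideal.Quotient.eq_zero_iff_mem] at h2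
      exact ⟨⟨a, h2⟩, rfl⟩
    · rintro ⟨b, rfl⟩
      apply Subtype.ext
      change Ideal.Quotient.mk J (b : B) = 0
      exact Ideal.Quotient.eq_zero_iff_mem.mpr b.2
  have hexM : Function.Exact (ι.lTensor M) (π.lTensor M) := lTensor_exact M hex hπsurj
  rw [injective_iff_map_eq_zero]
  intro z hz
  -- the image of `z` in `M ⊗ 𝔞'` vanishes
  have hXr := rTensor_restrictScalars_injective J (M := M) 𝔞'.subtype Subtype.val_injective
  have hX : Function.Injective ((𝔞'.subtype.restrictScalars B).lTensor M) :=
    (LinearMap.lTensor_inj_iff_rTensor_inj _ _).mpr hXr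
  have hsq : (𝔞'.subtype.restrictScalars B) ∘ₗ π = J.mkQ ∘ₗ 𝔞.subtype := by
    ext a
    rfl
  have hz' : π.lTensor M z = 0 := by
    apply hX
    rw [map_zero, ← LinearMap.comp_apply, ← LinearMap.lTensor_comp, hsq, LinearMap.lTensor_comp,
      LinearMap.comp_apply, hz, map_zero]
  obtain ⟨z', rfl⟩ := (hexM z).mp hz'
  have h3 : J.subtype.lTensor M z' = 0 := by
    have : J.subtype = 𝔞.subtype ∘ₗ ι := by
      ext a
      rfl
    rw [this, LinearMap.lTensor_comp, LinearMap.comp_apply, hz]
  rw [h1 (by rw [h3, map_zero] : J.subtype.lTensor M z' = J.subtype.lTensor M 0), map_zero]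

end Step2

section Step4

/-- If a faithfully flat `B`-module is flat over `A`, then `B` is flat over `A`. -/
theorem flat_base_of_faithfullyFlat {A B M : Type u} [CommRing A] [CommRing B] [Algebra A B]
    [AddCommGroup M] [Module B M] [Module A M] [IsScalarTower A B M] [Module.FaithfullyFlat B M]
    [Module.Flat A M] : Module.Flat A B := by
  rw [Module.Flat.iff_lTensor_preserves_injective_linearMap]
  intro P P' _ _ _ _ φ hφ
  have h1 : Function.Injective (φ.lTensor M) :=
    Module.Flat.lTensor_preserves_injective_linearMap φ hφ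
  let e := TensorProduct.AlgebraTensorModule.cancelBaseChange A B B M P
  let e' := TensorProduct.AlgebraTensorModule.cancelBaseChange A B B M P'
  have hcomm : ∀ t : M ⊗[B] (B ⊗[A] P),
      e' ((φ.baseChange B).lTensor M t) = φ.lTensor M (e t) := by
    intro t
    induction t with
    | zero => simp
    | add x y hx hy => simp only [map_add, hx, hy]
    | tmul m t' =>
      induction t' with
      | zero => simp
      | add x y hx hy => simp only [TensorProduct.tmul_add, map_add, hx, hy]
      | tmul b q =>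
        simp only [LinearMap.lTensor_tmul, LinearMap.baseChange_tmul, e, e',
          TensorProduct.AlgebraTensorModule.cancelBaseChange_tmul]
  have h2 : Function.Injective ((φ.baseChange B).lTensor M) := by
    intro a b hab
    have h3 : φ.lTensor M (e a) = φ.lTensor M (e b) := by rw [← hcomm, ← hcomm, hab]
    exact e.injective (h1 h3)
  have h4 : Function.Injective (φ.baseChange B) :=
    (Module.FaithfullyFlat.lTensor_injective_iff_injective B M (φ.baseChange B)).mp h2
  intro a b hab
  exact h4 hab

/-- A nonzero finite module over a local `B`-algebra (with local structure map) which is flat over `B` is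
faithfully flat over `B`. -/
theorem faithfullyFlat_of_flat_of_local {B C M : Type*} [CommRing B] [CommRing C] [IsLocalRing B]
    [IsLocalRing C] [Algebra B C] [IsLocalHom (algebraMap B C)] [AddCommGroup M] [Module C M]
    [Module B M] [IsScalarTower B C M] [Module.Finite C M] [Nontrivial M] [Module.Flat B M] :
    Module.FaithfullyFlat B M := by
  refine ⟨fun m hm htop => ?_⟩
  have hm' : m = maximalIdeal B := IsLocalRing.eq_maximalIdeal hm
  subst hm'
  have hle : (⊤ : Submodule C M) ≤ (maximalIdeal B).map (algebraMap B C) • (⊤ : Submodule C M) := by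
    intro y _
    rw [Groth.Agent.Lib.Seat22.LocCritE.mem_map_smul_iff, Submodule.restrictScalars_top, htop]
    trivial
  have hp0 : (maximalIdeal C).comap (algebraMap B C) = maximalIdeal B :=
    ((IsLocalRing.local_hom_TFAE (algebraMap B C)).out 0 4).mp ‹IsLocalHom (algebraMap B C)›
  have hJ : (maximalIdeal B).map (algebraMap B C) ≤ Ideal.jacobson (⊥ : Ideal C) := by
    rw [IsLocalRing.jacobson_eq_maximalIdeal ⊥ bot_ne_top, Ideal.map_le_iff_le_comap, hp0]
  have hbot := Submodule.eq_bot_of_le_smul_of_le_jacobson_bot _ _ Module.Finite.fg_top hle hJ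
  exact top_ne_bot hbot

end Step4

section Main

variable {A B C M : Type u} [CommRing A] [CommRing B] [CommRing C] [IsLocalRing A] [IsLocalRing B]
  [IsLocalRing C] [Algebra A B] [Algebra B C] [IsLocalHom (algebraMap A B)]
  [IsLocalHom (algebraMap B C)] [AddCommGroup M] [Module C M] [Module B M] [Module A M]
  [IsScalarTower B C M] [IsScalarTower A B M] [Module.FinitePresentation C M]

/-- The equivalence `B/J ⊗ M ≃ M/JM` over `B/J`. -/
noncomputable def quotEquiv (J : Ideal B) :
    ((B ⧸ J) ⊗[B] M) ≃ₗ[B ⧸ J] (M ⧸ J • (⊤ : Submodule B M)) :=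
  (TensorProduct.quotTensorEquivQuotSMul M J).extendScalarsOfSurjective Ideal.Quotient.mk_surjective

theorem flat_of_flat_fibre
    (hC : ∃ (C₀ : Type u) (_ : CommRing C₀) (_ : Algebra B C₀) (_ : Algebra C₀ C)
      (_ : IsScalarTower B C₀ C) (W : Submonoid C₀), Algebra.FinitePresentation B C₀ ∧
        IsLocalization W C)
    [Module.Flat A M]
    (hfib : Module.Flat (B ⧸ (maximalIdeal A).map (algebraMap A B))
      (M ⧸ (maximalIdeal A).map (algebraMap A B) • (⊤ : Submodule B M))) :
    Module.Flat B M := by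
  set J := (maximalIdeal A).map (algebraMap A B) with hJdef
  have hJ : J ≤ maximalIdeal B := by
    rw [hJdef, Ideal.map_le_iff_le_comap, ← Groth.Agent.Lib.Seat22.LocCritE.maximalIdeal_eq_comap]
  haveI : Module.Flat (B ⧸ J) ((B ⧸ J) ⊗[B] M) := Module.Flat.of_linearEquiv (quotEquiv (M := M) J)
  have h1 : Function.Injective (J.subtype.lTensor M) :=
    lTensor_map_injective (B := B) (M := M) (maximalIdeal A)
  have h2 := lTensor_injective_of_le J (M := M) (maximalIdeal B) hJ h1
  exact flat_of_lTensor_injective_of_essFP hC M (maximalIdeal B)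
    Groth.Agent.Lib.Seat22.LocCritE.maximalIdeal_eq_comap h2

/-- **Fibrewise criterion of flatness for modules** (EGA IV 11.3.10), no Noetherian hypotheses. -/
theorem fibre_criterion_module
    (hC : ∃ (C₀ : Type u) (_ : CommRing C₀) (_ : Algebra B C₀) (_ : Algebra C₀ C)
      (_ : IsScalarTower B C₀ C) (W : Submonoid C₀), Algebra.FinitePresentation B C₀ ∧
        IsLocalization W C)
    [Nontrivial M] [Module.Flat A M]
    (hfib : Module.Flat (B ⧸ (maximalIdeal A).map (algebraMap A B))
      (M ⧸ (maximalIdeal A).map (algebraMap A B) • (⊤ : Submodule B M))) :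
    Module.Flat A B ∧ Module.Flat B M := by
  haveI hBM : Module.Flat B M := flat_of_flat_fibre hC hfib
  haveI : Module.FaithfullyFlat B M := faithfullyFlat_of_flat_of_local (C := C)
  exact ⟨flat_base_of_faithfullyFlat (M := M), hBM⟩

omit [IsLocalRing B] [IsLocalHom (algebraMap A B)] [IsLocalRing C] [IsLocalHom (algebraMap B C)]
  [Module.FinitePresentation C M] in
/-- The easy converse. -/
theorem flat_and_flat_fibre_of_flat [Module.Flat A B] [Module.Flat B M] :
    Module.Flat A M ∧ Module.Flat (B ⧸ (maximalIdeal A).map (algebraMap A B))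
      (M ⧸ (maximalIdeal A).map (algebraMap A B) • (⊤ : Submodule B M)) :=
  ⟨Module.Flat.trans A B M, Module.Flat.of_linearEquiv (quotEquiv (M := M) _).symm⟩

end Main

end Groth.Agent.Lib.Seat22.FibCritMod
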