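import Mathlib

/-!
# Stalks of a morphism locally of finite presentation are essentially of finite presentation (seat 22)

For `f : X ⟶ Y` locally of finite presentation and `x : X`, the local ring `O_{X,x}` is a localization of a finitely
presented `O_{Y,f x}`-algebra (for the algebra structure given by `f.stalkMap x`).
-/

set_option autoImplicit false
set_option linter.style.haveILetI false
universe u
open CategoryTheory AlgebraicGeometry TopologicalSpace TensorProduct

namespace Groth.Agent.Lib.Seat22.StalkEssFP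

attribute [local instance] Algebra.TensorProduct.rightAlgebra

/-- Ring level: `B₀ → C₀` finitely presented, `B = (B₀)_p`, `C = (C₀)_q` with a compatible map `B → C`; then `C` is a
localization of the finitely presented `B`-algebra `B ⊗ C₀`. -/
theorem exists_essFP_of_localizations {B₀ C₀ B C : Type u} [CommRing B₀] [CommRing C₀] [CommRing B]
    [CommRing C] [Algebra B₀ C₀] [Algebra.FinitePresentation B₀ C₀] [Algebra B₀ B] [Algebra C₀ C]
    [Algebra B C] [Algebra B₀ C] [IsScalarTower B₀ B C] [IsScalarTower B₀ C₀ C]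
    (p : Ideal B₀) [p.IsPrime] (q : Ideal C₀) [q.IsPrime] [IsLocalization.AtPrime B p]
    [IsLocalization.AtPrime C q] :
    ∃ (C₁ : Type u) (_ : CommRing C₁) (_ : Algebra B C₁) (_ : Algebra C₁ C)
      (_ : IsScalarTower B C₁ C) (W : Submonoid C₁),
      Algebra.FinitePresentation B C₁ ∧ IsLocalization W C := by
  let ψ : B ⊗[B₀] C₀ →ₐ[B] C :=
    Algebra.TensorProduct.lift (Algebra.ofId B C) (IsScalarTower.toAlgHom B₀ C₀ C)
      (fun _ _ => Commute.all _ _)
  letI algC₁C : Algebra (B ⊗[B₀] C₀) C := ψ.toRingHom.toAlgebra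
  haveI : IsScalarTower B (B ⊗[B₀] C₀) C := IsScalarTower.of_algebraMap_eq (fun b => (ψ.commutes b).symm)
  haveI : IsScalarTower C₀ (B ⊗[B₀] C₀) C := IsScalarTower.of_algebraMap_eq (fun c => by
    change algebraMap C₀ C c = ψ ((1 : B) ⊗ₜ[B₀] c)
    simp [ψ])
  haveI hloc₁ : IsLocalization (Algebra.algebraMapSubmonoid C₀ p.primeCompl) (B ⊗[B₀] C₀) :=
    IsLocalization.tensorRight (S := C₀) B p.primeCompl
  have hle : Algebra.algebraMapSubmonoid C₀ p.primeCompl ≤ q.primeCompl := by
    rintro _ ⟨b, hb, rfl⟩ hmem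
    have h1 : IsUnit (algebraMap B₀ B b) := IsLocalization.map_units B ⟨b, hb⟩
    have h2 : IsUnit (algebraMap B₀ C b) := by
      rw [IsScalarTower.algebraMap_apply B₀ B C]
      exact h1.map _
    rw [IsScalarTower.algebraMap_apply B₀ C₀ C] at h2
    exact (IsLocalization.AtPrime.isUnit_to_map_iff C q _).mp h2 hmem
  refine ⟨B ⊗[B₀] C₀, inferInstance, inferInstance, algC₁C, inferInstance,
    Submonoid.map (algebraMap C₀ (B ⊗[B₀] C₀)) q.primeCompl, inferInstance, ?_⟩
  exact IsLocalization.isLocalization_of_submonoid_le (B ⊗[B₀] C₀) C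
    (Algebra.algebraMapSubmonoid C₀ p.primeCompl) q.primeCompl hle

/-- Stalks of a morphism locally of finite presentation are essentially of finite presentation. -/
theorem exists_essFP_stalk {X Y : Scheme.{u}} (f : X ⟶ Y) [LocallyOfFinitePresentation f] (x : X) :
    letI := (f.stalkMap x).hom.toAlgebra
    ∃ (C₁ : Type u) (_ : CommRing C₁) (_ : Algebra (Y.presheaf.stalk (f x)) C₁)
      (_ : Algebra C₁ (X.presheaf.stalk x))
      (_ : IsScalarTower (Y.presheaf.stalk (f x)) C₁ (X.presheaf.stalk x)) (W : Submonoid C₁),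
      Algebra.FinitePresentation (Y.presheaf.stalk (f x)) C₁ ∧
        IsLocalization W (X.presheaf.stalk x) := by
  letI algBC := (f.stalkMap x).hom.toAlgebra
  obtain ⟨_, ⟨V, hV : IsAffineOpen V, rfl⟩, hyV, -⟩ :=
    Y.isBasis_affineOpens.exists_subset_of_mem_open (Set.mem_univ (f x)) isOpen_univ
  obtain ⟨_, ⟨U, hU : IsAffineOpen U, rfl⟩, hxU, hUV⟩ :=
    X.isBasis_affineOpens.exists_subset_of_mem_open (show x ∈ (f ⁻¹ᵁ V : Set X) from hyV)
      (f ⁻¹ᵁ V).isOpen
  have e : U ≤ f ⁻¹ᵁ V := hUV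
  letI algB₀C₀ : Algebra Γ(Y, V) Γ(X, U) := (f.appLE V U e).hom.toAlgebra
  haveI : Algebra.FinitePresentation Γ(Y, V) Γ(X, U) := f.finitePresentation_appLE hV hU e
  letI algB₀B : Algebra Γ(Y, V) (Y.presheaf.stalk (f x)) := Y.presheaf.algebra_section_stalk ⟨f x, hyV⟩
  letI algC₀C : Algebra Γ(X, U) (X.presheaf.stalk x) := X.presheaf.algebra_section_stalk ⟨x, hxU⟩
  letI algB₀C : Algebra Γ(Y, V) (X.presheaf.stalk x) :=
    ((algebraMap (Y.presheaf.stalk (f x)) (X.presheaf.stalk x)).comp
      (algebraMap Γ(Y, V) (Y.presheaf.stalk (f x)))).toAlgebra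
  haveI : IsScalarTower Γ(Y, V) (Y.presheaf.stalk (f x)) (X.presheaf.stalk x) :=
    IsScalarTower.of_algebraMap_eq (fun _ => rfl)
  haveI : IsScalarTower Γ(Y, V) Γ(X, U) (X.presheaf.stalk x) :=
    IsScalarTower.of_algebraMap_eq (fun b => by
      change (f.stalkMap x).hom (Y.presheaf.germ V (f x) hyV b) =
        X.presheaf.germ U x hxU ((f.appLE V U e).hom b)
      rw [Scheme.Hom.germ_stalkMap_apply, Scheme.Hom.appLE, CommRingCat.hom_comp, RingHom.comp_apply,
        X.presheaf.germ_res_apply])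
  haveI := hV.isLocalization_stalk ⟨f x, hyV⟩
  haveI := hU.isLocalization_stalk ⟨x, hxU⟩
  exact exists_essFP_of_localizations (hV.primeIdealOf ⟨f x, hyV⟩).asIdeal
    (hU.primeIdealOf ⟨x, hxU⟩).asIdeal

end Groth.Agent.Lib.Seat22.StalkEssFP
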