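import Mathlib
import Groth.Agent.Lib.Seat22FibCritMod
import Groth.Agent.Lib.Seat22StalkEssFP
import Groth.Agent.Lib.Helper6LfpComp
import Groth.Agent.Lib.Seat11AssStalk
import Groth.Agent.S1393
set_option backward.isDefEq.respectTransparency.types false

/-!
# Fibrewise criterion of flatness for modules on schemes (seat 22)
-/

set_option autoImplicit false
set_option linter.style.haveILetI false
universe u
open CategoryTheory AlgebraicGeometry TopologicalSpace TensorProduct IsLocalRing

namespace Groth.Agent.Lib.Seat22.FibCritModSch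

open Groth.Agent.Lib.Seat22.FibCritMod Groth.Agent.Lib.Seat11.AssStalk

theorem critere_module {X Y S : Scheme.{u}} (f : X ⟶ Y) (g : Y ⟶ S)
    [LocallyOfFinitePresentation (f ≫ g)] [LocallyOfFiniteType g]
    (F : X.Modules) [F.IsQuasicoherent] [SheafOfModules.IsFinitePresentation (R := X.ringCatSheaf) F]
    (x : X) (hx : Nontrivial ↑(F.presheaf.stalk x)) :
    letI := FlatMod.moduleStalkOver f F x
    (FlatMod.IsFlatOverAt (f ≫ g) F x ∧
      Module.Flat (↑(Y.presheaf.stalk (f x)) ⧸ Ideal.map (g.stalkMap (f x)).hom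
          (IsLocalRing.maximalIdeal ↑(S.presheaf.stalk (g (f x)))))
        (↑(F.presheaf.stalk x) ⧸ (Ideal.map (g.stalkMap (f x)).hom
          (IsLocalRing.maximalIdeal ↑(S.presheaf.stalk (g (f x)))) •
          (⊤ : Submodule ↑(Y.presheaf.stalk (f x)) ↑(F.presheaf.stalk x))))) ↔
    ((g.stalkMap (f x)).hom.Flat ∧ FlatMod.IsFlatOverAt f F x) := by
  haveI : LocallyOfFinitePresentation f :=
    Groth.Agent.Lib.Helper6.locallyOfFinitePresentation_of_comp (g := g) inferInstance inferInstance
  letI algAB : Algebra (S.presheaf.stalk (g (f x))) (Y.presheaf.stalk (f x)) :=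
    (g.stalkMap (f x)).hom.toAlgebra
  letI algBC : Algebra (Y.presheaf.stalk (f x)) (X.presheaf.stalk x) := (f.stalkMap x).hom.toAlgebra
  letI modB : Module (Y.presheaf.stalk (f x)) (F.presheaf.stalk x) := FlatMod.moduleStalkOver f F x
  letI modA : Module (S.presheaf.stalk (g (f x))) (F.presheaf.stalk x) :=
    FlatMod.moduleStalkOver (f ≫ g) F x
  haveI : IsScalarTower (Y.presheaf.stalk (f x)) (X.presheaf.stalk x) (F.presheaf.stalk x) :=
    isScalarTower_stalk f F x
  haveI : IsScalarTower (S.presheaf.stalk (g (f x))) (Y.presheaf.stalk (f x)) (F.presheaf.stalk x) := by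
    refine ⟨fun a b m => ?_⟩
    change (f.stalkMap x).hom ((g.stalkMap (f x)).hom a * b) • m =
      ((f ≫ g).stalkMap x).hom a • ((f.stalkMap x).hom b • m)
    rw [map_mul, mul_smul, Scheme.Hom.stalkMap_comp]
    rfl
  haveI : IsLocalHom (algebraMap (S.presheaf.stalk (g (f x))) (Y.presheaf.stalk (f x))) :=
    inferInstanceAs (IsLocalHom (g.stalkMap (f x)).hom)
  haveI : IsLocalHom (algebraMap (Y.presheaf.stalk (f x)) (X.presheaf.stalk x)) :=
    inferInstanceAs (IsLocalHom (f.stalkMap x).hom)
  haveI := Groth.Agent.S1393.finitePresentation_stalk F x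
  have hC := Groth.Agent.Lib.Seat22.StalkEssFP.exists_essFP_stalk f x
  constructor
  · rintro ⟨h1, h2⟩
    haveI : Module.Flat (S.presheaf.stalk (g (f x))) (F.presheaf.stalk x) := h1
    exact fibre_criterion_module (A := S.presheaf.stalk (g (f x))) (B := Y.presheaf.stalk (f x))
      (C := X.presheaf.stalk x) (M := F.presheaf.stalk x) hC h2
  · rintro ⟨h1, h2⟩
    haveI : Module.Flat (S.presheaf.stalk (g (f x))) (Y.presheaf.stalk (f x)) := h1
    haveI : Module.Flat (Y.presheaf.stalk (f x)) (F.presheaf.stalk x) := h2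
    exact flat_and_flat_fibre_of_flat (A := S.presheaf.stalk (g (f x))) (B := Y.presheaf.stalk (f x))
      (M := F.presheaf.stalk x)

end Groth.Agent.Lib.Seat22.FibCritModSch
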