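import Mathlib

/-!
# Separating families of linear maps (seat 22): core lemmas

`SepAt v a`: an element killed (up to powers of `a`) by every `v i` is killed by a power of `a`.
This is the algebraic form of "the family `v` is separating over the basic open `D(a)`".
Transfer lemma, integral lemma, base-change bookkeeping.
-/

set_option autoImplicit false
set_option linter.style.haveILetI false
universe u
open TensorProduct

set_option linter.dupNamespace false
namespace Groth.Agent.Lib.Seat22.Sep

section defs
variable {R : Type*} [CommRing R] {W : Type*} [AddCommGroup W] [Module R W] {ι : Type*}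
  {H : ι → Type*} [∀ i, AddCommGroup (H i)] [∀ i, Module R (H i)]

/-- the family `v` is separating "over `D(a)`". -/
def SepAt (v : ∀ i, W →ₗ[R] H i) (a : R) : Prop :=
  ∀ w : W, (∀ i, ∃ n : ℕ, a ^ n • v i w = 0) → ∃ n : ℕ, a ^ n • w = 0

/-- the family `v` is separating over every basic open. -/
def Sep (v : ∀ i, W →ₗ[R] H i) : Prop := ∀ a, SepAt v a

theorem pow_smul_eq_zero_of_le {a : R} {w : W} {n N : ℕ} (h : a ^ n • w = 0) (hN : n ≤ N) :
    a ^ N • w = 0 := by
  obtain ⟨k, rfl⟩ := Nat.exists_eq_add_of_le hN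
  rw [pow_add, mul_comm, mul_smul, h, smul_zero]

/-- binomial lemma on one element of a module. -/
theorem add_pow_smul_eq_zero {x y : R} {w : W} {p q : ℕ} (hx : x ^ p • w = 0)
    (hy : y ^ q • w = 0) : (x + y) ^ (p + q) • w = 0 := by
  have h := (Ideal.torsionOf R W w).add_pow_mem_of_pow_mem_of_le (a := x) (b := y) (m := p)
    (n := q) (k := p + q) ((Ideal.mem_torsionOf_iff w _).2 hx) ((Ideal.mem_torsionOf_iff w _).2 hy)
    (Nat.le_succ _)
  exact (Ideal.mem_torsionOf_iff w _).1 h

end defs

section transfer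
variable {R : Type*} [CommRing R] {W : Type*} [AddCommGroup W] [Module R W] {ι : Type*}
  {H : ι → Type*} [∀ i, AddCommGroup (H i)] [∀ i, Module R (H i)]
  {R' : Type*} [CommRing R'] {W' : Type*} [AddCommGroup W'] [Module R' W']
  {H' : ι → Type*} [∀ i, AddCommGroup (H' i)] [∀ i, Module R' (H' i)]

/-- **Transfer lemma.** -/
theorem SepAt.transfer (v : ∀ i, W →ₗ[R] H i) (v' : ∀ i, W' →ₗ[R'] H' i) (φ : R →+* R')
    {J : Type*} [Finite J] (π : J → W →+ W') (hπ : ∀ j r w, π j (r • w) = φ r • π j w)
    (ρ : ∀ (_ : J) (i : ι), H i →+ H' i) (hρ : ∀ j i r h, ρ j i (r • h) = φ r • ρ j i h)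
    (hcomm : ∀ j i w, ρ j i (v i w) = v' i (π j w))
    (hinj : ∀ w, (∀ j, π j w = 0) → w = 0) {a : R} (h : SepAt v' (φ a)) : SepAt v a := by
  classical
  intro w hw
  have h1 : ∀ j, ∃ n : ℕ, φ a ^ n • π j w = 0 := by
    intro j
    apply h
    intro i
    obtain ⟨n, hn⟩ := hw i
    refine ⟨n, ?_⟩
    rw [← hcomm, ← map_pow, ← hρ, hn, map_zero]
  choose n hn using h1
  haveI : Fintype J := Fintype.ofFinite J
  refine ⟨Finset.univ.sup n, hinj _ fun j => ?_⟩
  rw [hπ, map_pow]
  exact pow_smul_eq_zero_of_le (hn j) (Finset.le_sup (Finset.mem_univ j))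

/-- **Transfer lemma**, element-wise version: only compatibility with the action of the two
elements `a`, `a'` is required. -/
theorem SepAt.transfer' (v : ∀ i, W →ₗ[R] H i) (v' : ∀ i, W' →ₗ[R'] H' i) {a : R} {a' : R'}
    {J : Type*} [Finite J] (π : J → W →+ W') (hπ : ∀ j w, π j (a • w) = a' • π j w)
    (ρ : ∀ (_ : J) (i : ι), H i →+ H' i) (hρ : ∀ j i h, ρ j i (a • h) = a' • ρ j i h)
    (hcomm : ∀ j i w, ρ j i (v i w) = v' i (π j w))
    (hinj : ∀ w, (∀ j, π j w = 0) → w = 0) (h : SepAt v' a') : SepAt v a := by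
  classical
  have hπpow : ∀ (n : ℕ) j w, π j (a ^ n • w) = a' ^ n • π j w := by
    intro n
    induction n with
    | zero => intro j w; simp
    | succ n ih => intro j w; rw [pow_succ, mul_smul, ih, hπ, ← mul_smul, ← pow_succ]
  have hρpow : ∀ (n : ℕ) j i h, ρ j i (a ^ n • h) = a' ^ n • ρ j i h := by
    intro n
    induction n with
    | zero => intro j i h; simp
    | succ n ih => intro j i h; rw [pow_succ, mul_smul, ih, hρ, ← mul_smul, ← pow_succ]
  intro w hw
  have h1 : ∀ j, ∃ n : ℕ, a' ^ n • π j w = 0 := by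
    intro j
    apply h
    intro i
    obtain ⟨n, hn⟩ := hw i
    refine ⟨n, ?_⟩
    rw [← hcomm, ← hρpow, hn, map_zero]
  choose n hn using h1
  haveI : Fintype J := Fintype.ofFinite J
  refine ⟨Finset.univ.sup n, hinj _ fun j => ?_⟩
  rw [hπpow]
  exact pow_smul_eq_zero_of_le (hn j) (Finset.le_sup (Finset.mem_univ j))

end transfer

section integral
variable {R : Type*} [CommRing R] {R' : Type*} [CommRing R'] [Algebra R R']
  {W : Type*} [AddCommGroup W] [Module R' W] {ι : Type*}
  {H : ι → Type*} [∀ i, AddCommGroup (H i)] [∀ i, Module R' (H i)]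

open Polynomial in
/-- **Integral lemma**: if the family is separating over the basic opens coming from `R`,
it is separating over `D(g)` for every `g` integral over `R`. -/
theorem SepAt.of_isIntegral (v : ∀ i, W →ₗ[R'] H i)
    (h : ∀ a : R, SepAt v (algebraMap R R' a)) (g : R') (hg : IsIntegral R g) : SepAt v g := by
  have aux : ∀ d : ℕ, ∀ χ : R[X], χ.Monic → χ.natDegree = d → ∀ w : W, (aeval g χ) • w = 0 →
      (∀ i, ∃ n : ℕ, g ^ n • v i w = 0) → ∃ n : ℕ, g ^ n • w = 0 := by
    intro d
    induction d with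
    | zero =>
      intro χ hχ hd w hw _
      rw [Polynomial.eq_one_of_monic_natDegree_zero hχ hd, map_one, one_smul] at hw
      exact ⟨0, by rw [hw, smul_zero]⟩
    | succ d ih =>
      intro χ hχ hd w hw hyp
      set c : R := χ.coeff 0 with hc
      set h₁ : R[X] := χ.divX with hh₁
      have hdecomp : aeval g χ = aeval g h₁ * g + algebraMap R R' c := by
        conv_lhs => rw [← divX_mul_X_add χ]
        rw [map_add, map_mul, aeval_X, aeval_C]
      have hh₁deg : h₁.natDegree = d := by
        rw [hh₁, natDegree_divX_eq_natDegree_tsub_one, hd, Nat.add_sub_cancel]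
      have hh₁monic : h₁.Monic := by
        rw [Monic, leadingCoeff, hh₁deg, hh₁, coeff_divX]
        have := hχ
        rw [Monic, leadingCoeff, hd] at this
        exact this
      set Hh : R' := aeval g h₁ with hHh
      -- the relation `c • w' = -(Hh * g) • w'` for every `w'` killed by `χ(g)`
      have hrel : ∀ w' : W, (aeval g χ) • w' = 0 →
          algebraMap R R' c • w' = (-(Hh * g)) • w' := by
        intro w' hw'
        rw [hdecomp, add_smul] at hw'
        rw [neg_smul]
        exact eq_neg_of_add_eq_zero_right hw'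
      have hrelpow : ∀ n : ℕ, algebraMap R R' c ^ n • w = (-(Hh * g)) ^ n • w := by
        intro n
        induction n with
        | zero => simp
        | succ n ihn =>
          rw [pow_succ, mul_smul, hrel w hw, smul_comm, ihn, ← mul_smul, ← pow_succ']
      -- `c` kills `v i w` up to powers
      have hcv : ∀ i, ∃ n : ℕ, algebraMap R R' c ^ n • v i w = 0 := by
        intro i
        obtain ⟨n, hn⟩ := hyp i
        refine ⟨n, ?_⟩
        rw [← map_smul, hrelpow, map_smul, neg_mul_eq_neg_mul, mul_pow, mul_smul, hn, smul_zero]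
      obtain ⟨e, he⟩ := h c w hcv
      -- inner induction on `e`
      have inner : ∀ e : ℕ, ∀ w : W, (aeval g χ) • w = 0 → (∀ i, ∃ n : ℕ, g ^ n • v i w = 0) →
          algebraMap R R' c ^ e • w = 0 → ∃ n : ℕ, g ^ n • w = 0 := by
        intro e
        induction e with
        | zero =>
          intro w _ _ he
          rw [pow_zero, one_smul] at he
          exact ⟨0, by rw [he, smul_zero]⟩
        | succ e ihe =>
          intro w hw hyp he
          obtain ⟨n₁, hn₁⟩ := ihe (algebraMap R R' c • w)
            (by rw [smul_comm, hw, smul_zero])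
            (fun i => by
              obtain ⟨n, hn⟩ := hyp i
              exact ⟨n, by rw [map_smul, smul_comm, hn, smul_zero]⟩)
            (by rw [← mul_smul, ← pow_succ]; exact he)
          -- `w'' = g^n₁ • w` is killed by `c`
          have hw'' : (aeval g χ) • (g ^ n₁ • w) = 0 := by rw [smul_comm, hw, smul_zero]
          have hcw'' : algebraMap R R' c • (g ^ n₁ • w) = 0 := by rw [smul_comm]; exact hn₁
          have hHg : Hh • (g • (g ^ n₁ • w)) = 0 := by
            have := hrel _ hw''
            rw [hcw'', neg_smul, eq_comm, neg_eq_zero, mul_smul] at this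
            exact this
          obtain ⟨n₂, hn₂⟩ := ih h₁ hh₁monic hh₁deg (g • (g ^ n₁ • w)) hHg
            (fun i => by
              obtain ⟨n, hn⟩ := hyp i
              refine ⟨n, ?_⟩
              rw [map_smul, map_smul, smul_comm (g ^ n), smul_comm (g ^ n), hn, smul_zero,
                smul_zero])
          refine ⟨n₂ + (1 + n₁), ?_⟩
          rw [pow_add, pow_add, pow_one, mul_smul, mul_smul]
          exact hn₂
      exact inner e w hw hyp he
  obtain ⟨χ, hχ, hχg⟩ := hg
  intro w hyp
  refine aux _ χ hχ rfl w ?_ hyp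
  rw [aeval_def, hχg, zero_smul]

end integral

section basechange
variable {A : Type u} [CommRing A] {M : Type u} [AddCommGroup M] [Module A M] {ι : Type u}
  {G : ι → Type u} [∀ i, AddCommGroup (G i)] [∀ i, Module A (G i)] (u : ∀ i, M →ₗ[A] G i)

/-- the base-changed family. -/
noncomputable abbrev bc (A' : Type u) [CommRing A'] [Algebra A A'] :
    ∀ i, A' ⊗[A] M →ₗ[A'] A' ⊗[A] G i := fun i => (u i).baseChange A'

theorem rTensor_smul {A₁ A₂ : Type u} [CommRing A₁] [CommRing A₂] [Algebra A A₁] [Algebra A A₂]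
    (f : A₁ →ₐ[A] A₂) (N : Type u) [AddCommGroup N] [Module A N] (r : A₁) (w : A₁ ⊗[A] N) :
    LinearMap.rTensor N f.toLinearMap (r • w) = f r • LinearMap.rTensor N f.toLinearMap w := by
  induction w using TensorProduct.induction_on with
  | zero => simp
  | tmul a n =>
    rw [TensorProduct.smul_tmul', LinearMap.rTensor_tmul, LinearMap.rTensor_tmul,
      TensorProduct.smul_tmul']
    simp
  | add x y hx hy => rw [smul_add, map_add, hx, hy, map_add, smul_add]

theorem rTensor_bc {A₁ A₂ : Type u} [CommRing A₁] [CommRing A₂] [Algebra A A₁] [Algebra A A₂]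
    (f : A₁ →ₐ[A] A₂) (i : ι) (w : A₁ ⊗[A] M) :
    LinearMap.rTensor (G i) f.toLinearMap (bc u A₁ i w) =
      bc u A₂ i (LinearMap.rTensor M f.toLinearMap w) := by
  induction w using TensorProduct.induction_on with
  | zero => simp
  | tmul a n => simp
  | add x y hx hy => rw [map_add, map_add, hx, hy, map_add, map_add]

/-- separating families descend along `A`-algebra maps `A₁ → A₂` with `A₁ ⊗ M → A₂ ⊗ M`
injective. -/
theorem SepAt.of_algHom {A₁ A₂ : Type u} [CommRing A₁] [CommRing A₂] [Algebra A A₁] [Algebra A A₂]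
    (f : A₁ →ₐ[A] A₂) (hinj : Function.Injective (LinearMap.rTensor M f.toLinearMap)) {a : A₁}
    (h : SepAt (bc u A₂) (f a)) : SepAt (bc u A₁) a := by
  refine SepAt.transfer (J := Unit) (bc u A₁) (bc u A₂) f.toRingHom
    (fun _ => (LinearMap.rTensor M f.toLinearMap).toAddMonoidHom)
    (fun _ r w => rTensor_smul f M r w)
    (fun _ i => (LinearMap.rTensor (G i) f.toLinearMap).toAddMonoidHom)
    (fun _ i r w => rTensor_smul f (G i) r w)
    (fun _ i w => rTensor_bc u f i w)
    (fun w hw => hinj ((hw ()).trans (map_zero _).symm)) h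

theorem Sep.of_algHom {A₁ A₂ : Type u} [CommRing A₁] [CommRing A₂] [Algebra A A₁] [Algebra A A₂]
    (f : A₁ →ₐ[A] A₂) (hinj : Function.Injective (LinearMap.rTensor M f.toLinearMap))
    (h : Sep (bc u A₂)) : Sep (bc u A₁) := fun a => SepAt.of_algHom u f hinj (h (f a))

theorem Sep.of_algEquiv {A₁ A₂ : Type u} [CommRing A₁] [CommRing A₂] [Algebra A A₁] [Algebra A A₂]
    (e : A₁ ≃ₐ[A] A₂) (h : Sep (bc u A₂)) : Sep (bc u A₁) := by
  refine Sep.of_algHom u e.toAlgHom ?_ h
  have : (LinearMap.rTensor M e.symm.toAlgHom.toLinearMap) ∘ₗ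
      (LinearMap.rTensor M e.toAlgHom.toLinearMap) = LinearMap.id := by
    rw [← LinearMap.rTensor_comp]
    have : e.symm.toAlgHom.toLinearMap ∘ₗ e.toAlgHom.toLinearMap = LinearMap.id := by
      ext x; simp
    rw [this, LinearMap.rTensor_id]
  exact Function.LeftInverse.injective (g := LinearMap.rTensor M e.symm.toAlgHom.toLinearMap)
    fun w => congr($this w)

/-- the identity base change. -/
theorem Sep.bc_self (h : Sep u) : Sep (bc u A) := by
  intro a
  refine SepAt.transfer (J := Unit) (bc u A) u (RingHom.id A)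
    (fun _ => (TensorProduct.lid A M).toLinearMap.toAddMonoidHom)
    (fun _ r w => by simp)
    (fun _ i => (TensorProduct.lid A (G i)).toLinearMap.toAddMonoidHom)
    (fun _ i r w => by simp)
    (fun _ i w => ?_)
    (fun w hw => (TensorProduct.lid A M).injective ((hw ()).trans (map_zero _).symm)) (h a)
  induction w using TensorProduct.induction_on with
  | zero => simp
  | tmul a n => simp
  | add x y hx hy =>
    simp only [map_add] at hx hy ⊢
    rw [hx, hy]

/-- transitivity of base change. -/
theorem Sep.of_tower {A₁ A₂ : Type u} [CommRing A₁] [CommRing A₂] [Algebra A A₁] [Algebra A A₂]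
    [Algebra A₁ A₂] [IsScalarTower A A₁ A₂] (h : Sep (bc (bc u A₁) A₂)) : Sep (bc u A₂) := by
  intro a
  refine SepAt.transfer (J := Unit) (bc u A₂) (bc (bc u A₁) A₂) (RingHom.id A₂)
    (fun _ => (TensorProduct.AlgebraTensorModule.cancelBaseChange A A₁ A₂ A₂
      M).symm.toLinearMap.toAddMonoidHom)
    (fun _ r w => by simp)
    (fun _ i => (TensorProduct.AlgebraTensorModule.cancelBaseChange A A₁ A₂ A₂
      (G i)).symm.toLinearMap.toAddMonoidHom)
    (fun _ i r w => by simp)
    (fun _ i w => ?_)
    (fun w hw => (TensorProduct.AlgebraTensorModule.cancelBaseChange A A₁ A₂ A₂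
      M).symm.injective ((hw ()).trans (map_zero _).symm)) (h a)
  induction w using TensorProduct.induction_on with
  | zero => simp
  | tmul a n =>
    simp [TensorProduct.AlgebraTensorModule.cancelBaseChange_symm_tmul]
  | add x y hx hy =>
    simp only [map_add] at hx hy ⊢
    rw [hx, hy]

end basechange

end Groth.Agent.Lib.Seat22.Sep
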