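import Mathlib
import Groth.Agent.Lib.Seat22SepCore

/-!
# Fibrewise separating families, I: dévissage over a local ring with nilpotent action (seat 22)

`A → B` rings, `u i : M → G i` a family of `B`-linear maps.  For an `A`-module `P` we consider the
family `uP P i : (B ⊗[A] P) ⊗[B] M → (B ⊗[A] P) ⊗[B] G i` of `B`-linear maps, functorial in `P`
(`rT`).  `SepAt (uP P) b` passes from a residue field to vector spaces over it (`J1a`), through
short exact sequences when the `G i` are "flat" (`J1b`), hence to all modules over a local ring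
killed by a power of the maximal ideal (`J1c`).
-/

set_option autoImplicit false
set_option linter.style.haveILetI false
set_option linter.dupNamespace false
universe u
open TensorProduct

namespace Groth.Agent.Lib.Seat22.Fib

open Groth.Agent.Lib.Seat22.Sep

section maps
variable {A : Type u} [CommRing A] {B : Type u} [CommRing B] [Algebra A B]
variable {P P' P'' : Type u} [AddCommGroup P] [Module A P] [AddCommGroup P'] [Module A P']
  [AddCommGroup P''] [Module A P'']
variable (N : Type u) [AddCommGroup N] [Module B N]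

/-- `B ⊗ P → B ⊗ P'` induced by an `A`-linear map. -/
noncomputable def tl (c : P →ₗ[A] P') : B ⊗[A] P →ₗ[B] B ⊗[A] P' :=
  TensorProduct.AlgebraTensorModule.lTensor B B c

/-- `(B ⊗ P) ⊗_B N → (B ⊗ P') ⊗_B N` induced by an `A`-linear map. -/
noncomputable def rT (c : P →ₗ[A] P') : (B ⊗[A] P) ⊗[B] N →ₗ[B] (B ⊗[A] P') ⊗[B] N :=
  LinearMap.rTensor N (tl c)

variable {N}

theorem induction3 {motive : (B ⊗[A] P) ⊗[B] N → Prop} (zero : motive 0)
    (tmul : ∀ (b : B) (p : P) (n : N), motive ((b ⊗ₜ[A] p) ⊗ₜ[B] n))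
    (add : ∀ x y, motive x → motive y → motive (x + y)) : ∀ w, motive w := by
  intro w
  induction w using TensorProduct.induction_on with
  | zero => exact zero
  | tmul x n =>
    induction x using TensorProduct.induction_on with
    | zero => rw [TensorProduct.zero_tmul]; exact zero
    | tmul a b => exact tmul a b n
    | add x y hx hy => rw [TensorProduct.add_tmul]; exact add _ _ hx hy
  | add x y hx hy => exact add _ _ hx hy

@[simp]
theorem rT_tmul (c : P →ₗ[A] P') (b : B) (p : P) (n : N) :
    rT N c ((b ⊗ₜ[A] p) ⊗ₜ[B] n) = (b ⊗ₜ[A] c p) ⊗ₜ[B] n := by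
  simp [rT, tl]

theorem rT_id (w : (B ⊗[A] P) ⊗[B] N) : rT N (LinearMap.id : P →ₗ[A] P) w = w := by
  induction w using induction3 with
  | zero => simp
  | tmul a b n => simp
  | add x y hx hy => rw [map_add, hx, hy]

theorem rT_comp (c' : P' →ₗ[A] P'') (c : P →ₗ[A] P') (w : (B ⊗[A] P) ⊗[B] N) :
    rT N c' (rT N c w) = rT N (c' ∘ₗ c) w := by
  induction w using induction3 with
  | zero => simp
  | tmul a b n => simp
  | add x y hx hy => rw [map_add, map_add, hx, hy, map_add]

theorem rT_sum {J : Type*} (s : Finset J) (c : J → P →ₗ[A] P') (w : (B ⊗[A] P) ⊗[B] N) :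
    rT N (∑ j ∈ s, c j) w = ∑ j ∈ s, rT N (c j) w := by
  induction w using induction3 with
  | zero => simp
  | tmul a b n =>
    simp only [rT_tmul, LinearMap.sum_apply, TensorProduct.tmul_sum, TensorProduct.sum_tmul]
  | add x y hx hy => rw [map_add, hx, hy, ← Finset.sum_add_distrib]; simp

/-- right exactness. -/
theorem rT_exact (N : Type u) [AddCommGroup N] [Module B N] (j : P →ₗ[A] P') (π : P' →ₗ[A] P'')
    (h : Function.Exact j π) (hπ : Function.Surjective π) :
    Function.Exact (rT (B := B) N j) (rT (B := B) N π) := by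
  have h1 : Function.Exact (LinearMap.lTensor B j) (LinearMap.lTensor B π) := lTensor_exact B h hπ
  have h1' : Function.Exact (tl (B := B) j) (tl (B := B) π) := h1
  have hsurj : Function.Surjective (tl (B := B) π) := LinearMap.lTensor_surjective B hπ
  exact rTensor_exact N h1' hsurj

/-- flatness over `A`: `rT` preserves injections. -/
theorem rT_injective_of_flat (N : Type u) [AddCommGroup N] [Module B N] [Module A N]
    [IsScalarTower A B N] [Module.Flat A N] (j : P →ₗ[A] P') (hj : Function.Injective j) :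
    Function.Injective (rT (B := B) N j) := by
  -- the natural isomorphism `(B ⊗ P) ⊗_B N ≃ N ⊗_A P`
  let θ : ∀ (Q : Type u) [AddCommGroup Q] [Module A Q], (B ⊗[A] Q) ⊗[B] N ≃ₗ[B] N ⊗[A] Q :=
    fun Q _ _ => (TensorProduct.comm B (B ⊗[A] Q) N).trans
      (TensorProduct.AlgebraTensorModule.cancelBaseChange A B B N Q)
  have hθ : ∀ (Q : Type u) [AddCommGroup Q] [Module A Q] (b : B) (q : Q) (n : N),
      θ Q ((b ⊗ₜ[A] q) ⊗ₜ[B] n) = (b • n) ⊗ₜ[A] q := by
    intro Q _ _ b q n
    simp [θ]
  have hnat : ∀ w : (B ⊗[A] P) ⊗[B] N, θ P' (rT N j w) = LinearMap.lTensor N j (θ P w) := by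
    intro w
    induction w using induction3 with
    | zero => simp
    | tmul b p n => rw [rT_tmul, hθ, hθ, LinearMap.lTensor_tmul]
    | add x y hx hy => rw [map_add, map_add, hx, hy, map_add, map_add]
  have hflat : Function.Injective (LinearMap.lTensor N j) :=
    Module.Flat.lTensor_preserves_injective_linearMap j hj
  intro x y hxy
  apply (θ P).injective
  apply hflat
  rw [← hnat, ← hnat, hxy]

end maps

section family
variable {A : Type u} [CommRing A] {B : Type u} [CommRing B] [Algebra A B]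
  {M : Type u} [AddCommGroup M] [Module B M] {ι : Type u}
  {G : ι → Type u} [∀ i, AddCommGroup (G i)] [∀ i, Module B (G i)] (u : ∀ i, M →ₗ[B] G i)
variable {P P' : Type u} [AddCommGroup P] [Module A P] [AddCommGroup P'] [Module A P']

variable (A) in
/-- the family `u` tensored with the `A`-module `P`. -/
noncomputable def uP (P : Type u) [AddCommGroup P] [Module A P] :
    ∀ i, (B ⊗[A] P) ⊗[B] M →ₗ[B] (B ⊗[A] P) ⊗[B] G i :=
  fun i => (u i).lTensor (B ⊗[A] P)

@[simp]
theorem uP_tmul (i : ι) (x : B ⊗[A] P) (m : M) : uP A u P i (x ⊗ₜ[B] m) = x ⊗ₜ[B] u i m := by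
  simp [uP]

theorem rT_uP (c : P →ₗ[A] P') (i : ι) (w : (B ⊗[A] P) ⊗[B] M) :
    rT (G i) c (uP A u P i w) = uP A u P' i (rT M c w) := by
  induction w using induction3 with
  | zero => simp
  | tmul a b n => simp
  | add x y hx hy => rw [map_add, map_add, hx, hy, map_add, map_add]

variable (A) in
/-- `SepAt` at `b : B` for the family tensored with the `A`-module `P`. -/
def SepAtP (P : Type u) [AddCommGroup P] [Module A P] (b : B) : Prop :=
  SepAt (W := (B ⊗[A] P) ⊗[B] M) (H := fun i => (B ⊗[A] P) ⊗[B] G i) (uP A u P) b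

/-- **J1a**: from a field `K` to `K`-vector spaces. -/
theorem sepAt_of_field {K : Type u} [Field K] [Algebra A K] (V : Type u) [AddCommGroup V]
    [Module K V] [Module A V] [IsScalarTower A K V] {b : B} (h : SepAtP A u K b) :
    SepAtP A u V b := by
  classical
  let e := Module.Free.chooseBasis K V
  let π : Module.Free.ChooseBasisIndex K V → V →ₗ[A] K := fun l => (e.coord l).restrictScalars A
  let ιl : Module.Free.ChooseBasisIndex K V → K →ₗ[A] V := fun l =>
    (LinearMap.toSpanSingleton K V (e l)).restrictScalars A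
  have hdecomp : ∀ w : (B ⊗[A] V) ⊗[B] M, ∃ S : Finset (Module.Free.ChooseBasisIndex K V),
      ∀ S' : Finset (Module.Free.ChooseBasisIndex K V), S ⊆ S' →
        w = ∑ l ∈ S', rT M (ιl l) (rT M (π l) w) := by
    intro w
    induction w using induction3 with
    | zero => exact ⟨∅, fun S' _ => by simp⟩
    | tmul b v m =>
      refine ⟨(e.repr v).support, fun S' hS' => ?_⟩
      simp only [rT_tmul]
      rw [← TensorProduct.sum_tmul, ← TensorProduct.tmul_sum]
      congr 2
      have h1 : ∀ l, ιl l (π l v) = (e.repr v l) • e l := by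
        intro l
        simp [ιl, π, LinearMap.toSpanSingleton_apply, Module.Basis.coord_apply]
      simp_rw [h1]
      conv_lhs => rw [← e.linearCombination_repr v, Finsupp.linearCombination_apply]
      exact Finsupp.sum_of_support_subset _ hS' _ (fun l _ => zero_smul _ _)
    | add x y hx hy =>
      obtain ⟨S₁, h₁⟩ := hx
      obtain ⟨S₂, h₂⟩ := hy
      refine ⟨S₁ ∪ S₂, fun S' hS' => ?_⟩
      simp only [map_add, Finset.sum_add_distrib]
      rw [← h₁ S' (Finset.union_subset_left hS'), ← h₂ S' (Finset.union_subset_right hS')]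
  intro w hw
  obtain ⟨S, hS⟩ := hdecomp w
  have h1 : ∀ l, ∃ n : ℕ, b ^ n • rT M (π l) w = 0 := by
    intro l
    apply h
    intro i
    obtain ⟨n, hn⟩ := hw i
    refine ⟨n, ?_⟩
    rw [← rT_uP, ← map_smul, hn, map_zero]
  choose n hn using h1
  refine ⟨S.sup n, ?_⟩
  rw [hS S (Finset.Subset.refl S), Finset.smul_sum]
  refine Finset.sum_eq_zero fun l hl => ?_
  have h2 : b ^ S.sup n • rT M (π l) w = 0 :=
    pow_smul_eq_zero_of_le (R := B) (W := (B ⊗[A] K) ⊗[B] M) (hn l) (Finset.le_sup (f := n) hl)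
  rw [← map_smul, h2, map_zero]

/-- **J1b**: short exact sequences. -/
theorem sepAt_of_exact {P₁ P₂ P₃ : Type u} [AddCommGroup P₁] [Module A P₁] [AddCommGroup P₂]
    [Module A P₂] [AddCommGroup P₃] [Module A P₃] (j : P₁ →ₗ[A] P₂) (π : P₂ →ₗ[A] P₃)
    (hex : Function.Exact j π) (hπ : Function.Surjective π)
    (hinj : ∀ i, Function.Injective (rT (B := B) (G i) j)) {b : B}
    (h₁ : SepAtP A u P₁ b) (h₃ : SepAtP A u P₃ b) : SepAtP A u P₂ b := by
  intro w hw
  obtain ⟨n₀, hn₀⟩ := h₃ (rT M π w) (fun i => by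
    obtain ⟨n, hn⟩ := hw i
    refine ⟨n, ?_⟩
    rw [← rT_uP, ← map_smul, hn, map_zero])
  rw [← map_smul] at hn₀
  obtain ⟨w₁, hw₁⟩ := (rT_exact M j π hex hπ (b ^ n₀ • w)).mp hn₀
  obtain ⟨n₁, hn₁⟩ := h₁ w₁ (fun i => by
    obtain ⟨n, hn⟩ := hw i
    refine ⟨n, hinj i ?_⟩
    rw [map_zero, map_smul, rT_uP, hw₁, map_smul, smul_comm, hn, smul_zero])
  refine ⟨n₁ + n₀, ?_⟩
  rw [pow_add, mul_smul, ← hw₁, ← map_smul, hn₁, map_zero]

end family

end Groth.Agent.Lib.Seat22.Fib
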