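import Mathlib
import Groth.Agent.Lib.Seat22FibSep1

/-!
# Fibrewise separating families, II: local rings with nilpotent action, Krull (seat 22)
-/

set_option autoImplicit false
set_option linter.style.haveILetI false
set_option linter.dupNamespace false
universe u
open TensorProduct

namespace Groth.Agent.Lib.Seat22.Fib

open Groth.Agent.Lib.Seat22.Sep

section family
variable {A : Type u} [CommRing A] {B : Type u} [CommRing B] [Algebra A B]
  {M : Type u} [AddCommGroup M] [Module B M] {ι : Type u}
  {G : ι → Type u} [∀ i, AddCommGroup (G i)] [∀ i, Module B (G i)] (u : ∀ i, M →ₗ[B] G i)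

/-- the "flatness" hypothesis on the targets, in `rT` form. -/
def FlatT (A : Type u) [CommRing A] {B : Type u} [CommRing B] [Algebra A B]
    {ι : Type u} (G : ι → Type u) [∀ i, AddCommGroup (G i)] [∀ i, Module B (G i)] : Prop :=
  ∀ (i : ι) (P₁ P₂ : Type u) [AddCommGroup P₁] [Module A P₁] [AddCommGroup P₂] [Module A P₂]
    (j : P₁ →ₗ[A] P₂), Function.Injective j → Function.Injective (rT (B := B) (G i) j)

theorem sepAtP_of_subsingleton (P : Type u) [AddCommGroup P] [Module A P] [Subsingleton P]
    (b : B) : SepAtP A u P b := by
  have h0 : ∀ w : (B ⊗[A] P) ⊗[B] M, w = 0 := by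
    intro w
    induction w using induction3 with
    | zero => rfl
    | tmul b p m => rw [Subsingleton.elim p 0, TensorProduct.tmul_zero, TensorProduct.zero_tmul]
    | add x y hx hy => rw [hx, hy, add_zero]
  intro w _
  exact ⟨0, by rw [h0 w, smul_zero]⟩

/-- the residue field acts on `P / m P`. -/
@[instance_reducible]
noncomputable def residueModule (R : Type u) [CommRing R] [IsLocalRing R] (P : Type u)
    [AddCommGroup P] [Module R P] :
    Module (IsLocalRing.ResidueField R)
      (P ⧸ (IsLocalRing.maximalIdeal R • (⊤ : Submodule R P))) :=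
  inferInstanceAs (Module (R ⧸ IsLocalRing.maximalIdeal R)
    (P ⧸ IsLocalRing.maximalIdeal R • (⊤ : Submodule R P)))

theorem residueModule_smul_mk (R : Type u) [CommRing R] [IsLocalRing R] (P : Type u)
    [AddCommGroup P] [Module R P] (r : R) (p : P) :
    letI := residueModule R P
    (IsLocalRing.residue R r) •
      (Submodule.Quotient.mk p : P ⧸ (IsLocalRing.maximalIdeal R • (⊤ : Submodule R P))) =
      Submodule.Quotient.mk (r • p) := rfl

theorem exact_subtype_mkQ_restrict {R : Type u} [CommRing R] [Algebra A R]
    (P : Type u) [AddCommGroup P] [Module R P] [Module A P] [IsScalarTower A R P]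
    (Q : Submodule R P) :
    Function.Exact (Q.subtype.restrictScalars A) (Q.mkQ.restrictScalars A) := by
  intro x
  simp only [LinearMap.coe_restrictScalars]
  exact LinearMap.exact_subtype_mkQ Q x

theorem mkQ_restrict_surjective {R : Type u} [CommRing R] [Algebra A R]
    (P : Type u) [AddCommGroup P] [Module R P] [Module A P] [IsScalarTower A R P]
    (Q : Submodule R P) : Function.Surjective (Q.mkQ.restrictScalars A) := by
  intro x
  obtain ⟨p, rfl⟩ := Submodule.mkQ_surjective Q x
  exact ⟨p, rfl⟩

theorem isScalarTower_residue {R : Type u} [CommRing R] [IsLocalRing R] [Algebra A R]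
    (P : Type u) [AddCommGroup P] [Module R P] [Module A P] [IsScalarTower A R P] :
    letI := residueModule R P
    IsScalarTower A (IsLocalRing.ResidueField R)
      (P ⧸ (IsLocalRing.maximalIdeal R • (⊤ : Submodule R P))) := by
  letI := residueModule R P
  refine ⟨fun a k x => ?_⟩
  obtain ⟨r, rfl⟩ := IsLocalRing.residue_surjective k
  obtain ⟨p, rfl⟩ := Submodule.Quotient.mk_surjective _ x
  have h1 : a • IsLocalRing.residue R r = IsLocalRing.residue R (a • r) := rfl
  have h2 : a • (Submodule.Quotient.mk (r • p) :
      P ⧸ (IsLocalRing.maximalIdeal R • (⊤ : Submodule R P))) =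
      Submodule.Quotient.mk (a • (r • p)) := rfl
  rw [h1, residueModule_smul_mk, residueModule_smul_mk, h2, smul_assoc]

/-- one dévissage step. -/
theorem sepAtP_step {R : Type u} [CommRing R] [IsLocalRing R] [Algebra A R]
    (hflat : FlatT A (B := B) G) {b : B} (hK : SepAtP A u (IsLocalRing.ResidueField R) b)
    (P : Type u) [AddCommGroup P] [Module R P] [Module A P] [IsScalarTower A R P]
    (h₁ : SepAtP A u (IsLocalRing.maximalIdeal R • (⊤ : Submodule R P) : Submodule R P) b) :
    SepAtP A u P b := by
  have h₃ : SepAtP A u (P ⧸ (IsLocalRing.maximalIdeal R • (⊤ : Submodule R P))) b := by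
    letI := residueModule R P
    haveI := isScalarTower_residue (A := A) (R := R) P
    exact sepAt_of_field u (P ⧸ (IsLocalRing.maximalIdeal R • (⊤ : Submodule R P))) hK
  exact sepAt_of_exact u
    ((IsLocalRing.maximalIdeal R • (⊤ : Submodule R P)).subtype.restrictScalars A)
    ((IsLocalRing.maximalIdeal R • (⊤ : Submodule R P)).mkQ.restrictScalars A)
    (exact_subtype_mkQ_restrict P _) (mkQ_restrict_surjective P _)
    (fun i => hflat i _ P _ (Submodule.injective_subtype _)) h₁ h₃

/-- **J1c**: modules over a local ring killed by a power of the maximal ideal. -/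
theorem sepAtP_of_pow_smul_eq_bot {R : Type u} [CommRing R] [IsLocalRing R] [Algebra A R]
    (hflat : FlatT A (B := B) G) {b : B} (hK : SepAtP A u (IsLocalRing.ResidueField R) b) :
    ∀ (n : ℕ) (P : Type u) [AddCommGroup P] [Module R P] [Module A P] [IsScalarTower A R P],
      (IsLocalRing.maximalIdeal R) ^ n • (⊤ : Submodule R P) = ⊥ → SepAtP A u P b := by
  intro n
  induction n with
  | zero =>
    intro P _ _ _ _ h
    rw [pow_zero, Ideal.one_eq_top, Submodule.top_smul] at h
    haveI : Subsingleton P := by
      refine ⟨fun x y => ?_⟩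
      have hx : x ∈ (⊤ : Submodule R P) := trivial
      have hy : y ∈ (⊤ : Submodule R P) := trivial
      rw [h, Submodule.mem_bot] at hx hy
      rw [hx, hy]
    exact sepAtP_of_subsingleton u P b
  | succ n ih =>
    intro P _ _ _ _ h
    refine sepAtP_step u hflat hK P ?_
    apply ih
    apply Submodule.map_injective_of_injective
      (IsLocalRing.maximalIdeal R • (⊤ : Submodule R P)).injective_subtype
    rw [Submodule.map_smul'', Submodule.map_top, Submodule.range_subtype, Submodule.map_bot,
      ← mul_smul, ← pow_succ, h]

end family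

end Groth.Agent.Lib.Seat22.Fib
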