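import Mathlib
import Groth.Agent.Lib.Seat22FibSep2

/-!
# Fibrewise separating families, III: the Noetherian case via Krull's intersection theorem (seat 22)
-/

set_option autoImplicit false
set_option linter.style.haveILetI false
set_option linter.dupNamespace false
universe u
open TensorProduct

namespace Groth.Agent.Lib.Seat22.Fib

open Groth.Agent.Lib.Seat22.Sep

section family
variable {A : Type u} [CommRing A] {B : Type u} [CommRing B] [Algebra A B]
  {M : Type u} [AddCommGroup M] [Module B M] {ι : Type u}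
  {G : ι → Type u} [∀ i, AddCommGroup (G i)] [∀ i, Module B (G i)] (u : ∀ i, M →ₗ[B] G i)

theorem pow_smul_top_quotient_eq_bot {R : Type u} [CommRing R] (I : Ideal R) :
    I • (⊤ : Submodule R (R ⧸ I)) = ⊥ := by
  rw [eq_bot_iff]
  refine Submodule.smul_le.mpr fun r hr x _ => ?_
  obtain ⟨y, rfl⟩ := Ideal.Quotient.mk_surjective x
  rw [Submodule.mem_bot]
  change Ideal.Quotient.mk I (r * y) = 0
  rw [Ideal.Quotient.eq_zero_iff_mem]
  exact I.mul_mem_right _ hr

/-- elements of `R ⊗[B] M` killed in `(R ⧸ I) ⊗[B] M` lie in `I • ⊤`. -/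
theorem mem_smul_top_of_quotient_tmul_eq_zero {R : Type u} [CommRing R] [Algebra B R]
    (I : Ideal R) (z : R ⊗[B] M)
    (hz : LinearMap.rTensor M ((Ideal.Quotient.mkₐ B I).toLinearMap) z = 0) :
    z ∈ I • (⊤ : Submodule R (R ⊗[B] M)) := by
  have hex : Function.Exact ((I.restrictScalars B).subtype)
      ((Ideal.Quotient.mkₐ B I).toLinearMap) := by
    intro x
    rw [AlgHom.toLinearMap_apply, Ideal.Quotient.mkₐ_eq_mk, Ideal.Quotient.eq_zero_iff_mem]
    constructor
    · intro hx; exact ⟨⟨x, hx⟩, rfl⟩
    · rintro ⟨⟨y, hy⟩, rfl⟩; exact hy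
  have hsurj : Function.Surjective ((Ideal.Quotient.mkₐ B I).toLinearMap) :=
    Ideal.Quotient.mkₐ_surjective B I
  have hrange : ∀ y : (I.restrictScalars B) ⊗[B] M,
      LinearMap.rTensor M ((I.restrictScalars B).subtype) y ∈
        I • (⊤ : Submodule R (R ⊗[B] M)) := by
    intro y
    induction y using TensorProduct.induction_on with
    | zero => rw [map_zero]; exact zero_mem _
    | tmul x m =>
      rw [LinearMap.rTensor_tmul]
      have : ((I.restrictScalars B).subtype x) ⊗ₜ[B] m =
          ((x : R)) • ((1 : R) ⊗ₜ[B] m) := by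
        rw [TensorProduct.smul_tmul', smul_eq_mul, mul_one]
        rfl
      rw [this]
      exact Submodule.smul_mem_smul x.2 trivial
    | add x y hx hy => rw [map_add]; exact add_mem hx hy
  obtain ⟨y, rfl⟩ := (rTensor_exact M hex hsurj z).mp hz
  exact hrange y

/-- **J2**: the Noetherian case. -/
theorem sep_of_fibres [IsNoetherianRing B] [Module.Finite B M] (hflat : FlatT A (B := B) G)
    (hfib : ∀ (q : Ideal B) [q.IsPrime] (b : B),
      SepAtP A u (IsLocalRing.ResidueField (Localization.AtPrime q)) b) : Sep u := by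
  classical
  intro b w hw
  by_contra hcon
  push Not at hcon
  have hdisj : Disjoint ((Ideal.torsionOf B M w : Ideal B) : Set B)
      ((Submonoid.powers b : Submonoid B) : Set B) := by
    rw [Set.disjoint_left]
    rintro x hx ⟨k, rfl⟩
    exact hcon k ((Ideal.mem_torsionOf_iff w _).mp hx)
  obtain ⟨q, hq, hle, hqdisj⟩ := Ideal.exists_le_prime_disjoint _ _ hdisj
  haveI := hq
  have hbq : b ∉ q := fun hb =>
    (Set.disjoint_left.mp hqdisj) hb ⟨1, pow_one b⟩
  -- the local ring
  haveI : IsNoetherianRing (Localization.AtPrime q) :=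
    IsLocalization.isNoetherianRing q.primeCompl _ inferInstance
  have key : ∀ n : ℕ, ((1 : Localization.AtPrime q) ⊗ₜ[B] w : Localization.AtPrime q ⊗[B] M) ∈
      (IsLocalRing.maximalIdeal (Localization.AtPrime q)) ^ n •
        (⊤ : Submodule (Localization.AtPrime q) (Localization.AtPrime q ⊗[B] M)) := by
    intro n
    apply mem_smul_top_of_quotient_tmul_eq_zero
    rw [LinearMap.rTensor_tmul, AlgHom.toLinearMap_apply, map_one]
    -- `SepAtP` for the quotient
    have hQ : SepAtP A u (Localization.AtPrime q ⧸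
        (IsLocalRing.maximalIdeal (Localization.AtPrime q)) ^ n) b :=
      sepAtP_of_pow_smul_eq_bot u hflat (hfib q b) n _ (pow_smul_top_quotient_eq_bot _)
    obtain ⟨k, hk⟩ := hQ (((1 : B) ⊗ₜ[A] (1 : Localization.AtPrime q ⧸
        (IsLocalRing.maximalIdeal (Localization.AtPrime q)) ^ n)) ⊗ₜ[B] w) (fun i => by
      obtain ⟨k, hk⟩ := hw i
      refine ⟨k, ?_⟩
      rw [uP_tmul, ← TensorProduct.tmul_smul, hk, TensorProduct.tmul_zero])
    have h1 := congrArg (LinearMap.rTensor M (LinearMap.liftBaseChange B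
      (LinearMap.id : (Localization.AtPrime q ⧸
        (IsLocalRing.maximalIdeal (Localization.AtPrime q)) ^ n) →ₗ[A] _))) hk
    rw [map_smul, LinearMap.rTensor_tmul, LinearMap.liftBaseChange_tmul, map_zero,
      LinearMap.id_apply, one_smul] at h1
    have hunit : IsUnit (algebraMap B (Localization.AtPrime q ⧸
        (IsLocalRing.maximalIdeal (Localization.AtPrime q)) ^ n) b) := by
      have h2 : IsUnit (algebraMap B (Localization.AtPrime q) b) :=
        IsLocalization.map_units (Localization.AtPrime q) (⟨b, hbq⟩ : q.primeCompl)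
      rw [IsScalarTower.algebraMap_apply B (Localization.AtPrime q)]
      exact h2.map _
    have h2 : (algebraMap B (Localization.AtPrime q ⧸
        (IsLocalRing.maximalIdeal (Localization.AtPrime q)) ^ n) b) ^ k •
        ((1 : Localization.AtPrime q ⧸ (IsLocalRing.maximalIdeal (Localization.AtPrime q)) ^ n)
          ⊗ₜ[B] w) = 0 := by
      rw [← map_pow, algebraMap_smul]
      exact h1
    exact ((hunit.pow k).smul_eq_zero).mp h2
  have hkrull := Ideal.iInf_pow_smul_eq_bot_of_isLocalRing (R := Localization.AtPrime q)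
    (M := Localization.AtPrime q ⊗[B] M) (IsLocalRing.maximalIdeal _)
    (IsLocalRing.maximalIdeal.isMaximal _).ne_top
  have h0 : ((1 : Localization.AtPrime q) ⊗ₜ[B] w : Localization.AtPrime q ⊗[B] M) = 0 := by
    have : ((1 : Localization.AtPrime q) ⊗ₜ[B] w : Localization.AtPrime q ⊗[B] M) ∈
        (⨅ i : ℕ, (IsLocalRing.maximalIdeal (Localization.AtPrime q)) ^ i •
          (⊤ : Submodule _ (Localization.AtPrime q ⊗[B] M))) := (Submodule.mem_iInf _).mpr key
    rw [hkrull] at this
    exact this
  have h3 : TensorProduct.mk B (Localization.AtPrime q) M 1 w = 0 := h0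
  obtain ⟨⟨s, hs⟩, hsw⟩ := (IsLocalizedModule.eq_zero_iff q.primeCompl
    (TensorProduct.mk B (Localization.AtPrime q) M 1)).mp h3
  exact hs (hle ((Ideal.mem_torsionOf_iff w s).mpr hsw))

end family

end Groth.Agent.Lib.Seat22.Fib
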