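import Mathlib

/-!
# Two linear-algebra lemmas (seat 22)

* `exists_factor`: over a field, `ker f ≤ ker f'` gives `θ` with `θ ∘ f = f'`.
* `exists_injective_to_free`: a finite torsion-free module over a domain embeds into a finite free
  module.
-/

set_option autoImplicit false
set_option linter.style.haveILetI false
universe u

namespace Groth.Agent.Lib.Seat22.SepLin

/-- over a field, a linear map whose kernel contains `ker f` factors through `f`. -/
theorem exists_factor {k : Type*} [Field k] {B C C' : Type*} [AddCommGroup B] [AddCommGroup C]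
    [AddCommGroup C'] [Module k B] [Module k C] [Module k C'] (f : B →ₗ[k] C) (f' : B →ₗ[k] C')
    (h : LinearMap.ker f ≤ LinearMap.ker f') : ∃ θ : C →ₗ[k] C', θ ∘ₗ f = f' := by
  let θ₀ : LinearMap.range f →ₗ[k] C' :=
    ((LinearMap.ker f).liftQ f' h) ∘ₗ (LinearMap.quotKerEquivRange f).symm.toLinearMap
  obtain ⟨θ, hθ⟩ := LinearMap.exists_extend θ₀
  refine ⟨θ, LinearMap.ext fun b => ?_⟩
  have h1 : θ (f b) = θ₀ ⟨f b, LinearMap.mem_range_self f b⟩ := congr($hθ ⟨f b, _⟩)
  rw [LinearMap.comp_apply, h1]
  have h2 : (LinearMap.quotKerEquivRange f).symm ⟨f b, LinearMap.mem_range_self f b⟩ =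
      Submodule.Quotient.mk b := by
    rw [LinearEquiv.symm_apply_eq]
    rfl
  change ((LinearMap.ker f).liftQ f' h) ((LinearMap.quotKerEquivRange f).symm _) = _
  rw [h2]
  rfl

/-- a finite torsion-free module over a domain embeds into a finite free module. -/
theorem exists_injective_to_free (P : Type u) [CommRing P] [IsDomain P] (B : Type u)
    [AddCommGroup B] [Module P B] [Module.Finite P B]
    (htf : ∀ (p : P) (b : B), p ≠ 0 → p • b = 0 → b = 0) :
    ∃ (r : ℕ) (c : B →ₗ[P] (Fin r → P)), Function.Injective c := by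
  classical
  let S := nonZeroDivisors P
  let L := FractionRing P
  let V := LocalizedModule S B
  let ι : B →ₗ[P] V := LocalizedModule.mkLinearMap S B
  have hι : Function.Injective ι := by
    rw [injective_iff_map_eq_zero]
    intro b hb
    obtain ⟨s, hs⟩ := (IsLocalizedModule.eq_zero_iff S ι).mp hb
    exact htf s b (nonZeroDivisors.ne_zero s.2) hs
  haveI : Module.Finite L V := Module.Finite.of_isLocalizedModule S ι
  let r := Module.finrank L V
  let coord : V ≃ₗ[L] (Fin r → L) := (Module.finBasis L V).equivFun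
  let θ₁ : B →ₗ[P] (Fin r → L) := (coord.toLinearMap.restrictScalars P) ∘ₗ ι
  have hθ₁ : Function.Injective θ₁ := coord.injective.comp hι
  obtain ⟨T, hT⟩ := Module.Finite.fg_top (R := P) (M := B)
  let s : Finset L := (T ×ˢ (Finset.univ : Finset (Fin r))).image fun x => θ₁ x.1 x.2
  obtain ⟨q, hq⟩ := IsLocalization.exist_integer_multiples_of_finset S s
  have hq0 : (q : P) ≠ 0 := nonZeroDivisors.ne_zero q.2
  let ψ : (Fin r → P) →ₗ[P] (Fin r → L) := (Algebra.linearMap P L).compLeft (Fin r)
  have hψ : Function.Injective ψ := by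
    intro x y hxy
    funext j
    exact IsFractionRing.injective P L (congrFun hxy j)
  let θ : B →ₗ[P] (Fin r → L) := (q : P) • θ₁
  have hθ : Function.Injective θ := by
    rw [injective_iff_map_eq_zero]
    intro b hb
    apply hθ₁
    rw [map_zero]
    have hb' : (q : P) • θ₁ b = 0 := hb
    funext j
    have hj : (q : P) • θ₁ b j = 0 := congrFun hb' j
    rw [Algebra.smul_def, mul_eq_zero] at hj
    rcases hj with hj | hj
    · exact absurd ((map_eq_zero_iff _ (IsFractionRing.injective P L)).mp hj) hq0
    · exact hj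
  have hrange : ∀ b : B, θ b ∈ LinearMap.range ψ := by
    intro b
    have hb : b ∈ Submodule.span P (T : Set B) := by rw [hT]; trivial
    induction hb using Submodule.span_induction with
    | mem x hx =>
      have hx' : ∀ j, ∃ p : P, algebraMap P L p = (q : P) • θ₁ x j := fun j =>
        hq _ (Finset.mem_image.mpr ⟨(x, j), Finset.mem_product.mpr ⟨hx, Finset.mem_univ j⟩, rfl⟩)
      choose p hp using hx'
      exact ⟨p, funext fun j => hp j⟩
    | zero => rw [map_zero]; exact zero_mem _
    | add x y _ _ hx hy => rw [map_add]; exact add_mem hx hy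
    | smul a x _ hx => rw [map_smul]; exact Submodule.smul_mem _ _ hx
  let c : B →ₗ[P] (Fin r → P) :=
    (LinearEquiv.ofInjective ψ hψ).symm.toLinearMap ∘ₗ θ.codRestrict (LinearMap.range ψ) hrange
  refine ⟨r, c, ?_⟩
  intro x y hxy
  have h1 := (LinearEquiv.ofInjective ψ hψ).symm.injective hxy
  exact hθ (congrArg Subtype.val h1)

end Groth.Agent.Lib.Seat22.SepLin
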