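import Mathlib
import Groth.Agent.Lib.Seat22SepCore

/-!
# Separating families and polynomial rings (seat 22)

A separating family stays separating after base change to `A[X]`, hence to
`MvPolynomial (Fin s) A`.
-/

set_option autoImplicit false
set_option linter.style.haveILetI false
set_option linter.dupNamespace false
universe u
open TensorProduct Polynomial

namespace Groth.Agent.Lib.Seat22.Sep

section coeff
variable {A : Type u} [CommRing A] (N : Type u) [AddCommGroup N] [Module A N]

/-- coefficient maps on `A[X] ⊗ N`. -/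
noncomputable def cf (j : ℕ) : A[X] ⊗[A] N →ₗ[A] N :=
  (TensorProduct.lid A N).toLinearMap ∘ₗ (Polynomial.lcoeff A j).rTensor N

variable {N}

theorem cf_tmul (j : ℕ) (p : A[X]) (n : N) : cf N j (p ⊗ₜ n) = p.coeff j • n := by
  simp [cf]

theorem cf_bc {N' : Type u} [AddCommGroup N'] [Module A N'] (f : N →ₗ[A] N') (j : ℕ)
    (w : A[X] ⊗[A] N) : cf N' j (f.baseChange A[X] w) = f (cf N j w) := by
  induction w using TensorProduct.induction_on with
  | zero => simp
  | tmul p n => rw [LinearMap.baseChange_tmul, cf_tmul, cf_tmul, map_smul]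
  | add x y hx hy => rw [map_add, map_add, hx, hy, map_add, map_add]

theorem cf_smul_tmul (q p : A[X]) (n : N) (j : ℕ) :
    cf N j (q • (p ⊗ₜ[A] n)) = (q * p).coeff j • n := by
  rw [TensorProduct.smul_tmul', cf_tmul, smul_eq_mul]

theorem C_smul (a : A) (w : A[X] ⊗[A] N) : (C a : A[X]) • w = a • w := by
  induction w using TensorProduct.induction_on with
  | zero => simp
  | tmul p n =>
    rw [TensorProduct.smul_tmul', TensorProduct.smul_tmul', smul_eq_mul, Polynomial.C_mul']
  | add x y hx hy => rw [smul_add, smul_add, hx, hy]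

theorem C_pow_smul (a : A) (n : ℕ) (w : A[X] ⊗[A] N) : (C a : A[X]) ^ n • w = a ^ n • w := by
  rw [← C_pow, C_smul]

/-- reconstruction from coefficients. -/
theorem exists_forall_eq_sum (w : A[X] ⊗[A] N) : ∃ s₀ : ℕ, ∀ s, s₀ ≤ s →
    w = ∑ j ∈ Finset.range s, (X ^ j : A[X]) ⊗ₜ[A] cf N j w := by
  induction w using TensorProduct.induction_on with
  | zero => exact ⟨0, fun s _ => by simp⟩
  | tmul p n =>
    refine ⟨p.natDegree + 1, fun s hs => ?_⟩
    conv_lhs => rw [Polynomial.as_sum_range' p s (by omega)]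
    rw [TensorProduct.sum_tmul]
    refine Finset.sum_congr rfl fun j _ => ?_
    rw [cf_tmul, ← TensorProduct.smul_tmul, Polynomial.smul_X_eq_monomial]
  | add x y hx hy =>
    obtain ⟨s₁, h₁⟩ := hx
    obtain ⟨s₂, h₂⟩ := hy
    refine ⟨max s₁ s₂, fun s hs => ?_⟩
    conv_lhs => rw [h₁ s (le_trans (le_max_left _ _) hs), h₂ s (le_trans (le_max_right _ _) hs)]
    rw [← Finset.sum_add_distrib]
    refine Finset.sum_congr rfl fun j _ => ?_
    rw [map_add, TensorProduct.tmul_add]

/-- all coefficients of index `≥ s` vanish. -/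
def DegLT (s : ℕ) (w : A[X] ⊗[A] N) : Prop := ∀ j, s ≤ j → cf N j w = 0

theorem cf_X_pow_tmul (j j' : ℕ) (n : N) :
    cf N j' ((X ^ j : A[X]) ⊗ₜ[A] n) = if j' = j then n else 0 := by
  rw [cf_tmul, Polynomial.coeff_X_pow]
  split_ifs <;> simp

theorem exists_degLT (w : A[X] ⊗[A] N) : ∃ s, DegLT s w := by
  obtain ⟨s₀, h⟩ := exists_forall_eq_sum w
  refine ⟨s₀, fun j hj => ?_⟩
  rw [h s₀ le_rfl, map_sum]
  refine Finset.sum_eq_zero fun j' hj' => ?_
  rw [cf_X_pow_tmul, if_neg]
  have := Finset.mem_range.mp hj'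
  omega

theorem eq_sum_of_degLT {s : ℕ} {w : A[X] ⊗[A] N} (hw : DegLT s w) :
    w = ∑ j ∈ Finset.range s, (X ^ j : A[X]) ⊗ₜ[A] cf N j w := by
  obtain ⟨s₀, h⟩ := exists_forall_eq_sum w
  conv_lhs => rw [h (max s₀ s) (le_max_left _ _)]
  symm
  refine Finset.sum_subset (Finset.range_subset_range.mpr (le_max_right _ _)) fun j _ hj => ?_
  rw [hw j (by simpa using hj), TensorProduct.tmul_zero]

theorem eq_zero_of_degLT_zero {w : A[X] ⊗[A] N} (hw : DegLT 0 w) : w = 0 := by
  rw [eq_sum_of_degLT hw]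
  simp

theorem cf_pow_smul (g : A[X]) (e : ℕ) (hg : g.natDegree ≤ e) (s : ℕ) (w : A[X] ⊗[A] N)
    (hw : DegLT (s + 1) w) (n : ℕ) :
    cf N (n * e + s) (g ^ n • w) = g.coeff e ^ n • cf N s w := by
  conv_lhs => rw [eq_sum_of_degLT hw]
  rw [Finset.smul_sum, map_sum, Finset.sum_range_succ, Finset.sum_eq_zero, zero_add]
  · rw [cf_smul_tmul, Polynomial.coeff_mul_X_pow', if_pos (Nat.le_add_left _ _),
      Nat.add_sub_cancel, Polynomial.coeff_pow_of_natDegree_le hg]
  · intro j hj
    have hj' := Finset.mem_range.mp hj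
    rw [cf_smul_tmul, Polynomial.coeff_mul_X_pow', if_pos (by omega),
      Polynomial.coeff_eq_zero_of_natDegree_lt, zero_smul]
    calc (g ^ n).natDegree ≤ n * g.natDegree := Polynomial.natDegree_pow_le
      _ ≤ n * e := Nat.mul_le_mul_left _ hg
      _ < n * e + s - j := by omega

end coeff

section main
variable {A : Type u} [CommRing A] {M : Type u} [AddCommGroup M] [Module A M] {ι : Type u}
  {G : ι → Type u} [∀ i, AddCommGroup (G i)] [∀ i, Module A (G i)] (u : ∀ i, M →ₗ[A] G i)

theorem sepAt_poly_aux (hu : Sep u) : ∀ e : ℕ, ∀ g : A[X], (∀ j, e ≤ j → g.coeff j = 0) →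
    SepAt (bc u A[X]) g := by
  intro e
  induction e with
  | zero =>
    intro g hg w _
    have : g = 0 := Polynomial.ext fun j => by rw [hg j (Nat.zero_le _), coeff_zero]
    exact ⟨1, by rw [this, pow_one, zero_smul]⟩
  | succ e ih =>
    intro g hg w hyp
    set a : A := g.coeff e with ha
    have hdeg : g.natDegree ≤ e :=
      Polynomial.natDegree_le_iff_coeff_eq_zero.mpr fun N hN => hg N hN
    -- inner induction on the degree of `w`
    have inner : ∀ s : ℕ, ∀ w : A[X] ⊗[A] M, DegLT s w →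
        (∀ i, ∃ n : ℕ, g ^ n • bc u A[X] i w = 0) →
        ∃ n n' : ℕ, (C a : A[X]) ^ n • (g ^ n' • w) = 0 := by
      intro s
      induction s with
      | zero =>
        intro w hw _
        exact ⟨0, 0, by rw [eq_zero_of_degLT_zero hw, smul_zero, smul_zero]⟩
      | succ s ihs =>
        intro w hw hyp
        set m : M := cf M s w with hm
        have h1 : ∀ i, ∃ n : ℕ, a ^ n • u i m = 0 := by
          intro i
          obtain ⟨n, hn⟩ := hyp i
          refine ⟨n, ?_⟩
          rw [← map_smul, hm, ← cf_pow_smul g e hdeg s w hw n, ← cf_bc, map_smul, hn, map_zero]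
        obtain ⟨n₀, hn₀⟩ := hu a m h1
        have hw' : DegLT s ((C a : A[X]) ^ n₀ • w) := by
          intro j hj
          rw [C_pow_smul, map_smul]
          rcases Nat.eq_or_lt_of_le hj with rfl | hlt
          · exact hn₀
          · rw [hw j hlt, smul_zero]
        obtain ⟨n, n', hnn⟩ := ihs _ hw' (fun i => by
          obtain ⟨n, hn⟩ := hyp i
          exact ⟨n, by rw [map_smul, smul_comm, hn, smul_zero]⟩)
        refine ⟨n + n₀, n', ?_⟩
        rw [pow_add, mul_smul, smul_comm ((C a : A[X]) ^ n₀)]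
        exact hnn
    obtain ⟨s, hs⟩ := exists_degLT w
    obtain ⟨n, n', hnn⟩ := inner s w hs hyp
    set t : A[X] ⊗[A] M := g ^ n' • w with ht
    set y : A[X] := C a * X ^ e with hy
    have hyt : y ^ n • t = 0 := by
      rw [hy, mul_pow, mul_comm, mul_smul, hnn, smul_zero]
    have hnegyt : (-y) ^ n • t = 0 := by
      rw [neg_pow, mul_smul, hyt, smul_zero]
    set g₁ : A[X] := g + -y with hg₁
    have hg₁c : ∀ j, e ≤ j → g₁.coeff j = 0 := by
      intro j hj
      rw [hg₁, hy, coeff_add, coeff_neg, Polynomial.coeff_C_mul_X_pow]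
      rcases Nat.eq_or_lt_of_le hj with rfl | hlt
      · rw [if_pos rfl, ha, add_neg_cancel]
      · rw [if_neg (by omega), neg_zero, add_zero, hg j hlt]
    have hyp₁ : ∀ i, ∃ N : ℕ, g₁ ^ N • bc u A[X] i t = 0 := by
      intro i
      obtain ⟨ni, hni⟩ := hyp i
      refine ⟨ni + n, ?_⟩
      rw [hg₁]
      have e1 : g ^ ni • bc u A[X] i t = 0 := by
        rw [ht, map_smul, smul_comm, hni, smul_zero]
      have e2 : (-y) ^ n • bc u A[X] i t = 0 := by
        rw [← map_smul, hnegyt, map_zero]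
      exact add_pow_smul_eq_zero (R := A[X]) (W := A[X] ⊗[A] G i) e1 e2
    obtain ⟨N₁, hN₁⟩ := ih g₁ hg₁c t hyp₁
    have hgt : g ^ (N₁ + n) • t = 0 := by
      have hgg : g = g₁ + y := by rw [hg₁, add_assoc, neg_add_cancel, add_zero]
      conv_lhs => rw [hgg]
      exact add_pow_smul_eq_zero (R := A[X]) (W := A[X] ⊗[A] M) hN₁ hyt
    exact ⟨N₁ + n + n', by rw [pow_add, mul_smul]; exact hgt⟩

/-- **Polynomial lemma.** -/
theorem Sep.poly (hu : Sep u) : Sep (bc u A[X]) := fun g =>
  sepAt_poly_aux u hu (g.natDegree + 1) g fun _ hj =>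
    Polynomial.coeff_eq_zero_of_natDegree_lt (by omega)

/-- several variables. -/
theorem Sep.mvPolynomial (hu : Sep u) (s : ℕ) : Sep (bc u (MvPolynomial (Fin s) A)) := by
  induction s with
  | zero => exact Sep.of_algEquiv u (MvPolynomial.isEmptyAlgEquiv A (Fin 0)) (Sep.bc_self u hu)
  | succ s ih =>
    refine Sep.of_algEquiv u (MvPolynomial.finSuccEquiv A s) ?_
    exact Sep.of_tower u (A₁ := MvPolynomial (Fin s) A) (Sep.poly _ ih)

end main

end Groth.Agent.Lib.Seat22.Sep
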