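import Mathlib
import Groth.Agent.Lib.Seat22SepPoly
import Groth.Agent.Lib.Seat22SepLin

/-!
# Separating families over a field are universally separating (seat 22)

`k` a field, `A` a `k`-algebra, `u i : M → G i` a separating family of `A`-linear maps.
Then for every `k`-algebra `B` the base-changed family over `A ⊗[k] B` is separating.
-/

set_option autoImplicit false
set_option linter.style.haveILetI false
set_option linter.dupNamespace false
universe u
open TensorProduct

namespace Groth.Agent.Lib.Seat22.Sep

section maps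
variable {k : Type u} [Field k] {A : Type u} [CommRing A] [Algebra k A]
variable {B B' B'' : Type u} [AddCommGroup B] [Module k B] [AddCommGroup B'] [Module k B']
  [AddCommGroup B''] [Module k B'']
variable (N : Type u) [AddCommGroup N] [Module A N]

/-- `A ⊗ B → A ⊗ B'` induced by a `k`-linear map. -/
noncomputable def tl (c : B →ₗ[k] B') : A ⊗[k] B →ₗ[A] A ⊗[k] B' :=
  TensorProduct.AlgebraTensorModule.lTensor A A c

/-- `(A ⊗ B) ⊗_A N → (A ⊗ B') ⊗_A N` induced by a `k`-linear map. -/
noncomputable def rT (c : B →ₗ[k] B') : (A ⊗[k] B) ⊗[A] N →ₗ[A] (A ⊗[k] B') ⊗[A] N :=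
  LinearMap.rTensor N (tl c)

variable {N}

theorem induction3 {motive : (A ⊗[k] B) ⊗[A] N → Prop} (zero : motive 0)
    (tmul : ∀ (a : A) (b : B) (n : N), motive ((a ⊗ₜ[k] b) ⊗ₜ[A] n))
    (add : ∀ x y, motive x → motive y → motive (x + y)) : ∀ w, motive w := by
  intro w
  induction w using TensorProduct.induction_on with
  | zero => exact zero
  | tmul x n =>
    induction x using TensorProduct.induction_on with
    | zero => rw [TensorProduct.zero_tmul]; exact zero
    | tmul a b => exact tmul a b n
    | add x y hx hy => rw [TensorProduct.add_tmul]; exact add _ _ hx hy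
  | add x y hx hy => exact add _ _ hx hy

@[simp]
theorem rT_tmul (c : B →ₗ[k] B') (a : A) (b : B) (n : N) :
    rT N c ((a ⊗ₜ[k] b) ⊗ₜ[A] n) = (a ⊗ₜ[k] c b) ⊗ₜ[A] n := by
  simp [rT, tl]

theorem rT_id (w : (A ⊗[k] B) ⊗[A] N) : rT N (LinearMap.id : B →ₗ[k] B) w = w := by
  induction w using induction3 with
  | zero => simp
  | tmul a b n => simp
  | add x y hx hy => rw [map_add, hx, hy]

theorem rT_comp (c' : B' →ₗ[k] B'') (c : B →ₗ[k] B') (w : (A ⊗[k] B) ⊗[A] N) :
    rT N c' (rT N c w) = rT N (c' ∘ₗ c) w := by
  induction w using induction3 with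
  | zero => simp
  | tmul a b n => simp
  | add x y hx hy => rw [map_add, map_add, hx, hy, map_add]

theorem rT_zero (w : (A ⊗[k] B) ⊗[A] N) : rT N (0 : B →ₗ[k] B') w = 0 := by
  induction w using induction3 with
  | zero => simp
  | tmul a b n => simp
  | add x y hx hy => rw [map_add, hx, hy, add_zero]

theorem rT_injective (c : B →ₗ[k] B') (hc : Function.Injective c) :
    Function.Injective (rT (A := A) N c) := by
  obtain ⟨θ, hθ⟩ := Groth.Agent.Lib.Seat22.SepLin.exists_factor c (LinearMap.id : B →ₗ[k] B)
    (by rw [LinearMap.ker_eq_bot.mpr hc]; exact bot_le)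
  refine Function.LeftInverse.injective (g := rT N θ) fun w => ?_
  rw [rT_comp, hθ, rT_id]

end maps

section family
variable {k : Type u} [Field k] {A : Type u} [CommRing A] [Algebra k A]
  {M : Type u} [AddCommGroup M] [Module A M] {ι : Type u}
  {G : ι → Type u} [∀ i, AddCommGroup (G i)] [∀ i, Module A (G i)] (u : ∀ i, M →ₗ[A] G i)

variable (k) in
/-- the family `u` stays separating after base change to `A ⊗[k] B`. -/
def SepBC (B : Type u) [CommRing B] [Algebra k B] : Prop := Sep (bc u (A ⊗[k] B))

variable {B B' : Type u} [CommRing B] [Algebra k B] [CommRing B'] [Algebra k B']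

theorem rT_bc (c : B →ₗ[k] B') (i : ι) (w : (A ⊗[k] B) ⊗[A] M) :
    rT (G i) c (bc u (A ⊗[k] B) i w) = bc u (A ⊗[k] B') i (rT M c w) := by
  induction w using induction3 with
  | zero => simp
  | tmul a b n => simp
  | add x y hx hy => rw [map_add, map_add, hx, hy, map_add, map_add]

theorem rT_algHom_smul {N : Type u} [AddCommGroup N] [Module A N] (f : B →ₐ[k] B')
    (g : A ⊗[k] B) (w : (A ⊗[k] B) ⊗[A] N) :
    rT N f.toLinearMap (g • w) =
      (Algebra.TensorProduct.map (AlgHom.id A A) f g) • rT N f.toLinearMap w := by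
  induction g using TensorProduct.induction_on with
  | zero => simp
  | tmul a₂ b₂ =>
    induction w using induction3 with
    | zero => simp
    | tmul a b n =>
      rw [TensorProduct.smul_tmul', smul_eq_mul, Algebra.TensorProduct.tmul_mul_tmul, rT_tmul,
        rT_tmul, Algebra.TensorProduct.map_tmul, TensorProduct.smul_tmul', smul_eq_mul,
        Algebra.TensorProduct.tmul_mul_tmul]
      simp
    | add x y hx hy => rw [smul_add, map_add, hx, hy, map_add, smul_add]
  | add x y hx hy => rw [add_smul, map_add, hx, hy, map_add, add_smul]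

theorem rT_mulLeft {N : Type u} [AddCommGroup N] [Module A N] (x : B)
    (w : (A ⊗[k] B) ⊗[A] N) :
    rT N (LinearMap.mulLeft k x) w = ((1 : A) ⊗ₜ[k] x) • w := by
  induction w using induction3 with
  | zero => simp
  | tmul a b n =>
    rw [rT_tmul, TensorProduct.smul_tmul', smul_eq_mul, Algebra.TensorProduct.tmul_mul_tmul]
    simp
  | add x y hx hy => rw [map_add, hx, hy, smul_add]

/-- descent along injective algebra maps. -/
theorem SepBC.of_injective (f : B →ₐ[k] B') (hf : Function.Injective f) (h : SepBC k u B') :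
    SepBC k u B := by
  intro g
  refine SepAt.transfer (J := Unit) (bc u (A ⊗[k] B)) (bc u (A ⊗[k] B'))
    (Algebra.TensorProduct.map (AlgHom.id A A) f).toRingHom
    (fun _ => (rT M f.toLinearMap).toAddMonoidHom)
    (fun _ r w => rT_algHom_smul f r w)
    (fun _ i => (rT (G i) f.toLinearMap).toAddMonoidHom)
    (fun _ i r w => rT_algHom_smul f r w)
    (fun _ i w => rT_bc u f.toLinearMap i w)
    (fun w hw => rT_injective f.toLinearMap hf ((hw ()).trans (map_zero _).symm)) (h _)

/-- polynomial rings. -/
theorem SepBC.mvPolynomial (hu : Sep u) (s : ℕ) : SepBC k u (MvPolynomial (Fin s) k) :=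
  Sep.of_algEquiv u (MvPolynomial.algebraTensorAlgEquiv k A) (Sep.mvPolynomial u hu s)

end family

end Groth.Agent.Lib.Seat22.Sep
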