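import Mathlib
import Groth.Agent.Lib.Seat22SepField

/-!
# Separating families over a field, II: finitely generated domains (seat 22)

Noether normalisation: a finitely generated `k`-domain `B` is finite and torsion-free over a
polynomial ring `P`; it embeds `P`-linearly into `P^r`, and every element of `A ⊗ B` is integral
over `A ⊗ P`.
-/

set_option autoImplicit false
set_option linter.style.haveILetI false
set_option linter.dupNamespace false
universe u
open TensorProduct

namespace Groth.Agent.Lib.Seat22.Sep

section more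
variable {k : Type u} [Field k] {A : Type u} [CommRing A] [Algebra k A]
variable {B B' : Type u} [AddCommGroup B] [Module k B] [AddCommGroup B'] [Module k B']
variable {N : Type u} [AddCommGroup N] [Module A N]

theorem rT_sum {J : Type*} (s : Finset J) (c : J → B →ₗ[k] B') (w : (A ⊗[k] B) ⊗[A] N) :
    rT N (∑ j ∈ s, c j) w = ∑ j ∈ s, rT N (c j) w := by
  induction w using induction3 with
  | zero => simp
  | tmul a b n =>
    simp only [rT_tmul, LinearMap.sum_apply, TensorProduct.tmul_sum, TensorProduct.sum_tmul]
  | add x y hx hy => rw [map_add, hx, hy, ← Finset.sum_add_distrib]; simp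

end more

section semilinear
variable {k : Type u} [Field k] {A : Type u} [CommRing A] [Algebra k A]
variable {P B : Type u} [CommRing P] [Algebra k P] [CommRing B] [Algebra k B]
variable {N : Type u} [AddCommGroup N] [Module A N]

/-- if `c' : B → P` is `P`-linear (along `g : P → B`) then `rT c'` is semilinear. -/
theorem rT_semilinear (g : P →ₐ[k] B) (c' : B →ₗ[k] P) (hc' : ∀ p b, c' (g p * b) = p * c' b)
    (a' : A ⊗[k] P) (w : (A ⊗[k] B) ⊗[A] N) :
    rT N c' ((Algebra.TensorProduct.map (AlgHom.id A A) g a') • w) = a' • rT N c' w := by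
  induction a' using TensorProduct.induction_on with
  | zero => simp
  | tmul a₂ p =>
    induction w using induction3 with
    | zero => simp
    | tmul a b n =>
      rw [Algebra.TensorProduct.map_tmul, TensorProduct.smul_tmul', smul_eq_mul,
        Algebra.TensorProduct.tmul_mul_tmul, rT_tmul, rT_tmul, TensorProduct.smul_tmul',
        smul_eq_mul, Algebra.TensorProduct.tmul_mul_tmul, hc']
      simp
    | add x y hx hy => rw [smul_add, map_add, hx, hy, map_add, smul_add]
  | add x y hx hy => rw [map_add, add_smul, map_add, hx, hy, add_smul]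

/-- every element of `A ⊗ B` is integral over `A ⊗ P` when `B` is integral over `P`. -/
theorem isIntegral_tensor (g : P →ₐ[k] B) (hg : g.IsIntegral) (x : A ⊗[k] B) :
    (Algebra.TensorProduct.map (AlgHom.id A A) g).toRingHom.IsIntegralElem x := by
  set F := (Algebra.TensorProduct.map (AlgHom.id A A) g).toRingHom with hF
  induction x using TensorProduct.induction_on with
  | zero => exact F.isIntegralElem_zero
  | tmul a b =>
    have h1 : (a ⊗ₜ[k] b : A ⊗[k] B) = (a ⊗ₜ[k] (1 : B)) * ((1 : A) ⊗ₜ[k] b) := by
      rw [Algebra.TensorProduct.tmul_mul_tmul, mul_one, one_mul]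
    rw [h1]
    refine RingHom.IsIntegralElem.mul F ?_ ?_
    · have : (a ⊗ₜ[k] (1 : B) : A ⊗[k] B) = F (a ⊗ₜ[k] (1 : P)) := by
        simp [hF]
      rw [this]
      exact F.isIntegralElem_map
    · -- image of an integral element under `includeRight`
      obtain ⟨χ, hχ, hχb⟩ := hg b
      refine ⟨χ.map (Algebra.TensorProduct.includeRight : P →ₐ[k] A ⊗[k] P).toRingHom,
        hχ.map _, ?_⟩
      rw [Polynomial.eval₂_map]
      have hcomp : F.comp (Algebra.TensorProduct.includeRight : P →ₐ[k] A ⊗[k] P).toRingHom =
          (Algebra.TensorProduct.includeRight : B →ₐ[k] A ⊗[k] B).toRingHom.comp g.toRingHom := by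
        ext p
        simp [hF]
      rw [hcomp]
      have : ((1 : A) ⊗ₜ[k] b : A ⊗[k] B) =
          (Algebra.TensorProduct.includeRight : B →ₐ[k] A ⊗[k] B).toRingHom b := rfl
      rw [this, ← Polynomial.hom_eval₂, hχb, map_zero]
  | add x y hx hy => exact RingHom.IsIntegralElem.add F hx hy

end semilinear

section domain
variable {k : Type u} [Field k] {A : Type u} [CommRing A] [Algebra k A]
  {M : Type u} [AddCommGroup M] [Module A M] {ι : Type u}
  {G : ι → Type u} [∀ i, AddCommGroup (G i)] [∀ i, Module A (G i)] (u : ∀ i, M →ₗ[A] G i)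

/-- finite injective extensions of domains. -/
theorem SepBC.of_finite_injective {P B : Type u} [CommRing P] [Algebra k P] [IsDomain P]
    [CommRing B] [Algebra k B] [IsDomain B] (g : P →ₐ[k] B) (hginj : Function.Injective g)
    (hgfin : g.Finite) (hpoly : SepBC k u P) : SepBC k u B := by
  classical
  letI algPB : Algebra P B := g.toRingHom.toAlgebra
  haveI : IsScalarTower k P B := IsScalarTower.of_algebraMap_eq fun x => (g.commutes x).symm
  haveI : Module.Finite P B := hgfin
  have hsmul : ∀ (p : P) (b : B), p • b = g p * b := fun p b => rfl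
  have htf : ∀ (p : P) (b : B), p ≠ 0 → p • b = 0 → b = 0 := by
    intro p b hp hpb
    rw [hsmul, mul_eq_zero] at hpb
    rcases hpb with h | h
    · exact absurd ((map_eq_zero_iff g hginj).mp h) hp
    · exact h
  obtain ⟨r, c, hc⟩ := Groth.Agent.Lib.Seat22.SepLin.exists_injective_to_free P B htf
  -- `k`-linear coordinates and a `k`-linear retraction
  let ck : B →ₗ[k] (Fin r → P) := c.restrictScalars k
  obtain ⟨θ, hθ⟩ := Groth.Agent.Lib.Seat22.SepLin.exists_factor ck (LinearMap.id : B →ₗ[k] B)
    (by
      have : LinearMap.ker ck = ⊥ := LinearMap.ker_eq_bot.mpr hc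
      rw [this]; exact bot_le)
  let cj : Fin r → B →ₗ[k] P := fun j => (LinearMap.proj j : (Fin r → P) →ₗ[k] P) ∘ₗ ck
  let σ : Fin r → P →ₗ[k] B := fun j => θ ∘ₗ (LinearMap.single k (fun _ : Fin r => P) j)
  have hsum : ∑ j, σ j ∘ₗ cj j = (LinearMap.id : B →ₗ[k] B) := by
    ext b
    simp only [LinearMap.sum_apply, LinearMap.comp_apply, σ, cj, LinearMap.proj_apply,
      LinearMap.single_apply, LinearMap.id_apply]
    rw [← map_sum, Finset.univ_sum_single]
    exact congr($hθ b)
  have hcj : ∀ j p b, cj j (g p * b) = p * cj j b := by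
    intro j p b
    have : c (p • b) = p • c b := map_smul c p b
    simp only [cj, LinearMap.comp_apply, LinearMap.proj_apply, ck, LinearMap.restrictScalars_apply]
    rw [← hsmul, this]
    rfl
  -- the ring map
  let F : A ⊗[k] P →ₐ[A] A ⊗[k] B := Algebra.TensorProduct.map (AlgHom.id A A) g
  letI algF : Algebra (A ⊗[k] P) (A ⊗[k] B) := F.toRingHom.toAlgebra
  intro x
  refine SepAt.of_isIntegral (R := A ⊗[k] P) (bc u (A ⊗[k] B)) ?_ x
    (isIntegral_tensor g hgfin.to_isIntegral x)
  intro a'
  have key : SepAt (bc u (A ⊗[k] B)) (F a') :=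
    SepAt.transfer' (J := Fin r) (a' := a') (v := bc u (A ⊗[k] B)) (v' := bc u (A ⊗[k] P))
      (fun j => (rT M (cj j)).toAddMonoidHom)
      (fun j w => rT_semilinear g (cj j) (hcj j) a' w)
      (fun j i => (rT (G i) (cj j)).toAddMonoidHom)
      (fun j i w => rT_semilinear g (cj j) (hcj j) a' w)
      (fun j i w => rT_bc u (cj j) i w)
      (fun w hw => by
        have h1 : w = rT M (∑ j, σ j ∘ₗ cj j) w := by rw [hsum, rT_id]
        rw [h1, rT_sum]
        refine Finset.sum_eq_zero fun j _ => ?_
        rw [← rT_comp]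
        have : rT M (cj j) w = 0 := hw j
        rw [this, map_zero]) (hpoly a')
  exact key

/-- finitely generated domains. -/
theorem SepBC.of_domain (hu : Sep u) (B : Type u) [CommRing B] [Algebra k B] [IsDomain B]
    [Algebra.FiniteType k B] : SepBC k u B := by
  obtain ⟨s, g, hginj, hgfin⟩ := exists_finite_inj_algHom_of_fg k B
  exact SepBC.of_finite_injective u g hginj hgfin (SepBC.mvPolynomial u hu s)

end domain

end Groth.Agent.Lib.Seat22.Sep
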