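import Mathlib
import Groth.Agent.Lib.Seat22SepField2

/-!
# Separating families over a field, III: dévissage to domains, general algebras (seat 22)
-/

set_option autoImplicit false
set_option linter.style.haveILetI false
set_option linter.dupNamespace false
universe u
open TensorProduct

namespace Groth.Agent.Lib.Seat22.Sep

section quot
variable {k : Type u} [Field k] {A : Type u} [CommRing A] [Algebra k A]
variable {B B₁ B₂ : Type u} [CommRing B] [Algebra k B] [CommRing B₁] [Algebra k B₁]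
  [CommRing B₂] [Algebra k B₂]
variable (N : Type u) [AddCommGroup N] [Module A N]

/-- Q1: the kernel of `rT p₁` consists of multiples of `x`. -/
theorem rT_ker_of_span (x : B) (p₁ : B →ₐ[k] B₁) (hp₁ : Function.Surjective p₁)
    (hker : ∀ y, p₁ y = 0 ↔ ∃ z, y = x * z) (w : (A ⊗[k] B) ⊗[A] N)
    (hw : rT N p₁.toLinearMap w = 0) : ∃ w₁ : (A ⊗[k] B) ⊗[A] N, w = ((1 : A) ⊗ₜ[k] x) • w₁ := by
  have hex : Function.Exact (LinearMap.mulLeft k x) p₁.toLinearMap := by
    intro y
    rw [AlgHom.toLinearMap_apply, hker y]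
    constructor
    · rintro ⟨z, rfl⟩; exact ⟨z, rfl⟩
    · rintro ⟨z, rfl⟩; exact ⟨z, rfl⟩
  have h1 : Function.Exact (LinearMap.lTensor A (LinearMap.mulLeft k x))
      (LinearMap.lTensor A p₁.toLinearMap) := lTensor_exact A hex hp₁
  have h1' : Function.Exact (tl (A := A) (LinearMap.mulLeft k x)) (tl (A := A) p₁.toLinearMap) :=
    h1
  have hsurj : Function.Surjective (tl (A := A) p₁.toLinearMap) :=
    LinearMap.lTensor_surjective A hp₁
  have h2 : Function.Exact (rT N (LinearMap.mulLeft k x)) (rT (A := A) N p₁.toLinearMap) :=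
    rTensor_exact N h1' hsurj
  obtain ⟨w₁, hw₁⟩ := (h2 w).mp hw
  exact ⟨w₁, by rw [← hw₁, rT_mulLeft]⟩

/-- Q1': elements killed by `rT p₂` are killed by `x`. -/
theorem smul_eq_zero_of_rT (x : B) (p₂ : B →ₐ[k] B₂) (hker : ∀ y, p₂ y = 0 ↔ x * y = 0)
    (w : (A ⊗[k] B) ⊗[A] N) (hw : rT N p₂.toLinearMap w = 0) : ((1 : A) ⊗ₜ[k] x) • w = 0 := by
  obtain ⟨θ, hθ⟩ := Groth.Agent.Lib.Seat22.SepLin.exists_factor p₂.toLinearMap
    (LinearMap.mulLeft k x) (fun y hy => by
      rw [LinearMap.mem_ker, LinearMap.mulLeft_apply]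
      exact (hker y).mp hy)
  rw [← rT_mulLeft, ← hθ, ← rT_comp, hw, map_zero]

/-- Q2: elements killed by `x` are killed by `rT p₂`. -/
theorem rT_eq_zero_of_smul (x : B) (p₂ : B →ₐ[k] B₂) (hker : ∀ y, p₂ y = 0 ↔ x * y = 0)
    (z : (A ⊗[k] B) ⊗[A] N) (hz : ((1 : A) ⊗ₜ[k] x) • z = 0) : rT N p₂.toLinearMap z = 0 := by
  obtain ⟨θ, hθ⟩ := Groth.Agent.Lib.Seat22.SepLin.exists_factor (LinearMap.mulLeft k x)
    p₂.toLinearMap (fun y hy => by
      rw [LinearMap.mem_ker, LinearMap.mulLeft_apply] at hy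
      exact (hker y).mpr hy)
  rw [← hθ, ← rT_comp, rT_mulLeft, hz, map_zero]

end quot

section family
variable {k : Type u} [Field k] {A : Type u} [CommRing A] [Algebra k A]
  {M : Type u} [AddCommGroup M] [Module A M] {ι : Type u}
  {G : ι → Type u} [∀ i, AddCommGroup (G i)] [∀ i, Module A (G i)] (u : ∀ i, M →ₗ[A] G i)
variable {B B₁ B₂ : Type u} [CommRing B] [Algebra k B] [CommRing B₁] [Algebra k B₁]
  [CommRing B₂] [Algebra k B₂]

theorem rT_algHom_pow_smul {B B' : Type u} [CommRing B] [Algebra k B] [CommRing B']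
    [Algebra k B'] {N : Type u} [AddCommGroup N] [Module A N] (f : B →ₐ[k] B')
    (g : A ⊗[k] B) (n : ℕ) (w : (A ⊗[k] B) ⊗[A] N) :
    rT N f.toLinearMap (g ^ n • w) =
      (Algebra.TensorProduct.map (AlgHom.id A A) f g) ^ n • rT N f.toLinearMap w := by
  rw [rT_algHom_smul, map_pow]

/-- the dévissage step: `B/(x)` and `B/Ann(x)`. -/
theorem SepBC.of_quotients (x : B) (p₁ : B →ₐ[k] B₁) (hp₁ : Function.Surjective p₁)
    (hker₁ : ∀ y, p₁ y = 0 ↔ ∃ z, y = x * z) (p₂ : B →ₐ[k] B₂)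
    (hker₂ : ∀ y, p₂ y = 0 ↔ x * y = 0) (h₁ : SepBC k u B₁) (h₂ : SepBC k u B₂) :
    SepBC k u B := by
  intro g w hw
  set g₁ := Algebra.TensorProduct.map (AlgHom.id A A) p₁ g with hg₁
  set g₂ := Algebra.TensorProduct.map (AlgHom.id A A) p₂ g with hg₂
  -- step 1
  obtain ⟨n₁, hn₁⟩ := h₁ g₁ (rT M p₁.toLinearMap w) (fun i => by
    obtain ⟨n, hn⟩ := hw i
    refine ⟨n, ?_⟩
    rw [← rT_bc, ← rT_algHom_pow_smul, hn, map_zero])
  rw [← rT_algHom_pow_smul] at hn₁
  obtain ⟨w₁, hw₁⟩ := rT_ker_of_span M x p₁ hp₁ hker₁ _ hn₁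
  -- step 2
  obtain ⟨n₂, hn₂⟩ := h₂ g₂ (rT M p₂.toLinearMap w₁) (fun i => by
    obtain ⟨n, hn⟩ := hw i
    refine ⟨n, ?_⟩
    rw [← rT_bc, ← rT_algHom_pow_smul]
    apply rT_eq_zero_of_smul (G i) x p₂ hker₂
    rw [smul_comm, ← map_smul, ← hw₁, map_smul, smul_comm, hn, smul_zero])
  rw [← rT_algHom_pow_smul] at hn₂
  have h3 := smul_eq_zero_of_rT M x p₂ hker₂ _ hn₂
  refine ⟨n₂ + n₁, ?_⟩
  rw [pow_add, mul_smul, hw₁, smul_comm, h3]

/-- the trivial algebra. -/
theorem SepBC.of_subsingleton (B : Type u) [CommRing B] [Algebra k B] [Subsingleton B] :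
    SepBC k u B := by
  intro g w _
  haveI : Subsingleton (A ⊗[k] B) := by
    refine subsingleton_of_zero_eq_one ?_
    rw [Algebra.TensorProduct.one_def, Subsingleton.elim (1 : B) 0, TensorProduct.tmul_zero]
  haveI : Subsingleton ((A ⊗[k] B) ⊗[A] M) := Module.subsingleton (A ⊗[k] B) _
  exact ⟨0, Subsingleton.elim _ _⟩

/-- finitely generated algebras, by Noetherian induction. -/
theorem SepBC.of_finiteType (hu : Sep u) (B : Type u) [CommRing B] [Algebra k B]
    [Algebra.FiniteType k B] : SepBC k u B := by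
  classical
  haveI : IsNoetherianRing B := Algebra.FiniteType.isNoetherianRing k B
  have key : ∀ I : Ideal B, ∀ (C : Type u) [CommRing C] [Algebra k C] (p : B →ₐ[k] C),
      Function.Surjective p → RingHom.ker p.toRingHom = I → SepBC k u C := by
    intro I
    induction I using IsNoetherian.induction with
    | hgt I ih =>
      intro C _ _ p hp hker
      haveI : Algebra.FiniteType k C := Algebra.FiniteType.of_surjective p hp
      rcases subsingleton_or_nontrivial C with hC | hC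
      · exact SepBC.of_subsingleton u C
      by_cases hdom : IsDomain C
      · exact SepBC.of_domain u hu C
      -- zero divisors
      have hnd : ¬ NoZeroDivisors C := fun h => hdom (NoZeroDivisors.to_isDomain C)
      have : ∃ x y : C, x * y = 0 ∧ x ≠ 0 ∧ y ≠ 0 := by
        by_contra hcon
        push Not at hcon
        exact hnd ⟨fun {a b} hab => by
          by_contra h'
          push Not at h'
          exact h'.2 (hcon a b hab h'.1)⟩
      obtain ⟨x, y, hxy, hx, hy⟩ := this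
      -- the two quotients
      let J₁ : Ideal C := Ideal.span {x}
      let J₂ : Ideal C := LinearMap.ker (LinearMap.mulLeft C x)
      have hJ₂ : ∀ z, z ∈ J₂ ↔ x * z = 0 := fun z => by
        rw [LinearMap.mem_ker, LinearMap.mulLeft_apply]
      let p₁ : C →ₐ[k] C ⧸ J₁ := Ideal.Quotient.mkₐ k J₁
      let p₂ : C →ₐ[k] C ⧸ J₂ := Ideal.Quotient.mkₐ k J₂
      have hp₁ : Function.Surjective p₁ := Ideal.Quotient.mkₐ_surjective k J₁
      have hp₂ : Function.Surjective p₂ := Ideal.Quotient.mkₐ_surjective k J₂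
      have hk₁ : ∀ z, p₁ z = 0 ↔ ∃ z', z = x * z' := fun z => by
        rw [Ideal.Quotient.mkₐ_eq_mk, Ideal.Quotient.eq_zero_iff_mem, Ideal.mem_span_singleton']
        constructor
        · rintro ⟨a, rfl⟩; exact ⟨a, mul_comm _ _⟩
        · rintro ⟨a, rfl⟩; exact ⟨a, mul_comm _ _⟩
      have hk₂ : ∀ z, p₂ z = 0 ↔ x * z = 0 := fun z => by
        rw [Ideal.Quotient.mkₐ_eq_mk, Ideal.Quotient.eq_zero_iff_mem, hJ₂]
      obtain ⟨bx, hbx⟩ := hp x
      obtain ⟨by', hby⟩ := hp y
      have hlt : ∀ (C' : Type u) [CommRing C'] [Algebra k C'] (p' : C →ₐ[k] C')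
          (c : C), c ≠ 0 → p' c = 0 → I < RingHom.ker (p'.comp p).toRingHom := by
        intro C' _ _ p' c hc hpc
        obtain ⟨b, hb⟩ := hp c
        refine lt_of_le_of_ne ?_ ?_
        · intro z hz
          rw [← hker, RingHom.mem_ker] at hz
          rw [RingHom.mem_ker]
          change p' (p z) = 0
          have : p z = 0 := hz
          rw [this, map_zero]
        · intro heq
          have hb1 : b ∈ RingHom.ker (p'.comp p).toRingHom := by
            rw [RingHom.mem_ker]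
            change p' (p b) = 0
            rw [hb, hpc]
          rw [← heq, ← hker, RingHom.mem_ker] at hb1
          have : p b = 0 := hb1
          exact hc (hb ▸ this)
      have h₁ : SepBC k u (C ⧸ J₁) :=
        ih _ (hlt _ p₁ x hx ((hk₁ x).mpr ⟨1, (mul_one x).symm⟩)) (C ⧸ J₁) (p₁.comp p)
          (hp₁.comp hp) rfl
      have h₂ : SepBC k u (C ⧸ J₂) :=
        ih _ (hlt _ p₂ y hy ((hk₂ y).mpr hxy)) (C ⧸ J₂) (p₂.comp p) (hp₂.comp hp) rfl
      exact SepBC.of_quotients u x p₁ hp₁ hk₁ p₂ hk₂ h₁ h₂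
  exact key ⊥ B (AlgHom.id k B) Function.surjective_id
    ((RingHom.injective_iff_ker_eq_bot _).mp Function.injective_id)

end family

end Groth.Agent.Lib.Seat22.Sep
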