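import Mathlib
import Groth.Agent.Lib.Seat22SepField3

/-!
# Separating families over a field, IV: arbitrary algebras and the pushout form (seat 22)
-/

set_option autoImplicit false
set_option linter.style.haveILetI false
set_option linter.dupNamespace false
universe u
open TensorProduct

namespace Groth.Agent.Lib.Seat22.Sep

section fg
variable {k : Type u} [Field k] {A : Type u} [CommRing A] [Algebra k A]
variable {B : Type u} [CommRing B] [Algebra k B]

/-- every element of `(A ⊗ B) ⊗ N` comes from a finitely generated subalgebra of `B`. -/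
theorem exists_finset_rT {N : Type u} [AddCommGroup N] [Module A N] (w : (A ⊗[k] B) ⊗[A] N) :
    ∃ s : Finset B, ∀ B₀ : Subalgebra k B, (s : Set B) ⊆ B₀ →
      ∃ w₀ : (A ⊗[k] B₀) ⊗[A] N, rT N B₀.val.toLinearMap w₀ = w := by
  classical
  induction w using induction3 with
  | zero => exact ⟨∅, fun B₀ _ => ⟨0, map_zero _⟩⟩
  | tmul a b n =>
    refine ⟨{b}, fun B₀ h => ⟨(a ⊗ₜ[k] ⟨b, h (by simp)⟩) ⊗ₜ[A] n, ?_⟩⟩
    rw [rT_tmul]
    rfl
  | add x y hx hy =>
    obtain ⟨s, hs⟩ := hx
    obtain ⟨t, ht⟩ := hy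
    refine ⟨s ∪ t, fun B₀ h => ?_⟩
    obtain ⟨x₀, hx₀⟩ := hs B₀ (fun b hb => h (by simp [Finset.mem_coe.mp hb]))
    obtain ⟨y₀, hy₀⟩ := ht B₀ (fun b hb => h (by simp [Finset.mem_coe.mp hb]))
    exact ⟨x₀ + y₀, by rw [map_add, hx₀, hy₀]⟩

/-- every element of `A ⊗ B` comes from a finitely generated subalgebra of `B`. -/
theorem exists_finset_tensor (g : A ⊗[k] B) :
    ∃ s : Finset B, ∀ B₀ : Subalgebra k B, (s : Set B) ⊆ B₀ →
      ∃ g₀ : A ⊗[k] B₀, Algebra.TensorProduct.map (AlgHom.id A A) B₀.val g₀ = g := by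
  classical
  induction g using TensorProduct.induction_on with
  | zero => exact ⟨∅, fun B₀ _ => ⟨0, map_zero _⟩⟩
  | tmul a b =>
    refine ⟨{b}, fun B₀ h => ⟨a ⊗ₜ[k] ⟨b, h (by simp)⟩, ?_⟩⟩
    rw [Algebra.TensorProduct.map_tmul]
    rfl
  | add x y hx hy =>
    obtain ⟨s, hs⟩ := hx
    obtain ⟨t, ht⟩ := hy
    refine ⟨s ∪ t, fun B₀ h => ?_⟩
    obtain ⟨x₀, hx₀⟩ := hs B₀ (fun b hb => h (by simp [Finset.mem_coe.mp hb]))
    obtain ⟨y₀, hy₀⟩ := ht B₀ (fun b hb => h (by simp [Finset.mem_coe.mp hb]))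
    exact ⟨x₀ + y₀, by rw [map_add, hx₀, hy₀]⟩

end fg

section family
variable {k : Type u} [Field k] {A : Type u} [CommRing A] [Algebra k A]
  {M : Type u} [AddCommGroup M] [Module A M] {ι : Type u}
  {G : ι → Type u} [∀ i, AddCommGroup (G i)] [∀ i, Module A (G i)] (u : ∀ i, M →ₗ[A] G i)

/-- **Main algebraic theorem**: a separating family over a `k`-algebra `A` stays separating
after the base change `A → A ⊗[k] B`, for every `k`-algebra `B`. -/
theorem SepBC.of_field (hu : Sep u) (B : Type u) [CommRing B] [Algebra k B] : SepBC k u B := by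
  classical
  intro g w hw
  obtain ⟨s, hs⟩ := exists_finset_rT w
  obtain ⟨t, ht⟩ := exists_finset_tensor g
  set B₀ : Subalgebra k B := Algebra.adjoin k ((s ∪ t : Finset B) : Set B) with hB₀
  have hfg : B₀.FG := Subalgebra.fg_adjoin_finset _
  haveI : Algebra.FiniteType k B₀ := (Subalgebra.fg_iff_finiteType B₀).mp hfg
  have hsub : ((s ∪ t : Finset B) : Set B) ⊆ B₀ := Algebra.subset_adjoin
  obtain ⟨w₀, hw₀⟩ := hs B₀ (fun b hb => hsub (by simp [Finset.mem_coe.mp hb]))
  obtain ⟨g₀, hg₀⟩ := ht B₀ (fun b hb => hsub (by simp [Finset.mem_coe.mp hb]))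
  have hinj : ∀ (N : Type u) [AddCommGroup N] [Module A N],
      Function.Injective (rT (A := A) N B₀.val.toLinearMap) := fun N _ _ =>
    rT_injective _ Subtype.val_injective
  obtain ⟨n, hn⟩ := SepBC.of_finiteType u hu B₀ g₀ w₀ (fun i => by
    obtain ⟨n, hn⟩ := hw i
    refine ⟨n, hinj (G i) ?_⟩
    rw [rT_algHom_pow_smul, rT_bc, hg₀, hw₀, hn, map_zero])
  refine ⟨n, ?_⟩
  rw [← hw₀, ← hg₀, ← rT_algHom_pow_smul, hn, map_zero]

/-- pushout form of the main theorem. -/
theorem Sep.of_isPushout (hu : Sep u) (B A' : Type u) [CommRing B] [Algebra k B] [CommRing A']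
    [Algebra k A'] [Algebra A A'] [Algebra B A'] [IsScalarTower k A A'] [IsScalarTower k B A']
    [Algebra.IsPushout k A B A'] : Sep (bc u A') :=
  Sep.of_algEquiv u (Algebra.IsPushout.equiv k A B A').symm (SepBC.of_field u hu B)

end family

section isField
variable {R : Type u} [CommRing R] {A : Type u} [CommRing A] [Algebra R A]
  {M : Type u} [AddCommGroup M] [Module A M] {ι : Type u}
  {G : ι → Type u} [∀ i, AddCommGroup (G i)] [∀ i, Module A (G i)] (u : ∀ i, M →ₗ[A] G i)

/-- pushout form over a commutative ring that is a field. -/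
theorem Sep.of_isPushout_of_isField (hR : IsField R) (hu : Sep u) (B A' : Type u) [CommRing B]
    [Algebra R B] [CommRing A'] [Algebra R A'] [Algebra A A'] [Algebra B A']
    [IsScalarTower R A A'] [IsScalarTower R B A'] [Algebra.IsPushout R A B A'] :
    Sep (bc u A') := by
  letI : Field R := hR.toField
  exact Sep.of_isPushout (k := R) u hu B A'

end isField

end Groth.Agent.Lib.Seat22.Sep
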