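import Mathlib
import Groth.Agent.Lib.Seat22FibSep3
import Groth.Agent.Lib.Seat22SepField4

/-!
# Fibrewise separating families, IV: change of fields and of base (seat 22)
-/

set_option autoImplicit false
set_option linter.style.haveILetI false
set_option linter.dupNamespace false
universe u
open TensorProduct

namespace Groth.Agent.Lib.Seat22.Sep

section basechange
variable {A : Type u} [CommRing A] {M : Type u} [AddCommGroup M] [Module A M] {ι : Type u}
  {G : ι → Type u} [∀ i, AddCommGroup (G i)] [∀ i, Module A (G i)] (u : ∀ i, M →ₗ[A] G i)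

/-- converse of `Sep.bc_self`. -/
theorem Sep.of_bc_self (h : Sep (bc u A)) : Sep u := by
  intro a
  refine SepAt.transfer (J := Unit) u (bc u A) (RingHom.id A)
    (fun _ => (TensorProduct.lid A M).symm.toLinearMap.toAddMonoidHom)
    (fun _ r w => by simp)
    (fun _ i => (TensorProduct.lid A (G i)).symm.toLinearMap.toAddMonoidHom)
    (fun _ i r w => by simp)
    (fun _ i w => by simp)
    (fun w hw => (TensorProduct.lid A M).symm.injective ((hw ()).trans (map_zero _).symm)) (h a)

/-- converse of `Sep.of_tower`. -/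
theorem Sep.to_tower {A₁ A₂ : Type u} [CommRing A₁] [CommRing A₂] [Algebra A A₁] [Algebra A A₂]
    [Algebra A₁ A₂] [IsScalarTower A A₁ A₂] (h : Sep (bc u A₂)) : Sep (bc (bc u A₁) A₂) := by
  intro a
  refine SepAt.transfer (J := Unit) (bc (bc u A₁) A₂) (bc u A₂) (RingHom.id A₂)
    (fun _ => (TensorProduct.AlgebraTensorModule.cancelBaseChange A A₁ A₂ A₂
      M).toLinearMap.toAddMonoidHom)
    (fun _ r w => by simp)
    (fun _ i => (TensorProduct.AlgebraTensorModule.cancelBaseChange A A₁ A₂ A₂
      (G i)).toLinearMap.toAddMonoidHom)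
    (fun _ i r w => by simp)
    (fun _ i w => ?_)
    (fun w hw => (TensorProduct.AlgebraTensorModule.cancelBaseChange A A₁ A₂ A₂
      M).injective ((hw ()).trans (map_zero _).symm)) (h a)
  induction w using TensorProduct.induction_on with
  | zero => simp
  | tmul a n =>
    induction n using TensorProduct.induction_on with
    | zero => simp
    | tmul a₁ m => simp [TensorProduct.AlgebraTensorModule.cancelBaseChange_tmul]
    | add x y hx hy =>
      simp only [TensorProduct.tmul_add, map_add] at hx hy ⊢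
      rw [hx, hy]
  | add x y hx hy =>
    simp only [map_add] at hx hy ⊢
    rw [hx, hy]

end basechange

section descend
variable {k : Type u} [Field k] {A : Type u} [CommRing A] [Algebra k A]
  {M : Type u} [AddCommGroup M] [Module A M] {ι : Type u}
  {G : ι → Type u} [∀ i, AddCommGroup (G i)] [∀ i, Module A (G i)] (u : ∀ i, M →ₗ[A] G i)

/-- descent of separating families along a field extension, pushout form. -/
theorem Sep.descend_isPushout (K A' : Type u) [Field K] [Algebra k K] [CommRing A'] [Algebra k A']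
    [Algebra A A'] [Algebra K A'] [IsScalarTower k A A'] [IsScalarTower k K A']
    [Algebra.IsPushout k A K A'] (h : Sep (bc u A')) : Sep u := by
  have h1 : SepBC k u K := Sep.of_algEquiv u (Algebra.IsPushout.equiv k A K A') h
  have h2 : SepBC k u k := SepBC.of_injective u (Algebra.ofId k K) (algebraMap k K).injective h1
  have h3 : Sep (bc u A) :=
    Sep.of_algEquiv u (Algebra.TensorProduct.rid k A A).symm h2
  exact Sep.of_bc_self u h3

end descend

end Groth.Agent.Lib.Seat22.Sep

namespace Groth.Agent.Lib.Seat22.Fib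

open Groth.Agent.Lib.Seat22.Sep

section fieldext
variable {A : Type u} [CommRing A] {B : Type u} [CommRing B] [Algebra A B]
  {M : Type u} [AddCommGroup M] [Module B M] {ι : Type u}
  {G : ι → Type u} [∀ i, AddCommGroup (G i)] [∀ i, Module B (G i)] (u : ∀ i, M →ₗ[B] G i)

attribute [local instance] Algebra.TensorProduct.rightAlgebra in
/-- the fibre condition does not depend on the field: `κ → K` an extension of fields over `A`. -/
theorem sep_fieldExt_iff (κ K : Type u) [Field κ] [Field K] [Algebra A κ] [Algebra A K]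
    [Algebra κ K] [IsScalarTower A κ K] :
    Sep (bc u (B ⊗[A] κ)) ↔ Sep (bc u (B ⊗[A] K)) := by
  letI aYX : Algebra (B ⊗[A] κ) (B ⊗[A] K) :=
    (Algebra.TensorProduct.map (AlgHom.id B B) (IsScalarTower.toAlgHom A κ K)).toRingHom.toAlgebra
  have hYX : ∀ (b : B) (x : κ), algebraMap (B ⊗[A] κ) (B ⊗[A] K) (b ⊗ₜ x) =
      b ⊗ₜ algebraMap κ K x := fun b x => by
    change (Algebra.TensorProduct.map (AlgHom.id B B) (IsScalarTower.toAlgHom A κ K)) (b ⊗ₜ x) = _
    rw [Algebra.TensorProduct.map_tmul]
    rfl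
  letI aκX : Algebra κ (B ⊗[A] K) :=
    ((algebraMap K (B ⊗[A] K)).comp (algebraMap κ K)).toAlgebra
  haveI t1 : IsScalarTower κ K (B ⊗[A] K) := IsScalarTower.of_algebraMap_eq fun _ => rfl
  haveI t2 : IsScalarTower κ (B ⊗[A] κ) (B ⊗[A] K) := by
    refine IsScalarTower.of_algebraMap_eq fun x => ?_
    change (1 : B) ⊗ₜ[A] algebraMap κ K x =
      algebraMap (B ⊗[A] κ) (B ⊗[A] K) ((1 : B) ⊗ₜ[A] x)
    rw [hYX]
  haveI t3 : IsScalarTower B (B ⊗[A] κ) (B ⊗[A] K) := by
    refine IsScalarTower.of_algebraMap_eq fun b => ?_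
    change b ⊗ₜ[A] (1 : K) = algebraMap (B ⊗[A] κ) (B ⊗[A] K) (b ⊗ₜ[A] (1 : κ))
    rw [hYX, map_one]
  haveI t4 : IsScalarTower A (B ⊗[A] κ) (B ⊗[A] K) := by
    refine IsScalarTower.of_algebraMap_eq fun a => ?_
    rw [Algebra.TensorProduct.algebraMap_apply, Algebra.TensorProduct.algebraMap_apply, hYX,
      map_one]
  haveI hPO : Algebra.IsPushout κ (B ⊗[A] κ) K (B ⊗[A] K) := by
    have h1 : Algebra.IsPushout A κ B (B ⊗[A] κ) := inferInstance
    have h2 : Algebra.IsPushout A K B (B ⊗[A] K) := inferInstance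
    exact ((Algebra.IsPushout.comp_iff A κ B (B ⊗[A] κ) (T := K) (T' := B ⊗[A] K)).mp h2).symm
  constructor
  · intro h
    have h1 : Sep (bc (bc u (B ⊗[A] κ)) (B ⊗[A] K)) :=
      Sep.of_isPushout (k := κ) (bc u (B ⊗[A] κ)) h K (B ⊗[A] K)
    exact Sep.of_tower u h1
  · intro h
    have h1 : Sep (bc (bc u (B ⊗[A] κ)) (B ⊗[A] K)) := Sep.to_tower u h
    exact Sep.descend_isPushout (k := κ) (bc u (B ⊗[A] κ)) K (B ⊗[A] K) h1

end fieldext

end Groth.Agent.Lib.Seat22.Fib
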