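import Mathlib
import Groth.Agent.Lib.Seat22FibSep4

/-!
# Fibrewise separating families, V: fibrewise separating implies universally separating (seat 22)
-/

set_option autoImplicit false
set_option linter.style.haveILetI false
set_option linter.dupNamespace false
universe u
open TensorProduct

namespace Groth.Agent.Lib.Seat22.Fib

open Groth.Agent.Lib.Seat22.Sep

section family
variable {A : Type u} [CommRing A] {B : Type u} [CommRing B] [Algebra A B]
  {M : Type u} [AddCommGroup M] [Module B M] {ι : Type u}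
  {G : ι → Type u} [∀ i, AddCommGroup (G i)] [∀ i, Module B (G i)] (u : ∀ i, M →ₗ[B] G i)

theorem uP_eq_bc (L : Type u) [CommRing L] [Algebra A L] (i : ι) (w : (B ⊗[A] L) ⊗[B] M) :
    uP A u L i w = bc u (B ⊗[A] L) i w := rfl

theorem sepAtP_of_sep (L : Type u) [CommRing L] [Algebra A L] (h : Sep (bc u (B ⊗[A] L)))
    (b : B) : SepAtP A u L b := by
  intro w hw
  obtain ⟨n, hn⟩ := h (algebraMap B (B ⊗[A] L) b) w (fun i => by
    obtain ⟨n, hn⟩ := hw i
    refine ⟨n, ?_⟩
    rw [← map_pow, algebraMap_smul, ← uP_eq_bc]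
    exact hn)
  refine ⟨n, ?_⟩
  rw [← map_pow, algebraMap_smul] at hn
  exact hn

/-- the fibre condition at some field with kernel `p` gives it at all fields over `A`. -/
theorem sep_field_of_exists
    (hH : ∀ (p : Ideal A) [p.IsPrime], ∃ (K : Type u) (_ : Field K) (_ : Algebra A K),
      RingHom.ker (algebraMap A K) = p ∧ Sep (bc u (B ⊗[A] K)))
    (L : Type u) [Field L] [Algebra A L] : Sep (bc u (B ⊗[A] L)) := by
  haveI hp : (RingHom.ker (algebraMap A L)).IsPrime := RingHom.ker_isPrime _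
  obtain ⟨K, fK, aK, hker, hK⟩ := hH (RingHom.ker (algebraMap A L))
  have hunits : ∀ (F : Type u) [Field F] [Algebra A F],
      RingHom.ker (algebraMap A F) = RingHom.ker (algebraMap A L) →
      (RingHom.ker (algebraMap A L)).primeCompl ≤
        (IsUnit.submonoid F).comap (algebraMap A F) := by
    intro F _ _ hF a ha
    rw [Submonoid.mem_comap, IsUnit.mem_submonoid_iff, isUnit_iff_ne_zero]
    intro h0
    apply ha
    rw [← hF]
    exact h0
  letI aκK : Algebra (RingHom.ker (algebraMap A L)).ResidueField K :=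
    (Ideal.ResidueField.lift _ (algebraMap A K) hker.ge (hunits K hker)).toAlgebra
  haveI tK : IsScalarTower A (RingHom.ker (algebraMap A L)).ResidueField K :=
    IsScalarTower.of_algebraMap_eq fun a =>
      (Ideal.ResidueField.lift_algebraMap _ (algebraMap A K) hker.ge (hunits K hker) a).symm
  letI aκL : Algebra (RingHom.ker (algebraMap A L)).ResidueField L :=
    (Ideal.ResidueField.lift _ (algebraMap A L) le_rfl (hunits L rfl)).toAlgebra
  haveI tL : IsScalarTower A (RingHom.ker (algebraMap A L)).ResidueField L :=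
    IsScalarTower.of_algebraMap_eq fun a =>
      (Ideal.ResidueField.lift_algebraMap _ (algebraMap A L) le_rfl (hunits L rfl) a).symm
  exact (sep_fieldExt_iff u (RingHom.ker (algebraMap A L)).ResidueField L).mp
    ((sep_fieldExt_iff u (RingHom.ker (algebraMap A L)).ResidueField K).mpr hK)

/-- **J2'**: the Noetherian case, fibre condition in `bc` form. -/
theorem sep_of_fibres' [IsNoetherianRing B] [Module.Finite B M] (hflat : FlatT A (B := B) G)
    (hfib : ∀ (L : Type u) [Field L] [Algebra A L], Sep (bc u (B ⊗[A] L))) : Sep u :=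
  sep_of_fibres u hflat fun _ _ b => sepAtP_of_sep u _ (hfib _) b

end family

section finiteType
variable {A : Type u} [CommRing A] {B : Type u} [CommRing B] [Algebra A B]
  {M : Type u} [AddCommGroup M] [Module B M] {ι : Type u}
  {G : ι → Type u} [∀ i, AddCommGroup (G i)] [∀ i, Module B (G i)] (u : ∀ i, M →ₗ[B] G i)

attribute [local instance] Algebra.TensorProduct.rightAlgebra in
/-- **Finite type base change**: if the fibre condition holds at every field over `A`, the family
stays separating after a base change of finite type. -/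
theorem sep_bc_of_finiteType [IsNoetherianRing B] [Module.Finite B M] [∀ i, Module A (G i)]
    [∀ i, IsScalarTower A B (G i)] [∀ i, Module.Flat A (G i)]
    (hH' : ∀ (L : Type u) [Field L] [Algebra A L], Sep (bc u (B ⊗[A] L)))
    (A₀ : Type u) [CommRing A₀] [Algebra A A₀] [Algebra.FiniteType A A₀] :
    Sep (bc u (B ⊗[A] A₀)) := by
  haveI : IsNoetherianRing (B ⊗[A] A₀) := Algebra.FiniteType.isNoetherianRing B (B ⊗[A] A₀)
  refine sep_of_fibres' (A := A₀) (B := B ⊗[A] A₀) (bc u (B ⊗[A] A₀)) ?_ ?_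
  · intro i P₁ P₂ _ _ _ _ j hj
    haveI : Module.Flat A₀ ((B ⊗[A] A₀) ⊗[B] G i) :=
      Module.Flat.of_linearEquiv
        (Algebra.IsPushout.cancelBaseChange A A₀ B (B ⊗[A] A₀) (G i))
    exact rT_injective_of_flat ((B ⊗[A] A₀) ⊗[B] G i) j hj
  · intro L _ _
    letI aAL : Algebra A L := ((algebraMap A₀ L).comp (algebraMap A A₀)).toAlgebra
    haveI : IsScalarTower A A₀ L := IsScalarTower.of_algebraMap_eq fun _ => rfl
    have h1 : Sep (bc u (B ⊗[A] L)) := hH' L
    haveI t1 : IsScalarTower A L ((B ⊗[A] A₀) ⊗[A₀] L) := by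
      refine IsScalarTower.of_algebraMap_eq fun a => ?_
      rw [IsScalarTower.algebraMap_apply A A₀ ((B ⊗[A] A₀) ⊗[A₀] L),
        IsScalarTower.algebraMap_apply A₀ L ((B ⊗[A] A₀) ⊗[A₀] L),
        ← IsScalarTower.algebraMap_apply A A₀ L]
    haveI hPO : Algebra.IsPushout A B L ((B ⊗[A] A₀) ⊗[A₀] L) := by
      have h2 : Algebra.IsPushout A₀ L (B ⊗[A] A₀) ((B ⊗[A] A₀) ⊗[A₀] L) := inferInstance
      exact ((Algebra.IsPushout.comp_iff A A₀ B (B ⊗[A] A₀) (T := L)
        (T' := (B ⊗[A] A₀) ⊗[A₀] L)).mpr h2).symm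
    have h3 := Sep.of_algEquiv u (Algebra.IsPushout.equiv A B L ((B ⊗[A] A₀) ⊗[A₀] L)).symm h1
    exact Sep.to_tower u h3

end finiteType

section general
variable {A : Type u} [CommRing A] {B : Type u} [CommRing B] [Algebra A B]
  {M : Type u} [AddCommGroup M] [Module B M] {ι : Type u}
  {G : ι → Type u} [∀ i, AddCommGroup (G i)] [∀ i, Module B (G i)] (u : ∀ i, M →ₗ[B] G i)
variable {A₁ A₂ : Type u} [CommRing A₁] [Algebra A A₁] [CommRing A₂] [Algebra A A₂]

theorem rT_algHom_smul {N : Type u} [AddCommGroup N] [Module B N] (f : A₁ →ₐ[A] A₂)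
    (g : B ⊗[A] A₁) (w : (B ⊗[A] A₁) ⊗[B] N) :
    rT N f.toLinearMap (g • w) =
      (Algebra.TensorProduct.map (AlgHom.id B B) f g) • rT N f.toLinearMap w := by
  induction g using TensorProduct.induction_on with
  | zero => simp
  | tmul a₂ b₂ =>
    induction w using induction3 with
    | zero => simp
    | tmul a b n =>
      rw [TensorProduct.smul_tmul', smul_eq_mul, Algebra.TensorProduct.tmul_mul_tmul, rT_tmul,
        rT_tmul, Algebra.TensorProduct.map_tmul, TensorProduct.smul_tmul', smul_eq_mul,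
        Algebra.TensorProduct.tmul_mul_tmul]
      simp
    | add x y hx hy => rw [smul_add, map_add, hx, hy, map_add, smul_add]
  | add x y hx hy => rw [add_smul, map_add, hx, hy, map_add, add_smul]

theorem rT_algHom_pow_smul {N : Type u} [AddCommGroup N] [Module B N] (f : A₁ →ₐ[A] A₂)
    (g : B ⊗[A] A₁) (n : ℕ) (w : (B ⊗[A] A₁) ⊗[B] N) :
    rT N f.toLinearMap (g ^ n • w) =
      (Algebra.TensorProduct.map (AlgHom.id B B) f g) ^ n • rT N f.toLinearMap w := by
  rw [rT_algHom_smul, map_pow]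

theorem rT_bc (c : A₁ →ₗ[A] A₂) (i : ι) (w : (B ⊗[A] A₁) ⊗[B] M) :
    rT (G i) c (bc u (B ⊗[A] A₁) i w) = bc u (B ⊗[A] A₂) i (rT M c w) :=
  rT_uP u c i w

/-- every element of `(B ⊗ A') ⊗ N` comes from a finitely generated subalgebra of `A'`. -/
theorem exists_finset_rT {A' : Type u} [CommRing A'] [Algebra A A'] {N : Type u}
    [AddCommGroup N] [Module B N] (w : (B ⊗[A] A') ⊗[B] N) :
    ∃ s : Finset A', ∀ A₀ : Subalgebra A A', (s : Set A') ⊆ A₀ →
      ∃ w₀ : (B ⊗[A] A₀) ⊗[B] N, rT N A₀.val.toLinearMap w₀ = w := by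
  classical
  induction w using induction3 with
  | zero => exact ⟨∅, fun A₀ _ => ⟨0, map_zero _⟩⟩
  | tmul b a n =>
    refine ⟨{a}, fun A₀ h => ⟨(b ⊗ₜ[A] ⟨a, h (by simp)⟩) ⊗ₜ[B] n, ?_⟩⟩
    rw [rT_tmul]
    rfl
  | add x y hx hy =>
    obtain ⟨s, hs⟩ := hx
    obtain ⟨t, ht⟩ := hy
    refine ⟨s ∪ t, fun A₀ h => ?_⟩
    obtain ⟨x₀, hx₀⟩ := hs A₀ (fun b hb => h (by simp [Finset.mem_coe.mp hb]))
    obtain ⟨y₀, hy₀⟩ := ht A₀ (fun b hb => h (by simp [Finset.mem_coe.mp hb]))
    exact ⟨x₀ + y₀, by rw [map_add, hx₀, hy₀]⟩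

/-- every element of `B ⊗ A'` comes from a finitely generated subalgebra of `A'`. -/
theorem exists_finset_tensor {A' : Type u} [CommRing A'] [Algebra A A'] (g : B ⊗[A] A') :
    ∃ s : Finset A', ∀ A₀ : Subalgebra A A', (s : Set A') ⊆ A₀ →
      ∃ g₀ : B ⊗[A] A₀, Algebra.TensorProduct.map (AlgHom.id B B) A₀.val g₀ = g := by
  classical
  induction g using TensorProduct.induction_on with
  | zero => exact ⟨∅, fun A₀ _ => ⟨0, map_zero _⟩⟩
  | tmul b a =>
    refine ⟨{a}, fun A₀ h => ⟨b ⊗ₜ[A] ⟨a, h (by simp)⟩, ?_⟩⟩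
    rw [Algebra.TensorProduct.map_tmul]
    rfl
  | add x y hx hy =>
    obtain ⟨s, hs⟩ := hx
    obtain ⟨t, ht⟩ := hy
    refine ⟨s ∪ t, fun A₀ h => ?_⟩
    obtain ⟨x₀, hx₀⟩ := hs A₀ (fun b hb => h (by simp [Finset.mem_coe.mp hb]))
    obtain ⟨y₀, hy₀⟩ := ht A₀ (fun b hb => h (by simp [Finset.mem_coe.mp hb]))
    exact ⟨x₀ + y₀, by rw [map_add, hx₀, hy₀]⟩

/-- **Fibrewise separating implies universally separating** (tensor form). -/
theorem sep_bc_of_fibres [IsNoetherianRing B] [Module.Finite B M] [∀ i, Module A (G i)]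
    [∀ i, IsScalarTower A B (G i)] [∀ i, Module.Flat A (G i)]
    (hH' : ∀ (L : Type u) [Field L] [Algebra A L], Sep (bc u (B ⊗[A] L)))
    (A' : Type u) [CommRing A'] [Algebra A A'] : Sep (bc u (B ⊗[A] A')) := by
  classical
  intro g w hw
  obtain ⟨s, hs⟩ := exists_finset_rT w
  obtain ⟨t, ht⟩ := exists_finset_tensor g
  set A₀ : Subalgebra A A' := Algebra.adjoin A ((s ∪ t : Finset A') : Set A') with hA₀
  have hfg : A₀.FG := Subalgebra.fg_adjoin_finset _
  haveI : Algebra.FiniteType A A₀ := (Subalgebra.fg_iff_finiteType A₀).mp hfg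
  have hsub : ((s ∪ t : Finset A') : Set A') ⊆ A₀ := Algebra.subset_adjoin
  obtain ⟨w₀, hw₀⟩ := hs A₀ (fun b hb => hsub (by simp [Finset.mem_coe.mp hb]))
  obtain ⟨g₀, hg₀⟩ := ht A₀ (fun b hb => hsub (by simp [Finset.mem_coe.mp hb]))
  have hinj : ∀ i, Function.Injective (rT (B := B) (G i) A₀.val.toLinearMap) := fun i =>
    rT_injective_of_flat (G i) _ Subtype.val_injective
  obtain ⟨n, hn⟩ := sep_bc_of_finiteType u hH' A₀ g₀ w₀ (fun i => by
    obtain ⟨n, hn⟩ := hw i
    refine ⟨n, hinj i ?_⟩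
    rw [rT_algHom_pow_smul, rT_bc, hg₀, hw₀, hn, map_zero])
  refine ⟨n, ?_⟩
  rw [← hw₀, ← hg₀, ← rT_algHom_pow_smul, hn, map_zero]

/-- pushout form. -/
theorem sep_bc_of_fibres_isPushout [IsNoetherianRing B] [Module.Finite B M] [∀ i, Module A (G i)]
    [∀ i, IsScalarTower A B (G i)] [∀ i, Module.Flat A (G i)]
    (hH' : ∀ (L : Type u) [Field L] [Algebra A L], Sep (bc u (B ⊗[A] L)))
    (A' B' : Type u) [CommRing A'] [Algebra A A'] [CommRing B'] [Algebra A B'] [Algebra B B']
    [Algebra A' B'] [IsScalarTower A B B'] [IsScalarTower A A' B'] [Algebra.IsPushout A B A' B'] :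
    Sep (bc u B') :=
  Sep.of_algEquiv u (Algebra.IsPushout.equiv A B A' B').symm (sep_bc_of_fibres u hH' A')

end general

section wrapper
variable {A : Type u} [CommRing A] {B : Type u} [CommRing B] [Algebra A B]
  {M : Type u} [AddCommGroup M] [Module B M] {ι : Type u}
  {G : ι → Type u} [∀ i, AddCommGroup (G i)] [∀ i, Module B (G i)] (u : ∀ i, M →ₗ[B] G i)

/-- the fibre condition at `p`, in pushout form over a commutative ring that is a field. -/
def FibreCond (p : Ideal A) : Prop :=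
  ∃ (K : Type u) (_ : CommRing K) (_ : Algebra A K) (X : Type u) (_ : CommRing X)
    (_ : Algebra A X) (_ : Algebra B X) (_ : Algebra K X) (_ : IsScalarTower A B X)
    (_ : IsScalarTower A K X), IsField K ∧ RingHom.ker (algebraMap A K) = p ∧
      Algebra.IsPushout A B K X ∧ Sep (bc u X)

/-- **Fibrewise separating implies universally separating**: `B` Noetherian, `M` finite, the
targets flat over `A`, the fibre condition at every prime of `A`. -/
theorem sep_of_fibrewise [IsNoetherianRing B] [Module.Finite B M] [∀ i, Module A (G i)]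
    [∀ i, IsScalarTower A B (G i)] [∀ i, Module.Flat A (G i)]
    (hH : ∀ (p : Ideal A) [p.IsPrime], FibreCond (A := A) u p)
    (A' B' : Type u) [CommRing A'] [Algebra A A'] [CommRing B'] [Algebra A B'] [Algebra B B']
    [Algebra A' B'] [IsScalarTower A B B'] [IsScalarTower A A' B'] [Algebra.IsPushout A B A' B'] :
    Sep (bc u B') := by
  refine sep_bc_of_fibres_isPushout (A := A) u (sep_field_of_exists (A := A) u fun p _ => ?_) A' B'
  obtain ⟨K, iK, aK, X, iX, aAX, aBX, aKX, t1, t2, hK, hker, hPO, hsep⟩ := hH p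
  letI : Field K := hK.toField
  exact ⟨K, inferInstance, aK, hker, Sep.of_algEquiv u (Algebra.IsPushout.equiv A B K X) hsep⟩

end wrapper

end Groth.Agent.Lib.Seat22.Fib
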