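import Mathlib
import Groth.Agent.Lib.Seat22SepField4
import Groth.Agent.Lib.Helper2PullbackSec3

/-!
# Schematically dominant families over a field are universally schematically dominant (seat 22)
-/

set_option autoImplicit false
set_option linter.style.haveILetI false
universe u
open CategoryTheory CategoryTheory.Limits AlgebraicGeometry TopologicalSpace Opposite TensorProduct

namespace Groth.Agent.Lib.Seat22.SepDom

open Groth.Agent.Lib.Seat22.Sep

section ring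
variable {X : Scheme.{u}}

/-- sections of the structure sheaf agreeing on all members of a basis inside `U` are equal. -/
theorem section_ext_basis_ring {ι : Type*} (B : ι → X.Opens) (hB : Opens.IsBasis (Set.range B))
    {U : X.Opens} (s t : Γ(X, U))
    (h : ∀ (i : ι) (hle : B i ≤ U),
      X.presheaf.map (homOfLE hle).op s = X.presheaf.map (homOfLE hle).op t) : s = t := by
  refine TopCat.Sheaf.eq_of_locally_eq' X.sheaf
    (fun W : {i : ι // B i ≤ U} => B W.1) U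
    (fun W => homOfLE W.2) ?_ s t (fun W => h W.1 W.2)
  intro x hx
  obtain ⟨_, ⟨i, rfl⟩, hxW, hWU⟩ := (Opens.isBasis_iff_nbhd.1 hB) hx
  exact Opens.mem_iSup.mpr ⟨⟨i, hWU⟩, hxW⟩

theorem eq_zero_of_affine {U : X.Opens} (s : Γ(X, U))
    (h : ∀ (W : X.Opens) (_ : IsAffineOpen W) (hle : W ≤ U),
      X.presheaf.map (homOfLE hle).op s = 0) : s = 0 := by
  have hB : Opens.IsBasis (Set.range (Subtype.val : X.affineOpens → X.Opens)) := by
    rw [Subtype.range_coe]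
    exact X.isBasis_affineOpens
  refine section_ext_basis_ring (Subtype.val : X.affineOpens → X.Opens) hB s 0 ?_
  rintro ⟨W, hW⟩ hle
  rw [map_zero]
  exact h W hW hle

variable {U : X.Opens} (hU : IsAffineOpen U)

include hU in
theorem exists_pow_mul_eq_zero (f t : Γ(X, U))
    (ht : X.presheaf.map (homOfLE (X.basicOpen_le f)).op t = 0) : ∃ n : ℕ, f ^ n * t = 0 := by
  haveI := hU.isLocalization_basicOpen f
  have h1 : algebraMap Γ(X, U) Γ(X, X.basicOpen f) t = 0 := ht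
  obtain ⟨⟨_, n, rfl⟩, hm⟩ := (IsLocalization.map_eq_zero_iff (Submonoid.powers f) _ t).mp h1
  exact ⟨n, hm⟩

include hU in
theorem exists_extension (f : Γ(X, U)) (s : Γ(X, X.basicOpen f)) :
    ∃ (n : ℕ) (t : Γ(X, U)), X.presheaf.map (homOfLE (X.basicOpen_le f)).op t =
      (X.presheaf.map (homOfLE (X.basicOpen_le f)).op f) ^ n * s := by
  haveI := hU.isLocalization_basicOpen f
  obtain ⟨⟨t, ⟨_, n, rfl⟩⟩, ht⟩ := IsLocalization.surj (Submonoid.powers f) s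
  refine ⟨n, t, ?_⟩
  have ht' : s * algebraMap Γ(X, U) Γ(X, X.basicOpen f) (f ^ n) =
      algebraMap Γ(X, U) Γ(X, X.basicOpen f) t := ht
  rw [map_pow] at ht'
  rw [mul_comm]
  exact ht'.symm

theorem eq_zero_of_res_pow_mul {U : X.Opens} (f : Γ(X, U)) (n : ℕ) (t : Γ(X, X.basicOpen f))
    (h : (X.presheaf.map (homOfLE (X.basicOpen_le f)).op f) ^ n * t = 0) : t = 0 := by
  have hu : IsUnit ((X.presheaf.map (homOfLE (X.basicOpen_le f)).op f) ^ n) :=
    (X.toRingedSpace.isUnit_res_basicOpen f).pow n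
  exact (hu.mul_right_eq_zero).mp h

end ring

section family
variable {X : Scheme.{u}} {ι : Type u} {Z : ι → Scheme.{u}} (f : ∀ i, Z i ⟶ X)

/-- affine opens of the members of the family lying over `V`. -/
structure Idx (V : X.Opens) : Type u where
  /-- the member of the family -/
  i : ι
  /-- the open -/
  W : (Z i).Opens
  hW : IsAffineOpen W
  hle : W ≤ f i ⁻¹ᵁ V

/-- the ring of sections over the affine open `j`. -/
def Car (V : X.Opens) (j : Idx f V) : Type u := Γ(Z j.i, j.W)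

noncomputable instance (V : X.Opens) (j : Idx f V) : CommRing (Car f V j) :=
  inferInstanceAs (CommRing Γ(Z j.i, j.W))

noncomputable instance (V : X.Opens) (j : Idx f V) : Algebra Γ(X, V) (Car f V j) :=
  ((f j.i).appLE V j.W j.hle).hom.toAlgebra

theorem algebraMap_car (V : X.Opens) (j : Idx f V) (a : Γ(X, V)) :
    algebraMap Γ(X, V) (Car f V j) a = ((f j.i).appLE V j.W j.hle).hom a := rfl

/-- a schematically dominant family gives a separating family of sections. -/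
theorem sep_dominant (h : ∀ (V : X.Opens) (t : Γ(X, V)), (∀ i, (f i).app V t = 0) → t = 0)
    {V : X.Opens} (hV : IsAffineOpen V) :
    Sep (fun j : Idx f V => Algebra.linearMap Γ(X, V) (Car f V j)) := by
  intro a w hw
  suffices hres : X.presheaf.map (homOfLE (X.basicOpen_le a)).op w = 0 by
    obtain ⟨n, hn⟩ := exists_pow_mul_eq_zero hV a w hres
    exact ⟨n, hn⟩
  apply h
  intro i
  apply eq_zero_of_affine
  intro W hW hle
  have hWV : W ≤ f i ⁻¹ᵁ V := hle.trans ((Opens.map (f i).base).map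
    (homOfLE (X.basicOpen_le a))).le
  obtain ⟨m, hm⟩ := hw ⟨i, W, hW, hWV⟩
  have hm' : ((f i).appLE V W hWV).hom a ^ m * ((f i).appLE V W hWV).hom w = 0 := by
    have := hm
    rw [Algebra.linearMap_apply, Algebra.smul_def, map_pow] at this
    exact this
  -- rewrite via the restriction to `D(a)`
  have e1 : ∀ x : Γ(X, V), ((f i).appLE V W hWV).hom x =
      ((f i).appLE (X.basicOpen a) W hle).hom
        (X.presheaf.map (homOfLE (X.basicOpen_le a)).op x) := by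
    intro x
    have := Scheme.Hom.map_appLE (f i) (V := W) (U := X.basicOpen a) hle
      (homOfLE (X.basicOpen_le a)).op
    exact (congr($(this).hom x)).symm
  have e2 : (Z i).presheaf.map (homOfLE hle).op
      ((f i).app (X.basicOpen a) (X.presheaf.map (homOfLE (X.basicOpen_le a)).op w)) =
      ((f i).appLE (X.basicOpen a) W hle).hom
        (X.presheaf.map (homOfLE (X.basicOpen_le a)).op w) := rfl
  rw [e2, ← e1]
  rw [e1 a, ← map_pow] at hm'
  have hu : IsUnit (((f i).appLE (X.basicOpen a) W hle).hom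
      ((X.presheaf.map (homOfLE (X.basicOpen_le a)).op a) ^ m)) :=
    ((X.toRingedSpace.isUnit_res_basicOpen a).pow m).map _
  exact (hu.mul_right_eq_zero).mp hm'

end family

section chart
variable {k : Type u} [Field k] {X S' X' : Scheme.{u}} {p : X ⟶ Spec (CommRingCat.of k)}
  {q : S' ⟶ Spec (CommRingCat.of k)} {g : X' ⟶ X} {f' : X' ⟶ S'}
  {ι : Type u} {Z Z' : ι → Scheme.{u}} (f : ∀ i, Z i ⟶ X) (F : ∀ i, Z' i ⟶ X')
  (gZ : ∀ i, Z' i ⟶ Z i)

theorem isField_Γ_Spec : IsField Γ(Spec (CommRingCat.of k), ⊤) :=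
  MulEquiv.isField (Field.toIsField k)
    (Scheme.ΓSpecIso (CommRingCat.of k)).commRingCatIsoToRingEquiv.toMulEquiv

open Groth.Agent.Lib.Helper2.PullbackSec in
/-- over a field: the sections over `g⁻¹V ∩ f'⁻¹T` of the base-changed family are separating. -/
theorem sep_chart (hc : IsPullback g f' p q)
    (h : ∀ (V : X.Opens) (t : Γ(X, V)), (∀ i, (f i).app V t = 0) → t = 0)
    {V : X.Opens} (hV : IsAffineOpen V) {T : S'.Opens} (hT : IsAffineOpen T)
    (e1 : g ⁻¹ᵁ V ⊓ f' ⁻¹ᵁ T ≤ g ⁻¹ᵁ V) :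
    letI : Algebra Γ(X, V) Γ(X', g ⁻¹ᵁ V ⊓ f' ⁻¹ᵁ T) :=
      (g.appLE V (g ⁻¹ᵁ V ⊓ f' ⁻¹ᵁ T) e1).hom.toAlgebra
    Sep (bc (fun j : Idx f V => Algebra.linearMap Γ(X, V) (Car f V j))
      Γ(X', g ⁻¹ᵁ V ⊓ f' ⁻¹ᵁ T)) := by
  have eV' : T ≤ q ⁻¹ᵁ ⊤ := fun _ _ => trivial
  have eU : V ≤ p ⁻¹ᵁ ⊤ := fun _ _ => trivial
  have hTop : IsAffineOpen (⊤ : (Spec (CommRingCat.of k)).Opens) := isAffineOpen_top _
  have e2 : g ⁻¹ᵁ V ⊓ f' ⁻¹ᵁ T ≤ f' ⁻¹ᵁ T := inf_le_right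
  -- ring structures
  letI aRA : Algebra Γ(Spec (CommRingCat.of k), ⊤) Γ(X, V) := (p.appLE ⊤ V eU).hom.toAlgebra
  letI aRB : Algebra Γ(Spec (CommRingCat.of k), ⊤) Γ(S', T) := (q.appLE ⊤ T eV').hom.toAlgebra
  letI aAA' : Algebra Γ(X, V) Γ(X', g ⁻¹ᵁ V ⊓ f' ⁻¹ᵁ T) := (g.appLE V _ e1).hom.toAlgebra
  letI aBA' : Algebra Γ(S', T) Γ(X', g ⁻¹ᵁ V ⊓ f' ⁻¹ᵁ T) := (f'.appLE T _ e2).hom.toAlgebra
  letI aRA' : Algebra Γ(Spec (CommRingCat.of k), ⊤) Γ(X', g ⁻¹ᵁ V ⊓ f' ⁻¹ᵁ T) :=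
    ((g.appLE V _ e1).hom.comp (p.appLE ⊤ V eU).hom).toAlgebra
  haveI tRAA' : IsScalarTower Γ(Spec (CommRingCat.of k), ⊤) Γ(X, V)
      Γ(X', g ⁻¹ᵁ V ⊓ f' ⁻¹ᵁ T) :=
    IsScalarTower.of_algebraMap_eq (fun a => rfl)
  haveI tRBA' : IsScalarTower Γ(Spec (CommRingCat.of k), ⊤) Γ(S', T)
      Γ(X', g ⁻¹ᵁ V ⊓ f' ⁻¹ᵁ T) := by
    refine IsScalarTower.of_algebraMap_eq (fun a => ?_)
    change (g.appLE V _ e1).hom ((p.appLE ⊤ V eU).hom a) =
      (f'.appLE T _ e2).hom ((q.appLE ⊤ T eV').hom a)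
    have h1 := Scheme.Hom.appLE_comp_appLE g p ⊤ V _ eU e1
    have h2 := Scheme.Hom.appLE_comp_appLE f' q ⊤ T _ eV' e2
    have h3 : (p.appLE ⊤ V eU ≫ g.appLE V _ e1) = (q.appLE ⊤ T eV' ≫ f'.appLE T _ e2) := by
      rw [h1, h2]
      congr 1
      exact hc.w
    exact congrArg (fun φ => φ.hom a) h3
  haveI hPO : Algebra.IsPushout Γ(Spec (CommRingCat.of k), ⊤) Γ(S', T) Γ(X, V)
      Γ(X', g ⁻¹ᵁ V ⊓ f' ⁻¹ᵁ T) :=
    algebra_isPushout hc eV' eU hTop hT hV e1 e2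
  haveI hPO' : Algebra.IsPushout Γ(Spec (CommRingCat.of k), ⊤) Γ(X, V) Γ(S', T)
      Γ(X', g ⁻¹ᵁ V ⊓ f' ⁻¹ᵁ T) :=
    hPO.symm
  exact Sep.of_isPushout_of_isField (fun j : Idx f V => Algebra.linearMap Γ(X, V) (Car f V j))
    (isField_Γ_Spec (k := k)) (sep_dominant f h hV) Γ(S', T) Γ(X', g ⁻¹ᵁ V ⊓ f' ⁻¹ᵁ T)

open Groth.Agent.Lib.Helper2.PullbackSec in
/-- vanishing on a distinguished open of an affine chart where the sections are separating. -/
theorem chart_core (hcZ : ∀ i, IsPullback (gZ i) (F i) (f i) g)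
    {V : X.Opens} (hV : IsAffineOpen V) {U₀ : X'.Opens} (hU₀ : IsAffineOpen U₀)
    (e1 : U₀ ≤ g ⁻¹ᵁ V)
    (hsep : letI : Algebra Γ(X, V) Γ(X', U₀) := (g.appLE V U₀ e1).hom.toAlgebra
      Sep (bc (fun j : Idx f V => Algebra.linearMap Γ(X, V) (Car f V j)) Γ(X', U₀)))
    (b : Γ(X', U₀)) (t : Γ(X', X'.basicOpen b))
    (ht : ∀ i, (F i).app (X'.basicOpen b) t = 0) : t = 0 := by
  letI aAA' : Algebra Γ(X, V) Γ(X', U₀) := (g.appLE V U₀ e1).hom.toAlgebra
  obtain ⟨n, t', ht'⟩ := exists_extension hU₀ b t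
  have hw : ∀ j : Idx f V, ∃ m : ℕ, b ^ m •
      bc (fun j : Idx f V => Algebra.linearMap Γ(X, V) (Car f V j)) Γ(X', U₀) j
        (t' ⊗ₜ[Γ(X, V)] (1 : Γ(X, V))) = 0 := by
    rintro ⟨i, W, hW, hWV⟩
    -- the affine open of `Z' i`
    have hW' : IsAffineOpen (gZ i ⁻¹ᵁ W ⊓ F i ⁻¹ᵁ U₀) :=
      isAffineOpen_inf_preimage (hcZ i) e1 hWV hV hU₀ hW
    have d1 : gZ i ⁻¹ᵁ W ⊓ F i ⁻¹ᵁ U₀ ≤ gZ i ⁻¹ᵁ W := inf_le_left
    have d2 : gZ i ⁻¹ᵁ W ⊓ F i ⁻¹ᵁ U₀ ≤ F i ⁻¹ᵁ U₀ := inf_le_right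
    letI aAC : Algebra Γ(X, V) Γ(Z i, W) := ((f i).appLE V W hWV).hom.toAlgebra
    letI aCC' : Algebra Γ(Z i, W) Γ(Z' i, gZ i ⁻¹ᵁ W ⊓ F i ⁻¹ᵁ U₀) :=
      ((gZ i).appLE W _ d1).hom.toAlgebra
    letI aA'C' : Algebra Γ(X', U₀) Γ(Z' i, gZ i ⁻¹ᵁ W ⊓ F i ⁻¹ᵁ U₀) :=
      ((F i).appLE U₀ _ d2).hom.toAlgebra
    letI aAC' : Algebra Γ(X, V) Γ(Z' i, gZ i ⁻¹ᵁ W ⊓ F i ⁻¹ᵁ U₀) :=
      (((gZ i).appLE W _ d1).hom.comp ((f i).appLE V W hWV).hom).toAlgebra
    haveI t1 : IsScalarTower Γ(X, V) Γ(Z i, W) Γ(Z' i, gZ i ⁻¹ᵁ W ⊓ F i ⁻¹ᵁ U₀) :=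
      IsScalarTower.of_algebraMap_eq (fun a => rfl)
    haveI t2 : IsScalarTower Γ(X, V) Γ(X', U₀) Γ(Z' i, gZ i ⁻¹ᵁ W ⊓ F i ⁻¹ᵁ U₀) := by
      refine IsScalarTower.of_algebraMap_eq (fun a => ?_)
      change ((gZ i).appLE W _ d1).hom (((f i).appLE V W hWV).hom a) =
        ((F i).appLE U₀ _ d2).hom ((g.appLE V U₀ e1).hom a)
      have h1 := Scheme.Hom.appLE_comp_appLE (gZ i) (f i) V W _ hWV d1
      have h2 := Scheme.Hom.appLE_comp_appLE (F i) g V U₀ _ e1 d2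
      have h3 : ((f i).appLE V W hWV ≫ (gZ i).appLE W _ d1) =
          (g.appLE V U₀ e1 ≫ (F i).appLE U₀ _ d2) := by
        rw [h1, h2]
        congr 1
        exact (hcZ i).w
      exact congrArg (fun φ => φ.hom a) h3
    haveI hPO : Algebra.IsPushout Γ(X, V) Γ(X', U₀) Γ(Z i, W)
        Γ(Z' i, gZ i ⁻¹ᵁ W ⊓ F i ⁻¹ᵁ U₀) :=
      algebra_isPushout (hcZ i) e1 hWV hV hU₀ hW d1 d2
    have key : ∃ m : ℕ, b ^ m • (t' ⊗ₜ[Γ(X, V)] (1 : Γ(Z i, W)) :
        Γ(X', U₀) ⊗[Γ(X, V)] Γ(Z i, W)) = 0 := by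
      set β : Γ(Z' i, gZ i ⁻¹ᵁ W ⊓ F i ⁻¹ᵁ U₀) := ((F i).appLE U₀ _ d2).hom b with hβ
      set τ : Γ(Z' i, gZ i ⁻¹ᵁ W ⊓ F i ⁻¹ᵁ U₀) := ((F i).appLE U₀ _ d2).hom t' with hτ
      have hβle : (Z' i).basicOpen β ≤ F i ⁻¹ᵁ (X'.basicOpen b) := by
        rw [hβ, Scheme.basicOpen_appLE]
        exact inf_le_right
      have hres : (Z' i).presheaf.map (homOfLE ((Z' i).basicOpen_le β)).op τ = 0 := by
        have h1 : (Z' i).presheaf.map (homOfLE ((Z' i).basicOpen_le β)).op τ =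
            ((F i).appLE (X'.basicOpen b) ((Z' i).basicOpen β) hβle).hom
              (X'.presheaf.map (homOfLE (X'.basicOpen_le b)).op t') := by
          have e3 := Scheme.Hom.appLE_map (F i) d2 (homOfLE ((Z' i).basicOpen_le β)).op
          have e4 := Scheme.Hom.map_appLE (F i) (V := (Z' i).basicOpen β) hβle
            (homOfLE (X'.basicOpen_le b)).op
          have e5 : ((F i).appLE U₀ _ d2 ≫
              (Z' i).presheaf.map (homOfLE ((Z' i).basicOpen_le β)).op) =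
              (X'.presheaf.map (homOfLE (X'.basicOpen_le b)).op ≫
                (F i).appLE (X'.basicOpen b) ((Z' i).basicOpen β) hβle) := by
            rw [e3, e4]
          exact congr($(e5).hom t')
        have h2 : ((F i).appLE (X'.basicOpen b) ((Z' i).basicOpen β) hβle).hom t = 0 := by
          have : ((F i).appLE (X'.basicOpen b) ((Z' i).basicOpen β) hβle).hom t =
              (Z' i).presheaf.map (homOfLE hβle).op ((F i).app (X'.basicOpen b) t) := rfl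
          rw [this, ht i, map_zero]
        rw [h1, ht', map_mul, h2, mul_zero]
      obtain ⟨m, hm⟩ := exists_pow_mul_eq_zero hW' β τ hres
      refine ⟨m, (Algebra.IsPushout.equiv Γ(X, V) Γ(X', U₀) Γ(Z i, W)
        Γ(Z' i, gZ i ⁻¹ᵁ W ⊓ F i ⁻¹ᵁ U₀)).injective ?_⟩
      rw [map_zero, map_smul, Algebra.IsPushout.equiv_tmul, map_one, mul_one, Algebra.smul_def,
        map_pow]
      exact hm
    obtain ⟨m, hm⟩ := key
    refine ⟨m, ?_⟩
    rw [LinearMap.baseChange_tmul, Algebra.linearMap_apply, map_one]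
    exact hm
  obtain ⟨N, hN⟩ := hsep b (t' ⊗ₜ[Γ(X, V)] (1 : Γ(X, V))) hw
  have hN' : b ^ N * t' = 0 := by
    have := congrArg (Algebra.TensorProduct.rid Γ(X, V) Γ(X', U₀) Γ(X', U₀)) hN
    rw [map_smul, Algebra.TensorProduct.rid_tmul, one_smul, map_zero, smul_eq_mul] at this
    exact this
  apply eq_zero_of_res_pow_mul b (N + n)
  rw [pow_add, mul_assoc, ← ht', ← map_pow, ← map_mul, hN', map_zero]

open Groth.Agent.Lib.Helper2.PullbackSec in
/-- **Schematically dominant families over a field are universally schematically dominant.** -/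
theorem dominant_pullback_over_field (hc : IsPullback g f' p q)
    (hcZ : ∀ i, IsPullback (gZ i) (F i) (f i) g)
    (h : ∀ (V : X.Opens) (t : Γ(X, V)), (∀ i, (f i).app V t = 0) → t = 0)
    (O : X'.Opens) (t : Γ(X', O)) (ht : ∀ i, (F i).app O t = 0) : t = 0 := by
  let 𝓑 : Set X'.Opens := {W | ∃ (V : X.Opens) (T : S'.Opens), IsAffineOpen V ∧ IsAffineOpen T ∧
    ∃ b : Γ(X', g ⁻¹ᵁ V ⊓ f' ⁻¹ᵁ T), W = X'.basicOpen b}
  have hB : Opens.IsBasis (Set.range (Subtype.val : 𝓑 → X'.Opens)) := by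
    rw [Subtype.range_coe, TopologicalSpace.Opens.isBasis_iff_nbhd]
    intro O' x hxO'
    obtain ⟨V, hV, hxV, -⟩ := exists_isAffineOpen_mem_and_subset (x := g x) (U := ⊤) trivial
    obtain ⟨T, hT, hxT, -⟩ := exists_isAffineOpen_mem_and_subset (x := f' x) (U := ⊤) trivial
    have hU₀ : IsAffineOpen (g ⁻¹ᵁ V ⊓ f' ⁻¹ᵁ T) :=
      isAffineOpen_inf_preimage hc (V := ⊤) (fun _ _ => trivial) (fun _ _ => trivial)
        (isAffineOpen_top _) hT hV
    have hx0 : x ∈ g ⁻¹ᵁ V ⊓ f' ⁻¹ᵁ T := ⟨hxV, hxT⟩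
    obtain ⟨b, hb1, hb2⟩ := hU₀.exists_basicOpen_le (V := O') ⟨x, hxO'⟩ hx0
    exact ⟨X'.basicOpen b, ⟨V, T, hV, hT, b, rfl⟩, hb2, hb1⟩
  refine section_ext_basis_ring (Subtype.val : 𝓑 → X'.Opens) hB t 0 ?_
  rintro ⟨W, V, T, hV, hT, b, rfl⟩ hle
  rw [map_zero]
  have hU₀ : IsAffineOpen (g ⁻¹ᵁ V ⊓ f' ⁻¹ᵁ T) :=
    isAffineOpen_inf_preimage hc (V := ⊤) (fun _ _ => trivial) (fun _ _ => trivial)
      (isAffineOpen_top _) hT hV
  refine chart_core f F gZ hcZ hV hU₀ inf_le_left (sep_chart f hc h hV hT inf_le_left) b _ ?_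
  intro i
  have hnat := congr($((F i).naturality (homOfLE hle).op) t)
  have h2 : (F i).app (X'.basicOpen b) (X'.presheaf.map (homOfLE hle).op t) =
      (Z' i).presheaf.map ((Opens.map (F i).base).map (homOfLE hle)).op ((F i).app O t) := hnat
  rw [h2, ht i, map_zero]

end chart

section final
variable {k : Type u} [Field k] {X S' : Scheme.{u}} (p : X ⟶ Spec (CommRingCat.of k))
  (q : S' ⟶ Spec (CommRingCat.of k)) {ι : Type u} (Z : ι → Scheme.{u}) (f : ∀ i, Z i ⟶ X)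

theorem isPullback_map (i : ι) :
    IsPullback (pullback.fst (f i ≫ p) q)
      (pullback.map (f i ≫ p) q p q (f i) (𝟙 S') (𝟙 _) (Category.comp_id _)
        ((Category.comp_id _).trans (Category.id_comp _).symm))
      (f i) (pullback.fst p q) := by
  have hbig : IsPullback (pullback.map (f i ≫ p) q p q (f i) (𝟙 S') (𝟙 _) (Category.comp_id _)
        ((Category.comp_id _).trans (Category.id_comp _).symm) ≫ pullback.snd p q)
      (pullback.fst (f i ≫ p) q) q (f i ≫ p) := by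
    have h1 : pullback.map (f i ≫ p) q p q (f i) (𝟙 S') (𝟙 _) (Category.comp_id _)
        ((Category.comp_id _).trans (Category.id_comp _).symm) ≫ pullback.snd p q =
        pullback.snd (f i ≫ p) q := by
      rw [pullback.lift_snd, Category.comp_id]
    rw [h1]
    exact (IsPullback.of_hasPullback (f i ≫ p) q).flip
  have hright : IsPullback (pullback.snd p q) (pullback.fst p q) q p :=
    (IsPullback.of_hasPullback p q).flip
  exact (IsPullback.of_right hbig (by rw [pullback.lift_fst]) hright).flip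

theorem dominant_baseChange
    (h : ∀ (V : X.Opens) (t : Γ(X, V)), (∀ i, (f i).app V t = 0) → t = 0)
    (O : (pullback p q).Opens) (t : Γ(pullback p q, O))
    (ht : ∀ i, (pullback.map (f i ≫ p) q p q (f i) (𝟙 S') (𝟙 _) (Category.comp_id _)
        ((Category.comp_id _).trans (Category.id_comp _).symm)).app O t = 0) : t = 0 :=
  dominant_pullback_over_field f
    (fun i => pullback.map (f i ≫ p) q p q (f i) (𝟙 S') (𝟙 _) (Category.comp_id _)
        ((Category.comp_id _).trans (Category.id_comp _).symm))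
    (fun i => pullback.fst (f i ≫ p) q) (IsPullback.of_hasPullback p q)
    (fun i => isPullback_map p q Z f i) h O t ht

end final

end Groth.Agent.Lib.Seat22.SepDom
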