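import Mathlib
import Groth.Agent.Lib.Seat22SepDom
import Groth.Agent.Lib.Seat22FibSep5
import Groth.Prelude.Def_MoreMor

/-!
# Schematically dominant families: fibrewise implies universally (seat 22)
-/

set_option autoImplicit false
set_option linter.style.haveILetI false
universe u
open CategoryTheory CategoryTheory.Limits AlgebraicGeometry TopologicalSpace Opposite TensorProduct

namespace Groth.Agent.Lib.Seat22.FibDom

open Groth.Agent.Lib.Seat22.Sep Groth.Agent.Lib.Seat22.SepDom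

section cover
variable {Y : Scheme.{u}}

theorem eq_zero_of_cover {U : Y.Opens} (s : Γ(Y, U)) {κ : Type*} (C : κ → Y.Opens)
    (hle : ∀ k, C k ≤ U) (hcov : U ≤ ⨆ k, C k)
    (h : ∀ k, Y.presheaf.map (homOfLE (hle k)).op s = 0) : s = 0 := by
  refine TopCat.Sheaf.eq_of_locally_eq' Y.sheaf C U (fun k => homOfLE (hle k)) hcov s 0 ?_
  intro k
  rw [map_zero]
  exact h k

end cover

section residue
variable {S : Scheme.{u}}

theorem isField_Γ_Spec_residueField (s : S) : IsField Γ(Spec (S.residueField s), ⊤) :=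
  MulEquiv.isField (Field.toIsField (S.residueField s))
    (Scheme.ΓSpecIso (S.residueField s)).commRingCatIsoToRingEquiv.toMulEquiv

/-- the kernel of `Γ(S, W) → Γ(Spec κ(s), ⊤)` is the prime ideal of `s`. -/
theorem ker_appLE_fromSpecResidueField {W : S.Opens} (hW : IsAffineOpen W) (s : S) (hs : s ∈ W)
    (e : ⊤ ≤ (S.fromSpecResidueField s) ⁻¹ᵁ W) :
    RingHom.ker ((S.fromSpecResidueField s).appLE W ⊤ e).hom =
      (hW.primeIdealOf ⟨s, hs⟩).asIdeal := by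
  obtain ⟨x'⟩ : Nonempty (Spec (S.residueField s)) := inferInstance
  have hx : (S.fromSpecResidueField s) x' = s := Scheme.fromSpecResidueField_apply s x'
  have h1 := IsAffineOpen.comap_primeIdealOf_appLE (f := S.fromSpecResidueField s) (x := x')
    W hW ⊤ (isAffineOpen_top _) e trivial
  have h2 : ((isAffineOpen_top (Spec (S.residueField s))).primeIdealOf ⟨x', trivial⟩).asIdeal =
      ⊥ := by
    letI : Field Γ(Spec (S.residueField s), ⊤) := (isField_Γ_Spec_residueField s).toField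
    exact Ideal.eq_bot_of_prime _
  have h3 : hW.primeIdealOf ⟨(S.fromSpecResidueField s) x', e trivial⟩ =
      hW.primeIdealOf ⟨s, hs⟩ := by
    congr 1
    exact Subtype.ext hx
  rw [← h3, ← h1, PrimeSpectrum.comap_asIdeal, h2, RingHom.ker_eq_comap_bot]

end residue

section converse
variable {X X' : Scheme.{u}} {g : X' ⟶ X}
  {ι : Type u} {Z Z' : ι → Scheme.{u}} (f : ∀ i, Z i ⟶ X) (F : ∀ i, Z' i ⟶ X')
  (gZ : ∀ i, Z' i ⟶ Z i)

open Groth.Agent.Lib.Helper2.PullbackSec in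
/-- a schematically dominant base-changed family gives separating sections on affine charts. -/
theorem sep_of_dominant (hcZ : ∀ i, IsPullback (gZ i) (F i) (f i) g)
    (h' : ∀ (O : X'.Opens) (t : Γ(X', O)), (∀ i, (F i).app O t = 0) → t = 0)
    {V : X.Opens} (hV : IsAffineOpen V) {U₀ : X'.Opens} (hU₀ : IsAffineOpen U₀)
    (e1 : U₀ ≤ g ⁻¹ᵁ V) :
    letI : Algebra Γ(X, V) Γ(X', U₀) := (g.appLE V U₀ e1).hom.toAlgebra
    Sep (bc (fun j : Idx f V => Algebra.linearMap Γ(X, V) (Car f V j)) Γ(X', U₀)) := by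
  letI aAA' : Algebra Γ(X, V) Γ(X', U₀) := (g.appLE V U₀ e1).hom.toAlgebra
  intro a w hw
  -- `w = t' ⊗ 1`
  obtain ⟨t', rfl⟩ : ∃ t' : Γ(X', U₀), w = t' ⊗ₜ[Γ(X, V)] (1 : Γ(X, V)) := by
    refine ⟨Algebra.TensorProduct.rid Γ(X, V) Γ(X', U₀) Γ(X', U₀) w, ?_⟩
    exact ((Algebra.TensorProduct.rid Γ(X, V) Γ(X', U₀) Γ(X', U₀)).symm_apply_apply w).symm.trans
      (Algebra.TensorProduct.rid_symm_apply Γ(X, V) Γ(X', U₀) _)
  suffices hres : X'.presheaf.map (homOfLE (X'.basicOpen_le a)).op t' = 0 by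
    obtain ⟨n, hn⟩ := exists_pow_mul_eq_zero hU₀ a t' hres
    refine ⟨n, ?_⟩
    rw [TensorProduct.smul_tmul', smul_eq_mul, hn, TensorProduct.zero_tmul]
  apply h'
  intro i
  -- cover of `F i ⁻¹ D(a)` by the opens `D(β_W)`, `W` affine in `f i ⁻¹ V`
  let κ := {W : (Z i).Opens // IsAffineOpen W ∧ W ≤ f i ⁻¹ᵁ V}
  let C : κ → (Z' i).Opens := fun W => (gZ i ⁻¹ᵁ W.1 ⊓ F i ⁻¹ᵁ U₀) ⊓ F i ⁻¹ᵁ (X'.basicOpen a)
  have hle : ∀ W : κ, C W ≤ F i ⁻¹ᵁ (X'.basicOpen a) := fun W => inf_le_right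
  have hcov : F i ⁻¹ᵁ (X'.basicOpen a) ≤ ⨆ W, C W := by
    intro x hx
    have hxU₀ : F i x ∈ U₀ := X'.basicOpen_le a hx
    have hxV : gZ i x ∈ f i ⁻¹ᵁ V := by
      change f i (gZ i x) ∈ V
      have hw := congrArg (fun φ => φ.base x) (hcZ i).w
      have hw' : f i (gZ i x) = g (F i x) := by simpa using hw
      rw [hw']
      exact e1 hxU₀
    obtain ⟨W, hW, hxW, hWle⟩ := exists_isAffineOpen_mem_and_subset (x := gZ i x) hxV
    exact Opens.mem_iSup.mpr ⟨⟨W, hW, hWle⟩, ⟨⟨hxW, hxU₀⟩, hx⟩⟩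
  refine eq_zero_of_cover _ C hle hcov ?_
  rintro ⟨W, hW, hWV⟩
  -- the affine open of `Z' i`
  have hW' : IsAffineOpen (gZ i ⁻¹ᵁ W ⊓ F i ⁻¹ᵁ U₀) :=
    isAffineOpen_inf_preimage (hcZ i) e1 hWV hV hU₀ hW
  have d1 : gZ i ⁻¹ᵁ W ⊓ F i ⁻¹ᵁ U₀ ≤ gZ i ⁻¹ᵁ W := inf_le_left
  have d2 : gZ i ⁻¹ᵁ W ⊓ F i ⁻¹ᵁ U₀ ≤ F i ⁻¹ᵁ U₀ := inf_le_right
  letI aAC : Algebra Γ(X, V) Γ(Z i, W) := ((f i).appLE V W hWV).hom.toAlgebra
  letI aCC' : Algebra Γ(Z i, W) Γ(Z' i, gZ i ⁻¹ᵁ W ⊓ F i ⁻¹ᵁ U₀) :=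
    ((gZ i).appLE W _ d1).hom.toAlgebra
  letI aA'C' : Algebra Γ(X', U₀) Γ(Z' i, gZ i ⁻¹ᵁ W ⊓ F i ⁻¹ᵁ U₀) :=
    ((F i).appLE U₀ _ d2).hom.toAlgebra
  letI aAC' : Algebra Γ(X, V) Γ(Z' i, gZ i ⁻¹ᵁ W ⊓ F i ⁻¹ᵁ U₀) :=
    (((gZ i).appLE W _ d1).hom.comp ((f i).appLE V W hWV).hom).toAlgebra
  haveI t1 : IsScalarTower Γ(X, V) Γ(Z i, W) Γ(Z' i, gZ i ⁻¹ᵁ W ⊓ F i ⁻¹ᵁ U₀) :=
    IsScalarTower.of_algebraMap_eq (fun a => rfl)
  haveI t2 : IsScalarTower Γ(X, V) Γ(X', U₀) Γ(Z' i, gZ i ⁻¹ᵁ W ⊓ F i ⁻¹ᵁ U₀) := by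
    refine IsScalarTower.of_algebraMap_eq (fun a => ?_)
    change ((gZ i).appLE W _ d1).hom (((f i).appLE V W hWV).hom a) =
      ((F i).appLE U₀ _ d2).hom ((g.appLE V U₀ e1).hom a)
    have h1 := Scheme.Hom.appLE_comp_appLE (gZ i) (f i) V W _ hWV d1
    have h2 := Scheme.Hom.appLE_comp_appLE (F i) g V U₀ _ e1 d2
    have h3 : ((f i).appLE V W hWV ≫ (gZ i).appLE W _ d1) =
        (g.appLE V U₀ e1 ≫ (F i).appLE U₀ _ d2) := by
      rw [h1, h2]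
      congr 1
      exact (hcZ i).w
    exact congrArg (fun φ => φ.hom a) h3
  haveI hPO : Algebra.IsPushout Γ(X, V) Γ(X', U₀) Γ(Z i, W)
      Γ(Z' i, gZ i ⁻¹ᵁ W ⊓ F i ⁻¹ᵁ U₀) :=
    algebra_isPushout (hcZ i) e1 hWV hV hU₀ hW d1 d2
  set β : Γ(Z' i, gZ i ⁻¹ᵁ W ⊓ F i ⁻¹ᵁ U₀) := ((F i).appLE U₀ _ d2).hom a with hβ
  set τ : Γ(Z' i, gZ i ⁻¹ᵁ W ⊓ F i ⁻¹ᵁ U₀) := ((F i).appLE U₀ _ d2).hom t' with hτ
  -- the hypothesis on this chart
  obtain ⟨n, hn⟩ := hw ⟨i, W, hW, hWV⟩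
  have hn' : a ^ n • (t' ⊗ₜ[Γ(X, V)] (1 : Γ(Z i, W)) :
      Γ(X', U₀) ⊗[Γ(X, V)] Γ(Z i, W)) = 0 := by
    rw [LinearMap.baseChange_tmul, Algebra.linearMap_apply, map_one] at hn
    exact hn
  have hβτ : β ^ n * τ = 0 := by
    have := congrArg (Algebra.IsPushout.equiv Γ(X, V) Γ(X', U₀) Γ(Z i, W)
      Γ(Z' i, gZ i ⁻¹ᵁ W ⊓ F i ⁻¹ᵁ U₀)) hn'
    rw [map_zero, map_smul, Algebra.IsPushout.equiv_tmul, map_one, mul_one, Algebra.smul_def,
      map_pow] at this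
    exact this
  -- the basic open
  have hCβ : C ⟨W, hW, hWV⟩ = (Z' i).basicOpen β := by
    rw [hβ, Scheme.basicOpen_appLE]
  have hβle : (Z' i).basicOpen β ≤ F i ⁻¹ᵁ (X'.basicOpen a) := by
    rw [← hCβ]; exact inf_le_right
  have hres : (Z' i).presheaf.map (homOfLE ((Z' i).basicOpen_le β)).op τ = 0 := by
    apply eq_zero_of_res_pow_mul β n
    rw [← map_pow, ← map_mul, hβτ, map_zero]
  have h1 : (Z' i).presheaf.map (homOfLE ((Z' i).basicOpen_le β)).op τ =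
      ((F i).appLE (X'.basicOpen a) ((Z' i).basicOpen β) hβle).hom
        (X'.presheaf.map (homOfLE (X'.basicOpen_le a)).op t') := by
    have e3 := Scheme.Hom.appLE_map (F i) d2 (homOfLE ((Z' i).basicOpen_le β)).op
    have e4 := Scheme.Hom.map_appLE (F i) (V := (Z' i).basicOpen β) hβle
      (homOfLE (X'.basicOpen_le a)).op
    have e5 : ((F i).appLE U₀ _ d2 ≫
        (Z' i).presheaf.map (homOfLE ((Z' i).basicOpen_le β)).op) =
        (X'.presheaf.map (homOfLE (X'.basicOpen_le a)).op ≫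
          (F i).appLE (X'.basicOpen a) ((Z' i).basicOpen β) hβle) := by
      rw [e3, e4]
    exact congr($(e5).hom t')
  have h2 : ∀ (O : (Z' i).Opens) (hO : O ≤ F i ⁻¹ᵁ (X'.basicOpen a)) (x : Γ(X', X'.basicOpen a)),
      (Z' i).presheaf.map (homOfLE hO).op ((F i).app (X'.basicOpen a) x) =
        ((F i).appLE (X'.basicOpen a) O hO).hom x := fun O hO x => rfl
  rw [h2]
  have h3 : ((F i).appLE (X'.basicOpen a) (C ⟨W, hW, hWV⟩) (hle ⟨W, hW, hWV⟩)).hom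
      (X'.presheaf.map (homOfLE (X'.basicOpen_le a)).op t') =
      (Z' i).presheaf.map (eqToHom hCβ).op
        (((F i).appLE (X'.basicOpen a) ((Z' i).basicOpen β) hβle).hom
          (X'.presheaf.map (homOfLE (X'.basicOpen_le a)).op t')) := by
    have e6 := Scheme.Hom.appLE_map (F i) hβle (eqToHom hCβ).op
    exact (congr($(e6).hom (X'.presheaf.map (homOfLE (X'.basicOpen_le a)).op t'))).symm
  rw [h3, ← h1, hres, map_zero]

end converse

section relative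
variable {X S S' X' : Scheme.{u}} {p : X ⟶ S} {g : S' ⟶ S} {g' : X' ⟶ X} {p' : X' ⟶ S'}
  {ι : Type u} {Z : ι → Scheme.{u}} (f : ∀ i, Z i ⟶ X)

/-- the family of fibres over every point of `S` is schematically dominant. -/
def FibrewiseDominant (p : X ⟶ S) (f : ∀ i, Z i ⟶ X) : Prop :=
  ∀ s : S, ∃ (Zs : ι → Scheme.{u}) (Fs : ∀ i, Zs i ⟶ p.fiber s) (gZs : ∀ i, Zs i ⟶ Z i),
    (∀ i, IsPullback (gZs i) (Fs i) (f i) (p.fiberι s)) ∧
    ∀ (O : (p.fiber s).Opens) (t : Γ(p.fiber s, O)), (∀ i, (Fs i).app O t = 0) → t = 0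

theorem primeIdealOf_fromSpec {W : S.Opens} (hW : IsAffineOpen W) (q : Spec Γ(S, W))
    (hq : hW.fromSpec q ∈ W) : hW.primeIdealOf ⟨hW.fromSpec q, hq⟩ = q := by
  apply hW.fromSpec.isOpenEmbedding.injective
  exact hW.fromSpec_primeIdealOf ⟨hW.fromSpec q, hq⟩

open Groth.Agent.Lib.Helper2.PullbackSec in
/-- the fibre condition of the algebraic theorem, from the fibre over a point. -/
theorem fibreCond_of_fibrewise (hfib : FibrewiseDominant p f)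
    {W : S.Opens} (hW : IsAffineOpen W) {V : X.Opens} (hV : IsAffineOpen V)
    (eU : V ≤ p ⁻¹ᵁ W) (𝔭 : Ideal Γ(S, W)) [𝔭.IsPrime] :
    letI : Algebra Γ(S, W) Γ(X, V) := (p.appLE W V eU).hom.toAlgebra
    Groth.Agent.Lib.Seat22.Fib.FibreCond (A := Γ(S, W))
      (fun j : Idx f V => Algebra.linearMap Γ(X, V) (Car f V j)) 𝔭 := by
  letI aAB : Algebra Γ(S, W) Γ(X, V) := (p.appLE W V eU).hom.toAlgebra
  -- the point
  have hsW : hW.fromSpec ⟨𝔭, inferInstance⟩ ∈ W := by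
    have : hW.fromSpec ⟨𝔭, inferInstance⟩ ∈ hW.fromSpec.opensRange := ⟨_, rfl⟩
    rwa [hW.opensRange_fromSpec] at this
  obtain ⟨s, hs⟩ : ∃ s : S, s = hW.fromSpec ⟨𝔭, inferInstance⟩ := ⟨_, rfl⟩
  have hsW' : s ∈ W := hs ▸ hsW
  have hprime : (hW.primeIdealOf ⟨s, hsW'⟩).asIdeal = 𝔭 := by
    subst hs
    rw [primeIdealOf_fromSpec hW ⟨𝔭, inferInstance⟩ hsW]
  obtain ⟨Zs, Fs, gZs, hcZs, hdom⟩ := hfib s
  have hcs : IsPullback (p.fiberι s) (p.fiberToSpecResidueField s) p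
      (S.fromSpecResidueField s) := IsPullback.of_hasPullback _ _
  have eV'' : (⊤ : (Spec (S.residueField s)).Opens) ≤ (S.fromSpecResidueField s) ⁻¹ᵁ W := by
    intro x _
    change (S.fromSpecResidueField s) x ∈ W
    rw [Scheme.fromSpecResidueField_apply]
    exact hsW'
  have hTop : IsAffineOpen (⊤ : (Spec (S.residueField s)).Opens) := isAffineOpen_top _
  have hUs : IsAffineOpen (p.fiberι s ⁻¹ᵁ V ⊓ p.fiberToSpecResidueField s ⁻¹ᵁ ⊤) :=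
    isAffineOpen_inf_preimage hcs eV'' eU hW hTop hV
  have e1 : p.fiberι s ⁻¹ᵁ V ⊓ p.fiberToSpecResidueField s ⁻¹ᵁ ⊤ ≤ p.fiberι s ⁻¹ᵁ V :=
    inf_le_left
  have e2 : p.fiberι s ⁻¹ᵁ V ⊓ p.fiberToSpecResidueField s ⁻¹ᵁ ⊤ ≤
      p.fiberToSpecResidueField s ⁻¹ᵁ ⊤ := inf_le_right
  letI aAK : Algebra Γ(S, W) Γ(Spec (S.residueField s), ⊤) :=
    ((S.fromSpecResidueField s).appLE W ⊤ eV'').hom.toAlgebra
  letI aBX : Algebra Γ(X, V)
      Γ(p.fiber s, p.fiberι s ⁻¹ᵁ V ⊓ p.fiberToSpecResidueField s ⁻¹ᵁ ⊤) :=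
    ((p.fiberι s).appLE V _ e1).hom.toAlgebra
  letI aKX : Algebra Γ(Spec (S.residueField s), ⊤)
      Γ(p.fiber s, p.fiberι s ⁻¹ᵁ V ⊓ p.fiberToSpecResidueField s ⁻¹ᵁ ⊤) :=
    ((p.fiberToSpecResidueField s).appLE ⊤ _ e2).hom.toAlgebra
  letI aAX : Algebra Γ(S, W)
      Γ(p.fiber s, p.fiberι s ⁻¹ᵁ V ⊓ p.fiberToSpecResidueField s ⁻¹ᵁ ⊤) :=
    (((p.fiberι s).appLE V _ e1).hom.comp (p.appLE W V eU).hom).toAlgebra
  haveI t1 : IsScalarTower Γ(S, W) Γ(X, V)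
      Γ(p.fiber s, p.fiberι s ⁻¹ᵁ V ⊓ p.fiberToSpecResidueField s ⁻¹ᵁ ⊤) :=
    IsScalarTower.of_algebraMap_eq (fun a => rfl)
  haveI t2 : IsScalarTower Γ(S, W) Γ(Spec (S.residueField s), ⊤)
      Γ(p.fiber s, p.fiberι s ⁻¹ᵁ V ⊓ p.fiberToSpecResidueField s ⁻¹ᵁ ⊤) := by
    refine IsScalarTower.of_algebraMap_eq (fun a => ?_)
    change ((p.fiberι s).appLE V _ e1).hom ((p.appLE W V eU).hom a) =
      ((p.fiberToSpecResidueField s).appLE ⊤ _ e2).hom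
        (((S.fromSpecResidueField s).appLE W ⊤ eV'').hom a)
    have h1 := Scheme.Hom.appLE_comp_appLE (p.fiberι s) p W V _ eU e1
    have h2 := Scheme.Hom.appLE_comp_appLE (p.fiberToSpecResidueField s)
      (S.fromSpecResidueField s) W ⊤ _ eV'' e2
    have h3 : (p.appLE W V eU ≫ (p.fiberι s).appLE V _ e1) =
        ((S.fromSpecResidueField s).appLE W ⊤ eV'' ≫
          (p.fiberToSpecResidueField s).appLE ⊤ _ e2) := by
      rw [h1, h2]
      congr 1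
      exact hcs.w
    exact congrArg (fun φ => φ.hom a) h3
  have hPO : Algebra.IsPushout Γ(S, W) Γ(Spec (S.residueField s), ⊤) Γ(X, V)
      Γ(p.fiber s, p.fiberι s ⁻¹ᵁ V ⊓ p.fiberToSpecResidueField s ⁻¹ᵁ ⊤) :=
    algebra_isPushout hcs eV'' eU hW hTop hV e1 e2
  have hsep : Sep (bc (fun j : Idx f V => Algebra.linearMap Γ(X, V) (Car f V j))
      Γ(p.fiber s, p.fiberι s ⁻¹ᵁ V ⊓ p.fiberToSpecResidueField s ⁻¹ᵁ ⊤)) :=
    sep_of_dominant f Fs gZs hcZs hdom hV hUs e1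
  have hker : RingHom.ker (algebraMap Γ(S, W) Γ(Spec (S.residueField s), ⊤)) = 𝔭 :=
    (ker_appLE_fromSpecResidueField hW s hsW' eV'').trans hprime
  exact ⟨Γ(Spec (S.residueField s), ⊤), inferInstance, aAK,
    Γ(p.fiber s, p.fiberι s ⁻¹ᵁ V ⊓ p.fiberToSpecResidueField s ⁻¹ᵁ ⊤), inferInstance, aAX, aBX,
    aKX, t1, t2, isField_Γ_Spec_residueField s, hker, hPO.symm, hsep⟩

end relative

section relative2
variable {X S S' X' : Scheme.{u}} {p : X ⟶ S} {g : S' ⟶ S} {g' : X' ⟶ X} {p' : X' ⟶ S'}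
  {ι : Type u} {Z Z' : ι → Scheme.{u}} (f : ∀ i, Z i ⟶ X) (F : ∀ i, Z' i ⟶ X')
  (gZ : ∀ i, Z' i ⟶ Z i)

open Groth.Agent.Lib.Helper2.PullbackSec in
/-- fibrewise schematically dominant implies separating sections on the charts of `X ×_S S'`. -/
theorem sep_chart_rel [IsLocallyNoetherian X] [∀ i, Flat (f i ≫ p)] (hc : IsPullback g' p' p g)
    (hfib : FibrewiseDominant p f)
    {W : S.Opens} (hW : IsAffineOpen W) {V : X.Opens} (hV : IsAffineOpen V) {T : S'.Opens}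
    (hT : IsAffineOpen T) (eU : V ≤ p ⁻¹ᵁ W) (eV' : T ≤ g ⁻¹ᵁ W)
    (e1 : g' ⁻¹ᵁ V ⊓ p' ⁻¹ᵁ T ≤ g' ⁻¹ᵁ V) :
    letI : Algebra Γ(X, V) Γ(X', g' ⁻¹ᵁ V ⊓ p' ⁻¹ᵁ T) := (g'.appLE V _ e1).hom.toAlgebra
    Sep (bc (fun j : Idx f V => Algebra.linearMap Γ(X, V) (Car f V j))
      Γ(X', g' ⁻¹ᵁ V ⊓ p' ⁻¹ᵁ T)) := by
  have e2 : g' ⁻¹ᵁ V ⊓ p' ⁻¹ᵁ T ≤ p' ⁻¹ᵁ T := inf_le_right
  letI aAB : Algebra Γ(S, W) Γ(X, V) := (p.appLE W V eU).hom.toAlgebra
  letI aAA' : Algebra Γ(S, W) Γ(S', T) := (g.appLE W T eV').hom.toAlgebra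
  letI aBB' : Algebra Γ(X, V) Γ(X', g' ⁻¹ᵁ V ⊓ p' ⁻¹ᵁ T) := (g'.appLE V _ e1).hom.toAlgebra
  letI aA'B' : Algebra Γ(S', T) Γ(X', g' ⁻¹ᵁ V ⊓ p' ⁻¹ᵁ T) := (p'.appLE T _ e2).hom.toAlgebra
  letI aAB' : Algebra Γ(S, W) Γ(X', g' ⁻¹ᵁ V ⊓ p' ⁻¹ᵁ T) :=
    ((g'.appLE V _ e1).hom.comp (p.appLE W V eU).hom).toAlgebra
  haveI t1 : IsScalarTower Γ(S, W) Γ(X, V) Γ(X', g' ⁻¹ᵁ V ⊓ p' ⁻¹ᵁ T) :=
    IsScalarTower.of_algebraMap_eq (fun a => rfl)
  haveI t2 : IsScalarTower Γ(S, W) Γ(S', T) Γ(X', g' ⁻¹ᵁ V ⊓ p' ⁻¹ᵁ T) := by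
    refine IsScalarTower.of_algebraMap_eq (fun a => ?_)
    change (g'.appLE V _ e1).hom ((p.appLE W V eU).hom a) =
      (p'.appLE T _ e2).hom ((g.appLE W T eV').hom a)
    have h1 := Scheme.Hom.appLE_comp_appLE g' p W V _ eU e1
    have h2 := Scheme.Hom.appLE_comp_appLE p' g W T _ eV' e2
    have h3 : (p.appLE W V eU ≫ g'.appLE V _ e1) = (g.appLE W T eV' ≫ p'.appLE T _ e2) := by
      rw [h1, h2]
      congr 1
      exact hc.w
    exact congrArg (fun φ => φ.hom a) h3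
  haveI hPO : Algebra.IsPushout Γ(S, W) Γ(X, V) Γ(S', T) Γ(X', g' ⁻¹ᵁ V ⊓ p' ⁻¹ᵁ T) :=
    (algebra_isPushout hc eV' eU hW hT hV e1 e2).symm
  -- Noetherian, flat
  haveI : IsNoetherianRing Γ(X, V) := IsLocallyNoetherian.component_noetherian ⟨V, hV⟩
  letI aAC : ∀ j : Idx f V, Algebra Γ(S, W) (Car f V j) := fun j =>
    ((algebraMap Γ(X, V) (Car f V j)).comp (algebraMap Γ(S, W) Γ(X, V))).toAlgebra
  haveI tAC : ∀ j : Idx f V, IsScalarTower Γ(S, W) Γ(X, V) (Car f V j) := fun j =>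
    IsScalarTower.of_algebraMap_eq (fun a => rfl)
  haveI flAC : ∀ j : Idx f V, Module.Flat Γ(S, W) (Car f V j) := by
    intro j
    have hle : j.W ≤ (f j.i ≫ p) ⁻¹ᵁ W := fun x hx => eU (j.hle hx)
    have h1 : ((f j.i ≫ p).appLE W j.W hle).hom.Flat :=
      Scheme.Hom.flat_appLE (f j.i ≫ p) hW j.hW hle
    have h2 : (f j.i ≫ p).appLE W j.W hle = p.appLE W V eU ≫ (f j.i).appLE V j.W j.hle :=
      (Scheme.Hom.appLE_comp_appLE (f j.i) p W V j.W eU j.hle).symm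
    rw [h2] at h1
    exact h1
  exact Groth.Agent.Lib.Seat22.Fib.sep_of_fibrewise (A := Γ(S, W))
    (fun j : Idx f V => Algebra.linearMap Γ(X, V) (Car f V j))
    (fun 𝔭 _ => fibreCond_of_fibrewise f hfib hW hV eU 𝔭) Γ(S', T) Γ(X', g' ⁻¹ᵁ V ⊓ p' ⁻¹ᵁ T)

open Groth.Agent.Lib.Helper2.PullbackSec in
/-- **Fibrewise schematically dominant implies universally schematically dominant.** -/
theorem dominant_of_fibrewise [IsLocallyNoetherian X] [∀ i, Flat (f i ≫ p)]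
    (hc : IsPullback g' p' p g) (hcZ : ∀ i, IsPullback (gZ i) (F i) (f i) g')
    (hfib : FibrewiseDominant p f)
    (O : X'.Opens) (t : Γ(X', O)) (ht : ∀ i, (F i).app O t = 0) : t = 0 := by
  let 𝓑 : Set X'.Opens := {U | ∃ (W : S.Opens) (V : X.Opens) (T : S'.Opens), IsAffineOpen W ∧
    IsAffineOpen V ∧ IsAffineOpen T ∧ V ≤ p ⁻¹ᵁ W ∧ T ≤ g ⁻¹ᵁ W ∧
    ∃ b : Γ(X', g' ⁻¹ᵁ V ⊓ p' ⁻¹ᵁ T), U = X'.basicOpen b}
  have hB : Opens.IsBasis (Set.range (Subtype.val : 𝓑 → X'.Opens)) := by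
    rw [Subtype.range_coe, TopologicalSpace.Opens.isBasis_iff_nbhd]
    intro O' x hxO'
    obtain ⟨W, hW, hxW, -⟩ := exists_isAffineOpen_mem_and_subset (x := p (g' x)) (U := ⊤) trivial
    obtain ⟨V, hV, hxV, hVW⟩ := exists_isAffineOpen_mem_and_subset (x := g' x) (U := p ⁻¹ᵁ W) hxW
    have hxT0 : p' x ∈ g ⁻¹ᵁ W := by
      change g (p' x) ∈ W
      have hw := congrArg (fun φ => φ.base x) hc.w
      have hw' : p (g' x) = g (p' x) := by simpa using hw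
      rw [← hw']
      exact hxW
    obtain ⟨T, hT, hxT, hTW⟩ := exists_isAffineOpen_mem_and_subset (x := p' x) (U := g ⁻¹ᵁ W) hxT0
    have hU₀ : IsAffineOpen (g' ⁻¹ᵁ V ⊓ p' ⁻¹ᵁ T) :=
      isAffineOpen_inf_preimage hc hTW hVW hW hT hV
    have hx0 : x ∈ g' ⁻¹ᵁ V ⊓ p' ⁻¹ᵁ T := ⟨hxV, hxT⟩
    obtain ⟨b, hb1, hb2⟩ := hU₀.exists_basicOpen_le (V := O') ⟨x, hxO'⟩ hx0
    exact ⟨X'.basicOpen b, ⟨W, V, T, hW, hV, hT, hVW, hTW, b, rfl⟩, hb2, hb1⟩
  refine section_ext_basis_ring (Subtype.val : 𝓑 → X'.Opens) hB t 0 ?_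
  rintro ⟨U, W, V, T, hW, hV, hT, hVW, hTW, b, rfl⟩ hle
  rw [map_zero]
  have hU₀ : IsAffineOpen (g' ⁻¹ᵁ V ⊓ p' ⁻¹ᵁ T) :=
    isAffineOpen_inf_preimage hc hTW hVW hW hT hV
  refine chart_core f F gZ hcZ hV hU₀ inf_le_left
    (sep_chart_rel f hc hfib hW hV hT hVW hTW inf_le_left) b _ ?_
  intro i
  have hnat := congr($((F i).naturality (homOfLE hle).op) t)
  have h2 : (F i).app (X'.basicOpen b) (X'.presheaf.map (homOfLE hle).op t) =
      (Z' i).presheaf.map ((Opens.map (F i).base).map (homOfLE hle)).op ((F i).app O t) := hnat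
  rw [h2, ht i, map_zero]

end relative2

section final
variable {X S : Scheme.{u}} (p : X ⟶ S) {ι : Type u} (Z : ι → Scheme.{u}) (f : ∀ i, Z i ⟶ X)

theorem isPullback_map {S' : Scheme.{u}} (g : S' ⟶ S) (i : ι) :
    IsPullback (pullback.fst (f i ≫ p) g)
      (pullback.map (f i ≫ p) g p g (f i) (𝟙 S') (𝟙 S) (Category.comp_id _)
        ((Category.comp_id _).trans (Category.id_comp _).symm))
      (f i) (pullback.fst p g) := by
  have hbig : IsPullback (pullback.map (f i ≫ p) g p g (f i) (𝟙 S') (𝟙 S) (Category.comp_id _)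
        ((Category.comp_id _).trans (Category.id_comp _).symm) ≫ pullback.snd p g)
      (pullback.fst (f i ≫ p) g) g (f i ≫ p) := by
    have h1 : pullback.map (f i ≫ p) g p g (f i) (𝟙 S') (𝟙 S) (Category.comp_id _)
        ((Category.comp_id _).trans (Category.id_comp _).symm) ≫ pullback.snd p g =
        pullback.snd (f i ≫ p) g := by
      rw [pullback.lift_snd, Category.comp_id]
    rw [h1]
    exact (IsPullback.of_hasPullback (f i ≫ p) g).flip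
  have hright : IsPullback (pullback.snd p g) (pullback.fst p g) g p :=
    (IsPullback.of_hasPullback p g).flip
  exact (IsPullback.of_right hbig (by rw [pullback.lift_fst]) hright).flip

theorem fiberMap_eq (s : S) (i : ι) :
    MoreMor.fiberMap (f i) p s =
      pullback.map (f i ≫ p) (S.fromSpecResidueField s) p (S.fromSpecResidueField s) (f i)
        (𝟙 _) (𝟙 S) (Category.comp_id _) ((Category.comp_id _).trans (Category.id_comp _).symm) := by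
  unfold MoreMor.fiberMap
  apply pullback.hom_ext
  · exact (pullback.lift_fst _ _ _).trans (pullback.lift_fst _ _ _).symm
  · refine (pullback.lift_snd _ _ _).trans (Eq.trans ?_ (pullback.lift_snd _ _ _).symm)
    exact (Category.comp_id _).symm

/-- EGA IV 11.10.9-style: universally schematically dominant iff fibrewise. -/
theorem univ_dominant_iff_fibrewise [IsLocallyNoetherian X] [∀ i, Flat (f i ≫ p)] :
    (∀ (S' : Scheme.{u}) (g : S' ⟶ S) (V : (pullback p g).Opens) (t : Γ(pullback p g, V)),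
      (∀ i, (pullback.map (f i ≫ p) g p g (f i) (𝟙 S') (𝟙 S) (Category.comp_id _)
        ((Category.comp_id _).trans (Category.id_comp _).symm)).app V t = 0) → t = 0) ↔
    ∀ s : S, ∀ (V : (p.fiber s).Opens) (t : Γ(p.fiber s, V)),
      (∀ i, (MoreMor.fiberMap (f i) p s).app V t = 0) → t = 0 := by
  constructor
  · intro h s V t ht
    refine h (Spec (S.residueField s)) (S.fromSpecResidueField s) V t fun i => ?_
    rw [← fiberMap_eq]
    exact ht i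
  · intro h S' g V t ht
    refine dominant_of_fibrewise f
      (fun i => pullback.map (f i ≫ p) g p g (f i) (𝟙 S') (𝟙 S) (Category.comp_id _)
        ((Category.comp_id _).trans (Category.id_comp _).symm))
      (fun i => pullback.fst (f i ≫ p) g) (IsPullback.of_hasPullback p g)
      (fun i => isPullback_map p Z f g i) ?_ V t ht
    intro s
    refine ⟨fun i => (f i ≫ p).fiber s, fun i => MoreMor.fiberMap (f i) p s,
      fun i => (f i ≫ p).fiberι s, fun i => ?_, h s⟩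
    change IsPullback ((f i ≫ p).fiberι s) (MoreMor.fiberMap (f i) p s) (f i) (p.fiberι s)
    rw [fiberMap_eq]
    exact isPullback_map p Z f (S.fromSpecResidueField s) i

end final

end Groth.Agent.Lib.Seat22.FibDom
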