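import Mathlib
import Groth.Agent.Lib.Seat22SepField4
import Groth.Agent.Lib.Helper18OmLS17
import Groth.Agent.Lib.Helper23PB
import Groth.Agent.Lib.Helper13ModBasis
import Groth.Agent.Lib.Helper2PullbackSec3
import Groth.Agent.Lib.Helper2QCoh

/-!
# Separating families over a field are universally separating: schemes (seat 22)
-/

set_option autoImplicit false
set_option linter.style.haveILetI false
universe u
open CategoryTheory CategoryTheory.Limits AlgebraicGeometry TopologicalSpace Opposite TensorProduct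
open Groth.Agent.Helper13PullbackUnit Groth.Agent.Helper18OmLS

namespace Groth.Agent.Lib.Seat22.SepFieldSch

open Groth.Agent.Lib.Seat22.Sep

section sections
variable {X : Scheme.{u}}

/-- the sections of a morphism of modules over an open, as a linear map. -/
noncomputable def secMap {F G : X.Modules} (φ : F ⟶ G) (V : X.Opens) :
    Γ(F, V) →ₗ[Γ(X, V)] Γ(G, V) where
  toFun := fun m => φ.app V m
  map_add' := fun x y => map_add _ x y
  map_smul' := fun r x => Scheme.Modules.Hom.app_smul φ r x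

@[simp] theorem secMap_apply {F G : X.Modules} (φ : F ⟶ G) (V : X.Opens) (m : Γ(F, V)) :
    secMap φ V m = φ.app V m := rfl

theorem app_res {F G : X.Modules} (φ : F ⟶ G) {U V : X.Opens} (hle : U ≤ V) (t : Γ(F, V)) :
    φ.app U (F.presheaf.map (homOfLE hle).op t) = G.presheaf.map (homOfLE hle).op (φ.app V t) :=
  congr($(φ.mapPresheaf.naturality (homOfLE hle).op) t)

theorem eq_zero_of_res_pow_smul {F : X.Modules} {U : X.Opens} (f : Γ(X, U)) (n : ℕ)
    (t : Γ(F, X.basicOpen f))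
    (h : (X.presheaf.map (homOfLE (X.basicOpen_le f)).op f) ^ n • t = 0) : t = 0 := by
  have hu : IsUnit ((X.presheaf.map (homOfLE (X.basicOpen_le f)).op f) ^ n) :=
    (X.toRingedSpace.isUnit_res_basicOpen f).pow n
  exact (hu.smul_eq_zero).mp h

/-- a separating family of quasi-coherent modules gives a separating family of sections over
every affine open. -/
theorem sep_sections (F : X.Modules) [F.IsQuasicoherent] {ι : Type u} (G : ι → X.Modules)
    (u : ∀ i, F ⟶ G i)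
    (h : ∀ (V : X.Opens) (t : Γ(F, V)), (∀ i, (u i).app V t = 0) → t = 0)
    {V : X.Opens} (hV : IsAffineOpen V) : Sep (fun i => secMap (u i) V) := by
  intro a w hw
  apply Groth.Agent.Lib.Helper2.QCoh.exists_pow_smul_eq_zero hV F a w
  apply h
  intro i
  obtain ⟨n, hn⟩ := hw i
  rw [app_res]
  apply eq_zero_of_res_pow_smul a n
  have h1 : a ^ n • (u i).app V w = 0 := hn
  rw [← map_pow, ← Scheme.Modules.map_smul, h1, map_zero]

end sections


section chart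
variable {k : Type u} [Field k] {X S' X' : Scheme.{u}} {p : X ⟶ Spec (CommRingCat.of k)}
  {q : S' ⟶ Spec (CommRingCat.of k)} {g : X' ⟶ X} {f' : X' ⟶ S'}

theorem isField_Γ_Spec : IsField Γ(Spec (CommRingCat.of k), ⊤) :=
  MulEquiv.isField (Field.toIsField k)
    (Scheme.ΓSpecIso (CommRingCat.of k)).commRingCatIsoToRingEquiv.toMulEquiv

open Groth.Agent.Lib.Helper2.PullbackSec in
/-- over a field: the sections over `g⁻¹V ∩ f'⁻¹T` of the pulled back family are separating. -/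
theorem sep_chart (hc : IsPullback g f' p q) (F : X.Modules) [F.IsQuasicoherent] {ι : Type u}
    (G : ι → X.Modules) (u : ∀ i, F ⟶ G i)
    (h : ∀ (V : X.Opens) (t : Γ(F, V)), (∀ i, (u i).app V t = 0) → t = 0)
    {V : X.Opens} (hV : IsAffineOpen V) {T : S'.Opens} (hT : IsAffineOpen T)
    (e1 : g ⁻¹ᵁ V ⊓ f' ⁻¹ᵁ T ≤ g ⁻¹ᵁ V) :
    letI : Algebra Γ(X, V) Γ(X', g ⁻¹ᵁ V ⊓ f' ⁻¹ᵁ T) :=
      (g.appLE V (g ⁻¹ᵁ V ⊓ f' ⁻¹ᵁ T) e1).hom.toAlgebra
    Sep (bc (fun i => secMap (u i) V) Γ(X', g ⁻¹ᵁ V ⊓ f' ⁻¹ᵁ T)) := by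
  have eV' : T ≤ q ⁻¹ᵁ ⊤ := fun _ _ => trivial
  have eU : V ≤ p ⁻¹ᵁ ⊤ := fun _ _ => trivial
  have hTop : IsAffineOpen (⊤ : (Spec (CommRingCat.of k)).Opens) := isAffineOpen_top _
  have e2 : g ⁻¹ᵁ V ⊓ f' ⁻¹ᵁ T ≤ f' ⁻¹ᵁ T := inf_le_right
  -- ring structures
  letI aRA : Algebra Γ(Spec (CommRingCat.of k), ⊤) Γ(X, V) := (p.appLE ⊤ V eU).hom.toAlgebra
  letI aRB : Algebra Γ(Spec (CommRingCat.of k), ⊤) Γ(S', T) := (q.appLE ⊤ T eV').hom.toAlgebra
  letI aAA' : Algebra Γ(X, V) Γ(X', g ⁻¹ᵁ V ⊓ f' ⁻¹ᵁ T) := (g.appLE V _ e1).hom.toAlgebra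
  letI aBA' : Algebra Γ(S', T) Γ(X', g ⁻¹ᵁ V ⊓ f' ⁻¹ᵁ T) := (f'.appLE T _ e2).hom.toAlgebra
  letI aRA' : Algebra Γ(Spec (CommRingCat.of k), ⊤) Γ(X', g ⁻¹ᵁ V ⊓ f' ⁻¹ᵁ T) :=
    ((g.appLE V _ e1).hom.comp (p.appLE ⊤ V eU).hom).toAlgebra
  haveI tRAA' : IsScalarTower Γ(Spec (CommRingCat.of k), ⊤) Γ(X, V)
      Γ(X', g ⁻¹ᵁ V ⊓ f' ⁻¹ᵁ T) :=
    IsScalarTower.of_algebraMap_eq (fun a => rfl)
  haveI tRBA' : IsScalarTower Γ(Spec (CommRingCat.of k), ⊤) Γ(S', T)
      Γ(X', g ⁻¹ᵁ V ⊓ f' ⁻¹ᵁ T) := by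
    refine IsScalarTower.of_algebraMap_eq (fun a => ?_)
    change (g.appLE V _ e1).hom ((p.appLE ⊤ V eU).hom a) =
      (f'.appLE T _ e2).hom ((q.appLE ⊤ T eV').hom a)
    have h1 := Scheme.Hom.appLE_comp_appLE g p ⊤ V _ eU e1
    have h2 := Scheme.Hom.appLE_comp_appLE f' q ⊤ T _ eV' e2
    have h3 : (p.appLE ⊤ V eU ≫ g.appLE V _ e1) = (q.appLE ⊤ T eV' ≫ f'.appLE T _ e2) := by
      rw [h1, h2]
      congr 1
      exact hc.w
    exact congrArg (fun φ => φ.hom a) h3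
  haveI hPO : Algebra.IsPushout Γ(Spec (CommRingCat.of k), ⊤) Γ(S', T) Γ(X, V)
      Γ(X', g ⁻¹ᵁ V ⊓ f' ⁻¹ᵁ T) :=
    algebra_isPushout hc eV' eU hTop hT hV e1 e2
  haveI hPO' : Algebra.IsPushout Γ(Spec (CommRingCat.of k), ⊤) Γ(X, V) Γ(S', T)
      Γ(X', g ⁻¹ᵁ V ⊓ f' ⁻¹ᵁ T) :=
    hPO.symm
  exact Sep.of_isPushout_of_isField (fun i => secMap (u i) V) (isField_Γ_Spec (k := k))
      (sep_sections F G u h hV) Γ(S', T) Γ(X', g ⁻¹ᵁ V ⊓ f' ⁻¹ᵁ T)

open Groth.Agent.Lib.Helper2.PullbackSec in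
/-- vanishing on a distinguished open of an affine chart where the sections are separating. -/
theorem chart_core (F : X.Modules) [F.IsQuasicoherent] {ι : Type u}
    (G : ι → X.Modules) [∀ i, (G i).IsQuasicoherent] (u : ∀ i, F ⟶ G i)
    {V : X.Opens} (hV : IsAffineOpen V) {U₀ : X'.Opens} (hU₀ : IsAffineOpen U₀)
    (e1 : U₀ ≤ g ⁻¹ᵁ V)
    (hsep : letI : Algebra Γ(X, V) Γ(X', U₀) := (g.appLE V U₀ e1).hom.toAlgebra
      Sep (bc (fun i => secMap (u i) V) Γ(X', U₀)))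
    (b : Γ(X', U₀)) (s : Γ((Scheme.Modules.pullback g).obj F, X'.basicOpen b))
    (hs : ∀ i, ((Scheme.Modules.pullback g).map (u i)).app (X'.basicOpen b) s = 0) : s = 0 := by
  letI aAA' : Algebra Γ(X, V) Γ(X', U₀) := (g.appLE V U₀ e1).hom.toAlgebra
  haveI : ((Scheme.Modules.pullback g).obj F).IsQuasicoherent := isQuasicoherent_pullback g F
  haveI : ∀ i, ((Scheme.Modules.pullback g).obj (G i)).IsQuasicoherent := fun i =>
    isQuasicoherent_pullback g (G i)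
  obtain ⟨n, s', hs'⟩ := Groth.Agent.Lib.Helper2.QCoh.exists_extension hU₀
    ((Scheme.Modules.pullback g).obj F) b s
  obtain ⟨e, he⟩ := exists_pullback_equiv g F e1 hV hU₀ rfl
  obtain ⟨w, rfl⟩ := e.surjective s'
  have hw : ∀ i, ∃ m : ℕ, b ^ m • bc (fun i => secMap (u i) V) Γ(X', U₀) i w = 0 := by
    intro i
    obtain ⟨ei, hei⟩ := exists_pullback_equiv g (G i) e1 hV hU₀ rfl
    have key : ∀ w : Γ(X', U₀) ⊗[Γ(X, V)] Γ(F, V),
        ei (bc (fun i => secMap (u i) V) Γ(X', U₀) i w) =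
          ((Scheme.Modules.pullback g).map (u i)).app U₀ (e w) := by
      intro w
      induction w using TensorProduct.induction_on with
      | zero => rw [map_zero, map_zero, map_zero, map_zero]
      | tmul b m =>
        rw [LinearMap.baseChange_tmul, hei, he, Scheme.Modules.Hom.app_smul,
          Groth.Agent.Lib.Helper23.PB.map_unitSec g (u i) e1 m]
        rfl
      | add x y hx hy =>
        rw [map_add, map_add, hx, hy, map_add, map_add]
    have hres : ((Scheme.Modules.pullback g).obj (G i)).presheaf.map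
        (homOfLE (X'.basicOpen_le b)).op (((Scheme.Modules.pullback g).map (u i)).app U₀ (e w)) =
          0 := by
      rw [← app_res, hs', Scheme.Modules.Hom.app_smul, hs i, smul_zero]
    obtain ⟨m, hm⟩ := Groth.Agent.Lib.Helper2.QCoh.exists_pow_smul_eq_zero hU₀
      ((Scheme.Modules.pullback g).obj (G i)) b _ hres
    refine ⟨m, ei.injective ?_⟩
    rw [map_smul, key, hm, map_zero]
  obtain ⟨N, hN⟩ := hsep b w hw
  apply eq_zero_of_res_pow_smul b (N + n)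
  rw [pow_add, mul_smul, ← hs', ← map_pow, ← Scheme.Modules.map_smul, ← map_smul, hN, map_zero,
    map_zero]

open Groth.Agent.Lib.Helper2.PullbackSec in
/-- **Separating families over a field are universally separating.** -/
theorem separating_pullback_over_field (hc : IsPullback g f' p q) (F : X.Modules)
    [F.IsQuasicoherent] {ι : Type u}
    (G : ι → X.Modules) [∀ i, (G i).IsQuasicoherent] (u : ∀ i, F ⟶ G i)
    (h : ∀ (V : X.Opens) (t : Γ(F, V)), (∀ i, (u i).app V t = 0) → t = 0)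
    (O : X'.Opens) (s : Γ((Scheme.Modules.pullback g).obj F, O))
    (hs : ∀ i, ((Scheme.Modules.pullback g).map (u i)).app O s = 0) : s = 0 := by
  let 𝓑 : Set X'.Opens := {W | ∃ (V : X.Opens) (T : S'.Opens), IsAffineOpen V ∧ IsAffineOpen T ∧
    ∃ b : Γ(X', g ⁻¹ᵁ V ⊓ f' ⁻¹ᵁ T), W = X'.basicOpen b}
  have hB : Opens.IsBasis (Set.range (Subtype.val : 𝓑 → X'.Opens)) := by
    rw [Subtype.range_coe, TopologicalSpace.Opens.isBasis_iff_nbhd]
    intro O' x hxO'
    obtain ⟨V, hV, hxV, -⟩ := exists_isAffineOpen_mem_and_subset (x := g x) (U := ⊤) trivial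
    obtain ⟨T, hT, hxT, -⟩ := exists_isAffineOpen_mem_and_subset (x := f' x) (U := ⊤) trivial
    have hU₀ : IsAffineOpen (g ⁻¹ᵁ V ⊓ f' ⁻¹ᵁ T) :=
      isAffineOpen_inf_preimage hc (V := ⊤) (fun _ _ => trivial) (fun _ _ => trivial)
        (isAffineOpen_top _) hT hV
    have hx0 : x ∈ g ⁻¹ᵁ V ⊓ f' ⁻¹ᵁ T := ⟨hxV, hxT⟩
    obtain ⟨b, hb1, hb2⟩ := hU₀.exists_basicOpen_le (V := O') ⟨x, hxO'⟩ hx0
    exact ⟨X'.basicOpen b, ⟨V, T, hV, hT, b, rfl⟩, hb2, hb1⟩
  refine Groth.Agent.Helper13ModBasis.section_ext_basis (Subtype.val : 𝓑 → X'.Opens) hB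
    ((Scheme.Modules.pullback g).obj F) s 0 ?_
  rintro ⟨W, V, T, hV, hT, b, rfl⟩ hle
  change ((Scheme.Modules.pullback g).obj F).presheaf.map (homOfLE hle).op s =
    ((Scheme.Modules.pullback g).obj F).presheaf.map (homOfLE hle).op 0
  rw [map_zero]
  have hU₀ : IsAffineOpen (g ⁻¹ᵁ V ⊓ f' ⁻¹ᵁ T) :=
    isAffineOpen_inf_preimage hc (V := ⊤) (fun _ _ => trivial) (fun _ _ => trivial)
      (isAffineOpen_top _) hT hV
  refine chart_core F G u hV hU₀ inf_le_left (sep_chart hc F G u h hV hT inf_le_left) b _ ?_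
  intro i
  rw [app_res, hs i, map_zero]

end chart

end Groth.Agent.Lib.Seat22.SepFieldSch
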