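import Mathlib
import Groth.Agent.Lib.Seat22FibDom
import Groth.Agent.Lib.Seat22SepFieldSch
import Groth.Agent.Lib.Helper2FlatOver
import Groth.Agent.Lib.Helper23FinType2
import Groth.Prelude.Def_FlatMod2
import Groth.Prelude.Def_Coh

/-!
# Separating families of module homomorphisms: fibrewise implies universally (seat 22)
-/

set_option autoImplicit false
set_option linter.style.haveILetI false
universe u
open CategoryTheory CategoryTheory.Limits AlgebraicGeometry TopologicalSpace Opposite TensorProduct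
open Groth.Agent.Helper13PullbackUnit Groth.Agent.Helper18OmLS

namespace Groth.Agent.Lib.Seat22.FibMod

open Groth.Agent.Lib.Seat22.Sep Groth.Agent.Lib.Seat22.SepFieldSch Groth.Agent.Lib.Seat22.FibDom

section converse
variable {X X' : Scheme.{u}} (g : X' ⟶ X)

/-- compatibility of the base change of the section maps with the pulled back maps. -/
theorem equiv_bc_key {F G : X.Modules} [F.IsQuasicoherent] [G.IsQuasicoherent] (φ : F ⟶ G)
    {V : X.Opens} {U₀ : X'.Opens} (e1 : U₀ ≤ g ⁻¹ᵁ V)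
    [Algebra Γ(X, V) Γ(X', U₀)]
    (_halg : algebraMap Γ(X, V) Γ(X', U₀) = (g.appLE V U₀ e1).hom)
    (e : Γ(X', U₀) ⊗[Γ(X, V)] Γ(F, V) ≃ₗ[Γ(X', U₀)] Γ((Scheme.Modules.pullback g).obj F, U₀))
    (he : ∀ (b : Γ(X', U₀)) (m : Γ(F, V)), e (b ⊗ₜ m) = b • unitSec g F e1 m)
    (e' : Γ(X', U₀) ⊗[Γ(X, V)] Γ(G, V) ≃ₗ[Γ(X', U₀)] Γ((Scheme.Modules.pullback g).obj G, U₀))
    (he' : ∀ (b : Γ(X', U₀)) (m : Γ(G, V)), e' (b ⊗ₜ m) = b • unitSec g G e1 m)
    (w : Γ(X', U₀) ⊗[Γ(X, V)] Γ(F, V)) :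
    e' ((secMap φ V).baseChange Γ(X', U₀) w) =
      ((Scheme.Modules.pullback g).map φ).app U₀ (e w) := by
  induction w using TensorProduct.induction_on with
  | zero => rw [map_zero, map_zero, map_zero, map_zero]
  | tmul b m =>
    rw [LinearMap.baseChange_tmul, he', he, Scheme.Modules.Hom.app_smul,
      Groth.Agent.Lib.Helper23.PB.map_unitSec g φ e1 m]
    rfl
  | add x y hx hy =>
    rw [map_add, map_add, hx, hy, map_add, map_add]

open Groth.Agent.Lib.Helper2.PullbackSec in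
/-- a separating pulled-back family gives separating sections on affine charts. -/
theorem sep_of_separating (F : X.Modules) [F.IsQuasicoherent] {ι : Type u}
    (G : ι → X.Modules) [∀ i, (G i).IsQuasicoherent] (u : ∀ i, F ⟶ G i)
    (h' : ∀ (O : X'.Opens) (t : Γ((Scheme.Modules.pullback g).obj F, O)),
      (∀ i, ((Scheme.Modules.pullback g).map (u i)).app O t = 0) → t = 0)
    {V : X.Opens} (hV : IsAffineOpen V) {U₀ : X'.Opens} (hU₀ : IsAffineOpen U₀)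
    (e1 : U₀ ≤ g ⁻¹ᵁ V) :
    letI : Algebra Γ(X, V) Γ(X', U₀) := (g.appLE V U₀ e1).hom.toAlgebra
    Sep (bc (fun i => secMap (u i) V) Γ(X', U₀)) := by
  letI aAA' : Algebra Γ(X, V) Γ(X', U₀) := (g.appLE V U₀ e1).hom.toAlgebra
  haveI : ((Scheme.Modules.pullback g).obj F).IsQuasicoherent := isQuasicoherent_pullback g F
  haveI : ∀ i, ((Scheme.Modules.pullback g).obj (G i)).IsQuasicoherent := fun i =>
    isQuasicoherent_pullback g (G i)
  have hsep := sep_sections ((Scheme.Modules.pullback g).obj F)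
    (fun i => (Scheme.Modules.pullback g).obj (G i))
    (fun i => (Scheme.Modules.pullback g).map (u i)) h' hU₀
  obtain ⟨e, he⟩ := exists_pullback_equiv g F e1 hV hU₀ rfl
  intro a w hw
  have hw' : ∀ i, ∃ n : ℕ,
      a ^ n • secMap ((Scheme.Modules.pullback g).map (u i)) U₀ (e w) = 0 := by
    intro i
    obtain ⟨ei, hei⟩ := exists_pullback_equiv g (G i) e1 hV hU₀ rfl
    obtain ⟨n, hn⟩ := hw i
    refine ⟨n, ?_⟩
    have key := equiv_bc_key g (u i) e1 rfl e he ei hei w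
    rw [secMap_apply, ← key]
    have hn' : a ^ n • (secMap (u i) V).baseChange Γ(X', U₀) w = 0 := hn
    rw [← map_smul, hn', map_zero]
  obtain ⟨N, hN⟩ := hsep a (e w) hw'
  refine ⟨N, e.injective ?_⟩
  rw [map_smul, hN, map_zero]

end converse

section relative
variable {X S : Scheme.{u}} {p : X ⟶ S}

open Groth.Agent.Lib.Helper2.PullbackSec in
/-- the fibre condition of the algebraic theorem, from separating sections on the charts of the
fibres. -/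
theorem fibreCond_of_sep {W : S.Opens} (hW : IsAffineOpen W) {V : X.Opens} (hV : IsAffineOpen V)
    (eU : V ≤ p ⁻¹ᵁ W)
    {M : Type u} [AddCommGroup M] [Module Γ(X, V) M] {ι' : Type u}
    {G' : ι' → Type u} [∀ i, AddCommGroup (G' i)] [∀ i, Module Γ(X, V) (G' i)]
    (φ : ∀ i, M →ₗ[Γ(X, V)] G' i)
    (hsep : ∀ s : S, s ∈ W →
      letI : Algebra Γ(X, V)
          Γ(p.fiber s, p.fiberι s ⁻¹ᵁ V ⊓ p.fiberToSpecResidueField s ⁻¹ᵁ ⊤) :=
        ((p.fiberι s).appLE V _ inf_le_left).hom.toAlgebra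
      Sep (bc φ Γ(p.fiber s, p.fiberι s ⁻¹ᵁ V ⊓ p.fiberToSpecResidueField s ⁻¹ᵁ ⊤)))
    (𝔭 : Ideal Γ(S, W)) [𝔭.IsPrime] :
    letI : Algebra Γ(S, W) Γ(X, V) := (p.appLE W V eU).hom.toAlgebra
    Groth.Agent.Lib.Seat22.Fib.FibreCond (A := Γ(S, W)) φ 𝔭 := by
  letI aAB : Algebra Γ(S, W) Γ(X, V) := (p.appLE W V eU).hom.toAlgebra
  -- the point
  have hsW : hW.fromSpec ⟨𝔭, inferInstance⟩ ∈ W := by
    have : hW.fromSpec ⟨𝔭, inferInstance⟩ ∈ hW.fromSpec.opensRange := ⟨_, rfl⟩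
    rwa [hW.opensRange_fromSpec] at this
  obtain ⟨s, hs⟩ : ∃ s : S, s = hW.fromSpec ⟨𝔭, inferInstance⟩ := ⟨_, rfl⟩
  have hsW' : s ∈ W := hs ▸ hsW
  have hprime : (hW.primeIdealOf ⟨s, hsW'⟩).asIdeal = 𝔭 := by
    subst hs
    rw [primeIdealOf_fromSpec hW ⟨𝔭, inferInstance⟩ hsW]
  have hcs : IsPullback (p.fiberι s) (p.fiberToSpecResidueField s) p
      (S.fromSpecResidueField s) := IsPullback.of_hasPullback _ _
  have eV'' : (⊤ : (Spec (S.residueField s)).Opens) ≤ (S.fromSpecResidueField s) ⁻¹ᵁ W := by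
    intro x _
    change (S.fromSpecResidueField s) x ∈ W
    rw [Scheme.fromSpecResidueField_apply]
    exact hsW'
  have hTop : IsAffineOpen (⊤ : (Spec (S.residueField s)).Opens) := isAffineOpen_top _
  have e1 : p.fiberι s ⁻¹ᵁ V ⊓ p.fiberToSpecResidueField s ⁻¹ᵁ ⊤ ≤ p.fiberι s ⁻¹ᵁ V :=
    inf_le_left
  have e2 : p.fiberι s ⁻¹ᵁ V ⊓ p.fiberToSpecResidueField s ⁻¹ᵁ ⊤ ≤
      p.fiberToSpecResidueField s ⁻¹ᵁ ⊤ := inf_le_right
  letI aAK : Algebra Γ(S, W) Γ(Spec (S.residueField s), ⊤) :=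
    ((S.fromSpecResidueField s).appLE W ⊤ eV'').hom.toAlgebra
  letI aBX : Algebra Γ(X, V)
      Γ(p.fiber s, p.fiberι s ⁻¹ᵁ V ⊓ p.fiberToSpecResidueField s ⁻¹ᵁ ⊤) :=
    ((p.fiberι s).appLE V _ e1).hom.toAlgebra
  letI aKX : Algebra Γ(Spec (S.residueField s), ⊤)
      Γ(p.fiber s, p.fiberι s ⁻¹ᵁ V ⊓ p.fiberToSpecResidueField s ⁻¹ᵁ ⊤) :=
    ((p.fiberToSpecResidueField s).appLE ⊤ _ e2).hom.toAlgebra
  letI aAX : Algebra Γ(S, W)
      Γ(p.fiber s, p.fiberι s ⁻¹ᵁ V ⊓ p.fiberToSpecResidueField s ⁻¹ᵁ ⊤) :=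
    (((p.fiberι s).appLE V _ e1).hom.comp (p.appLE W V eU).hom).toAlgebra
  haveI t1 : IsScalarTower Γ(S, W) Γ(X, V)
      Γ(p.fiber s, p.fiberι s ⁻¹ᵁ V ⊓ p.fiberToSpecResidueField s ⁻¹ᵁ ⊤) :=
    IsScalarTower.of_algebraMap_eq (fun a => rfl)
  haveI t2 : IsScalarTower Γ(S, W) Γ(Spec (S.residueField s), ⊤)
      Γ(p.fiber s, p.fiberι s ⁻¹ᵁ V ⊓ p.fiberToSpecResidueField s ⁻¹ᵁ ⊤) := by
    refine IsScalarTower.of_algebraMap_eq (fun a => ?_)
    change ((p.fiberι s).appLE V _ e1).hom ((p.appLE W V eU).hom a) =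
      ((p.fiberToSpecResidueField s).appLE ⊤ _ e2).hom
        (((S.fromSpecResidueField s).appLE W ⊤ eV'').hom a)
    have h1 := Scheme.Hom.appLE_comp_appLE (p.fiberι s) p W V _ eU e1
    have h2 := Scheme.Hom.appLE_comp_appLE (p.fiberToSpecResidueField s)
      (S.fromSpecResidueField s) W ⊤ _ eV'' e2
    have h3 : (p.appLE W V eU ≫ (p.fiberι s).appLE V _ e1) =
        ((S.fromSpecResidueField s).appLE W ⊤ eV'' ≫
          (p.fiberToSpecResidueField s).appLE ⊤ _ e2) := by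
      rw [h1, h2]
      congr 1
      exact hcs.w
    exact congrArg (fun φ => φ.hom a) h3
  have hPO : Algebra.IsPushout Γ(S, W) Γ(Spec (S.residueField s), ⊤) Γ(X, V)
      Γ(p.fiber s, p.fiberι s ⁻¹ᵁ V ⊓ p.fiberToSpecResidueField s ⁻¹ᵁ ⊤) :=
    algebra_isPushout hcs eV'' eU hW hTop hV e1 e2
  have hsep' : Sep (bc φ
      Γ(p.fiber s, p.fiberι s ⁻¹ᵁ V ⊓ p.fiberToSpecResidueField s ⁻¹ᵁ ⊤)) := hsep s hsW'
  have hker : RingHom.ker (algebraMap Γ(S, W) Γ(Spec (S.residueField s), ⊤)) = 𝔭 :=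
    (ker_appLE_fromSpecResidueField hW s hsW' eV'').trans hprime
  exact ⟨Γ(Spec (S.residueField s), ⊤), inferInstance, aAK,
    Γ(p.fiber s, p.fiberι s ⁻¹ᵁ V ⊓ p.fiberToSpecResidueField s ⁻¹ᵁ ⊤), inferInstance, aAX, aBX,
    aKX, t1, t2, isField_Γ_Spec_residueField s, hker, hPO.symm, hsep'⟩

end relative

section relative2
variable {X S S' X' : Scheme.{u}} {p : X ⟶ S} {g : S' ⟶ S} {g' : X' ⟶ X} {p' : X' ⟶ S'}

/-- the family pulled back to every fibre is separating. -/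
def FibrewiseSeparating (p : X ⟶ S) (F : X.Modules) {ι : Type u} (G : ι → X.Modules)
    (u : ∀ i, F ⟶ G i) : Prop :=
  ∀ s : S, ∀ (O : (p.fiber s).Opens) (t : Γ((Scheme.Modules.pullback (p.fiberι s)).obj F, O)),
    (∀ i, ((Scheme.Modules.pullback (p.fiberι s)).map (u i)).app O t = 0) → t = 0

open Groth.Agent.Lib.Helper2.PullbackSec in
/-- fibrewise separating implies separating sections on the charts of `X ×_S S'`. -/
theorem sep_chart_rel [IsLocallyNoetherian X] (hc : IsPullback g' p' p g)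
    (F : X.Modules) [F.IsQuasicoherent] [SheafOfModules.IsFiniteType (R := X.ringCatSheaf) F]
    {ι : Type u} (G : ι → X.Modules) [∀ i, (G i).IsQuasicoherent]
    (hG : ∀ i, FlatMod.IsFlatOver p (G i)) (u : ∀ i, F ⟶ G i)
    (hfib : FibrewiseSeparating p F G u)
    {W : S.Opens} (hW : IsAffineOpen W) {V : X.Opens} (hV : IsAffineOpen V) {T : S'.Opens}
    (hT : IsAffineOpen T) (eU : V ≤ p ⁻¹ᵁ W) (eV' : T ≤ g ⁻¹ᵁ W)
    (e1 : g' ⁻¹ᵁ V ⊓ p' ⁻¹ᵁ T ≤ g' ⁻¹ᵁ V) :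
    letI : Algebra Γ(X, V) Γ(X', g' ⁻¹ᵁ V ⊓ p' ⁻¹ᵁ T) := (g'.appLE V _ e1).hom.toAlgebra
    Sep (bc (fun i => secMap (u i) V) Γ(X', g' ⁻¹ᵁ V ⊓ p' ⁻¹ᵁ T)) := by
  have e2 : g' ⁻¹ᵁ V ⊓ p' ⁻¹ᵁ T ≤ p' ⁻¹ᵁ T := inf_le_right
  letI aAB : Algebra Γ(S, W) Γ(X, V) := (p.appLE W V eU).hom.toAlgebra
  letI aAA' : Algebra Γ(S, W) Γ(S', T) := (g.appLE W T eV').hom.toAlgebra
  letI aBB' : Algebra Γ(X, V) Γ(X', g' ⁻¹ᵁ V ⊓ p' ⁻¹ᵁ T) := (g'.appLE V _ e1).hom.toAlgebra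
  letI aA'B' : Algebra Γ(S', T) Γ(X', g' ⁻¹ᵁ V ⊓ p' ⁻¹ᵁ T) := (p'.appLE T _ e2).hom.toAlgebra
  letI aAB' : Algebra Γ(S, W) Γ(X', g' ⁻¹ᵁ V ⊓ p' ⁻¹ᵁ T) :=
    ((g'.appLE V _ e1).hom.comp (p.appLE W V eU).hom).toAlgebra
  haveI t1 : IsScalarTower Γ(S, W) Γ(X, V) Γ(X', g' ⁻¹ᵁ V ⊓ p' ⁻¹ᵁ T) :=
    IsScalarTower.of_algebraMap_eq (fun a => rfl)
  haveI t2 : IsScalarTower Γ(S, W) Γ(S', T) Γ(X', g' ⁻¹ᵁ V ⊓ p' ⁻¹ᵁ T) := by
    refine IsScalarTower.of_algebraMap_eq (fun a => ?_)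
    change (g'.appLE V _ e1).hom ((p.appLE W V eU).hom a) =
      (p'.appLE T _ e2).hom ((g.appLE W T eV').hom a)
    have h1 := Scheme.Hom.appLE_comp_appLE g' p W V _ eU e1
    have h2 := Scheme.Hom.appLE_comp_appLE p' g W T _ eV' e2
    have h3 : (p.appLE W V eU ≫ g'.appLE V _ e1) = (g.appLE W T eV' ≫ p'.appLE T _ e2) := by
      rw [h1, h2]
      congr 1
      exact hc.w
    exact congrArg (fun φ => φ.hom a) h3
  haveI hPO : Algebra.IsPushout Γ(S, W) Γ(X, V) Γ(S', T) Γ(X', g' ⁻¹ᵁ V ⊓ p' ⁻¹ᵁ T) :=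
    (algebra_isPushout hc eV' eU hW hT hV e1 e2).symm
  -- Noetherian, finite, flat
  haveI : IsNoetherianRing Γ(X, V) := IsLocallyNoetherian.component_noetherian ⟨V, hV⟩
  haveI : Module.Finite Γ(X, V) Γ(F, V) :=
    Groth.Agent.Lib.Helper23.FinType.finite_of_isFiniteType F hV
  letI mAG : ∀ i : ι, Module Γ(S, W) Γ(G i, V) := fun i =>
    Module.compHom Γ(G i, V) (p.appLE W V eU).hom
  haveI tAG : ∀ i : ι, IsScalarTower Γ(S, W) Γ(X, V) Γ(G i, V) := by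
    intro i
    refine ⟨fun a b m => ?_⟩
    change ((p.appLE W V eU).hom a * b) • m = (p.appLE W V eU).hom a • (b • m)
    rw [mul_smul]
  haveI flAG : ∀ i : ι, Module.Flat Γ(S, W) Γ(G i, V) := fun i =>
    Groth.Agent.Lib.Helper2.FlatOver.flat_sections_of_isFlatOverAt p (G i) hV hW eU
      (fun x _ => hG i x)
  refine Groth.Agent.Lib.Seat22.Fib.sep_of_fibrewise (A := Γ(S, W))
    (fun i => secMap (u i) V) (fun 𝔭 _ => ?_) Γ(S', T) Γ(X', g' ⁻¹ᵁ V ⊓ p' ⁻¹ᵁ T)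
  refine fibreCond_of_sep hW hV eU (fun i => secMap (u i) V) (fun s hs => ?_) 𝔭
  have hcs : IsPullback (p.fiberι s) (p.fiberToSpecResidueField s) p
      (S.fromSpecResidueField s) := IsPullback.of_hasPullback _ _
  have eV'' : (⊤ : (Spec (S.residueField s)).Opens) ≤ (S.fromSpecResidueField s) ⁻¹ᵁ W := by
    intro x _
    change (S.fromSpecResidueField s) x ∈ W
    rw [Scheme.fromSpecResidueField_apply]
    exact hs
  have hUs : IsAffineOpen (p.fiberι s ⁻¹ᵁ V ⊓ p.fiberToSpecResidueField s ⁻¹ᵁ ⊤) :=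
    isAffineOpen_inf_preimage hcs eV'' eU hW (isAffineOpen_top _) hV
  exact sep_of_separating (p.fiberι s) F G u (hfib s) hV hUs inf_le_left

open Groth.Agent.Lib.Helper2.PullbackSec in
/-- **Fibrewise separating implies universally separating.** -/
theorem separating_of_fibrewise [IsLocallyNoetherian X] (hc : IsPullback g' p' p g)
    (F : X.Modules) [F.IsQuasicoherent] [SheafOfModules.IsFiniteType (R := X.ringCatSheaf) F]
    {ι : Type u} (G : ι → X.Modules) [∀ i, (G i).IsQuasicoherent]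
    (hG : ∀ i, FlatMod.IsFlatOver p (G i)) (u : ∀ i, F ⟶ G i)
    (hfib : FibrewiseSeparating p F G u)
    (O : X'.Opens) (t : Γ((Scheme.Modules.pullback g').obj F, O))
    (ht : ∀ i, ((Scheme.Modules.pullback g').map (u i)).app O t = 0) : t = 0 := by
  let 𝓑 : Set X'.Opens := {U | ∃ (W : S.Opens) (V : X.Opens) (T : S'.Opens), IsAffineOpen W ∧
    IsAffineOpen V ∧ IsAffineOpen T ∧ V ≤ p ⁻¹ᵁ W ∧ T ≤ g ⁻¹ᵁ W ∧
    ∃ b : Γ(X', g' ⁻¹ᵁ V ⊓ p' ⁻¹ᵁ T), U = X'.basicOpen b}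
  have hB : Opens.IsBasis (Set.range (Subtype.val : 𝓑 → X'.Opens)) := by
    rw [Subtype.range_coe, TopologicalSpace.Opens.isBasis_iff_nbhd]
    intro O' x hxO'
    obtain ⟨W, hW, hxW, -⟩ := exists_isAffineOpen_mem_and_subset (x := p (g' x)) (U := ⊤) trivial
    obtain ⟨V, hV, hxV, hVW⟩ := exists_isAffineOpen_mem_and_subset (x := g' x) (U := p ⁻¹ᵁ W) hxW
    have hxT0 : p' x ∈ g ⁻¹ᵁ W := by
      change g (p' x) ∈ W
      have hw := congrArg (fun φ => φ.base x) hc.w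
      have hw' : p (g' x) = g (p' x) := by simpa using hw
      rw [← hw']
      exact hxW
    obtain ⟨T, hT, hxT, hTW⟩ := exists_isAffineOpen_mem_and_subset (x := p' x) (U := g ⁻¹ᵁ W) hxT0
    have hU₀ : IsAffineOpen (g' ⁻¹ᵁ V ⊓ p' ⁻¹ᵁ T) :=
      isAffineOpen_inf_preimage hc hTW hVW hW hT hV
    have hx0 : x ∈ g' ⁻¹ᵁ V ⊓ p' ⁻¹ᵁ T := ⟨hxV, hxT⟩
    obtain ⟨b, hb1, hb2⟩ := hU₀.exists_basicOpen_le (V := O') ⟨x, hxO'⟩ hx0
    exact ⟨X'.basicOpen b, ⟨W, V, T, hW, hV, hT, hVW, hTW, b, rfl⟩, hb2, hb1⟩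
  refine Groth.Agent.Helper13ModBasis.section_ext_basis (Subtype.val : 𝓑 → X'.Opens) hB
    ((Scheme.Modules.pullback g').obj F) t 0 ?_
  rintro ⟨U, W, V, T, hW, hV, hT, hVW, hTW, b, rfl⟩ hle
  change ((Scheme.Modules.pullback g').obj F).presheaf.map (homOfLE hle).op t =
    ((Scheme.Modules.pullback g').obj F).presheaf.map (homOfLE hle).op 0
  rw [map_zero]
  have hU₀ : IsAffineOpen (g' ⁻¹ᵁ V ⊓ p' ⁻¹ᵁ T) :=
    isAffineOpen_inf_preimage hc hTW hVW hW hT hV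
  refine chart_core F G u hV hU₀ inf_le_left
    (sep_chart_rel hc F G hG u hfib hW hV hT hVW hTW inf_le_left) b _ ?_
  intro i
  rw [app_res, ht i, map_zero]

end relative2

section final
variable {X S : Scheme.{u}} (p : X ⟶ S)

/-- EGA IV 11.10.9-style: universally separating iff fibrewise separating. -/
theorem univ_separating_iff_fibrewise [IsLocallyNoetherian X]
    (F : X.Modules) [F.IsQuasicoherent] [SheafOfModules.IsFiniteType (R := X.ringCatSheaf) F]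
    {ι : Type u} (G : ι → X.Modules) [∀ i, (G i).IsQuasicoherent]
    (hG : ∀ i, FlatMod.IsFlatOver p (G i)) (u : ∀ i, F ⟶ G i) :
    (∀ (S' : Scheme.{u}) (g : S' ⟶ S) (V : (pullback p g).Opens)
      (t : Γ((Scheme.Modules.pullback (pullback.fst p g)).obj F, V)),
      (∀ i, ((Scheme.Modules.pullback (pullback.fst p g)).map (u i)).app V t = 0) → t = 0) ↔
    ∀ s : S, ∀ (V : (p.fiber s).Opens)
      (t : Γ((Scheme.Modules.pullback (p.fiberι s)).obj F, V)),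
      (∀ i, ((Scheme.Modules.pullback (p.fiberι s)).map (u i)).app V t = 0) → t = 0 := by
  constructor
  · intro h s V t ht
    exact h (Spec (S.residueField s)) (S.fromSpecResidueField s) V t ht
  · intro h S' g V t ht
    exact separating_of_fibrewise (IsPullback.of_hasPullback p g) F G hG u h V t ht

end final

end Groth.Agent.Lib.Seat22.FibMod
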