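import Mathlib
import Groth.Agent.Lib.Seat22SepCore
import Groth.Agent.Lib.Helper2GenFree2

/-!
# Separating families and flat base change (seat 22), part 1

`JInj v P`: the module `P` is *injective for the family* `v`, i.e. an element of `L ⊗ P` killed by
all `v i ⊗ P` is zero.  Basic permanence properties, and the key localisation lemma: if `Q` is free
away from `f` and the family `v` is separating over `D(f)`, then an element of `L ⊗ Q` killed by all
`v i ⊗ Q` is killed by a power of `f`.
-/

set_option autoImplicit false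
set_option linter.style.haveILetI false
universe u
open TensorProduct

namespace Groth.Agent.Lib.Seat22.FlatSep

open Groth.Agent.Lib.Seat22.Sep Groth.Agent.Lib.Helper2.GenFree

section defs
variable {R : Type*} [CommRing R] {L : Type*} [AddCommGroup L] [Module R L] {ι : Type*}
  {N : ι → Type*} [∀ i, AddCommGroup (N i)] [∀ i, Module R (N i)]

/-- `P` is injective for the family `v`. -/
def JInj (v : ∀ i, L →ₗ[R] N i) (P : Type*) [AddCommGroup P] [Module R P] : Prop :=
  ∀ w : L ⊗[R] P, (∀ i, (v i).rTensor P w = 0) → w = 0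

variable {v : ∀ i, L →ₗ[R] N i}

/-- if a jointly injective (after tensoring with `L`) family of maps goes from `P` to modules which
are injective for `v`, then `P` is injective for `v`. -/
theorem JInj.of_family {P : Type*} [AddCommGroup P] [Module R P] {J : Type*} {P' : J → Type*}
    [∀ j, AddCommGroup (P' j)] [∀ j, Module R (P' j)] (φ : ∀ j, P →ₗ[R] P' j)
    (hφ : ∀ w : L ⊗[R] P, (∀ j, (φ j).lTensor L w = 0) → w = 0) (h : ∀ j, JInj v (P' j)) :
    JInj v P := by
  intro w hw
  apply hφ
  intro j
  apply h j
  intro i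
  have h1 := congr($(LinearMap.rTensor_comp_lTensor L (v i) (φ j)) w)
  have h2 := congr($(LinearMap.lTensor_comp_rTensor L (v i) (φ j)) w)
  rw [LinearMap.comp_apply] at h1 h2
  rw [h1, ← h2, hw i, map_zero]

theorem JInj.of_linearEquiv {P P' : Type*} [AddCommGroup P] [Module R P] [AddCommGroup P']
    [Module R P'] (e : P ≃ₗ[R] P') (h : JInj v P') : JInj v P := by
  refine JInj.of_family (J := Unit) (P' := fun _ => P') (fun _ => e.toLinearMap) ?_ (fun _ => h)
  intro w hw
  have h1 : (LinearEquiv.lTensor L e) w = 0 := hw ()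
  exact (LinearEquiv.lTensor L e).injective (h1.trans (map_zero _).symm)

theorem JInj.finsupp {P : Type*} [AddCommGroup P] [Module R P] (B : Type*) (h : JInj v P) :
    JInj v (B →₀ P) := by
  classical
  refine JInj.of_family (J := B) (P' := fun _ => P) (fun b => Finsupp.lapply b) ?_ (fun _ => h)
  intro w hw
  apply (TensorProduct.finsuppRight R R L P B).injective
  rw [map_zero]
  ext b : 1
  rw [TensorProduct.finsuppRight_apply, hw b]
  rfl

/-- the left-handed form. -/
theorem JInj.left {P : Type*} [AddCommGroup P] [Module R P] (h : JInj v P) (w : P ⊗[R] L)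
    (hw : ∀ i, (v i).lTensor P w = 0) : w = 0 := by
  apply (TensorProduct.comm R P L).injective
  rw [map_zero]
  apply h
  intro i
  have key : ∀ w : P ⊗[R] L, (v i).rTensor P (TensorProduct.comm R P L w) =
      TensorProduct.comm R P (N i) ((v i).lTensor P w) := by
    intro w
    induction w using TensorProduct.induction_on with
    | zero => simp
    | tmul p l => simp
    | add x y hx hy => simp only [map_add, hx, hy]
  rw [key, hw i, map_zero]

end defs

section loc
variable {R : Type*} [CommRing R] {L : Type*} [AddCommGroup L] [Module R L] {ι : Type*}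
  {N : ι → Type*} [∀ i, AddCommGroup (N i)] [∀ i, Module R (N i)] {v : ∀ i, L →ₗ[R] N i}

/-- `l ↦ l ⊗ 1`, the localisation map in right-handed form. -/
noncomputable def rmk (R : Type*) [CommRing R] (R' : Type*) [CommRing R'] [Algebra R R'] (T : Type*) [AddCommGroup T]
    [Module R T] : T →ₗ[R] T ⊗[R] R' :=
  (TensorProduct.comm R R' T).toLinearMap ∘ₗ TensorProduct.mk R R' T 1

@[simp] theorem rmk_apply (R' : Type*) [CommRing R'] [Algebra R R'] (T : Type*) [AddCommGroup T]
    [Module R T] (t : T) : rmk R R' T t = t ⊗ₜ[R] (1 : R') := rfl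

instance rmk_isLocalizedModule (S : Submonoid R) (R' : Type*) [CommRing R'] [Algebra R R']
    [IsLocalization S R'] (T : Type*) [AddCommGroup T] [Module R T] :
    IsLocalizedModule S (rmk R R' T) :=
  IsLocalizedModule.of_linearEquiv S (TensorProduct.mk R R' T 1) (TensorProduct.comm R R' T)

/-- a family separating over `D(f)`: the localisation `R_f` is injective for it. -/
theorem JInj.away {f : R} (h : SepAt v f) (R' : Type*) [CommRing R'] [Algebra R R']
    [IsLocalization.Away f R'] : JInj v R' := by
  intro w hw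
  obtain ⟨⟨l, s⟩, hls⟩ := IsLocalizedModule.surj (Submonoid.powers f) (rmk R R' L) w
  have hs : ∀ i, ∃ n : ℕ, f ^ n • v i l = 0 := by
    intro i
    have h1 : rmk R R' (N i) (v i l) = 0 := by
      have h2 : (v i).rTensor R' (rmk R R' L l) = rmk R R' (N i) (v i l) := rfl
      rw [← h2, ← hls, LinearMap.map_smul_of_tower, hw i, smul_zero]
    obtain ⟨⟨_, n, rfl⟩, hn⟩ :=
      (IsLocalizedModule.eq_zero_iff (Submonoid.powers f) (rmk R R' (N i))).mp h1
    exact ⟨n, hn⟩
  obtain ⟨n, hn⟩ := h l hs
  have h3 : rmk R R' L l = 0 :=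
    (IsLocalizedModule.eq_zero_iff (Submonoid.powers f) (rmk R R' L)).mpr ⟨⟨_, n, rfl⟩, hn⟩
  rw [h3] at hls
  have hu := IsLocalizedModule.map_units (rmk R R' L) s
  exact (Module.End.isUnit_iff _).mp hu |>.injective (hls.trans (map_zero _).symm)

/-- **Localisation lemma.** `Q` free away from `f`, `v` separating over `D(f)`: an element of
`L ⊗ Q` killed by all `v i ⊗ Q` is killed by a power of `f`. -/
theorem exists_pow_smul_eq_zero_of_freeAway {f : R} (h : SepAt v f) {Q : Type*} [AddCommGroup Q]
    [Module R Q] (hQ : FreeAway R f Q) (x : L ⊗[R] Q) (hx : ∀ i, (v i).rTensor Q x = 0) :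
    ∃ n : ℕ, f ^ n • x = 0 := by
  let R' := Localization.Away f
  haveI : Module.Free R' (R' ⊗[R] Q) := hQ.free R' (TensorProduct.mk R R' Q 1)
  let b := Module.Free.chooseBasis R' (R' ⊗[R] Q)
  have hJ : JInj v (R' ⊗[R] Q) :=
    JInj.of_linearEquiv (b.repr.restrictScalars R) (JInj.finsupp _ (JInj.away h R'))
  have h0 : (TensorProduct.mk R R' Q 1).lTensor L x = 0 := by
    apply hJ
    intro i
    have h1 := congr($(LinearMap.rTensor_comp_lTensor L (v i) (TensorProduct.mk R R' Q 1)) x)
    have h2 := congr($(LinearMap.lTensor_comp_rTensor L (v i) (TensorProduct.mk R R' Q 1)) x)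
    rw [LinearMap.comp_apply] at h1 h2
    rw [h1, ← h2, hx i, map_zero]
  have key : ∀ x : L ⊗[R] Q, TensorProduct.leftComm R L R' Q
      ((TensorProduct.mk R R' Q 1).lTensor L x) = TensorProduct.mk R R' (L ⊗[R] Q) 1 x := by
    intro x
    induction x using TensorProduct.induction_on with
    | zero => simp
    | tmul l q => simp
    | add x y hx hy => simp only [map_add, hx, hy]
  have h1 : TensorProduct.mk R R' (L ⊗[R] Q) 1 x = 0 := by
    rw [← key, h0, map_zero]
  obtain ⟨⟨_, n, rfl⟩, hn⟩ := (IsLocalizedModule.eq_zero_iff (Submonoid.powers f)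
    (TensorProduct.mk R R' (L ⊗[R] Q) 1)).mp h1
  exact ⟨n, hn⟩

end loc

end Groth.Agent.Lib.Seat22.FlatSep
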