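import Mathlib
import Groth.Agent.Lib.Seat22FlatSep1

/-!
# Separating families and flat base change (seat 22), part 2: the noetherian core

Over a noetherian ring `A`, a flat module `P` satisfying generic freeness on every `A ⧸ 𝔭` is
injective for every separating family.
-/

set_option autoImplicit false
set_option linter.style.haveILetI false
universe u
open TensorProduct

namespace Groth.Agent.Lib.Seat22.FlatSep

open Groth.Agent.Lib.Seat22.Sep Groth.Agent.Lib.Helper2.GenFree

section torsion
variable {A : Type*} [CommRing A] (M : Type*) [AddCommGroup M] [Module A M]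
  (P : Type*) [AddCommGroup P] [Module A P]

/-- flatness: the `I`-torsion of `M ⊗ P` comes from the `I`-torsion of `M`, for `I` finitely
generated. -/
theorem exists_rTensor_torsionBySet [Module.Flat A P] (I : Ideal A) (hI : I.FG)
    (x : M ⊗[A] P) (hx : ∀ a ∈ I, a • x = 0) :
    ∃ y : (Submodule.torsionBySet A M I) ⊗[A] P,
      (Submodule.torsionBySet A M I).subtype.rTensor P y = x := by
  classical
  obtain ⟨n, g, hg⟩ := Submodule.fg_iff_exists_fin_generating_family.mp hI
  have hgI : ∀ j, g j ∈ I := fun j => hg ▸ Submodule.subset_span ⟨j, rfl⟩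
  let φ : M →ₗ[A] (Fin n →₀ M) :=
    (Finsupp.linearEquivFunOnFinite A M (Fin n)).symm.toLinearMap ∘ₗ
      LinearMap.pi (fun j => g j • LinearMap.id)
  have hφ' : ∀ m j, φ m j = g j • m := by
    intro m j
    simp [φ]
  have hφ : ∀ j, Finsupp.lapply j ∘ₗ φ = g j • LinearMap.id := by
    intro j
    ext m
    simp [hφ']
  have hex : Function.Exact (Submodule.torsionBySet A M I).subtype φ := by
    intro m
    constructor
    · intro hm
      refine ⟨⟨m, ?_⟩, rfl⟩
      have h1 : m ∈ Submodule.torsionBySet A M (Set.range g) := by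
        rw [Submodule.mem_torsionBySet_iff]
        rintro ⟨_, j, rfl⟩
        have := congr($(hm) j)
        rw [hφ'] at this
        exact this
      rw [Submodule.torsionBySet_eq_torsionBySet_span] at h1
      have h2 : (Ideal.span (Set.range g) : Ideal A) = I := hg
      rw [h2] at h1
      exact h1
    · rintro ⟨⟨m', hm'⟩, rfl⟩
      ext j
      rw [hφ']
      exact (Submodule.mem_torsionBySet_iff _ _).mp hm' ⟨g j, hgI j⟩
  have hex' := Module.Flat.rTensor_exact P hex
  have hx0 : φ.rTensor P x = 0 := by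
    apply (TensorProduct.finsuppLeft A A M P (Fin n)).injective
    rw [map_zero]
    ext j : 1
    rw [TensorProduct.finsuppLeft_apply, ← LinearMap.comp_apply, ← LinearMap.rTensor_comp, hφ j,
      LinearMap.rTensor_smul, LinearMap.rTensor_id, LinearMap.smul_apply, LinearMap.id_apply,
      hx _ (hgI j)]
    rfl
  exact (hex' x).mp hx0

end torsion

section core
variable {A : Type*} [CommRing A] {M : Type*} [AddCommGroup M] [Module A M] {ι : Type*}
  {G : ι → Type*} [∀ i, AddCommGroup (G i)] [∀ i, Module A (G i)] (u : ∀ i, M →ₗ[A] G i)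

/-- the restriction of `u i` to the `I`-torsion, `A`-linear. -/
noncomputable def torsA (I : Ideal A) (i : ι) :
    Submodule.torsionBySet A M I →ₗ[A] Submodule.torsionBySet A (G i) I :=
  (u i).restrict (p := Submodule.torsionBySet A M I) (q := Submodule.torsionBySet A (G i) I)
    (fun x hx => by
      rw [Submodule.mem_torsionBySet_iff] at hx ⊢
      intro a
      rw [← map_smul, hx a, map_zero])

/-- the restriction of `u i` to the `I`-torsion, `A ⧸ I`-linear. -/
noncomputable def torsQ (I : Ideal A) (i : ι) :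
    Submodule.torsionBySet A M I →ₗ[A ⧸ I] Submodule.torsionBySet A (G i) I :=
  LinearMap.extendScalarsOfSurjective Ideal.Quotient.mk_surjective (torsA u I i)

theorem torsQ_apply (I : Ideal A) (i : ι) (x : Submodule.torsionBySet A M I) :
    ((torsQ u I i x : Submodule.torsionBySet A (G i) I) : G i) = u i x := rfl

theorem sepAt_torsQ (I : Ideal A) (f : A) (h : SepAt u f) :
    SepAt (torsQ u I) (Ideal.Quotient.mk I f) := by
  intro w hw
  have h1 : ∀ i, ∃ n : ℕ, f ^ n • u i (w : M) = 0 := by
    intro i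
    obtain ⟨n, hn⟩ := hw i
    refine ⟨n, ?_⟩
    have := congrArg Subtype.val hn
    rw [← map_pow, Submodule.torsionBySet.mk_smul] at this
    exact this
  obtain ⟨n, hn⟩ := h (w : M) h1
  refine ⟨n, Subtype.ext ?_⟩
  rw [← map_pow, Submodule.torsionBySet.mk_smul]
  exact hn

/-- **Noetherian core.** -/
theorem JInj.of_noetherian [IsNoetherianRing A] (hu : Sep u) (P : Type*) [AddCommGroup P]
    [Module A P] [Module.Flat A P]
    (hGF : ∀ 𝔭 : Ideal A, 𝔭.IsPrime → ∃ f : A, f ∉ 𝔭 ∧
      FreeAway (A ⧸ 𝔭) (Ideal.Quotient.mk 𝔭 f) ((A ⧸ 𝔭) ⊗[A] P)) : JInj u P := by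
  by_contra hne
  let W : Submodule A (M ⊗[A] P) := ⨅ i, LinearMap.ker ((u i).rTensor P)
  have hW : Nontrivial W := by
    simp only [JInj, not_forall] at hne
    obtain ⟨w, hw, hw0⟩ := hne
    refine ⟨⟨⟨w, ?_⟩, 0, fun h => hw0 (congrArg Subtype.val h)⟩⟩
    simp only [W, Submodule.mem_iInf, LinearMap.mem_ker]
    exact hw
  obtain ⟨𝔭, h𝔭⟩ := associatedPrimes.nonempty A W
  obtain ⟨hprime, ⟨x, hxW⟩, hx⟩ := isAssociatedPrime_iff.mp h𝔭
  have hann : ∀ a : A, a ∈ 𝔭 ↔ a • x = 0 := by
    intro a
    rw [hx, Submodule.mem_colon_singleton, Submodule.mem_bot]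
    constructor
    · intro h
      exact congrArg Subtype.val h
    · intro h
      exact Subtype.ext h
  have hxu : ∀ i, (u i).rTensor P x = 0 := by
    intro i
    have := (Submodule.mem_iInf _).mp hxW i
    exact this
  obtain ⟨f, hf𝔭, hfree⟩ := hGF 𝔭 hprime
  -- step 1: x comes from the torsion
  obtain ⟨y, hy⟩ := exists_rTensor_torsionBySet M P 𝔭 (IsNoetherian.noetherian 𝔭) x
    (fun a ha => (hann a).mp ha)
  -- step 2
  have hy0 : ∀ i, (torsA u 𝔭 i).rTensor P y = 0 := by
    intro i
    apply Module.Flat.rTensor_preserves_injective_linearMap (M := P)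
      (Submodule.torsionBySet A (G i) 𝔭).subtype (Submodule.subtype_injective _)
    rw [map_zero, ← LinearMap.comp_apply, ← LinearMap.rTensor_comp]
    have : (Submodule.torsionBySet A (G i) 𝔭).subtype ∘ₗ torsA u 𝔭 i =
        u i ∘ₗ (Submodule.torsionBySet A M 𝔭).subtype := rfl
    rw [this, LinearMap.rTensor_comp, LinearMap.comp_apply, hy, hxu i]
  -- step 3
  let θM := TensorProduct.AlgebraTensorModule.cancelBaseChange A (A ⧸ 𝔭) (A ⧸ 𝔭)
      (Submodule.torsionBySet A M 𝔭) P
  let θG := fun i => TensorProduct.AlgebraTensorModule.cancelBaseChange A (A ⧸ 𝔭) (A ⧸ 𝔭)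
      (Submodule.torsionBySet A (G i) 𝔭) P
  have hnat : ∀ (i : ι) (y : (Submodule.torsionBySet A M 𝔭) ⊗[A] P),
      (torsQ u 𝔭 i).rTensor ((A ⧸ 𝔭) ⊗[A] P) (θM.symm y) =
        (θG i).symm ((torsA u 𝔭 i).rTensor P y) := by
    intro i y
    induction y using TensorProduct.induction_on with
    | zero => simp
    | tmul l p =>
      simp only [θM, θG, LinearMap.rTensor_tmul,
        TensorProduct.AlgebraTensorModule.cancelBaseChange_symm_tmul]
      rfl
    | add a b ha hb => simp only [map_add, ha, hb]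
  have hx' : ∀ i, (torsQ u 𝔭 i).rTensor ((A ⧸ 𝔭) ⊗[A] P) (θM.symm y) = 0 := by
    intro i
    rw [hnat, hy0 i, map_zero]
  -- step 4
  obtain ⟨n, hn⟩ := exists_pow_smul_eq_zero_of_freeAway (sepAt_torsQ u 𝔭 f (hu f)) hfree _ hx'
  -- step 5
  have h5 : (Ideal.Quotient.mk 𝔭 f) ^ n • y = 0 := by
    apply θM.symm.injective
    rw [map_smul, hn, map_zero]
  have h6 : f ^ n • y = 0 := by
    rw [← h5, ← map_pow, ← Ideal.Quotient.algebraMap_eq, algebraMap_smul]
  -- step 6
  have h7 : f ^ n • x = 0 := by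
    rw [← hy, ← map_smul, h6, map_zero]
  exact hf𝔭 (hprime.mem_of_pow_mem n ((hann _).mpr h7))

end core

end Groth.Agent.Lib.Seat22.FlatSep
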