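import Mathlib
import Groth.Agent.Lib.Seat22FlatSep2
import Groth.Agent.Lib.Helper3FlatDescE

/-!
# Separating families and flat base change (seat 22), part 3: descent to the noetherian case

A flat finitely presented algebra is injective for every separating family; the base change of a
separating family along a flat finitely presented algebra is separating.
-/

set_option autoImplicit false
set_option linter.style.haveILetI false
universe u
open TensorProduct

namespace Groth.Agent.Lib.Seat22.FlatSep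

open Groth.Agent.Lib.Seat22.Sep Groth.Agent.Lib.Helper2.GenFree

section basechange
variable {A₀ : Type*} [CommRing A₀] {A : Type*} [CommRing A] [Algebra A₀ A]
  {P₀ : Type*} [AddCommGroup P₀] [Module A₀ P₀] {P : Type*} [AddCommGroup P] [Module A P]
  [Module A₀ P] [IsScalarTower A₀ A P] {β : P₀ →ₗ[A₀] P} (hβ : IsBaseChange A β)

/-- `T ⊗[A₀] P₀ ≃ T ⊗[A] P` for `P` the base change of `P₀`. -/
noncomputable def bcEquiv (T : Type*) [AddCommGroup T] [Module A T] [Module A₀ T]
    [IsScalarTower A₀ A T] : T ⊗[A₀] P₀ ≃ₗ[A] T ⊗[A] P :=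
  (TensorProduct.AlgebraTensorModule.cancelBaseChange A₀ A A T P₀).symm ≪≫ₗ
    LinearEquiv.lTensor T hβ.equiv

theorem bcEquiv_tmul (T : Type*) [AddCommGroup T] [Module A T] [Module A₀ T]
    [IsScalarTower A₀ A T] (t : T) (p : P₀) : bcEquiv hβ T (t ⊗ₜ p) = t ⊗ₜ β p := by
  simp [bcEquiv, TensorProduct.AlgebraTensorModule.cancelBaseChange_symm_tmul,
    IsBaseChange.equiv_tmul]

variable {M : Type*} [AddCommGroup M] [Module A M] [Module A₀ M] [IsScalarTower A₀ A M]
  {ι : Type*} {G : ι → Type*} [∀ i, AddCommGroup (G i)] [∀ i, Module A (G i)]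
  [∀ i, Module A₀ (G i)] [∀ i, IsScalarTower A₀ A (G i)] (u : ∀ i, M →ₗ[A] G i)

include hβ in
theorem JInj.of_isBaseChange (h : JInj (fun i => (u i).restrictScalars A₀) P₀) : JInj u P := by
  intro w hw
  obtain ⟨t, rfl⟩ := (bcEquiv hβ M).surjective w
  have hnat : ∀ (i : ι) (t : M ⊗[A₀] P₀), (u i).rTensor P (bcEquiv hβ M t) =
      bcEquiv hβ (G i) (((u i).restrictScalars A₀).rTensor P₀ t) := by
    intro i t
    induction t using TensorProduct.induction_on with
    | zero => simp
    | tmul m p => simp [bcEquiv_tmul]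
    | add a b ha hb => simp only [map_add, ha, hb]
  have ht : t = 0 := by
    apply h
    intro i
    apply (bcEquiv hβ (G i)).injective
    rw [← hnat, hw i, map_zero]
  rw [ht, map_zero]

end basechange

section descent

open Groth.Agent.Lib.Helper3.FlatOpen Groth.Agent.Lib.Helper3.FlatDesc
  Groth.Agent.Lib.Helper3.FlatLoc

attribute [local instance] MvPolynomial.algebraMvPolynomial

section model
variable {Λ : Type u} [CommRing Λ] {n k m : ℕ} (w : Fin m → Fin k → MvPolynomial (Fin n) Λ)
  {A₀ A : Type u} [CommRing A₀] [CommRing A] [Algebra Λ A₀] [Algebra Λ A] [Algebra A₀ A]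
  [IsScalarTower Λ A₀ A]
  {M : Type*} [AddCommGroup M] [Module A M] [Module A₀ M] [IsScalarTower A₀ A M]
  {ι : Type*} {G : ι → Type*} [∀ i, AddCommGroup (G i)] [∀ i, Module A (G i)]
  [∀ i, Module A₀ (G i)] [∀ i, IsScalarTower A₀ A (G i)] (u : ∀ i, M →ₗ[A] G i)

/-- generic freeness for the presented module. -/
theorem exists_freeAway_model (𝔭 : Ideal A₀) [𝔭.IsPrime] :
    ∃ f : A₀, f ∉ 𝔭 ∧ FreeAway (A₀ ⧸ 𝔭) (Ideal.Quotient.mk 𝔭 f) ((A₀ ⧸ 𝔭) ⊗[A₀]
      ((Fin k → MvPolynomial (Fin n) A₀) ⧸ KT w (MvPolynomial (Fin n) A₀))) := by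
  haveI := isScalarTower_mvPolynomial (σ := Fin n) Λ A₀ (A₀ ⧸ 𝔭)
  have hbT : IsBaseChange (A₀ ⧸ 𝔭) ((Mmap w (MvPolynomial (Fin n) A₀)
      (MvPolynomial (Fin n) (A₀ ⧸ 𝔭))).restrictScalars A₀) :=
    isBaseChange_restrictScalars_of_isPushout _ (isBaseChange_Mmap w _ _)
  obtain ⟨f', hf'0, -, hfree, -, -⟩ := exists_freeAway (A₀ ⧸ 𝔭)
    (MvPolynomial (Fin n) (A₀ ⧸ 𝔭))
    ((Fin k → MvPolynomial (Fin n) (A₀ ⧸ 𝔭)) ⧸ KT w (MvPolynomial (Fin n) (A₀ ⧸ 𝔭)))
  obtain ⟨f, rfl⟩ := Ideal.Quotient.mk_surjective f'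
  refine ⟨f, fun hf => hf'0 (Ideal.Quotient.eq_zero_iff_mem.mpr hf), ?_⟩
  exact hfree.of_linearEquiv hbT.equiv.symm

theorem JInj.of_model [IsNoetherianRing A₀]
    (hflat : Module.Flat A₀ ((Fin k → MvPolynomial (Fin n) A₀) ⧸ KT w (MvPolynomial (Fin n) A₀)))
    (hu : Sep (fun i => (u i).restrictScalars A₀)) :
    JInj u ((Fin k → MvPolynomial (Fin n) A) ⧸ KT w (MvPolynomial (Fin n) A)) := by
  haveI := isScalarTower_mvPolynomial (σ := Fin n) Λ A₀ A
  have hb : IsBaseChange A ((Mmap w (MvPolynomial (Fin n) A₀)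
      (MvPolynomial (Fin n) A)).restrictScalars A₀) :=
    isBaseChange_restrictScalars_of_isPushout _ (isBaseChange_Mmap w _ _)
  have hcore : JInj (fun i => (u i).restrictScalars A₀)
      ((Fin k → MvPolynomial (Fin n) A₀) ⧸ KT w (MvPolynomial (Fin n) A₀)) :=
    JInj.of_noetherian _ hu _ (fun 𝔭 h𝔭 => by
      haveI := h𝔭
      exact exists_freeAway_model w 𝔭)
  exact JInj.of_isBaseChange hb u hcore

end model

variable {A : Type u} [CommRing A] {M : Type*} [AddCommGroup M] [Module A M] {ι : Type*}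
  {G : ι → Type*} [∀ i, AddCommGroup (G i)] [∀ i, Module A (G i)] (u : ∀ i, M →ₗ[A] G i)

/-- **A flat finitely presented algebra is injective for every separating family.** -/
theorem JInj.of_flat_fp (hu : Sep u) (A' : Type u) [CommRing A'] [Algebra A A']
    [Module.Flat A A'] [Algebra.FinitePresentation A A'] : JInj u A' := by
  obtain ⟨n, k, m, Λ, hΛ, w, hT⟩ := exists_model_tensor A A' A'
  haveI : Algebra.FiniteType ℤ Λ := (Subalgebra.fg_iff_finiteType Λ).mp hΛ
  haveI : IsNoetherianRing Λ := Algebra.FiniteType.isNoetherianRing ℤ Λ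
  obtain ⟨eA⟩ := hT A
  have hflat' : Module.Flat A ((Fin k → MvPolynomial (Fin n) A) ⧸
      KT w (MvPolynomial (Fin n) A)) := Module.Flat.of_linearEquiv eA.symm
  obtain ⟨A'', hA''fg, -, hA''flat⟩ := exists_fg_subalgebra_flat_global w hflat' ∅
  haveI : Algebra.FiniteType Λ A'' := (Subalgebra.fg_iff_finiteType A'').mp hA''fg
  haveI : IsNoetherianRing A'' := Algebra.FiniteType.isNoetherianRing Λ A''
  have hu'' : Sep (fun i => (u i).restrictScalars A'') := fun a w hw => hu (a : A) w hw
  have h1 : JInj u ((Fin k → MvPolynomial (Fin n) A) ⧸ KT w (MvPolynomial (Fin n) A)) :=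
    JInj.of_model (A₀ := A'') w u hA''flat hu''
  exact JInj.of_linearEquiv ((TensorProduct.lid A A').symm ≪≫ₗ eA) h1

end descent

section final
variable {A : Type u} [CommRing A] {M : Type u} [AddCommGroup M] [Module A M] {ι : Type u}
  {G : ι → Type u} [∀ i, AddCommGroup (G i)] [∀ i, Module A (G i)] (u : ∀ i, M →ₗ[A] G i)

/-- the kernel of `A' ⊗ M → A'_b ⊗ M` is `b`-power torsion. -/
theorem exists_pow_smul_eq_zero_of_rTensor_away {A' : Type u} [CommRing A'] [Algebra A A']
    (b : A') (w : A' ⊗[A] M)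
    (h : LinearMap.rTensor M (IsScalarTower.toAlgHom A A' (Localization.Away b)).toLinearMap w = 0) :
    ∃ n : ℕ, b ^ n • w = 0 := by
  have key : ∀ w : A' ⊗[A] M,
      TensorProduct.AlgebraTensorModule.cancelBaseChange A A' (Localization.Away b)
        (Localization.Away b) M (TensorProduct.mk A' (Localization.Away b) (A' ⊗[A] M) 1 w) =
      LinearMap.rTensor M (IsScalarTower.toAlgHom A A' (Localization.Away b)).toLinearMap w := by
    intro w
    induction w using TensorProduct.induction_on with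
    | zero => simp
    | tmul a m =>
      simp [TensorProduct.AlgebraTensorModule.cancelBaseChange_tmul, Algebra.smul_def]
    | add x y hx hy => simp only [map_add, hx, hy]
  have h1 : TensorProduct.mk A' (Localization.Away b) (A' ⊗[A] M) 1 w = 0 := by
    apply (TensorProduct.AlgebraTensorModule.cancelBaseChange A A' (Localization.Away b)
      (Localization.Away b) M).injective
    rw [key, h, map_zero]
  obtain ⟨⟨_, n, rfl⟩, hn⟩ := (IsLocalizedModule.eq_zero_iff (Submonoid.powers b)
    (TensorProduct.mk A' (Localization.Away b) (A' ⊗[A] M) 1)).mp h1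
  exact ⟨n, hn⟩

/-- **Flat finitely presented base change of a separating family is separating.** -/
theorem Sep.bc_of_flat_fp (hu : Sep u) (A' : Type u) [CommRing A'] [Algebra A A']
    [Module.Flat A A'] [Algebra.FinitePresentation A A'] : Sep (bc u A') := by
  intro b w hw
  haveI : Module.Flat A' (Localization.Away b) := IsLocalization.flat _ (Submonoid.powers b)
  haveI : Module.Flat A (Localization.Away b) := Module.Flat.trans A A' (Localization.Away b)
  haveI : Algebra.FinitePresentation A' (Localization.Away b) :=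
    IsLocalization.Away.finitePresentation b
  haveI : Algebra.FinitePresentation A (Localization.Away b) :=
    Algebra.FinitePresentation.trans A A' (Localization.Away b)
  have hJ : JInj u (Localization.Away b) := JInj.of_flat_fp u hu (Localization.Away b)
  apply exists_pow_smul_eq_zero_of_rTensor_away b w
  apply hJ.left
  intro i
  obtain ⟨n, hn⟩ := hw i
  have h1 := rTensor_bc u (IsScalarTower.toAlgHom A A' (Localization.Away b)) i w
  have h2 : (IsScalarTower.toAlgHom A A' (Localization.Away b) b) ^ n •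
      bc u (Localization.Away b) i (LinearMap.rTensor M
        (IsScalarTower.toAlgHom A A' (Localization.Away b)).toLinearMap w) = 0 := by
    rw [← h1, ← map_pow, ← rTensor_smul, hn, map_zero]
  have hunit : IsUnit ((IsScalarTower.toAlgHom A A' (Localization.Away b) b) ^ n) :=
    (IsLocalization.Away.algebraMap_isUnit b).pow n
  exact (hunit.smul_eq_zero).mp h2

end final

end Groth.Agent.Lib.Seat22.FlatSep
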