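import Mathlib
import Groth.Agent.Lib.Seat22FlatSep3
import Groth.Agent.Lib.Seat22SepFieldSch
import Groth.Agent.Lib.Seat22SepDom

/-!
# Flat, locally finitely presented base change of separating and of schematically dominant
families (seat 22)
-/

set_option autoImplicit false
set_option linter.style.haveILetI false
universe u
open CategoryTheory CategoryTheory.Limits AlgebraicGeometry TopologicalSpace Opposite TensorProduct

namespace Groth.Agent.Lib.Seat22.FlatSepSch

open Groth.Agent.Lib.Seat22.Sep Groth.Agent.Lib.Seat22.FlatSep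

section
variable {X X' : Scheme.{u}} (g : X' ⟶ X) [Flat g] [LocallyOfFinitePresentation g]

/-- charts: distinguished opens of affine opens of `X'` mapping into an affine open of `X`. -/
def Charts : Set X'.Opens := {W | ∃ (V : X.Opens) (U₀ : X'.Opens), IsAffineOpen V ∧
  IsAffineOpen U₀ ∧ ∃ (_ : U₀ ≤ g ⁻¹ᵁ V) (b : Γ(X', U₀)), W = X'.basicOpen b}

omit [Flat g] [LocallyOfFinitePresentation g] in
theorem isBasis_charts : Opens.IsBasis (Set.range (Subtype.val : Charts g → X'.Opens)) := by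
  rw [Subtype.range_coe, TopologicalSpace.Opens.isBasis_iff_nbhd]
  intro O' x hxO'
  obtain ⟨V, hV, hxV, -⟩ := exists_isAffineOpen_mem_and_subset (x := g x) (U := ⊤) trivial
  obtain ⟨U₀, hU₀, hxU₀, hle⟩ := exists_isAffineOpen_mem_and_subset (x := x) (U := g ⁻¹ᵁ V) hxV
  obtain ⟨b, hb1, hb2⟩ := hU₀.exists_basicOpen_le (V := O') ⟨x, hxO'⟩ hxU₀
  exact ⟨X'.basicOpen b, ⟨V, U₀, hV, hU₀, hle, b, rfl⟩, hb2, hb1⟩

theorem flat_chart {V : X.Opens} (hV : IsAffineOpen V) {U₀ : X'.Opens} (hU₀ : IsAffineOpen U₀)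
    (e1 : U₀ ≤ g ⁻¹ᵁ V) :
    letI : Algebra Γ(X, V) Γ(X', U₀) := (g.appLE V U₀ e1).hom.toAlgebra
    Module.Flat Γ(X, V) Γ(X', U₀) :=
  HasRingHomProperty.appLE @Flat g inferInstance ⟨V, hV⟩ ⟨U₀, hU₀⟩ e1

theorem fp_chart {V : X.Opens} (hV : IsAffineOpen V) {U₀ : X'.Opens} (hU₀ : IsAffineOpen U₀)
    (e1 : U₀ ≤ g ⁻¹ᵁ V) :
    letI : Algebra Γ(X, V) Γ(X', U₀) := (g.appLE V U₀ e1).hom.toAlgebra
    Algebra.FinitePresentation Γ(X, V) Γ(X', U₀) :=
  HasRingHomProperty.appLE @LocallyOfFinitePresentation g inferInstance ⟨V, hV⟩ ⟨U₀, hU₀⟩ e1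

/-- **A separating family stays separating after a flat base change locally of finite
presentation.** -/
theorem separating_pullback_of_flat_lfp (F : X.Modules) [F.IsQuasicoherent] {ι : Type u}
    (G : ι → X.Modules) [∀ i, (G i).IsQuasicoherent] (u : ∀ i, F ⟶ G i)
    (h : ∀ (V : X.Opens) (t : Γ(F, V)), (∀ i, (u i).app V t = 0) → t = 0)
    (O : X'.Opens) (s : Γ((Scheme.Modules.pullback g).obj F, O))
    (hs : ∀ i, ((Scheme.Modules.pullback g).map (u i)).app O s = 0) : s = 0 := by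
  refine Groth.Agent.Helper13ModBasis.section_ext_basis (Subtype.val : Charts g → X'.Opens)
    (isBasis_charts g) ((Scheme.Modules.pullback g).obj F) s 0 ?_
  rintro ⟨W, V, U₀, hV, hU₀, e1, b, rfl⟩ hle
  change ((Scheme.Modules.pullback g).obj F).presheaf.map (homOfLE hle).op s =
    ((Scheme.Modules.pullback g).obj F).presheaf.map (homOfLE hle).op 0
  rw [map_zero]
  letI : Algebra Γ(X, V) Γ(X', U₀) := (g.appLE V U₀ e1).hom.toAlgebra
  haveI : Module.Flat Γ(X, V) Γ(X', U₀) := flat_chart g hV hU₀ e1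
  haveI : Algebra.FinitePresentation Γ(X, V) Γ(X', U₀) := fp_chart g hV hU₀ e1
  refine SepFieldSch.chart_core F G u hV hU₀ e1
    (Sep.bc_of_flat_fp _ (SepFieldSch.sep_sections F G u h hV) Γ(X', U₀)) b _ ?_
  intro i
  rw [SepFieldSch.app_res, hs i, map_zero]

/-- **A schematically dominant family stays schematically dominant after a flat base change
locally of finite presentation.** -/
theorem dominant_baseChange_of_flat_lfp {ι : Type u} (Z : ι → Scheme.{u}) (f : ∀ i, Z i ⟶ X)
    (h : ∀ (V : X.Opens) (t : Γ(X, V)), (∀ i, (f i).app V t = 0) → t = 0)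
    (O : X'.Opens) (t : Γ(X', O)) (ht : ∀ i, (pullback.snd (f i) g).app O t = 0) : t = 0 := by
  refine SepDom.section_ext_basis_ring (Subtype.val : Charts g → X'.Opens) (isBasis_charts g)
    t 0 ?_
  rintro ⟨W, V, U₀, hV, hU₀, e1, b, rfl⟩ hle
  rw [map_zero]
  letI : Algebra Γ(X, V) Γ(X', U₀) := (g.appLE V U₀ e1).hom.toAlgebra
  haveI : Module.Flat Γ(X, V) Γ(X', U₀) := flat_chart g hV hU₀ e1
  haveI : Algebra.FinitePresentation Γ(X, V) Γ(X', U₀) := fp_chart g hV hU₀ e1
  refine SepDom.chart_core f (fun i => pullback.snd (f i) g) (fun i => pullback.fst (f i) g)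
    (fun i => IsPullback.of_hasPullback (f i) g) hV hU₀ e1
    (Sep.bc_of_flat_fp _ (SepDom.sep_dominant f h hV) Γ(X', U₀)) b _ ?_
  intro i
  have hnat := congr($((pullback.snd (f i) g).naturality (homOfLE hle).op) t)
  have h2 : (pullback.snd (f i) g).app (X'.basicOpen b) (X'.presheaf.map (homOfLE hle).op t) =
      (pullback (f i) g).presheaf.map
        ((Opens.map (pullback.snd (f i) g).base).map (homOfLE hle)).op
        ((pullback.snd (f i) g).app O t) := hnat
  rw [h2, ht i, map_zero]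

end

end Groth.Agent.Lib.Seat22.FlatSepSch
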