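import Mathlib
import Groth.Agent.Lib.Helper3FibreFree

/-!
# Freeness from flatness of the restriction to the fibre (seat 22)

`free_of_flat_fibre`: `B` local, `A → B`, `I ⊂ A` with `I B ≠ B`, `C` a quotient of `B` by `I B`, `M` a finitely
presented `B`-module flat over `A` with `C ⊗_B M` flat over `C`: then `M` is free over `B`.
-/

set_option autoImplicit false
set_option linter.style.haveILetI false
universe u

open TensorProduct

namespace Groth.Agent.Lib.Seat22.FreeBC

theorem free_of_flat_fibre {A B C M : Type*} [CommRing A] [CommRing B] [IsLocalRing B] [CommRing C]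
    [Algebra A B] [Algebra B C] (I : Ideal A)
    (hI : I.map (algebraMap A B) ≤ IsLocalRing.maximalIdeal B)
    (hsurj : Function.Surjective (algebraMap B C))
    (hker : RingHom.ker (algebraMap B C) = I.map (algebraMap A B))
    [AddCommGroup M] [Module B M] [Module A M] [IsScalarTower A B M]
    [Module.FinitePresentation B M] [Module.Flat A M]
    (h : Module.Flat C (C ⊗[B] M)) : Module.Free B M := by
  set J : Ideal B := I.map (algebraMap A B) with hJ
  have hJker : ∀ a ∈ J, algebraMap B C a = 0 := fun a ha => by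
    rw [← RingHom.mem_ker, hker]; exact ha
  letI algQC : Algebra (B ⧸ J) C := (Ideal.Quotient.lift J (algebraMap B C) hJker).toAlgebra
  haveI : IsScalarTower B (B ⧸ J) C := IsScalarTower.of_algebraMap_eq (fun b => rfl)
  have hbij : Function.Bijective (algebraMap (B ⧸ J) C) := by
    constructor
    · exact RingHom.lift_injective_of_ker_le_ideal J hJker hker.le
    · exact Ideal.Quotient.lift_surjective_of_surjective J hJker hsurj
  haveI : Module.FaithfullyFlat (B ⧸ J) C :=
    Module.FaithfullyFlat.of_linearEquiv (B ⧸ J) (B ⧸ J)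
      (LinearEquiv.ofBijective (Algebra.linearMap (B ⧸ J) C) hbij).symm
  let e0 : ((B ⧸ J) ⊗[B] M) ≃ₗ[B ⧸ J] (M ⧸ J • (⊤ : Submodule B M)) :=
    (TensorProduct.quotTensorEquivQuotSMul M J).extendScalarsOfSurjective Ideal.Quotient.mk_surjective
  let e1 : C ⊗[B ⧸ J] (M ⧸ J • (⊤ : Submodule B M)) ≃ₗ[C] C ⊗[B] M :=
    (TensorProduct.AlgebraTensorModule.congr (LinearEquiv.refl C C) e0).symm ≪≫ₗ
      TensorProduct.AlgebraTensorModule.cancelBaseChange B (B ⧸ J) C C M
  haveI : Module.Flat C (C ⊗[B ⧸ J] (M ⧸ J • (⊤ : Submodule B M))) := Module.Flat.of_linearEquiv e1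
  have hfl : Module.Flat (B ⧸ J) (M ⧸ J • (⊤ : Submodule B M)) :=
    Module.Flat.of_flat_tensorProduct (B ⧸ J) _ C
  exact Groth.Agent.Lib.Helper3.FibreFree.free_of_flat_of_flat_quotient I hI hfl

end Groth.Agent.Lib.Seat22.FreeBC
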