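import Mathlib
import Groth.Agent.Lib.Seat22FreeBC
import Groth.Agent.Lib.Seat11FibSq
import Groth.Agent.S1393
set_option backward.isDefEq.respectTransparency.types false

/-!
# The free-stalk locus of a finitely presented module flat over the base commutes with base change (seat 22)
-/

set_option autoImplicit false
set_option linter.style.haveILetI false
universe u
open CategoryTheory CategoryTheory.Limits AlgebraicGeometry TensorProduct

namespace Groth.Agent.Lib.Seat22.FreeBCSch

open Groth.Agent.Lib.Seat11.AssStalk Groth.Agent.Lib.Seat11.FibSq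

/-- Pullback of a module with free stalk has free stalk. -/
theorem free_stalk_pullback {X Y : Scheme.{u}} (f : X ⟶ Y) (E : Y.Modules) (x : X)
    (h : Module.Free (Y.presheaf.stalk (f x)) (E.presheaf.stalk (f x))) :
    Module.Free (X.presheaf.stalk x) (((Scheme.Modules.pullback f).obj E).presheaf.stalk x) := by
  letI := algStalk f x
  exact Module.Free.of_equiv (stalkPullbackEquiv f E x).symm

/-- If the pullback along a morphism which is flat at `x` has flat stalk, then so has the module. -/
theorem flat_stalk_of_flat_stalk_pullback {X Y : Scheme.{u}} (f : X ⟶ Y) (E : Y.Modules) (x : X)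
    (hfl : (f.stalkMap x).hom.Flat)
    (h : Module.Flat (X.presheaf.stalk x) (((Scheme.Modules.pullback f).obj E).presheaf.stalk x)) :
    Module.Flat (Y.presheaf.stalk (f x)) (E.presheaf.stalk (f x)) := by
  letI := algStalk f x
  haveI : IsLocalHom (algebraMap (Y.presheaf.stalk (f x)) (X.presheaf.stalk x)) :=
    inferInstanceAs (IsLocalHom (f.stalkMap x).hom)
  haveI : Module.Flat (Y.presheaf.stalk (f x)) (X.presheaf.stalk x) := hfl
  haveI : Module.FaithfullyFlat (Y.presheaf.stalk (f x)) (X.presheaf.stalk x) :=
    Module.FaithfullyFlat.of_flat_of_isLocalHom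
  haveI : Module.Flat (X.presheaf.stalk x)
      ((X.presheaf.stalk x) ⊗[Y.presheaf.stalk (f x)] (E.presheaf.stalk (f x))) :=
    Module.Flat.of_linearEquiv (stalkPullbackEquiv f E x).symm
  exact Module.Flat.of_flat_tensorProduct _ _ (X.presheaf.stalk x)

/-- If the restriction of a finitely presented module `F`, flat over `S` at the point, to the fibre has flat stalk at
a point `z` of the fibre, then the stalk of `F` at that point is free. -/
theorem free_stalk_of_flat_stalk_fiber {X S : Scheme.{u}} (f : X ⟶ S) (F : X.Modules) [F.IsQuasicoherent]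
    [SheafOfModules.IsFinitePresentation (R := X.ringCatSheaf) F] (s : S) (z : ↥(f.fiber s))
    (hfl : FlatMod.IsFlatOverAt f F (f.fiberι s z))
    (h : Module.Flat ((f.fiber s).presheaf.stalk z)
      (((Scheme.Modules.pullback (f.fiberι s)).obj F).presheaf.stalk z)) :
    Module.Free (X.presheaf.stalk (f.fiberι s z)) (F.presheaf.stalk (f.fiberι s z)) := by
  haveI := Groth.Agent.S1393.finitePresentation_stalk F (f.fiberι s z)
  letI algAB : Algebra (S.presheaf.stalk (f (f.fiberι s z))) (X.presheaf.stalk (f.fiberι s z)) :=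
    (f.stalkMap (f.fiberι s z)).hom.toAlgebra
  letI modA := FlatMod.moduleStalkOver f F (f.fiberι s z)
  haveI := isScalarTower_stalk f F (f.fiberι s z)
  haveI : Module.Flat (S.presheaf.stalk (f (f.fiberι s z))) (F.presheaf.stalk (f.fiberι s z)) := hfl
  letI := algStalk (f.fiberι s) z
  have hI : (IsLocalRing.maximalIdeal (S.presheaf.stalk (f (f.fiberι s z)))).map
      (algebraMap (S.presheaf.stalk (f (f.fiberι s z))) (X.presheaf.stalk (f.fiberι s z))) ≤
      IsLocalRing.maximalIdeal (X.presheaf.stalk (f.fiberι s z)) := by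
    rw [Ideal.map_le_iff_le_comap]
    intro a ha
    rw [Ideal.mem_comap]
    exact (IsLocalRing.mem_maximalIdeal _).mpr fun hu =>
      (IsLocalRing.mem_maximalIdeal a).mp ha
        (isUnit_of_map_unit (f.stalkMap (f.fiberι s z)).hom a hu)
  haveI : Module.Flat ((f.fiber s).presheaf.stalk z)
      (((f.fiber s).presheaf.stalk z) ⊗[X.presheaf.stalk (f.fiberι s z)]
        (F.presheaf.stalk (f.fiberι s z))) :=
    Module.Flat.of_linearEquiv (stalkPullbackEquiv (f.fiberι s) F z).symm
  exact Groth.Agent.Lib.Seat22.FreeBC.free_of_flat_fibre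
    (C := (f.fiber s).presheaf.stalk z)
    (IsLocalRing.maximalIdeal (S.presheaf.stalk (f (f.fiberι s z)))) hI
    (surjective_stalkMap_fiberι f s z) (ker_stalkMap_fiberι f s z) inferInstance

section Sq

variable {X S X' S' : Scheme.{u}} {f : X ⟶ S} {g : S' ⟶ S} {g' : X' ⟶ X} {f' : X' ⟶ S'}

/-- The key step: freeness of the stalk of `g'^*F` at a point `x'` of the fibre over `s'` implies freeness of the stalk
of `F` at its image. -/
theorem free_stalk_of_free_stalk_pullback_fiber (hc : IsPullback g' f' f g) (F : X.Modules) [F.IsQuasicoherent]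
    [SheafOfModules.IsFinitePresentation (R := X.ringCatSheaf) F] (hfl : FlatMod.IsFlatOver f F)
    (s' : S') (z' : ↥(f'.fiber s'))
    (h : Module.Free (X'.presheaf.stalk (f'.fiberι s' z'))
      (((Scheme.Modules.pullback g').obj F).presheaf.stalk (f'.fiberι s' z'))) :
    Module.Free (X.presheaf.stalk (f.fiberι (g s') (fibMapSq hc s' z')))
      (F.presheaf.stalk (f.fiberι (g s') (fibMapSq hc s' z'))) := by
  have h1 := free_stalk_pullback (f'.fiberι s') ((Scheme.Modules.pullback g').obj F) z' h
  have e1 : (Scheme.Modules.pullback (fibMapSq hc s')).obj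
        ((Scheme.Modules.pullback (f.fiberι (g s'))).obj F) ≅
      (Scheme.Modules.pullback (f'.fiberι s')).obj ((Scheme.Modules.pullback g').obj F) :=
    (Scheme.Modules.pullbackComp _ _).app F ≪≫
      (Scheme.Modules.pullbackCongr (fibMapSq_fiberι hc s')).app F ≪≫
      ((Scheme.Modules.pullbackComp _ _).app F).symm
  have h2 : Module.Free ((f'.fiber s').presheaf.stalk z')
      (((Scheme.Modules.pullback (fibMapSq hc s')).obj
        ((Scheme.Modules.pullback (f.fiberι (g s'))).obj F)).presheaf.stalk z') :=
    Module.Free.of_equiv (stalkEquivOfIso e1 z').symm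
  have h3 : Module.Flat ((f'.fiber s').presheaf.stalk z')
      (((Scheme.Modules.pullback (fibMapSq hc s')).obj
        ((Scheme.Modules.pullback (f.fiberι (g s'))).obj F)).presheaf.stalk z') :=
    Module.Flat.of_free
  have h4 := flat_stalk_of_flat_stalk_pullback (fibMapSq hc s')
    ((Scheme.Modules.pullback (f.fiberι (g s'))).obj F) z' (Flat.stalkMap _ z') h3
  exact free_stalk_of_flat_stalk_fiber f F (g s') (fibMapSq hc s' z') (hfl _) h4

theorem free_stalk_iff_of_isPullback (hc : IsPullback g' f' f g) (F : X.Modules) [F.IsQuasicoherent]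
    [SheafOfModules.IsFinitePresentation (R := X.ringCatSheaf) F] (hfl : FlatMod.IsFlatOver f F) (x' : X') :
    Module.Free (X'.presheaf.stalk x') (((Scheme.Modules.pullback g').obj F).presheaf.stalk x') ↔
      Module.Free (X.presheaf.stalk (g' x')) (F.presheaf.stalk (g' x')) := by
  refine ⟨fun h => ?_, fun h => free_stalk_pullback g' F x' h⟩
  have hx' : f'.fiberι (f' x') (f'.asFiber x') = x' := Scheme.Hom.fiberι_asFiber f' x'
  have h' : Module.Free (X'.presheaf.stalk (f'.fiberι (f' x') (f'.asFiber x')))
      (((Scheme.Modules.pullback g').obj F).presheaf.stalk (f'.fiberι (f' x') (f'.asFiber x'))) := by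
    rw [hx']; exact h
  have h5 := free_stalk_of_free_stalk_pullback_fiber hc F hfl (f' x') (f'.asFiber x') h'
  have hpt : f.fiberι (g (f' x')) (fibMapSq hc (f' x') (f'.asFiber x')) = g' x' := by
    rw [← Scheme.Hom.comp_apply, fibMapSq_fiberι, Scheme.Hom.comp_apply, hx']
  rw [hpt] at h5
  exact h5

end Sq

end Groth.Agent.Lib.Seat22.FreeBCSch
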