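import Mathlib
import Groth.Agent.Lib.Helper14GeomIrr

/-!
# Geometrically irreducible polynomials (seat 22)

For `F ∈ k[T₁,…,Tₙ]` non-constant: `Spec k[T]/(F)` geometrically integral ⇔ `F` irreducible over
every extension ⇔ `F` irreducible over one algebraically closed extension.
-/

set_option autoImplicit false
set_option linter.style.haveILetI false
universe u
open TensorProduct AlgebraicGeometry CategoryTheory

namespace Groth.Agent.Lib.Seat22.GeomIrrPoly

variable {k : Type u} [Field k] {n : ℕ} (F : MvPolynomial (Fin n) k)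

/-- `K ⊗ (k[T]/F) ≃ K[T]/(F_K)`. -/
noncomputable def tensorEquiv (K : Type u) [Field K] [Algebra k K] :
    K ⊗[k] (MvPolynomial (Fin n) k ⧸ Ideal.span ({F} : Set (MvPolynomial (Fin n) k))) ≃+*
      MvPolynomial (Fin n) K ⧸
        Ideal.span ({MvPolynomial.map (algebraMap k K) F} : Set (MvPolynomial (Fin n) K)) :=
  (Algebra.TensorProduct.tensorQuotientEquiv (R := k) K (MvPolynomial (Fin n) k) K
    (Ideal.span {F})).toRingEquiv.trans
    (Ideal.quotientEquiv _ _ (MvPolynomial.algebraTensorAlgEquiv k K).toRingEquiv (by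
      rw [Ideal.map_span, Ideal.map_span, Set.image_singleton, Set.image_singleton]
      congr 2
      change _ = MvPolynomial.algebraTensorAlgEquiv k K ((1 : K) ⊗ₜ[k] F)
      rw [MvPolynomial.algebraTensorAlgEquiv_tmul, one_smul]))

theorem isDomain_tensor_iff (hF : F ≠ 0) (K : Type u) [Field K] [Algebra k K] :
    IsDomain (K ⊗[k] (MvPolynomial (Fin n) k ⧸ Ideal.span ({F} : Set (MvPolynomial (Fin n) k)))) ↔
      Irreducible (MvPolynomial.map (algebraMap k K) F) := by
  have hne : MvPolynomial.map (algebraMap k K) F ≠ 0 := by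
    intro h
    exact hF (MvPolynomial.map_injective _ (algebraMap k K).injective (h.trans (map_zero _).symm))
  rw [UniqueFactorizationMonoid.irreducible_iff_prime, ← Ideal.span_singleton_prime hne,
    ← Ideal.Quotient.isDomain_iff_prime]
  exact ⟨fun h => MulEquiv.isDomain
      (K ⊗[k] (MvPolynomial (Fin n) k ⧸ Ideal.span ({F} : Set (MvPolynomial (Fin n) k))))
      (tensorEquiv F K).symm.toMulEquiv,
    fun h => MulEquiv.isDomain (MvPolynomial (Fin n) K ⧸
        Ideal.span ({MvPolynomial.map (algebraMap k K) F} : Set (MvPolynomial (Fin n) K)))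
      (tensorEquiv F K).toMulEquiv⟩

section ext
variable (Q : Type u) [CommRing Q] [Algebra k Q]

theorem isDomain_of_tower (K L : Type u) [Field K] [Field L] [Algebra k K] [Algebra k L]
    [Algebra K L] [IsScalarTower k K L] (h : IsDomain (L ⊗[k] Q)) : IsDomain (K ⊗[k] Q) := by
  have hinj : Function.Injective
      (Algebra.TensorProduct.map (IsScalarTower.toAlgHom k K L) (AlgHom.id k Q)) := by
    have := Module.Flat.rTensor_preserves_injective_linearMap (M := Q)
      (IsScalarTower.toAlgHom k K L).toLinearMap (algebraMap K L).injective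
    exact this
  exact Function.Injective.isDomain
    (Algebra.TensorProduct.map (IsScalarTower.toAlgHom k K L) (AlgHom.id k Q)).toRingHom hinj

theorem isDomain_of_isAlgClosed (Ω L : Type u) [Field Ω] [Field L] [Algebra k Ω] [Algebra k L]
    [Algebra Ω L] [IsScalarTower k Ω L] [IsAlgClosed Ω] (h : IsDomain (Ω ⊗[k] Q)) :
    IsDomain (L ⊗[k] Q) := by
  haveI : IsDomain ((Ω ⊗[k] Q) ⊗[Ω] L) :=
    Groth.Agent.Lib.Helper14.GeomIrr.isDomain_tensor_of_isAlgClosed (k := Ω) (Ω ⊗[k] Q) L
  haveI : IsDomain (L ⊗[Ω] (Ω ⊗[k] Q)) :=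
    MulEquiv.isDomain ((Ω ⊗[k] Q) ⊗[Ω] L) (Algebra.TensorProduct.comm Ω L (Ω ⊗[k] Q)).toMulEquiv
  exact MulEquiv.isDomain (L ⊗[Ω] (Ω ⊗[k] Q))
    (Algebra.TensorProduct.cancelBaseChange k Ω L L Q).symm.toMulEquiv

theorem exists_common_ext (K Ω : Type u) [Field K] [Field Ω] [Algebra k K] [Algebra k Ω] :
    ∃ (L : Type u) (_ : Field L) (_ : Algebra k L) (_ : Algebra K L) (_ : Algebra Ω L),
      IsScalarTower k K L ∧ IsScalarTower k Ω L := by
  haveI : Nontrivial (K ⊗[k] Ω) :=
    (Algebra.TensorProduct.includeLeft_injective (R := k) (S := k) (A := K) (B := Ω)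
      (algebraMap k Ω).injective).nontrivial
  obtain ⟨m, hm⟩ := Ideal.exists_maximal (K ⊗[k] Ω)
  letI : Field ((K ⊗[k] Ω) ⧸ m) := Ideal.Quotient.field m
  letI a1 : Algebra K ((K ⊗[k] Ω) ⧸ m) :=
    ((Ideal.Quotient.mk m).comp (Algebra.TensorProduct.includeLeft (R := k) (S := k) (A := K)
      (B := Ω)).toRingHom).toAlgebra
  letI a2 : Algebra Ω ((K ⊗[k] Ω) ⧸ m) :=
    ((Ideal.Quotient.mk m).comp (Algebra.TensorProduct.includeRight (R := k) (A := K)
      (B := Ω)).toRingHom).toAlgebra
  refine ⟨(K ⊗[k] Ω) ⧸ m, inferInstance, inferInstance, a1, a2, ?_, ?_⟩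
  · refine IsScalarTower.of_algebraMap_eq fun x => ?_
    change _ = Ideal.Quotient.mk m (Algebra.TensorProduct.includeLeft (R := k) (S := k) (A := K)
      (B := Ω) (algebraMap k K x))
    rw [AlgHom.commutes]
    rfl
  · refine IsScalarTower.of_algebraMap_eq fun x => ?_
    change _ = Ideal.Quotient.mk m (Algebra.TensorProduct.includeRight (R := k) (A := K)
      (B := Ω) (algebraMap k Ω x))
    rw [AlgHom.commutes]
    rfl

end ext

instance isClosedUnderIsomorphisms_isIntegral :
    ObjectProperty.IsClosedUnderIsomorphisms (C := Scheme.{u}) AlgebraicGeometry.IsIntegral where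
  of_iso {X Y} e h := by
    haveI : AlgebraicGeometry.IsIntegral X := h
    haveI : Nonempty Y := ⟨e.hom.base (Classical.arbitrary X)⟩
    exact isIntegral_of_isOpenImmersion e.inv

theorem geometricallyIntegral_iff_forall_isDomain (Q : Type u) [CommRing Q] [Algebra k Q] :
    GeometricallyIntegral (Spec.map (CommRingCat.ofHom (algebraMap k Q))) ↔
      ∀ (K : Type u) [Field K] [Algebra k K], IsDomain (K ⊗[k] Q) := by
  rw [geometricallyIntegral_iff, geometrically_iff_of_commRing_of_isClosedUnderIsomorphisms]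
  refine forall_congr' fun K => forall_congr' fun _ => forall_congr' fun _ => ?_
  rw [ObjectProperty.prop_iff_of_iso (P := (AlgebraicGeometry.IsIntegral : ObjectProperty Scheme))
    (pullbackSpecIso k Q K), affine_isIntegral_iff]
  exact ⟨fun h => MulEquiv.isDomain (Q ⊗[k] K) (Algebra.TensorProduct.comm k K Q).toMulEquiv,
    fun h => MulEquiv.isDomain (K ⊗[k] Q) (Algebra.TensorProduct.comm k Q K).toMulEquiv⟩

theorem tfae (Ω : Type u) [Field Ω] [Algebra k Ω] [IsAlgClosed Ω] (hF : 0 < F.totalDegree) :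
    List.TFAE [
      GeometricallyIntegral (Spec.map (CommRingCat.ofHom
        (algebraMap k (MvPolynomial (Fin n) k ⧸ Ideal.span ({F} : Set (MvPolynomial (Fin n) k)))))),
      ∀ (K : Type u) [Field K] [Algebra k K], Irreducible (MvPolynomial.map (algebraMap k K) F),
      Irreducible (MvPolynomial.map (algebraMap k Ω) F)] := by
  have hF0 : F ≠ 0 := by
    rintro rfl
    simp at hF
  tfae_have 1 → 2 := by
    intro h K _ _
    rw [geometricallyIntegral_iff_forall_isDomain] at h
    exact (isDomain_tensor_iff F hF0 K).1 (h K)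
  tfae_have 2 → 3 := fun h => h Ω
  tfae_have 3 → 1 := by
    intro h
    rw [geometricallyIntegral_iff_forall_isDomain]
    intro K _ _
    obtain ⟨L, _, _, _, _, _, _⟩ := exists_common_ext (k := k) K Ω
    exact isDomain_of_tower _ K L (isDomain_of_isAlgClosed _ Ω L ((isDomain_tensor_iff F hF0 Ω).2 h))
  tfae_finish

end Groth.Agent.Lib.Seat22.GeomIrrPoly
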