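import Mathlib
import Groth.Agent.Lib.Seat22SepDom
import Groth.Agent.Lib.Helper10RedInd
import Groth.Prelude.Def_FDesc

/-!
# The reduced closed subscheme on the closure of the images of a family, after base change over a
field (seat 22)
-/

set_option autoImplicit false
set_option linter.style.haveILetI false
universe u
open CategoryTheory CategoryTheory.Limits AlgebraicGeometry TopologicalSpace Opposite

namespace Groth.Agent.Lib.Seat22.VanIdeal

section general
variable {Y : Scheme.{u}} {ι : Type u} {Z : ι → Scheme.{u}} (g : ∀ i, Z i ⟶ Y)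

/-- a family with dense images into a reduced scheme is schematically dominant. -/
theorem dominant_of_dense [IsReduced Y] (hd : Dense (⋃ i, Set.range (g i)))
    (V : Y.Opens) (t : Γ(Y, V)) (ht : ∀ i, (g i).app V t = 0) : t = 0 := by
  rw [← basicOpen_eq_bot_iff]
  by_contra hne
  have hne' : ((Y.basicOpen t : Y.Opens) : Set Y).Nonempty := by
    rw [Set.nonempty_iff_ne_empty]
    intro h
    exact hne (Opens.ext h)
  obtain ⟨y, hy1, hy2⟩ := hd.inter_open_nonempty _ (Y.basicOpen t).isOpen hne'
  obtain ⟨i, z, rfl⟩ := Set.mem_iUnion.1 hy2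
  have hz : z ∈ (g i) ⁻¹ᵁ (Y.basicOpen t) := hy1
  rw [Scheme.preimage_basicOpen, ht i, Scheme.basicOpen_zero] at hz
  exact hz

/-- the target of a schematically dominant family of reduced schemes is reduced. -/
theorem isReduced_of_dominant [∀ i, IsReduced (Z i)]
    (h : ∀ (V : Y.Opens) (t : Γ(Y, V)), (∀ i, (g i).app V t = 0) → t = 0) : IsReduced Y := by
  refine ⟨fun U => ⟨fun t ht => ?_⟩⟩
  apply h U t
  intro i
  have hn : IsNilpotent ((g i).app U t) := ht.map _
  exact hn.eq_zero

/-- the images of a schematically dominant family are dense. -/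
theorem dense_of_dominant
    (h : ∀ (V : Y.Opens) (t : Γ(Y, V)), (∀ i, (g i).app V t = 0) → t = 0) :
    Dense (⋃ i, Set.range (g i)) := by
  rw [dense_iff_inter_open]
  intro U hU hne
  by_contra hcon
  have h1 : (1 : Γ(Y, (⟨U, hU⟩ : Y.Opens))) = 0 := by
    apply h ⟨U, hU⟩ 1
    intro i
    have hempty : (g i) ⁻¹ᵁ (⟨U, hU⟩ : Y.Opens) = ⊥ := by
      ext z
      simp only [Opens.coe_bot, Set.mem_empty_iff_false, iff_false]
      intro hz
      exact hcon ⟨g i z, hz, Set.mem_iUnion.2 ⟨i, z, rfl⟩⟩
    have hsub : ∀ (O : (Z i).Opens), O = ⊥ → ∀ a b : Γ(Z i, O), a = b := by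
      rintro O rfl a b
      exact Subsingleton.elim a b
    exact hsub _ hempty _ _
  haveI : Nonempty (⟨U, hU⟩ : Y.Opens) := by
    obtain ⟨y, hy⟩ := hne
    exact ⟨⟨y, hy⟩⟩
  exact one_ne_zero h1

end general

section lift
variable {X : Scheme.{u}}

open Scheme.IdealSheafData in
theorem exists_lift_of_range_subset {T : Scheme.{u}} [IsReduced T] (x : T ⟶ X) (Z : Closeds X)
    (h : Set.range x ⊆ (Z : Set X)) :
    ∃ l : T ⟶ (vanishingIdeal Z).subscheme, l ≫ (vanishingIdeal Z).subschemeι = x := by
  have hker : (vanishingIdeal Z).subschemeι.ker ≤ x.ker := by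
    rw [ker_subschemeι, Groth.Agent.Lib.Helper10.RedInd.ker_eq_vanishingIdeal_of_isReduced x]
    apply vanishingIdeal_antimono
    rw [Closeds.closure_le]
    exact h
  exact ⟨IsClosedImmersion.lift _ x hker, IsClosedImmersion.lift_fac _ x hker⟩

end lift

section main
variable {k : Type u} [Field k] {X S' : Scheme.{u}} (p : X ⟶ Spec (CommRingCat.of k))
  (q : S' ⟶ Spec (CommRingCat.of k)) {ι : Type u} (Z : ι → Scheme.{u}) (f : ∀ i, Z i ⟶ X)

open Scheme.IdealSheafData Groth.Agent.Lib.Seat22.SepDom in
/-- the vanishing ideal of the closure of the images of a family of reduced schemes whose base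
changes are reduced commutes with base change over a field. -/
theorem vanishingIdeal_baseChange [∀ i, IsReduced (Z i)]
    [∀ i, IsReduced (pullback (f i ≫ p) q)] :
    vanishingIdeal (Closeds.closure (⋃ i, Set.range
      (pullback.map (f i ≫ p) q p q (f i) (𝟙 S') (𝟙 _) (Category.comp_id _)
        ((Category.comp_id _).trans (Category.id_comp _).symm)))) =
      (vanishingIdeal (Closeds.closure (⋃ i, Set.range (f i)))).comap (pullback.fst p q) := by
  -- the reduced subscheme `Y`
  obtain ⟨T, hT⟩ : ∃ T : Closeds X, T = Closeds.closure (⋃ i, Set.range (f i)) := ⟨_, rfl⟩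
  rw [← hT]
  haveI hYred : IsReduced (vanishingIdeal T).subscheme :=
    Groth.Agent.Lib.Helper10.RedInd.isReduced_subscheme_vanishingIdeal T
  have hrange : Set.range (vanishingIdeal T).subschemeι = (T : Set X) := by
    rw [range_subschemeι, coe_support_vanishingIdeal]
  -- the lifts
  have hsub : ∀ i, Set.range (f i) ⊆ (T : Set X) := by
    intro i
    rw [hT]
    exact (Set.subset_iUnion (fun i => Set.range (f i)) i).trans subset_closure
  choose g hg using fun i => exists_lift_of_range_subset (f i) T (hsub i)
  -- the lifts have dense images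
  have hdense : Dense (⋃ i, Set.range (g i)) := by
    have hemb : Topology.IsClosedEmbedding (vanishingIdeal T).subschemeι :=
      (vanishingIdeal T).subschemeι.isClosedEmbedding
    rw [dense_iff_closure_eq, Set.eq_univ_iff_forall]
    intro y
    have hTc : (T : Set X) = closure (⋃ i, Set.range (f i)) := by
      rw [hT]
      rfl
    have hy : (vanishingIdeal T).subschemeι y ∈ closure (⋃ i, Set.range (f i)) := by
      have : (vanishingIdeal T).subschemeι y ∈ (T : Set X) := hrange ▸ ⟨y, rfl⟩
      rw [hTc] at this
      exact this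
    have himg : (⋃ i, Set.range (f i)) =
        (vanishingIdeal T).subschemeι '' (⋃ i, Set.range (g i)) := by
      rw [Set.image_iUnion]
      refine Set.iUnion_congr fun i => ?_
      rw [← Set.range_comp, ← hg i]
      rfl
    rw [himg, hemb.closure_image_eq] at hy
    exact hemb.injective.mem_set_image.1 hy
  have hdom : ∀ (V : (vanishingIdeal T).subscheme.Opens) (t : Γ((vanishingIdeal T).subscheme, V)),
      (∀ i, (g i).app V t = 0) → t = 0 := dominant_of_dense g hdense
  -- the base change
  have hsqY : IsPullback (pullback.snd (pullback.fst p q) (vanishingIdeal T).subschemeι)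
      (pullback.fst (pullback.fst p q) (vanishingIdeal T).subschemeι ≫ pullback.snd p q)
      ((vanishingIdeal T).subschemeι ≫ p) q :=
    ((IsPullback.of_hasPullback (pullback.fst p q) (vanishingIdeal T).subschemeι).paste_horiz
      (IsPullback.of_hasPullback p q).flip).flip
  -- the maps `F i`
  have hw : ∀ i, pullback.map (f i ≫ p) q p q (f i) (𝟙 S') (𝟙 _) (Category.comp_id _)
        ((Category.comp_id _).trans (Category.id_comp _).symm) ≫ pullback.fst p q =
      (pullback.fst (f i ≫ p) q ≫ g i) ≫ (vanishingIdeal T).subschemeι := by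
    intro i
    rw [pullback.lift_fst, Category.assoc, hg i]
  have hcZ : ∀ i, IsPullback (pullback.fst (f i ≫ p) q)
      (pullback.lift _ _ (hw i)) (g i)
      (pullback.snd (pullback.fst p q) (vanishingIdeal T).subschemeι) := by
    intro i
    have hbig : IsPullback (pullback.lift _ _ (hw i) ≫
          pullback.fst (pullback.fst p q) (vanishingIdeal T).subschemeι)
        (pullback.fst (f i ≫ p) q) (pullback.fst p q)
        (g i ≫ (vanishingIdeal T).subschemeι) := by
      rw [pullback.lift_fst, hg i]
      exact (isPullback_map p q Z f i).flip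
    exact (IsPullback.of_right hbig (by rw [pullback.lift_snd])
      (IsPullback.of_hasPullback (pullback.fst p q) (vanishingIdeal T).subschemeι)).flip
  have hdom' := dominant_pullback_over_field g (fun i => pullback.lift _ _ (hw i))
    (fun i => pullback.fst (f i ≫ p) q) hsqY hcZ hdom
  haveI hY'red : IsReduced (pullback (pullback.fst p q) (vanishingIdeal T).subschemeι) :=
    isReduced_of_dominant (fun i => pullback.lift _ _ (hw i)) hdom'
  have hdense' : Dense (⋃ i, Set.range (pullback.lift _ _ (hw i))) :=
    dense_of_dominant (fun i => pullback.lift _ _ (hw i)) hdom'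
  -- conclusion
  rw [comap, Groth.Agent.Lib.Helper10.RedInd.ker_eq_vanishingIdeal_of_isReduced]
  congr 1
  ext1
  rw [Closeds.coe_closure, Closeds.coe_closure]
  apply subset_antisymm
  · apply closure_mono
    refine Set.iUnion_subset fun i => ?_
    rintro _ ⟨z, rfl⟩
    refine ⟨pullback.lift _ _ (hw i) z, ?_⟩
    rw [← Scheme.Hom.comp_apply, pullback.lift_fst]
  · apply closure_minimal _ isClosed_closure
    rintro _ ⟨y, rfl⟩
    have hy : y ∈ closure (⋃ i, Set.range (pullback.lift _ _ (hw i))) := hdense' y
    have hcont : Continuous (pullback.fst (pullback.fst p q) (vanishingIdeal T).subschemeι) :=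
      (pullback.fst (pullback.fst p q) (vanishingIdeal T).subschemeι).continuous
    refine closure_mono ?_ (image_closure_subset_closure_image hcont ⟨y, hy, rfl⟩)
    rintro _ ⟨y', hy', rfl⟩
    obtain ⟨i, z, rfl⟩ := Set.mem_iUnion.1 hy'
    refine Set.mem_iUnion.2 ⟨i, z, ?_⟩
    rw [← Scheme.Hom.comp_apply, pullback.lift_fst]

end main

section geomRed
variable {k : Type u} [Field k] {Z : Scheme.{u}} (h : Z ⟶ Spec (CommRingCat.of k))

/-- the base change to a field extension of a geometrically reduced scheme is reduced. -/
theorem isReduced_bc (hred : ∀ z : Z, FBase.IsGeomReducedAt h z) (K : Type u) [Field K]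
    [Algebra k K] :
    IsReduced (pullback h (Spec.map (CommRingCat.ofHom (algebraMap k K)))) := by
  haveI : ∀ x : (pullback h (Spec.map (CommRingCat.ofHom (algebraMap k K))) : Scheme.{u}),
      _root_.IsReduced ((pullback h (Spec.map (CommRingCat.ofHom (algebraMap k K))) :
        Scheme.{u}).presheaf.stalk x) := fun x => hred _ K x rfl
  exact isReduced_of_isReduced_stalk _

/-- a geometrically reduced scheme is reduced. -/
theorem isReduced_of_geomRed (hred : ∀ z : Z, FBase.IsGeomReducedAt h z) : IsReduced Z := by
  haveI := isReduced_bc h hred k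
  haveI : IsIso (Spec.map (CommRingCat.ofHom (algebraMap k k))) := by
    have h1 : CommRingCat.ofHom (algebraMap k k) = 𝟙 (CommRingCat.of k) := rfl
    rw [h1, Spec.map_id]
    infer_instance
  haveI : IsIso (pullback.fst h (Spec.map (CommRingCat.ofHom (algebraMap k k)))) := inferInstance
  exact isReduced_of_isOpenImmersion
    (inv (pullback.fst h (Spec.map (CommRingCat.ofHom (algebraMap k k)))))

end geomRed

end Groth.Agent.Lib.Seat22.VanIdeal
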