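import Mathlib
import Groth.Agent.Lib.Seat22VanIdeal

/-!
# Base change of reduced schemes along geometrically reduced morphisms over a field, and descent of
closed subsets versus reduced closed subschemes (seat 22)
-/

set_option autoImplicit false
set_option linter.style.haveILetI false
universe u
open CategoryTheory CategoryTheory.Limits AlgebraicGeometry TopologicalSpace Opposite

namespace Groth.Agent.Lib.Seat22.GeomRedBC

open Groth.Agent.Lib.Seat22.VanIdeal Groth.Agent.Lib.Seat22.SepDom

section reduced
variable {k : Type u} [Field k] {W S' X' : Scheme.{u}} {p : W ⟶ Spec (CommRingCat.of k)}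
  {q : S' ⟶ Spec (CommRingCat.of k)} {g : X' ⟶ W} {f' : X' ⟶ S'}

/-- the base change of a reduced scheme over a field `k` along a geometrically reduced
`k`-scheme is reduced (no Noetherian hypotheses). -/
theorem isReduced_of_isPullback [GeometricallyReduced q] [IsReduced W]
    (hc : IsPullback g f' p q) : IsReduced X' := by
  have hdense : Dense (⋃ w : W, Set.range (W.fromSpecResidueField w)) := by
    rw [dense_iff_closure_eq, Set.eq_univ_iff_forall]
    intro w
    apply subset_closure
    refine Set.mem_iUnion.2 ⟨w, ?_⟩
    obtain ⟨x'⟩ : Nonempty (Spec (W.residueField w)) := inferInstance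
    exact ⟨x', Scheme.fromSpecResidueField_apply w x'⟩
  have hdom := dominant_of_dense (fun w : W => W.fromSpecResidueField w) hdense
  have hdom' := dominant_pullback_over_field (fun w : W => W.fromSpecResidueField w)
    (fun w => pullback.snd (W.fromSpecResidueField w) g)
    (fun w => pullback.fst (W.fromSpecResidueField w) g) hc
    (fun w => IsPullback.of_hasPullback (W.fromSpecResidueField w) g) hdom
  haveI : ∀ w : W, IsReduced (pullback (W.fromSpecResidueField w) g) := by
    intro w
    have hpb : IsPullback (pullback.snd (W.fromSpecResidueField w) g ≫ f')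
        (pullback.fst (W.fromSpecResidueField w) g) q (W.fromSpecResidueField w ≫ p) :=
      (IsPullback.of_hasPullback (W.fromSpecResidueField w) g).flip.paste_horiz hc.flip
    exact GeometricallyReduced.geometrically_isReduced (f := q)
      (K := W.residueField w) (W.fromSpecResidueField w ≫ p) _ _ hpb
  exact isReduced_of_dominant (fun w => pullback.snd (W.fromSpecResidueField w) g) hdom'

end reduced

section descent
variable {k : Type u} [Field k] {Y S' : Scheme.{u}} (p : Y ⟶ Spec (CommRingCat.of k))
  (q : S' ⟶ Spec (CommRingCat.of k))

open Scheme.IdealSheafData in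
/-- the preimage of a closed subset under a base change along a geometrically reduced scheme over
a field: its vanishing ideal is the pullback of the vanishing ideal. -/
theorem comap_vanishingIdeal [GeometricallyReduced q] (T' : Closeds Y) (T : Closeds ↥(pullback p q))
    (hT : (T : Set ↥(pullback p q)) = (pullback.fst p q) ⁻¹' (T' : Set Y)) :
    (vanishingIdeal T').comap (pullback.fst p q) = vanishingIdeal T := by
  haveI hYred : IsReduced (vanishingIdeal T').subscheme :=
    Groth.Agent.Lib.Helper10.RedInd.isReduced_subscheme_vanishingIdeal T'
  have hsqY : IsPullback (pullback.snd (pullback.fst p q) (vanishingIdeal T').subschemeι)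
      (pullback.fst (pullback.fst p q) (vanishingIdeal T').subschemeι ≫ pullback.snd p q)
      ((vanishingIdeal T').subschemeι ≫ p) q :=
    ((IsPullback.of_hasPullback (pullback.fst p q) (vanishingIdeal T').subschemeι).paste_horiz
      (IsPullback.of_hasPullback p q).flip).flip
  haveI : IsReduced (pullback (pullback.fst p q) (vanishingIdeal T').subschemeι) :=
    isReduced_of_isPullback hsqY
  rw [comap, Groth.Agent.Lib.Helper10.RedInd.ker_eq_vanishingIdeal_of_isReduced]
  congr 1
  ext1
  rw [Closeds.coe_closure, Scheme.Pullback.range_fst, range_subschemeι,
    coe_support_vanishingIdeal, ← hT]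
  exact T.isClosed.closure_eq

open Scheme.IdealSheafData in
/-- a closed subset of a base change (over a field, along a geometrically reduced scheme) is a
preimage iff its vanishing ideal is a pullback. -/
theorem closed_descent_iff [GeometricallyReduced q] (T : Closeds ↥(pullback p q)) :
    (∃ T' : Closeds Y, (T : Set ↥(pullback p q)) = (pullback.fst p q) ⁻¹' (T' : Set Y)) ↔
      ∃ J : Y.IdealSheafData, J.comap (pullback.fst p q) = vanishingIdeal T := by
  constructor
  · rintro ⟨T', hT'⟩
    exact ⟨vanishingIdeal T', comap_vanishingIdeal p q T' T hT'⟩
  · rintro ⟨J, hJ⟩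
    refine ⟨J.support, ?_⟩
    have h1 := congrArg (fun I => (I.support : Set ↥(pullback p q))) hJ
    simp only [support_comap, coe_support_vanishingIdeal] at h1
    rw [← h1]
    rfl

end descent

end Groth.Agent.Lib.Seat22.GeomRedBC
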