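import Mathlib

/-!
# Jacobian criterion (ring level): étaleness from differentials (seat 22)

For a tower `C → A → B` with `B` formally smooth over `C`, if `B ⊗_A Ω[A/C] → Ω[B/C]` is bijective
then `B` is formally étale over `A`.  If `A` and `B` are standard smooth over `C` of the same relative
dimension and `B` is formally unramified over `A`, then `B` is étale over `A`.
-/

set_option autoImplicit false
set_option linter.style.haveILetI false
universe u
open KaehlerDifferential TensorProduct

namespace Groth.Agent.Lib.Seat22.JacEtale

variable (C A B : Type u) [CommRing C] [CommRing A] [CommRing B]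
  [Algebra C A] [Algebra A B] [Algebra C B] [IsScalarTower C A B]

theorem formallyEtale_of_bijective_mapBaseChange [Algebra.FormallySmooth C B]
    (hbij : Function.Bijective (mapBaseChange C A B)) : Algebra.FormallyEtale A B := by
  constructor
  · refine ⟨fun x y => ?_⟩
    obtain ⟨x', rfl⟩ := KaehlerDifferential.map_surjective C A B x
    obtain ⟨y', rfl⟩ := KaehlerDifferential.map_surjective C A B y
    obtain ⟨x'', rfl⟩ := hbij.2 x'
    obtain ⟨y'', rfl⟩ := hbij.2 y'
    rw [(exact_mapBaseChange_map C A B _).mpr ⟨x'', rfl⟩,
      (exact_mapBaseChange_map C A B _).mpr ⟨y'', rfl⟩]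
  · refine ⟨fun x y => ?_⟩
    have key : ∀ w : Algebra.H1Cotangent A B, w = 0 := by
      intro w
      have h1 : Algebra.H1Cotangent.δ C A B w = 0 := by
        apply hbij.1
        rw [map_zero]
        exact (Algebra.H1Cotangent.exact_δ_mapBaseChange C A B _).mpr ⟨w, rfl⟩
      obtain ⟨z, rfl⟩ := (Algebra.H1Cotangent.exact_map_δ C A B w).mp h1
      rw [Subsingleton.elim z 0, map_zero]
    rw [key x, key y]

variable {A B} in
theorem bijective_of_surjective_of_bases {M N : Type u} [AddCommGroup M] [AddCommGroup N]
    [Module B M] [Module B N] {n : ℕ} (b₁ : Module.Basis (Fin n) B M)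
    (b₂ : Module.Basis (Fin n) B N) (φ : M →ₗ[B] N) (hφ : Function.Surjective φ) :
    Function.Bijective φ := by
  refine ⟨?_, hφ⟩
  let e : N ≃ₗ[B] M := b₂.equiv b₁ (Equiv.refl _)
  haveI : Module.Finite B M := Module.Finite.of_basis b₁
  have hs : Function.Surjective (e.toLinearMap ∘ₗ φ) := e.surjective.comp hφ
  have hi := OrzechProperty.injective_of_surjective_endomorphism _ hs
  intro x y hxy
  exact hi (by simp only [LinearMap.comp_apply, hxy])

theorem etale_of_isStandardSmoothOfRelativeDimension (n : ℕ) [Nontrivial B]
    [Algebra.IsStandardSmoothOfRelativeDimension n C A]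
    [Algebra.IsStandardSmoothOfRelativeDimension n C B]
    [Algebra.FormallyUnramified A B] : Algebra.Etale A B := by
  haveI : Nontrivial A := (algebraMap A B).domain_nontrivial
  haveI : Algebra.IsStandardSmooth C A := Algebra.IsStandardSmoothOfRelativeDimension.isStandardSmooth n
  haveI : Algebra.IsStandardSmooth C B := Algebra.IsStandardSmoothOfRelativeDimension.isStandardSmooth n
  have hrA : Module.finrank A Ω[A⁄C] = n := by
    rw [Module.finrank, Algebra.IsStandardSmoothOfRelativeDimension.rank_kaehlerDifferential n]
    exact Cardinal.toNat_natCast n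
  have hrB : Module.finrank B Ω[B⁄C] = n := by
    rw [Module.finrank, Algebra.IsStandardSmoothOfRelativeDimension.rank_kaehlerDifferential n]
    exact Cardinal.toNat_natCast n
  let bA : Module.Basis (Fin n) A Ω[A⁄C] := Module.finBasisOfFinrankEq _ _ hrA
  let bB : Module.Basis (Fin n) B Ω[B⁄C] := Module.finBasisOfFinrankEq _ _ hrB
  let b₁ : Module.Basis (Fin n) B (B ⊗[A] Ω[A⁄C]) := bA.baseChange B
  have hsurj : Function.Surjective (mapBaseChange C A B) := fun w =>
    (KaehlerDifferential.exact_mapBaseChange_map C A B w).mp (Subsingleton.elim _ _)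
  have hbij := bijective_of_surjective_of_bases b₁ bB (mapBaseChange C A B) hsurj
  haveI : Algebra.FormallyEtale A B := formallyEtale_of_bijective_mapBaseChange C A B hbij
  haveI : Algebra.FinitePresentation A B :=
    Algebra.FinitePresentation.of_restrict_scalars_finitePresentation C A B
  exact ⟨inferInstance, inferInstance⟩

end Groth.Agent.Lib.Seat22.JacEtale
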