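import Mathlib
/-!
# Seat22: kernel of `j.app` on a basic open is the localization of the kernel on the affine open,
provided the preimage of the affine open is quasi-compact.
-/

set_option autoImplicit false
universe u

namespace Groth.Agent.Lib.Seat22.KerBasic

open AlgebraicGeometry CategoryTheory TopologicalSpace

/-- transport of vanishing of a restriction along an equality of opens -/
theorem res_eq_zero_of_eq {Y : Scheme.{u}} {V : Y.Opens} (s : Γ(Y, V)) {W W' : Y.Opens}
    (e : W = W') (h : W ≤ V) (h' : W' ≤ V)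
    (hs : (Y.presheaf.map (homOfLE h).op).hom s = 0) :
    (Y.presheaf.map (homOfLE h').op).hom s = 0 := by
  subst e
  exact hs

/-- Let `j : Y ⟶ X`, `U` an affine open of `X` with quasi-compact preimage and `g ∈ Γ(X, U)`.
Then the kernel of `Γ(X, D(g)) → Γ(Y, j⁻¹ D(g))` is generated by the kernel of
`Γ(X, U) → Γ(Y, j⁻¹ U)`. -/
theorem ker_app_basicOpen {X Y : Scheme.{u}} (j : Y ⟶ X) {U : X.Opens} (hU : IsAffineOpen U)
    (hc : IsCompact (j ⁻¹ᵁ U : Set Y)) (g : Γ(X, U)) :
    RingHom.ker (j.app (X.basicOpen g)).hom =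
      (RingHom.ker (j.app U).hom).map (X.presheaf.map (homOfLE (X.basicOpen_le g)).op).hom := by
  set ρ := (X.presheaf.map (homOfLE (X.basicOpen_le g)).op).hom with hρ
  have hle : j ⁻¹ᵁ X.basicOpen g ≤ j ⁻¹ᵁ U := fun y hy => X.basicOpen_le g hy
  have hnat : ∀ a : Γ(X, U), (j.app (X.basicOpen g)).hom (ρ a) =
      (Y.presheaf.map (homOfLE hle).op).hom ((j.app U).hom a) := by
    intro a
    have := j.naturality (homOfLE (X.basicOpen_le g)).op
    exact congr($(this).hom a)
  have := hU.isLocalization_basicOpen g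
  have hu : ∀ e : ℕ, IsUnit (ρ (g ^ e)) := fun e =>
    IsLocalization.map_units Γ(X, X.basicOpen g) (⟨g ^ e, e, rfl⟩ : Submonoid.powers g)
  apply le_antisymm
  · intro b hb
    rw [RingHom.mem_ker] at hb
    obtain ⟨⟨a, ⟨_, n, rfl⟩⟩, ha⟩ := IsLocalization.surj (Submonoid.powers g) b
    simp only at ha
    change b * ρ (g ^ n) = ρ a at ha
    have h0 : (Y.presheaf.map (homOfLE hle).op).hom ((j.app U).hom a) = 0 := by
      rw [← hnat, ← ha, map_mul, hb, zero_mul]
    have hpre : j ⁻¹ᵁ X.basicOpen g = Y.basicOpen ((j.app U).hom g) :=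
      Scheme.preimage_basicOpen j g
    have h1 := res_eq_zero_of_eq ((j.app U).hom a) hpre hle (Y.basicOpen_le _) h0
    obtain ⟨m, hm⟩ := exists_pow_mul_eq_zero_of_res_basicOpen_eq_zero_of_isCompact Y hc
      ((j.app U).hom a) ((j.app U).hom g) h1
    have hmem : g ^ m * a ∈ RingHom.ker (j.app U).hom := by
      rw [RingHom.mem_ker, map_mul, map_pow]
      exact hm
    have h2 : ρ (g ^ m * a) ∈ (RingHom.ker (j.app U).hom).map ρ := Ideal.mem_map_of_mem _ hmem
    rw [map_mul, ← ha, ← mul_assoc, mul_comm (ρ (g ^ m)) b, mul_assoc, ← map_mul, mul_comm,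
      ← pow_add] at h2
    exact (Ideal.unit_mul_mem_iff_mem _ (hu _)).mp h2
  · rw [Ideal.map_le_iff_le_comap]
    intro a ha
    rw [RingHom.mem_ker] at ha
    rw [Ideal.mem_comap, RingHom.mem_ker, hnat, ha, map_zero]

end Groth.Agent.Lib.Seat22.KerBasic
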