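import Mathlib
import Groth.Statements.S4887
import Groth.Prelude.Def_Omega4
import Groth.Agent.Lib.Seat22KerFP
import Groth.Agent.Lib.Helper2FinPushFP
import Groth.Agent.Lib.Helper2FlatOver
import Groth.Agent.Lib.Helper23FinTypeLocal
import Groth.Agent.Lib.Helper23QCohAbelian

/-!
# Kernel of an epimorphism onto a flat finitely presented module (scheme level, seat 22)
-/

set_option autoImplicit false
set_option linter.style.haveILetI false
universe u
open CategoryTheory CategoryTheory.Limits AlgebraicGeometry TopologicalSpace Opposite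
open EGA43

namespace Groth.Agent.Lib.Seat22.KerFPSch

variable {X : Scheme.{u}} {P G : X.Modules} (π : P ⟶ G)

/-- `π` on sections as a linear map. -/
noncomputable def appL (V : X.Opens) : Γ(P, V) →ₗ[Γ(X, V)] Γ(G, V) where
  toFun x := π.app V x
  map_add' x y := map_add _ x y
  map_smul' r x := Scheme.Modules.Hom.app_smul π r x

theorem appL_apply (V : X.Opens) (x : Γ(P, V)) : appL π V x = π.app V x := rfl

/-- sections of the kernel are the kernel on sections (linearly). -/
theorem nonempty_kernel_sections_equiv (W : X.Opens) :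
    Nonempty (Γ(kernel π, W) ≃ₗ[Γ(X, W)] LinearMap.ker (appL π W)) := by
  have hinj : Function.Injective (appL (kernel.ι π) W) := OmegaSh.ι_app_injective π W
  have hrange : LinearMap.range (appL (kernel.ι π) W) = LinearMap.ker (appL π W) := by
    ext m
    constructor
    · rintro ⟨s, rfl⟩
      rw [LinearMap.mem_ker, appL_apply, appL_apply, ← ConcreteCategory.comp_apply,
        ← Scheme.Modules.Hom.comp_app, kernel.condition, Scheme.Modules.Hom.zero_app]
      rfl
    · intro hm
      exact ⟨OmegaSh.kerLift π W m hm, OmegaSh.ι_kerLift π W m hm⟩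
  exact ⟨(LinearEquiv.ofInjective _ hinj).trans (LinearEquiv.ofEq _ _ hrange)⟩

open Groth.Agent.Lib.Helper23.QCohLocal Groth.Agent.Lib.Helper2.FPAff in
/-- the kernel of an epimorphism from a finitely presented quasi-coherent module onto a finitely
presented quasi-coherent module flat over the base of a morphism locally of finite presentation is
finitely presented. -/
theorem isFP_kernel_of_flat {Y : Scheme.{u}} (f : X ⟶ Y) [LocallyOfFinitePresentation f]
    [P.IsQuasicoherent] [G.IsQuasicoherent] (hP : CohB1.IsFP P) (hG : CohB1.IsFP G)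
    (hflat : FlatMod.IsFlatOver f G) [Epi π] : CohB1.IsFP (kernel π) := by
  haveI : SheafOfModules.IsFinitePresentation (R := X.ringCatSheaf) P := hP
  haveI : SheafOfModules.IsFinitePresentation (R := X.ringCatSheaf) G := hG
  haveI : (kernel π).IsQuasicoherent := isQuasicoherent_kernel π
  have key : ∀ x : X, ∃ W : X.Opens, IsAffineOpen W ∧ x ∈ W ∧
      Module.FinitePresentation Γ(X, W) Γ(kernel π, W) := by
    intro x
    obtain ⟨V, hV, hxV, -⟩ := exists_isAffineOpen_mem_and_subset (X := Y) (x := f.base x)
      (U := ⊤) trivial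
    obtain ⟨W, hW, hxW, hWV⟩ := exists_isAffineOpen_mem_and_subset (X := X) (x := x)
      (U := f ⁻¹ᵁ V) hxV
    refine ⟨W, hW, hxW, ?_⟩
    have hWV' : W ≤ f ⁻¹ᵁ V := hWV
    letI : Algebra Γ(Y, V) Γ(X, W) := (f.appLE V W hWV').hom.toAlgebra
    haveI : Algebra.FinitePresentation Γ(Y, V) Γ(X, W) :=
      HasRingHomProperty.appLE (P := @LocallyOfFinitePresentation) f inferInstance ⟨V, hV⟩
        ⟨W, hW⟩ hWV'
    letI : Module Γ(Y, V) Γ(G, W) := Module.compHom Γ(G, W) (f.appLE V W hWV').hom
    haveI : IsScalarTower Γ(Y, V) Γ(X, W) Γ(G, W) := ⟨fun a b m => by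
      change ((f.appLE V W hWV').hom a * b) • m = (f.appLE V W hWV').hom a • (b • m)
      rw [mul_smul]⟩
    haveI : Module.Flat Γ(Y, V) Γ(G, W) :=
      Groth.Agent.Lib.Helper2.FlatOver.flat_sections_of_isFlatOverAt f G hW hV hWV'
        (fun x _ => hflat x)
    haveI : Module.FinitePresentation Γ(X, W) Γ(P, W) := finitePresentation_sections P hW
    haveI : Module.FinitePresentation Γ(X, W) Γ(G, W) := finitePresentation_sections G hW
    have hsurj : Function.Surjective (appL π W) :=
      Groth.Agent.Lib.Helper23.FinType.surjective_app_of_epi π hW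
    haveI := Groth.Agent.Lib.Seat22.KerFP.finitePresentation_ker Γ(Y, V) Γ(X, W) Γ(G, W)
      (appL π W) hsurj
    obtain ⟨ε⟩ := nonempty_kernel_sections_equiv π W
    exact Module.FinitePresentation.of_equiv ε.symm
  choose W hW hxW hfp using key
  refine Groth.Agent.Lib.Helper2.FinPushFP.isFinitePresentation_of_finitePresentation_sections _
    W ?_ hW hfp
  rw [IsOpenCover, eq_top_iff]
  intro x _
  exact Opens.mem_iSup.2 ⟨x, hxW x⟩

end Groth.Agent.Lib.Seat22.KerFPSch
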