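import Mathlib
import Groth.Prelude.Def_Omega4
import Groth.Agent.Lib.Helper18OmLS15
import Groth.Agent.Lib.Seat22FSmAffine

/-!
# Differentials of formally smooth morphisms (seat 22)

For `f : X ⟶ Y` formally smooth (scheme-level lifting property), the canonical map
`f^* Ω_{Y/S} ⟶ Ω_{X/S}` is a monomorphism.
-/

set_option autoImplicit false
set_option linter.style.haveILetI false
universe u
open CategoryTheory CategoryTheory.Limits AlgebraicGeometry TopologicalSpace Opposite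
open KaehlerDifferential TensorProduct
open Groth.Agent.Helper18OmLS

namespace Groth.Agent.Lib.Seat22.OmegaSmooth

/-- For `B` formally smooth over `A`, the map `B ⊗_A Ω[A/C] → Ω[B/C]` is injective. -/
theorem injective_mapBaseChange_of_formallySmooth (C A B : Type u) [CommRing C] [CommRing A]
    [CommRing B] [Algebra C A] [Algebra A B] [Algebra C B] [IsScalarTower C A B]
    [Algebra.FormallySmooth A B] :
    Function.Injective (KaehlerDifferential.mapBaseChange C A B) := by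
  rw [injective_iff_map_eq_zero]
  intro x hx
  obtain ⟨x, rfl⟩ := (Algebra.H1Cotangent.exact_δ_mapBaseChange C A B x).mp hx
  rw [Subsingleton.elim x 0, map_zero]

theorem injective_of_formallySmooth {C A B : Type u} [CommRing C] [CommRing A] [CommRing B]
    [Algebra C A] [Algebra A B] [Algebra C B] [IsScalarTower C A B]
    (κ : B ⊗[A] Ω[A⁄C] →ₗ[B] Ω[B⁄C])
    (hκ : ∀ (b : B) (a : A), κ (b ⊗ₜ D C A a) = b • D C B (algebraMap A B a))
    [Algebra.FormallySmooth A B] : Function.Injective κ := by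
  have h1 : κ = KaehlerDifferential.mapBaseChange C A B := by
    apply tensor_kaehler_ext
    intro a
    rw [hκ, KaehlerDifferential.mapBaseChange_tmul, KaehlerDifferential.map_D]
  rw [h1]
  exact injective_mapBaseChange_of_formallySmooth C A B

theorem injective_of_model {B M N M' N' : Type u} [CommRing B] [AddCommGroup M] [AddCommGroup N]
    [AddCommGroup M'] [AddCommGroup N'] [Module B M] [Module B N] [Module B M'] [Module B N']
    (e₁ : M' ≃ₗ[B] M) (e₂ : N ≃ₗ[B] N') (κ : M' →ₗ[B] N') (φ : M → N)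
    (h : ∀ t, κ t = e₂ (φ (e₁ t))) (hκ : Function.Injective κ) : Function.Injective φ := by
  have h1 : φ = e₂.symm ∘ κ ∘ e₁.symm := by
    funext t
    simp [h]
  rw [h1]
  exact e₂.symm.injective.comp (hκ.comp e₁.symm.injective)

theorem chart_injective {X Y S : Scheme.{u}} (g : Y ⟶ S) (h : X ⟶ S)
    (f : X ⟶ Y) (w : f ≫ g = h)
    (ΩY : Y.Modules) (dY : OmegaSh.Der g ΩY) (hY : OmegaSh.IsUniversal dY)
    (ΩX : X.Modules) (dX : OmegaSh.Der h ΩX) (hX : OmegaSh.IsUniversal dX)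
    (c : (Scheme.Modules.pullback f).obj ΩY ⟶ ΩX) (hc : OmegaSh.IsDiffCompat f dY dX c)
    {W : S.Opens} (hW : IsAffineOpen W) {V : Y.Opens} (hV : IsAffineOpen V) {U : X.Opens}
    (hU : IsAffineOpen U) (hVW : V ≤ g ⁻¹ᵁ W) (hUV : U ≤ f ⁻¹ᵁ V)
    (hfs : (f.appLE V U hUV).hom.FormallySmooth) :
    Function.Injective (c.app U) := by
  have hUW : U ≤ h ⁻¹ᵁ W := by
    intro y hy
    have h1 : g (f y) ∈ W := hVW (hUV hy)
    have h2 : h y = g (f y) := by rw [← w]; rfl
    change h y ∈ W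
    rw [h2]; exact h1
  letI algCA : Algebra Γ(S, W) Γ(Y, V) := (g.appLE W V hVW).hom.toAlgebra
  letI algCB : Algebra Γ(S, W) Γ(X, U) := (h.appLE W U hUW).hom.toAlgebra
  letI algAB : Algebra Γ(Y, V) Γ(X, U) := (f.appLE V U hUV).hom.toAlgebra
  haveI : IsScalarTower Γ(S, W) Γ(Y, V) Γ(X, U) := by
    refine IsScalarTower.of_algebraMap_eq fun r => ?_
    have h1 : g.appLE W V hVW ≫ f.appLE V U hUV = (f ≫ g).appLE W U
        (fun y hy => hVW (hUV hy)) := Scheme.Hom.appLE_comp_appLE _ _ _ _ _ _ _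
    have h3 := OmegaSh.appLE_congr_hom w (U := W) (V := U) (fun y hy => hVW (hUV hy)) hUW
    have h4 : h.appLE W U hUW = g.appLE W V hVW ≫ f.appLE V U hUV := by rw [h1, h3]
    exact congr($h4 r)
  haveI : Algebra.FormallySmooth Γ(Y, V) Γ(X, U) := hfs
  obtain ⟨e₁, e₂, κ, hκ1, hκ2⟩ := exists_chart_model f g h dY dX c hc hUV hY hX hU hV hW hVW
    hW hUW rfl rfl rfl
  exact injective_of_model e₁ e₂ κ _ hκ1 (injective_of_formallySmooth κ hκ2)

theorem mono_of_formallySmooth {X Y S : Scheme.{u}} (g : Y ⟶ S) (h : X ⟶ S)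
    (f : X ⟶ Y) (w : f ≫ g = h) (hf : MoreMor.IsFormallySmoothHom f)
    (ΩY : Y.Modules) (dY : OmegaSh.Der g ΩY) (hY : OmegaSh.IsUniversal dY)
    (ΩX : X.Modules) (dX : OmegaSh.Der h ΩX) (hX : OmegaSh.IsUniversal dX)
    (c : (Scheme.Modules.pullback f).obj ΩY ⟶ ΩX) (hc : OmegaSh.IsDiffCompat f dY dX c) :
    Mono c := by
  let B : Set X.Opens := {U | IsAffineOpen U ∧ ∃ (W : S.Opens) (V : Y.Opens), IsAffineOpen W ∧
    IsAffineOpen V ∧ V ≤ g ⁻¹ᵁ W ∧ U ≤ f ⁻¹ᵁ V}
  have hB : TopologicalSpace.Opens.IsBasis B := by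
    rw [TopologicalSpace.Opens.isBasis_iff_nbhd]
    intro O x hxO
    obtain ⟨W, hW, hxW, -⟩ := exists_isAffineOpen_mem_and_subset (x := g (f x)) (U := ⊤) trivial
    obtain ⟨V, hV, hxV, hVW⟩ := exists_isAffineOpen_mem_and_subset (x := f x) (U := g ⁻¹ᵁ W) hxW
    have hx2 : x ∈ f ⁻¹ᵁ V ⊓ O := ⟨hxV, hxO⟩
    obtain ⟨U, hU, hxU, hUV⟩ := exists_isAffineOpen_mem_and_subset (x := x) (U := f ⁻¹ᵁ V ⊓ O) hx2
    exact ⟨U, ⟨hU, W, V, hW, hV, hVW, hUV.trans inf_le_left⟩, hxU, hUV.trans inf_le_right⟩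
  refine mono_of_injective_app_basis c B hB ?_
  rintro U ⟨hU, W, V, hW, hV, hVW, hUV⟩
  exact chart_injective g h f w ΩY dY hY ΩX dX hX c hc hW hV hU hVW hUV
    (Groth.Agent.Lib.Seat22.FSmAffine.formallySmooth_appLE f hf hU hV hUV)

end Groth.Agent.Lib.Seat22.OmegaSmooth
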