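import Mathlib
import Groth.Prelude.Def_Omega4
import Groth.Prelude.Def_Flat
import Groth.Agent.Lib.Helper18OmLS15
import Groth.Agent.Lib.Helper20LocFree
import Groth.Agent.Lib.Seat22FSmAffine

/-!
# Differentials of formally smooth morphisms locally of finite type are finite locally free (seat 22)
-/

set_option autoImplicit false
set_option linter.style.haveILetI false
universe u
open CategoryTheory CategoryTheory.Limits AlgebraicGeometry TopologicalSpace Opposite
open KaehlerDifferential TensorProduct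
open Groth.Agent.Helper18OmLS

namespace Groth.Agent.Lib.Seat22.OmegaSmooth

theorem isFinLocFree_of_formallySmooth {X Y : Scheme.{u}} (f : X ⟶ Y)
    (hf : MoreMor.IsFormallySmoothHom f) [LocallyOfFiniteType f]
    (Ω' : X.Modules) (d : OmegaSh.Der f Ω') (hd : OmegaSh.IsUniversal d) :
    FlatMod.IsFinLocFree Ω' := by
  haveI := isQuasicoherent_of_isUniversal f d hd
  intro x
  obtain ⟨V, hV, hxV, -⟩ := exists_isAffineOpen_mem_and_subset (x := f x) (U := ⊤) trivial
  obtain ⟨U, hU, hxU, hUV⟩ := exists_isAffineOpen_mem_and_subset (x := x) (U := f ⁻¹ᵁ V) hxV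
  have hfs : (f.appLE V U hUV).hom.FormallySmooth :=
    Groth.Agent.Lib.Seat22.FSmAffine.formallySmooth_appLE f hf hU hV hUV
  have hft : (f.appLE V U hUV).hom.FiniteType :=
    LocallyOfFiniteType.finiteType_appLE f hV hU hUV
  letI algAB : Algebra Γ(Y, V) Γ(X, U) := (f.appLE V U hUV).hom.toAlgebra
  haveI : Algebra.FormallySmooth Γ(Y, V) Γ(X, U) := hfs
  haveI : Algebra.FiniteType Γ(Y, V) Γ(X, U) := hft
  let e : ((Groth.Agent.Lib.Helper20.Thickening.ΓUF hU).obj Ω') ≃ₗ[Γ(X, U)] Ω[Γ(X, U)⁄Γ(Y, V)] :=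
    (ΓUFIso f d hd hU hV hUV rfl).toLinearEquiv
  haveI : Module.Finite Γ(X, U) Ω[Γ(X, U)⁄Γ(Y, V)] := inferInstance
  haveI : Module.Projective Γ(X, U) Ω[Γ(X, U)⁄Γ(Y, V)] := inferInstance
  haveI : Module.Finite Γ(X, U) ((Groth.Agent.Lib.Helper20.Thickening.ΓUF hU).obj Ω') :=
    Module.Finite.equiv e.symm
  haveI : Module.Projective Γ(X, U) ((Groth.Agent.Lib.Helper20.Thickening.ΓUF hU).obj Ω') :=
    Module.Projective.of_equiv e.symm
  haveI : Module.FinitePresentation Γ(X, U)
      ((Groth.Agent.Lib.Helper20.Thickening.ΓUF hU).obj Ω') :=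
    Module.finitePresentation_of_projective _ _
  obtain ⟨D, m, hxD, -, hiso⟩ :=
    Groth.Agent.Lib.Helper20.LocFree.exists_restrict_iso_freeMod Ω' hU x hxU
  exact ⟨D, m, hxD, hiso⟩

end Groth.Agent.Lib.Seat22.OmegaSmooth
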