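import Mathlib
import Groth.Prelude.Def_Omega4
import Groth.Agent.Lib.Helper18OmLS15
import Groth.Agent.Lib.Seat22FSmAffine

/-!
# Conormal sheaf of a formally smooth subscheme injects into the differentials (seat 22)
-/

set_option autoImplicit false
set_option linter.style.haveILetI false
universe u
open CategoryTheory CategoryTheory.Limits AlgebraicGeometry TopologicalSpace Opposite
open KaehlerDifferential TensorProduct
open Groth.Agent.Helper13PullbackUnit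
open Groth.Agent.Helper18OmLS

namespace Groth.Agent.Lib.Seat22.OmegaSmooth

/-- `A → B → R` with `B → R` surjective with kernel `I` and `R` formally smooth over `A`:
an element `b ∈ I` with `1 ⊗ d b = 0` in `R ⊗_B Ω[B/A]` lies in `I²`. -/
theorem mem_sq_of_one_tmul_D_eq_zero {A B R : Type u} [CommRing A] [CommRing B] [CommRing R]
    [Algebra A B] [Algebra B R] [Algebra A R] [IsScalarTower A B R] [Algebra.FormallySmooth A R]
    (hBR : Function.Surjective (algebraMap B R)) (b : B) (hb : b ∈ RingHom.ker (algebraMap B R))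
    (h : (1 : R) ⊗ₜ[B] D A B b = 0) : b ∈ RingHom.ker (algebraMap B R) ^ 2 := by
  let f : B →ₐ[A] R := IsScalarTower.toAlgHom A B R
  have surj : Function.Surjective f.kerSquareLift :=
    Ideal.Quotient.lift_surjective_of_surjective _ _ hBR
  have sqz : RingHom.ker f.kerSquareLift.toRingHom ^ 2 = ⊥ := by
    rw [AlgHom.ker_kerSquareLift, Ideal.cotangentIdeal_square]
  obtain ⟨g, hg⟩ := Algebra.FormallySmooth.comp_surjective A R _ sqz
    (Ideal.quotientKerAlgEquivOfSurjective surj).symm.toAlgHom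
  have hsec : f.kerSquareLift.comp g = AlgHom.id A R := by
    refine AlgHom.ext fun x => (congr(f.kerSquareLift.kerLift ($hg x))).trans ?_
    obtain ⟨x, rfl⟩ := (Ideal.quotientKerAlgEquivOfSurjective surj).surjective x
    obtain ⟨x, rfl⟩ := Ideal.Quotient.mk_surjective x
    simp only [AlgEquiv.coe_toAlgHom, AlgEquiv.symm_apply_apply,
      AlgHom.coe_id, id_eq]
    simp only [Ideal.quotientKerAlgEquivOfSurjective_apply]
    rfl
  obtain ⟨l, hl⟩ := (retractionKerCotangentToTensorEquivSection (R := A) hBR).symm ⟨g, hsec⟩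
  have hinj : Function.Injective (kerCotangentToTensor A B R) := by
    intro x y hxy
    have := congrArg l hxy
    rwa [← LinearMap.comp_apply, ← LinearMap.comp_apply, hl] at this
  have h0 : (RingHom.ker (algebraMap B R)).toCotangent ⟨b, hb⟩ = 0 := by
    apply hinj
    rw [kerCotangentToTensor_toCotangent, map_zero]
    exact h
  exact Ideal.toCotangent_eq_zero _ _ |>.mp h0


section main
variable {X' X Y : Scheme.{u}} (j : X' ⟶ X) [IsImmersion j] [QuasiCompact j] (f : X ⟶ Y)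
    (Ω' : X.Modules) (d : OmegaSh.Der f Ω') (hd : OmegaSh.IsUniversal d)
    (φ : Omega.conormal j ⟶ (Scheme.Modules.pullback j).obj Ω') (hφ : OmegaSh.IsConormalDiff j d φ)

include hd hφ in
theorem chart_conormal_injective {V : Y.Opens} (hV : IsAffineOpen V) {U : X.Opens}
    (hU : IsAffineOpen U) (hUV : U ≤ f ⁻¹ᵁ V) (hUj : U ≤ j.coborderRange)
    (hfs : ((j ≫ f).appLE V (j ⁻¹ᵁ U) (fun _ hz => hUV hz)).hom.FormallySmooth)
    (n : Γ(Omega.conormal j, j ⁻¹ᵁ U)) (hn : φ.app (j ⁻¹ᵁ U) n = 0) : n = 0 := by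
  haveI := isQuasicoherent_of_isUniversal f d hd
  have hTaff : IsAffineOpen (j ⁻¹ᵁ U) :=
    Groth.Agent.Lib.Helper20.ConormalStalk.isAffineOpen_preimage j hU hUj
  have hTU : j ⁻¹ᵁ U ≤ j ⁻¹ᵁ U := le_refl _
  have hTV : j ⁻¹ᵁ U ≤ (j ≫ f) ⁻¹ᵁ V := fun _ hz => hUV hz
  letI algAB : Algebra Γ(Y, V) Γ(X, U) := (f.appLE V U hUV).hom.toAlgebra
  letI algBR : Algebra Γ(X, U) Γ(X', j ⁻¹ᵁ U) := (j.appLE U (j ⁻¹ᵁ U) hTU).hom.toAlgebra
  letI algAR : Algebra Γ(Y, V) Γ(X', j ⁻¹ᵁ U) := ((j ≫ f).appLE V (j ⁻¹ᵁ U) hTV).hom.toAlgebra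
  haveI : IsScalarTower Γ(Y, V) Γ(X, U) Γ(X', j ⁻¹ᵁ U) := by
    refine IsScalarTower.of_algebraMap_eq fun r => ?_
    have h1 : f.appLE V U hUV ≫ j.appLE U (j ⁻¹ᵁ U) hTU = (j ≫ f).appLE V (j ⁻¹ᵁ U) hTV :=
      Scheme.Hom.appLE_comp_appLE _ _ _ _ _ _ _
    exact congr($h1.symm r)
  haveI : Algebra.FormallySmooth Γ(Y, V) Γ(X', j ⁻¹ᵁ U) := hfs
  have hBR : Function.Surjective (algebraMap Γ(X, U) Γ(X', j ⁻¹ᵁ U)) := by
    intro b
    obtain ⟨a, ha⟩ := Groth.Agent.Lib.Helper20.ConormalStalk.app_surjective j hU hUj b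
    refine ⟨a, ?_⟩
    rw [← ha]
    change (j.appLE U (j ⁻¹ᵁ U) hTU) a = _
    rw [← Scheme.Hom.app_eq_appLE]
  have hkerI : ∀ b : Γ(X, U), b ∈ RingHom.ker (algebraMap Γ(X, U) Γ(X', j ⁻¹ᵁ U)) ↔
      j.app U b = 0 := by
    intro b
    rw [RingHom.mem_ker]
    change (j.appLE U (j ⁻¹ᵁ U) hTU) b = 0 ↔ _
    rw [← Scheme.Hom.app_eq_appLE]
  have hkerEq : RingHom.ker (algebraMap Γ(X, U) Γ(X', j ⁻¹ᵁ U)) = RingHom.ker (j.app U).hom := by
    ext b
    rw [hkerI, RingHom.mem_ker]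
  let sE := sectionsEquiv f d hd hU hV hUV rfl
  have hsE : ∀ b, sE (d.app U b) = D Γ(Y, V) Γ(X, U) b := sectionsEquiv_d f d hd hU hV hUV rfl
  haveI : (ClSub.idealMod j.ker).IsQuasicoherent := inferInstance
  obtain ⟨s, rfl⟩ := exists_unitSec_eq j (ClSub.idealMod j.ker) hTU hU hTaff rfl hBR n
  have hs₀ : OmegaSh.idealSect j.ker U s ∈ RingHom.ker (algebraMap Γ(X, U) Γ(X', j ⁻¹ᵁ U)) :=
    (hkerI _).mpr (app_idealSect_eq_zero j U s)
  rw [phi_unitSec j d φ hφ hTU s] at hn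
  obtain ⟨e, he⟩ := exists_pullback_equiv j Ω' hTU hU hTaff rfl
  have h1 : (1 : Γ(X', j ⁻¹ᵁ U)) ⊗ₜ[Γ(X, U)] (d.app U (OmegaSh.idealSect j.ker U s)) = 0 := by
    apply e.injective
    rw [he, one_smul, hn, map_zero]
  have h2 : (1 : Γ(X', j ⁻¹ᵁ U)) ⊗ₜ[Γ(X, U)]
      D Γ(Y, V) Γ(X, U) (OmegaSh.idealSect j.ker U s) = 0 := by
    have := congrArg (LinearMap.lTensor Γ(X', j ⁻¹ᵁ U) sE.toLinearMap) h1
    rw [LinearMap.lTensor_tmul, map_zero] at this
    rw [← hsE]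
    exact this
  have h3 := mem_sq_of_one_tmul_D_eq_zero hBR _ hs₀ h2
  have hmem : s ∈ (RingHom.ker (algebraMap Γ(X, U) Γ(X', j ⁻¹ᵁ U)) • ⊤ :
      Submodule Γ(X, U) Γ(ClSub.idealMod j.ker, U)) := by
    rw [hkerEq]
    apply mem_smul_top_of_idealSect_mem_sq
    rw [← hkerEq]
    exact h3
  exact unitSec_eq_zero_of_mem_smul_top j (ClSub.idealMod j.ker) hTU rfl hmem

include hd hφ in
theorem mono_conormal_of_formallySmooth (hf : MoreMor.IsFormallySmoothHom (j ≫ f)) : Mono φ := by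
  let B : Set X'.Opens := {T | ∃ (V : Y.Opens) (U : X.Opens), IsAffineOpen V ∧
    IsAffineOpen U ∧ U ≤ f ⁻¹ᵁ V ∧ U ≤ j.coborderRange ∧ T = j ⁻¹ᵁ U}
  have hB : TopologicalSpace.Opens.IsBasis B := by
    rw [TopologicalSpace.Opens.isBasis_iff_nbhd]
    intro O z hzO
    obtain ⟨O'set, hO'open, hO'eq⟩ := j.isEmbedding.isInducing.isOpen_iff.mp O.isOpen
    let O' : X.Opens := ⟨O'set, hO'open⟩
    have hO' : ∀ z' : X', j z' ∈ O' ↔ z' ∈ O := by
      intro z'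
      have : z' ∈ (j ⁻¹' O'set) ↔ z' ∈ (O : Set X') := by rw [hO'eq]
      exact this
    obtain ⟨V, hV, hzV, -⟩ := exists_isAffineOpen_mem_and_subset (x := f (j z)) (U := ⊤) trivial
    have hjz : j z ∈ (f ⁻¹ᵁ V ⊓ j.coborderRange) ⊓ O' :=
      ⟨⟨hzV, subset_coborder ⟨z, rfl⟩⟩, (hO' z).mpr hzO⟩
    obtain ⟨U, hU, hzU, hUle⟩ := exists_isAffineOpen_mem_and_subset (x := j z) hjz
    refine ⟨j ⁻¹ᵁ U, ⟨V, U, hV, hU, hUle.trans (inf_le_left.trans inf_le_left),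
      hUle.trans (inf_le_left.trans inf_le_right), rfl⟩, hzU, ?_⟩
    intro z' hz'
    exact (hO' z').mp (hUle.trans inf_le_right hz')
  refine mono_of_injective_app_basis φ B hB ?_
  rintro T ⟨V, U, hV, hU, hUV, hUj, rfl⟩
  have hTaff : IsAffineOpen (j ⁻¹ᵁ U) :=
    Groth.Agent.Lib.Helper20.ConormalStalk.isAffineOpen_preimage j hU hUj
  have hfs := Groth.Agent.Lib.Seat22.FSmAffine.formallySmooth_appLE (j ≫ f) hf hTaff hV
    (fun _ hz => hUV hz)
  intro n₁ n₂ h12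
  have h0 : φ.app (j ⁻¹ᵁ U) (n₁ - n₂) = 0 := by
    rw [map_sub, h12, sub_self]
  exact sub_eq_zero.mp (chart_conormal_injective j f Ω' d hd φ hφ hV hU hUV hUj hfs _ h0)

end main

end Groth.Agent.Lib.Seat22.OmegaSmooth
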