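import Mathlib
import Groth.Prelude.Def_Omega4
import Groth.Prelude.Def_Flat
import Groth.Agent.Lib.Helper18OmLS15
import Groth.Agent.Lib.Helper20LocFree
import Groth.Agent.Lib.Helper3SmDim

/-!
# Differentials of a smooth morphism are free of rank the fibre dimension (seat 22)
-/

set_option autoImplicit false
set_option linter.style.haveILetI false
universe u
open CategoryTheory CategoryTheory.Limits AlgebraicGeometry TopologicalSpace Opposite
open KaehlerDifferential TensorProduct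
open Groth.Agent.Helper18OmLS

namespace Groth.Agent.Lib.Seat22.OmegaSmooth

theorem exists_free_rank_eq_fibreDimAt {X Y : Scheme.{u}} (f : X ⟶ Y) [Smooth f]
    (Ω' : X.Modules) (d : OmegaSh.Der f Ω') (hd : OmegaSh.IsUniversal d) (x : ↥X) :
    ∃ (U : X.Opens) (n : ℕ), x ∈ U ∧ Nonempty (Ω'.restrict U.ι ≅ FlatMod.freeMod (↑U) n) ∧
      FlatMor.fibreDimAt f x = (n : WithBot ℕ∞) := by
  haveI := isQuasicoherent_of_isUniversal f d hd
  obtain ⟨V, hV, U, hU, hxU, hUV, hss⟩ := Smooth.exists_isStandardSmooth f x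
  obtain ⟨n, hn⟩ := Groth.Agent.Lib.Helper3.SmDim.exists_relDim_of_isStandardSmooth _ hss
  letI algAB : Algebra Γ(Y, V) Γ(X, U) := (f.appLE V U hUV).hom.toAlgebra
  haveI : Algebra.IsStandardSmoothOfRelativeDimension n Γ(Y, V) Γ(X, U) := hn
  haveI : Algebra.IsStandardSmooth Γ(Y, V) Γ(X, U) := hss
  haveI : Nonempty U := ⟨⟨x, hxU⟩⟩
  haveI : Nontrivial Γ(X, U) := inferInstance
  have hrank : Module.rank Γ(X, U) Ω[Γ(X, U)⁄Γ(Y, V)] = n :=
    Algebra.IsStandardSmoothOfRelativeDimension.rank_kaehlerDifferential n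
  haveI : Module.Free Γ(X, U) Ω[Γ(X, U)⁄Γ(Y, V)] := inferInstance
  haveI : Module.Finite Γ(X, U) Ω[Γ(X, U)⁄Γ(Y, V)] := inferInstance
  have hfin : Module.finrank Γ(X, U) Ω[Γ(X, U)⁄Γ(Y, V)] = n := by
    rw [Module.finrank, hrank]
    exact Cardinal.toNat_natCast n
  let b : Module.Basis (Fin n) Γ(X, U) Ω[Γ(X, U)⁄Γ(Y, V)] := Module.finBasisOfFinrankEq _ _ hfin
  let e : ((Groth.Agent.Lib.Helper20.Thickening.ΓUF hU).obj Ω') ≃ₗ[Γ(X, U)] Ω[Γ(X, U)⁄Γ(Y, V)] :=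
    (ΓUFIso f d hd hU hV hUV rfl).toLinearEquiv
  refine ⟨U, n, hxU, ⟨Groth.Agent.Lib.Helper20.LocFree.restrictIsoFreeMod' Ω' hU (b.map e.symm)⟩, ?_⟩
  exact Groth.Agent.Lib.Helper3.SmDim.fibreDimAt_eq_of_chart f n x hV hU hxU hUV hn

end Groth.Agent.Lib.Seat22.OmegaSmooth
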