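import Mathlib
import Groth.Prelude.Def_CAlgX

/-!
# Seat22: quasi-regular sequences localize
-/

set_option autoImplicit false
universe u

namespace Groth.Agent.Lib.Seat22.QRegLoc

open MvPolynomial

/-- Quasi-regularity of a sequence is preserved by localization. -/
theorem isQuasiRegular_of_isLocalization {R : Type u} [CommRing R] (S : Submonoid R)
    (R' : Type u) [CommRing R'] [Algebra R R'] [IsLocalization S R'] {c : ℕ} (f : Fin c → R)
    (hf : CAlgX.IsQuasiRegular f) :
    CAlgX.IsQuasiRegular (fun i => algebraMap R R' (f i)) := by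
  classical
  intro n P' hP' hev d
  set φ := algebraMap R R' with hφ
  set J := Ideal.span (Set.range f) with hJ
  have hJ' : Ideal.span (Set.range fun i => φ (f i)) = J.map φ := by
    rw [hJ, Ideal.map_span, ← Set.range_comp]
    rfl
  rw [hJ'] at hev ⊢
  -- clear denominators
  obtain ⟨b, hb⟩ := IsLocalization.exist_integer_multiples_of_finset S
    (P'.support.image fun d => P'.coeff d)
  have hall : ∀ e : Fin c →₀ ℕ, ∃ a : R, φ a = φ b * P'.coeff e := by
    intro e
    by_cases he : e ∈ P'.support
    · obtain ⟨a, ha⟩ := hb (P'.coeff e) (Finset.mem_image_of_mem _ he)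
      refine ⟨a, ?_⟩
      rw [ha, Algebra.smul_def]
    · refine ⟨0, ?_⟩
      rw [MvPolynomial.notMem_support_iff.mp he, mul_zero, map_zero]
  choose a ha using hall
  let P : MvPolynomial (Fin c) R := ∑ e ∈ P'.support, monomial e (a e)
  have hcoeffP : ∀ e, P.coeff e = if e ∈ P'.support then a e else 0 := by
    intro e
    simp only [P, coeff_sum, coeff_monomial]
    rw [Finset.sum_ite_eq' P'.support e (fun e' => a e')]
  have hmapP : MvPolynomial.map φ P = C (φ b) * P' := by
    ext e
    rw [coeff_map, hcoeffP, coeff_C_mul]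
    split_ifs with he
    · exact ha e
    · rw [MvPolynomial.notMem_support_iff.mp he, mul_zero, map_zero]
  have hPhom : P.IsHomogeneous n := by
    intro e he
    apply hP'
    rw [hcoeffP] at he
    split_ifs at he with he'
    · exact MvPolynomial.mem_support_iff.mp he'
    · exact absurd rfl he
  have hevP : φ (eval f P) ∈ (J ^ (n + 1)).map φ := by
    have h1 : φ (eval f P) = eval (fun i => φ (f i)) (MvPolynomial.map φ P) := by
      rw [MvPolynomial.eval_map]
      change φ (eval₂ (RingHom.id R) f P) = _
      rw [MvPolynomial.eval₂_comp_left φ (RingHom.id R) f P]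
      rfl
    rw [h1, hmapP, map_mul, eval_C, Ideal.map_pow]
    exact Ideal.mul_mem_left _ _ hev
  obtain ⟨⟨⟨j, hj⟩, s⟩, hjs⟩ := (IsLocalization.mem_map_algebraMap_iff S R').mp hevP
  simp only at hjs
  rw [← map_mul] at hjs
  obtain ⟨t, ht⟩ := (IsLocalization.eq_iff_exists S R').mp hjs
  have hmem : eval f (C ((t : R) * s) * P) ∈ J ^ (n + 1) := by
    rw [map_mul, eval_C]
    have : (t : R) * s * eval f P = t * (eval f P * s) := by ring
    rw [this, ht]
    exact Ideal.mul_mem_left _ _ hj
  have hcoef := hf n (C ((t : R) * s) * P) (hPhom.C_mul _) hmem d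
  rw [coeff_C_mul, hcoeffP] at hcoef
  by_cases hd : d ∈ P'.support
  · rw [if_pos hd] at hcoef
    have h2 : φ ((t : R) * s * a d) ∈ J.map φ := Ideal.mem_map_of_mem φ hcoef
    rw [map_mul, ha d, ← mul_assoc, ← map_mul] at h2
    have hu : IsUnit (φ ((t : R) * s * b)) := by
      have := IsLocalization.map_units R' (t * s * b)
      simpa using this
    exact (Ideal.unit_mul_mem_iff_mem _ hu).mp h2
  · rw [MvPolynomial.notMem_support_iff.mp hd]
    exact Ideal.zero_mem _

end Groth.Agent.Lib.Seat22.QRegLoc
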