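import Mathlib
import Groth.Agent.Lib.Seat22QRegLoc
import Groth.Agent.S5803

/-!
# Seat22: spreading out regular sequences from a localization at a prime (Noetherian rings),
and quasi-regular ⇒ regular on a basic open neighbourhood.
-/

set_option autoImplicit false
universe u

namespace Groth.Agent.Lib.Seat22.RegSpread

open RingTheory.Sequence

/-- Weak regularity of a sequence on the ring itself, as colon conditions. -/
theorem isWeaklyRegular_self_iff {R : Type*} [CommRing R] (rs : List R) :
    IsWeaklyRegular R rs ↔ ∀ (i : ℕ) (h : i < rs.length) (a : R),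
      rs[i] * a ∈ Ideal.ofList (rs.take i) → a ∈ Ideal.ofList (rs.take i) := by
  rw [isWeaklyRegular_iff]
  refine forall_congr' fun i => forall_congr' fun h => ?_
  rw [isSMulRegular_quotient_iff_mem_of_smul_mem]
  have : (Ideal.ofList (rs.take i) • ⊤ : Submodule R R) = Ideal.ofList (rs.take i) := by
    rw [smul_eq_mul, Ideal.mul_top]
  rw [this]
  rfl

/-- A finitely generated ideal all of whose elements are pushed into `I` by some element outside a
prime `p` is pushed into `I` by a single element outside `p`. -/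
theorem exists_notMem_forall_mul_mem {R : Type*} [CommRing R] (p : Ideal R) [p.IsPrime]
    (Q I : Ideal R) (hQ : Q.FG) (h : ∀ q ∈ Q, ∃ s, s ∉ p ∧ s * q ∈ I) :
    ∃ g, g ∉ p ∧ ∀ q ∈ Q, g * q ∈ I := by
  classical
  obtain ⟨T, hT⟩ := hQ
  have h' : ∀ q : R, ∃ s, s ∉ p ∧ (q ∈ Q → s * q ∈ I) := by
    intro q
    by_cases hq : q ∈ Q
    · obtain ⟨s, hs, hsq⟩ := h q hq
      exact ⟨s, hs, fun _ => hsq⟩
    · exact ⟨1, fun h1 => (Ideal.IsPrime.ne_top ‹_›) ((Ideal.eq_top_iff_one p).mpr h1),
        fun h => absurd h hq⟩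
  choose s hs hsq using h'
  refine ⟨∏ q ∈ T, s q, ?_, ?_⟩
  · have : ∏ q ∈ T, s q ∈ p.primeCompl := Submonoid.prod_mem _ fun q _ => hs q
    exact this
  · intro q hq
    rw [← hT] at hq
    refine Submodule.span_induction (p := fun x _ => (∏ q ∈ T, s q) * x ∈ I) ?_ ?_ ?_ ?_ hq
    · intro x hx
      have hxQ : x ∈ Q := hT ▸ Ideal.subset_span hx
      rw [← Finset.mul_prod_erase T s (Finset.mem_coe.mp hx), mul_right_comm]
      exact Ideal.mul_mem_right _ _ (hsq x hxQ)
    · rw [mul_zero]; exact Ideal.zero_mem _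
    · intro x y _ _ hx hy
      rw [mul_add]; exact Ideal.add_mem _ hx hy
    · intro a x _ hx
      rw [smul_eq_mul, mul_left_comm]
      exact Ideal.mul_mem_left _ _ hx

/-- Spreading out weak regularity: if a sequence in a Noetherian ring becomes weakly regular in the
localization at a prime `p`, it is weakly regular in `R_g` for some `g ∉ p`. -/
theorem exists_away_isWeaklyRegular {R : Type u} [CommRing R] [IsNoetherianRing R]
    (p : Ideal R) [p.IsPrime] (Rp : Type u) [CommRing Rp] [Algebra R Rp]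
    [IsLocalization.AtPrime Rp p] (rs : List R)
    (h : IsWeaklyRegular Rp (rs.map (algebraMap R Rp))) :
    ∃ g, g ∉ p ∧ ∀ (R' : Type u) [CommRing R'] [Algebra R R'] [IsLocalization.Away g R'],
      IsWeaklyRegular R' (rs.map (algebraMap R R')) := by
  classical
  rw [isWeaklyRegular_self_iff] at h
  -- step 1: for each index, a multiplier
  have step1 : ∀ i : Fin rs.length, ∃ g, g ∉ p ∧ ∀ a : R,
      rs[i] * a ∈ Ideal.ofList (rs.take i) → g * a ∈ Ideal.ofList (rs.take i) := by
    intro i
    set I := Ideal.ofList (rs.take i) with hI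
    let Q : Ideal R := Submodule.comap (LinearMap.mulLeft R (rs[i])) I
    have hQmem : ∀ a, a ∈ Q ↔ rs[i] * a ∈ I := fun a => Iff.rfl
    have hQfg : Q.FG := IsNoetherian.noetherian Q
    obtain ⟨g, hg, hgQ⟩ := exists_notMem_forall_mul_mem p Q I hQfg (by
      intro q hq
      have hi : (i : ℕ) < (rs.map (algebraMap R Rp)).length := by
        rw [List.length_map]; exact i.2
      have h1 := h i hi (algebraMap R Rp q)
      rw [List.getElem_map, ← List.map_take, ← Ideal.map_ofList, ← map_mul] at h1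
      have h2 := h1 (Ideal.mem_map_of_mem _ ((hQmem q).mp hq))
      obtain ⟨⟨⟨j, hj⟩, s⟩, hjs⟩ :=
        (IsLocalization.mem_map_algebraMap_iff p.primeCompl Rp).mp h2
      simp only at hjs
      rw [← map_mul] at hjs
      obtain ⟨t, ht⟩ := (IsLocalization.eq_iff_exists p.primeCompl Rp).mp hjs
      refine ⟨(t : R) * s, (t * s).2, ?_⟩
      have : (t : R) * s * q = t * (q * s) := by ring
      rw [this, ht]
      exact Ideal.mul_mem_left _ _ hj)
    exact ⟨g, hg, fun a ha => hgQ a ((hQmem a).mpr ha)⟩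
  choose gi hgi hgi' using step1
  refine ⟨∏ i, gi i, ?_, ?_⟩
  · have : ∏ i, gi i ∈ p.primeCompl := Submonoid.prod_mem _ fun i _ => hgi i
    exact this
  · intro R' _ _ _
    set g := ∏ i, gi i with hg
    set ψ := algebraMap R R' with hψ
    rw [isWeaklyRegular_self_iff]
    intro i hi a' ha'
    have hi' : i < rs.length := by rwa [List.length_map] at hi
    rw [List.getElem_map, ← List.map_take, ← Ideal.map_ofList] at ha'
    rw [← List.map_take, ← Ideal.map_ofList]
    set I := Ideal.ofList (rs.take i) with hI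
    obtain ⟨⟨a, ⟨_, n, rfl⟩⟩, ha⟩ := IsLocalization.surj (Submonoid.powers g) a'
    simp only at ha
    have h1 : ψ (rs[i] * a) ∈ I.map ψ := by
      rw [map_mul, ← ha, ← mul_assoc]
      exact Ideal.mul_mem_right _ _ ha'
    obtain ⟨⟨⟨j, hj⟩, ⟨_, m, rfl⟩⟩, hjs⟩ :=
      (IsLocalization.mem_map_algebraMap_iff (Submonoid.powers g) R').mp h1
    simp only at hjs
    rw [← map_mul] at hjs
    obtain ⟨⟨_, k, rfl⟩, ht⟩ := (IsLocalization.eq_iff_exists (Submonoid.powers g) R').mp hjs
    simp only at ht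
    have h2 : rs[i] * (g ^ (k + m) * a) ∈ I := by
      have : rs[i] * (g ^ (k + m) * a) = g ^ k * (rs[i] * a * g ^ m) := by ring
      rw [this, ht]
      exact Ideal.mul_mem_left _ _ hj
    have h3 : gi ⟨i, hi'⟩ * (g ^ (k + m) * a) ∈ I := hgi' ⟨i, hi'⟩ _ h2
    have h4 : g ^ (k + m + 1) * a ∈ I := by
      have hgsplit : g = (∏ i' ∈ Finset.univ.erase (⟨i, hi'⟩ : Fin rs.length), gi i') *
          gi ⟨i, hi'⟩ := by
        rw [hg, Finset.prod_erase_mul _ _ (Finset.mem_univ _)]
      have : g ^ (k + m + 1) * a =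
          (∏ i' ∈ Finset.univ.erase (⟨i, hi'⟩ : Fin rs.length), gi i') *
            (gi ⟨i, hi'⟩ * (g ^ (k + m) * a)) := by
        rw [pow_succ]
        nth_rewrite 2 [hgsplit]
        ring
      rw [this]
      exact Ideal.mul_mem_left _ _ h3
    have h5 : ψ (g ^ (k + m + 1)) * ψ a ∈ I.map ψ := by
      rw [← map_mul]; exact Ideal.mem_map_of_mem _ h4
    have hu : ∀ e : ℕ, IsUnit (ψ (g ^ e)) := fun e =>
      IsLocalization.map_units R' (⟨g ^ e, e, rfl⟩ : Submonoid.powers g)
    have h6 : ψ a ∈ I.map ψ := (Ideal.unit_mul_mem_iff_mem _ (hu _)).mp h5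
    rw [← ha, mul_comm] at h6
    exact (Ideal.unit_mul_mem_iff_mem _ (hu _)).mp h6

/-- In a Noetherian ring, a quasi-regular sequence generating an ideal contained in a prime `p`
becomes a regular sequence in `R_g` for some `g ∉ p`. -/
theorem exists_away_isRegular_of_isQuasiRegular {R : Type u} [CommRing R] [IsNoetherianRing R]
    (rs : List R) (hq : CAlgX.IsQuasiRegular rs.get) (p : Ideal R) [p.IsPrime]
    (hp : Ideal.ofList rs ≤ p) :
    ∃ g, g ∉ p ∧ ∀ (R' : Type u) [CommRing R'] [Algebra R R'] [IsLocalization.Away g R'],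
      IsRegular R' (rs.map (algebraMap R R')) := by
  let Rp := Localization.AtPrime p
  have : IsNoetherianRing Rp := IsLocalization.isNoetherianRing p.primeCompl Rp inferInstance
  have hq' := QRegLoc.isQuasiRegular_of_isLocalization p.primeCompl Rp rs.get hq
  have hjac : ∀ i, algebraMap R Rp (rs.get i) ∈ Ring.jacobson Rp := by
    intro i
    rw [← Ideal.jacobson_bot, IsLocalRing.jacobson_eq_maximalIdeal ⊥ bot_ne_top]
    rw [IsLocalization.AtPrime.to_map_mem_maximal_iff Rp p]
    exact hp (Ideal.subset_span (List.get_mem rs i))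
  have hw := Groth.Agent.S5803.result Rp rs.length (fun i => algebraMap R Rp (rs.get i)) hjac hq'
  have hlist : List.ofFn (fun i => algebraMap R Rp (rs.get i)) = rs.map (algebraMap R Rp) := by
    change List.ofFn ((algebraMap R Rp) ∘ rs.get) = _
    rw [← List.map_ofFn, List.ofFn_get]
  rw [hlist] at hw
  obtain ⟨g, hg, hgw⟩ := exists_away_isWeaklyRegular p Rp rs hw
  refine ⟨g, hg, fun R' _ _ _ => ⟨hgw R', ?_⟩⟩
  intro htop
  have h1 : (Ideal.ofList (rs.map (algebraMap R R')) • ⊤ : Submodule R' R') =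
      Ideal.ofList (rs.map (algebraMap R R')) := by
    rw [smul_eq_mul, Ideal.mul_top]
  rw [h1, ← Ideal.map_ofList] at htop
  have hdisj : Disjoint (Submonoid.powers g : Set R) (p : Set R) := by
    rw [Set.disjoint_left]
    rintro _ ⟨n, rfl⟩ hn
    exact hg (Ideal.IsPrime.mem_of_pow_mem ‹_› n hn)
  have h2 : Ideal.map (algebraMap R R') p ≠ ⊤ :=
    (IsLocalization.map_algebraMap_ne_top_iff_disjoint (Submonoid.powers g) R' p).mpr hdisj
  exact h2 (top_le_iff.mp (htop.symm ▸ Ideal.map_mono hp))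

end Groth.Agent.Lib.Seat22.RegSpread
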