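import Mathlib
import Groth.Prelude.Def_RegImm
import Groth.Agent.Lib.Seat22RegSpread

/-!
# Seat22: on a locally Noetherian scheme, quasi-regular ideal data at a point can be replaced by
regular ideal data on a smaller (basic) affine open.
-/

set_option autoImplicit false
universe u

namespace Groth.Agent.Lib.Seat22.RegIdeal

open AlgebraicGeometry CategoryTheory

/-- Membership in a basic open of an affine open, in terms of prime ideals. -/
theorem mem_basicOpen_iff_notMem_primeIdealOf {X : Scheme.{u}} {U : X.Opens} (hU : IsAffineOpen U)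
    (y : X) (hy : y ∈ U) (r : Γ(X, U)) :
    y ∈ X.basicOpen r ↔ r ∉ (hU.primeIdealOf ⟨y, hy⟩).asIdeal := by
  have h := hU.fromSpec_primeIdealOf ⟨y, hy⟩
  have h2 : (hU.fromSpec (hU.primeIdealOf ⟨y, hy⟩) ∈ X.basicOpen r) ↔
      r ∉ (hU.primeIdealOf ⟨y, hy⟩).asIdeal := by
    change hU.primeIdealOf ⟨y, hy⟩ ∈ (hU.fromSpec ⁻¹ᵁ X.basicOpen r) ↔ _
    rw [hU.fromSpec_preimage_basicOpen]
    rfl
  rw [h] at h2
  exact h2

/-- The core local statement: on a locally Noetherian scheme, if on an affine open `U ∋ x` a list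
`rs` is quasi-regular and all its members vanish at `x`, then there is `g` with `x ∈ D(g)` such that
the restriction of `rs` to `D(g)` is a regular sequence. -/
theorem exists_basicOpen_isRegular {X : Scheme.{u}} [IsLocallyNoetherian X] (U : X.affineOpens)
    (x : X) (hxU : x ∈ U.1) (rs : List Γ(X, U.1)) (hrs : CAlgX.IsQuasiRegular rs.get)
    (hx : ∀ f ∈ Ideal.ofList rs, x ∉ X.basicOpen f) :
    ∃ g : Γ(X, U.1), x ∈ X.basicOpen g ∧
      RingTheory.Sequence.IsRegular Γ(X, X.basicOpen g)
        (rs.map (X.presheaf.map (homOfLE (X.basicOpen_le g)).op).hom) := by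
  have : IsNoetherianRing Γ(X, U.1) := IsLocallyNoetherian.component_noetherian U
  have hp : Ideal.ofList rs ≤ (U.2.primeIdealOf ⟨x, hxU⟩).asIdeal := by
    intro f hf
    by_contra hfp
    exact hx f hf ((mem_basicOpen_iff_notMem_primeIdealOf U.2 x hxU f).mpr hfp)
  obtain ⟨g, hg, hreg⟩ := RegSpread.exists_away_isRegular_of_isQuasiRegular rs hrs
    (U.2.primeIdealOf ⟨x, hxU⟩).asIdeal hp
  refine ⟨g, (mem_basicOpen_iff_notMem_primeIdealOf U.2 x hxU g).mpr hg, ?_⟩
  have := U.2.isLocalization_basicOpen g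
  exact hreg Γ(X, X.basicOpen g)

end Groth.Agent.Lib.Seat22.RegIdeal
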