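import Mathlib
import Groth.Agent.Lib.Helper18OmLS17
import Groth.Agent.Lib.Helper23PB
import Groth.Agent.Lib.Helper13ModBasis

/-!
# Separating families descend along faithfully flat morphisms (seat 22)
-/

set_option autoImplicit false
set_option linter.style.haveILetI false
universe u
open CategoryTheory CategoryTheory.Limits AlgebraicGeometry TopologicalSpace Opposite TensorProduct
open Groth.Agent.Helper13PullbackUnit Groth.Agent.Helper18OmLS

namespace Groth.Agent.Lib.Seat22.SepFFlat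

/-- If `B` is flat over `A`, `q` a prime of `B` and `1 ⊗ t = 0` in `B ⊗_A M`, then some element of `A`
not mapping into `q` kills `t`. -/
theorem exists_smul_eq_zero_notMem {A B M : Type u} [CommRing A] [CommRing B] [Algebra A B]
    [Module.Flat A B] [AddCommGroup M] [Module A M] (q : Ideal B) [q.IsPrime] (t : M)
    (h : (1 : B) ⊗ₜ[A] t = 0) : ∃ a : A, a • t = 0 ∧ algebraMap A B a ∉ q := by
  by_contra hcon
  push_neg at hcon
  let f : A →ₗ[A] M := LinearMap.toSpanSingleton A M t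
  let I : Submodule A A := LinearMap.ker f
  let φ : (A ⧸ I) →ₗ[A] M := I.liftQ f le_rfl
  have hφ : Function.Injective φ :=
    LinearMap.ker_eq_bot.mp (Submodule.ker_liftQ_eq_bot _ _ _ le_rfl)
  have hφB : Function.Injective (φ.lTensor B) :=
    Module.Flat.lTensor_preserves_injective_linearMap φ hφ
  have h1 : (1 : B) ⊗ₜ[A] (Submodule.Quotient.mk (1 : A) : A ⧸ I) = 0 := by
    apply hφB
    rw [LinearMap.lTensor_tmul, map_zero]
    have : φ (Submodule.Quotient.mk (1 : A)) = t := by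
      change f 1 = t
      simp [f]
    rw [this, h]
  have hI : I ≤ LinearMap.ker (Algebra.linearMap A (B ⧸ q)) := by
    intro a ha
    have ha' : a • t = 0 := by
      have : f a = 0 := ha
      simpa [f] using this
    have := hcon a ha'
    rw [LinearMap.mem_ker, Algebra.linearMap_apply, IsScalarTower.algebraMap_apply A B (B ⧸ q),
      Ideal.Quotient.algebraMap_eq, Ideal.Quotient.eq_zero_iff_mem]
    exact this
  let ψ : (A ⧸ I) →ₗ[A] (B ⧸ q) := I.liftQ (Algebra.linearMap A (B ⧸ q)) hI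
  let Ψ : B ⊗[A] (A ⧸ I) →ₗ[B] (B ⧸ q) := LinearMap.liftBaseChange B ψ
  have h2 : Ψ ((1 : B) ⊗ₜ[A] (Submodule.Quotient.mk (1 : A) : A ⧸ I)) = 1 := by
    rw [LinearMap.liftBaseChange_tmul, one_smul]
    change algebraMap A (B ⧸ q) 1 = 1
    rw [map_one]
  rw [h1, map_zero] at h2
  exact zero_ne_one h2

section scheme
variable {X X' : Scheme.{u}} (g : X' ⟶ X) [Flat g] [Surjective g]

theorem primeIdealOf_fromSpec {V : X.Opens} (hV : IsAffineOpen V) (p : Spec Γ(X, V))
    (hp : hV.fromSpec p ∈ V) : hV.primeIdealOf ⟨hV.fromSpec p, hp⟩ = p := by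
  apply hV.fromSpec.isOpenEmbedding.injective
  exact hV.fromSpec_primeIdealOf ⟨hV.fromSpec p, hp⟩

/-- For a flat surjective morphism, the pullback of sections of a quasi-coherent module over an
affine open is injective. -/
theorem eq_zero_of_unitSec_eq_zero (F : X.Modules) [F.IsQuasicoherent] {V : X.Opens}
    (hV : IsAffineOpen V) (t : Γ(F, V))
    (ht : unitSec g F (le_refl (g ⁻¹ᵁ V)) t = 0) : t = 0 := by
  let I : Ideal Γ(X, V) := LinearMap.ker (LinearMap.toSpanSingleton Γ(X, V) Γ(F, V) t)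
  have hmem : ∀ a : Γ(X, V), a ∈ I ↔ a • t = 0 := by
    intro a
    change LinearMap.toSpanSingleton Γ(X, V) Γ(F, V) t a = 0 ↔ _
    rw [LinearMap.toSpanSingleton_apply]
  suffices hI : I = ⊤ by
    have h1 : (1 : Γ(X, V)) ∈ I := by rw [hI]; trivial
    have := (hmem 1).mp h1
    rwa [one_smul] at this
  by_contra hne
  obtain ⟨m, hm, hIm⟩ := Ideal.exists_le_maximal I hne
  let p : Spec Γ(X, V) := ⟨m, hm.isPrime⟩
  have hxV : hV.fromSpec p ∈ V := by
    have : hV.fromSpec p ∈ hV.fromSpec.opensRange := ⟨p, rfl⟩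
    rwa [hV.opensRange_fromSpec] at this
  obtain ⟨x', hx'⟩ := g.surjective (hV.fromSpec p)
  have hx'V : x' ∈ g ⁻¹ᵁ V := by
    change g x' ∈ V
    rw [hx']; exact hxV
  obtain ⟨U, hU, hx'U, hUV⟩ := exists_isAffineOpen_mem_and_subset (x := x') hx'V
  letI alg : Algebra Γ(X, V) Γ(X', U) := (g.appLE V U hUV).hom.toAlgebra
  haveI : Module.Flat Γ(X, V) Γ(X', U) := g.flat_appLE hV hU hUV
  obtain ⟨e, he⟩ := exists_pullback_equiv g F hUV hV hU rfl
  have h1 : (1 : Γ(X', U)) ⊗ₜ[Γ(X, V)] t = 0 := by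
    apply e.injective
    rw [he, one_smul, map_zero, ← unitSec_map_src g F (le_refl (g ⁻¹ᵁ V)) hUV t, ht, map_zero]
  haveI : (hU.primeIdealOf ⟨x', hx'U⟩).asIdeal.IsPrime := (hU.primeIdealOf ⟨x', hx'U⟩).isPrime
  obtain ⟨a, ha0, haq⟩ := exists_smul_eq_zero_notMem (hU.primeIdealOf ⟨x', hx'U⟩).asIdeal t h1
  have ham : a ∈ m := hIm ((hmem a).mpr ha0)
  have hcomap := IsAffineOpen.comap_primeIdealOf_appLE V hV U hU hUV hx'U
  have hpt : hV.primeIdealOf ⟨g x', hUV hx'U⟩ = p := by
    have h2 : (⟨g x', hUV hx'U⟩ : V) = ⟨hV.fromSpec p, hxV⟩ := Subtype.ext hx'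
    rw [h2]
    exact primeIdealOf_fromSpec hV p hxV
  rw [hpt] at hcomap
  apply haq
  have h3 : a ∈ ((hU.primeIdealOf ⟨x', hx'U⟩).comap (g.appLE V U hUV).hom).asIdeal := by
    rw [hcomap]; exact ham
  exact h3

end scheme


section main
variable {X X' : Scheme.{u}}

theorem separating_of_pullback (F : X.Modules) [F.IsQuasicoherent] {ι : Type u}
    (G : ι → X.Modules) (u : ∀ i, F ⟶ G i) (g : X' ⟶ X) [Flat g] [Surjective g]
    (h : ∀ (V : X'.Opens) (t : Γ((Scheme.Modules.pullback g).obj F, V)),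
      (∀ i, ((Scheme.Modules.pullback g).map (u i)).app V t = 0) → t = 0)
    (V : X.Opens) (t : Γ(F, V)) (ht : ∀ i, (u i).app V t = 0) : t = 0 := by
  have hB : Opens.IsBasis (Set.range (Subtype.val : X.affineOpens → X.Opens)) := by
    rw [Subtype.range_coe]
    exact X.isBasis_affineOpens
  refine Groth.Agent.Helper13ModBasis.section_ext_basis (Subtype.val : X.affineOpens → X.Opens) hB
    F t 0 ?_
  rintro ⟨W, hW⟩ hle
  change F.presheaf.map (homOfLE hle).op t = F.presheaf.map (homOfLE hle).op 0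
  rw [map_zero]
  set t' := F.presheaf.map (homOfLE hle).op t with ht'
  have ht'0 : ∀ i, (u i).app W t' = 0 := by
    intro i
    have h1 := congr($((u i).mapPresheaf.naturality (homOfLE hle).op) t)
    have h2 : (u i).app W t' = (G i).presheaf.map (homOfLE hle).op ((u i).app V t) := h1
    rw [h2, ht i, map_zero]
  apply eq_zero_of_unitSec_eq_zero g F hW t'
  apply h
  intro i
  rw [Groth.Agent.Lib.Helper23.PB.map_unitSec g (u i) (le_refl (g ⁻¹ᵁ W)) t', ht'0 i, map_zero]

end main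

end Groth.Agent.Lib.Seat22.SepFFlat
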