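import Mathlib
import Groth.Agent.Lib.Helper18OmLS17
import Groth.Agent.Lib.Helper23PB
import Groth.Agent.Lib.Helper13ModBasis

/-!
# Finite separating families are preserved by flat pullback (seat 22)
-/

set_option autoImplicit false
set_option linter.style.haveILetI false
universe u
open CategoryTheory CategoryTheory.Limits AlgebraicGeometry TopologicalSpace Opposite TensorProduct
open Groth.Agent.Helper13PullbackUnit Groth.Agent.Helper18OmLS

namespace Groth.Agent.Lib.Seat22.SepFlatFin

/-- Tensoring with a flat module preserves joint injectivity of a finite family of linear maps. -/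
theorem eq_zero_of_lTensor_eq_zero {A B M : Type u} [CommRing A] [AddCommGroup B] [Module A B]
    [Module.Flat A B] [AddCommGroup M] [Module A M] {ι : Type u} [Finite ι] (N : ι → Type u)
    [∀ i, AddCommGroup (N i)] [∀ i, Module A (N i)] (φ : ∀ i, M →ₗ[A] N i)
    (hφ : ∀ m : M, (∀ i, φ i m = 0) → m = 0) (z : B ⊗[A] M)
    (hz : ∀ i, (φ i).lTensor B z = 0) : z = 0 := by
  classical
  haveI : Fintype ι := Fintype.ofFinite ι
  let Φ : M →ₗ[A] (∀ i, N i) := LinearMap.pi φ
  have hΦ : Function.Injective Φ := by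
    rw [injective_iff_map_eq_zero]
    intro m hm
    exact hφ m fun i => congrFun hm i
  have hΦB : Function.Injective (Φ.lTensor B) :=
    Module.Flat.lTensor_preserves_injective_linearMap Φ hΦ
  apply hΦB
  rw [map_zero]
  apply (TensorProduct.piRight A A B N).injective
  rw [map_zero]
  funext i
  have key : ∀ w : B ⊗[A] M, TensorProduct.piRight A A B N (Φ.lTensor B w) i =
      (φ i).lTensor B w := by
    intro w
    induction w using TensorProduct.induction_on with
    | zero => simp
    | tmul b m =>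
      rw [LinearMap.lTensor_tmul, LinearMap.lTensor_tmul, TensorProduct.piRight_apply,
        TensorProduct.piRightHom_tmul]
      rfl
    | add x y hx hy =>
      rw [map_add, map_add, Pi.add_apply, hx, hy, map_add]
  rw [key, hz]
  rfl

section main
variable {X X' : Scheme.{u}}

theorem chart_eq_zero (F : X.Modules) [F.IsQuasicoherent] {ι : Type u} [Finite ι]
    (G : ι → X.Modules) [∀ i, (G i).IsQuasicoherent] (u : ∀ i, F ⟶ G i) (g : X' ⟶ X) [Flat g]
    (h : ∀ (V : X.Opens) (t : Γ(F, V)), (∀ i, (u i).app V t = 0) → t = 0)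
    {V : X.Opens} (hV : IsAffineOpen V) {U : X'.Opens} (hU : IsAffineOpen U) (hUV : U ≤ g ⁻¹ᵁ V)
    (s : Γ((Scheme.Modules.pullback g).obj F, U))
    (hs : ∀ i, ((Scheme.Modules.pullback g).map (u i)).app U s = 0) : s = 0 := by
  letI alg : Algebra Γ(X, V) Γ(X', U) := (g.appLE V U hUV).hom.toAlgebra
  haveI : Module.Flat Γ(X, V) Γ(X', U) := g.flat_appLE hV hU hUV
  obtain ⟨e, he⟩ := exists_pullback_equiv g F hUV hV hU rfl
  obtain ⟨z, rfl⟩ := e.surjective s
  let φ : ∀ i, Γ(F, V) →ₗ[Γ(X, V)] Γ(G i, V) := fun i =>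
    { toFun := fun m => (u i).app V m
      map_add' := fun x y => map_add _ x y
      map_smul' := fun r x => Scheme.Modules.Hom.app_smul (u i) r x }
  have hz : ∀ i, (φ i).lTensor Γ(X', U) z = 0 := by
    intro i
    obtain ⟨ei, hei⟩ := exists_pullback_equiv g (G i) hUV hV hU rfl
    apply ei.injective
    rw [map_zero, ← hs i]
    have key : ∀ w : Γ(X', U) ⊗[Γ(X, V)] Γ(F, V), ei ((φ i).lTensor Γ(X', U) w) =
        ((Scheme.Modules.pullback g).map (u i)).app U (e w) := by
      intro w
      induction w using TensorProduct.induction_on with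
      | zero => rw [map_zero, map_zero, map_zero, map_zero]
      | tmul b m =>
        rw [LinearMap.lTensor_tmul, hei, he, Scheme.Modules.Hom.app_smul,
          Groth.Agent.Lib.Helper23.PB.map_unitSec g (u i) hUV m]
        rfl
      | add x y hx hy =>
        rw [map_add, map_add, hx, hy, map_add, map_add]
    exact key z
  have hz0 := eq_zero_of_lTensor_eq_zero (B := Γ(X', U)) (fun i => Γ(G i, V)) φ
    (fun m hm => h V m hm) z hz
  rw [hz0, map_zero]

theorem separating_pullback_of_finite (F : X.Modules) [F.IsQuasicoherent] {ι : Type u} [Finite ι]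
    (G : ι → X.Modules) [∀ i, (G i).IsQuasicoherent] (u : ∀ i, F ⟶ G i) (g : X' ⟶ X) [Flat g]
    (h : ∀ (V : X.Opens) (t : Γ(F, V)), (∀ i, (u i).app V t = 0) → t = 0)
    (O : X'.Opens) (s : Γ((Scheme.Modules.pullback g).obj F, O))
    (hs : ∀ i, ((Scheme.Modules.pullback g).map (u i)).app O s = 0) : s = 0 := by
  let 𝓑 : Set X'.Opens := {U | IsAffineOpen U ∧ ∃ V : X.Opens, IsAffineOpen V ∧ U ≤ g ⁻¹ᵁ V}
  have hB : Opens.IsBasis (Set.range (Subtype.val : 𝓑 → X'.Opens)) := by
    rw [Subtype.range_coe, TopologicalSpace.Opens.isBasis_iff_nbhd]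
    intro O' x hxO'
    obtain ⟨V, hV, hxV, -⟩ := exists_isAffineOpen_mem_and_subset (x := g x) (U := ⊤) trivial
    have hx2 : x ∈ g ⁻¹ᵁ V ⊓ O' := ⟨hxV, hxO'⟩
    obtain ⟨U, hU, hxU, hUle⟩ := exists_isAffineOpen_mem_and_subset (x := x) hx2
    exact ⟨U, ⟨hU, V, hV, hUle.trans inf_le_left⟩, hxU, hUle.trans inf_le_right⟩
  refine Groth.Agent.Helper13ModBasis.section_ext_basis (Subtype.val : 𝓑 → X'.Opens) hB
    ((Scheme.Modules.pullback g).obj F) s 0 ?_
  rintro ⟨U, hU, V, hV, hUV⟩ hle
  change ((Scheme.Modules.pullback g).obj F).presheaf.map (homOfLE hle).op s =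
    ((Scheme.Modules.pullback g).obj F).presheaf.map (homOfLE hle).op 0
  rw [map_zero]
  apply chart_eq_zero F G u g h hV hU hUV
  intro i
  have h1 := congr($(((Scheme.Modules.pullback g).map (u i)).mapPresheaf.naturality
    (homOfLE hle).op) s)
  have h2 : ((Scheme.Modules.pullback g).map (u i)).app U
      (((Scheme.Modules.pullback g).obj F).presheaf.map (homOfLE hle).op s) =
      ((Scheme.Modules.pullback g).obj (G i)).presheaf.map (homOfLE hle).op
        (((Scheme.Modules.pullback g).map (u i)).app O s) := h1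
  rw [h2, hs i, map_zero]

end main

end Groth.Agent.Lib.Seat22.SepFlatFin
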