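import Mathlib
import Groth.Prelude.Def_Flat
import Groth.Agent.Lib.Helper3SmDim
import Groth.Agent.Lib.Helper6LfpComp
import Groth.Agent.Lib.Seat22JacEtale

/-!
# Monomorphisms of smooth schemes with equal fibre dimensions are open immersions (seat 22)
-/

set_option autoImplicit false
set_option linter.style.haveILetI false
universe u
open CategoryTheory CategoryTheory.Limits AlgebraicGeometry TopologicalSpace

namespace Groth.Agent.Lib.Seat22.SmoothMono

/-- Inside a given pair of affine charts, a smooth morphism has a basic open neighbourhood of any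
point on which it is standard smooth of some relative dimension over the given base chart. -/
theorem exists_basicOpen_isStandardSmoothOfRelativeDimension {Y S : Scheme.{u}} (f : Y ⟶ S)
    [Smooth f] (y : Y) {W : S.Opens} (hW : IsAffineOpen W) {V : Y.Opens} (hV : IsAffineOpen V)
    (hVW : V ≤ f ⁻¹ᵁ W) (hy : y ∈ V) :
    ∃ (r : Γ(Y, V)) (m : ℕ), y ∈ Y.basicOpen r ∧
      (f.appLE W (Y.basicOpen r) ((Y.basicOpen_le r).trans hVW)).hom.IsStandardSmoothOfRelativeDimension
        m := by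
  have hsm := f.smooth_appLE hW hV hVW
  algebraize [(f.appLE W V hVW).hom]
  haveI : Algebra.IsSmoothAt Γ(S, W) (hV.primeIdealOf ⟨y, hy⟩).asIdeal := inferInstance
  obtain ⟨r, hry, hr⟩ := Algebra.IsSmoothAt.exists_notMem_isStandardSmooth Γ(S, W)
    (hV.primeIdealOf ⟨y, hy⟩).asIdeal
  have hyr : y ∈ Y.basicOpen r := by
    have h := hV.fromSpec_primeIdealOf ⟨y, hy⟩
    have h2 : (hV.fromSpec (hV.primeIdealOf ⟨y, hy⟩) ∈ Y.basicOpen r) ↔
        r ∉ (hV.primeIdealOf ⟨y, hy⟩).asIdeal := by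
      change hV.primeIdealOf ⟨y, hy⟩ ∈ (hV.fromSpec ⁻¹ᵁ Y.basicOpen r) ↔ _
      rw [hV.fromSpec_preimage_basicOpen]
      rfl
    rw [h] at h2
    exact h2.mpr hry
  have hstd : (f.appLE W (Y.basicOpen r) ((Y.basicOpen_le r).trans hVW)).hom.IsStandardSmooth := by
    have := hV.isLocalization_basicOpen r
    rw [← RingHom.isStandardSmooth_algebraMap] at hr
    convert
      RingHom.isStandardSmooth_respectsIso.1 _
        (IsLocalization.algEquiv (.powers r) _ Γ(Y, Y.basicOpen r)).toRingEquiv hr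
    ext x
    have h1 : (IsLocalization.algEquiv (.powers r) (Localization.Away r) Γ(Y, Y.basicOpen r))
        (algebraMap Γ(Y, V) (Localization.Away r) ((f.appLE W V hVW).hom x)) =
        algebraMap Γ(Y, V) Γ(Y, Y.basicOpen r) ((f.appLE W V hVW).hom x) := AlgEquiv.commutes _ _
    refine Eq.trans ?_ h1.symm
    rw [RingHom.algebraMap_toAlgebra, ← Scheme.Hom.appLE_map f hVW (homOfLE (Y.basicOpen_le r)).op]
    rfl
  obtain ⟨m, hm⟩ := Groth.Agent.Lib.Helper3.SmDim.exists_relDim_of_isStandardSmooth _ hstd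
  exact ⟨r, m, hyr, hm⟩


theorem flat_of_mono_of_fibreDimAt_eq {X Y S : Scheme.{u}} (f : Y ⟶ S) (h : X ⟶ S)
    [Smooth f] [Smooth h] (g : X ⟶ Y) (w : g ≫ f = h) [Mono g]
    (hd : ∀ x : X, FlatMor.fibreDimAt f (g x) = FlatMor.fibreDimAt h x) : Flat g := by
  haveI : FormallyUnramified g := inferInstance
  rw [HasRingHomProperty.iff_exists_appLE (P := @Flat)
    (RingHom.Flat.stableUnderComposition.stableUnderCompositionWithLocalizationAway
      RingHom.Flat.holdsForLocalizationAway).1]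
  intro x
  have hpt : ∀ x' : X, h x' = f (g x') := fun x' => by rw [← w]; rfl
  obtain ⟨W, hW, hxW, -⟩ := exists_isAffineOpen_mem_and_subset (x := f (g x)) (U := ⊤) trivial
  obtain ⟨V₀, hV₀, hxV₀, hV₀W⟩ :=
    exists_isAffineOpen_mem_and_subset (x := g x) (U := f ⁻¹ᵁ W) hxW
  obtain ⟨r, m, hyr, hm⟩ :=
    exists_basicOpen_isStandardSmoothOfRelativeDimension f (g x) hW hV₀ hV₀W hxV₀
  have hV : IsAffineOpen (Y.basicOpen r) := hV₀.basicOpen r
  have hVW : Y.basicOpen r ≤ f ⁻¹ᵁ W := (Y.basicOpen_le r).trans hV₀W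
  have hx2 : x ∈ g ⁻¹ᵁ (Y.basicOpen r) ⊓ h ⁻¹ᵁ W := by
    refine ⟨hyr, ?_⟩
    change h x ∈ W
    rw [hpt]; exact hxW
  obtain ⟨U₀, hU₀, hxU₀, hU₀le⟩ := exists_isAffineOpen_mem_and_subset (x := x) hx2
  obtain ⟨t, n, hxt, hn⟩ := exists_basicOpen_isStandardSmoothOfRelativeDimension h x hW hU₀
    (hU₀le.trans inf_le_right) hxU₀
  have hU : IsAffineOpen (X.basicOpen t) := hU₀.basicOpen t
  have hUW : X.basicOpen t ≤ h ⁻¹ᵁ W := (X.basicOpen_le t).trans (hU₀le.trans inf_le_right)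
  have hUV : X.basicOpen t ≤ g ⁻¹ᵁ (Y.basicOpen r) :=
    (X.basicOpen_le t).trans (hU₀le.trans inf_le_left)
  have e1 : FlatMor.fibreDimAt f (g x) = (m : WithBot ℕ∞) :=
    Groth.Agent.Lib.Helper3.SmDim.fibreDimAt_eq_of_chart f m (g x) hW hV hyr hVW hm
  have e2 : FlatMor.fibreDimAt h x = (n : WithBot ℕ∞) :=
    Groth.Agent.Lib.Helper3.SmDim.fibreDimAt_eq_of_chart h n x hW hU hxt hUW hn
  have hmn : m = n := by
    have h3 := hd x
    rw [e1, e2] at h3
    exact_mod_cast h3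
  subst hmn
  refine ⟨⟨Y.basicOpen r, hV⟩, ⟨X.basicOpen t, hU⟩, hxt, hUV, ?_⟩
  letI algCA : Algebra Γ(S, W) Γ(Y, Y.basicOpen r) := (f.appLE W (Y.basicOpen r) hVW).hom.toAlgebra
  letI algCB : Algebra Γ(S, W) Γ(X, X.basicOpen t) := (h.appLE W (X.basicOpen t) hUW).hom.toAlgebra
  letI algAB : Algebra Γ(Y, Y.basicOpen r) Γ(X, X.basicOpen t) :=
    (g.appLE (Y.basicOpen r) (X.basicOpen t) hUV).hom.toAlgebra
  haveI : IsScalarTower Γ(S, W) Γ(Y, Y.basicOpen r) Γ(X, X.basicOpen t) := by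
    refine IsScalarTower.of_algebraMap_eq fun c => ?_
    have h1 : f.appLE W (Y.basicOpen r) hVW ≫ g.appLE (Y.basicOpen r) (X.basicOpen t) hUV =
        (g ≫ f).appLE W (X.basicOpen t) (fun y hy => hVW (hUV hy)) :=
      Scheme.Hom.appLE_comp_appLE _ _ _ _ _ _ _
    have h3 : (g ≫ f).appLE W (X.basicOpen t) (fun y hy => hVW (hUV hy)) =
        h.appLE W (X.basicOpen t) hUW := by
      subst w; rfl
    have h4 : h.appLE W (X.basicOpen t) hUW =
        f.appLE W (Y.basicOpen r) hVW ≫ g.appLE (Y.basicOpen r) (X.basicOpen t) hUV := by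
      rw [h1, h3]
    exact congr($h4 c)
  haveI : Algebra.IsStandardSmoothOfRelativeDimension m Γ(S, W) Γ(Y, Y.basicOpen r) := hm
  haveI : Algebra.IsStandardSmoothOfRelativeDimension m Γ(S, W) Γ(X, X.basicOpen t) := hn
  haveI : Algebra.FormallyUnramified Γ(Y, Y.basicOpen r) Γ(X, X.basicOpen t) :=
    g.formallyUnramified_appLE hV hU hUV
  haveI : Nonempty (X.basicOpen t) := ⟨⟨x, hxt⟩⟩
  haveI : Nontrivial Γ(X, X.basicOpen t) := inferInstance
  haveI := Groth.Agent.Lib.Seat22.JacEtale.etale_of_isStandardSmoothOfRelativeDimension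
    Γ(S, W) Γ(Y, Y.basicOpen r) Γ(X, X.basicOpen t) m
  change Module.Flat Γ(Y, Y.basicOpen r) Γ(X, X.basicOpen t)
  infer_instance

theorem isOpenImmersion_iff {X Y S : Scheme.{u}} (f : Y ⟶ S) (h : X ⟶ S)
    [Smooth f] [Smooth h] (g : X ⟶ Y) (w : g ≫ f = h) :
    IsOpenImmersion g ↔
      Mono g ∧ ∀ x : ↥X, FlatMor.fibreDimAt f (g x) = FlatMor.fibreDimAt h x := by
  constructor
  · intro hg
    refine ⟨inferInstance, fun x => ?_⟩
    subst w
    exact (Groth.Agent.Lib.Helper3.FibDimEt.fibreDimAt_comp_of_etale g f x).symm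
  · rintro ⟨hmono, hd⟩
    haveI : LocallyOfFinitePresentation g :=
      Groth.Agent.Lib.Helper6.locallyOfFinitePresentation_of_comp
        (inferInstance : LocallyOfFiniteType f) (by rw [w]; infer_instance)
    haveI : Flat g := flat_of_mono_of_fibreDimAt_eq f h g w hd
    exact IsOpenImmersion.of_flat_of_mono g

end Groth.Agent.Lib.Seat22.SmoothMono
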