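import Mathlib
import Groth.Agent.Lib.Helper7N0
import Groth.Agent.Lib.Helper6ReducedSmooth

/-!
# Reducedness and normality of local rings along a smooth point (seat 22)
-/

set_option autoImplicit false
set_option linter.style.haveILetI false
universe u
open TensorProduct AlgebraicGeometry CategoryTheory

namespace Groth.Agent.Lib.Seat22.SmoothStalk

open Groth.Agent.Lib.Helper7.NorOpen Groth.Agent.Lib.Helper7.N0

attribute [local instance] Algebra.TensorProduct.rightAlgebra in
/-- local smooth ascent of reducedness -/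
theorem isReduced_of_smooth_of_comap {A S : Type u} [CommRing A] [CommRing S] [Algebra A S]
    [Algebra.Smooth A S] (Q : Ideal S) [hQ : Q.IsPrime]
    (h : IsReduced (Localization.AtPrime (Q.comap (algebraMap A S)))) :
    IsReduced (Localization.AtPrime Q) := by
  let p := Q.comap (algebraMap A S)
  haveI hp : p.IsPrime := Ideal.comap_isPrime _ _
  let M := Algebra.algebraMapSubmonoid S p.primeCompl
  haveI : IsLocalization M (Localization.AtPrime p ⊗[A] S) :=
    IsLocalization.tensorRight (R := A) (S := S) (Localization.AtPrime p) p.primeCompl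
  have hdisj : Disjoint (M : Set S) (Q : Set S) := by
    rw [Set.disjoint_left]
    rintro x ⟨a, ha, rfl⟩ hxQ
    exact ha hxQ
  let Q' := Q.map (algebraMap S (Localization.AtPrime p ⊗[A] S))
  haveI hQ' : Q'.IsPrime :=
    IsLocalization.isPrime_of_isPrime_disjoint M _ Q hQ hdisj
  have hcomap : Q'.comap (algebraMap S (Localization.AtPrime p ⊗[A] S)) = Q :=
    IsLocalization.under_map_of_isPrime_disjoint M _ hQ hdisj
  haveI : IsReduced (Localization.AtPrime p) := h
  haveI : IsReduced (Localization.AtPrime p ⊗[A] S) :=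
    Groth.Agent.Lib.Helper6.isReduced_of_smooth (Localization.AtPrime p)
      (Localization.AtPrime p ⊗[A] S)
  haveI key : IsReduced (Localization.AtPrime Q') := inferInstance
  haveI : IsLocalization.AtPrime (Localization.AtPrime Q')
      (Q'.comap (algebraMap S (Localization.AtPrime p ⊗[A] S))) :=
    IsLocalization.isLocalization_isLocalization_atPrime_isLocalization M
      (Localization.AtPrime Q') Q'
  haveI : IsLocalization.AtPrime (Localization.AtPrime Q') Q := by
    convert this
    exact hcomap.symm
  exact isReduced_of_injective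
    (IsLocalization.algEquiv Q.primeCompl (Localization.AtPrime Q)
      (Localization.AtPrime Q')).toRingEquiv.toRingHom
    (IsLocalization.algEquiv Q.primeCompl (Localization.AtPrime Q)
      (Localization.AtPrime Q')).injective

/-- local flat descent of reducedness -/
theorem isReduced_comap_of_flat {A B : Type u} [CommRing A] [CommRing B] [Algebra A B]
    [Module.Flat A B] (Q : Ideal B) [Q.IsPrime] (h : IsReduced (Localization.AtPrime Q)) :
    IsReduced (Localization.AtPrime (Q.comap (algebraMap A B))) := by
  obtain ⟨alg, hloc, hflat, -⟩ :=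
    Groth.Agent.Lib.Helper28.exists_algebra_localization_flat (A := A) (B := B) Q
  haveI : Module.FaithfullyFlat (Localization.AtPrime (Q.comap (algebraMap A B)))
      (Localization.AtPrime Q) := Module.FaithfullyFlat.of_flat_of_isLocalHom
  exact isReduced_of_injective (algebraMap (Localization.AtPrime (Q.comap (algebraMap A B)))
    (Localization.AtPrime Q)) (FaithfulSMul.algebraMap_injective _ _)

/-- ring-level statement. -/
theorem ring_level {A S : Type u} [CommRing A] [CommRing S] [Algebra A S]
    [Algebra.Smooth A S] (Q : Ideal S) [Q.IsPrime] (p : Ideal A) [p.IsPrime]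
    (hp : p = Q.comap (algebraMap A S)) :
    (IsReduced (Localization.AtPrime Q) ↔ IsReduced (Localization.AtPrime p)) ∧
    ((IsDomain (Localization.AtPrime Q) ∧ IsIntegrallyClosed (Localization.AtPrime Q)) ↔
      (IsDomain (Localization.AtPrime p) ∧ IsIntegrallyClosed (Localization.AtPrime p))) := by
  subst hp
  haveI : Module.Flat A S := Algebra.Smooth.flat A S
  exact ⟨⟨isReduced_comap_of_flat Q, isReduced_of_smooth_of_comap Q⟩,
    ⟨isNormalDomain_comap_of_flat Q, isNormalDomain_of_smooth_of_comap Q⟩⟩

/-- scheme-level statement. -/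
theorem stalk_iff {X Y : Scheme.{u}} (f : X ⟶ Y)
    [LocallyOfFinitePresentation f] (x : ↥X) (hx : x ∈ f.smoothLocus) :
    (IsReduced ↑(X.presheaf.stalk x) ↔ IsReduced ↑(Y.presheaf.stalk (f.base x))) ∧
    ((IsDomain ↑(X.presheaf.stalk x) ∧ IsIntegrallyClosed ↑(X.presheaf.stalk x)) ↔
      (IsDomain ↑(Y.presheaf.stalk (f.base x)) ∧
        IsIntegrallyClosed ↑(Y.presheaf.stalk (f.base x)))) := by
  obtain ⟨U, hU, V, hV, hVU, hxV, H⟩ := exists_smooth_of_formallySmooth_stalk f x hx
  algebraize [(f.appLE U V hVU).hom]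
  let q := (hV.primeIdealOf ⟨x, hxV⟩).asIdeal
  let p := (hU.primeIdealOf ⟨f.base x, hVU hxV⟩).asIdeal
  have hpq : p = q.comap (algebraMap Γ(Y, U) Γ(X, V)) :=
    congr($(IsAffineOpen.comap_primeIdealOf_appLE U hU V hV hVU hxV).1).symm
  letI := Y.presheaf.algebra_section_stalk ⟨f.base x, hVU hxV⟩
  haveI := hU.isLocalization_stalk ⟨f.base x, hVU hxV⟩
  letI := X.presheaf.algebra_section_stalk ⟨x, hxV⟩
  haveI := hV.isLocalization_stalk ⟨x, hxV⟩
  let eY := (IsLocalization.algEquiv p.primeCompl (Y.presheaf.stalk (f.base x))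
    (Localization.AtPrime p)).toRingEquiv
  let eX := (IsLocalization.algEquiv q.primeCompl (X.presheaf.stalk x)
    (Localization.AtPrime q)).toRingEquiv
  obtain ⟨h1, h2⟩ := ring_level q p hpq
  have redX : IsReduced ↑(X.presheaf.stalk x) ↔ IsReduced (Localization.AtPrime q) :=
    ⟨fun _ => isReduced_of_injective eX.symm.toRingHom eX.symm.injective,
      fun _ => isReduced_of_injective eX.toRingHom eX.injective⟩
  have redY : IsReduced ↑(Y.presheaf.stalk (f.base x)) ↔ IsReduced (Localization.AtPrime p) :=
    ⟨fun _ => isReduced_of_injective eY.symm.toRingHom eY.symm.injective,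
      fun _ => isReduced_of_injective eY.toRingHom eY.injective⟩
  have norX : (IsDomain ↑(X.presheaf.stalk x) ∧ IsIntegrallyClosed ↑(X.presheaf.stalk x)) ↔
      (IsDomain (Localization.AtPrime q) ∧ IsIntegrallyClosed (Localization.AtPrime q)) :=
    ⟨Groth.Agent.Lib.Helper6.EtNormal.normal_of_ringEquiv eX.symm,
      Groth.Agent.Lib.Helper6.EtNormal.normal_of_ringEquiv eX⟩
  have norY : (IsDomain ↑(Y.presheaf.stalk (f.base x)) ∧
        IsIntegrallyClosed ↑(Y.presheaf.stalk (f.base x))) ↔
      (IsDomain (Localization.AtPrime p) ∧ IsIntegrallyClosed (Localization.AtPrime p)) :=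
    ⟨Groth.Agent.Lib.Helper6.EtNormal.normal_of_ringEquiv eY.symm,
      Groth.Agent.Lib.Helper6.EtNormal.normal_of_ringEquiv eY⟩
  exact ⟨redX.trans (h1.trans redY.symm), norX.trans (h2.trans norY.symm)⟩

end Groth.Agent.Lib.Seat22.SmoothStalk
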