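import Mathlib
import Groth.Prelude.Def_RefHull
import Groth.Prelude.Def_DefoSh
import Groth.Agent.Lib.Helper2ModExact
import Groth.Agent.Lib.Helper4ModEpi

/-!
# The stalk of a cokernel of `O_X`-modules is the cokernel of the stalk map (helper56)

For `u : F' ⟶ F` in `X.Modules` and `x : X`:
* `stalk_π_surjective`: the stalk map of `cokernel.π u` is surjective;
* `ker_stalk_π`: its kernel is the range of the stalk map of `u`;
* `cokerEquiv`: `F_x ⧸ range u_x ≃ₗ[O_{X,x}] (cokernel u)_x`.
-/

set_option autoImplicit false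
set_option linter.style.haveILetI false
universe u

open CategoryTheory CategoryTheory.Limits AlgebraicGeometry TopologicalSpace Opposite

namespace Groth.Agent.Lib.Seat56.StalkCoker

variable {X : Scheme.{u}}

theorem stalk_surjective_of_epi {G C : X.Modules} (π : G ⟶ C) [Epi π] (x : X) :
    Function.Surjective (RefHull.stalkMapₗ π x) :=
  fun c => Groth.Agent.Lib.Helper4.ModEpi.exists_germ_eq_of_epi π x c

theorem stalk_exact_of_shortExact (S : ShortComplex X.Modules) (hS : S.ShortExact) (x : X)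
    (v : ↑(S.X₂.presheaf.stalk x)) (hv : RefHull.stalkMapₗ S.g x v = 0) :
    ∃ a, RefHull.stalkMapₗ S.f x a = v := by
  obtain ⟨U, hxU, m, rfl⟩ := TopCat.Presheaf.exists_germ_eq S.X₂.presheaf v
  rw [RefHull.stalkMapₗ_germ] at hv
  have h0 : S.X₃.presheaf.germ U x hxU (S.g.app U m) = S.X₃.presheaf.germ U x hxU 0 := by
    rw [hv, map_zero]
  obtain ⟨W, hxW, i₁, i₂, hW⟩ := S.X₃.presheaf.germ_eq x hxU hxU _ 0 h0
  rw [map_zero, ← Groth.Agent.Lib.Helper2.ModExact.app_map] at hW
  obtain ⟨t₁, ht₁⟩ :=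
    Groth.Agent.Lib.Helper2.ModExact.exists_app_eq_of_shortExact S hS W _ hW
  refine ⟨S.X₁.presheaf.germ W x hxW t₁, ?_⟩
  rw [RefHull.stalkMapₗ_germ, ht₁]
  exact TopCat.Presheaf.germ_res_apply S.X₂.presheaf i₁ x hxW m

variable {F' F : X.Modules} (u : F' ⟶ F) (x : X)

theorem stalk_π_surjective :
    Function.Surjective (RefHull.stalkMapₗ (cokernel.π u) x) :=
  stalk_surjective_of_epi _ x

theorem ker_stalk_π :
    LinearMap.ker (RefHull.stalkMapₗ (cokernel.π u) x) =
      LinearMap.range (RefHull.stalkMapₗ u x) := by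
  apply le_antisymm
  · intro v hv
    rw [LinearMap.mem_ker] at hv
    let S : ShortComplex X.Modules :=
      ShortComplex.mk (kernel.ι (cokernel.π u)) (cokernel.π u) (kernel.condition _)
    have hS : S.ShortExact :=
      { exact := ShortComplex.exact_of_f_is_kernel S (kernelIsKernel (cokernel.π u))
        mono_f := inferInstanceAs (Mono (kernel.ι (cokernel.π u)))
        epi_g := inferInstanceAs (Epi (cokernel.π u)) }
    obtain ⟨a, ha⟩ := stalk_exact_of_shortExact S hS x v hv
    obtain ⟨b, hb⟩ := stalk_surjective_of_epi (Abelian.factorThruImage u) x a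
    refine ⟨b, ?_⟩
    rw [← ha, ← hb]
    have h1 := DefoSh.stalkMapₗ_comp_apply x (Abelian.factorThruImage u) (Abelian.image.ι u) b
    rw [Abelian.image.fac] at h1
    exact h1
  · rintro _ ⟨b, rfl⟩
    rw [LinearMap.mem_ker, ← DefoSh.stalkMapₗ_comp_apply, cokernel.condition]
    exact DefoSh.stalkMapₗ_zero_apply x b

/-- The stalk of the cokernel is the cokernel of the stalk map. -/
noncomputable def cokerEquiv :
    (↑(F.presheaf.stalk x) ⧸ LinearMap.range (RefHull.stalkMapₗ u x)) ≃ₗ[↑(X.presheaf.stalk x)]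
      ↑((cokernel u).presheaf.stalk x) :=
  (Submodule.quotEquivOfEq _ _ (ker_stalk_π u x).symm) ≪≫ₗ
    (RefHull.stalkMapₗ (cokernel.π u) x).quotKerEquivOfSurjective (stalk_π_surjective u x)

end Groth.Agent.Lib.Seat56.StalkCoker
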