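import Mathlib
import Groth.Prelude.Def_FlatMod2
import Groth.Prelude.Def_RefHull
import Groth.Agent.Lib.Seat22KerFPSch
import Groth.Agent.Lib.Seat56StalkCoker
import Groth.Agent.Lib.Helper2FlatOpen
import Groth.Agent.Lib.Helper2FPAff
import Groth.Agent.Lib.Helper2QCoh
import Groth.Agent.Lib.Helper2FinPushFP

/-!
# Openness of the locus where `u_x` is injective with `f`-flat cokernel (seat 22)

`f : X ⟶ Y` locally of finite presentation, `F`, `F'` quasi-coherent of finite presentation,
`u : F' ⟶ F`.  The set of `x` with `u_x` injective and `Coker u` `f`-flat at `x` is open.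

* `ker_appL_π`, `surjective_appL_π`: exactness of `Γ(W, F') → Γ(W, F) → Γ(W, Coker u) → 0` over an
  affine open `W`;
* `isFinitePresentation_cokernel`: the cokernel of a map of quasi-coherent modules of finite
  presentation is of finite presentation;
* `isOpen_inj_flat`: the openness statement.
-/

set_option autoImplicit false
set_option linter.style.haveILetI false
universe u
open CategoryTheory CategoryTheory.Limits AlgebraicGeometry TopologicalSpace Opposite

namespace Groth.Agent.Lib.Seat22.UInjOpen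

open Groth.Agent.Lib.Seat22.KerFPSch Groth.Agent.Lib.Helper23.QCohLocal

variable {X : Scheme.{u}} {F' F : X.Modules} (u : F' ⟶ F)

theorem surjective_appL_π [F'.IsQuasicoherent] [F.IsQuasicoherent] {W : X.Opens}
    (hW : IsAffineOpen W) : Function.Surjective (appL (cokernel.π u) W) := by
  haveI : (cokernel u).IsQuasicoherent := isQuasicoherent_cokernel u
  exact Groth.Agent.Lib.Helper23.FinType.surjective_app_of_epi (cokernel.π u) hW

theorem ker_appL_π [F'.IsQuasicoherent] [F.IsQuasicoherent] {W : X.Opens}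
    (hW : IsAffineOpen W) :
    LinearMap.ker (appL (cokernel.π u) W) = LinearMap.range (appL u W) := by
  apply le_antisymm
  · intro m hm
    rw [LinearMap.mem_ker] at hm
    haveI : (cokernel u).IsQuasicoherent := isQuasicoherent_cokernel u
    haveI : (kernel (cokernel.π u)).IsQuasicoherent := isQuasicoherent_kernel _
    have hk : (kernel.ι (cokernel.π u)).app W (OmegaSh.kerLift (cokernel.π u) W m hm) = m :=
      OmegaSh.ι_kerLift (cokernel.π u) W m hm
    haveI hepi : Epi (Abelian.factorThruImage u) := inferInstance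
    obtain ⟨m', hm'⟩ := Groth.Agent.Lib.Helper23.FinType.surjective_app_of_epi
      (A := F') (B := kernel (cokernel.π u)) (Abelian.factorThruImage u) hW
      (OmegaSh.kerLift (cokernel.π u) W m hm)
    refine ⟨m', ?_⟩
    rw [appL_apply, ← hk, ← hm', ← ConcreteCategory.comp_apply, ← Scheme.Modules.Hom.comp_app]
    have hfac : Abelian.factorThruImage u ≫ kernel.ι (cokernel.π u) = u := Abelian.image.fac u
    rw [hfac]
  · rintro _ ⟨m', rfl⟩
    rw [LinearMap.mem_ker, appL_apply, appL_apply, ← ConcreteCategory.comp_apply,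
      ← Scheme.Modules.Hom.comp_app, cokernel.condition, Scheme.Modules.Hom.zero_app]
    rfl

theorem finitePresentation_sections_cokernel [F'.IsQuasicoherent] [F.IsQuasicoherent]
    [SheafOfModules.IsFinitePresentation (R := X.ringCatSheaf) F]
    [SheafOfModules.IsFinitePresentation (R := X.ringCatSheaf) F'] {W : X.Opens}
    (hW : IsAffineOpen W) : Module.FinitePresentation Γ(X, W) Γ(cokernel u, W) := by
  haveI : Module.FinitePresentation Γ(X, W) Γ(F, W) :=
    Groth.Agent.Lib.Helper2.FPAff.finitePresentation_sections F hW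
  haveI : Module.FinitePresentation Γ(X, W) Γ(F', W) :=
    Groth.Agent.Lib.Helper2.FPAff.finitePresentation_sections F' hW
  refine Module.finitePresentation_of_surjective (appL (cokernel.π u) W)
    (surjective_appL_π u hW) ?_
  rw [ker_appL_π u hW, LinearMap.range_eq_map]
  exact (Module.Finite.fg_top).map _

/-- the cokernel of a morphism of quasi-coherent modules of finite presentation is of finite
presentation. -/
theorem isFinitePresentation_cokernel [F'.IsQuasicoherent] [F.IsQuasicoherent]
    [SheafOfModules.IsFinitePresentation (R := X.ringCatSheaf) F]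
    [SheafOfModules.IsFinitePresentation (R := X.ringCatSheaf) F'] :
    SheafOfModules.IsFinitePresentation (R := X.ringCatSheaf) (cokernel u : X.Modules) := by
  haveI : (cokernel u).IsQuasicoherent := isQuasicoherent_cokernel u
  refine Groth.Agent.Lib.Helper2.FinPushFP.isFinitePresentation_of_finitePresentation_sections _
    (fun W : X.affineOpens => W.1) ?_ (fun W => W.2)
    (fun W => finitePresentation_sections_cokernel u W.2)
  rw [IsOpenCover, eq_top_iff]
  intro x _
  obtain ⟨W, hW, hxW, -⟩ := exists_isAffineOpen_mem_and_subset (X := X) (x := x) (U := ⊤) trivial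
  exact Opens.mem_iSup.2 ⟨⟨W, hW⟩, hxW⟩

/-- over an affine open on which the cokernel is flat over the base, the kernel of `u` on sections
is finitely generated. -/
theorem fg_ker_appL {Y : Scheme.{u}} (f : X ⟶ Y) [LocallyOfFinitePresentation f]
    [F'.IsQuasicoherent] [F.IsQuasicoherent]
    [SheafOfModules.IsFinitePresentation (R := X.ringCatSheaf) F]
    [SheafOfModules.IsFinitePresentation (R := X.ringCatSheaf) F'] {W : X.Opens}
    (hW : IsAffineOpen W) {V : Y.Opens} (hV : IsAffineOpen V) (hWV : W ≤ f ⁻¹ᵁ V)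
    (hflat : ∀ x : X, x ∈ W → FlatMod.IsFlatOverAt f (cokernel u) x) :
    (LinearMap.ker (appL u W)).FG := by
  haveI : (cokernel u).IsQuasicoherent := isQuasicoherent_cokernel u
  letI : Algebra Γ(Y, V) Γ(X, W) := (f.appLE V W hWV).hom.toAlgebra
  haveI : Algebra.FinitePresentation Γ(Y, V) Γ(X, W) :=
    HasRingHomProperty.appLE (P := @LocallyOfFinitePresentation) f inferInstance ⟨V, hV⟩
      ⟨W, hW⟩ hWV
  letI : Module Γ(Y, V) Γ(cokernel u, W) :=
    Module.compHom Γ(cokernel u, W) (f.appLE V W hWV).hom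
  haveI : IsScalarTower Γ(Y, V) Γ(X, W) Γ(cokernel u, W) := ⟨fun a b m => by
    change ((f.appLE V W hWV).hom a * b) • m = (f.appLE V W hWV).hom a • (b • m)
    rw [mul_smul]⟩
  haveI : Module.Flat Γ(Y, V) Γ(cokernel u, W) :=
    Groth.Agent.Lib.Helper2.FlatOver.flat_sections_of_isFlatOverAt f (cokernel u) hW hV hWV hflat
  haveI : Module.FinitePresentation Γ(X, W) Γ(F, W) :=
    Groth.Agent.Lib.Helper2.FPAff.finitePresentation_sections F hW
  haveI : Module.FinitePresentation Γ(X, W) Γ(F', W) :=
    Groth.Agent.Lib.Helper2.FPAff.finitePresentation_sections F' hW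
  haveI : Module.FinitePresentation Γ(X, W) Γ(cokernel u, W) :=
    finitePresentation_sections_cokernel u hW
  haveI := Groth.Agent.Lib.Seat22.KerFP.finitePresentation_ker Γ(Y, V) Γ(X, W) Γ(cokernel u, W)
    (appL (cokernel.π u) W) (surjective_appL_π u hW)
  let φ' : Γ(F', W) →ₗ[Γ(X, W)] LinearMap.ker (appL (cokernel.π u) W) :=
    (appL u W).codRestrict _ (fun m => by rw [ker_appL_π u hW]; exact ⟨m, rfl⟩)
  have hφ' : Function.Surjective φ' := by
    rintro ⟨m, hm⟩
    rw [ker_appL_π u hW] at hm
    obtain ⟨m', rfl⟩ := hm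
    exact ⟨m', rfl⟩
  have h := Module.FinitePresentation.fg_ker φ' hφ'
  rwa [LinearMap.ker_codRestrict] at h

/-- if `u_x` is injective and the kernel of `u` on sections over the affine open `W ∋ x` is finitely
generated, then some `g ∈ Γ(X, W)` not vanishing at `x` kills that kernel. -/
theorem exists_basicOpen_smul_ker [F'.IsQuasicoherent] {W : X.Opens} (hW : IsAffineOpen W) (x : X)
    (hxW : x ∈ W) (hinj : Function.Injective (RefHull.stalkMapₗ u x))
    (hK : (LinearMap.ker (appL u W)).FG) :
    ∃ g : Γ(X, W), x ∈ X.basicOpen g ∧ ∀ k ∈ LinearMap.ker (appL u W), g • k = 0 := by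
  classical
  obtain ⟨s, hs⟩ := hK
  have h1 : ∀ k ∈ LinearMap.ker (appL u W), ∃ g : Γ(X, W), x ∈ X.basicOpen g ∧ g • k = 0 := by
    intro k hk
    apply Groth.Agent.Lib.Helper2.QCoh.exists_smul_eq_zero_of_germ_eq_zero hW F' x hxW k
    apply hinj
    rw [map_zero, RefHull.stalkMapₗ_germ]
    rw [show u.app W k = 0 from hk, map_zero]
  choose! g hg1 hg2 using h1
  have hsub : ∀ k ∈ s, k ∈ LinearMap.ker (appL u W) := fun k hk => by
    rw [← hs]; exact Submodule.subset_span hk
  refine ⟨∏ k ∈ s, g k, ?_, ?_⟩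
  · refine Finset.prod_induction g (fun r => x ∈ X.basicOpen r) ?_ ?_ ?_
    · intro a b ha hb
      rw [Scheme.basicOpen_mul]
      exact ⟨ha, hb⟩
    · rw [Scheme.basicOpen_of_isUnit _ isUnit_one]
      exact hxW
    · intro k hk
      exact hg1 k (hsub k hk)
  · intro k hk
    rw [← hs] at hk
    induction hk using Submodule.span_induction with
    | mem k hk =>
      obtain ⟨c, hc⟩ := Finset.dvd_prod_of_mem g hk
      rw [hc, mul_comm, mul_smul, hg2 k (hsub k hk), smul_zero]
    | zero => exact smul_zero _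
    | add a b _ _ ha hb => rw [smul_add, ha, hb, add_zero]
    | smul r a _ ha => rw [smul_comm, ha, smul_zero]

/-- if `g` kills the kernel of `u` on sections over the affine open `W`, then `u_x` is injective
at every point of `D(g)`. -/
theorem stalkMap_injective_of_smul_ker [F'.IsQuasicoherent] [F.IsQuasicoherent] {W : X.Opens}
    (hW : IsAffineOpen W) (g : Γ(X, W))
    (hg : ∀ k ∈ LinearMap.ker (appL u W), g • k = 0) (x : X) (hxW : x ∈ W)
    (hx : x ∈ X.basicOpen g) : Function.Injective (RefHull.stalkMapₗ u x) := by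
  rw [injective_iff_map_eq_zero]
  intro m hm
  obtain ⟨s, a, hs, hsa⟩ := Groth.Agent.Lib.Helper2.QCoh.exists_smul_eq_germ hW F' x hxW m
  have h1 : F.presheaf.germ W x hxW (u.app W a) = 0 := by
    rw [← RefHull.stalkMapₗ_germ, ← hsa, map_smul, hm, smul_zero]
  obtain ⟨t, ht, hta⟩ :=
    Groth.Agent.Lib.Helper2.QCoh.exists_smul_eq_zero_of_germ_eq_zero hW F x hxW _ h1
  have h2 : t • a ∈ LinearMap.ker (appL u W) := by
    rw [LinearMap.mem_ker, map_smul, appL_apply]
    exact hta
  have h3 := hg _ h2
  have h4 : X.presheaf.germ W x hxW g • X.presheaf.germ W x hxW t •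
      X.presheaf.germ W x hxW s • m = 0 := by
    rw [hsa, ← Groth.Agent.Lib.Helper2.QCoh.germ_smul, ← Groth.Agent.Lib.Helper2.QCoh.germ_smul,
      h3, map_zero]
  have ug := (Scheme.mem_basicOpen X g x hxW).1 hx
  have ut := (Scheme.mem_basicOpen X t x hxW).1 ht
  have us := (Scheme.mem_basicOpen X s x hxW).1 hs
  rwa [ug.smul_eq_zero, ut.smul_eq_zero, us.smul_eq_zero] at h4

/-- **Openness of the locus where `u_x` is injective and `Coker u` is `f`-flat.** -/
theorem isOpen_inj_flat {Y : Scheme.{u}} (f : X ⟶ Y) [LocallyOfFinitePresentation f]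
    [F'.IsQuasicoherent] [F.IsQuasicoherent]
    [SheafOfModules.IsFinitePresentation (R := X.ringCatSheaf) F]
    [SheafOfModules.IsFinitePresentation (R := X.ringCatSheaf) F'] :
    IsOpen {x : X | Function.Injective (RefHull.stalkMapₗ u x) ∧
      FlatMod.IsFlatOverAt f (cokernel u) x} := by
  haveI : (cokernel u).IsQuasicoherent := isQuasicoherent_cokernel u
  haveI : SheafOfModules.IsFinitePresentation (R := X.ringCatSheaf) (cokernel u : X.Modules) :=
    isFinitePresentation_cokernel u
  have hZ := Groth.Agent.Lib.Helper2.FinPres.isOpen_setOf_isFlatOverAt f (cokernel u)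
  rw [isOpen_iff_forall_mem_open]
  rintro x ⟨hinj, hfl⟩
  obtain ⟨V, hV, hxV, -⟩ := exists_isAffineOpen_mem_and_subset (X := Y) (x := f.base x)
    (U := ⊤) trivial
  let Z : X.Opens := ⟨{x : X | FlatMod.IsFlatOverAt f (cokernel u) x}, hZ⟩
  obtain ⟨W, hW, hxW, hWle⟩ := exists_isAffineOpen_mem_and_subset (X := X) (x := x)
    (U := f ⁻¹ᵁ V ⊓ Z) ⟨hxV, hfl⟩
  have hWV : W ≤ f ⁻¹ᵁ V := fun y hy => (hWle hy).1
  have hWZ : ∀ y : X, y ∈ W → FlatMod.IsFlatOverAt f (cokernel u) y := fun y hy => (hWle hy).2
  have hK := fg_ker_appL u f hW hV hWV hWZ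
  obtain ⟨g, hgx, hgK⟩ := exists_basicOpen_smul_ker u hW x hxW hinj hK
  refine ⟨X.basicOpen g, ?_, (X.basicOpen g).isOpen, hgx⟩
  intro x' hx'
  have hx'W : x' ∈ W := X.basicOpen_le g hx'
  exact ⟨stalkMap_injective_of_smul_ker u hW g hgK x' hx'W hx', hWZ x' hx'W⟩

end Groth.Agent.Lib.Seat22.UInjOpen
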