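import Groth.Agent.Lib.Seat23LiftSmooth

/-!
# Seat23ConjHom: homomorphisms into a group with an invariant integral which agree modulo a
nilpotent ideal are conjugate by a point of `G(R)` congruent to `1`

* `cst`, `conjAlg`: constant points and conjugation by them;
* `IsComul`, `IsComul.conjAlg`, `IsComul.toBialgHom`;
* `exists_conj_of_nilpotent`: `x y : C → A` comultiplicative algebra maps, `y ≡ x` modulo the
  nilpotent ideal `K`, `A` with an invariant integral, `C` formally smooth: there is
  `n : C →ₐ[R] R`, `n ≡ ε` modulo `K`, with `y = n x n⁻¹`.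
-/

set_option autoImplicit false

namespace Groth.Agent.Lib.Seat23.ConjHom

open TensorProduct WithConv Groth.Agent.Lib.Seat23.ConvInt Groth.Agent.Lib.Seat23.LiftHom
  Groth.Agent.Lib.Seat23.LiftSmooth

section Cst

variable {R : Type*} [CommRing R] {C : Type*} [CommRing C] [HopfAlgebra R C]
  (T : Type*) [CommRing T] [Algebra R T]

/-- A point `n ∈ G(R)` as a constant point of `G(T)`. -/
noncomputable def cst (n : C →ₐ[R] R) : C →ₐ[R] T := (Algebra.ofId R T).comp n

variable {T}

theorem comp_cst {P : Type*} [CommRing P] [Algebra R P] (u : T →ₐ[R] P) (n : C →ₐ[R] R) :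
    u.comp (cst T n) = cst P n := by
  apply AlgHom.ext
  intro c
  simp [cst, Algebra.ofId_apply]

theorem gh_cst_counit : gh (cst T (Bialgebra.counitAlgHom R C)) = 1 := rfl

/-- conjugation of `x ∈ G(T)` by the constant point `n`. -/
noncomputable def conjAlg (n : C →ₐ[R] R) (x : C →ₐ[R] T) : C →ₐ[R] T :=
  ((toConv (cst T n) : WithConv (C →ₐ[R] T)) * toConv x *
    toConv ((cst T n).comp (HopfAlgebra.antipodeAlgHom R C))).ofConv

theorem gh_conjAlg (n : C →ₐ[R] R) (x : C →ₐ[R] T) :
    gh (conjAlg n x) = gh (cst T n) * gh x * gi (cst T n) := rfl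

theorem comp_conjAlg {P : Type*} [CommRing P] [Algebra R P] (u : T →ₐ[R] P) (n : C →ₐ[R] R)
    (x : C →ₐ[R] T) : u.comp (conjAlg n x) = conjAlg n (u.comp x) := by
  apply AlgHom.toLinearMap_injective
  apply WithConv.toConv_injective
  change push u.toLinearMap (gh (conjAlg n x)) = gh (conjAlg n (u.comp x))
  rw [gh_conjAlg, gh_conjAlg, push_mul, push_mul, push_gh, push_gh, push_gi, comp_cst]

theorem conjAlg_counit (x : C →ₐ[R] T) : conjAlg (Bialgebra.counitAlgHom R C) x = x := by
  apply AlgHom.toLinearMap_injective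
  apply WithConv.toConv_injective
  change gh (conjAlg _ x) = gh x
  rw [gh_conjAlg]
  have h1 : gh (cst T (Bialgebra.counitAlgHom R C)) = 1 := rfl
  have h2 : gi (cst T (Bialgebra.counitAlgHom R C)) = 1 := by
    have := gi_mul_gh (cst T (Bialgebra.counitAlgHom R C))
    rwa [h1, mul_one] at this
  rw [h1, h2, one_mul, mul_one]

end Cst

section Comul

variable {R : Type*} [CommRing R] {A : Type*} [CommRing A] [Bialgebra R A]
  {C : Type*} [CommRing C] [HopfAlgebra R C]

/-- comultiplicativity of an algebra map. -/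
def IsComul (x : C →ₐ[R] A) : Prop :=
  ∀ c : C, CoalgebraStruct.comul (R := R) (x c) =
    TensorProduct.map x.toLinearMap x.toLinearMap (CoalgebraStruct.comul (R := R) c)

theorem isComul_iff (x : C →ₐ[R] A) :
    IsComul x ↔ push (cΔ R A).toLinearMap (gh x) =
      push (i1 R A).toLinearMap (gh x) * push (i2 R A).toLinearMap (gh x) := by
  constructor
  · intro h
    apply WithConv.ext
    ext c
    have e := i1_mul_i2_apply (gh x) (gh x) c
    change CoalgebraStruct.comul (R := R) (x c) = (push (i1 R A).toLinearMap (gh x) *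
      push (i2 R A).toLinearMap (gh x)) c
    rw [e]
    exact h c
  · intro h c
    have e := i1_mul_i2_apply (gh x) (gh x) c
    have h' := congrArg (fun z : WithConv (C →ₗ[R] A ⊗[R] A) => z c) h
    change CoalgebraStruct.comul (R := R) (x c) = (push (i1 R A).toLinearMap (gh x) *
      push (i2 R A).toLinearMap (gh x)) c at h'
    rw [e] at h'
    exact h'

theorem isComul_bialgHom (φ : C →ₐc[R] A) : IsComul (φ : C →ₐ[R] A) := fun c =>
  (CoalgHomClass.map_comp_comul_apply φ c).symm

/-- Conjugation by a constant point preserves comultiplicativity. -/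
theorem IsComul.conjAlg {x : C →ₐ[R] A} (hx : IsComul x) (n : C →ₐ[R] R) :
    IsComul (conjAlg n x) := by
  rw [isComul_iff] at hx ⊢
  rw [gh_conjAlg]
  simp only [push_mul, push_gh, push_gi, comp_cst]
  rw [← push_gh x, ← push_gh x, ← push_gh x, hx]
  have hinv : gi (cst (A ⊗[R] A) n) * gh (cst (A ⊗[R] A) n) = 1 := gi_mul_gh _
  calc gh (cst (A ⊗[R] A) n) *
        (push (i1 R A).toLinearMap (gh x) * push (i2 R A).toLinearMap (gh x)) *
        gi (cst (A ⊗[R] A) n)
      = gh (cst (A ⊗[R] A) n) * push (i1 R A).toLinearMap (gh x) *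
          (gi (cst (A ⊗[R] A) n) * gh (cst (A ⊗[R] A) n)) *
          push (i2 R A).toLinearMap (gh x) * gi (cst (A ⊗[R] A) n) := by
        rw [hinv]; simp only [mul_assoc, mul_one]
    _ = _ := by simp only [mul_assoc]

/-- A comultiplicative algebra map as a bialgebra map. -/
noncomputable def IsComul.toBialgHom {x : C →ₐ[R] A} (hx : IsComul x) : C →ₐc[R] A :=
  BialgHom.ofAlgHom x (counit_comp_of_comul x hx) (by
    apply AlgHom.ext
    intro c
    have h1 : ∀ w : C ⊗[R] C, Algebra.TensorProduct.map x x w =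
        TensorProduct.map x.toLinearMap x.toLinearMap w := by
      intro w
      induction w using TensorProduct.induction_on with
      | zero => simp
      | tmul a b => rfl
      | add a b ha hb => simp only [map_add, ha, hb]
    change Algebra.TensorProduct.map x x (CoalgebraStruct.comul (R := R) c) =
      CoalgebraStruct.comul (R := R) (x c)
    rw [h1, hx])

theorem IsComul.toBialgHom_apply {x : C →ₐ[R] A} (hx : IsComul x) (c : C) :
    hx.toBialgHom c = x c := rfl

end Comul

section Key

variable {R : Type*} [CommRing R] {A : Type*} [CommRing A] [Bialgebra R A]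
  {C : Type*} [CommRing C] [HopfAlgebra R C]

variable (l : A →ₗ[R] R)

theorem isRetr_ofId (hl1 : l 1 = 1) : IsRetr (Algebra.ofId R A) l where
  map_one := hl1
  map_mul := by
    intro t y
    rw [Algebra.ofId_apply, ← Algebra.smul_def, map_smul, smul_eq_mul]

theorem push_l_one (hl1 : l 1 = 1) : push l (1 : WithConv (C →ₗ[R] A)) = 1 := by
  apply WithConv.ext
  ext c
  change l (algebraMap R A (CoalgebraStruct.counit (R := R) c)) =
    algebraMap R R (CoalgebraStruct.counit (R := R) c)
  rw [Algebra.algebraMap_eq_smul_one, map_smul, hl1]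
  simp

theorem lam_comp_cΔ
    (hinv : ∀ a : A, TensorProduct.rid R A
      (LinearMap.lTensor A l (CoalgebraStruct.comul (R := R) a)) = l a • (1 : A)) :
    lam l A ∘ₗ (cΔ R A).toLinearMap = Algebra.linearMap R A ∘ₗ l := by
  ext a
  change TensorProduct.rid R A (LinearMap.lTensor A l (CoalgebraStruct.comul (R := R) a)) = _
  rw [hinv]
  simp [Algebra.algebraMap_eq_smul_one]

theorem lam_comp_i2 : lam l A ∘ₗ (i2 R A).toLinearMap = Algebra.linearMap R A ∘ₗ l := by
  ext a
  change lam l A ((1 : A) ⊗ₜ[R] a) = _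
  rw [lam_tmul]
  simp [Algebra.algebraMap_eq_smul_one]

variable {l}

/-- the element `d = y x⁻¹`, averaged: `ν = ∫ y(h) x(h)⁻¹ dh`. -/
theorem key_identity (hl1 : l 1 = 1)
    (hinv : ∀ a : A, TensorProduct.rid R A
      (LinearMap.lTensor A l (CoalgebraStruct.comul (R := R) a)) = l a • (1 : A))
    {x y : C →ₐ[R] A} (hx : IsComul x) (hy : IsComul y) :
    push (Algebra.linearMap R A) (push l (gh y * gi x)) * gh x =
      gh y * push (Algebra.linearMap R A) (push l (gh y * gi x)) := by
  rw [isComul_iff] at hx hy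
  set d := gh y * gi x with hd
  have hr := isRetr_lam l A hl1
  -- inverse of `Δ_* x̂`
  have ha1 : push (cΔ R A).toLinearMap (gi x) * push (cΔ R A).toLinearMap (gh x) = 1 := by
    rw [← push_mul, gi_mul_gh, push_one]
  have ha2 : push (cΔ R A).toLinearMap (gh x) * push (cΔ R A).toLinearMap (gi x) = 1 := by
    rw [← push_mul, gh_mul_gi, push_one]
  have hb : (push (i2 R A).toLinearMap (gi x) * push (i1 R A).toLinearMap (gi x)) *
      push (cΔ R A).toLinearMap (gh x) = 1 := by
    rw [hx]
    have h1 : push (i1 R A).toLinearMap (gi x) * push (i1 R A).toLinearMap (gh x) = 1 := by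
      rw [← push_mul, gi_mul_gh, push_one]
    have h2 : push (i2 R A).toLinearMap (gi x) * push (i2 R A).toLinearMap (gh x) = 1 := by
      rw [← push_mul, gi_mul_gh, push_one]
    calc push (i2 R A).toLinearMap (gi x) * push (i1 R A).toLinearMap (gi x) *
          (push (i1 R A).toLinearMap (gh x) * push (i2 R A).toLinearMap (gh x))
        = push (i2 R A).toLinearMap (gi x) * (push (i1 R A).toLinearMap (gi x) *
          push (i1 R A).toLinearMap (gh x)) * push (i2 R A).toLinearMap (gh x) := by
          simp only [mul_assoc]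
      _ = 1 := by rw [h1, mul_one, h2]
  have hab : push (cΔ R A).toLinearMap (gi x) =
      push (i2 R A).toLinearMap (gi x) * push (i1 R A).toLinearMap (gi x) := by
    calc push (cΔ R A).toLinearMap (gi x)
        = ((push (i2 R A).toLinearMap (gi x) * push (i1 R A).toLinearMap (gi x)) *
            push (cΔ R A).toLinearMap (gh x)) * push (cΔ R A).toLinearMap (gi x) := by
          rw [hb, one_mul]
      _ = _ := by rw [mul_assoc, ha2, mul_one]
  have hΔd : push (cΔ R A).toLinearMap d =
      push (i1 R A).toLinearMap (gh y) * (push (i2 R A).toLinearMap d *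
        push (i1 R A).toLinearMap (gi x)) := by
    rw [hd, push_mul, hy, hab, push_mul]
    simp only [mul_assoc]
  have h1 := congrArg (push (lam l A)) hΔd
  rw [push_push, lam_comp_cΔ l hinv] at h1
  change _ = push (lam l A) (push (Algebra.TensorProduct.includeLeft :
    A →ₐ[R] A ⊗[R] A).toLinearMap (gh y) * (push (i2 R A).toLinearMap d *
      push (Algebra.TensorProduct.includeLeft : A →ₐ[R] A ⊗[R] A).toLinearMap (gi x))) at h1
  rw [push_lam_mul_left hr, push_lam_mul_right hr, push_push, lam_comp_i2] at h1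
  -- `N = ŷ N x̂'`
  have h2 : push (Algebra.linearMap R A ∘ₗ l) d =
      push (Algebra.linearMap R A) (push l d) := rfl
  rw [h2] at h1
  set N := push (Algebra.linearMap R A) (push l d) with hN
  calc N * gh x = gh y * (N * gi x) * gh x := by rw [← h1]
    _ = gh y * N * (gi x * gh x) := by simp only [mul_assoc]
    _ = gh y * N := by rw [gi_mul_gh, mul_one]

end Key

section Mul

variable {R : Type*} [CommRing R] {C : Type*} [CommRing C] [HopfAlgebra R C]
  {T : Type*} [CommRing T] [Algebra R T]

theorem gh_cst (n : C →ₐ[R] R) : gh (cst T n) = push (Algebra.linearMap R T) (gh n) := rfl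

/-- convolution product of two points of `G(R)`. -/
noncomputable def mulAlg (n₂ n₁ : C →ₐ[R] T) : C →ₐ[R] T :=
  ((toConv n₂ : WithConv (C →ₐ[R] T)) * toConv n₁).ofConv

theorem gh_mulAlg (n₂ n₁ : C →ₐ[R] T) : gh (mulAlg n₂ n₁) = gh n₂ * gh n₁ := rfl

theorem gh_cst_mulAlg (n₂ n₁ : C →ₐ[R] R) :
    gh (cst T (mulAlg n₂ n₁)) = gh (cst T n₂) * gh (cst T n₁) := by
  have h := push_mul (D := C) (Algebra.ofId R T) (gh n₂) (gh n₁)
  exact h

theorem gi_cst_mulAlg (n₂ n₁ : C →ₐ[R] R) :
    gi (cst T (mulAlg n₂ n₁)) = gi (cst T n₁) * gi (cst T n₂) := by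
  have h1 : gh (cst T (mulAlg n₂ n₁)) * gi (cst T (mulAlg n₂ n₁)) = 1 := gh_mul_gi _
  have h2 : (gi (cst T n₁) * gi (cst T n₂)) * gh (cst T (mulAlg n₂ n₁)) = 1 := by
    rw [gh_cst_mulAlg]
    calc gi (cst T n₁) * gi (cst T n₂) * (gh (cst T n₂) * gh (cst T n₁))
        = gi (cst T n₁) * (gi (cst T n₂) * gh (cst T n₂)) * gh (cst T n₁) := by
          simp only [mul_assoc]
      _ = 1 := by rw [gi_mul_gh, mul_one, gi_mul_gh]
  calc gi (cst T (mulAlg n₂ n₁))
      = (gi (cst T n₁) * gi (cst T n₂)) * gh (cst T (mulAlg n₂ n₁)) *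
          gi (cst T (mulAlg n₂ n₁)) := by rw [h2, one_mul]
    _ = _ := by rw [mul_assoc, h1, mul_one]

theorem conjAlg_conjAlg (n₂ n₁ : C →ₐ[R] R) (x : C →ₐ[R] T) :
    conjAlg n₂ (conjAlg n₁ x) = conjAlg (mulAlg n₂ n₁) x := by
  apply AlgHom.toLinearMap_injective
  apply WithConv.toConv_injective
  change gh (conjAlg n₂ (conjAlg n₁ x)) = gh (conjAlg (mulAlg n₂ n₁) x)
  rw [gh_conjAlg, gh_conjAlg, gh_conjAlg, gh_cst_mulAlg, gi_cst_mulAlg]
  simp only [mul_assoc]

end Mul

section Improve

variable {R : Type*} [CommRing R] {A : Type*} [CommRing A] [Bialgebra R A]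
  {C : Type*} [CommRing C] [HopfAlgebra R C] [Algebra.FormallySmooth R C]
  {l : A →ₗ[R] R}

theorem conj_improve (hl1 : l 1 = 1)
    (hinv : ∀ a : A, TensorProduct.rid R A
      (LinearMap.lTensor A l (CoalgebraStruct.comul (R := R) a)) = l a • (1 : A))
    (K : Ideal R) (hK : IsNilpotent K) {x y : C →ₐ[R] A} (hx : IsComul x) (hy : IsComul y)
    (hxy : IsIn K (gh y - gh x)) :
    ∃ n : C →ₐ[R] R, IsIn K (gh n - 1) ∧ IsIn (K * K) (gh y - gh (conjAlg n x)) := by
  set d := gh y * gi x with hd
  set ν := push l d with hν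
  have hd1 : IsIn K (d - 1) := by
    have : d - 1 = (gh y - gh x) * gi x := by
      rw [sub_mul, gh_mul_gi]
    rw [this]
    exact hxy.mul_right _
  have hν1 : IsIn K (ν - 1) := by
    have : ν - 1 = push l (d - 1) := by
      rw [push_sub, push_l_one l hl1]
    rw [this]
    exact hd1.push _
  -- `d` as an algebra map
  let W : C →ₐ[R] A :=
    ((toConv y : WithConv (C →ₐ[R] A)) *
      toConv (x.comp (HopfAlgebra.antipodeAlgHom R C))).ofConv
  have hWd : ∀ c, W c = d c := fun c => rfl
  have hW : ∀ c, W c - (Algebra.ofId R A) ((Bialgebra.counitAlgHom R C) c) ∈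
      K • (⊤ : Submodule R A) := fun c => hd1 c
  have hr := isRetr_ofId l hl1
  have hν_one : ν.ofConv 1 = 1 := by
    change l (W 1) = 1
    rw [map_one, hl1]
  have hν_mul : ∀ c c' : C, ν.ofConv (c * c') - ν.ofConv c * ν.ofConv c' ∈
      (K * K) • (⊤ : Submodule R R) := fun c c' =>
    int_algHom_mul hr K W (Bialgebra.counitAlgHom R C) hW c c'
  have hKK : IsNilpotent (K * K) := by
    obtain ⟨m, hm⟩ := hK
    refine ⟨m, ?_⟩
    rw [mul_pow, hm, zero_mul]
  obtain ⟨n, hn⟩ := exists_algHom_of_mul_mod (K * K) hKK ν.ofConv hν_one hν_mul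
  have hnν : IsIn (K * K) (gh n - ν) := fun c => hn c
  refine ⟨n, ?_, ?_⟩
  · have : gh n - 1 = (gh n - ν) + (ν - 1) := by abel
    rw [this]
    exact (hnν.mono Ideal.mul_le_right).add hν1
  · set N := push (Algebra.linearMap R A) ν with hN
    set N₁ := gh (cst A n) with hN₁
    have hN1 : IsIn (K * K) (N₁ - N) := by
      have : N₁ - N = push (Algebra.linearMap R A) (gh n - ν) := by
        rw [push_sub]
        rfl
      rw [this]
      exact hnν.push _
    have hkey : N * gh x = gh y * N := key_identity hl1 hinv hx hy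
    have e1 : gh y - gh (conjAlg n x) = (gh y * N₁ - N₁ * gh x) * gi (cst A n) := by
      rw [gh_conjAlg, sub_mul, mul_assoc (gh y), gh_mul_gi, mul_one]
    have e2 : gh y * N₁ - N₁ * gh x = gh y * (N₁ - N) - (N₁ - N) * gh x := by
      rw [mul_sub, sub_mul, ← hkey]
      abel
    rw [e1, e2]
    exact ((hN1.mul_left _).sub (hN1.mul_right _)).mul_right _

theorem exists_conj_aux (hl1 : l 1 = 1)
    (hinv : ∀ a : A, TensorProduct.rid R A
      (LinearMap.lTensor A l (CoalgebraStruct.comul (R := R) a)) = l a • (1 : A)) :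
    ∀ (m : ℕ) (K : Ideal R), K ^ m = ⊥ → ∀ x y : C →ₐ[R] A, IsComul x → IsComul y →
      IsIn K (gh y - gh x) →
      ∃ n : C →ₐ[R] R, IsIn K (gh n - 1) ∧ y = conjAlg n x := by
  intro m
  induction m using Nat.strong_induction_on with
  | _ m ih =>
    intro K hK x y hx hy hxy
    by_cases hm : m ≤ 1
    · have hK0 : K = ⊥ := by
        interval_cases m
        · rw [pow_zero, Ideal.one_eq_top] at hK
          exact le_bot_iff.mp (hK ▸ le_top)
        · rwa [pow_one] at hK
      subst hK0
      have hyx : y = x := by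
        apply AlgHom.ext
        intro c
        have := hxy c
        rw [Submodule.bot_smul, Submodule.mem_bot] at this
        exact sub_eq_zero.mp this
      refine ⟨Bialgebra.counitAlgHom R C, ?_, ?_⟩
      · have : gh (Bialgebra.counitAlgHom R C) - (1 : WithConv (C →ₗ[R] R)) = 0 := by
          apply WithConv.ext
          ext c
          simp [gh]
        rw [this]
        exact IsIn.zero _
      · rw [hyx, conjAlg_counit]
    · push Not at hm
      have hKnil : IsNilpotent K := ⟨m, by rw [hK]; rfl⟩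
      obtain ⟨n₁, hn₁, hy₁⟩ := conj_improve hl1 hinv K hKnil hx hy hxy
      have hm' : (m + 1) / 2 < m := by omega
      have hKm : (K * K) ^ ((m + 1) / 2) = ⊥ := by
        rw [← pow_two, ← pow_mul]
        refine le_bot_iff.mp ?_
        rw [← hK]
        exact Ideal.pow_le_pow_right (by omega)
      obtain ⟨n₂, hn₂, hy₂⟩ := ih _ hm' (K * K) hKm (conjAlg n₁ x) y (hx.conjAlg n₁) hy hy₁
      refine ⟨mulAlg n₂ n₁, ?_, ?_⟩
      · have : gh (mulAlg n₂ n₁) - 1 = (gh n₂ - 1) * gh n₁ + (gh n₁ - 1) := by
          rw [gh_mulAlg, sub_mul, one_mul]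
          abel
        rw [this]
        exact ((hn₂.mono Ideal.mul_le_right).mul_right _).add hn₁
      · rw [hy₂, conjAlg_conjAlg]

end Improve


section Final

variable {R : Type*} [CommRing R] {A : Type*} [CommRing A] [Bialgebra R A]
  {C : Type*} [CommRing C] [HopfAlgebra R C]

/-- Conjugating by a point congruent to `1` modulo `K` changes a map only modulo `K`. -/
theorem conjAlg_sub_isIn (K : Ideal R) (n : C →ₐ[R] R) (hn : IsIn K (gh n - 1))
    (x : C →ₐ[R] A) : IsIn K (gh (conjAlg n x) - gh x) := by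
  set N := gh (cst A n) with hN
  set N' := gi (cst A n) with hN'
  have hN1 : IsIn K (N - 1) := by
    have : N - 1 = push (Algebra.ofId R A).toLinearMap (gh n - 1) := by
      rw [push_sub, push_one]
      rfl
    rw [this]
    exact hn.push _
  have hN'1 : IsIn K (N' - 1) := by
    have : N' - 1 = - (N' * (N - 1)) := by
      rw [mul_sub, gi_mul_gh, mul_one]
      abel
    rw [this]
    exact (hN1.mul_left _).neg
  have e : gh (conjAlg n x) - gh x = (N - 1) * gh x * N' + gh x * (N' - 1) := by
    rw [gh_conjAlg, sub_mul, sub_mul, one_mul, mul_sub, mul_one]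
    abel
  rw [e]
  exact ((hN1.mul_right _).mul_right _).add (hN'1.mul_left _)

variable [Algebra.FormallySmooth R C]

/-- Two comultiplicative algebra maps `C → A` which agree modulo a nilpotent ideal are conjugate
under a point of `G(R)` congruent to `1`. -/
theorem exists_conj_of_nilpotent (l : A →ₗ[R] R) (hl1 : l 1 = 1)
    (hinv : ∀ a : A, TensorProduct.rid R A
      (LinearMap.lTensor A l (CoalgebraStruct.comul (R := R) a)) = l a • (1 : A))
    (K : Ideal R) (hK : IsNilpotent K) (x y : C →ₐ[R] A) (hx : IsComul x) (hy : IsComul y)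
    (hxy : ∀ c, y c - x c ∈ K • (⊤ : Submodule R A)) :
    ∃ n : C →ₐ[R] R, (∀ c, n c - CoalgebraStruct.counit (R := R) c ∈ K • (⊤ : Submodule R R)) ∧
      y = conjAlg n x := by
  obtain ⟨m, hm⟩ := hK
  obtain ⟨n, hn, hy'⟩ := exists_conj_aux hl1 hinv m K hm x y hx hy (fun c => hxy c)
  exact ⟨n, fun c => hn c, hy'⟩

end Final

end Groth.Agent.Lib.Seat23.ConjHom
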