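import Groth.Agent.Lib.Helper25MultRigid
import Mathlib.LinearAlgebra.DirectSum.Finsupp
import Mathlib.RingTheory.Flat.FaithfullyFlat.Basic

/-!
# Seat23Coord: coordinate functionals of a Hopf algebra which becomes a group algebra after a
faithfully flat base change

`e : A' ⊗[A] B ≃ₐc[A'] A'[M]`.
* `cf m`, `cf_comul`: the coefficient functionals of a group algebra are orthogonal idempotents for
  convolution;
* `coord' e m : A' ⊗ B → A'`, `coord e m : B → A'`, `coord_comul`;
* `eq_zero_of_lTensor_coord'`, `eq_zero_of_lTensor_coord`, `eq_zero_of_coord`: joint injectivity of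
  the coordinates, universally;
* `sep_B`, `sep_BB`, `sep_A'A'B`: `I`-adic separatedness when `A` is Noetherian, `I` in the radical
  and `A'` finite.
-/

set_option autoImplicit false

namespace Groth.Agent.Lib.Seat23.Coord

open TensorProduct Groth.Agent.Lib.Helper25

section GroupAlg

variable {R : Type*} [CommRing R] {M : Type*} [CommGroup M]

/-- the coefficient functionals on a group algebra. -/
noncomputable def cf (m : M) : MonoidAlgebra R M →ₗ[R] R :=
  Finsupp.lapply m ∘ₗ (MonoidAlgebra.coeffLinearEquiv R).toLinearMap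

theorem cf_apply (m : M) (y : MonoidAlgebra R M) : cf m y = y.coeff m := rfl

/-- The coefficient functionals are orthogonal idempotents for the convolution product. -/
theorem cf_comul [DecidableEq M] (m m' : M) (y : MonoidAlgebra R M) :
    LinearMap.mul' R R (TensorProduct.map (cf m) (cf m') (CoalgebraStruct.comul (R := R) y)) =
      if m = m' then y.coeff m else 0 := by
  induction y using MonoidAlgebra.induction_linear with
  | zero => simp
  | add y z hy hz =>
    simp only [map_add, hy, hz, MonoidAlgebra.coeff_add, Finsupp.add_apply]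
    split_ifs <;> simp
  | single g a =>
    rw [MonoidAlgebra.comul_single]
    simp only [CommSemiring.comul_apply, TensorProduct.map_tmul]
    change LinearMap.mul' R R (cf m (MonoidAlgebra.single g 1) ⊗ₜ[R]
      cf m' (MonoidAlgebra.single g a)) = _
    rw [LinearMap.mul'_apply, cf_apply, cf_apply, MonoidAlgebra.coeff_single,
      MonoidAlgebra.coeff_single, Finsupp.single_apply, Finsupp.single_apply, Finsupp.single_apply]
    by_cases h1 : g = m
    · by_cases h2 : g = m'
      · have : m = m' := h1.symm.trans h2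
        simp [h1, h2, this]
      · have : m ≠ m' := fun h => h2 (h1.trans h)
        simp [h1, h2, this]
    · simp [h1]

end GroupAlg

section Defs

variable {A : Type*} [CommRing A] {A' : Type*} [CommRing A'] [Algebra A A'] {B : Type*}
  [CommRing B] [Bialgebra A B] {M : Type*} [CommGroup M]
  (e : A' ⊗[A] B ≃ₐc[A'] MonoidAlgebra A' M)

/-- the linear equivalence with finitely supported functions. -/
noncomputable def toFinsupp : A' ⊗[A] B ≃ₗ[A'] (M →₀ A') :=
  (e : A' ⊗[A] B ≃ₗ[A'] MonoidAlgebra A' M) ≪≫ₗ MonoidAlgebra.coeffLinearEquiv A'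

/-- coordinates on `A' ⊗ B`. -/
noncomputable def coord' (m : M) : A' ⊗[A] B →ₗ[A'] A' :=
  Finsupp.lapply m ∘ₗ (toFinsupp e).toLinearMap

theorem coord'_apply (m : M) (z : A' ⊗[A] B) : coord' e m z = (e z).coeff m := rfl

/-- coordinates on `B`. -/
noncomputable def coord (m : M) : B →ₗ[A] A' :=
  (coord' e m).restrictScalars A ∘ₗ TensorProduct.mk A A' B 1

theorem coord_apply (m : M) (b : B) : coord e m b = (e ((1 : A') ⊗ₜ[A] b)).coeff m := rfl

variable (X : Type*) [AddCommGroup X] [Module A X]

/-- the coordinates on `X ⊗ (A' ⊗ B)` are jointly injective. -/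
theorem eq_zero_of_lTensor_coord' (z : X ⊗[A] (A' ⊗[A] B))
    (h : ∀ m, LinearMap.lTensor X ((coord' e m).restrictScalars A) z = 0) : z = 0 := by
  classical
  let Φ : X ⊗[A] (A' ⊗[A] B) ≃ₗ[A] (M →₀ X ⊗[A] A') :=
    TensorProduct.congr (LinearEquiv.refl A X) ((toFinsupp e).restrictScalars A) ≪≫ₗ
      TensorProduct.finsuppRight A A X A' M
  apply Φ.injective
  rw [map_zero]
  ext m
  have key : ∀ z : X ⊗[A] (A' ⊗[A] B),
      Φ z m = LinearMap.lTensor X ((coord' e m).restrictScalars A) z := by
    intro z
    induction z using TensorProduct.induction_on with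
    | zero => simp
    | tmul x y =>
      simp only [Φ, LinearEquiv.trans_apply, TensorProduct.congr_tmul, LinearEquiv.refl_apply,
        TensorProduct.finsuppRight_apply_tmul_apply, LinearMap.lTensor_tmul]
      rfl
    | add x y hx hy => simp only [map_add, Finsupp.add_apply, hx, hy]
  rw [key, h, Finsupp.zero_apply]

variable [Module.FaithfullyFlat A A']

/-- `B → A' ⊗ B` is universally injective. -/
theorem lTensor_mk_injective :
    Function.Injective (LinearMap.lTensor X (TensorProduct.mk A A' B 1)) := by
  have h1 : Function.Injective (TensorProduct.mk A A' (X ⊗[A] B) 1) :=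
    Module.FaithfullyFlat.tensorProduct_mk_injective (A := A) (B := A') (X ⊗[A] B)
  have h2 : (TensorProduct.leftComm A A' X B).toLinearMap ∘ₗ
      (TensorProduct.mk A A' (X ⊗[A] B) 1) = LinearMap.lTensor X (TensorProduct.mk A A' B 1) := by
    apply TensorProduct.ext'
    intro x b
    simp
  rw [← h2]
  exact (TensorProduct.leftComm A A' X B).injective.comp h1

/-- the coordinates on `X ⊗ B` are jointly injective. -/
theorem eq_zero_of_lTensor_coord (z : X ⊗[A] B)
    (h : ∀ m, LinearMap.lTensor X (coord e m) z = 0) : z = 0 := by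
  apply lTensor_mk_injective (A' := A') X
  rw [map_zero]
  apply eq_zero_of_lTensor_coord' e X
  intro m
  rw [← LinearMap.comp_apply, ← LinearMap.lTensor_comp]
  exact h m

theorem eq_zero_of_coord (b : B) (h : ∀ m, coord e m b = 0) : b = 0 := by
  have h1 : (1 : A) ⊗ₜ[A] b = 0 := by
    apply eq_zero_of_lTensor_coord e A
    intro m
    rw [LinearMap.lTensor_tmul, h m, TensorProduct.tmul_zero]
  have := congrArg (TensorProduct.lid A B) h1
  simpa using this

end Defs

section Conv

variable {A : Type*} [CommRing A] {A' : Type*} [CommRing A'] [Algebra A A'] {B : Type*}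
  [CommRing B] [Bialgebra A B] {M : Type*} [CommGroup M]
  (e : A' ⊗[A] B ≃ₐc[A'] MonoidAlgebra A' M)

/-- The coordinate functionals on `B` are orthogonal idempotents for the convolution product. -/
theorem coord_comul [DecidableEq M] (m m' : M) (b : B) :
    LinearMap.mul' A A' (TensorProduct.map (coord e m) (coord e m')
      (CoalgebraStruct.comul (R := A) b)) = if m = m' then coord e m b else 0 := by
  have hΨ : ∀ w : B ⊗[A] B,
      LinearMap.mul' A A' (TensorProduct.map (coord e m) (coord e m') w) =
      LinearMap.mul' A' A' (TensorProduct.map (cf m) (cf m')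
        (TensorProduct.map (e : A' ⊗[A] B →ₗ[A'] MonoidAlgebra A' M)
          (e : A' ⊗[A] B →ₗ[A'] MonoidAlgebra A' M) (bcMap2 A' B w))) := by
    intro w
    induction w using TensorProduct.induction_on with
    | zero => simp
    | tmul x y =>
      rw [bcMap2_tmul, TensorProduct.map_tmul, TensorProduct.map_tmul, TensorProduct.map_tmul,
        LinearMap.mul'_apply, LinearMap.mul'_apply]
      rfl
    | add x y hx hy => simp only [map_add, hx, hy]
  rw [hΨ, ← comul_one_tmul]
  have h1 : TensorProduct.map (e : A' ⊗[A] B →ₗ[A'] MonoidAlgebra A' M)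
      (e : A' ⊗[A] B →ₗ[A'] MonoidAlgebra A' M)
      (CoalgebraStruct.comul (R := A') ((1 : A') ⊗ₜ[A] b)) =
      CoalgebraStruct.comul (R := A') (e ((1 : A') ⊗ₜ[A] b)) :=
    CoalgHomClass.map_comp_comul_apply e _
  rw [h1, cf_comul]
  rfl

end Conv

section Sep

variable {A : Type*} [CommRing A] [IsNoetherianRing A] (I : Ideal A)

theorem eq_zero_of_forall_mem_pow_smul (hI : I ≤ Ideal.jacobson ⊥) {N : Type*} [AddCommGroup N]
    [Module A N] [Module.Finite A N] (n : N)
    (h : ∀ k, n ∈ I ^ (k + 1) • (⊤ : Submodule A N)) : n = 0 := by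
  have hk : (⨅ i : ℕ, I ^ i • ⊤ : Submodule A N) = ⊥ :=
    Ideal.iInf_pow_smul_eq_bot_of_le_jacobson I hI
  have : n ∈ (⨅ i : ℕ, I ^ i • ⊤ : Submodule A N) := by
    rw [Submodule.mem_iInf]
    intro i
    exact Submodule.smul_mono (Ideal.pow_le_pow_right (Nat.le_succ i)) le_rfl (h i)
  rw [hk, Submodule.mem_bot] at this
  exact this

variable {A' : Type*} [CommRing A'] [Algebra A A'] [Module.Finite A A'] {B : Type*}
  [CommRing B] [Bialgebra A B] {M : Type*} [CommGroup M]
  (e : A' ⊗[A] B ≃ₐc[A'] MonoidAlgebra A' M)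

include e in
theorem sep_A'A'B (hI : I ≤ Ideal.jacobson ⊥) (z : A' ⊗[A] (A' ⊗[A] B))
    (h : ∀ k, z ∈ I ^ (k + 1) • (⊤ : Submodule A (A' ⊗[A] (A' ⊗[A] B)))) : z = 0 := by
  apply eq_zero_of_lTensor_coord' e A'
  intro m
  apply eq_zero_of_forall_mem_pow_smul I hI
  intro k
  exact map_mem_smul_top _ _ (h k)

variable [Module.FaithfullyFlat A A']

include e in
theorem sep_B (hI : I ≤ Ideal.jacobson ⊥) (b : B)
    (h : ∀ k, b ∈ I ^ (k + 1) • (⊤ : Submodule A B)) : b = 0 := by
  apply eq_zero_of_coord e
  intro m
  apply eq_zero_of_forall_mem_pow_smul I hI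
  intro k
  exact map_mem_smul_top _ _ (h k)

include e in
theorem sep_BB (hI : I ≤ Ideal.jacobson ⊥) (w : B ⊗[A] B)
    (h : ∀ k, w ∈ I ^ (k + 1) • (⊤ : Submodule A (B ⊗[A] B))) : w = 0 := by
  have h1 : ∀ m m', TensorProduct.map (coord e m) (coord e m') w = 0 := by
    intro m m'
    apply eq_zero_of_forall_mem_pow_smul I hI
    intro k
    exact map_mem_smul_top _ _ (h k)
  have h2 : ∀ m, LinearMap.rTensor B (coord e m) w = 0 := by
    intro m
    apply eq_zero_of_lTensor_coord e A'
    intro m'
    rw [← LinearMap.comp_apply, LinearMap.lTensor_comp_rTensor]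
    exact h1 m m'
  have h3 : TensorProduct.comm A B B w = 0 := by
    apply eq_zero_of_lTensor_coord e B
    intro m
    have := congrArg (TensorProduct.comm A A' B) (h2 m)
    rw [map_zero] at this
    rw [← this]
    generalize w = w'
    induction w' using TensorProduct.induction_on with
    | zero => simp
    | tmul x y => simp
    | add x y hx hy => simp only [map_add, hx, hy]
  exact (LinearEquiv.map_eq_zero_iff _).mp h3

end Sep

end Groth.Agent.Lib.Seat23.Coord
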