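import Groth.Agent.Lib.Seat23Tower
import Groth.Agent.Lib.Seat23Coord
import Groth.Agent.Lib.Seat23ConjHom
import Groth.Agent.Lib.Helper14InvLim
import Groth.Agent.Lib.Helper22Amitsur

/-!
# Seat23Algebraize: algebraization of a formal homomorphism from an isotrivial group of
multiplicative type

`A` Noetherian and `I`-adically complete, `A'` a finite faithfully flat `A`-algebra,
`e : A' ⊗ B ≃ₐc A'[M]`.  A compatible system of comultiplicative algebra maps
`x k : C → (A ⧸ I^(k+1)) ⊗ B` comes from a unique bialgebra map `C → B`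
(`exists_bialgHom_of_tower`).

Steps: `exists_limit` (limits of compatible systems of linear maps into a complete module),
`phi_conv` (the coordinates `φ_m : C → A'` of the limit are orthogonal idempotents for
convolution), `finite_support` (hence have pointwise finite support, `A'` being Noetherian),
`exists_point` (descent of the resulting element of `A' ⊗ B` to `B` by the Amitsur complex).
-/

set_option autoImplicit false

namespace Groth.Agent.Lib.Seat23.Algebraize

open TensorProduct WithConv Groth.Agent.Lib.Seat23 Groth.Agent.Lib.Seat23.ConvInt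
  Groth.Agent.Lib.Seat23.LiftHom Groth.Agent.Lib.Seat23.LiftSmooth
  Groth.Agent.Lib.Seat23.QuotTower Groth.Agent.Lib.Seat23.IntData Groth.Agent.Lib.Helper25
  Groth.Agent.Lib.Seat23.QuotBC Groth.Agent.Lib.Seat23.Tower Groth.Agent.Lib.Seat23.Coord

section Complete

theorem isPrecomplete_of_surjective {R : Type*} [CommRing R] (I : Ideal R) {N M : Type*}
    [AddCommGroup N] [Module R N] [AddCommGroup M] [Module R M] (f : N →ₗ[R] M)
    (hf : Function.Surjective f) [IsPrecomplete I N] : IsPrecomplete I M := by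
  rw [← AdicCompletion.of_surjective_iff]
  intro y
  obtain ⟨x, rfl⟩ := AdicCompletion.map_surjective I hf y
  obtain ⟨n, rfl⟩ := AdicCompletion.of_surjective I N x
  exact ⟨f n, (AdicCompletion.map_of I f n).symm⟩

theorem isPrecomplete_of_finite {R : Type*} [CommRing R] (I : Ideal R) [IsPrecomplete I R]
    (M : Type*) [AddCommGroup M] [Module R M] [Module.Finite R M] : IsPrecomplete I M := by
  obtain ⟨n, f, hf⟩ := Module.Finite.exists_fin' R M
  haveI : IsPrecomplete I (Fin n → R) := Groth.Agent.Lib.Helper14.isPrecomplete_pi I n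
  exact isPrecomplete_of_surjective I f hf

variable {A : Type*} [CommRing A] (I : Ideal A) {N : Type*} [AddCommGroup N] [Module A N]

theorem eq_of_forall_one_tmul_eq [IsHausdorff I N] (a b : N)
    (h : ∀ k, (1 : A ⧸ I ^ (k + 1)) ⊗ₜ[A] a = (1 : A ⧸ I ^ (k + 1)) ⊗ₜ[A] b) : a = b := by
  rw [← sub_eq_zero]
  apply IsHausdorff.haus' (I := I)
  intro n
  rw [SModEq.zero]
  have := (one_tmul_eq_iff (I ^ (n + 1)) a b).mp (h n)
  exact Submodule.smul_mono (Ideal.pow_le_pow_right (Nat.le_succ n)) le_rfl this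

/-- pointwise limits. -/
theorem exists_limit_point [IsPrecomplete I N] (y : ∀ k, (A ⧸ I ^ (k + 1)) ⊗[A] N)
    (hy : ∀ k, qMap N (pow_succ_succ_le I k) (y (k + 1)) = y k) :
    ∃ L : N, ∀ k, (1 : A ⧸ I ^ (k + 1)) ⊗ₜ[A] L = y k := by
  choose a ha using fun k => exists_one_tmul (I ^ (k + 1)) (y k)
  have hstep : ∀ k, a (k + 1) - a k ∈ I ^ (k + 1) • (⊤ : Submodule A N) := by
    intro k
    rw [← one_tmul_eq_iff, ha k, ← hy k, ← ha (k + 1), qMap_one_tmul]
  have hcauchy : ∀ m n, m ≤ n → a n - a m ∈ I ^ (m + 1) • (⊤ : Submodule A N) := by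
    intro m n hmn
    induction n, hmn using Nat.le_induction with
    | base => rw [sub_self]; exact Submodule.zero_mem _
    | succ n hmn ih =>
      have : a (n + 1) - a m = (a (n + 1) - a n) + (a n - a m) := by abel
      rw [this]
      exact Submodule.add_mem _
        (Submodule.smul_mono (Ideal.pow_le_pow_right (by omega)) le_rfl (hstep n)) ih
  obtain ⟨L, hL⟩ := IsPrecomplete.prec' (I := I) a (by
    intro m n hmn
    rw [SModEq.sub_mem]
    have h1 := hcauchy m n hmn
    have h2 : a m - a n = -(a n - a m) := by abel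
    rw [h2]
    exact Submodule.neg_mem _
      (Submodule.smul_mono (Ideal.pow_le_pow_right (Nat.le_succ m)) le_rfl h1))
  refine ⟨L, fun k => ?_⟩
  rw [← ha k, one_tmul_eq_iff]
  have h1 := hL (k + 1)
  rw [SModEq.sub_mem] at h1
  have h2 : L - a k = -(a (k + 1) - L) + (a (k + 1) - a k) := by abel
  rw [h2]
  exact Submodule.add_mem _ (Submodule.neg_mem _ h1) (hstep k)

/-- limits of compatible families of linear maps. -/
theorem exists_limit [IsHausdorff I N] [IsPrecomplete I N] {X : Type*} [AddCommGroup X]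
    [Module A X] (f : ∀ k, X →ₗ[A] (A ⧸ I ^ (k + 1)) ⊗[A] N)
    (hf : ∀ k x, qMap N (pow_succ_succ_le I k) (f (k + 1) x) = f k x) :
    ∃ g : X →ₗ[A] N, ∀ k x, (1 : A ⧸ I ^ (k + 1)) ⊗ₜ[A] g x = f k x := by
  choose g hg using fun x => exists_limit_point I (fun k => f k x) (fun k => hf k x)
  refine ⟨{ toFun := g, map_add' := ?_, map_smul' := ?_ }, fun k x => hg x k⟩
  · intro x y
    apply eq_of_forall_one_tmul_eq I
    intro k
    rw [TensorProduct.tmul_add, hg, hg, hg, map_add]
  · intro r x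
    apply eq_of_forall_one_tmul_eq I
    intro k
    rw [RingHom.id_apply, TensorProduct.tmul_smul, hg, hg, map_smul]

end Complete

section Bilin

variable {R : Type*} [CommRing R] {D : Type*} [AddCommGroup D] [Module R D] [Coalgebra R D]
  {T T' P Q : Type*} [CommRing T] [CommRing T'] [CommRing P] [CommRing Q] [Algebra R T]
  [Algebra R T'] [Algebra R P] [Algebra R Q]

theorem push_mul_of_bilin (u : T →ₗ[R] P) (v : T' →ₗ[R] P) (K : T →ₗ[R] Q) (K' : T' →ₗ[R] Q)
    (Pm : P →ₗ[R] Q) (h : ∀ a b, Pm (u a * v b) = K a * K' b) (x : WithConv (D →ₗ[R] T))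
    (y : WithConv (D →ₗ[R] T')) :
    push Pm (push u x * push v y) = push K x * push K' y := by
  apply WithConv.ext
  ext d
  change Pm (LinearMap.mul' R P (TensorProduct.map (u ∘ₗ x.ofConv) (v ∘ₗ y.ofConv)
    (CoalgebraStruct.comul (R := R) d))) =
    LinearMap.mul' R Q (TensorProduct.map (K ∘ₗ x.ofConv) (K' ∘ₗ y.ofConv)
      (CoalgebraStruct.comul (R := R) d))
  generalize CoalgebraStruct.comul (R := R) d = w
  induction w using TensorProduct.induction_on with
  | zero => simp
  | tmul a b => simp [h]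
  | add a b ha hb => simp only [map_add, ha, hb]

end Bilin

section P2

variable {A : Type*} [CommRing A] {B : Type*} [CommRing B] [Bialgebra A B]
  {C : Type*} [CommRing C] [HopfAlgebra A C]

/-- comultiplicativity of an algebra map `C → S ⊗ B`. -/
def IsComulBC {S : Type*} [CommRing S] [Algebra A S] (y : C →ₐ[A] S ⊗[A] B) : Prop :=
  push (bcAlg S (LiftHom.cΔ A B)).toLinearMap (gh y) =
    push (bcAlg S (LiftHom.i1 A B)).toLinearMap (gh y) *
      push (bcAlg S (LiftHom.i2 A B)).toLinearMap (gh y)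

theorem isComulBC_of_defect {S : Type*} [CommRing S] [Algebra A S] (l : B →ₗ[A] A)
    (hl1 : l 1 = 1)
    (hinv : ∀ a : B, TensorProduct.rid A B
      (LinearMap.lTensor B l (CoalgebraStruct.comul (R := A) a)) = l a • (1 : B))
    (y : C →ₐ[A] S ⊗[A] B)
    (h : ((IntData.ofBialgebra l hl1 hinv).baseChange S).defect (gh y) = 0) : IsComulBC y :=
  sub_eq_zero.mp h

variable {A' : Type*} [CommRing A'] [Algebra A A'] {M : Type*} [CommGroup M]

theorem lTensor_mul_of_bilin (S : Type*) [CommRing S] [Algebra A S] (κ κ' : B →ₗ[A] A')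
    (a b : S ⊗[A] B) :
    LinearMap.lTensor S (LinearMap.mul' A A' ∘ₗ TensorProduct.map κ κ')
      (bcAlg S (LiftHom.i1 A B) a * bcAlg S (LiftHom.i2 A B) b) =
      LinearMap.lTensor S κ a * LinearMap.lTensor S κ' b := by
  induction a using TensorProduct.induction_on with
  | zero => simp
  | tmul s x =>
    induction b using TensorProduct.induction_on with
    | zero => simp
    | tmul s' y => simp [bcAlg, LiftHom.i1, LiftHom.i2]
    | add y y' hy hy' => simp only [map_add, mul_add, hy, hy']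
  | add x x' hx hx' => simp only [map_add, add_mul, hx, hx']

theorem lTensor_comp_bcAlg_cΔ (S : Type*) [CommRing S] [Algebra A S] (κ κ' : B →ₗ[A] A')
    (a : S ⊗[A] B) :
    LinearMap.lTensor S (LinearMap.mul' A A' ∘ₗ TensorProduct.map κ κ')
      (bcAlg S (LiftHom.cΔ A B) a) =
      LinearMap.lTensor S (LinearMap.mul' A A' ∘ₗ TensorProduct.map κ κ' ∘ₗ
        (CoalgebraStruct.comul (R := A) (A := B))) a := by
  induction a using TensorProduct.induction_on with
  | zero => simp
  | tmul s x => simp [bcAlg, cΔ_apply]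
  | add x x' hx hx' => simp only [map_add, hx, hx']

variable (I : Ideal A) (e : A' ⊗[A] B ≃ₐc[A'] MonoidAlgebra A' M)

/-- (P2): the limit functionals are orthogonal idempotents for the convolution product. -/
theorem phi_conv [DecidableEq M] [IsHausdorff I A']
    (x : ∀ k, C →ₐ[A] (A ⧸ I ^ (k + 1)) ⊗[A] B) (hx : ∀ k, IsComulBC (x k))
    (φ : M → (C →ₗ[A] A'))
    (hφ : ∀ m k c, (1 : A ⧸ I ^ (k + 1)) ⊗ₜ[A] φ m c =
      LinearMap.lTensor (A ⧸ I ^ (k + 1)) (coord e m) (x k c))
    (m m' : M) (c : C) :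
    LinearMap.mul' A A' (TensorProduct.map (φ m) (φ m') (CoalgebraStruct.comul (R := A) c)) =
      if m = m' then φ m c else 0 := by
  apply eq_of_forall_one_tmul_eq I
  intro k
  set S := A ⧸ I ^ (k + 1) with hS
  set X := gh (x k) with hX
  have h1 : ∀ w : C ⊗[A] C, (1 : S) ⊗ₜ[A] LinearMap.mul' A A' (TensorProduct.map (φ m) (φ m') w) =
      LinearMap.mul' A (S ⊗[A] A') (TensorProduct.map
        (LinearMap.lTensor S (coord e m) ∘ₗ (x k).toLinearMap)
        (LinearMap.lTensor S (coord e m') ∘ₗ (x k).toLinearMap) w) := by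
    intro w
    induction w using TensorProduct.induction_on with
    | zero => simp
    | tmul a b =>
      rw [TensorProduct.map_tmul, TensorProduct.map_tmul, LinearMap.mul'_apply,
        LinearMap.mul'_apply, LinearMap.comp_apply, LinearMap.comp_apply,
        AlgHom.toLinearMap_apply, AlgHom.toLinearMap_apply, ← hφ, ← hφ,
        Algebra.TensorProduct.tmul_mul_tmul, mul_one]
    | add a b ha hb => simp only [map_add, TensorProduct.tmul_add, ha, hb]
  have h2 : LinearMap.mul' A (S ⊗[A] A') (TensorProduct.map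
        (LinearMap.lTensor S (coord e m) ∘ₗ (x k).toLinearMap)
        (LinearMap.lTensor S (coord e m') ∘ₗ (x k).toLinearMap)
        (CoalgebraStruct.comul (R := A) c)) =
      (push (LinearMap.lTensor S (coord e m)) X * push (LinearMap.lTensor S (coord e m')) X) c :=
    rfl
  rw [h1, h2, ← push_mul_of_bilin (bcAlg S (LiftHom.i1 A B)).toLinearMap
    (bcAlg S (LiftHom.i2 A B)).toLinearMap _ _
    (LinearMap.lTensor S (LinearMap.mul' A A' ∘ₗ TensorProduct.map (coord e m) (coord e m')))
    (fun a b => lTensor_mul_of_bilin S (coord e m) (coord e m') a b), ← hx k]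
  change LinearMap.lTensor S (LinearMap.mul' A A' ∘ₗ TensorProduct.map (coord e m) (coord e m'))
    (bcAlg S (LiftHom.cΔ A B) (x k c)) = _
  rw [lTensor_comp_bcAlg_cΔ]
  have h3 : LinearMap.mul' A A' ∘ₗ TensorProduct.map (coord e m) (coord e m') ∘ₗ
      (CoalgebraStruct.comul (R := A) (A := B)) = if m = m' then coord e m else 0 := by
    ext b
    rw [LinearMap.comp_apply, LinearMap.comp_apply, coord_comul]
    split_ifs <;> rfl
  rw [h3]
  split_ifs with hmm
  · exact (hφ m k c).symm
  · rw [LinearMap.lTensor_zero, LinearMap.zero_apply, TensorProduct.tmul_zero]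

end P2

section FinSupp

variable {A : Type*} [CommRing A] {A' : Type*} [CommRing A'] [Algebra A A'] [IsNoetherianRing A']
  {C : Type*} [AddCommGroup C] [Module A C] [Coalgebra A C] {M : Type*} [DecidableEq M]

/-- A family of orthogonal idempotents for convolution has pointwise finite support. -/
theorem finite_support (φ : M → (C →ₗ[A] A'))
    (hφ : ∀ m m' c, LinearMap.mul' A A' (TensorProduct.map (φ m) (φ m')
      (CoalgebraStruct.comul (R := A) c)) = if m = m' then φ m c else 0) (c : C) :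
    {m | φ m c ≠ 0}.Finite := by
  classical
  obtain ⟨s, hs⟩ := TensorProduct.exists_finset (CoalgebraStruct.comul (R := A) c)
  have hsum : ∀ f g : C →ₗ[A] A', LinearMap.mul' A A' (TensorProduct.map f g
      (CoalgebraStruct.comul (R := A) c)) = ∑ p : s, f p.1.1 * g p.1.2 := by
    intro f g
    rw [hs, map_sum, map_sum, ← Finset.sum_coe_sort]
    rfl
  let V : M → (s → A') := fun m p => φ m p.1.2
  have hfg : (Submodule.span A' (Set.range V)).FG := IsNoetherian.noetherian _
  obtain ⟨t, ht, hspan⟩ := (Submodule.fg_span_iff_fg_span_finset_subset _).mp hfg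
  rw [← Set.image_univ, Finset.subset_set_image_iff] at ht
  obtain ⟨F, -, rfl⟩ := ht
  apply Set.Finite.subset F.finite_toSet
  intro m' hm'
  by_contra hF
  apply hm'
  let Λ : (s → A') →ₗ[A'] A' :=
    ∑ p : s, (φ m' p.1.1) • (LinearMap.proj (R := A') (φ := fun _ : s => A') p)
  have hΛ : ∀ m, Λ (V m) = if m' = m then φ m' c else 0 := by
    intro m
    rw [← hφ, hsum]
    simp [Λ, V]
  have hker : Submodule.span A' (Set.range V) ≤ LinearMap.ker Λ := by
    rw [hspan, Submodule.span_le]
    intro v hv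
    rw [Finset.coe_image] at hv
    obtain ⟨m, hm, rfl⟩ := hv
    rw [SetLike.mem_coe, LinearMap.mem_ker, hΛ, if_neg]
    rintro rfl
    exact hF hm
  have h1 : Λ (V m') = 0 := hker (Submodule.subset_span ⟨m', rfl⟩)
  rw [hΛ, if_pos rfl] at h1
  exact h1

end FinSupp

section Descent

variable {A : Type*} [CommRing A] [IsNoetherianRing A] (I : Ideal A)
  {A' : Type*} [CommRing A'] [Algebra A A'] [Module.Finite A A'] [Module.FaithfullyFlat A A']
  {B : Type*} [CommRing B] [Bialgebra A B] {M : Type*} [CommGroup M]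
  (e : A' ⊗[A] B ≃ₐc[A'] MonoidAlgebra A' M)
  {C : Type*} [CommRing C] [HopfAlgebra A C]

omit [IsNoetherianRing A] [Module.Finite A A'] [Module.FaithfullyFlat A A'] in
/-- the coordinates of the limit. -/
theorem exists_phi [IsHausdorff I A'] [IsPrecomplete I A']
    (x : ∀ k, C →ₐ[A] (A ⧸ I ^ (k + 1)) ⊗[A] B)
    (hcompat : ∀ k c, qMapAlg (pow_succ_succ_le I k) B (x (k + 1) c) = x k c) :
    ∃ φ : M → (C →ₗ[A] A'), ∀ m k c, (1 : A ⧸ I ^ (k + 1)) ⊗ₜ[A] φ m c =
      LinearMap.lTensor (A ⧸ I ^ (k + 1)) (coord e m) (x k c) := by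
  have h : ∀ m : M, ∃ g : C →ₗ[A] A', ∀ k c, (1 : A ⧸ I ^ (k + 1)) ⊗ₜ[A] g c =
      (LinearMap.lTensor (A ⧸ I ^ (k + 1)) (coord e m) ∘ₗ (x k).toLinearMap) c := by
    intro m
    apply exists_limit I
    intro k c
    rw [LinearMap.comp_apply, LinearMap.comp_apply, qMap_lTensor, AlgHom.toLinearMap_apply,
      AlgHom.toLinearMap_apply, ← hcompat k c, qMapAlg_apply]
  choose φ hφ using h
  exact ⟨φ, hφ⟩

include e in
/-- Each value of the formal homomorphism is algebraic. -/
theorem exists_point (hI : I ≤ Ideal.jacobson ⊥) [IsPrecomplete I A]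
    (x : ∀ k, C →ₐ[A] (A ⧸ I ^ (k + 1)) ⊗[A] B)
    (hcompat : ∀ k c, qMapAlg (pow_succ_succ_le I k) B (x (k + 1) c) = x k c)
    (hx : ∀ k, IsComulBC (x k)) (c : C) :
    ∃ b : B, ∀ k, (1 : A ⧸ I ^ (k + 1)) ⊗ₜ[A] b = x k c := by
  classical
  haveI : IsHausdorff I A' := IsHausdorff.of_le_jacobson I A' hI
  haveI : IsPrecomplete I A' := isPrecomplete_of_finite I A'
  haveI : IsNoetherianRing A' := IsNoetherianRing.of_finite A A'
  obtain ⟨φ, hφ⟩ := exists_phi I e x hcompat
  have hconv := phi_conv I e x hx φ hφ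
  have hfin : (Function.support fun m => φ m c).Finite := finite_support φ hconv c
  -- the element of `A' ⊗ B` with coordinates `φ m c`
  set β : A' ⊗[A] B := (toFinsupp e).symm (Finsupp.ofSupportFinite (fun m => φ m c) hfin) with hβ
  have hβm : ∀ m, coord' e m β = φ m c := by
    intro m
    change (toFinsupp e β) m = _
    rw [hβ, LinearEquiv.apply_symm_apply, Finsupp.ofSupportFinite_coe]
  -- it is congruent to `x k c` for all `k`
  have hβk : ∀ k, (1 : A ⧸ I ^ (k + 1)) ⊗ₜ[A] β =
      LinearMap.lTensor (A ⧸ I ^ (k + 1)) (TensorProduct.mk A A' B 1) (x k c) := by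
    intro k
    rw [← sub_eq_zero]
    apply eq_zero_of_lTensor_coord' e (A ⧸ I ^ (k + 1))
    intro m
    rw [map_sub, LinearMap.lTensor_tmul, ← LinearMap.comp_apply, ← LinearMap.lTensor_comp,
      sub_eq_zero]
    change (1 : A ⧸ I ^ (k + 1)) ⊗ₜ[A] coord' e m β = _
    rw [hβm, hφ]
    rfl
  -- descent
  have hd : Groth.Agent.Lib.Helper22.amitsurD A A' B β = 0 := by
    apply sep_A'A'B I e hI
    intro k
    rw [← one_tmul_eq_zero_iff]
    have h1 : (1 : A ⧸ I ^ (k + 1)) ⊗ₜ[A] Groth.Agent.Lib.Helper22.amitsurD A A' B β =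
        LinearMap.lTensor (A ⧸ I ^ (k + 1)) (Groth.Agent.Lib.Helper22.amitsurD A A' B)
          ((1 : A ⧸ I ^ (k + 1)) ⊗ₜ[A] β) := rfl
    rw [h1, hβk, ← LinearMap.comp_apply, ← LinearMap.lTensor_comp]
    have h0 : (Groth.Agent.Lib.Helper22.amitsurD A A' B) ∘ₗ (TensorProduct.mk A A' B 1) = 0 := by
      ext b
      exact (Groth.Agent.Lib.Helper22.amitsur_exact (R := A) (A := A') B _).mpr ⟨b, rfl⟩
    rw [h0, LinearMap.lTensor_zero, LinearMap.zero_apply]
  obtain ⟨b, hb⟩ := (Groth.Agent.Lib.Helper22.amitsur_exact (R := A) (A := A') B β).mp hd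
  refine ⟨b, fun k => ?_⟩
  apply lTensor_mk_injective (A' := A') (A ⧸ I ^ (k + 1))
  rw [← hβk, LinearMap.lTensor_tmul, hb]

include e in
/-- Algebraization: a compatible system of comultiplicative algebra maps
`C → (A ⧸ I^(k+1)) ⊗ B` comes from a bialgebra map `C → B`. -/
theorem exists_bialgHom_of_tower (hI : I ≤ Ideal.jacobson ⊥) [IsPrecomplete I A]
    (x : ∀ k, C →ₐ[A] (A ⧸ I ^ (k + 1)) ⊗[A] B)
    (hcompat : ∀ k c, qMapAlg (pow_succ_succ_le I k) B (x (k + 1) c) = x k c)
    (hx : ∀ k, IsComulBC (x k)) :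
    ∃ φ : C →ₐc[A] B, ∀ k c, (1 : A ⧸ I ^ (k + 1)) ⊗ₜ[A] φ c = x k c := by
  choose f hf using exists_point I e hI x hcompat hx
  have huniq : ∀ b b' : B,
      (∀ k, (1 : A ⧸ I ^ (k + 1)) ⊗ₜ[A] b = (1 : A ⧸ I ^ (k + 1)) ⊗ₜ[A] b') → b = b' := by
    intro b b' h
    rw [← sub_eq_zero]
    apply sep_B I e hI
    intro k
    exact (one_tmul_eq_iff (I ^ (k + 1)) b b').mp (h k)
  let flin : C →ₗ[A] B :=
    { toFun := f
      map_add' := by
        intro c d
        apply huniq
        intro k
        rw [TensorProduct.tmul_add, hf, hf, hf, map_add]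
      map_smul' := by
        intro r c
        apply huniq
        intro k
        rw [RingHom.id_apply, TensorProduct.tmul_smul, hf, hf, map_smul] }
  let g : C →ₐ[A] B := AlgHom.ofLinearMap flin
    (by
      apply huniq
      intro k
      change (1 : A ⧸ I ^ (k + 1)) ⊗ₜ[A] f 1 = _
      rw [hf, map_one, Algebra.TensorProduct.one_def])
    (by
      intro c d
      apply huniq
      intro k
      change (1 : A ⧸ I ^ (k + 1)) ⊗ₜ[A] f (c * d) = (1 : A ⧸ I ^ (k + 1)) ⊗ₜ[A] (f c * f d)
      rw [hf, map_mul, ← hf, ← hf, Algebra.TensorProduct.tmul_mul_tmul, mul_one])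
  have hg : ∀ k c, (1 : A ⧸ I ^ (k + 1)) ⊗ₜ[A] g c = x k c := fun k c => hf c k
  have hcomul : ConjHom.IsComul g := by
    intro c
    rw [← sub_eq_zero]
    apply sep_BB I e hI
    intro k
    rw [← one_tmul_eq_zero_iff, TensorProduct.tmul_sub, sub_eq_zero]
    have h1 := congrArg (fun y : WithConv (C →ₗ[A] (A ⧸ I ^ (k + 1)) ⊗[A] (B ⊗[A] B)) => y c) (hx k)
    change bcAlg (A ⧸ I ^ (k + 1)) (LiftHom.cΔ A B) (x k c) =
      LinearMap.mul' A _ (TensorProduct.map
        ((bcAlg (A ⧸ I ^ (k + 1)) (LiftHom.i1 A B)).toLinearMap ∘ₗ (x k).toLinearMap)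
        ((bcAlg (A ⧸ I ^ (k + 1)) (LiftHom.i2 A B)).toLinearMap ∘ₗ (x k).toLinearMap)
        (CoalgebraStruct.comul (R := A) c)) at h1
    have h2 : ∀ w : C ⊗[A] C, LinearMap.mul' A _ (TensorProduct.map
        ((bcAlg (A ⧸ I ^ (k + 1)) (LiftHom.i1 A B)).toLinearMap ∘ₗ (x k).toLinearMap)
        ((bcAlg (A ⧸ I ^ (k + 1)) (LiftHom.i2 A B)).toLinearMap ∘ₗ (x k).toLinearMap) w) =
        (1 : A ⧸ I ^ (k + 1)) ⊗ₜ[A] TensorProduct.map g.toLinearMap g.toLinearMap w := by
      intro w
      induction w using TensorProduct.induction_on with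
      | zero => simp
      | tmul a b =>
        rw [TensorProduct.map_tmul, TensorProduct.map_tmul, LinearMap.mul'_apply,
          LinearMap.comp_apply, LinearMap.comp_apply, AlgHom.toLinearMap_apply,
          AlgHom.toLinearMap_apply, AlgHom.toLinearMap_apply, AlgHom.toLinearMap_apply,
          AlgHom.toLinearMap_apply, AlgHom.toLinearMap_apply, ← hg, ← hg]
        simp [bcAlg, LiftHom.i1, LiftHom.i2]
      | add a b ha hb => simp only [map_add, TensorProduct.tmul_add, ha, hb]
    rw [h2, ← hg k c] at h1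
    rw [← h1]
    simp [bcAlg, cΔ_apply]
  exact ⟨hcomul.toBialgHom, fun k c => hg k c⟩

end Descent

end Groth.Agent.Lib.Seat23.Algebraize
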