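import Mathlib

/-!
# Seat23GroupLike — group-like elements of a monoid algebra, in pointwise form (helper23)

Namespace `Groth.Agent.Lib.Seat23.GLike`. Mathlib only.

* `ev f χ : k[G] →+* C` — evaluation at a character `χ : G →* C` over `f : k →+* C`
  (`ev_single`, `ev_apply`, `ev_comp`, `ev_map`).
* `IsGL a` — `a ∈ k[G]` is group-like: `ev f (χ χ') a = ev f χ a * ev f χ' a` for all `C, f, χ, χ'`
  and `ev id 1 a = 1`.  (`IsGL.mul_mem`, `isGL_one`, `IsGL.map`, `IsGL.ev_one`.)
* `IsGL.coeff_mul_coeff` — the coefficients of a group-like element are orthogonal idempotents,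
  `IsGL.sum_coeff` — with sum `1`;  `isGL_of_coeff` — conversely.
* `exists_isGL_lift`, `IsGL.eq_of_map_eq` — group-like elements lift uniquely along a surjection
  `k → k₀` with nil kernel (unique lifting of idempotents).
-/

set_option autoImplicit false
universe u

namespace Groth.Agent.Lib.Seat23.GLike

section Ev

variable {k : Type u} [CommRing k] {G : Type} [CommMonoid G]

/-- evaluation of an element of `k[G]` at a character with values in a `k`-algebra `C`. -/
noncomputable def ev {C : Type u} [CommRing C] (f : k →+* C) (χ : G →* C) :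
    MonoidAlgebra k G →+* C :=
  MonoidAlgebra.liftNCRingHom f χ (fun _ _ => Commute.all _ _)

lemma ev_single {C : Type u} [CommRing C] (f : k →+* C) (χ : G →* C) (g : G) (c : k) :
    ev f χ (MonoidAlgebra.single g c) = f c * χ g :=
  MonoidAlgebra.liftNCRingHom_single f χ (fun _ _ => Commute.all _ _) g c

lemma ev_apply {C : Type u} [CommRing C] (f : k →+* C) (χ : G →* C) (z : MonoidAlgebra k G) :
    ev f χ z = z.coeff.sum (fun m c => f c * χ m) := by
  conv_lhs => rw [← MonoidAlgebra.sum_coeff_single z]
  rw [map_finsuppSum]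
  simp [ev_single]

lemma ev_comp {C C' : Type u} [CommRing C] [CommRing C'] (f : k →+* C) (χ : G →* C)
    (φ : C →+* C') (z : MonoidAlgebra k G) :
    φ (ev f χ z) = ev (φ.comp f) ((φ : C →* C').comp χ) z := by
  rw [ev_apply, ev_apply, map_finsuppSum]
  simp

lemma ev_map {k' : Type u} [CommRing k'] {C : Type u} [CommRing C] (φ : k →+* k') (f : k' →+* C)
    (χ : G →* C) (z : MonoidAlgebra k G) :
    ev f χ (MonoidAlgebra.mapRingHom G φ z) = ev (f.comp φ) χ z := by
  conv_lhs => rw [← MonoidAlgebra.sum_coeff_single z]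
  rw [map_finsuppSum, map_finsuppSum, ev_apply]
  simp [ev_single, MonoidAlgebra.mapRingHom_single]

/-- group-like elements of `k[G]`, in pointwise form. -/
structure IsGL (a : MonoidAlgebra k G) : Prop where
  mul : ∀ {C : Type u} [CommRing C] (f : k →+* C) (χ χ' : G →* C),
    ev f (χ * χ') a = ev f χ a * ev f χ' a
  one : ev (RingHom.id k) (1 : G →* k) a = 1

lemma IsGL.sum_coeff {a : MonoidAlgebra k G} (h : IsGL a) : a.coeff.sum (fun _ c => c) = 1 := by
  have := h.one
  rw [ev_apply] at this
  simpa using this

lemma IsGL.ev_one {a : MonoidAlgebra k G} (h : IsGL a) {C : Type u} [CommRing C] (f : k →+* C) :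
    ev f (1 : G →* C) a = 1 := by
  have h1 := congrArg f h.one
  rw [ev_comp, map_one] at h1
  have h2 : ((f : k →* C).comp (1 : G →* k)) = (1 : G →* C) := by
    ext g
    simp
  rw [h2, RingHom.comp_id] at h1
  exact h1

lemma IsGL.mul_mem {a b : MonoidAlgebra k G} (ha : IsGL a) (hb : IsGL b) : IsGL (a * b) where
  mul f χ χ' := by
    rw [map_mul, map_mul, map_mul, ha.mul, hb.mul]
    ring
  one := by rw [map_mul, ha.one, hb.one, mul_one]

lemma isGL_one : IsGL (1 : MonoidAlgebra k G) where
  mul f χ χ' := by simp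
  one := by simp

lemma IsGL.map {k' : Type u} [CommRing k'] (φ : k →+* k') {a : MonoidAlgebra k G} (h : IsGL a) :
    IsGL (MonoidAlgebra.mapRingHom G φ a) where
  mul f χ χ' := by
    rw [ev_map, ev_map, ev_map, h.mul]
  one := by
    rw [ev_map, RingHom.id_comp]
    exact h.ev_one φ

section Idem

open MonoidAlgebra

lemma coeff_sum_single_single' {k : Type*} [CommRing k] {G : Type*} [Monoid G] (z : G →₀ k)
    (F : G → k → MonoidAlgebra k G) (hF : ∀ m, F m 0 = 0) (m₀ : G) :
    (z.sum (fun m c => MonoidAlgebra.single m (F m c)) :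
      MonoidAlgebra (MonoidAlgebra k G) G).coeff m₀ = F m₀ (z m₀) := by
  classical
  rw [MonoidAlgebra.coeff_finsuppSum, Finsupp.sum_apply]
  simp only [MonoidAlgebra.coeff_single, Finsupp.single_apply]
  rw [Finsupp.sum_ite_eq']
  split_ifs with h
  · rfl
  · rw [Finsupp.notMem_support_iff.mp h, hF]

/-- the coefficients of a group-like element are orthogonal idempotents. -/
theorem IsGL.coeff_mul_coeff [DecidableEq G] {a : MonoidAlgebra k G} (h : IsGL a) (g g' : G) :
    a.coeff g * a.coeff g' = if g = g' then a.coeff g else 0 := by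
  let C := MonoidAlgebra (MonoidAlgebra k G) G
  let f : k →+* C := (MonoidAlgebra.singleOneRingHom).comp MonoidAlgebra.singleOneRingHom
  let χ : G →* C := MonoidAlgebra.of _ _
  let χ' : G →* C :=
    ((MonoidAlgebra.singleOneRingHom : MonoidAlgebra k G →+* C) : MonoidAlgebra k G →* C).comp
      (MonoidAlgebra.of k G)
  have key := h.mul f χ χ'
  have e1 : ev f (χ * χ') a =
      a.coeff.sum (fun m c => (MonoidAlgebra.single m (MonoidAlgebra.single m c) : C)) := by
    rw [ev_apply]
    refine Finsupp.sum_congr fun m _ => ?_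
    change (MonoidAlgebra.single 1 (MonoidAlgebra.single 1 (a.coeff m)) : C) *
      (MonoidAlgebra.single m 1 * MonoidAlgebra.single 1 (MonoidAlgebra.single m 1)) = _
    simp [MonoidAlgebra.single_mul_single]
  have e2 : ev f χ a =
      a.coeff.sum (fun m c => (MonoidAlgebra.single m (MonoidAlgebra.single 1 c) : C)) := by
    rw [ev_apply]
    refine Finsupp.sum_congr fun m _ => ?_
    change (MonoidAlgebra.single 1 (MonoidAlgebra.single 1 (a.coeff m)) : C) *
      MonoidAlgebra.single m 1 = _
    rw [MonoidAlgebra.single_mul_single]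
    simp
  have e3 : ev f χ' a = (MonoidAlgebra.single 1 a : C) := by
    rw [ev_apply]
    have : ∀ m c, f c * χ' m = (MonoidAlgebra.single 1 (MonoidAlgebra.single m c) : C) := by
      intro m c
      change (MonoidAlgebra.single 1 (MonoidAlgebra.single 1 c) : C) *
        MonoidAlgebra.single 1 (MonoidAlgebra.single m 1) = _
      rw [MonoidAlgebra.single_mul_single, MonoidAlgebra.single_mul_single]
      simp
    simp only [this]
    conv_rhs => rw [← MonoidAlgebra.sum_coeff_single a]
    exact (map_finsuppSum (MonoidAlgebra.singleAddHom (1 : G) : MonoidAlgebra k G →+ C) a.coeff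
      (fun m c => MonoidAlgebra.single m c)).symm
  rw [e1, e2, e3] at key
  have key2 := congrArg (fun z : C => (z.coeff g).coeff g') key
  beta_reduce at key2
  rw [coeff_sum_single_single' _ _ (fun m => by simp),
    MonoidAlgebra.coeff_mul_single_one,
    coeff_sum_single_single' _ _ (fun m => by simp),
    MonoidAlgebra.coeff_single_one_mul, MonoidAlgebra.coeff_single,
    Finsupp.single_apply] at key2
  exact key2.symm

end Idem

end Ev

section Lift

variable {k k₀ : Type u} [CommRing k] [CommRing k₀] {G : Type} [CommMonoid G]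

/-- orthogonal idempotent coefficients with sum `1` give a group-like element. -/
theorem isGL_of_coeff [DecidableEq G] (a : MonoidAlgebra k G)
    (horth : ∀ g g', a.coeff g * a.coeff g' = if g = g' then a.coeff g else 0)
    (hsum : a.coeff.sum (fun _ c => c) = 1) : IsGL a where
  mul {C} _ f χ χ' := by
    rw [ev_apply, ev_apply, ev_apply]
    simp only [Finsupp.sum, MonoidHom.mul_apply]
    rw [Finset.sum_mul_sum]
    refine Finset.sum_congr rfl fun m hm => ?_
    have : ∀ n ∈ a.coeff.support, f (a.coeff m) * χ m * (f (a.coeff n) * χ' n) =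
        if m = n then f (a.coeff m) * (χ m * χ' m) else 0 := by
      intro n _
      have h1 : f (a.coeff m) * χ m * (f (a.coeff n) * χ' n) =
          f (a.coeff m * a.coeff n) * (χ m * χ' n) := by
        rw [map_mul]; ring
      rw [h1, horth]
      split_ifs with h
      · subst h; rfl
      · rw [map_zero, zero_mul]
    rw [Finset.sum_congr rfl this, Finset.sum_ite_eq, if_pos hm]
  one := by
    rw [ev_apply]
    simpa using hsum

/-- uniqueness of group-like lifts along a ring map with nil kernel. -/
theorem IsGL.eq_of_map_eq (φ : k →+* k₀) (hnil : ∀ x ∈ RingHom.ker φ, IsNilpotent x)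
    {a b : MonoidAlgebra k G} (ha : IsGL a) (hb : IsGL b)
    (h : MonoidAlgebra.mapRingHom G φ a = MonoidAlgebra.mapRingHom G φ b) : a = b := by
  classical
  apply MonoidAlgebra.coeff_injective
  ext g
  have hag : IsIdempotentElem (a.coeff g) := by
    have := ha.coeff_mul_coeff g g
    rwa [if_pos rfl] at this
  have hbg : IsIdempotentElem (b.coeff g) := by
    have := hb.coeff_mul_coeff g g
    rwa [if_pos rfl] at this
  refine eq_of_isNilpotent_sub_of_isIdempotentElem hag hbg (hnil _ ?_)
  have := congrArg (fun z => z.coeff g) h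
  simp only [MonoidAlgebra.coeff_mapRingHom] at this
  rw [RingHom.mem_ker, map_sub, this, sub_self]

/-- existence of group-like lifts along a surjection with nil kernel. -/
theorem exists_isGL_lift (φ : k →+* k₀) (hφ : Function.Surjective φ)
    (hnil : ∀ x ∈ RingHom.ker φ, IsNilpotent x) {a₀ : MonoidAlgebra k₀ G} (h₀ : IsGL a₀) :
    ∃ a : MonoidAlgebra k G, IsGL a ∧ MonoidAlgebra.mapRingHom G φ a = a₀ := by
  classical
  have hidem : ∀ g, IsIdempotentElem (a₀.coeff g) := by
    intro g
    have := h₀.coeff_mul_coeff g g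
    rwa [if_pos rfl] at this
  have hex : ∀ g, ∃ e : k, IsIdempotentElem e ∧ φ e = a₀.coeff g ∧ (a₀.coeff g = 0 → e = 0) := by
    intro g
    by_cases hg : a₀.coeff g = 0
    · exact ⟨0, IsIdempotentElem.zero, by rw [map_zero, hg], fun _ => rfl⟩
    · obtain ⟨e, he, he'⟩ := exists_isIdempotentElem_eq_of_ker_isNilpotent φ hnil (a₀.coeff g)
        (RingHom.mem_range.mpr (hφ _)) (hidem g)
      exact ⟨e, he, he', fun h => absurd h hg⟩
  choose e he heφ he0 using hex
  have huniq : ∀ {x y : k}, IsIdempotentElem x → IsIdempotentElem y → φ x = φ y → x = y := by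
    intro x y hx hy hxy
    refine eq_of_isNilpotent_sub_of_isIdempotentElem hx hy (hnil _ ?_)
    rw [RingHom.mem_ker, map_sub, hxy, sub_self]
  have horth : ∀ g g', e g * e g' = if g = g' then e g else 0 := by
    intro g g'
    split_ifs with h
    · subst h; exact (he g).eq
    · refine huniq ((he g).mul (he g')) IsIdempotentElem.zero ?_
      rw [map_mul, heφ, heφ, h₀.coeff_mul_coeff, if_neg h, map_zero]
  let s : G →₀ k := Finsupp.onFinset a₀.coeff.support e (fun g hg => by
    rw [Finsupp.mem_support_iff]
    intro h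
    exact hg (he0 g h))
  have hs : ∀ g, s g = e g := fun g => Finsupp.onFinset_apply
  let a : MonoidAlgebra k G := MonoidAlgebra.ofCoeff s
  have hacoeff : ∀ g, a.coeff g = e g := hs
  have hsumsupp : s.sum (fun _ c => c) = ∑ g ∈ a₀.coeff.support, e g := by
    rw [Finsupp.sum]
    have hsub : s.support ⊆ a₀.coeff.support := Finsupp.support_onFinset_subset
    rw [Finset.sum_subset hsub (fun g _ hg => by
      rw [Finsupp.notMem_support_iff] at hg
      exact hg)]
    exact Finset.sum_congr rfl fun g _ => hs g
  have hsum1 : ∑ g ∈ a₀.coeff.support, e g = 1 := by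
    refine huniq ?_ IsIdempotentElem.one ?_
    · change (∑ g ∈ a₀.coeff.support, e g) * (∑ g ∈ a₀.coeff.support, e g) = _
      rw [Finset.sum_mul_sum]
      refine Finset.sum_congr rfl fun g hg => ?_
      simp only [horth]
      rw [Finset.sum_ite_eq, if_pos hg]
    · rw [map_sum, map_one]
      simp only [heφ]
      exact h₀.sum_coeff
  refine ⟨a, isGL_of_coeff a ?_ ?_, ?_⟩
  · intro g g'
    rw [hacoeff, hacoeff]
    exact horth g g'
  · change s.sum (fun _ c => c) = 1
    rw [hsumsupp, hsum1]
  · apply MonoidAlgebra.coeff_injective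
    ext g
    rw [MonoidAlgebra.coeff_mapRingHom, hacoeff, heφ]

end Lift

end Groth.Agent.Lib.Seat23.GLike
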