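import Groth.Agent.Lib.Seat23DiagActD
import Groth.Agent.Lib.Seat23GroupLike

/-!
# Seat23CentralFactor — factoring a central diagonalisable subgroup through another one, modulo a
nilpotent thickening (helper23)

Namespace `Groth.Agent.Lib.Seat23.CentralFactor`.

Over an affine base `T` with a nilpotent thickening `t₀ : T₀ ⟶ T`: test objects `tv β = Spec C ⟶ T`,
their points `tch β χ` of `D_T(M)`, and the core lemma `exists_factor_of_central`.
-/

set_option autoImplicit false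
universe u
open CategoryTheory MonoidalCategory CartesianMonoidalCategory MonObj GrpObj AlgebraicGeometry
open CategoryTheory.Limits
open Groth.Agent.Lib.Seat27.DSPoints Groth.Agent.Lib.Seat23.DiagAct Groth.Agent.Lib.Seat23.GLike

namespace Groth.Agent.Lib.Seat23.CentralFactor

section Test

variable {T : Scheme.{u}} [IsAffine T] {M : Type} [AddCommGroup M]

/-- the test object `Spec C ⟶ T` attached to `β : Γ(T, ⊤) ⟶ C`. -/
noncomputable def tv {C : CommRingCat.{u}} (β : Γ(T, ⊤) ⟶ C) : Over T :=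
  Over.mk (Spec.map β ≫ (isAffineOpen_top T).fromSpec)

/-- morphisms of test objects. -/
noncomputable def tmap {C C' : CommRingCat.{u}} (β : Γ(T, ⊤) ⟶ C) (β' : Γ(T, ⊤) ⟶ C')
    (θ : C ⟶ C') (h : β ≫ θ = β') : tv β' ⟶ tv β :=
  Over.homMk (Spec.map θ) (by
    change Spec.map θ ≫ Spec.map β ≫ (isAffineOpen_top T).fromSpec =
      Spec.map β' ≫ (isAffineOpen_top T).fromSpec
    rw [← Spec.map_comp_assoc, h])

/-- the point of `D_T(M)` over `tv β` with given character. -/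
noncomputable def tch {C : CommRingCat.{u}} (β : Γ(T, ⊤) ⟶ C) (χ : Multiplicative M →* C) :
    tv β ⟶ Red.DS T M :=
  Classical.choose (dsChar_surj (X := tv β) (M := M)
    (((Scheme.ΓSpecIso C).inv.hom : C →* Γ(Spec C, ⊤)).comp χ))

lemma dsChar_tch {C : CommRingCat.{u}} (β : Γ(T, ⊤) ⟶ C) (χ : Multiplicative M →* C) (m : M) :
    dsChar (tch β χ) m = (Scheme.ΓSpecIso C).inv.hom (χ (Multiplicative.ofAdd m)) :=
  Classical.choose_spec (dsChar_surj (X := tv β) (M := M)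
    (((Scheme.ΓSpecIso C).inv.hom : C →* Γ(Spec C, ⊤)).comp χ)) m

/-- functions pulled back along `Spec.map θ`. -/
lemma specMap_appTop_apply {C C' : CommRingCat.{u}} (θ : C ⟶ C') (x : Γ(Spec C, ⊤)) :
    (Spec.map θ).appTop.hom x =
      (Scheme.ΓSpecIso C').inv.hom (θ.hom ((Scheme.ΓSpecIso C).hom.hom x)) := by
  have h := Scheme.ΓSpecIso_inv_naturality θ
  have h2 := congrArg (fun k => k.hom ((Scheme.ΓSpecIso C).hom.hom x)) h
  simp only [CommRingCat.hom_comp, RingHom.coe_comp, Function.comp_apply] at h2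
  rw [h2]
  congr 1
  exact (congrArg (fun k => k.hom x) (Scheme.ΓSpecIso C).hom_inv_id).symm

lemma tmap_tch {C C' : CommRingCat.{u}} (β : Γ(T, ⊤) ⟶ C) (β' : Γ(T, ⊤) ⟶ C')
    (θ : C ⟶ C') (h : β ≫ θ = β') (χ : Multiplicative M →* C) :
    tmap β β' θ h ≫ tch β χ = tch β' ((θ.hom : C →* C').comp χ) := by
  apply dsChar_ext
  intro m
  rw [dsChar_comp, dsChar_tch, dsChar_tch]
  have := Scheme.ΓSpecIso_inv_naturality θ
  have h2 := congrArg (fun k => k.hom (χ (Multiplicative.ofAdd m))) this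
  simp only [CommRingCat.hom_comp, RingHom.coe_comp, Function.comp_apply] at h2
  exact h2.symm

lemma tch_mul {C : CommRingCat.{u}} (β : Γ(T, ⊤) ⟶ C) (χ χ' : Multiplicative M →* C) :
    tch β χ * tch β χ' = tch β (χ * χ') := by
  apply dsChar_ext
  intro m
  rw [dsChar_mul, dsChar_tch, dsChar_tch, dsChar_tch, MonoidHom.mul_apply, map_mul]
  rfl

lemma tch_one {C : CommRingCat.{u}} (β : Γ(T, ⊤) ⟶ C) :
    tch β (1 : Multiplicative M →* C) = 1 := by
  apply dsChar_ext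
  intro m
  rw [dsChar_one, dsChar_tch, MonoidHom.one_apply, map_one]
  rfl

/-- the character of a point of `D_T(M)`. -/
noncomputable def charOf {Y : Over T} (y : Y ⟶ Red.DS T M) : Multiplicative M →* Γ(Y.left, ⊤) where
  toFun m := dsChar y m.toAdd
  map_one' := dsChar_zero y
  map_mul' m m' := dsChar_add y m.toAdd m'.toAdd

lemma charOf_apply {Y : Over T} (y : Y ⟶ Red.DS T M) (m : Multiplicative M) :
    charOf y m = dsChar y m.toAdd := rfl

lemma charOf_mul {Y : Over T} (y y' : Y ⟶ Red.DS T M) : charOf (y * y') = charOf y * charOf y' := by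
  ext m
  exact dsChar_mul y y' m

lemma charOf_one {Y : Over T} : charOf (1 : Y ⟶ Red.DS T M) = 1 := by
  ext m
  exact dsChar_one m

lemma charOf_comp {Y Y' : Over T} (g : Y' ⟶ Y) (y : Y ⟶ Red.DS T M) :
    charOf (g ≫ y) = (g.left.appTop.hom : Γ(Y.left, ⊤) →* Γ(Y'.left, ⊤)).comp (charOf y) := by
  ext m
  exact dsChar_comp g y m

/-- the canonical morphism from an object over `T` to the test object of its global sections. -/
noncomputable def toTv (Y : Over T) : Y ⟶ tv (Y.hom.appTop) :=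
  Over.homMk Y.left.toSpecΓ (by
    change Y.left.toSpecΓ ≫ Spec.map Y.hom.appTop ≫ (isAffineOpen_top T).fromSpec = Y.hom
    rw [← Category.assoc, ← Scheme.toSpecΓ_naturality, Category.assoc, IsAffineOpen.fromSpec_top,
      ← Scheme.isoSpec_hom, Iso.hom_inv_id, Category.comp_id])

lemma toTv_tch {Y : Over T} (y : Y ⟶ Red.DS T M) :
    toTv Y ≫ tch Y.hom.appTop (charOf y) = y := by
  apply dsChar_ext
  intro m
  rw [dsChar_comp, dsChar_tch]
  change Y.left.toSpecΓ.appTop.hom _ = _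
  rw [Scheme.toSpecΓ_appTop]
  exact congrArg (fun k => k.hom (dsChar y m)) (Scheme.ΓSpecIso Γ(Y.left, ⊤)).inv_hom_id

end Test

section Core

variable {T T₀ : Scheme.{u}} [IsAffine T] (t₀ : T₀ ⟶ T) (J : Ideal Γ(T, ⊤))
  {M M' : Type} [AddCommGroup M] [AddCommGroup M']
  {Gt : Over T} [GrpObj Gt] (j : Red.DS T M ⟶ Gt) [IsMonHom j]
  (j' : Red.DS T M' ⟶ Gt) [IsMonHom j'] [Mono j']

/-- the ring map `Γ(T)/J → C` attached to a test ring killing `J`. -/
noncomputable def fbar {C : CommRingCat.{u}} (β : Γ(T, ⊤) ⟶ C) (hβ : ∀ a ∈ J, β.hom a = 0) :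
    (Γ(T, ⊤) ⧸ J) →+* C := Ideal.Quotient.lift J β.hom hβ

lemma fbar_mk {C : CommRingCat.{u}} (β : Γ(T, ⊤) ⟶ C) (hβ : ∀ a ∈ J, β.hom a = 0) (a : Γ(T, ⊤)) :
    fbar J β hβ (Ideal.Quotient.mk J a) = β.hom a := Ideal.Quotient.lift_mk J β.hom hβ

variable (M) in
/-- the universal test ring `(Γ(T)/J)[M]`. -/
noncomputable abbrev Cu : CommRingCat.{u} :=
  CommRingCat.of (MonoidAlgebra (Γ(T, ⊤) ⧸ J) (Multiplicative M))

variable (M) in
/-- the structure map of the universal test ring. -/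
noncomputable def βu : Γ(T, ⊤) ⟶ Cu J M :=
  CommRingCat.ofHom ((MonoidAlgebra.singleOneRingHom).comp (Ideal.Quotient.mk J))

lemma βu_kill : ∀ a ∈ J, (βu J M).hom a = 0 := by
  intro a ha
  change MonoidAlgebra.singleOneRingHom (Ideal.Quotient.mk J a) = 0
  rw [Ideal.Quotient.eq_zero_iff_mem.mpr ha, map_zero]

variable (M) in
/-- the tautological character. -/
noncomputable def χu : Multiplicative M →* Cu J M := MonoidAlgebra.of _ _

/-- the classifying map of a character over a test ring killing `J`. -/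
noncomputable def θm {C : CommRingCat.{u}} (β : Γ(T, ⊤) ⟶ C) (hβ : ∀ a ∈ J, β.hom a = 0)
    (χ : Multiplicative M →* C) : Cu J M ⟶ C :=
  CommRingCat.ofHom (ev (fbar J β hβ) χ)

lemma βu_θm {C : CommRingCat.{u}} (β : Γ(T, ⊤) ⟶ C) (hβ : ∀ a ∈ J, β.hom a = 0)
    (χ : Multiplicative M →* C) : βu J M ≫ θm J β hβ χ = β := by
  ext a
  change ev (fbar J β hβ) χ (MonoidAlgebra.single 1 (Ideal.Quotient.mk J a)) = _
  rw [ev_single, fbar_mk, map_one, _root_.mul_one]

lemma θm_χu {C : CommRingCat.{u}} (β : Γ(T, ⊤) ⟶ C) (hβ : ∀ a ∈ J, β.hom a = 0)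
    (χ : Multiplicative M →* C) :
    ((θm J β hβ χ).hom : Cu J M →* C).comp (χu J M) = χ := by
  refine MonoidHom.ext fun m => ?_
  change ev (fbar J β hβ) χ (MonoidAlgebra.single m 1) = _
  rw [ev_single, map_one, _root_.one_mul]

section Univ

variable (y'u : tv (βu J M) ⟶ Red.DS T M')
  (hy'u : y'u ≫ j' = tch (βu J M) (χu J M) ≫ j)

/-- the lifted point over a test object killing `J`. -/
noncomputable def zpt {C : CommRingCat.{u}} (β : Γ(T, ⊤) ⟶ C) (hβ : ∀ a ∈ J, β.hom a = 0)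
    (χ : Multiplicative M →* C) : tv β ⟶ Red.DS T M' :=
  tmap (βu J M) β (θm J β hβ χ) (βu_θm J β hβ χ) ≫ y'u

include hy'u in
lemma zpt_lifts {C : CommRingCat.{u}} (β : Γ(T, ⊤) ⟶ C) (hβ : ∀ a ∈ J, β.hom a = 0)
    (χ : Multiplicative M →* C) : zpt J y'u β hβ χ ≫ j' = tch β χ ≫ j := by
  unfold zpt
  rw [Category.assoc, hy'u, ← Category.assoc, tmap_tch, θm_χu]

/-- the family of group-like elements of `(Γ(T)/J)[M]` defined by the universal lifted point. -/
noncomputable def abar (m' : Multiplicative M') :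
    MonoidAlgebra (Γ(T, ⊤) ⧸ J) (Multiplicative M) :=
  (Scheme.ΓSpecIso (Cu J M)).hom.hom (dsChar y'u m'.toAdd)

lemma dsChar_zpt {C : CommRingCat.{u}} (β : Γ(T, ⊤) ⟶ C) (hβ : ∀ a ∈ J, β.hom a = 0)
    (χ : Multiplicative M →* C) (m' : M') :
    dsChar (zpt J y'u β hβ χ) m' =
      (Scheme.ΓSpecIso C).inv.hom (ev (fbar J β hβ) χ (abar J y'u (Multiplicative.ofAdd m'))) := by
  unfold zpt
  rw [dsChar_comp]
  exact specMap_appTop_apply (θm J β hβ χ) (dsChar y'u m')

lemma ΓSpecIso_inv_injective {C : CommRingCat.{u}} {a b : C}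
    (h : (Scheme.ΓSpecIso C).inv.hom a = (Scheme.ΓSpecIso C).inv.hom b) : a = b := by
  have h2 := congrArg (fun x => (Scheme.ΓSpecIso C).hom.hom x) h
  have e : ∀ x : C, (Scheme.ΓSpecIso C).hom.hom ((Scheme.ΓSpecIso C).inv.hom x) = x := fun x =>
    congrArg (fun k => k.hom x) (Scheme.ΓSpecIso C).inv_hom_id
  simpa only [e] using h2

include hy'u in
lemma key_mul {C : CommRingCat.{u}} (β : Γ(T, ⊤) ⟶ C) (hβ : ∀ a ∈ J, β.hom a = 0)
    (χ χ' : Multiplicative M →* C) (m' : Multiplicative M') :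
    ev (fbar J β hβ) (χ * χ') (abar J y'u m') =
      ev (fbar J β hβ) χ (abar J y'u m') * ev (fbar J β hβ) χ' (abar J y'u m') := by
  have h1 : zpt J y'u β hβ (χ * χ') = zpt J y'u β hβ χ * zpt J y'u β hβ χ' := by
    rw [← cancel_mono j', MonObj.mul_comp, zpt_lifts J j j' y'u hy'u, zpt_lifts J j j' y'u hy'u,
      zpt_lifts J j j' y'u hy'u, ← tch_mul]
    exact MonObj.mul_comp (tch β χ) (tch β χ') j
  have h2 := congrArg (fun z => dsChar z m'.toAdd) h1
  simp only [dsChar_mul, dsChar_zpt, ofAdd_toAdd] at h2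
  exact ΓSpecIso_inv_injective (h2.trans (map_mul _ _ _).symm)

include hy'u in
lemma key_one {C : CommRingCat.{u}} (β : Γ(T, ⊤) ⟶ C) (hβ : ∀ a ∈ J, β.hom a = 0)
    (m' : Multiplicative M') :
    ev (fbar J β hβ) (1 : Multiplicative M →* C) (abar J y'u m') = 1 := by
  have h1 : zpt J y'u β hβ (1 : Multiplicative M →* C) = 1 := by
    rw [← cancel_mono j', zpt_lifts J j j' y'u hy'u, tch_one, MonObj.one_comp, MonObj.one_comp]
  have h2 := congrArg (fun z => dsChar z m'.toAdd) h1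
  simp only [dsChar_one, dsChar_zpt, ofAdd_toAdd] at h2
  exact ΓSpecIso_inv_injective (h2.trans (map_one _).symm)

include hy'u in
lemma isGL_abar (m' : Multiplicative M') : IsGL (abar J y'u m') where
  mul {C} _ f χ χ' := by
    let β : Γ(T, ⊤) ⟶ CommRingCat.of C := CommRingCat.ofHom (f.comp (Ideal.Quotient.mk J))
    have hβ : ∀ a ∈ J, β.hom a = 0 := by
      intro a ha
      change f (Ideal.Quotient.mk J a) = 0
      rw [Ideal.Quotient.eq_zero_iff_mem.mpr ha, map_zero]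
    have hf : fbar J β hβ = f := by
      apply Ideal.Quotient.ringHom_ext
      ext a
      exact fbar_mk J β hβ a
    have := key_mul J j j' y'u hy'u β hβ χ χ' m'
    rwa [hf] at this
  one := by
    let β : Γ(T, ⊤) ⟶ CommRingCat.of (Γ(T, ⊤) ⧸ J) := CommRingCat.ofHom (Ideal.Quotient.mk J)
    have hβ : ∀ a ∈ J, β.hom a = 0 := fun a ha => Ideal.Quotient.eq_zero_iff_mem.mpr ha
    have hf : fbar J β hβ = RingHom.id _ := by
      apply Ideal.Quotient.ringHom_ext
      ext a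
      exact fbar_mk J β hβ a
    have := key_one J j j' y'u hy'u β hβ m'
    rwa [hf] at this

lemma abar_mul (m' n' : Multiplicative M') :
    abar J y'u (m' * n') = abar J y'u m' * abar J y'u n' := by
  unfold abar
  rw [toAdd_mul, dsChar_add]
  exact map_mul _ _ _

lemma abar_one : abar J y'u (1 : Multiplicative M') = 1 := by
  unfold abar
  rw [toAdd_one, dsChar_zero]
  exact map_one _

section Lifted

variable (hJ : IsNilpotent J)

include hJ in
lemma nil_ker_mk : ∀ x ∈ RingHom.ker (Ideal.Quotient.mk J), IsNilpotent x := by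
  intro x hx
  rw [Ideal.mk_ker] at hx
  obtain ⟨n, hn⟩ := hJ
  refine ⟨n, ?_⟩
  have h1 : x ^ n ∈ J ^ n := Ideal.pow_mem_pow hx n
  rw [hn] at h1
  exact h1

include hJ hy'u in
lemma exists_lift (m' : Multiplicative M') :
    ∃ a : MonoidAlgebra Γ(T, ⊤) (Multiplicative M), IsGL a ∧
      MonoidAlgebra.mapRingHom (Multiplicative M) (Ideal.Quotient.mk J) a = abar J y'u m' :=
  exists_isGL_lift (Ideal.Quotient.mk J) Ideal.Quotient.mk_surjective (nil_ker_mk J hJ)
    (isGL_abar J j j' y'u hy'u m')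

/-- the lifted family of group-like elements of `Γ(T)[M]`. -/
noncomputable def alift (m' : Multiplicative M') : MonoidAlgebra Γ(T, ⊤) (Multiplicative M) :=
  Classical.choose (exists_lift J j j' y'u hy'u hJ m')

lemma isGL_alift (m' : Multiplicative M') : IsGL (alift J j j' y'u hy'u hJ m') :=
  (Classical.choose_spec (exists_lift J j j' y'u hy'u hJ m')).1

lemma map_alift (m' : Multiplicative M') :
    MonoidAlgebra.mapRingHom (Multiplicative M) (Ideal.Quotient.mk J) (alift J j j' y'u hy'u hJ m') =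
      abar J y'u m' :=
  (Classical.choose_spec (exists_lift J j j' y'u hy'u hJ m')).2

lemma alift_mul (m' n' : Multiplicative M') :
    alift J j j' y'u hy'u hJ (m' * n') =
      alift J j j' y'u hy'u hJ m' * alift J j j' y'u hy'u hJ n' := by
  refine IsGL.eq_of_map_eq (Ideal.Quotient.mk J) (nil_ker_mk J hJ) (isGL_alift J j j' y'u hy'u hJ _)
    ((isGL_alift J j j' y'u hy'u hJ _).mul_mem (isGL_alift J j j' y'u hy'u hJ _)) ?_
  rw [map_mul, map_alift, map_alift, map_alift, abar_mul]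

lemma alift_one : alift J j j' y'u hy'u hJ 1 = 1 := by
  refine IsGL.eq_of_map_eq (Ideal.Quotient.mk J) (nil_ker_mk J hJ) (isGL_alift J j j' y'u hy'u hJ _)
    isGL_one ?_
  rw [map_one, map_alift, abar_one]

/-- the lifted family as a monoid homomorphism. -/
noncomputable def aHom : Multiplicative M' →* MonoidAlgebra Γ(T, ⊤) (Multiplicative M) where
  toFun := alift J j j' y'u hy'u hJ
  map_one' := alift_one J j j' y'u hy'u hJ
  map_mul' := alift_mul J j j' y'u hy'u hJ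

/-- the characters of the homomorphism `θ`. -/
noncomputable def ΦHom : Multiplicative M' →* Γ((Red.DS T M).left, ⊤) :=
  ((ev (Red.DS T M).hom.appTop.hom (charOf (𝟙 (Red.DS T M))) :
      MonoidAlgebra Γ(T, ⊤) (Multiplicative M) →+* Γ((Red.DS T M).left, ⊤)) :
      MonoidAlgebra Γ(T, ⊤) (Multiplicative M) →* Γ((Red.DS T M).left, ⊤)).comp
    (aHom J j j' y'u hy'u hJ)

/-- the homomorphism `θ : D_T(M) ⟶ D_T(M')`. -/
noncomputable def θhom : Red.DS T M ⟶ Red.DS T M' :=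
  Classical.choose (dsChar_surj (X := Red.DS T M) (M := M') (ΦHom J j j' y'u hy'u hJ))

lemma dsChar_θhom (m' : M') :
    dsChar (θhom J j j' y'u hy'u hJ) m' =
      ev (Red.DS T M).hom.appTop.hom (charOf (𝟙 (Red.DS T M)))
        (alift J j j' y'u hy'u hJ (Multiplicative.ofAdd m')) :=
  Classical.choose_spec (dsChar_surj (X := Red.DS T M) (M := M') (ΦHom J j j' y'u hy'u hJ)) m'

/-- `θ` on points. -/
lemma dsChar_comp_θhom {Y : Over T} (y : Y ⟶ Red.DS T M) (m' : M') :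
    dsChar (y ≫ θhom J j j' y'u hy'u hJ) m' =
      ev Y.hom.appTop.hom (charOf y) (alift J j j' y'u hy'u hJ (Multiplicative.ofAdd m')) := by
  rw [dsChar_comp, dsChar_θhom]
  change y.left.appTop.hom _ = _
  rw [ev_comp]
  have hw : y.left ≫ (Red.DS T M).hom = Y.hom := Over.w y
  have h1 : y.left.appTop.hom.comp (Red.DS T M).hom.appTop.hom = Y.hom.appTop.hom := by
    rw [← hw, Scheme.Hom.comp_appTop, CommRingCat.hom_comp]
  have h2 : (y.left.appTop.hom : Γ((Red.DS T M).left, ⊤) →* Γ(Y.left, ⊤)).comp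
      (charOf (𝟙 (Red.DS T M))) = charOf y := by
    have := charOf_comp y (𝟙 (Red.DS T M))
    rw [Category.comp_id] at this
    exact this.symm
  rw [h1, h2]

lemma θhom_mul {Y : Over T} (y y' : Y ⟶ Red.DS T M) :
    (y * y') ≫ θhom J j j' y'u hy'u hJ =
      (y ≫ θhom J j j' y'u hy'u hJ) * (y' ≫ θhom J j j' y'u hy'u hJ) := by
  apply dsChar_ext
  intro m'
  rw [dsChar_mul, dsChar_comp_θhom, dsChar_comp_θhom, dsChar_comp_θhom, charOf_mul,
    (isGL_alift J j j' y'u hy'u hJ _).mul]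

lemma θhom_one {Y : Over T} :
    (1 : Y ⟶ Red.DS T M) ≫ θhom J j j' y'u hy'u hJ = 1 := by
  apply dsChar_ext
  intro m'
  rw [dsChar_one, dsChar_comp_θhom, charOf_one, (isGL_alift J j j' y'u hy'u hJ _).ev_one]

/-- `θ` lifts points over the thickening. -/
lemma θhom_lifts {Y : Over T} (hY : ∀ a ∈ J, Y.hom.appTop.hom a = 0) (y : Y ⟶ Red.DS T M) :
    (y ≫ θhom J j j' y'u hy'u hJ) ≫ j' = y ≫ j := by
  have h1 : y ≫ θhom J j j' y'u hy'u hJ =
      toTv Y ≫ zpt J y'u Y.hom.appTop hY (charOf y) := by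
    apply dsChar_ext
    intro m'
    rw [dsChar_comp_θhom, dsChar_comp, dsChar_zpt]
    change _ = Y.left.toSpecΓ.appTop.hom _
    rw [Scheme.toSpecΓ_appTop]
    have e : ∀ x : Γ(Y.left, ⊤), (Scheme.ΓSpecIso Γ(Y.left, ⊤)).hom.hom
        ((Scheme.ΓSpecIso Γ(Y.left, ⊤)).inv.hom x) = x := fun x =>
      congrArg (fun k => k.hom x) (Scheme.ΓSpecIso Γ(Y.left, ⊤)).inv_hom_id
    rw [e, ← map_alift J j j' y'u hy'u hJ, ev_map]
    have h3 : (fbar J Y.hom.appTop hY).comp (Ideal.Quotient.mk J) = Y.hom.appTop.hom := by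
      ext a
      exact fbar_mk J Y.hom.appTop hY a
    rw [h3]
  rw [h1, Category.assoc, zpt_lifts J j j' y'u hy'u, ← Category.assoc, toTv_tch]

end Lifted

end Univ

/-- the point action used for rigidity: `g · x = θ(g) j(g)⁻¹ x`. -/
noncomputable def rigAct (θ : Red.DS T M ⟶ Red.DS T M')
    (hθmul : ∀ {Y : Over T} (y y' : Y ⟶ Red.DS T M), (y * y') ≫ θ = (y ≫ θ) * (y' ≫ θ))
    (hθone : ∀ {Y : Over T}, (1 : Y ⟶ Red.DS T M) ≫ θ = 1)
    (hcentral : ∀ (Y : Over T) (g : Y ⟶ Gt) (y : Y ⟶ Red.DS T M), g * (y ≫ j) = (y ≫ j) * g) :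
    PtAct T M Gt where
  act g x := ((g ≫ θ) ≫ j') * (g ≫ j)⁻¹ * x
  nat t g x := by
    rw [MonObj.comp_mul, MonObj.comp_mul, GrpObj.comp_inv]
    simp only [Category.assoc]
  one x := by
    rw [hθone, MonObj.one_comp, MonObj.one_comp, inv_one, _root_.one_mul, _root_.one_mul]
  mul {Y} g g' x := by
    rw [hθmul, MonObj.mul_comp, MonObj.mul_comp]
    have hv : ∀ w : Y ⟶ Gt, Commute (g ≫ j)⁻¹ w := fun w =>
      (show Commute (g ≫ j) w from (hcentral Y w g).symm).inv_left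
    calc (g ≫ θ) ≫ j' * (g' ≫ θ) ≫ j' * (g ≫ j * g' ≫ j)⁻¹ * x
        = (g ≫ θ) ≫ j' * ((g' ≫ θ) ≫ j' * (g' ≫ j)⁻¹ * (g ≫ j)⁻¹) * x := by
          rw [_root_.mul_inv_rev]
          simp only [_root_.mul_assoc]
      _ = (g ≫ θ) ≫ j' * ((g ≫ j)⁻¹ * ((g' ≫ θ) ≫ j' * (g' ≫ j)⁻¹)) * x := by
          rw [(hv ((g' ≫ θ) ≫ j' * (g' ≫ j)⁻¹)).eq]
      _ = (g ≫ θ) ≫ j' * (g ≫ j)⁻¹ * ((g' ≫ θ) ≫ j' * (g' ≫ j)⁻¹ * x) := by
          simp only [_root_.mul_assoc]

/-- **Core lemma.** Over an affine base `T` with a nilpotent thickening `t₀ : T₀ ⟶ T` (ideal `J`): if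
`j : D_T(M) ⟶ Gt` is a central homomorphism, `j' : D_T(M') ⟶ Gt` a monomorphic homomorphism, and every
point of `D_T(M)` over a `T₀`-scheme lifts through `j'`, then `j` factors through `j'`. -/
theorem exists_factor_of_central (hJ : IsNilpotent J)
    (hth : ∀ (C : CommRingCat.{u}) (φ : Γ(T, ⊤) ⟶ C), (∀ a ∈ J, φ.hom a = 0) →
      ∃ p : Spec C ⟶ T₀, p ≫ t₀ = Spec.map φ ≫ (isAffineOpen_top T).fromSpec)
    (hkill : ∀ a ∈ J, t₀.appTop.hom a = 0)
    (hcentral : ∀ (Y : Over T) (g : Y ⟶ Gt) (y : Y ⟶ Red.DS T M), g * (y ≫ j) = (y ≫ j) * g)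
    (H0 : ∀ (Y : Over T) (_ : Y ⟶ Over.mk t₀) (y : Y ⟶ Red.DS T M),
      ∃ y' : Y ⟶ Red.DS T M', y' ≫ j' = y ≫ j) :
    ∃ θ : Red.DS T M ⟶ Red.DS T M', θ ≫ j' = j := by
  obtain ⟨pu, hpu⟩ := hth (Cu J M) (βu J M) (βu_kill J)
  let Pu : tv (βu J M) ⟶ Over.mk t₀ := Over.homMk pu hpu
  obtain ⟨y'u, hy'u⟩ := H0 _ Pu (tch (βu J M) (χu J M))
  refine ⟨θhom J j j' y'u hy'u hJ, ?_⟩
  have hthick : NilThick t₀ := by
    intro s
    refine ⟨⊤, isAffineOpen_top T, J, trivial, hJ, fun C φ I hI => ?_⟩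
    refine hth _ (φ ≫ CommRingCat.ofHom (Ideal.Quotient.mk I)) fun a ha => ?_
    change Ideal.Quotient.mk I (φ.hom a) = 0
    exact Ideal.Quotient.eq_zero_iff_mem.mpr (hI (Ideal.mem_map_of_mem _ ha))
  let A := rigAct j j' (θhom J j j' y'u hy'u hJ) (θhom_mul J j j' y'u hy'u hJ)
    (θhom_one J j j' y'u hy'u hJ) hcentral
  have triv : ∀ (Y : Over T) (_ : Y ⟶ Over.mk t₀) (g : Y ⟶ Red.DS T M) (x : Y ⟶ Gt),
      A.act g x = x := by
    intro Y P g x
    have hY : ∀ a ∈ J, Y.hom.appTop.hom a = 0 := by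
      intro a ha
      have hw : P.left ≫ t₀ = Y.hom := Over.w P
      rw [← hw, Scheme.Hom.comp_appTop, CommRingCat.hom_comp, RingHom.comp_apply, hkill a ha,
        map_zero]
    change ((g ≫ θhom J j j' y'u hy'u hJ) ≫ j') * (g ≫ j)⁻¹ * x = x
    rw [θhom_lifts J j j' y'u hy'u hJ hY g, mul_inv_cancel, _root_.one_mul]
  have key := PtAct.trivial t₀ hthick A triv (Red.DS T M) (𝟙 _) 1
  change ((𝟙 _ ≫ θhom J j j' y'u hy'u hJ) ≫ j') * (𝟙 _ ≫ j)⁻¹ * 1 = 1 at key
  rw [Category.id_comp, Category.id_comp, _root_.mul_one, mul_inv_eq_one] at key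
  exact key

end Core

end Groth.Agent.Lib.Seat23.CentralFactor
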