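import Groth.Agent.Lib.Seat23CentralFactor

/-!
# Seat23CentralSub — central subgroups of multiplicative type are determined modulo a nilpotent ideal (helper23)

Namespace `Groth.Agent.Lib.Seat23.CentralSub`.

* `fac_of_fpqc`, `fac_of_zariski`: factorisation of a morphism of schemes through a monomorphism is local for the
  fpqc (flat, surjective, quasi-compact) and Zariski topologies on the source.
* `DiagOver h H M`: `H` becomes `D(M)` (as a group) after base change along `h`; `diagOver_of_grpIso`, `DiagOver.comp`.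
* `local_factor`: over an affine `T ⟶ Spec R` on which `H`, `H'` are diagonalisable.
* `exists_hom_of_central`: `S = Spec R`, `J` nilpotent, `H`, `H'` of multiplicative type, `i : H ⟶ G` central,
  `i' : H' ⟶ G` a monomorphism; if the points of `H` over `R/J`-schemes lie in `H'` then `i` factors through `i'`.
* `nilThick_specMap_mk`: `Spec (R/J) ⟶ Spec R` is a `NilThick` thickening for `J` nilpotent.
-/

set_option autoImplicit false
universe u
open CategoryTheory MonoidalCategory CartesianMonoidalCategory MonObj GrpObj AlgebraicGeometry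
open CategoryTheory.Limits
open Groth.Agent.Lib.Seat23.CentralFactor Groth.Agent.Lib.Seat23.DiagAct

namespace Groth.Agent.Lib.Seat23.CentralSub

/-- factorisation through a monomorphism descends along flat surjective quasi-compact maps. -/
lemma fac_of_fpqc {P Z X X' : Scheme.{u}} (p : P ⟶ Z) [Mono p] (c : X ⟶ Z) (q : X' ⟶ X)
    [Flat q] [Surjective q] [QuasiCompact q] (h : ∃ s' : X' ⟶ P, s' ≫ p = q ≫ c) :
    ∃ s : X ⟶ P, s ≫ p = c := by
  obtain ⟨s', hs'⟩ := h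
  have hcompat : ∀ {Z' : Scheme.{u}} (g₁ g₂ : Z' ⟶ X'), g₁ ≫ q = g₂ ≫ q → g₁ ≫ s' = g₂ ≫ s' := by
    intro Z' g₁ g₂ hg
    rw [← cancel_mono p, Category.assoc, Category.assoc, hs', ← Category.assoc, hg, Category.assoc]
  refine ⟨EffectiveEpi.desc q s' hcompat, ?_⟩
  rw [← cancel_epi q, ← Category.assoc, EffectiveEpi.fac, hs']

/-- factorisation through a monomorphism is Zariski local on the source. -/
lemma fac_of_zariski {P Z X : Scheme.{u}} (p : P ⟶ Z) [Mono p] (c : X ⟶ Z)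
    (h : ∀ x : X, ∃ U : X.Opens, x ∈ U ∧ ∃ s : (U : Scheme.{u}) ⟶ P, s ≫ p = U.ι ≫ c) :
    ∃ s : X ⟶ P, s ≫ p = c := by
  choose U hxU s hs using h
  have hcov : TopologicalSpace.IsOpenCover U := by
    apply TopologicalSpace.IsOpenCover.mk
    rw [eq_top_iff]
    intro t _
    exact TopologicalSpace.Opens.mem_iSup.mpr ⟨t, hxU t⟩
  let 𝒰 := X.openCoverOfIsOpenCover U hcov
  let s' : ∀ x : 𝒰.I₀, 𝒰.X x ⟶ P := s
  have hs' : ∀ x : 𝒰.I₀, s' x ≫ p = 𝒰.f x ≫ c := hs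
  have hglue : ∀ x y : 𝒰.I₀,
      pullback.fst (𝒰.f x) (𝒰.f y) ≫ s' x = pullback.snd (𝒰.f x) (𝒰.f y) ≫ s' y := by
    intro x y
    rw [← cancel_mono p, Category.assoc, Category.assoc, hs', hs', ← Category.assoc,
      pullback.condition, Category.assoc]
  refine ⟨𝒰.glueMorphisms s' hglue, ?_⟩
  refine 𝒰.hom_ext _ _ fun x => ?_
  rw [← Category.assoc, Scheme.Cover.ι_glueMorphisms, hs']

/-- `H` is diagonalisable with character group `M` after base change along `h`. -/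
def DiagOver {S T : Scheme.{u}} (h : T ⟶ S) (H : Over S) [GrpObj H] (M : Type) [AddCommGroup M] :
    Prop :=
  ∃ ε : Red.DS T M ≅ Red.bc h H, IsMonHom ε.hom

lemma diagOver_of_grpIso {S T : Scheme.{u}} {h : T ⟶ S} {H : Over S} [GrpObj H] {M : Type}
    [AddCommGroup M] (e : Grp.mk (Red.bc h H) ≅ Grp.mk (Red.DS T M)) : DiagOver h H M :=
  ⟨⟨e.inv.hom.hom, e.hom.hom.hom, congrArg (fun k => k.hom.hom) e.inv_hom_id,
    congrArg (fun k => k.hom.hom) e.hom_inv_id⟩, inferInstance⟩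

lemma DiagOver.comp {S S' T : Scheme.{u}} {f : S' ⟶ S} {H : Over S} [GrpObj H] {M : Type}
    [AddCommGroup M] (hd : DiagOver f H M) (g : T ⟶ S') (d : T ⟶ S) (hgd : g ≫ f = d) :
    DiagOver d H M := by
  obtain ⟨ε, hε⟩ := hd
  have h' : g ≫ Limits.IsTerminal.from specULiftZIsTerminal S' =
      Limits.IsTerminal.from specULiftZIsTerminal T := specULiftZIsTerminal.hom_ext _ _
  refine ⟨(ActBC.bcCompIso g (Limits.IsTerminal.from specULiftZIsTerminal S')
    (Red.diag (ULift.{u} ℤ) M) h').symm ≪≫ (Over.pullback g).mapIso ε ≪≫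
    ActBC.bcCompIso g f H hgd, ?_⟩
  simp only [Iso.trans_hom, Iso.symm_hom, Functor.mapIso_hom]
  infer_instance

section Local

variable {R : Type u} [CommRing R]

/-- the ring map `R → Γ(T, ⊤)` of a scheme over `Spec R`. -/
noncomputable def ρof {T : Scheme.{u}} (h : T ⟶ Spec (CommRingCat.of R)) :
    CommRingCat.of R ⟶ Γ(T, ⊤) :=
  (Scheme.ΓSpecIso (CommRingCat.of R)).inv ≫ h.appTop

lemma specMap_ρof {T : Scheme.{u}} [IsAffine T] (h : T ⟶ Spec (CommRingCat.of R)) :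
    Spec.map (ρof h) = (isAffineOpen_top T).fromSpec ≫ h := by
  unfold ρof
  rw [Spec.map_comp, IsAffineOpen.fromSpec_top]
  have h1 : Spec.map h.appTop = T.isoSpec.inv ≫ h ≫ (Spec (CommRingCat.of R)).toSpecΓ := by
    rw [Scheme.toSpecΓ_naturality, ← Category.assoc, ← Scheme.isoSpec_hom, Iso.inv_hom_id,
      Category.id_comp]
  rw [h1, Category.assoc, Category.assoc, toSpecΓ_SpecMap_ΓSpecIso_inv, Category.comp_id]

variable (J : Ideal R)

lemma thick_lift {T : Scheme.{u}} [IsAffine T] (h : T ⟶ Spec (CommRingCat.of R))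
    (C : CommRingCat.{u}) (φ : Γ(T, ⊤) ⟶ C) (hφ : ∀ a ∈ J.map (ρof h).hom, φ.hom a = 0) :
    ∃ p : Spec C ⟶ pullback (Spec.map (CommRingCat.ofHom (Ideal.Quotient.mk J))) h,
      p ≫ pullback.snd _ _ = Spec.map φ ≫ (isAffineOpen_top T).fromSpec := by
  have hk : ∀ r ∈ J, (φ.hom.comp (ρof h).hom) r = 0 := fun r hr =>
    hφ _ (Ideal.mem_map_of_mem _ hr)
  let κ : R ⧸ J →+* C := Ideal.Quotient.lift J (φ.hom.comp (ρof h).hom) hk
  have hκ : CommRingCat.ofHom (Ideal.Quotient.mk J) ≫ CommRingCat.ofHom κ = ρof h ≫ φ := by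
    ext r
    exact Ideal.Quotient.lift_mk J (φ.hom.comp (ρof h).hom) hk
  refine ⟨pullback.lift (Spec.map (CommRingCat.ofHom κ))
    (Spec.map φ ≫ (isAffineOpen_top T).fromSpec) ?_, pullback.lift_snd _ _ _⟩
  rw [Category.assoc, ← specMap_ρof, ← Spec.map_comp, ← Spec.map_comp, hκ]

lemma thick_kill {T : Scheme.{u}} (h : T ⟶ Spec (CommRingCat.of R)) :
    ∀ a ∈ J.map (ρof h).hom,
      (pullback.snd (Spec.map (CommRingCat.ofHom (Ideal.Quotient.mk J))) h).appTop.hom a = 0 := by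
  have hle : J.map (ρof h).hom ≤ RingHom.ker
      (pullback.snd (Spec.map (CommRingCat.ofHom (Ideal.Quotient.mk J))) h).appTop.hom := by
    rw [Ideal.map_le_iff_le_comap]
    intro r hr
    rw [Ideal.mem_comap, RingHom.mem_ker]
    have hcond := pullback.condition (f := Spec.map (CommRingCat.ofHom (Ideal.Quotient.mk J)))
      (g := h)
    have h1 := congrArg (fun k => k.appTop.hom ((Scheme.ΓSpecIso (CommRingCat.of R)).inv.hom r)) hcond
    simp only [Scheme.Hom.comp_appTop, CommRingCat.hom_comp, RingHom.comp_apply] at h1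
    have h2 : (Spec.map (CommRingCat.ofHom (Ideal.Quotient.mk J))).appTop.hom
        ((Scheme.ΓSpecIso (CommRingCat.of R)).inv.hom r) = 0 := by
      have h3 := Scheme.ΓSpecIso_inv_naturality (CommRingCat.ofHom (Ideal.Quotient.mk J))
      have h4 := congrArg (fun k => k.hom r) h3
      simp only [CommRingCat.hom_comp, RingHom.comp_apply] at h4
      rw [← h4]
      change (Scheme.ΓSpecIso (CommRingCat.of (R ⧸ J))).inv.hom (Ideal.Quotient.mk J r) = 0
      rw [Ideal.Quotient.eq_zero_iff_mem.mpr hr, map_zero]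
    rw [h2, map_zero] at h1
    exact h1.symm
  intro a ha
  exact hle ha


/-- **Local step.** Over an affine `T ⟶ Spec R` on which `H` and `H'` are both diagonalisable, the base
change of `i` factors through the base change of `i'`. -/
theorem local_factor (hJ : IsNilpotent J)
    {G H H' : Over (Spec (CommRingCat.of R))} [GrpObj G] [GrpObj H] [GrpObj H']
    (i : H ⟶ G) [IsMonHom i] (i' : H' ⟶ G) [IsMonHom i'] [Mono i']
    (hc : ∀ (X : Over (Spec (CommRingCat.of R))) (g : X ⟶ G) (h : X ⟶ H),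
      g * (h ≫ i) = (h ≫ i) * g)
    (H0 : ∀ (Y : Over (Spec (CommRingCat.of R)))
      (_ : Y ⟶ Over.mk (Spec.map (CommRingCat.ofHom (Ideal.Quotient.mk J)))) (y : Y ⟶ H),
      ∃ y' : Y ⟶ H', y' ≫ i' = y ≫ i)
    {T : Scheme.{u}} [IsAffine T] (h : T ⟶ Spec (CommRingCat.of R)) {M M' : Type}
    [AddCommGroup M] [AddCommGroup M'] (hd : DiagOver h H M) (hd' : DiagOver h H' M') :
    ∃ θ : Red.bc h H ⟶ Red.bc h H', θ ≫ (Over.pullback h).map i' = (Over.pullback h).map i := by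
  obtain ⟨ε, hε⟩ := hd
  obtain ⟨ε', hε'⟩ := hd'
  set i₀ := Spec.map (CommRingCat.ofHom (Ideal.Quotient.mk J)) with hi₀
  let j : Red.DS T M ⟶ Red.bc h G := ε.hom ≫ (Over.pullback h).map i
  let j' : Red.DS T M' ⟶ Red.bc h G := ε'.hom ≫ (Over.pullback h).map i'
  have hmono : Mono ((Over.pullback h).map i') := inferInstance
  have hmonoj' : Mono j' := mono_comp _ _
  have hJ' : IsNilpotent (J.map (ρof h).hom) := by
    obtain ⟨n, hn⟩ := hJ
    refine ⟨n, ?_⟩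
    rw [← Ideal.map_pow, hn, Ideal.zero_eq_bot, Ideal.map_bot, Ideal.zero_eq_bot]
  have hcentral : ∀ (Y : Over T) (g : Y ⟶ Red.bc h G) (y : Y ⟶ Red.DS T M),
      g * (y ≫ j) = (y ≫ j) * g := by
    intro Y g y
    obtain ⟨g₁, hg₁⟩ := ((Over.mapPullbackAdj h).homEquiv Y G).surjective g
    obtain ⟨y₁, hy₁⟩ := ((Over.mapPullbackAdj h).homEquiv Y H).surjective (y ≫ ε.hom)
    have e1 : y ≫ j = (Over.mapPullbackAdj h).homEquiv Y G (y₁ ≫ i) := by
      rw [Adjunction.homEquiv_naturality_right, hy₁, Category.assoc]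
    rw [e1, ← hg₁, ← AlgGrp.Action.homEquiv_mul, ← AlgGrp.Action.homEquiv_mul, hc]
  have H0T : ∀ (Y : Over T) (_ : Y ⟶ Over.mk (pullback.snd i₀ h)) (y : Y ⟶ Red.DS T M),
      ∃ y' : Y ⟶ Red.DS T M', y' ≫ j' = y ≫ j := by
    intro Y P y
    let P' : (Over.map h).obj Y ⟶ Over.mk i₀ := Over.homMk (P.left ≫ pullback.fst i₀ h) (by
      have hw : P.left ≫ pullback.snd i₀ h = Y.hom := Over.w P
      change (P.left ≫ pullback.fst i₀ h) ≫ i₀ = Y.hom ≫ h
      rw [Category.assoc, pullback.condition, ← Category.assoc, hw])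
    obtain ⟨y₁, hy₁⟩ := ((Over.mapPullbackAdj h).homEquiv Y H).surjective (y ≫ ε.hom)
    obtain ⟨y₁', hy₁'⟩ := H0 _ P' y₁
    refine ⟨(Over.mapPullbackAdj h).homEquiv Y H' y₁' ≫ ε'.inv, ?_⟩
    change ((Over.mapPullbackAdj h).homEquiv Y H' y₁' ≫ ε'.inv) ≫ ε'.hom ≫ (Over.pullback h).map i' =
      y ≫ ε.hom ≫ (Over.pullback h).map i
    rw [Category.assoc, Iso.inv_hom_id_assoc, ← Adjunction.homEquiv_naturality_right, hy₁',
      Adjunction.homEquiv_naturality_right, hy₁, Category.assoc]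
  obtain ⟨θ, hθ⟩ := exists_factor_of_central (pullback.snd i₀ h) (J.map (ρof h).hom) j j' hJ'
    (thick_lift J h) (thick_kill J h) hcentral H0T
  refine ⟨ε.inv ≫ θ ≫ ε'.hom, ?_⟩
  rw [Category.assoc, Category.assoc]
  change ε.inv ≫ θ ≫ j' = _
  rw [hθ, Iso.inv_hom_id_assoc]

end Local


section Global

set_option backward.isDefEq.respectTransparency.types false in
/-- a quasi-compact open of an fpqc cover mapping onto an affine base gives a flat surjective quasi-compact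
morphism. -/
lemma cover_props {S S₁ : Scheme.{u}} [IsAffine S] (f₁ : S₁ ⟶ S) [Flat f₁] (W₁ : S₁.Opens)
    (hc : IsCompact (W₁ : Set S₁)) (him : f₁.base '' (W₁ : Set S₁) = ((⊤ : S.Opens) : Set S)) :
    Flat (W₁.ι ≫ f₁) ∧ Surjective (W₁.ι ≫ f₁) ∧ QuasiCompact (W₁.ι ≫ f₁) := by
  refine ⟨inferInstance, ⟨fun s => ?_⟩, ?_⟩
  · have hs : s ∈ f₁.base '' (W₁ : Set S₁) := by
      rw [him]
      trivial
    obtain ⟨z, hz, rfl⟩ := hs
    exact ⟨⟨z, hz⟩, rfl⟩
  · have : CompactSpace ↥W₁ := isCompact_iff_compactSpace.mp hc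
    exact (HasAffineProperty.iff_of_isAffine (P := @QuasiCompact)).mpr this

variable {R : Type u} [CommRing R] (J : Ideal R)

/-- **Global step.** -/
theorem exists_hom_of_central (hJ : IsNilpotent J)
    {G H H' : Over (Spec (CommRingCat.of R))} [GrpObj G] [GrpObj H] [GrpObj H']
    (hH : TwC.Locally (Spec (CommRingCat.of R)) TwC.Topology.fpqc (fun S' f =>
      ∃ (M : Type) (_ : AddCommGroup M), Nonempty (Grp.mk (Red.bc f H) ≅ Grp.mk (Red.DS S' M))))
    (hH' : TwC.Locally (Spec (CommRingCat.of R)) TwC.Topology.fpqc (fun S' f =>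
      ∃ (M : Type) (_ : AddCommGroup M), Nonempty (Grp.mk (Red.bc f H') ≅ Grp.mk (Red.DS S' M))))
    (i : H ⟶ G) [IsMonHom i] (i' : H' ⟶ G) [IsMonHom i'] [Mono i']
    (hc : ∀ (X : Over (Spec (CommRingCat.of R))) (g : X ⟶ G) (h : X ⟶ H),
      g * (h ≫ i) = (h ≫ i) * g)
    (H0 : ∀ (Y : Over (Spec (CommRingCat.of R)))
      (_ : Y ⟶ Over.mk (Spec.map (CommRingCat.ofHom (Ideal.Quotient.mk J)))) (y : Y ⟶ H),
      ∃ y' : Y ⟶ H', y' ≫ i' = y ≫ i) :
    ∃ θ : H ⟶ H', θ ≫ i' = i := by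
  obtain ⟨S₁, f₁, hfl₁, hsurj₁, hqc₁, hloc₁⟩ := hH
  obtain ⟨S₂, f₂, hfl₂, hsurj₂, hqc₂, hloc₂⟩ := hH'
  obtain ⟨W₁, hW₁c, hW₁im⟩ := hqc₁ ⊤ (isAffineOpen_top _)
  obtain ⟨W₂, hW₂c, hW₂im⟩ := hqc₂ ⊤ (isAffineOpen_top _)
  have hmono : Mono i'.left := inferInstance
  have key : ∃ s : H.left ⟶ H'.left, s ≫ i'.left = i.left := by
    obtain ⟨hw₁f, hw₁s, hw₁q⟩ := cover_props f₁ W₁ hW₁c hW₁im
    obtain ⟨hw₂f, hw₂s, hw₂q⟩ := cover_props f₂ W₂ hW₂c hW₂im
    set w₁ := W₁.ι ≫ f₁ with hw₁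
    set w₂ := W₂.ι ≫ f₂ with hw₂
    let q₁ := pullback.fst H.hom w₁
    let q₂ := pullback.fst (q₁ ≫ H.hom) w₂
    apply fac_of_fpqc i'.left i.left q₁
    apply fac_of_fpqc i'.left (q₁ ≫ i.left) q₂
    apply fac_of_zariski
    intro x
    let a₁ : pullback (q₁ ≫ H.hom) w₂ ⟶ S₁ := q₂ ≫ pullback.snd H.hom w₁ ≫ W₁.ι
    let a₂ : pullback (q₁ ≫ H.hom) w₂ ⟶ S₂ := pullback.snd (q₁ ≫ H.hom) w₂ ≫ W₂.ι
    have ha₁ : a₁ ≫ f₁ = q₂ ≫ q₁ ≫ H.hom := by
      change (q₂ ≫ pullback.snd H.hom w₁ ≫ W₁.ι) ≫ f₁ = _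
      rw [Category.assoc, Category.assoc, ← hw₁, ← pullback.condition]
    have ha₂ : a₂ ≫ f₂ = q₂ ≫ q₁ ≫ H.hom := by
      change (pullback.snd (q₁ ≫ H.hom) w₂ ≫ W₂.ι) ≫ f₂ = _
      rw [Category.assoc, ← hw₂, ← pullback.condition]
    obtain ⟨U₁, hz₁, M, _, ⟨e₁⟩⟩ := hloc₁ (a₁.base x)
    obtain ⟨U₂, hz₂, M', _, ⟨e₂⟩⟩ := hloc₂ (a₂.base x)
    have hxmem : x ∈ a₁ ⁻¹ᵁ U₁ ⊓ a₂ ⁻¹ᵁ U₂ := ⟨hz₁, hz₂⟩
    obtain ⟨_, ⟨(N : (pullback (q₁ ≫ H.hom) w₂).Opens), hN, rfl⟩, hxN, hNsub⟩ :=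
      (pullback (q₁ ≫ H.hom) w₂).isBasis_affineOpens.exists_subset_of_mem_open
        hxmem (a₁ ⁻¹ᵁ U₁ ⊓ a₂ ⁻¹ᵁ U₂).2
    refine ⟨N, hxN, ?_⟩
    have hNaff : IsAffine (N : Scheme.{u}) := hN
    let h : (N : Scheme.{u}) ⟶ Spec (CommRingCat.of R) := N.ι ≫ q₂ ≫ q₁ ≫ H.hom
    have hr₁ : Set.range (N.ι ≫ a₁).base ⊆ Set.range U₁.ι.base := by
      rintro _ ⟨n, rfl⟩
      rw [Scheme.Opens.range_ι]
      exact (hNsub n.2).1
    have hr₂ : Set.range (N.ι ≫ a₂).base ⊆ Set.range U₂.ι.base := by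
      rintro _ ⟨n, rfl⟩
      rw [Scheme.Opens.range_ι]
      exact (hNsub n.2).2
    let g₁ := IsOpenImmersion.lift U₁.ι (N.ι ≫ a₁) hr₁
    let g₂ := IsOpenImmersion.lift U₂.ι (N.ι ≫ a₂) hr₂
    have hg₁ : g₁ ≫ U₁.ι ≫ f₁ = h := by
      rw [← Category.assoc, IsOpenImmersion.lift_fac, Category.assoc, ha₁]
    have hg₂ : g₂ ≫ U₂.ι ≫ f₂ = h := by
      rw [← Category.assoc, IsOpenImmersion.lift_fac, Category.assoc, ha₂]
    have hd := (diagOver_of_grpIso e₁).comp g₁ h hg₁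
    have hd' := (diagOver_of_grpIso e₂).comp g₂ h hg₂
    obtain ⟨θT, hθT⟩ := local_factor J hJ i i' hc H0 h hd hd'
    let y : (N : Scheme.{u}) ⟶ H.left := N.ι ≫ q₂ ≫ q₁
    have hy : y ≫ H.hom = 𝟙 _ ≫ h := by
      rw [Category.id_comp]
      simp only [y, h, Category.assoc]
    let yt : (N : Scheme.{u}) ⟶ pullback H.hom h := pullback.lift y (𝟙 _) hy
    refine ⟨yt ≫ θT.left ≫ pullback.fst H'.hom h, ?_⟩
    have e1 := congrArg Over.Hom.left hθT
    rw [Over.comp_left] at e1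
    calc (yt ≫ θT.left ≫ pullback.fst H'.hom h) ≫ i'.left
        = yt ≫ θT.left ≫ ((Over.pullback h).map i').left ≫ pullback.fst G.hom h := by
          rw [ActBC.pullback_map_left_fst]
          simp only [Category.assoc]
      _ = yt ≫ ((Over.pullback h).map i).left ≫ pullback.fst G.hom h := by
          rw [← Category.assoc θT.left, e1]
      _ = yt ≫ pullback.fst H.hom h ≫ i.left := by
          rw [ActBC.pullback_map_left_fst]
      _ = N.ι ≫ q₂ ≫ q₁ ≫ i.left := by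
          rw [← Category.assoc, pullback.lift_fst]
          simp only [y, Category.assoc]
  obtain ⟨s, hs⟩ := key
  refine ⟨Over.homMk s ?_, ?_⟩
  · rw [← Over.w i', ← Category.assoc, hs, Over.w i]
  · apply Over.OverMorphism.ext
    exact hs

end Global

/-- `Spec (R/J) ⟶ Spec R` is a nilpotent thickening for `J` nilpotent. -/
theorem nilThick_specMap_mk {R : Type u} [CommRing R] (J : Ideal R) (hJ : IsNilpotent J) :
    NilThick (Spec.map (CommRingCat.ofHom (Ideal.Quotient.mk J))) := by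
  intro s
  refine ⟨⊤, isAffineOpen_top _, J.map (Scheme.ΓSpecIso (CommRingCat.of R)).inv.hom, trivial, ?_,
    fun C φ I hI => ?_⟩
  · obtain ⟨n, hn⟩ := hJ
    refine ⟨n, ?_⟩
    rw [← Ideal.map_pow, hn, Ideal.zero_eq_bot, Ideal.map_bot, Ideal.zero_eq_bot]
  · let g : R →+* C ⧸ I := (Ideal.Quotient.mk I).comp
      (φ.hom.comp (Scheme.ΓSpecIso (CommRingCat.of R)).inv.hom)
    have hg : ∀ r ∈ J, g r = 0 := by
      intro r hr
      change Ideal.Quotient.mk I (φ.hom ((Scheme.ΓSpecIso (CommRingCat.of R)).inv.hom r)) = 0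
      refine Ideal.Quotient.eq_zero_iff_mem.mpr (hI ?_)
      exact Ideal.mem_map_of_mem _ (Ideal.mem_map_of_mem _ hr)
    let κ : R ⧸ J →+* C ⧸ I := Ideal.Quotient.lift J g hg
    have hκ : CommRingCat.ofHom (Ideal.Quotient.mk J) ≫ CommRingCat.ofHom κ =
        (Scheme.ΓSpecIso (CommRingCat.of R)).inv ≫ φ ≫ CommRingCat.ofHom (Ideal.Quotient.mk I) := by
      ext r
      exact Ideal.Quotient.lift_mk J g hg
    refine ⟨Spec.map (CommRingCat.ofHom κ), ?_⟩
    rw [← Spec.map_comp, hκ, Spec.map_comp, IsAffineOpen.fromSpec_top]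
    congr 1
    rw [← cancel_epi (Spec (CommRingCat.of R)).isoSpec.hom, Iso.hom_inv_id, Scheme.isoSpec_hom,
      toSpecΓ_SpecMap_ΓSpecIso_inv]


end Groth.Agent.Lib.Seat23.CentralSub
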