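import Mathlib.RingTheory.Coalgebra.Convolution
import Mathlib.RingTheory.HopfAlgebra.Convolution
import Mathlib.RingTheory.Ideal.Operations
import Mathlib.RingTheory.Ideal.Maps

/-!
# Seat23ConvInt: convolution rings, congruences modulo an ideal of the base, and integration

For a coalgebra `D` and a commutative algebra `T` over `R`, `WithConv (D →ₗ[R] T)` is Mathlib's
convolution ring.  We add:

* `push u x`: post-composition with a linear map `u : T → P`;
* `IsIn J x`: all values of `x` lie in `J • T` (for an ideal `J` of `R`); these form a two-sided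
  ideal, and `IsIn J x → IsIn J' y → IsIn (J * J') (x * y)`;
* `IsRetr j lam`: `lam : P → T` is a `T`-linear retraction of the algebra map `j : T → P`
  (an "integration over the fibres");
* `int_mul`: if `x ≡ j_* y` and `x' ≡ j_* y'` modulo `K`, then
  `lam_*(x * x') ≡ lam_* x * lam_* x'` modulo `K²`;
* `int_algHom_mul`: the element-wise analogue for an algebra map `W ≡ j ∘ y` modulo `K`.
-/

set_option autoImplicit false

namespace Groth.Agent.Lib.Seat23.ConvInt

open TensorProduct WithConv

section SmulTop

variable {R : Type*} [CommRing R]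

theorem map_mem_smul_top {N N' : Type*} [AddCommGroup N] [Module R N] [AddCommGroup N']
    [Module R N'] (f : N →ₗ[R] N') (K : Ideal R) {z : N}
    (hz : z ∈ K • (⊤ : Submodule R N)) : f z ∈ K • (⊤ : Submodule R N') := by
  have : (K • (⊤ : Submodule R N)).map f ≤ K • (⊤ : Submodule R N') := by
    rw [Submodule.map_smul'']
    exact Submodule.smul_mono le_rfl le_top
  exact this ⟨z, hz, rfl⟩

theorem smul_top_mono {N : Type*} [AddCommGroup N] [Module R N] {K K' : Ideal R} (h : K ≤ K') :
    K • (⊤ : Submodule R N) ≤ K' • (⊤ : Submodule R N) :=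
  Submodule.smul_mono h le_rfl

theorem mul_mem_smul_top {P : Type*} [CommRing P] [Algebra R P] (K K' : Ideal R) {p p' : P}
    (hp : p ∈ K • (⊤ : Submodule R P)) (hp' : p' ∈ K' • (⊤ : Submodule R P)) :
    p * p' ∈ (K * K') • (⊤ : Submodule R P) := by
  refine Submodule.smul_induction_on hp ?_ ?_
  · intro k hk n _
    refine Submodule.smul_induction_on hp' ?_ ?_
    · intro k' hk' n' _
      rw [smul_mul_smul_comm]
      exact Submodule.smul_mem_smul (Ideal.mul_mem_mul hk hk') Submodule.mem_top
    · intro x y hx hy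
      rw [mul_add]
      exact Submodule.add_mem _ hx hy
  · intro x y hx hy
    rw [add_mul]
    exact Submodule.add_mem _ hx hy

theorem tmul_mem_smul_top {N N' : Type*} [AddCommGroup N] [Module R N] [AddCommGroup N']
    [Module R N'] (K K' : Ideal R) {x : N} {y : N'}
    (hx : x ∈ K • (⊤ : Submodule R N)) (hy : y ∈ K' • (⊤ : Submodule R N')) :
    x ⊗ₜ[R] y ∈ (K * K') • (⊤ : Submodule R (N ⊗[R] N')) := by
  refine Submodule.smul_induction_on hx ?_ ?_
  · intro k hk n _
    refine Submodule.smul_induction_on hy ?_ ?_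
    · intro k' hk' n' _
      rw [TensorProduct.smul_tmul_smul]
      exact Submodule.smul_mem_smul (Ideal.mul_mem_mul hk hk') Submodule.mem_top
    · intro a b ha hb
      rw [TensorProduct.tmul_add]
      exact Submodule.add_mem _ ha hb
  · intro a b ha hb
    rw [TensorProduct.add_tmul]
    exact Submodule.add_mem _ ha hb

theorem map_mem_smul_top_of_forall {N N' Q Q' : Type*} [AddCommGroup N] [Module R N]
    [AddCommGroup N'] [Module R N'] [AddCommGroup Q] [Module R Q] [AddCommGroup Q'] [Module R Q']
    (K K' : Ideal R) (f : Q →ₗ[R] N) (g : Q' →ₗ[R] N')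
    (hf : ∀ p, f p ∈ K • (⊤ : Submodule R N)) (hg : ∀ p, g p ∈ K' • (⊤ : Submodule R N'))
    (z : Q ⊗[R] Q') : TensorProduct.map f g z ∈ (K * K') • (⊤ : Submodule R (N ⊗[R] N')) := by
  induction z using TensorProduct.induction_on with
  | zero => rw [map_zero]; exact Submodule.zero_mem _
  | add x y hx hy => rw [map_add]; exact Submodule.add_mem _ hx hy
  | tmul p p' =>
    rw [TensorProduct.map_tmul]
    exact tmul_mem_smul_top K K' (hf p) (hg p')

theorem mem_top_smul_top {N : Type*} [AddCommGroup N] [Module R N] (x : N) :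
    x ∈ (⊤ : Ideal R) • (⊤ : Submodule R N) := by
  rw [Submodule.top_smul]
  exact Submodule.mem_top

end SmulTop

section Push

variable {R : Type*} [CommRing R] {D : Type*} [AddCommGroup D] [Module R D] [Coalgebra R D]
  {T : Type*} [CommRing T] [Algebra R T] {P : Type*} [CommRing P] [Algebra R P]
  {Q : Type*} [CommRing Q] [Algebra R Q]

/-- Post-composition with a linear map. -/
def push (u : T →ₗ[R] P) (x : WithConv (D →ₗ[R] T)) : WithConv (D →ₗ[R] P) :=
  toConv (u ∘ₗ x.ofConv)

@[simp] theorem push_apply (u : T →ₗ[R] P) (x : WithConv (D →ₗ[R] T)) (d : D) :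
    push u x d = u (x d) := rfl

theorem push_add (u : T →ₗ[R] P) (x y : WithConv (D →ₗ[R] T)) :
    push u (x + y) = push u x + push u y := by
  apply WithConv.ext
  ext d
  simp [push]

theorem push_sub (u : T →ₗ[R] P) (x y : WithConv (D →ₗ[R] T)) :
    push u (x - y) = push u x - push u y := by
  apply WithConv.ext
  ext d
  simp [push]

theorem push_push (u : T →ₗ[R] P) (v : P →ₗ[R] Q) (x : WithConv (D →ₗ[R] T)) :
    push v (push u x) = push (v ∘ₗ u) x := rfl

theorem push_mul (u : T →ₐ[R] P) (x y : WithConv (D →ₗ[R] T)) :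
    push u.toLinearMap (x * y) = push u.toLinearMap x * push u.toLinearMap y := by
  apply WithConv.ext
  exact LinearMap.algHom_comp_convMul_distrib u x y

theorem push_one (u : T →ₐ[R] P) :
    push u.toLinearMap (1 : WithConv (D →ₗ[R] T)) = 1 := by
  apply WithConv.ext
  ext d
  simp [push]

/-- All values of `x` lie in `J • T`. -/
def IsIn (J : Ideal R) (x : WithConv (D →ₗ[R] T)) : Prop :=
  ∀ d, x d ∈ J • (⊤ : Submodule R T)

theorem IsIn.zero (J : Ideal R) : IsIn J (0 : WithConv (D →ₗ[R] T)) := fun _ =>
  Submodule.zero_mem _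

theorem IsIn.add {J : Ideal R} {x y : WithConv (D →ₗ[R] T)} (hx : IsIn J x) (hy : IsIn J y) :
    IsIn J (x + y) := fun d => Submodule.add_mem _ (hx d) (hy d)

theorem IsIn.sub {J : Ideal R} {x y : WithConv (D →ₗ[R] T)} (hx : IsIn J x) (hy : IsIn J y) :
    IsIn J (x - y) := fun d => Submodule.sub_mem _ (hx d) (hy d)

theorem IsIn.neg {J : Ideal R} {x : WithConv (D →ₗ[R] T)} (hx : IsIn J x) :
    IsIn J (-x) := fun d => Submodule.neg_mem _ (hx d)

theorem IsIn.mono {J J' : Ideal R} (h : J ≤ J') {x : WithConv (D →ₗ[R] T)} (hx : IsIn J x) :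
    IsIn J' x := fun d => smul_top_mono h (hx d)

theorem IsIn.push {J : Ideal R} {x : WithConv (D →ₗ[R] T)} (hx : IsIn J x) (u : T →ₗ[R] P) :
    IsIn J (push u x) := fun d => map_mem_smul_top u J (hx d)

theorem IsIn.mul {J J' : Ideal R} {x y : WithConv (D →ₗ[R] T)} (hx : IsIn J x)
    (hy : IsIn J' y) : IsIn (J * J') (x * y) := by
  intro d
  rw [LinearMap.convMul_apply]
  exact map_mem_smul_top (LinearMap.mul' R T) (J * J')
    (map_mem_smul_top_of_forall J J' x.ofConv y.ofConv hx hy _)

theorem isIn_top (x : WithConv (D →ₗ[R] T)) : IsIn ⊤ x := fun d => mem_top_smul_top (x d)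

theorem IsIn.mul_right {J : Ideal R} {x : WithConv (D →ₗ[R] T)} (hx : IsIn J x)
    (y : WithConv (D →ₗ[R] T)) : IsIn J (x * y) := by
  have := hx.mul (isIn_top y)
  rwa [Ideal.mul_top] at this

theorem IsIn.mul_left {J : Ideal R} {x : WithConv (D →ₗ[R] T)} (hx : IsIn J x)
    (y : WithConv (D →ₗ[R] T)) : IsIn J (y * x) := by
  have := (isIn_top y).mul hx
  rwa [Ideal.top_mul] at this

end Push

section Retr

variable {R : Type*} [CommRing R] {D : Type*} [AddCommGroup D] [Module R D] [Coalgebra R D]
  {T : Type*} [CommRing T] [Algebra R T] {P : Type*} [CommRing P] [Algebra R P]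

/-- `lam : P → T` is a `T`-linear retraction of the algebra map `j : T → P`. -/
structure IsRetr (j : T →ₐ[R] P) (lam : P →ₗ[R] T) : Prop where
  map_one : lam 1 = 1
  map_mul : ∀ (t : T) (y : P), lam (j t * y) = t * lam y

variable {j : T →ₐ[R] P} {lam : P →ₗ[R] T}

theorem IsRetr.lam_j (hr : IsRetr j lam) (t : T) : lam (j t) = t := by
  have := hr.map_mul t 1
  rwa [mul_one, hr.map_one, mul_one] at this

theorem IsRetr.map_mul' (hr : IsRetr j lam) (t : T) (y : P) : lam (y * j t) = lam y * t := by
  rw [mul_comm, hr.map_mul, mul_comm]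

theorem push_lam_j (hr : IsRetr j lam) (x : WithConv (D →ₗ[R] T)) :
    push lam (push j.toLinearMap x) = x := by
  apply WithConv.ext
  ext d
  exact hr.lam_j (x d)

theorem push_lam_mul_left (hr : IsRetr j lam) (y : WithConv (D →ₗ[R] T))
    (z : WithConv (D →ₗ[R] P)) :
    push lam (push j.toLinearMap y * z) = y * push lam z := by
  apply WithConv.ext
  ext d
  change lam (LinearMap.mul' R P (TensorProduct.map (j.toLinearMap ∘ₗ y.ofConv) z.ofConv
    (CoalgebraStruct.comul (R := R) d))) =
    LinearMap.mul' R T (TensorProduct.map y.ofConv (lam ∘ₗ z.ofConv)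
      (CoalgebraStruct.comul (R := R) d))
  generalize CoalgebraStruct.comul (R := R) d = w
  induction w using TensorProduct.induction_on with
  | zero => simp
  | tmul a b => simp [hr.map_mul]
  | add a b ha hb => simp only [map_add, ha, hb]

theorem push_lam_mul_right (hr : IsRetr j lam) (y : WithConv (D →ₗ[R] T))
    (z : WithConv (D →ₗ[R] P)) :
    push lam (z * push j.toLinearMap y) = push lam z * y := by
  apply WithConv.ext
  ext d
  change lam (LinearMap.mul' R P (TensorProduct.map z.ofConv (j.toLinearMap ∘ₗ y.ofConv)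
    (CoalgebraStruct.comul (R := R) d))) =
    LinearMap.mul' R T (TensorProduct.map (lam ∘ₗ z.ofConv) y.ofConv
      (CoalgebraStruct.comul (R := R) d))
  generalize CoalgebraStruct.comul (R := R) d = w
  induction w using TensorProduct.induction_on with
  | zero => simp
  | tmul a b => simp [hr.map_mul']
  | add a b ha hb => simp only [map_add, ha, hb]

/-- Integration is multiplicative modulo `K²` on elements congruent modulo `K` to elements
coming from `T`. -/
theorem int_mul (hr : IsRetr j lam) (K : Ideal R) {x x' : WithConv (D →ₗ[R] P)}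
    {y y' : WithConv (D →ₗ[R] T)} (hx : IsIn K (x - push j.toLinearMap y))
    (hx' : IsIn K (x' - push j.toLinearMap y')) :
    IsIn (K * K) (push lam (x * x') - push lam x * push lam x') := by
  set δ := x - push j.toLinearMap y with hδ
  set δ' := x' - push j.toLinearMap y' with hδ'
  have ex : x = push j.toLinearMap y + δ := by rw [hδ]; abel
  have ex' : x' = push j.toLinearMap y' + δ' := by rw [hδ']; abel
  have key : push lam (x * x') - push lam x * push lam x' =
      push lam (δ * δ') - push lam δ * push lam δ' := by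
    rw [ex, ex']
    simp only [mul_add, add_mul, push_add, push_lam_mul_left hr, push_lam_mul_right hr,
      push_lam_j hr]
    abel
  rw [key]
  exact ((hx.mul hx').push lam).sub ((hx.push lam).mul (hx'.push lam))

/-- Element-wise version for algebra maps: if `W ≡ j ∘ y` modulo `K` then `lam ∘ W` is
multiplicative modulo `K²`. -/
theorem int_algHom_mul (hr : IsRetr j lam) (K : Ideal R) {C : Type*} [CommRing C] [Algebra R C]
    (W : C →ₐ[R] P) (y : C →ₐ[R] T)
    (h : ∀ c, W c - j (y c) ∈ K • (⊤ : Submodule R P)) (c d : C) :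
    lam (W (c * d)) - lam (W c) * lam (W d) ∈ (K * K) • (⊤ : Submodule R T) := by
  set δc := W c - j (y c) with hδc
  set δd := W d - j (y d) with hδd
  have ec : W c = j (y c) + δc := by rw [hδc]; abel
  have ed : W d = j (y d) + δd := by rw [hδd]; abel
  have key : lam (W (c * d)) - lam (W c) * lam (W d) = lam (δc * δd) - lam δc * lam δd := by
    rw [map_mul, ec, ed]
    simp only [mul_add, add_mul, map_add, hr.map_mul, hr.map_mul', hr.lam_j]
    ring
  rw [key]
  exact Submodule.sub_mem _ (map_mem_smul_top lam _ (mul_mem_smul_top K K (h c) (h d)))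
    (mul_mem_smul_top K K (map_mem_smul_top lam K (h c)) (map_mem_smul_top lam K (h d)))

end Retr

end Groth.Agent.Lib.Seat23.ConvInt
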