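import Mathlib
import Groth.Prelude.Def_ActBC

/-!
# Seat23FpqcBase — properties of a morphism of `S`-schemes are fpqc-local on the base `S` (helper23)

Namespace `Groth.Agent.Lib.Seat23.FpqcBase`.

`of_fpqc_base`: let `P` be a property of morphisms of schemes which is stable under base change, Zariski-local at
the target and descends along flat surjective quasi-compact morphisms. Let `f : S' ⟶ S` be flat such that every
affine open of `S` is the image of a quasi-compact open of `S'`, and `φ : A ⟶ B` a morphism of `S`-schemes.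
If every point of `S'` has an open neighbourhood `U` such that `P` holds for the base change of `φ` along
`U ⟶ S' ⟶ S`, then `P` holds for `φ`.
-/

set_option autoImplicit false
universe u
open CategoryTheory AlgebraicGeometry CategoryTheory.Limits MorphismProperty

namespace Groth.Agent.Lib.Seat23.FpqcBase

section Pasting

variable {A B Z Z' : Scheme.{u}} (φ : A ⟶ B) (c : Z ⟶ B) (r : Z' ⟶ Z)

lemma isPullback_snd_comp :
    IsPullback (pullback.lift (pullback.fst φ (r ≫ c)) (pullback.snd φ (r ≫ c) ≫ r)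
        (by rw [pullback.condition, Category.assoc]))
      (pullback.snd φ (r ≫ c)) (pullback.snd φ c) r := by
  refine IsPullback.of_right ?_ (pullback.lift_snd _ _ _) (IsPullback.of_hasPullback φ c)
  rw [pullback.lift_fst]
  exact IsPullback.of_hasPullback φ (r ≫ c)

variable (P : MorphismProperty Scheme.{u})

lemma pp_comp [P.IsStableUnderBaseChange] (h : P (pullback.snd φ c)) :
    P (pullback.snd φ (r ≫ c)) :=
  P.of_isPullback (isPullback_snd_comp φ c r) h

lemma pp_of_fpqc (Q : MorphismProperty Scheme.{u}) [P.DescendsAlong Q] (hr : Q r)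
    (h : P (pullback.snd φ (r ≫ c))) : P (pullback.snd φ c) :=
  of_isPullback_of_descendsAlong (P := P) (Q := Q) (isPullback_snd_comp φ c r).flip hr h

lemma pp_of_zariski [IsZariskiLocalAtTarget P] (𝒰 : Z.OpenCover)
    (h : ∀ i, P (pullback.snd φ (𝒰.f i ≫ c))) : P (pullback.snd φ c) := by
  refine (IsZariskiLocalAtTarget.iff_of_openCover (P := P) 𝒰).mpr fun i => ?_
  have sq := isPullback_snd_comp φ c (𝒰.f i)
  have e := sq.isoPullback
  have h1 : sq.isoPullback.hom ≫ pullback.snd (pullback.snd φ c) (𝒰.f i) =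
      pullback.snd φ (𝒰.f i ≫ c) := sq.isoPullback_hom_snd
  have h2 := h i
  rw [← h1] at h2
  exact (P.cancel_left_of_respectsIso sq.isoPullback.hom _).mp h2

end Pasting

section Main

variable (P : MorphismProperty Scheme.{u})

/-- the base change of a morphism of `S`-schemes, as a pullback square of schemes. -/
lemma isPullback_bc {S T : Scheme.{u}} (h : T ⟶ S) {A B : Over S} (φ : A ⟶ B) :
    IsPullback (pullback.fst A.hom h) ((Over.pullback h).map φ).left φ.left
      (pullback.fst B.hom h) := by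
  refine (IsPullback.of_right ?_ (ActBC.pullback_map_left_fst h φ)
    (IsPullback.of_hasPullback B.hom h).flip).flip
  have h1 : ((Over.pullback h).map φ).left ≫ pullback.snd B.hom h = pullback.snd A.hom h :=
    Over.w ((Over.pullback h).map φ)
  have h2 : φ.left ≫ B.hom = A.hom := Over.w φ
  rw [h1, h2]
  exact (IsPullback.of_hasPullback A.hom h).flip

lemma pp_of_bc [P.RespectsIso] {S T : Scheme.{u}} (h : T ⟶ S) {A B : Over S} (φ : A ⟶ B)
    (hP : P ((Over.pullback h).map φ).left) :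
    P (pullback.snd φ.left (pullback.fst B.hom h)) := by
  have sq := isPullback_bc h φ
  have h1 : sq.isoPullback.hom ≫ pullback.snd φ.left (pullback.fst B.hom h) =
      ((Over.pullback h).map φ).left := sq.isoPullback_hom_snd
  rw [← h1] at hP
  exact (P.cancel_left_of_respectsIso sq.isoPullback.hom _).mp hP

set_option backward.isDefEq.respectTransparency.types false in
/-- **Properties of morphisms of `S`-schemes are fpqc-local on `S`.** -/
theorem of_fpqc_base [P.IsStableUnderBaseChange] [IsZariskiLocalAtTarget P]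
    [P.DescendsAlong (@Surjective ⊓ @Flat ⊓ @QuasiCompact)]
    {S S' : Scheme.{u}} (f : S' ⟶ S) [Flat f]
    (hqc : ∀ V : S.Opens, IsAffineOpen V →
      ∃ W : S'.Opens, IsCompact (W : Set S') ∧ f.base '' (W : Set S') = (V : Set S))
    {A B : Over S} (φ : A ⟶ B)
    (h : ∀ z : S', ∃ U : S'.Opens, z ∈ U ∧ P ((Over.pullback (U.ι ≫ f)).map φ).left) :
    P φ.left := by
  -- reduce to `PP (𝟙)`
  suffices hpp : P (pullback.snd φ.left (𝟙 B.left)) by
    have e : pullback.snd φ.left (𝟙 B.left) = pullback.fst φ.left (𝟙 B.left) ≫ φ.left := by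
      rw [pullback.condition, Category.comp_id]
    rw [e] at hpp
    exact (P.cancel_left_of_respectsIso (pullback.fst φ.left (𝟙 B.left)) φ.left).mp hpp
  -- Zariski localisation on `S`
  have hcov : TopologicalSpace.IsOpenCover (fun V : S.affineOpens => B.hom ⁻¹ᵁ V.1) := by
    apply TopologicalSpace.IsOpenCover.mk
    rw [eq_top_iff]
    intro b _
    obtain ⟨_, ⟨V, hV, rfl⟩, hbV, -⟩ :=
      S.isBasis_affineOpens.exists_subset_of_mem_open (Set.mem_univ (B.hom.base b)) isOpen_univ
    exact TopologicalSpace.Opens.mem_iSup.mpr ⟨⟨V, hV⟩, hbV⟩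
  refine pp_of_zariski φ.left (𝟙 B.left) P (B.left.openCoverOfIsOpenCover _ hcov) fun V => ?_
  obtain ⟨V, hV⟩ := V
  change P (pullback.snd φ.left ((B.hom ⁻¹ᵁ V).ι ≫ 𝟙 B.left))
  rw [Category.comp_id]
  -- fpqc descent along the quasi-compact open `W` over `V`
  obtain ⟨W, hW, hWV⟩ := hqc V hV
  have hle : W ≤ f ⁻¹ᵁ V := by
    intro w hw
    change f.base w ∈ (V : Set S)
    rw [← hWV]
    exact ⟨w, hw, rfl⟩
  have hsurj : Surjective (f.resLE V W hle) := by
    constructor
    rintro ⟨v, hv⟩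
    have hv' : v ∈ f.base '' (W : Set S') := by rw [hWV]; exact hv
    obtain ⟨w, hw, rfl⟩ := hv'
    refine ⟨⟨w, hw⟩, ?_⟩
    apply Subtype.ext
    have := congrArg (fun φ : (W : Scheme.{u}) ⟶ S => φ.base ⟨w, hw⟩) (Scheme.Hom.resLE_comp_ι f hle)
    exact this
  have : IsAffine (V : Scheme.{u}) := hV
  have hcW : CompactSpace (W : Scheme.{u}) := isCompact_iff_compactSpace.mp hW
  have hqc' : QuasiCompact (f.resLE V W hle) := (quasiCompact_iff_compactSpace _).mpr hcW
  let bV := B.hom ∣_ V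
  let q := pullback.fst bV (f.resLE V W hle)
  have hq : (@Surjective ⊓ @Flat ⊓ @QuasiCompact : MorphismProperty Scheme.{u}) q :=
    ⟨⟨inferInstance, inferInstance⟩, inferInstance⟩
  refine pp_of_fpqc φ.left (B.hom ⁻¹ᵁ V).ι q P _ hq ?_
  -- Zariski localisation on the cover
  let σ : pullback bV (f.resLE V W hle) ⟶ S' := pullback.snd bV (f.resLE V W hle) ≫ W.ι
  have hσ : (q ≫ (B.hom ⁻¹ᵁ V).ι) ≫ B.hom = σ ≫ f := by
    change (pullback.fst bV (f.resLE V W hle) ≫ (B.hom ⁻¹ᵁ V).ι) ≫ B.hom =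
      (pullback.snd bV (f.resLE V W hle) ≫ W.ι) ≫ f
    rw [Category.assoc, ← morphismRestrict_ι, ← Category.assoc, pullback.condition, Category.assoc,
      Scheme.Hom.resLE_comp_ι, Category.assoc]
  choose U hzU hPU using h
  let Z' : Scheme.{u} := pullback bV (f.resLE V W hle)
  have hcov' : TopologicalSpace.IsOpenCover
      (fun z' : Z' => σ ⁻¹ᵁ U (σ.base z')) := by
    apply TopologicalSpace.IsOpenCover.mk
    rw [eq_top_iff]
    intro z' _
    exact TopologicalSpace.Opens.mem_iSup.mpr ⟨z', hzU (σ.base z')⟩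
  refine pp_of_zariski φ.left (q ≫ (B.hom ⁻¹ᵁ V).ι) P
    ((pullback bV (f.resLE V W hle)).openCoverOfIsOpenCover _ hcov') fun z' => ?_
  change P (pullback.snd φ.left ((σ ⁻¹ᵁ U (σ.base z')).ι ≫ q ≫ (B.hom ⁻¹ᵁ V).ι))
  set N := σ ⁻¹ᵁ U (σ.base z') with hN
  set U₀ := U (σ.base z') with hU₀
  have hr : Set.range (N.ι ≫ σ).base ⊆ Set.range U₀.ι.base := by
    rintro _ ⟨n, rfl⟩
    rw [Scheme.Opens.range_ι]
    exact n.2
  let gU := IsOpenImmersion.lift U₀.ι (N.ι ≫ σ) hr
  have hgU : gU ≫ U₀.ι = N.ι ≫ σ := IsOpenImmersion.lift_fac _ _ _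
  have hcomm : (N.ι ≫ q ≫ (B.hom ⁻¹ᵁ V).ι) ≫ B.hom = gU ≫ U₀.ι ≫ f := by
    rw [← Category.assoc gU, hgU, Category.assoc N.ι σ f, ← hσ]
    simp only [Category.assoc]
  let r : (N : Scheme.{u}) ⟶ pullback B.hom (U₀.ι ≫ f) := pullback.lift _ _ hcomm
  have hrc : r ≫ pullback.fst B.hom (U₀.ι ≫ f) = N.ι ≫ q ≫ (B.hom ⁻¹ᵁ V).ι :=
    pullback.lift_fst _ _ _
  rw [← hrc]
  exact pp_comp φ.left _ r P (pp_of_bc P (U₀.ι ≫ f) φ (hPU (σ.base z')))

end Main


end Groth.Agent.Lib.Seat23.FpqcBase
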