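import Mathlib.Algebra.MonoidAlgebra.Basic
import Mathlib.Algebra.MonoidAlgebra.MapDomain
import Mathlib.GroupTheory.QuotientGroup.Defs
import Mathlib.LinearAlgebra.FreeModule.Basic
import Mathlib.RingTheory.Flat.FaithfullyFlat.Basic
import Mathlib.RingTheory.RingHom.FaithfullyFlat

/-!
# The group algebra of a commutative group is free over the group algebra of a subgroup (helper89)

For an injective monoid homomorphism `ι : H →* G` into a commutative group whose range is closed under inverses,
a ring homomorphism `θ : R[H] →+* R[G]` with `θ (single h r) = single (ι h) r` makes `R[G]` a free `R[H]`-module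
(with basis a system of coset representatives), hence `θ` is faithfully flat when `R` is nontrivial.
-/

set_option autoImplicit false
universe u v w

namespace Groth.Agent.Lib.Seat89.DiagFlat

open MonoidAlgebra

section

variable {H : Type v} {G : Type w} [CommMonoid H] [CommGroup G]
  (ι : H →* G) (hinv : ∀ h : H, ∃ h' : H, ι h' = (ι h)⁻¹)

/-- The range of `ι`, a subgroup. -/
def rangeSubgroup : Subgroup G where
  carrier := Set.range ι
  mul_mem' := by
    rintro _ _ ⟨a, rfl⟩ ⟨b, rfl⟩
    exact ⟨a * b, map_mul ι a b⟩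
  one_mem' := ⟨1, map_one ι⟩
  inv_mem' := by
    rintro _ ⟨a, rfl⟩
    exact hinv a

theorem mem_rangeSubgroup (g : G) : g ∈ rangeSubgroup ι hinv ↔ ∃ h, ι h = g := Iff.rfl

/-- the chosen representative of a coset -/
noncomputable def rep (q : G ⧸ rangeSubgroup ι hinv) : G := Quotient.out q

theorem mk_rep (q : G ⧸ rangeSubgroup ι hinv) : (QuotientGroup.mk (rep ι hinv q) : G ⧸ rangeSubgroup ι hinv) = q :=
  QuotientGroup.out_eq' q

theorem exists_kap (g : G) : ∃ h : H, ι h = (rep ι hinv (QuotientGroup.mk g))⁻¹ * g := by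
  have h1 := mk_rep ι hinv (QuotientGroup.mk g)
  rw [QuotientGroup.eq] at h1
  exact h1

/-- the `H`-coordinate of `g` -/
noncomputable def kap (g : G) : H := Classical.choose (exists_kap ι hinv g)

theorem kap_spec (g : G) : ι (kap ι hinv g) * rep ι hinv (QuotientGroup.mk g) = g := by
  have := Classical.choose_spec (exists_kap ι hinv g)
  unfold kap
  rw [this, mul_comm, mul_inv_cancel_left]

theorem mk_mul_rep (h : H) (q : G ⧸ rangeSubgroup ι hinv) :
    (QuotientGroup.mk (ι h * rep ι hinv q) : G ⧸ rangeSubgroup ι hinv) = q := by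
  rw [QuotientGroup.mk_mul, mk_rep]
  have : (QuotientGroup.mk (ι h) : G ⧸ rangeSubgroup ι hinv) = 1 := by
    rw [QuotientGroup.eq_one_iff]
    exact ⟨h, rfl⟩
  rw [this, one_mul]

theorem kap_mul_rep (hι : Function.Injective ι) (h : H) (q : G ⧸ rangeSubgroup ι hinv) :
    kap ι hinv (ι h * rep ι hinv q) = h := by
  have h1 := kap_spec ι hinv (ι h * rep ι hinv q)
  rw [mk_mul_rep] at h1
  exact hι (mul_right_cancel h1)

end

section Free

variable (R : Type u) [CommRing R] {H : Type v} {G : Type w} [CommMonoid H] [CommGroup G]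
  (ι : H →* G) (hι : Function.Injective ι) (hinv : ∀ h : H, ∃ h' : H, ι h' = (ι h)⁻¹)
  (θ : MonoidAlgebra R H →+* MonoidAlgebra R G)
  (hθ : ∀ (h : H) (r : R), θ (MonoidAlgebra.single h r) = MonoidAlgebra.single (ι h) r)

include hι hθ hinv in
theorem free_of_injective :
    letI : Algebra (MonoidAlgebra R H) (MonoidAlgebra R G) := θ.toAlgebra
    Module.Free (MonoidAlgebra R H) (MonoidAlgebra R G) := by
  let _ : Algebra (MonoidAlgebra R H) (MonoidAlgebra R G) := θ.toAlgebra
  have hsmul : ∀ (a : MonoidAlgebra R H) (x : MonoidAlgebra R G), a • x = θ a * x := fun a x => by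
    rw [Algebra.smul_def]; rfl
  let Q := G ⧸ rangeSubgroup ι hinv
  let v : Q → MonoidAlgebra R G := fun q => MonoidAlgebra.single (rep ι hinv q) 1
  let Ψ : (Q →₀ MonoidAlgebra R H) →ₗ[MonoidAlgebra R H] MonoidAlgebra R G :=
    Finsupp.linearCombination (MonoidAlgebra R H) v
  -- the additive inverse
  let L : MonoidAlgebra R G →+ (Q →₀ MonoidAlgebra R H) :=
    (Finsupp.liftAddHom (fun g : G =>
      ((Finsupp.singleAddHom (QuotientGroup.mk g : Q)).comp
        (MonoidAlgebra.singleAddHom (kap ι hinv g) : R →+ MonoidAlgebra R H)))).comp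
      (MonoidAlgebra.coeffAddEquiv (R := R) (M := G)).toAddMonoidHom
  have hL : ∀ (g : G) (r : R), L (MonoidAlgebra.single g r) =
      Finsupp.single (QuotientGroup.mk g : Q) (MonoidAlgebra.single (kap ι hinv g) r) := by
    intro g r
    simp [L]
  have hΨ : ∀ (q : Q) (h : H) (r : R), Ψ (Finsupp.single q (MonoidAlgebra.single h r)) =
      MonoidAlgebra.single (ι h * rep ι hinv q) r := by
    intro q h r
    simp only [Ψ, Finsupp.linearCombination_single, hsmul, hθ, v, MonoidAlgebra.single_mul_single, mul_one]
  have hLΨ : ∀ y, L (Ψ y) = y := by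
    intro y
    induction y using Finsupp.induction_linear with
    | zero => simp
    | add x y hx hy => rw [map_add, map_add, hx, hy]
    | single q a =>
      induction a using MonoidAlgebra.induction_linear with
      | zero => simp
      | add x y hx hy => rw [Finsupp.single_add, map_add, map_add, hx, hy]
      | single h r => rw [hΨ, hL, mk_mul_rep, kap_mul_rep ι hinv hι]
  have hΨL : ∀ x, Ψ (L x) = x := by
    intro x
    induction x using MonoidAlgebra.induction_linear with
    | zero => simp
    | add x y hx hy => rw [map_add, map_add, hx, hy]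
    | single g r => rw [hL, hΨ, kap_spec]
  have hbij : Function.Bijective Ψ :=
    ⟨Function.LeftInverse.injective hLΨ, Function.RightInverse.surjective hΨL⟩
  exact Module.Free.of_equiv (LinearEquiv.ofBijective Ψ hbij)

include hι hθ hinv in
theorem faithfullyFlat_of_injective [Nontrivial R] : θ.FaithfullyFlat := by
  let _ : Algebra (MonoidAlgebra R H) (MonoidAlgebra R G) := θ.toAlgebra
  have hfree : Module.Free (MonoidAlgebra R H) (MonoidAlgebra R G) := free_of_injective R ι hι hinv θ hθ
  change Module.FaithfullyFlat (MonoidAlgebra R H) (MonoidAlgebra R G)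
  infer_instance

end Free

end Groth.Agent.Lib.Seat89.DiagFlat
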