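import Mathlib
import Groth.Agent.Lib.Seat27DSPoints

/-!
# Actions of diagonalisable groups on affine charts (helper23)

Namespace `Groth.Agent.Lib.Seat23.DiagAct`.

* `coaction_trivial`: a coaction `ρ : B → B[M]` (an `M`-grading), linear over `R`, trivial modulo a nilpotent
  ideal of `R`, is trivial.
* `PtAct S M X`: an action of `D_S(M)` on `X` given on points.
* test objects `ov β = Spec C → V ⊆ X` for `β : Γ(X, V) ⟶ C`, their points `pt β`, `ch β χ`, maps `mp`, `mpS`,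
  coordinates `Coord`, the universal object `Γ(V)[M]` (`BM`, `βu`, `χu`, `θ`), `coord_act`, and the
  thickening lemmas `act_mod`, `coord_mod`, `lands`.
-/

set_option autoImplicit false
universe u
open CategoryTheory MonoidalCategory CartesianMonoidalCategory MonObj GrpObj AlgebraicGeometry
open CategoryTheory.Limits
open Groth.Agent.Lib.Seat27.DSPoints

namespace Groth.Agent.Lib.Seat23.DiagAct

section Algebra

variable {R B : Type*} [CommRing R] [CommRing B] [Algebra R B] {M : Type*} [Group M]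

/-- a coaction `ρ : B → B[M]` of a group algebra (i.e. an `M`-grading of `B`), linear over `R`, which
is trivial modulo a nilpotent ideal `J` of `R`, is trivial. -/
theorem coaction_trivial (J : Ideal R) (hJ : IsNilpotent J) (ρ : B →+* MonoidAlgebra B M)
    (h1 : ∀ b, (ρ b).coeff.sum (fun _ c => c) = b)
    (h2 : ∀ b m, (ρ ((ρ b).coeff m)).coeff m = (ρ b).coeff m)
    (h3 : ∀ r : R, ρ (algebraMap R B r) = MonoidAlgebra.single 1 (algebraMap R B r))
    (h4 : ∀ b m, m ≠ 1 → (ρ b).coeff m ∈ J.map (algebraMap R B)) (b : B) :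
    ρ b = MonoidAlgebra.single 1 b := by
  classical
  have key : ∀ k : ℕ, ∀ b m, m ≠ 1 → (ρ b).coeff m ∈ (J ^ (k + 1)).map (algebraMap R B) := by
    intro k
    induction k with
    | zero => intro b m hm; simpa using h4 b m hm
    | succ k ih =>
      intro b m hm
      have hstep : ∀ x ∈ (J ^ (k + 1)) • (⊤ : Submodule R B),
          (ρ x).coeff m ∈ (J ^ (k + 1 + 1)).map (algebraMap R B) := by
        intro x hx
        refine Submodule.smul_induction_on hx ?_ ?_
        · intro r hr b' _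
          rw [Algebra.smul_def, map_mul, h3, MonoidAlgebra.coeff_single_one_mul, pow_succ,
            Ideal.map_mul]
          exact Ideal.mul_mem_mul (Ideal.mem_map_of_mem _ hr) (h4 b' m hm)
        · intro x y hx hy
          rw [map_add, MonoidAlgebra.coeff_add, Finsupp.add_apply]
          exact Ideal.add_mem _ hx hy
      rw [← h2 b m]
      apply hstep
      have := ih b m hm
      rw [Ideal.smul_top_eq_map]
      exact this
  obtain ⟨n, hn⟩ := hJ
  have hzero : ∀ b m, m ≠ 1 → (ρ b).coeff m = 0 := by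
    intro b m hm
    have := key n b m hm
    rw [pow_succ, hn, zero_mul, Ideal.zero_eq_bot, Ideal.map_bot] at this
    exact this
  have hsingle : ρ b = MonoidAlgebra.single 1 ((ρ b).coeff 1) := by
    apply MonoidAlgebra.coeff_injective
    ext m
    by_cases hm : m = 1
    · subst hm; simp
    · rw [hzero b m hm, MonoidAlgebra.coeff_single, Finsupp.single_apply, if_neg (Ne.symm hm)]
  have := h1 b
  rw [hsingle, MonoidAlgebra.coeff_single, Finsupp.sum_single_index rfl] at this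
  rw [hsingle, this]

end Algebra


/-- a point action of `D_S(M)` on `X`. -/
structure PtAct (S : Scheme.{u}) (M : Type) [AddCommGroup M] (X : Over S) where
  act : ∀ {T : Over S}, (T ⟶ Red.DS S M) → (T ⟶ X) → (T ⟶ X)
  nat : ∀ {T' T : Over S} (t : T' ⟶ T) (g : T ⟶ Red.DS S M) (x : T ⟶ X),
    t ≫ act g x = act (t ≫ g) (t ≫ x)
  one : ∀ {T : Over S} (x : T ⟶ X), act 1 x = x
  mul : ∀ {T : Over S} (g g' : T ⟶ Red.DS S M) (x : T ⟶ X), act (g * g') x = act g (act g' x)

section Chart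

variable {S : Scheme.{u}} {M : Type} [AddCommGroup M] {X : Over S}
  {U : S.Opens} (hU : IsAffineOpen U) {V : X.left.Opens} (hV : IsAffineOpen V)
  (hVU : V ≤ X.hom ⁻¹ᵁ U)

/-- the test object `Spec C ⟶ V ⊆ X` attached to a ring map `β : Γ(X, V) ⟶ C`. -/
noncomputable def ov {C : CommRingCat.{u}} (β : Γ(X.left, V) ⟶ C) : Over S :=
  Over.mk (Spec.map β ≫ hV.fromSpec ≫ X.hom)

/-- the point of `X` over `ov β`. -/
noncomputable def pt {C : CommRingCat.{u}} (β : Γ(X.left, V) ⟶ C) : ov hV β ⟶ X :=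
  Over.homMk (Spec.map β ≫ hV.fromSpec) (by simp [ov])

/-- base change of test objects. -/
noncomputable def mp {C C' : CommRingCat.{u}} (β : Γ(X.left, V) ⟶ C) (θ : C ⟶ C') :
    ov hV (β ≫ θ) ⟶ ov hV β :=
  Over.homMk (Spec.map θ) (by simp [ov, Spec.map_comp])

lemma mp_pt {C C' : CommRingCat.{u}} (β : Γ(X.left, V) ⟶ C) (θ : C ⟶ C') :
    mp hV β θ ≫ pt hV β = pt hV (β ≫ θ) := by
  apply Over.OverMorphism.ext
  change Spec.map θ ≫ Spec.map β ≫ hV.fromSpec = Spec.map (β ≫ θ) ≫ hV.fromSpec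
  rw [Spec.map_comp, Category.assoc]

/-- the point of `D_S(M)` over `ov β` with given character. -/
noncomputable def ch {C : CommRingCat.{u}} (β : Γ(X.left, V) ⟶ C) (χ : Multiplicative M →* C) :
    ov hV β ⟶ Red.DS S M :=
  Classical.choose (dsChar_surj (X := ov hV β) (M := M)
    (((Scheme.ΓSpecIso C).inv.hom : C →* Γ(Spec C, ⊤)).comp χ))

lemma dsChar_ch {C : CommRingCat.{u}} (β : Γ(X.left, V) ⟶ C) (χ : Multiplicative M →* C) (m : M) :
    dsChar (ch hV β χ) m = (Scheme.ΓSpecIso C).inv.hom (χ (Multiplicative.ofAdd m)) :=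
  Classical.choose_spec (dsChar_surj (X := ov hV β) (M := M)
    (((Scheme.ΓSpecIso C).inv.hom : C →* Γ(Spec C, ⊤)).comp χ)) m

lemma mp_ch {C C' : CommRingCat.{u}} (β : Γ(X.left, V) ⟶ C) (θ : C ⟶ C')
    (χ : Multiplicative M →* C) :
    mp hV β θ ≫ ch hV β χ = ch hV (β ≫ θ) ((θ.hom : C →* C').comp χ) := by
  apply dsChar_ext
  intro m
  rw [dsChar_comp, dsChar_ch, dsChar_ch]
  have := Scheme.ΓSpecIso_inv_naturality θ
  have h2 := congrArg (fun k => k.hom (χ (Multiplicative.ofAdd m))) this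
  simp only [CommRingCat.hom_comp, RingHom.coe_comp, Function.comp_apply] at h2
  exact h2.symm

lemma ch_mul {C : CommRingCat.{u}} (β : Γ(X.left, V) ⟶ C) (χ χ' : Multiplicative M →* C) :
    ch hV β χ * ch hV β χ' = ch hV β (χ * χ') := by
  apply dsChar_ext
  intro m
  rw [dsChar_mul, dsChar_ch, dsChar_ch, dsChar_ch, MonoidHom.mul_apply, map_mul]
  rfl

lemma ch_one {C : CommRingCat.{u}} (β : Γ(X.left, V) ⟶ C) :
    ch hV β (1 : Multiplicative M →* C) = 1 := by
  apply dsChar_ext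
  intro m
  rw [dsChar_one, dsChar_ch, MonoidHom.one_apply, map_one]
  rfl

/-- the underlying morphism of a point over `ov β`, with source displayed as `Spec C`. -/
noncomputable def lft {C : CommRingCat.{u}} {β : Γ(X.left, V) ⟶ C} {Y : Over S} (x : ov hV β ⟶ Y) :
    Spec C ⟶ Y.left := x.left

lemma lft_ext {C : CommRingCat.{u}} {β : Γ(X.left, V) ⟶ C} {Y : Over S} {x y : ov hV β ⟶ Y}
    (h : lft hV x = lft hV y) : x = y :=
  Over.OverMorphism.ext h

lemma lft_w {C : CommRingCat.{u}} {β : Γ(X.left, V) ⟶ C} {Y : Over S} (x : ov hV β ⟶ Y) :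
    lft hV x ≫ Y.hom = Spec.map β ≫ hV.fromSpec ≫ X.hom := Over.w x

lemma lft_pt {C : CommRingCat.{u}} (β : Γ(X.left, V) ⟶ C) :
    lft hV (pt hV β) = Spec.map β ≫ hV.fromSpec := rfl

lemma lft_mp_comp {C C' : CommRingCat.{u}} (β : Γ(X.left, V) ⟶ C) (θ : C ⟶ C') {Y : Over S}
    (x : ov hV β ⟶ Y) : lft hV (mp hV β θ ≫ x) = Spec.map θ ≫ lft hV x := rfl

/-- the point `x` of `X` over `ov β` has coordinate `r`. -/
def Coord {C : CommRingCat.{u}} (β : Γ(X.left, V) ⟶ C) (x : ov hV β ⟶ X)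
    (r : Γ(X.left, V) ⟶ C) : Prop :=
  lft hV x = Spec.map r ≫ hV.fromSpec

lemma coord_pt {C : CommRingCat.{u}} (β : Γ(X.left, V) ⟶ C) : Coord hV β (pt hV β) β := rfl

lemma coord_unique {C : CommRingCat.{u}} {β : Γ(X.left, V) ⟶ C} {x : ov hV β ⟶ X}
    {r r' : Γ(X.left, V) ⟶ C} (h : Coord hV β x r) (h' : Coord hV β x r') : r = r' := by
  unfold Coord at h h'
  rw [h, cancel_mono] at h'
  exact Spec.map_injective h'

lemma coord_ext {C : CommRingCat.{u}} {β : Γ(X.left, V) ⟶ C} {x y : ov hV β ⟶ X}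
    {r : Γ(X.left, V) ⟶ C} (h : Coord hV β x r) (h' : Coord hV β y r) : x = y := by
  apply lft_ext hV
  rw [h, h']

lemma coord_mp {C C' : CommRingCat.{u}} {β : Γ(X.left, V) ⟶ C} (θ : C ⟶ C') {x : ov hV β ⟶ X}
    {r : Γ(X.left, V) ⟶ C} (h : Coord hV β x r) :
    Coord hV (β ≫ θ) (mp hV β θ ≫ x) (r ≫ θ) := by
  unfold Coord at h ⊢
  rw [lft_mp_comp, h, Spec.map_comp, Category.assoc]

include hU in
lemma coord_struct {C : CommRingCat.{u}} {β : Γ(X.left, V) ⟶ C} {x : ov hV β ⟶ X}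
    {r : Γ(X.left, V) ⟶ C} (h : Coord hV β x r) :
    X.hom.appLE U V hVU ≫ r = X.hom.appLE U V hVU ≫ β := by
  have hw := lft_w hV x
  rw [h, Category.assoc, ← IsAffineOpen.SpecMap_appLE_fromSpec X.hom hU hV hVU, ← Category.assoc,
    ← Category.assoc, cancel_mono, ← Spec.map_comp, ← Spec.map_comp] at hw
  exact Spec.map_injective hw

lemma exists_coord {C : CommRingCat.{u}} {β : Γ(X.left, V) ⟶ C} (x : ov hV β ⟶ X)
    (h : ∀ t, (lft hV x).base t ∈ V) : ∃ r, Coord hV β x r := by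
  have hr : Set.range (lft hV x).base ⊆ Set.range hV.fromSpec.base := by
    rw [hV.range_fromSpec]
    rintro _ ⟨t, rfl⟩
    exact h t
  obtain ⟨r, hr'⟩ := Spec.map_surjective (IsOpenImmersion.lift hV.fromSpec (lft hV x) hr)
  refine ⟨r, ?_⟩
  unfold Coord
  rw [hr', IsOpenImmersion.lift_fac]

/-- morphisms of test objects which are compatible over `S`. -/
noncomputable def mpS {C C' : CommRingCat.{u}} (β : Γ(X.left, V) ⟶ C) (β' : Γ(X.left, V) ⟶ C')
    (θ : C ⟶ C') (h : X.hom.appLE U V hVU ≫ β ≫ θ = X.hom.appLE U V hVU ≫ β') :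
    ov hV β' ⟶ ov hV β :=
  Over.homMk (Spec.map θ) (by
    change Spec.map θ ≫ Spec.map β ≫ hV.fromSpec ≫ X.hom = Spec.map β' ≫ hV.fromSpec ≫ X.hom
    rw [← IsAffineOpen.SpecMap_appLE_fromSpec X.hom hU hV hVU, ← Spec.map_comp_assoc,
      ← Spec.map_comp_assoc, ← Spec.map_comp_assoc, h])

lemma lft_mpS_comp {C C' : CommRingCat.{u}} (β : Γ(X.left, V) ⟶ C) (β' : Γ(X.left, V) ⟶ C')
    (θ : C ⟶ C') (h : X.hom.appLE U V hVU ≫ β ≫ θ = X.hom.appLE U V hVU ≫ β') {Y : Over S}
    (x : ov hV β ⟶ Y) : lft hV (mpS hU hV hVU β β' θ h ≫ x) = Spec.map θ ≫ lft hV x := rfl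

lemma mpS_ch {C C' : CommRingCat.{u}} (β : Γ(X.left, V) ⟶ C) (β' : Γ(X.left, V) ⟶ C')
    (θ : C ⟶ C') (h : X.hom.appLE U V hVU ≫ β ≫ θ = X.hom.appLE U V hVU ≫ β')
    (χ : Multiplicative M →* C) :
    mpS hU hV hVU β β' θ h ≫ ch hV β χ = ch hV β' ((θ.hom : C →* C').comp χ) := by
  apply dsChar_ext
  intro m
  rw [dsChar_comp, dsChar_ch, dsChar_ch]
  have := Scheme.ΓSpecIso_inv_naturality θ
  have h2 := congrArg (fun k => k.hom (χ (Multiplicative.ofAdd m))) this
  simp only [CommRingCat.hom_comp, RingHom.coe_comp, Function.comp_apply] at h2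
  exact h2.symm

variable (V M) in
/-- the coordinate ring of `D(M) × V`. -/
noncomputable abbrev BM : CommRingCat.{u} := CommRingCat.of (MonoidAlgebra Γ(X.left, V) (Multiplicative M))

variable (V M) in
/-- the structure map `Γ(V) ⟶ Γ(V)[M]`. -/
noncomputable def βu : Γ(X.left, V) ⟶ BM M V :=
  CommRingCat.ofHom (MonoidAlgebra.singleOneRingHom)

variable (V M) in
/-- the tautological character. -/
noncomputable def χu : Multiplicative M →* BM M V := MonoidAlgebra.of _ _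

/-- the ring map `Γ(V)[M] ⟶ C` attached to a coordinate and a character. -/
noncomputable def θ {C : CommRingCat.{u}} (r : Γ(X.left, V) ⟶ C) (χ : Multiplicative M →* C) :
    BM M V ⟶ C :=
  CommRingCat.ofHom (MonoidAlgebra.liftNCRingHom r.hom χ (fun _ _ => Commute.all _ _))

lemma βu_θ {C : CommRingCat.{u}} (r : Γ(X.left, V) ⟶ C) (χ : Multiplicative M →* C) :
    βu M V ≫ θ r χ = r := by
  ext b
  exact (MonoidAlgebra.liftNCRingHom_single r.hom χ (fun _ _ => Commute.all _ _) 1 b).trans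
    (by rw [map_one, _root_.mul_one])

lemma θ_χu {C : CommRingCat.{u}} (r : Γ(X.left, V) ⟶ C) (χ : Multiplicative M →* C) :
    ((θ r χ).hom : BM M V →* C).comp (χu M V) = χ := by
  refine MonoidHom.ext fun m => ?_
  exact (MonoidAlgebra.liftNCRingHom_single r.hom χ (fun _ _ => Commute.all _ _) m 1).trans
    (by rw [map_one, _root_.one_mul])

variable (A : PtAct S M X)

/-- the universal orbit point `g_u · x_u` over `Spec Γ(V)[M]`. -/
noncomputable def pu : ov hV (βu M V) ⟶ X :=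
  A.act (ch hV (βu M V) (χu M V)) (pt hV (βu M V))

include hU hVU in
/-- the coordinate of `g · x` in terms of the coordinate of the universal orbit point. -/
lemma coord_act {C : CommRingCat.{u}} {β : Γ(X.left, V) ⟶ C} {x : ov hV β ⟶ X}
    {r : Γ(X.left, V) ⟶ C} (h : Coord hV β x r) (χ : Multiplicative M →* C)
    {ρ : Γ(X.left, V) ⟶ BM M V} (hρ : Coord hV (βu M V) (pu hV A) ρ) :
    Coord hV β (A.act (ch hV β χ) x) (ρ ≫ θ r χ) := by
  have hcompat : X.hom.appLE U V hVU ≫ βu M V ≫ θ r χ = X.hom.appLE U V hVU ≫ β := by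
    rw [βu_θ, coord_struct hU hV hVU h]
  let t := mpS hU hV hVU (βu M V) β (θ r χ) hcompat
  have h1 : t ≫ pt hV (βu M V) = x := by
    apply lft_ext hV
    rw [lft_mpS_comp, lft_pt, ← Spec.map_comp_assoc, βu_θ, h]
  have h2 : t ≫ ch hV (βu M V) (χu M V) = ch hV β χ := by
    rw [mpS_ch, θ_χu]
  have h3 : A.act (ch hV β χ) x = t ≫ pu hV A := by
    rw [pu, A.nat, h1, h2]
  unfold Coord at hρ ⊢
  rw [h3, lft_mpS_comp, hρ, ← Spec.map_comp_assoc]

section Thick

variable {S₀ : Scheme.{u}} (i₀ : S₀ ⟶ S) (J : Ideal Γ(S, U))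
  (hthick : ∀ (C : CommRingCat.{u}) (φ : Γ(S, U) ⟶ C),
    ∃ p : Spec (CommRingCat.of (C ⧸ J.map φ.hom)) ⟶ S₀,
      p ≫ i₀ = Spec.map (φ ≫ CommRingCat.ofHom (Ideal.Quotient.mk (J.map φ.hom))) ≫ hU.fromSpec)
  (triv : ∀ (T : Over S) (_ : T ⟶ Over.mk i₀) (g : T ⟶ Red.DS S M) (x : T ⟶ X), A.act g x = x)

/-- the reduction map modulo `J C`. -/
noncomputable def quot {C : CommRingCat.{u}} (β : Γ(X.left, V) ⟶ C) :
    C ⟶ CommRingCat.of (C ⧸ J.map (X.hom.appLE U V hVU ≫ β).hom) :=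
  CommRingCat.ofHom (Ideal.Quotient.mk _)

include hthick triv in
/-- modulo `J`, the action is trivial. -/
lemma act_mod {C : CommRingCat.{u}} (β : Γ(X.left, V) ⟶ C) (g : ov hV β ⟶ Red.DS S M)
    (x : ov hV β ⟶ X) :
    mp hV β (quot hVU J β) ≫ A.act g x = mp hV β (quot hVU J β) ≫ x := by
  obtain ⟨p₀, hp₀⟩ := hthick C (X.hom.appLE U V hVU ≫ β)
  have hw : p₀ ≫ i₀ = (ov hV (β ≫ quot hVU J β)).hom := by
    rw [hp₀]
    change _ = Spec.map (β ≫ quot hVU J β) ≫ hV.fromSpec ≫ X.hom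
    rw [← IsAffineOpen.SpecMap_appLE_fromSpec X.hom hU hV hVU, ← Spec.map_comp_assoc,
      Category.assoc]
    rfl
  let P₀ : ov hV (β ≫ quot hVU J β) ⟶ Over.mk i₀ := Over.homMk p₀ hw
  rw [A.nat]
  exact triv _ P₀ _ _

include hthick triv in
lemma coord_mod {C : CommRingCat.{u}} (β : Γ(X.left, V) ⟶ C) (g : ov hV β ⟶ Red.DS S M)
    (x : ov hV β ⟶ X) {r r' : Γ(X.left, V) ⟶ C} (h : Coord hV β x r)
    (h' : Coord hV β (A.act g x) r') : r' ≫ quot hVU J β = r ≫ quot hVU J β := by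
  have h1 := coord_mp hV (quot hVU J β) h'
  rw [act_mod hU hV hVU A i₀ J hthick triv β g x] at h1
  exact coord_unique hV h1 (coord_mp hV (quot hVU J β) h)

include hVU hthick triv in
/-- the orbit of a point of `V` stays in `V`. -/
lemma lands (hJ : IsNilpotent J) {C : CommRingCat.{u}} (β : Γ(X.left, V) ⟶ C)
    (g : ov hV β ⟶ Red.DS S M) (x : ov hV β ⟶ X) {r : Γ(X.left, V) ⟶ C}
    (h : Coord hV β x r) (t : Spec C) : (lft hV (A.act g x)).base t ∈ V := by
  have hle : J.map (X.hom.appLE U V hVU ≫ β).hom ≤ nilradical C := by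
    intro c hc
    obtain ⟨n, hn⟩ := hJ
    refine ⟨n, ?_⟩
    have h1 : c ^ n ∈ (J.map (X.hom.appLE U V hVU ≫ β).hom) ^ n := Ideal.pow_mem_pow hc n
    rw [← Ideal.map_pow, hn, Ideal.zero_eq_bot, Ideal.map_bot] at h1
    exact h1
  obtain ⟨t₀, rfl⟩ := (PrimeSpectrum.comap_quotientMk_bijective_of_le_nilradical hle).2 t
  have h1 := congrArg (fun k => lft hV k)
    (act_mod hU hV hVU A i₀ J hthick triv β g x)
  simp only [lft_mp_comp] at h1
  have h2 := congrArg (fun k : Spec (CommRingCat.of (C ⧸ J.map (X.hom.appLE U V hVU ≫ β).hom)) ⟶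
    X.left => k.base t₀) h1
  simp only [Scheme.Hom.comp_base, TopCat.hom_comp] at h2
  have h3 : (lft hV (A.act g x)).base ((Spec.map (quot hVU J β)).base t₀) =
      (lft hV x).base ((Spec.map (quot hVU J β)).base t₀) := h2
  change (lft hV (A.act g x)).base ((Spec.map (quot hVU J β)).base t₀) ∈ V
  rw [h3, h]
  have hmem : (Spec.map r ≫ hV.fromSpec).base ((Spec.map (quot hVU J β)).base t₀) ∈
      Set.range hV.fromSpec.base := ⟨(Spec.map r).base ((Spec.map (quot hVU J β)).base t₀), rfl⟩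
  rw [hV.range_fromSpec] at hmem
  exact hmem

end Thick

end Chart

end Groth.Agent.Lib.Seat23.DiagAct
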