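import Groth.Agent.Lib.Seat23DiagAct
import Groth.Agent.Lib.Seat27ConstPoints

/-!
# Actions of diagonalisable groups trivial modulo a nilpotent thickening (helper23)

Namespace `Groth.Agent.Lib.Seat23.DiagAct` (continuation of `Seat23DiagAct`).

* ring lemmas `liftNCRingHom_apply`, `coeff_mem_of_mem_map`, `coeff_sum_single_single`;
* `exists_factor`: a morphism landing in an affine open factors through `toSpecΓ`;
* `rho_counit`, `rho_coassoc`: the coordinate of the universal orbit point is a coaction;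
* `pu_eq`, `act_eq_of_lands`: triviality on an affine chart;
* `NilThick`, `PtAct.trivial`: a point action of `D_S(M)` trivial modulo a nilpotent thickening is trivial.
-/

set_option autoImplicit false
universe u
open CategoryTheory MonoidalCategory CartesianMonoidalCategory MonObj GrpObj AlgebraicGeometry
open CategoryTheory.Limits
open Groth.Agent.Lib.Seat27.DSPoints

namespace Groth.Agent.Lib.Seat23.DiagAct

section RingLemmas

variable {k R : Type*} [CommRing k] [CommRing R] {G : Type*} [Monoid G]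

lemma liftNCRingHom_apply (f : k →+* R) (g : G →* R) (z : MonoidAlgebra k G) :
    MonoidAlgebra.liftNCRingHom f g (fun _ _ => Commute.all _ _) z =
      z.coeff.sum (fun m c => f c * g m) := by
  conv_lhs => rw [← MonoidAlgebra.sum_coeff_single z]
  rw [map_finsuppSum]
  simp

lemma coeff_mem_of_mem_map (I : Ideal k) (z : MonoidAlgebra k G)
    (hz : z ∈ I.map (MonoidAlgebra.singleOneRingHom : k →+* MonoidAlgebra k G)) (m : G) :
    z.coeff m ∈ I := by
  have hle : I.map (MonoidAlgebra.singleOneRingHom : k →+* MonoidAlgebra k G) ≤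
      RingHom.ker (MonoidAlgebra.mapRingHom G (Ideal.Quotient.mk I)) := by
    rw [Ideal.map_le_iff_le_comap]
    intro b hb
    rw [Ideal.mem_comap, RingHom.mem_ker]
    change MonoidAlgebra.mapRingHom G (Ideal.Quotient.mk I) (MonoidAlgebra.single 1 b) = 0
    rw [MonoidAlgebra.mapRingHom_single, Ideal.Quotient.eq_zero_iff_mem.mpr hb]
    simp
  have := hle hz
  rw [RingHom.mem_ker] at this
  have h2 := congrArg (fun w => w.coeff m) this
  simp only [MonoidAlgebra.coeff_mapRingHom, MonoidAlgebra.coeff_zero, Finsupp.coe_zero,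
    Pi.zero_apply] at h2
  exact Ideal.Quotient.eq_zero_iff_mem.mp h2

lemma coeff_sum_single_single (z : G →₀ k) (F : G → k → MonoidAlgebra k G)
    (hF : ∀ m, F m 0 = 0) (m₀ : G) :
    (z.sum (fun m c => MonoidAlgebra.single m (F m c)) :
      MonoidAlgebra (MonoidAlgebra k G) G).coeff m₀ = F m₀ (z m₀) := by
  classical
  rw [MonoidAlgebra.coeff_finsuppSum, Finsupp.sum_apply]
  simp only [MonoidAlgebra.coeff_single, Finsupp.single_apply]
  rw [Finsupp.sum_ite_eq']
  split_ifs with h
  · rfl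
  · rw [Finsupp.notMem_support_iff.mp h, hF]

end RingLemmas

/-- any morphism landing in an affine open `V` factors through `toSpecΓ`. -/
lemma exists_factor {X : Scheme.{u}} {V : X.Opens} (hV : IsAffineOpen V) {Y : Scheme.{u}}
    (f : Y ⟶ X) (h : ∀ y, f.base y ∈ V) :
    ∃ r : Γ(X, V) ⟶ Γ(Y, ⊤), f = Y.toSpecΓ ≫ Spec.map r ≫ hV.fromSpec := by
  have hr : Set.range f.base ⊆ Set.range hV.fromSpec.base := by
    rw [hV.range_fromSpec]
    rintro _ ⟨t, rfl⟩
    exact h t
  let f' := IsOpenImmersion.lift hV.fromSpec f hr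
  refine ⟨(Scheme.ΓSpecIso Γ(X, V)).inv ≫ f'.appTop, ?_⟩
  rw [Spec.map_comp, Category.assoc, ← Category.assoc, ← Scheme.toSpecΓ_naturality,
    Category.assoc, ← Category.assoc _ _ hV.fromSpec, toSpecΓ_SpecMap_ΓSpecIso_inv,
    Category.id_comp, IsOpenImmersion.lift_fac]

section ChartThm

variable {S : Scheme.{u}} {M : Type} [AddCommGroup M] {X : Over S}
  {U : S.Opens} (hU : IsAffineOpen U) {V : X.left.Opens} (hV : IsAffineOpen V)
  (hVU : V ≤ X.hom ⁻¹ᵁ U) (A : PtAct S M X)

/-- counit: `ε ∘ ρ = id`. -/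
lemma rho_counit {ρ : Γ(X.left, V) ⟶ BM M V} (hρ : Coord hV (βu M V) (pu hV A) ρ) :
    ρ ≫ θ (𝟙 Γ(X.left, V)) (1 : Multiplicative M →* Γ(X.left, V)) = 𝟙 _ := by
  set ε := θ (𝟙 Γ(X.left, V)) (1 : Multiplicative M →* Γ(X.left, V)) with hε
  have h1 : mp hV (βu M V) ε ≫ pu hV A = pt hV (βu M V ≫ ε) := by
    rw [pu, A.nat, mp_ch, mp_pt, θ_χu, ch_one, A.one]
  have h2 := coord_mp hV ε hρ
  rw [h1] at h2
  rw [coord_unique hV h2 (coord_pt hV _), βu_θ]

variable (M V) in
/-- the coordinate ring of `D(M) × D(M) × V`. -/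
noncomputable abbrev BMM : CommRingCat.{u} :=
  CommRingCat.of (MonoidAlgebra (MonoidAlgebra Γ(X.left, V) (Multiplicative M)) (Multiplicative M))

variable (M V) in
noncomputable def ιout : BM M V ⟶ BMM M V := CommRingCat.ofHom MonoidAlgebra.singleOneRingHom

variable (M V) in
noncomputable def χ₁ : Multiplicative M →* BMM M V := MonoidAlgebra.of _ _

variable (M V) in
noncomputable def χ₂ : Multiplicative M →* BMM M V :=
  ((ιout M V).hom : BM M V →* BMM M V).comp (χu M V)

lemma θ_β₂_χ₂ : θ (βu M V ≫ ιout M V) (χ₂ M V) = ιout M V := by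
  apply CommRingCat.hom_ext
  apply MonoidAlgebra.ringHom_ext
  · intro b
    have := congrArg (fun k => k.hom b) (βu_θ (βu M V ≫ ιout M V) (χ₂ M V))
    exact this
  · intro m
    have := congrArg (fun k => k m) (θ_χu (βu M V ≫ ιout M V) (χ₂ M V))
    exact this

include hU hVU in
/-- coassociativity: `ρ (ρ_m b) = ρ_m b · m`. -/
lemma rho_coassoc {ρ : Γ(X.left, V) ⟶ BM M V} (hρ : Coord hV (βu M V) (pu hV A) ρ)
    (b : Γ(X.left, V)) (m : Multiplicative M) :
    ρ.hom ((ρ.hom b).coeff m) = MonoidAlgebra.single m ((ρ.hom b).coeff m) := by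
  set β₂ := βu M V ≫ ιout M V with hβ₂
  have ha := coord_act hU hV hVU A (coord_pt hV β₂) (χ₂ M V) hρ
  rw [θ_β₂_χ₂] at ha
  have hb := coord_act hU hV hVU A ha (χ₁ M V) hρ
  have hc := coord_act hU hV hVU A (coord_pt hV β₂) (χ₁ M V * χ₂ M V) hρ
  rw [← ch_mul, A.mul] at hc
  have heq := coord_unique hV hc hb
  have h1 := congrArg (fun k => k.hom b) heq
  simp only [CommRingCat.hom_comp, RingHom.coe_comp, Function.comp_apply] at h1
  unfold θ at h1
  simp only [CommRingCat.hom_ofHom] at h1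
  rw [liftNCRingHom_apply, liftNCRingHom_apply] at h1
  have hL : ∀ (m' : Multiplicative M) (c : Γ(X.left, V)),
      β₂.hom c * (χ₁ M V * χ₂ M V) m' =
        (MonoidAlgebra.single m' (MonoidAlgebra.single m' c) : BMM M V) := by
    intro m' c
    change (MonoidAlgebra.single 1 (MonoidAlgebra.single 1 c) : BMM M V) *
      ((MonoidAlgebra.single m' 1 : BMM M V) *
        (MonoidAlgebra.single 1 (MonoidAlgebra.single m' 1) : BMM M V)) = _
    simp only [MonoidAlgebra.single_mul_single, _root_.one_mul, _root_.mul_one]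
  have hR : ∀ (m' : Multiplicative M) (c : Γ(X.left, V)),
      (ρ ≫ ιout M V).hom c * (χ₁ M V) m' = (MonoidAlgebra.single m' (ρ.hom c) : BMM M V) := by
    intro m' c
    change (MonoidAlgebra.single 1 (ρ.hom c) : BMM M V) * (MonoidAlgebra.single m' 1 : BMM M V) = _
    simp only [MonoidAlgebra.single_mul_single, _root_.one_mul, _root_.mul_one]
  simp only [hL, hR] at h1
  have h2 := congrArg (fun w => w.coeff m) h1
  rw [coeff_sum_single_single _ (fun m c => MonoidAlgebra.single m c) (fun m => by simp),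
    coeff_sum_single_single _ (fun _ c => ρ.hom c) (fun _ => map_zero _)] at h2
  exact h2.symm

section Thick2

variable {S₀ : Scheme.{u}} (i₀ : S₀ ⟶ S) (J : Ideal Γ(S, U))
  (hthick : ∀ (C : CommRingCat.{u}) (φ : Γ(S, U) ⟶ C),
    ∃ p : Spec (CommRingCat.of (C ⧸ J.map φ.hom)) ⟶ S₀,
      p ≫ i₀ = Spec.map (φ ≫ CommRingCat.ofHom (Ideal.Quotient.mk (J.map φ.hom))) ≫ hU.fromSpec)
  (triv : ∀ (T : Over S) (_ : T ⟶ Over.mk i₀) (g : T ⟶ Red.DS S M) (x : T ⟶ X), A.act g x = x)

include hVU hthick triv in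
/-- the universal orbit point is the universal point: the action is trivial on `V`. -/
theorem pu_eq (hJ : IsNilpotent J) : pu hV A = pt hV (βu M V) := by
  obtain ⟨ρ, hρ⟩ := exists_coord hV (pu hV A)
    (lands hU hV hVU A i₀ J hthick triv hJ (βu M V) _ _ (coord_pt hV _))
  suffices hρβ : ρ = βu M V by
    rw [hρβ] at hρ
    exact coord_ext hV hρ (coord_pt hV _)
  let _ : Algebra Γ(S, U) Γ(X.left, V) := (X.hom.appLE U V hVU).hom.toAlgebra
  have hmain : ∀ b, ρ.hom b = MonoidAlgebra.single 1 b := by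
    refine coaction_trivial (R := Γ(S, U)) (B := Γ(X.left, V)) (M := Multiplicative M)
      J hJ ρ.hom ?_ ?_ ?_ ?_
    · intro b
      have h := congrArg (fun k => k.hom b) (rho_counit hV A hρ)
      simp only [CommRingCat.hom_comp, RingHom.coe_comp, Function.comp_apply,
        CommRingCat.hom_id, RingHom.id_apply] at h
      unfold θ at h
      simp only [CommRingCat.hom_ofHom] at h
      rw [liftNCRingHom_apply] at h
      simpa using h
    · intro b m
      rw [rho_coassoc hU hV hVU A hρ b m, MonoidAlgebra.coeff_single, Finsupp.single_eq_same]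
    · intro r
      have h := congrArg (fun k => k.hom r) (coord_struct hU hV hVU hρ)
      exact h
    · intro b m hm
      have h := congrArg (fun k => k.hom b)
        (coord_mod hU hV hVU A i₀ J hthick triv (βu M V) _ _ (coord_pt hV _) hρ)
      have h' : ρ.hom b - MonoidAlgebra.single 1 b ∈
          J.map (X.hom.appLE U V hVU ≫ βu M V).hom := by
        rw [← Ideal.Quotient.eq]
        exact h
      rw [CommRingCat.hom_comp, ← Ideal.map_map] at h'
      have h2 := coeff_mem_of_mem_map _ _ h' m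
      rw [MonoidAlgebra.coeff_sub, Finsupp.sub_apply, MonoidAlgebra.coeff_single,
        Finsupp.single_eq_of_ne hm, sub_zero] at h2
      exact h2
  apply CommRingCat.hom_ext
  refine RingHom.ext fun b => ?_
  exact hmain b

include hV hVU hthick triv in
/-- the action is trivial on points landing in `V`. -/
theorem act_eq_of_lands (hJ : IsNilpotent J) (T : Over S) (g : T ⟶ Red.DS S M) (x : T ⟶ X)
    (h : ∀ t, x.left.base t ∈ V) : A.act g x = x := by
  obtain ⟨r, hr⟩ := exists_factor hV x.left h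
  let c : Multiplicative M →* Γ(T.left, ⊤) :=
    { toFun := fun m => dsChar g m.toAdd
      map_one' := dsChar_zero g
      map_mul' := fun m m' => dsChar_add g m.toAdd m'.toAdd }
  let τl : T.left ⟶ Spec (BM M V) := T.left.toSpecΓ ≫ Spec.map (θ r c)
  have hτ : τl ≫ Spec.map (βu M V) ≫ hV.fromSpec = x.left := by
    rw [hr, Category.assoc, ← Spec.map_comp_assoc, βu_θ]
  let τ : T ⟶ ov hV (βu M V) := Over.homMk τl (by
    change τl ≫ Spec.map (βu M V) ≫ hV.fromSpec ≫ X.hom = T.hom
    rw [← Category.assoc, ← Category.assoc, Category.assoc τl, hτ]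
    exact Over.w x)
  have h1 : τ ≫ pt hV (βu M V) = x := by
    apply Over.OverMorphism.ext
    exact hτ
  have h2 : τ ≫ ch hV (βu M V) (χu M V) = g := by
    apply dsChar_ext
    intro m
    rw [dsChar_comp, dsChar_ch]
    have e1 : (Scheme.ΓSpecIso (BM M V)).inv ≫ τl.appTop = θ r c := by
      rw [Scheme.Hom.comp_appTop, ← Category.assoc, ← Scheme.ΓSpecIso_inv_naturality,
        Scheme.toSpecΓ_appTop, Category.assoc, Iso.inv_hom_id, Category.comp_id]
    have e2 := congrArg (fun k => k.hom (χu M V (Multiplicative.ofAdd m))) e1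
    have e3 := congrArg (fun k => k (Multiplicative.ofAdd m)) (θ_χu r c)
    exact e2.trans e3
  rw [← h1, ← h2, ← A.nat]
  change τ ≫ pu hV A = _
  rw [pu_eq hU hV hVU A i₀ J hthick triv hJ]

end Thick2

end ChartThm

/-- `i₀ : S₀ ⟶ S` is a nilpotent thickening, in the form used here: locally on `S` there is a nilpotent
ideal `J` such that `Spec (C / I) ⟶ Spec C ⟶ S` factors through `i₀` for every `Γ(S, U)`-algebra `C` and
every ideal `I ⊇ J C`. -/
def NilThick {S₀ S : Scheme.{u}} (i₀ : S₀ ⟶ S) : Prop :=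
  ∀ s : S, ∃ (U : S.Opens) (hU : IsAffineOpen U) (J : Ideal Γ(S, U)), s ∈ U ∧ IsNilpotent J ∧
    ∀ (C : CommRingCat.{u}) (φ : Γ(S, U) ⟶ C) (I : Ideal C), J.map φ.hom ≤ I →
      ∃ p : Spec (CommRingCat.of (C ⧸ I)) ⟶ S₀,
        p ≫ i₀ = Spec.map (φ ≫ CommRingCat.ofHom (Ideal.Quotient.mk I)) ≫ hU.fromSpec

open Groth.Agent.Lib.Seat27.ConstPoints in
/-- an action of a diagonalisable group which is trivial modulo a nilpotent thickening of the base
is trivial. -/
theorem PtAct.trivial {S S₀ : Scheme.{u}} {M : Type} [AddCommGroup M] {X : Over S} (i₀ : S₀ ⟶ S)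
    (hthick : NilThick i₀) (A : PtAct S M X)
    (triv : ∀ (T : Over S) (_ : T ⟶ Over.mk i₀) (g : T ⟶ Red.DS S M) (x : T ⟶ X), A.act g x = x)
    (T : Over S) (g : T ⟶ Red.DS S M) (x : T ⟶ X) : A.act g x = x := by
  apply over_hom_ext_of_cover
  intro t
  obtain ⟨U, hU, J, hsU, hJ, hth⟩ := hthick (T.hom.base t)
  have hxU : x.left.base t ∈ X.hom ⁻¹ᵁ U := by
    change X.hom.base (x.left.base t) ∈ U
    have := congrArg (fun k => k.base t) (Over.w x)
    simp only [Scheme.Hom.comp_base, TopCat.hom_comp, ContinuousMap.comp_apply] at this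
    rw [this]
    exact hsU
  obtain ⟨_, ⟨V, hV, rfl⟩, hxV, hVU⟩ :=
    X.left.isBasis_affineOpens.exists_subset_of_mem_open hxU (X.hom ⁻¹ᵁ U).2
  refine ⟨x.left ⁻¹ᵁ V, hxV, ?_⟩
  rw [A.nat]
  exact act_eq_of_lands hU hV hVU A i₀ J (fun C φ => hth C φ _ le_rfl) triv hJ _ _ _
    (fun w => w.2)


end Groth.Agent.Lib.Seat23.DiagAct
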