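import Groth.Agent.Lib.Seat23DiagActB
import Groth.Agent.Lib.Helper12Act
import Groth.Prelude.Def_ActBC
import Mathlib.AlgebraicGeometry.Morphisms.ClosedImmersion
import Mathlib.AlgebraicGeometry.Morphisms.Flat

/-!
# Groups of multiplicative type acting trivially modulo a nilpotent ideal (helper23)

Namespace `Groth.Agent.Lib.Seat23.DiagAct` (continuation of `Seat23DiagActB`).

* `PtAct.ofAction`: the point action of `D_S(M)` deduced from an action of a group `G ≅ D_S(M)`;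
* `nilThick_of_isClosedImmersion`, `NilThick.bc`;
* `local_trivial`, `trivial_of_fpqc`: an action of a group of multiplicative type (fpqc-locally diagonalisable) on
  any `S`-scheme which is trivial on points over `S₀` (a nilpotent thickening `S₀ ⟶ S`) is trivial.
-/

set_option autoImplicit false
universe u
open CategoryTheory MonoidalCategory CartesianMonoidalCategory MonObj GrpObj AlgebraicGeometry
open CategoryTheory.Limits
open Groth.Agent.Lib.Seat27.DSPoints

namespace Groth.Agent.Lib.Seat23.DiagAct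

/-- the point action of `D_S(M)` deduced from an action of a group `G ≅ D_S(M)`. -/
noncomputable def PtAct.ofAction {S : Scheme.{u}} {M : Type} [AddCommGroup M] {G X : Over S}
    [GrpObj G] (a : AlgGrp.Action G X) (e : Grp.mk G ≅ Grp.mk (Red.DS S M)) : PtAct S M X where
  act g x := lift (g ≫ e.inv.hom.hom) x ≫ a.act
  nat t g x := by
    rw [← Category.assoc, comp_lift, Category.assoc]
  one x := by
    rw [MonObj.one_comp, Groth.Agent.Lib.Helper12.act_one]
  mul g g' x := by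
    rw [MonObj.mul_comp, Groth.Agent.Lib.Helper12.act_mul]

/-- a closed immersion with locally nilpotent ideal is a nilpotent thickening. -/
theorem nilThick_of_isClosedImmersion {S S₀ : Scheme.{u}} (i₀ : S₀ ⟶ S) [IsClosedImmersion i₀]
    (hnil : ∀ x : S, ∃ U : S.affineOpens, x ∈ (U : S.Opens) ∧ IsNilpotent (i₀.ker.ideal U)) :
    NilThick i₀ := by
  intro s
  obtain ⟨⟨U, hU⟩, hsU, hJ⟩ := hnil s
  refine ⟨U, hU, i₀.ker.ideal ⟨U, hU⟩, hsU, hJ, fun C φ I hI => ?_⟩
  have hker : i₀.ker.ideal ⟨U, hU⟩ = RingHom.ker (i₀.app U).hom :=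
    Scheme.Hom.ker_apply i₀ ⟨U, hU⟩
  have hsurj : Function.Surjective (i₀.app U).hom := i₀.app_surjective U hU
  set J := i₀.ker.ideal ⟨U, hU⟩ with hJdef
  let g : Γ(S, U) →+* C ⧸ I := (Ideal.Quotient.mk _).comp φ.hom
  have hg : RingHom.ker (i₀.app U).hom ≤ RingHom.ker g := by
    rw [← hker]
    intro r hr
    rw [RingHom.mem_ker]
    exact Ideal.Quotient.eq_zero_iff_mem.mpr (hI (Ideal.mem_map_of_mem _ hr))
  let κ : Γ(S₀, i₀ ⁻¹ᵁ U) →+* C ⧸ I :=
    (i₀.app U).hom.liftOfSurjective hsurj ⟨g, hg⟩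
  have hκ : κ.comp (i₀.app U).hom = g := RingHom.liftOfSurjective_comp _ hsurj ⟨g, hg⟩
  have hU₀ : IsAffineOpen (i₀ ⁻¹ᵁ U) := hU.preimage i₀
  refine ⟨Spec.map (CommRingCat.ofHom κ) ≫ hU₀.fromSpec, ?_⟩
  rw [Category.assoc, ← IsAffineOpen.SpecMap_appLE_fromSpec i₀ hU hU₀ le_rfl,
    ← Spec.map_comp_assoc]
  congr 2
  rw [Scheme.Hom.appLE_eq_app]
  apply CommRingCat.hom_ext
  exact hκ

/-- nilpotent thickenings are stable under base change. -/
theorem NilThick.bc {S S₀ S' : Scheme.{u}} {i₀ : S₀ ⟶ S} (h : NilThick i₀) (f : S' ⟶ S) :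
    NilThick (pullback.snd i₀ f) := by
  intro s'
  obtain ⟨U, hU, J, hsU, hJ, hth⟩ := h (f.base s')
  obtain ⟨_, ⟨U', hU', rfl⟩, hs'U', hU'U⟩ :=
    S'.isBasis_affineOpens.exists_subset_of_mem_open (show s' ∈ f ⁻¹ᵁ U from hsU) (f ⁻¹ᵁ U).2
  have hU'' : IsAffineOpen (U' : S'.Opens) := hU'
  have hle : (U' : S'.Opens) ≤ f ⁻¹ᵁ U := hU'U
  refine ⟨U', hU'', J.map (f.appLE U U' hle).hom, hs'U', ?_, fun C φ' I hI => ?_⟩
  · obtain ⟨n, hn⟩ := hJ
    refine ⟨n, ?_⟩
    rw [← Ideal.map_pow, hn, Ideal.zero_eq_bot, Ideal.map_bot, Ideal.zero_eq_bot]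
  · have hI' : J.map (f.appLE U U' hle ≫ φ').hom ≤ I := by
      rw [CommRingCat.hom_comp, ← Ideal.map_map]
      exact hI
    obtain ⟨p, hp⟩ := hth C (f.appLE U U' hle ≫ φ') I hI'
    have hcomm : p ≫ i₀ =
        (Spec.map (φ' ≫ CommRingCat.ofHom (Ideal.Quotient.mk I)) ≫ hU''.fromSpec) ≫ f := by
      rw [hp]
      conv_rhs => rw [Category.assoc, ← IsAffineOpen.SpecMap_appLE_fromSpec f hU hU'' hle,
        ← Spec.map_comp_assoc]
      rw [Category.assoc]
    exact ⟨pullback.lift p _ hcomm, pullback.lift_snd _ _ _⟩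


/-- local step: over `h : S' ⟶ S` on which `G` becomes diagonalisable, all points with values in
`S'`-schemes are fixed. -/
theorem local_trivial {S S₀ S' : Scheme.{u}} (i₀ : S₀ ⟶ S) (hthick : NilThick i₀)
    {G X : Over S} [GrpObj G] (a : AlgGrp.Action G X)
    (h0 : ∀ (Y : Over S) (_ : Y ⟶ Over.mk i₀) (g : Y ⟶ G) (x : Y ⟶ X), lift g x ≫ a.act = x)
    (h : S' ⟶ S) {M : Type} [AddCommGroup M] (e : Grp.mk (Red.bc h G) ≅ Grp.mk (Red.DS S' M))
    (T' : Over S') (g : (Over.map h).obj T' ⟶ G) (x : (Over.map h).obj T' ⟶ X) :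
    lift g x ≫ a.act = x := by
  let A := PtAct.ofAction (a.bc h) e
  have triv : ∀ (T : Over S') (_ : T ⟶ Over.mk (pullback.snd i₀ h)) (g₀ : T ⟶ Red.DS S' M)
      (ξ : T ⟶ Red.bc h X), A.act g₀ ξ = ξ := by
    intro T p g₀ ξ
    let P : (Over.map h).obj T ⟶ Over.mk i₀ := Over.homMk (p.left ≫ pullback.fst i₀ h) (by
      have hw : p.left ≫ pullback.snd i₀ h = T.hom := Over.w p
      change (p.left ≫ pullback.fst i₀ h) ≫ i₀ = T.hom ≫ h
      rw [Category.assoc, pullback.condition, ← Category.assoc, hw])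
    obtain ⟨g₁, hg₁⟩ := ((Over.mapPullbackAdj h).homEquiv T G).surjective (g₀ ≫ e.inv.hom.hom)
    obtain ⟨x₁, hx₁⟩ := ((Over.mapPullbackAdj h).homEquiv T X).surjective ξ
    change lift (g₀ ≫ e.inv.hom.hom) ξ ≫ (a.bc h).act = ξ
    rw [← hg₁, ← hx₁, AlgGrp.Action.lift_homEquiv_bc_act, h0 _ P]
  have all := PtAct.trivial (pullback.snd i₀ h) (hthick.bc h) A triv
  have key := all T' ((Over.mapPullbackAdj h).homEquiv T' G g ≫ e.hom.hom.hom)
    ((Over.mapPullbackAdj h).homEquiv T' X x)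
  have hid : e.hom.hom.hom ≫ e.inv.hom.hom = 𝟙 _ := congrArg (fun k => k.hom.hom) e.hom_inv_id
  change lift (((Over.mapPullbackAdj h).homEquiv T' G g ≫ e.hom.hom.hom) ≫ e.inv.hom.hom)
    ((Over.mapPullbackAdj h).homEquiv T' X x) ≫ (a.bc h).act = _ at key
  rw [Category.assoc, hid, Category.comp_id, AlgGrp.Action.lift_homEquiv_bc_act] at key
  exact ((Over.mapPullbackAdj h).homEquiv T' X).injective key

/-- an action of a group of multiplicative type which is trivial modulo a nilpotent thickening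
of the base is trivial. -/
theorem trivial_of_fpqc {S S₀ : Scheme.{u}} (i₀ : S₀ ⟶ S) (hthick : NilThick i₀)
    {G X : Over S} [GrpObj G] (a : AlgGrp.Action G X)
    (hG : TwC.Locally S TwC.Topology.fpqc (fun S' f => ∃ (M : Type) (_ : AddCommGroup M),
      Nonempty (Grp.mk (Red.bc f G) ≅ Grp.mk (Red.DS S' M))))
    (h0 : ∀ (Y : Over S) (_ : Y ⟶ Over.mk i₀) (g : Y ⟶ G) (x : Y ⟶ X), lift g x ≫ a.act = x)
    (Y : Over S) (g : Y ⟶ G) (x : Y ⟶ X) : lift g x ≫ a.act = x := by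
  obtain ⟨S'', f, hflat, hsurj, -, hloc⟩ := hG
  apply Over.OverMorphism.ext
  have : Epi (pullback.fst Y.hom f) := Flat.epi_of_flat_of_surjective _
  rw [← cancel_epi (pullback.fst Y.hom f)]
  apply Scheme.hom_ext_of_forall
  intro y''
  obtain ⟨U'', hs'', M, _, ⟨e⟩⟩ := hloc ((pullback.snd Y.hom f).base y'')
  refine ⟨pullback.snd Y.hom f ⁻¹ᵁ U'', hs'', ?_⟩
  let T' : Over (U'' : Scheme.{u}) := Over.mk (pullback.snd Y.hom f ∣_ U'')
  let t : (Over.map (U''.ι ≫ f)).obj T' ⟶ Y :=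
    Over.homMk ((pullback.snd Y.hom f ⁻¹ᵁ U'').ι ≫ pullback.fst Y.hom f) (by
      change ((pullback.snd Y.hom f ⁻¹ᵁ U'').ι ≫ pullback.fst Y.hom f) ≫ Y.hom =
        (pullback.snd Y.hom f ∣_ U'') ≫ U''.ι ≫ f
      rw [Category.assoc, pullback.condition, ← Category.assoc, ← Category.assoc,
        morphismRestrict_ι])
  have key := local_trivial i₀ hthick a h0 (U''.ι ≫ f) e T' (t ≫ g) (t ≫ x)
  rw [← comp_lift, Category.assoc] at key
  have key2 := congrArg Over.Hom.left key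
  rw [Over.comp_left, Over.comp_left] at key2
  rw [← Category.assoc, ← Category.assoc]
  exact key2

end Groth.Agent.Lib.Seat23.DiagAct
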