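import Groth.Agent.Lib.Seat23DiagActC

/-!
# Seat23DiagActD — actions given on points; conjugation; centrality modulo a nilpotent thickening

* `actionOfPoints act nat one mul : AlgGrp.Action G X` — an action defined on `T`-points, natural in `T`;
  `lift_actionOfPoints : lift g x ≫ (actionOfPoints ..).act = act g x`.
* `conjPt u g h = (g ≫ u) * h * (g ≫ u)⁻¹`, `conjAction u : AlgGrp.Action G H`, `lift_conjAction`.
* `central_of_fpqc` : for `G` of multiplicative type (fpqc-locally diagonalisable), a homomorphism `u : G ⟶ H`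
  which is central on points over `S₀` (a `NilThick` thickening `S₀ ⟶ S`) is central (SGA3 IX 5.6 (a)).
-/

set_option autoImplicit false
universe u
open CategoryTheory MonoidalCategory CartesianMonoidalCategory MonObj GrpObj AlgebraicGeometry
open CategoryTheory.Limits

namespace Groth.Agent.Lib.Seat23.DiagAct

section OfPoints

variable {S : Scheme.{u}} {G X : Over S} [GrpObj G]

/-- an action given on points. -/
noncomputable def actionOfPoints (act : ∀ {T : Over S}, (T ⟶ G) → (T ⟶ X) → (T ⟶ X))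
    (nat : ∀ {T' T : Over S} (t : T' ⟶ T) (g : T ⟶ G) (x : T ⟶ X),
      t ≫ act g x = act (t ≫ g) (t ≫ x))
    (one : ∀ {T : Over S} (x : T ⟶ X), act 1 x = x)
    (mul : ∀ {T : Over S} (g g' : T ⟶ G) (x : T ⟶ X), act (g * g') x = act g (act g' x)) :
    AlgGrp.Action G X where
  act := act (fst G X) (snd G X)
  one_act := by
    rw [nat]
    have h1 : (η[G] ▷ X) ≫ fst G X = 1 := by
      rw [whiskerRight_fst]
      rfl
    rw [h1, one, whiskerRight_snd]
    rfl
  mul_act := by
    rw [nat, nat, nat]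
    have h1 : (μ[G] ▷ X) ≫ fst G X = (fst (G ⊗ G) X ≫ fst G G) * (fst (G ⊗ G) X ≫ snd G G) := by
      rw [whiskerRight_fst, Hom.mul_def]
      congr 1
      apply CartesianMonoidalCategory.hom_ext <;> simp
    rw [h1, mul, whiskerRight_snd]
    congr 1
    · simp
    · rw [whiskerLeft_snd, ← Category.assoc, nat]
      congr 1
      · simp
      · simp

lemma lift_actionOfPoints (act : ∀ {T : Over S}, (T ⟶ G) → (T ⟶ X) → (T ⟶ X))
    (nat : ∀ {T' T : Over S} (t : T' ⟶ T) (g : T ⟶ G) (x : T ⟶ X),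
      t ≫ act g x = act (t ≫ g) (t ≫ x))
    (one : ∀ {T : Over S} (x : T ⟶ X), act 1 x = x)
    (mul : ∀ {T : Over S} (g g' : T ⟶ G) (x : T ⟶ X), act (g * g') x = act g (act g' x))
    {T : Over S} (g : T ⟶ G) (x : T ⟶ X) :
    lift g x ≫ (actionOfPoints act nat one mul).act = act g x := by
  change lift g x ≫ act (fst G X) (snd G X) = _
  rw [nat, lift_fst, lift_snd]

end OfPoints

section Conj

variable {S : Scheme.{u}} {G H : Over S} [GrpObj G] [GrpObj H] (u : G ⟶ H) [IsMonHom u]

/-- conjugation through `u` on points. -/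
noncomputable def conjPt {T : Over S} (g : T ⟶ G) (h : T ⟶ H) : T ⟶ H :=
  (g ≫ u) * h * (g ≫ u)⁻¹

omit [GrpObj G] [IsMonHom u] in
lemma conjPt_nat {T' T : Over S} (t : T' ⟶ T) (g : T ⟶ G) (h : T ⟶ H) :
    t ≫ conjPt u g h = conjPt u (t ≫ g) (t ≫ h) := by
  unfold conjPt
  rw [MonObj.comp_mul, MonObj.comp_mul, GrpObj.comp_inv, Category.assoc]

lemma conjPt_one {T : Over S} (h : T ⟶ H) : conjPt u (1 : T ⟶ G) h = h := by
  unfold conjPt
  rw [MonObj.one_comp]
  simp

lemma conjPt_mul {T : Over S} (g g' : T ⟶ G) (h : T ⟶ H) :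
    conjPt u (g * g') h = conjPt u g (conjPt u g' h) := by
  unfold conjPt
  rw [MonObj.mul_comp]
  simp [_root_.mul_assoc]

/-- the action of `G` on `H` by conjugation through `u`. -/
noncomputable def conjAction : AlgGrp.Action G H :=
  actionOfPoints (fun g h => conjPt u g h) (conjPt_nat u) (conjPt_one u) (conjPt_mul u)

lemma lift_conjAction {T : Over S} (g : T ⟶ G) (h : T ⟶ H) :
    lift g h ≫ (conjAction u).act = (g ≫ u) * h * (g ≫ u)⁻¹ :=
  lift_actionOfPoints (fun g h => conjPt u g h) (conjPt_nat u) (conjPt_one u) (conjPt_mul u) g h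

end Conj

/-- centrality of a homomorphism from a group of multiplicative type can be checked modulo a
nilpotent thickening. -/
theorem central_of_fpqc {S S₀ : Scheme.{u}} (i₀ : S₀ ⟶ S) (hthick : NilThick i₀)
    {G H : Over S} [GrpObj G] [GrpObj H]
    (hG : TwC.Locally S TwC.Topology.fpqc (fun S' f => ∃ (M : Type) (_ : AddCommGroup M),
      Nonempty (Grp.mk (Red.bc f G) ≅ Grp.mk (Red.DS S' M))))
    (u : G ⟶ H) [IsMonHom u]
    (h0 : ∀ (Y : Over S) (_ : Y ⟶ Over.mk i₀) (g : Y ⟶ G) (h : Y ⟶ H),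
      (g ≫ u) * h = h * (g ≫ u))
    (Y : Over S) (g : Y ⟶ G) (h : Y ⟶ H) : (g ≫ u) * h = h * (g ≫ u) := by
  have key := trivial_of_fpqc i₀ hthick (conjAction u) hG
    (fun Y p g h => by
      rw [lift_conjAction, h0 Y p g h]
      simp) Y g h
  rw [lift_conjAction] at key
  calc (g ≫ u) * h = ((g ≫ u) * h * (g ≫ u)⁻¹) * (g ≫ u) := by simp
    _ = h * (g ≫ u) := by rw [key]

end Groth.Agent.Lib.Seat23.DiagAct
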