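import Groth.Agent.Lib.Helper25MultRigid
import Groth.Agent.Lib.Seat23ConvInt
import Mathlib.RingTheory.HopfAlgebra.GroupLike
import Mathlib.RingTheory.Coalgebra.GroupLike
import Mathlib.RingTheory.HopfAlgebra.TensorProduct
import Mathlib.RingTheory.Finiteness.Nakayama
import Mathlib.RingTheory.LocalRing.MaximalIdeal.Basic
import Mathlib.LinearAlgebra.Basis.Basic

/-!
# Seat23FibreTriv: a group spanned by characters with trivial closed fibre over a local base

* `core_field`: coefficient comparison over a field (linear independence of group-like elements);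
* `isGroupLikeElem_one_tmul`, `span_isGroupLikeElem_baseChange`;
* `exists_idempotent`: Nakayama — if the augmentation ideal `I` of a commutative Hopf algebra `B`
  over a local ring is finitely generated and `I ⊆ 𝔪 B`, then `I = (1 - e₀)` for an idempotent
  `e₀` with `e₀ y = ε(y) e₀`;
* `ker_counit_eq_bot`: if moreover `B` is spanned by group-like elements, then `I = 0`.
-/

set_option autoImplicit false

namespace Groth.Agent.Lib.Seat23.FibreTriv

open TensorProduct Groth.Agent.Lib.Helper25

section Field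

variable {K : Type*} [Field K] {D : Type*} [CommRing D] [HopfAlgebra K D]

/-- Over a field, a Hopf algebra spanned by group-like elements in which an element `E` with
`E y = ε(y) E`, `ε(E) = 1` satisfies `1 - E ∈ P · (group-likes)` for a proper additive subgroup `P`
of the field: then `E = 1`. -/
theorem core_field (hspan : Submodule.span K {a : D | IsGroupLikeElem K a} = ⊤)
    (P : AddSubgroup K) (hP1 : (1 : K) ∉ P)
    (E : D) (hE : ∀ y : D, E * y = Coalgebra.counit (R := K) y • E)
    (hE1 : Coalgebra.counit (R := K) E = 1)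
    (hcoef : 1 - E ∈ AddSubgroup.closure
      {x : D | ∃ p ∈ P, ∃ g, IsGroupLikeElem K g ∧ x = p • g}) : E = 1 := by
  classical
  have hli : LinearIndependent K (GroupLike.val (R := K) (A := D)) := linearIndep_groupLikeVal
  have hsp : ⊤ ≤ Submodule.span K (Set.range (GroupLike.val (R := K) (A := D))) := by
    rw [← hspan]
    apply Submodule.span_mono
    intro a ha
    exact ⟨⟨a, ha⟩, rfl⟩
  let b : Module.Basis (GroupLike K D) K D := Module.Basis.mk hli hsp
  have hb : ∀ δ : GroupLike K D, b δ = δ.val := fun δ => Module.Basis.mk_apply hli hsp δ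
  -- translation invariance of coordinates
  have htrans : ∀ (γ δ : GroupLike K D) (x : D), b.repr (x * γ.val) (δ * γ) = b.repr x δ := by
    intro γ δ x
    have : (Finsupp.lapply (δ * γ) ∘ₗ b.repr.toLinearMap ∘ₗ LinearMap.mulRight K γ.val) =
        Finsupp.lapply δ ∘ₗ b.repr.toLinearMap := by
      apply b.ext
      intro δ'
      simp only [LinearMap.comp_apply, LinearMap.mulRight_apply, LinearEquiv.coe_coe,
        Finsupp.lapply_apply, hb]
      rw [← GroupLike.val_mul, ← hb, ← hb δ', b.repr_self, b.repr_self, Finsupp.single_apply,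
        Finsupp.single_apply]
      simp only [mul_left_inj]
    exact LinearMap.congr_fun this x
  set ρ := b.repr E with hρ
  have hconst : ∀ γ : GroupLike K D, ρ γ = ρ 1 := by
    intro γ
    have h1 := htrans γ 1 E
    rw [hE, γ.isGroupLikeElem_val.counit_eq_one, one_smul, one_mul] at h1
    exact h1
  -- coordinates of `1 - E` lie in `P`
  have hP : ∀ δ : GroupLike K D, b.repr (1 - E) δ ∈ P := by
    intro δ
    refine AddSubgroup.closure_induction (p := fun x _ => b.repr x δ ∈ P) ?_ ?_ ?_ ?_ hcoef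
    · rintro x ⟨p, hp, g, hg, rfl⟩
      have : g = b ⟨g, hg⟩ := (hb ⟨g, hg⟩).symm
      rw [this, map_smul, b.repr_self, Finsupp.smul_apply, Finsupp.single_apply]
      split_ifs
      · simpa using hp
      · simpa using P.zero_mem
    · simpa using P.zero_mem
    · intro x y _ _ hx hy
      rw [map_add, Finsupp.add_apply]
      exact P.add_mem hx hy
    · intro x _ hx
      rw [map_neg, Finsupp.neg_apply]
      exact P.neg_mem hx
  have hone : b.repr (1 : D) = Finsupp.single (1 : GroupLike K D) 1 := by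
    have : (1 : D) = b 1 := (hb 1).symm
    rw [this, b.repr_self]
  -- `ε(E)` is the sum of the coordinates
  have hsum : Coalgebra.counit (R := K) E = ∑ δ ∈ ρ.support, ρ δ := by
    conv_lhs => rw [← b.linearCombination_repr E, Finsupp.linearCombination_apply, Finsupp.sum]
    rw [map_sum]
    apply Finset.sum_congr rfl
    intro δ _
    rw [map_smul, hb, δ.isGroupLikeElem_val.counit_eq_one, smul_eq_mul, mul_one]
  by_cases hex : ∃ δ : GroupLike K D, δ ≠ 1
  · exfalso
    obtain ⟨δ, hδ⟩ := hex
    have h1 := hP δ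
    rw [map_sub, Finsupp.sub_apply, hone, Finsupp.single_apply, if_neg (Ne.symm hδ), zero_sub,
      ← hρ, hconst] at h1
    have h2 : ρ 1 ∈ P := by simpa using P.neg_mem h1
    apply hP1
    rw [← hE1, hsum]
    apply P.sum_mem
    intro γ _
    rw [hconst]
    exact h2
  · push Not at hex
    have h3 : E = ρ 1 • (1 : D) := by
      conv_lhs => rw [← b.linearCombination_repr E, Finsupp.linearCombination_apply, Finsupp.sum]
      rw [← hρ]
      have : ∀ δ ∈ ρ.support, ρ δ • b δ = ρ 1 • (1 : D) := by
        intro δ _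
        rw [hex δ, hb]
        rfl
      by_cases hs : ρ.support = ∅
      · exfalso
        rw [hsum, hs, Finset.sum_empty] at hE1
        exact zero_ne_one hE1
      · obtain ⟨δ₀, hδ₀⟩ := Finset.nonempty_iff_ne_empty.mpr hs
        have hsupp : ρ.support = {1} := by
          ext δ
          rw [Finset.mem_singleton]
          constructor
          · intro _; exact hex δ
          · rintro rfl; rw [← hex δ₀]; exact hδ₀
        rw [hsupp, Finset.sum_singleton, hb]
        rfl
    have h4 : ρ 1 = 1 := by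
      have := hE1
      rw [h3, map_smul, Bialgebra.counit_one, smul_eq_mul, mul_one] at this
      exact this
    rw [h3, h4, one_smul]

end Field

section BC

variable {R : Type*} [CommRing R] (K : Type*) [CommRing K] [Algebra R K] {B : Type*} [CommRing B]
  [Bialgebra R B]

theorem isGroupLikeElem_one_tmul {g : B} (hg : IsGroupLikeElem R g) :
    IsGroupLikeElem K ((1 : K) ⊗ₜ[R] g) where
  counit_eq_one := by
    rw [TensorProduct.counit_tmul, hg.counit_eq_one, one_smul]
    exact Bialgebra.counit_one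
  comul_eq_tmul_self := by
    rw [comul_one_tmul, hg.comul_eq_tmul_self, bcMap2_tmul]

theorem span_isGroupLikeElem_baseChange
    (hspan : Submodule.span R {b : B | IsGroupLikeElem R b} = ⊤) :
    Submodule.span K {a : K ⊗[R] B | IsGroupLikeElem K a} = ⊤ := by
  rw [eq_top_iff]
  rintro z -
  induction z using TensorProduct.induction_on with
  | zero => exact Submodule.zero_mem _
  | add x y hx hy => exact Submodule.add_mem _ hx hy
  | tmul k b =>
    have hb : b ∈ Submodule.span R {b : B | IsGroupLikeElem R b} := hspan ▸ Submodule.mem_top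
    have : k ⊗ₜ[R] b = k • ((1 : K) ⊗ₜ[R] b) := by
      rw [TensorProduct.smul_tmul', smul_eq_mul, mul_one]
    rw [this]
    apply Submodule.smul_mem
    refine Submodule.span_induction ?_ ?_ ?_ ?_ hb
    · intro g hg
      exact Submodule.subset_span (isGroupLikeElem_one_tmul K hg)
    · rw [TensorProduct.tmul_zero]; exact Submodule.zero_mem _
    · intro x y _ _ hx hy
      rw [TensorProduct.tmul_add]; exact Submodule.add_mem _ hx hy
    · intro r x _ hx
      have : (1 : K) ⊗ₜ[R] (r • x) = algebraMap R K r • ((1 : K) ⊗ₜ[R] x) := by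
        rw [TensorProduct.tmul_smul, algebraMap_smul]
      rw [this]
      exact Submodule.smul_mem _ _ hx

end BC

section Local

variable {R : Type*} [CommRing R] [IsLocalRing R] {B : Type*} [CommRing B] [HopfAlgebra R B]

theorem mem_map_iff_mem_smul_top (𝔞 : Ideal R) (x : B) :
    x ∈ Ideal.map (algebraMap R B) 𝔞 ↔ x ∈ 𝔞 • (⊤ : Submodule R B) := by
  rw [Ideal.smul_top_eq_map]
  rfl

/-- Nakayama: the unit section is open and closed. -/
theorem exists_idempotent
    (hfg : (RingHom.ker (Bialgebra.counitAlgHom R B)).FG)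
    (hle : RingHom.ker (Bialgebra.counitAlgHom R B) ≤
      Ideal.map (algebraMap R B) (IsLocalRing.maximalIdeal R)) :
    ∃ e₀ : B, Coalgebra.counit (R := R) e₀ = 1 ∧
      (∀ y : B, e₀ * y = Coalgebra.counit (R := R) y • e₀) ∧
      (1 - e₀) ∈ IsLocalRing.maximalIdeal R • (⊤ : Submodule R B) := by
  set I := RingHom.ker (Bialgebra.counitAlgHom R B) with hI
  set 𝔪 := IsLocalRing.maximalIdeal R with h𝔪
  set 𝔐 := Ideal.map (algebraMap R B) 𝔪 with h𝔐
  have hmemI : ∀ x : B, x ∈ I ↔ Coalgebra.counit (R := R) x = 0 := fun x => Iff.rfl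
  -- the projection onto `I`
  let T : B →ₗ[R] B := LinearMap.id - (Algebra.linearMap R B) ∘ₗ (Coalgebra.counit (R := R) (A := B))
  have hT : ∀ x, T x = x - algebraMap R B (Coalgebra.counit (R := R) x) := fun x => rfl
  have hTI : ∀ x, T x ∈ I := by
    intro x
    rw [hmemI, hT, map_sub, Bialgebra.counit_algebraMap, sub_self]
  have hTx : ∀ x ∈ I, T x = x := by
    intro x hx
    rw [hT, (hmemI x).mp hx, map_zero, sub_zero]
  -- (a) `I ≤ 𝔐 • I`
  have ha : (I : Submodule B B) ≤ 𝔐 • (I : Submodule B B) := by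
    intro x hx
    have hx𝔐 : x ∈ 𝔪 • (⊤ : Submodule R B) := (mem_map_iff_mem_smul_top 𝔪 x).mp (hle hx)
    rw [← hTx x hx]
    refine Submodule.smul_induction_on hx𝔐 ?_ ?_
    · intro μ hμ y _
      have h2 : T (μ • y) = algebraMap R B μ • T y := by
        rw [map_smul, algebraMap_smul]
      rw [h2]
      exact Submodule.smul_mem_smul (Ideal.mem_map_of_mem (algebraMap R B) hμ) (hTI y)
    · intro y z hy hz
      rw [map_add]
      exact Submodule.add_mem _ hy hz
  -- (b) Nakayama
  obtain ⟨r, hr1, hr0⟩ :=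
    Submodule.exists_sub_one_mem_and_smul_eq_zero_of_fg_of_le_smul 𝔐 (I : Submodule B B) hfg ha
  -- (c) the idempotent
  have hε𝔐 : ∀ x ∈ 𝔐, Coalgebra.counit (R := R) x ∈ 𝔪 := by
    intro x hx
    have h1 := Groth.Agent.Lib.Helper25.map_mem_smul_top
      (Coalgebra.counit (R := R) (A := B)) 𝔪 ((mem_map_iff_mem_smul_top 𝔪 x).mp hx)
    rw [smul_eq_mul, Ideal.mul_top] at h1
    exact h1
  set u := Coalgebra.counit (R := R) r with hu
  have hu1 : u - 1 ∈ 𝔪 := by
    have := hε𝔐 _ hr1
    rwa [map_sub, Bialgebra.counit_one] at this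
  have huu : IsUnit u := by
    by_contra hnu
    have hum : u ∈ 𝔪 := (IsLocalRing.mem_maximalIdeal u).mpr hnu
    have : (1 : R) ∈ 𝔪 := by
      have := 𝔪.sub_mem hum hu1
      rwa [sub_sub_cancel] at this
    exact (IsLocalRing.maximalIdeal.isMaximal R).ne_top ((Ideal.eq_top_iff_one _).mpr this)
  obtain ⟨v, hv⟩ := huu.exists_left_inv
  set e₀ : B := algebraMap R B v * r with he₀
  have he₀ε : Coalgebra.counit (R := R) e₀ = 1 := by
    rw [he₀, ← Algebra.smul_def, map_smul, ← hu, smul_eq_mul, hv]
  have he₀I : ∀ x ∈ I, e₀ * x = 0 := by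
    intro x hx
    rw [he₀, mul_assoc, ← smul_eq_mul r x, hr0 x hx, mul_zero]
  have he₀y : ∀ y : B, e₀ * y = Coalgebra.counit (R := R) y • e₀ := by
    intro y
    have hy : y = algebraMap R B (Coalgebra.counit (R := R) y) + T y := by rw [hT]; ring
    conv_lhs => rw [hy]
    rw [mul_add, he₀I _ (hTI y), add_zero, mul_comm, ← Algebra.smul_def]
  have h1e : 1 - e₀ ∈ I := by
    rw [hmemI, map_sub, Bialgebra.counit_one, he₀ε, sub_self]
  exact ⟨e₀, he₀ε, he₀y, (mem_map_iff_mem_smul_top 𝔪 _).mp (hle h1e)⟩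

theorem one_notMem_map_maximalIdeal {K : Type*} [Field K] [Algebra R K] :
    (1 : K) ∉ AddSubgroup.map (algebraMap R K : R →+ K)
      (IsLocalRing.maximalIdeal R).toAddSubgroup := by
  rintro ⟨μ, hμ, hμ1⟩
  have hμ𝔪 : μ ∈ IsLocalRing.maximalIdeal R := hμ
  have hunit : IsUnit (1 - μ) := by
    by_contra hnu'
    have h2 : 1 - μ ∈ IsLocalRing.maximalIdeal R := (IsLocalRing.mem_maximalIdeal _).mpr hnu'
    have : (1 : R) ∈ IsLocalRing.maximalIdeal R := by
      have := (IsLocalRing.maximalIdeal R).add_mem h2 hμ𝔪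
      rwa [sub_add_cancel] at this
    exact (IsLocalRing.maximalIdeal.isMaximal R).ne_top ((Ideal.eq_top_iff_one _).mpr this)
  have h3 : algebraMap R K (1 - μ) = 0 := by
    rw [map_sub, map_one]
    exact sub_eq_zero.mpr hμ1.symm
  exact (hunit.map (algebraMap R K)).ne_zero h3

/-- The closed point argument: after base change to a residue field of `B`, the idempotent is `1`. -/
theorem baseChange_idempotent_eq_one {K : Type*} [Field K] [Algebra R K]
    (hspan : Submodule.span R {b : B | IsGroupLikeElem R b} = ⊤) (e₀ : B)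
    (he₀ε : Coalgebra.counit (R := R) e₀ = 1)
    (he₀y : ∀ y : B, e₀ * y = Coalgebra.counit (R := R) y • e₀)
    (h1e : (1 - e₀) ∈ IsLocalRing.maximalIdeal R • (⊤ : Submodule R B)) :
    (1 : K) ⊗ₜ[R] e₀ = (1 : K ⊗[R] B) := by
  set 𝔪 := IsLocalRing.maximalIdeal R with h𝔪
  set E : K ⊗[R] B := (1 : K) ⊗ₜ[R] e₀ with hE
  have hspanD := span_isGroupLikeElem_baseChange K hspan
  let P : AddSubgroup K := AddSubgroup.map (algebraMap R K : R →+ K) 𝔪.toAddSubgroup
  have hP1 : (1 : K) ∉ P := one_notMem_map_maximalIdeal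
  have hEy : ∀ y : K ⊗[R] B, E * y = Coalgebra.counit (R := K) y • E := by
    intro y
    induction y using TensorProduct.induction_on with
    | zero => simp
    | add x y hx hy => rw [mul_add, hx, hy, map_add, add_smul]
    | tmul k b =>
      rw [hE, Algebra.TensorProduct.tmul_mul_tmul, one_mul, he₀y, TensorProduct.counit_tmul,
        TensorProduct.tmul_smul, TensorProduct.smul_tmul', TensorProduct.smul_tmul']
      congr 1
      simp [Algebra.smul_def]
  have hE1 : Coalgebra.counit (R := K) E = 1 := by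
    rw [hE, TensorProduct.counit_tmul, he₀ε, one_smul]
    exact Bialgebra.counit_one
  have hcoef : 1 - E ∈ AddSubgroup.closure
      {x : K ⊗[R] B | ∃ p ∈ P, ∃ g, IsGroupLikeElem K g ∧ x = p • g} := by
    have h1 : (1 : K ⊗[R] B) - E = (1 : K) ⊗ₜ[R] (1 - e₀) := by
      rw [hE, TensorProduct.tmul_sub, Algebra.TensorProduct.one_def]
    rw [h1]
    refine Submodule.smul_induction_on h1e ?_ ?_
    · intro μ hμ y _
      have hy : y ∈ Submodule.span R {b : B | IsGroupLikeElem R b} := hspan ▸ Submodule.mem_top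
      revert μ
      refine Submodule.span_induction ?_ ?_ ?_ ?_ hy
      · intro g hg μ hμ
        apply AddSubgroup.subset_closure
        refine ⟨algebraMap R K μ, ⟨μ, hμ, rfl⟩, (1 : K) ⊗ₜ[R] g, isGroupLikeElem_one_tmul K hg, ?_⟩
        rw [TensorProduct.tmul_smul, algebraMap_smul]
      · intro μ _
        rw [smul_zero, TensorProduct.tmul_zero]
        exact AddSubgroup.zero_mem _
      · intro x y _ _ hx hy μ hμ
        rw [smul_add, TensorProduct.tmul_add]
        exact AddSubgroup.add_mem _ (hx μ hμ) (hy μ hμ)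
      · intro a x _ hx μ hμ
        rw [smul_smul]
        exact hx (μ * a) (Ideal.mul_mem_right a 𝔪 hμ)
    · intro x y hx hy
      rw [TensorProduct.tmul_add]
      exact AddSubgroup.add_mem _ hx hy
  exact core_field hspanD P hP1 E hEy hE1 hcoef

/-- Over a local ring, a commutative Hopf algebra spanned by group-like elements, with finitely
generated augmentation ideal and trivial closed fibre, is trivial. -/
theorem ker_counit_eq_bot (hspan : Submodule.span R {b : B | IsGroupLikeElem R b} = ⊤)
    (hfg : (RingHom.ker (Bialgebra.counitAlgHom R B)).FG)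
    (hle : RingHom.ker (Bialgebra.counitAlgHom R B) ≤
      Ideal.map (algebraMap R B) (IsLocalRing.maximalIdeal R)) :
    RingHom.ker (Bialgebra.counitAlgHom R B) = ⊥ := by
  obtain ⟨e₀, he₀ε, he₀y, h1e⟩ := exists_idempotent hfg hle
  have hmemI : ∀ x : B, x ∈ RingHom.ker (Bialgebra.counitAlgHom R B) ↔
      Coalgebra.counit (R := R) x = 0 := fun x => Iff.rfl
  by_contra hne
  have he₀1 : e₀ ≠ 1 := by
    intro h
    apply hne
    rw [eq_bot_iff]
    intro x hx
    have := he₀y x
    rw [h, one_mul, (hmemI x).mp hx, zero_smul] at this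
    exact this
  have hnu : ¬ IsUnit e₀ := by
    intro hunit
    have h0 : e₀ * (1 - e₀) = 0 := by
      rw [he₀y, map_sub, Bialgebra.counit_one, he₀ε, sub_self, zero_smul]
    have := hunit.mul_right_eq_zero.mp h0
    exact he₀1 (sub_eq_zero.mp this).symm
  obtain ⟨𝔮, h𝔮max, h𝔮⟩ := Ideal.exists_le_maximal (Ideal.span {e₀})
    (by rwa [Ne, Ideal.span_singleton_eq_top])
  have he₀𝔮 : e₀ ∈ 𝔮 := h𝔮 (Ideal.mem_span_singleton_self e₀)
  letI : Field (B ⧸ 𝔮) := Ideal.Quotient.field 𝔮
  have hfinal := baseChange_idempotent_eq_one (K := B ⧸ 𝔮) hspan e₀ he₀ε he₀y h1e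
  -- evaluate at the point `B → K`
  let χ : (B ⧸ 𝔮) ⊗[R] B →ₐ[R] (B ⧸ 𝔮) :=
    Algebra.TensorProduct.productMap (AlgHom.id R (B ⧸ 𝔮)) (Ideal.Quotient.mkₐ R 𝔮)
  have h5 : χ ((1 : B ⧸ 𝔮) ⊗ₜ[R] e₀) = χ 1 := congrArg χ hfinal
  have h6 : χ ((1 : B ⧸ 𝔮) ⊗ₜ[R] e₀) = 0 := by
    rw [Algebra.TensorProduct.productMap_apply_tmul, Ideal.Quotient.mkₐ_eq_mk,
      Ideal.Quotient.eq_zero_iff_mem.mpr he₀𝔮, mul_zero]
  rw [h6, map_one] at h5
  exact zero_ne_one h5

end Local

end Groth.Agent.Lib.Seat23.FibreTriv
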