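import Groth.Agent.Lib.Seat23LiftHom
import Mathlib.RingTheory.Smooth.Basic

/-!
# Seat23LiftSmooth: lifting homomorphisms into groups with an invariant integral, modulo
nilpotent ideals, from a formally smooth Hopf algebra

* `counit_comp_of_comul`: a comultiplicative algebra map out of a Hopf algebra respects counits;
* `exists_algHom_of_mul_mod`: formal smoothness corrects a map multiplicative modulo a nilpotent
  ideal into an algebra map;
* `exists_bialgHom_of_nilpotent`: if `A` has a normalised invariant integral, `C` is a formally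
  smooth Hopf algebra, `K` is a nilpotent ideal and `g : C → A` is an algebra map which is
  comultiplicative modulo `K`, there is a bialgebra map `φ ≡ g` modulo `K`.
-/

set_option autoImplicit false

namespace Groth.Agent.Lib.Seat23.LiftSmooth

open TensorProduct WithConv Groth.Agent.Lib.Seat23.ConvInt Groth.Agent.Lib.Seat23.LiftHom


section Counit

variable {R : Type*} [CommRing R] {A : Type*} [CommRing A] [Bialgebra R A]
  {C : Type*} [CommRing C] [HopfAlgebra R C]

theorem mul'_map_counit (a : A) :
    LinearMap.mul' R R (TensorProduct.map (CoalgebraStruct.counit (R := R) (A := A))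
      (CoalgebraStruct.counit (R := R) (A := A)) (CoalgebraStruct.comul (R := R) a)) =
      CoalgebraStruct.counit (R := R) a := by
  have h1 : TensorProduct.map (CoalgebraStruct.counit (R := R) (A := A))
      (CoalgebraStruct.counit (R := R) (A := A)) =
      (CoalgebraStruct.counit (R := R) (A := A)).lTensor R ∘ₗ
        (CoalgebraStruct.counit (R := R) (A := A)).rTensor A := by
    rw [LinearMap.lTensor_comp_rTensor]
  rw [h1, LinearMap.comp_apply, Coalgebra.rTensor_counit_comul]
  simp

/-- A comultiplicative algebra map from a Hopf algebra is compatible with the counits. -/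
theorem counit_comp_of_comul (g : C →ₐ[R] A)
    (hg : ∀ c : C, CoalgebraStruct.comul (R := R) (g c) =
      TensorProduct.map g.toLinearMap g.toLinearMap (CoalgebraStruct.comul (R := R) c)) :
    (Bialgebra.counitAlgHom R A).comp g = Bialgebra.counitAlgHom R C := by
  set e : WithConv (C →ₐ[R] R) := toConv ((Bialgebra.counitAlgHom R A).comp g) with he
  have hee : e * e = e := by
    apply WithConv.ext
    apply AlgHom.ext
    intro c
    have h1 : (e * e).ofConv c = LinearMap.mul' R R (TensorProduct.map e.ofConv.toLinearMap
        e.ofConv.toLinearMap (CoalgebraStruct.comul (R := R) c)) := rfl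
    rw [h1]
    have h2 : TensorProduct.map e.ofConv.toLinearMap e.ofConv.toLinearMap
        (CoalgebraStruct.comul (R := R) c) =
        TensorProduct.map (CoalgebraStruct.counit (R := R) (A := A))
          (CoalgebraStruct.counit (R := R) (A := A))
          (TensorProduct.map g.toLinearMap g.toLinearMap (CoalgebraStruct.comul (R := R) c)) := by
      generalize CoalgebraStruct.comul (R := R) c = w
      induction w using TensorProduct.induction_on with
      | zero => simp
      | tmul a b => rfl
      | add a b ha hb => simp only [map_add, ha, hb]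
    rw [h2, ← hg, mul'_map_counit]
    rfl
  have h1 : e = 1 := by
    have := mul_eq_left.mp hee
    exact this
  have h2 := congrArg WithConv.ofConv h1
  exact h2

end Counit


section Smooth

variable {R : Type*} [CommRing R] {A : Type*} [CommRing A] [Algebra R A]
  {C : Type*} [CommRing C] [Algebra R C] [Algebra.FormallySmooth R C]

theorem mem_smul_top_iff_mem_map (J : Ideal R) (x : A) :
    x ∈ J • (⊤ : Submodule R A) ↔ x ∈ Ideal.map (algebraMap R A) J := by
  rw [Ideal.smul_top_eq_map]
  rfl

/-- A linear map which is unital and multiplicative modulo a nilpotent ideal `J` is congruent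
modulo `J` to an algebra map (formal smoothness). -/
theorem exists_algHom_of_mul_mod (J : Ideal R) (hJ : IsNilpotent J) (φ : C →ₗ[R] A)
    (h1 : φ 1 = 1) (hmul : ∀ c d : C, φ (c * d) - φ c * φ d ∈ J • (⊤ : Submodule R A)) :
    ∃ g : C →ₐ[R] A, ∀ c, g c - φ c ∈ J • (⊤ : Submodule R A) := by
  set 𝔞 : Ideal A := Ideal.map (algebraMap R A) J with h𝔞
  have hnil : IsNilpotent 𝔞 := by
    obtain ⟨n, hn⟩ := hJ
    refine ⟨n, ?_⟩
    rw [h𝔞, ← Ideal.map_pow, hn, Ideal.zero_eq_bot, Ideal.map_bot]
    rfl
  let φbar : C →ₐ[R] A ⧸ 𝔞 :=
    AlgHom.ofLinearMap ((Ideal.Quotient.mkₐ R 𝔞).toLinearMap ∘ₗ φ)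
      (by simp [h1])
      (by
        intro x y
        simp only [LinearMap.comp_apply, AlgHom.toLinearMap_apply, Ideal.Quotient.mkₐ_eq_mk]
        rw [← map_mul]
        exact Ideal.Quotient.eq.mpr ((mem_smul_top_iff_mem_map J _).mp (hmul x y)))
  obtain ⟨g, hg⟩ := Algebra.FormallySmooth.exists_lift 𝔞 hnil φbar
  refine ⟨g, fun c => ?_⟩
  rw [mem_smul_top_iff_mem_map]
  have h2 := AlgHom.congr_fun hg c
  exact Ideal.Quotient.eq.mp h2

end Smooth

section Defect

variable {R : Type*} [CommRing R] {A : Type*} [CommRing A] [Bialgebra R A]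
  {C : Type*} [CommRing C] [Bialgebra R C]

theorem defect_mem (J : Ideal R) (g : C →ₐ[R] A) (φ : C →ₗ[R] A)
    (hgφ : ∀ c, g c - φ c ∈ J • (⊤ : Submodule R A))
    (hφ : ∀ c : C, CoalgebraStruct.comul (R := R) (φ c) -
        TensorProduct.map φ φ (CoalgebraStruct.comul (R := R) c) ∈
          J • (⊤ : Submodule R (A ⊗[R] A))) (c : C) :
    CoalgebraStruct.comul (R := R) (g c) -
      TensorProduct.map g.toLinearMap g.toLinearMap (CoalgebraStruct.comul (R := R) c) ∈
        J • (⊤ : Submodule R (A ⊗[R] A)) := by
  set δ : C →ₗ[R] A := g.toLinearMap - φ with hδ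
  have hδmem : ∀ c, δ c ∈ J • (⊤ : Submodule R A) := fun c => hgφ c
  have hg : g.toLinearMap = φ + δ := by rw [hδ]; abel
  have e : CoalgebraStruct.comul (R := R) (g c) -
      TensorProduct.map g.toLinearMap g.toLinearMap (CoalgebraStruct.comul (R := R) c) =
      CoalgebraStruct.comul (R := R) (δ c) +
      (CoalgebraStruct.comul (R := R) (φ c) -
        TensorProduct.map φ φ (CoalgebraStruct.comul (R := R) c)) -
      (TensorProduct.map δ g.toLinearMap (CoalgebraStruct.comul (R := R) c) +
        TensorProduct.map φ δ (CoalgebraStruct.comul (R := R) c)) := by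
    have e1 : g c = φ c + δ c := by
      have := LinearMap.congr_fun hg c
      exact this
    have e2 : TensorProduct.map g.toLinearMap g.toLinearMap =
        TensorProduct.map φ φ + TensorProduct.map φ δ + TensorProduct.map δ g.toLinearMap := by
      conv_lhs => rw [hg]
      rw [TensorProduct.map_add_left, ← hg]
      conv_lhs => rw [hg]
      rw [TensorProduct.map_add_right, ← hg]
    rw [e1, map_add, e2]
    simp only [LinearMap.add_apply]
    abel
  rw [e]
  refine Submodule.sub_mem _ (Submodule.add_mem _ (map_mem_smul_top _ J (hδmem c)) (hφ c))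
    (Submodule.add_mem _ ?_ ?_)
  · have := map_mem_smul_top_of_forall J ⊤ δ g.toLinearMap hδmem (fun p => mem_top_smul_top _)
      (CoalgebraStruct.comul (R := R) c)
    rwa [Ideal.mul_top] at this
  · have := map_mem_smul_top_of_forall ⊤ J φ δ (fun p => mem_top_smul_top _) hδmem
      (CoalgebraStruct.comul (R := R) c)
    rwa [Ideal.top_mul] at this

end Defect


section Main

variable {R : Type*} [CommRing R] {A : Type*} [CommRing A] [Bialgebra R A]
  {C : Type*} [CommRing C] [HopfAlgebra R C] [Algebra.FormallySmooth R C]

theorem exists_bialgHom_aux (l : A →ₗ[R] R) (hl1 : l 1 = 1)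
    (hinv : ∀ a : A, TensorProduct.rid R A
      (LinearMap.lTensor A l (CoalgebraStruct.comul (R := R) a)) = l a • (1 : A)) :
    ∀ (n : ℕ) (K : Ideal R), K ^ n = ⊥ → ∀ g : C →ₐ[R] A,
      (∀ c : C, CoalgebraStruct.comul (R := R) (g c) -
        TensorProduct.map g.toLinearMap g.toLinearMap (CoalgebraStruct.comul (R := R) c) ∈
          K • (⊤ : Submodule R (A ⊗[R] A))) →
      ∃ φ : C →ₐc[R] A, ∀ c, φ c - g c ∈ K • (⊤ : Submodule R A) := by
  intro n
  induction n using Nat.strong_induction_on with
  | _ n ih =>
    intro K hK g hg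
    by_cases hn : n ≤ 1
    · have hK0 : K = ⊥ := by
        interval_cases n
        · rw [pow_zero, Ideal.one_eq_top] at hK
          exact le_bot_iff.mp (hK ▸ le_top)
        · rwa [pow_one] at hK
      subst hK0
      have hcomul : ∀ c : C, CoalgebraStruct.comul (R := R) (g c) =
          TensorProduct.map g.toLinearMap g.toLinearMap (CoalgebraStruct.comul (R := R) c) := by
        intro c
        have := hg c
        rw [Submodule.bot_smul, Submodule.mem_bot, sub_eq_zero] at this
        exact this
      have hcc : (Algebra.TensorProduct.map g g).comp (Bialgebra.comulAlgHom R C) =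
          (Bialgebra.comulAlgHom R A).comp g := by
        apply AlgHom.ext
        intro c
        have h1 : ∀ w : C ⊗[R] C, Algebra.TensorProduct.map g g w =
            TensorProduct.map g.toLinearMap g.toLinearMap w := by
          intro w
          induction w using TensorProduct.induction_on with
          | zero => simp
          | tmul a b => rfl
          | add a b ha hb => simp only [map_add, ha, hb]
        change Algebra.TensorProduct.map g g (CoalgebraStruct.comul (R := R) c) =
          CoalgebraStruct.comul (R := R) (g c)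
        rw [h1, hcomul]
      refine ⟨BialgHom.ofAlgHom g (counit_comp_of_comul g hcomul) hcc, fun c => ?_⟩
      have : (BialgHom.ofAlgHom g (counit_comp_of_comul g hcomul) hcc : C →ₐc[R] A) c = g c := rfl
      rw [this, sub_self]
      exact Submodule.zero_mem _
    · push Not at hn
      obtain ⟨φ, h1, hmul, hφg, hφΔ⟩ := improve l hl1 hinv hg
      have hKK : IsNilpotent (K * K) := by
        refine ⟨n, ?_⟩
        rw [mul_pow, hK, Ideal.bot_mul]
        rfl
      obtain ⟨g₂, hg₂⟩ := exists_algHom_of_mul_mod (K * K) hKK φ h1 hmul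
      have hdef := defect_mem (K * K) g₂ φ hg₂ hφΔ
      have hm : (n + 1) / 2 < n := by omega
      have hKm : (K * K) ^ ((n + 1) / 2) = ⊥ := by
        rw [← pow_two, ← pow_mul]
        refine le_bot_iff.mp ?_
        rw [← hK]
        exact Ideal.pow_le_pow_right (by omega)
      obtain ⟨ψ, hψ⟩ := ih _ hm (K * K) hKm g₂ hdef
      refine ⟨ψ, fun c => ?_⟩
      have hle : (K * K) • (⊤ : Submodule R A) ≤ K • (⊤ : Submodule R A) :=
        smul_top_mono Ideal.mul_le_right
      have e : ψ c - g c = (ψ c - g₂ c) + (g₂ c - φ c) + (φ c - g c) := by abel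
      rw [e]
      exact Submodule.add_mem _ (Submodule.add_mem _ (hle (hψ c)) (hle (hg₂ c))) (hφg c)

/-- Lifting modulo a nilpotent ideal: an algebra map `g : C → A` which is comultiplicative
modulo the nilpotent ideal `K` is congruent modulo `K` to a bialgebra map. -/
theorem exists_bialgHom_of_nilpotent (l : A →ₗ[R] R) (hl1 : l 1 = 1)
    (hinv : ∀ a : A, TensorProduct.rid R A
      (LinearMap.lTensor A l (CoalgebraStruct.comul (R := R) a)) = l a • (1 : A))
    (K : Ideal R) (hK : IsNilpotent K) (g : C →ₐ[R] A)
    (hg : ∀ c : C, CoalgebraStruct.comul (R := R) (g c) -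
        TensorProduct.map g.toLinearMap g.toLinearMap (CoalgebraStruct.comul (R := R) c) ∈
          K • (⊤ : Submodule R (A ⊗[R] A))) :
    ∃ φ : C →ₐc[R] A, ∀ c, φ c - g c ∈ K • (⊤ : Submodule R A) := by
  obtain ⟨n, hn⟩ := hK
  exact exists_bialgHom_aux l hl1 hinv n K hn g hg

end Main

end Groth.Agent.Lib.Seat23.LiftSmooth
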