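import Groth.Agent.Lib.Helper25MultRigid
import Mathlib.RingTheory.TensorProduct.IncludeLeftSubRight
import Mathlib.RingTheory.Localization.Away.Basic
import Mathlib.RingTheory.LocalProperties.Submodule

/-!
# Seat23MultIntegral: the normalised invariant integral of a group of multiplicative type

For a commutative bialgebra `A` over `R` and an `R`-algebra `R'`, `IsIntOver u` says that the
`R`-linear map `u : A → R'` is a two-sided invariant, normalised integral with values in `R'`:
`u 1 = 1`, `∑ u(a₁) ⊗ a₂ = u(a) ⊗ 1` and `∑ u(a₂) ⊗ a₁ = u(a) ⊗ 1` in `R' ⊗[R] A`.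

* `IsIntOver.unique`: such a `u` is unique;
* `isIntOver_monoidAlgebra`: the coefficient of `1` on a group algebra;
* `IsIntOver.restrict`: an integral of the base change `R' ⊗[R] A` over `R'` restricts to an
  `R'`-valued integral on `A`;
* `exists_of_faithfullyFlat`, `exists_of_span`: descent along faithfully flat maps and Zariski
  coverings (uniqueness + the sheaf property of the structure sheaf);
* `exists_integral_of_isMultType`: a Hopf algebra of multiplicative type has an integral.
-/

set_option autoImplicit false
universe u v w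

namespace Groth.Agent.Lib.Seat23.MultIntegral

open TensorProduct

section Basic

variable {R : Type u} [CommRing R] {A : Type v} [CommRing A] [Bialgebra R A]
  {R' : Type w} [CommRing R'] [Algebra R R']

/-- `u : A → R'` is a two-sided invariant normalised integral with values in the `R`-algebra
`R'`. -/
structure IsIntOver (u : A →ₗ[R] R') : Prop where
  map_one : u 1 = 1
  left : ∀ a : A, TensorProduct.map u LinearMap.id (CoalgebraStruct.comul (R := R) a) =
    u a ⊗ₜ[R] (1 : A)
  right : ∀ a : A, TensorProduct.map u LinearMap.id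
    (TensorProduct.comm R A A (CoalgebraStruct.comul (R := R) a)) = u a ⊗ₜ[R] (1 : A)

theorem IsIntOver.unique {u₁ u₂ : A →ₗ[R] R'} (h₁ : IsIntOver u₁) (h₂ : IsIntOver u₂) :
    u₁ = u₂ := by
  ext a
  let ψ : (A →ₗ[R] R') → (R' ⊗[R] A →ₗ[R] R') := fun v =>
    LinearMap.mul' R R' ∘ₗ TensorProduct.map LinearMap.id v
  have hψ : ∀ (v : A →ₗ[R] R') (r : R') (x : A), ψ v (r ⊗ₜ[R] x) = r * v x := by
    intro v r x
    simp [ψ]
  have e1 := congrArg (ψ u₂) (h₁.right a)
  have e2 := congrArg (ψ u₁) (h₂.left a)
  rw [hψ, h₂.map_one, mul_one] at e1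
  rw [hψ, h₁.map_one, mul_one] at e2
  have key : ∀ z : A ⊗[R] A,
      ψ u₂ (TensorProduct.map u₁ LinearMap.id (TensorProduct.comm R A A z)) =
        ψ u₁ (TensorProduct.map u₂ LinearMap.id z) := by
    intro z
    induction z using TensorProduct.induction_on with
    | zero => simp
    | tmul x y =>
      rw [TensorProduct.comm_tmul, TensorProduct.map_tmul, TensorProduct.map_tmul, hψ, hψ]
      simp [mul_comm]
    | add x y hx hy => simp only [map_add, hx, hy]
  rw [← e1, ← e2, key]

theorem IsIntOver.comp_algHom {R'' : Type*} [CommRing R''] [Algebra R R'']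
    {u : A →ₗ[R] R'} (h : IsIntOver u) (ι : R' →ₐ[R] R'') :
    IsIntOver (ι.toLinearMap ∘ₗ u) := by
  have hmap : ∀ z : A ⊗[R] A, TensorProduct.map (ι.toLinearMap ∘ₗ u) LinearMap.id z =
      TensorProduct.map ι.toLinearMap LinearMap.id (TensorProduct.map u LinearMap.id z) := by
    intro z
    rw [← LinearMap.comp_apply, ← TensorProduct.map_comp, LinearMap.id_comp]
  refine ⟨?_, ?_, ?_⟩
  · simp [h.map_one]
  · intro a
    rw [hmap, h.left]
    simp
  · intro a
    rw [hmap, h.right]
    simp

end Basic


section GroupAlg

variable (R : Type u) [CommRing R] (M : Type v) [CommMonoid M]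

/-- The coefficient of `1`. -/
noncomputable def coeffOne : MonoidAlgebra R M →ₗ[R] R :=
  Finsupp.lapply 1 ∘ₗ (MonoidAlgebra.coeffLinearEquiv R).toLinearMap

theorem coeffOne_apply (y : MonoidAlgebra R M) : coeffOne R M y = y.coeff 1 := rfl

theorem coeffOne_single (g : M) (a : R) [Decidable (g = 1)] :
    coeffOne R M (MonoidAlgebra.single g a) = if g = 1 then a else 0 := by
  classical
  rw [coeffOne_apply, MonoidAlgebra.coeff_single, Finsupp.single_apply]

theorem isIntOver_monoidAlgebra : IsIntOver (R := R) (R' := R) (coeffOne R M) := by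
  classical
  refine ⟨?_, ?_, ?_⟩
  · rw [MonoidAlgebra.one_def, coeffOne_single, if_pos rfl]
  · intro y
    induction y using MonoidAlgebra.induction_linear with
    | zero => simp
    | add y z hy hz => simp only [map_add, hy, hz, TensorProduct.add_tmul]
    | single g a =>
      rw [MonoidAlgebra.comul_single]
      simp only [CommSemiring.comul_apply, TensorProduct.map_tmul]
      change TensorProduct.map (coeffOne R M) LinearMap.id
        (MonoidAlgebra.single g 1 ⊗ₜ[R] MonoidAlgebra.single g a) = _
      rw [TensorProduct.map_tmul, coeffOne_single, coeffOne_single]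
      by_cases hg : g = 1
      · subst hg
        rw [if_pos rfl, if_pos rfl, LinearMap.id_apply, MonoidAlgebra.one_def]
        rw [← mul_one a, ← smul_eq_mul, ← MonoidAlgebra.smul_single, TensorProduct.tmul_smul,
          TensorProduct.smul_tmul', smul_eq_mul, mul_one]
      · rw [if_neg hg, if_neg hg, TensorProduct.zero_tmul, TensorProduct.zero_tmul]
  · intro y
    induction y using MonoidAlgebra.induction_linear with
    | zero => simp
    | add y z hy hz => simp only [map_add, hy, hz, TensorProduct.add_tmul]
    | single g a =>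
      rw [MonoidAlgebra.comul_single]
      simp only [CommSemiring.comul_apply, TensorProduct.map_tmul]
      change TensorProduct.map (coeffOne R M) LinearMap.id (TensorProduct.comm R _ _
        (MonoidAlgebra.single g 1 ⊗ₜ[R] MonoidAlgebra.single g a)) = _
      rw [TensorProduct.comm_tmul, TensorProduct.map_tmul, coeffOne_single]
      by_cases hg : g = 1
      · subst hg
        rw [LinearMap.id_apply, MonoidAlgebra.one_def]
      · rw [if_neg hg, TensorProduct.zero_tmul, TensorProduct.zero_tmul]

end GroupAlg


section Transport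

variable {R : Type u} [CommRing R] {A : Type v} [CommRing A] [Bialgebra R A]
  {B : Type w} [CommRing B] [Bialgebra R B]

theorem IsIntOver.of_bialgEquiv {l : B →ₗ[R] R} (h : IsIntOver (R := R) (R' := R) l)
    (e : A ≃ₐc[R] B) : IsIntOver (R := R) (R' := R) (l ∘ₗ (e : A →ₗ[R] B)) := by
  have hcomul : ∀ a : A, CoalgebraStruct.comul (R := R) (e a) =
      TensorProduct.map (e : A →ₗ[R] B) (e : A →ₗ[R] B) (CoalgebraStruct.comul (R := R) a) :=
    fun a => (CoalgHomClass.map_comp_comul_apply e a).symm
  -- `map id e` is injective
  have hinj : Function.Injective (TensorProduct.map (LinearMap.id : R →ₗ[R] R) (e : A →ₗ[R] B)) := by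
    have : TensorProduct.map (LinearMap.id : R →ₗ[R] R) (e : A →ₗ[R] B) =
        (TensorProduct.congr (LinearEquiv.refl R R) (e : A ≃ₗ[R] B)).toLinearMap := by
      apply TensorProduct.ext'
      intro r a
      simp
    rw [this]
    exact (TensorProduct.congr (LinearEquiv.refl R R) (e : A ≃ₗ[R] B)).injective
  have hkey : ∀ z : A ⊗[R] A,
      TensorProduct.map (LinearMap.id : R →ₗ[R] R) (e : A →ₗ[R] B)
        (TensorProduct.map (l ∘ₗ (e : A →ₗ[R] B)) LinearMap.id z) =
      TensorProduct.map l LinearMap.id
        (TensorProduct.map (e : A →ₗ[R] B) (e : A →ₗ[R] B) z) := by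
    intro z
    induction z using TensorProduct.induction_on with
    | zero => simp
    | tmul x y => simp
    | add x y hx hy => simp only [map_add, hx, hy]
  have hcomm : ∀ z : A ⊗[R] A,
      TensorProduct.map (e : A →ₗ[R] B) (e : A →ₗ[R] B) (TensorProduct.comm R A A z) =
        TensorProduct.comm R B B (TensorProduct.map (e : A →ₗ[R] B) (e : A →ₗ[R] B) z) := by
    intro z
    induction z using TensorProduct.induction_on with
    | zero => simp
    | tmul x y => simp
    | add x y hx hy => simp only [map_add, hx, hy]
  refine ⟨?_, ?_, ?_⟩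
  · simp [h.map_one]
  · intro a
    apply hinj
    rw [hkey, ← hcomul, h.left]
    simp
  · intro a
    apply hinj
    rw [hkey, hcomm, ← hcomul, h.right]
    simp

end Transport

section Restrict

variable {R : Type u} [CommRing R] (R' : Type v) [CommRing R'] [Algebra R R']
  (A : Type w) [CommRing A] [Bialgebra R A]

open Groth.Agent.Lib.Helper25 in
theorem IsIntOver.restrict {l' : R' ⊗[R] A →ₗ[R'] R'}
    (h : IsIntOver (R := R') (R' := R') l') :
    IsIntOver (R := R) (R' := R') ((l'.restrictScalars R) ∘ₗ TensorProduct.mk R R' A 1) := by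
  set u : A →ₗ[R] R' := (l'.restrictScalars R) ∘ₗ TensorProduct.mk R R' A 1 with hu
  have hu' : ∀ a, u a = l' ((1 : R') ⊗ₜ[R] a) := fun a => rfl
  have hkey : ∀ z : A ⊗[R] A,
      TensorProduct.lid R' (R' ⊗[R] A)
        (TensorProduct.map l' LinearMap.id (bcMap2 R' A z)) =
      TensorProduct.map u LinearMap.id z := by
    intro z
    induction z using TensorProduct.induction_on with
    | zero => simp
    | tmul x y =>
      rw [bcMap2_tmul, TensorProduct.map_tmul, TensorProduct.map_tmul, TensorProduct.lid_tmul,
        LinearMap.id_apply, LinearMap.id_apply, hu', TensorProduct.smul_tmul', smul_eq_mul,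
        mul_one]
    | add x y hx hy => simp only [map_add, hx, hy]
  have hcomm : ∀ z : A ⊗[R] A, bcMap2 R' A (TensorProduct.comm R A A z) =
      TensorProduct.comm R' (R' ⊗[R] A) (R' ⊗[R] A) (bcMap2 R' A z) := by
    intro z
    induction z using TensorProduct.induction_on with
    | zero => simp
    | tmul x y => simp [bcMap2_tmul]
    | add x y hx hy => simp only [map_add, hx, hy]
  refine ⟨?_, ?_, ?_⟩
  · rw [hu', ← Algebra.TensorProduct.one_def, h.map_one]
  · intro a
    rw [← hkey, ← comul_one_tmul, h.left, TensorProduct.lid_tmul, hu',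
      Algebra.TensorProduct.one_def, TensorProduct.smul_tmul', smul_eq_mul, mul_one]
  · intro a
    rw [← hkey, hcomm, ← comul_one_tmul, h.right, TensorProduct.lid_tmul, hu',
      Algebra.TensorProduct.one_def, TensorProduct.smul_tmul', smul_eq_mul, mul_one]

end Restrict


section Descent

variable {R : Type u} [CommRing R] {A : Type v} [CommRing A] [Bialgebra R A]

/-- Descent of the integral property along a jointly injective family of `R`-algebras. -/
theorem IsIntOver.of_family {ι : Type*} (R' : ι → Type w) [∀ i, CommRing (R' i)]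
    [∀ i, Algebra R (R' i)] (u : ∀ i, A →ₗ[R] R' i) (h : ∀ i, IsIntOver (u i))
    (l : A →ₗ[R] R) (hl : ∀ i a, algebraMap R (R' i) (l a) = u i a)
    (hinjR : ∀ r r' : R, (∀ i, algebraMap R (R' i) r = algebraMap R (R' i) r') → r = r')
    (hinjA : ∀ x y : R ⊗[R] A,
      (∀ i, TensorProduct.map (Algebra.linearMap R (R' i)) LinearMap.id x =
        TensorProduct.map (Algebra.linearMap R (R' i)) (LinearMap.id : A →ₗ[R] A) y) → x = y) :
    IsIntOver (R := R) (R' := R) l := by
  have hcomp : ∀ i, (Algebra.linearMap R (R' i)) ∘ₗ l = u i := by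
    intro i
    ext a
    exact hl i a
  have hmap : ∀ i (z : A ⊗[R] A),
      TensorProduct.map (Algebra.linearMap R (R' i)) (LinearMap.id : A →ₗ[R] A)
        (TensorProduct.map l LinearMap.id z) = TensorProduct.map (u i) LinearMap.id z := by
    intro i z
    rw [← LinearMap.comp_apply, ← TensorProduct.map_comp, LinearMap.id_comp, hcomp]
  refine ⟨?_, ?_, ?_⟩
  · apply hinjR
    intro i
    rw [hl, (h i).map_one, (algebraMap R (R' i)).map_one]
  · intro a
    apply hinjA
    intro i
    rw [hmap, (h i).left, TensorProduct.map_tmul, Algebra.linearMap_apply, hl, LinearMap.id_apply]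
  · intro a
    apply hinjA
    intro i
    rw [hmap, (h i).right, TensorProduct.map_tmul, Algebra.linearMap_apply, hl,
      LinearMap.id_apply]

variable {R' : Type w} [CommRing R'] [Algebra R R']

theorem map_linearMap_id_eq :
    TensorProduct.map (Algebra.linearMap R R') (LinearMap.id : A →ₗ[R] A) =
      (TensorProduct.mk R R' A 1) ∘ₗ (TensorProduct.lid R A).toLinearMap := by
  apply TensorProduct.ext'
  intro r a
  simp only [TensorProduct.map_tmul, Algebra.linearMap_apply, LinearMap.id_apply,
    LinearMap.comp_apply, LinearEquiv.coe_coe, TensorProduct.lid_tmul, TensorProduct.mk_apply,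
    TensorProduct.tmul_smul]
  rw [TensorProduct.smul_tmul', Algebra.smul_def, mul_one]

/-- Faithfully flat descent of the integral. -/
theorem exists_of_faithfullyFlat [Module.FaithfullyFlat R R'] {u : A →ₗ[R] R'}
    (h : IsIntOver u) :
    ∃ l : A →ₗ[R] R, IsIntOver (R := R) (R' := R) l ∧ ∀ a, algebraMap R R' (l a) = u a := by
  have heq : (Algebra.TensorProduct.includeLeft : R' →ₐ[R] R' ⊗[R] R').toLinearMap ∘ₗ u =
      (Algebra.TensorProduct.includeRight : R' →ₐ[R] R' ⊗[R] R').toLinearMap ∘ₗ u :=
    (h.comp_algHom _).unique (h.comp_algHom _)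
  have hrange : ∀ a, u a ∈ LinearMap.range (Algebra.linearMap R R') := by
    intro a
    have hex := Algebra.IsEffective.of_faithfullyFlat R R'
    have h0 : Algebra.TensorProduct.includeLeftSubRight R R' (u a) = 0 := by
      rw [Algebra.TensorProduct.includeLeftSubRight_apply, sub_eq_zero]
      exact LinearMap.congr_fun heq a
    exact (hex (u a)).mp h0
  have hinj : Function.Injective (Algebra.linearMap R R') :=
    FaithfulSMul.algebraMap_injective R R'
  let e := LinearEquiv.ofInjective (Algebra.linearMap R R') hinj
  let l : A →ₗ[R] R := e.symm.toLinearMap ∘ₗ (u.codRestrict _ hrange)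
  have hl : ∀ a, algebraMap R R' (l a) = u a := by
    intro a
    have h1 := LinearEquiv.apply_symm_apply e (u.codRestrict _ hrange a)
    have h2 := congrArg Subtype.val h1
    exact h2
  refine ⟨l, ?_, hl⟩
  refine IsIntOver.of_family (ι := Unit) (fun _ => R') (fun _ => u) (fun _ => h) l
    (fun _ a => hl a) ?_ ?_
  · intro r r' hr
    exact hinj (hr ())
  · intro x y hxy
    have h1 := hxy ()
    rw [map_linearMap_id_eq, LinearMap.comp_apply, LinearMap.comp_apply] at h1
    have h2 := Module.FaithfullyFlat.tensorProduct_mk_injective (A := R) (B := R') A h1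
    exact (TensorProduct.lid R A).injective h2

/-- Zariski descent of the integral. -/
theorem exists_of_span (s : Set R) (hs : Ideal.span s = ⊤)
    (u : ∀ f : s, A →ₗ[R] Localization.Away (f : R)) (h : ∀ f, IsIntOver (u f)) :
    ∃ l : A →ₗ[R] R, IsIntOver (R := R) (R' := R) l := by
  classical
  let ιR : ∀ f g : s, Localization.Away (f : R) →ₐ[R] Localization.Away ((f : R) * (g : R)) :=
    fun f g =>
    { IsLocalization.Away.awayToAwayRight (S := Localization.Away (f : R))
        (P := Localization.Away ((f : R) * (g : R))) (f : R) (g : R) with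
      commutes' := fun r => IsLocalization.Away.awayToAwayRight_eq (f : R) (g : R) r }
  let ιL : ∀ f g : s, Localization.Away (g : R) →ₐ[R] Localization.Away ((f : R) * (g : R)) :=
    fun f g =>
    { IsLocalization.Away.awayToAwayLeft (S := Localization.Away (g : R))
        (P := Localization.Away ((f : R) * (g : R))) (g : R) (f : R) with
      commutes' := fun r => IsLocalization.Away.awayToAwayLeft_eq (g : R) (f : R) r }
  have hcompat : ∀ (f g : s) (a : A), ιR f g (u f a) = ιL f g (u g a) := fun f g a =>
    LinearMap.congr_fun (((h f).comp_algHom (ιR f g)).unique ((h g).comp_algHom (ιL f g))) a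
  have hex : ∀ a : A, ∃! r : R, ∀ f : s, algebraMap R (Localization.Away (f : R)) r = u f a :=
    fun a => Localization.existsUnique_algebraMap_eq_of_span_eq_top s hs (fun f => u f a)
      (fun f g => hcompat f g a)
  choose l0 hl0 _ using hex
  have hinjR : ∀ r r' : R, (∀ f : s, algebraMap R (Localization.Away (f : R)) r =
      algebraMap R (Localization.Away (f : R)) r') → r = r' := by
    intro r r' hr
    apply Localization.algebraMap_injective_of_span_eq_top s hs
    funext f
    exact hr f
  let l : A →ₗ[R] R :=
    { toFun := l0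
      map_add' := by
        intro a b
        apply hinjR
        intro f
        rw [hl0, map_add, map_add, hl0, hl0]
      map_smul' := by
        intro r a
        apply hinjR
        intro f
        rw [hl0, RingHom.id_apply, smul_eq_mul, map_mul, hl0, map_smul, Algebra.smul_def] }
  refine ⟨l, IsIntOver.of_family (ι := s) (fun f => Localization.Away (f : R)) u h l
    (fun f a => hl0 a f) hinjR ?_⟩
  intro x y hxy
  haveI : ∀ r : s, IsLocalizedModule.Away r.1
      (TensorProduct.mk R (Localization.Away r.1) A 1) := fun r =>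
    (isLocalizedModule_iff_isBaseChange (S := Submonoid.powers r.1)
      (A := Localization.Away r.1) _).mpr (TensorProduct.isBaseChange R A _)
  apply (TensorProduct.lid R A).injective
  refine Module.eq_of_isLocalized_span s hs
    (fun r : s => Localization.Away r.1 ⊗[R] A)
    (fun r : s => TensorProduct.mk R (Localization.Away r.1) A 1) _ _ ?_
  intro r
  have h1 := hxy r
  rw [map_linearMap_id_eq, LinearMap.comp_apply, LinearMap.comp_apply] at h1
  exact h1

end Descent


section Consequences

variable {R : Type u} [CommRing R] {A : Type v} [CommRing A] [Bialgebra R A]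

/-- `∑ l(a₂) • a₁ = l(a) • 1`. -/
theorem IsIntOver.rid_lTensor_comul {l : A →ₗ[R] R} (h : IsIntOver (R := R) (R' := R) l) (a : A) :
    TensorProduct.rid R A (LinearMap.lTensor A l (CoalgebraStruct.comul (R := R) a)) =
      l a • (1 : A) := by
  have hkey : ∀ z : A ⊗[R] A, TensorProduct.lid R A (TensorProduct.map l LinearMap.id
      (TensorProduct.comm R A A z)) = TensorProduct.rid R A (LinearMap.lTensor A l z) := by
    intro z
    induction z using TensorProduct.induction_on with
    | zero => simp
    | tmul x y => simp
    | add x y hx hy => simp only [map_add, hx, hy]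
  rw [← hkey, h.right, TensorProduct.lid_tmul]

/-- `∑ l(a₁) • a₂ = l(a) • 1`. -/
theorem IsIntOver.lid_rTensor_comul {l : A →ₗ[R] R} (h : IsIntOver (R := R) (R' := R) l) (a : A) :
    TensorProduct.lid R A (LinearMap.rTensor A l (CoalgebraStruct.comul (R := R) a)) =
      l a • (1 : A) := by
  have hkey : ∀ z : A ⊗[R] A, TensorProduct.lid R A (TensorProduct.map l LinearMap.id z) =
      TensorProduct.lid R A (LinearMap.rTensor A l z) := by
    intro z
    rfl
  rw [← hkey, h.left, TensorProduct.lid_tmul]

end Consequences

section MultType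

variable (R : Type u) [CommRing R] (A : Type u) [CommRing A] [HopfAlgebra R A]

/-- `A` has a two-sided invariant normalised integral `A → R`. -/
def HasInt : Prop := ∃ l : A →ₗ[R] R, IsIntOver (R := R) (R' := R) l

theorem hasInt_of_isDiag (h : SGA3b.IsDiag R A) : HasInt R A := by
  obtain ⟨M, _, ⟨e⟩⟩ := h
  exact ⟨_, (isIntOver_monoidAlgebra R M).of_bialgEquiv e⟩

theorem hasInt_of_faithfullyFlat (R' : Type u) [CommRing R'] [Algebra R R']
    [Module.FaithfullyFlat R R'] (h : HasInt R' (R' ⊗[R] A)) : HasInt R A := by
  obtain ⟨l', hl'⟩ := h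
  obtain ⟨l, hl, -⟩ := exists_of_faithfullyFlat (IsIntOver.restrict R' A hl')
  exact ⟨l, hl⟩

theorem hasInt_of_isMultTypeConst (h : SGA3b.IsMultTypeConst R A) : HasInt R A := by
  obtain ⟨R', _, _, hff, hd⟩ := h
  exact hasInt_of_faithfullyFlat R A R' (hasInt_of_isDiag R' (R' ⊗[R] A) hd)

theorem hasInt_of_span (s : Set R) (hs : Ideal.span s = ⊤)
    (h : ∀ f ∈ s, HasInt (Localization.Away f) (Localization.Away f ⊗[R] A)) : HasInt R A := by
  choose l' hl' using fun f : s => h f.1 f.2
  exact exists_of_span s hs
    (fun f => ((l' f).restrictScalars R) ∘ₗ TensorProduct.mk R (Localization.Away (f : R)) A 1)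
    (fun f => IsIntOver.restrict (Localization.Away (f : R)) A (hl' f))

/-- A Hopf algebra of multiplicative type has a two-sided invariant normalised integral. -/
theorem exists_integral_of_isMultType (h : SGA3b.IsMultType R A) : HasInt R A := by
  obtain ⟨s, hs, hf⟩ := h
  exact hasInt_of_span R A s hs (fun f hfs => hasInt_of_isMultTypeConst _ _ (hf f hfs))

end MultType

end Groth.Agent.Lib.Seat23.MultIntegral
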