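import Groth.Agent.Lib.Helper25MultRigid
import Mathlib.LinearAlgebra.TensorProduct.Quotient
import Mathlib.RingTheory.Smooth.Basic

/-!
# Seat23QuotBC: reduction modulo an ideal `I` as the base change `(R ⧸ I) ⊗[R] -`

* `one_tmul_eq_zero_iff`, `one_tmul_eq_iff`: `1 ⊗ x = 0` in `(R ⧸ I) ⊗ M` iff `x ∈ I • M`;
* `mem_smul_top_of_bcMap2_eq_zero`: the same for the map `A ⊗ A → (R̄ ⊗ A) ⊗[R̄] (R̄ ⊗ A)`;
* `exists_algHom_lift`: formal smoothness lifts algebra maps `C → (R ⧸ I) ⊗ A` to `C → A` when `I`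
  is nilpotent;
* `defect_mem_of_bialgHom`: an algebra map lifting a bialgebra map modulo `I` is comultiplicative
  modulo `I`.
-/

set_option autoImplicit false
universe u v w

namespace Groth.Agent.Lib.Seat23.QuotBC

open TensorProduct Groth.Agent.Lib.Helper25

section Module

variable {R : Type u} [CommRing R] (I : Ideal R) {M : Type v} [AddCommGroup M] [Module R M]

theorem one_tmul_eq_zero_iff (x : M) :
    (1 : R ⧸ I) ⊗ₜ[R] x = 0 ↔ x ∈ I • (⊤ : Submodule R M) := by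
  rw [← (TensorProduct.quotTensorEquivQuotSMul M I).map_eq_zero_iff,
    TensorProduct.quotTensorEquivQuotSMul_mk_one_tmul, Submodule.Quotient.mk_eq_zero]

theorem one_tmul_eq_iff (x y : M) :
    (1 : R ⧸ I) ⊗ₜ[R] x = (1 : R ⧸ I) ⊗ₜ[R] y ↔ x - y ∈ I • (⊤ : Submodule R M) := by
  rw [← one_tmul_eq_zero_iff, TensorProduct.tmul_sub, sub_eq_zero]

end Module

section Bialg

variable {R : Type u} [CommRing R] (I : Ideal R) (A : Type v) [CommRing A] [Bialgebra R A]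

theorem mem_smul_top_of_bcMap2_eq_zero (z : A ⊗[R] A) (h : bcMap2 (R ⧸ I) A z = 0) :
    z ∈ I • (⊤ : Submodule R (A ⊗[R] A)) := by
  rw [← one_tmul_eq_zero_iff]
  have h1 : TensorProduct.mk R ((R ⧸ I) ⊗[R ⧸ I] (R ⧸ I)) (A ⊗[R] A)
      ((1 : R ⧸ I) ⊗ₜ[R ⧸ I] (1 : R ⧸ I)) z = 0 := by
    have h2 : bcMap2 (R ⧸ I) A z =
        (AlgebraTensorModule.tensorTensorTensorComm R (R ⧸ I) R (R ⧸ I) (R ⧸ I) (R ⧸ I) A A)
          (TensorProduct.mk R ((R ⧸ I) ⊗[R ⧸ I] (R ⧸ I)) (A ⊗[R] A)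
            ((1 : R ⧸ I) ⊗ₜ[R ⧸ I] (1 : R ⧸ I)) z) := rfl
    rw [h2] at h
    exact (LinearEquiv.map_eq_zero_iff _).mp h
  have h3 := congrArg (LinearMap.rTensor (A ⊗[R] A)
    ((TensorProduct.lid (R ⧸ I) (R ⧸ I)).toLinearMap.restrictScalars R)) h1
  simpa using h3

end Bialg

section Lift

variable {R : Type u} [CommRing R] (I : Ideal R) {A : Type v} [CommRing A] [Algebra R A]
  {C : Type w} [CommRing C] [Algebra R C] [Algebra.FormallySmooth R C]

theorem includeRight_surjective :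
    Function.Surjective (Algebra.TensorProduct.includeRight : A →ₐ[R] (R ⧸ I) ⊗[R] A) := by
  intro y
  induction y using TensorProduct.induction_on with
  | zero => exact ⟨0, map_zero _⟩
  | tmul r a =>
    obtain ⟨r, rfl⟩ := Ideal.Quotient.mk_surjective r
    refine ⟨r • a, ?_⟩
    rw [Algebra.TensorProduct.includeRight_apply, TensorProduct.tmul_smul,
      TensorProduct.smul_tmul', ← Ideal.Quotient.algebraMap_eq, Algebra.smul_def, mul_one]
  | add x y hx hy =>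
    obtain ⟨a, rfl⟩ := hx
    obtain ⟨b, rfl⟩ := hy
    exact ⟨a + b, map_add _ _ _⟩

theorem isNilpotent_ker_includeRight (hI : IsNilpotent I) :
    IsNilpotent (RingHom.ker
      ((Algebra.TensorProduct.includeRight : A →ₐ[R] (R ⧸ I) ⊗[R] A) : A →+* (R ⧸ I) ⊗[R] A)) := by
  have hle : RingHom.ker
      ((Algebra.TensorProduct.includeRight : A →ₐ[R] (R ⧸ I) ⊗[R] A) : A →+* (R ⧸ I) ⊗[R] A) ≤
      Ideal.map (algebraMap R A) I := by
    intro x hx
    have h1 : (1 : R ⧸ I) ⊗ₜ[R] x = 0 := hx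
    have h2 := (one_tmul_eq_zero_iff I x).mp h1
    rw [Ideal.smul_top_eq_map] at h2
    exact h2
  obtain ⟨n, hn⟩ := hI
  refine ⟨n, ?_⟩
  have h3 : Ideal.map (algebraMap R A) I ^ n = ⊥ := by
    rw [← Ideal.map_pow, hn, Ideal.zero_eq_bot, Ideal.map_bot]
  exact le_bot_iff.mp (h3 ▸ Ideal.pow_right_mono hle n)

/-- Lifting algebra maps modulo a nilpotent ideal. -/
theorem exists_algHom_lift (hI : IsNilpotent I) (f : C →ₐ[R] (R ⧸ I) ⊗[R] A) :
    ∃ g : C →ₐ[R] A, ∀ c, (1 : R ⧸ I) ⊗ₜ[R] g c = f c := by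
  refine ⟨Algebra.FormallySmooth.liftOfSurjective f
    (Algebra.TensorProduct.includeRight : A →ₐ[R] (R ⧸ I) ⊗[R] A)
    (includeRight_surjective I) (isNilpotent_ker_includeRight I hI), fun c => ?_⟩
  exact Algebra.FormallySmooth.liftOfSurjective_apply f _ (includeRight_surjective I)
    (isNilpotent_ker_includeRight I hI) c

end Lift

section Defect

variable {R : Type u} [CommRing R] (I : Ideal R) {A : Type v} [CommRing A] [Bialgebra R A]
  {C : Type w} [CommRing C] [Bialgebra R C]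

/-- An algebra map lifting a bialgebra map modulo `I` is comultiplicative modulo `I`. -/
theorem defect_mem_of_bialgHom (φ₀ : ((R ⧸ I) ⊗[R] C) →ₐc[R ⧸ I] ((R ⧸ I) ⊗[R] A))
    (g : C →ₐ[R] A) (hg : ∀ c, (1 : R ⧸ I) ⊗ₜ[R] g c = φ₀ ((1 : R ⧸ I) ⊗ₜ[R] c)) (c : C) :
    CoalgebraStruct.comul (R := R) (g c) -
      TensorProduct.map g.toLinearMap g.toLinearMap (CoalgebraStruct.comul (R := R) c) ∈
        I • (⊤ : Submodule R (A ⊗[R] A)) := by
  apply mem_smul_top_of_bcMap2_eq_zero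
  have hkey : ∀ w : C ⊗[R] C,
      TensorProduct.map (φ₀ : (R ⧸ I) ⊗[R] C →ₗ[R ⧸ I] (R ⧸ I) ⊗[R] A)
        (φ₀ : (R ⧸ I) ⊗[R] C →ₗ[R ⧸ I] (R ⧸ I) ⊗[R] A) (bcMap2 (R ⧸ I) C w) =
      bcMap2 (R ⧸ I) A (TensorProduct.map g.toLinearMap g.toLinearMap w) := by
    intro w
    induction w using TensorProduct.induction_on with
    | zero => simp
    | tmul x y =>
      rw [bcMap2_tmul, TensorProduct.map_tmul, TensorProduct.map_tmul, bcMap2_tmul]
      change φ₀ _ ⊗ₜ[R ⧸ I] φ₀ _ = _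
      rw [← hg, ← hg]
      rfl
    | add x y hx hy => simp only [map_add, hx, hy]
  have h1 : CoalgebraStruct.comul (R := R ⧸ I) (φ₀ ((1 : R ⧸ I) ⊗ₜ[R] c)) =
      TensorProduct.map (φ₀ : (R ⧸ I) ⊗[R] C →ₗ[R ⧸ I] (R ⧸ I) ⊗[R] A)
        (φ₀ : (R ⧸ I) ⊗[R] C →ₗ[R ⧸ I] (R ⧸ I) ⊗[R] A)
        (CoalgebraStruct.comul (R := R ⧸ I) ((1 : R ⧸ I) ⊗ₜ[R] c)) :=
    (CoalgHomClass.map_comp_comul_apply φ₀ _).symm
  rw [← hg, comul_one_tmul, comul_one_tmul, hkey] at h1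
  rw [map_sub, h1, sub_self]

end Defect

end Groth.Agent.Lib.Seat23.QuotBC
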