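import Groth.Agent.Lib.Seat23QuotBC
import Groth.Agent.Lib.Seat23ConvInt

/-!
# Seat23QuotTower: the quotients `(A ⧸ J) ⊗[A] N` and their transition maps

* `exists_one_tmul`: every element of `(A ⧸ J) ⊗ N` is `1 ⊗ n`;
* `smul_top_quot_tensor`: `J` kills `(A ⧸ J) ⊗ N`;
* `qMap`, `qMapAlg`: transition maps for `J' ≤ J`; `qMap_eq_zero_iff`: the kernel is `J • ⊤`;
* `isNilpotent_ker_qMapAlg`: square-zero kernel when `J * J ≤ J'`.
-/

set_option autoImplicit false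

namespace Groth.Agent.Lib.Seat23.QuotTower

open TensorProduct Groth.Agent.Lib.Seat23.QuotBC Groth.Agent.Lib.Seat23.ConvInt

section Module

variable {A : Type*} [CommRing A] (J : Ideal A) {N : Type*} [AddCommGroup N] [Module A N]

theorem exists_one_tmul (z : (A ⧸ J) ⊗[A] N) : ∃ n : N, (1 : A ⧸ J) ⊗ₜ[A] n = z := by
  induction z using TensorProduct.induction_on with
  | zero => exact ⟨0, TensorProduct.tmul_zero _ _⟩
  | tmul r a =>
    obtain ⟨r, rfl⟩ := Ideal.Quotient.mk_surjective r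
    refine ⟨r • a, ?_⟩
    rw [TensorProduct.tmul_smul, TensorProduct.smul_tmul', ← Ideal.Quotient.algebraMap_eq,
      Algebra.smul_def, mul_one]
  | add x y hx hy =>
    obtain ⟨a, rfl⟩ := hx
    obtain ⟨b, rfl⟩ := hy
    exact ⟨a + b, TensorProduct.tmul_add _ _ _⟩

variable (N) in
theorem smul_top_quot_tensor : J • (⊤ : Submodule A ((A ⧸ J) ⊗[A] N)) = ⊥ := by
  apply le_bot_iff.mp
  rw [Submodule.smul_le]
  intro r hr z _
  rw [Submodule.mem_bot]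
  obtain ⟨n, rfl⟩ := exists_one_tmul J z
  rw [TensorProduct.smul_tmul', Algebra.smul_def, mul_one,
    Ideal.Quotient.algebraMap_eq, Ideal.Quotient.eq_zero_iff_mem.mpr hr, TensorProduct.zero_tmul]

variable (N) in
theorem smul_top_quot_tensor_of_le {K : Ideal A} (h : K ≤ J) :
    K • (⊤ : Submodule A ((A ⧸ J) ⊗[A] N)) = ⊥ :=
  le_bot_iff.mp ((smul_top_mono h).trans (smul_top_quot_tensor J N).le)

variable {J} {J' : Ideal A} (h : J' ≤ J)

variable (N) in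
/-- the transition map `(A ⧸ J') ⊗ N → (A ⧸ J) ⊗ N`. -/
noncomputable def qMap : (A ⧸ J') ⊗[A] N →ₗ[A] (A ⧸ J) ⊗[A] N :=
  LinearMap.rTensor N (Ideal.Quotient.factorₐ A h).toLinearMap

@[simp]
theorem qMap_one_tmul (n : N) : qMap N h ((1 : A ⧸ J') ⊗ₜ[A] n) = (1 : A ⧸ J) ⊗ₜ[A] n := by
  simp [qMap]

theorem qMap_eq_zero_iff (z : (A ⧸ J') ⊗[A] N) :
    qMap N h z = 0 ↔ z ∈ J • (⊤ : Submodule A ((A ⧸ J') ⊗[A] N)) := by
  obtain ⟨n, rfl⟩ := exists_one_tmul J' z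
  rw [qMap_one_tmul, one_tmul_eq_zero_iff]
  constructor
  · intro hn
    exact map_mem_smul_top (TensorProduct.mk A (A ⧸ J') N 1) J hn
  · intro hz
    have h1 := map_mem_smul_top (qMap N h) J hz
    rw [smul_top_quot_tensor, Submodule.mem_bot, qMap_one_tmul] at h1
    exact (one_tmul_eq_zero_iff J n).mp h1

theorem qMap_lTensor {N' : Type*} [AddCommGroup N'] [Module A N'] (f : N →ₗ[A] N')
    (z : (A ⧸ J') ⊗[A] N) :
    qMap N' h (LinearMap.lTensor (A ⧸ J') f z) = LinearMap.lTensor (A ⧸ J) f (qMap N h z) := by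
  obtain ⟨n, rfl⟩ := exists_one_tmul J' z
  simp

end Module

section Alg

variable {A : Type*} [CommRing A] {J J' : Ideal A} (h : J' ≤ J) (T : Type*) [CommRing T]
  [Algebra A T]

/-- the transition map as an algebra map. -/
noncomputable def qMapAlg : (A ⧸ J') ⊗[A] T →ₐ[A] (A ⧸ J) ⊗[A] T :=
  Algebra.TensorProduct.map (Ideal.Quotient.factorₐ A h) (AlgHom.id A T)

theorem qMapAlg_apply (z : (A ⧸ J') ⊗[A] T) : qMapAlg h T z = qMap T h z := by
  obtain ⟨n, rfl⟩ := exists_one_tmul J' z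
  simp [qMapAlg]

theorem qMapAlg_one_tmul (t : T) : qMapAlg h T ((1 : A ⧸ J') ⊗ₜ[A] t) = (1 : A ⧸ J) ⊗ₜ[A] t := by
  simp [qMapAlg]

theorem qMapAlg_surjective : Function.Surjective (qMapAlg h T) := by
  intro z
  obtain ⟨n, rfl⟩ := exists_one_tmul J z
  exact ⟨(1 : A ⧸ J') ⊗ₜ[A] n, qMapAlg_one_tmul h T n⟩

theorem isNilpotent_ker_qMapAlg (hsq : J * J ≤ J') :
    IsNilpotent (RingHom.ker ((qMapAlg h T : (A ⧸ J') ⊗[A] T →ₐ[A] (A ⧸ J) ⊗[A] T) :
      (A ⧸ J') ⊗[A] T →+* (A ⧸ J) ⊗[A] T)) := by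
  have hle : RingHom.ker ((qMapAlg h T : (A ⧸ J') ⊗[A] T →ₐ[A] (A ⧸ J) ⊗[A] T) :
      (A ⧸ J') ⊗[A] T →+* (A ⧸ J) ⊗[A] T) ≤ Ideal.map (algebraMap A ((A ⧸ J') ⊗[A] T)) J := by
    intro z hz
    have h1 : qMapAlg h T z = 0 := hz
    rw [qMapAlg_apply, qMap_eq_zero_iff, Ideal.smul_top_eq_map] at h1
    exact h1
  refine ⟨2, ?_⟩
  apply le_bot_iff.mp
  refine (Ideal.pow_right_mono hle 2).trans ?_
  rw [← Ideal.map_pow, pow_two]
  refine (Ideal.map_mono hsq).trans ?_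
  intro z hz
  have h2 : z ∈ (Ideal.map (algebraMap A ((A ⧸ J') ⊗[A] T)) J').restrictScalars A := hz
  rw [← Ideal.smul_top_eq_map, smul_top_quot_tensor] at h2
  exact h2

end Alg

end Groth.Agent.Lib.Seat23.QuotTower
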