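import Groth.Agent.Lib.Seat23BialgDescent
import Groth.Agent.Lib.Seat23LiftSmooth
import Groth.Agent.Lib.Seat23MultIntegral
import Groth.Agent.Lib.Seat23QuotBC
import Groth.Agent.Lib.Seat23QuotTower
import Groth.Agent.Lib.Seat23FibreTriv

/-!
# Seat23DiagNil: a group of multiplicative type which is diagonalisable modulo a nil ideal is
diagonalisable

* `groupLike_unique`: rigidity of characters modulo a nil ideal (for `NoPrimMod` Hopf algebras);
* `formallySmooth_laurent`, `ofUnit`, `exists_groupLike_of_nilpotent`, `exists_groupLike_of_nil`: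
  lifting of characters modulo a nilpotent / nil ideal (for Hopf algebras with an invariant integral);
* `existsUnique_groupLike_lift`, `exists_char_lift`, `ofChar`;
* `bijective_of_bijective_mod_nil_diag`: a bialgebra map `R[N] → R[N']` bijective modulo a nil ideal is
  bijective;
* `bijective_lTensor_baseChange`, `bijective_lTensor_of_tower`, `bijective_of_lTensor_away`;
* `bijective_of_bijective_mod_nil`: the same for `R[M] → A`, `A` of multiplicative type;
* `isDiag_of_isDiag_mod_nil`.
-/

set_option autoImplicit false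
set_option linter.style.haveILetI false
universe u

namespace Groth.Agent.Lib.Seat23.DiagNil

open TensorProduct Groth.Agent.Lib.Helper25 Groth.Agent.Lib.Seat23.BialgDescent
open scoped LaurentPolynomial

section Unique

variable {R : Type*} [CommRing R] {A : Type*} [CommRing A] [HopfAlgebra R A]

theorem smul_top_bot : (⊥ : Ideal R) • (⊤ : Submodule R A) = ⊥ := Submodule.bot_smul _

/-- An element `x` with `Δ x - x ⊗ 1 - 1 ⊗ x = x ⊗ x` (i.e. `1 + x` group-like) which lies in `K A`
for a nilpotent ideal `K` vanishes. -/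
theorem eq_zero_of_primDefect_eq_tmul_self (hP : NoPrimMod R A) (K : Ideal R) (hK : IsNilpotent K)
    (x : A) (hx : primDefect R A x = x ⊗ₜ[R] x) (hxK : x ∈ K • (⊤ : Submodule R A)) : x = 0 := by
  have hpow : ∀ n : ℕ, x ∈ (K ^ (n + 1)) • (⊤ : Submodule R A) := by
    intro n
    induction n with
    | zero => rwa [zero_add, pow_one]
    | succ n ih =>
      have h1 : primDefect R A x ∈ (K ^ (n + 1) * K ^ (n + 1)) • (⊤ : Submodule R (A ⊗[R] A)) := by
        rw [hx]
        exact tmul_mem_smul_top (K ^ (n + 1)) (K ^ (n + 1)) ih ih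
      have h2 := hP _ _ h1
      have hle : K ^ (n + 1) * K ^ (n + 1) ≤ K ^ (n + 1 + 1) := by
        rw [← pow_add]
        exact Ideal.pow_le_pow_right (by omega)
      exact Submodule.smul_mono hle le_rfl h2
  obtain ⟨n, hn⟩ := hK
  have h0 := hpow n
  have hle : K ^ (n + 1) ≤ ⊥ := by
    rw [pow_succ, hn]
    exact le_of_eq (Ideal.bot_mul K)
  have := Submodule.smul_mono hle (le_refl (⊤ : Submodule R A)) h0
  rwa [Submodule.bot_smul, Submodule.mem_bot] at this

theorem primDefect_sub_one {w : A} (hw : IsGroupLikeElem R w) :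
    primDefect R A (w - 1) = (w - 1) ⊗ₜ[R] (w - 1) := by
  rw [primDefect_apply, map_sub, hw.comul_eq_tmul_self, Bialgebra.comul_one,
    Algebra.TensorProduct.one_def]
  simp only [TensorProduct.sub_tmul, TensorProduct.tmul_sub]
  abel

/-- Rigidity of characters: two group-like elements congruent modulo a nil ideal are equal. -/
theorem groupLike_unique (hP : NoPrimMod R A) (I : Ideal R) (hI : ∀ x ∈ I, IsNilpotent x)
    {g g' : A} (hg : IsGroupLikeElem R g) (hg' : IsGroupLikeElem R g')
    (h : g - g' ∈ I • (⊤ : Submodule R A)) : g = g' := by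
  obtain ⟨K, hKfg, hKI, hK⟩ := exists_fg_le_of_mem_smul_top I (g - g') h
  have hKnil : IsNilpotent K := (Ideal.FG.isNilpotent_iff_le_nilradical hKfg).mpr
    (fun x hx => hI x (hKI hx))
  set w := g * HopfAlgebra.antipode R g' with hw
  have hwgl : IsGroupLikeElem R w := hg.mul hg'.antipode
  have hw1 : w - 1 = (g - g') * HopfAlgebra.antipode R g' := by
    rw [sub_mul, hg'.mul_antipode_cancel]
  have hmem : w - 1 ∈ K • (⊤ : Submodule R A) := by
    rw [hw1, mul_comm]
    exact map_mem_smul_top (LinearMap.mulLeft R (HopfAlgebra.antipode R g')) K hK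
  have h0 := eq_zero_of_primDefect_eq_tmul_self hP K hKnil (w - 1) (primDefect_sub_one hwgl) hmem
  have h1 : w = 1 := sub_eq_zero.mp h0
  calc g = g * (HopfAlgebra.antipode R g' * g') := by rw [hg'.antipode_mul_cancel, mul_one]
    _ = w * g' := by rw [hw, mul_assoc]
    _ = g' := by rw [h1, one_mul]

end Unique

section Laurent

variable (R : Type*) [CommRing R]

instance isScalarTower_laurent : IsScalarTower R (Polynomial R) R[T;T⁻¹] :=
  IsScalarTower.of_algebraMap_eq (fun r => by
    rw [LaurentPolynomial.algebraMap_eq_toLaurent, Polynomial.algebraMap_apply,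
      Algebra.algebraMap_self_apply, Polynomial.toLaurent_C]
    rfl)

instance formallySmooth_laurent : Algebra.FormallySmooth R R[T;T⁻¹] := by
  haveI : Algebra.FormallySmooth (Polynomial R) R[T;T⁻¹] :=
    Algebra.FormallySmooth.of_isLocalization (Submonoid.powers (Polynomial.X : Polynomial R))
  exact Algebra.FormallySmooth.comp R (Polynomial R) R[T;T⁻¹]

variable {R} {A : Type*} [CommRing A] [Algebra R A]

/-- The algebra map `R[T;T⁻¹] → A` attached to a unit. -/
noncomputable def ofUnit (u : Aˣ) : R[T;T⁻¹] →ₐ[R] A :=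
  AddMonoidAlgebra.lift R A ℤ ((Units.coeHom A).comp (zpowersHom Aˣ u))

theorem ofUnit_T (u : Aˣ) (n : ℤ) : ofUnit (R := R) u (LaurentPolynomial.T n) = ((u ^ n : Aˣ) : A) := by
  unfold ofUnit LaurentPolynomial.T
  rw [AddMonoidAlgebra.lift_single, one_smul]
  rfl

end Laurent

section Lift

variable {R : Type*} [CommRing R] {A : Type*} [CommRing A] [HopfAlgebra R A]

theorem isNilpotent_of_mem_smul_top (K : Ideal R) (hK : IsNilpotent K) {x : A}
    (hx : x ∈ K • (⊤ : Submodule R A)) : IsNilpotent x := by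
  obtain ⟨n, hn⟩ := hK
  rw [LiftSmooth.mem_smul_top_iff_mem_map] at hx
  refine ⟨n, ?_⟩
  have h1 := Ideal.pow_mem_pow hx n
  rw [← Ideal.map_pow, hn, Ideal.zero_eq_bot, Ideal.map_bot] at h1
  exact h1

/-- An element which is group-like modulo a nilpotent ideal is a unit. -/
theorem isUnit_of_groupLike_mod (K : Ideal R) (hK : IsNilpotent K) (a : A)
    (h1 : Coalgebra.counit (R := R) a - 1 ∈ K)
    (h2 : CoalgebraStruct.comul (R := R) a - a ⊗ₜ[R] a ∈ K • (⊤ : Submodule R (A ⊗[R] A))) :
    IsUnit a := by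
  set μS : A ⊗[R] A →ₗ[R] A :=
    LinearMap.mul' R A ∘ₗ (HopfAlgebra.antipode R (A := A)).lTensor A with hμS
  have e1 : μS (CoalgebraStruct.comul (R := R) a) = algebraMap R A (Coalgebra.counit (R := R) a) :=
    HopfAlgebra.mul_antipode_lTensor_comul_apply (R := R) a
  have e2 : μS (a ⊗ₜ[R] a) = a * HopfAlgebra.antipode R a := by
    simp [hμS]
  have h3 : μS (CoalgebraStruct.comul (R := R) a - a ⊗ₜ[R] a) ∈ K • (⊤ : Submodule R A) :=
    map_mem_smul_top μS K h2
  rw [map_sub, e1, e2] at h3
  have h4 : algebraMap R A (Coalgebra.counit (R := R) a) - 1 ∈ K • (⊤ : Submodule R A) := by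
    have : algebraMap R A (Coalgebra.counit (R := R) a) - 1 =
        (Coalgebra.counit (R := R) a - 1) • (1 : A) := by
      rw [sub_smul, one_smul, Algebra.algebraMap_eq_smul_one]
    rw [this]
    exact Submodule.smul_mem_smul h1 Submodule.mem_top
  have h5 : 1 - a * HopfAlgebra.antipode R a ∈ K • (⊤ : Submodule R A) := by
    have : 1 - a * HopfAlgebra.antipode R a =
        (algebraMap R A (Coalgebra.counit (R := R) a) - a * HopfAlgebra.antipode R a) -
          (algebraMap R A (Coalgebra.counit (R := R) a) - 1) := by ring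
    rw [this]
    exact Submodule.sub_mem _ h3 h4
  have h6 : IsUnit (a * HopfAlgebra.antipode R a) := by
    have := (isNilpotent_of_mem_smul_top K hK h5).isUnit_one_sub
    rwa [sub_sub_cancel] at this
  exact isUnit_of_mul_isUnit_left h6


/-- Powers of a unit which is group-like modulo `K` are group-like modulo `K`. -/
theorem comul_zpow_sub_mem (K : Ideal R) (u : Aˣ)
    (h2 : CoalgebraStruct.comul (R := R) (u : A) - (u : A) ⊗ₜ[R] (u : A) ∈
      K • (⊤ : Submodule R (A ⊗[R] A))) (n : ℤ) :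
    CoalgebraStruct.comul (R := R) ((u ^ n : Aˣ) : A) -
      ((u ^ n : Aˣ) : A) ⊗ₜ[R] ((u ^ n : Aˣ) : A) ∈ K • (⊤ : Submodule R (A ⊗[R] A)) := by
  set 𝔎 : Ideal (A ⊗[R] A) := Ideal.map (algebraMap R (A ⊗[R] A)) K with h𝔎
  let α : A →* (A ⊗[R] A) ⧸ 𝔎 :=
    ((Ideal.Quotient.mk 𝔎).comp (Bialgebra.comulAlgHom R A : A →+* A ⊗[R] A) : A →* _)
  let β : A →* (A ⊗[R] A) ⧸ 𝔎 :=
    { toFun := fun a => Ideal.Quotient.mk 𝔎 (a ⊗ₜ[R] a)
      map_one' := by rw [← Algebra.TensorProduct.one_def, map_one]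
      map_mul' := fun a b => by rw [← Algebra.TensorProduct.tmul_mul_tmul, map_mul] }
  have hαβ : α u = β u := by
    show Ideal.Quotient.mk 𝔎 (CoalgebraStruct.comul (R := R) (u : A)) =
      Ideal.Quotient.mk 𝔎 ((u : A) ⊗ₜ[R] (u : A))
    rw [Ideal.Quotient.eq, h𝔎, ← LiftSmooth.mem_smul_top_iff_mem_map]
    exact h2
  have hu : Units.map α u = Units.map β u := Units.ext hαβ
  have hn : Units.map α (u ^ n) = Units.map β (u ^ n) := by
    rw [map_zpow, map_zpow, hu]
  have hn' : α ((u ^ n : Aˣ) : A) = β ((u ^ n : Aˣ) : A) := congrArg Units.val hn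
  rw [LiftSmooth.mem_smul_top_iff_mem_map, ← h𝔎, ← Ideal.Quotient.eq]
  exact hn'

/-- Lifting of characters modulo a nilpotent ideal: an element which is group-like modulo the
nilpotent ideal `K` is congruent modulo `K` to a group-like element (for a Hopf algebra with an
invariant integral). -/
theorem exists_groupLike_of_nilpotent (l : A →ₗ[R] R) (hl1 : l 1 = 1)
    (hinv : ∀ a : A, TensorProduct.rid R A
      (LinearMap.lTensor A l (CoalgebraStruct.comul (R := R) a)) = l a • (1 : A))
    (K : Ideal R) (hK : IsNilpotent K) (a : A)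
    (h1 : Coalgebra.counit (R := R) a - 1 ∈ K)
    (h2 : CoalgebraStruct.comul (R := R) a - a ⊗ₜ[R] a ∈ K • (⊤ : Submodule R (A ⊗[R] A))) :
    ∃ g : A, IsGroupLikeElem R g ∧ g - a ∈ K • (⊤ : Submodule R A) := by
  obtain ⟨u, rfl⟩ := isUnit_of_groupLike_mod K hK a h1 h2
  set γ : R[T;T⁻¹] →ₐ[R] A := ofUnit (R := R) u with hγ
  have hdef : ∀ c : R[T;T⁻¹], CoalgebraStruct.comul (R := R) (γ c) -
      TensorProduct.map γ.toLinearMap γ.toLinearMap (CoalgebraStruct.comul (R := R) c) ∈
        K • (⊤ : Submodule R (A ⊗[R] A)) := by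
    intro c
    induction c using LaurentPolynomial.induction_on' with
    | add p q hp hq =>
      have : CoalgebraStruct.comul (R := R) (γ (p + q)) -
          TensorProduct.map γ.toLinearMap γ.toLinearMap (CoalgebraStruct.comul (R := R) (p + q)) =
          (CoalgebraStruct.comul (R := R) (γ p) -
            TensorProduct.map γ.toLinearMap γ.toLinearMap (CoalgebraStruct.comul (R := R) p)) +
          (CoalgebraStruct.comul (R := R) (γ q) -
            TensorProduct.map γ.toLinearMap γ.toLinearMap (CoalgebraStruct.comul (R := R) q)) := by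
        simp only [map_add]
        abel
      rw [this]
      exact Submodule.add_mem _ hp hq
    | C_mul_T n r =>
      have e : (LaurentPolynomial.C r * LaurentPolynomial.T n : R[T;T⁻¹]) =
          r • LaurentPolynomial.T n := by
        rw [Algebra.smul_def]
        rfl
      rw [e, map_smul, map_smul, map_smul, map_smul, ← smul_sub]
      apply Submodule.smul_mem
      rw [LaurentPolynomial.comul_T, TensorProduct.map_tmul]
      show CoalgebraStruct.comul (R := R) (γ (LaurentPolynomial.T n)) -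
        γ (LaurentPolynomial.T n) ⊗ₜ[R] γ (LaurentPolynomial.T n) ∈ _
      rw [hγ, ofUnit_T]
      exact comul_zpow_sub_mem K u h2 n
  obtain ⟨φ, hφ⟩ := LiftSmooth.exists_bialgHom_of_nilpotent l hl1 hinv K hK γ hdef
  refine ⟨φ (LaurentPolynomial.T 1), ?_, ?_⟩
  · have hT : IsGroupLikeElem R (LaurentPolynomial.T 1 : R[T;T⁻¹]) :=
      ⟨LaurentPolynomial.counit_T 1, LaurentPolynomial.comul_T 1⟩
    exact hT.map φ
  · have := hφ (LaurentPolynomial.T 1)
    rwa [hγ, ofUnit_T, zpow_one] at this

end Lift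

section Nil

variable {R : Type*} [CommRing R] {A : Type*} [CommRing A] [HopfAlgebra R A]

/-- Lifting of characters modulo a nil ideal. -/
theorem exists_groupLike_of_nil (l : A →ₗ[R] R) (hl1 : l 1 = 1)
    (hinv : ∀ a : A, TensorProduct.rid R A
      (LinearMap.lTensor A l (CoalgebraStruct.comul (R := R) a)) = l a • (1 : A))
    (I : Ideal R) (hI : ∀ x ∈ I, IsNilpotent x) (a : A)
    (h1 : Coalgebra.counit (R := R) a - 1 ∈ I)
    (h2 : CoalgebraStruct.comul (R := R) a - a ⊗ₜ[R] a ∈ I • (⊤ : Submodule R (A ⊗[R] A))) :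
    ∃ g : A, IsGroupLikeElem R g ∧ g - a ∈ I • (⊤ : Submodule R A) := by
  obtain ⟨K₂, hK₂fg, hK₂I, hK₂⟩ := exists_fg_le_of_mem_smul_top I _ h2
  set K : Ideal R := K₂ ⊔ Ideal.span {Coalgebra.counit (R := R) a - 1} with hK
  have hKfg : K.FG := Submodule.FG.sup hK₂fg ⟨{Coalgebra.counit (R := R) a - 1}, by simp⟩
  have hKI : K ≤ I := sup_le hK₂I (by
    rw [Ideal.span_le]
    intro x hx
    rw [Set.mem_singleton_iff] at hx
    subst hx
    exact h1)
  have hKnil : IsNilpotent K := (Ideal.FG.isNilpotent_iff_le_nilradical hKfg).mpr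
    (fun x hx => hI x (hKI hx))
  obtain ⟨g, hg, hga⟩ := exists_groupLike_of_nilpotent l hl1 hinv K hKnil a
    ((le_sup_right : Ideal.span {Coalgebra.counit (R := R) a - 1} ≤ K)
      (Ideal.subset_span rfl))
    (Submodule.smul_mono_left le_sup_left hK₂)
  exact ⟨g, hg, Submodule.smul_mono_left hKI hga⟩

end Nil

section Quot

variable {R : Type u} [CommRing R] {A : Type u} [CommRing A] [HopfAlgebra R A] (I : Ideal R)

theorem counit_one_tmul (a : A) :
    Coalgebra.counit (R := R ⧸ I) ((1 : R ⧸ I) ⊗ₜ[R] a) =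
      Ideal.Quotient.mk I (Coalgebra.counit (R := R) a) := by
  rw [TensorProduct.counit_tmul]
  simp [Algebra.smul_def]

/-- Characters of the reduction modulo a nil ideal lift uniquely. -/
theorem existsUnique_groupLike_lift (hP : NoPrimMod R A) (l : A →ₗ[R] R) (hl1 : l 1 = 1)
    (hinv : ∀ a : A, TensorProduct.rid R A
      (LinearMap.lTensor A l (CoalgebraStruct.comul (R := R) a)) = l a • (1 : A))
    (hI : ∀ x ∈ I, IsNilpotent x) (x : (R ⧸ I) ⊗[R] A) (hx : IsGroupLikeElem (R ⧸ I) x) :
    ∃! g : A, IsGroupLikeElem R g ∧ (1 : R ⧸ I) ⊗ₜ[R] g = x := by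
  obtain ⟨a, rfl⟩ := QuotTower.exists_one_tmul I x
  have h1 : Coalgebra.counit (R := R) a - 1 ∈ I := by
    have := hx.counit_eq_one
    rw [counit_one_tmul] at this
    rw [← Ideal.Quotient.eq_zero_iff_mem, map_sub, this, map_one, sub_self]
  have h2 : CoalgebraStruct.comul (R := R) a - a ⊗ₜ[R] a ∈ I • (⊤ : Submodule R (A ⊗[R] A)) := by
    apply QuotBC.mem_smul_top_of_bcMap2_eq_zero
    rw [map_sub, ← comul_one_tmul, hx.comul_eq_tmul_self, bcMap2_tmul, sub_self]
  obtain ⟨g, hg, hga⟩ := exists_groupLike_of_nil l hl1 hinv I hI a h1 h2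
  refine ⟨g, ⟨hg, (QuotBC.one_tmul_eq_iff I g a).mpr hga⟩, ?_⟩
  rintro g' ⟨hg', hg'a⟩
  apply groupLike_unique hP I hI hg' hg
  rw [← QuotBC.one_tmul_eq_iff, hg'a]
  exact ((QuotBC.one_tmul_eq_iff I g a).mpr hga).symm

end Quot

section Char

variable {R : Type u} [CommRing R] {A : Type u} [CommRing A] [HopfAlgebra R A] (I : Ideal R)
  {M : Type*} [CommGroup M]

/-- Lifting a group of characters of the reduction modulo a nil ideal. -/
theorem exists_char_lift (hP : NoPrimMod R A) (l : A →ₗ[R] R) (hl1 : l 1 = 1)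
    (hinv : ∀ a : A, TensorProduct.rid R A
      (LinearMap.lTensor A l (CoalgebraStruct.comul (R := R) a)) = l a • (1 : A))
    (hI : ∀ x ∈ I, IsNilpotent x) (χ₀ : M →* GroupLike (R ⧸ I) ((R ⧸ I) ⊗[R] A)) :
    ∃ χ : M →* GroupLike R A, ∀ m, (1 : R ⧸ I) ⊗ₜ[R] (χ m : A) = (χ₀ m : (R ⧸ I) ⊗[R] A) := by
  have hex := fun m : M => existsUnique_groupLike_lift I hP l hl1 hinv hI (χ₀ m) (χ₀ m).2
  choose g hg huniq using hex
  have hg1 : ∀ m, IsGroupLikeElem R (g m) := fun m => (hg m).1
  have hg2 : ∀ m, (1 : R ⧸ I) ⊗ₜ[R] g m = (χ₀ m : (R ⧸ I) ⊗[R] A) := fun m => (hg m).2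
  refine ⟨{ toFun := fun m => ⟨g m, hg1 m⟩, map_one' := ?_, map_mul' := ?_ }, fun m => hg2 m⟩
  · apply GroupLike.ext
    show g 1 = 1
    symm
    apply huniq 1
    refine ⟨IsGroupLikeElem.one, ?_⟩
    rw [map_one]
    rfl
  · intro m n
    apply GroupLike.ext
    show g (m * n) = g m * g n
    symm
    apply huniq (m * n)
    refine ⟨(hg1 m).mul (hg1 n), ?_⟩
    have e : (1 : R ⧸ I) ⊗ₜ[R] (g m * g n) =
        ((1 : R ⧸ I) ⊗ₜ[R] g m) * ((1 : R ⧸ I) ⊗ₜ[R] g n) := by
      rw [Algebra.TensorProduct.tmul_mul_tmul, one_mul]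
    rw [e, hg2, hg2, map_mul]
    rfl

/-- The bialgebra map `R[M] → A` attached to a group of characters. -/
noncomputable def ofChar (χ : M →* GroupLike R A) : MonoidAlgebra R M →ₐc[R] A :=
  (MonoidAlgebra.liftGroupLikeBialgHom : MonoidAlgebra R (GroupLike R A) →ₐc[R] A).comp
    (MonoidAlgebra.mapDomainBialgHom R χ)

theorem ofChar_single (χ : M →* GroupLike R A) (m : M) (r : R) :
    ofChar χ (MonoidAlgebra.single m r) = r • (χ m : A) := by
  unfold ofChar
  rw [BialgHom.comp_apply, MonoidAlgebra.mapDomainBialgHom_single,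
    MonoidAlgebra.liftGroupLikeBialgHom_apply, MonoidAlgebra.lift_single]
  rfl

end Char

section DiagDiag

variable {R : Type u} [CommRing R] (I : Ideal R) {N N' : Type u} [CommGroup N] [CommGroup N']

theorem bcMap_apply_eq_lTensor {B A : Type u} [CommRing B] [HopfAlgebra R B] [CommRing A]
    [HopfAlgebra R A] (S : Type u) [CommRing S] [Algebra R S] (Φ : B →ₐc[R] A) (z : S ⊗[R] B) :
    Bialgebra.TensorProduct.map (BialgHom.id S S) Φ z =
      LinearMap.lTensor S (Φ : B →ₗ[R] A) z := by
  induction z using TensorProduct.induction_on with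
  | zero => simp
  | add x y hx hy => rw [map_add, map_add, hx, hy]
  | tmul r b => rfl

/-- A bialgebra map between group algebras which is bijective modulo a nil ideal is bijective. -/
theorem bijective_of_bijective_mod_nil_diag (hI : ∀ x ∈ I, IsNilpotent x)
    (Φ : MonoidAlgebra R N →ₐc[R] MonoidAlgebra R N')
    (h₀ : Function.Bijective (LinearMap.lTensor (R ⧸ I)
      (Φ : MonoidAlgebra R N →ₗ[R] MonoidAlgebra R N'))) :
    Function.Bijective Φ := by
  have hPB : NoPrimMod R (MonoidAlgebra R N) := noPrimMod_monoidAlgebra R N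
  have hPA : NoPrimMod R (MonoidAlgebra R N') := noPrimMod_monoidAlgebra R N'
  obtain ⟨l, hl⟩ := MultIntegral.hasInt_of_isDiag R (MonoidAlgebra R N)
    ⟨N, inferInstance, ⟨BialgEquiv.refl R _⟩⟩
  -- the reduction of `Φ` as an isomorphism of bialgebras
  set G : (R ⧸ I) ⊗[R] MonoidAlgebra R N →ₐc[R ⧸ I] (R ⧸ I) ⊗[R] MonoidAlgebra R N' :=
    Bialgebra.TensorProduct.map (BialgHom.id (R ⧸ I) (R ⧸ I)) Φ with hG
  have hGbij : Function.Bijective G := by
    have : (G : (R ⧸ I) ⊗[R] MonoidAlgebra R N → (R ⧸ I) ⊗[R] MonoidAlgebra R N') =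
        LinearMap.lTensor (R ⧸ I) (Φ : MonoidAlgebra R N →ₗ[R] MonoidAlgebra R N') :=
      funext (bcMap_apply_eq_lTensor (R ⧸ I) Φ)
    rw [this]
    exact h₀
  set Ge := BialgEquiv.ofBijective G hGbij with hGe
  have hGe_apply : ∀ z, Ge z = G z := fun z => rfl
  -- the characters of the source lifting the inverse images of the basis of the target
  let χ₀ : N' →* GroupLike (R ⧸ I) ((R ⧸ I) ⊗[R] MonoidAlgebra R N) :=
    { toFun := fun n' => ⟨Ge.symm ((1 : R ⧸ I) ⊗ₜ[R] MonoidAlgebra.single n' (1 : R)),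
        (FibreTriv.isGroupLikeElem_one_tmul (R ⧸ I)
          (MonoidAlgebra.isGroupLikeElem_single_one (R := R) n')).map Ge.symm⟩
      map_one' := by
        apply GroupLike.ext
        show Ge.symm ((1 : R ⧸ I) ⊗ₜ[R] MonoidAlgebra.single (1 : N') (1 : R)) = 1
        rw [← MonoidAlgebra.one_def, ← Algebra.TensorProduct.one_def, map_one]
      map_mul' := fun a b => by
        apply GroupLike.ext
        show Ge.symm ((1 : R ⧸ I) ⊗ₜ[R] MonoidAlgebra.single (a * b) (1 : R)) =
          Ge.symm ((1 : R ⧸ I) ⊗ₜ[R] MonoidAlgebra.single a (1 : R)) *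
            Ge.symm ((1 : R ⧸ I) ⊗ₜ[R] MonoidAlgebra.single b (1 : R))
        rw [← map_mul, Algebra.TensorProduct.tmul_mul_tmul, one_mul,
          MonoidAlgebra.single_mul_single, one_mul] }
  obtain ⟨χ, hχ⟩ := exists_char_lift I hPB l hl.map_one hl.rid_lTensor_comul hI χ₀
  have hχ' : ∀ n', (1 : R ⧸ I) ⊗ₜ[R] (χ n' : MonoidAlgebra R N) =
      Ge.symm ((1 : R ⧸ I) ⊗ₜ[R] MonoidAlgebra.single n' (1 : R)) := fun n' => hχ n'
  set Ψ := ofChar χ with hΨ
  -- `Φ ∘ Ψ = id` on the basis
  have h1 : ∀ n' : N', Φ (χ n' : MonoidAlgebra R N) = MonoidAlgebra.single n' (1 : R) := by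
    intro n'
    apply groupLike_unique hPA I hI ((χ n').2.map Φ) (MonoidAlgebra.isGroupLikeElem_single_one n')
    rw [← QuotBC.one_tmul_eq_iff]
    have : (1 : R ⧸ I) ⊗ₜ[R] Φ (χ n' : MonoidAlgebra R N) =
        G ((1 : R ⧸ I) ⊗ₜ[R] (χ n' : MonoidAlgebra R N)) := rfl
    rw [this, hχ', ← hGe_apply, BialgEquiv.apply_symm_apply]
  have hΦΨ : ∀ y : MonoidAlgebra R N', Φ (Ψ y) = y := by
    intro y
    induction y using MonoidAlgebra.induction_linear with
    | zero => simp
    | add x y hx hy => rw [map_add, map_add, hx, hy]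
    | single n' r =>
      rw [hΨ, ofChar_single, map_smul, h1, MonoidAlgebra.smul_single, smul_eq_mul, mul_one]
  -- the reduction of `Ψ` is the inverse of `G`
  have h2 : ∀ y : MonoidAlgebra R N', (1 : R ⧸ I) ⊗ₜ[R] Ψ y = Ge.symm ((1 : R ⧸ I) ⊗ₜ[R] y) := by
    intro y
    induction y using MonoidAlgebra.induction_linear with
    | zero => simp
    | add x y hx hy => rw [map_add, TensorProduct.tmul_add, TensorProduct.tmul_add, map_add, hx, hy]
    | single n' r =>
      have e : MonoidAlgebra.single n' r = r • MonoidAlgebra.single n' (1 : R) := by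
        rw [MonoidAlgebra.smul_single, smul_eq_mul, mul_one]
      rw [hΨ, ofChar_single, TensorProduct.tmul_smul, hχ', e, TensorProduct.tmul_smul,
        ← algebraMap_smul (R ⧸ I) r, ← algebraMap_smul (R ⧸ I) r, map_smul]
  have h3 : ∀ n : N, Ψ (Φ (MonoidAlgebra.single n (1 : R))) = MonoidAlgebra.single n (1 : R) := by
    intro n
    apply groupLike_unique hPB I hI
      (((MonoidAlgebra.isGroupLikeElem_single_one (R := R) n).map Φ).map Ψ)
      (MonoidAlgebra.isGroupLikeElem_single_one n)
    rw [← QuotBC.one_tmul_eq_iff, h2]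
    have : (1 : R ⧸ I) ⊗ₜ[R] Φ (MonoidAlgebra.single n (1 : R)) =
        Ge ((1 : R ⧸ I) ⊗ₜ[R] MonoidAlgebra.single n (1 : R)) := rfl
    rw [this, BialgEquiv.symm_apply_apply]
  have hΨΦ : ∀ x : MonoidAlgebra R N, Ψ (Φ x) = x := by
    intro x
    induction x using MonoidAlgebra.induction_linear with
    | zero => simp
    | add x y hx hy => rw [map_add, map_add, hx, hy]
    | single n r =>
      have e : MonoidAlgebra.single n r = r • MonoidAlgebra.single n (1 : R) := by
        rw [MonoidAlgebra.smul_single, smul_eq_mul, mul_one]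
      rw [e, map_smul, map_smul, h3]
  exact ⟨fun x y hxy => by rw [← hΨΦ x, ← hΨΦ y, hxy], fun y => ⟨Ψ y, hΦΨ y⟩⟩

end DiagDiag

section BCBij

variable {R : Type*} [CommRing R] {N N' : Type*} [AddCommGroup N] [Module R N]
  [AddCommGroup N'] [Module R N'] (F : N →ₗ[R] N')

/-- Tower `R → R' → S`: if `S ⊗[R] F` is bijective then so is `S ⊗[R'] (R' ⊗[R] F)`. -/
theorem bijective_lTensor_baseChange (R' S : Type*) [CommRing R'] [Algebra R R'] [CommRing S]
    [Algebra R S] [Algebra R' S] [IsScalarTower R R' S]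
    (h : Function.Bijective (LinearMap.lTensor S F)) :
    Function.Bijective (LinearMap.lTensor S (F.baseChange R')) := by
  have key := TensorProduct.AlgebraTensorModule.lTensor_comp_cancelBaseChange
    (R := R) (A := R') (B := S) (M := S) F
  have e : ∀ z, (TensorProduct.AlgebraTensorModule.cancelBaseChange R R' S S N')
      (LinearMap.lTensor S (F.baseChange R') z) =
      LinearMap.lTensor S F ((TensorProduct.AlgebraTensorModule.cancelBaseChange R R' S S N) z) := by
    intro z
    have := LinearMap.congr_fun key z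
    simp only [LinearMap.comp_apply, LinearEquiv.coe_coe] at this
    exact this.symm
  constructor
  · intro x y hxy
    have h1 := congrArg (TensorProduct.AlgebraTensorModule.cancelBaseChange R R' S S N') hxy
    rw [e, e] at h1
    exact (TensorProduct.AlgebraTensorModule.cancelBaseChange R R' S S N).injective (h.1 h1)
  · intro y
    obtain ⟨x, hx⟩ := h.2 ((TensorProduct.AlgebraTensorModule.cancelBaseChange R R' S S N') y)
    refine ⟨(TensorProduct.AlgebraTensorModule.cancelBaseChange R R' S S N).symm x, ?_⟩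
    apply (TensorProduct.AlgebraTensorModule.cancelBaseChange R R' S S N').injective
    rw [e, LinearEquiv.apply_symm_apply, hx]

/-- Tower `R → R₀ → S`: if `R₀ ⊗[R] F` is bijective then so is `S ⊗[R] F`. -/
theorem bijective_lTensor_of_tower (R₀ S : Type*) [CommRing R₀] [Algebra R R₀] [CommRing S]
    [Algebra R S] [Algebra R₀ S] [IsScalarTower R R₀ S]
    (h : Function.Bijective (LinearMap.lTensor R₀ F)) :
    Function.Bijective (LinearMap.lTensor S F) := by
  have key := TensorProduct.AlgebraTensorModule.lTensor_comp_cancelBaseChange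
    (R := R) (A := R₀) (B := S) (M := S) F
  have e : ∀ z, (TensorProduct.AlgebraTensorModule.cancelBaseChange R R₀ S S N')
      (LinearMap.lTensor S (F.baseChange R₀) z) =
      LinearMap.lTensor S F ((TensorProduct.AlgebraTensorModule.cancelBaseChange R R₀ S S N) z) := by
    intro z
    have := LinearMap.congr_fun key z
    simp only [LinearMap.comp_apply, LinearEquiv.coe_coe] at this
    exact this.symm
  -- `S ⊗[R₀] (R₀ ⊗ F)` is bijective
  have hb : Function.Bijective (F.baseChange R₀) := h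
  let E : R₀ ⊗[R] N ≃ₗ[R₀] R₀ ⊗[R] N' := LinearEquiv.ofBijective (F.baseChange R₀) hb
  have h2 : Function.Bijective (LinearMap.lTensor S (F.baseChange R₀)) := by
    have : LinearMap.lTensor S (F.baseChange R₀) = (LinearEquiv.lTensor S E).toLinearMap := by
      ext
      rfl
    rw [this]
    exact (LinearEquiv.lTensor S E).bijective
  constructor
  · intro x y hxy
    have hx := (TensorProduct.AlgebraTensorModule.cancelBaseChange R R₀ S S N).apply_symm_apply x
    have hy := (TensorProduct.AlgebraTensorModule.cancelBaseChange R R₀ S S N).apply_symm_apply y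
    rw [← hx, ← hy, ← e, ← e] at hxy
    have := h2.1 ((TensorProduct.AlgebraTensorModule.cancelBaseChange R R₀ S S N').injective hxy)
    rw [← hx, ← hy, this]
  · intro y
    obtain ⟨x, hx⟩ := h2.2 ((TensorProduct.AlgebraTensorModule.cancelBaseChange R R₀ S S N').symm y)
    refine ⟨(TensorProduct.AlgebraTensorModule.cancelBaseChange R R₀ S S N) x, ?_⟩
    rw [← e, hx, LinearEquiv.apply_symm_apply]

/-- Bijectivity is local for a covering by basic opens. -/
theorem bijective_of_lTensor_away (s : Set R) (hs : Ideal.span s = ⊤)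
    (H : ∀ f ∈ s, Function.Bijective (LinearMap.lTensor (Localization.Away f) F)) :
    Function.Bijective F := by
  haveI : ∀ r : s, IsLocalizedModule.Away r.1
      (TensorProduct.mk R (Localization.Away r.1) N 1) := fun r =>
    (isLocalizedModule_iff_isBaseChange (S := Submonoid.powers r.1)
      (A := Localization.Away r.1) _).mpr (TensorProduct.isBaseChange R N _)
  haveI : ∀ r : s, IsLocalizedModule.Away r.1
      (TensorProduct.mk R (Localization.Away r.1) N' 1) := fun r =>
    (isLocalizedModule_iff_isBaseChange (S := Submonoid.powers r.1)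
      (A := Localization.Away r.1) _).mpr (TensorProduct.isBaseChange R N' _)
  refine bijective_of_isLocalized_span s hs (fun r => Localization.Away r.1 ⊗[R] N)
    (fun r => TensorProduct.mk R (Localization.Away r.1) N 1)
    (fun r => Localization.Away r.1 ⊗[R] N')
    (fun r => TensorProduct.mk R (Localization.Away r.1) N' 1) F ?_
  intro r
  have e : IsLocalizedModule.map (Submonoid.powers r.1)
      (TensorProduct.mk R (Localization.Away r.1) N 1)
      (TensorProduct.mk R (Localization.Away r.1) N' 1) F =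
      LinearMap.lTensor (Localization.Away r.1) F := by
    apply IsLocalizedModule.linearMap_ext (Submonoid.powers r.1)
      (TensorProduct.mk R (Localization.Away r.1) N 1)
      (TensorProduct.mk R (Localization.Away r.1) N' 1)
    ext x
    rw [LinearMap.comp_apply, LinearMap.comp_apply]
    exact IsLocalizedModule.map_apply (Submonoid.powers r.1)
      (TensorProduct.mk R (Localization.Away r.1) N 1)
      (TensorProduct.mk R (Localization.Away r.1) N' 1) F x
  rw [e]
  exact H r.1 r.2

end BCBij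

section General

variable {R : Type u} [CommRing R] (I : Ideal R)

theorem isNil_map (hI : ∀ x ∈ I, IsNilpotent x) (R' : Type*) [CommRing R'] [Algebra R R'] :
    ∀ x ∈ I.map (algebraMap R R'), IsNilpotent x := by
  intro x hx
  have h : I.map (algebraMap R R') ≤ nilradical R' := by
    rw [Ideal.map_le_iff_le_comap]
    intro y hy
    exact (hI y hy).map (algebraMap R R')
  exact h hx

theorem bialgMap_apply_eq_baseChange {B A : Type u} [CommRing B] [HopfAlgebra R B] [CommRing A]
    [HopfAlgebra R A] (S : Type u) [CommRing S] [Algebra R S] (Φ : B →ₐc[R] A) (z : S ⊗[R] B) :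
    Bialgebra.TensorProduct.map (BialgHom.id S S) Φ z =
      (Φ : B →ₗ[R] A).baseChange S z := by
  induction z using TensorProduct.induction_on with
  | zero => simp
  | add x y hx hy => rw [map_add, map_add, hx, hy]
  | tmul r b => rfl

theorem bijective_lTensor_conj {S : Type*} [CommRing S] (Q : Type*) [AddCommGroup Q] [Module S Q]
    {N₁ N₂ N₃ N₄ : Type*} [AddCommGroup N₁] [Module S N₁] [AddCommGroup N₂] [Module S N₂]
    [AddCommGroup N₃] [Module S N₃] [AddCommGroup N₄] [Module S N₄]
    (E₁ : N₁ ≃ₗ[S] N₂) (F : N₂ →ₗ[S] N₃) (E₂ : N₃ ≃ₗ[S] N₄)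
    (h : Function.Bijective (LinearMap.lTensor Q F)) :
    Function.Bijective (LinearMap.lTensor Q (E₂.toLinearMap ∘ₗ F ∘ₗ E₁.toLinearMap)) := by
  rw [LinearMap.lTensor_comp, LinearMap.lTensor_comp]
  have h1 : Function.Bijective (LinearMap.lTensor Q E₁.toLinearMap) :=
    (LinearEquiv.lTensor Q E₁).bijective
  have h2 : Function.Bijective (LinearMap.lTensor Q E₂.toLinearMap) :=
    (LinearEquiv.lTensor Q E₂).bijective
  exact h2.comp (h.comp h1)

variable {M : Type u} [CommGroup M] {A : Type u} [CommRing A] [HopfAlgebra R A]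

/-- The base change of a bialgebra map `R[M] → A`, as a map `R'[M] → R' ⊗ A`. -/
noncomputable def bcΦ (R' : Type u) [CommRing R'] [Algebra R R'] (Φ : MonoidAlgebra R M →ₐc[R] A) :
    MonoidAlgebra R' M →ₐc[R'] R' ⊗[R] A :=
  (Bialgebra.TensorProduct.map (BialgHom.id R' R') Φ).comp
    ((BCB.steBialg R R' M).symm : MonoidAlgebra R' M →ₐc[R'] R' ⊗[R] MonoidAlgebra R M)

/-- `steBialg` as a linear equivalence. -/
noncomputable def steLin (R' : Type u) [CommRing R'] [Algebra R R'] (M : Type u) [CommGroup M] :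
    MonoidAlgebra R' M ≃ₗ[R'] R' ⊗[R] MonoidAlgebra R M :=
  ((BCB.steBialg R R' M).symm : MonoidAlgebra R' M ≃ₐ[R'] R' ⊗[R] MonoidAlgebra R M).toLinearEquiv

theorem bcΦ_lin (R' : Type u) [CommRing R'] [Algebra R R'] (Φ : MonoidAlgebra R M →ₐc[R] A) :
    (bcΦ R' Φ : MonoidAlgebra R' M →ₗ[R'] R' ⊗[R] A) =
      (LinearEquiv.refl R' (R' ⊗[R] A)).toLinearMap ∘ₗ
        ((Φ : MonoidAlgebra R M →ₗ[R] A).baseChange R') ∘ₗ (steLin R' M).toLinearMap := by
  apply LinearMap.ext
  intro x
  show (Bialgebra.TensorProduct.map (BialgHom.id R' R') Φ) ((BCB.steBialg R R' M).symm x) =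
    ((Φ : MonoidAlgebra R M →ₗ[R] A).baseChange R') ((BCB.steBialg R R' M).symm x)
  rw [bialgMap_apply_eq_baseChange]

theorem bijective_lTensor_bcΦ (R' : Type u) [CommRing R'] [Algebra R R']
    (Φ : MonoidAlgebra R M →ₐc[R] A)
    (h₀ : Function.Bijective (LinearMap.lTensor (R ⧸ I) (Φ : MonoidAlgebra R M →ₗ[R] A))) :
    Function.Bijective (LinearMap.lTensor (R' ⧸ I.map (algebraMap R R'))
      (bcΦ R' Φ : MonoidAlgebra R' M →ₗ[R'] R' ⊗[R] A)) := by
  letI : Algebra (R ⧸ I) (R' ⧸ I.map (algebraMap R R')) :=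
    Ideal.Quotient.algebraQuotientOfLEComap Ideal.le_comap_map
  haveI : IsScalarTower R (R ⧸ I) (R' ⧸ I.map (algebraMap R R')) :=
    IsScalarTower.of_algebraMap_eq (fun r => rfl)
  have hb1 : Function.Bijective (LinearMap.lTensor (R' ⧸ I.map (algebraMap R R'))
      (Φ : MonoidAlgebra R M →ₗ[R] A)) :=
    bijective_lTensor_of_tower _ (R ⧸ I) (R' ⧸ I.map (algebraMap R R')) h₀
  have hb2 : Function.Bijective (LinearMap.lTensor (R' ⧸ I.map (algebraMap R R'))
      ((Φ : MonoidAlgebra R M →ₗ[R] A).baseChange R')) :=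
    bijective_lTensor_baseChange _ R' (R' ⧸ I.map (algebraMap R R')) hb1
  rw [bcΦ_lin]
  exact bijective_lTensor_conj _ (steLin R' M) _ (LinearEquiv.refl R' (R' ⊗[R] A)) hb2

theorem bijective_lTensor_of_bcΦ (R' : Type u) [CommRing R'] [Algebra R R']
    (Φ : MonoidAlgebra R M →ₐc[R] A) (h : Function.Bijective (bcΦ R' Φ)) :
    Function.Bijective (LinearMap.lTensor R' (Φ : MonoidAlgebra R M →ₗ[R] A)) := by
  have : ⇑(LinearMap.lTensor R' (Φ : MonoidAlgebra R M →ₗ[R] A)) =
      (bcΦ R' Φ) ∘ (steLin R' M).symm := by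
    funext z
    have h1 := LinearMap.congr_fun (bcΦ_lin R' Φ) ((steLin R' M).symm z)
    show _ = bcΦ R' Φ ((steLin R' M).symm z)
    have h2 : bcΦ R' Φ ((steLin R' M).symm z) =
        ((Φ : MonoidAlgebra R M →ₗ[R] A).baseChange R') ((steLin R' M) ((steLin R' M).symm z)) :=
      h1
    rw [h2, LinearEquiv.apply_symm_apply]
    rfl
  rw [this]
  exact h.comp (steLin R' M).symm.bijective

/-- Constant type: a bialgebra map from a group algebra to the algebra of a group of
multiplicative type which is bijective modulo a nil ideal is bijective. -/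
theorem bijective_of_bijective_mod_nil_const (hI : ∀ x ∈ I, IsNilpotent x)
    (hA : SGA3b.IsMultTypeConst R A) (Φ : MonoidAlgebra R M →ₐc[R] A)
    (h₀ : Function.Bijective (LinearMap.lTensor (R ⧸ I) (Φ : MonoidAlgebra R M →ₗ[R] A))) :
    Function.Bijective Φ := by
  obtain ⟨R', _, _, hff, M', _, ⟨e⟩⟩ := hA
  haveI := hff
  have hb := bijective_lTensor_bcΦ I R' Φ h₀
  let E₂ : R' ⊗[R] A ≃ₗ[R'] MonoidAlgebra R' M' :=
    (e : R' ⊗[R] A ≃ₐ[R'] MonoidAlgebra R' M').toLinearEquiv
  let Φ' : MonoidAlgebra R' M →ₐc[R'] MonoidAlgebra R' M' :=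
    (e : R' ⊗[R] A →ₐc[R'] MonoidAlgebra R' M').comp (bcΦ R' Φ)
  have hΦ'lin : (Φ' : MonoidAlgebra R' M →ₗ[R'] MonoidAlgebra R' M') =
      E₂.toLinearMap ∘ₗ (bcΦ R' Φ : MonoidAlgebra R' M →ₗ[R'] R' ⊗[R] A) ∘ₗ
        (LinearEquiv.refl R' (MonoidAlgebra R' M)).toLinearMap := by
    apply LinearMap.ext
    intro x
    rfl
  have hb3 : Function.Bijective (LinearMap.lTensor (R' ⧸ I.map (algebraMap R R'))
      (Φ' : MonoidAlgebra R' M →ₗ[R'] MonoidAlgebra R' M')) := by
    rw [hΦ'lin]
    exact bijective_lTensor_conj _ (LinearEquiv.refl R' (MonoidAlgebra R' M)) _ E₂ hb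
  have hΦ' : Function.Bijective Φ' :=
    bijective_of_bijective_mod_nil_diag (I.map (algebraMap R R')) (isNil_map I hI R') Φ' hb3
  have hbc : Function.Bijective (bcΦ R' Φ) := by
    have : ⇑(bcΦ R' Φ) = E₂.symm ∘ Φ' := by
      funext z
      show _ = E₂.symm (e (bcΦ R' Φ z))
      exact (E₂.symm_apply_apply _).symm
    rw [this]
    exact E₂.symm.bijective.comp hΦ'
  exact (Module.FaithfullyFlat.lTensor_bijective_iff_bijective R R' _).mp
    (bijective_lTensor_of_bcΦ R' Φ hbc)

/-- A bialgebra map from a group algebra to the algebra of a group of multiplicative type which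
is bijective modulo a nil ideal is bijective. -/
theorem bijective_of_bijective_mod_nil (hI : ∀ x ∈ I, IsNilpotent x)
    (hA : SGA3b.IsMultType R A) (Φ : MonoidAlgebra R M →ₐc[R] A)
    (h₀ : Function.Bijective (LinearMap.lTensor (R ⧸ I) (Φ : MonoidAlgebra R M →ₗ[R] A))) :
    Function.Bijective Φ := by
  obtain ⟨s, hs, hmt⟩ := hA
  have key : Function.Bijective (Φ : MonoidAlgebra R M →ₗ[R] A) := by
    apply bijective_of_lTensor_away (Φ : MonoidAlgebra R M →ₗ[R] A) s hs
    intro f hf
    apply bijective_lTensor_of_bcΦ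
    exact bijective_of_bijective_mod_nil_const (I.map (algebraMap R (Localization.Away f)))
      (isNil_map I hI _) (hmt f hf) (bcΦ (Localization.Away f) Φ)
      (bijective_lTensor_bcΦ I (Localization.Away f) Φ h₀)
  exact key

end General

section Main

variable (R : Type u) [CommRing R] (A : Type u) [CommRing A] [HopfAlgebra R A] (I : Ideal R)

/-- A group of multiplicative type which is diagonalisable modulo a nil ideal is diagonalisable. -/
theorem isDiag_of_isDiag_mod_nil (hI : ∀ x ∈ I, IsNilpotent x) (h : SGA3b.IsMultType R A)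
    (h0 : SGA3b.IsDiag (R ⧸ I) ((R ⧸ I) ⊗[R] A)) : SGA3b.IsDiag R A := by
  obtain ⟨M, _, ⟨e₀⟩⟩ := h0
  have hP : NoPrimMod R A := noPrimMod_of_isMultType R A h
  obtain ⟨l, hl⟩ := MultIntegral.exists_integral_of_isMultType R A h
  let χ₀ : M →* GroupLike (R ⧸ I) ((R ⧸ I) ⊗[R] A) :=
    { toFun := fun m => ⟨e₀.symm (MonoidAlgebra.single m (1 : R ⧸ I)),
        (MonoidAlgebra.isGroupLikeElem_single_one (R := R ⧸ I) m).map e₀.symm⟩
      map_one' := by
        apply GroupLike.ext
        show e₀.symm (MonoidAlgebra.single (1 : M) (1 : R ⧸ I)) = 1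
        rw [← MonoidAlgebra.one_def, map_one]
      map_mul' := fun a b => by
        apply GroupLike.ext
        show e₀.symm (MonoidAlgebra.single (a * b) (1 : R ⧸ I)) =
          e₀.symm (MonoidAlgebra.single a (1 : R ⧸ I)) * e₀.symm (MonoidAlgebra.single b (1 : R ⧸ I))
        rw [← map_mul, MonoidAlgebra.single_mul_single, one_mul] }
  obtain ⟨χ, hχ⟩ := exists_char_lift I hP l hl.map_one hl.rid_lTensor_comul hI χ₀
  have hχ' : ∀ m, (1 : R ⧸ I) ⊗ₜ[R] (χ m : A) = e₀.symm (MonoidAlgebra.single m (1 : R ⧸ I)) :=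
    fun m => hχ m
  set Φ := ofChar χ with hΦdef
  have key : ∀ y : MonoidAlgebra (R ⧸ I) M,
      LinearMap.lTensor (R ⧸ I) (Φ : MonoidAlgebra R M →ₗ[R] A)
        ((BCB.steBialg R (R ⧸ I) M).symm y) = e₀.symm y := by
    intro y
    induction y using MonoidAlgebra.induction_linear with
    | zero => simp
    | add x y hx hy => rw [map_add, map_add, map_add, hx, hy]
    | single m a =>
      have e1 : (BCB.steBialg R (R ⧸ I) M).symm (MonoidAlgebra.single m a) =
          a ⊗ₜ[R] MonoidAlgebra.single m (1 : R) :=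
        MonoidAlgebra.scalarTensorEquiv_symm_single m a
      have e2 : MonoidAlgebra.single m a = a • MonoidAlgebra.single m (1 : R ⧸ I) := by
        rw [MonoidAlgebra.smul_single, smul_eq_mul, mul_one]
      rw [e1, LinearMap.lTensor_tmul]
      show a ⊗ₜ[R] Φ (MonoidAlgebra.single m (1 : R)) = _
      rw [hΦdef, ofChar_single, one_smul, e2, map_smul, ← hχ', TensorProduct.smul_tmul',
        smul_eq_mul, mul_one]
  have h₀ : Function.Bijective (LinearMap.lTensor (R ⧸ I) (Φ : MonoidAlgebra R M →ₗ[R] A)) := by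
    have : ⇑(LinearMap.lTensor (R ⧸ I) (Φ : MonoidAlgebra R M →ₗ[R] A)) =
        e₀.symm ∘ (BCB.steBialg R (R ⧸ I) M) := by
      funext z
      have := key ((BCB.steBialg R (R ⧸ I) M) z)
      rw [BialgEquiv.symm_apply_apply] at this
      exact this
    rw [this]
    exact e₀.symm.bijective.comp (BCB.steBialg R (R ⧸ I) M).bijective
  have hΦ := bijective_of_bijective_mod_nil I hI h Φ h₀
  exact ⟨M, inferInstance, ⟨(BialgEquiv.ofBijective Φ hΦ).symm⟩⟩

end Main

end Groth.Agent.Lib.Seat23.DiagNil
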