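import Mathlib.RingTheory.Smooth.StandardSmoothOfFree
import Mathlib.RingTheory.Smooth.Flat
import Mathlib.RingTheory.Etale.Basic

/-!
# Seat23EtaleLift — lifting étale algebras along surjections with nil kernel

`R → Rb` a surjective ring map (as `Algebra R Rb`) whose kernel consists of nilpotent elements.

* `exists_etale_lift` : every étale `Rb`-algebra `S₀` is the reduction of an étale `R`-algebra `S`: there is
  `π : S →ₐ[R] S₀` surjective with nil kernel; `S` is finite (resp. faithfully flat) over `R` if `S₀` is so over `Rb`.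
  (Construction: a submersive presentation of `S₀` of relative dimension `0` (Mathlib: étale = standard smooth of
  relative dimension `0`) is lifted coefficientwise; the Jacobian stays a unit since it is one modulo a nil ideal.)
* general lemmas: `isUnit_of_map_of_nil_ker`, `isNil_map'`, `isIntegral_of_nil_ker`, `finite_of_nil_ker`,
  `faithfullyFlat_of_nil_ker`.
-/

set_option autoImplicit false
set_option linter.style.haveILetI false
set_option linter.unusedSectionVars false
universe u

open MvPolynomial

namespace Groth.Agent.Lib.Seat23.EtaleLift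

section General

theorem isUnit_of_map_of_nil_ker {A B : Type*} [CommRing A] [CommRing B] (f : A →+* B)
    (hf : Function.Surjective f) (hker : ∀ x ∈ RingHom.ker f, IsNilpotent x) {a : A}
    (h : IsUnit (f a)) : IsUnit a := by
  obtain ⟨b, hb⟩ := h.exists_right_inv
  obtain ⟨c, rfl⟩ := hf b
  have h1 : a * c - 1 ∈ RingHom.ker f := by
    rw [RingHom.mem_ker, map_sub, map_mul, hb, map_one, sub_self]
  have h2 : IsUnit (a * c) := by
    have := (hker _ h1).isUnit_add_one
    rwa [sub_add_cancel] at this
  exact isUnit_of_mul_isUnit_left h2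

theorem isNil_map' {A B : Type*} [CommRing A] [CommRing B] (f : A →+* B) (I : Ideal A)
    (hI : ∀ x ∈ I, IsNilpotent x) : ∀ x ∈ I.map f, IsNilpotent x := by
  have hle : I.map f ≤ nilradical B := by
    rw [Ideal.map_le_iff_le_comap]
    intro x hx
    rw [Ideal.mem_comap, mem_nilradical]
    exact (hI x hx).map f
  intro x hx
  exact mem_nilradical.mp (hle hx)

theorem isIntegral_of_nil_ker {R A B : Type*} [CommRing R] [CommRing A] [CommRing B] [Algebra R A]
    [Algebra R B] (f : A →ₐ[R] B) (hker : ∀ x ∈ RingHom.ker f.toRingHom, IsNilpotent x) {a : A}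
    (h : IsIntegral R (f a)) : IsIntegral R a := by
  obtain ⟨p, hp, hpa⟩ := h
  have h1 : Polynomial.aeval a p ∈ RingHom.ker f.toRingHom := by
    rw [RingHom.mem_ker]
    change f (Polynomial.aeval a p) = 0
    rw [← Polynomial.aeval_algHom_apply]
    exact hpa
  obtain ⟨n, hn⟩ := hker _ h1
  refine ⟨p ^ n, hp.pow n, ?_⟩
  change Polynomial.aeval a (p ^ n) = 0
  rw [map_pow, hn]

/-- finiteness lifts along a surjection with nil kernel from an algebra of finite type. -/
theorem finite_of_nil_ker {R A B : Type*} [CommRing R] [CommRing A] [CommRing B] [Algebra R A]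
    [Algebra R B] [Algebra.FiniteType R A] (f : A →ₐ[R] B)
    (hker : ∀ x ∈ RingHom.ker f.toRingHom, IsNilpotent x) [Module.Finite R B] :
    Module.Finite R A := by
  haveI : Algebra.IsIntegral R A :=
    ⟨fun a => isIntegral_of_nil_ker f hker (Algebra.IsIntegral.isIntegral (f a))⟩
  exact Algebra.IsIntegral.finite

/-- faithful flatness lifts along surjections with nil kernels. -/
theorem faithfullyFlat_of_nil_ker {R Rb A B : Type*} [CommRing R] [CommRing Rb] [CommRing A]
    [CommRing B] [Algebra R Rb] [Algebra R A] [Algebra Rb B] [Algebra R B] [IsScalarTower R Rb B]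
    (hsurj : Function.Surjective (algebraMap R Rb))
    (hnil : ∀ x ∈ RingHom.ker (algebraMap R Rb), IsNilpotent x)
    (f : A →ₐ[R] B) [Module.Flat R A] [Module.FaithfullyFlat Rb B] :
    Module.FaithfullyFlat R A := by
  apply Module.FaithfullyFlat.of_comap_surjective
  intro p
  have hker : RingHom.ker (algebraMap R Rb) ≤ p.asIdeal := by
    intro x hx
    obtain ⟨n, hn⟩ := hnil x hx
    exact p.2.mem_of_pow_mem n (hn ▸ p.asIdeal.zero_mem)
  haveI : (p.asIdeal.map (algebraMap R Rb)).IsPrime := Ideal.map_isPrime_of_surjective hsurj hker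
  let pb : PrimeSpectrum Rb := ⟨p.asIdeal.map (algebraMap R Rb), inferInstance⟩
  obtain ⟨qb, hqb⟩ := PrimeSpectrum.comap_surjective_of_faithfullyFlat (A := Rb) (B := B) pb
  refine ⟨PrimeSpectrum.comap f.toRingHom qb, ?_⟩
  apply PrimeSpectrum.ext
  have h1 : Ideal.comap (algebraMap Rb B) qb.asIdeal = p.asIdeal.map (algebraMap R Rb) :=
    congrArg PrimeSpectrum.asIdeal hqb
  change Ideal.comap (algebraMap R A) (Ideal.comap f.toRingHom qb.asIdeal) = p.asIdeal
  rw [Ideal.comap_comap]
  have h2 : f.toRingHom.comp (algebraMap R A) = (algebraMap Rb B).comp (algebraMap R Rb) := by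
    ext r
    change f (algebraMap R A r) = algebraMap Rb B (algebraMap R Rb r)
    rw [AlgHom.commutes, IsScalarTower.algebraMap_apply R Rb B]
  rw [h2, ← Ideal.comap_comap, h1, Ideal.comap_map_of_surjective _ hsurj]
  exact sup_eq_left.mpr hker

end General

section Lift

variable {R : Type u} [CommRing R] {Rb : Type u} [CommRing Rb] [Algebra R Rb]
  (hsurj : Function.Surjective (algebraMap R Rb))
  (S₀ : Type u) [CommRing S₀] [Algebra Rb S₀] [Algebra R S₀] [IsScalarTower R Rb S₀]

/-- data of a lift. -/
structure LiftData where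
  ι : Type
  σ : Type
  finι : Finite ι
  finσ : Finite σ
  P : Algebra.SubmersivePresentation Rb S₀ ι σ
  hdim : P.dimension = 0
  v : σ → MvPolynomial ι R
  hv : ∀ j, MvPolynomial.map (algebraMap R Rb) (v j) = P.relation j

include hsurj in
theorem exists_liftData [Algebra.Etale Rb S₀] : Nonempty (LiftData (R := R) (Rb := Rb) S₀) := by
  have h := (Algebra.Etale.iff_isStandardSmoothOfRelativeDimension_zero (R := Rb) (S := S₀)).mp
    inferInstance
  obtain ⟨ι, σ, hσ, hι, P, hP⟩ := h.out
  have hs : Function.Surjective (MvPolynomial.map (σ := ι) (algebraMap R Rb)) :=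
    MvPolynomial.map_surjective _ hsurj
  choose v hv using fun j => hs (P.relation j)
  exact ⟨⟨ι, σ, hι, hσ, P, hP, v, hv⟩⟩

namespace LiftData

variable {S₀} (D : LiftData (R := R) (Rb := Rb) S₀)

/-- the lifted ring. -/
abbrev Ring : Type u := MvPolynomial D.ι R ⧸ Ideal.span (Set.range D.v)

/-- the evaluation map from the polynomial ring. -/
noncomputable def toPoly : MvPolynomial D.ι R →ₐ[R] S₀ := aeval D.P.val

lemma toPoly_eq (p : MvPolynomial D.ι R) :
    D.toPoly p = aeval (R := Rb) D.P.val (MvPolynomial.map (algebraMap R Rb) p) :=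
  (MvPolynomial.aeval_map_algebraMap Rb D.P.val p).symm

lemma toPoly_v (j : D.σ) : D.toPoly (D.v j) = 0 := by
  rw [toPoly_eq, D.hv, D.P.aeval_val_relation]

/-- the projection of the lifted ring onto `S₀`. -/
noncomputable def proj : D.Ring →ₐ[R] S₀ :=
  Ideal.Quotient.liftₐ _ D.toPoly (by
    intro a ha
    have hle : Ideal.span (Set.range D.v) ≤ RingHom.ker D.toPoly.toRingHom := by
      rw [Ideal.span_le]
      rintro _ ⟨j, rfl⟩
      exact D.toPoly_v j
    exact hle ha)

@[simp] lemma proj_mk (p : MvPolynomial D.ι R) :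
    D.proj (Ideal.Quotient.mk _ p) = D.toPoly p := rfl

include hsurj in
lemma proj_surjective : Function.Surjective D.proj := by
  intro y
  obtain ⟨q, rfl⟩ := D.P.aeval_val_surjective y
  obtain ⟨p, rfl⟩ := MvPolynomial.map_surjective (σ := D.ι) _ hsurj q
  exact ⟨Ideal.Quotient.mk _ p, by rw [proj_mk, toPoly_eq]⟩

include hsurj in
lemma ker_proj_le : RingHom.ker D.proj.toRingHom ≤
    (RingHom.ker (algebraMap R Rb)).map (algebraMap R D.Ring) := by
  intro x hx
  obtain ⟨p, rfl⟩ := Ideal.Quotient.mk_surjective x
  have hx' : aeval (R := Rb) D.P.val (MvPolynomial.map (algebraMap R Rb) p) = 0 := by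
    rw [← toPoly_eq]
    exact hx
  have h1 : MvPolynomial.map (algebraMap R Rb) p ∈ D.P.ker := by
    rw [Algebra.Generators.ker_eq_ker_aeval_val]
    exact hx'
  rw [← D.P.span_range_relation_eq_ker] at h1
  have h2 : Ideal.span (Set.range D.P.relation) =
      Ideal.map (MvPolynomial.map (algebraMap R Rb)) (Ideal.span (Set.range D.v)) := by
    rw [Ideal.map_span, ← Set.range_comp]
    congr 2
    funext j
    exact (D.hv j).symm
  rw [h2] at h1
  obtain ⟨q, hq, hqp⟩ := (Ideal.mem_map_iff_of_surjective _
    (MvPolynomial.map_surjective _ hsurj)).mp h1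
  have h3 : p - q ∈ RingHom.ker (MvPolynomial.map (σ := D.ι) (algebraMap R Rb)) := by
    rw [RingHom.mem_ker, map_sub, hqp, sub_self]
  rw [MvPolynomial.ker_map] at h3
  have h4 : (Ideal.Quotient.mk (Ideal.span (Set.range D.v))) p =
      Ideal.Quotient.mk _ (p - q) := by
    rw [map_sub, Ideal.Quotient.eq_zero_iff_mem.mpr hq, sub_zero]
  rw [h4]
  have h5 := Ideal.mem_map_of_mem (Ideal.Quotient.mk (Ideal.span (Set.range D.v))) h3
  rw [Ideal.map_map] at h5
  exact h5

lemma le_ker_proj : (RingHom.ker (algebraMap R Rb)).map (algebraMap R D.Ring) ≤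
    RingHom.ker D.proj.toRingHom := by
  rw [Ideal.map_le_iff_le_comap]
  intro r hr
  rw [Ideal.mem_comap, RingHom.mem_ker]
  change D.proj (algebraMap R D.Ring r) = 0
  rw [AlgHom.commutes, IsScalarTower.algebraMap_apply R Rb S₀, (RingHom.mem_ker).mp hr, map_zero]

/-- the naive presentation of the lifted ring. -/
noncomputable def pres : Algebra.Presentation R D.Ring D.ι D.σ :=
  Algebra.Presentation.naive (v := D.v)

/-- the pre-submersive presentation of the lifted ring. -/
noncomputable def preSub : Algebra.PreSubmersivePresentation R D.Ring D.ι D.σ :=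
  { toPresentation := D.pres, map := D.P.map, map_inj := D.P.map_inj }

lemma proj_jacobian : haveI := D.finσ; D.proj D.preSub.jacobian = D.P.jacobian := by
  classical
  haveI := D.finσ
  cases nonempty_fintype D.σ
  rw [Algebra.PreSubmersivePresentation.jacobian_eq_jacobiMatrix_det,
    Algebra.PreSubmersivePresentation.jacobian_eq_jacobiMatrix_det]
  have hR : algebraMap D.P.Ring S₀ D.P.jacobiMatrix.det = aeval D.P.val D.P.jacobiMatrix.det :=
    Algebra.Generators.algebraMap_apply _ _
  have hL : D.proj (algebraMap D.preSub.Ring D.Ring D.preSub.jacobiMatrix.det) =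
      D.toPoly D.preSub.jacobiMatrix.det := rfl
  rw [hR, hL, toPoly_eq, RingHom.map_det]
  congr 2
  ext i j : 1
  rw [RingHom.mapMatrix_apply, Matrix.map_apply,
    Algebra.PreSubmersivePresentation.jacobiMatrix_apply,
    Algebra.PreSubmersivePresentation.jacobiMatrix_apply]
  change MvPolynomial.map (algebraMap R Rb) (pderiv (D.P.map i) (D.v j)) = _
  rw [← MvPolynomial.pderiv_map, D.hv]

variable (hnil : ∀ x ∈ RingHom.ker (algebraMap R Rb), IsNilpotent x)

include hnil hsurj in
lemma isNil_ker_proj : ∀ x ∈ RingHom.ker D.proj.toRingHom, IsNilpotent x := by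
  intro x hx
  exact isNil_map' _ _ hnil x (D.ker_proj_le hsurj hx)

include hnil hsurj in
lemma isUnit_jacobian : haveI := D.finσ; IsUnit D.preSub.jacobian := by
  haveI := D.finσ
  apply isUnit_of_map_of_nil_ker D.proj.toRingHom (D.proj_surjective hsurj)
    (D.isNil_ker_proj hsurj hnil)
  change IsUnit (D.proj D.preSub.jacobian)
  rw [proj_jacobian]
  exact D.P.jacobian_isUnit

include hnil hsurj in
lemma etale : Algebra.Etale R D.Ring := by
  haveI := D.finσ
  haveI := D.finι
  let Q : Algebra.SubmersivePresentation R D.Ring D.ι D.σ :=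
    { toPreSubmersivePresentation := D.preSub
      jacobian_isUnit := D.isUnit_jacobian hsurj hnil }
  have hQ : Q.dimension = 0 := D.hdim
  haveI : Algebra.IsStandardSmoothOfRelativeDimension 0 R D.Ring :=
    Q.isStandardSmoothOfRelativeDimension hQ
  infer_instance

end LiftData

include hsurj in
/-- Lifting étale algebras along a surjection `R → Rb` with nil kernel: an étale `Rb`-algebra `S₀`
is the reduction of an étale `R`-algebra `S`; finiteness and faithful flatness lift as well. -/
theorem exists_etale_lift (hnil : ∀ x ∈ RingHom.ker (algebraMap R Rb), IsNilpotent x)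
    [Algebra.Etale Rb S₀] :
    ∃ (S : Type u) (_ : CommRing S) (_ : Algebra R S) (π : S →ₐ[R] S₀),
      Algebra.Etale R S ∧ Function.Surjective π ∧
      (∀ x ∈ RingHom.ker π.toRingHom, IsNilpotent x) ∧
      (Module.Finite Rb S₀ → Module.Finite R S) ∧
      (Module.FaithfullyFlat Rb S₀ → Module.FaithfullyFlat R S) := by
  obtain ⟨D⟩ := exists_liftData hsurj S₀
  haveI : Algebra.Etale R D.Ring := D.etale hsurj hnil
  refine ⟨D.Ring, inferInstance, inferInstance, D.proj, inferInstance, D.proj_surjective hsurj,
    D.isNil_ker_proj hsurj hnil, ?_, ?_⟩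
  · intro hfin
    haveI : Module.Finite R Rb := Module.Finite.of_surjective (Algebra.linearMap R Rb) hsurj
    haveI : Module.Finite R S₀ := Module.Finite.trans Rb S₀
    exact finite_of_nil_ker D.proj (D.isNil_ker_proj hsurj hnil)
  · intro hff
    exact faithfullyFlat_of_nil_ker hsurj hnil D.proj

end Lift

end Groth.Agent.Lib.Seat23.EtaleLift
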