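import Mathlib

/-!
# Seat23GradedFree — a grading by a group with "free" isotropy has unit weight ideals (helper23)

Namespace `Groth.Agent.Lib.Seat23.GradedFree`. Mathlib only.

A coaction `ρ : B →+* B[G]` of a group algebra (counit `c1`, coassociativity `c2`) is a `G`-grading of `B`;
`wt ρ g = {b | ρ b = single g b}` is the weight space. If for every maximal ideal `𝔯` the weights `g` with
`wt ρ g ⊄ 𝔯` generate `G` (freeness of the corresponding action of `D(G)` at the point `𝔯`), then every weight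
space generates the unit ideal: `span_wt_eq_top`.
-/

set_option autoImplicit false

namespace Groth.Agent.Lib.Seat23.GradedFree

variable {B : Type*} [CommRing B] {G : Type*} [CommGroup G]

/-- the weight space of weight `g`. -/
def wt (ρ : B →+* MonoidAlgebra B G) (g : G) : Set B := {b | ρ b = MonoidAlgebra.single g b}

/-- the weights not killed at the ideal `𝔭`. -/
def supp (ρ : B →+* MonoidAlgebra B G) (𝔭 : Ideal B) : Set G := {g | ∃ b ∈ wt ρ g, b ∉ 𝔭}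

variable {ρ : B →+* MonoidAlgebra B G}

lemma coeff_mem_wt (c2 : ∀ b g, ρ ((ρ b).coeff g) = MonoidAlgebra.single g ((ρ b).coeff g))
    (b : B) (g : G) : (ρ b).coeff g ∈ wt ρ g := c2 b g

lemma one_mem_wt : (1 : B) ∈ wt ρ 1 := by
  change ρ 1 = MonoidAlgebra.single 1 1
  rw [map_one]
  rfl

lemma mul_mem_wt {g g' : G} {b b' : B} (h : b ∈ wt ρ g) (h' : b' ∈ wt ρ g') :
    b * b' ∈ wt ρ (g * g') := by
  change ρ (b * b') = _
  rw [map_mul, h, h', MonoidAlgebra.single_mul_single]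

lemma coeff_one_mul_wt {σ : G} {h : B} (hh : h ∈ wt ρ σ) (c : B) :
    (ρ (c * h)).coeff 1 = (ρ c).coeff σ⁻¹ * h := by
  rw [map_mul, hh, MonoidAlgebra.coeff_mul_single_apply, one_mul]

lemma supp_one (𝔭 : Ideal B) (h𝔭 : 𝔭 ≠ ⊤) : (1 : G) ∈ supp ρ 𝔭 :=
  ⟨1, one_mem_wt, fun h => h𝔭 ((Ideal.eq_top_iff_one 𝔭).mpr h)⟩

lemma supp_mul (𝔭 : Ideal B) [𝔭.IsPrime] {g g' : G} (h : g ∈ supp ρ 𝔭) (h' : g' ∈ supp ρ 𝔭) :
    g * g' ∈ supp ρ 𝔭 := by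
  obtain ⟨b, hb, hb'⟩ := h
  obtain ⟨c, hc, hc'⟩ := h'
  refine ⟨b * c, mul_mem_wt hb hc, fun hbc => ?_⟩
  rcases Ideal.IsPrime.mem_or_mem ‹_› hbc with h1 | h1
  · exact hb' h1
  · exact hc' h1

/-- if freeness holds at all maximal ideals, all weight spaces generate the unit ideal. -/
theorem span_wt_eq_top
    (c2 : ∀ b g, ρ ((ρ b).coeff g) = MonoidAlgebra.single g ((ρ b).coeff g))
    (hfree : ∀ 𝔯 : Ideal B, 𝔯.IsMaximal → Subgroup.closure (supp ρ 𝔯) = ⊤) (g₀ : G) :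
    Ideal.span (wt ρ g₀) = ⊤ := by
  by_contra hne
  obtain ⟨𝔭, h𝔭max, h𝔭le⟩ := Ideal.exists_le_maximal _ hne
  have h𝔭prime : 𝔭.IsPrime := h𝔭max.isPrime
  have hg₀ : g₀ ∉ supp ρ 𝔭 := by
    rintro ⟨b, hb, hb'⟩
    exact hb' (h𝔭le (Ideal.subset_span hb))
  -- the auxiliary ideal
  let S₁ : Set B := {h | h ∈ 𝔭 ∧ ∃ g, h ∈ wt ρ g}
  let S₂ : Set B := {h | ∃ σ, h ∈ wt ρ σ ∧ σ⁻¹ ∉ supp ρ 𝔭}
  let 𝔮 : Ideal B := Ideal.span (S₁ ∪ S₂)
  have hprop : ∀ x ∈ 𝔮, ∀ c : B, (ρ (c * x)).coeff 1 ∈ 𝔭 := by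
    intro x hx
    refine Submodule.span_induction (p := fun x _ => ∀ c : B, (ρ (c * x)).coeff 1 ∈ 𝔭)
      ?_ ?_ ?_ ?_ hx
    · rintro h (⟨hh𝔭, g, hhg⟩ | ⟨σ, hhσ, hσ⟩) c
      · rw [coeff_one_mul_wt hhg]
        exact 𝔭.mul_mem_left _ hh𝔭
      · rw [coeff_one_mul_wt hhσ]
        refine 𝔭.mul_mem_right _ ?_
        by_contra hnot
        exact hσ ⟨_, coeff_mem_wt c2 c σ⁻¹, hnot⟩
    · intro c
      simp
    · intro x y _ _ hx hy c
      rw [mul_add, map_add, MonoidAlgebra.coeff_add, Finsupp.add_apply]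
      exact 𝔭.add_mem (hx c) (hy c)
    · intro a x _ hx c
      rw [smul_eq_mul, ← mul_assoc]
      exact hx (c * a)
  have h𝔮ne : 𝔮 ≠ ⊤ := by
    intro htop
    have h1 : (1 : B) ∈ 𝔮 := by rw [htop]; trivial
    have h3 := hprop 1 h1 1
    have h2 : (ρ (1 * 1)).coeff 1 = 1 := by
      rw [mul_one, map_one ρ, MonoidAlgebra.one_def, MonoidAlgebra.coeff_single,
        Finsupp.single_eq_same]
    rw [h2] at h3
    exact h𝔭max.ne_top ((Ideal.eq_top_iff_one 𝔭).mpr h3)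
  obtain ⟨𝔯, h𝔯max, h𝔯le⟩ := Ideal.exists_le_maximal _ h𝔮ne
  -- the unit group of the monoid `supp ρ 𝔭`
  let Su : Subgroup G :=
    { carrier := {g | g ∈ supp ρ 𝔭 ∧ g⁻¹ ∈ supp ρ 𝔭}
      mul_mem' := fun {a b} ha hb => ⟨supp_mul 𝔭 ha.1 hb.1, by
        rw [mul_inv]
        exact supp_mul 𝔭 ha.2 hb.2⟩
      one_mem' := ⟨supp_one 𝔭 h𝔭max.ne_top, by
        rw [inv_one]
        exact supp_one 𝔭 h𝔭max.ne_top⟩
      inv_mem' := fun {a} ha => ⟨ha.2, by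
        rw [inv_inv]
        exact ha.1⟩ }
  have hsub : supp ρ 𝔯 ⊆ (Su : Set G) := by
    rintro g ⟨b, hb, hb𝔯⟩
    have hb𝔮 : b ∉ 𝔮 := fun h => hb𝔯 (h𝔯le h)
    have h1 : b ∉ 𝔭 := fun h => hb𝔮 (Ideal.subset_span (Or.inl ⟨h, g, hb⟩))
    refine ⟨⟨b, hb, h1⟩, ?_⟩
    by_contra hinv
    exact hb𝔮 (Ideal.subset_span (Or.inr ⟨g, hb, hinv⟩))
  have hle : Subgroup.closure (supp ρ 𝔯) ≤ Su := (Subgroup.closure_le Su).mpr hsub
  rw [hfree 𝔯 h𝔯max] at hle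
  exact hg₀ (hle (Subgroup.mem_top g₀)).1

end Groth.Agent.Lib.Seat23.GradedFree
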