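import Groth.Agent.Lib.Seat23CentralFactor
import Groth.Agent.Lib.Seat23GradedFree

/-!
# Seat23FreeAct — free actions of diagonalisable groups on affine schemes (helper23)

Namespace `Groth.Agent.Lib.Seat23.FreeAct`.

Over an affine base `T`, for a group `G' ≅ D_T(M)` acting freely on `X` with `X.left` affine, the graph morphism
`G' ⊗ X ⟶ X ⊗ X`, `(g, x) ↦ (g x, x)`, is a closed immersion (`isClosedImmersion_graph`).
-/

set_option autoImplicit false
universe u
open CategoryTheory MonoidalCategory CartesianMonoidalCategory MonObj GrpObj AlgebraicGeometry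
open CategoryTheory.Limits
open Groth.Agent.Lib.Seat27.DSPoints Groth.Agent.Lib.Seat23.DiagAct Groth.Agent.Lib.Seat23.GradedFree
open Groth.Agent.Lib.Seat23.CentralFactor (charOf charOf_apply specMap_appTop_apply ΓSpecIso_inv_injective)

namespace Groth.Agent.Lib.Seat23.FreeAct

section Dict

/-- a morphism to an affine scheme is determined by its map on global sections. -/
lemma factor_self {Y X : Scheme.{u}} [IsAffine X] (y : Y ⟶ X) :
    y = Y.toSpecΓ ≫ Spec.map y.appTop ≫ (isAffineOpen_top X).fromSpec := by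
  rw [← Category.assoc, ← Scheme.toSpecΓ_naturality, Category.assoc, IsAffineOpen.fromSpec_top,
    ← Scheme.isoSpec_hom, Iso.hom_inv_id, Category.comp_id]

lemma toSpecΓ_specMap_appTop_apply {Y : Scheme.{u}} {C : CommRingCat.{u}} (φ : C ⟶ Γ(Y, ⊤))
    (x : Γ(Spec C, ⊤)) :
    (Y.toSpecΓ ≫ Spec.map φ).appTop.hom x = φ.hom ((Scheme.ΓSpecIso C).hom.hom x) := by
  rw [Scheme.Hom.comp_appTop, CommRingCat.hom_comp, RingHom.comp_apply, specMap_appTop_apply,
    Scheme.toSpecΓ_appTop]
  exact congrArg (fun k => k.hom (φ.hom ((Scheme.ΓSpecIso C).hom.hom x)))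
    (Scheme.ΓSpecIso Γ(Y, ⊤)).inv_hom_id

lemma appTop_of_factor {Y X : Scheme.{u}} [IsAffine X] (φ : Γ(X, ⊤) ⟶ Γ(Y, ⊤)) :
    (Y.toSpecΓ ≫ Spec.map φ ≫ (isAffineOpen_top X).fromSpec).appTop = φ := by
  have h1 : (isAffineOpen_top X).fromSpec.appTop = (Scheme.ΓSpecIso Γ(X, ⊤)).inv := by
    rw [IsAffineOpen.fromSpec_top]
    have h2 : X.isoSpec.hom.appTop ≫ X.isoSpec.inv.appTop = 𝟙 _ := by
      rw [← Scheme.Hom.comp_appTop, Iso.inv_hom_id, Scheme.Hom.id_appTop]
    rw [Scheme.isoSpec_hom, Scheme.toSpecΓ_appTop] at h2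
    rw [← cancel_epi (Scheme.ΓSpecIso Γ(X, ⊤)).hom, h2, Iso.hom_inv_id]
  ext x
  rw [← Category.assoc, Scheme.Hom.comp_appTop, CommRingCat.hom_comp, RingHom.comp_apply, h1,
    toSpecΓ_specMap_appTop_apply]
  congr 1
  exact congrArg (fun k => k.hom x) (Scheme.ΓSpecIso Γ(X, ⊤)).inv_hom_id

end Dict

section Free

variable {T : Scheme.{u}} [IsAffine T] {M : Type} [AddCommGroup M] {X : Over T} [IsAffine X.left]

/-- the classifying morphism of a pair of points `(g, x)` to the universal test object `Spec Γ(X)[M]`. -/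
noncomputable def cls {Y : Over T} (g : Y ⟶ Red.DS T M) (x : Y ⟶ X) :
    Y ⟶ ov (isAffineOpen_top X.left) (βu M (⊤ : X.left.Opens)) :=
  Over.homMk (Y.left.toSpecΓ ≫ Spec.map (θ x.left.appTop (charOf g))) (by
    change (Y.left.toSpecΓ ≫ Spec.map (θ x.left.appTop (charOf g))) ≫
      Spec.map (βu M ⊤) ≫ (isAffineOpen_top X.left).fromSpec ≫ X.hom = Y.hom
    rw [Category.assoc, ← Spec.map_comp_assoc, βu_θ, ← Category.assoc, ← Category.assoc,
      Category.assoc _ _ (isAffineOpen_top X.left).fromSpec, ← factor_self]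
    exact Over.w x)

lemma cls_pt {Y : Over T} (g : Y ⟶ Red.DS T M) (x : Y ⟶ X) :
    cls g x ≫ pt (isAffineOpen_top X.left) (βu M ⊤) = x := by
  apply Over.OverMorphism.ext
  change (Y.left.toSpecΓ ≫ Spec.map (θ x.left.appTop (charOf g))) ≫
    Spec.map (βu M ⊤) ≫ (isAffineOpen_top X.left).fromSpec = x.left
  rw [Category.assoc, ← Spec.map_comp_assoc, βu_θ]
  exact (factor_self x.left).symm

lemma cls_appTop {Y : Over T} (g : Y ⟶ Red.DS T M) (x : Y ⟶ X)
    (s : Γ(Spec (BM M (⊤ : X.left.Opens)), ⊤)) :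
    (cls g x).left.appTop.hom s =
      (θ x.left.appTop (charOf g)).hom ((Scheme.ΓSpecIso (BM M (⊤ : X.left.Opens))).hom.hom s) :=
  toSpecΓ_specMap_appTop_apply _ _

lemma cls_ch {Y : Over T} (g : Y ⟶ Red.DS T M) (x : Y ⟶ X) :
    cls g x ≫ ch (isAffineOpen_top X.left) (βu M ⊤) (χu M ⊤) = g := by
  apply dsChar_ext
  intro m
  rw [dsChar_comp, dsChar_ch]
  refine (cls_appTop g x _).trans ?_
  have e : ∀ z : BM M (⊤ : X.left.Opens), (Scheme.ΓSpecIso (BM M (⊤ : X.left.Opens))).hom.hom
      ((Scheme.ΓSpecIso (BM M (⊤ : X.left.Opens))).inv.hom z) = z := fun z =>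
    congrArg (fun k => k.hom z) (Scheme.ΓSpecIso (BM M (⊤ : X.left.Opens))).inv_hom_id
  rw [e]
  exact congrArg (fun k => k (Multiplicative.ofAdd m)) (θ_χu x.left.appTop (charOf g))

variable (A : PtAct T M X)

lemma cls_pu {Y : Over T} (g : Y ⟶ Red.DS T M) (x : Y ⟶ X) :
    cls g x ≫ pu (isAffineOpen_top X.left) A = A.act g x := by
  rw [pu, A.nat, cls_ch, cls_pt]

/-- the action on global functions in terms of the coaction `ρ`. -/
lemma act_appTop {ρ : Γ(X.left, ⊤) ⟶ BM M (⊤ : X.left.Opens)}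
    (hρ : Coord (isAffineOpen_top X.left) (βu M ⊤) (pu (isAffineOpen_top X.left) A) ρ)
    {Y : Over T} (g : Y ⟶ Red.DS T M) (x : Y ⟶ X) :
    (A.act g x).left.appTop = ρ ≫ θ x.left.appTop (charOf g) := by
  have h1 : (A.act g x).left = Y.left.toSpecΓ ≫ Spec.map (ρ ≫ θ x.left.appTop (charOf g)) ≫
      (isAffineOpen_top X.left).fromSpec := by
    rw [← cls_pu A g x, Over.comp_left]
    change (Y.left.toSpecΓ ≫ Spec.map (θ x.left.appTop (charOf g))) ≫
      lft (isAffineOpen_top X.left) (pu (isAffineOpen_top X.left) A) = _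
    rw [hρ, Category.assoc, ← Spec.map_comp_assoc]
  rw [h1, appTop_of_factor]

/-- freeness of the action gives freeness of the grading at every maximal ideal. -/
lemma closure_supp_eq_top
    (hfree : ∀ (Y : Over T) (g : Y ⟶ Red.DS T M) (x : Y ⟶ X), A.act g x = x → g = 1)
    {ρ : Γ(X.left, ⊤) ⟶ BM M (⊤ : X.left.Opens)}
    (hρ : Coord (isAffineOpen_top X.left) (βu M ⊤) (pu (isAffineOpen_top X.left) A) ρ)
    (𝔯 : Ideal Γ(X.left, ⊤)) (h𝔯 : 𝔯.IsMaximal) :
    Subgroup.closure (supp (ρ.hom : Γ(X.left, ⊤) →+* MonoidAlgebra Γ(X.left, ⊤) (Multiplicative M)) 𝔯)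
      = ⊤ := by
  set N := Subgroup.closure
    (supp (ρ.hom : Γ(X.left, ⊤) →+* MonoidAlgebra Γ(X.left, ⊤) (Multiplicative M)) 𝔯) with hN
  let K := Γ(X.left, ⊤) ⧸ 𝔯
  have hKnt : Nontrivial K := Ideal.Quotient.nontrivial_iff.mpr h𝔯.ne_top
  let Q := Multiplicative M ⧸ N
  let C : CommRingCat.{u} := CommRingCat.of (MonoidAlgebra K Q)
  let β : Γ(X.left, ⊤) ⟶ C :=
    CommRingCat.ofHom ((MonoidAlgebra.singleOneRingHom).comp (Ideal.Quotient.mk 𝔯))
  let χ : Multiplicative M →* C := (MonoidAlgebra.of K Q).comp (QuotientGroup.mk' N)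
  have hU : IsAffineOpen (⊤ : T.Opens) := isAffineOpen_top T
  have hVU : (⊤ : X.left.Opens) ≤ X.hom ⁻¹ᵁ (⊤ : T.Opens) := fun _ _ => trivial
  have hc2 := rho_coassoc hU (isAffineOpen_top X.left) hVU A hρ
  have hc1 : ∀ b : Γ(X.left, ⊤), (ρ.hom b).coeff.sum (fun _ c => c) = b := by
    intro b
    have h := congrArg (fun k => k.hom b) (rho_counit (isAffineOpen_top X.left) A hρ)
    simp only [CommRingCat.hom_comp, RingHom.coe_comp, Function.comp_apply,
      CommRingCat.hom_id, RingHom.id_apply] at h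
    unfold θ at h
    simp only [CommRingCat.hom_ofHom] at h
    rw [liftNCRingHom_apply] at h
    simpa using h
  have hclaim : ρ ≫ θ β χ = β := by
    apply CommRingCat.hom_ext
    refine RingHom.ext fun b => ?_
    change (θ β χ).hom (ρ.hom b) = β.hom b
    unfold θ
    simp only [CommRingCat.hom_ofHom]
    rw [liftNCRingHom_apply]
    have hterm : ∀ m ∈ (ρ.hom b).coeff.support,
        β.hom ((ρ.hom b).coeff m) * χ m = β.hom ((ρ.hom b).coeff m) := by
      intro m _
      by_cases hm : (ρ.hom b).coeff m ∈ 𝔯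
      · have : β.hom ((ρ.hom b).coeff m) = 0 := by
          change MonoidAlgebra.singleOneRingHom (Ideal.Quotient.mk 𝔯 ((ρ.hom b).coeff m)) = 0
          rw [Ideal.Quotient.eq_zero_iff_mem.mpr hm, map_zero]
        rw [this, zero_mul]
      · have hmN : m ∈ N := Subgroup.subset_closure ⟨_, hc2 b m, hm⟩
        have : χ m = 1 := by
          change MonoidAlgebra.of K Q (QuotientGroup.mk' N m) = 1
          have h0 : QuotientGroup.mk' N m = 1 := (QuotientGroup.eq_one_iff m).mpr hmN
          rw [h0, map_one]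
        rw [this, _root_.mul_one]
    rw [Finsupp.sum, Finset.sum_congr rfl hterm, ← map_sum]
    congr 1
    exact hc1 b
  have hfix : A.act (ch (isAffineOpen_top X.left) β χ) (pt (isAffineOpen_top X.left) β) =
      pt (isAffineOpen_top X.left) β := by
    have h1 := coord_act hU (isAffineOpen_top X.left) hVU A
      (coord_pt (isAffineOpen_top X.left) β) χ hρ
    rw [hclaim] at h1
    exact coord_ext (isAffineOpen_top X.left) h1 (coord_pt (isAffineOpen_top X.left) β)
  have hone := hfree _ _ _ hfix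
  rw [eq_top_iff]
  intro m _
  have h2 := congrArg (fun z => dsChar z m.toAdd) hone
  simp only [dsChar_ch, dsChar_one] at h2
  have h3 : χ (Multiplicative.ofAdd m.toAdd) = 1 :=
    ΓSpecIso_inv_injective (h2.trans (map_one _).symm)
  rw [ofAdd_toAdd] at h3
  have h4 : QuotientGroup.mk' N m = 1 := by
    have h5 : MonoidAlgebra.of K Q (QuotientGroup.mk' N m) = MonoidAlgebra.of K Q 1 := by
      rw [map_one]
      exact h3
    exact MonoidAlgebra.of_injective h5
  exact (QuotientGroup.eq_one_iff m).mp h4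

end Free

section Graph

variable {T : Scheme.{u}} [IsAffine T] {M : Type} [AddCommGroup M] {G' X : Over T} [GrpObj G']
  [IsAffine X.left]

/-- the point action of `D_T(M)` deduced from an action of `G' ≅ D_T(M)`. -/
noncomputable def ptActOf (ε : Red.DS T M ≅ G') [IsMonHom ε.hom] (a : AlgGrp.Action G' X) :
    PtAct T M X where
  act g x := lift (g ≫ ε.hom) x ≫ a.act
  nat t g x := by
    rw [← Category.assoc, comp_lift, Category.assoc]
  one x := by
    rw [MonObj.one_comp, Groth.Agent.Lib.Helper12.act_one]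
  mul g g' x := by
    rw [MonObj.mul_comp, Groth.Agent.Lib.Helper12.act_mul]

/-- **Local theorem.** A free action of a diagonalisable group on an affine scheme over an affine base has a
closed graph. -/
theorem isClosedImmersion_graph (ε : Red.DS T M ≅ G') [IsMonHom ε.hom] (a : AlgGrp.Action G' X)
    (hfree : ∀ (Y : Over T) (g : Y ⟶ G') (x : Y ⟶ X), lift g x ≫ a.act = x → g = 1) :
    IsClosedImmersion (lift a.act (snd G' X)).left := by
  let A := ptActOf ε a
  have hfreeA : ∀ (Y : Over T) (g : Y ⟶ Red.DS T M) (x : Y ⟶ X), A.act g x = x → g = 1 := by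
    intro Y g x h
    have h1 := hfree Y (g ≫ ε.hom) x h
    have hinv : IsMonHom ε.inv := inferInstance
    calc g = (g ≫ ε.hom) ≫ ε.inv := by rw [Category.assoc, Iso.hom_inv_id, Category.comp_id]
      _ = 1 := by
          rw [h1]
          exact MonObj.one_comp ε.inv
  obtain ⟨ρ, hρ⟩ := exists_coord (isAffineOpen_top X.left) (pu (isAffineOpen_top X.left) A)
    (fun _ => trivial)
  have hU : IsAffineOpen (⊤ : T.Opens) := isAffineOpen_top T
  have hVU : (⊤ : X.left.Opens) ≤ X.hom ⁻¹ᵁ (⊤ : T.Opens) := fun _ _ => trivial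
  have hc2 := rho_coassoc hU (isAffineOpen_top X.left) hVU A hρ
  have hspan : ∀ m : Multiplicative M, Ideal.span
      (wt (ρ.hom : Γ(X.left, ⊤) →+* MonoidAlgebra Γ(X.left, ⊤) (Multiplicative M)) m) = ⊤ :=
    fun m => span_wt_eq_top hc2 (closure_supp_eq_top A hfreeA hρ) m
  -- affineness
  have hdiag : IsAffine (Red.diag (ULift.{u} ℤ) M).left := by
    change IsAffine (Spec _)
    infer_instance
  have hDaff : IsAffine (Red.DS T M).left := by
    change IsAffine (pullback (Red.diag (ULift.{u} ℤ) M).hom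
      (Limits.IsTerminal.from specULiftZIsTerminal T))
    infer_instance
  have hGaff : IsAffine G'.left := by
    have h : IsIso ε.inv.left := by
      refine ⟨ε.hom.left, ?_, ?_⟩
      · rw [← Over.comp_left, Iso.inv_hom_id]; rfl
      · rw [← Over.comp_left, Iso.hom_inv_id]; rfl
    exact IsAffine.of_isIso ε.inv.left
  have hQaff : IsAffine (G' ⊗ X).left := by
    rw [Over.tensorObj_left]
    infer_instance
  have hPaff : IsAffine (X ⊗ X).left := by
    rw [Over.tensorObj_left]
    infer_instance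
  apply IsClosedImmersion.of_surjective_of_isAffine
  -- the classifying data of the universal pair of points of `G' ⊗ X`
  let gQ : G' ⊗ X ⟶ Red.DS T M := fst G' X ≫ ε.inv
  let xQ : G' ⊗ X ⟶ X := snd G' X
  have hact : A.act gQ xQ = a.act := by
    change lift ((fst G' X ≫ ε.inv) ≫ ε.hom) (snd G' X) ≫ a.act = a.act
    rw [Category.assoc, Iso.inv_hom_id, Category.comp_id, lift_fst_snd, Category.id_comp]
  have hactTop : a.act.left.appTop = ρ ≫ θ xQ.left.appTop (charOf gQ) := by
    rw [← hact]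
    exact act_appTop A hρ gQ xQ
  let R' := (lift a.act (snd G' X)).left.appTop.hom.range
  have hr : ∀ b, xQ.left.appTop.hom b ∈ R' := by
    intro b
    refine ⟨(snd X X).left.appTop.hom b, ?_⟩
    rw [← RingHom.comp_apply, ← CommRingCat.hom_comp, ← Scheme.Hom.comp_appTop, ← Over.comp_left,
      lift_snd]
  have hactR : ∀ b, (ρ ≫ θ xQ.left.appTop (charOf gQ)).hom b ∈ R' := by
    intro b
    refine ⟨(fst X X).left.appTop.hom b, ?_⟩
    rw [← RingHom.comp_apply, ← CommRingCat.hom_comp, ← Scheme.Hom.comp_appTop, ← Over.comp_left,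
      lift_fst, hactTop]
  have hwt : ∀ (m : Multiplicative M) (b : Γ(X.left, ⊤)),
      b ∈ wt (ρ.hom : Γ(X.left, ⊤) →+* MonoidAlgebra Γ(X.left, ⊤) (Multiplicative M)) m →
      (ρ ≫ θ xQ.left.appTop (charOf gQ)).hom b = xQ.left.appTop.hom b * charOf gQ m := by
    intro m b hb
    rw [CommRingCat.hom_comp, RingHom.comp_apply]
    have hb' : ρ.hom b = MonoidAlgebra.single m b := hb
    rw [hb']
    unfold θ
    simp only [CommRingCat.hom_ofHom]
    exact MonoidAlgebra.liftNCRingHom_single _ _ _ m b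
  have hc : ∀ m : Multiplicative M, charOf gQ m ∈ R' := by
    intro m
    have hall : ∀ x ∈ Ideal.span
        (wt (ρ.hom : Γ(X.left, ⊤) →+* MonoidAlgebra Γ(X.left, ⊤) (Multiplicative M)) m),
        xQ.left.appTop.hom x * charOf gQ m ∈ R' := by
      intro x hx
      refine Submodule.span_induction (p := fun x _ => xQ.left.appTop.hom x * charOf gQ m ∈ R')
        ?_ ?_ ?_ ?_ hx
      · intro b hb
        rw [← hwt m b hb]
        exact hactR b
      · rw [map_zero, zero_mul]
        exact R'.zero_mem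
      · intro x y _ _ hx hy
        rw [map_add, add_mul]
        exact R'.add_mem hx hy
      · intro b x _ hx
        rw [smul_eq_mul, map_mul, _root_.mul_assoc]
        exact R'.mul_mem (hr b) hx
    have h1 := hall 1 (by rw [hspan m]; trivial)
    rwa [map_one, _root_.one_mul] at h1
  intro s
  change s ∈ R'
  -- `s` is pulled back from the universal test object
  let κ : ov (isAffineOpen_top X.left) (βu M (⊤ : X.left.Opens)) ⟶ G' ⊗ X :=
    lift (ch (isAffineOpen_top X.left) (βu M ⊤) (χu M ⊤) ≫ ε.hom)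
      (pt (isAffineOpen_top X.left) (βu M ⊤))
  have hτκ : cls gQ xQ ≫ κ = 𝟙 _ := by
    apply CartesianMonoidalCategory.hom_ext
    · rw [Category.assoc, lift_fst, ← Category.assoc, cls_ch, Category.id_comp]
      change (fst G' X ≫ ε.inv) ≫ ε.hom = fst G' X
      rw [Category.assoc, Iso.inv_hom_id, Category.comp_id]
    · rw [Category.assoc, lift_snd, cls_pt, Category.id_comp]
  have hs1 : (cls gQ xQ ≫ κ).left.appTop.hom s = s := by
    rw [hτκ]
    simp
  have hs2 : (cls gQ xQ ≫ κ).left.appTop.hom s =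
      (cls gQ xQ).left.appTop.hom (κ.left.appTop.hom s) := by
    rw [Over.comp_left, Scheme.Hom.comp_appTop, CommRingCat.hom_comp, RingHom.comp_apply]
  have hs := hs1.symm.trans (hs2.trans (cls_appTop gQ xQ _))
  rw [hs]
  unfold θ
  simp only [CommRingCat.hom_ofHom]
  rw [liftNCRingHom_apply]
  refine R'.sum_mem fun m _ => R'.mul_mem (hr _) (hc m)

end Graph



end Groth.Agent.Lib.Seat23.FreeAct
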