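import Groth.Agent.Lib.Seat23FreeAct
import Groth.Agent.Lib.Seat23FpqcBase
import Groth.Agent.Lib.Seat23CentralSub
import Groth.Agent.Lib.Helper12Descent

/-!
# Seat23FreeActB — free actions of groups of multiplicative type on affine schemes: closed graph (helper23)

Namespace `Groth.Agent.Lib.Seat23.FreeAct`.

* `isClosedImmersion_graph_of_fpqc`: `G` fpqc-locally diagonalisable acting freely on `X` affine over `S`:
  the graph morphism `G ⊗ X ⟶ X ⊗ X` is a closed immersion.
* `isPullback_orbitMap`, `isClosedImmersion_orbitMap`: the orbit map of a section is a base change of the graph.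
-/

set_option autoImplicit false
universe u
open CategoryTheory MonoidalCategory CartesianMonoidalCategory MonObj GrpObj AlgebraicGeometry
open CategoryTheory.Limits
open Groth.Agent.Lib.Seat23.CentralSub

namespace Groth.Agent.Lib.Seat23.FreeAct

lemma isIso_left {S : Scheme.{u}} {A B : Over S} (k : A ⟶ B) [IsIso k] : IsIso k.left := by
  refine ⟨(inv k).left, ?_, ?_⟩
  · rw [← Over.comp_left, IsIso.hom_inv_id]; rfl
  · rw [← Over.comp_left, IsIso.inv_hom_id]; rfl

section BC

variable {S T : Scheme.{u}} (h : T ⟶ S) {G X : Over S} [GrpObj G] (a : AlgGrp.Action G X)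

/-- freeness is stable under base change. -/
lemma free_bc (hfree : ∀ (Y : Over S) (g : Y ⟶ G) (x : Y ⟶ X), lift g x ≫ a.act = x → g = 1)
    (Y : Over T) (g : Y ⟶ Red.bc h G) (x : Y ⟶ Red.bc h X)
    (hgx : lift g x ≫ (a.bc h).act = x) : g = 1 := by
  obtain ⟨g₁, rfl⟩ := ((Over.mapPullbackAdj h).homEquiv Y G).surjective g
  obtain ⟨x₁, rfl⟩ := ((Over.mapPullbackAdj h).homEquiv Y X).surjective x
  rw [AlgGrp.Action.lift_homEquiv_bc_act] at hgx
  have h1 := hfree _ g₁ x₁ (((Over.mapPullbackAdj h).homEquiv Y X).injective hgx)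
  rw [h1]
  have h2 := AlgGrp.Action.homEquiv_mul h (G := G) (T' := Y) 1 1
  rw [_root_.mul_one] at h2
  exact (mul_eq_left.mp h2.symm)

/-- the graph of the base-changed action is the base change of the graph, up to the canonical isomorphisms. -/
lemma graph_bc :
    lift (a.bc h).act (snd _ _) ≫ Functor.LaxMonoidal.μ (Over.pullback h) X X =
      Functor.LaxMonoidal.μ (Over.pullback h) G X ≫ (Over.pullback h).map (lift a.act (snd G X)) := by
  rw [← Functor.Monoidal.lift_μ, comp_lift_assoc, Functor.Monoidal.μ_snd, AlgGrp.Action.bc_act]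

end BC

section Global

variable {S : Scheme.{u}} {G X : Over S} [GrpObj G]

/-- **Global theorem.** A free action of a group of multiplicative type on an `S`-scheme affine over `S`
has a closed graph. -/
theorem isClosedImmersion_graph_of_fpqc
    (hG : TwC.Locally S TwC.Topology.fpqc (fun S' f => ∃ (M : Type) (_ : AddCommGroup M),
      Nonempty (Grp.mk (Red.bc f G) ≅ Grp.mk (Red.DS S' M))))
    (hX : IsAffineHom X.hom) (a : AlgGrp.Action G X)
    (hfree : ∀ (Y : Over S) (g : Y ⟶ G) (x : Y ⟶ X), lift g x ≫ a.act = x → g = 1) :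
    IsClosedImmersion (lift a.act (snd G X)).left := by
  obtain ⟨S', f, hfl, hsurj, hqc, hloc⟩ := hG
  have hdesc := Groth.Agent.Lib.Helper12.descendsAlong_isClosedImmersion.{u}
  refine Groth.Agent.Lib.Seat23.FpqcBase.of_fpqc_base @IsClosedImmersion f hqc
    (lift a.act (snd G X)) fun z => ?_
  obtain ⟨U, hzU, M, _, ⟨e⟩⟩ := hloc z
  obtain ⟨_, ⟨(N : S'.Opens), hN, rfl⟩, hzN, hNU⟩ :=
    S'.isBasis_affineOpens.exists_subset_of_mem_open hzU U.2
  refine ⟨N, hzN, ?_⟩
  have hNaff : IsAffine (N : Scheme.{u}) := hN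
  have hr : Set.range N.ι.base ⊆ Set.range U.ι.base := by
    rintro _ ⟨n, rfl⟩
    rw [Scheme.Opens.range_ι]
    exact hNU n.2
  let g₁ := IsOpenImmersion.lift U.ι N.ι hr
  have hg₁ : g₁ ≫ U.ι ≫ f = N.ι ≫ f := by
    rw [← Category.assoc, IsOpenImmersion.lift_fac]
  obtain ⟨ε, hε⟩ := (diagOver_of_grpIso e).comp g₁ (N.ι ≫ f) hg₁
  let h := N.ι ≫ f
  have hεh : IsMonHom ε.hom := hε
  have hXaff : IsAffine (Red.bc h X).left := by
    change IsAffine (pullback X.hom h)
    infer_instance
  have hloc := isClosedImmersion_graph ε (a.bc h) (free_bc h a hfree)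
  have hμ₁ : IsIso (Functor.LaxMonoidal.μ (Over.pullback h) G X).left := isIso_left _
  have hμ₂ : IsIso (Functor.LaxMonoidal.μ (Over.pullback h) X X).left := isIso_left _
  have hgr := congrArg Over.Hom.left (graph_bc h a)
  rw [Over.comp_left, Over.comp_left] at hgr
  have h1 : IsClosedImmersion ((Functor.LaxMonoidal.μ (Over.pullback h) G X).left ≫
      ((Over.pullback h).map (lift a.act (snd G X))).left) := by
    rw [← hgr]
    infer_instance
  exact (MorphismProperty.cancel_left_of_respectsIso @IsClosedImmersion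
    (Functor.LaxMonoidal.μ (Over.pullback h) G X).left _).mp h1

end Global

section Orbit

variable {S : Scheme.{u}} {G X : Over S} [GrpObj G] (a : AlgGrp.Action G X) (σ : 𝟙_ (Over S) ⟶ X)

/-- the orbit map of a section is a base change of the graph morphism. -/
lemma isPullback_orbitMap :
    IsPullback (lift (𝟙 G) (toUnit G ≫ σ)) (a.orbitMap σ) (lift a.act (snd G X))
      (lift (𝟙 X) (toUnit X ≫ σ)) := by
  have hcomm : lift (𝟙 G) (toUnit G ≫ σ) ≫ lift a.act (snd G X) =
      a.orbitMap σ ≫ lift (𝟙 X) (toUnit X ≫ σ) := by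
    have h1 := AlgGrp.Action.comp_orbitMap a (𝟙 G) σ
    rw [Category.id_comp] at h1
    apply CartesianMonoidalCategory.hom_ext
    · rw [Category.assoc, lift_fst, Category.assoc, lift_fst, Category.comp_id, h1]
    · rw [Category.assoc, lift_snd, lift_snd, Category.assoc, lift_snd, ← Category.assoc,
        toUnit_unique (a.orbitMap σ ≫ toUnit X) (toUnit G)]
  refine ⟨⟨hcomm⟩, ⟨PullbackCone.IsLimit.mk _ (fun s => s.fst ≫ fst G X) ?_ ?_ ?_⟩⟩
  · intro s
    have hc := s.condition
    have hc1 := congrArg (fun k => k ≫ fst X X) hc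
    have hc2 := congrArg (fun k => k ≫ snd X X) hc
    simp only [Category.assoc, lift_fst, lift_snd, Category.comp_id] at hc1 hc2
    apply CartesianMonoidalCategory.hom_ext
    · rw [Category.assoc, lift_fst, Category.comp_id]
    · rw [Category.assoc, lift_snd, hc2, ← Category.assoc,
        toUnit_unique ((s.fst ≫ fst G X) ≫ toUnit G) (s.snd ≫ toUnit X), Category.assoc]
  · intro s
    have hc := s.condition
    have hc1 := congrArg (fun k => k ≫ fst X X) hc
    have hc2 := congrArg (fun k => k ≫ snd X X) hc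
    simp only [Category.assoc, lift_fst, lift_snd, Category.comp_id] at hc1 hc2
    rw [AlgGrp.Action.comp_orbitMap, ← hc1]
    congr 1
    apply CartesianMonoidalCategory.hom_ext
    · rw [lift_fst]
    · rw [lift_snd, hc2, ← Category.assoc, toUnit_unique (s.snd ≫ toUnit X) (toUnit s.pt)]
  · intro s m hm₁ _
    have := congrArg (fun k => k ≫ fst G X) hm₁
    simp only [Category.assoc, lift_fst, Category.comp_id] at this
    exact this

/-- closedness of the graph gives closedness of the orbit maps. -/
lemma isClosedImmersion_orbitMap (hgr : IsClosedImmersion (lift a.act (snd G X)).left) :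
    IsClosedImmersion (a.orbitMap σ).left := by
  have sq := (isPullback_orbitMap a σ).map (Over.forget S)
  exact MorphismProperty.of_isPullback (P := @IsClosedImmersion) sq hgr

end Orbit



end Groth.Agent.Lib.Seat23.FreeAct
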