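import Mathlib

/-!
# Seat23GrReg: regular sequences on the powers of an ideal along which the ring is normally flat

* `core`: an elementary filtered-regularity argument (strictness + Krull) on ideals.
* `isWeaklyRegular_pow`: if `fs` is weakly regular on every `J^m/J^(m+1)` and `J` lies in the
  Jacobson radical of the Noetherian ring `A`, then `fs` is weakly regular on every `J^k`.
* `isWeaklyRegular_gr`: a sequence weakly regular on `A/J` is weakly regular on a flat `A/J`-module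
  `J^k/J^(k+1)`.
-/

set_option autoImplicit false
universe u

namespace Groth.Agent.Lib.Seat23.GrReg

section Core

variable {A : Type u} [CommRing A] (J : Ideal A) (k r : ℕ) (I : ℕ → Ideal A) (f : ℕ → A)

/-- strictness of `I i` with respect to the `J`-adic filtration on `J^k` -/
def SS (i : ℕ) : Prop := ∀ m, k ≤ m → I i * J ^ k ⊓ J ^ m ≤ I i * J ^ m

/-- filtered regularity of `f i` on `J^k / I i J^k` -/
def TT (i : ℕ) : Prop :=
  ∀ m, k ≤ m → ∀ x ∈ J ^ k, f i * x ∈ I i * J ^ k ⊔ J ^ m → x ∈ I i * J ^ k ⊔ J ^ m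

/-- regularity of `f i` on the graded pieces modulo `I i` -/
def HH (i : ℕ) : Prop :=
  ∀ m, k ≤ m → ∀ x ∈ J ^ m, f i * x ∈ I i * J ^ m ⊔ J ^ (m + 1) → x ∈ I i * J ^ m ⊔ J ^ (m + 1)

variable {J k r I f}

theorem TT_of_SS {i : ℕ} (hH : HH J k I f i) (hS : SS J k I i) : TT J k I f i := by
  intro m hm
  induction m, hm using Nat.le_induction with
  | base =>
    intro x hx _
    exact Ideal.mem_sup_right hx
  | succ m hm ih =>
    intro x hx hfx
    have hle0 : I i * J ^ k ⊔ J ^ (m + 1) ≤ I i * J ^ k ⊔ J ^ m :=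
      sup_le_sup_left (Ideal.pow_le_pow_right (Nat.le_succ m)) _
    have hfx' : f i * x ∈ I i * J ^ k ⊔ J ^ m := hle0 hfx
    obtain ⟨y, hy, z, hz, rfl⟩ := Submodule.mem_sup.mp (ih x hx hfx')
    have hfy : f i * y ∈ I i * J ^ k := Ideal.mul_mem_left _ _ hy
    have hfz : f i * z ∈ I i * J ^ k ⊔ J ^ (m + 1) := by
      have : f i * z = f i * (y + z) - f i * y := by ring
      rw [this]
      exact Ideal.sub_mem _ hfx (Ideal.mem_sup_left hfy)
    obtain ⟨u, hu, v, hv, huv⟩ := Submodule.mem_sup.mp hfz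
    have hum : u ∈ J ^ m := by
      have : u = f i * z - v := by rw [← huv]; ring
      rw [this]
      exact Ideal.sub_mem _ (Ideal.mul_mem_left _ _ hz)
        (Ideal.pow_le_pow_right (Nat.le_succ m) hv)
    have hu' : u ∈ I i * J ^ m := hS m hm ⟨hu, hum⟩
    have hfz' : f i * z ∈ I i * J ^ m ⊔ J ^ (m + 1) := by
      rw [← huv]
      exact Ideal.add_mem _ (Ideal.mem_sup_left hu') (Ideal.mem_sup_right hv)
    have hz' := hH m hm z hz hfz'
    have hle : I i * J ^ m ⊔ J ^ (m + 1) ≤ I i * J ^ k ⊔ J ^ (m + 1) :=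
      sup_le_sup_right (Ideal.mul_mono_right (Ideal.pow_le_pow_right hm)) _
    exact Ideal.add_mem _ (Ideal.mem_sup_left hy) (hle hz')

theorem SS_succ {i : ℕ} (hI : I (i + 1) = I i ⊔ Ideal.span {f i}) (hS : SS J k I i)
    (hT : TT J k I f i) : SS J k I (i + 1) := by
  intro m hm w hw
  obtain ⟨hw1, hw2⟩ := hw
  rw [hI, Ideal.sup_mul] at hw1 ⊢
  obtain ⟨y, hy, t, ht, rfl⟩ := Submodule.mem_sup.mp hw1
  obtain ⟨x, hx, rfl⟩ := Ideal.mem_span_singleton_mul.mp ht
  have hfx : f i * x ∈ I i * J ^ k ⊔ J ^ m := by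
    have : f i * x = (y + f i * x) - y := by ring
    rw [this]
    exact Ideal.sub_mem _ (Ideal.mem_sup_right hw2) (Ideal.mem_sup_left hy)
  obtain ⟨y', hy', z, hz, rfl⟩ := Submodule.mem_sup.mp (hT m hm x hx hfx)
  have hy'' : y + f i * y' ∈ I i * J ^ k := Ideal.add_mem _ hy (Ideal.mul_mem_left _ _ hy')
  have hy''m : y + f i * y' ∈ J ^ m := by
    have : y + f i * y' = (y + f i * (y' + z)) - f i * z := by ring
    rw [this]
    exact Ideal.sub_mem _ hw2 (Ideal.mul_mem_left _ _ hz)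
  have h1 : y + f i * y' ∈ I i * J ^ m := hS m hm ⟨hy'', hy''m⟩
  have h2 : f i * z ∈ Ideal.span {f i} * J ^ m :=
    Ideal.mul_mem_mul (Ideal.mem_span_singleton_self _) hz
  have : y + f i * (y' + z) = (y + f i * y') + f i * z := by ring
  rw [this]
  exact Ideal.add_mem _ (Ideal.mem_sup_left h1) (Ideal.mem_sup_right h2)

theorem SS_zero (hI : I 0 = ⊥) : SS J k I 0 := by
  intro m _
  rw [hI, Ideal.bot_mul]
  exact inf_le_left.trans bot_le

theorem SS_all (hI0 : I 0 = ⊥) (hI : ∀ i, i < r → I (i + 1) = I i ⊔ Ideal.span {f i})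
    (hH : ∀ i, i < r → HH J k I f i) : ∀ i, i ≤ r → SS J k I i := by
  intro i
  induction i with
  | zero => intro _; exact SS_zero hI0
  | succ i ih =>
    intro hi
    have hS := ih (Nat.le_of_succ_le hi)
    exact SS_succ (hI i hi) hS (TT_of_SS (hH i hi) hS)

/-- Core: regularity on the graded pieces plus separatedness gives regularity on `J^k`. -/
theorem core (hI0 : I 0 = ⊥) (hI : ∀ i, i < r → I (i + 1) = I i ⊔ Ideal.span {f i})
    (hH : ∀ i, i < r → HH J k I f i)
    (hsep : ∀ i, i < r → ∀ x, (∀ m, k ≤ m → x ∈ I i * J ^ k ⊔ J ^ m) → x ∈ I i * J ^ k)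
    (i : ℕ) (hi : i < r) (x : A) (hx : x ∈ J ^ k) (hfx : f i * x ∈ I i * J ^ k) :
    x ∈ I i * J ^ k := by
  have hS := SS_all hI0 hI hH i hi.le
  have hT := TT_of_SS (hH i hi) hS
  exact hsep i hi x (fun m hm => hT m hm x hx (Ideal.mem_sup_left hfx))

end Core

section Translate

variable {A : Type u} [CommRing A] (J : Ideal A)

/-- membership in `I • ⊤` inside the submodule `P` -/
theorem mem_smul_top_submodule_iff (I P : Ideal A) (y : ↥P) :
    y ∈ (I • ⊤ : Submodule A ↥P) ↔ (y : A) ∈ I * P := by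
  have h1 : (I • ⊤ : Submodule A ↥P).map P.subtype = I * P := by
    rw [Submodule.map_smul'', Submodule.map_top, Submodule.range_subtype, smul_eq_mul]
  rw [← h1]
  constructor
  · intro h
    exact ⟨y, h, rfl⟩
  · rintro ⟨z, hz, hzy⟩
    have : z = y := Subtype.ext hzy
    rwa [← this]

/-- membership in `I • ⊤` inside the graded piece `P / J P` -/
theorem mk_mem_smul_top_quot_iff (I P : Ideal A) (y : ↥P) :
    (Submodule.Quotient.mk y : ↥P ⧸ (J • ⊤ : Submodule A ↥P)) ∈
      (I • ⊤ : Submodule A (↥P ⧸ (J • ⊤ : Submodule A ↥P))) ↔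
      (y : A) ∈ I * P ⊔ J * P := by
  have h1 : (I • ⊤ : Submodule A (↥P ⧸ (J • ⊤ : Submodule A ↥P))) =
      (I • ⊤ : Submodule A ↥P).map (Submodule.mkQ (J • ⊤ : Submodule A ↥P)) := by
    rw [Submodule.map_smul'', Submodule.map_top, Submodule.range_mkQ]
  rw [h1, ← Submodule.mkQ_apply, ← Submodule.mem_comap, Submodule.comap_map_mkQ]
  constructor
  · intro h
    obtain ⟨a, ha, b, hb, rfl⟩ := Submodule.mem_sup.mp h
    have ha' : (a : A) ∈ J * P := (mem_smul_top_submodule_iff J P a).mp ha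
    have hb' : (b : A) ∈ I * P := (mem_smul_top_submodule_iff I P b).mp hb
    have hab : ((a + b : ↥P) : A) = (b : A) + (a : A) := by
      rw [Submodule.coe_add, add_comm]
    rw [hab]
    exact Submodule.add_mem_sup hb' ha'
  · intro h
    obtain ⟨a, ha, b, hb, hab⟩ := Submodule.mem_sup.mp h
    have haP : a ∈ P := Ideal.mul_le_right ha
    have hbP : b ∈ P := Ideal.mul_le_right hb
    have hb' : (⟨b, hbP⟩ : ↥P) ∈ (J • ⊤ : Submodule A ↥P) :=
      (mem_smul_top_submodule_iff J P ⟨b, hbP⟩).mpr hb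
    have ha' : (⟨a, haP⟩ : ↥P) ∈ (I • ⊤ : Submodule A ↥P) :=
      (mem_smul_top_submodule_iff I P ⟨a, haP⟩).mpr ha
    have : y = (⟨b, hbP⟩ : ↥P) + ⟨a, haP⟩ := by
      apply Subtype.ext
      rw [Submodule.coe_add, ← hab, add_comm]
    rw [this]
    exact Submodule.add_mem_sup hb' ha'

end Translate

section Main

variable {A : Type u} [CommRing A] (J : Ideal A)

theorem sep [IsNoetherianRing A] (hJ : J ≤ Ideal.jacobson ⊥) (P : Ideal A) (k : ℕ) (x : A)
    (h : ∀ m, k ≤ m → x ∈ P ⊔ J ^ m) : x ∈ P := by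
  have h0 : (⨅ i : ℕ, J ^ i • ⊤ : Submodule A (A ⧸ P)) = ⊥ :=
    Ideal.iInf_pow_smul_eq_bot_of_le_jacobson J hJ
  have h1 : (Submodule.Quotient.mk x : A ⧸ P) ∈ (⨅ i : ℕ, J ^ i • ⊤ : Submodule A (A ⧸ P)) := by
    rw [Submodule.mem_iInf]
    intro m
    have hm : x ∈ P ⊔ J ^ (max m k) := h _ (le_max_right _ _)
    obtain ⟨p, hp, j, hj, rfl⟩ := Submodule.mem_sup.mp hm
    have hj' : j ∈ J ^ m := Ideal.pow_le_pow_right (le_max_left _ _) hj
    have : (Submodule.Quotient.mk (p + j) : A ⧸ P) = j • (Submodule.Quotient.mk 1 : A ⧸ P) := by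
      rw [← Submodule.Quotient.mk_smul, smul_eq_mul, mul_one, Submodule.Quotient.mk_add,
        (Submodule.Quotient.mk_eq_zero P).mpr hp, zero_add]
    rw [this]
    exact Submodule.smul_mem_smul hj' Submodule.mem_top
  rw [h0] at h1
  exact (Submodule.Quotient.mk_eq_zero _).mp h1

open RingTheory.Sequence in
/-- If `fs` is weakly regular on every graded piece `J^m/J^(m+1)` and `J` lies in the Jacobson
radical of the Noetherian ring `A`, then `fs` is weakly regular on every power `J^k`. -/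
theorem isWeaklyRegular_pow [IsNoetherianRing A] (hJ : J ≤ Ideal.jacobson ⊥) (fs : List A)
    (hgr : ∀ m : ℕ, IsWeaklyRegular (↥(J ^ m) ⧸ (J • ⊤ : Submodule A ↥(J ^ m))) fs) (k : ℕ) :
    IsWeaklyRegular ↥(J ^ k) fs := by
  set I : ℕ → Ideal A := fun i => Ideal.ofList (fs.take i) with hIdef
  set f : ℕ → A := fun i => fs.getD i 0 with hfdef
  have hI0 : I 0 = ⊥ := by simp [hIdef]
  have hf : ∀ i (hi : i < fs.length), f i = fs[i] := fun i hi => by
    simp [hfdef, List.getElem?_eq_getElem hi]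
  have hI : ∀ i, i < fs.length → I (i + 1) = I i ⊔ Ideal.span {f i} := by
    intro i hi
    simp only [hIdef]
    rw [List.take_succ_eq_append_getElem hi, Ideal.ofList_append, Ideal.ofList_singleton, hf i hi]
  have hH : ∀ i, i < fs.length → HH J k I f i := by
    intro i hi m _ x hx hfx
    have hreg := (hgr m).regular_mod_prev i hi
    rw [pow_succ'] at hfx ⊢
    have h1 : (Submodule.Quotient.mk (Submodule.Quotient.mk (⟨x, hx⟩ : ↥(J ^ m))) :
        (↥(J ^ m) ⧸ (J • ⊤ : Submodule A ↥(J ^ m))) ⧸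
          (Ideal.ofList (fs.take i) • ⊤ : Submodule A (↥(J ^ m) ⧸ (J • ⊤ : Submodule A ↥(J ^ m))))) =
        0 := by
      apply hreg.right_eq_zero_of_smul
      rw [← Submodule.Quotient.mk_smul, ← Submodule.Quotient.mk_smul,
        Submodule.Quotient.mk_eq_zero, mk_mem_smul_top_quot_iff]
      change fs[i] * x ∈ _
      rw [← hf i hi]
      exact hfx
    rw [Submodule.Quotient.mk_eq_zero, mk_mem_smul_top_quot_iff] at h1
    exact h1
  have hsep : ∀ i, i < fs.length → ∀ x, (∀ m, k ≤ m → x ∈ I i * J ^ k ⊔ J ^ m) →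
      x ∈ I i * J ^ k := fun i _ x hx => sep J hJ _ k x hx
  constructor
  intro i hi
  apply IsSMulRegular.of_right_eq_zero_of_smul
  intro z hz
  obtain ⟨y, rfl⟩ := Submodule.Quotient.mk_surjective _ z
  rw [← Submodule.Quotient.mk_smul, Submodule.Quotient.mk_eq_zero,
    mem_smul_top_submodule_iff] at hz
  rw [Submodule.Quotient.mk_eq_zero, mem_smul_top_submodule_iff]
  have hz' : f i * (y : A) ∈ I i * J ^ k := by
    rw [hf i hi]
    exact hz
  exact core hI0 hI hH hsep i hi y y.2 hz'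

end Main

section Gr

variable {A : Type u} [CommRing A] (J : Ideal A)

open RingTheory.Sequence

theorem isWeaklyRegular_gr (fs : List A) (hreg : IsWeaklyRegular (A ⧸ J) fs) (k : ℕ)
    (hflat : Module.Flat (A ⧸ J) (↥(J ^ k) ⧸ (J • (⊤ : Submodule A ↥(J ^ k))))) :
    IsWeaklyRegular (↥(J ^ k) ⧸ (J • (⊤ : Submodule A ↥(J ^ k)))) fs := by
  have h1 : IsWeaklyRegular (A ⧸ J) (fs.map (algebraMap A (A ⧸ J))) :=
    (isWeaklyRegular_map_algebraMap_iff (A ⧸ J) (A ⧸ J) fs).mpr hreg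
  have h2 := h1.isWeaklyRegular_rTensor (M₂ := ↥(J ^ k) ⧸ (J • (⊤ : Submodule A ↥(J ^ k))))
  have h3 := (LinearEquiv.isWeaklyRegular_congr
    (TensorProduct.lid (A ⧸ J) (↥(J ^ k) ⧸ (J • (⊤ : Submodule A ↥(J ^ k))))) _).mp h2
  exact (isWeaklyRegular_map_algebraMap_iff (A ⧸ J) _ fs).mp h3

end Gr

end Groth.Agent.Lib.Seat23.GrReg
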