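import Groth.Agent.Lib.Seat23HomLocus
import Groth.Agent.Lib.Seat23DSmapProps
import Groth.Agent.Lib.Seat27FlatDescent
import Groth.Prelude.Def_SGA3x

/-!
# Seat23HomLocusInst — the loci where a homomorphism of groups of multiplicative type is a monomorphism,
an isomorphism, faithfully flat (helper23)

Namespace `Groth.Agent.Lib.Seat23.HomLocusInst`.

Instances of `HomLocus.main` for `P` = monomorphisms, isomorphisms, flat and surjective morphisms; the source
group is only assumed fpqc-locally diagonalisable (of arbitrary type), the target is of multiplicative type and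
of finite type.
-/

set_option autoImplicit false
universe u
open CategoryTheory MonoidalCategory CartesianMonoidalCategory MonObj GrpObj AlgebraicGeometry
open CategoryTheory.Limits MorphismProperty
open Groth.Agent.Lib.Seat23 Groth.Agent.Lib.Seat23.HomLocus

namespace Groth.Agent.Lib.Seat23.HomLocusInst

set_option backward.isDefEq.respectTransparency.types false in
instance monoDesc :
    (monomorphisms Scheme.{u}).DescendsAlong (@Surjective ⊓ @Flat ⊓ @QuasiCompact) := by
  rw [← diagonal_isomorphisms]
  have : (@Surjective ⊓ @Flat ⊓ @QuasiCompact :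
      MorphismProperty Scheme.{u}).IsStableUnderBaseChange := inferInstance
  infer_instance

/-- flat and surjective morphisms. -/
def FS : MorphismProperty Scheme.{u} := @Flat ⊓ @Surjective

set_option backward.isDefEq.respectTransparency.types false in
instance : IsZariskiLocalAtTarget FS.{u} := by unfold FS; infer_instance
set_option backward.isDefEq.respectTransparency.types false in
instance : (FS.{u}).IsStableUnderBaseChange := by unfold FS; infer_instance
set_option backward.isDefEq.respectTransparency.types false in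
instance : (FS.{u}).DescendsAlong (@Surjective ⊓ @Flat ⊓ @QuasiCompact) := by
  unfold FS
  have := Groth.Agent.Lib.Seat27.FlatDescent.flat_descendsAlong_fpqc.{u}
  infer_instance

lemma invariant_mono : DSmapInvariant (monomorphisms Scheme.{u}) := by
  intro M N _ _ φ X₀ T' _ _ h
  exact DSmapProps.mono_left_of_surjective T' φ (DSmapProps.surjective_of_mono_left (T := X₀) φ h)

lemma invariant_iso : DSmapInvariant (isomorphisms Scheme.{u}) := by
  intro M N _ _ φ X₀ T' _ _ h
  exact DSmapProps.isIso_left_of_bijective T' φ (DSmapProps.bijective_of_isIso_left (T := X₀) φ h)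

lemma invariant_fs : DSmapInvariant FS.{u} := by
  intro M N _ _ φ X₀ T' _ _ h
  exact DSmapProps.flat_surjective_left_of_injective T' φ
    (DSmapProps.injective_of_flat_surjective_left (T := X₀) φ h.1 h.2)

variable {S : Scheme.{u}} (G H : Over S) [GrpObj G] [GrpObj H]

/-- the hypothesis on the source, from `IsMultTypeFT`. -/
lemma locally_of_isMultTypeFT (hG : SGA3x.IsMultTypeFT G) :
    TwC.Locally S TwC.Topology.fpqc (fun S' g => ∃ (M : Type) (_ : AddCommGroup M),
      Nonempty (Grp.mk (Red.bc g G) ≅ Grp.mk (Red.DS S' M))) := by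
  have hG' : TwC.Locally S TwC.Topology.fpqc (fun S' g => ∃ (N : Type) (_ : AddCommGroup N),
      AddGroup.FG N ∧ Nonempty (Grp.mk (Red.bc g G) ≅ Grp.mk (Red.DS S' N))) := hG
  exact locally_fpqc_mono (fun S' g ⟨M, i, _, h⟩ => ⟨M, i, h⟩) hG'

theorem mono_locus
    (hG : TwC.Locally S TwC.Topology.fpqc (fun S' g => ∃ (M : Type) (_ : AddCommGroup M),
      Nonempty (Grp.mk (Red.bc g G) ≅ Grp.mk (Red.DS S' M))))
    (hH : SGA3x.IsMultTypeFT H) (u : G ⟶ H) [IsMonHom u] :
    ∃ U : S.Opens, IsClosed (U : Set S) ∧
      (∀ s : S, s ∈ U ↔ Mono ((Over.pullback (S.fromSpecResidueField s)).map u).left) ∧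
      Mono ((Over.pullback U.ι).map u).left :=
  main invariant_mono G H hG hH u

theorem iso_locus
    (hG : TwC.Locally S TwC.Topology.fpqc (fun S' g => ∃ (M : Type) (_ : AddCommGroup M),
      Nonempty (Grp.mk (Red.bc g G) ≅ Grp.mk (Red.DS S' M))))
    (hH : SGA3x.IsMultTypeFT H) (u : G ⟶ H) [IsMonHom u] :
    ∃ U : S.Opens, IsClosed (U : Set S) ∧
      (∀ s : S, s ∈ U ↔ IsIso ((Over.pullback (S.fromSpecResidueField s)).map u).left) ∧
      IsIso ((Over.pullback U.ι).map u).left :=
  main invariant_iso G H hG hH u

theorem fs_locus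
    (hG : TwC.Locally S TwC.Topology.fpqc (fun S' g => ∃ (M : Type) (_ : AddCommGroup M),
      Nonempty (Grp.mk (Red.bc g G) ≅ Grp.mk (Red.DS S' M))))
    (hH : SGA3x.IsMultTypeFT H) (u : G ⟶ H) [IsMonHom u] :
    ∃ U : S.Opens, IsClosed (U : Set S) ∧
      (∀ s : S, s ∈ U ↔ (Flat ((Over.pullback (S.fromSpecResidueField s)).map u).left ∧
        Surjective ((Over.pullback (S.fromSpecResidueField s)).map u).left)) ∧
      (Flat ((Over.pullback U.ι).map u).left ∧ Surjective ((Over.pullback U.ι).map u).left) :=
  main invariant_fs G H hG hH u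

end Groth.Agent.Lib.Seat23.HomLocusInst
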