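import Groth.Agent.Lib.Seat23LiftSmooth

/-!
# Seat23IntData: the averaging argument in axiomatic form

`IntData R T₁ T₂ T₃` bundles the part of the cosimplicial structure of a commutative bialgebra with
invariant integral (`T₁ = A`, `T₂ = A ⊗ A`, `T₃ = A ⊗ A ⊗ A`) used by the averaging argument:
algebra maps `cΔ, i1, i2 : T₁ → T₂`, `jj, DD, θa, θb : T₂ → T₃`, the integrations
`lam₁ : T₂ → T₁`, `lam₂ : T₃ → T₂`, and the identities between them.  The structure is stable under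
base change `S ⊗[R] -` (`IntData.baseChange`), which lets one work with targets `(R ⧸ J) ⊗ A`
without changing the base ring of the source Hopf algebra.

* `IntData.ofBialgebra`: the data of a bialgebra with integral;
* `IntData.improve`, `IntData.exists_comul`: the averaging argument and its iteration
  (for targets killed by a power of `K`).
-/

set_option autoImplicit false

namespace Groth.Agent.Lib.Seat23

open TensorProduct WithConv Groth.Agent.Lib.Seat23.ConvInt Groth.Agent.Lib.Seat23.LiftHom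
  Groth.Agent.Lib.Seat23.LiftSmooth

/-- The cosimplicial fragment with integration used by the averaging argument. -/
structure IntData (R : Type*) [CommRing R] (T₁ T₂ T₃ : Type*) [CommRing T₁] [CommRing T₂]
    [CommRing T₃] [Algebra R T₁] [Algebra R T₂] [Algebra R T₃] where
  cΔ : T₁ →ₐ[R] T₂
  i1 : T₁ →ₐ[R] T₂
  i2 : T₁ →ₐ[R] T₂
  jj : T₂ →ₐ[R] T₃
  DD : T₂ →ₐ[R] T₃
  θa : T₂ →ₐ[R] T₃
  θb : T₂ →ₐ[R] T₃
  lam₁ : T₂ →ₗ[R] T₁
  lam₂ : T₃ →ₗ[R] T₂
  retr₁ : IsRetr i1 lam₁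
  retr₂ : IsRetr jj lam₂
  DD_comp_cΔ : DD.comp cΔ = θa.comp cΔ
  θb_comp_cΔ : θb.comp cΔ = θa.comp i2
  DD_comp_i2 : DD.comp i2 = θb.comp i2
  θa_comp_i1 : θa.comp i1 = jj.comp i1
  θb_comp_i1 : θb.comp i1 = jj.comp i2
  lam_comp_DD : lam₂ ∘ₗ DD.toLinearMap = cΔ.toLinearMap ∘ₗ lam₁
  lam_comp_θb : lam₂ ∘ₗ θb.toLinearMap = i2.toLinearMap ∘ₗ lam₁
  lam_comp_θa : lam₂ ∘ₗ θa.toLinearMap = i1.toLinearMap ∘ₗ lam₁

namespace IntData

section OfBialgebra

variable {R : Type*} [CommRing R] {A : Type*} [CommRing A] [Bialgebra R A]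

/-- The data of a commutative bialgebra with an invariant integral. -/
noncomputable def ofBialgebra (l : A →ₗ[R] R) (hl1 : l 1 = 1)
    (hinv : ∀ a : A, TensorProduct.rid R A
      (LinearMap.lTensor A l (CoalgebraStruct.comul (R := R) a)) = l a • (1 : A)) :
    IntData R A (A ⊗[R] A) ((A ⊗[R] A) ⊗[R] A) where
  cΔ := LiftHom.cΔ R A
  i1 := LiftHom.i1 R A
  i2 := LiftHom.i2 R A
  jj := LiftHom.jj R A
  DD := LiftHom.DD R A
  θa := LiftHom.θa R A
  θb := LiftHom.θb R A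
  lam₁ := lam l A
  lam₂ := lam l (A ⊗[R] A)
  retr₁ := isRetr_lam l A hl1
  retr₂ := isRetr_lam l (A ⊗[R] A) hl1
  DD_comp_cΔ := LiftHom.DD_comp_cΔ R A
  θb_comp_cΔ := LiftHom.θb_comp_cΔ R A
  DD_comp_i2 := LiftHom.DD_comp_i2 R A
  θa_comp_i1 := LiftHom.θa_comp_i1 R A
  θb_comp_i1 := LiftHom.θb_comp_i1 R A
  lam_comp_DD := LiftHom.lam_comp_DD l
  lam_comp_θb := LiftHom.lam_comp_θb l
  lam_comp_θa := LiftHom.lam_comp_θa l hinv

end OfBialgebra

section Improve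

variable {R : Type*} [CommRing R] {T₁ T₂ T₃ : Type*} [CommRing T₁] [CommRing T₂] [CommRing T₃]
  [Algebra R T₁] [Algebra R T₂] [Algebra R T₃] (𝒟 : IntData R T₁ T₂ T₃)
  {C : Type*} [CommRing C] [HopfAlgebra R C]

/-- comultiplicativity defect in convolution form. -/
noncomputable def defect (x : WithConv (C →ₗ[R] T₁)) : WithConv (C →ₗ[R] T₂) :=
  push 𝒟.cΔ.toLinearMap x - push 𝒟.i1.toLinearMap x * push 𝒟.i2.toLinearMap x

variable (g : C →ₐ[R] T₁)

/-- `w(h, h') = g(h h') g(h')⁻¹`. -/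
noncomputable def ww : WithConv (C →ₗ[R] T₂) :=
  push 𝒟.cΔ.toLinearMap (gh g) * push 𝒟.i2.toLinearMap (gi g)

/-- The averaged map. -/
noncomputable def avg : WithConv (C →ₗ[R] T₁) := push 𝒟.lam₁ (𝒟.ww g)

/-- `w` as an algebra map. -/
noncomputable def wAlg : C →ₐ[R] T₂ :=
  ((toConv (𝒟.cΔ.comp g) : WithConv (C →ₐ[R] T₂)) *
    toConv (𝒟.i2.comp (g.comp (HopfAlgebra.antipodeAlgHom R C)))).ofConv

theorem wAlg_apply (c : C) : 𝒟.wAlg g c = 𝒟.ww g c := rfl

variable {g} {K : Ideal R}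

theorem ww_isIn (hg : IsIn K (𝒟.defect (gh g))) :
    IsIn K (𝒟.ww g - push 𝒟.i1.toLinearMap (gh g)) := by
  have h2 : push 𝒟.i2.toLinearMap (gh g) * push 𝒟.i2.toLinearMap (gi g) = 1 := by
    rw [push_gh, push_gi, gh_mul_gi]
  have : 𝒟.ww g - push 𝒟.i1.toLinearMap (gh g) =
      (𝒟.defect (gh g)) * push 𝒟.i2.toLinearMap (gi g) := by
    unfold defect
    rw [sub_mul, mul_assoc, h2, mul_one]
    rfl
  rw [this]
  exact hg.mul_right _

theorem avg_sub_isIn (hg : IsIn K (𝒟.defect (gh g))) : IsIn K (𝒟.avg g - gh g) := by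
  have : 𝒟.avg g - gh g = push 𝒟.lam₁ (𝒟.ww g - push 𝒟.i1.toLinearMap (gh g)) := by
    rw [push_sub]
    congr 1
    exact (push_lam_j 𝒟.retr₁ (gh g)).symm
  rw [this]
  exact (𝒟.ww_isIn hg).push _

theorem push_DD_ww :
    push 𝒟.DD.toLinearMap (𝒟.ww g) =
      push 𝒟.θa.toLinearMap (𝒟.ww g) * push 𝒟.θb.toLinearMap (𝒟.ww g) := by
  have hq : gi (𝒟.θa.comp (𝒟.i2.comp g)) * gh (𝒟.θb.comp (𝒟.cΔ.comp g)) = 1 := by
    rw [← AlgHom.comp_assoc, ← AlgHom.comp_assoc, 𝒟.θb_comp_cΔ, gi_mul_gh]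
  unfold ww
  rw [push_mul, push_mul, push_mul]
  simp only [push_gh, push_gi]
  rw [← AlgHom.comp_assoc 𝒟.DD, 𝒟.DD_comp_cΔ, ← AlgHom.comp_assoc 𝒟.DD, 𝒟.DD_comp_i2]
  rw [mul_assoc (gh _), ← mul_assoc (gi _), hq, one_mul]
  rfl

theorem avg_defect_isIn (hg : IsIn K (𝒟.defect (gh g))) :
    IsIn (K * K) (𝒟.defect (𝒟.avg g)) := by
  have hw := 𝒟.ww_isIn hg
  have hθa : IsIn K (push 𝒟.θa.toLinearMap (𝒟.ww g) -
      push 𝒟.jj.toLinearMap (push 𝒟.i1.toLinearMap (gh g))) := by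
    have : push 𝒟.θa.toLinearMap (𝒟.ww g) -
        push 𝒟.jj.toLinearMap (push 𝒟.i1.toLinearMap (gh g)) =
        push 𝒟.θa.toLinearMap (𝒟.ww g - push 𝒟.i1.toLinearMap (gh g)) := by
      rw [push_sub]
      congr 1
      simp only [push_gh]
      rw [← AlgHom.comp_assoc, ← AlgHom.comp_assoc, 𝒟.θa_comp_i1]
    rw [this]
    exact hw.push _
  have hθb : IsIn K (push 𝒟.θb.toLinearMap (𝒟.ww g) -
      push 𝒟.jj.toLinearMap (push 𝒟.i2.toLinearMap (gh g))) := by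
    have : push 𝒟.θb.toLinearMap (𝒟.ww g) -
        push 𝒟.jj.toLinearMap (push 𝒟.i2.toLinearMap (gh g)) =
        push 𝒟.θb.toLinearMap (𝒟.ww g - push 𝒟.i1.toLinearMap (gh g)) := by
      rw [push_sub]
      congr 1
      simp only [push_gh]
      rw [← AlgHom.comp_assoc, ← AlgHom.comp_assoc, 𝒟.θb_comp_i1]
    rw [this]
    exact hw.push _
  have hmain := int_mul 𝒟.retr₂ K hθa hθb
  have e1 : push 𝒟.lam₂
      (push 𝒟.θa.toLinearMap (𝒟.ww g) * push 𝒟.θb.toLinearMap (𝒟.ww g)) =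
      push 𝒟.cΔ.toLinearMap (𝒟.avg g) := by
    rw [← push_DD_ww, push_push, 𝒟.lam_comp_DD]
    rfl
  have e2 : push 𝒟.lam₂ (push 𝒟.θa.toLinearMap (𝒟.ww g)) =
      push 𝒟.i1.toLinearMap (𝒟.avg g) := by
    rw [push_push, 𝒟.lam_comp_θa]
    rfl
  have e3 : push 𝒟.lam₂ (push 𝒟.θb.toLinearMap (𝒟.ww g)) =
      push 𝒟.i2.toLinearMap (𝒟.avg g) := by
    rw [push_push, 𝒟.lam_comp_θb]
    rfl
  rw [e1, e2, e3] at hmain
  exact hmain

/-- The improvement step, axiomatic form. -/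
theorem improve (hg : IsIn K (𝒟.defect (gh g))) :
    ∃ φ : C →ₗ[R] T₁, φ 1 = 1 ∧
      (∀ c d : C, φ (c * d) - φ c * φ d ∈ (K * K) • (⊤ : Submodule R T₁)) ∧
      IsIn K (toConv φ - gh g) ∧ IsIn (K * K) (𝒟.defect (toConv φ)) := by
  refine ⟨(𝒟.avg g).ofConv, ?_, ?_, ?_, ?_⟩
  · change 𝒟.lam₁ (𝒟.wAlg g 1) = 1
    rw [map_one, 𝒟.retr₁.map_one]
  · intro c d
    have hW : ∀ c, 𝒟.wAlg g c - 𝒟.i1 (g c) ∈ K • (⊤ : Submodule R T₂) :=
      fun c => 𝒟.ww_isIn hg c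
    exact int_algHom_mul 𝒟.retr₁ K (𝒟.wAlg g) g hW c d
  · exact 𝒟.avg_sub_isIn hg
  · exact 𝒟.avg_defect_isIn hg

end Improve

section Iterate

variable {R : Type*} [CommRing R] {T₁ T₂ T₃ : Type*} [CommRing T₁] [CommRing T₂] [CommRing T₃]
  [Algebra R T₁] [Algebra R T₂] [Algebra R T₃] (𝒟 : IntData R T₁ T₂ T₃)
  {C : Type*} [CommRing C] [HopfAlgebra R C]

theorem defect_sub_isIn {J : Ideal R} {x y : WithConv (C →ₗ[R] T₁)} (h : IsIn J (x - y)) :
    IsIn J (𝒟.defect x - 𝒟.defect y) := by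
  set δ := x - y with hδ
  have ex : x = y + δ := by rw [hδ]; abel
  have e : 𝒟.defect x - 𝒟.defect y = push 𝒟.cΔ.toLinearMap δ -
      (push 𝒟.i1.toLinearMap δ * push 𝒟.i2.toLinearMap x +
        push 𝒟.i1.toLinearMap y * push 𝒟.i2.toLinearMap δ) := by
    unfold defect
    rw [ex]
    simp only [push_add, mul_add, add_mul]
    abel
  rw [e]
  exact (h.push _).sub (((h.push _).mul_right _).add ((h.push _).mul_left _))

/-- Formal smoothness corrects a map which is multiplicative modulo `J` into an algebra map, for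
targets killed by a power of `J`. -/
theorem exists_algHom_of_mul_mod' [Algebra.FormallySmooth R C] {T : Type*} [CommRing T]
    [Algebra R T] (J : Ideal R) (n : ℕ)
    (hJ : J ^ n • (⊤ : Submodule R T) = ⊥) (φ : C →ₗ[R] T)
    (h1 : φ 1 = 1) (hmul : ∀ c d : C, φ (c * d) - φ c * φ d ∈ J • (⊤ : Submodule R T)) :
    ∃ g : C →ₐ[R] T, ∀ c, g c - φ c ∈ J • (⊤ : Submodule R T) := by
  set 𝔞 : Ideal T := Ideal.map (algebraMap R T) J with h𝔞
  have hnil : IsNilpotent 𝔞 := by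
    refine ⟨n, ?_⟩
    rw [h𝔞, ← Ideal.map_pow]
    have h2 : (Ideal.map (algebraMap R T) (J ^ n)).restrictScalars R = ⊥ := by
      rw [← Ideal.smul_top_eq_map, hJ]
    apply le_bot_iff.mp
    intro x hx
    have : x ∈ (Ideal.map (algebraMap R T) (J ^ n)).restrictScalars R := hx
    rw [h2] at this
    exact this
  let φbar : C →ₐ[R] T ⧸ 𝔞 :=
    AlgHom.ofLinearMap ((Ideal.Quotient.mkₐ R 𝔞).toLinearMap ∘ₗ φ)
      (by simp [h1])
      (by
        intro x y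
        simp only [LinearMap.comp_apply, AlgHom.toLinearMap_apply, Ideal.Quotient.mkₐ_eq_mk]
        rw [← map_mul]
        exact Ideal.Quotient.eq.mpr ((mem_smul_top_iff_mem_map J _).mp (hmul x y)))
  obtain ⟨g, hg⟩ := Algebra.FormallySmooth.exists_lift 𝔞 hnil φbar
  refine ⟨g, fun c => ?_⟩
  rw [mem_smul_top_iff_mem_map]
  have h2 := AlgHom.congr_fun hg c
  exact Ideal.Quotient.eq.mp h2

theorem pow_smul_top_mono {N : Type*} [AddCommGroup N] [Module R N] (K : Ideal R) {m n : ℕ}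
    (h : n ≤ m) (hK : K ^ n • (⊤ : Submodule R N) = ⊥) : K ^ m • (⊤ : Submodule R N) = ⊥ := by
  apply le_bot_iff.mp
  rw [← hK]
  exact smul_top_mono (Ideal.pow_le_pow_right h)

theorem mul_pow_smul_top_eq_bot {N : Type*} [AddCommGroup N] [Module R N] (K : Ideal R) {n : ℕ}
    (h : K ^ n • (⊤ : Submodule R N) = ⊥) : (K * K) ^ n • (⊤ : Submodule R N) = ⊥ := by
  apply le_bot_iff.mp
  rw [← h, mul_pow]
  exact smul_top_mono Ideal.mul_le_right

theorem mul_pow_half_smul_top_eq_bot {N : Type*} [AddCommGroup N] [Module R N] (K : Ideal R)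
    {n : ℕ} (h : K ^ n • (⊤ : Submodule R N) = ⊥) :
    (K * K) ^ ((n + 1) / 2) • (⊤ : Submodule R N) = ⊥ := by
  apply le_bot_iff.mp
  rw [← h, ← pow_two, ← pow_mul]
  exact smul_top_mono (Ideal.pow_le_pow_right (by omega))

variable [Algebra.FormallySmooth R C]

theorem exists_comul_aux : ∀ (n : ℕ) (K : Ideal R), K ^ n • (⊤ : Submodule R T₁) = ⊥ →
    K ^ n • (⊤ : Submodule R T₂) = ⊥ → ∀ g : C →ₐ[R] T₁, IsIn K (𝒟.defect (gh g)) →
    ∃ x : C →ₐ[R] T₁, IsIn K (gh x - gh g) ∧ 𝒟.defect (gh x) = 0 := by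
  intro n
  induction n using Nat.strong_induction_on with
  | _ n ih =>
    intro K hK₁ hK₂ g hg
    by_cases hn : n ≤ 1
    · have hK2 : K • (⊤ : Submodule R T₂) = ⊥ := by
        have := pow_smul_top_mono K hn hK₂
        rwa [pow_one] at this
      refine ⟨g, ?_, ?_⟩
      · rw [sub_self]; exact IsIn.zero _
      · apply WithConv.ext
        ext c
        have := hg c
        rw [hK2, Submodule.mem_bot] at this
        exact this
    · push Not at hn
      obtain ⟨φ, h1, hmul, hφg, hφΔ⟩ := 𝒟.improve hg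
      obtain ⟨g₂, hg₂⟩ :=
        exists_algHom_of_mul_mod' (K * K) n (mul_pow_smul_top_eq_bot K hK₁) φ h1 hmul
      have hg₂' : IsIn (K * K) (gh g₂ - toConv φ) := fun c => hg₂ c
      have hdef : IsIn (K * K) (𝒟.defect (gh g₂)) := by
        have := (𝒟.defect_sub_isIn hg₂').add hφΔ
        rwa [sub_add_cancel] at this
      have hm : (n + 1) / 2 < n := by omega
      obtain ⟨x, hx, hx0⟩ := ih _ hm (K * K) (mul_pow_half_smul_top_eq_bot K hK₁)
        (mul_pow_half_smul_top_eq_bot K hK₂) g₂ hdef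
      refine ⟨x, ?_, hx0⟩
      have e : gh x - gh g = (gh x - gh g₂) + (gh g₂ - toConv φ) + (toConv φ - gh g) := by abel
      rw [e]
      exact ((hx.mono Ideal.mul_le_right).add (hg₂'.mono Ideal.mul_le_right)).add hφg

/-- Iterated averaging: for targets killed by `K ^ n`, an algebra map comultiplicative modulo `K`
is congruent modulo `K` to a comultiplicative algebra map. -/
theorem exists_comul (n : ℕ) (K : Ideal R) (hK₁ : K ^ n • (⊤ : Submodule R T₁) = ⊥)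
    (hK₂ : K ^ n • (⊤ : Submodule R T₂) = ⊥) (g : C →ₐ[R] T₁)
    (hg : IsIn K (𝒟.defect (gh g))) :
    ∃ x : C →ₐ[R] T₁, IsIn K (gh x - gh g) ∧ 𝒟.defect (gh x) = 0 :=
  𝒟.exists_comul_aux n K hK₁ hK₂ g hg

end Iterate

section BaseChange

variable {R : Type*} [CommRing R] {T₁ T₂ T₃ : Type*} [CommRing T₁] [CommRing T₂] [CommRing T₃]
  [Algebra R T₁] [Algebra R T₂] [Algebra R T₃]
  (S : Type*) [CommRing S] [Algebra R S]

/-- base change of an algebra map, `S ⊗ -`. -/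
noncomputable abbrev bcAlg {T T' : Type*} [CommRing T] [CommRing T'] [Algebra R T] [Algebra R T']
    (u : T →ₐ[R] T') : S ⊗[R] T →ₐ[R] S ⊗[R] T' :=
  Algebra.TensorProduct.map (AlgHom.id R S) u

theorem bcAlg_comp {T T' T'' : Type*} [CommRing T] [CommRing T'] [CommRing T''] [Algebra R T]
    [Algebra R T'] [Algebra R T''] (u : T' →ₐ[R] T'') (v : T →ₐ[R] T') :
    (bcAlg S u).comp (bcAlg S v) = bcAlg S (u.comp v) := by
  apply Algebra.TensorProduct.ext'
  intro s t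
  simp [bcAlg]

theorem bcAlg_toLinearMap {T T' : Type*} [CommRing T] [CommRing T'] [Algebra R T] [Algebra R T']
    (u : T →ₐ[R] T') : (bcAlg S u).toLinearMap = LinearMap.lTensor S u.toLinearMap := by
  apply TensorProduct.ext'
  intro s t
  simp [bcAlg]

theorem isRetr_bc {T P : Type*} [CommRing T] [CommRing P] [Algebra R T] [Algebra R P]
    {j : T →ₐ[R] P} {lam : P →ₗ[R] T} (h : IsRetr j lam) :
    IsRetr (bcAlg S j) (LinearMap.lTensor S lam) := by
  constructor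
  · rw [Algebra.TensorProduct.one_def, LinearMap.lTensor_tmul, h.map_one, Algebra.TensorProduct.one_def]
  · intro t y
    induction t using TensorProduct.induction_on with
    | zero => simp
    | tmul s t =>
      induction y using TensorProduct.induction_on with
      | zero => simp
      | tmul s' y =>
        simp [bcAlg, h.map_mul]
      | add y y' hy hy' => rw [mul_add, map_add, hy, hy', map_add, mul_add]
    | add t t' ht ht' => rw [map_add, add_mul, map_add, ht, ht', add_mul]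

/-- Base change of the averaging data. -/
noncomputable def baseChange (𝒟 : IntData R T₁ T₂ T₃) :
    IntData R (S ⊗[R] T₁) (S ⊗[R] T₂) (S ⊗[R] T₃) where
  cΔ := bcAlg S 𝒟.cΔ
  i1 := bcAlg S 𝒟.i1
  i2 := bcAlg S 𝒟.i2
  jj := bcAlg S 𝒟.jj
  DD := bcAlg S 𝒟.DD
  θa := bcAlg S 𝒟.θa
  θb := bcAlg S 𝒟.θb
  lam₁ := LinearMap.lTensor S 𝒟.lam₁
  lam₂ := LinearMap.lTensor S 𝒟.lam₂
  retr₁ := isRetr_bc S 𝒟.retr₁
  retr₂ := isRetr_bc S 𝒟.retr₂
  DD_comp_cΔ := by rw [bcAlg_comp, bcAlg_comp, 𝒟.DD_comp_cΔ]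
  θb_comp_cΔ := by rw [bcAlg_comp, bcAlg_comp, 𝒟.θb_comp_cΔ]
  DD_comp_i2 := by rw [bcAlg_comp, bcAlg_comp, 𝒟.DD_comp_i2]
  θa_comp_i1 := by rw [bcAlg_comp, bcAlg_comp, 𝒟.θa_comp_i1]
  θb_comp_i1 := by rw [bcAlg_comp, bcAlg_comp, 𝒟.θb_comp_i1]
  lam_comp_DD := by
    rw [bcAlg_toLinearMap, bcAlg_toLinearMap, ← LinearMap.lTensor_comp, ← LinearMap.lTensor_comp,
      𝒟.lam_comp_DD]
  lam_comp_θb := by
    rw [bcAlg_toLinearMap, bcAlg_toLinearMap, ← LinearMap.lTensor_comp, ← LinearMap.lTensor_comp,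
      𝒟.lam_comp_θb]
  lam_comp_θa := by
    rw [bcAlg_toLinearMap, bcAlg_toLinearMap, ← LinearMap.lTensor_comp, ← LinearMap.lTensor_comp,
      𝒟.lam_comp_θa]

end BaseChange

end IntData

end Groth.Agent.Lib.Seat23
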