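import Groth.Agent.Lib.Seat23DiagNil
import Groth.Agent.Lib.Seat23EtaleLift

/-!
# Seat23IsotrivNil — isotriviality and quasi-isotriviality of groups of multiplicative type modulo nil ideals

Hopf-algebra form (`SGA3b`).

* `isMultTypeConst_of_equiv`, `isMultType_baseChange` : `IsMultType R A → IsMultType R' (R' ⊗[R] A)`.
* `isDiag_of_surjective_nil` : `isDiag_of_isDiag_mod_nil` for any surjection `R → Rb` with nil kernel.
* `exists_etale_isDiag` : `A` of multiplicative type over `R`, split by an étale `Rb`-algebra `S₀` (`R → Rb` surjective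
  with nil kernel) ⇒ split by an étale `R`-algebra lifting `S₀` (finite / faithfully flat if `S₀` is).
* `awayMap_mk_surjective`, `isNil_ker_awayMap_mk` : `R_f → (R/I)_f` is surjective with nil kernel for `I` nil.
* `isIsotrivial_of_mod_nil`, `isQuasiIsotrivial_of_mod_nil` (SGA3 X 2.1-type statements, = S2971).
-/

set_option autoImplicit false
set_option linter.style.haveILetI false
universe u

namespace Groth.Agent.Lib.Seat23.IsotrivNil

open TensorProduct Groth.Agent.Lib.Helper25 Groth.Agent.Lib.Seat23.BialgDescent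
  Groth.Agent.Lib.Seat23.DiagNil Groth.Agent.Lib.Seat23.EtaleLift SGA3b

section Equiv

variable {S : Type u} [CommRing S] {H H' : Type u} [CommRing H] [HopfAlgebra S H]
  [CommRing H'] [HopfAlgebra S H']

theorem isMultTypeConst_of_equiv (e : H ≃ₐc[S] H') (h : IsMultTypeConst S H') :
    IsMultTypeConst S H := by
  obtain ⟨R', _, _, hff, hD⟩ := h
  exact ⟨R', inferInstance, inferInstance, hff, BCB.isDiag_of_equiv (BCB.bcEquiv R' e) hD⟩

end Equiv

section BaseChange

variable (R : Type u) [CommRing R] (A : Type u) [CommRing A] [HopfAlgebra R A]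
  (R' : Type u) [CommRing R'] [Algebra R R']

/-- Multiplicative type (Zariski-locally constant type) is stable under base change. -/
theorem isMultType_baseChange (h : IsMultType R A) : IsMultType R' (R' ⊗[R] A) := by
  obtain ⟨s, hs, hmt⟩ := h
  refine ⟨algebraMap R R' '' s, ?_, ?_⟩
  · rw [← Ideal.map_span, hs, Ideal.map_top]
  · rintro _ ⟨f, hf, rfl⟩
    letI : Algebra (Localization.Away f) (Localization.Away (algebraMap R R' f)) :=
      (Localization.awayMap (algebraMap R R') f).toAlgebra
    haveI : IsScalarTower R (Localization.Away f) (Localization.Away (algebraMap R R' f)) := by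
      apply IsScalarTower.of_algebraMap_eq
      intro r
      change _ = Localization.awayMap (algebraMap R R') f (algebraMap R (Localization.Away f) r)
      unfold Localization.awayMap IsLocalization.Away.map
      rw [IsLocalization.map_eq]
      exact IsScalarTower.algebraMap_apply R R' _ r
    have h1 : IsMultTypeConst (Localization.Away (algebraMap R R' f))
        (Localization.Away (algebraMap R R' f) ⊗[Localization.Away f]
          (Localization.Away f ⊗[R] A)) :=
      isMultTypeConst_baseChange (Localization.Away f) (Localization.Away f ⊗[R] A)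
        (Localization.Away (algebraMap R R' f)) (hmt f hf)
    exact isMultTypeConst_of_equiv
      ((BCB.cancelBC R R' (Localization.Away (algebraMap R R' f)) A).trans
        (BCB.cancelBC R (Localization.Away f) (Localization.Away (algebraMap R R' f)) A).symm) h1

end BaseChange

section Surj

variable (R : Type u) [CommRing R] (A : Type u) [CommRing A] [HopfAlgebra R A]
  (Rb : Type u) [CommRing Rb] [Algebra R Rb]

/-- `isDiag_of_isDiag_mod_nil` for an arbitrary surjection with nil kernel. -/
theorem isDiag_of_surjective_nil (hsurj : Function.Surjective (algebraMap R Rb))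
    (hnil : ∀ x ∈ RingHom.ker (algebraMap R Rb), IsNilpotent x)
    (h : IsMultType R A) (h0 : IsDiag Rb (Rb ⊗[R] A)) : IsDiag R A := by
  have hsurj' : Function.Surjective (Algebra.ofId R Rb) := hsurj
  apply isDiag_of_isDiag_mod_nil R A (RingHom.ker (Algebra.ofId R Rb)) hnil h
  let e : (R ⧸ RingHom.ker (Algebra.ofId R Rb)) ≃ₐ[R] Rb :=
    Ideal.quotientKerAlgEquivOfSurjective hsurj'
  letI : Algebra Rb (R ⧸ RingHom.ker (Algebra.ofId R Rb)) := e.symm.toAlgHom.toRingHom.toAlgebra
  haveI : IsScalarTower R Rb (R ⧸ RingHom.ker (Algebra.ofId R Rb)) :=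
    IsScalarTower.of_algebraMap_eq (fun r => (e.symm.commutes r).symm)
  exact BCB.isDiag_baseChange_of_tower R A Rb (R ⧸ RingHom.ker (Algebra.ofId R Rb)) h0

variable (S₀ : Type u) [CommRing S₀] [Algebra Rb S₀] [Algebra R S₀] [IsScalarTower R Rb S₀]

/-- The key step: a group of multiplicative type over `R` which is split by an étale `Rb`-algebra `S₀`,
`R → Rb` a surjection with nil kernel, is split by an étale `R`-algebra lifting `S₀`. -/
theorem exists_etale_isDiag (h : IsMultType R A)
    (hsurj : Function.Surjective (algebraMap R Rb))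
    (hnil : ∀ x ∈ RingHom.ker (algebraMap R Rb), IsNilpotent x)
    [Algebra.Etale Rb S₀] (h0 : IsDiag S₀ (S₀ ⊗[Rb] (Rb ⊗[R] A))) :
    ∃ (S : Type u) (_ : CommRing S) (_ : Algebra R S), Algebra.Etale R S ∧ IsDiag S (S ⊗[R] A) ∧
      (Module.Finite Rb S₀ → Module.Finite R S) ∧
      (Module.FaithfullyFlat Rb S₀ → Module.FaithfullyFlat R S) := by
  obtain ⟨S, _, _, π, het, hπs, hπn, hfin, hff⟩ := exists_etale_lift hsurj S₀ hnil
  refine ⟨S, inferInstance, inferInstance, het, ?_, hfin, hff⟩
  letI : Algebra S S₀ := π.toRingHom.toAlgebra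
  haveI : IsScalarTower R S S₀ := IsScalarTower.of_algebraMap_eq (fun r => (π.commutes r).symm)
  apply isDiag_of_surjective_nil S (S ⊗[R] A) S₀ hπs hπn (isMultType_baseChange R A S h)
  have h1 : IsDiag S₀ (S₀ ⊗[R] A) := BCB.isDiag_of_equiv (BCB.cancelBC R Rb S₀ A).symm h0
  exact BCB.isDiag_of_equiv (BCB.cancelBC R S S₀ A) h1

end Surj

section Away

variable {R : Type u} [CommRing R] (I : Ideal R) (hI : ∀ x ∈ I, IsNilpotent x) (f : R)

theorem awayMap_mk_surjective :
    Function.Surjective (Localization.awayMap (Ideal.Quotient.mk I) f) := by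
  rw [Localization.awayMap_surjective_iff]
  intro a
  obtain ⟨b, rfl⟩ := Ideal.Quotient.mk_surjective a
  exact ⟨b, 0, by simp⟩

include hI in
theorem isNil_ker_awayMap_mk :
    ∀ x ∈ RingHom.ker (Localization.awayMap (Ideal.Quotient.mk I) f), IsNilpotent x := by
  intro x hx
  obtain ⟨a, ⟨_, n, rfl⟩, rfl⟩ := IsLocalization.exists_mk'_eq (Submonoid.powers f) x
  rw [RingHom.mem_ker] at hx
  unfold Localization.awayMap IsLocalization.Away.map at hx
  rw [IsLocalization.map_mk', IsLocalization.mk'_eq_zero_iff] at hx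
  obtain ⟨⟨_, k, rfl⟩, hk⟩ := hx
  have h1 : f ^ k * a ∈ I := by
    rw [← Ideal.Quotient.eq_zero_iff_mem, map_mul, map_pow]
    exact hk
  obtain ⟨N, hN⟩ := hI _ h1
  refine ⟨N, ?_⟩
  rw [← IsLocalization.mk'_pow, IsLocalization.mk'_eq_zero_iff]
  refine ⟨⟨f ^ (k * N), k * N, rfl⟩, ?_⟩
  change f ^ (k * N) * a ^ N = 0
  rw [pow_mul, ← mul_pow, hN]

end Away

section QuasiStep

variable (R : Type u) [CommRing R] (A : Type u) [CommRing A] [HopfAlgebra R A]
  (Rq : Type u) [CommRing Rq] [Algebra R Rq]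
  (L Lb Lb' : Type u) [CommRing L] [CommRing Lb] [CommRing Lb'] [Algebra R L] [Algebra R Lb]
  [Algebra Rq Lb] [IsScalarTower R Rq Lb] [Algebra L Lb] [IsScalarTower R L Lb] [Algebra Lb Lb']
  [Algebra.Etale Lb Lb']

theorem quasiConst_of_lift (hsurj : Function.Surjective (algebraMap L Lb))
    (hnil : ∀ x ∈ RingHom.ker (algebraMap L Lb), IsNilpotent x) (h : IsMultType R A)
    (hD : IsDiag Lb' (Lb' ⊗[Lb] (Lb ⊗[Rq] (Rq ⊗[R] A)))) (hff : Module.FaithfullyFlat Lb Lb') :
    IsQuasiIsotrivialConst L (L ⊗[R] A) := by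
  letI : Algebra L Lb' := ((algebraMap Lb Lb').comp (algebraMap L Lb)).toAlgebra
  haveI : IsScalarTower L Lb Lb' := IsScalarTower.of_algebraMap_eq' rfl
  let e : Lb ⊗[L] (L ⊗[R] A) ≃ₐc[Lb] Lb ⊗[Rq] (Rq ⊗[R] A) :=
    (BCB.cancelBC R L Lb A).trans (BCB.cancelBC R Rq Lb A).symm
  have hD' : IsDiag Lb' (Lb' ⊗[Lb] (Lb ⊗[L] (L ⊗[R] A))) :=
    BCB.isDiag_of_equiv (BCB.bcEquiv Lb' e) hD
  obtain ⟨S, _, _, hSet, hSD, -, hSff⟩ :=
    exists_etale_isDiag L (L ⊗[R] A) Lb Lb' (isMultType_baseChange R A L h) hsurj hnil hD'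
  exact ⟨S, inferInstance, inferInstance, hSet, hSff hff, hSD⟩

end QuasiStep

section Main

variable (R : Type u) [CommRing R] (A : Type u) [CommRing A] [HopfAlgebra R A] (I : Ideal R)

/-- A group of multiplicative type which is isotrivial modulo a nil ideal is isotrivial. -/
theorem isIsotrivial_of_mod_nil (hI : ∀ x ∈ I, IsNilpotent x) (h : IsMultType R A)
    (h0 : IsIsotrivial (R ⧸ I) ((R ⧸ I) ⊗[R] A)) : IsIsotrivial R A := by
  obtain ⟨R₀', _, _, het, hfin, hff, hD⟩ := h0
  letI : Algebra R R₀' := ((algebraMap (R ⧸ I) R₀').comp (algebraMap R (R ⧸ I))).toAlgebra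
  haveI : IsScalarTower R (R ⧸ I) R₀' := IsScalarTower.of_algebraMap_eq' rfl
  have hsurj : Function.Surjective (algebraMap R (R ⧸ I)) := Ideal.Quotient.mk_surjective
  have hnil : ∀ x ∈ RingHom.ker (algebraMap R (R ⧸ I)), IsNilpotent x := by
    intro x hx
    apply hI
    rwa [Ideal.Quotient.algebraMap_eq, Ideal.mk_ker] at hx
  obtain ⟨S, _, _, hSet, hSD, hSfin, hSff⟩ :=
    exists_etale_isDiag R A (R ⧸ I) R₀' h hsurj hnil hD
  exact ⟨S, inferInstance, inferInstance, hSet, hSfin hfin, hSff hff, hSD⟩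

/-- A group of multiplicative type which is quasi-isotrivial modulo a nil ideal is
quasi-isotrivial. -/
theorem isQuasiIsotrivial_of_mod_nil (hI : ∀ x ∈ I, IsNilpotent x) (h : IsMultType R A)
    (h0 : IsQuasiIsotrivial (R ⧸ I) ((R ⧸ I) ⊗[R] A)) : IsQuasiIsotrivial R A := by
  obtain ⟨s₀, hs₀, hq⟩ := h0
  refine ⟨Ideal.Quotient.mk I ⁻¹' s₀, ?_, ?_⟩
  · have h1 : Ideal.map (Ideal.Quotient.mk I) (Ideal.span (Ideal.Quotient.mk I ⁻¹' s₀)) = ⊤ := by
      rw [Ideal.map_span, Set.image_preimage_eq _ Ideal.Quotient.mk_surjective, hs₀]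
    have h2 := congrArg (Ideal.comap (Ideal.Quotient.mk I)) h1
    rw [Ideal.comap_map_of_surjective _ Ideal.Quotient.mk_surjective, Ideal.comap_top,
      ← RingHom.ker_eq_comap_bot, Ideal.mk_ker] at h2
    obtain ⟨j, hj, i, hi, hji⟩ := Submodule.mem_sup.mp ((Ideal.eq_top_iff_one _).mp h2)
    have hu : IsUnit j := by
      have := (hI i hi).isUnit_one_sub
      rwa [← hji, add_sub_cancel_right] at this
    exact Ideal.eq_top_of_isUnit_mem _ hj hu
  · intro f hf
    obtain ⟨Lb', _, _, het, hff, hD⟩ := hq (Ideal.Quotient.mk I f) hf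
    letI : Algebra (Localization.Away f) (Localization.Away (Ideal.Quotient.mk I f)) :=
      (Localization.awayMap (Ideal.Quotient.mk I) f).toAlgebra
    haveI : IsScalarTower R (Localization.Away f) (Localization.Away (Ideal.Quotient.mk I f)) := by
      apply IsScalarTower.of_algebraMap_eq
      intro r
      change _ = Localization.awayMap (Ideal.Quotient.mk I) f (algebraMap R (Localization.Away f) r)
      unfold Localization.awayMap IsLocalization.Away.map
      rw [IsLocalization.map_eq]
      exact IsScalarTower.algebraMap_apply R (R ⧸ I) _ r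
    exact quasiConst_of_lift R A (R ⧸ I) (Localization.Away f)
      (Localization.Away (Ideal.Quotient.mk I f)) Lb' (awayMap_mk_surjective I f)
      (isNil_ker_awayMap_mk I hI f) h hD hff

end Main

end Groth.Agent.Lib.Seat23.IsotrivNil
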