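import Groth.Agent.Lib.Seat23ConvInt
import Mathlib.RingTheory.Bialgebra.TensorProduct
import Mathlib.RingTheory.HopfAlgebra.TensorProduct

/-!
# Seat23LiftHom: improving an approximate homomorphism into a group with an invariant integral

`A` is a commutative bialgebra over `R` with a normalised invariant integral `l : A → R`
(`l 1 = 1`, `∑ l(a₂) a₁ = l(a) 1`), `C` a commutative Hopf algebra, `g : C → A` an algebra map which
is comultiplicative modulo an ideal `K` of `R`.  Then the "averaged" map
`φ(h) = ∫ g(h h') g(h')⁻¹ dh'`, i.e. `φ = (id ⊗ l) ∘ (Δ_* g * (i₂)_* g⁻¹)`, is `R`-linear, unital,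
multiplicative modulo `K²`, comultiplicative modulo `K²`, and congruent to `g` modulo `K`
(`improve`).
-/

set_option autoImplicit false

namespace Groth.Agent.Lib.Seat23.LiftHom

open TensorProduct WithConv Groth.Agent.Lib.Seat23.ConvInt

section Lam

variable {R : Type*} [CommRing R] {A : Type*} [CommRing A] [Algebra R A] (l : A →ₗ[R] R)
  (T : Type*) [CommRing T] [Algebra R T]

/-- Integration over the last factor, `T ⊗ A → T`. -/
noncomputable def lam : T ⊗[R] A →ₗ[R] T :=
  (TensorProduct.rid R T).toLinearMap ∘ₗ l.lTensor T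

theorem lam_tmul (t : T) (a : A) : lam l T (t ⊗ₜ[R] a) = l a • t := by
  simp [lam]

theorem isRetr_lam (h1 : l 1 = 1) :
    IsRetr (Algebra.TensorProduct.includeLeft : T →ₐ[R] T ⊗[R] A) (lam l T) where
  map_one := by rw [Algebra.TensorProduct.one_def, lam_tmul, h1, one_smul]
  map_mul := by
    intro t y
    induction y using TensorProduct.induction_on with
    | zero => simp
    | tmul t' a =>
      rw [Algebra.TensorProduct.includeLeft_apply, Algebra.TensorProduct.tmul_mul_tmul, one_mul,
        lam_tmul, lam_tmul, mul_smul_comm]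
    | add x y hx hy => simp only [mul_add, map_add, hx, hy]

end Lam

section Maps

variable (R : Type*) [CommRing R] (A : Type*) [CommRing A] [Bialgebra R A]

/-- The comultiplication as an algebra map. -/
noncomputable def cΔ : A →ₐ[R] A ⊗[R] A := Bialgebra.comulAlgHom R A

/-- `a ↦ a ⊗ 1`. -/
noncomputable def i1 : A →ₐ[R] A ⊗[R] A := Algebra.TensorProduct.includeLeft

/-- `a ↦ 1 ⊗ a`. -/
noncomputable def i2 : A →ₐ[R] A ⊗[R] A := Algebra.TensorProduct.includeRight

/-- `t ↦ t ⊗ 1`. -/
noncomputable def jj : A ⊗[R] A →ₐ[R] (A ⊗[R] A) ⊗[R] A := Algebra.TensorProduct.includeLeft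

/-- `(h₁, h₂, h') ↦ (h₁ h₂, h')`. -/
noncomputable def DD : A ⊗[R] A →ₐ[R] (A ⊗[R] A) ⊗[R] A :=
  Algebra.TensorProduct.map (cΔ R A) (AlgHom.id R A)

/-- `(h₁, h₂, h') ↦ (h₂, h')`. -/
noncomputable def θb : A ⊗[R] A →ₐ[R] (A ⊗[R] A) ⊗[R] A :=
  Algebra.TensorProduct.map (i2 R A) (AlgHom.id R A)

/-- `(h₁, h₂, h') ↦ (h₁, h₂ h')`. -/
noncomputable def θa : A ⊗[R] A →ₐ[R] (A ⊗[R] A) ⊗[R] A :=
  (Algebra.TensorProduct.assoc R R R A A A).symm.toAlgHom.comp
    (Algebra.TensorProduct.map (AlgHom.id R A) (cΔ R A))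

theorem cΔ_apply (a : A) : cΔ R A a = CoalgebraStruct.comul (R := R) a := rfl

theorem DD_apply (z : A ⊗[R] A) :
    DD R A z = (CoalgebraStruct.comul (R := R) (A := A)).rTensor A z := by
  induction z using TensorProduct.induction_on with
  | zero => simp
  | tmul x y => simp [DD, cΔ_apply]
  | add x y hx hy => simp only [map_add, hx, hy]

theorem θa_apply (z : A ⊗[R] A) :
    θa R A z = (TensorProduct.assoc R A A A).symm
      ((CoalgebraStruct.comul (R := R) (A := A)).lTensor A z) := by
  induction z using TensorProduct.induction_on with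
  | zero => simp
  | tmul x y =>
    simp only [θa, AlgHom.comp_apply, Algebra.TensorProduct.map_tmul, AlgHom.id_apply,
      LinearMap.lTensor_tmul, cΔ_apply]
    rfl
  | add x y hx hy => simp only [map_add, hx, hy]

theorem θb_apply_tmul (x y : A) : θb R A (x ⊗ₜ[R] y) = ((1 : A) ⊗ₜ[R] x) ⊗ₜ[R] y := by
  simp [θb, i2]

theorem θb_apply (z : A ⊗[R] A) :
    θb R A z = (TensorProduct.assoc R A A A).symm ((1 : A) ⊗ₜ[R] z) := by
  induction z using TensorProduct.induction_on with
  | zero => simp
  | tmul x y => rw [θb_apply_tmul]; rfl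
  | add x y hx hy => simp only [map_add, hx, hy, TensorProduct.tmul_add]

/-- (a) `(h₁h₂)h' = h₁(h₂h')`. -/
theorem DD_comp_cΔ : (DD R A).comp (cΔ R A) = (θa R A).comp (cΔ R A) := by
  ext a
  rw [AlgHom.comp_apply, AlgHom.comp_apply, DD_apply, θa_apply, cΔ_apply,
    Coalgebra.coassoc_symm_apply]

/-- (b). -/
theorem θb_comp_cΔ : (θb R A).comp (cΔ R A) = (θa R A).comp (i2 R A) := by
  ext a
  rw [AlgHom.comp_apply, AlgHom.comp_apply, θb_apply, θa_apply, cΔ_apply]
  simp [i2]

/-- (c). -/
theorem DD_comp_i2 : (DD R A).comp (i2 R A) = (θb R A).comp (i2 R A) := by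
  ext a
  simp [DD, θb, i2, cΔ_apply, Algebra.TensorProduct.one_def]

/-- (d). -/
theorem θa_comp_i1 : (θa R A).comp (i1 R A) = (jj R A).comp (i1 R A) := by
  ext a
  rw [AlgHom.comp_apply, AlgHom.comp_apply, θa_apply]
  simp [i1, jj, Algebra.TensorProduct.one_def]

/-- (e). -/
theorem θb_comp_i1 : (θb R A).comp (i1 R A) = (jj R A).comp (i2 R A) := by
  ext a
  simp [θb, i1, i2, jj]

variable {R A} (l : A →ₗ[R] R)

/-- (f). -/
theorem lam_comp_DD :
    lam l (A ⊗[R] A) ∘ₗ (DD R A).toLinearMap = (cΔ R A).toLinearMap ∘ₗ lam l A := by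
  apply TensorProduct.ext'
  intro x y
  simp only [LinearMap.comp_apply, AlgHom.toLinearMap_apply]
  rw [DD_apply, LinearMap.rTensor_tmul, lam_tmul, lam_tmul, map_smul, cΔ_apply]

/-- (g). -/
theorem lam_comp_θb :
    lam l (A ⊗[R] A) ∘ₗ (θb R A).toLinearMap = (i2 R A).toLinearMap ∘ₗ lam l A := by
  apply TensorProduct.ext'
  intro x y
  simp only [LinearMap.comp_apply, AlgHom.toLinearMap_apply]
  rw [θb_apply_tmul, lam_tmul, lam_tmul, map_smul]
  rfl

theorem lam_assoc_symm (x : A) (z : A ⊗[R] A) :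
    lam l (A ⊗[R] A) ((TensorProduct.assoc R A A A).symm (x ⊗ₜ[R] z)) =
      x ⊗ₜ[R] (TensorProduct.rid R A (LinearMap.lTensor A l z)) := by
  induction z using TensorProduct.induction_on with
  | zero => simp
  | tmul y₁ y₂ =>
    rw [TensorProduct.assoc_symm_tmul, lam_tmul, LinearMap.lTensor_tmul, TensorProduct.rid_tmul,
      TensorProduct.smul_tmul', TensorProduct.smul_tmul]
  | add a b ha hb => simp only [TensorProduct.tmul_add, map_add, ha, hb]

/-- (h): invariance of the integral. -/
theorem lam_comp_θa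
    (hinv : ∀ a : A, TensorProduct.rid R A
      (LinearMap.lTensor A l (CoalgebraStruct.comul (R := R) a)) = l a • (1 : A)) :
    lam l (A ⊗[R] A) ∘ₗ (θa R A).toLinearMap = (i1 R A).toLinearMap ∘ₗ lam l A := by
  apply TensorProduct.ext'
  intro x y
  simp only [LinearMap.comp_apply, AlgHom.toLinearMap_apply]
  rw [θa_apply, LinearMap.lTensor_tmul, lam_assoc_symm, hinv, lam_tmul, map_smul,
    TensorProduct.tmul_smul]
  rfl

end Maps

section Inverse

variable {R : Type*} [CommRing R] {C : Type*} [CommRing C] [HopfAlgebra R C]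
  {T : Type*} [CommRing T] [Algebra R T] (g : C →ₐ[R] T)

/-- `g` as an element of the convolution ring. -/
noncomputable def gh : WithConv (C →ₗ[R] T) := toConv g.toLinearMap

/-- the convolution inverse `g ∘ S`. -/
noncomputable def gi : WithConv (C →ₗ[R] T) :=
  toConv (g.toLinearMap ∘ₗ HopfAlgebra.antipode R)

theorem gh_mul_gi : gh g * gi g = 1 := by
  have h := congrArg (push (D := C) g.toLinearMap)
    (LinearMap.id_mul_antipode (R := R) (C := C))
  rw [push_mul, push_one] at h
  exact h

theorem gi_mul_gh : gi g * gh g = 1 := by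
  have h := congrArg (push (D := C) g.toLinearMap)
    (LinearMap.antipode_mul_id (R := R) (C := C))
  rw [push_mul, push_one] at h
  exact h

theorem push_gh {P : Type*} [CommRing P] [Algebra R P] (u : T →ₐ[R] P) :
    push u.toLinearMap (gh g) = gh (u.comp g) := rfl

theorem push_gi {P : Type*} [CommRing P] [Algebra R P] (u : T →ₐ[R] P) :
    push u.toLinearMap (gi g) = gi (u.comp g) := rfl

end Inverse

section Improve

variable {R : Type*} [CommRing R] {A : Type*} [CommRing A] [Bialgebra R A]
  {C : Type*} [CommRing C] [HopfAlgebra R C]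

/-- `(i₁_* x * i₂_* y)(c) = ∑ x(c₁) ⊗ y(c₂)`. -/
theorem i1_mul_i2_apply (x y : WithConv (C →ₗ[R] A)) (c : C) :
    (push (i1 R A).toLinearMap x * push (i2 R A).toLinearMap y) c =
      TensorProduct.map x.ofConv y.ofConv (CoalgebraStruct.comul (R := R) c) := by
  rw [LinearMap.convMul_apply]
  generalize CoalgebraStruct.comul (R := R) c = w
  induction w using TensorProduct.induction_on with
  | zero => simp
  | tmul a b => simp [push, i1, i2]
  | add a b ha hb => simp only [map_add, ha, hb]

variable (l : A →ₗ[R] R) (g : C →ₐ[R] A)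

/-- `w(h, h') = g(h h') g(h')⁻¹`. -/
noncomputable def ww : WithConv (C →ₗ[R] A ⊗[R] A) :=
  push (cΔ R A).toLinearMap (gh g) * push (i2 R A).toLinearMap (gi g)

/-- The averaged map `φ(h) = ∫ g(h h') g(h')⁻¹ dh'`. -/
noncomputable def avg : WithConv (C →ₗ[R] A) := push (lam l A) (ww g)

/-- `w` as an algebra map. -/
noncomputable def wAlg : C →ₐ[R] A ⊗[R] A :=
  ((toConv ((cΔ R A).comp g) : WithConv (C →ₐ[R] A ⊗[R] A)) *
    toConv ((i2 R A).comp (g.comp (HopfAlgebra.antipodeAlgHom R C)))).ofConv

theorem wAlg_toLinearMap : toConv (wAlg g).toLinearMap = ww g := rfl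

theorem wAlg_apply (c : C) : wAlg g c = ww g c := rfl

variable {g} {K : Ideal R}

theorem ww_isIn
    (hg : IsIn K (push (cΔ R A).toLinearMap (gh g) -
      push (i1 R A).toLinearMap (gh g) * push (i2 R A).toLinearMap (gh g))) :
    IsIn K (ww g - push (i1 R A).toLinearMap (gh g)) := by
  have h2 : push (i2 R A).toLinearMap (gh g) * push (i2 R A).toLinearMap (gi g) = 1 := by
    rw [push_gh, push_gi, gh_mul_gi]
  have : ww g - push (i1 R A).toLinearMap (gh g) =
      (push (cΔ R A).toLinearMap (gh g) -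
        push (i1 R A).toLinearMap (gh g) * push (i2 R A).toLinearMap (gh g)) *
        push (i2 R A).toLinearMap (gi g) := by
    rw [sub_mul, mul_assoc, h2, mul_one]
    rfl
  rw [this]
  exact hg.mul_right _

theorem avg_sub_isIn (hl1 : l 1 = 1)
    (hg : IsIn K (push (cΔ R A).toLinearMap (gh g) -
      push (i1 R A).toLinearMap (gh g) * push (i2 R A).toLinearMap (gh g))) :
    IsIn K (avg l g - gh g) := by
  have hr := isRetr_lam l A hl1
  have : avg l g - gh g = push (lam l A) (ww g - push (i1 R A).toLinearMap (gh g)) := by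
    rw [push_sub]
    congr 1
    exact (push_lam_j hr (gh g)).symm
  rw [this]
  exact (ww_isIn hg).push _

theorem push_DD_ww :
    push (DD R A).toLinearMap (ww g) =
      push (θa R A).toLinearMap (ww g) * push (θb R A).toLinearMap (ww g) := by
  have hq : gi ((θa R A).comp ((i2 R A).comp g)) * gh ((θb R A).comp ((cΔ R A).comp g)) = 1 := by
    rw [← AlgHom.comp_assoc, ← AlgHom.comp_assoc, θb_comp_cΔ, gi_mul_gh]
  unfold ww
  rw [push_mul, push_mul, push_mul]
  simp only [push_gh, push_gi]
  rw [← AlgHom.comp_assoc (DD R A), DD_comp_cΔ, ← AlgHom.comp_assoc (DD R A), DD_comp_i2]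
  rw [mul_assoc (gh _), ← mul_assoc (gi _), hq, one_mul]
  rfl

theorem avg_comul_isIn (hl1 : l 1 = 1)
    (hinv : ∀ a : A, TensorProduct.rid R A
      (LinearMap.lTensor A l (CoalgebraStruct.comul (R := R) a)) = l a • (1 : A))
    (hg : IsIn K (push (cΔ R A).toLinearMap (gh g) -
      push (i1 R A).toLinearMap (gh g) * push (i2 R A).toLinearMap (gh g))) :
    IsIn (K * K) (push (cΔ R A).toLinearMap (avg l g) -
      push (i1 R A).toLinearMap (avg l g) * push (i2 R A).toLinearMap (avg l g)) := by
  have hr2 := isRetr_lam l (A ⊗[R] A) hl1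
  have hw := ww_isIn hg
  have hθa : IsIn K (push (θa R A).toLinearMap (ww g) -
      push (jj R A).toLinearMap (push (i1 R A).toLinearMap (gh g))) := by
    have : push (θa R A).toLinearMap (ww g) -
        push (jj R A).toLinearMap (push (i1 R A).toLinearMap (gh g)) =
        push (θa R A).toLinearMap (ww g - push (i1 R A).toLinearMap (gh g)) := by
      rw [push_sub]
      congr 1
      rw [push_gh, push_gh, push_gh, ← AlgHom.comp_assoc, ← AlgHom.comp_assoc, θa_comp_i1]
    rw [this]
    exact hw.push _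
  have hθb : IsIn K (push (θb R A).toLinearMap (ww g) -
      push (jj R A).toLinearMap (push (i2 R A).toLinearMap (gh g))) := by
    have : push (θb R A).toLinearMap (ww g) -
        push (jj R A).toLinearMap (push (i2 R A).toLinearMap (gh g)) =
        push (θb R A).toLinearMap (ww g - push (i1 R A).toLinearMap (gh g)) := by
      rw [push_sub]
      congr 1
    rw [this]
    exact hw.push _
  have hmain := int_mul hr2 K hθa hθb
  have e1 : push (lam l (A ⊗[R] A))
      (push (θa R A).toLinearMap (ww g) * push (θb R A).toLinearMap (ww g)) =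
      push (cΔ R A).toLinearMap (avg l g) := by
    rw [← push_DD_ww, push_push, lam_comp_DD]
    rfl
  have e2 : push (lam l (A ⊗[R] A)) (push (θa R A).toLinearMap (ww g)) =
      push (i1 R A).toLinearMap (avg l g) := by
    rw [push_push, lam_comp_θa l hinv]
    rfl
  have e3 : push (lam l (A ⊗[R] A)) (push (θb R A).toLinearMap (ww g)) =
      push (i2 R A).toLinearMap (avg l g) := by
    rw [push_push, lam_comp_θb]
    rfl
  rw [e1, e2, e3] at hmain
  exact hmain

/-- The improvement step. -/
theorem improve (hl1 : l 1 = 1)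
    (hinv : ∀ a : A, TensorProduct.rid R A
      (LinearMap.lTensor A l (CoalgebraStruct.comul (R := R) a)) = l a • (1 : A))
    (hg : ∀ c : C, CoalgebraStruct.comul (R := R) (g c) -
      TensorProduct.map g.toLinearMap g.toLinearMap (CoalgebraStruct.comul (R := R) c) ∈
        K • (⊤ : Submodule R (A ⊗[R] A))) :
    ∃ φ : C →ₗ[R] A, φ 1 = 1 ∧
      (∀ c d : C, φ (c * d) - φ c * φ d ∈ (K * K) • (⊤ : Submodule R A)) ∧
      (∀ c : C, φ c - g c ∈ K • (⊤ : Submodule R A)) ∧
      (∀ c : C, CoalgebraStruct.comul (R := R) (φ c) -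
        TensorProduct.map φ φ (CoalgebraStruct.comul (R := R) c) ∈
          (K * K) • (⊤ : Submodule R (A ⊗[R] A))) := by
  have hg' : IsIn K (push (cΔ R A).toLinearMap (gh g) -
      push (i1 R A).toLinearMap (gh g) * push (i2 R A).toLinearMap (gh g)) := by
    intro c
    have e := i1_mul_i2_apply (gh g) (gh g) c
    change CoalgebraStruct.comul (R := R) (g c) -
      (push (i1 R A).toLinearMap (gh g) * push (i2 R A).toLinearMap (gh g)) c ∈ _
    rw [e]
    exact hg c
  have hr := isRetr_lam l A hl1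
  refine ⟨(avg l g).ofConv, ?_, ?_, ?_, ?_⟩
  · change lam l A (wAlg g 1) = 1
    rw [map_one, hr.map_one]
  · intro c d
    have hW : ∀ c, wAlg g c - (Algebra.TensorProduct.includeLeft : A →ₐ[R] A ⊗[R] A) (g c) ∈
        K • (⊤ : Submodule R (A ⊗[R] A)) := fun c => ww_isIn hg' c
    exact int_algHom_mul hr K (wAlg g) g hW c d
  · intro c
    exact avg_sub_isIn l hl1 hg' c
  · intro c
    have := avg_comul_isIn l hl1 hinv hg' c
    have e := i1_mul_i2_apply (avg l g) (avg l g) c
    change CoalgebraStruct.comul (R := R) ((avg l g) c) -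
      (push (i1 R A).toLinearMap (avg l g) * push (i2 R A).toLinearMap (avg l g)) c ∈ _ at this
    rw [e] at this
    exact this

end Improve

end Groth.Agent.Lib.Seat23.LiftHom
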