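import Mathlib
import Groth.Agent.Lib.Helper25MultRigid
import Groth.Agent.Lib.Helper25MultBC

/-!
# Seat23MultLocal: homomorphisms into groups of multiplicative type over a local base

* `eq_zero_of_map_eq_self`: Nakayama for free modules over a local ring.
* `dev φ = φ - η ∘ ε`, `dev_mem_sq`, `dev_mem_pow`, `dev_mem_of_adjoin`.
* `dev_eq_zero_of_finiteType`: over a local ring, a bialgebra map `C → R[M]` with `C` finitely
  generated which is trivial modulo the maximal ideal is trivial.
* `exists_local_isDiag`: over a local ring a group of multiplicative type is diagonalised by a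
  faithfully flat local extension.
* `dev_eq_zero_of_finiteType_local`, `dev_eq_zero_of_noetherian_local`.
-/

set_option autoImplicit false
set_option linter.style.haveILetI false
universe u v w

namespace Groth.Agent.Lib.Seat23.MultLocal

open TensorProduct Groth.Agent.Lib.Helper25 Groth.Agent.Lib.Helper25.BCB SGA3b

section FreeNak

variable {R : Type u} [CommRing R] {F : Type v} [AddCommGroup F] [Module R F]
  {ι : Type w} (b : Module.Basis ι R F)

theorem mem_smul_top_iff_repr (K : Ideal R) (x : F) :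
    x ∈ K • (⊤ : Submodule R F) ↔ ∀ i, b.repr x i ∈ K := by
  constructor
  · intro hx i
    exact Groth.Agent.Lib.Helper25.functional_mem_of_mem_smul_top (b.coord i) K hx
  · intro h
    rw [← b.linearCombination_repr x, Finsupp.linearCombination_apply, Finsupp.sum]
    exact Submodule.sum_mem _ (fun i _ => Submodule.smul_mem_smul (h i) Submodule.mem_top)

include b in
/-- Nakayama for a free module over a local ring: an endomorphism with image in `𝔪 F` has no
nonzero fixed vector. -/
theorem eq_zero_of_map_eq_self [IsLocalRing R] (L : F →ₗ[R] F)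
    (hL : ∀ y, L y ∈ IsLocalRing.maximalIdeal R • (⊤ : Submodule R F)) (x : F) (hx : L x = x) :
    x = 0 := by
  classical
  set 𝔟 : Ideal R := Ideal.span ((fun i => b.repr x i) '' (b.repr x).support) with h𝔟
  have hfg : 𝔟.FG := by
    refine ⟨((b.repr x).support.image (fun i => b.repr x i)), ?_⟩
    rw [h𝔟, Finset.coe_image]
  have hx𝔟 : x ∈ 𝔟 • (⊤ : Submodule R F) := by
    rw [mem_smul_top_iff_repr b]
    intro i
    by_cases hi : i ∈ (b.repr x).support
    · exact Ideal.subset_span ⟨i, hi, rfl⟩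
    · rw [Finsupp.notMem_support_iff.mp hi]
      exact Ideal.zero_mem _
  have hLx : L x ∈ (𝔟 * IsLocalRing.maximalIdeal R) • (⊤ : Submodule R F) := by
    refine Submodule.smul_induction_on hx𝔟 ?_ ?_
    · intro r hr n _
      rw [map_smul, mul_smul]
      exact Submodule.smul_mem_smul hr (hL n)
    · intro y z hy hz
      rw [map_add]
      exact Submodule.add_mem _ hy hz
  rw [hx, mem_smul_top_iff_repr b] at hLx
  have hle : 𝔟 ≤ IsLocalRing.maximalIdeal R • 𝔟 := by
    rw [h𝔟, Ideal.span_le]
    rintro _ ⟨i, _, rfl⟩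
    rw [smul_eq_mul, mul_comm]
    exact hLx i
  have hbot : 𝔟 = ⊥ :=
    Submodule.eq_bot_of_le_smul_of_le_jacobson_bot _ _ hfg hle
      (IsLocalRing.maximalIdeal_le_jacobson _)
  rw [hbot, Submodule.bot_smul, Submodule.mem_bot] at hx𝔟
  exact hx𝔟

end FreeNak

section Step

variable {R : Type u} [CommRing R] {A : Type v} [CommRing A] [Bialgebra R A]
  {C : Type w} [CommRing C] [Bialgebra R C]

/-- The deviation `φ - η ∘ ε` of a bialgebra map from the trivial one, as a linear map. -/
noncomputable def dev (φ : C →ₐc[R] A) : C →ₗ[R] A :=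
  (φ : C →ₗ[R] A) - Algebra.linearMap R A ∘ₗ CoalgebraStruct.counit (R := R) (A := C)

theorem dev_apply (φ : C →ₐc[R] A) (c : C) :
    dev φ c = φ c - algebraMap R A (CoalgebraStruct.counit (R := R) c) := rfl

/-- If the deviation takes values in `K A`, it takes values in `K² A`. -/
theorem dev_mem_sq (hP : NoPrimMod R A) (φ : C →ₐc[R] A) (K : Ideal R)
    (h : ∀ c, dev φ c ∈ K • (⊤ : Submodule R A)) (c : C) :
    dev φ c ∈ (K * K) • (⊤ : Submodule R A) := by
  apply hP
  rw [dev_apply, primDefect_sub_counit]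
  exact map_mem_smul_top_of_forall K K (dev φ) (dev φ) h h (CoalgebraStruct.comul (R := R) c)

/-- If the deviation takes values in `K A`, it takes values in `K^(n+1) A` for all `n`. -/
theorem dev_mem_pow (hP : NoPrimMod R A) (φ : C →ₐc[R] A) (K : Ideal R)
    (h : ∀ c, dev φ c ∈ K • (⊤ : Submodule R A)) (n : ℕ) (c : C) :
    dev φ c ∈ (K ^ (n + 1)) • (⊤ : Submodule R A) := by
  induction n generalizing c with
  | zero => rw [zero_add, pow_one]; exact h c
  | succ n ih =>
    have h1 := dev_mem_sq hP φ (K ^ (n + 1)) ih c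
    have hle : K ^ (n + 1) * K ^ (n + 1) ≤ K ^ (n + 1 + 1) := by
      rw [← pow_add]
      exact Ideal.pow_le_pow_right (by omega)
    exact Submodule.smul_mono hle le_rfl h1

/-- The set of `c` with deviation in `K A` contains the subalgebra generated by any set on which
this holds. -/
theorem dev_mem_of_adjoin (φ : C →ₐc[R] A) (K : Ideal R) (s : Set C)
    (hs : Algebra.adjoin R s = ⊤) (h : ∀ c ∈ s, dev φ c ∈ K • (⊤ : Submodule R A)) (c : C) :
    dev φ c ∈ K • (⊤ : Submodule R A) := by
  have hc : c ∈ Algebra.adjoin R s := by rw [hs]; exact Algebra.mem_top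
  simp only [Ideal.smul_top_eq_map, Submodule.restrictScalars_mem] at h ⊢
  induction hc using Algebra.adjoin_induction with
  | mem x hx => exact h x hx
  | algebraMap r =>
    rw [dev_apply]
    have : φ (algebraMap R C r) - algebraMap R A (CoalgebraStruct.counit (R := R) (algebraMap R C r)) = 0 := by
      rw [AlgHomClass.commutes, Bialgebra.counit_algebraMap]
      simp
    rw [this]
    exact Ideal.zero_mem _
  | add x y _ _ hx hy =>
    rw [map_add]
    exact Ideal.add_mem _ hx hy
  | mul x y _ _ hx hy =>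
    have : dev φ (x * y) = dev φ x * φ y +
        algebraMap R A (CoalgebraStruct.counit (R := R) x) * dev φ y := by
      simp only [dev_apply, map_mul, Bialgebra.counit_mul]
      ring
    rw [this]
    exact Ideal.add_mem _ (Ideal.mul_mem_right _ _ hx) (Ideal.mul_mem_left _ _ hy)

end Step

section LocalDiag

variable {R : Type u} [CommRing R] [IsLocalRing R] {M : Type v} [CommGroup M]
  {C : Type w} [CommRing C] [Bialgebra R C]

/-- Over a local ring, a bialgebra map from a finitely generated bialgebra to a group algebra which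
is trivial modulo the maximal ideal is trivial. -/
theorem dev_eq_zero_of_finiteType (hC : Algebra.FiniteType R C)
    (φ : C →ₐc[R] MonoidAlgebra R M)
    (h0 : ∀ c, dev φ c ∈ IsLocalRing.maximalIdeal R • (⊤ : Submodule R (MonoidAlgebra R M)))
    (c : C) : dev φ c = 0 := by
  classical
  obtain ⟨s, hs⟩ := hC
  set b := MonoidAlgebra.basis M R with hb
  set gens : Finset R :=
    s.biUnion (fun c => (b.repr (dev φ c)).support.image (fun m => b.repr (dev φ c) m)) with hgens
  set 𝔟 : Ideal R := Ideal.span (gens : Set R) with h𝔟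
  have hfg : 𝔟.FG := ⟨gens, rfl⟩
  have hP := noPrimMod_monoidAlgebra R M
  have hA : ∀ c ∈ s, dev φ c ∈ 𝔟 • (⊤ : Submodule R (MonoidAlgebra R M)) := by
    intro c hc
    rw [mem_smul_top_iff_repr b]
    intro m
    by_cases hm : m ∈ (b.repr (dev φ c)).support
    · apply Ideal.subset_span
      rw [hgens, Finset.coe_biUnion]
      simp only [Set.mem_iUnion]
      exact ⟨c, hc, Finset.mem_image_of_mem _ hm⟩
    · rw [Finsupp.notMem_support_iff.mp hm]
      exact Ideal.zero_mem _
  have hB := dev_mem_of_adjoin φ 𝔟 (s : Set C) hs hA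
  have hC := dev_mem_sq hP φ 𝔟 hB
  have hle1 : 𝔟 ≤ 𝔟 * 𝔟 := by
    rw [h𝔟, Ideal.span_le]
    intro r hr
    rw [hgens, Finset.coe_biUnion] at hr
    simp only [Set.mem_iUnion] at hr
    obtain ⟨c, _, hr⟩ := hr
    obtain ⟨m, _, rfl⟩ := Finset.mem_image.mp hr
    exact (mem_smul_top_iff_repr b _ _).mp (hC c) m
  have hle2 : 𝔟 ≤ IsLocalRing.maximalIdeal R := by
    rw [h𝔟, Ideal.span_le]
    intro r hr
    rw [hgens, Finset.coe_biUnion] at hr
    simp only [Set.mem_iUnion] at hr
    obtain ⟨c, _, hr⟩ := hr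
    obtain ⟨m, _, rfl⟩ := Finset.mem_image.mp hr
    exact (mem_smul_top_iff_repr b _ _).mp (h0 c) m
  have hle : 𝔟 ≤ IsLocalRing.maximalIdeal R • 𝔟 := by
    rw [smul_eq_mul]
    exact hle1.trans (Ideal.mul_mono_left hle2)
  have hbot : 𝔟 = ⊥ :=
    Submodule.eq_bot_of_le_smul_of_le_jacobson_bot _ _ hfg hle
      (IsLocalRing.maximalIdeal_le_jacobson _)
  have := hB c
  rwa [hbot, Submodule.bot_smul, Submodule.mem_bot] at this

end LocalDiag

section ExistsLocal

variable (R : Type u) [CommRing R] [IsLocalRing R] (A : Type u) [CommRing A] [HopfAlgebra R A]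

theorem exists_isUnit_of_span_eq_top (s : Set R) (hs : Ideal.span s = ⊤) : ∃ f ∈ s, IsUnit f := by
  by_contra hall
  push Not at hall
  have h1 : Ideal.span s ≤ IsLocalRing.maximalIdeal R :=
    Ideal.span_le.mpr (fun x hx => (IsLocalRing.mem_maximalIdeal x).mpr (hall x hx))
  rw [hs] at h1
  exact (IsLocalRing.maximalIdeal.isMaximal R).ne_top (top_le_iff.mp h1)

/-- Over a local ring, a group of multiplicative type is diagonalised by a faithfully flat local
extension. -/
theorem exists_local_isDiag (h : IsMultType R A) :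
    ∃ (R' : Type u) (_ : CommRing R') (_ : IsLocalRing R') (_ : Algebra R R'),
      IsLocalHom (algebraMap R R') ∧ Module.FaithfullyFlat R R' ∧ IsDiag R' (R' ⊗[R] A) := by
  obtain ⟨s, hs, hmt⟩ := h
  obtain ⟨f, hfs, hfu⟩ := exists_isUnit_of_span_eq_top R s hs
  obtain ⟨R₁, _, _, hff, hD⟩ := hmt f hfs
  letI : Algebra R R₁ :=
    ((algebraMap (Localization.Away f) R₁).comp (algebraMap R (Localization.Away f))).toAlgebra
  haveI : IsScalarTower R (Localization.Away f) R₁ := IsScalarTower.of_algebraMap_eq (fun _ => rfl)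
  have hD' : IsDiag R₁ (R₁ ⊗[R] A) :=
    isDiag_of_equiv (cancelBC R (Localization.Away f) R₁ A).symm hD
  -- `R → R_f` is faithfully flat
  haveI hff0 : Module.FaithfullyFlat R (Localization.Away f) := by
    have e : R ≃ₐ[R] Localization.Away f :=
      IsLocalization.atUnits R (Submonoid.powers f) (by
        intro x hx
        obtain ⟨n, rfl⟩ := hx
        exact hfu.pow n)
    exact Module.FaithfullyFlat.of_linearEquiv R R e.toLinearEquiv.symm
  haveI := hff
  haveI hff1 : Module.FaithfullyFlat R R₁ := Module.FaithfullyFlat.trans R (Localization.Away f) R₁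
  obtain ⟨𝔮, h𝔮, hlo⟩ :=
    Ideal.exists_isPrime_liesOver_of_faithfullyFlat (B := R₁) (IsLocalRing.maximalIdeal R)
  haveI := h𝔮
  have hloc : IsLocalHom (algebraMap R (Localization.AtPrime 𝔮)) := by
    constructor
    intro r hr
    by_contra hnu
    have hr𝔪 : r ∈ IsLocalRing.maximalIdeal R := (IsLocalRing.mem_maximalIdeal r).mpr hnu
    rw [hlo.over, Ideal.mem_comap] at hr𝔪
    rw [IsScalarTower.algebraMap_apply R R₁ (Localization.AtPrime 𝔮),
      IsLocalization.AtPrime.isUnit_to_map_iff (Localization.AtPrime 𝔮) 𝔮] at hr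
    exact hr hr𝔪
  haveI := hloc
  haveI : Module.Flat R (Localization.AtPrime 𝔮) := Module.Flat.trans R R₁ (Localization.AtPrime 𝔮)
  refine ⟨Localization.AtPrime 𝔮, inferInstance, inferInstance, inferInstance, hloc,
    Module.FaithfullyFlat.of_flat_of_isLocalHom, ?_⟩
  · exact isDiag_baseChange_of_tower R A R₁ (Localization.AtPrime 𝔮) hD'

end ExistsLocal

section Main

variable {R : Type u} [CommRing R] [IsLocalRing R]
  {A : Type u} [CommRing A] [HopfAlgebra R A]
  {C : Type u} [CommRing C] [HopfAlgebra R C]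

theorem one_tmul_mem_smul_top (R' : Type u) [CommRing R'] [Algebra R R'] (K : Ideal R) (x : A)
    (hx : x ∈ K • (⊤ : Submodule R A)) :
    (1 : R') ⊗ₜ[R] x ∈ (K.map (algebraMap R R')) • (⊤ : Submodule R' (R' ⊗[R] A)) := by
  refine Submodule.smul_induction_on hx ?_ ?_
  · intro r hr n _
    rw [TensorProduct.tmul_smul, ← algebraMap_smul R' r]
    exact Submodule.smul_mem_smul (Ideal.mem_map_of_mem _ hr) Submodule.mem_top
  · intro y z hy hz
    rw [TensorProduct.tmul_add]
    exact Submodule.add_mem _ hy hz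

variable (R' : Type u) [CommRing R'] [IsLocalRing R'] [Algebra R R'] [IsLocalHom (algebraMap R R')]
  {M : Type u} [CommGroup M] (e : R' ⊗[R] A ≃ₐc[R'] MonoidAlgebra R' M) (φ : C →ₐc[R] A)

/-- The base change of `φ` composed with the diagonalisation. -/
noncomputable def bcHom : R' ⊗[R] C →ₐc[R'] MonoidAlgebra R' M :=
  (e : R' ⊗[R] A →ₐc[R'] MonoidAlgebra R' M).comp
    (Bialgebra.TensorProduct.map (BialgHom.id R' R') φ)

theorem bcHom_tmul (r : R') (c : C) : bcHom R' e φ (r ⊗ₜ[R] c) = e (r ⊗ₜ[R] φ c) := by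
  simp [bcHom]

theorem one_tmul_algebraMap (r : R) :
    (1 : R') ⊗ₜ[R] algebraMap R A r = algebraMap R' (R' ⊗[R] A) (algebraMap R R' r) := by
  rw [Algebra.TensorProduct.algebraMap_apply, Algebra.algebraMap_eq_smul_one (R := R) (A := A),
    TensorProduct.tmul_smul, TensorProduct.smul_tmul', Algebra.algebraMap_eq_smul_one r]
  simp

theorem dev_bcHom_one_tmul (c : C) :
    dev (bcHom R' e φ) ((1 : R') ⊗ₜ[R] c) = e ((1 : R') ⊗ₜ[R] dev φ c) := by
  rw [dev_apply, dev_apply, bcHom_tmul, TensorProduct.tmul_sub, map_sub]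
  congr 1
  rw [one_tmul_algebraMap, TensorProduct.counit_tmul]
  have h1 : e (algebraMap R' (R' ⊗[R] A) (algebraMap R R' (CoalgebraStruct.counit (R := R) c))) =
      algebraMap R' (MonoidAlgebra R' M) (algebraMap R R' (CoalgebraStruct.counit (R := R) c)) :=
    AlgHomClass.commutes e _
  rw [h1, CommSemiring.counit_apply, Algebra.algebraMap_eq_smul_one (R := R) (A := R')]

theorem mem_max_of_mem (x : A)
    (hx : x ∈ IsLocalRing.maximalIdeal R • (⊤ : Submodule R A)) :
    e ((1 : R') ⊗ₜ[R] x) ∈
      IsLocalRing.maximalIdeal R' • (⊤ : Submodule R' (MonoidAlgebra R' M)) := by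
  have h1 := one_tmul_mem_smul_top R' (IsLocalRing.maximalIdeal R) x hx
  have hle : (IsLocalRing.maximalIdeal R).map (algebraMap R R') ≤ IsLocalRing.maximalIdeal R' :=
    ((IsLocalRing.local_hom_TFAE (algebraMap R R')).out 0 2).mp ‹_›
  have h2 := Submodule.smul_mono hle (le_refl (⊤ : Submodule R' (R' ⊗[R] A))) h1
  exact map_mem_smul_top (e : R' ⊗[R] A →ₐc[R'] MonoidAlgebra R' M).toLinearMap _ h2

theorem dev_bcHom_mem
    (h0 : ∀ c, dev φ c ∈ IsLocalRing.maximalIdeal R • (⊤ : Submodule R A))
    (z : R' ⊗[R] C) :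
    dev (bcHom R' e φ) z ∈
      IsLocalRing.maximalIdeal R' • (⊤ : Submodule R' (MonoidAlgebra R' M)) := by
  induction z using TensorProduct.induction_on with
  | zero => rw [map_zero]; exact Submodule.zero_mem _
  | add x y hx hy => rw [map_add]; exact Submodule.add_mem _ hx hy
  | tmul r c =>
    have : r ⊗ₜ[R] c = r • ((1 : R') ⊗ₜ[R] c) := by
      rw [TensorProduct.smul_tmul', smul_eq_mul, mul_one]
    rw [this, map_smul, dev_bcHom_one_tmul]
    exact Submodule.smul_mem _ _ (mem_max_of_mem R' e _ (h0 c))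

end Main


section Final

variable {R : Type u} [CommRing R] [IsLocalRing R]
  {A : Type u} [CommRing A] [HopfAlgebra R A]
  {C : Type u} [CommRing C] [HopfAlgebra R C]

theorem eq_zero_of_one_tmul_eq_zero (R' : Type u) [CommRing R'] [Algebra R R']
    [Module.FaithfullyFlat R R'] (x : A) (h : (1 : R') ⊗ₜ[R] x = 0) : x = 0 := by
  apply Module.FaithfullyFlat.tensorProduct_mk_injective (A := R) (B := R') A
  rw [TensorProduct.mk_apply, h, map_zero]

/-- Case of a finitely generated source: over a local ring, a bialgebra map from a finitely generated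
Hopf algebra to the Hopf algebra of a group of multiplicative type which is trivial modulo the
maximal ideal is trivial. -/
theorem dev_eq_zero_of_finiteType_local (hH : IsMultType R A) (hC : Algebra.FiniteType R C)
    (φ : C →ₐc[R] A)
    (h0 : ∀ c, dev φ c ∈ IsLocalRing.maximalIdeal R • (⊤ : Submodule R A)) (c : C) :
    dev φ c = 0 := by
  obtain ⟨R', _, _, _, hloc, hff, ⟨M, _, ⟨e⟩⟩⟩ := exists_local_isDiag R A hH
  haveI := hloc
  haveI := hff
  haveI := hC
  have hC' : Algebra.FiniteType R' (R' ⊗[R] C) := inferInstance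
  have h1 := dev_eq_zero_of_finiteType hC' (bcHom R' e φ) (dev_bcHom_mem R' e φ h0)
    ((1 : R') ⊗ₜ[R] c)
  rw [dev_bcHom_one_tmul] at h1
  have h2 : (1 : R') ⊗ₜ[R] dev φ c = 0 := (EmbeddingLike.map_eq_zero_iff (f := e)).mp h1
  exact eq_zero_of_one_tmul_eq_zero R' _ h2

/-- Case of a Noetherian base: over a Noetherian local ring, a bialgebra map from a Hopf algebra to
the Hopf algebra of a group of multiplicative type and of finite type which is trivial modulo the
maximal ideal is trivial. -/
theorem dev_eq_zero_of_noetherian_local [IsNoetherianRing R] (hH : IsMultType R A)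
    (hA : Algebra.FiniteType R A) (φ : C →ₐc[R] A)
    (h0 : ∀ c, dev φ c ∈ IsLocalRing.maximalIdeal R • (⊤ : Submodule R A)) (c : C) :
    dev φ c = 0 := by
  have hP := noPrimMod_of_isMultType R A hH
  haveI : IsNoetherianRing A := Algebra.FiniteType.isNoetherianRing R A
  set I : Ideal A := (IsLocalRing.maximalIdeal R).map (algebraMap R A) with hI
  have hx : dev φ c ∈ (⨅ i : ℕ, I ^ i • ⊤ : Submodule A A) := by
    rw [Submodule.mem_iInf]
    intro n
    cases n with
    | zero => simp
    | succ n =>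
      have h1 := dev_mem_pow hP φ (IsLocalRing.maximalIdeal R) h0 n c
      rw [Ideal.smul_top_eq_map, Submodule.restrictScalars_mem, Ideal.map_pow] at h1
      rw [smul_eq_mul, Ideal.mul_top]
      exact h1
  obtain ⟨⟨r, hrI⟩, hr⟩ := (I.mem_iInf_smul_pow_eq_bot_iff (dev φ c)).mp hx
  obtain ⟨R', _, _, _, hloc, hff, ⟨M, _, ⟨e⟩⟩⟩ := exists_local_isDiag R A hH
  haveI := hloc
  haveI := hff
  have hr𝔪 : r ∈ IsLocalRing.maximalIdeal R • (⊤ : Submodule R A) := by
    rw [Ideal.smul_top_eq_map, Submodule.restrictScalars_mem]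
    exact hrI
  have hr' := mem_max_of_mem R' e r hr𝔪
  have hfix : e ((1 : R') ⊗ₜ[R] r) * e ((1 : R') ⊗ₜ[R] dev φ c) = e ((1 : R') ⊗ₜ[R] dev φ c) := by
    rw [← map_mul, Algebra.TensorProduct.tmul_mul_tmul, mul_one]
    change e ((1 : R') ⊗ₜ[R] (r • dev φ c)) = _
    rw [hr]
  have hL : ∀ y, LinearMap.mulLeft R' (e ((1 : R') ⊗ₜ[R] r)) y ∈
      IsLocalRing.maximalIdeal R' • (⊤ : Submodule R' (MonoidAlgebra R' M)) := by
    intro y
    rw [Ideal.smul_top_eq_map, Submodule.restrictScalars_mem] at hr' ⊢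
    exact Ideal.mul_mem_right _ _ hr'
  have h1 := eq_zero_of_map_eq_self (MonoidAlgebra.basis M R')
    (LinearMap.mulLeft R' (e ((1 : R') ⊗ₜ[R] r))) hL _ hfix
  have h2 : (1 : R') ⊗ₜ[R] dev φ c = 0 := (EmbeddingLike.map_eq_zero_iff (f := e)).mp h1
  exact eq_zero_of_one_tmul_eq_zero R' _ h2

end Final

end Groth.Agent.Lib.Seat23.MultLocal
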