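import Groth.Agent.Lib.Seat23RigidExt

/-!
# Seat23RigidFib — a normal subgroup of multiplicative type of a group with connected fibres is central (helper23)

Namespace `Groth.Agent.Lib.Seat23.RigidFib`.

* `univ_of_fibres_connected`: an open and closed subset of an `S`-scheme `K` with connected (scheme-theoretic) fibres
  which contains the image of a section is everything.
* `central_of_normal_of_fibres`: SGA 3 IX 5.5.
-/

set_option autoImplicit false
universe u
open CategoryTheory MonoidalCategory CartesianMonoidalCategory MonObj GrpObj AlgebraicGeometry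
open CategoryTheory.Limits MorphismProperty
open Groth.Agent.Lib.Seat23.Rigid Groth.Agent.Lib.Seat23.RigidConj Groth.Agent.Lib.Seat23.RigidExt

namespace Groth.Agent.Lib.Seat23.RigidFib

/-- an open and closed subset of an `S`-scheme with connected fibres which meets every fibre is everything. -/
theorem univ_of_fibres_connected {S K : Scheme.{u}} (f : K ⟶ S)
    (hconn : ∀ s : S, ConnectedSpace ↥(Limits.pullback f (S.fromSpecResidueField s)))
    (W : Set K) (hW : IsClopen W) (hmeet : ∀ s : S, ∃ x ∈ W, f.base x = s) : W = Set.univ := by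
  rw [Set.eq_univ_iff_forall]
  intro x
  set s := f.base x with hs
  have := hconn s
  let q := pullback.fst f (S.fromSpecResidueField s)
  have hrange : Set.range q.base = f.base ⁻¹' {s} := by
    rw [Scheme.Pullback.range_fst, Scheme.range_fromSpecResidueField]
  obtain ⟨x₀, hx₀W, hx₀⟩ := hmeet s
  obtain ⟨z, hz⟩ : x ∈ Set.range q.base := by rw [hrange]; rfl
  obtain ⟨z₀, hz₀⟩ : x₀ ∈ Set.range q.base := by rw [hrange]; exact hx₀
  have hcl : IsClopen (q.base ⁻¹' W) := hW.preimage q.continuous
  have huniv : q.base ⁻¹' W = Set.univ := hcl.eq_univ ⟨z₀, by rw [Set.mem_preimage, hz₀]; exact hx₀W⟩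
  have hzW : z ∈ q.base ⁻¹' W := by rw [huniv]; trivial
  rw [← hz]
  exact hzW

variable {S : Scheme.{u}} {K H : Over S} [GrpObj K] [GrpObj H]

/-- **A normal subgroup of multiplicative type of a group with connected fibres is central.** -/
theorem central_of_normal_of_fibres
    (hconn : ∀ s : S, ConnectedSpace ↥(Limits.pullback K.hom (S.fromSpecResidueField s)))
    (hH : TwC.Locally S TwC.Topology.fpqc (fun S' g => ∃ (N : Type) (_ : AddCommGroup N),
      AddGroup.FG N ∧ Nonempty (Grp.mk (Red.bc g H) ≅ Grp.mk (Red.DS S' N))))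
    (i : H ⟶ K) [IsMonHom i] [Mono i]
    (hn : ∀ (T : Over S) (g : T ⟶ K) (z : T ⟶ H), ∃ z' : T ⟶ H, g * (z ≫ i) * g⁻¹ = z' ≫ i)
    {T : Over S} (g : T ⟶ K) (z : T ⟶ H) : g * (z ≫ i) = (z ≫ i) * g := by
  obtain ⟨W, hWc, hW1, hW2⟩ := rigid_locus hH (conjFam i hn) (snd K H) (isHomFam_conjFam i hn)
    (fun T b x y => by rw [lift_snd, lift_snd, lift_snd])
  have hAe : AgreeOn (conjFam i hn) (snd K H) (η[K] : 𝟙_ (Over S) ⟶ K).left := by
    apply agreeOn_section
    intro T x
    rw [lift_snd, ← cancel_mono i, Category.assoc, conjFam_spec]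
    have h1 : (toUnit T ≫ η[K] : T ⟶ K) = 1 := by
      rw [Hom.one_def]
    rw [h1]
    group
  have hWuniv : (W : Set K.left) = Set.univ := by
    refine univ_of_fibres_connected K.hom hconn _ ⟨hWc, W.2⟩ fun s => ?_
    refine ⟨(η[K] : 𝟙_ (Over S) ⟶ K).left.base s, hW1 S _ s hAe, ?_⟩
    have h5 : (η[K] : 𝟙_ (Over S) ⟶ K).left ≫ K.hom = 𝟙 S := CategoryTheory.Over.w η[K]
    have h6 : ((η[K] : 𝟙_ (Over S) ⟶ K).left ≫ K.hom).base s = s := by
      rw [h5]
      rfl
    exact h6
  have hEq : conjFam i hn = snd K H := eq_of_agreeOn_univ hWuniv hW2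
  have h1 := conjFam_spec i hn g z
  rw [hEq, ← Category.assoc, lift_snd] at h1
  calc g * (z ≫ i) = (g * (z ≫ i) * g⁻¹) * g := by group
    _ = (z ≫ i) * g := by rw [← h1]

end Groth.Agent.Lib.Seat23.RigidFib
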