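import Groth.Agent.Lib.Seat23BialgDescent
import Groth.Agent.Lib.Seat23FibreTriv

/-!
# Seat23SplitSep: a group of multiplicative type and of finite type over a field is split by a
finite separable extension

* `isGroupLikeElem_of_one_tmul`: group-like elements are reflected by injective flat-enough base change;
* `phi`, `inc`, `V`, `exists_fg_span_eq_top`: spreading out — if `K ⊗ A` is spanned by group-like
  elements (`K/k` any field extension, `A` of finite type), so is `T ⊗ A` for a finitely generated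
  subalgebra `T ⊆ K`; `exists_finite_field_span_eq_top`: hence so is `κ ⊗ A` for a finite extension `κ/k`;
* `span_isGroupLikeElem_of_equiv`, `liftGroupLike_bijective`;
* `isDiagFT_of_pinsep`: purely inseparable descent of diagonalisability;
* `exists_finite_separable_isDiagFT`.
-/

set_option autoImplicit false
set_option linter.style.haveILetI false
universe u

namespace Groth.Agent.Lib.Seat23.SplitSep

open TensorProduct Groth.Agent.Lib.Helper25 Groth.Agent.Lib.Seat23.BialgDescent
  Groth.Agent.Lib.Seat23.FibreTriv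

section Reflect

variable {R : Type u} [CommRing R] (R' : Type u) [CommRing R'] [Algebra R R']
  {B : Type u} [CommRing B] [Bialgebra R B]

theorem mk_one_injective_of_flat {N : Type*} [AddCommGroup N] [Module R N] [Module.Flat R N]
    (h : Function.Injective (algebraMap R R')) :
    Function.Injective (TensorProduct.mk R R' N 1) := by
  have h1 := (Module.Flat.rTensor_preserves_injective_linearMap (M := N)
    (Algebra.linearMap R R') h).comp (TensorProduct.lid R N).symm.injective
  have h2 : (⇑(LinearMap.rTensor N (Algebra.linearMap R R')) ∘ ⇑(TensorProduct.lid R N).symm) =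
      ⇑(TensorProduct.mk R R' N 1) := by
    funext n
    simp
  rwa [h2] at h1

theorem bcMap2_injective_of (h : Function.Injective (TensorProduct.mk R R' (B ⊗[R] B) 1)) :
    Function.Injective (bcMap2 (R := R) R' B) := by
  let ψ : (R' ⊗[R] B) ⊗[R'] (R' ⊗[R] B) →ₗ[R] R' ⊗[R] (B ⊗[R] B) :=
    (LinearMap.rTensor (B ⊗[R] B) ((TensorProduct.rid R' R').toLinearMap.restrictScalars R)) ∘ₗ
      ((AlgebraTensorModule.tensorTensorTensorComm R R' R R' R' R' B B).symm.toLinearMap.restrictScalars R)
  have hψ : ∀ z : B ⊗[R] B, ψ (bcMap2 R' B z) = (1 : R') ⊗ₜ[R] z := by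
    intro z
    show (LinearMap.rTensor (B ⊗[R] B) ((TensorProduct.rid R' R').toLinearMap.restrictScalars R))
      ((AlgebraTensorModule.tensorTensorTensorComm R R' R R' R' R' B B).symm
        ((AlgebraTensorModule.tensorTensorTensorComm R R' R R' R' R' B B)
          (((1 : R') ⊗ₜ[R'] (1 : R')) ⊗ₜ[R] z))) = _
    rw [LinearEquiv.symm_apply_apply, LinearMap.rTensor_tmul]
    simp
  intro z w hzw
  apply h
  show (1 : R') ⊗ₜ[R] z = (1 : R') ⊗ₜ[R] w
  rw [← hψ z, ← hψ w, hzw]

theorem isGroupLikeElem_of_one_tmul (h1 : Function.Injective (algebraMap R R'))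
    (h2 : Function.Injective (TensorProduct.mk R R' (B ⊗[R] B) 1)) {g : B}
    (hg : IsGroupLikeElem R' ((1 : R') ⊗ₜ[R] g)) : IsGroupLikeElem R g where
  counit_eq_one := by
    apply h1
    have e1 : Coalgebra.counit (R := R') ((1 : R') ⊗ₜ[R] g) =
        algebraMap R R' (Coalgebra.counit (R := R) g) := by
      rw [TensorProduct.counit_tmul]
      simp [Algebra.smul_def]
    rw [← e1, hg.counit_eq_one, map_one]
  comul_eq_tmul_self := by
    apply bcMap2_injective_of R' h2
    rw [← comul_one_tmul, hg.comul_eq_tmul_self, bcMap2_tmul]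

end Reflect

section Transport

variable {R : Type*} [CommRing R] {H H' : Type*} [CommRing H] [Bialgebra R H] [CommRing H']
  [Bialgebra R H']

theorem span_isGroupLikeElem_of_equiv (e : H ≃ₐc[R] H')
    (h : Submodule.span R {x : H | IsGroupLikeElem R x} = ⊤) :
    Submodule.span R {x : H' | IsGroupLikeElem R x} = ⊤ := by
  rw [eq_top_iff]
  rintro y -
  have hy : e.symm y ∈ Submodule.span R {x : H | IsGroupLikeElem R x} := h ▸ Submodule.mem_top
  have key : ∀ z ∈ Submodule.span R {x : H | IsGroupLikeElem R x},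
      e z ∈ Submodule.span R {x : H' | IsGroupLikeElem R x} := by
    intro z hz
    induction hz using Submodule.span_induction with
    | mem g hg => exact Submodule.subset_span (IsGroupLikeElem.map e hg)
    | zero => rw [map_zero]; exact Submodule.zero_mem _
    | add x y _ _ hx hy => rw [map_add]; exact Submodule.add_mem _ hx hy
    | smul r x _ hx => rw [map_smul]; exact Submodule.smul_mem _ _ hx
  have := key _ hy
  rwa [BialgEquiv.apply_symm_apply] at this

end Transport

section LiftGL

variable {K H : Type u} [Field K] [CommRing H] [HopfAlgebra K H]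

theorem liftGroupLike_bijective (h : Submodule.span K {a : H | IsGroupLikeElem K a} = ⊤) :
    Function.Bijective
      (MonoidAlgebra.liftGroupLikeBialgHom : MonoidAlgebra K (GroupLike K H) →ₐc[K] H) := by
  have hli : LinearIndependent K (GroupLike.val (R := K) (A := H)) := linearIndep_groupLikeVal
  have heq : ∀ x : MonoidAlgebra K (GroupLike K H),
      (MonoidAlgebra.liftGroupLikeBialgHom : MonoidAlgebra K (GroupLike K H) →ₐc[K] H) x =
        Finsupp.linearCombination K (GroupLike.val (R := K) (A := H)) x.coeff := by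
    intro x
    rw [MonoidAlgebra.liftGroupLikeBialgHom_apply, MonoidAlgebra.lift_apply,
      Finsupp.linearCombination_apply]
    rfl
  refine ⟨?_, ?_⟩
  · intro x y hxy
    rw [heq, heq] at hxy
    exact MonoidAlgebra.coeff_injective (hli hxy)
  · have hle : Submodule.span K {a : H | IsGroupLikeElem K a} ≤ LinearMap.range
        ((MonoidAlgebra.liftGroupLikeBialgHom : MonoidAlgebra K (GroupLike K H) →ₐc[K] H) :
          MonoidAlgebra K (GroupLike K H) →ₗ[K] H) := by
      rw [Submodule.span_le]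
      intro a ha
      refine ⟨MonoidAlgebra.single (⟨a, ha⟩ : GroupLike K H) 1, ?_⟩
      change (MonoidAlgebra.liftGroupLikeBialgHom : MonoidAlgebra K (GroupLike K H) →ₐc[K] H)
        (MonoidAlgebra.single (⟨a, ha⟩ : GroupLike K H) 1) = a
      rw [MonoidAlgebra.liftGroupLikeBialgHom_apply, MonoidAlgebra.lift_single, one_smul]
      rfl
    intro y
    have hy : y ∈ Submodule.span K {a : H | IsGroupLikeElem K a} := by
      rw [h]
      trivial
    obtain ⟨x, hx⟩ := hle hy
    exact ⟨x, hx⟩

end LiftGL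

section Sub

variable {k : Type u} [Field k] {K : Type u} [Field K] [Algebra k K]
  (A : Type u) [CommRing A] [HopfAlgebra k A]

/-- The comparison map `T ⊗ A → K ⊗ A` for a subalgebra `T` of `K`. -/
noncomputable def phi (T : Subalgebra k K) : T ⊗[k] A →ₐ[k] K ⊗[k] A :=
  Algebra.TensorProduct.map T.val (AlgHom.id k A)

/-- The transition map `T ⊗ A → T' ⊗ A` for `T ≤ T'`. -/
noncomputable def inc {T T' : Subalgebra k K} (h : T ≤ T') : T ⊗[k] A →ₐ[k] T' ⊗[k] A :=
  Algebra.TensorProduct.map (Subalgebra.inclusion h) (AlgHom.id k A)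

@[simp] theorem phi_tmul (T : Subalgebra k K) (t : T) (a : A) :
    phi A T (t ⊗ₜ[k] a) = (t : K) ⊗ₜ[k] a := rfl

@[simp] theorem inc_tmul {T T' : Subalgebra k K} (h : T ≤ T') (t : T) (a : A) :
    inc A h (t ⊗ₜ[k] a) = (Subalgebra.inclusion h t) ⊗ₜ[k] a := rfl

theorem phi_inc {T T' : Subalgebra k K} (h : T ≤ T') (x : T ⊗[k] A) :
    phi A T' (inc A h x) = phi A T x := by
  induction x using TensorProduct.induction_on with
  | zero => simp
  | add x y hx hy => rw [map_add, map_add, map_add, hx, hy]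
  | tmul t a => rfl

theorem phi_injective (T : Subalgebra k K) : Function.Injective (phi A T) := by
  have h := Module.Flat.rTensor_preserves_injective_linearMap (M := A)
    (T.val.toLinearMap) Subtype.val_injective
  intro x y hxy
  apply h
  have e : ∀ z : T ⊗[k] A, LinearMap.rTensor A T.val.toLinearMap z = phi A T z := by
    intro z
    induction z using TensorProduct.induction_on with
    | zero => simp
    | add x y hx hy => rw [map_add, map_add, hx, hy]
    | tmul t a => rfl
  rw [e, e, hxy]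

theorem phi_smul (T : Subalgebra k K) (t : T) (x : T ⊗[k] A) :
    phi A T (t • x) = (t : K) • phi A T x := by
  induction x using TensorProduct.induction_on with
  | zero => simp
  | add x y hx hy => rw [smul_add, map_add, map_add, smul_add, hx, hy]
  | tmul s a =>
    rw [TensorProduct.smul_tmul', phi_tmul, phi_tmul, TensorProduct.smul_tmul']
    rfl

theorem inc_smul {T T' : Subalgebra k K} (h : T ≤ T') (t : T) (x : T ⊗[k] A) :
    inc A h (t • x) = (Subalgebra.inclusion h t) • inc A h x := by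
  induction x using TensorProduct.induction_on with
  | zero => simp
  | add x y hx hy => rw [smul_add, map_add, map_add, smul_add, hx, hy]
  | tmul s a =>
    rw [TensorProduct.smul_tmul', inc_tmul, inc_tmul, TensorProduct.smul_tmul']
    rfl

theorem cancelBC_one_tmul (T : Subalgebra k K) (x : T ⊗[k] A) :
    BCB.cancelBC k T K A ((1 : K) ⊗ₜ[T] x) = phi A T x := by
  induction x using TensorProduct.induction_on with
  | zero => simp
  | add x y hx hy => rw [TensorProduct.tmul_add, map_add, map_add, hx, hy]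
  | tmul t a =>
    rw [BCB.cancelBC_tmul, phi_tmul]
    congr 1
    rw [Algebra.smul_def, mul_one]
    rfl

/-- `phi` preserves and reflects group-like elements. -/
theorem isGroupLikeElem_phi_iff (T : Subalgebra k K) (x : T ⊗[k] A) :
    IsGroupLikeElem K (phi A T x) ↔ IsGroupLikeElem T x := by
  rw [← cancelBC_one_tmul]
  constructor
  · intro h
    have h' : IsGroupLikeElem K ((1 : K) ⊗ₜ[T] x) := by
      have := h.map (BCB.cancelBC k T K A).symm
      rwa [BialgEquiv.symm_apply_apply] at this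
    refine isGroupLikeElem_of_one_tmul K (Subtype.val_injective) ?_ h'
    exact mk_one_injective_of_flat K Subtype.val_injective
  · intro h
    exact (isGroupLikeElem_one_tmul K h).map (BCB.cancelBC k T K A)


/-- The span of the group-like elements of `T ⊗ A`. -/
noncomputable def V (T : Subalgebra k K) : Submodule T (T ⊗[k] A) :=
  Submodule.span T {x : T ⊗[k] A | IsGroupLikeElem T x}

theorem inc_mem_V {T T' : Subalgebra k K} (h : T ≤ T') {x : T ⊗[k] A} (hx : x ∈ V A T) :
    inc A h x ∈ V A T' := by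
  unfold V at hx ⊢
  induction hx using Submodule.span_induction with
  | mem g hg =>
    apply Submodule.subset_span
    show IsGroupLikeElem T' (inc A h g)
    rw [← isGroupLikeElem_phi_iff, phi_inc, isGroupLikeElem_phi_iff]
    exact hg
  | zero => rw [map_zero]; exact Submodule.zero_mem _
  | add x y _ _ hx hy => rw [map_add]; exact Submodule.add_mem _ hx hy
  | smul t x _ hx => rw [inc_smul]; exact Submodule.smul_mem _ _ hx

theorem mul_mem_V (T : Subalgebra k K) {x y : T ⊗[k] A} (hx : x ∈ V A T) (hy : y ∈ V A T) :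
    x * y ∈ V A T := by
  unfold V at hx hy ⊢
  induction hx using Submodule.span_induction with
  | mem g hg =>
    induction hy using Submodule.span_induction with
    | mem g' hg' => exact Submodule.subset_span (IsGroupLikeElem.mul hg hg')
    | zero => rw [mul_zero]; exact Submodule.zero_mem _
    | add x y _ _ hx hy => rw [mul_add]; exact Submodule.add_mem _ hx hy
    | smul t x _ hx => rw [mul_smul_comm]; exact Submodule.smul_mem _ _ hx
  | zero => rw [zero_mul]; exact Submodule.zero_mem _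
  | add x y _ _ hx hy => rw [add_mul]; exact Submodule.add_mem _ hx hy
  | smul t x _ hx => rw [smul_mul_assoc]; exact Submodule.smul_mem _ _ hx

/-- Every element of `K ⊗ A` comes from `T ⊗ A` for a finitely generated `T`. -/
theorem exists_fg_mem_range (y : K ⊗[k] A) :
    ∃ T : Subalgebra k K, T.FG ∧ ∃ x : T ⊗[k] A, phi A T x = y := by
  induction y using TensorProduct.induction_on with
  | zero => exact ⟨⊥, Subalgebra.fg_bot, 0, map_zero _⟩
  | tmul c a =>
    refine ⟨Algebra.adjoin k {c}, Subalgebra.fg_adjoin_finset {c} |> (by simpa using ·),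
      (⟨c, Algebra.subset_adjoin rfl⟩ : Algebra.adjoin k {c}) ⊗ₜ[k] a, rfl⟩
  | add y₁ y₂ h₁ h₂ =>
    obtain ⟨T₁, hT₁, x₁, rfl⟩ := h₁
    obtain ⟨T₂, hT₂, x₂, rfl⟩ := h₂
    refine ⟨T₁ ⊔ T₂, hT₁.sup hT₂, inc A (le_sup_left : T₁ ≤ T₁ ⊔ T₂) x₁ + inc A (le_sup_right : T₂ ≤ T₁ ⊔ T₂) x₂, ?_⟩
    rw [map_add, phi_inc, phi_inc]

/-- The elements of `K ⊗ A` which, over some finitely generated `T`, lie in the span of the
group-like elements. -/
theorem exists_fg_mem_V (hK : Submodule.span K {g : K ⊗[k] A | IsGroupLikeElem K g} = ⊤)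
    (y : K ⊗[k] A) :
    ∃ T : Subalgebra k K, T.FG ∧ ∃ x ∈ V A T, phi A T x = y := by
  have hy : y ∈ Submodule.span K {g : K ⊗[k] A | IsGroupLikeElem K g} := hK ▸ Submodule.mem_top
  induction hy using Submodule.span_induction with
  | mem g hg =>
    obtain ⟨T, hT, x, rfl⟩ := exists_fg_mem_range A g
    exact ⟨T, hT, x, Submodule.subset_span ((isGroupLikeElem_phi_iff A T x).mp hg), rfl⟩
  | zero => exact ⟨⊥, Subalgebra.fg_bot, 0, Submodule.zero_mem _, map_zero _⟩
  | add y₁ y₂ _ _ h₁ h₂ =>
    obtain ⟨T₁, hT₁, x₁, hx₁, rfl⟩ := h₁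
    obtain ⟨T₂, hT₂, x₂, hx₂, rfl⟩ := h₂
    refine ⟨T₁ ⊔ T₂, hT₁.sup hT₂, inc A (le_sup_left : T₁ ≤ T₁ ⊔ T₂) x₁ + inc A (le_sup_right : T₂ ≤ T₁ ⊔ T₂) x₂,
      Submodule.add_mem _ (inc_mem_V A _ hx₁) (inc_mem_V A _ hx₂), ?_⟩
    rw [map_add, phi_inc, phi_inc]
  | smul c y _ h =>
    obtain ⟨T, hT, x, hx, rfl⟩ := h
    have hc : (Algebra.adjoin k {c}).FG := by
      have := Subalgebra.fg_adjoin_finset (R := k) ({c} : Finset K)
      simpa using this
    refine ⟨T ⊔ Algebra.adjoin k {c}, hT.sup hc,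
      (⟨c, (le_sup_right : Algebra.adjoin k {c} ≤ T ⊔ Algebra.adjoin k {c})
        (Algebra.subset_adjoin rfl)⟩ : (T ⊔ Algebra.adjoin k {c} : Subalgebra k K)) •
        inc A (le_sup_left : T ≤ T ⊔ Algebra.adjoin k {c}) x,
      Submodule.smul_mem _ _ (inc_mem_V A _ hx), ?_⟩
    rw [phi_smul, phi_inc]


theorem one_tmul_mem_V_of_phi {T : Subalgebra k K} {x : T ⊗[k] A} (hx : x ∈ V A T) (a : A)
    (h : phi A T x = (1 : K) ⊗ₜ[k] a) : (1 : T) ⊗ₜ[k] a ∈ V A T := by
  have : x = (1 : T) ⊗ₜ[k] a := phi_injective A T (by rw [h]; rfl)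
  rwa [← this]

/-- Finitely many elements `1 ⊗ a` lie in `V T` for a common finitely generated `T`. -/
theorem exists_fg_forall_mem_V (hK : Submodule.span K {g : K ⊗[k] A | IsGroupLikeElem K g} = ⊤)
    (s : Finset A) :
    ∃ T : Subalgebra k K, T.FG ∧ ∀ a ∈ s, (1 : T) ⊗ₜ[k] a ∈ V A T := by
  classical
  induction s using Finset.induction_on with
  | empty => exact ⟨⊥, Subalgebra.fg_bot, fun a ha => absurd ha (Finset.notMem_empty a)⟩
  | insert a s ha ih =>
    obtain ⟨T₁, hT₁, h1⟩ := ih
    obtain ⟨T₂, hT₂, x, hx, hxa⟩ := exists_fg_mem_V A hK ((1 : K) ⊗ₜ[k] a)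
    have h2 := one_tmul_mem_V_of_phi A hx a hxa
    refine ⟨T₁ ⊔ T₂, hT₁.sup hT₂, fun b hb => ?_⟩
    rcases Finset.mem_insert.mp hb with rfl | hb
    · have := inc_mem_V A (le_sup_right : T₂ ≤ T₁ ⊔ T₂) h2
      rwa [inc_tmul, map_one] at this
    · have := inc_mem_V A (le_sup_left : T₁ ≤ T₁ ⊔ T₂) (h1 b hb)
      rwa [inc_tmul, map_one] at this

/-- Spreading out: if `K ⊗ A` is spanned by group-like elements and `A` is of finite type, then
`T ⊗ A` is spanned by group-like elements for some finitely generated subalgebra `T` of `K`. -/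
theorem exists_fg_span_eq_top [Algebra.FiniteType k A]
    (hK : Submodule.span K {g : K ⊗[k] A | IsGroupLikeElem K g} = ⊤) :
    ∃ T : Subalgebra k K, T.FG ∧
      Submodule.span T {x : T ⊗[k] A | IsGroupLikeElem T x} = ⊤ := by
  obtain ⟨s, hs⟩ := (Algebra.FiniteType.out : (⊤ : Subalgebra k A).FG)
  obtain ⟨T, hT, hmem⟩ := exists_fg_forall_mem_V A hK s
  refine ⟨T, hT, ?_⟩
  have hone : (1 : T ⊗[k] A) ∈ V A T :=
    Submodule.subset_span (IsGroupLikeElem.one)
  have hall : ∀ b : A, (1 : T) ⊗ₜ[k] b ∈ V A T := by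
    intro b
    have hb : b ∈ Algebra.adjoin k (s : Set A) := by
      rw [hs]
      trivial
    induction hb using Algebra.adjoin_induction with
    | mem x hx => exact hmem x hx
    | algebraMap r =>
      have e : (1 : T) ⊗ₜ[k] (algebraMap k A r) = (algebraMap k T r) • (1 : T ⊗[k] A) := by
        rw [Algebra.algebraMap_eq_smul_one r, TensorProduct.tmul_smul,
          Algebra.TensorProduct.one_def, algebraMap_smul]
      rw [e]
      exact Submodule.smul_mem _ _ hone
    | add x y _ _ hx hy =>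
      rw [TensorProduct.tmul_add]
      exact Submodule.add_mem _ hx hy
    | mul x y _ _ hx hy =>
      have e : (1 : T) ⊗ₜ[k] (x * y) = ((1 : T) ⊗ₜ[k] x) * ((1 : T) ⊗ₜ[k] y) := by
        rw [Algebra.TensorProduct.tmul_mul_tmul, one_mul]
      rw [e]
      exact mul_mem_V A T hx hy
  rw [eq_top_iff]
  rintro z -
  show z ∈ V A T
  induction z using TensorProduct.induction_on with
  | zero => exact Submodule.zero_mem _
  | add x y hx hy => exact Submodule.add_mem _ hx hy
  | tmul t b =>
    have e : t ⊗ₜ[k] b = t • ((1 : T) ⊗ₜ[k] b) := by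
      rw [TensorProduct.smul_tmul', smul_eq_mul, mul_one]
    rw [e]
    exact Submodule.smul_mem _ _ (hall b)

theorem span_eq_top_of_algebra (T : Subalgebra k K) (κ : Type u) [CommRing κ] [Algebra T κ] [Algebra k κ]
    [IsScalarTower k T κ]
    (hspan : Submodule.span T {x : T ⊗[k] A | IsGroupLikeElem T x} = ⊤) :
    Submodule.span κ {x : κ ⊗[k] A | IsGroupLikeElem κ x} = ⊤ :=
  span_isGroupLikeElem_of_equiv (BCB.cancelBC k T κ A) (span_isGroupLikeElem_baseChange κ hspan)

/-- A group of finite type which is diagonalisable over some field extension is already spanned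
by characters over a finite extension. -/
theorem exists_finite_field_span_eq_top [Algebra.FiniteType k A]
    (hK : Submodule.span K {g : K ⊗[k] A | IsGroupLikeElem K g} = ⊤) :
    ∃ (κ : Type u) (_ : Field κ) (_ : Algebra k κ), Module.Finite k κ ∧
      Submodule.span κ {x : κ ⊗[k] A | IsGroupLikeElem κ x} = ⊤ := by
  obtain ⟨T, hT, hspan⟩ := exists_fg_span_eq_top A hK
  haveI : Algebra.FiniteType k T := (Subalgebra.fg_iff_finiteType T).mp hT
  obtain ⟨𝔪, h𝔪⟩ := Ideal.exists_maximal T
  letI : Field (T ⧸ 𝔪) := Ideal.Quotient.field 𝔪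
  haveI : Algebra.FiniteType k (T ⧸ 𝔪) :=
    Algebra.FiniteType.of_surjective (Ideal.Quotient.mkₐ k 𝔪) (Ideal.Quotient.mkₐ_surjective k 𝔪)
  haveI : Module.Finite k (T ⧸ 𝔪) := finite_of_finite_type_of_isJacobsonRing k (T ⧸ 𝔪)
  refine ⟨T ⧸ 𝔪, inferInstance, inferInstance, inferInstance, ?_⟩
  exact span_eq_top_of_algebra A T (T ⧸ 𝔪) hspan

end Sub

section PInsep

variable (k₁ κ : Type u) [Field k₁] [Field κ] [Algebra k₁ κ] [IsPurelyInseparable k₁ κ]
  (A₁ : Type u) [CommRing A₁] [HopfAlgebra k₁ A₁] [Algebra.FiniteType k₁ A₁]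

/-- Purely inseparable descent of diagonalisability. -/
theorem isDiagFT_of_pinsep (hA : SGA3b.IsMultTypeConst k₁ A₁)
    (hκ : Submodule.span κ {x : κ ⊗[k₁] A₁ | IsGroupLikeElem κ x} = ⊤) :
    SGA3b.IsDiagFT k₁ A₁ := by
  set M := GroupLike κ (κ ⊗[k₁] A₁) with hM
  have hbij := liftGroupLike_bijective hκ
  let γ : MonoidAlgebra κ M ≃ₐc[κ] κ ⊗[k₁] A₁ := BialgEquiv.ofBijective _ hbij
  -- `M` is finitely generated
  have hft : Algebra.FiniteType κ (MonoidAlgebra κ M) :=
    Algebra.FiniteType.equiv (inferInstance : Algebra.FiniteType κ (κ ⊗[k₁] A₁))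
      (γ.symm : κ ⊗[k₁] A₁ ≃ₐ[κ] MonoidAlgebra κ M)
  have hfg : Group.FG M := MonoidAlgebra.finiteType_iff_group_fg.mp hft
  haveI : Monoid.FG M := Group.fg_iff_monoid_fg.mp hfg
  let φ : κ ⊗[k₁] MonoidAlgebra k₁ M →ₐc[κ] κ ⊗[k₁] A₁ :=
    (γ : MonoidAlgebra κ M →ₐc[κ] κ ⊗[k₁] A₁).comp
      (BCB.steBialg k₁ κ M : κ ⊗[k₁] MonoidAlgebra k₁ M →ₐc[κ] MonoidAlgebra κ M)
  have hφ : Function.Bijective φ := by
    have : (φ : κ ⊗[k₁] MonoidAlgebra k₁ M → κ ⊗[k₁] A₁) = γ ∘ (BCB.steBialg k₁ κ M) := rfl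
    rw [this]
    exact γ.bijective.comp (BCB.steBialg k₁ κ M).bijective
  obtain ⟨f, hf⟩ := exists_bialgHom_of_pinsep k₁ κ A₁ (MonoidAlgebra k₁ M) hA φ
  have hfl : ∀ z, (LinearMap.lTensor κ (f : MonoidAlgebra k₁ M →ₗ[k₁] A₁)) z = φ z := by
    intro z
    induction z using TensorProduct.induction_on with
    | zero => simp
    | add x y hx hy => rw [map_add, map_add, hx, hy]
    | tmul c b => rw [LinearMap.lTensor_tmul, hf]; rfl
  have hfbij : Function.Bijective f := by
    have h1 : Function.Bijective (LinearMap.lTensor κ (f : MonoidAlgebra k₁ M →ₗ[k₁] A₁)) := by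
      have : ⇑(LinearMap.lTensor κ (f : MonoidAlgebra k₁ M →ₗ[k₁] A₁)) = ⇑φ := funext hfl
      rw [this]
      exact hφ
    exact (Module.FaithfullyFlat.lTensor_bijective_iff_bijective k₁ κ _).mp h1
  exact ⟨M, inferInstance, hfg, ⟨(BialgEquiv.ofBijective f hfbij).symm⟩⟩

end PInsep


section Main

variable (k : Type u) [Field k] (A : Type u) [CommRing A] [HopfAlgebra k A]
  [Algebra.FiniteType k A]

theorem isDiagFT_of_tower (k₁ κ : Type u) [Field k₁] [Field κ] [Algebra k k₁] [Algebra k κ]
    [Algebra k₁ κ] [IsScalarTower k k₁ κ] [IsPurelyInseparable k₁ κ]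
    (h : SGA3b.IsMultTypeConst k A)
    (hκ : Submodule.span κ {x : κ ⊗[k] A | IsGroupLikeElem κ x} = ⊤) :
    SGA3b.IsDiagFT k₁ (k₁ ⊗[k] A) := by
  have hA₁ : SGA3b.IsMultTypeConst k₁ (k₁ ⊗[k] A) := isMultTypeConst_baseChange k A k₁ h
  have hκ₁ : Submodule.span κ {x : κ ⊗[k₁] (k₁ ⊗[k] A) | IsGroupLikeElem κ x} = ⊤ :=
    span_isGroupLikeElem_of_equiv (BCB.cancelBC k k₁ κ A).symm hκ
  exact isDiagFT_of_pinsep k₁ κ (k₁ ⊗[k] A) hA₁ hκ₁

/-- A group of multiplicative type and of finite type over a field is split by a finite separable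
extension. -/
theorem exists_finite_separable_isDiagFT (h : SGA3b.IsMultTypeConst k A) :
    ∃ (k' : Type u) (_ : Field k') (_ : Algebra k k'), Module.Finite k k' ∧
      Algebra.IsSeparable k k' ∧ SGA3b.IsDiagFT k' (k' ⊗[k] A) := by
  obtain ⟨K, _, _, hD⟩ := BCB.exists_field_isDiag k A h
  have hK : Submodule.span K {g : K ⊗[k] A | IsGroupLikeElem K g} = ⊤ := by
    obtain ⟨M, _, ⟨e⟩⟩ := hD
    exact span_isGroupLikeElem_of_equiv e.symm MonoidAlgebra.span_isGroupLikeElem
  obtain ⟨κ, _, _, hfin, hκ⟩ := exists_finite_field_span_eq_top A hK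
  haveI := hfin
  haveI : IsPurelyInseparable (separableClosure k κ) κ := separableClosure.isPurelyInseparable k κ
  exact ⟨separableClosure k κ, inferInstance, inferInstance, inferInstance, inferInstance,
    isDiagFT_of_tower k A (separableClosure k κ) κ h hκ⟩

end Main

end Groth.Agent.Lib.Seat23.SplitSep
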