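import Groth.Agent.Lib.Seat23HomLocusInst

/-!
# Seat23TorusMono — a monomorphism of tori of the same rank is an isomorphism (helper23)

Namespace `Groth.Agent.Lib.Seat23.TorusMono`.

* `isIso_of_mono_split`: over a one-point affine base, a monomorphic homomorphism between two groups both isomorphic to
  `D(ℤ^r)` is an isomorphism.
* `isIso_of_forall_fibre`: a homomorphism `u : G ⟶ H` of groups of multiplicative type (`H` of finite type) all of
  whose fibres are isomorphisms is an isomorphism.
-/

set_option autoImplicit false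
universe u
open CategoryTheory MonoidalCategory CartesianMonoidalCategory MonObj GrpObj AlgebraicGeometry
open CategoryTheory.Limits MorphismProperty
open Groth.Agent.Lib.Seat23 Groth.Agent.Lib.Seat23.FpqcBase Groth.Agent.Lib.Seat23.FpqcCover
open Groth.Agent.Lib.Seat23.HomLocus Groth.Agent.Lib.Seat23.HomLocusInst
open Groth.Agent.Lib.Seat23.HomLocal Groth.Agent.Lib.Seat23.DSmapProps

namespace Groth.Agent.Lib.Seat23.TorusMono

/-- over a one-point affine base, a monomorphic homomorphism `D(ℤ^r) ⟶ D(ℤ^r)` is an isomorphism. -/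
theorem isIso_of_mono_DS {Ω : Scheme.{u}} [IsAffine Ω] [Nonempty Ω] (hsub : ∀ x y : Ω, x = y) (r : ℕ)
    (w : Red.DS Ω (Fin r → ℤ) ⟶ Red.DS Ω (Fin r → ℤ)) [IsMonHom w] [Mono w] : IsIso w := by
  have hN : AddGroup.FG (Fin r → ℤ) := Module.Finite.iff_addGroup_fg.mp inferInstance
  obtain ⟨E, φ, ht, hEq⟩ := exists_eq_DSmap_near w hN (Classical.arbitrary Ω)
  have hw : w = Red.DSmap Ω φ := by
    have := hEq (Red.DS Ω (Fin r → ℤ)) (𝟙 _) (by
      rintro _ ⟨x, rfl⟩
      have hx := hsub ((Red.DS Ω (Fin r → ℤ)).hom.base x) (Classical.arbitrary Ω)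
      rw [hx]
      exact ht)
    rwa [Category.id_comp, Category.id_comp] at this
  have hmono : Mono (Red.DSmap Ω φ).left := by
    rw [← hw]
    infer_instance
  have hsurj : Function.Surjective φ := surjective_of_mono_left φ hmono
  have hinj : Function.Injective φ :=
    OrzechProperty.injective_of_surjective_endomorphism φ.toIntLinearMap hsurj
  have h1 : IsIso (Red.DSmap Ω φ).left := isIso_left_of_bijective Ω φ ⟨hinj, hsurj⟩
  have h2 : IsIso ((Over.forget Ω).map w) := by
    rw [hw]
    exact h1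
  exact isIso_of_reflects_iso w (Over.forget Ω)

/-- over a one-point affine base, a monomorphic homomorphism between split tori of the same rank is an isomorphism. -/
theorem isIso_of_mono_split {Ω : Scheme.{u}} [IsAffine Ω] [Nonempty Ω] (hsub : ∀ x y : Ω, x = y)
    {A B : Over Ω} [GrpObj A] [GrpObj B] (r : ℕ)
    (eA : Grp.mk A ≅ Grp.mk (Red.DS Ω (Fin r → ℤ))) (eB : Grp.mk B ≅ Grp.mk (Red.DS Ω (Fin r → ℤ)))
    (v : A ⟶ B) [IsMonHom v] [Mono v] : IsIso v := by
  let a : Red.DS Ω (Fin r → ℤ) ≅ A := ⟨eA.inv.hom.hom, eA.hom.hom.hom,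
    congrArg (fun k => k.hom.hom) eA.inv_hom_id, congrArg (fun k => k.hom.hom) eA.hom_inv_id⟩
  let b : B ≅ Red.DS Ω (Fin r → ℤ) := ⟨eB.hom.hom.hom, eB.inv.hom.hom,
    congrArg (fun k => k.hom.hom) eB.hom_inv_id, congrArg (fun k => k.hom.hom) eB.inv_hom_id⟩
  have ha : IsMonHom a.hom := by
    change IsMonHom eA.inv.hom.hom
    infer_instance
  have hb : IsMonHom b.hom := by
    change IsMonHom eB.hom.hom.hom
    infer_instance
  have hw : IsIso (a.hom ≫ v ≫ b.hom) := isIso_of_mono_DS hsub r (a.hom ≫ v ≫ b.hom)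
  have hv : v = a.inv ≫ (a.hom ≫ v ≫ b.hom) ≫ b.inv := by
    simp
  rw [hv]
  infer_instance

section Global

variable {S : Scheme.{u}} {G H : Over S} [GrpObj G] [GrpObj H]

set_option backward.isDefEq.respectTransparency.types false in
/-- a homomorphism of groups of multiplicative type all of whose geometric fibres are isomorphisms is an
isomorphism. -/
theorem isIso_of_forall_geomFibre
    (hG : TwC.Locally S TwC.Topology.fpqc (fun S' g => ∃ (M : Type) (_ : AddCommGroup M),
      Nonempty (Grp.mk (Red.bc g G) ≅ Grp.mk (Red.DS S' M))))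
    (hH : SGA3x.IsMultTypeFT H) (u : G ⟶ H) [IsMonHom u]
    (hfib : ∀ s : S, IsIso ((Over.pullback (Red.geomPt s)).map u)) : IsIso u := by
  obtain ⟨U, hUc, hU1, hU2⟩ := iso_locus G H hG hH u
  have hall : ∀ s : S, s ∈ U := by
    intro s
    rw [hU1 s]
    have h1 : PP (isomorphisms Scheme.{u}) u (Red.geomPt s) :=
      Functor.map_isIso (Over.forget _) ((Over.pullback (Red.geomPt s)).map u)
    exact PP.of_comp (P := isomorphisms Scheme.{u}) (@Surjective ⊓ @Flat ⊓ @QuasiCompact)
      (fpqc_specMap_field (algebraMap (S.residueField s) (AlgebraicClosure (S.residueField s)))) h1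
  have hU : U = ⊤ := by
    ext x
    simp [hall x]
  subst hU
  have h2 : PP (isomorphisms Scheme.{u}) u ((⊤ : S.Opens).ι) := hU2
  have hiso : IsIso (⊤ : S.Opens).ι := (inferInstance : IsIso (Scheme.topIso S).hom)
  have h3 := h2.comp (CategoryTheory.inv (⊤ : S.Opens).ι)
  rw [pp_congr (IsIso.inv_hom_id (⊤ : S.Opens).ι)] at h3
  have h4 : IsIso ((Over.forget S).map ((Over.pullback (𝟙 S)).map u)) := h3
  have h5 : IsIso ((Over.pullback (𝟙 S)).map u) := isIso_of_reflects_iso _ (Over.forget S)
  exact (NatIso.isIso_map_iff (Over.pullbackId (X := S)) u).mp h5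

end Global

end Groth.Agent.Lib.Seat23.TorusMono
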