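import Groth.Agent.Lib.Seat23IntData
import Groth.Agent.Lib.Seat23QuotTower

/-!
# Seat23Tower: lifting homomorphisms into a group with an invariant integral along a tower of
infinitesimal thickenings of the base

* `lift_step`: a comultiplicative algebra map `C → (A ⧸ J) ⊗ T₁` lifts to a comultiplicative
  algebra map `C → (A ⧸ J') ⊗ T₁` when `J' ≤ J`, `J * J ≤ J'` and `C` is formally smooth
  (comultiplicativity is expressed by `IntData.defect` for the base change of the averaging data);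
* `exists_tower`: the resulting compatible tower for a sequence of ideals;
* `xBase`, `defect_xBase`: a bialgebra map `φ₀` over `A ⧸ I` gives a comultiplicative start;
* `exists_tower_of_bialgHom`: the tower `x k : C → (A ⧸ I^(k+1)) ⊗ B` over `φ₀`.
-/

set_option autoImplicit false

namespace Groth.Agent.Lib.Seat23.Tower

open TensorProduct WithConv Groth.Agent.Lib.Seat23 Groth.Agent.Lib.Seat23.ConvInt
  Groth.Agent.Lib.Seat23.LiftHom Groth.Agent.Lib.Seat23.LiftSmooth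
  Groth.Agent.Lib.Seat23.QuotTower Groth.Agent.Lib.Seat23.IntData Groth.Agent.Lib.Helper25
  Groth.Agent.Lib.Seat23.QuotBC

section Step

variable {A : Type*} [CommRing A] {T₁ T₂ T₃ : Type*} [CommRing T₁] [CommRing T₂] [CommRing T₃]
  [Algebra A T₁] [Algebra A T₂] [Algebra A T₃] (𝒟 : IntData A T₁ T₂ T₃)
  {C : Type*} [CommRing C] [HopfAlgebra A C]

theorem qMapAlg_comp_bcAlg {J J' : Ideal A} (h : J' ≤ J) {T T' : Type*} [CommRing T] [CommRing T']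
    [Algebra A T] [Algebra A T'] (u : T →ₐ[A] T') :
    (qMapAlg h T').comp (bcAlg (A ⧸ J') u) = (bcAlg (A ⧸ J) u).comp (qMapAlg h T) := by
  apply Algebra.TensorProduct.ext'
  intro s t
  simp [bcAlg, qMapAlg]

/-- naturality of the defect under the transition maps. -/
theorem push_qMapAlg_defect {J J' : Ideal A} (h : J' ≤ J)
    (y : WithConv (C →ₗ[A] (A ⧸ J') ⊗[A] T₁)) :
    push (qMapAlg h T₂).toLinearMap ((𝒟.baseChange (A ⧸ J')).defect y) =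
      (𝒟.baseChange (A ⧸ J)).defect (push (qMapAlg h T₁).toLinearMap y) := by
  unfold defect
  rw [push_sub, push_mul]
  simp only [push_push]
  have e1 : (qMapAlg h T₂).toLinearMap ∘ₗ (𝒟.baseChange (A ⧸ J')).cΔ.toLinearMap =
      (𝒟.baseChange (A ⧸ J)).cΔ.toLinearMap ∘ₗ (qMapAlg h T₁).toLinearMap :=
    congrArg AlgHom.toLinearMap (qMapAlg_comp_bcAlg h 𝒟.cΔ)
  have e2 : (qMapAlg h T₂).toLinearMap ∘ₗ (𝒟.baseChange (A ⧸ J')).i1.toLinearMap =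
      (𝒟.baseChange (A ⧸ J)).i1.toLinearMap ∘ₗ (qMapAlg h T₁).toLinearMap :=
    congrArg AlgHom.toLinearMap (qMapAlg_comp_bcAlg h 𝒟.i1)
  have e3 : (qMapAlg h T₂).toLinearMap ∘ₗ (𝒟.baseChange (A ⧸ J')).i2.toLinearMap =
      (𝒟.baseChange (A ⧸ J)).i2.toLinearMap ∘ₗ (qMapAlg h T₁).toLinearMap :=
    congrArg AlgHom.toLinearMap (qMapAlg_comp_bcAlg h 𝒟.i2)
  rw [e1, e2, e3]

variable [Algebra.FormallySmooth A C]

/-- One step of the tower: lifting a comultiplicative map along a square-zero thickening of the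
base. -/
theorem lift_step {J J' : Ideal A} (h : J' ≤ J) (hsq : J * J ≤ J')
    (x : C →ₐ[A] (A ⧸ J) ⊗[A] T₁) (hx : (𝒟.baseChange (A ⧸ J)).defect (gh x) = 0) :
    ∃ x' : C →ₐ[A] (A ⧸ J') ⊗[A] T₁, (∀ c, qMapAlg h T₁ (x' c) = x c) ∧
      (𝒟.baseChange (A ⧸ J')).defect (gh x') = 0 := by
  -- lift as an algebra map
  let g : C →ₐ[A] (A ⧸ J') ⊗[A] T₁ := Algebra.FormallySmooth.liftOfSurjective x (qMapAlg h T₁)
    (qMapAlg_surjective h T₁) (isNilpotent_ker_qMapAlg h T₁ hsq)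
  have hg : ∀ c, qMapAlg h T₁ (g c) = x c := fun c =>
    Algebra.FormallySmooth.liftOfSurjective_apply x (qMapAlg h T₁)
      (qMapAlg_surjective h T₁) (isNilpotent_ker_qMapAlg h T₁ hsq) c
  have hgx : push (qMapAlg h T₁).toLinearMap (gh g) = gh x := by
    apply WithConv.ext
    ext c
    exact hg c
  -- its defect lies in `J`
  have hdef : IsIn J ((𝒟.baseChange (A ⧸ J')).defect (gh g)) := by
    intro c
    rw [← qMap_eq_zero_iff h, ← qMapAlg_apply]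
    have := congrArg (fun y : WithConv (C →ₗ[A] (A ⧸ J) ⊗[A] T₂) => y c)
      (push_qMapAlg_defect 𝒟 h (gh g))
    rw [hgx, hx] at this
    exact this
  have hJ2₁ : J ^ 2 • (⊤ : Submodule A ((A ⧸ J') ⊗[A] T₁)) = ⊥ := by
    rw [pow_two]
    exact smul_top_quot_tensor_of_le J' T₁ hsq
  have hJ2₂ : J ^ 2 • (⊤ : Submodule A ((A ⧸ J') ⊗[A] T₂)) = ⊥ := by
    rw [pow_two]
    exact smul_top_quot_tensor_of_le J' T₂ hsq
  obtain ⟨x', hx'g, hx'0⟩ :=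
    (𝒟.baseChange (A ⧸ J')).exists_comul 2 J hJ2₁ hJ2₂ g hdef
  refine ⟨x', fun c => ?_, hx'0⟩
  rw [← hg c, ← sub_eq_zero, ← map_sub, qMapAlg_apply, qMap_eq_zero_iff]
  exact hx'g c

end Step

section TowerSec

variable {A : Type*} [CommRing A] {T₁ T₂ T₃ : Type*} [CommRing T₁] [CommRing T₂] [CommRing T₃]
  [Algebra A T₁] [Algebra A T₂] [Algebra A T₃] (𝒟 : IntData A T₁ T₂ T₃)
  {C : Type*} [CommRing C] [HopfAlgebra A C] [Algebra.FormallySmooth A C]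
  (J : ℕ → Ideal A)

/-- the recursive construction of the tower. -/
noncomputable def towerAux (hle : ∀ k, J (k + 1) ≤ J k) (hsq : ∀ k, J k * J k ≤ J (k + 1))
    (x₀ : {x : C →ₐ[A] (A ⧸ J 0) ⊗[A] T₁ // (𝒟.baseChange (A ⧸ J 0)).defect (gh x) = 0}) :
    ∀ k, {x : C →ₐ[A] (A ⧸ J k) ⊗[A] T₁ // (𝒟.baseChange (A ⧸ J k)).defect (gh x) = 0}
  | 0 => x₀
  | k + 1 =>
    ⟨Classical.choose (lift_step 𝒟 (hle k) (hsq k) (towerAux hle hsq x₀ k).1 (towerAux hle hsq x₀ k).2),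
      (Classical.choose_spec
        (lift_step 𝒟 (hle k) (hsq k) (towerAux hle hsq x₀ k).1 (towerAux hle hsq x₀ k).2)).2⟩

/-- A compatible tower of comultiplicative maps over a tower of square-zero thickenings. -/
theorem exists_tower (hle : ∀ k, J (k + 1) ≤ J k) (hsq : ∀ k, J k * J k ≤ J (k + 1))
    (x₀ : C →ₐ[A] (A ⧸ J 0) ⊗[A] T₁)
    (hx₀ : (𝒟.baseChange (A ⧸ J 0)).defect (gh x₀) = 0) :
    ∃ x : ∀ k, C →ₐ[A] (A ⧸ J k) ⊗[A] T₁, x 0 = x₀ ∧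
      (∀ k c, qMapAlg (hle k) T₁ (x (k + 1) c) = x k c) ∧
      ∀ k, (𝒟.baseChange (A ⧸ J k)).defect (gh (x k)) = 0 := by
  refine ⟨fun k => (towerAux 𝒟 J hle hsq ⟨x₀, hx₀⟩ k).1, rfl, ?_, fun k =>
    (towerAux 𝒟 J hle hsq ⟨x₀, hx₀⟩ k).2⟩
  intro k c
  exact (Classical.choose_spec (lift_step 𝒟 (hle k) (hsq k)
    (towerAux 𝒟 J hle hsq ⟨x₀, hx₀⟩ k).1 (towerAux 𝒟 J hle hsq ⟨x₀, hx₀⟩ k).2)).1 c

end TowerSec

section Base

variable {A : Type*} [CommRing A] (I : Ideal A) {B : Type*} [CommRing B] [Bialgebra A B]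
  {C : Type*} [CommRing C] [HopfAlgebra A C]

/-- the start of the tower. -/
noncomputable def xBase (φ₀ : ((A ⧸ I) ⊗[A] C) →ₐc[A ⧸ I] ((A ⧸ I) ⊗[A] B)) :
    C →ₐ[A] (A ⧸ I) ⊗[A] B :=
  ((φ₀ : ((A ⧸ I) ⊗[A] C) →ₐ[A ⧸ I] ((A ⧸ I) ⊗[A] B)).restrictScalars A).comp
    Algebra.TensorProduct.includeRight

theorem xBase_apply (φ₀ : ((A ⧸ I) ⊗[A] C) →ₐc[A ⧸ I] ((A ⧸ I) ⊗[A] B)) (c : C) :
    xBase I φ₀ c = φ₀ ((1 : A ⧸ I) ⊗ₜ[A] c) := rfl

/-- the comparison map `S ⊗ (B ⊗ B) → (S ⊗ B) ⊗[S] (S ⊗ B)`. -/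
noncomputable def cmp : (A ⧸ I) ⊗[A] (B ⊗[A] B) →ₗ[A]
    ((A ⧸ I) ⊗[A] B) ⊗[A ⧸ I] ((A ⧸ I) ⊗[A] B) :=
  ((bcMap2 (A ⧸ I) B).liftBaseChange (A ⧸ I)).restrictScalars A

theorem cmp_one_tmul (w : B ⊗[A] B) : cmp I ((1 : A ⧸ I) ⊗ₜ[A] w) = bcMap2 (A ⧸ I) B w := by
  simp [cmp]

theorem cmp_injective : Function.Injective (cmp I (B := B)) := by
  rw [injective_iff_map_eq_zero]
  intro z hz
  obtain ⟨w, rfl⟩ := exists_one_tmul I z
  rw [cmp_one_tmul] at hz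
  exact (one_tmul_eq_zero_iff I w).mpr (mem_smul_top_of_bcMap2_eq_zero I B w hz)

theorem cmp_cΔ (y : (A ⧸ I) ⊗[A] B) :
    cmp I (bcAlg (A ⧸ I) (LiftHom.cΔ A B) y) = CoalgebraStruct.comul (R := A ⧸ I) y := by
  obtain ⟨b, rfl⟩ := exists_one_tmul I y
  rw [comul_one_tmul]
  simp [bcAlg, cmp_one_tmul, cΔ_apply]

theorem cmp_mul (y y' : (A ⧸ I) ⊗[A] B) :
    cmp I (bcAlg (A ⧸ I) (LiftHom.i1 A B) y * bcAlg (A ⧸ I) (LiftHom.i2 A B) y') =
      y ⊗ₜ[A ⧸ I] y' := by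
  obtain ⟨b, rfl⟩ := exists_one_tmul I y
  obtain ⟨b', rfl⟩ := exists_one_tmul I y'
  simp [bcAlg, LiftHom.i1, LiftHom.i2, cmp_one_tmul, bcMap2_tmul]

theorem defect_xBase (l : B →ₗ[A] A) (hl1 : l 1 = 1)
    (hinv : ∀ a : B, TensorProduct.rid A B
      (LinearMap.lTensor B l (CoalgebraStruct.comul (R := A) a)) = l a • (1 : B))
    (φ₀ : ((A ⧸ I) ⊗[A] C) →ₐc[A ⧸ I] ((A ⧸ I) ⊗[A] B)) :
    ((IntData.ofBialgebra l hl1 hinv).baseChange (A ⧸ I)).defect (gh (xBase I φ₀)) = 0 := by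
  apply WithConv.ext
  ext c
  apply cmp_injective I
  change cmp I (bcAlg (A ⧸ I) (LiftHom.cΔ A B) (xBase I φ₀ c) -
    LinearMap.mul' A _ (TensorProduct.map
      ((bcAlg (A ⧸ I) (LiftHom.i1 A B)).toLinearMap ∘ₗ (xBase I φ₀).toLinearMap)
      ((bcAlg (A ⧸ I) (LiftHom.i2 A B)).toLinearMap ∘ₗ (xBase I φ₀).toLinearMap)
      (CoalgebraStruct.comul (R := A) c))) = cmp I 0
  rw [map_zero, map_sub, cmp_cΔ]
  have hΨ : ∀ w : C ⊗[A] C, cmp I (LinearMap.mul' A _ (TensorProduct.map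
      ((bcAlg (A ⧸ I) (LiftHom.i1 A B)).toLinearMap ∘ₗ (xBase I φ₀).toLinearMap)
      ((bcAlg (A ⧸ I) (LiftHom.i2 A B)).toLinearMap ∘ₗ (xBase I φ₀).toLinearMap) w)) =
      TensorProduct.map (φ₀ : (A ⧸ I) ⊗[A] C →ₗ[A ⧸ I] (A ⧸ I) ⊗[A] B)
        (φ₀ : (A ⧸ I) ⊗[A] C →ₗ[A ⧸ I] (A ⧸ I) ⊗[A] B) (bcMap2 (A ⧸ I) C w) := by
    intro w
    induction w using TensorProduct.induction_on with
    | zero => simp
    | tmul x y =>
      rw [TensorProduct.map_tmul, LinearMap.mul'_apply, LinearMap.comp_apply, LinearMap.comp_apply,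
        AlgHom.toLinearMap_apply, AlgHom.toLinearMap_apply, AlgHom.toLinearMap_apply,
        AlgHom.toLinearMap_apply, cmp_mul, bcMap2_tmul, TensorProduct.map_tmul]
      rfl
    | add x y hx hy => simp only [map_add, hx, hy]
  rw [hΨ, ← comul_one_tmul, xBase_apply, sub_eq_zero]
  exact (CoalgHomClass.map_comp_comul_apply φ₀ _).symm

end Base

section Main

variable {A : Type*} [CommRing A] (I : Ideal A) {B : Type*} [CommRing B] [Bialgebra A B]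
  {C : Type*} [CommRing C] [HopfAlgebra A C] [Algebra.FormallySmooth A C]

theorem pow_succ_succ_le (k : ℕ) : I ^ (k + 1 + 1) ≤ I ^ (k + 1) :=
  Ideal.pow_le_pow_right (Nat.le_succ _)

theorem pow_succ_le_self (k : ℕ) : I ^ (k + 1) ≤ I :=
  Ideal.pow_le_self (Nat.succ_ne_zero k)

/-- The tower of comultiplicative algebra maps over a bialgebra map modulo `I`. -/
theorem exists_tower_of_bialgHom (l : B →ₗ[A] A) (hl1 : l 1 = 1)
    (hinv : ∀ a : B, TensorProduct.rid A B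
      (LinearMap.lTensor B l (CoalgebraStruct.comul (R := A) a)) = l a • (1 : B))
    (φ₀ : ((A ⧸ I) ⊗[A] C) →ₐc[A ⧸ I] ((A ⧸ I) ⊗[A] B)) :
    ∃ x : ∀ k, C →ₐ[A] (A ⧸ I ^ (k + 1)) ⊗[A] B,
      (∀ c, qMapAlg (pow_succ_le_self I 0) B (x 0 c) = φ₀ ((1 : A ⧸ I) ⊗ₜ[A] c)) ∧
      (∀ k c, qMapAlg (pow_succ_succ_le I k) B (x (k + 1) c) = x k c) ∧
      ∀ k, ((IntData.ofBialgebra l hl1 hinv).baseChange (A ⧸ I ^ (k + 1))).defect (gh (x k)) = 0 := by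
  obtain ⟨y, hy, hy0⟩ := lift_step (IntData.ofBialgebra l hl1 hinv) (pow_succ_le_self I 0)
    (by rw [zero_add, pow_one]; exact Ideal.mul_le_right) (xBase I φ₀) (defect_xBase I l hl1 hinv φ₀)
  obtain ⟨x, hx0, hx1, hx2⟩ := exists_tower (IntData.ofBialgebra l hl1 hinv)
    (fun k => I ^ (k + 1)) (pow_succ_succ_le I)
    (fun k => by
      rw [← pow_add]
      exact Ideal.pow_le_pow_right (by omega)) y hy0
  refine ⟨x, fun c => ?_, hx1, hx2⟩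
  rw [hx0, hy c, xBase_apply]

end Main

end Groth.Agent.Lib.Seat23.Tower
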