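import Mathlib.AlgebraicGeometry.Noetherian
import Mathlib.AlgebraicGeometry.Morphisms.ClosedImmersion
import Mathlib.AlgebraicGeometry.Morphisms.QuasiCompact
import Mathlib.AlgebraicGeometry.Morphisms.QuasiFinite
import Mathlib.AlgebraicGeometry.Morphisms.LocalFlatDescent
import Mathlib.AlgebraicGeometry.Morphisms.FlatDescent
import Mathlib.AlgebraicGeometry.PullbackCarrier
import Mathlib.AlgebraicGeometry.Morphisms.Etale
import Mathlib.RingTheory.Unramified.LocalStructure
import Mathlib.AlgebraicGeometry.Limits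
import Mathlib.Topology.NoetherianSpace
import Mathlib.Topology.Connected.Clopen

/-!
# Clopen subschemes of (locally) constant schemes over a locally Noetherian base (helper23)

* `exists_open_nhd_forall_clopen`: a point with a Noetherian open neighbourhood has an open neighbourhood whose
  points are not separated from it by any clopen set.
* Structure of `q : Z' ⟶ S'` with a pairwise disjoint open cover `O j` of `Z'` on which `q` is an open and
  closed immersion (`E q O j` = image of the `j`-th sheet): `fibre_finite_iff`, `exists_open_nhd_const`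
  (the set of sheets over a point is locally constant), `quasiCompact_of_forall_finite`.
* Fibres of a base change: `finite_fibre_of_finite_fibre_snd`, `finite_fibre_snd_of_finite_fibre`.
* `of_fppf_cover`: fppf descent onto the open image (adaptation of helper27's `of_fpqc_cover`).
* `exists_pieces`: the sheets of the base change of a clopen subscheme of `P` along `f` with `P_f` constant.
-/

set_option autoImplicit false
universe u
open CategoryTheory CategoryTheory.Limits AlgebraicGeometry TopologicalSpace Set MorphismProperty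

namespace Groth.Agent.Lib.Seat23.TwConstClopen

/-- In a Noetherian space every point has an open neighbourhood all of whose points lie on a common
irreducible component with it; in particular clopen sets do not separate them. -/
theorem exists_open_nhd_forall_clopen_noeth {X : Type*} [TopologicalSpace X] [NoetherianSpace X]
    (x : X) : ∃ C : Set X, IsOpen C ∧ x ∈ C ∧ ∀ E : Set X, IsClopen E → ∀ c ∈ C, (c ∈ E ↔ x ∈ E) := by
  classical
  let B : Set (Set X) := {Y ∈ irreducibleComponents X | x ∉ Y}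
  have hBfin : B.Finite := NoetherianSpace.finite_irreducibleComponents.subset (fun Y hY => hY.1)
  have hBcl : IsClosed (⋃₀ B) := by
    rw [Set.sUnion_eq_biUnion]
    exact hBfin.isClosed_biUnion (fun Y hY => isClosed_of_mem_irreducibleComponents Y hY.1)
  refine ⟨(⋃₀ B)ᶜ, hBcl.isOpen_compl, ?_, ?_⟩
  · rintro ⟨Y, hY, hxY⟩
    exact hY.2 hxY
  · intro E hE c hc
    have hcY : c ∈ irreducibleComponent c := mem_irreducibleComponent
    have hxY : x ∈ irreducibleComponent c := by
      by_contra hx
      exact hc ⟨irreducibleComponent c, ⟨irreducibleComponent_mem_irreducibleComponents c, hx⟩, hcY⟩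
    have hpre : IsPreconnected (irreducibleComponent c) :=
      isIrreducible_irreducibleComponent.isPreirreducible.isPreconnected
    constructor
    · intro hcE
      exact hpre.subset_isClopen hE ⟨c, hcY, hcE⟩ hxY
    · intro hxE
      exact hpre.subset_isClopen hE ⟨x, hxY, hxE⟩ hcY

/-- Same on a space in which the point has a Noetherian open neighbourhood. -/
theorem exists_open_nhd_forall_clopen {X : Type*} [TopologicalSpace X] (x : X) (A : Set X)
    (hA : IsOpen A) (hxA : x ∈ A) [NoetherianSpace A] :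
    ∃ C : Set X, IsOpen C ∧ x ∈ C ∧ C ⊆ A ∧ ∀ E : Set X, IsClopen E → ∀ c ∈ C, (c ∈ E ↔ x ∈ E) := by
  obtain ⟨C, hC, hxC, h⟩ := exists_open_nhd_forall_clopen_noeth (⟨x, hxA⟩ : A)
  refine ⟨Subtype.val '' C, hA.isOpenMap_subtype_val C hC, ⟨_, hxC, rfl⟩, ?_, ?_⟩
  · rintro _ ⟨c, -, rfl⟩; exact c.2
  · rintro E hE _ ⟨c, hc, rfl⟩
    exact h (Subtype.val ⁻¹' E) (hE.preimage continuous_subtype_val) c hc

theorem locallyQuasiFinite_of_etale {X Y : Scheme.{u}} (f : X ⟶ Y) [Etale f] :
    LocallyQuasiFinite f := by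
  refine ⟨fun {U} hU {V} hV e => ?_⟩
  have h := HasRingHomProperty.appLE @Etale f inferInstance ⟨U, hU⟩ ⟨V, hV⟩ e
  algebraize [(f.appLE U V e).hom]
  have : Algebra.Etale Γ(Y, U) Γ(X, V) := h
  rw [← RingHom.algebraMap_toAlgebra (f.appLE U V e).hom, RingHom.quasiFinite_algebraMap]
  infer_instance

theorem exists_affine_nhd {X : Scheme.{u}} (x : X) : ∃ A : X.Opens, IsAffineOpen A ∧ x ∈ A := by
  obtain ⟨_, ⟨A, hA, rfl⟩, hsA, -⟩ :=
    X.isBasis_affineOpens.exists_subset_of_mem_open (Set.mem_univ x) isOpen_univ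
  exact ⟨A, hA, hsA⟩

section Structure

variable {Z' S' : Scheme.{u}} (q : Z' ⟶ S') {ι : Type*} (O : ι → Z'.Opens)

/-- The image of the `j`-th piece. -/
def E (j : ι) : Set S' := Set.range ((O j).ι ≫ q).base

theorem isClopen_E (j : ι) [IsClosedImmersion ((O j).ι ≫ q)] [IsOpenImmersion ((O j).ι ≫ q)] :
    IsClopen (E q O j) :=
  ⟨((O j).ι ≫ q).isClosedEmbedding.isClosed_range, ((O j).ι ≫ q).isOpenEmbedding.isOpen_range⟩

theorem mem_E_iff (j : ι) (s' : S') : s' ∈ E q O j ↔ ∃ w ∈ O j, q.base w = s' := by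
  constructor
  · rintro ⟨w, rfl⟩
    exact ⟨(O j).ι.base w, w.2, rfl⟩
  · rintro ⟨w, hw, rfl⟩
    exact ⟨⟨w, hw⟩, rfl⟩

open scoped Function in
theorem fibre_finite_iff (hO : iSup O = ⊤) (hdisj : Pairwise (Disjoint on O))
    (hcl : ∀ j, IsClosedImmersion ((O j).ι ≫ q)) (s' : S') :
    (q.base ⁻¹' {s'}).Finite ↔ {j | s' ∈ E q O j}.Finite := by
  classical
  have hcov : ∀ w : Z', ∃ j, w ∈ O j := by
    intro w
    have : w ∈ (⊤ : Z'.Opens) := trivial
    rwa [← hO, Opens.mem_iSup] at this
  choose idx hidx using hcov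
  have huniq : ∀ w j, w ∈ O j → idx w = j := by
    intro w j hj
    by_contra hne
    exact (disjoint_iff.mp (hdisj hne)).le ⟨hidx w, hj⟩
  constructor
  · intro hfin
    refine (hfin.image idx).subset ?_
    intro j hj
    obtain ⟨w, hw, hqw⟩ := (mem_E_iff q O j s').mp hj
    exact ⟨w, hqw, huniq w j hw⟩
  · intro hfin
    refine Set.Finite.of_finite_image (f := idx) (hfin.subset ?_) ?_
    · rintro _ ⟨w, hw, rfl⟩
      exact (mem_E_iff q O _ s').mpr ⟨w, hidx w, hw⟩
    · intro w hw w' hw' hidxeq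
      have h1 := hidx w
      have h2 := hidx w'
      rw [← hidxeq] at h2
      have := hcl (idx w)
      have hinj := ((O (idx w)).ι ≫ q).isClosedEmbedding.injective
      have : (⟨w, h1⟩ : O (idx w)) = ⟨w', h2⟩ := by
        apply hinj
        change q.base w = q.base w'
        rw [hw, hw']
      exact congrArg Subtype.val this

/-- The set of sheets over a point is locally constant. -/
theorem exists_open_nhd_const [IsLocallyNoetherian S']
    (hcl : ∀ j, IsClosedImmersion ((O j).ι ≫ q)) (hop : ∀ j, IsOpenImmersion ((O j).ι ≫ q))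
    (s' : S') : ∃ C : S'.Opens, s' ∈ C ∧ ∀ c ∈ C, ∀ j, (c ∈ E q O j ↔ s' ∈ E q O j) := by
  obtain ⟨A, hA, hsA⟩ := exists_affine_nhd s'
  have : IsNoetherianRing Γ(S', A) := IsLocallyNoetherian.component_noetherian ⟨A, hA⟩
  have : NoetherianSpace ((A : Set S') : Type _) := noetherianSpace_of_isAffineOpen A hA
  obtain ⟨C, hC, hsC, -, h⟩ := exists_open_nhd_forall_clopen s' (A : Set S') A.2 hsA
  refine ⟨⟨C, hC⟩, hsC, fun c hc j => ?_⟩
  have := hcl j
  have := hop j
  exact h _ (isClopen_E q O j) c hc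

theorem quasiCompact_of_forall_finite [IsLocallyNoetherian S'] (hO : iSup O = ⊤)
    (hcl : ∀ j, IsClosedImmersion ((O j).ι ≫ q)) (hop : ∀ j, IsOpenImmersion ((O j).ι ≫ q))
    (hfin : ∀ s' : S', {j | s' ∈ E q O j}.Finite) : QuasiCompact q := by
  rw [quasiCompact_iff_forall_isAffineOpen]
  intro A hA
  choose C hsC hC using exists_open_nhd_const q O hcl hop
  obtain ⟨t, ht⟩ := hA.isCompact.elim_finite_subcover (fun a : S' => (C a : Set S'))
    (fun a => (C a).2) (fun a _ => Set.mem_iUnion.mpr ⟨a, hsC a⟩)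
  let F : Set ι := ⋃ a ∈ t, {j | a ∈ E q O j}
  have hF : F.Finite := t.finite_toSet.biUnion (fun a _ => hfin a)
  have hsub : (q ⁻¹ᵁ A : Set Z') ⊆
      ⋃ j ∈ F, (O j).ι.base '' (((O j).ι ≫ q).base ⁻¹' (A : Set S')) := by
    intro w hw
    have hwtop : w ∈ (⊤ : Z'.Opens) := trivial
    rw [← hO, Opens.mem_iSup] at hwtop
    obtain ⟨j, hj⟩ := hwtop
    have hqw : q.base w ∈ (A : Set S') := hw
    obtain ⟨a, ha⟩ := Set.mem_iUnion.mp (ht hqw)
    obtain ⟨hat, hwa⟩ := Set.mem_iUnion.mp ha
    have hjE : q.base w ∈ E q O j := (mem_E_iff q O j _).mpr ⟨w, hj, rfl⟩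
    have hjF : j ∈ F := by
      refine Set.mem_iUnion₂.mpr ⟨a, hat, ?_⟩
      exact (hC a (q.base w) hwa j).mp hjE
    refine Set.mem_iUnion₂.mpr ⟨j, hjF, ⟨⟨w, hj⟩, ?_, rfl⟩⟩
    exact hqw
  have hcomp : IsCompact (⋃ j ∈ F, (O j).ι.base '' (((O j).ι ≫ q).base ⁻¹' (A : Set S'))) := by
    refine hF.isCompact_biUnion (fun j _ => ?_)
    have := hcl j
    exact (((O j).ι ≫ q).isClosedEmbedding.isCompact_preimage hA.isCompact).image
      (O j).ι.continuous
  have hsup : (⋃ j ∈ F, (O j).ι.base '' (((O j).ι ≫ q).base ⁻¹' (A : Set S'))) ⊆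
      (q ⁻¹ᵁ A : Set Z') := by
    intro w hw
    obtain ⟨j, -, ⟨w', hw', rfl⟩⟩ := Set.mem_iUnion₂.mp hw
    exact hw'
  rw [hsub.antisymm hsup]
  exact hcomp

end Structure

section Fibre

variable {Z S S' : Scheme.{u}} (g : Z ⟶ S) (f : S' ⟶ S)

theorem finite_fibre_of_finite_fibre_snd (s' : S')
    (h : ((pullback.snd g f).base ⁻¹' {s'}).Finite) : (g.base ⁻¹' {f.base s'}).Finite := by
  refine (h.image (pullback.fst g f).base).subset ?_
  intro y hy
  obtain ⟨w, hw1, hw2⟩ := Scheme.Pullback.exists_preimage_pullback (f := g) (g := f) y s' hy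
  exact ⟨w, hw2, hw1⟩

theorem finite_fibre_snd_of_finite_fibre [IsLocallyNoetherian S'] [LocallyQuasiFinite f] (s' : S')
    (h : (g.base ⁻¹' {f.base s'}).Finite) : ((pullback.snd g f).base ⁻¹' {s'}).Finite := by
  obtain ⟨A, hA, hsA⟩ := exists_affine_nhd s'
  have : IsNoetherianRing Γ(S', A) := IsLocallyNoetherian.component_noetherian ⟨A, hA⟩
  have : NoetherianSpace (A : Scheme.{u}) := noetherianSpace_of_isAffineOpen A hA
  let fA : (A : Scheme.{u}) ⟶ S := A.ι ≫ f
  have hfin := (pullback.fst g fA).finite_preimage h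
  let m : pullback g fA ⟶ pullback g f :=
    pullback.lift (pullback.fst g fA) (pullback.snd g fA ≫ A.ι)
      (by rw [Category.assoc]; exact pullback.condition)
  have hm1 : m ≫ pullback.fst g f = pullback.fst g fA := pullback.lift_fst _ _ _
  have hm2 : m ≫ pullback.snd g f = pullback.snd g fA ≫ A.ι := pullback.lift_snd _ _ _
  have hpb : IsPullback m (pullback.snd g fA) (pullback.snd g f) A.ι := by
    refine IsPullback.of_right ?_ hm2 (IsPullback.of_hasPullback g f)
    rw [hm1]
    exact IsPullback.of_hasPullback g fA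
  refine (hfin.image m.base).subset ?_
  intro w hw
  obtain ⟨w', hw'1, hw'2⟩ := Scheme.exists_preimage_of_isPullback hpb w ⟨s', hsA⟩ hw
  refine ⟨w', ?_, hw'1⟩
  change g.base ((pullback.fst g fA).base w') = f.base s'
  have e1 : (pullback.fst g fA).base w' = (pullback.fst g f).base w := by
    rw [← hm1, Scheme.Hom.comp_base, TopCat.comp_app, hw'1]
  have e2 : g.base ((pullback.fst g f).base w) = f.base ((pullback.snd g f).base w) := by
    have := congrArg (fun φ : pullback g f ⟶ S => φ.base w) (pullback.condition (f := g) (g := f))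
    simpa using this
  rw [e1, e2]
  congr 1

end Fibre

/-- fppf-local descent onto the (open) image: adaptation of helper27's `of_fpqc_cover`. -/
theorem of_fppf_cover (P : MorphismProperty Scheme.{u}) [IsZariskiLocalAtTarget P]
    [P.DescendsAlong (@Surjective ⊓ @Flat ⊓ @LocallyOfFinitePresentation)]
    {X S S' : Scheme.{u}} (g : X ⟶ S) (f : S' ⟶ S) [Flat f] [LocallyOfFinitePresentation f]
    (V : S.Opens) (hV : (V : Set S) = Set.range f.base)
    (h : P (pullback.snd g f)) : P (g ∣_ V) := by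
  let W : S'.Opens := ⊤
  have hle : W ≤ f ⁻¹ᵁ V := by
    intro w _
    change f.base w ∈ (V : Set S)
    rw [hV]
    exact ⟨w, rfl⟩
  have hsurj : Surjective (f.resLE V W hle) := by
    constructor
    rintro ⟨v, hv⟩
    have hv' : v ∈ Set.range f.base := by rw [← hV]; exact hv
    obtain ⟨w, rfl⟩ := hv'
    refine ⟨⟨w, trivial⟩, ?_⟩
    apply Subtype.ext
    have := congrArg (fun φ : (W : Scheme.{u}) ⟶ S => φ.base ⟨w, trivial⟩)
      (Scheme.Hom.resLE_comp_ι f hle)
    exact this
  refine of_isPullback_of_descendsAlong (P := P)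
    (Q := @Surjective ⊓ @Flat ⊓ @LocallyOfFinitePresentation)
    (IsPullback.of_hasPullback (g ∣_ V) (f.resLE V W hle)).flip
    ⟨⟨hsurj, inferInstance⟩, inferInstance⟩ ?_
  have hbig : IsPullback (pullback.fst (g ∣_ V) (f.resLE V W hle) ≫ (g ⁻¹ᵁ V).ι)
      (pullback.snd (g ∣_ V) (f.resLE V W hle)) g (W.ι ≫ f) := by
    have h1 := (IsPullback.of_hasPullback (g ∣_ V) (f.resLE V W hle)).flip
    have h2 := isPullback_morphismRestrict g V
    have := h1.paste_vert h2
    rw [Scheme.Hom.resLE_comp_ι] at this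
    exact this.flip
  have hcomm : (pullback.fst (g ∣_ V) (f.resLE V W hle) ≫ (g ⁻¹ᵁ V).ι) ≫ g =
      (pullback.snd (g ∣_ V) (f.resLE V W hle) ≫ W.ι) ≫ f := by
    rw [Category.assoc, Category.assoc]; exact hbig.w
  have hleft : IsPullback (pullback.lift _ _ hcomm) (pullback.snd (g ∣_ V) (f.resLE V W hle))
      (pullback.snd g f) W.ι := by
    refine IsPullback.of_right ?_ (pullback.lift_snd _ _ _) (IsPullback.of_hasPullback g f)
    rw [pullback.lift_fst]
    exact hbig
  exact IsZariskiLocalAtTarget.of_isPullback hleft h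

open scoped Function in
/-- The sheets of the base change of a clopen subscheme `Z` of `P` along `f`, when `P_f` is constant. -/
theorem exists_pieces {S S' : Scheme.{u}} (P : Over S) {Z : Scheme.{u}} (z : Z ⟶ P.left)
    [IsOpenImmersion z] [IsClosedImmersion z] (f : S' ⟶ S) (I : Type u)
    (e : (Over.pullback f).obj P ≅ Over.mk (Sigma.desc fun _ : I => 𝟙 S')) :
    ∃ O : I → (pullback (z ≫ P.hom) f).Opens, iSup O = ⊤ ∧ Pairwise (Disjoint on O) ∧
      (∀ j, IsClosedImmersion ((O j).ι ≫ pullback.snd (z ≫ P.hom) f)) ∧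
      (∀ j, IsOpenImmersion ((O j).ι ≫ pullback.snd (z ≫ P.hom) f)) := by
  set g : Z ⟶ S := z ≫ P.hom with hg
  let z' : pullback g f ⟶ pullback P.hom f :=
    pullback.lift (pullback.fst g f ≫ z) (pullback.snd g f)
      (by rw [Category.assoc]; exact pullback.condition)
  have hz'1 : z' ≫ pullback.fst P.hom f = pullback.fst g f ≫ z := pullback.lift_fst _ _ _
  have hz'2 : z' ≫ pullback.snd P.hom f = pullback.snd g f := pullback.lift_snd _ _ _
  have hz' : IsPullback z' (pullback.fst g f) (pullback.fst P.hom f) z := by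
    refine IsPullback.of_right ?_ hz'1 (IsPullback.of_hasPullback P.hom f).flip
    rw [hz'2]
    exact (IsPullback.of_hasPullback g f).flip
  have hcl : IsClosedImmersion z' := MorphismProperty.of_isPullback hz'.flip ‹IsClosedImmersion z›
  have hop : IsOpenImmersion z' := MorphismProperty.of_isPullback hz'.flip ‹IsOpenImmersion z›
  let G : I → Scheme.{u} := fun _ => S'
  let i : pullback g f ⟶ ∐ G := z' ≫ e.hom.left
  let d : (∐ G) ⟶ S' := Sigma.desc (fun _ : I => 𝟙 S')
  have hi : i ≫ d = pullback.snd g f := by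
    have hw := Over.w e.hom
    simp only [i, Category.assoc]
    rw [← hz'2]
    congr 1
  have hiso : IsIso e.hom.left := inferInstanceAs (IsIso ((CategoryTheory.Over.forget _).map e.hom))
  have hicl : IsClosedImmersion i := inferInstanceAs (IsClosedImmersion (z' ≫ e.hom.left))
  have hiop : IsOpenImmersion i := inferInstanceAs (IsOpenImmersion (z' ≫ e.hom.left))
  refine ⟨fun j => i ⁻¹ᵁ (Sigma.ι G j).opensRange, ?_, ?_, ?_⟩
  · have h1 : ⨆ j, (Sigma.ι G j).opensRange = ⊤ := (sigmaOpenCover G).iSup_opensRange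
    rw [← Scheme.Hom.preimage_iSup, h1]
    rfl
  · intro j k hjk
    have h2 := disjoint_opensRange_sigmaι G j k hjk
    change Disjoint (i ⁻¹ᵁ (Sigma.ι G j).opensRange) (i ⁻¹ᵁ (Sigma.ι G k).opensRange)
    rw [disjoint_iff, ← Scheme.Hom.preimage_inf, disjoint_iff.mp h2]
    rfl
  · have key : ∀ j, (i ⁻¹ᵁ (Sigma.ι G j).opensRange).ι ≫ pullback.snd g f =
        (i ∣_ (Sigma.ι G j).opensRange) ≫ (Sigma.ι G j).isoOpensRange.inv := by
      intro j
      rw [← hi, ← Category.assoc, ← morphismRestrict_ι, Category.assoc]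
      congr 1
      have : (Sigma.ι G j).opensRange.ι = (Sigma.ι G j).isoOpensRange.inv ≫ Sigma.ι G j :=
        (Scheme.Hom.isoOpensRange_inv_comp _).symm
      rw [this, Category.assoc]
      simp only [d, Sigma.ι_desc]
      exact Category.comp_id _
    constructor
    · intro j
      rw [key j]
      infer_instance
    · intro j
      rw [key j]
      infer_instance

end Groth.Agent.Lib.Seat23.TwConstClopen
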