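import Mathlib.AlgebraicGeometry.ZariskisMainTheorem
import Mathlib.AlgebraicGeometry.ValuativeCriterion
import Mathlib.AlgebraicGeometry.Limits

/-!
# Morphisms that are closed immersions on the pieces of a disjoint open cover (helper23)

`h : W ⟶ U` quasi-compact, `O j` pairwise disjoint opens covering `W` with every `(O j).ι ≫ h` a closed
immersion.  Then `h` is affine, satisfies the existence part of the valuative criterion, and is finite
(`isFinite_of_disjoint_cover`, through Zariski's main theorem in the form proper + locally quasi-finite).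
Application (`isFinite_comp_sigmaDesc`): a closed subscheme of a constant scheme `∐_I U` which is
quasi-compact over `U` is finite over `U`.
-/

set_option autoImplicit false
universe u v
open CategoryTheory CategoryTheory.Limits AlgebraicGeometry MorphismProperty TopologicalSpace

namespace Groth.Agent.Lib.Seat23.TwConstFinite

variable {W U : Scheme.{u}} (h : W ⟶ U) {ι : Type*} (O : ι → W.Opens)

open scoped Function in
theorem isAffineHom_of_disjoint_cover [QuasiCompact h] (hO : iSup O = ⊤)
    (hdisj : Pairwise (Disjoint on O))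
    (hcl : ∀ j, IsClosedImmersion ((O j).ι ≫ h)) : IsAffineHom h := by
  refine ⟨fun V hV => ?_⟩
  have hc : IsCompact (h ⁻¹ᵁ V : Set W) := h.isCompact_preimage hV.isCompact
  obtain ⟨F, hF⟩ := hc.elim_finite_subcover (fun j => (O j : Set W)) (fun j => (O j).2)
    (by rw [← Opens.coe_iSup, hO]; simp)
  have e1 : h ⁻¹ᵁ V = ⨆ j ∈ (F : Set ι), (h ⁻¹ᵁ V ⊓ O j) := by
    apply le_antisymm
    · intro x hx
      obtain ⟨j, hj⟩ := Set.mem_iUnion.mp (hF hx)
      obtain ⟨hjF, hxj⟩ := Set.mem_iUnion.mp hj
      simp only [Opens.mem_iSup]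
      exact ⟨j, hjF, hx, hxj⟩
    · exact iSup₂_le fun j _ => inf_le_left
  rw [e1]
  apply IsAffineOpen.biSup_of_disjoint F.finite_toSet
  · intro j _
    have e2 : h ⁻¹ᵁ V ⊓ O j = (O j).ι ''ᵁ (((O j).ι ≫ h) ⁻¹ᵁ V) := by
      rw [Scheme.Hom.comp_preimage, Scheme.Hom.image_preimage_eq_opensRange_inf,
        Scheme.Opens.opensRange_ι, inf_comm]
    rw [e2]
    have := hcl j
    exact (hV.preimage ((O j).ι ≫ h)).image_of_isOpenImmersion (O j).ι
  · intro i _ j _ hij
    exact (hdisj hij).mono inf_le_right inf_le_right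

theorem existence_of_cover (hO : iSup O = ⊤)
    (hcl : ∀ j, IsClosedImmersion ((O j).ι ≫ h)) : ValuativeCriterion.Existence h := by
  intro S
  let x₀ : Spec (.of S.K) := (⊥ : PrimeSpectrum S.K)
  have hx : S.i₁.base x₀ ∈ (⊤ : W.Opens) := trivial
  rw [← hO, Opens.mem_iSup] at hx
  obtain ⟨j, hj⟩ := hx
  have hr : Set.range S.i₁.base ⊆ Set.range (O j).ι.base := by
    rintro _ ⟨y, rfl⟩
    have : y = x₀ := Subsingleton.elim (α := PrimeSpectrum S.K) _ _
    rw [this, Scheme.Opens.range_ι]
    exact hj
  let i₁' : Spec (.of S.K) ⟶ (O j : Scheme.{u}) := IsOpenImmersion.lift (O j).ι S.i₁ hr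
  have hi₁' : i₁' ≫ (O j).ι = S.i₁ := IsOpenImmersion.lift_fac _ _ _
  have := hcl j
  have hex : ValuativeCriterion.Existence ((O j).ι ≫ h) := by
    have : UniversallyClosed ((O j).ι ≫ h) := inferInstance
    rw [UniversallyClosed.eq_valuativeCriterion] at this
    exact this.1
  let S' : ValuativeCommSq ((O j).ι ≫ h) :=
    { R := S.R, K := S.K, i₁ := i₁', i₂ := S.i₂
      commSq := ⟨by rw [← Category.assoc, hi₁']; exact S.commSq.w⟩ }
  obtain ⟨⟨l⟩⟩ := hex S'
  exact ⟨⟨⟨l.l ≫ (O j).ι, by rw [← Category.assoc, l.fac_left, hi₁'],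
    by rw [Category.assoc]; exact l.fac_right⟩⟩⟩

set_option backward.isDefEq.respectTransparency.types false in
open scoped Function in
/-- A quasi-compact morphism which restricts to a closed immersion on every member of a pairwise
disjoint open cover of its source is finite. -/
theorem isFinite_of_disjoint_cover [QuasiCompact h] (hO : iSup O = ⊤)
    (hdisj : Pairwise (Disjoint on O))
    (hcl : ∀ j, IsClosedImmersion ((O j).ι ≫ h)) : IsFinite h := by
  have : IsAffineHom h := isAffineHom_of_disjoint_cover h O hO hdisj hcl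
  have : LocallyOfFiniteType h :=
    IsZariskiLocalAtSource.of_iSup_eq_top O hO (fun j => by have := hcl j; infer_instance)
  have : LocallyQuasiFinite h :=
    IsZariskiLocalAtSource.of_iSup_eq_top O hO (fun j => by have := hcl j; infer_instance)
  have : UniversallyClosed h :=
    UniversallyClosed.of_valuativeCriterion h (existence_of_cover h O hO hcl)
  have : IsProper h := {}
  exact IsFinite.of_isProper_of_locallyQuasiFinite h

open scoped Function in
/-- A closed subscheme `W` of a coproduct `∐ g`, mapped to `U` through `d : ∐ g ⟶ U` which is a closed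
immersion (e.g. an isomorphism) on every summand: if `W ⟶ U` is quasi-compact then it is finite. -/
theorem isFinite_comp_of_sigma {σ : Type v} [Small.{u} σ] (g : σ → Scheme.{u}) {W U : Scheme.{u}}
    (i : W ⟶ ∐ g) [IsClosedImmersion i] (d : (∐ g) ⟶ U)
    (hd : ∀ j, IsClosedImmersion (Sigma.ι g j ≫ d)) [QuasiCompact (i ≫ d)] :
    IsFinite (i ≫ d) := by
  refine isFinite_of_disjoint_cover (i ≫ d) (fun j => i ⁻¹ᵁ (Sigma.ι g j).opensRange) ?_ ?_ ?_
  · have h1 : ⨆ j, (Sigma.ι g j).opensRange = ⊤ := (sigmaOpenCover g).iSup_opensRange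
    rw [← Scheme.Hom.preimage_iSup, h1]
    rfl
  · intro j k hjk
    have h2 := disjoint_opensRange_sigmaι g j k hjk
    change Disjoint (i ⁻¹ᵁ (Sigma.ι g j).opensRange) (i ⁻¹ᵁ (Sigma.ι g k).opensRange)
    rw [disjoint_iff, ← Scheme.Hom.preimage_inf, disjoint_iff.mp h2]
    rfl
  · intro j
    have := hd j
    have e : (i ⁻¹ᵁ (Sigma.ι g j).opensRange).ι ≫ i ≫ d =
        (i ∣_ (Sigma.ι g j).opensRange) ≫ (Sigma.ι g j).isoOpensRange.inv ≫ Sigma.ι g j ≫ d := by
      rw [← Category.assoc, ← morphismRestrict_ι, Category.assoc]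
      congr 1
      rw [← Category.assoc, Scheme.Hom.isoOpensRange_inv_comp]
    rw [e]
    infer_instance

end Groth.Agent.Lib.Seat23.TwConstFinite
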