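import Groth.Agent.S5266
import Groth.Agent.Lib.Seat23TwConstClopen

/-!
# Isotrivial twisted constant schemes are unions of clopen finite pieces (helper23)

`exists_clopen_finite_nhd`: `R` an `S`-scheme, `f : S' ⟶ S` finite étale surjective such that `R` becomes constant over the
members of a clopen cover of `S'`.  Then every point of `R` has a clopen neighbourhood finite over `S`: the image in `R` of a
sheet of `R ×_S U'` (the projection to `R` is finite étale, hence open and closed), which is quasi-compact over `S`, hence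
finite by S5266.  Also `quasiCompact_of_surjective_comp`.
-/

set_option autoImplicit false
universe u
open CategoryTheory CategoryTheory.Limits AlgebraicGeometry TopologicalSpace Set MorphismProperty

namespace Groth.Agent.Lib.Seat23.TwConstIsotriv

open Groth.Agent.Lib.Seat23.TwConstClopen

theorem quasiCompact_of_surjective_comp {X Y Z : Scheme.{u}} (t : X ⟶ Y) (h : Y ⟶ Z)
    (ht : Function.Surjective t.base) [QuasiCompact (t ≫ h)] : QuasiCompact h := by
  refine ⟨fun K hKo hKc => ?_⟩
  have h1 : IsCompact ((t ≫ h).base ⁻¹' K) := QuasiCompact.isCompact_preimage (f := t ≫ h) K hKo hKc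
  have h2 : h.base ⁻¹' K = t.base '' ((t ≫ h).base ⁻¹' K) := by
    ext y
    constructor
    · intro hy
      obtain ⟨x, rfl⟩ := ht y
      exact ⟨x, hy, rfl⟩
    · rintro ⟨x, hx, rfl⟩
      exact hx
  rw [h2]
  exact h1.image t.continuous

set_option backward.isDefEq.respectTransparency.types false in
/-- Isotrivial (for one finite étale surjective cover, piecewise constant on clopen pieces) twisted constant
schemes are unions of clopen subschemes finite over the base. -/
theorem exists_clopen_finite_nhd {S : Scheme.{u}} (R : Over S) (S' : Scheme.{u}) (f : S' ⟶ S)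
    [IsFinite f] [Etale f] [Surjective f]
    (hloc : ∀ s' : S', ∃ U' : S'.Opens, s' ∈ U' ∧ IsClosed (U' : Set S') ∧
      ∃ I : Type u, Nonempty (Red.bc (U'.ι ≫ f) R ≅ TwC.const U' I)) (x : R.left) :
    ∃ U : R.left.Opens, x ∈ U ∧ IsClosed (U : Set R.left) ∧ IsFinite (U.ι ≫ R.hom) := by
  have hfpqc : TwC.IsTwConst TwC.Topology.fpqc R := by
    refine ⟨S', f, inferInstance, inferInstance, ?_, ?_⟩
    · intro V hV
      refine ⟨f ⁻¹ᵁ V, (hV.preimage f).isCompact, ?_⟩
      exact Set.image_preimage_eq _ f.surjective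
    · intro s'
      obtain ⟨U', hs', -, I, he⟩ := hloc s'
      exact ⟨U', hs', I, he⟩
  obtain ⟨s', hs'⟩ := f.surjective (R.hom.base x)
  obtain ⟨U', hs'U, hU'cl, I, ⟨e⟩⟩ := hloc s'
  have hιcl : IsClosedImmersion U'.ι :=
    .of_isPreimmersion _ (by rw [Scheme.Opens.range_ι]; exact hU'cl)
  set φ : (U' : Scheme.{u}) ⟶ S := U'.ι ≫ f with hφ
  have hg : 𝟙 R.left ≫ R.hom = R.hom := Category.id_comp _
  let g : R.left ⟶ S := 𝟙 R.left ≫ R.hom
  obtain ⟨O, hO, hdisj, hcl, hop⟩ : ∃ O : I → (pullback g φ).Opens, iSup O = ⊤ ∧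
      Pairwise (Function.onFun Disjoint O) ∧
      (∀ j, IsClosedImmersion ((O j).ι ≫ pullback.snd g φ)) ∧
      (∀ j, IsOpenImmersion ((O j).ι ≫ pullback.snd g φ)) := exists_pieces R (𝟙 R.left) φ I e
  obtain ⟨w, hw1, hw2⟩ := Scheme.Pullback.exists_preimage_pullback (f := g) (g := φ) x ⟨s', hs'U⟩
    (by change (𝟙 R.left ≫ R.hom).base x = _; rw [hg]; exact hs'.symm)
  have hwtop : w ∈ (⊤ : (pullback g φ).Opens) := trivial
  rw [← hO, Opens.mem_iSup] at hwtop
  obtain ⟨m, hm⟩ := hwtop
  -- the sheet is closed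
  have hOcl : IsClosed (O m).1 := by
    have : (O m).1 = (⋃ j ∈ {j | j ≠ m}, (O j).1)ᶜ := by
      ext y
      simp only [Set.mem_compl_iff, Set.mem_iUnion, not_exists]
      constructor
      · intro hy j hj hyj
        exact (disjoint_iff.mp (hdisj hj)).le ⟨hyj, hy⟩
      · intro hy
        have hytop : y ∈ (⊤ : (pullback g φ).Opens) := trivial
        rw [← hO, Opens.mem_iSup] at hytop
        obtain ⟨j, hj⟩ := hytop
        by_cases hjm : j = m
        · exact hjm ▸ hj
        · exact absurd hj (hy j hjm)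
    rw [this]
    exact (isOpen_biUnion fun j _ => (O j).2).isClosed_compl
  let U : R.left.Opens := ⟨(pullback.fst g φ).base '' (O m).1,
    (pullback.fst g φ).isOpenMap _ (O m).2⟩
  have hUcl : IsClosed (U : Set R.left) := (pullback.fst g φ).isClosedMap _ hOcl
  refine ⟨U, ⟨w, hm, hw1⟩, hUcl, ?_⟩
  have hUιcl : IsClosedImmersion U.ι :=
    .of_isPreimmersion _ (by rw [Scheme.Opens.range_ι]; exact hUcl)
  -- the sheet surjects onto `U`
  have hr : Set.range ((O m).ι ≫ pullback.fst g φ).base ⊆ Set.range U.ι.base := by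
    rintro _ ⟨y, rfl⟩
    rw [Scheme.Opens.range_ι]
    exact ⟨y.1, y.2, rfl⟩
  let t : (O m : Scheme.{u}) ⟶ (U : Scheme.{u}) :=
    IsOpenImmersion.lift U.ι ((O m).ι ≫ pullback.fst g φ) hr
  have ht : t ≫ U.ι = (O m).ι ≫ pullback.fst g φ := IsOpenImmersion.lift_fac _ _ _
  have htsurj : Function.Surjective t.base := by
    rintro ⟨y, w', hw', rfl⟩
    refine ⟨⟨w', hw'⟩, ?_⟩
    apply Subtype.ext
    have := congrArg (fun ψ : (O m : Scheme.{u}) ⟶ R.left => ψ.base ⟨w', hw'⟩) ht
    exact this
  have hcomp : t ≫ U.ι ≫ R.hom = ((O m).ι ≫ pullback.snd g φ) ≫ φ := by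
    rw [← Category.assoc, ht, Category.assoc, Category.assoc, ← pullback.condition]
    congr 2
  have hqc : QuasiCompact (U.ι ≫ R.hom) := by
    have := hcl m
    have : QuasiCompact (t ≫ U.ι ≫ R.hom) := by
      rw [hcomp]; infer_instance
    exact quasiCompact_of_surjective_comp t _ htsurj
  exact Groth.Agent.S5266.main R hfpqc U.ι

end Groth.Agent.Lib.Seat23.TwConstIsotriv
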