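import Mathlib.AlgebraicGeometry.Morphisms.Flat
import Mathlib.AlgebraicGeometry.Stalk
import Mathlib.AlgebraicGeometry.Properties
import Mathlib.AlgebraicGeometry.Noetherian
import Mathlib.Topology.NoetherianSpace
import Mathlib.RingTheory.Flat.FaithfullyFlat.Basic

/-!
# Local integrality descends along faithfully flat morphisms (seat 94)
-/

set_option autoImplicit false
open CategoryTheory AlgebraicGeometry TopologicalSpace
universe u

namespace Groth.Agent.Lib.Seat94.LocIntegral

/-- in a Noetherian space, a point lying on a single irreducible component has an irreducible open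
neighbourhood. -/
theorem exists_open_preirreducible {T : Type*} [TopologicalSpace T] [NoetherianSpace T] (y : T)
    (huniq : ∀ Z₁ ∈ irreducibleComponents T, ∀ Z₂ ∈ irreducibleComponents T,
      y ∈ Z₁ → y ∈ Z₂ → Z₁ = Z₂) :
    ∃ U : Set T, IsOpen U ∧ y ∈ U ∧ IsPreirreducible U := by
  have hfin : (irreducibleComponents T).Finite := NoetherianSpace.finite_irreducibleComponents
  set S : Set (Set T) := {Z | Z ∈ irreducibleComponents T ∧ y ∉ Z} with hS
  have hSfin : S.Finite := hfin.subset fun Z hZ => hZ.1
  have hC : IsClosed (⋃₀ S) := by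
    rw [Set.sUnion_eq_biUnion]
    exact hSfin.isClosed_biUnion fun Z hZ => isClosed_of_mem_irreducibleComponents Z hZ.1
  refine ⟨(⋃₀ S)ᶜ, hC.isOpen_compl, ?_, ?_⟩
  · rintro ⟨Z, hZ, hyZ⟩
    exact hZ.2 hyZ
  · have hsub : (⋃₀ S)ᶜ ⊆ irreducibleComponent y := by
      intro x hx
      by_cases hyx : y ∈ irreducibleComponent x
      · have := huniq _ (irreducibleComponent_mem_irreducibleComponents x) _
          (irreducibleComponent_mem_irreducibleComponents y) hyx mem_irreducibleComponent
        rw [← this]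
        exact mem_irreducibleComponent
      · exact absurd ⟨irreducibleComponent x,
          ⟨irreducibleComponent_mem_irreducibleComponents x, hyx⟩, mem_irreducibleComponent⟩ hx
    exact isIrreducible_irreducibleComponent.isPreirreducible.open_subset hC.isOpen_compl hsub

/-- in a scheme, a point whose local ring is a domain lies on a single irreducible component. -/
theorem eq_of_mem_irreducibleComponents_of_isDomain_stalk (T : Scheme.{u}) (y : T)
    [IsDomain (T.presheaf.stalk y)] {Z₁ Z₂ : Set T} (h₁ : Z₁ ∈ irreducibleComponents T)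
    (h₂ : Z₂ ∈ irreducibleComponents T) (hy₁ : y ∈ Z₁) (hy₂ : y ∈ Z₂) : Z₁ = Z₂ := by
  let ξ₀ : PrimeSpectrum (T.presheaf.stalk y) := ⟨⊥, Ideal.isPrime_bot⟩
  let ξ : T := (T.fromSpecStalk y) ξ₀
  have key : ∀ Z ∈ irreducibleComponents T, y ∈ Z → Z = closure {ξ} := by
    intro Z hZ hyZ
    have hZcl : IsClosed Z := isClosed_of_mem_irreducibleComponents Z hZ
    have hZirr : IsIrreducible Z := hZ.1
    have hgen := hZirr.isGenericPoint_genericPoint hZcl
    set η := hZirr.genericPoint with hη
    have hηy : η ⤳ y := hgen.specializes hyZ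
    have hmem : η ∈ Set.range (T.fromSpecStalk y) := by
      rw [Scheme.range_fromSpecStalk]; exact hηy
    obtain ⟨q, hq⟩ := hmem
    have hle : ξ₀ ≤ (q : PrimeSpectrum (T.presheaf.stalk y)) := by
      change (⊥ : Ideal _) ≤ _
      exact bot_le
    have hspec : ξ ⤳ η := by
      rw [← hq]
      exact ((PrimeSpectrum.le_iff_specializes _ _).1 hle).map (T.fromSpecStalk y).continuous
    have hsub : Z ⊆ closure {ξ} := by
      rw [← hgen.def]
      exact hspec.closure_subset
    exact le_antisymm hsub (hZ.2 isIrreducible_singleton.closure hsub)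
  rw [key Z₁ h₁ hy₁, key Z₂ h₂ hy₂]

/-- the target of a flat morphism has a domain as local ring at `f x` if the source has one at
`x`. -/
theorem isDomain_stalk_of_flat {X Y : Scheme.{u}} (f : X ⟶ Y) [Flat f] (x : X)
    [IsDomain (X.presheaf.stalk x)] : IsDomain (Y.presheaf.stalk (f x)) := by
  have hflat : (f.stalkMap x).hom.Flat := Flat.stalkMap f x
  algebraize [(f.stalkMap x).hom]
  have : IsLocalHom (algebraMap (Y.presheaf.stalk (f x)) (X.presheaf.stalk x)) :=
    inferInstanceAs (IsLocalHom (f.stalkMap x).hom)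
  have : Module.FaithfullyFlat (Y.presheaf.stalk (f x)) (X.presheaf.stalk x) :=
    Module.FaithfullyFlat.of_flat_of_isLocalHom
  have hinj : Function.Injective (algebraMap (Y.presheaf.stalk (f x)) (X.presheaf.stalk x)) :=
    FaithfulSMul.algebraMap_injective _ _
  exact hinj.isDomain _

/-- **Local integrality descends along faithfully flat morphisms** (target with locally
Noetherian underlying space). -/
theorem exists_isIntegral_nhd {X Y : Scheme.{u}} (f : X ⟶ Y) [Flat f] [Surjective f]
    (hX : ∀ x : X, IsDomain ↑(X.presheaf.stalk x))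
    (hY : ∀ y : Y, ∃ U : Y.Opens, y ∈ U ∧ TopologicalSpace.NoetherianSpace ↥U) (y : Y) :
    ∃ U : Y.Opens, y ∈ U ∧ IsIntegral (U : Scheme.{u}) := by
  have hdom : ∀ y : Y, IsDomain (Y.presheaf.stalk y) := by
    intro y
    obtain ⟨x, rfl⟩ := f.surjective y
    have := hX x
    exact isDomain_stalk_of_flat f x
  have : IsReduced Y := isReduced_of_isReduced_stalk Y
  obtain ⟨N, hyN, hN⟩ := hY y
  let y' : N.toScheme := ⟨y, hyN⟩
  have hdom' : IsDomain (N.toScheme.presheaf.stalk y') := by
    have e := (asIso (N.ι.stalkMap y')).commRingCatIsoToRingEquiv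
    have := hdom (N.ι y')
    exact e.symm.toMulEquiv.isDomain _
  have : NoetherianSpace N.toScheme := hN
  obtain ⟨U', hU'open, hyU', hU'irr⟩ := exists_open_preirreducible y'
    (fun Z₁ h₁ Z₂ h₂ hy₁ hy₂ =>
      eq_of_mem_irreducibleComponents_of_isDomain_stalk N.toScheme y' h₁ h₂ hy₁ hy₂)
  let U : Y.Opens := N.ι ''ᵁ ⟨U', hU'open⟩
  have hyU : y ∈ U := ⟨y', hyU', rfl⟩
  refine ⟨U, hyU, ?_⟩
  have hirr : IsIrreducible (U : Set Y) := by
    refine ⟨⟨y, hyU⟩, ?_⟩
    exact hU'irr.image _ N.ι.continuous.continuousOn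
  have : IrreducibleSpace (U : Scheme.{u}) := Subtype.irreducibleSpace hirr
  exact isIntegral_of_irreducibleSpace_of_isReduced _

end Groth.Agent.Lib.Seat94.LocIntegral
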