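import Groth.Prelude.Def_TwC
import Groth.Prelude.Def_ActBC
import Groth.Agent.Lib.Seat94LocIntegral
import Groth.Agent.Lib.Seat23TwConstClopen
import Groth.Agent.Lib.Helper3IrrTopB
import Mathlib.AlgebraicGeometry.Limits
import Mathlib.AlgebraicGeometry.PullbackCarrier
import Mathlib.AlgebraicGeometry.Morphisms.Etale
import Mathlib.AlgebraicGeometry.Morphisms.LocalFlatDescent
import Mathlib.AlgebraicGeometry.Noetherian
import Mathlib.AlgebraicGeometry.Restrict
import Mathlib.Topology.Connected.Clopen

/-!
# Twisted constant schemes over a geometrically unibranch base (helper23)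

Namespace `Groth.Agent.Lib.Seat23.TwConstUnibranch`.

* `constBcIso`: the base change of a constant scheme `I_{S'}` along `h : T ⟶ S'` is the constant scheme `I_T`
  (`sheet`, `isPullback_sheet`, `isIso_sigmaDesc_sheet`).
* `isTwConst_etale_bc`: quasi-isotrivial twisted constant schemes are stable under arbitrary base change.
* `etale_of_isTwConst`: a quasi-isotrivial twisted constant scheme is etale over the base.
* locally Noetherian schemes whose local rings all have prime nilradical:
  `eq_of_mem_irreducibleComponents_of_nilradical`, `exists_open_preirreducible_nhd`,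
  `isOpen_of_mem_irreducibleComponents`, `connectedComponent_eq_irreducibleComponent`,
  `isOpen_connectedComponent`, `isIrreducible_connectedComponent`.
* `generic_fibre_subset`: a locally quasi-finite morphism of irreducible schemes has at most one point over
  the generic point.
-/

set_option autoImplicit false
universe u
open CategoryTheory CategoryTheory.Limits AlgebraicGeometry TopologicalSpace Set MorphismProperty

namespace Groth.Agent.Lib.Seat23.TwConstUnibranch


section ConstBC

variable {S' T : Scheme.{u}} (h : T ⟶ S') (I : Type u)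

/-- the `j`-th sheet of the base change of the constant scheme. -/
noncomputable def sheet (j : I) : T ⟶ pullback (Limits.Sigma.desc fun _ : I => 𝟙 S') h :=
  pullback.lift (h ≫ Limits.Sigma.ι (fun _ : I => S') j) (𝟙 T) (by simp)

@[reassoc (attr := simp)]
lemma sheet_fst (j : I) : sheet h I j ≫ pullback.fst _ _ = h ≫ Limits.Sigma.ι (fun _ : I => S') j :=
  pullback.lift_fst _ _ _

@[reassoc (attr := simp)]
lemma sheet_snd (j : I) : sheet h I j ≫ pullback.snd _ _ = 𝟙 T :=
  pullback.lift_snd _ _ _

lemma isPullback_sheet (j : I) :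
    IsPullback (sheet h I j) h (pullback.fst (Limits.Sigma.desc fun _ : I => 𝟙 S') h)
      (Limits.Sigma.ι (fun _ : I => S') j) := by
  refine IsPullback.of_right ?_ (sheet_fst h I j)
    (IsPullback.of_hasPullback (Limits.Sigma.desc fun _ : I => 𝟙 S') h).flip
  rw [sheet_snd, Limits.Sigma.ι_desc]
  exact IsPullback.of_horiz_isIso ⟨by simp⟩

instance (j : I) : IsOpenImmersion (sheet h I j) :=
  MorphismProperty.of_isPullback (P := @IsOpenImmersion) (isPullback_sheet h I j).flip inferInstance

lemma iSup_opensRange_sheet : ⨆ j, (sheet h I j).opensRange = ⊤ := by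
  rw [eq_top_iff]
  intro p _
  obtain ⟨⟨j, y⟩, hy⟩ := (sigmaMk fun _ : I => S').surjective
    ((pullback.fst (Limits.Sigma.desc fun _ : I => 𝟙 S') h).base p)
  rw [sigmaMk_mk] at hy
  obtain ⟨t, ht, -⟩ := Scheme.exists_preimage_of_isPullback (isPullback_sheet h I j) p y hy.symm
  simp only [Opens.iSup_mk, Opens.mem_mk, Set.mem_iUnion]
  exact ⟨j, t, ht⟩

open scoped Function in
lemma disjoint_opensRange_sheet : Pairwise (Disjoint on (sheet h I · |>.opensRange)) := by
  intro i j hij
  have hd := disjoint_opensRange_sigmaι (fun _ : I => S') i j hij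
  rw [Function.onFun_apply, disjoint_iff, Opens.ext_iff]
  ext p
  simp only [Opens.coe_inf, Scheme.Hom.coe_opensRange, Set.mem_inter_iff, Set.mem_range,
    Opens.coe_bot, Set.mem_empty_iff_false, iff_false, not_and, forall_exists_index]
  rintro t rfl ⟨t', ht'⟩
  have h1 : (pullback.fst (Limits.Sigma.desc fun _ : I => 𝟙 S') h).base ((sheet h I i).base t) =
      (Limits.Sigma.ι (fun _ : I => S') i).base (h.base t) := by
    rw [← Scheme.Hom.comp_apply, sheet_fst, Scheme.Hom.comp_apply]
  have h2 : (pullback.fst (Limits.Sigma.desc fun _ : I => 𝟙 S') h).base ((sheet h I j).base t') =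
      (Limits.Sigma.ι (fun _ : I => S') j).base (h.base t') := by
    rw [← Scheme.Hom.comp_apply, sheet_fst, Scheme.Hom.comp_apply]
  rw [ht', h1] at h2
  have hmem : (Limits.Sigma.ι (fun _ : I => S') i).base (h.base t) ∈
      ((Limits.Sigma.ι (fun _ : I => S') i).opensRange ⊓ (Limits.Sigma.ι (fun _ : I => S') j).opensRange :
        (∐ fun _ : I => S').Opens) :=
    ⟨⟨_, rfl⟩, ⟨_, h2.symm⟩⟩
  rw [disjoint_iff] at hd
  rw [hd] at hmem
  exact hmem

/-- the base change of a constant scheme is the disjoint union of its sheets. -/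
lemma isIso_sigmaDesc_sheet : IsIso (Limits.Sigma.desc (sheet h I)) := by
  have := nonempty_isColimit_cofanMk_of (sheet h I) (iSup_opensRange_sheet h I)
    (disjoint_opensRange_sheet h I)
  simpa only [Cofan.nonempty_isColimit_iff_isIso_sigmaDesc (Cofan.mk _ (sheet h I)), cofan_mk_inj,
    Cofan.mk_pt] using this

/-- the base change of a constant scheme is constant. -/
noncomputable def constBcIso : Red.bc h (TwC.const S' I) ≅ TwC.const T I :=
  haveI := isIso_sigmaDesc_sheet h I
  (CategoryTheory.Over.isoMk (asIso (Limits.Sigma.desc (sheet h I))) (by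
    apply Limits.Sigma.hom_ext
    intro j
    simp)).symm

end ConstBC

/-- quasi-isotrivial twisted constant schemes are stable under base change. -/
theorem isTwConst_etale_bc {S T : Scheme.{u}} (h : T ⟶ S) (P : Over S)
    (hP : TwC.IsTwConst TwC.Topology.etale P) : TwC.IsTwConst TwC.Topology.etale (Red.bc h P) := by
  intro t
  obtain ⟨S', f, hf, ⟨s', hs'⟩, I, ⟨e⟩⟩ := hP (h.base t)
  obtain ⟨t', -, ht'⟩ := Scheme.Pullback.exists_preimage_pullback s' t hs'
  refine ⟨pullback f h, pullback.snd f h, inferInstance, ⟨t', ht'⟩, I, ⟨?_⟩⟩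
  exact ActBC.bcCompIso (pullback.snd f h) h P (d := pullback.fst f h ≫ f) pullback.condition.symm ≪≫
    (ActBC.bcCompIso (pullback.fst f h) f P rfl).symm ≪≫
    (CategoryTheory.Over.pullback (pullback.fst f h)).mapIso e ≪≫ constBcIso (pullback.fst f h) I


section Top



theorem nilradical_isPrime_of_ringEquiv {R R' : Type*} [CommRing R] [CommRing R'] (e : R ≃+* R')
    (h : (nilradical R).IsPrime) : (nilradical R').IsPrime := by
  have : nilradical R' = Ideal.comap (e.symm : R' →+* R) (nilradical R) := by
    ext x
    simp only [mem_nilradical, Ideal.mem_comap, RingEquiv.coe_toRingHom]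
    exact ⟨fun hx => hx.map e.symm, fun hx => by simpa using hx.map e⟩
  rw [this]
  exact Ideal.comap_isPrime _ _

/-- in a scheme, a point whose local ring has prime nilradical lies on a single irreducible
component (adaptation of helper94's version for domains). -/
theorem eq_of_mem_irreducibleComponents_of_nilradical (T : Scheme.{u}) (y : T)
    (hy : (nilradical (T.presheaf.stalk y)).IsPrime) {Z₁ Z₂ : Set T}
    (h₁ : Z₁ ∈ irreducibleComponents T)
    (h₂ : Z₂ ∈ irreducibleComponents T) (hy₁ : y ∈ Z₁) (hy₂ : y ∈ Z₂) : Z₁ = Z₂ := by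
  let ξ₀ : PrimeSpectrum (T.presheaf.stalk y) := ⟨nilradical _, hy⟩
  let ξ : T := (T.fromSpecStalk y) ξ₀
  have key : ∀ Z ∈ irreducibleComponents T, y ∈ Z → Z = closure {ξ} := by
    intro Z hZ hyZ
    have hZcl : IsClosed Z := isClosed_of_mem_irreducibleComponents Z hZ
    have hZirr : IsIrreducible Z := hZ.1
    have hgen := hZirr.isGenericPoint_genericPoint hZcl
    set η := hZirr.genericPoint with hη
    have hηy : η ⤳ y := hgen.specializes hyZ
    have hmem : η ∈ Set.range (T.fromSpecStalk y) := by
      rw [Scheme.range_fromSpecStalk]; exact hηy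
    obtain ⟨q, hq⟩ := hmem
    have hle : ξ₀ ≤ (q : PrimeSpectrum (T.presheaf.stalk y)) := by
      change nilradical _ ≤ q.asIdeal
      have := q.isPrime
      exact nilradical_le_prime q.asIdeal
    have hspec : ξ ⤳ η := by
      rw [← hq]
      exact ((PrimeSpectrum.le_iff_specializes _ _).1 hle).map (T.fromSpecStalk y).continuous
    have hsub : Z ⊆ closure {ξ} := by
      rw [← hgen.def]
      exact hspec.closure_subset
    exact le_antisymm hsub (hZ.2 isIrreducible_singleton.closure hsub)
  rw [key Z₁ h₁ hy₁, key Z₂ h₂ hy₂]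

section Nil

variable {X : Scheme.{u}} [IsLocallyNoetherian X]
  (hX : ∀ x : X, (nilradical (X.presheaf.stalk x)).IsPrime)

include hX

/-- every point has a (pre)irreducible open neighbourhood. -/
theorem exists_open_preirreducible_nhd (y : X) :
    ∃ U : Set X, IsOpen U ∧ y ∈ U ∧ IsPreirreducible U := by
  obtain ⟨A, hA, hyA⟩ := Groth.Agent.Lib.Seat23.TwConstClopen.exists_affine_nhd y
  have : IsNoetherianRing Γ(X, A) := IsLocallyNoetherian.component_noetherian ⟨A, hA⟩
  have : NoetherianSpace A := noetherianSpace_of_isAffineOpen A hA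
  have hstalk : ∀ a : (A : Scheme.{u}), (nilradical ((A : Scheme.{u}).presheaf.stalk a)).IsPrime := by
    intro a
    exact nilradical_isPrime_of_ringEquiv (A.stalkIso a).commRingCatIsoToRingEquiv.symm (hX a.1)
  obtain ⟨U, hU, hyU, hUirr⟩ :=
    Groth.Agent.Lib.Seat94.LocIntegral.exists_open_preirreducible (T := (A : Scheme.{u})) ⟨y, hyA⟩
      (fun Z₁ h₁ Z₂ h₂ hy₁ hy₂ =>
        eq_of_mem_irreducibleComponents_of_nilradical (A : Scheme.{u}) ⟨y, hyA⟩ (hstalk _) h₁ h₂ hy₁ hy₂)
  refine ⟨Subtype.val '' U, A.2.isOpenMap_subtype_val U hU, ⟨_, hyU, rfl⟩, ?_⟩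
  exact hUirr.image _ continuous_subtype_val.continuousOn

/-- irreducible components are open. -/
theorem isOpen_of_mem_irreducibleComponents {Z : Set X} (hZ : Z ∈ irreducibleComponents X) :
    IsOpen Z := by
  rw [isOpen_iff_forall_mem_open]
  intro y hyZ
  obtain ⟨U, hU, hyU, hUirr⟩ := exists_open_preirreducible_nhd hX y
  refine ⟨U, ?_, hU, hyU⟩
  have hcl : IsIrreducible (closure U) := (IsIrreducible.closure ⟨⟨y, hyU⟩, hUirr⟩)
  obtain ⟨Z', hZ', hsub⟩ := exists_mem_irreducibleComponents_subset_of_isIrreducible _ hcl
  have : Z' = Z := eq_of_mem_irreducibleComponents_of_nilradical X y (hX y) hZ' hZ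
    (hsub (subset_closure hyU)) hyZ
  rw [← this]
  exact subset_closure.trans hsub

theorem connectedComponent_eq_irreducibleComponent (x : X) :
    connectedComponent x = irreducibleComponent x := by
  have hmem := irreducibleComponent_mem_irreducibleComponents x
  apply le_antisymm
  · exact IsClopen.connectedComponent_subset
      ⟨isClosed_irreducibleComponent, isOpen_of_mem_irreducibleComponents hX hmem⟩
      mem_irreducibleComponent
  · exact isIrreducible_irreducibleComponent.isPreirreducible.isPreconnected.subset_connectedComponent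
      mem_irreducibleComponent

theorem isOpen_connectedComponent (x : X) : IsOpen (connectedComponent x) := by
  rw [connectedComponent_eq_irreducibleComponent hX]
  exact isOpen_of_mem_irreducibleComponents hX (irreducibleComponent_mem_irreducibleComponents x)

theorem isIrreducible_connectedComponent (x : X) : IsIrreducible (connectedComponent x) := by
  rw [connectedComponent_eq_irreducibleComponent hX]
  exact isIrreducible_irreducibleComponent


end Nil

/-- a locally quasi-finite morphism of irreducible schemes has at most one point over the generic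
point of the target. -/
theorem generic_fibre_subset {X Y : Scheme.{u}} (f : X ⟶ Y) [LocallyQuasiFinite f]
    [IrreducibleSpace X] [IrreducibleSpace Y] :
    f.base ⁻¹' {genericPoint Y} ⊆ {genericPoint X} := by
  intro p hp
  have hp' : f.base p = genericPoint Y := hp
  have h1 : genericPoint X ⤳ p := (genericPoint_spec X).specializes (Set.mem_univ p)
  have h2 : f.base (genericPoint X) ⤳ f.base p := h1.map f.continuous
  have h3 : genericPoint Y ⤳ f.base (genericPoint X) :=
    (genericPoint_spec Y).specializes (Set.mem_univ _)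
  have h4 : f.base (genericPoint X) = f.base p := by
    rw [hp'] at h2 ⊢
    exact (h2.antisymm h3).eq
  exact (Groth.Agent.Lib.Helper3.IrrTop.eq_of_specializes_of_fiber f h1 h4).symm

end Top


set_option backward.isDefEq.respectTransparency.types false in
/-- a quasi-isotrivial twisted constant scheme is etale over the base. -/
theorem etale_of_isTwConst {S : Scheme.{u}} (P : Over S)
    (hP : TwC.IsTwConst TwC.Topology.etale P) : Etale P.hom := by
  apply IsZariskiLocalAtTarget.of_forall_exists_morphismRestrict (P := @Etale)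
  intro s
  obtain ⟨S', f, hf, hsf, I, ⟨e⟩⟩ := hP s
  let V : S.Opens := ⟨Set.range f.base, f.isOpenMap.isOpen_range⟩
  refine ⟨V, hsf, ?_⟩
  refine Groth.Agent.Lib.Seat23.TwConstClopen.of_fppf_cover @Etale P.hom f V rfl ?_
  have h1 : Etale (TwC.const S' I).hom :=
    IsZariskiLocalAtSource.sigmaDesc (P := @Etale) (fun _ => inferInstance)
  have h2 : pullback.snd P.hom f = e.hom.left ≫ (TwC.const S' I).hom := (Over.w e.hom).symm
  rw [h2]
  infer_instance


end Groth.Agent.Lib.Seat23.TwConstUnibranch
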