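import Mathlib

/-!
# `U · V = G` for opens of a group scheme which are dense in the fibres (helper24)

Adaptation of `Helper25DenseMul.exists_mul_eq_of_universallyOpen` to opens which are dense in the
fibre through the given point (no hypothesis on `G → S`).
-/

set_option autoImplicit false
universe u
open CategoryTheory CategoryTheory.Limits MonoidalCategory CartesianMonoidalCategory MonObj GrpObj
  AlgebraicGeometry

namespace Groth.Agent.Lib.Seat24.FibreDenseMul

variable {S : Scheme.{u}} (G : Over S)

/-- schematic density in the naive sense implies topological density: we only use that a nonempty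
open has nonzero sections. -/
lemma dense_of_forall_injective {X : Scheme.{u}} (U : X.Opens)
    (h : ∀ V : X.Opens, Function.Injective (X.presheaf.map (homOfLE (inf_le_left : V ⊓ U ≤ V)).op)) :
    Dense (U : Set X) := by
  rw [dense_iff_inter_open]
  intro V hVo hVne
  by_contra hcon
  have hempty : (⟨V, hVo⟩ : X.Opens) ⊓ U = ⊥ := by
    ext x
    simp only [TopologicalSpace.Opens.coe_inf, TopologicalSpace.Opens.coe_mk,
      TopologicalSpace.Opens.coe_bot, Set.mem_empty_iff_false, iff_false]
    intro hx
    exact hcon ⟨x, hx⟩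
  have hinj := h ⟨V, hVo⟩
  have hsub : Subsingleton Γ(X, (⟨V, hVo⟩ : X.Opens) ⊓ U) := by
    rw [hempty]
    infer_instance
  have h01 : (0 : Γ(X, (⟨V, hVo⟩ : X.Opens))) = 1 := hinj (Subsingleton.elim _ _)
  obtain ⟨x, hx⟩ := hVne
  have h2 := congrArg (X.presheaf.germ (⟨V, hVo⟩ : X.Opens) x hx).hom h01
  rw [map_zero, map_one] at h2
  exact zero_ne_one h2

variable [GrpObj G]

/-- `U · V ∋ g` for opens `U`, `V` of a group scheme `G` over `S` which are dense in the fibre of
`G → S` through `g`. -/
theorem exists_mul_eq_of_fibre_dense (U V : G.left.Opens) (g : G.left)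
    (hU : Dense ((pullback.fst G.hom (S.fromSpecResidueField (G.hom g))) ⁻¹' (U : Set G.left)))
    (hV : Dense ((pullback.fst G.hom (S.fromSpecResidueField (G.hom g))) ⁻¹' (V : Set G.left))) :
    ∃ z : ↥(G ⊗ G).left, (fst G G).left z ∈ (U : Set G.left) ∧ (snd G G).left z ∈ (V : Set G.left) ∧
      μ[G].left z = g := by
  -- the point `g` as a morphism from the spectrum of its residue field
  let P : Over S := Over.mk (G.left.fromSpecResidueField g ≫ G.hom)
  let gP : P ⟶ G := Over.homMk (G.left.fromSpecResidueField g) rfl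
  let T : Over S := P ⊗ G
  let a : T ⟶ G := snd P G
  let g' : T ⟶ G := fst P G ≫ gP
  let b : T ⟶ G := a⁻¹ * g'
  -- the automorphism `t ↦ t⁻¹ g` of `T`
  let φ : T ⟶ T := lift (fst P G) b
  let ψ : T ⟶ T := lift (fst P G) (g' * a⁻¹)
  have hφa : φ ≫ a = b := lift_snd _ _
  have hψa : ψ ≫ a = g' * a⁻¹ := lift_snd _ _
  have hφf : φ ≫ fst P G = fst P G := lift_fst _ _
  have hψf : ψ ≫ fst P G = fst P G := lift_fst _ _
  have hφg : φ ≫ g' = g' := by simp only [g', ← Category.assoc, hφf]
  have hψg : ψ ≫ g' = g' := by simp only [g', ← Category.assoc, hψf]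
  have hφψ : φ ≫ ψ = 𝟙 T := by
    apply CartesianMonoidalCategory.hom_ext
    · rw [Category.assoc, hψf, hφf, Category.id_comp]
    · change (φ ≫ ψ) ≫ a = 𝟙 T ≫ a
      rw [Category.assoc, hψa, MonObj.comp_mul, GrpObj.comp_inv, hφg, hφa, Category.id_comp]
      simp only [b]; group
  have hψφ : ψ ≫ φ = 𝟙 T := by
    apply CartesianMonoidalCategory.hom_ext
    · rw [Category.assoc, hφf, hψf, Category.id_comp]
    · change (ψ ≫ φ) ≫ a = 𝟙 T ≫ a
      rw [Category.assoc, hφa]
      simp only [b]
      rw [MonObj.comp_mul, GrpObj.comp_inv, hψg, hψa, Category.id_comp]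
      group
  have : IsIso φ.left :=
    ⟨ψ.left, by rw [← Over.comp_left, hφψ]; rfl, by rw [← Over.comp_left, hψφ]; rfl⟩
  have hopen_φ : IsOpenMap φ.left := φ.left.isOpenEmbedding.isOpenMap
  have hbl : b.left = φ.left ≫ a.left := by rw [← hφa]; rfl
  -- the map from `T` to the fibre of `G` is open
  let s := G.hom g
  let t := S.fromSpecResidueField s
  let r : Spec (G.left.residueField g) ⟶ Spec (S.residueField s) :=
    Spec.map (G.hom.residueFieldMap g)
  have hr : r ≫ t = P.hom := Scheme.Hom.SpecMap_residueFieldMap_fromSpecResidueField G.hom g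
  have hTsq : IsPullback a.left (fst P G).left G.hom P.hom := by
    rw [Over.snd_left, Over.fst_left]
    exact (IsPullback.of_hasPullback P.hom G.hom).flip
  let c : T.left ⟶ pullback G.hom t :=
    pullback.lift a.left ((fst P G).left ≫ r) (by rw [Category.assoc, hr, hTsq.w])
  have hc1 : c ≫ pullback.fst G.hom t = a.left := pullback.lift_fst _ _ _
  have hc2 : c ≫ pullback.snd G.hom t = (fst P G).left ≫ r := pullback.lift_snd _ _ _
  have hcsq : IsPullback c (fst P G).left (pullback.snd G.hom t) r := by
    refine IsPullback.of_right ?_ hc2 (IsPullback.of_hasPullback G.hom t)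
    rw [hc1, hr]
    exact hTsq
  have hopen_c : IsOpenMap c := by
    have h1 : UniversallyOpen r := inferInstance
    have h2 : UniversallyOpen c :=
      MorphismProperty.of_isPullback (P := @UniversallyOpen) hcsq.flip h1
    exact c.isOpenMap
  have hpre : ∀ W : G.left.Opens, a.left ⁻¹' (W : Set G.left) =
      c ⁻¹' ((pullback.fst G.hom t) ⁻¹' (W : Set G.left)) := by
    intro W
    rw [← hc1]
    rfl
  have hd1 : Dense (a.left ⁻¹' (U : Set G.left)) := by
    rw [hpre]; exact hU.preimage hopen_c
  have hd2 : Dense (b.left ⁻¹' (V : Set G.left)) := by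
    have : b.left ⁻¹' (V : Set G.left) = φ.left ⁻¹' (a.left ⁻¹' (V : Set G.left)) := by
      rw [hbl]; rfl
    rw [this, hpre]
    exact (hV.preimage hopen_c).preimage hopen_φ
  have ho2 : IsOpen (b.left ⁻¹' (V : Set G.left)) := V.isOpen.preimage b.left.continuous
  have : Nonempty T.left := by
    have : Nonempty P.left := by
      change Nonempty (Spec (G.left.residueField g))
      infer_instance
    exact this.map (lift (𝟙 P) gP).left
  obtain ⟨x, ht1, ht2⟩ := (hd1.inter_of_isOpen_right hd2 ho2).nonempty
  refine ⟨(lift a b).left x, ?_, ?_, ?_⟩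
  · change ((lift a b).left ≫ (fst G G).left) x ∈ (U : Set G.left)
    rw [← Over.comp_left, lift_fst]
    exact ht1
  · change ((lift a b).left ≫ (snd G G).left) x ∈ (V : Set G.left)
    rw [← Over.comp_left, lift_snd]
    exact ht2
  · change ((lift a b).left ≫ μ[G].left) x = g
    rw [← Over.comp_left, ← Hom.mul_def]
    have : a * b = g' := by simp only [b]; group
    rw [this]
    change (G.left.fromSpecResidueField g) ((fst P G).left x) = g
    exact Scheme.fromSpecResidueField_apply _ _

end Groth.Agent.Lib.Seat24.FibreDenseMul
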