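import Mathlib

/-!
# Seat24: the locus where a homomorphism of group schemes has a property

For a property `P` of morphisms of schemes which is Zariski-local on the source, stable under base
change and satisfies fpqc descent, and a homomorphism `u : G ⟶ H` of group schemes over a field `k`
with `G` locally of finite type: if `u` has `P` on a nonempty open of `G`, then `u` has `P`.
(Base change to an algebraic closure, translate by rational points, descend.)
-/

set_option autoImplicit false
set_option linter.unusedVariables false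
set_option linter.unusedSectionVars false
set_option linter.style.haveILetI false

open CategoryTheory CategoryTheory.Limits MonoidalCategory CartesianMonoidalCategory MonObj GrpObj
  AlgebraicGeometry

universe u

namespace Groth.Agent.Lib.Seat24.GrpLocus

section locus

variable (P : MorphismProperty Scheme.{u})

/-- the largest open of the source on which `f` has `P` (meaningful for `P` local on the source) -/
def locus {X Y : Scheme.{u}} (f : X ⟶ Y) : X.Opens :=
  ⨆ W : {W : X.Opens // P (W.ι ≫ f)}, W.1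

lemma mem_locus {X Y : Scheme.{u}} (f : X ⟶ Y) (x : X) :
    x ∈ locus P f ↔ ∃ W : X.Opens, x ∈ W ∧ P (W.ι ≫ f) := by
  unfold locus
  rw [TopologicalSpace.Opens.mem_iSup]
  constructor
  · rintro ⟨⟨W, hW⟩, hx⟩
    exact ⟨W, hx, hW⟩
  · rintro ⟨W, hx, hW⟩
    exact ⟨⟨W, hW⟩, hx⟩

lemma le_locus {X Y : Scheme.{u}} (f : X ⟶ Y) (W : X.Opens) (hW : P (W.ι ≫ f)) :
    W ≤ locus P f := fun x hx => (mem_locus P f x).mpr ⟨W, hx, hW⟩

lemma of_forall_exists_nbhd [IsZariskiLocalAtSource P] {X Y : Scheme.{u}} (f : X ⟶ Y)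
    (H : ∀ x : X, ∃ V : X.Opens, x ∈ V ∧ P (V.ι ≫ f)) : P f := by
  choose V hxV hV using H
  refine IsZariskiLocalAtSource.of_iSup_eq_top V ?_ hV
  rw [eq_top_iff]
  intro x _
  exact TopologicalSpace.Opens.mem_iSup.mpr ⟨x, hxV x⟩

lemma of_locus_eq_top [IsZariskiLocalAtSource P] {X Y : Scheme.{u}} (f : X ⟶ Y)
    (h : ∀ x : X, x ∈ locus P f) : P f :=
  of_forall_exists_nbhd P f fun x => (mem_locus P f x).mp (h x)

lemma locus_eq_top_of [IsZariskiLocalAtSource P] {X Y : Scheme.{u}} (f : X ⟶ Y) (h : P f) (x : X) :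
    x ∈ locus P f := by
  refine (mem_locus P f x).mpr ⟨⊤, trivial, ?_⟩
  exact IsZariskiLocalAtSource.comp h _

/-- `f` has `P` on every open contained in the locus. -/
lemma prop_ι_comp_of_le_locus [IsZariskiLocalAtSource P] {X Y : Scheme.{u}} (f : X ⟶ Y)
    (W : X.Opens) (hW : W ≤ locus P f) : P (W.ι ≫ f) := by
  apply of_forall_exists_nbhd
  rintro ⟨x, hx⟩
  obtain ⟨W', hxW', hW'⟩ := (mem_locus P f x).mp (hW hx)
  refine ⟨W.ι ⁻¹ᵁ W', hxW', ?_⟩
  have h1 : (W.ι ⁻¹ᵁ W').ι ≫ W.ι = (W.ι ∣_ W') ≫ W'.ι := (morphismRestrict_ι W.ι W').symm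
  rw [← Category.assoc, h1, Category.assoc]
  exact IsZariskiLocalAtSource.comp hW' _

/-- the locus is compatible with isomorphisms `T`, `T'` commuting with `f`. -/
lemma mem_locus_of_iso [P.RespectsIso] {X Y : Scheme.{u}} (f : X ⟶ Y) (T : X ⟶ X) [IsIso T]
    (T' : Y ⟶ Y) [IsIso T'] (hT : T ≫ f = f ≫ T') (x : X) (hx : T x ∈ locus P f) :
    x ∈ locus P f := by
  obtain ⟨W, hxW, hW⟩ := (mem_locus P f _).mp hx
  refine (mem_locus P f x).mpr ⟨T ⁻¹ᵁ W, hxW, ?_⟩
  have h1 : (T ⁻¹ᵁ W).ι ≫ T = (T ∣_ W) ≫ W.ι := (morphismRestrict_ι T W).symm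
  have h2 : (T ⁻¹ᵁ W).ι ≫ f = ((T ∣_ W) ≫ (W.ι ≫ f)) ≫ inv T' := by
    rw [IsIso.eq_comp_inv, Category.assoc, ← hT, ← Category.assoc, h1, Category.assoc]
  rw [h2]
  rw [MorphismProperty.cancel_right_of_respectsIso (P := P),
    MorphismProperty.cancel_left_of_respectsIso (P := P)]
  exact hW

/-- the locus is compatible with base change (one direction). -/
lemma mem_locus_of_isPullback [P.IsStableUnderBaseChange] {X Y X' Y' : Scheme.{u}} {p' : X' ⟶ X}
    {f' : X' ⟶ Y'} {f : X ⟶ Y} {p : Y' ⟶ Y} (hpb : IsPullback p' f' f p) (x' : X')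
    (hx : p' x' ∈ locus P f) : x' ∈ locus P f' := by
  obtain ⟨W, hxW, hW⟩ := (mem_locus P f _).mp hx
  refine (mem_locus P f' x').mpr ⟨p' ⁻¹ᵁ W, hxW, ?_⟩
  have htop : IsPullback (p' ∣_ W) (p' ⁻¹ᵁ W).ι W.ι p' := isPullback_morphismRestrict p' W
  exact MorphismProperty.of_isPullback (htop.paste_vert hpb) hW

end locus

section transl

variable {C : Type*} [Category C] [CartesianMonoidalCategory C]

/-- left translation by a global point `g` of a group object -/
def transl (G : C) [GrpObj G] (g : 𝟙_ C ⟶ G) : G ⟶ G := (toUnit G ≫ g) * 𝟙 G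

lemma comp_transl (G : C) [GrpObj G] (g : 𝟙_ C ⟶ G) {X : C} (x : X ⟶ G) :
    x ≫ transl G g = (toUnit X ≫ g) * x := by
  unfold transl
  rw [MonObj.comp_mul, Category.comp_id, ← Category.assoc]
  congr 2
  exact toUnit_unique _ _

lemma transl_comp_transl (G : C) [GrpObj G] (g h : 𝟙_ C ⟶ G) :
    transl G g ≫ transl G h = transl G (h * g) := by
  rw [comp_transl]
  unfold transl
  rw [MonObj.comp_mul, _root_.mul_assoc]

lemma transl_one (G : C) [GrpObj G] : transl G (1 : 𝟙_ C ⟶ G) = 𝟙 G := by
  unfold transl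
  rw [MonObj.comp_one, _root_.one_mul]

instance (G : C) [GrpObj G] (g : 𝟙_ C ⟶ G) : IsIso (transl G g) :=
  ⟨transl G g⁻¹, by rw [transl_comp_transl, inv_mul_cancel, transl_one],
    by rw [transl_comp_transl, mul_inv_cancel, transl_one]⟩

lemma transl_comp_hom {G H : C} [GrpObj G] [GrpObj H] (u : G ⟶ H) [IsMonHom u] (g : 𝟙_ C ⟶ G) :
    transl G g ≫ u = u ≫ transl H (g ≫ u) := by
  rw [comp_transl]
  unfold transl
  rw [MonObj.mul_comp, Category.id_comp, Category.assoc]

end transl

section algClosed

variable (P : MorphismProperty Scheme.{u}) [IsZariskiLocalAtSource P]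
variable {K : Type u} [Field K] [IsAlgClosed K]
variable (G H : Over (Spec (CommRingCat.of K))) [GrpObj G] [GrpObj H] (u : G ⟶ H) [IsMonHom u]
  [LocallyOfFiniteType G.hom]

/-- the rational point attached to a closed point. -/
noncomputable def ptOfClosed (y : G.left) (hy : IsClosed {y}) :
    𝟙_ (Over (Spec (CommRingCat.of K))) ⟶ G :=
  Over.homMk (pointOfClosedPoint G.hom y hy) (by simp)

lemma ptOfClosed_apply (y : G.left) (hy : IsClosed {y}) (a : (𝟙_ (Over (Spec (CommRingCat.of K)))).left) :
    (ptOfClosed G y hy).left a = y :=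
  pointOfClosedPoint_apply G.hom y hy a

/-- **Algebraically closed case.** -/
theorem prop_of_nonempty_locus_algClosed (W : G.left.Opens) (hne : (W : Set G.left).Nonempty)
    (hW : P (W.ι ≫ u.left)) : P u.left := by
  haveI : JacobsonSpace G.left := LocallyOfFiniteType.jacobsonSpace (Y := Spec _) G.hom
  have hVne : ((locus P u.left : G.left.Opens) : Set G.left).Nonempty :=
    hne.mono (le_locus P u.left W hW)
  obtain ⟨x₀, hx₀V, hx₀c⟩ := nonempty_inter_closedPoints hVne (locus P u.left).2.isLocallyClosed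
  have hx₀c' : IsClosed {x₀} := hx₀c
  let pt : (𝟙_ (Over (Spec (CommRingCat.of K)))).left := IsLocalRing.closedPoint K
  have hcl : ∀ y : G.left, IsClosed {y} → y ∈ locus P u.left := by
    intro y hy
    let g : 𝟙_ (Over (Spec (CommRingCat.of K))) ⟶ G := ptOfClosed G x₀ hx₀c' * (ptOfClosed G y hy)⁻¹
    have h1 : ptOfClosed G y hy ≫ transl G g = ptOfClosed G x₀ hx₀c' := by
      rw [comp_transl]
      have : toUnit (𝟙_ (Over (Spec (CommRingCat.of K)))) = 𝟙 _ := toUnit_unique _ _
      rw [this, Category.id_comp, inv_mul_cancel_right]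
    have h2 : (transl G g).left y = x₀ := by
      have := congrArg (fun f => f.left pt) h1
      simp only [Over.comp_left, Scheme.Hom.comp_apply] at this
      rw [ptOfClosed_apply, ptOfClosed_apply] at this
      exact this
    haveI : IsIso (transl G g).left :=
      inferInstanceAs (IsIso ((Over.forget _).map (transl G g)))
    haveI : IsIso (transl H (g ≫ u)).left :=
      inferInstanceAs (IsIso ((Over.forget _).map (transl H (g ≫ u))))
    refine mem_locus_of_iso P u.left (transl G g).left (transl H (g ≫ u)).left ?_ y ?_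
    · rw [← Over.comp_left, transl_comp_hom, Over.comp_left]
    · rw [h2]
      exact hx₀V
  apply of_locus_eq_top P
  intro x
  by_contra hx
  have hne' : (((locus P u.left : G.left.Opens) : Set G.left)ᶜ).Nonempty := ⟨x, hx⟩
  obtain ⟨y, hyV, hyc⟩ := nonempty_inter_closedPoints hne'
    (locus P u.left).2.isClosed_compl.isLocallyClosed
  exact hyV (hcl y hyc)

end algClosed

section field

/-- the base change of `u` to `T` is the base change of `u` along `H_T → H`. -/
theorem isPullback_overPullback_map {S : Scheme.{u}} (G H : Over S) (u : G ⟶ H) {T : Scheme.{u}}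
    (t : T ⟶ S) :
    IsPullback (pullback.fst G.hom t) ((Over.pullback t).map u).left u.left
      (pullback.fst H.hom t) := by
  have hr : IsPullback (pullback.snd H.hom t) (pullback.fst H.hom t) t H.hom :=
    (IsPullback.of_hasPullback H.hom t).flip
  have h1 : ((Over.pullback t).map u).left ≫ pullback.snd H.hom t = pullback.snd G.hom t := by
    simp only [Over.pullback_map_left]
    exact pullback.lift_snd _ _ _
  have h2 : ((Over.pullback t).map u).left ≫ pullback.fst H.hom t =
      pullback.fst G.hom t ≫ u.left := by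
    simp only [Over.pullback_map_left]
    exact pullback.lift_fst _ _ _
  have ho : IsPullback (((Over.pullback t).map u).left ≫ pullback.snd H.hom t)
      (pullback.fst G.hom t) t (u.left ≫ H.hom) := by
    rw [h1, Over.w u]
    exact (IsPullback.of_hasPullback G.hom t).flip
  exact (IsPullback.of_right ho h2 hr).flip

variable (P : MorphismProperty Scheme.{u}) [IsZariskiLocalAtSource P] [P.IsStableUnderBaseChange]
  [P.DescendsAlong (@Surjective ⊓ @Flat ⊓ @QuasiCompact)]
variable {k : Type u} [Field k]
variable (G H : Over (Spec (CommRingCat.of k))) [GrpObj G] [GrpObj H] (u : G ⟶ H) [IsMonHom u]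
  [LocallyOfFiniteType G.hom]

/-- **Field case.** A homomorphism of group schemes over a field, with source locally of finite
type, which has `P` on a nonempty open, has `P`. -/
theorem prop_of_nonempty_locus_field (W : G.left.Opens) (hne : (W : Set G.left).Nonempty)
    (hW : P (W.ι ≫ u.left)) : P u.left := by
  let K := AlgebraicClosure k
  let σ : Spec (CommRingCat.of K) ⟶ Spec (CommRingCat.of k) :=
    Spec.map (CommRingCat.ofHom (algebraMap k K))
  let G' : Over (Spec (CommRingCat.of K)) := (Over.pullback σ).obj G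
  let H' : Over (Spec (CommRingCat.of K)) := (Over.pullback σ).obj H
  letI : GrpObj G' := Functor.grpObjObj
  letI : GrpObj H' := Functor.grpObjObj
  let u' : G' ⟶ H' := (Over.pullback σ).map u
  haveI : IsMonHom u' := inferInstanceAs (IsMonHom ((Over.pullback σ).map u))
  have hpb := isPullback_overPullback_map G H u σ
  haveI : LocallyOfFiniteType G'.hom :=
    inferInstanceAs (LocallyOfFiniteType (pullback.snd G.hom σ))
  haveI : Surjective σ := ⟨Function.surjective_to_subsingleton _⟩
  haveI : Flat σ := by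
    rw [HasRingHomProperty.Spec_iff (P := @Flat)]
    exact RingHom.Flat.of_isField (Field.toIsField k) _
  have hQ : (@Surjective ⊓ @Flat ⊓ @QuasiCompact : MorphismProperty Scheme.{u})
      (pullback.fst H.hom σ) :=
    ⟨⟨inferInstance, inferInstance⟩, inferInstance⟩
  have hP' : P u'.left := by
    refine prop_of_nonempty_locus_algClosed P G' H' u' ((pullback.fst G.hom σ) ⁻¹ᵁ W) ?_ ?_
    · obtain ⟨x, hx⟩ := hne
      obtain ⟨x', hx'⟩ := (pullback.fst G.hom σ).surjective x
      exact ⟨x', by rw [← hx'] at hx; exact hx⟩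
    · have htop : IsPullback (pullback.fst G.hom σ ∣_ W) ((pullback.fst G.hom σ) ⁻¹ᵁ W).ι W.ι
          (pullback.fst G.hom σ) := isPullback_morphismRestrict _ W
      exact MorphismProperty.of_isPullback (htop.paste_vert hpb) hW
  exact MorphismProperty.of_isPullback_of_descendsAlong hpb.flip hQ hP'

end field

end Groth.Agent.Lib.Seat24.GrpLocus
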