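import Mathlib
import Groth.Prelude.Def_SGA3x
import Groth.Agent.Lib.Helper25IdCompScheme
import Groth.Agent.Lib.Seat24GrpLocus
import Groth.Agent.Lib.Seat24FibreDenseMul

/-!
# The neutral set `G⁰` of a group scheme via the fibre group schemes (helper24)

`SGA3x.neutralSet G` is defined with the fibres as subspaces of `G`.  Here we identify it with the
union of the images of the identity components of the fibre group schemes
`fib G s = G ×_S Spec κ(s)`, so that the theory of the identity component over a field
(`Helper25IdComp*`) applies.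
-/

set_option autoImplicit false
set_option linter.unusedSectionVars false
universe u
open CategoryTheory CategoryTheory.Limits MonoidalCategory CartesianMonoidalCategory MonObj GrpObj
  AlgebraicGeometry

namespace Groth.Agent.Lib.Seat24.Neutral

open Groth.Agent.Lib.Helper25.IdComp

section top
variable {X Y : Type*} [TopologicalSpace X] [TopologicalSpace Y]

/-- for an inducing map, the image of a connected component is the connected component in the
range. -/
lemma image_connectedComponent_of_isInducing {f : X → Y} (hf : Topology.IsInducing f) (x : X) :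
    f '' connectedComponent x = connectedComponentIn (Set.range f) (f x) := by
  apply le_antisymm
  · refine IsPreconnected.subset_connectedComponentIn
      (isPreconnected_connectedComponent.image _ hf.continuous.continuousOn)
      ⟨x, mem_connectedComponent, rfl⟩ (Set.image_subset_range _ _)
  · intro y hy
    have hsub : connectedComponentIn (Set.range f) (f x) ⊆ Set.range f :=
      connectedComponentIn_subset _ _
    have hpre : _root_.IsPreconnected (f ⁻¹' connectedComponentIn (Set.range f) (f x)) := by
      rw [← hf.isPreconnected_image, Set.image_preimage_eq_inter_range,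
        Set.inter_eq_left.mpr hsub]
      exact isPreconnected_connectedComponentIn
    obtain ⟨z, rfl⟩ := hsub hy
    exact ⟨z, hpre.subset_connectedComponent
      (show x ∈ f ⁻¹' _ from mem_connectedComponentIn ⟨x, rfl⟩) hy, rfl⟩

end top

variable {S : Scheme.{u}} (G : Over S) [GrpObj G]

/-- the fibre of `G` at `s`, as a group scheme over the residue field. -/
noncomputable abbrev fib (s : S) : Over (Spec (CommRingCat.of (S.residueField s))) :=
  (Over.pullback (S.fromSpecResidueField s)).obj G

noncomputable instance (s : S) : GrpObj (fib G s) := Functor.grpObjObj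

/-- the inclusion of the fibre. -/
noncomputable def fibι (s : S) : (fib G s).left ⟶ G.left :=
  pullback.fst G.hom (S.fromSpecResidueField s)

lemma fibι_eq (s : S) : fibι G s = G.hom.fiberι s := rfl

lemma range_fibι (s : S) : Set.range (fibι G s) = G.hom ⁻¹' {s} := G.hom.range_fiberι s

lemma isEmbedding_fibι (s : S) : Topology.IsEmbedding (fibι G s) :=
  (G.hom.fiberι s).isEmbedding

lemma hom_fibι (s : S) (x : (fib G s).left) : G.hom (fibι G s x) = s := by
  have : fibι G s x ∈ G.hom ⁻¹' {s} := by rw [← range_fibι]; exact ⟨x, rfl⟩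
  exact this

/-- the unit point of the fibre maps to the value of the unit section. -/
lemma fibι_ePt (s : S) (p : (𝟙_ (Over S)).left) (hp : (𝟙_ (Over S)).hom p = s) :
    fibι G s (ePt (fib G s)) = η[G].left p := by
  let f := S.fromSpecResidueField s
  have h1 : η[fib G s] = Functor.LaxMonoidal.ε (Over.pullback f) ≫
      (Over.pullback f).map η[G] := rfl
  have h2 : ((Over.pullback f).map η[G]).left ≫ fibι G s =
      pullback.fst _ _ ≫ η[G].left := pullback.lift_fst _ _ _
  have h3 : η[fib G s].left ≫ fibι G s =
      ((Functor.LaxMonoidal.ε (Over.pullback f)).left ≫ pullback.fst _ _) ≫ η[G].left := by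
    rw [h1, Over.comp_left, Category.assoc, h2, Category.assoc]
  have h4 : fibι G s (ePt (fib G s)) = (η[fib G s].left ≫ fibι G s) (IsLocalRing.closedPoint _) :=
    rfl
  rw [h4, h3, Scheme.Hom.comp_apply]
  congr 1
  set q := ((Functor.LaxMonoidal.ε (Over.pullback f)).left ≫ pullback.fst _ _)
    (IsLocalRing.closedPoint _) with hq
  have h5 : G.hom (η[G].left q) = s := by
    have : η[G].left q = fibι G s (ePt (fib G s)) := by
      rw [h4, h3, Scheme.Hom.comp_apply]
    rw [this, hom_fibι]
  have h6 : G.hom (η[G].left q) = (𝟙_ (Over S)).hom q := by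
    rw [← Scheme.Hom.comp_apply, Over.w]
  have h7 : ∀ a : (𝟙_ (Over S)).left, (𝟙_ (Over S)).hom a = a := fun a => rfl
  rw [← h7 q, ← h6, h5, ← hp, h7]

/-- the connected component of the unit in the fibre (as a subspace) is the image of the connected
component of the unit of the fibre group scheme. -/
lemma connectedComponentIn_fibre (p : (𝟙_ (Over S)).left) :
    connectedComponentIn (G.hom ⁻¹' {(𝟙_ (Over S)).hom p}) (η[G].left p) =
      fibι G ((𝟙_ (Over S)).hom p) ''
        connectedComponent (ePt (fib G ((𝟙_ (Over S)).hom p))) := by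
  rw [image_connectedComponent_of_isInducing (isEmbedding_fibι G _).isInducing, range_fibι,
    fibι_ePt G _ p rfl]

/-- the neutral set via the fibre group schemes. -/
theorem neutralSet_eq :
    SGA3x.neutralSet G = ⋃ s : S, fibι G s '' connectedComponent (ePt (fib G s)) := by
  unfold SGA3x.neutralSet
  apply le_antisymm
  · apply Set.iUnion_subset
    intro p
    rw [connectedComponentIn_fibre]
    exact Set.subset_iUnion (fun s : S => fibι G s '' connectedComponent (ePt (fib G s))) _
  · apply Set.iUnion_subset
    intro s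
    have hs : (𝟙_ (Over S)).hom (show (𝟙_ (Over S)).left from s) = s := rfl
    have := connectedComponentIn_fibre G (show (𝟙_ (Over S)).left from s)
    rw [hs] at this
    rw [← this]
    exact Set.subset_iUnion (fun p : (𝟙_ (Over S)).left => connectedComponentIn
      (G.hom ⁻¹' {(𝟙_ (Over S)).hom p}) (η[G].left p)) (show (𝟙_ (Over S)).left from s)

lemma preimage_neutralSet (s : S) :
    fibι G s ⁻¹' SGA3x.neutralSet G = connectedComponent (ePt (fib G s)) := by
  rw [neutralSet_eq]
  ext x
  simp only [Set.mem_preimage, Set.mem_iUnion, Set.mem_image]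
  constructor
  · rintro ⟨t, y, hy, hyx⟩
    have hts : t = s := by
      rw [← hom_fibι G t y, hyx, hom_fibι]
    subst hts
    rwa [← (isEmbedding_fibι G t).injective hyx]
  · intro hx
    exact ⟨s, x, hx, rfl⟩

lemma mem_neutralSet_iff (s : S) (x : (fib G s).left) :
    fibι G s x ∈ SGA3x.neutralSet G ↔ x ∈ connectedComponent (ePt (fib G s)) := by
  rw [← preimage_neutralSet]; rfl

lemma exists_of_mem_neutralSet' {g : G.left} (hg : g ∈ SGA3x.neutralSet G) :
    ∃ (s : S) (x : (fib G s).left), x ∈ connectedComponent (ePt (fib G s)) ∧ fibι G s x = g := by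
  rw [neutralSet_eq] at hg
  obtain ⟨s, x, hx, rfl⟩ := Set.mem_iUnion.mp hg
  exact ⟨s, x, hx, rfl⟩

lemma exists_of_mem_neutralSet {g : G.left} (hg : g ∈ SGA3x.neutralSet G) :
    ∃ x : (fib G (G.hom g)).left, x ∈ connectedComponent (ePt (fib G (G.hom g))) ∧
      fibι G _ x = g := by
  have : g ∈ Set.range (fibι G (G.hom g)) := by rw [range_fibι]; rfl
  obtain ⟨x, hx⟩ := this
  refine ⟨x, ?_, hx⟩
  rw [← mem_neutralSet_iff, hx]
  exact hg


section hom

variable {G} {H : Over S} [GrpObj H] (i : H ⟶ G)

/-- the map induced on the fibres. -/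
noncomputable abbrev fibMap (s : S) : fib H s ⟶ fib G s :=
  (Over.pullback (S.fromSpecResidueField s)).map i

lemma isPullback_fibMap (s : S) :
    IsPullback (fibι H s) (fibMap i s).left i.left (fibι G s) :=
  Groth.Agent.Lib.Seat24.GrpLocus.isPullback_overPullback_map H G i (S.fromSpecResidueField s)

lemma fibMap_fibι (s : S) (y : (fib H s).left) :
    fibι G s ((fibMap i s).left y) = i.left (fibι H s y) := by
  rw [← Scheme.Hom.comp_apply, ← Scheme.Hom.comp_apply, (isPullback_fibMap i s).w]

lemma range_fibMap (s : S) :
    Set.range (fibMap i s).left = fibι G s ⁻¹' Set.range i.left := by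
  have h := isPullback_fibMap i s
  have h2 : (fibMap i s).left = h.isoPullback.hom ≫ pullback.snd i.left (fibι G s) :=
    (h.isoPullback_hom_snd).symm
  rw [h2, Scheme.Hom.comp_base, TopCat.coe_comp, Set.range_comp,
    Set.range_eq_univ.mpr h.isoPullback.hom.surjective, Set.image_univ,
    Scheme.Pullback.range_snd]

variable [IsMonHom i]

lemma fibMap_ePt (s : S) : (fibMap i s).left (ePt (fib H s)) = ePt (fib G s) := by
  have h : η[fib H s] ≫ fibMap i s = η[fib G s] := IsMonHom.one_hom _
  have h2 : (η[fib H s].left ≫ (fibMap i s).left) (IsLocalRing.closedPoint _) =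
      η[fib G s].left (IsLocalRing.closedPoint _) := by
    rw [← Over.comp_left, h]
  exact h2

/-- a homomorphism maps the neutral set into the neutral set. -/
lemma image_neutralSet_subset : i.left '' SGA3x.neutralSet H ⊆ SGA3x.neutralSet G := by
  rintro _ ⟨h, hh, rfl⟩
  obtain ⟨s, y, hy, rfl⟩ := exists_of_mem_neutralSet' H hh
  rw [← fibMap_fibι, mem_neutralSet_iff, ← fibMap_ePt i]
  exact (fibMap i _).left.continuous.image_connectedComponent_subset _ ⟨y, hy, rfl⟩

/-- an open subgroup contains the identity component of each fibre. -/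
lemma connectedComponent_subset_range_of_isOpenImmersion [IsOpenImmersion i.left] (s : S) :
    connectedComponent (ePt (fib G s)) ⊆ Set.range (fibMap i s).left := by
  have hopen : IsOpen (Set.range (fibMap i s).left) := by
    rw [range_fibMap]
    exact i.left.isOpenEmbedding.isOpen_range.preimage (fibι G s).continuous
  have hclosed : IsClosed (Set.range (fibMap i s).left) :=
    Groth.Agent.Lib.Helper25.TopGrp.isClosed_range_of_isLocallyClosed (fibMap i s)
      hopen.isLocallyClosed
  exact IsClopen.connectedComponent_subset ⟨hclosed, hopen⟩ ⟨_, fibMap_ePt i s⟩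

/-- **S5327.** An open subgroup contains the neutral set, and its neutral set is the same. -/
theorem neutralSet_of_isOpenImmersion [IsOpenImmersion i.left] :
    SGA3x.neutralSet G ⊆ Set.range i.left ∧
      i.left '' SGA3x.neutralSet H = SGA3x.neutralSet G := by
  have key : ∀ g ∈ SGA3x.neutralSet G, ∃ h ∈ SGA3x.neutralSet H, i.left h = g := by
    intro g hg
    obtain ⟨s, x, hx, rfl⟩ := exists_of_mem_neutralSet' G hg
    obtain ⟨y, rfl⟩ := connectedComponent_subset_range_of_isOpenImmersion i s hx
    have hemb : Topology.IsEmbedding (fibMap i s).left := by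
      have : IsOpenImmersion (fibMap i s).left :=
        MorphismProperty.of_isPullback (P := @IsOpenImmersion) (isPullback_fibMap i s)
          inferInstance
      exact (fibMap i s).left.isOpenEmbedding.isEmbedding
    have hpre : _root_.IsPreconnected
        ((fibMap i s).left ⁻¹' connectedComponent (ePt (fib G s))) := by
      rw [← hemb.isInducing.isPreconnected_image, Set.image_preimage_eq_inter_range,
        Set.inter_eq_left.mpr (connectedComponent_subset_range_of_isOpenImmersion i s)]
      exact isPreconnected_connectedComponent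
    have hy : y ∈ connectedComponent (ePt (fib H s)) :=
      hpre.subset_connectedComponent
        (show ePt (fib H s) ∈ (fibMap i s).left ⁻¹' _ by
          rw [Set.mem_preimage, fibMap_ePt]; exact mem_connectedComponent) hx
    exact ⟨fibι H s y, (mem_neutralSet_iff H s y).mpr hy, (fibMap_fibι i s y).symm⟩
  refine ⟨fun g hg => ?_, le_antisymm (image_neutralSet_subset i) fun g hg => ?_⟩
  · obtain ⟨h, _, rfl⟩ := key g hg
    exact ⟨h, rfl⟩
  · obtain ⟨h, hh, rfl⟩ := key g hg
    exact ⟨h, hh, rfl⟩

end hom


section qc

/-- `A ×_S B` is quasi-compact for quasi-compact opens `A`, `B` of `G` lying over an affine open of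
the base. -/
lemma isCompact_fst_inter_snd_of_le_affine (V : S.Opens) (hV : IsAffineOpen V) (A B : G.left.Opens)
    (hA : IsCompact (A : Set G.left)) (hB : IsCompact (B : Set G.left))
    (hAV : A ≤ G.hom ⁻¹ᵁ V) (hBV : B ≤ G.hom ⁻¹ᵁ V) :
    IsCompact ((fst G G).left ⁻¹' (A : Set G.left) ∩ (snd G G).left ⁻¹' (B : Set G.left)) := by
  have : CompactSpace A := isCompact_iff_compactSpace.mp hA
  have : CompactSpace B := isCompact_iff_compactSpace.mp hB
  have hAr : Set.range (A.ι ≫ G.hom) ⊆ Set.range V.ι := by
    rintro _ ⟨x, rfl⟩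
    rw [Scheme.Opens.range_ι]
    exact hAV x.2
  have hBr : Set.range (B.ι ≫ G.hom) ⊆ Set.range V.ι := by
    rintro _ ⟨x, rfl⟩
    rw [Scheme.Opens.range_ι]
    exact hBV x.2
  let a : (A : Scheme.{u}) ⟶ V := IsOpenImmersion.lift V.ι (A.ι ≫ G.hom) hAr
  have ha : a ≫ V.ι = A.ι ≫ G.hom := IsOpenImmersion.lift_fac _ _ _
  let b : (B : Scheme.{u}) ⟶ V := IsOpenImmersion.lift V.ι (B.ι ≫ G.hom) hBr
  have hb : b ≫ V.ι = B.ι ≫ G.hom := IsOpenImmersion.lift_fac _ _ _
  have : IsAffine (V : Scheme.{u}) := hV
  have : QuasiCompact b := inferInstance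
  have : CompactSpace ↑(pullback a b) := inferInstance
  have hrange := Scheme.Pullback.range_map a b G.hom G.hom A.ι B.ι V.ι ha hb
  rw [Scheme.Opens.range_ι, Scheme.Opens.range_ι] at hrange
  rw [Over.fst_left, Over.snd_left, ← hrange]
  exact isCompact_range (Scheme.Hom.continuous _)

lemma hom_unit_apply (s : S) : G.hom (η[G].left (show (𝟙_ (Over S)).left from s)) = s := by
  rw [← Scheme.Hom.comp_apply, Over.w]
  rfl

/-- **S5324.** A group scheme with connected fibres is quasi-compact over the base. -/
theorem quasiCompact_of_fibres_connected (hconn : ∀ s : S, ConnectedSpace (fib G s).left) :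
    QuasiCompact G.hom := by
  rw [quasiCompact_iff_forall_isAffineOpen]
  intro V hV
  let e : S → G.left := fun s => η[G].left (show (𝟙_ (Over S)).left from s)
  have hecont : Continuous e := η[G].left.continuous
  have hK : IsCompact (e '' (V : Set S)) := hV.isCompact.image hecont
  have hKO : e '' (V : Set S) ⊆ (G.hom ⁻¹ᵁ V : Set G.left) := by
    rintro _ ⟨s, hs, rfl⟩
    change G.hom (e s) ∈ V
    rw [hom_unit_apply]
    exact hs
  obtain ⟨W, hWc, hWo, hKW, hWO⟩ :=
    PrespectralSpace.exists_isCompact_and_isOpen_between hK (G.hom ⁻¹ᵁ V).isOpen hKO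
  let U : G.left.Opens := ⟨W, hWo⟩
  have hUV : U ≤ G.hom ⁻¹ᵁ V := hWO
  have hcomp := isCompact_fst_inter_snd_of_le_affine G V hV U U hWc hWc hUV hUV
  have heq : (G.hom ⁻¹ᵁ V : Set G.left) =
      μ[G].left '' ((fst G G).left ⁻¹' (U : Set G.left) ∩ (snd G G).left ⁻¹' (U : Set G.left)) := by
    apply le_antisymm
    · intro g hg
      have hgV : G.hom g ∈ V := hg
      have : IrreducibleSpace (fib G (G.hom g)).left :=
        irreducibleSpace_of_connectedSpace (fib G (G.hom g))
      have hdense : Dense ((pullback.fst G.hom (S.fromSpecResidueField (G.hom g))) ⁻¹'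
          (U : Set G.left)) := by
        have hpre : PreirreducibleSpace ↥(pullback G.hom (S.fromSpecResidueField (G.hom g))) :=
          this.toPreirreducibleSpace
        apply IsOpen.dense (U.isOpen.preimage (Scheme.Hom.continuous _))
        refine ⟨ePt (fib G (G.hom g)), ?_⟩
        change fibι G _ (ePt (fib G (G.hom g))) ∈ W
        rw [fibι_ePt G (G.hom g) (show (𝟙_ (Over S)).left from G.hom g) rfl]
        exact hKW ⟨G.hom g, hgV, rfl⟩
      obtain ⟨z, hz1, hz2, hz3⟩ :=
        Groth.Agent.Lib.Seat24.FibreDenseMul.exists_mul_eq_of_fibre_dense G U U g hdense hdense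
      exact ⟨z, ⟨hz1, hz2⟩, hz3⟩
    · rintro _ ⟨z, ⟨hz1, _⟩, rfl⟩
      change G.hom (μ[G].left z) ∈ V
      have h1 : G.hom (μ[G].left z) = G.hom ((fst G G).left z) := by
        rw [← Scheme.Hom.comp_apply, ← Scheme.Hom.comp_apply, Over.w, Over.w]
      rw [h1]
      exact hUV hz1
  rw [heq]
  exact hcomp.image μ[G].left.continuous

/-- the fibre group scheme is connected iff the fibre is. -/
lemma connectedSpace_fib_of_isConnected (s : S) (h : _root_.IsConnected (G.hom ⁻¹' {s})) :
    ConnectedSpace (fib G s).left := by
  rw [← range_fibι, ← Set.image_univ] at h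
  rw [connectedSpace_iff_univ]
  refine ⟨?_, ?_⟩
  · obtain ⟨_, ⟨x, _, rfl⟩⟩ := h.1
    exact ⟨x, trivial⟩
  · exact (isEmbedding_fibι G s).isInducing.isPreconnected_image.mp h.2

end qc

end Groth.Agent.Lib.Seat24.Neutral
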