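import Mathlib
import Groth.Agent.Lib.Seat24Neutral

/-!
# A universally open group scheme with connected fibres is separated (helper24)

`isSeparated_of_universallyOpen`: let `G` be an `S`-group scheme, universally open over `S`, with
irreducible (e.g. connected) fibres.  Then `G` is separated over `S`.

Proof: let `z = (x, y)` be in the closure of the diagonal `D` of `G ×_S G`; choose an affine open
`U` of `G` meeting the fibre of `G` through `z`; there is a point `w = (g, x, y)` of
`G × (G × G)` over `z` with `gx, gy ∈ U` (the fibres of `G` are irreducible).  The projection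
`pr : G × (G × G) → G × G` is open, so `w` is in the closure of `pr⁻¹ D = Ψ⁻¹ D`, where
`Ψ (g, x, y) = (gx, gy)`; since `D ∩ (U × U)` is closed in `U × U`, we get `Ψ w ∈ D`, i.e. `z ∈ D`.
-/

set_option autoImplicit false
set_option linter.unusedSectionVars false
universe u
open CategoryTheory CategoryTheory.Limits MonoidalCategory CartesianMonoidalCategory MonObj GrpObj
  AlgebraicGeometry

namespace Groth.Agent.Lib.Seat24.GrpSep

open Groth.Agent.Lib.Seat24.Neutral Groth.Agent.Lib.Helper25.IdComp

variable {S : Scheme.{u}} (G : Over S) [GrpObj G]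

/-- the preimage in `P ×_S G` of an open of `G` which is dense in the fibre over `s` is dense, for
`P` the spectrum of a field over `κ(s)`. -/
lemma dense_snd_preimage {P : Over S} (s : S) (r : P.left ⟶ Spec (S.residueField s))
    (hr : r ≫ S.fromSpecResidueField s = P.hom) [UniversallyOpen r] (U : G.left.Opens)
    (hU : Dense (fibι G s ⁻¹' (U : Set G.left))) :
    Dense ((snd P G).left ⁻¹' (U : Set G.left)) := by
  let t := S.fromSpecResidueField s
  let a : P ⊗ G ⟶ G := snd P G
  have hTsq : IsPullback a.left (fst P G).left G.hom P.hom := by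
    rw [Over.snd_left, Over.fst_left]
    exact (IsPullback.of_hasPullback P.hom G.hom).flip
  let c : (P ⊗ G).left ⟶ pullback G.hom t :=
    pullback.lift a.left ((fst P G).left ≫ r) (by rw [Category.assoc, hr, hTsq.w])
  have hc1 : c ≫ pullback.fst G.hom t = a.left := pullback.lift_fst _ _ _
  have hc2 : c ≫ pullback.snd G.hom t = (fst P G).left ≫ r := pullback.lift_snd _ _ _
  have hcsq : IsPullback c (fst P G).left (pullback.snd G.hom t) r := by
    refine IsPullback.of_right ?_ hc2 (IsPullback.of_hasPullback G.hom t)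
    rw [hc1, hr]
    exact hTsq
  have hopen_c : IsOpenMap c := by
    have h2 : UniversallyOpen c :=
      MorphismProperty.of_isPullback (P := @UniversallyOpen) hcsq.flip inferInstance
    exact c.isOpenMap
  have hpre : a.left ⁻¹' (U : Set G.left) =
      c ⁻¹' ((pullback.fst G.hom t) ⁻¹' (U : Set G.left)) := by
    rw [← hc1]
    rfl
  change Dense (a.left ⁻¹' (U : Set G.left))
  rw [hpre]
  exact hU.preimage hopen_c

/-- the shear automorphism `(g, x) ↦ (g, g x)` of `G × G`. -/
lemma isIso_shear : IsIso (lift (fst G G) (fst G G * snd G G)) := by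
  refine ⟨lift (fst G G) ((fst G G)⁻¹ * snd G G), ?_, ?_⟩
  · apply CartesianMonoidalCategory.hom_ext
    · simp
    · rw [Category.assoc, lift_snd, MonObj.comp_mul, GrpObj.comp_inv, lift_fst, lift_snd,
        Category.id_comp]
      group
  · apply CartesianMonoidalCategory.hom_ext
    · simp
    · rw [Category.assoc, lift_snd, MonObj.comp_mul, lift_fst, lift_snd,
        Category.id_comp]
      group

section main

/-- `(g, x, y) ↦ (g x, g y)`. -/
noncomputable def Psi : G ⊗ (G ⊗ G) ⟶ G ⊗ G :=
  lift (fst G (G ⊗ G) * (snd G (G ⊗ G) ≫ fst G G)) (fst G (G ⊗ G) * (snd G (G ⊗ G) ≫ snd G G))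

/-- `(g, x, y) ↦ (g, g x, g y)`. -/
noncomputable def sigma : G ⊗ (G ⊗ G) ⟶ G ⊗ (G ⊗ G) := lift (fst G (G ⊗ G)) (Psi G)

noncomputable def sigmaInv : G ⊗ (G ⊗ G) ⟶ G ⊗ (G ⊗ G) :=
  lift (fst G (G ⊗ G))
    (lift ((fst G (G ⊗ G))⁻¹ * (snd G (G ⊗ G) ≫ fst G G))
      ((fst G (G ⊗ G))⁻¹ * (snd G (G ⊗ G) ≫ snd G G)))

lemma sigma_sigmaInv : sigma G ≫ sigmaInv G = 𝟙 _ := by
  apply CartesianMonoidalCategory.hom_ext
  · simp [sigma, sigmaInv]
  · apply CartesianMonoidalCategory.hom_ext
    · simp only [sigma, sigmaInv, Psi, Category.assoc, lift_snd, lift_fst, Category.id_comp]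
      rw [MonObj.comp_mul, GrpObj.comp_inv, lift_fst, lift_snd_assoc, lift_fst]
      group
    · simp only [sigma, sigmaInv, Psi, Category.assoc, lift_snd, Category.id_comp]
      rw [MonObj.comp_mul, GrpObj.comp_inv, lift_fst, lift_snd_assoc, lift_snd]
      group

lemma sigmaInv_sigma : sigmaInv G ≫ sigma G = 𝟙 _ := by
  apply CartesianMonoidalCategory.hom_ext
  · simp [sigma, sigmaInv]
  · apply CartesianMonoidalCategory.hom_ext
    · simp only [sigma, sigmaInv, Psi, Category.assoc, lift_snd, lift_fst, Category.id_comp]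
      rw [MonObj.comp_mul, lift_fst, lift_snd_assoc, lift_fst]
      group
    · simp only [sigma, sigmaInv, Psi, Category.assoc, lift_snd, Category.id_comp]
      rw [MonObj.comp_mul, lift_fst, lift_snd_assoc, lift_snd]
      group

lemma sigma_snd : sigma G ≫ snd G (G ⊗ G) = Psi G := lift_snd _ _

/-- the diagonal of `G`. -/
noncomputable def diag : G ⟶ G ⊗ G := lift (𝟙 G) (𝟙 G)

lemma whiskerLeft_diag_sigma :
    (G ◁ diag G) ≫ sigma G = lift (fst G G) (fst G G * snd G G) ≫ (G ◁ diag G) := by
  apply CartesianMonoidalCategory.hom_ext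
  · simp [sigma]
  · simp only [sigma, Psi, diag, Category.assoc, lift_snd, whiskerLeft_snd]
    apply CartesianMonoidalCategory.hom_ext
    · simp only [MonObj.comp_mul, whiskerLeft_fst, whiskerLeft_snd_assoc, Category.assoc, lift_fst,
        lift_snd, Category.comp_id]
    · simp only [MonObj.comp_mul, whiskerLeft_fst, whiskerLeft_snd_assoc, Category.assoc,
        lift_snd, Category.comp_id]

/-- `Ψ⁻¹ D = pr⁻¹ D` for the diagonal `D`. -/
lemma Psi_preimage_range_diag :
    (Psi G).left ⁻¹' Set.range (diag G).left =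
      (snd G (G ⊗ G)).left ⁻¹' Set.range (diag G).left := by
  have hiso : IsIso (sigma G).left :=
    ⟨(sigmaInv G).left, by rw [← Over.comp_left, sigma_sigmaInv]; rfl,
      by rw [← Over.comp_left, sigmaInv_sigma]; rfl⟩
  have hR : Set.range (G ◁ diag G).left = (snd G (G ⊗ G)).left ⁻¹' Set.range (diag G).left :=
    Groth.Agent.Lib.Helper25.TopGrp.range_whiskerLeft G (diag G)
  have himg : (sigma G).left '' Set.range (G ◁ diag G).left = Set.range (G ◁ diag G).left := by
    rw [← Set.range_comp, ← TopCat.coe_comp, ← Scheme.Hom.comp_base, ← Over.comp_left,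
      whiskerLeft_diag_sigma, Over.comp_left, Scheme.Hom.comp_base, TopCat.coe_comp,
      Set.range_comp]
    have : IsIso (lift (fst G G) (fst G G * snd G G)).left := by
      have := isIso_shear G
      exact (Over.forget S).map_isIso (lift (fst G G) (fst G G * snd G G))
    rw [Set.range_eq_univ.mpr (lift (fst G G) (fst G G * snd G G)).left.surjective,
      Set.image_univ]
  have hpre : (sigma G).left ⁻¹' Set.range (G ◁ diag G).left = Set.range (G ◁ diag G).left := by
    conv_lhs => rw [← himg]
    exact Set.preimage_image_eq _ (sigma G).left.injective  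
  rw [← hR, ← hpre, hR, ← sigma_snd]
  rfl

lemma diag_left : (diag G).left = pullback.diagonal G.hom := by
  apply pullback.hom_ext
  · have h1 : (diag G).left ≫ pullback.fst G.hom G.hom = 𝟙 _ := by
      rw [← Over.fst_left, ← Over.comp_left, diag, lift_fst]; rfl
    rw [h1, pullback.diagonal_fst]
  · have h1 : (diag G).left ≫ pullback.snd G.hom G.hom = 𝟙 _ := by
      rw [← Over.snd_left, ← Over.comp_left, diag, lift_snd]; rfl
    rw [h1, pullback.diagonal_snd]

/-- the diagonal is relatively closed in `U × U` for `U` separated over `S`. -/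
lemma closure_inter_subset_range_diag (U : G.left.Opens) [IsSeparated (U.ι ≫ G.hom)] :
    closure (((fst G G).left ⁻¹' (U : Set G.left) ∩ (snd G G).left ⁻¹' (U : Set G.left)) ∩
        Set.range (diag G).left) ∩
      ((fst G G).left ⁻¹' (U : Set G.left) ∩ (snd G G).left ⁻¹' (U : Set G.left)) ⊆
    Set.range (diag G).left := by
  let f := U.ι ≫ G.hom
  let j : pullback f f ⟶ pullback G.hom G.hom :=
    pullback.map f f G.hom G.hom U.ι U.ι (𝟙 S) (by simp [f]) (by simp [f])
  have hj : IsOpenImmersion j := inferInstance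
  have hrange : Set.range j = (fst G G).left ⁻¹' (U : Set G.left) ∩
      (snd G G).left ⁻¹' (U : Set G.left) := by
    have := Scheme.Pullback.range_map f f G.hom G.hom U.ι U.ι (𝟙 S) (by simp [f]) (by simp [f])
    rw [Scheme.Opens.range_ι] at this
    rw [Over.fst_left, Over.snd_left]
    exact this
  have hΔ : pullback.diagonal f ≫ j = U.ι ≫ (diag G).left := by
    rw [diag_left]
    have hj1 : j ≫ pullback.fst G.hom G.hom = pullback.fst f f ≫ U.ι := pullback.lift_fst _ _ _
    have hj2 : j ≫ pullback.snd G.hom G.hom = pullback.snd f f ≫ U.ι := pullback.lift_snd _ _ _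
    apply pullback.hom_ext
    · rw [Category.assoc, hj1, pullback.diagonal_fst_assoc, Category.assoc, pullback.diagonal_fst,
        Category.comp_id]
    · rw [Category.assoc, hj2, pullback.diagonal_snd_assoc, Category.assoc, pullback.diagonal_snd,
        Category.comp_id]
  have hcl : IsClosed (Set.range (pullback.diagonal f)) :=
    (pullback.diagonal f).isClosedEmbedding.isClosed_range
  -- `UU ∩ D = j '' range Δ_U`
  have hA : ((fst G G).left ⁻¹' (U : Set G.left) ∩ (snd G G).left ⁻¹' (U : Set G.left)) ∩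
      Set.range (diag G).left = j '' Set.range (pullback.diagonal f) := by
    apply le_antisymm
    · rintro _ ⟨⟨h1, _⟩, ⟨g, rfl⟩⟩
      have hgU : g ∈ U := by
        have : (fst G G).left ((diag G).left g) = g := by
          rw [← Scheme.Hom.comp_apply, ← Over.comp_left, diag, lift_fst]; rfl
        rw [← this]; exact h1
      refine ⟨pullback.diagonal f ⟨g, hgU⟩, ⟨_, rfl⟩, ?_⟩
      rw [← Scheme.Hom.comp_apply, hΔ, Scheme.Hom.comp_apply]
      rfl
    · rintro _ ⟨_, ⟨g, rfl⟩, rfl⟩
      refine ⟨?_, ?_⟩
      · rw [← hrange]; exact ⟨_, rfl⟩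
      · rw [← Scheme.Hom.comp_apply, hΔ, Scheme.Hom.comp_apply]
        exact ⟨_, rfl⟩
  rw [hA]
  rintro q ⟨hq1, hq2⟩
  rw [← hrange] at hq2
  obtain ⟨q', rfl⟩ := hq2
  have hq' : q' ∈ closure (Set.range (pullback.diagonal f)) := by
    rw [j.isOpenEmbedding.isInducing.closure_eq_preimage_closure_image]
    exact hq1
  rw [hcl.closure_eq] at hq'
  obtain ⟨g, rfl⟩ := hq'
  rw [← Scheme.Hom.comp_apply, hΔ, Scheme.Hom.comp_apply]
  exact ⟨_, rfl⟩

/-- **Main theorem**: the diagonal of a universally open group scheme with irreducible fibres is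
closed. -/
theorem isClosed_range_diag [UniversallyOpen G.hom]
    (hirr : ∀ s : S, IrreducibleSpace (fib G s).left) :
    IsClosed (Set.range (diag G).left) := by
  rw [← closure_subset_iff_isClosed]
  intro z hz
  let s : S := (G ⊗ G).hom z
  let e0 : G.left := η[G].left (show (𝟙_ (Over S)).left from s)
  obtain ⟨_, ⟨(U : G.left.Opens), hUaff, rfl⟩, he0U, -⟩ :=
    G.left.isBasis_affineOpens.exists_subset_of_mem_open
    (Set.mem_univ e0) isOpen_univ
  have hUaff : IsAffineOpen U := hUaff
  have : IsAffine (U : Scheme.{u}) := hUaff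
  have hsep : IsSeparated (U.ι ≫ G.hom) := by
    have : IsSeparated ((U.ι ≫ G.hom) ≫ terminal.from S) := by
      rw [terminal.comp_from]
      infer_instance
    exact IsSeparated.of_comp (U.ι ≫ G.hom) (terminal.from S)
  have hUd : Dense (fibι G s ⁻¹' (U : Set G.left)) := by
    have := (hirr s).toPreirreducibleSpace
    apply IsOpen.dense (U.isOpen.preimage (fibι G s).continuous)
    refine ⟨ePt (fib G s), ?_⟩
    change fibι G s (ePt (fib G s)) ∈ U
    rw [fibι_ePt G s (show (𝟙_ (Over S)).left from s) rfl]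
    exact he0U
  -- the point `z`
  let P : Over S := Over.mk ((G ⊗ G).left.fromSpecResidueField z ≫ (G ⊗ G).hom)
  let zP : P ⟶ G ⊗ G := Over.homMk ((G ⊗ G).left.fromSpecResidueField z) rfl
  let x : P ⟶ G := zP ≫ fst G G
  let y : P ⟶ G := zP ≫ snd G G
  let T : Over S := P ⊗ G
  let a : T ⟶ G := snd P G
  let p : T ⟶ P := fst P G
  have hrt : ∀ v : P ⟶ G, IsIso (lift p (a * (p ≫ v))).left := by
    intro v
    refine ⟨(lift p (a * (p ≫ v)⁻¹)).left, ?_, ?_⟩
    · rw [← Over.comp_left]
      have : lift p (a * (p ≫ v)) ≫ lift p (a * (p ≫ v)⁻¹) = 𝟙 T := by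
        apply CartesianMonoidalCategory.hom_ext
        · rw [Category.assoc, lift_fst, lift_fst, Category.id_comp]
        · rw [Category.assoc, lift_snd, MonObj.comp_mul, GrpObj.comp_inv, lift_snd,
            lift_fst_assoc, Category.id_comp]
          change _ = a
          group
      rw [this]; rfl
    · rw [← Over.comp_left]
      have : lift p (a * (p ≫ v)⁻¹) ≫ lift p (a * (p ≫ v)) = 𝟙 T := by
        apply CartesianMonoidalCategory.hom_ext
        · rw [Category.assoc, lift_fst, lift_fst, Category.id_comp]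
        · rw [Category.assoc, lift_snd, MonObj.comp_mul, lift_snd,
            lift_fst_assoc, Category.id_comp]
          change _ = a
          group
      rw [this]; rfl
  let φx : T ⟶ T := lift p (a * (p ≫ x))
  let φy : T ⟶ T := lift p (a * (p ≫ y))
  have hφx : IsIso φx.left := hrt x
  have hφy : IsIso φy.left := hrt y
  let r : P.left ⟶ Spec (S.residueField s) := Spec.map ((G ⊗ G).hom.residueFieldMap z)
  have hr : r ≫ S.fromSpecResidueField s = P.hom :=
    Scheme.Hom.SpecMap_residueFieldMap_fromSpecResidueField (G ⊗ G).hom z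
  have hro : UniversallyOpen r := inferInstance
  have hd : Dense (a.left ⁻¹' (U : Set G.left)) := dense_snd_preimage G s r hr U hUd
  have hd1 : Dense (φx.left ⁻¹' (a.left ⁻¹' (U : Set G.left))) :=
    hd.preimage φx.left.isOpenEmbedding.isOpenMap
  have hd2 : Dense (φy.left ⁻¹' (a.left ⁻¹' (U : Set G.left))) :=
    hd.preimage φy.left.isOpenEmbedding.isOpenMap
  have ho2 : IsOpen (φy.left ⁻¹' (a.left ⁻¹' (U : Set G.left))) :=
    (U.isOpen.preimage a.left.continuous).preimage φy.left.continuous
  have hne : Nonempty T.left := by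
    have : Nonempty P.left := by
      change Nonempty (Spec ((G ⊗ G).left.residueField z))
      infer_instance
    exact this.map (lift (𝟙 P) x).left
  obtain ⟨t, ht1, ht2⟩ := (hd1.inter_of_isOpen_right hd2 ho2).nonempty
  -- the point `w`
  let wT : T ⟶ G ⊗ (G ⊗ G) := lift a (p ≫ zP)
  let w : (G ⊗ (G ⊗ G)).left := wT.left t
  have hwz : (snd G (G ⊗ G)).left w = z := by
    change (wT ≫ snd G (G ⊗ G)).left t = z
    rw [lift_snd]
    change ((G ⊗ G).left.fromSpecResidueField z) (p.left t) = z
    exact Scheme.fromSpecResidueField_apply _ _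
  have hΨ1 : (fst G G).left ((Psi G).left w) ∈ U := by
    change (wT ≫ Psi G ≫ fst G G).left t ∈ U
    have : wT ≫ Psi G ≫ fst G G = φx ≫ a := by
      simp only [wT, Psi, φx, x, a, lift_fst, lift_snd, MonObj.comp_mul, lift_snd_assoc,
        Category.assoc]
    rw [this]; exact ht1
  have hΨ2 : (snd G G).left ((Psi G).left w) ∈ U := by
    change (wT ≫ Psi G ≫ snd G G).left t ∈ U
    have : wT ≫ Psi G ≫ snd G G = φy ≫ a := by
      simp only [wT, Psi, φy, y, a, lift_fst, lift_snd, MonObj.comp_mul, lift_snd_assoc,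
        Category.assoc]
    rw [this]; exact ht2
  -- closure argument
  have hpr_open : IsOpenMap (snd G (G ⊗ G)).left :=
    Groth.Agent.Lib.Helper25.DenseMul.isOpenMap_snd_left_of_universallyOpen (G ⊗ G) G
  have hw_cl : w ∈ closure ((snd G (G ⊗ G)).left ⁻¹' Set.range (diag G).left) := by
    rw [← hpr_open.preimage_closure_eq_closure_preimage (snd G (G ⊗ G)).left.continuous]
    change (snd G (G ⊗ G)).left w ∈ closure (Set.range (diag G).left)
    rw [hwz]; exact hz
  let UU : Set (G ⊗ G).left :=
    (fst G G).left ⁻¹' (U : Set G.left) ∩ (snd G G).left ⁻¹' (U : Set G.left)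
  have hUUo : IsOpen UU := (U.isOpen.preimage (fst G G).left.continuous).inter
    (U.isOpen.preimage (snd G G).left.continuous)
  have hOo : IsOpen ((Psi G).left ⁻¹' UU) := hUUo.preimage (Psi G).left.continuous
  have hwO : w ∈ (Psi G).left ⁻¹' UU := ⟨hΨ1, hΨ2⟩
  have hw_cl2 : w ∈ closure ((Psi G).left ⁻¹' UU ∩
      (snd G (G ⊗ G)).left ⁻¹' Set.range (diag G).left) :=
    hOo.inter_closure ⟨hwO, hw_cl⟩
  rw [← Psi_preimage_range_diag, ← Set.preimage_inter] at hw_cl2
  have hΨw : (Psi G).left w ∈ closure (UU ∩ Set.range (diag G).left) :=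
    map_mem_closure (Psi G).left.continuous hw_cl2 (fun _ h => h)
  have hΨD : (Psi G).left w ∈ Set.range (diag G).left :=
    closure_inter_subset_range_diag G U ⟨hΨw, hwO⟩
  have : w ∈ (Psi G).left ⁻¹' Set.range (diag G).left := hΨD
  rw [Psi_preimage_range_diag] at this
  rw [← hwz]
  exact this

/-- **S3025 (separatedness)**. -/
theorem isSeparated_of_universallyOpen [UniversallyOpen G.hom]
    (hirr : ∀ s : S, IrreducibleSpace (fib G s).left) : IsSeparated G.hom := by
  constructor
  apply IsClosedImmersion.of_isPreimmersion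
  rw [← diag_left]
  exact isClosed_range_diag G hirr

end main

end Groth.Agent.Lib.Seat24.GrpSep
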