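import Mathlib
import Groth.Agent.Lib.Seat24GrpSep
import Groth.Agent.Lib.Helper12Act
import Groth.Agent.S5342

/-!
# Separatedness of a scheme with a "transitive" action of a group with connected fibres (helper24)

`isSeparated_of_action`: let `G` be an `S`-group scheme, universally open over `S` with connected
fibres, acting on an `S`-scheme `X` such that `G ×_S X → X ×_S X`, `(g, x) ↦ (g x, x)` is surjective.
Then `X` is separated over `S` (SGA 3 VI_B 5.x / 6.x).

Proof: let `z` be in the closure of the diagonal `D` of `X ×_S X`; write `z = Φ(q)`, `q = (g₀, x₂)`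
a point with values in a field `K`, so that `z = (x₁, x₂)` with `x₁ = g₀ x₂`.  Choose an affine
open `U` of `X` containing (the image of) `x₂`.  The scheme `G_K` is irreducible, so there is a point
`g` of `G_K` with `g x₁ ∈ U` and `g x₂ ∈ U` (these two open conditions are satisfied by `g₀⁻¹` resp.
`e`).  Let `w = (g, x₁, x₂)`, a point of `G × (X × X)` over `z`.  The projection
`pr : G × (X × X) → X × X` is open, so `w` is in the closure of `pr⁻¹ D = Ψ⁻¹ D`, where
`Ψ (g, x, y) = (g x, g y)`; since `D ∩ (U × U)` is closed in `U × U`, we get `Ψ w ∈ D`, i.e. `z ∈ D`.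
-/

set_option autoImplicit false
set_option linter.unusedSectionVars false
universe u
open CategoryTheory CategoryTheory.Limits MonoidalCategory CartesianMonoidalCategory MonObj GrpObj
  AlgebraicGeometry

namespace Groth.Agent.Lib.Seat24.ActSep

open Groth.Agent.Lib.Seat24.Neutral Groth.Agent.Lib.Helper25.IdComp Groth.Agent.Lib.Helper12

variable {S : Scheme.{u}}

section diag

variable (X : Over S)

/-- the diagonal of `X`. -/
noncomputable def diag : X ⟶ X ⊗ X := lift (𝟙 X) (𝟙 X)

lemma diag_left : (diag X).left = pullback.diagonal X.hom := by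
  apply pullback.hom_ext
  · have h1 : (diag X).left ≫ pullback.fst X.hom X.hom = 𝟙 _ := by
      rw [← Over.fst_left, ← Over.comp_left, diag, lift_fst]; rfl
    rw [h1, pullback.diagonal_fst]
  · have h1 : (diag X).left ≫ pullback.snd X.hom X.hom = 𝟙 _ := by
      rw [← Over.snd_left, ← Over.comp_left, diag, lift_snd]; rfl
    rw [h1, pullback.diagonal_snd]

/-- the diagonal is relatively closed in `U × U` for `U` separated over `S`. -/
lemma closure_inter_subset_range_diag (U : X.left.Opens) [IsSeparated (U.ι ≫ X.hom)] :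
    closure (((fst X X).left ⁻¹' (U : Set X.left) ∩ (snd X X).left ⁻¹' (U : Set X.left)) ∩
        Set.range (diag X).left) ∩
      ((fst X X).left ⁻¹' (U : Set X.left) ∩ (snd X X).left ⁻¹' (U : Set X.left)) ⊆
    Set.range (diag X).left := by
  let f := U.ι ≫ X.hom
  let j : pullback f f ⟶ pullback X.hom X.hom :=
    pullback.map f f X.hom X.hom U.ι U.ι (𝟙 S) (by simp [f]) (by simp [f])
  have hj : IsOpenImmersion j := inferInstance
  have hrange : Set.range j = (fst X X).left ⁻¹' (U : Set X.left) ∩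
      (snd X X).left ⁻¹' (U : Set X.left) := by
    have := Scheme.Pullback.range_map f f X.hom X.hom U.ι U.ι (𝟙 S) (by simp [f]) (by simp [f])
    rw [Scheme.Opens.range_ι] at this
    rw [Over.fst_left, Over.snd_left]
    exact this
  have hΔ : pullback.diagonal f ≫ j = U.ι ≫ (diag X).left := by
    rw [diag_left]
    have hj1 : j ≫ pullback.fst X.hom X.hom = pullback.fst f f ≫ U.ι := pullback.lift_fst _ _ _
    have hj2 : j ≫ pullback.snd X.hom X.hom = pullback.snd f f ≫ U.ι := pullback.lift_snd _ _ _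
    apply pullback.hom_ext
    · rw [Category.assoc, hj1, pullback.diagonal_fst_assoc, Category.assoc, pullback.diagonal_fst,
        Category.comp_id]
    · rw [Category.assoc, hj2, pullback.diagonal_snd_assoc, Category.assoc, pullback.diagonal_snd,
        Category.comp_id]
  have hcl : IsClosed (Set.range (pullback.diagonal f)) :=
    (pullback.diagonal f).isClosedEmbedding.isClosed_range
  -- `UU ∩ D = j '' range Δ_U`
  have hA : ((fst X X).left ⁻¹' (U : Set X.left) ∩ (snd X X).left ⁻¹' (U : Set X.left)) ∩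
      Set.range (diag X).left = j '' Set.range (pullback.diagonal f) := by
    apply le_antisymm
    · rintro _ ⟨⟨h1, _⟩, ⟨g, rfl⟩⟩
      have hgU : g ∈ U := by
        have : (fst X X).left ((diag X).left g) = g := by
          rw [← Scheme.Hom.comp_apply, ← Over.comp_left, diag, lift_fst]; rfl
        rw [← this]; exact h1
      refine ⟨pullback.diagonal f ⟨g, hgU⟩, ⟨_, rfl⟩, ?_⟩
      rw [← Scheme.Hom.comp_apply, hΔ, Scheme.Hom.comp_apply]
      rfl
    · rintro _ ⟨_, ⟨g, rfl⟩, rfl⟩
      refine ⟨?_, ?_⟩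
      · rw [← hrange]; exact ⟨_, rfl⟩
      · rw [← Scheme.Hom.comp_apply, hΔ, Scheme.Hom.comp_apply]
        exact ⟨_, rfl⟩
  rw [hA]
  rintro q ⟨hq1, hq2⟩
  rw [← hrange] at hq2
  obtain ⟨q', rfl⟩ := hq2
  have hq' : q' ∈ closure (Set.range (pullback.diagonal f)) := by
    rw [j.isOpenEmbedding.isInducing.closure_eq_preimage_closure_image]
    exact hq1
  rw [hcl.closure_eq] at hq'
  obtain ⟨g, rfl⟩ := hq'
  rw [← Scheme.Hom.comp_apply, hΔ, Scheme.Hom.comp_apply]
  exact ⟨_, rfl⟩

end diag

section act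

variable {G X : Over S} [GrpObj G] (a : AlgGrp.Action G X)

/-- `g⁻¹ (g x) = x`. -/
lemma inv_act_act {T : Over S} (g : T ⟶ G) (x : T ⟶ X) :
    lift g⁻¹ (lift g x ≫ a.act) ≫ a.act = x := by
  rw [← act_mul, inv_mul_cancel, act_one]

/-- `g (g⁻¹ x) = x`. -/
lemma act_inv_act {T : Over S} (g : T ⟶ G) (x : T ⟶ X) :
    lift g (lift g⁻¹ x ≫ a.act) ≫ a.act = x := by
  rw [← act_mul, mul_inv_cancel, act_one]

/-- `(g, x, y) ↦ (g x, g y)`. -/
noncomputable def Psi : G ⊗ (X ⊗ X) ⟶ X ⊗ X :=
  lift (lift (fst G (X ⊗ X)) (snd G (X ⊗ X) ≫ fst X X) ≫ a.act)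
    (lift (fst G (X ⊗ X)) (snd G (X ⊗ X) ≫ snd X X) ≫ a.act)

/-- `(g, x, y) ↦ (g, g x, g y)`. -/
noncomputable def sigma : G ⊗ (X ⊗ X) ⟶ G ⊗ (X ⊗ X) := lift (fst G (X ⊗ X)) (Psi a)

noncomputable def sigmaInv : G ⊗ (X ⊗ X) ⟶ G ⊗ (X ⊗ X) :=
  lift (fst G (X ⊗ X))
    (lift (lift (fst G (X ⊗ X))⁻¹ (snd G (X ⊗ X) ≫ fst X X) ≫ a.act)
      (lift (fst G (X ⊗ X))⁻¹ (snd G (X ⊗ X) ≫ snd X X) ≫ a.act))

lemma sigma_sigmaInv : sigma a ≫ sigmaInv a = 𝟙 _ := by
  apply CartesianMonoidalCategory.hom_ext
  · simp [sigma, sigmaInv]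
  · apply CartesianMonoidalCategory.hom_ext
    · simp only [sigma, sigmaInv, Psi, Category.assoc, lift_snd, lift_fst, Category.id_comp]
      rw [← Category.assoc, comp_lift, GrpObj.comp_inv, lift_fst, lift_snd_assoc, lift_fst,
        inv_act_act]
    · simp only [sigma, sigmaInv, Psi, Category.assoc, lift_snd, Category.id_comp]
      rw [← Category.assoc, comp_lift, GrpObj.comp_inv, lift_fst, lift_snd_assoc, lift_snd,
        inv_act_act]

lemma sigmaInv_sigma : sigmaInv a ≫ sigma a = 𝟙 _ := by
  apply CartesianMonoidalCategory.hom_ext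
  · simp [sigma, sigmaInv]
  · apply CartesianMonoidalCategory.hom_ext
    · simp only [sigma, sigmaInv, Psi, Category.assoc, lift_snd, lift_fst, Category.id_comp]
      rw [← Category.assoc, comp_lift, lift_fst, lift_snd_assoc, lift_fst, act_inv_act]
    · simp only [sigma, sigmaInv, Psi, Category.assoc, lift_snd, Category.id_comp]
      rw [← Category.assoc, comp_lift, lift_fst, lift_snd_assoc, lift_snd, act_inv_act]

lemma sigma_snd : sigma a ≫ snd G (X ⊗ X) = Psi a := lift_snd _ _

lemma whiskerLeft_diag_sigma :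
    (G ◁ diag X) ≫ sigma a = shear a ≫ (G ◁ diag X) := by
  apply CartesianMonoidalCategory.hom_ext
  · simp [sigma, shear]
  · simp only [sigma, Psi, diag, shear, Category.assoc, lift_snd, whiskerLeft_snd]
    apply CartesianMonoidalCategory.hom_ext
    · simp only [Category.assoc, lift_fst, lift_snd_assoc, Category.comp_id]
      rw [← Category.assoc, comp_lift, whiskerLeft_fst, whiskerLeft_snd_assoc, lift_fst,
        Category.comp_id, lift_fst_snd, Category.id_comp]
    · simp only [Category.assoc, lift_snd, lift_snd_assoc, Category.comp_id]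
      rw [← Category.assoc, comp_lift, whiskerLeft_fst, whiskerLeft_snd_assoc, lift_snd,
        Category.comp_id, lift_fst_snd, Category.id_comp]

/-- `Ψ⁻¹ D = pr⁻¹ D` for the diagonal `D`. -/
lemma Psi_preimage_range_diag :
    (Psi a).left ⁻¹' Set.range (diag X).left =
      (snd G (X ⊗ X)).left ⁻¹' Set.range (diag X).left := by
  have hiso : IsIso (sigma a).left :=
    ⟨(sigmaInv a).left, by rw [← Over.comp_left, sigma_sigmaInv]; rfl,
      by rw [← Over.comp_left, sigmaInv_sigma]; rfl⟩
  have hR : Set.range (G ◁ diag X).left = (snd G (X ⊗ X)).left ⁻¹' Set.range (diag X).left :=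
    Groth.Agent.Lib.Helper25.TopGrp.range_whiskerLeft G (diag X)
  have himg : (sigma a).left '' Set.range (G ◁ diag X).left = Set.range (G ◁ diag X).left := by
    rw [← Set.range_comp, ← TopCat.coe_comp, ← Scheme.Hom.comp_base, ← Over.comp_left,
      whiskerLeft_diag_sigma, Over.comp_left, Scheme.Hom.comp_base, TopCat.coe_comp,
      Set.range_comp]
    have : IsIso (shear a).left := by
      have : IsIso (shear a) := (shearIso a).isIso_hom
      exact (Over.forget S).map_isIso (shear a)
    rw [Set.range_eq_univ.mpr (shear a).left.surjective, Set.image_univ]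
  have hpre : (sigma a).left ⁻¹' Set.range (G ◁ diag X).left = Set.range (G ◁ diag X).left := by
    conv_lhs => rw [← himg]
    exact Set.preimage_image_eq _ (sigma a).left.injective
  rw [← hR, ← hpre, hR, ← sigma_snd]
  rfl

end act

section irr

variable (G : Over S) [GrpObj G]

/-- for a field-valued point `p = r ≫ (Spec κ(s) ⟶ S)` of `S` such that the fibre of `G` at `s` is
connected, the base change `Spec K ×_S G` is irreducible. -/
theorem irreducibleSpace_tensor_of_field {K : Type u} [Field K] (p : Spec (CommRingCat.of K) ⟶ S)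
    (s : S) (r : Spec (CommRingCat.of K) ⟶ Spec (S.residueField s))
    (hr : r ≫ S.fromSpecResidueField s = p) [ConnectedSpace (fib G s).left] :
    IrreducibleSpace (Over.mk p ⊗ G).left := by
  subst hr
  let t := S.fromSpecResidueField s
  let GK : Over (Spec (CommRingCat.of K)) := (Over.pullback (r ≫ t)).obj G
  let _ : GrpObj GK := Functor.grpObjObj
  -- the unit section of the fibre
  let σ : Spec (CommRingCat.of (S.residueField s)) ⟶ (fib G s).left := η[fib G s].left
  have hσ : σ ≫ (fib G s).hom = 𝟙 _ := Over.w η[fib G s]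
  have : ConnectedSpace ↥(Spec (CommRingCat.of K)) := inferInstance
  have hc : ConnectedSpace ↥(pullback (fib G s).hom r) :=
    Groth.Agent.S5342.result (S.residueField s) _ _ (fib G s).hom r σ hσ
  let e1 : pullback (pullback.snd G.hom t) r ≅ pullback G.hom (r ≫ t) :=
    pullbackLeftPullbackSndIso G.hom t r
  have hc2 : ConnectedSpace GK.left := by
    change ConnectedSpace ↥(pullback G.hom (r ≫ t))
    have : ConnectedSpace ↥(pullback (pullback.snd G.hom t) r) := hc
    exact e1.hom.homeomorph.surjective.connectedSpace e1.hom.continuous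
  have hi : IrreducibleSpace GK.left := irreducibleSpace_of_connectedSpace GK
  let e2 : pullback G.hom (r ≫ t) ≅ pullback (r ≫ t) G.hom := pullbackSymmetry _ _
  change IrreducibleSpace ↥(pullback (r ≫ t) G.hom)
  exact e2.hom.homeomorph.irreducibleSpace_iff.mp hi

end irr

section main

variable {G X : Over S} [GrpObj G] (a : AlgGrp.Action G X)

/-- **Main theorem**: the diagonal of `X` is closed. -/
theorem isClosed_range_diag [UniversallyOpen G.hom]
    (hirr : ∀ q : (G ⊗ X).left, PreirreducibleSpace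
      (Over.mk ((G ⊗ X).left.fromSpecResidueField q ≫ (G ⊗ X).hom) ⊗ G).left)
    (hΦ : Function.Surjective (lift a.act (snd G X)).left) :
    IsClosed (Set.range (diag X).left) := by
  rw [← closure_subset_iff_isClosed]
  intro z hz
  obtain ⟨q, rfl⟩ := hΦ z
  -- the point `q = (g₀, x₂)`
  let P : Over S := Over.mk ((G ⊗ X).left.fromSpecResidueField q ≫ (G ⊗ X).hom)
  let qP : P ⟶ G ⊗ X := Over.homMk ((G ⊗ X).left.fromSpecResidueField q) rfl
  let g₀ : P ⟶ G := qP ≫ fst G X
  let x₂ : P ⟶ X := qP ≫ snd G X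
  let x₁ : P ⟶ X := lift g₀ x₂ ≫ a.act
  let zP : P ⟶ X ⊗ X := lift x₁ x₂
  have hzP : zP = qP ≫ lift a.act (snd G X) := by
    apply CartesianMonoidalCategory.hom_ext
    · rw [lift_fst, Category.assoc, lift_fst]
      change lift (qP ≫ fst G X) (qP ≫ snd G X) ≫ a.act = _
      rw [← comp_lift, lift_fst_snd, Category.comp_id]
    · rw [lift_snd, Category.assoc, lift_snd]
  have hPpt : ∀ pt : P.left, qP.left pt = q := fun pt => Scheme.fromSpecResidueField_apply _ _
  have hPne : Nonempty P.left := by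
    change Nonempty (Spec ((G ⊗ X).left.residueField q))
    infer_instance
  obtain ⟨pt⟩ := hPne
  -- the affine open `U`
  let ξ : X.left := x₂.left pt
  obtain ⟨_, ⟨(U : X.left.Opens), hUaff, rfl⟩, hξU, -⟩ :=
    X.left.isBasis_affineOpens.exists_subset_of_mem_open (Set.mem_univ ξ) isOpen_univ
  have hUaff : IsAffineOpen U := hUaff
  have : IsAffine (U : Scheme.{u}) := hUaff
  have hsep : IsSeparated (U.ι ≫ X.hom) := by
    have : IsSeparated ((U.ι ≫ X.hom) ≫ terminal.from S) := by
      rw [terminal.comp_from]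
      infer_instance
    exact IsSeparated.of_comp (U.ι ≫ X.hom) (terminal.from S)
  -- the orbit maps
  let T : Over S := P ⊗ G
  let aT : T ⟶ G := snd P G
  let p : T ⟶ P := fst P G
  let o₁ : T ⟶ X := lift aT (p ≫ x₁) ≫ a.act
  let o₂ : T ⟶ X := lift aT (p ≫ x₂) ≫ a.act
  have hT : PreirreducibleSpace T.left := hirr q
  have ho1 : IsOpen (o₁.left ⁻¹' (U : Set X.left)) := U.isOpen.preimage o₁.left.continuous
  have ho2 : IsOpen (o₂.left ⁻¹' (U : Set X.left)) := U.isOpen.preimage o₂.left.continuous
  have hne1 : (o₁.left ⁻¹' (U : Set X.left)).Nonempty := by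
    refine ⟨(lift (𝟙 P) g₀⁻¹).left pt, ?_⟩
    change (lift (𝟙 P) g₀⁻¹ ≫ o₁).left pt ∈ U
    have : lift (𝟙 P) g₀⁻¹ ≫ o₁ = x₂ := by
      change lift (𝟙 P) g₀⁻¹ ≫ lift aT (p ≫ x₁) ≫ a.act = x₂
      rw [← Category.assoc, comp_lift, lift_snd, lift_fst_assoc, Category.id_comp]
      exact inv_act_act a g₀ x₂
    rw [this]
    exact hξU
  have hne2 : (o₂.left ⁻¹' (U : Set X.left)).Nonempty := by
    refine ⟨(lift (𝟙 P) (1 : P ⟶ G)).left pt, ?_⟩
    change (lift (𝟙 P) (1 : P ⟶ G) ≫ o₂).left pt ∈ U
    have : lift (𝟙 P) (1 : P ⟶ G) ≫ o₂ = x₂ := by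
      change lift (𝟙 P) (1 : P ⟶ G) ≫ lift aT (p ≫ x₂) ≫ a.act = x₂
      rw [← Category.assoc, comp_lift, lift_snd, lift_fst_assoc, Category.id_comp]
      exact act_one a x₂
    rw [this]
    exact hξU
  obtain ⟨t, ht1, ht2⟩ := nonempty_preirreducible_inter ho1 ho2 hne1 hne2
  -- the point `w`
  let wT : T ⟶ G ⊗ (X ⊗ X) := lift aT (p ≫ zP)
  let w : (G ⊗ (X ⊗ X)).left := wT.left t
  have hwz : (snd G (X ⊗ X)).left w = (lift a.act (snd G X)).left q := by
    change (wT ≫ snd G (X ⊗ X)).left t = _
    rw [lift_snd, hzP]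
    change (lift a.act (snd G X)).left (qP.left (p.left t)) = _
    rw [hPpt]
  have hΨ1 : (fst X X).left ((Psi a).left w) ∈ U := by
    change (wT ≫ Psi a ≫ fst X X).left t ∈ U
    have : wT ≫ Psi a ≫ fst X X = o₁ := by
      change wT ≫ Psi a ≫ fst X X = lift aT (p ≫ x₁) ≫ a.act
      rw [Psi, lift_fst, ← Category.assoc, comp_lift, lift_fst, lift_snd_assoc, Category.assoc,
        lift_fst]
    rw [this]; exact ht1
  have hΨ2 : (snd X X).left ((Psi a).left w) ∈ U := by
    change (wT ≫ Psi a ≫ snd X X).left t ∈ U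
    have : wT ≫ Psi a ≫ snd X X = o₂ := by
      change wT ≫ Psi a ≫ snd X X = lift aT (p ≫ x₂) ≫ a.act
      rw [Psi, lift_snd, ← Category.assoc, comp_lift, lift_fst, lift_snd_assoc, Category.assoc,
        lift_snd]
    rw [this]; exact ht2
  -- closure argument
  have hpr_open : IsOpenMap (snd G (X ⊗ X)).left :=
    Groth.Agent.Lib.Helper25.DenseMul.isOpenMap_snd_left_of_universallyOpen (X ⊗ X) G
  have hw_cl : w ∈ closure ((snd G (X ⊗ X)).left ⁻¹' Set.range (diag X).left) := by
    rw [← hpr_open.preimage_closure_eq_closure_preimage (snd G (X ⊗ X)).left.continuous]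
    change (snd G (X ⊗ X)).left w ∈ closure (Set.range (diag X).left)
    rw [hwz]; exact hz
  let UU : Set (X ⊗ X).left :=
    (fst X X).left ⁻¹' (U : Set X.left) ∩ (snd X X).left ⁻¹' (U : Set X.left)
  have hUUo : IsOpen UU := (U.isOpen.preimage (fst X X).left.continuous).inter
    (U.isOpen.preimage (snd X X).left.continuous)
  have hOo : IsOpen ((Psi a).left ⁻¹' UU) := hUUo.preimage (Psi a).left.continuous
  have hwO : w ∈ (Psi a).left ⁻¹' UU := ⟨hΨ1, hΨ2⟩
  have hw_cl2 : w ∈ closure ((Psi a).left ⁻¹' UU ∩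
      (snd G (X ⊗ X)).left ⁻¹' Set.range (diag X).left) :=
    hOo.inter_closure ⟨hwO, hw_cl⟩
  rw [← Psi_preimage_range_diag, ← Set.preimage_inter] at hw_cl2
  have hΨw : (Psi a).left w ∈ closure (UU ∩ Set.range (diag X).left) :=
    map_mem_closure (Psi a).left.continuous hw_cl2 (fun _ h => h)
  have hΨD : (Psi a).left w ∈ Set.range (diag X).left :=
    closure_inter_subset_range_diag X U ⟨hΨw, hwO⟩
  have : w ∈ (Psi a).left ⁻¹' Set.range (diag X).left := hΨD
  rw [Psi_preimage_range_diag] at this
  rw [← hwz]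
  exact this

/-- separatedness of `X` from closedness of the diagonal. -/
theorem isSeparated_of_preirreducible [UniversallyOpen G.hom]
    (hirr : ∀ q : (G ⊗ X).left, PreirreducibleSpace
      (Over.mk ((G ⊗ X).left.fromSpecResidueField q ≫ (G ⊗ X).hom) ⊗ G).left)
    (hΦ : Function.Surjective (lift a.act (snd G X)).left) : IsSeparated X.hom := by
  constructor
  apply IsClosedImmersion.of_isPreimmersion
  rw [← diag_left]
  exact isClosed_range_diag a hirr hΦ

/-- **S4100**: a universally open group scheme with connected fibres acting "transitively" on `X`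
forces `X` to be separated. -/
theorem isSeparated_of_action [UniversallyOpen G.hom]
    (hconn : ∀ s : S, _root_.IsConnected (G.hom ⁻¹' {s}))
    (hΦ : Function.Surjective (lift a.act (snd G X)).left) : IsSeparated X.hom := by
  apply isSeparated_of_preirreducible a _ hΦ
  intro q
  let s : S := (G ⊗ X).hom q
  have : ConnectedSpace (fib G s).left := connectedSpace_fib_of_isConnected G s (hconn s)
  have := irreducibleSpace_tensor_of_field G
    (K := (G ⊗ X).left.residueField q)
    ((G ⊗ X).left.fromSpecResidueField q ≫ (G ⊗ X).hom) s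
    (Spec.map ((G ⊗ X).hom.residueFieldMap q))
    (Scheme.Hom.SpecMap_residueFieldMap_fromSpecResidueField (G ⊗ X).hom q)
  exact this.toPreirreducibleSpace

end main

end Groth.Agent.Lib.Seat24.ActSep
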