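import Mathlib
import Groth.Agent.S5342
import Groth.Agent.Lib.Helper25LocFTArtin
import Groth.Agent.Lib.Helper14LocNoeth

/-!
# Connectedness of products of connected opens of a group scheme over an artinian local ring
(seat 24)
-/

set_option autoImplicit false
set_option linter.style.haveILetI false
universe u

open CategoryTheory CategoryTheory.Limits MonoidalCategory CartesianMonoidalCategory MonObj GrpObj
  AlgebraicGeometry

namespace Groth.Agent.Lib.Seat24.ArtinConn

open Groth.Agent.Lib.Helper25.LocFT

variable {A : Type u} [CommRing A] [IsArtinianRing A] [IsLocalRing A]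

omit [IsArtinianRing A] [IsLocalRing A] in
/-- a locally noetherian scheme is locally connected. -/
theorem locallyConnectedSpace_of_isLocallyNoetherian (X : Scheme.{u}) [IsLocallyNoetherian X] :
    LocallyConnectedSpace X := by
  apply Groth.Agent.Lib.Helper14.locallyConnectedSpace_of_locally_noetherian
  intro x
  obtain ⟨_, ⟨W, hW, rfl⟩, hxW, -⟩ := X.isBasis_affineOpens.exists_subset_of_mem_open
    (Set.mem_univ x) isOpen_univ
  replace hW : IsAffineOpen W := hW
  haveI : IsNoetherianRing Γ(X, W) := IsLocallyNoetherian.component_noetherian ⟨W, hW⟩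
  exact ⟨W, W.isOpen.mem_nhds hxW, noetherianSpace_of_isAffineOpen W hW⟩

/-- the spectrum of an artinian local ring is a point. -/
instance : Subsingleton (Spec (CommRingCat.of A)) := by
  have hprime : ∀ p : Ideal A, p.IsPrime → p = IsLocalRing.maximalIdeal A := fun p hp =>
    IsLocalRing.eq_maximalIdeal (IsArtinianRing.isMaximal_of_isPrime p)
  constructor
  intro z w
  exact PrimeSpectrum.ext ((hprime _ z.2).trans (hprime _ w.2).symm)

/-- the special fibre of a connected `A`-scheme is connected. -/
theorem connectedSpace_special {X : Scheme.{u}} (f : X ⟶ Spec (CommRingCat.of A))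
    [ConnectedSpace X] : ConnectedSpace ↥(pullback f (resMap A)) := by
  let j : pullback f (resMap A) ⟶ X := pullback.fst f (resMap A)
  have hj1 : IsClosedImmersion j := inferInstanceAs (IsClosedImmersion (pullback.fst f (resMap A)))
  have hj2 : Surjective j := inferInstanceAs (Surjective (pullback.fst f (resMap A)))
  let h : ↥(pullback f (resMap A)) ≃ₜ X := j.isEmbedding.toHomeomorphOfSurjective hj2.surj
  exact h.symm.surjective.connectedSpace h.symm.continuous

/-- **the product over `A` of two connected `A`-schemes, the first of which has a section, is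
connected.** -/
theorem connectedSpace_pullback {X Y : Scheme.{u}} (f : X ⟶ Spec (CommRingCat.of A))
    (g : Y ⟶ Spec (CommRingCat.of A)) [ConnectedSpace X] [ConnectedSpace Y]
    (σ : Spec (CommRingCat.of A) ⟶ X) (hσ : σ ≫ f = 𝟙 _) : ConnectedSpace ↥(pullback f g) := by
  haveI := connectedSpace_special f
  haveI := connectedSpace_special g
  let x₀ : Spec (CommRingCat.of (IsLocalRing.ResidueField A)) ⟶ pullback f (resMap A) :=
    pullback.lift (resMap A ≫ σ) (𝟙 _) (by rw [Category.assoc, hσ, Category.comp_id, Category.id_comp])
  have hx₀ : x₀ ≫ pullback.snd f (resMap A) = 𝟙 _ := pullback.lift_snd _ _ _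
  haveI := Groth.Agent.S5342.result (IsLocalRing.ResidueField A) _ _
    (pullback.snd f (resMap A)) (pullback.snd g (resMap A)) x₀ hx₀
  let m : pullback (pullback.snd f (resMap A)) (pullback.snd g (resMap A)) ⟶ pullback f g :=
    pullback.map _ _ _ _ (pullback.fst f (resMap A)) (pullback.fst g (resMap A)) (resMap A)
      pullback.condition.symm pullback.condition.symm
  have hm : Function.Surjective m := by
    rw [← Set.range_eq_univ]
    show Set.range (pullback.map _ _ _ _ (pullback.fst f (resMap A)) (pullback.fst g (resMap A))
      (resMap A) pullback.condition.symm pullback.condition.symm) = Set.univ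
    rw [Scheme.Pullback.range_map]
    have h1 : Set.range (pullback.fst f (resMap A)) = Set.univ :=
      Set.range_eq_univ.mpr (pullback.fst f (resMap A)).surjective
    have h2 : Set.range (pullback.fst g (resMap A)) = Set.univ :=
      Set.range_eq_univ.mpr (pullback.fst g (resMap A)).surjective
    rw [h1, h2]
    simp
  exact hm.connectedSpace m.continuous

variable (G : Over (Spec (CommRingCat.of A))) [GrpObj G]

/-- the "box" of two connected opens of `G`, the first containing the unit point, is preconnected. -/
theorem isPreconnected_box (C D : G.left.Opens) (hC : _root_.IsConnected (C : Set G.left))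
    (hD : _root_.IsConnected (D : Set G.left)) (pt : ↥(𝟙_ (Over (Spec (CommRingCat.of A)))).left)
    (he : η[G].left pt ∈ C) :
    IsPreconnected ((fst G G).left ⁻¹' (C : Set G.left) ∩ (snd G G).left ⁻¹' (D : Set G.left)) := by
  let CO : Over (Spec (CommRingCat.of A)) := Over.mk (C.ι ≫ G.hom)
  let jC : CO ⟶ G := Over.homMk C.ι rfl
  let DO : Over (Spec (CommRingCat.of A)) := Over.mk (D.ι ≫ G.hom)
  let jD : DO ⟶ G := Over.homMk D.ι rfl
  have hr : Set.range (jC ⊗ₘ jD).left =
      (fst G G).left ⁻¹' (C : Set G.left) ∩ (snd G G).left ⁻¹' (D : Set G.left) := by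
    rw [Over.tensorHom_left, Scheme.Pullback.range_map]
    congr 1
    · show (fst G G).left ⁻¹' Set.range C.ι = _
      rw [Scheme.Opens.range_ι]
    · show (snd G G).left ⁻¹' Set.range D.ι = _
      rw [Scheme.Opens.range_ι]
  haveI : ConnectedSpace C.toScheme := isConnected_iff_connectedSpace.mp hC
  haveI : ConnectedSpace D.toScheme := isConnected_iff_connectedSpace.mp hD
  -- the unit section of `C`
  have hrange : Set.range η[G].left ⊆ Set.range C.ι := by
    rw [Scheme.Opens.range_ι]
    rintro _ ⟨p, rfl⟩
    have hp : p = pt := Subsingleton.elim (α := Spec (CommRingCat.of A)) p pt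
    rw [hp]
    exact he
  let σ : Spec (CommRingCat.of A) ⟶ C.toScheme := IsOpenImmersion.lift C.ι η[G].left hrange
  have hσ : σ ≫ (C.ι ≫ G.hom) = 𝟙 _ := by
    rw [← Category.assoc, IsOpenImmersion.lift_fac]
    simp
  haveI : ConnectedSpace ↥(CO ⊗ DO).left :=
    connectedSpace_pullback (C.ι ≫ G.hom) (D.ι ≫ G.hom) σ hσ
  rw [← hr]
  exact isPreconnected_range (jC ⊗ₘ jD).left.continuous

end Groth.Agent.Lib.Seat24.ArtinConn
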