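import Mathlib
import Groth.Agent.Lib.Helper25OrbitLC
import Groth.Agent.Lib.Helper11KPts
import Groth.Agent.Lib.Helper12Act
import Groth.Agent.Lib.Seat24ArtinConn

/-!
# Orbit maps over an algebraically closed field pull dense opens back to dense opens (helper24)

Let `P = Spec L → S` with `L` algebraically closed, `G` an `S`-group acting on `X` such that
`P ×_S G` is locally of finite type over `L` with irreducible identity component, `P ×_S X` locally
noetherian, `x : P ⟶ X` a point whose orbit map `P × G → P × X` is surjective.  Then the preimage of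
a dense open of `P × X` under the orbit map is dense in `P × G`
(`dense_orb_preimage`).
-/

set_option autoImplicit false
set_option linter.unusedSectionVars false
universe u
open CategoryTheory CategoryTheory.Limits MonoidalCategory CartesianMonoidalCategory MonObj GrpObj
  AlgebraicGeometry

namespace Groth.Agent.Lib.Seat24.OrbitDense

open Groth.Agent.Lib.Helper25.OrbitLC

section top

/-- in a locally noetherian scheme a dense set meets every irreducible component in a point of a
nonempty open subset contained in the component. -/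
theorem inter_nonempty_of_dense {Y : Scheme.{u}} [IsLocallyNoetherian Y]
    {C : Set Y} (hC : C ∈ irreducibleComponents Y) {U : Set Y} (hd : Dense U) :
    (C ∩ U).Nonempty := by
  obtain ⟨c, hc⟩ := hC.1.nonempty
  obtain ⟨_, ⟨V, hV, rfl⟩, hcV, -⟩ := Y.isBasis_affineOpens.exists_subset_of_mem_open
    (Set.mem_univ c) isOpen_univ
  replace hV : IsAffineOpen V := hV
  have : IsNoetherianRing Γ(Y, V) := IsLocallyNoetherian.component_noetherian ⟨V, hV⟩
  have : TopologicalSpace.NoetherianSpace V := noetherianSpace_of_isAffineOpen V hV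
  have hemb : Topology.IsOpenEmbedding (Subtype.val : V → Y) := V.isOpen.isOpenEmbedding_subtypeVal
  have hpre : (Subtype.val : V → Y) ⁻¹' C ∈ irreducibleComponents V :=
    preimage_mem_irreducibleComponents hC hemb ⟨c, hc, ⟨⟨c, hcV⟩, rfl⟩⟩
  obtain ⟨o, ho, hone, hoC⟩ :=
    TopologicalSpace.NoetherianSpace.exists_isOpen_nonempty_subset_irreducibleComponent _ hpre
  have ho' : IsOpen ((Subtype.val : V → Y) '' o) := hemb.isOpenMap o ho
  obtain ⟨y, hyo, hyU⟩ := hd.inter_open_nonempty _ ho' (hone.image _)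
  obtain ⟨v, hv, rfl⟩ := hyo
  exact ⟨v, hoC hv, hyU⟩

end top

variable {S : Scheme.{u}} {G X : Over S} [GrpObj G] (a : AlgGrp.Action G X) {P : Over S}

/-- left translation of `P × G` by a `P`-point of `G`. -/
noncomputable def tl (g : P ⟶ G) : P ⊗ G ⟶ P ⊗ G := lift (fst P G) ((fst P G ≫ g) * snd P G)

lemma tl_fst (g : P ⟶ G) : tl g ≫ fst P G = fst P G := lift_fst _ _

lemma tl_snd (g : P ⟶ G) : tl g ≫ snd P G = (fst P G ≫ g) * snd P G := lift_snd _ _

lemma tl_tl_inv (g : P ⟶ G) : tl g ≫ tl g⁻¹ = 𝟙 _ := by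
  apply CartesianMonoidalCategory.hom_ext
  · rw [Category.assoc, tl_fst, tl_fst, Category.id_comp]
  · rw [Category.assoc, tl_snd, MonObj.comp_mul, ← Category.assoc, tl_fst, tl_snd, GrpObj.comp_inv,
      inv_mul_cancel_left, Category.id_comp]

lemma tl_inv_tl (g : P ⟶ G) : tl g⁻¹ ≫ tl g = 𝟙 _ := by
  have := tl_tl_inv g⁻¹
  rwa [_root_.inv_inv] at this

lemma isIso_tl_left (g : P ⟶ G) : IsIso (tl g).left :=
  ⟨(tl g⁻¹).left, by rw [← Over.comp_left, tl_tl_inv]; rfl,
    by rw [← Over.comp_left, tl_inv_tl]; rfl⟩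

lemma lift_tl (g h : P ⟶ G) : lift (𝟙 P) h ≫ tl g = lift (𝟙 P) (g * h) := by
  apply CartesianMonoidalCategory.hom_ext
  · rw [Category.assoc, tl_fst, lift_fst, lift_fst]
  · rw [Category.assoc, tl_snd, MonObj.comp_mul, lift_fst_assoc, lift_snd, lift_snd,
      Category.id_comp]

/-- the orbit map `(π, g) ↦ (π, g x(π))`. -/
noncomputable def orb (x : P ⟶ X) : P ⊗ G ⟶ P ⊗ X :=
  lift (fst P G) (lift (snd P G) (fst P G ≫ x) ≫ a.act)

lemma orb_fst (x : P ⟶ X) : orb a x ≫ fst P X = fst P G := lift_fst _ _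

lemma orb_snd (x : P ⟶ X) : orb a x ≫ snd P X = lift (snd P G) (fst P G ≫ x) ≫ a.act :=
  lift_snd _ _

/-- equivariance of the orbit map. -/
lemma tl_orb (g : P ⟶ G) (x : P ⟶ X) : tl g ≫ orb a x = orb a x ≫ shear a g := by
  apply CartesianMonoidalCategory.hom_ext
  · rw [Category.assoc, orb_fst, tl_fst, Category.assoc, shear_fst, orb_fst]
  · rw [Category.assoc, orb_snd, Category.assoc, shear_snd, Helper25.OrbitLC.trans, ← Category.assoc,
      ← Category.assoc, comp_lift, comp_lift, tl_snd, ← Category.assoc, tl_fst, Groth.Agent.Lib.Helper12.act_mul,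
      ← Category.assoc (orb a x), orb_fst, orb_snd]

lemma isIso_shear_left (g : P ⟶ G) : IsIso (shear a g).left :=
  ⟨(shear a g⁻¹).left, by rw [← Over.comp_left, shear_shear_inv]; rfl,
    by rw [← Over.comp_left, shear_inv_shear]; rfl⟩

section field

variable {L : Type u} [Field L] [IsAlgClosed L] (f : Spec (CommRingCat.of L) ⟶ S)

/-- the closed point of `Spec L`. -/
noncomputable abbrev ptL : ↥(Over.mk f).left := IsLocalRing.closedPoint L

/-- the unit point of `P × G`. -/
noncomputable abbrev eT : ↥(Over.mk f ⊗ G).left :=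
  (lift (𝟙 (Over.mk f)) (1 : Over.mk f ⟶ G)).left (ptL f)

/-- every nonempty open of `P × G` contains a rational point. -/
lemma exists_rational_point (hG : LocallyOfFiniteType (fst (Over.mk f) G).left)
    (V : Set (Over.mk f ⊗ G).left) (hV : IsOpen V) (hne : V.Nonempty) :
    ∃ g : Over.mk f ⟶ G, (lift (𝟙 (Over.mk f)) g).left (ptL f) ∈ V := by
  have hJ : JacobsonSpace ↥(Over.mk f ⊗ G).left :=
    LocallyOfFiniteType.jacobsonSpace (Y := Spec _) (fst (Over.mk f) G).left
  obtain ⟨x, hxV, hxc⟩ := nonempty_inter_closedPoints hne hV.isLocallyClosed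
  obtain ⟨p, hp1, hp2⟩ := Groth.Agent.Lib.Helper11KPts.exists_point_of_closedPoint (K := L)
    (fst (Over.mk f) G).left x hxc
  have hid : Spec.map (CommRingCat.ofHom (algebraMap L L)) = 𝟙 _ := by
    rw [Algebra.algebraMap_self]
    exact Spec.map_id _
  rw [hid] at hp1
  have hw : p ≫ (Over.mk f ⊗ G).hom = (Over.mk f).hom := by
    rw [← Over.w (fst (Over.mk f) G), ← Category.assoc, hp1, Category.id_comp]
  let σ : Over.mk f ⟶ Over.mk f ⊗ G := Over.homMk p hw
  have hσ : σ = lift (𝟙 (Over.mk f)) (σ ≫ snd (Over.mk f) G) := by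
    apply CartesianMonoidalCategory.hom_ext
    · rw [lift_fst]
      ext1
      exact hp1
    · rw [lift_snd]
  refine ⟨σ ≫ snd (Over.mk f) G, ?_⟩
  rw [← hσ]
  change p (ptL f) ∈ V
  rw [hp2]
  exact hxV

/-- every point of `P × G` lies in a translate of the identity component by a rational point. -/
lemma exists_tl_mem (hG : LocallyOfFiniteType (fst (Over.mk f) G).left)
    (γ₀ : ↥(Over.mk f ⊗ G).left) :
    ∃ (g₀ : Over.mk f ⟶ G), ∃ γ' ∈ connectedComponent (eT (G := G) f), (tl g₀).left γ' = γ₀ := by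
  have hLN : IsLocallyNoetherian (Over.mk f ⊗ G).left :=
    LocallyOfFiniteType.isLocallyNoetherian (Y := Spec _) (fst (Over.mk f) G).left
  have hLC : LocallyConnectedSpace ↥(Over.mk f ⊗ G).left :=
    Groth.Agent.Lib.Seat24.ArtinConn.locallyConnectedSpace_of_isLocallyNoetherian _
  obtain ⟨g₀, hg₀⟩ := exists_rational_point f hG (connectedComponent γ₀)
    isOpen_connectedComponent ⟨γ₀, mem_connectedComponent⟩
  have hiso := isIso_tl_left g₀
  let h : ↥(Over.mk f ⊗ G).left ≃ₜ ↥(Over.mk f ⊗ G).left := (tl g₀).left.homeomorph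
  have himg : h '' connectedComponent (eT (G := G) f) = connectedComponent (h (eT f)) :=
    h.isQuotientMap.image_connectedComponent (fun y => by
      have : h ⁻¹' {y} = {h.symm y} := by
        ext z
        simp only [Set.mem_preimage, Set.mem_singleton_iff]
        exact h.eq_symm_apply.symm
      rw [this]
      exact isConnected_singleton) _
  have he : h (eT (G := G) f) = (lift (𝟙 (Over.mk f)) g₀).left (ptL f) := by
    change ((lift (𝟙 (Over.mk f)) (1 : Over.mk f ⟶ G)).left ≫ (tl g₀).left) (ptL f) = _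
    rw [← Over.comp_left, lift_tl, _root_.mul_one]
  rw [he, ← connectedComponent_eq hg₀] at himg
  have : γ₀ ∈ h '' connectedComponent (eT (G := G) f) := by
    rw [himg]; exact mem_connectedComponent
  obtain ⟨γ', hγ', hh⟩ := this
  exact ⟨g₀, γ', hγ', hh⟩

/-- **Main theorem**: orbit maps over an algebraically closed field pull dense opens back to dense
opens. -/
theorem dense_orb_preimage (hG : LocallyOfFiniteType (fst (Over.mk f) G).left)
    [IsLocallyNoetherian (Over.mk f ⊗ X).left]
    (hirr : IsIrreducible (connectedComponent (eT (G := G) f)))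
    (x : Over.mk f ⟶ X) (hsurj : Function.Surjective (orb a x).left)
    (U : Set (Over.mk f ⊗ X).left) (hUo : IsOpen U) (hU : Dense U) :
    Dense ((orb a x).left ⁻¹' U) := by
  set o := (orb a x).left with ho
  set G0 := connectedComponent (eT (G := G) f) with hG0
  have hocont : Continuous o := o.continuous
  -- `F`, the closure of the orbit of the identity component
  let F : Set (Over.mk f ⊗ X).left := closure (o '' G0)
  have hF : IsIrreducible F := (hirr.image o hocont.continuousOn).closure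
  -- an irreducible component `C₀` of `P × X`
  let C₀ : Set (Over.mk f ⊗ X).left := irreducibleComponent (o (eT f))
  have hC₀ : C₀ ∈ irreducibleComponents ↥(Over.mk f ⊗ X).left :=
    irreducibleComponent_mem_irreducibleComponents _
  have hC₀cl : IsClosed C₀ := isClosed_irreducibleComponent
  have hgen := hC₀.1.isGenericPoint_genericPoint hC₀cl
  set ξ₀ := hC₀.1.genericPoint with hξ₀
  obtain ⟨γ₀, hγ₀⟩ := hsurj ξ₀
  obtain ⟨g₀, γ', hγ', hγγ⟩ := exists_tl_mem f hG γ₀
  have hiso₀ := isIso_shear_left a g₀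
  let τ₀ : ↥(Over.mk f ⊗ X).left ≃ₜ ↥(Over.mk f ⊗ X).left := (shear a g₀).left.homeomorph
  have hequiv : ∀ (g : Over.mk f ⟶ G) (c : ↥(Over.mk f ⊗ G).left),
      o ((tl g).left c) = (shear a g).left (o c) := by
    intro g c
    change ((tl g).left ≫ (orb a x).left) c = ((orb a x).left ≫ (shear a g).left) c
    rw [← Over.comp_left, ← Over.comp_left, tl_orb]
  have hξF : ξ₀ ∈ τ₀ '' F := by
    refine ⟨o γ', subset_closure ⟨γ', hγ', rfl⟩, ?_⟩
    change (shear a g₀).left (o γ') = ξ₀
    rw [← hequiv, hγγ, hγ₀]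
  have hτF : τ₀ '' F = C₀ := by
    have hcl : IsClosed (τ₀ '' F) := τ₀.isClosedMap _ isClosed_closure
    have hirrτ : IsIrreducible (τ₀ '' F) := hF.image τ₀ τ₀.continuous.continuousOn
    have hsub : C₀ ⊆ τ₀ '' F := by
      rw [← hgen.def]
      exact hcl.closure_subset_iff.mpr (Set.singleton_subset_iff.mpr hξF)
    exact le_antisymm (hC₀.2 hirrτ hsub) hsub
  -- Step II
  have key : ∀ g : Over.mk f ⟶ G, ∃ γ'' ∈ G0, o ((tl g).left γ'') ∈ U := by
    intro g
    have hisog := isIso_shear_left a g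
    let τg : ↥(Over.mk f ⊗ X).left ≃ₜ ↥(Over.mk f ⊗ X).left := (shear a g).left.homeomorph
    have hD'o : IsOpen (τg ⁻¹' U) := hUo.preimage τg.continuous
    have hD'd : Dense (τg ⁻¹' U) := hU.preimage τg.isOpenMap
    have hd2 : Dense (τ₀ '' (τg ⁻¹' U)) :=
      τ₀.surjective.denseRange.dense_image τ₀.continuous hD'd
    obtain ⟨c, hcC, hcD⟩ := inter_nonempty_of_dense hC₀ hd2
    rw [← hτF] at hcC
    obtain ⟨y, hyF, rfl⟩ := hcC
    obtain ⟨y', hy'D, hyy⟩ := hcD
    have hy : y' = y := τ₀.injective hyy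
    subst hy
    -- `y ∈ F ∩ τg⁻¹ U`
    obtain ⟨v, hvD, ⟨γ'', hγ'', rfl⟩⟩ := mem_closure_iff.mp hyF _ hD'o hy'D
    refine ⟨γ'', hγ'', ?_⟩
    rw [hequiv]
    exact hvD
  -- Step III
  rw [dense_iff_inter_open]
  intro V hVo hVne
  obtain ⟨g, hg⟩ := exists_rational_point f hG V hVo hVne
  obtain ⟨γ'', hγ'', hγU⟩ := key g
  have hirrg : IsIrreducible ((tl g).left '' G0) :=
    hirr.image _ (tl g).left.continuous.continuousOn
  have h1 : (((tl g).left '' G0) ∩ V).Nonempty := by
    refine ⟨(lift (𝟙 (Over.mk f)) g).left (ptL f), ⟨eT f, mem_connectedComponent, ?_⟩, hg⟩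
    change ((lift (𝟙 (Over.mk f)) (1 : Over.mk f ⟶ G)).left ≫ (tl g).left) (ptL f) = _
    rw [← Over.comp_left, lift_tl, _root_.mul_one]
  have h2 : (((tl g).left '' G0) ∩ (o ⁻¹' U)).Nonempty :=
    ⟨(tl g).left γ'', ⟨γ'', hγ'', rfl⟩, hγU⟩
  obtain ⟨v, -, hvV, hvU⟩ := hirrg.2 V (o ⁻¹' U) hVo (hUo.preimage hocont) h1 h2
  exact ⟨v, hvV, hvU⟩

end field

end Groth.Agent.Lib.Seat24.OrbitDense
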