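import Mathlib
import Groth.Agent.Lib.Seat24OrbitDense
import Groth.Agent.Lib.Seat24ActSep

/-!
# Applications of `Seat24OrbitDense` (helper24)

Verification of the hypotheses of `dense_orb_preimage` for `P = Spec L → S`.
-/

set_option autoImplicit false
set_option linter.unusedSectionVars false
universe u
open CategoryTheory CategoryTheory.Limits MonoidalCategory CartesianMonoidalCategory MonObj GrpObj
  AlgebraicGeometry

namespace Groth.Agent.Lib.Seat24.OrbitDenseApp

open Groth.Agent.Lib.Seat24.OrbitDense Groth.Agent.Lib.Helper25.IdComp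

variable {S : Scheme.{u}} {G X : Over S} [GrpObj G]

section irr

variable {L : Type u} [Field L] [IsAlgClosed L] (f : Spec (CommRingCat.of L) ⟶ S)

/-- the unit section of `Spec L ×_S G` through the symmetry isomorphism. -/
lemma unit_left_comp_symmetry :
    η[(Over.pullback f).obj G].left ≫ (pullbackSymmetry G.hom f).hom =
      (lift (𝟙 (Over.mk f)) (1 : Over.mk f ⟶ G)).left := by
  apply pullback.hom_ext
  · rw [Category.assoc, pullbackSymmetry_hom_comp_fst]
    have h1 : η[(Over.pullback f).obj G].left ≫ pullback.snd G.hom f = 𝟙 _ :=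
      Over.w η[(Over.pullback f).obj G]
    have h2 : (lift (𝟙 (Over.mk f)) (1 : Over.mk f ⟶ G)).left ≫ pullback.fst f G.hom = 𝟙 _ := by
      have : (lift (𝟙 (Over.mk f)) (1 : Over.mk f ⟶ G) ≫ fst (Over.mk f) G).left = 𝟙 _ := by
        rw [lift_fst]; rfl
      rw [Over.comp_left, Over.fst_left] at this
      exact this
    rw [h1, h2]
    rfl
  · rw [Category.assoc, pullbackSymmetry_hom_comp_snd]
    have h1 : η[(Over.pullback f).obj G] = Functor.LaxMonoidal.ε (Over.pullback f) ≫
        (Over.pullback f).map η[G] := rfl
    have h2 : ((Over.pullback f).map η[G]).left ≫ pullback.fst G.hom f =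
        pullback.fst _ _ ≫ η[G].left := pullback.lift_fst _ _ _
    have h3 : (lift (𝟙 (Over.mk f)) (1 : Over.mk f ⟶ G)).left ≫ pullback.snd f G.hom =
        (toUnit (Over.mk f)).left ≫ η[G].left := by
      have : (lift (𝟙 (Over.mk f)) (1 : Over.mk f ⟶ G) ≫ snd (Over.mk f) G).left =
          (toUnit (Over.mk f) ≫ η[G]).left := by
        rw [lift_snd, Hom.one_def]
      rw [Over.comp_left, Over.snd_left, Over.comp_left] at this
      exact this
    rw [h1, Over.comp_left, Category.assoc, h2, h3, ← Category.assoc]
    congr 1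
    -- two morphisms `Spec L ⟶ S`
    have h4 : (toUnit (Over.mk f)).left = f := by
      have := Over.w (toUnit (Over.mk f))
      rw [Over.tensorUnit_hom] at this
      exact (Category.comp_id _).symm.trans this
    have h5 : (Functor.LaxMonoidal.ε (Over.pullback f)).left ≫
        pullback.fst (𝟙_ (Over S)).hom f = f := by
      have hc : pullback.fst (𝟙_ (Over S)).hom f ≫ (𝟙_ (Over S)).hom =
          pullback.snd (𝟙_ (Over S)).hom f ≫ f := pullback.condition
      have hc' : pullback.fst (𝟙_ (Over S)).hom f = pullback.snd (𝟙_ (Over S)).hom f ≫ f := by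
        rw [← hc, Over.tensorUnit_hom]
        exact (Category.comp_id _).symm
      rw [hc', ← Category.assoc]
      have hw : (Functor.LaxMonoidal.ε (Over.pullback f)).left ≫
          pullback.snd (𝟙_ (Over S)).hom f = 𝟙 _ :=
        Over.w (Functor.LaxMonoidal.ε (Over.pullback f))
      rw [hw, Category.id_comp]
    rw [h4, h5]

/-- the connected component of the unit point of `Spec L ×_S G` is irreducible. -/
theorem isIrreducible_connectedComponent_eT :
    IsIrreducible (connectedComponent (eT (G := G) f)) := by
  let GK : Over (Spec (CommRingCat.of L)) := (Over.pullback f).obj G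
  let _ : GrpObj GK := Functor.grpObjObj
  have hI : IsIrreducible (connectedComponent (ePt GK)) := isIrreducible_connectedComponent_ePt GK
  let h : ↥GK.left ≃ₜ ↥(Over.mk f ⊗ G).left := (pullbackSymmetry G.hom f).hom.homeomorph
  have himg : h '' connectedComponent (ePt GK) = connectedComponent (h (ePt GK)) :=
    h.isQuotientMap.image_connectedComponent (fun y => by
      have : h ⁻¹' {y} = {h.symm y} := by
        ext z
        simp only [Set.mem_preimage, Set.mem_singleton_iff]
        exact h.eq_symm_apply.symm
      rw [this]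
      exact isConnected_singleton) _
  have he : h (ePt GK) = eT (G := G) f := by
    change (η[GK].left ≫ (pullbackSymmetry G.hom f).hom) (IsLocalRing.closedPoint L) = _
    rw [unit_left_comp_symmetry]
  rw [← he, ← himg]
  exact hI.image h h.continuous.continuousOn

end irr

section fibreX

variable {L : Type u} [Field L] (f : Spec (CommRingCat.of L) ⟶ S) (s : S)
  (r : Spec (CommRingCat.of L) ⟶ Spec (S.residueField s))
  (hr : r ≫ S.fromSpecResidueField s = f) (X)

include hr in
lemma toFiber_aux : (snd (Over.mk f) X).left ≫ X.hom =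
    ((fst (Over.mk f) X).left ≫ r) ≫ S.fromSpecResidueField s := by
  rw [Category.assoc, hr, Over.snd_left, Over.fst_left]
  exact pullback.condition.symm

/-- the comparison map `Spec L ×_S X ⟶ X_s`. -/
noncomputable def toFiber : (Over.mk f ⊗ X).left ⟶ X.hom.fiber s :=
  pullback.lift (snd (Over.mk f) X).left ((fst (Over.mk f) X).left ≫ r) (toFiber_aux X f s r hr)

lemma toFiber_fiberι : toFiber X f s r hr ≫ X.hom.fiberι s = (snd (Over.mk f) X).left :=
  pullback.lift_fst _ _ _

lemma toFiber_snd :
    toFiber X f s r hr ≫ X.hom.fiberToSpecResidueField s = (fst (Over.mk f) X).left ≫ r :=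
  pullback.lift_snd _ _ _

lemma isPullback_toFiber :
    IsPullback (toFiber X f s r hr) (fst (Over.mk f) X).left
      (X.hom.fiberToSpecResidueField s) r := by
  have hTsq : IsPullback (snd (Over.mk f) X).left (fst (Over.mk f) X).left X.hom f := by
    rw [Over.snd_left, Over.fst_left]
    exact (IsPullback.of_hasPullback f X.hom).flip
  refine IsPullback.of_right ?_ (toFiber_snd X f s r hr)
    (IsPullback.of_hasPullback X.hom (S.fromSpecResidueField s))
  rw [hr]
  have := toFiber_fiberι X f s r hr
  unfold Scheme.Hom.fiberι at this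
  rw [this]
  exact hTsq

include hr in
/-- `Spec L ×_S X` is locally noetherian when the fibre of `X` is locally of finite type. -/
theorem isLocallyNoetherian_tensor
    (hft : LocallyOfFiniteType (X.hom.fiberToSpecResidueField s)) :
    IsLocallyNoetherian (Over.mk f ⊗ X).left := by
  have h1 : LocallyOfFiniteType (fst (Over.mk f) X).left :=
    MorphismProperty.of_isPullback (P := @LocallyOfFiniteType) (isPullback_toFiber X f s r hr) hft
  exact LocallyOfFiniteType.isLocallyNoetherian (Y := Spec _) (fst (Over.mk f) X).left

include hr in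
/-- an open of `X` dense in the fibre `X_s` pulls back to a dense open of `Spec L ×_S X`. -/
theorem dense_snd_preimage_of_fibre [UniversallyOpen r] (U : X.left.Opens)
    (hU : X.hom ⁻¹' {s} ⊆ closure ((U : Set X.left) ∩ X.hom ⁻¹' {s})) :
    Dense ((snd (Over.mk f) X).left ⁻¹' (U : Set X.left)) := by
  -- density in the fibre
  have hemb : Topology.IsEmbedding (X.hom.fiberι s) := (X.hom.fiberι s).isEmbedding
  have hrange : Set.range (X.hom.fiberι s) = X.hom ⁻¹' {s} := X.hom.range_fiberι s
  have hd : Dense ((X.hom.fiberι s) ⁻¹' (U : Set X.left)) := by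
    intro y
    rw [hemb.isInducing.closure_eq_preimage_closure_image, Set.image_preimage_eq_inter_range,
      hrange]
    apply hU
    rw [← hrange]
    exact ⟨y, rfl⟩
  have hopen : IsOpenMap (toFiber X f s r hr) := by
    have h2 : UniversallyOpen (toFiber X f s r hr) :=
      MorphismProperty.of_isPullback (P := @UniversallyOpen) (isPullback_toFiber X f s r hr).flip
        inferInstance
    exact (toFiber X f s r hr).isOpenMap
  have hpre : (snd (Over.mk f) X).left ⁻¹' (U : Set X.left) =
      (toFiber X f s r hr) ⁻¹' ((X.hom.fiberι s) ⁻¹' (U : Set X.left)) := by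
    rw [← toFiber_fiberι X f s r hr]
    rfl
  rw [hpre]
  exact hd.preimage hopen

end fibreX

section surj

/-- the orbit map of any point is surjective when `(g, x) ↦ (g x, x)` is. -/
theorem surjective_orb (a : AlgGrp.Action G X)
    (hΦ : Function.Surjective (lift a.act (snd G X)).left) {P : Over S} (x : P ⟶ X) :
    Function.Surjective (orb a x).left := by
  intro y'
  let Φ : G ⊗ X ⟶ X ⊗ X := lift a.act (snd G X)
  let j : P ⊗ X ⟶ X ⊗ X := lift (snd P X) (fst P X ≫ x)
  obtain ⟨q', hq'⟩ := hΦ (j.left y')
  obtain ⟨w, hw1, hw2⟩ := Scheme.Pullback.exists_preimage_pullback (f := j.left) (g := Φ.left)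
    y' q' hq'.symm
  let Z : Over S := Over.mk (pullback.fst j.left Φ.left ≫ (P ⊗ X).hom)
  let u : Z ⟶ P ⊗ X := Over.homMk (pullback.fst j.left Φ.left) rfl
  have hv : pullback.snd j.left Φ.left ≫ (G ⊗ X).hom = Z.hom := by
    change _ = pullback.fst j.left Φ.left ≫ (P ⊗ X).hom
    rw [← Over.w Φ, ← Over.w j, ← Category.assoc, ← Category.assoc, pullback.condition]
  let v : Z ⟶ G ⊗ X := Over.homMk (pullback.snd j.left Φ.left) hv
  have huv : u ≫ j = v ≫ Φ := by
    apply Over.OverMorphism.ext
    exact pullback.condition (f := j.left) (g := Φ.left)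
  have h1 : u ≫ snd P X = v ≫ a.act := by
    have := congrArg (fun m => m ≫ fst X X) huv
    simp only [Category.assoc] at this
    rwa [lift_fst, lift_fst] at this
  have h2 : u ≫ fst P X ≫ x = v ≫ snd G X := by
    have := congrArg (fun m => m ≫ snd X X) huv
    simp only [Category.assoc] at this
    rwa [lift_snd, lift_snd] at this
  let c : Z ⟶ P ⊗ G := lift (u ≫ fst P X) (v ≫ fst G X)
  have hc : c ≫ orb a x = u := by
    apply CartesianMonoidalCategory.hom_ext
    · rw [Category.assoc, orb_fst, lift_fst]
    · rw [Category.assoc, orb_snd, ← Category.assoc, comp_lift, lift_snd, lift_fst_assoc,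
        Category.assoc, h2, ← comp_lift, lift_fst_snd, Category.comp_id, h1]
  refine ⟨c.left w, ?_⟩
  change (c.left ≫ (orb a x).left) w = y'
  rw [← Over.comp_left, hc]
  exact hw1

end surj

end Groth.Agent.Lib.Seat24.OrbitDenseApp
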