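import Mathlib
import Groth.Agent.Lib.Seat24OrbitDenseApp

/-!
# Separatedness of a homogeneous space with a fibrewise dense separated open (helper24)

`isSeparated_of_dense_separated_open` (S5332): `G` locally of finite type over `S`, universally open
over `S` on an open `W` containing the unit section, acting on `X` with `(g, x) ↦ (g x, x)`
surjective; the fibres of `X` locally of finite type, and for each `s` an open `U` of `X`,
separated over `S`, with `U_s` dense in `X_s`.  Then `X` is separated over `S`.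
-/

set_option autoImplicit false
set_option linter.unusedSectionVars false
universe u
open CategoryTheory CategoryTheory.Limits MonoidalCategory CartesianMonoidalCategory MonObj GrpObj
  AlgebraicGeometry

namespace Groth.Agent.Lib.Seat24.ActSepDense

open Groth.Agent.Lib.Seat24.ActSep Groth.Agent.Lib.Seat24.OrbitDense
  Groth.Agent.Lib.Seat24.OrbitDenseApp

variable {S : Scheme.{u}} {G X : Over S} [GrpObj G] (a : AlgGrp.Action G X)

/-- the closure argument: a point `w = (g, x, y)` over a point `z = (x, y)` of the closure of the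
diagonal, with `g` in an open `W` of `G` universally open over `S` and `g x, g y` in an open `U` of
`X` separated over `S`, forces `z` to be on the diagonal. -/
theorem mem_range_diag_of_point (W : G.left.Opens) [UniversallyOpen (W.ι ≫ G.hom)]
    (U : X.left.Opens) [IsSeparated (U.ι ≫ X.hom)] (w : ↥(G ⊗ (X ⊗ X)).left)
    (hwW : (fst G (X ⊗ X)).left w ∈ W)
    (hw1 : (fst X X).left ((Psi a).left w) ∈ U) (hw2 : (snd X X).left ((Psi a).left w) ∈ U)
    (hz : (snd G (X ⊗ X)).left w ∈ closure (Set.range (ActSep.diag X).left)) :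
    (snd G (X ⊗ X)).left w ∈ Set.range (ActSep.diag X).left := by
  let GW : Over S := Over.mk (W.ι ≫ G.hom)
  let jW : GW ⟶ G := Over.homMk W.ι rfl
  have hGW : UniversallyOpen GW.hom := ‹UniversallyOpen (W.ι ≫ G.hom)›
  let ι' : GW ⊗ (X ⊗ X) ⟶ G ⊗ (X ⊗ X) := jW ▷ (X ⊗ X)
  let pr' : GW ⊗ (X ⊗ X) ⟶ X ⊗ X := snd GW (X ⊗ X)
  have hpr' : ι' ≫ snd G (X ⊗ X) = pr' := whiskerRight_snd _ _
  have hrange : Set.range ι'.left = (fst G (X ⊗ X)).left ⁻¹' (W : Set G.left) := by
    have h1 := Groth.Agent.Lib.Helper25.TopGrp.range_tensorHom jW (𝟙 (X ⊗ X))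
    rw [tensorHom_id] at h1
    rw [h1]
    have h2 : Set.range (𝟙 (X ⊗ X) : X ⊗ X ⟶ X ⊗ X).left = Set.univ := by
      rw [Over.id_left]
      exact Set.range_eq_univ.mpr (fun y => ⟨y, rfl⟩)
    have h3 : Set.range jW.left = (W : Set G.left) := Scheme.Opens.range_ι W
    rw [h2, h3, Set.preimage_univ, Set.inter_univ]
  obtain ⟨w', rfl⟩ : w ∈ Set.range ι'.left := by rw [hrange]; exact hwW
  let Ψ' : GW ⊗ (X ⊗ X) ⟶ X ⊗ X := ι' ≫ Psi a
  have hΨ'D : Ψ'.left ⁻¹' Set.range (ActSep.diag X).left = pr'.left ⁻¹' Set.range (ActSep.diag X).left := by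
    have e1 : Ψ'.left ⁻¹' Set.range (ActSep.diag X).left =
        ι'.left ⁻¹' ((Psi a).left ⁻¹' Set.range (ActSep.diag X).left) := rfl
    have e2 : pr'.left ⁻¹' Set.range (ActSep.diag X).left =
        ι'.left ⁻¹' ((snd G (X ⊗ X)).left ⁻¹' Set.range (ActSep.diag X).left) := by
      rw [← hpr']; rfl
    rw [e1, e2, Psi_preimage_range_diag]
  have hprw : pr'.left w' = (snd G (X ⊗ X)).left (ι'.left w') := by
    rw [← hpr']; rfl
  have hpr_open : IsOpenMap pr'.left :=
    Groth.Agent.Lib.Helper25.DenseMul.isOpenMap_snd_left_of_universallyOpen (X ⊗ X) GW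
  have hw_cl : w' ∈ closure (pr'.left ⁻¹' Set.range (ActSep.diag X).left) := by
    rw [← hpr_open.preimage_closure_eq_closure_preimage pr'.left.continuous]
    change pr'.left w' ∈ closure (Set.range (ActSep.diag X).left)
    rw [hprw]; exact hz
  let UU : Set (X ⊗ X).left :=
    (fst X X).left ⁻¹' (U : Set X.left) ∩ (snd X X).left ⁻¹' (U : Set X.left)
  have hUUo : IsOpen UU := (U.isOpen.preimage (fst X X).left.continuous).inter
    (U.isOpen.preimage (snd X X).left.continuous)
  have hOo : IsOpen (Ψ'.left ⁻¹' UU) := hUUo.preimage Ψ'.left.continuous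
  have hwO : w' ∈ Ψ'.left ⁻¹' UU := ⟨hw1, hw2⟩
  have hw_cl2 : w' ∈ closure (Ψ'.left ⁻¹' UU ∩ pr'.left ⁻¹' Set.range (ActSep.diag X).left) :=
    hOo.inter_closure ⟨hwO, hw_cl⟩
  rw [← hΨ'D, ← Set.preimage_inter] at hw_cl2
  have hΨw : Ψ'.left w' ∈ closure (UU ∩ Set.range (ActSep.diag X).left) :=
    map_mem_closure Ψ'.left.continuous hw_cl2 (fun _ h => h)
  have hΨD : Ψ'.left w' ∈ Set.range (ActSep.diag X).left :=
    closure_inter_subset_range_diag X U ⟨hΨw, hwO⟩
  have : w' ∈ Ψ'.left ⁻¹' Set.range (ActSep.diag X).left := hΨD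
  rw [hΨ'D] at this
  rw [← hprw]
  exact this

/-- **S5332**: the diagonal of `X` is closed. -/
theorem isClosed_range_diag_of_dense [LocallyOfFiniteType G.hom]
    (W : G.left.Opens) (hWe : ∀ p : ↥(𝟙_ (Over S)).left, η[G].left p ∈ W)
    [UniversallyOpen (W.ι ≫ G.hom)]
    (hΦ : Function.Surjective (lift a.act (snd G X)).left)
    (hft : ∀ s : S, LocallyOfFiniteType (X.hom.fiberToSpecResidueField s))
    (hU : ∀ s : S, ∃ U : X.left.Opens, IsSeparated (U.ι ≫ X.hom) ∧
      X.hom ⁻¹' {s} ⊆ closure ((U : Set X.left) ∩ X.hom ⁻¹' {s})) :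
    IsClosed (Set.range (ActSep.diag X).left) := by
  rw [← closure_subset_iff_isClosed]
  intro z hz
  obtain ⟨q, rfl⟩ := hΦ z
  let s : S := (G ⊗ X).hom q
  obtain ⟨U, hUsep, hUd⟩ := hU s
  -- an algebraically closed field `L` and the point `q = (g₀, x₂)` with values in `L`
  let L : Type u := AlgebraicClosure ((G ⊗ X).left.residueField q)
  let ιL : Spec (CommRingCat.of L) ⟶ Spec ((G ⊗ X).left.residueField q) :=
    Spec.map (CommRingCat.ofHom (algebraMap ((G ⊗ X).left.residueField q) L))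
  let f : Spec (CommRingCat.of L) ⟶ S :=
    (ιL ≫ (G ⊗ X).left.fromSpecResidueField q) ≫ (G ⊗ X).hom
  let r : Spec (CommRingCat.of L) ⟶ Spec (S.residueField s) :=
    ιL ≫ Spec.map ((G ⊗ X).hom.residueFieldMap q)
  have hr : r ≫ S.fromSpecResidueField s = f := by
    change (ιL ≫ Spec.map ((G ⊗ X).hom.residueFieldMap q)) ≫ S.fromSpecResidueField s =
      (ιL ≫ (G ⊗ X).left.fromSpecResidueField q) ≫ (G ⊗ X).hom
    rw [Category.assoc, Scheme.Hom.SpecMap_residueFieldMap_fromSpecResidueField, Category.assoc]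
  have hro : UniversallyOpen r := inferInstance
  let qP : Over.mk f ⟶ G ⊗ X := Over.homMk (ιL ≫ (G ⊗ X).left.fromSpecResidueField q) rfl
  let g₀ : Over.mk f ⟶ G := qP ≫ fst G X
  let x₂ : Over.mk f ⟶ X := qP ≫ snd G X
  let x₁ : Over.mk f ⟶ X := lift g₀ x₂ ≫ a.act
  let zP : Over.mk f ⟶ X ⊗ X := lift x₁ x₂
  have hzP : zP = qP ≫ lift a.act (snd G X) := by
    apply CartesianMonoidalCategory.hom_ext
    · rw [lift_fst, Category.assoc, lift_fst]
      change lift (qP ≫ fst G X) (qP ≫ snd G X) ≫ a.act = _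
      rw [← comp_lift, lift_fst_snd, Category.comp_id]
    · rw [lift_snd, Category.assoc, lift_snd]
  have hPpt : ∀ pt : ↥(Over.mk f).left, qP.left pt = q := fun pt => by
    change (ιL ≫ (G ⊗ X).left.fromSpecResidueField q) pt = q
    rw [Scheme.Hom.comp_apply]
    exact Scheme.fromSpecResidueField_apply _ _
  -- the density statement
  have hLN : IsLocallyNoetherian (Over.mk f ⊗ X).left :=
    isLocallyNoetherian_tensor X f s r hr (hft s)
  have hG : LocallyOfFiniteType (fst (Over.mk f) G).left := by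
    rw [Over.fst_left]; infer_instance
  have hirr := isIrreducible_connectedComponent_eT (G := G) f
  have hsurj := surjective_orb a hΦ x₂
  have hUPd : Dense ((snd (Over.mk f) X).left ⁻¹' (U : Set X.left)) :=
    dense_snd_preimage_of_fibre X f s r hr U hUd
  have hUPo : IsOpen ((snd (Over.mk f) X).left ⁻¹' (U : Set X.left)) :=
    U.isOpen.preimage (snd (Over.mk f) X).left.continuous
  have hO2 : Dense ((orb a x₂).left ⁻¹' ((snd (Over.mk f) X).left ⁻¹' (U : Set X.left))) :=
    dense_orb_preimage a f hG hirr x₂ hsurj _ hUPo hUPd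
  have hO2o : IsOpen ((orb a x₂).left ⁻¹' ((snd (Over.mk f) X).left ⁻¹' (U : Set X.left))) :=
    hUPo.preimage (orb a x₂).left.continuous
  -- notation
  let aT : Over.mk f ⊗ G ⟶ G := snd (Over.mk f) G
  let p : Over.mk f ⊗ G ⟶ Over.mk f := fst (Over.mk f) G
  let o₁ : Over.mk f ⊗ G ⟶ X := lift aT (p ≫ x₁) ≫ a.act
  let o₂ : Over.mk f ⊗ G ⟶ X := lift aT (p ≫ x₂) ≫ a.act
  have ho2 : orb a x₂ ≫ snd (Over.mk f) X = o₂ := orb_snd a x₂
  -- right translation by `g₀`
  let ρ : Over.mk f ⊗ G ⟶ Over.mk f ⊗ G := lift p (aT * (p ≫ g₀))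
  have hρiso : IsIso ρ.left := by
    refine ⟨(lift p (aT * (p ≫ g₀)⁻¹)).left, ?_, ?_⟩
    · rw [← Over.comp_left]
      have : lift p (aT * (p ≫ g₀)) ≫ lift p (aT * (p ≫ g₀)⁻¹) = 𝟙 (Over.mk f ⊗ G) := by
        apply CartesianMonoidalCategory.hom_ext
        · rw [Category.assoc, lift_fst, lift_fst, Category.id_comp]
        · rw [Category.assoc, lift_snd, MonObj.comp_mul, GrpObj.comp_inv, lift_snd,
            lift_fst_assoc, Category.id_comp]
          change _ = aT
          group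
      rw [this]; rfl
    · rw [← Over.comp_left]
      have : lift p (aT * (p ≫ g₀)⁻¹) ≫ lift p (aT * (p ≫ g₀)) = 𝟙 (Over.mk f ⊗ G) := by
        apply CartesianMonoidalCategory.hom_ext
        · rw [Category.assoc, lift_fst, lift_fst, Category.id_comp]
        · rw [Category.assoc, lift_snd, MonObj.comp_mul, lift_snd,
            lift_fst_assoc, Category.id_comp]
          change _ = aT
          group
      rw [this]; rfl
  have hρo : ρ ≫ o₂ = o₁ := by
    change lift p (aT * (p ≫ g₀)) ≫ lift aT (p ≫ x₂) ≫ a.act = lift aT (p ≫ x₁) ≫ a.act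
    have hx1 : p ≫ x₁ = lift (p ≫ g₀) (p ≫ x₂) ≫ a.act :=
      Groth.Agent.Lib.Helper12.comp_lift_act a p g₀ x₂
    rw [← Category.assoc, comp_lift, lift_snd, lift_fst_assoc, Groth.Agent.Lib.Helper12.act_mul,
      hx1]
  have hO1 : Dense (ρ.left ⁻¹'
      ((orb a x₂).left ⁻¹' ((snd (Over.mk f) X).left ⁻¹' (U : Set X.left)))) :=
    hO2.preimage ρ.left.isOpenEmbedding.isOpenMap
  -- the open `W`
  have hWo : IsOpen (aT.left ⁻¹' (W : Set G.left)) := W.isOpen.preimage aT.left.continuous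
  have hWne : (aT.left ⁻¹' (W : Set G.left)).Nonempty := by
    refine ⟨eT (G := G) f, ?_⟩
    change (lift (𝟙 (Over.mk f)) (1 : Over.mk f ⟶ G) ≫ aT).left (ptL f) ∈ W
    rw [lift_snd, Hom.one_def, Over.comp_left, Scheme.Hom.comp_apply]
    exact hWe _
  obtain ⟨t, htW, ht1, ht2⟩ :=
    (hO1.inter_of_isOpen_right hO2 hO2o).inter_open_nonempty _ hWo hWne
  -- the point `w`
  let wT : Over.mk f ⊗ G ⟶ G ⊗ (X ⊗ X) := lift aT (p ≫ zP)
  let w : ↥(G ⊗ (X ⊗ X)).left := wT.left t
  have hwz : (snd G (X ⊗ X)).left w = (lift a.act (snd G X)).left q := by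
    change (wT ≫ snd G (X ⊗ X)).left t = _
    rw [lift_snd, hzP]
    change (lift a.act (snd G X)).left (qP.left (p.left t)) = _
    rw [hPpt]
  have hwW : (fst G (X ⊗ X)).left w ∈ W := by
    change (wT ≫ fst G (X ⊗ X)).left t ∈ W
    rw [lift_fst]
    exact htW
  have hΨ1 : (fst X X).left ((Psi a).left w) ∈ U := by
    change (wT ≫ Psi a ≫ fst X X).left t ∈ U
    have : wT ≫ Psi a ≫ fst X X = ρ ≫ orb a x₂ ≫ snd (Over.mk f) X := by
      rw [ho2, hρo]
      change wT ≫ Psi a ≫ fst X X = lift aT (p ≫ x₁) ≫ a.act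
      rw [Psi, lift_fst, ← Category.assoc, comp_lift, lift_fst, lift_snd_assoc, Category.assoc,
        lift_fst]
    rw [this]; exact ht1
  have hΨ2 : (snd X X).left ((Psi a).left w) ∈ U := by
    change (wT ≫ Psi a ≫ snd X X).left t ∈ U
    have : wT ≫ Psi a ≫ snd X X = orb a x₂ ≫ snd (Over.mk f) X := by
      rw [ho2]
      change wT ≫ Psi a ≫ snd X X = lift aT (p ≫ x₂) ≫ a.act
      rw [Psi, lift_snd, ← Category.assoc, comp_lift, lift_fst, lift_snd_assoc, Category.assoc,
        lift_snd]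
    rw [this]; exact ht2
  rw [← hwz]
  refine mem_range_diag_of_point a W U w hwW hΨ1 hΨ2 ?_
  rw [hwz]
  exact hz

/-- **S5332**. -/
theorem isSeparated_of_dense_separated_open [LocallyOfFiniteType G.hom]
    (W : G.left.Opens) (hWe : ∀ p : ↥(𝟙_ (Over S)).left, η[G].left p ∈ W)
    [UniversallyOpen (W.ι ≫ G.hom)]
    (hΦ : Function.Surjective (lift a.act (snd G X)).left)
    (hft : ∀ s : S, LocallyOfFiniteType (X.hom.fiberToSpecResidueField s))
    (hU : ∀ s : S, ∃ U : X.left.Opens, IsSeparated (U.ι ≫ X.hom) ∧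
      X.hom ⁻¹' {s} ⊆ closure ((U : Set X.left) ∩ X.hom ⁻¹' {s})) :
    IsSeparated X.hom := by
  constructor
  apply IsClosedImmersion.of_isPreimmersion
  rw [← diag_left]
  exact isClosed_range_diag_of_dense a W hWe hΦ hft hU

end Groth.Agent.Lib.Seat24.ActSepDense
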