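import Mathlib
import Groth.Agent.Lib.Helper25TopGrp

/-!
# The affine hull of a quasi-compact group scheme over a field (seat 24)

For a quasi-compact (hence qcqs) group scheme `G` over a field `k`, the affine hull
`H = Spec Γ(G, 𝒪_G)` carries a unique group structure making `G ⟶ H` a homomorphism.  The proof uses
the Künneth formula for global sections over a field (Mathlib's `pushoutSection` results) and the
universal property of the affine hull.

Application (`isAffine_of_isQuasiAffine`): a quasi-affine group scheme over a field is affine (S3020).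
-/

set_option autoImplicit false
set_option linter.unusedSectionVars false
universe u
open CategoryTheory CategoryTheory.Limits MonoidalCategory CartesianMonoidalCategory MonObj
  AlgebraicGeometry

namespace Groth.Agent.Lib.Seat24.AffHull

section affeq

variable {X X' W : Scheme.{u}}

/-- morphisms to an affine scheme are determined after precomposition with a morphism inducing an
isomorphism on global sections. -/
lemma eq_of_comp_eq [IsAffine W] (φ : X ⟶ X') [IsIso φ.appTop] {f g : X' ⟶ W}
    (h : φ ≫ f = φ ≫ g) : f = g := by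
  apply ext_of_isAffine
  have := congrArg Scheme.Hom.appTop h
  rw [Scheme.Hom.comp_appTop, Scheme.Hom.comp_appTop] at this
  exact (cancel_mono φ.appTop).mp this

lemma exists_factor [IsAffine W] (φ : X ⟶ X') [IsIso φ.appTop] (ψ : X ⟶ W) :
    ∃ ψ' : X' ⟶ W, φ ≫ ψ' = ψ := by
  refine ⟨X'.toSpecΓ ≫ Spec.map (ψ.appTop ≫ inv φ.appTop) ≫ W.isoSpec.inv, ?_⟩
  rw [← Category.assoc, Scheme.toSpecΓ_naturality, Category.assoc, ← Category.assoc (Spec.map _),
    ← Spec.map_comp, Category.assoc, IsIso.inv_hom_id, Category.comp_id,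
    ← Category.assoc, ← Scheme.toSpecΓ_naturality, Category.assoc]
  have : W.toSpecΓ ≫ W.isoSpec.inv = 𝟙 W := W.isoSpec.hom_inv_id
  rw [this, Category.comp_id]

end affeq

section kunneth

variable {k : Type u} [Field k]

/-- **Künneth formula** for global sections of qcqs schemes over a field. -/
lemma isPushout_appTop (X Y : Over (Spec (CommRingCat.of k)))
    [CompactSpace X.left] [QuasiSeparatedSpace X.left]
    [CompactSpace Y.left] [QuasiSeparatedSpace Y.left] :
    IsPushout X.hom.appTop Y.hom.appTop (fst X Y).left.appTop (snd X Y).left.appTop := by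
  have H : IsPullback (pullback.fst X.hom Y.hom) (pullback.snd X.hom Y.hom) X.hom Y.hom :=
    IsPullback.of_hasPullback _ _
  have hfield : IsField Γ(Spec (CommRingCat.of k), ⊤) :=
    isField_of_isIntegral_of_subsingleton _
  have h1 := isIso_pushoutSection_of_isCompact_of_flat_right_of_ringHomFlat H
    (US := ⊤) (UT := ⊤) (UX := ⊤) (UY := ⊤) le_top le_top (by simp)
    (isAffineOpen_top _) isCompact_univ isQuasiSeparated_univ isCompact_univ isQuasiSeparated_univ
    (RingHom.Flat.of_isField hfield _)
  have h2 := (isIso_pushoutSection_iff H (US := ⊤) (UT := ⊤) (UX := ⊤) (UY := ⊤) le_top le_top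
    (by simp)).mp h1
  convert h2 using 1 <;> simp [Scheme.Hom.appTop, Scheme.Hom.appLE]

instance compactSpace_tensor (X Y : Over (Spec (CommRingCat.of k)))
    [CompactSpace X.left] [CompactSpace Y.left] : CompactSpace (X ⊗ Y).left :=
  inferInstanceAs (CompactSpace ↑(pullback X.hom Y.hom))

instance quasiSeparatedSpace_tensor (X Y : Over (Spec (CommRingCat.of k)))
    [QuasiSeparatedSpace X.left] [QuasiSeparatedSpace Y.left] :
    QuasiSeparatedSpace (X ⊗ Y).left :=
  quasiSeparatedSpace_of_quasiSeparated (pullback.snd X.hom Y.hom)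

instance : CompactSpace (𝟙_ (Over (Spec (CommRingCat.of k)))).left :=
  inferInstanceAs (CompactSpace ↥(Spec (CommRingCat.of k)))

instance : QuasiSeparatedSpace (𝟙_ (Over (Spec (CommRingCat.of k)))).left :=
  inferInstanceAs (QuasiSeparatedSpace ↥(Spec (CommRingCat.of k)))

/-- a product of two morphisms inducing isomorphisms on global sections induces an isomorphism on
global sections. -/
lemma isIso_appTop_tensorHom {X X' Y Y' : Over (Spec (CommRingCat.of k))}
    [CompactSpace X.left] [QuasiSeparatedSpace X.left]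
    [CompactSpace Y.left] [QuasiSeparatedSpace Y.left]
    [CompactSpace X'.left] [QuasiSeparatedSpace X'.left]
    [CompactSpace Y'.left] [QuasiSeparatedSpace Y'.left]
    (φ : X ⟶ X') (ψ : Y ⟶ Y') [IsIso φ.left.appTop] [IsIso ψ.left.appTop] :
    IsIso (φ ⊗ₘ ψ).left.appTop := by
  have P := isPushout_appTop X Y
  have P' := isPushout_appTop X' Y'
  have hφ : X'.hom.appTop ≫ φ.left.appTop = X.hom.appTop := by
    rw [← Scheme.Hom.comp_appTop, Over.w]
  have hψ : Y'.hom.appTop ≫ ψ.left.appTop = Y.hom.appTop := by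
    rw [← Scheme.Hom.comp_appTop, Over.w]
  have c1 : (fst X' Y').left.appTop ≫ (φ ⊗ₘ ψ).left.appTop =
      φ.left.appTop ≫ (fst X Y).left.appTop := by
    rw [← Scheme.Hom.comp_appTop, ← Scheme.Hom.comp_appTop, ← Over.comp_left, ← Over.comp_left,
      tensorHom_fst]
  have c2 : (snd X' Y').left.appTop ≫ (φ ⊗ₘ ψ).left.appTop =
      ψ.left.appTop ≫ (snd X Y).left.appTop := by
    rw [← Scheme.Hom.comp_appTop, ← Scheme.Hom.comp_appTop, ← Over.comp_left, ← Over.comp_left,
      tensorHom_snd]
  have w : X.hom.appTop ≫ inv φ.left.appTop ≫ (fst X' Y').left.appTop =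
      Y.hom.appTop ≫ inv ψ.left.appTop ≫ (snd X' Y').left.appTop := by
    rw [← hφ, ← hψ, Category.assoc, Category.assoc, IsIso.hom_inv_id_assoc,
      IsIso.hom_inv_id_assoc]
    exact P'.w
  refine ⟨P.desc _ _ w, ?_, ?_⟩
  · apply P'.hom_ext
    · rw [← Category.assoc, c1, Category.assoc, P.inl_desc, IsIso.hom_inv_id_assoc,
        Category.comp_id]
    · rw [← Category.assoc, c2, Category.assoc, P.inr_desc, IsIso.hom_inv_id_assoc,
        Category.comp_id]
  · apply P.hom_ext
    · rw [← Category.assoc, P.inl_desc, Category.assoc, c1, IsIso.inv_hom_id_assoc,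
        Category.comp_id]
    · rw [← Category.assoc, P.inr_desc, Category.assoc, c2, IsIso.inv_hom_id_assoc,
        Category.comp_id]

end kunneth

section hull

variable {k : Type u} [Field k]

lemma over_eq_of_comp_eq {X X' W : Over (Spec (CommRingCat.of k))} [IsAffine W.left]
    (φ : X ⟶ X') [IsIso φ.left.appTop] {f g : X' ⟶ W} (h : φ ≫ f = φ ≫ g) : f = g := by
  apply Over.OverMorphism.ext
  apply eq_of_comp_eq φ.left
  rw [← Over.comp_left, ← Over.comp_left, h]

lemma over_exists_factor {X X' W : Over (Spec (CommRingCat.of k))} [IsAffine W.left]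
    (φ : X ⟶ X') [IsIso φ.left.appTop] (ψ : X ⟶ W) : ∃ ψ' : X' ⟶ W, φ ≫ ψ' = ψ := by
  obtain ⟨p, hp⟩ := exists_factor φ.left ψ.left
  have hw : p ≫ W.hom = X'.hom := by
    apply eq_of_comp_eq φ.left
    rw [← Category.assoc, hp, Over.w, Over.w]
  refine ⟨Over.homMk p hw, ?_⟩
  apply Over.OverMorphism.ext
  exact hp

variable (G : Over (Spec (CommRingCat.of k)))

/-- the affine hull `Spec Γ(G, 𝒪_G)` as a `k`-scheme. -/
noncomputable def hull : Over (Spec (CommRingCat.of k)) :=
  Over.mk (Spec.map G.hom.appTop ≫ (Spec (CommRingCat.of k)).isoSpec.inv)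

/-- the canonical morphism to the affine hull. -/
noncomputable def toHull : G ⟶ hull G :=
  Over.homMk G.left.toSpecΓ (by
    change G.left.toSpecΓ ≫ Spec.map G.hom.appTop ≫ (Spec (CommRingCat.of k)).isoSpec.inv = G.hom
    rw [← Category.assoc, ← Scheme.toSpecΓ_naturality, Category.assoc]
    have : (Spec (CommRingCat.of k)).toSpecΓ ≫ (Spec (CommRingCat.of k)).isoSpec.inv = 𝟙 _ :=
      (Spec (CommRingCat.of k)).isoSpec.hom_inv_id
    rw [this, Category.comp_id])

lemma toHull_left : (toHull G).left = G.left.toSpecΓ := rfl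

instance : IsAffine (hull G).left := inferInstanceAs (IsAffine (Spec _))

instance : IsIso (toHull G).left.appTop := by
  change IsIso (Scheme.Hom.appTop (Y := Spec Γ(G.left, ⊤)) G.left.toSpecΓ)
  rw [Scheme.toSpecΓ_appTop]
  infer_instance

instance (X : Over (Spec (CommRingCat.of k))) : IsIso (𝟙 X : X ⟶ X).left.appTop := by
  have : (𝟙 X : X ⟶ X).left.appTop = 𝟙 _ := by simp
  rw [this]
  infer_instance

/-- **The affine hull of a qcqs group scheme over a field is a group scheme**, and the canonical
morphism is a homomorphism. -/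
theorem exists_grpObj_hull [GrpObj G] [CompactSpace G.left] [QuasiSeparatedSpace G.left] :
    ∃ (_ : GrpObj (hull G)), IsMonHom (toHull G) := by
  obtain ⟨j, hj⟩ : ∃ j : G ⟶ hull G, j = toHull G := ⟨_, rfl⟩
  have ij : IsIso j.left.appTop := by rw [hj]; infer_instance
  have ijj : IsIso (j ⊗ₘ j).left.appTop := isIso_appTop_tensorHom j j
  have ijjj : IsIso ((j ⊗ₘ j) ⊗ₘ j).left.appTop := isIso_appTop_tensorHom (j ⊗ₘ j) j
  have i1j : IsIso (𝟙 (𝟙_ (Over (Spec (CommRingCat.of k)))) ⊗ₘ j).left.appTop :=
    isIso_appTop_tensorHom _ j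
  have ij1 : IsIso (j ⊗ₘ 𝟙 (𝟙_ (Over (Spec (CommRingCat.of k))))).left.appTop :=
    isIso_appTop_tensorHom j _
  obtain ⟨m, hm⟩ := over_exists_factor (j ⊗ₘ j) (μ[G] ≫ j)
  obtain ⟨i, hi⟩ := over_exists_factor j (ι[G] ≫ j)
  have h_one_mul : ((η[G] ≫ j) ▷ hull G) ≫ m = (λ_ (hull G)).hom := by
    apply over_eq_of_comp_eq (𝟙 (𝟙_ (Over (Spec (CommRingCat.of k)))) ⊗ₘ j)
    rw [id_tensorHom, whisker_exchange_assoc, comp_whiskerRight, Category.assoc,
      ← tensorHom_def_assoc, hm, leftUnitor_naturality, ← Category.assoc,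
      MonObj.one_mul]
  have h_mul_one : (hull G ◁ (η[G] ≫ j)) ≫ m = (ρ_ (hull G)).hom := by
    apply over_eq_of_comp_eq (j ⊗ₘ 𝟙 (𝟙_ (Over (Spec (CommRingCat.of k)))))
    rw [tensorHom_id, ← whisker_exchange_assoc, whiskerLeft_comp, Category.assoc,
      ← tensorHom_def'_assoc, hm, rightUnitor_naturality, ← Category.assoc,
      MonObj.mul_one]
  have h_assoc : (m ▷ hull G) ≫ m = (α_ (hull G) (hull G) (hull G)).hom ≫ (hull G ◁ m) ≫ m := by
    apply over_eq_of_comp_eq ((j ⊗ₘ j) ⊗ₘ j)
    rw [tensorHom_comp_whiskerRight_assoc, hm, ← whiskerRight_comp_tensorHom_assoc, hm,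
      associator_naturality_assoc, tensorHom_comp_whiskerLeft_assoc, hm,
      ← whiskerLeft_comp_tensorHom_assoc, hm, ← Category.assoc, MonObj.mul_assoc]
    simp only [Category.assoc]
  have h_left_inv : lift i (𝟙 (hull G)) ≫ m = toUnit (hull G) ≫ η[G] ≫ j := by
    apply over_eq_of_comp_eq j
    rw [← Category.assoc, comp_lift, hi, Category.comp_id]
    have e1 : lift (ι[G] ≫ j) j = lift ι[G] (𝟙 G) ≫ (j ⊗ₘ j) := by
      rw [lift_map, Category.id_comp]
    rw [e1, Category.assoc, hm, ← Category.assoc, GrpObj.left_inv, Category.assoc,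
      ← Category.assoc j]
    congr 1
    exact toUnit_unique _ _
  have h_right_inv : lift (𝟙 (hull G)) i ≫ m = toUnit (hull G) ≫ η[G] ≫ j := by
    apply over_eq_of_comp_eq j
    rw [← Category.assoc, comp_lift, hi, Category.comp_id]
    have e1 : lift j (ι[G] ≫ j) = lift (𝟙 G) ι[G] ≫ (j ⊗ₘ j) := by
      rw [lift_map, Category.id_comp]
    rw [e1, Category.assoc, hm, ← Category.assoc, GrpObj.right_inv, Category.assoc,
      ← Category.assoc j]
    congr 1
    exact toUnit_unique _ _
  let inst : GrpObj (hull G) :=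
    { one := η[G] ≫ j
      mul := m
      one_mul := h_one_mul
      mul_one := h_mul_one
      mul_assoc := h_assoc
      inv := i
      left_inv := h_left_inv
      right_inv := h_right_inv }
  refine ⟨inst, ?_⟩
  rw [← hj]
  exact { one_hom := rfl, mul_hom := hm.symm }

/-- **A quasi-affine group scheme over a field is affine.**  The canonical open immersion
`G ⟶ Spec Γ(G, 𝒪_G)` is a homomorphism of group schemes for the induced group structure on the
affine hull, hence a closed immersion. -/
theorem isAffine_of_isQuasiAffine [GrpObj G] [G.left.IsQuasiAffine] : IsAffine G.left := by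
  have : QuasiSeparatedSpace G.left := inferInstance
  obtain ⟨inst, hmon⟩ := exists_grpObj_hull G
  have himm : IsImmersion (toHull G).left := by
    have : IsImmersion (Y := Spec Γ(G.left, ⊤)) G.left.toSpecΓ := inferInstance
    exact this
  have hcl : IsClosedImmersion (toHull G).left :=
    Groth.Agent.Lib.Helper25.TopGrp.isClosedImmersion_of_isImmersion (toHull G)
  exact isAffine_of_isAffineHom (toHull G).left

end hull

end Groth.Agent.Lib.Seat24.AffHull
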