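import Mathlib

/-!
# A pole lemma for one-dimensional Noetherian local rings (seat 33)

* `graded_prime_avoidance`: prime avoidance for a graded family of additive subgroups.
* `exists_reduction`, `core`, `exists_pole`: see below.
-/

set_option autoImplicit false
set_option linter.style.haveILetI false
set_option linter.unusedSectionVars false
universe u v

namespace Groth.Agent.Lib.Seat33.PoleAlg

section GPA

variable {A : Type*} [CommRing A] (H : ℕ → AddSubgroup A)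

theorem pow_mem_graded (h1 : (1 : A) ∈ H 0)
    (hmul : ∀ i j, ∀ x ∈ H i, ∀ y ∈ H j, x * y ∈ H (i + j)) {i : ℕ} {x : A} (hx : x ∈ H i) (n : ℕ) :
    x ^ n ∈ H (n * i) := by
  induction n with
  | zero => simpa using h1
  | succ n ih =>
    rw [pow_succ, Nat.succ_mul]
    exact hmul _ _ _ ih _ hx

theorem prod_mem_graded (h1 : (1 : A) ∈ H 0)
    (hmul : ∀ i j, ∀ x ∈ H i, ∀ y ∈ H j, x * y ∈ H (i + j)) {ι : Type*} (t : Finset ι) (f : ι → A)
    (d : ι → ℕ) (hf : ∀ i ∈ t, f i ∈ H (d i)) : ∏ i ∈ t, f i ∈ H (∑ i ∈ t, d i) := by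
  classical
  induction t using Finset.induction_on with
  | empty => simpa using h1
  | insert a t ha ih =>
    rw [Finset.prod_insert ha, Finset.sum_insert ha]
    exact hmul _ _ _ (hf a (Finset.mem_insert_self a t)) _
      (ih fun i hi => hf i (Finset.mem_insert_of_mem hi))

/-- **Graded prime avoidance.** -/
theorem graded_prime_avoidance (h1 : (1 : A) ∈ H 0)
    (hmul : ∀ i j, ∀ x ∈ H i, ∀ y ∈ H j, x * y ∈ H (i + j))
    (s : Finset (Ideal A)) (hprime : ∀ 𝔮 ∈ s, 𝔮.IsPrime)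
    (hav : ∀ 𝔮 ∈ s, ∃ q, 1 ≤ q ∧ ∃ x ∈ H q, x ∉ 𝔮) :
    ∃ q, 1 ≤ q ∧ ∃ θ ∈ H q, ∀ 𝔮 ∈ s, θ ∉ 𝔮 := by
  classical
  induction hn : s.card using Nat.strong_induction_on generalizing s with
  | _ n ih =>
    rcases s.eq_empty_or_nonempty with rfl | ⟨𝔮₁, h𝔮₁⟩
    · exact ⟨1, le_rfl, 0, (H 1).zero_mem, by simp⟩
    -- for each prime an element avoiding all the others
    have key : ∀ 𝔮 ∈ s, ∃ q, 1 ≤ q ∧ ∃ y ∈ H q, ∀ 𝔮' ∈ s.erase 𝔮, y ∉ 𝔮' := by
      intro 𝔮 h𝔮
      refine ih (s.erase 𝔮).card ?_ (s.erase 𝔮) (fun 𝔮' h => hprime _ (Finset.mem_of_mem_erase h))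
        (fun 𝔮' h => hav _ (Finset.mem_of_mem_erase h)) rfl
      rw [← hn]
      exact Finset.card_erase_lt_of_mem h𝔮
    choose! d hd y hyH hy using key
    by_cases hex : ∃ 𝔮 ∈ s, y 𝔮 ∉ 𝔮
    · obtain ⟨𝔮, h𝔮, hy𝔮⟩ := hex
      refine ⟨d 𝔮, hd 𝔮 h𝔮, y 𝔮, hyH 𝔮 h𝔮, fun 𝔮' h𝔮' => ?_⟩
      by_cases he : 𝔮' = 𝔮
      · rw [he]; exact hy𝔮
      · exact hy 𝔮 h𝔮 𝔮' (Finset.mem_erase.2 ⟨he, h𝔮'⟩)
    push Not at hex
    by_cases hs1 : s.erase 𝔮₁ = ∅
    · -- only one prime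
      obtain ⟨q, hq, x, hx, hx𝔮⟩ := hav 𝔮₁ h𝔮₁
      refine ⟨q, hq, x, hx, fun 𝔮' h𝔮' => ?_⟩
      have : 𝔮' = 𝔮₁ := by
        by_contra hne
        have : 𝔮' ∈ s.erase 𝔮₁ := Finset.mem_erase.2 ⟨hne, h𝔮'⟩
        rw [hs1] at this
        exact absurd this (Finset.notMem_empty _)
      rw [this]; exact hx𝔮
    obtain ⟨𝔮₂, h𝔮₂⟩ := Finset.nonempty_iff_ne_empty.2 hs1
    set s' := s.erase 𝔮₁ with hs'
    set z : A := ∏ 𝔮 ∈ s', y 𝔮 with hz
    set Q : ℕ := ∑ 𝔮 ∈ s', d 𝔮 with hQ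
    have hzH : z ∈ H Q := prod_mem_graded H h1 hmul s' y d
      (fun 𝔮 h => hyH 𝔮 (Finset.mem_of_mem_erase h))
    have hQ1 : 1 ≤ Q := by
      have h2 : d 𝔮₂ ≤ Q := Finset.single_le_sum (f := d) (fun _ _ => Nat.zero_le _) h𝔮₂
      exact (hd 𝔮₂ (Finset.mem_of_mem_erase h𝔮₂)).trans h2
    haveI := hprime 𝔮₁ h𝔮₁
    have hz𝔮₁ : z ∉ 𝔮₁ := by
      rw [hz, Ideal.IsPrime.prod_mem_iff]
      rintro ⟨𝔮, h𝔮, hmem⟩
      have h𝔮s : 𝔮 ∈ s := Finset.mem_of_mem_erase h𝔮
      have hne : 𝔮₁ ≠ 𝔮 := fun h => (Finset.mem_erase.1 h𝔮).1 h.symm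
      exact hy 𝔮 h𝔮s 𝔮₁ (Finset.mem_erase.2 ⟨hne, h𝔮₁⟩) hmem
    have hz𝔮 : ∀ 𝔮 ∈ s', z ∈ 𝔮 := by
      intro 𝔮 h𝔮
      rw [hz]
      exact Ideal.prod_mem 𝔮 h𝔮 (hex 𝔮 (Finset.mem_of_mem_erase h𝔮))
    set y₁ := y 𝔮₁ with hy₁
    have hd₁ : 1 ≤ d 𝔮₁ := hd 𝔮₁ h𝔮₁
    refine ⟨Q * d 𝔮₁, Nat.mul_pos hQ1 hd₁, y₁ ^ Q + z ^ d 𝔮₁, ?_, ?_⟩
    · refine (H _).add_mem (pow_mem_graded H h1 hmul (hyH 𝔮₁ h𝔮₁) Q) ?_
      rw [mul_comm]
      exact pow_mem_graded H h1 hmul hzH (d 𝔮₁)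
    · intro 𝔮 h𝔮 hmem
      by_cases he : 𝔮 = 𝔮₁
      · subst he
        have h1' : y₁ ^ Q ∈ 𝔮 := Ideal.pow_mem_of_mem _ (hex 𝔮 h𝔮) _ hQ1
        have h2 : z ^ d 𝔮 ∈ 𝔮 := (Ideal.add_mem_iff_right _ h1').1 hmem
        exact hz𝔮₁ (Ideal.IsPrime.mem_of_pow_mem inferInstance _ h2)
      · have h𝔮' : 𝔮 ∈ s' := Finset.mem_erase.2 ⟨he, h𝔮⟩
        haveI := hprime 𝔮 h𝔮
        have h2 : z ^ d 𝔮₁ ∈ 𝔮 := Ideal.pow_mem_of_mem _ (hz𝔮 𝔮 h𝔮') _ hd₁
        have h1' : y₁ ^ Q ∈ 𝔮 := (Ideal.add_mem_iff_left _ h2).1 hmem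
        exact hy 𝔮₁ h𝔮₁ 𝔮 h𝔮' (Ideal.IsPrime.mem_of_pow_mem inferInstance _ h1')

end GPA

section Bq

variable {R : Type*} [CommRing R] {ι : Type*}

/-- The additive subgroup generated by the `q`-fold products of the `b i`. -/
def Bq (b : ι → R) (q : ℕ) : AddSubgroup R :=
  AddSubgroup.closure {x | ∃ m : Multiset ι, Multiset.card m = q ∧ x = (m.map b).prod}

theorem prod_mem_Bq (b : ι → R) (m : Multiset ι) : (m.map b).prod ∈ Bq b (Multiset.card m) :=
  AddSubgroup.subset_closure ⟨m, rfl, rfl⟩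

theorem one_mem_Bq (b : ι → R) : (1 : R) ∈ Bq b 0 := by
  simpa using prod_mem_Bq b (0 : Multiset ι)

theorem mem_Bq_one (b : ι → R) (i : ι) : b i ∈ Bq b 1 := by
  simpa using prod_mem_Bq b ({i} : Multiset ι)

theorem mul_mem_Bq (b : ι → R) (i j : ℕ) : ∀ x ∈ Bq b i, ∀ y ∈ Bq b j, x * y ∈ Bq b (i + j) := by
  intro x hx y hy
  induction hx using AddSubgroup.closure_induction with
  | mem x hx =>
    obtain ⟨m, hm, rfl⟩ := hx
    induction hy using AddSubgroup.closure_induction with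
    | mem y hy =>
      obtain ⟨m', hm', rfl⟩ := hy
      have : (m.map b).prod * (m'.map b).prod = ((m + m').map b).prod := by
        rw [Multiset.map_add, Multiset.prod_add]
      rw [this, ← hm, ← hm', ← Multiset.card_add]
      exact prod_mem_Bq b _
    | zero => simp [(Bq b (i + j)).zero_mem]
    | add y z _ _ hy hz => rw [mul_add]; exact (Bq b _).add_mem hy hz
    | neg y _ hy => rw [mul_neg]; exact (Bq b _).neg_mem hy
  | zero => simp [(Bq b (i + j)).zero_mem]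
  | add x z _ _ hx hz => rw [add_mul]; exact (Bq b _).add_mem hx hz
  | neg x _ hx => rw [neg_mul]; exact (Bq b _).neg_mem hx

theorem pow_mem_Bq (b : ι → R) {q : ℕ} {x : R} (hx : x ∈ Bq b q) (n : ℕ) : x ^ n ∈ Bq b (n * q) :=
  pow_mem_graded (Bq b) (one_mem_Bq b) (mul_mem_Bq b) hx n

theorem Bq_le_pow (b : ι → R) (I : Ideal R) (hb : ∀ i, b i ∈ I) (q : ℕ) :
    ∀ x ∈ Bq b q, x ∈ I ^ q := by
  intro x hx
  induction hx using AddSubgroup.closure_induction with
  | mem x hx =>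
    obtain ⟨m, hm, rfl⟩ := hx
    subst hm
    induction m using Multiset.induction_on with
    | empty => simp
    | cons a m ih =>
      rw [Multiset.map_cons, Multiset.prod_cons, Multiset.card_cons, pow_succ']
      exact Ideal.mul_mem_mul (hb a) ih
  | zero => exact Ideal.zero_mem _
  | add x z _ _ hx hz => exact Ideal.add_mem _ hx hz
  | neg x _ hx => exact Ideal.neg_mem_iff _ |>.2 hx

/-- Ring homomorphisms map `Bq` into `Bq`. -/
theorem map_mem_Bq {S : Type*} [CommRing S] (f : R →+* S) (b : ι → R) (q : ℕ) :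
    ∀ x ∈ Bq b q, f x ∈ Bq (fun i => f (b i)) q := by
  intro x hx
  induction hx using AddSubgroup.closure_induction with
  | mem x hx =>
    obtain ⟨m, hm, rfl⟩ := hx
    rw [map_multiset_prod, Multiset.map_map, ← hm]
    exact prod_mem_Bq _ m
  | zero => rw [map_zero]; exact AddSubgroup.zero_mem _
  | add x z _ _ hx hz => rw [map_add]; exact AddSubgroup.add_mem _ hx hz
  | neg x _ hx => rw [map_neg]; exact AddSubgroup.neg_mem _ hx

/-- Elements of `Bq (f ∘ b) q` lift. -/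
theorem exists_mem_Bq_map {S : Type*} [CommRing S] (f : R →+* S) (b : ι → R) (q : ℕ) :
    ∀ y ∈ Bq (fun i => f (b i)) q, ∃ x ∈ Bq b q, f x = y := by
  intro y hy
  induction hy using AddSubgroup.closure_induction with
  | mem y hy =>
    obtain ⟨m, hm, rfl⟩ := hy
    refine ⟨(m.map b).prod, ?_, ?_⟩
    · rw [← hm]; exact prod_mem_Bq b m
    · rw [map_multiset_prod, Multiset.map_map]; rfl
  | zero => exact ⟨0, AddSubgroup.zero_mem _, map_zero f⟩
  | add y z _ _ hy hz =>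
    obtain ⟨x, hx, rfl⟩ := hy
    obtain ⟨x', hx', rfl⟩ := hz
    exact ⟨x + x', AddSubgroup.add_mem _ hx hx', map_add f x x'⟩
  | neg y _ hy =>
    obtain ⟨x, hx, rfl⟩ := hy
    exact ⟨-x, AddSubgroup.neg_mem _ hx, map_neg f x⟩

end Bq

section Rees

open Polynomial

variable {R : Type u} [CommRing R] (I : Ideal R) (𝔪 : Ideal R)

/-- `c ↦ c Xʲ` as a linear map `Iʲ → ℛ`. -/
noncomputable def mon (j : ℕ) : ↥(I ^ j) →ₗ[R] reesAlgebra I where
  toFun c := ⟨monomial j c.1, reesAlgebra.monomial_mem.2 c.2⟩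
  map_add' x y := Subtype.ext (by simp)
  map_smul' r x := Subtype.ext (by simp [smul_monomial])

theorem coe_mon (j : ℕ) (c : ↥(I ^ j)) : ((mon I j c : reesAlgebra I) : R[X]) = monomial j c.1 := rfl

theorem mon_mul_mon (i j : ℕ) (c : ↥(I ^ i)) (d : ↥(I ^ j)) :
    mon I i c * mon I j d =
      mon I (i + j) ⟨c.1 * d.1, by rw [pow_add]; exact Ideal.mul_mem_mul c.2 d.2⟩ :=
  Subtype.ext (by simp [coe_mon, monomial_mul_monomial])

theorem algebraMap_mul_mon (r : R) (j : ℕ) (c : ↥(I ^ j)) :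
    algebraMap R (reesAlgebra I) r * mon I j c = mon I j (r • c) := by
  apply Subtype.ext
  show C r * monomial j c.1 = monomial j (r • c.1)
  rw [C_mul_monomial, smul_eq_mul]

theorem eq_sum_mon (p : reesAlgebra I) :
    p = ∑ i ∈ (p : R[X]).support, mon I i ⟨(p : R[X]).coeff i, p.2 i⟩ := by
  apply Subtype.ext
  rw [AddSubmonoidClass.coe_finsetSum]
  simp only [coe_mon]
  exact (p : R[X]).as_sum_support

/-- The ideal `𝔪 ℛ` of the Rees algebra. -/
noncomputable def mR : Ideal (reesAlgebra I) := Ideal.map (algebraMap R (reesAlgebra I)) 𝔪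

theorem mon_mem_mR (j : ℕ) (c : R) (hc : c ∈ 𝔪 * I ^ j) (hc' : c ∈ I ^ j) :
    mon I j ⟨c, hc'⟩ ∈ mR I 𝔪 := by
  have key : ∃ h : c ∈ I ^ j, mon I j ⟨c, h⟩ ∈ mR I 𝔪 := by
    refine Submodule.mul_induction_on hc ?_ ?_
    · intro m hm n hn
      refine ⟨Ideal.mul_mem_left _ _ hn, ?_⟩
      have : mon I j ⟨m * n, Ideal.mul_mem_left _ _ hn⟩ =
          algebraMap R (reesAlgebra I) m * mon I j ⟨n, hn⟩ := by
        rw [algebraMap_mul_mon]; rfl
      rw [this]
      exact Ideal.mul_mem_right _ _ (Ideal.mem_map_of_mem _ hm)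
    · rintro x y ⟨hx, hx'⟩ ⟨hy, hy'⟩
      refine ⟨Ideal.add_mem _ hx hy, ?_⟩
      have : mon I j ⟨x + y, Ideal.add_mem _ hx hy⟩ = mon I j ⟨x, hx⟩ + mon I j ⟨y, hy⟩ := by
        rw [← map_add]; rfl
      rw [this]
      exact Ideal.add_mem _ hx' hy'
  exact key.2

theorem mem_mR_iff (p : reesAlgebra I) :
    p ∈ mR I 𝔪 ↔ ∀ i, (p : R[X]).coeff i ∈ 𝔪 * I ^ i := by
  constructor
  · intro hp
    unfold mR Ideal.map at hp
    induction hp using Submodule.span_induction with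
    | mem x hx =>
      obtain ⟨r, hr, rfl⟩ := hx
      intro i
      show (C r).coeff i ∈ _
      rw [coeff_C]
      split_ifs with h
      · subst h; simpa using hr
      · exact Ideal.zero_mem _
    | zero => intro i; simp
    | add x y _ _ hx hy =>
      intro i
      show (((x : R[X]) + (y : R[X])).coeff i) ∈ _
      rw [coeff_add]
      exact Ideal.add_mem _ (hx i) (hy i)
    | smul a x _ hx =>
      intro i
      show (((a : R[X]) * (x : R[X])).coeff i) ∈ _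
      rw [coeff_mul]
      refine Ideal.sum_mem _ ?_
      rintro ⟨k, l⟩ hkl
      rw [← Finset.HasAntidiagonal.mem_antidiagonal.mp hkl, pow_add]
      have h1 := Ideal.mul_mem_mul (a.2 k) (hx l)
      have h2 : I ^ k * (𝔪 * I ^ l) = 𝔪 * (I ^ k * I ^ l) := by
        rw [← mul_assoc, mul_comm (I ^ k) 𝔪, mul_assoc]
      rwa [h2] at h1
  · intro h
    rw [eq_sum_mon I p]
    exact Ideal.sum_mem _ fun i _ => mon_mem_mR I 𝔪 i _ (h i) (p.2 i)

end Rees

section Length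

open Pointwise

variable {R : Type u} [CommRing R]

/-- `ℓ(J / φJ) = ℓ(R / φR)` for a nonzerodivisor `φ` and an ideal `J` of finite colength. -/
theorem length_quotient_smul_top (φ : R) (hφ : φ ∈ nonZeroDivisors R) (J : Ideal R)
    (hJ : Module.length R (R ⧸ J) ≠ ⊤) :
    Module.length R (↥J ⧸ (φ • (⊤ : Submodule R ↥J))) = Module.length R (R ⧸ Ideal.span {φ}) := by
  have h1 : φ • (⊤ : Submodule R ↥J) ≤ Submodule.comap J.subtype (φ • J) := by
    intro c hc
    obtain ⟨d, -, rfl⟩ := (Submodule.mem_smul_pointwise_iff_exists _ _ _).1 hc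
    exact (Submodule.mem_smul_pointwise_iff_exists _ _ _).2 ⟨d.1, d.2, rfl⟩
  have h2 : φ • J ≤ J := by
    intro c hc
    obtain ⟨d, hd, rfl⟩ := (Submodule.mem_smul_pointwise_iff_exists _ _ _).1 hc
    exact J.smul_mem φ hd
  let f : (↥J ⧸ (φ • (⊤ : Submodule R ↥J))) →ₗ[R] (R ⧸ (φ • J)) :=
    Submodule.mapQ _ _ J.subtype h1
  let g : (R ⧸ (φ • J)) →ₗ[R] (R ⧸ J) := Submodule.factor h2
  have hf : Function.Injective f := by
    rw [← LinearMap.ker_eq_bot, Submodule.eq_bot_iff]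
    intro x hx
    obtain ⟨c, rfl⟩ := Submodule.Quotient.mk_surjective _ x
    have h3 : (Submodule.Quotient.mk c.1 : R ⧸ (φ • J)) = 0 := hx
    rw [Submodule.Quotient.mk_eq_zero] at h3
    obtain ⟨d, hd, hdc⟩ := (Submodule.mem_smul_pointwise_iff_exists _ _ _).1 h3
    rw [Submodule.Quotient.mk_eq_zero]
    exact (Submodule.mem_smul_pointwise_iff_exists _ _ _).2 ⟨⟨d, hd⟩, trivial, Subtype.ext hdc⟩
  have hg : Function.Surjective g := Submodule.factor_surjective h2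
  have hfg : Function.Exact f g := by
    intro x
    obtain ⟨r, rfl⟩ := Submodule.Quotient.mk_surjective _ x
    constructor
    · intro hx
      have h3 : (Submodule.Quotient.mk r : R ⧸ J) = 0 := hx
      rw [Submodule.Quotient.mk_eq_zero] at h3
      exact ⟨Submodule.Quotient.mk ⟨r, h3⟩, rfl⟩
    · rintro ⟨y, hy⟩
      obtain ⟨c, rfl⟩ := Submodule.Quotient.mk_surjective _ y
      have h3 : (Submodule.Quotient.mk c.1 : R ⧸ (φ • J)) = Submodule.Quotient.mk r := hy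
      show (Submodule.Quotient.mk r : R ⧸ J) = 0
      rw [Submodule.Quotient.mk_eq_zero]
      have h4 := (Submodule.Quotient.eq _).1 h3
      have h5 : r = c.1 - (c.1 - r) := by ring
      rw [h5]
      exact J.sub_mem c.2 (h2 h4)
  have e1 := Module.length_eq_add_of_exact f g hf hg hfg
  have e2 := Module.length_eq_add_of_exact (Ideal.mulQuot φ J) (Ideal.quotOfMul φ J)
    (Ideal.mulQuot_injective J hφ) (Ideal.quotOfMul_surjective J) (Ideal.exact_mulQuot_quotOfMul J)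
  rw [e1, add_comm] at e2
  exact (ENat.add_right_injective_of_ne_top hJ) e2

end Length

section Torsion

open Polynomial

variable {R : Type u} [CommRing R] {ι : Type*} (b : ι → R) (𝔪 : Ideal R)

/-- The fibre cone `G = ℛ / 𝔪ℛ` of `I = (b i)`. -/
def G : Type u := reesAlgebra (Ideal.span (Set.range b)) ⧸ mR (Ideal.span (Set.range b)) 𝔪

noncomputable instance : CommRing (G b 𝔪) :=
  inferInstanceAs (CommRing (reesAlgebra (Ideal.span (Set.range b)) ⧸ mR (Ideal.span (Set.range b)) 𝔪))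

/-- The quotient map onto the fibre cone. -/
noncomputable def mkG : reesAlgebra (Ideal.span (Set.range b)) →+* G b 𝔪 :=
  Ideal.Quotient.mk (mR (Ideal.span (Set.range b)) 𝔪)

theorem mkG_surjective : Function.Surjective (mkG b 𝔪) := Ideal.Quotient.mk_surjective

theorem mkG_eq_zero_iff (p : reesAlgebra (Ideal.span (Set.range b))) :
    mkG b 𝔪 p = 0 ↔ p ∈ mR (Ideal.span (Set.range b)) 𝔪 := Ideal.Quotient.eq_zero_iff_mem

theorem b_mem (i : ι) : b i ∈ Ideal.span (Set.range b) ^ 1 := by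
  rw [pow_one]; exact Ideal.subset_span ⟨i, rfl⟩

/-- The class of `c Xʲ` in the fibre cone. -/
noncomputable def gmon (j : ℕ) (c : R) (hc : c ∈ Ideal.span (Set.range b) ^ j) : G b 𝔪 :=
  mkG b 𝔪 (mon (Ideal.span (Set.range b)) j ⟨c, hc⟩)

/-- The degree one generators of the fibre cone. -/
noncomputable def t (i : ι) : G b 𝔪 := gmon b 𝔪 1 (b i) (b_mem b i)

theorem gmon_eq_zero_iff (j : ℕ) (c : R) (hc : c ∈ Ideal.span (Set.range b) ^ j) :
    gmon b 𝔪 j c hc = 0 ↔ c ∈ 𝔪 * Ideal.span (Set.range b) ^ j := by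
  unfold gmon
  rw [mkG_eq_zero_iff, mem_mR_iff]
  constructor
  · intro h
    have := h j
    rwa [coe_mon, coeff_monomial_same] at this
  · intro h i
    rw [coe_mon, coeff_monomial]
    split_ifs with hij
    · subst hij; exact h
    · exact Ideal.zero_mem _

theorem gmon_mul_gmon (i j : ℕ) (c d : R) (hc : c ∈ Ideal.span (Set.range b) ^ i)
    (hd : d ∈ Ideal.span (Set.range b) ^ j) :
    gmon b 𝔪 i c hc * gmon b 𝔪 j d hd =
      gmon b 𝔪 (i + j) (c * d) (by rw [pow_add]; exact Ideal.mul_mem_mul hc hd) := by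
  unfold gmon
  rw [← map_mul, mon_mul_mon]

theorem gmon_add (j : ℕ) (c d : R) (hc : c ∈ Ideal.span (Set.range b) ^ j)
    (hd : d ∈ Ideal.span (Set.range b) ^ j) :
    gmon b 𝔪 j (c + d) (Ideal.add_mem _ hc hd) = gmon b 𝔪 j c hc + gmon b 𝔪 j d hd := by
  unfold gmon
  rw [← map_add, ← map_add]; rfl

theorem gmon_zero (j : ℕ) : gmon b 𝔪 j 0 (Ideal.zero_mem _) = 0 := by
  rw [gmon_eq_zero_iff]; exact Ideal.zero_mem _

theorem gmon_neg (j : ℕ) (c : R) (hc : c ∈ Ideal.span (Set.range b) ^ j) :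
    gmon b 𝔪 j (-c) (Ideal.neg_mem_iff _ |>.2 hc) = -gmon b 𝔪 j c hc := by
  unfold gmon
  rw [← map_neg, ← map_neg]; rfl

theorem gmon_congr {j j' : ℕ} {c c' : R} (hj : j = j') (hcc : c = c')
    (hc : c ∈ Ideal.span (Set.range b) ^ j) :
    gmon b 𝔪 j c hc = gmon b 𝔪 j' c' (by rw [← hj, ← hcc]; exact hc) := by
  subst hj; subst hcc; rfl

/-- Classes of monomials of positive degree lie in the irrelevant ideal. -/
theorem gmon_succ_mem (k : ℕ) (c : R) (hc : c ∈ Ideal.span (Set.range b) ^ (k + 1)) :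
    gmon b 𝔪 (k + 1) c hc ∈ Ideal.span (Set.range (t b 𝔪)) := by
  -- degree one
  have h1 : ∀ x ∈ Ideal.span (Set.range b),
      ∃ h : x ∈ Ideal.span (Set.range b) ^ 1, gmon b 𝔪 1 x h ∈ Ideal.span (Set.range (t b 𝔪)) := by
    intro x hx
    induction hx using Submodule.span_induction with
    | mem x hx =>
      obtain ⟨i, rfl⟩ := hx
      exact ⟨b_mem b i, Ideal.subset_span ⟨i, rfl⟩⟩
    | zero =>
      refine ⟨Ideal.zero_mem _, ?_⟩
      rw [gmon_zero]; exact Ideal.zero_mem _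
    | add x y _ _ hx hy =>
      obtain ⟨hx1, hx2⟩ := hx
      obtain ⟨hy1, hy2⟩ := hy
      refine ⟨Ideal.add_mem _ hx1 hy1, ?_⟩
      rw [gmon_add b 𝔪 _ _ _ hx1 hy1]; exact Ideal.add_mem _ hx2 hy2
    | smul r x _ hx =>
      obtain ⟨hx1, hx2⟩ := hx
      refine ⟨Ideal.mul_mem_left _ _ hx1, ?_⟩
      have : gmon b 𝔪 1 (r • x) (Ideal.mul_mem_left _ _ hx1) =
          gmon b 𝔪 0 r (by simp) * gmon b 𝔪 1 x hx1 := by
        rw [gmon_mul_gmon]
        exact gmon_congr b 𝔪 (zero_add 1).symm rfl _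
      rw [this]; exact Ideal.mul_mem_left _ _ hx2
  have hc' : c ∈ Ideal.span (Set.range b) * Ideal.span (Set.range b) ^ k := by rwa [← pow_succ']
  have key : ∃ h : c ∈ Ideal.span (Set.range b) ^ (k + 1),
      gmon b 𝔪 (k + 1) c h ∈ Ideal.span (Set.range (t b 𝔪)) := by
    refine Submodule.mul_induction_on hc' ?_ ?_
    · intro x hx y hy
      obtain ⟨hx1, hx2⟩ := h1 x hx
      have hxy : x * y ∈ Ideal.span (Set.range b) ^ (k + 1) := by
        rw [pow_succ']; exact Ideal.mul_mem_mul hx hy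
      refine ⟨hxy, ?_⟩
      have : gmon b 𝔪 (k + 1) (x * y) hxy = gmon b 𝔪 1 x hx1 * gmon b 𝔪 k y hy := by
        rw [gmon_mul_gmon]
        exact gmon_congr b 𝔪 (add_comm k 1) rfl _
      rw [this]
      exact Ideal.mul_mem_right _ _ hx2
    · rintro x y ⟨hx1, hx2⟩ ⟨hy1, hy2⟩
      refine ⟨Ideal.add_mem _ hx1 hy1, ?_⟩
      rw [gmon_add b 𝔪 _ _ _ hx1 hy1]; exact Ideal.add_mem _ hx2 hy2
  exact key.2

theorem mkG_eq_sum (p : reesAlgebra (Ideal.span (Set.range b))) :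
    mkG b 𝔪 p = ∑ i ∈ (p : R[X]).support, gmon b 𝔪 i ((p : R[X]).coeff i) (p.2 i) := by
  conv_lhs => rw [eq_sum_mon _ p]
  rw [map_sum]
  rfl

/-- Elements of the Rees algebra without constant term map into the irrelevant ideal. -/
theorem mkG_mem_of_coeff_zero (p : reesAlgebra (Ideal.span (Set.range b)))
    (hp : (p : R[X]).coeff 0 = 0) : mkG b 𝔪 p ∈ Ideal.span (Set.range (t b 𝔪)) := by
  rw [mkG_eq_sum]
  refine Ideal.sum_mem _ fun i hi => ?_
  have hi0 : i ≠ 0 := by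
    rintro rfl
    exact (Polynomial.mem_support_iff.1 hi) hp
  obtain ⟨k, rfl⟩ := Nat.exists_eq_succ_of_ne_zero hi0
  exact gmon_succ_mem b 𝔪 k _ _

theorem mkG_algebraMap (r : R) :
    mkG b 𝔪 (algebraMap R _ r) = gmon b 𝔪 0 r (by simp) := by
  unfold gmon
  congr 1

theorem coeff_zero_sub_algebraMap (p : reesAlgebra (Ideal.span (Set.range b))) :
    ((p - algebraMap R _ ((p : R[X]).coeff 0) : reesAlgebra (Ideal.span (Set.range b))) : R[X]).coeff 0
      = 0 := by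
  show ((p : R[X]) - C ((p : R[X]).coeff 0)).coeff 0 = 0
  simp

variable [IsNoetherianRing R]

/-- **Torsion bound.** In high degrees, an element of `Iʲ / 𝔪Iʲ` killed by all degree one generators
vanishes. -/
theorem exists_torsion_bound :
    ∃ j₁ : ℕ, ∀ j, j₁ ≤ j → ∀ c ∈ Ideal.span (Set.range b) ^ j,
      (∀ i, b i * c ∈ 𝔪 * Ideal.span (Set.range b) ^ (j + 1)) →
        c ∈ 𝔪 * Ideal.span (Set.range b) ^ j := by
  classical
  haveI : IsNoetherianRing (G b 𝔪) :=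
    inferInstanceAs (IsNoetherianRing (reesAlgebra (Ideal.span (Set.range b)) ⧸ _))
  set Gp : Ideal (G b 𝔪) := Ideal.span (Set.range (t b 𝔪)) with hGp
  set Hann : Ideal (G b 𝔪) := Submodule.annihilator (Gp : Submodule (G b 𝔪) (G b 𝔪)) with hHann
  obtain ⟨s, hs⟩ : (Hann : Submodule (G b 𝔪) (G b 𝔪)).FG := IsNoetherian.noetherian Hann
  let lift : G b 𝔪 → reesAlgebra (Ideal.span (Set.range b)) := Function.surjInv (mkG_surjective b 𝔪)
  have hlift : ∀ g, mkG b 𝔪 (lift g) = g := Function.surjInv_eq (mkG_surjective b 𝔪)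
  refine ⟨(s.sup fun g => ((lift g : reesAlgebra _) : R[X]).natDegree) + 1, ?_⟩
  intro j hj c hc hbc
  have hmem : gmon b 𝔪 j c hc ∈ Hann := by
    rw [hHann, Submodule.mem_annihilator]
    intro x hx
    rw [hGp] at hx
    induction hx using Submodule.span_induction with
    | mem x hx =>
      obtain ⟨i, rfl⟩ := hx
      show gmon b 𝔪 j c hc * t b 𝔪 i = 0
      unfold t
      rw [gmon_mul_gmon, gmon_eq_zero_iff, mul_comm c]
      exact hbc i
    | zero => simp
    | add x y _ _ hx hy => rw [smul_add, hx, hy, add_zero]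
    | smul a x _ hx => rw [smul_comm, hx, smul_zero]
  rw [← hs] at hmem
  obtain ⟨f, hf⟩ := (Submodule.mem_span_finset.1 hmem)
  -- replace coefficients by constants
  have hterm : ∀ g ∈ s, f g • g =
      mkG b 𝔪 (algebraMap R _ (((lift (f g) : reesAlgebra _) : R[X]).coeff 0) * lift g) := by
    intro g hg
    have hgH : g ∈ Hann := by
      have : g ∈ Ideal.span (s : Set (G b 𝔪)) := Ideal.subset_span hg
      rwa [hs] at this
    have h1 : mkG b 𝔪 (lift (f g) - algebraMap R _ (((lift (f g) : reesAlgebra _) : R[X]).coeff 0)) ∈ Gp :=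
      mkG_mem_of_coeff_zero b 𝔪 _ (coeff_zero_sub_algebraMap b _)
    have h2 := (Submodule.mem_annihilator.1 hgH) _ h1
    rw [smul_eq_mul, map_sub, hlift, mul_sub, sub_eq_zero] at h2
    rw [smul_eq_mul, map_mul, hlift, mul_comm, h2, mul_comm]
  have hsum : gmon b 𝔪 j c hc =
      mkG b 𝔪 (∑ g ∈ s, algebraMap R _ (((lift (f g) : reesAlgebra _) : R[X]).coeff 0) * lift g) := by
    rw [map_sum, ← hf.2]
    exact Finset.sum_congr rfl hterm
  have hdiff : mon (Ideal.span (Set.range b)) j ⟨c, hc⟩ -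
      ∑ g ∈ s, algebraMap R _ (((lift (f g) : reesAlgebra _) : R[X]).coeff 0) * lift g ∈
        mR (Ideal.span (Set.range b)) 𝔪 := by
    rw [← mkG_eq_zero_iff, map_sub, sub_eq_zero]
    exact hsum
  have hcoeff := (mem_mR_iff _ _ _).1 hdiff j
  have hz : ((∑ g ∈ s, algebraMap R _ (((lift (f g) : reesAlgebra _) : R[X]).coeff 0) * lift g :
      reesAlgebra (Ideal.span (Set.range b))) : R[X]).coeff j = 0 := by
    rw [AddSubmonoidClass.coe_finsetSum, Polynomial.finsetSum_coeff]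
    refine Finset.sum_eq_zero fun g hg => ?_
    show ((C _ * ((lift g : reesAlgebra _) : R[X]))).coeff j = 0
    rw [coeff_C_mul]
    have hdeg : ((lift g : reesAlgebra _) : R[X]).natDegree < j := by
      have := Finset.le_sup (f := fun g => ((lift g : reesAlgebra _) : R[X]).natDegree) hg
      omega
    rw [coeff_eq_zero_of_natDegree_lt hdeg, mul_zero]
  have : ((mon (Ideal.span (Set.range b)) j ⟨c, hc⟩ -
      ∑ g ∈ s, algebraMap R _ (((lift (f g) : reesAlgebra _) : R[X]).coeff 0) * lift g :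
        reesAlgebra (Ideal.span (Set.range b))) : R[X]).coeff j = c := by
    show ((monomial j c : R[X]) - _).coeff j = c
    rw [coeff_sub, hz, coeff_monomial_same, sub_zero]
  rwa [this] at hcoeff

end Torsion

section Regular

open Polynomial

variable {R : Type u} [CommRing R] {ι : Type*} (b : ι → R) (𝔪 : Ideal R)

/-- Elements of the Rees algebra concentrated in degrees `≥ j₁`. -/
def Rge (I : Ideal R) (j₁ : ℕ) : Ideal (reesAlgebra I) where
  carrier := {p | ∀ i < j₁, (p : R[X]).coeff i = 0}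
  add_mem' := by
    intro p p' hp hp' i hi
    show ((p : R[X]) + (p' : R[X])).coeff i = 0
    rw [coeff_add, hp i hi, hp' i hi, add_zero]
  zero_mem' := by
    intro i _
    show (0 : R[X]).coeff i = 0
    simp
  smul_mem' := by
    intro a p hp i hi
    show ((a : R[X]) * (p : R[X])).coeff i = 0
    rw [coeff_mul]
    refine Finset.sum_eq_zero ?_
    rintro ⟨k, l⟩ hkl
    have hl : l ≤ i := by
      have := Finset.HasAntidiagonal.mem_antidiagonal.mp hkl
      simp only at this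
      omega
    simp only
    rw [hp l (lt_of_le_of_lt hl hi), mul_zero]

/-- Every element of `Bq t q` is the class of `β X^q` with `β ∈ Bq b q`. -/
theorem exists_gmon_of_mem_Bq (q : ℕ) : ∀ θ ∈ Bq (t b 𝔪) q,
    ∃ β ∈ Bq b q, ∃ hβ : β ∈ Ideal.span (Set.range b) ^ q, θ = gmon b 𝔪 q β hβ := by
  intro θ hθ
  induction hθ using AddSubgroup.closure_induction with
  | mem θ hθ =>
    obtain ⟨m, hm, rfl⟩ := hθ
    subst hm
    refine ⟨(m.map b).prod, prod_mem_Bq b m, ?_⟩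
    induction m using Multiset.induction_on with
    | empty =>
      refine ⟨by simp, ?_⟩
      simp only [Multiset.map_zero, Multiset.prod_zero, Multiset.card_zero]
      have h1 : gmon b 𝔪 0 1 (by simp) = mkG b 𝔪 (algebraMap R _ 1) := (mkG_algebraMap b 𝔪 1).symm
      rw [h1, map_one, map_one]
    | cons a m ih =>
      obtain ⟨h1, h2⟩ := ih
      have hmem : (Multiset.map b (a ::ₘ m)).prod ∈
          Ideal.span (Set.range b) ^ Multiset.card (a ::ₘ m) :=
        Bq_le_pow b (Ideal.span (Set.range b)) (fun i => Ideal.subset_span (Set.mem_range_self i)) _ _ (prod_mem_Bq b _)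
      refine ⟨hmem, ?_⟩
      rw [Multiset.map_cons, Multiset.prod_cons, h2]
      unfold t
      rw [gmon_mul_gmon]
      refine gmon_congr b 𝔪 ?_ ?_ _
      · rw [Multiset.card_cons, add_comm]
      · rw [Multiset.map_cons, Multiset.prod_cons]
  | zero => exact ⟨0, AddSubgroup.zero_mem _, Ideal.zero_mem _, (gmon_zero b 𝔪 q).symm⟩
  | add x y _ _ hx hy =>
    obtain ⟨β, hβ, hβ', rfl⟩ := hx
    obtain ⟨β', hβ2, hβ2', rfl⟩ := hy
    exact ⟨β + β', AddSubgroup.add_mem _ hβ hβ2, Ideal.add_mem _ hβ' hβ2',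
      (gmon_add b 𝔪 q β β' hβ' hβ2').symm⟩
  | neg x _ hx =>
    obtain ⟨β, hβ, hβ', rfl⟩ := hx
    exact ⟨-β, AddSubgroup.neg_mem _ hβ, (Ideal.neg_mem_iff _).2 hβ', (gmon_neg b 𝔪 q β hβ').symm⟩

variable [IsNoetherianRing R]

/-- **Existence of a regular homogeneous element with integral coefficients.** -/
theorem exists_regular :
    ∃ q, 1 ≤ q ∧ ∃ β ∈ Bq b q, ∃ j₁ : ℕ, ∀ j, j₁ ≤ j → ∀ c ∈ Ideal.span (Set.range b) ^ j,
      β * c ∈ 𝔪 * Ideal.span (Set.range b) ^ (q + j) → c ∈ 𝔪 * Ideal.span (Set.range b) ^ j := by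
  classical
  haveI : IsNoetherianRing (G b 𝔪) :=
    inferInstanceAs (IsNoetherianRing (reesAlgebra (Ideal.span (Set.range b)) ⧸ _))
  obtain ⟨j₁, hj₁⟩ := exists_torsion_bound b 𝔪
  set 𝒱 : Ideal (G b 𝔪) := Ideal.map (mkG b 𝔪) (Rge (Ideal.span (Set.range b)) j₁) with h𝒱
  -- no torsion in `𝒱`
  have htors : ∀ v ∈ 𝒱, (∀ i, t b 𝔪 i * v = 0) → v = 0 := by
    intro v hv htv
    obtain ⟨p, hp, rfl⟩ := (Ideal.mem_map_iff_of_surjective _ (mkG_surjective b 𝔪)).1 hv
    rw [mkG_eq_zero_iff, mem_mR_iff]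
    intro j
    by_cases hj : j < j₁
    · rw [hp j hj]; exact Ideal.zero_mem _
    · refine hj₁ j (not_lt.1 hj) _ (p.2 j) fun i => ?_
      have h1 := htv i
      unfold t gmon at h1
      rw [← map_mul, mkG_eq_zero_iff, mem_mR_iff] at h1
      have h2 := h1 (j + 1)
      have h3 : ((mon (Ideal.span (Set.range b)) 1 ⟨b i, b_mem b i⟩ * p :
          reesAlgebra (Ideal.span (Set.range b))) : R[X]).coeff (j + 1) = b i * (p : R[X]).coeff j := by
        show ((monomial 1 (b i) : R[X]) * (p : R[X])).coeff (j + 1) = _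
        rw [coeff_monomial_mul]
      rwa [h3] at h2
  -- associated primes miss some generator
  have hfin := associatedPrimes.finite (G b 𝔪) ↥𝒱
  have hass : ∀ P ∈ hfin.toFinset, ∃ q, 1 ≤ q ∧ ∃ x ∈ Bq (t b 𝔪) q, x ∉ P := by
    intro P hP
    rw [Set.Finite.mem_toFinset] at hP
    obtain ⟨hPprime, x, hx⟩ := isAssociatedPrime_iff.1 hP
    by_contra hcon
    push Not at hcon
    have hall : ∀ i, t b 𝔪 i * (x : G b 𝔪) = 0 := by
      intro i
      have h1 : t b 𝔪 i ∈ P := hcon 1 le_rfl _ (mem_Bq_one _ i)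
      rw [hx, Submodule.mem_colon_singleton, Submodule.mem_bot] at h1
      have := congrArg Subtype.val h1
      simpa using this
    have hx0 : x = 0 := Subtype.ext (htors x.1 x.2 hall)
    apply hPprime.ne_top
    rw [hx, hx0]
    ext r
    simp [Submodule.mem_colon_singleton]
  obtain ⟨q, hq, θ, hθ, hθP⟩ := graded_prime_avoidance (Bq (t b 𝔪)) (one_mem_Bq _) (mul_mem_Bq _)
    hfin.toFinset (fun P hP => ((Set.Finite.mem_toFinset _).1 hP).isPrime) hass
  obtain ⟨β, hβ, hβ', rfl⟩ := exists_gmon_of_mem_Bq b 𝔪 q θ hθ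
  -- regularity
  have hreg : ∀ x : ↥𝒱, gmon b 𝔪 q β hβ' • x = 0 → x = 0 := by
    intro x hx
    by_contra hne
    have h1 : gmon b 𝔪 q β hβ' ∈ {r : G b 𝔪 | ∃ x : ↥𝒱, x ≠ 0 ∧ r • x = 0} := ⟨x, hne, hx⟩
    rw [← biUnion_associatedPrimes_eq_zero_divisors] at h1
    simp only [Set.mem_iUnion] at h1
    obtain ⟨P, hP, hmem⟩ := h1
    exact hθP P ((Set.Finite.mem_toFinset _).2 hP) hmem
  refine ⟨q, hq, β, hβ, j₁, ?_⟩
  intro j hj c hc hβc
  have hcV : gmon b 𝔪 j c hc ∈ 𝒱 := by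
    refine Ideal.mem_map_of_mem _ ?_
    intro i hi
    rw [coe_mon, coeff_monomial, if_neg (by omega)]
  have h1 : gmon b 𝔪 q β hβ' • (⟨gmon b 𝔪 j c hc, hcV⟩ : ↥𝒱) = 0 := by
    apply Subtype.ext
    show gmon b 𝔪 q β hβ' * gmon b 𝔪 j c hc = 0
    rw [gmon_mul_gmon, gmon_eq_zero_iff]
    exact hβc
  have h2 := congrArg Subtype.val (hreg _ h1)
  exact (gmon_eq_zero_iff b 𝔪 j c hc).1 h2

end Regular

section Reduction

open Pointwise

variable {R : Type u} [CommRing R] [IsNoetherianRing R] [IsLocalRing R] [Ring.KrullDimLE 1 R]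

theorem length_quotient_pow_ne_top (φ : R) (hφ : φ ∈ nonZeroDivisors R) (I : Ideal R) (e : ℕ)
    (he : φ ^ e ∈ I) (j : ℕ) : Module.length R (R ⧸ I ^ j) ≠ ⊤ := by
  have h1 : Ideal.span {φ ^ (e * j)} ≤ I ^ j := by
    rw [Ideal.span_singleton_le_iff_mem, pow_mul]
    exact Ideal.pow_mem_pow he j
  have h2 : IsFiniteLength R (R ⧸ Ideal.span {φ ^ (e * j)}) :=
    isFiniteLength_quotient_span_singleton R (pow_mem hφ _)
  have h3 := Module.length_le_of_surjective (Submodule.factor h1) (Submodule.factor_surjective h1)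
  rw [← Module.length_ne_top_iff] at h2
  exact ne_top_of_le_ne_top h2 h3

/-- The fibre cone of an ideal containing a power of a nonzerodivisor has bounded Hilbert function. -/
theorem length_quotient_maximalIdeal_smul_le (φ : R) (hφ : φ ∈ nonZeroDivisors R)
    (hφm : φ ∈ IsLocalRing.maximalIdeal R) (J : Ideal R) (hJ : Module.length R (R ⧸ J) ≠ ⊤) :
    Module.length R (↥J ⧸ (IsLocalRing.maximalIdeal R • (⊤ : Submodule R ↥J))) ≤
      Module.length R (R ⧸ Ideal.span {φ}) := by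
  rw [← length_quotient_smul_top φ hφ J hJ]
  have h1 : φ • (⊤ : Submodule R ↥J) ≤ IsLocalRing.maximalIdeal R • (⊤ : Submodule R ↥J) := by
    intro c hc
    obtain ⟨d, hd, rfl⟩ := (Submodule.mem_smul_pointwise_iff_exists _ _ _).1 hc
    exact Submodule.smul_mem_smul hφm hd
  exact Module.length_le_of_surjective (Submodule.factor h1) (Submodule.factor_surjective h1)

/-- **Existence of a reduction with integral coefficients** in a one-dimensional Noetherian local ring. -/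
theorem exists_reduction (φ : R) (hφ : φ ∈ nonZeroDivisors R) (hφm : φ ∈ IsLocalRing.maximalIdeal R)
    {ι : Type*} (b : ι → R) (e : ℕ) (he : φ ^ e ∈ Ideal.span (Set.range b)) :
    ∃ q, 1 ≤ q ∧ ∃ β ∈ Bq b q, ∃ j,
      Ideal.span {β} * Ideal.span (Set.range b) ^ j = Ideal.span (Set.range b) ^ (q + j) := by
  classical
  set I := Ideal.span (Set.range b) with hI
  set 𝔪 := IsLocalRing.maximalIdeal R with h𝔪
  obtain ⟨q, hq, β, hβ, j₁, hinj⟩ := exists_regular b 𝔪
  have hβI : β ∈ I ^ q := Bq_le_pow b I (fun i => Ideal.subset_span (Set.mem_range_self i)) q β hβ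
  have hΛ : Module.length R (R ⧸ Ideal.span {φ}) ≠ ⊤ := by
    rw [Module.length_ne_top_iff]
    exact isFiniteLength_quotient_span_singleton R hφ
  have hbound : ∀ j, Module.length R (↥(I ^ j) ⧸ (𝔪 • (⊤ : Submodule R ↥(I ^ j)))) ≤
      Module.length R (R ⧸ Ideal.span {φ}) := fun j =>
    length_quotient_maximalIdeal_smul_le φ hφ hφm _ (length_quotient_pow_ne_top φ hφ I e he j)
  -- a level of maximal length
  obtain ⟨Λ, hΛ'⟩ := ENat.ne_top_iff_exists.1 hΛ
  let f : ℕ → ℕ := fun j => (Module.length R (↥(I ^ j) ⧸ (𝔪 • (⊤ : Submodule R ↥(I ^ j))))).toNat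
  have hf : ∀ j, (f j : ℕ∞) = Module.length R (↥(I ^ j) ⧸ (𝔪 • (⊤ : Submodule R ↥(I ^ j)))) := fun j =>
    ENat.natCast_toNat (ne_top_of_le_ne_top hΛ (hbound j))
  have hfΛ : ∀ j, f j ≤ Λ := fun j => by
    have := hbound j
    rw [← hf j, ← hΛ'] at this
    exact_mod_cast this
  obtain ⟨j, hj, hmax⟩ : ∃ j, j₁ ≤ j ∧ ∀ j', j₁ ≤ j' → f j' ≤ f j := by
    have hne : (f '' {j | j₁ ≤ j}).Nonempty := ⟨f j₁, j₁, le_refl j₁, rfl⟩
    have hbdd : BddAbove (f '' {j | j₁ ≤ j}) := ⟨Λ, by rintro _ ⟨j, -, rfl⟩; exact hfΛ j⟩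
    obtain ⟨j, hj, hjs⟩ := Nat.sSup_mem hne hbdd
    exact ⟨j, hj, fun j' hj' => hjs ▸ le_csSup hbdd ⟨j', hj', rfl⟩⟩
  -- multiplication by β
  have hmul : ∀ x ∈ I ^ j, (LinearMap.mul R R β) x ∈ I ^ (q + j) := fun x hx => by
    rw [pow_add]; exact Ideal.mul_mem_mul hβI hx
  let μ₀ : ↥(I ^ j) →ₗ[R] ↥(I ^ (q + j)) := (LinearMap.mul R R β).restrict hmul
  have hμ₀ : 𝔪 • (⊤ : Submodule R ↥(I ^ j)) ≤
      Submodule.comap μ₀ (𝔪 • (⊤ : Submodule R ↥(I ^ (q + j)))) := by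
    rw [Submodule.smul_le]
    intro r hr n _
    rw [Submodule.mem_comap, map_smul]
    exact Submodule.smul_mem_smul hr trivial
  let μ := Submodule.mapQ _ _ μ₀ hμ₀
  have hμinj : Function.Injective μ := by
    rw [← LinearMap.ker_eq_bot, Submodule.eq_bot_iff]
    intro x hx
    obtain ⟨c, rfl⟩ := Submodule.Quotient.mk_surjective _ x
    have h3 : (Submodule.Quotient.mk (μ₀ c) :
        ↥(I ^ (q + j)) ⧸ (𝔪 • (⊤ : Submodule R ↥(I ^ (q + j))))) = 0 := hx
    rw [Submodule.Quotient.mk_eq_zero, Submodule.mem_smul_top_iff] at h3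
    rw [Submodule.Quotient.mk_eq_zero, Submodule.mem_smul_top_iff]
    exact hinj j hj c.1 c.2 h3
  have hμsurj : Function.Surjective μ := by
    have e1 := Module.length_eq_add_of_exact μ (LinearMap.range μ).mkQ hμinj
      (Submodule.mkQ_surjective _) (LinearMap.exact_map_mkQ_range μ)
    have h1 : f (q + j) ≤ f j := hmax _ (by omega)
    rw [← hf, ← hf] at e1
    have h2 : Module.length R ((↥(I ^ (q + j)) ⧸ (𝔪 • (⊤ : Submodule R ↥(I ^ (q + j))))) ⧸
        LinearMap.range μ) = 0 := by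
      have h3 : ((f j : ℕ∞)) + Module.length R ((↥(I ^ (q + j)) ⧸
          (𝔪 • (⊤ : Submodule R ↥(I ^ (q + j))))) ⧸ LinearMap.range μ) ≤ (f j : ℕ∞) + 0 := by
        rw [← e1, add_zero]; exact_mod_cast h1
      exact le_antisymm ((ENat.add_le_add_iff_left (ENat.natCast_ne_top _)).1 h3) zero_le
    rw [Module.length_eq_zero_iff, Submodule.Quotient.subsingleton_iff] at h2
    exact LinearMap.range_eq_top.1 h2
  refine ⟨q, hq, β, hβ, j, le_antisymm ?_ ?_⟩
  · rw [pow_add]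
    exact Ideal.mul_mono_left ((Ideal.span_singleton_le_iff_mem _).2 hβI)
  · have hle : I ^ (q + j) ≤ Ideal.span {β} * I ^ j ⊔ 𝔪 • I ^ (q + j) := by
      intro c' hc'
      obtain ⟨x, hx⟩ := hμsurj (Submodule.Quotient.mk ⟨c', hc'⟩)
      obtain ⟨c, rfl⟩ := Submodule.Quotient.mk_surjective _ x
      have h3 : (Submodule.Quotient.mk (μ₀ c) :
          ↥(I ^ (q + j)) ⧸ (𝔪 • (⊤ : Submodule R ↥(I ^ (q + j))))) =
            Submodule.Quotient.mk ⟨c', hc'⟩ := hx
      rw [Submodule.Quotient.eq, Submodule.mem_smul_top_iff] at h3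
      have h4 : c' = β * c.1 - (β * c.1 - c') := by ring
      rw [h4]
      refine Submodule.sub_mem _ (Submodule.mem_sup_left ?_) (Submodule.mem_sup_right h3)
      exact Ideal.mul_mem_mul (Ideal.mem_span_singleton_self β) c.2
    exact Submodule.le_of_le_smul_of_le_jacobson_bot (IsNoetherian.noetherian _)
      (IsLocalRing.maximalIdeal_le_jacobson ⊥) hle

/-- **Core.** If `b i₀ = φ^(e'+1)` and `φ^e' ∈ (b i)`, some integral form `β` of degree `q` in the `b i`
satisfies `β^l y₀ = φ^((e'+1) q l)` with `y₀` in the maximal ideal. -/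
theorem core (φ : R) (hφ : φ ∈ nonZeroDivisors R) (hφm : φ ∈ IsLocalRing.maximalIdeal R)
    {ι : Type*} (b : ι → R) (e' : ℕ) (i₀ : ι) (hb0 : b i₀ = φ ^ (e' + 1))
    (he : φ ^ e' ∈ Ideal.span (Set.range b)) :
    ∃ q, 1 ≤ q ∧ ∃ β ∈ Bq b q, ∃ l, 1 ≤ l ∧ ∃ y₀ ∈ IsLocalRing.maximalIdeal R,
      β ^ l * y₀ = φ ^ ((e' + 1) * q * l) := by
  obtain ⟨q, hq, β, hβ, j, hred⟩ := exists_reduction φ hφ hφm b e' he
  set I := Ideal.span (Set.range b) with hI
  have hpow : ∀ l : ℕ, Ideal.span {β ^ l} * I ^ j = I ^ (l * q + j) := by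
    intro l
    induction l with
    | zero => simp
    | succ l ih =>
      have h1 : Ideal.span {β ^ (l + 1)} = Ideal.span {β} * Ideal.span {β ^ l} := by
        rw [Ideal.span_singleton_mul_span_singleton, pow_succ']
      rw [h1, mul_assoc, ih, add_comm (l * q) j, pow_add, ← mul_assoc, hred, ← pow_add]
      congr 1
      ring
  set l := (e' + 1) * j + 1 with hl
  have h1 : φ ^ ((e' + 1) * j) ∈ I ^ j := by
    rw [pow_mul, ← hb0]
    exact Ideal.pow_mem_pow (Ideal.subset_span (Set.mem_range_self i₀)) j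
  have h2 : φ ^ (e' * (l * q)) ∈ I ^ (l * q) := by
    have h2' : (φ ^ e') ^ (l * q) ∈ I ^ (l * q) := Ideal.pow_mem_pow he _
    rwa [← pow_mul] at h2'
  have h3 : φ ^ (e' * (l * q)) * φ ^ ((e' + 1) * j) ∈ I ^ (l * q + j) := by
    rw [pow_add]; exact Ideal.mul_mem_mul h2 h1
  rw [← hpow l, Ideal.mem_span_singleton_mul] at h3
  obtain ⟨c, -, hc⟩ := h3
  have hlq : (e' + 1) * j + 1 ≤ l * q := by
    rw [hl]; exact Nat.le_mul_of_pos_right _ hq
  refine ⟨q, hq, β, hβ, l, by omega, c * φ ^ (l * q - (e' + 1) * j), ?_, ?_⟩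
  · refine Ideal.mul_mem_left _ _ (Ideal.pow_mem_of_mem _ hφm _ (by omega))
  · rw [← mul_assoc, hc, ← pow_add, ← pow_add]
    congr 1
    have : (e' + 1) * j ≤ l * q := by omega
    zify [this]
    ring

end Reduction

section Pole

theorem exists_mem_Bq_mul_pow {M : Type*} [CommRing M] {ι : Type*} (a : ι → M) (c : M) (q : ℕ) :
    ∀ x ∈ Bq (fun i => a i * c) q, ∃ α ∈ Bq a q, x = α * c ^ q := by
  intro x hx
  induction hx using AddSubgroup.closure_induction with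
  | mem x hx =>
    obtain ⟨m, hm, rfl⟩ := hx
    subst hm
    refine ⟨(m.map a).prod, prod_mem_Bq a m, ?_⟩
    rw [Multiset.prod_map_mul, Multiset.map_const', Multiset.prod_replicate]
  | zero => exact ⟨0, AddSubgroup.zero_mem _, by simp⟩
  | add x y _ _ hx hy =>
    obtain ⟨α, hα, rfl⟩ := hx
    obtain ⟨α', hα', rfl⟩ := hy
    exact ⟨α + α', AddSubgroup.add_mem _ hα hα', by ring⟩
  | neg x _ hx =>
    obtain ⟨α, hα, rfl⟩ := hx
    exact ⟨-α, AddSubgroup.neg_mem _ hα, by ring⟩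

theorem Bq_le_subring {M : Type*} [CommRing M] {ι : Type*} (𝔄 : Subring M) (a : ι → M)
    (ha : ∀ i, a i ∈ 𝔄) (q : ℕ) : ∀ x ∈ Bq a q, x ∈ 𝔄 := by
  intro x hx
  induction hx using AddSubgroup.closure_induction with
  | mem x hx =>
    obtain ⟨m, -, rfl⟩ := hx
    refine Subring.multiset_prod_mem _ _ ?_
    intro y hy
    obtain ⟨i, -, rfl⟩ := Multiset.mem_map.1 hy
    exact ha i
  | zero => exact 𝔄.zero_mem
  | add x y _ _ hx hy => exact 𝔄.add_mem hx hy
  | neg x _ hx => exact 𝔄.neg_mem hx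

variable {R : Type u} [CommRing R] [IsNoetherianRing R] [IsLocalRing R] [Ring.KrullDimLE 1 R]

/-- **The pole lemma.** Let `R` be a Noetherian local ring of dimension at most one, `φ` in its maximal
ideal, `M = R_φ`, and `𝔄 ⊆ M` a subring whose `R`-span is `M`. Then some `g ∈ 𝔄` is invertible in `M`
with inverse the image of an element of the maximal ideal. -/
theorem exists_pole {M : Type*} [CommRing M] [Algebra R M] (φ : R)
    (hφm : φ ∈ IsLocalRing.maximalIdeal R) [IsLocalization.Away φ M] (𝔄 : Subring M)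
    (hspan : Submodule.span R (𝔄 : Set M) = ⊤) :
    ∃ g ∈ 𝔄, ∃ y ∈ IsLocalRing.maximalIdeal R, g * algebraMap R M y = 1 := by
  classical
  rcases subsingleton_or_nontrivial M with hM | hM
  · exact ⟨0, 𝔄.zero_mem, φ, hφm, Subsingleton.elim _ _⟩
  -- the image of `R` in `M`
  set K : Ideal R := RingHom.ker (algebraMap R M) with hK
  haveI : Nontrivial (R ⧸ K) := Ideal.Quotient.nontrivial_iff.2 (RingHom.ker_ne_top _)
  haveI : IsLocalRing (R ⧸ K) :=
    IsLocalRing.of_surjective' (Ideal.Quotient.mk K) Ideal.Quotient.mk_surjective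
  haveI : IsLocalHom (Ideal.Quotient.mk K) :=
    IsLocalHom.of_surjective _ Ideal.Quotient.mk_surjective
  haveI : Ring.KrullDimLE 1 (R ⧸ K) := by
    rw [Ring.krullDimLE_iff]
    exact (ringKrullDim_quotient_le K).trans (Ring.krullDimLE_iff.1 inferInstance)
  let ι' : R ⧸ K →+* M := RingHom.kerLift (algebraMap R M)
  have hι'inj : Function.Injective ι' := RingHom.kerLift_injective _
  have hι'mk : ∀ r : R, ι' (Ideal.Quotient.mk K r) = algebraMap R M r := fun r => rfl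
  set φM : M := algebraMap R M φ with hφM
  have hφunit : IsUnit φM := IsLocalization.Away.algebraMap_isUnit φ
  set φ' : R ⧸ K := Ideal.Quotient.mk K φ with hφ'
  have hφ'nzd : φ' ∈ nonZeroDivisors (R ⧸ K) := by
    rw [mem_nonZeroDivisors_iff_right]
    intro x hx
    apply hι'inj
    have h1 : ι' x * φM = 0 := by
      rw [hφM, ← hι'mk, ← map_mul, hx, map_zero]
    rw [map_zero]
    exact (hφunit.mul_left_eq_zero).1 h1
  have hφ'm : φ' ∈ IsLocalRing.maximalIdeal (R ⧸ K) := by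
    rw [IsLocalRing.mem_maximalIdeal, mem_nonunits_iff]
    intro hu
    exact (IsLocalRing.mem_maximalIdeal _).1 hφm (isUnit_of_map_unit (Ideal.Quotient.mk K) φ hu)
  -- write `1/φ` as a combination of elements of `𝔄`
  obtain ⟨u, hu⟩ := hφunit.exists_right_inv
  have humem : u ∈ Submodule.span R (𝔄 : Set M) := by rw [hspan]; trivial
  obtain ⟨f, T, hT𝔄, -, hsum⟩ := Submodule.mem_span_iff_exists_finset_subset.1 humem
  -- denominators
  have hden : ∀ z : M, ∃ (n : ℕ) (r : R), z * φM ^ n = algebraMap R M r :=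
    fun z => IsLocalization.Away.surj φ z
  choose n r hnr using hden
  set E : ℕ := T.sup n + 1 with hE
  have hnE : ∀ x ∈ T, n x ≤ T.sup n := fun x hx => Finset.le_sup hx
  -- the generators
  let a : Option ↥T → M := fun o => o.elim 1 (fun x => x.1)
  let b : Option ↥T → R ⧸ K := fun o =>
    o.elim (φ' ^ E) (fun x => Ideal.Quotient.mk K (r x.1 * φ ^ (E - n x.1)))
  have ha𝔄 : ∀ o, a o ∈ 𝔄 := by
    rintro (_ | x)
    · exact 𝔄.one_mem
    · exact hT𝔄 x.2
  have hab : ∀ o, ι' (b o) = a o * φM ^ E := by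
    rintro (_ | x)
    · show ι' (φ' ^ E) = 1 * φM ^ E
      rw [map_pow, one_mul]; rfl
    · show ι' (Ideal.Quotient.mk K (r x.1 * φ ^ (E - n x.1))) = x.1 * φM ^ E
      rw [hι'mk, map_mul, map_pow, ← hnr, mul_assoc, ← pow_add]
      congr 2
      have := hnE x.1 x.2
      omega
  have he : φ' ^ (T.sup n) ∈ Ideal.span (Set.range b) := by
    have h1 : φ' ^ (T.sup n) = ∑ x ∈ T.attach, Ideal.Quotient.mk K (f x.1) * b (some x) := by
      apply hι'inj
      rw [map_sum, map_pow]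
      have h2 : ι' φ' = φM := rfl
      rw [h2]
      have h3 : φM ^ (T.sup n) = (φM ^ E) * u := by
        rw [hE, pow_succ, mul_assoc, hu, mul_one]
      rw [h3, ← hsum, Finset.mul_sum, ← Finset.sum_attach T]
      refine Finset.sum_congr rfl fun x _ => ?_
      rw [map_mul, hab (some x), hι'mk, Algebra.smul_def]
      show φM ^ E * (algebraMap R M (f x.1) * x.1) = algebraMap R M (f x.1) * (x.1 * φM ^ E)
      ring
    rw [h1]
    exact Ideal.sum_mem _ fun x _ => Ideal.mul_mem_left _ _ (Ideal.subset_span ⟨some x, rfl⟩)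
  obtain ⟨q, hq, β, hβ, l, hl, y₀, hy₀, hβy⟩ :=
    core φ' hφ'nzd hφ'm b (T.sup n) none rfl he
  -- transport to `M`
  have h1 := map_mem_Bq ι' b q β hβ
  have h2 : (fun i => ι' (b i)) = fun i => a i * φM ^ E := funext hab
  rw [h2] at h1
  obtain ⟨α, hα, hαβ⟩ := exists_mem_Bq_mul_pow a (φM ^ E) q _ h1
  have hα𝔄 : α ∈ 𝔄 := Bq_le_subring 𝔄 a ha𝔄 q α hα
  obtain ⟨y, rfl⟩ := Ideal.Quotient.mk_surjective y₀
  have hym : y ∈ IsLocalRing.maximalIdeal R := by
    rw [IsLocalRing.mem_maximalIdeal, mem_nonunits_iff]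
    intro hyu
    exact (IsLocalRing.mem_maximalIdeal _).1 hy₀ (hyu.map _)
  refine ⟨α ^ l, 𝔄.pow_mem hα𝔄 l, y, hym, ?_⟩
  have h3 := congrArg ι' hβy
  rw [map_mul, map_pow, map_pow, hαβ, hι'mk] at h3
  have h4 : ι' φ' = φM := rfl
  rw [h4, mul_pow, ← pow_mul, ← pow_mul] at h3
  have hN : E * (q * l) = (T.sup n + 1) * q * l := by rw [hE]; ring
  rw [hN] at h3
  have h5 : φM ^ ((T.sup n + 1) * q * l) * (α ^ l * algebraMap R M y) =
      φM ^ ((T.sup n + 1) * q * l) * 1 := by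
    calc φM ^ ((T.sup n + 1) * q * l) * (α ^ l * algebraMap R M y)
        = α ^ l * φM ^ ((T.sup n + 1) * q * l) * algebraMap R M y := by ring
      _ = φM ^ ((T.sup n + 1) * q * l) := h3
      _ = φM ^ ((T.sup n + 1) * q * l) * 1 := (mul_one _).symm
  exact (hφunit.pow _).mul_left_cancel h5

end Pole

end Groth.Agent.Lib.Seat33.PoleAlg
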