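/-
Seat33: local algebra for "finitely many codimension-one points lie in an affine open" (Stacks 09NN),
integral case.  Everything happens inside a field `K`.
-/
import Mathlib
import Groth.Agent.Lib.Seat33PoleAlg

set_option autoImplicit false
universe u

namespace Groth.Agent.Lib.Seat33.AffNbhdAlg

open IsLocalRing

section OneDim

variable {R : Type u} [CommRing R] [IsDomain R] [IsLocalRing R] [Ring.KrullDimLE 1 R]

/-- in a one-dimensional local domain, every element of the maximal ideal has a power divisible by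
a given nonzero element. -/
theorem exists_pow_mem_span {e : R} (he : e ≠ 0) {ω : R} (hω : ω ∈ maximalIdeal R) :
    ∃ N : ℕ, ω ^ N ∈ Ideal.span {e} := by
  have hrad : ω ∈ (Ideal.span {e}).radical := by
    rw [Ideal.radical_eq_sInf, Ideal.mem_sInf]
    rintro J ⟨hJ, hJp⟩
    have hJne : J ≠ ⊥ := by
      intro h
      apply he
      have : e ∈ J := hJ (Ideal.subset_span rfl)
      rwa [h, Ideal.mem_bot] at this
    have hJmax : J.IsMaximal := by
      have := (Ring.krullDimLE_one_iff_of_noZeroDivisors (R := R)).1 inferInstance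
      exact this J hJne hJp
    rw [IsLocalRing.eq_maximalIdeal hJmax]
    exact hω
  exact hrad

theorem exists_pow_eq_mul {e : R} (he : e ≠ 0) {ω : R} (hω : ω ∈ maximalIdeal R) :
    ∃ (N : ℕ) (c : R), ω ^ N = e * c := by
  obtain ⟨N, hN⟩ := exists_pow_mem_span he hω
  obtain ⟨c, hc⟩ := Ideal.mem_span_singleton'.1 hN
  exact ⟨N, c, by rw [← hc, mul_comm]⟩

variable {K : Type u} [Field K] [Algebra R K] [IsFractionRing R K]

/-- every element of the fraction field is brought into the ring by a power of a nonzero element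
of the maximal ideal. -/
theorem exists_pow_mul_mem {F : R} (hF : F ∈ maximalIdeal R) (β : K) :
    ∃ (L : ℕ) (ω : R), algebraMap R K ω = algebraMap R K F ^ L * β := by
  obtain ⟨a, s, hs, rfl⟩ := IsFractionRing.div_surjective (A := R) β
  have hs0 : s ≠ 0 := nonZeroDivisors.ne_zero hs
  obtain ⟨L, c, hc⟩ := exists_pow_eq_mul hs0 hF
  refine ⟨L, c * a, ?_⟩
  have hsK : algebraMap R K s ≠ 0 := by
    simpa using (IsFractionRing.injective R K).ne hs0
  rw [← map_pow, hc]
  simp only [map_mul]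
  field_simp

end OneDim

section Away

variable {R : Type u} [CommRing R] [IsDomain R] [IsLocalRing R] [Ring.KrullDimLE 1 R]
variable {K : Type u} [Field K] [Algebra R K] [IsFractionRing R K]

/-- the fraction field of a one-dimensional local domain is obtained by inverting any nonzero
element of the maximal ideal. -/
theorem isLocalization_away {φ : R} (hφ : φ ∈ maximalIdeal R) (hφ0 : φ ≠ 0) :
    IsLocalization.Away φ K := by
  have hle : Submonoid.powers φ ≤ nonZeroDivisors R := by
    rintro _ ⟨n, rfl⟩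
    exact mem_nonZeroDivisors_of_ne_zero (pow_ne_zero n hφ0)
  have : IsLocalization (nonZeroDivisors R) (Localization.Away φ) := by
    refine IsLocalization.of_le_of_exists_dvd (Submonoid.powers φ) (nonZeroDivisors R) hle ?_
    intro n hn
    obtain ⟨N, c, hc⟩ := exists_pow_eq_mul (nonZeroDivisors.ne_zero hn) hφ
    exact ⟨φ ^ N, ⟨N, rfl⟩, ⟨c, hc⟩⟩
  let e : Localization.Away φ ≃ₐ[R] K := IsLocalization.algEquiv (nonZeroDivisors R) _ _
  exact IsLocalization.isLocalization_of_algEquiv (Submonoid.powers φ) e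

end Away

section ExistsF

variable {R : Type u} [CommRing R] [IsDomain R] [IsLocalRing R] [IsNoetherianRing R]
  [Ring.KrullDimLE 1 R]
variable {K : Type u} [Field K] [Algebra R K] [IsFractionRing R K]

/-- elements of the subring generated by an additive subgroup closed under multiplication are of
the form `n + ρ`. -/
theorem mem_closure_iff (𝔯 : AddSubgroup K) (hmul : ∀ a ∈ 𝔯, ∀ b ∈ 𝔯, a * b ∈ 𝔯) (g : K)
    (hg : g ∈ Subring.closure (𝔯 : Set K)) : ∃ (n : ℤ) (ρ : K), ρ ∈ 𝔯 ∧ g = n + ρ := by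
  induction hg using Subring.closure_induction with
  | mem x hx => exact ⟨0, x, hx, by simp⟩
  | zero => exact ⟨0, 0, 𝔯.zero_mem, by simp⟩
  | one => exact ⟨1, 0, 𝔯.zero_mem, by simp⟩
  | add x y _ _ hx hy =>
    obtain ⟨n, ρ, hρ, rfl⟩ := hx
    obtain ⟨n', ρ', hρ', rfl⟩ := hy
    exact ⟨n + n', ρ + ρ', 𝔯.add_mem hρ hρ', by push_cast; ring⟩
  | neg x _ hx =>
    obtain ⟨n, ρ, hρ, rfl⟩ := hx
    exact ⟨-n, -ρ, 𝔯.neg_mem hρ, by push_cast; ring⟩
  | mul x y _ _ hx hy =>
    obtain ⟨n, ρ, hρ, rfl⟩ := hx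
    obtain ⟨n', ρ', hρ', rfl⟩ := hy
    refine ⟨n * n', n • ρ' + n' • ρ + ρ * ρ', ?_, ?_⟩
    · exact 𝔯.add_mem (𝔯.add_mem (𝔯.zsmul_mem hρ' n) (𝔯.zsmul_mem hρ n')) (hmul _ hρ _ hρ')
    · push_cast
      simp only [zsmul_eq_mul]
      ring

/-- **Separating function.**  `R` a one-dimensional Noetherian local domain with fraction field
`K`, not a field; `𝔯 ⊆ K` an additive subgroup closed under multiplication and under
`ρ ↦ ρ / (1 + ρ)` whose `R`-span is `K`.  Then some nonzero `y` in the maximal ideal of `R`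
has `1 - y ∈ 𝔯`. -/
theorem exists_F (hm : maximalIdeal R ≠ ⊥) (𝔯 : AddSubgroup K)
    (hmul : ∀ a ∈ 𝔯, ∀ b ∈ 𝔯, a * b ∈ 𝔯)
    (hinv : ∀ ρ ∈ 𝔯, 1 + ρ ≠ 0 → ρ / (1 + ρ) ∈ 𝔯)
    (hspan : Submodule.span R (𝔯 : Set K) = ⊤) :
    ∃ y ∈ maximalIdeal R, y ≠ 0 ∧ 1 - algebraMap R K y ∈ 𝔯 := by
  obtain ⟨φ, hφ, hφ0⟩ := Submodule.exists_mem_ne_zero_of_ne_bot hm
  have := isLocalization_away (K := K) hφ hφ0
  have hspan' : Submodule.span R ((Subring.closure (𝔯 : Set K) : Subring K) : Set K) = ⊤ := by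
    rw [eq_top_iff, ← hspan]
    exact Submodule.span_mono Subring.subset_closure
  obtain ⟨g, hg, y, hy, hgy⟩ :=
    Groth.Agent.Lib.Seat33.PoleAlg.exists_pole (R := R) (M := K) φ hφ _ hspan'
  obtain ⟨n, ρ, hρ, rfl⟩ := mem_closure_iff 𝔯 hmul g hg
  have hinj := IsFractionRing.injective R K
  have hy0 : y ≠ 0 := by
    rintro rfl
    simp at hgy
  have hyK : algebraMap R K y ≠ 0 := by simpa using hinj.ne hy0
  -- `u = 1 - n y` is a unit, and so is `y + u`
  have hu : IsUnit (y + (1 - (n : R) * y)) := by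
    have : y + (1 - (n : R) * y) = 1 - ((n : R) - 1) * y := by ring
    rw [this]
    have hmem : ((n : R) - 1) * y ∈ maximalIdeal R := Ideal.mul_mem_left _ _ hy
    by_contra hnu
    have h1 : 1 - ((n : R) - 1) * y ∈ maximalIdeal R := (IsLocalRing.mem_maximalIdeal _).2 hnu
    have : (1 : R) ∈ maximalIdeal R := by
      have := Ideal.add_mem _ h1 hmem
      simp at this
    exact (Ideal.ne_top_iff_one _).1 (IsLocalRing.maximalIdeal.isMaximal R).ne_top this
  obtain ⟨w, hw⟩ := hu
  refine ⟨y * (w⁻¹ : Rˣ), Ideal.mul_mem_right _ _ hy, ?_, ?_⟩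
  · exact mul_ne_zero hy0 (Units.ne_zero _)
  · -- `1 + ρ = (y + u) / y`
    have hwK : algebraMap R K (w : R) = algebraMap R K y * (1 + ρ) := by
      rw [hw]
      have : ((n : K) + ρ) * algebraMap R K y = 1 := hgy
      have hρeq : ρ * algebraMap R K y = 1 - (n : K) * algebraMap R K y := by linear_combination this
      rw [map_add, map_sub, map_mul, map_one, map_intCast]
      linear_combination -hρeq
    have h1ρ : 1 + ρ ≠ 0 := by
      intro h
      rw [h, mul_zero] at hwK
      exact (Units.ne_zero w) (hinj (by rw [hwK, map_zero]))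
    have hρ' := hinv ρ hρ h1ρ
    have hwinv : algebraMap R K ((w⁻¹ : Rˣ) : R) = (algebraMap R K (w : R))⁻¹ := by
      have : algebraMap R K ((w⁻¹ : Rˣ) : R) * algebraMap R K (w : R) = 1 := by
        rw [← map_mul, Units.inv_mul, map_one]
      exact eq_inv_of_mul_eq_one_left this
    have : 1 - algebraMap R K (y * ((w⁻¹ : Rˣ) : R)) = ρ / (1 + ρ) := by
      rw [map_mul, hwinv, hwK]
      field_simp
      ring
    rw [this]
    exact hρ'

end ExistsF

end Groth.Agent.Lib.Seat33.AffNbhdAlg
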