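/-
Seat80: for `f : X ⟶ Y` with `Y` affine and an affine open cover `U i` of `X`, `f` is separated iff all
`U i ⊓ U j` are affine with sections generated by the restrictions from `U i` and `U j`.
Proof: `IsSeparated = diagonal IsClosedImmersion`; by `AffineTargetMorphismProperty.diagonal_of_openCover_source`
and `HasAffineProperty.diagonal_iff` this is checked on `U i ⊓ U j ⟶ U i ×_Y U j`; the sections of the latter
are a pushout of rings, hence generated by the two images.
-/
import Mathlib
set_option autoImplicit false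
universe u v

namespace Groth.Agent.Lib.Seat80.SepAffine

open CategoryTheory CategoryTheory.Limits AlgebraicGeometry

theorem closure_eq_top_of_isPushout {A B C P : CommRingCat.{u}} {f : A ⟶ B} {g : A ⟶ C}
    {inl : B ⟶ P} {inr : C ⟶ P} (h : IsPushout f g inl inr) :
    Subring.closure (Set.range inl.hom ∪ Set.range inr.hom) = ⊤ := by
  set S := Subring.closure (Set.range inl.hom ∪ Set.range inr.hom) with hS
  let inl' : B ⟶ CommRingCat.of S := CommRingCat.ofHom
    (inl.hom.codRestrict S (fun x => Subring.subset_closure (Or.inl ⟨x, rfl⟩)))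
  let inr' : C ⟶ CommRingCat.of S := CommRingCat.ofHom
    (inr.hom.codRestrict S (fun x => Subring.subset_closure (Or.inr ⟨x, rfl⟩)))
  let ι : CommRingCat.of S ⟶ P := CommRingCat.ofHom S.subtype
  have hcomm : f ≫ inl' = g ≫ inr' := by
    ext x
    exact congr($(h.w) x)
  let d := h.desc inl' inr' hcomm
  have h1 : inl ≫ (d ≫ ι) = inl ≫ 𝟙 P := by
    rw [← Category.assoc, h.inl_desc]
    rfl
  have h2 : inr ≫ (d ≫ ι) = inr ≫ 𝟙 P := by
    rw [← Category.assoc, h.inr_desc]
    rfl
  have h3 : d ≫ ι = 𝟙 P := h.hom_ext h1 h2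
  rw [eq_top_iff]
  intro x _
  have h4 : ι.hom (d.hom x) = x := congr($(h3) x)
  rw [← h4]
  exact (d.hom x).2

/-- surjectivity of a ring hom out of a ring generated by two images -/
theorem surjective_iff_closure {A B P R : Type*} [CommRing A] [CommRing B] [CommRing P] [CommRing R]
    (a : A →+* P) (b : B →+* P) (φ : P →+* R)
    (hgen : Subring.closure (Set.range a ∪ Set.range b) = ⊤) :
    Function.Surjective φ ↔
      Subring.closure (Set.range (φ.comp a) ∪ Set.range (φ.comp b)) = ⊤ := by
  rw [← RingHom.range_eq_top, RingHom.range_eq_map, ← hgen, RingHom.map_closure, Set.image_union,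
    ← Set.range_comp, ← Set.range_comp]
  rfl

theorem closure_transport {A A' B B' P P' : Type*} [CommRing A] [CommRing A'] [CommRing B]
    [CommRing B'] [CommRing P] [CommRing P']
    (a : A →+* P) (b : B →+* P) (a' : A' →+* P') (b' : B' →+* P') (tA : A →+* A') (tB : B →+* B')
    (tP : P →+* P') (htA : Function.Surjective tA) (htB : Function.Surjective tB)
    (htP : Function.Bijective tP) (ha : tP.comp a = a'.comp tA) (hb : tP.comp b = b'.comp tB) :
    Subring.closure (Set.range a ∪ Set.range b) = ⊤ ↔
      Subring.closure (Set.range a' ∪ Set.range b') = ⊤ := by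
  have h1 : Set.range a' = tP '' Set.range a := by
    rw [← Set.range_comp, ← htA.range_comp a']
    exact congrArg (fun φ : A →+* P' => Set.range φ) ha.symm
  have h2 : Set.range b' = tP '' Set.range b := by
    rw [← Set.range_comp, ← htB.range_comp b']
    exact congrArg (fun φ : B →+* P' => Set.range φ) hb.symm
  rw [h1, h2, ← Set.image_union, ← RingHom.map_closure]
  constructor
  · intro h
    rw [h, ← RingHom.range_eq_map, RingHom.range_eq_top]
    exact htP.2
  · intro h
    rw [← Subring.comap_map_eq_self_of_injective htP.1 (Subring.closure _), h]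
    rfl

/-- Step 1: in terms of global sections of the open subscheme `U ⊓ V`. -/
theorem pair_iff_aux {X Y : Scheme.{u}} [IsAffine Y] (f : X ⟶ Y) (U V : X.Opens)
    (hU : IsAffineOpen U) (hV : IsAffineOpen V) :
    (IsAffine (pullback U.ι V.ι) ∧ Function.Surjective (pullback.mapDesc U.ι V.ι f).appTop) ↔
    (IsAffineOpen (U ⊓ V) ∧
      Subring.closure (Set.range (X.homOfLE (inf_le_left : U ⊓ V ≤ U)).appTop.hom ∪
        Set.range (X.homOfLE (inf_le_right : U ⊓ V ≤ V)).appTop.hom) = ⊤) := by
  have : IsAffine U.toScheme := hU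
  have : IsAffine V.toScheme := hV
  let e := (isPullback_opens_inf U V).isoPullback
  have he1 : e.hom ≫ pullback.fst U.ι V.ι = X.homOfLE inf_le_left :=
    (isPullback_opens_inf U V).isoPullback_hom_fst
  have he2 : e.hom ≫ pullback.snd U.ι V.ι = X.homOfLE inf_le_right :=
    (isPullback_opens_inf U V).isoPullback_hom_snd
  have hpush := isPushout_appTop_of_isPullback (IsPullback.of_hasPullback (U.ι ≫ f) (V.ι ≫ f))
  have hgen := closure_eq_top_of_isPushout hpush
  have hd1 : e.hom ≫ pullback.mapDesc U.ι V.ι f ≫ pullback.fst (U.ι ≫ f) (V.ι ≫ f) =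
      X.homOfLE inf_le_left := by
    rw [← he1]; congr 1; exact pullback.lift_fst _ _ _
  have hd2 : e.hom ≫ pullback.mapDesc U.ι V.ι f ≫ pullback.snd (U.ι ≫ f) (V.ι ≫ f) =
      X.homOfLE inf_le_right := by
    rw [← he2]; congr 1; exact pullback.lift_snd _ _ _
  have haff : IsAffine (pullback U.ι V.ι) ↔ IsAffineOpen (U ⊓ V) := by
    constructor
    · intro h; exact IsAffine.of_isIso e.hom
    · intro h
      have : IsAffine (U ⊓ V).toScheme := h
      exact IsAffine.of_isIso e.inv
  rw [haff]
  refine and_congr_right fun _ => ?_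
  have hiso : IsIso e.hom.appTop := by
    show IsIso (e.hom.app ⊤)
    infer_instance
  have hbij : Function.Bijective e.hom.appTop := ConcreteCategory.bijective_of_isIso _
  have hcomp : (⇑(e.hom ≫ pullback.mapDesc U.ι V.ι f).appTop.hom : _ → _) =
      ⇑e.hom.appTop ∘ ⇑(pullback.mapDesc U.ι V.ι f).appTop := by
    rw [Scheme.Hom.comp_appTop]; rfl
  have h1 : Function.Surjective (pullback.mapDesc U.ι V.ι f).appTop ↔
      Function.Surjective (e.hom ≫ pullback.mapDesc U.ι V.ι f).appTop.hom := by
    rw [hcomp, Function.Surjective.of_comp_iff' hbij]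
  rw [h1, surjective_iff_closure _ _ _ hgen]
  have h2 : (e.hom ≫ pullback.mapDesc U.ι V.ι f).appTop.hom.comp
      (pullback.fst (U.ι ≫ f) (V.ι ≫ f)).appTop.hom =
      (X.homOfLE (inf_le_left : U ⊓ V ≤ U)).appTop.hom := by
    rw [← CommRingCat.hom_comp, ← Scheme.Hom.comp_appTop, Category.assoc, hd1]
  have h3 : (e.hom ≫ pullback.mapDesc U.ι V.ι f).appTop.hom.comp
      (pullback.snd (U.ι ≫ f) (V.ι ≫ f)).appTop.hom =
      (X.homOfLE (inf_le_right : U ⊓ V ≤ V)).appTop.hom := by
    rw [← CommRingCat.hom_comp, ← Scheme.Hom.comp_appTop, Category.assoc, hd2]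
  rw [h2, h3]

theorem closure_sections_iff {X : Scheme.{u}} (U V : X.Opens) :
    Subring.closure (Set.range (X.presheaf.map (homOfLE (inf_le_left : U ⊓ V ≤ U)).op).hom ∪
        Set.range (X.presheaf.map (homOfLE (inf_le_right : U ⊓ V ≤ V)).op).hom) = ⊤ ↔
    Subring.closure (Set.range (X.homOfLE (inf_le_left : U ⊓ V ≤ U)).appTop.hom ∪
        Set.range (X.homOfLE (inf_le_right : U ⊓ V ≤ V)).appTop.hom) = ⊤ := by
  refine closure_transport _ _ _ _ U.topIso.inv.hom V.topIso.inv.hom (U ⊓ V).topIso.inv.hom
    ?_ ?_ ?_ ?_ ?_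
  · exact (ConcreteCategory.bijective_of_isIso U.topIso.inv).2
  · exact (ConcreteCategory.bijective_of_isIso V.topIso.inv).2
  · exact ConcreteCategory.bijective_of_isIso (U ⊓ V).topIso.inv
  · rw [← CommRingCat.hom_comp, ← CommRingCat.hom_comp, Scheme.homOfLE_appTop]
    congr 1
    simp only [Scheme.Opens.topIso_inv]
    erw [← Functor.map_comp, ← Functor.map_comp]
    rfl
  · rw [← CommRingCat.hom_comp, ← CommRingCat.hom_comp, Scheme.homOfLE_appTop]
    congr 1
    simp only [Scheme.Opens.topIso_inv]
    erw [← Functor.map_comp, ← Functor.map_comp]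
    rfl

theorem main {X Y : Scheme.{u}} [IsAffine Y] (f : X ⟶ Y) {ι : Type v} (U : ι → X.Opens)
    (hU : ∀ i, IsAffineOpen (U i)) (hcov : ⨆ i, U i = ⊤) :
    IsSeparated f ↔ ∀ i j, IsAffineOpen (U i ⊓ U j) ∧
      Subring.closure (Set.range (X.presheaf.map (homOfLE (inf_le_left : U i ⊓ U j ≤ U i)).op).hom ∪
        Set.range (X.presheaf.map (homOfLE (inf_le_right : U i ⊓ U j ≤ U j)).op).hom) = ⊤ := by
  have hloc := HasAffineProperty.isLocal_affineProperty @IsClosedImmersion
  have hsep : IsSeparated f ↔ AffineTargetMorphismProperty.diagonal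
      (fun X _ f _ ↦ IsAffine X ∧ Function.Surjective (f.appTop)) f := by
    rw [IsSeparated.isSeparated_eq_diagonal_isClosedImmersion]
    exact (HasAffineProperty.diagonal_iff @IsClosedImmersion).symm
  rw [hsep]
  constructor
  · intro h i j
    have : IsAffine (U i).toScheme := hU i
    have : IsAffine (U j).toScheme := hU j
    have := h (U i).ι (U j).ι
    rw [closure_sections_iff]
    exact (pair_iff_aux f (U i) (U j) (hU i) (hU j)).mp this
  · intro h
    let 𝒰 := X.openCoverOfIsOpenCover U hcov
    have : ∀ i, IsAffine (𝒰.X i) := hU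
    refine AffineTargetMorphismProperty.diagonal_of_openCover_source f 𝒰 fun i j => ?_
    exact (pair_iff_aux f (U i) (U j) (hU i) (hU j)).mpr
      ((h i j).imp_right (closure_sections_iff _ _).mp)

end Groth.Agent.Lib.Seat80.SepAffine
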