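/-
Seat33: on a separated integral scheme, finitely many points whose local rings are Noetherian of
dimension at most one lie in a common affine open (Stacks 09NN, integral case), by a direct
argument inside the function field (no limits).
-/
import Mathlib
import Groth.Agent.Lib.Seat33AffNbhdAlg
import Groth.Agent.Lib.Seat80SepAffine

set_option autoImplicit false
universe u

namespace Groth.Agent.Lib.Seat33.AffNbhdInt

open AlgebraicGeometry CategoryTheory TopologicalSpace IsLocalRing Opposite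

section Basics

variable {X : Scheme.{u}} [IsIntegral X]

/-- the germ at the generic point, as a ring homomorphism to the function field. -/
noncomputable def gK (V : X.Opens) (hV : genericPoint X ∈ V) : Γ(X, V) →+* X.functionField :=
  (X.presheaf.germ V (genericPoint X) hV).hom

theorem gK_injective (V : X.Opens) (hV : genericPoint X ∈ V) : Function.Injective (gK V hV) :=
  germ_injective_of_isIntegral X (genericPoint X) hV

/-- the image of `Γ(X, V)` in the function field. -/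
noncomputable def ΓK (V : X.Opens) (hV : genericPoint X ∈ V) : Subring X.functionField :=
  (gK V hV).range

theorem gK_mem (V : X.Opens) (hV : genericPoint X ∈ V) (s : Γ(X, V)) : gK V hV s ∈ ΓK V hV :=
  ⟨s, rfl⟩

/-- the stalk at `y` inside the function field. -/
noncomputable def sK (y : X) : X.presheaf.stalk y →+* X.functionField :=
  algebraMap (X.presheaf.stalk y) X.functionField

theorem sK_injective (y : X) : Function.Injective (sK y) :=
  IsFractionRing.injective (X.presheaf.stalk y) X.functionField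

theorem sK_germ (V : X.Opens) (hV : genericPoint X ∈ V) (y : X) (hy : y ∈ V) (s : Γ(X, V)) :
    sK y (X.presheaf.germ V y hy s) = gK V hV s := by
  have h := X.presheaf.germ_stalkSpecializes (U := V) (x := genericPoint X) (y := y) hy
    ((genericPoint_spec X).specializes trivial)
  simp only [sK, gK, RingHom.algebraMap_toAlgebra]
  rw [← h]
  rfl

theorem gK_res {V₁ V₂ : X.Opens} (h : V₁ ≤ V₂) (h₁ : genericPoint X ∈ V₁)
    (h₂ : genericPoint X ∈ V₂) (s : Γ(X, V₂)) :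
    gK V₁ h₁ (X.presheaf.map (homOfLE h).op s) = gK V₂ h₂ s :=
  X.presheaf.germ_res_apply (homOfLE h) (genericPoint X) h₁ s

theorem ΓK_anti {V₁ V₂ : X.Opens} (h : V₁ ≤ V₂) (h₁ : genericPoint X ∈ V₁)
    (h₂ : genericPoint X ∈ V₂) : ΓK V₂ h₂ ≤ ΓK V₁ h₁ := by
  rintro _ ⟨s, rfl⟩
  exact ⟨_, gK_res h h₁ h₂ s⟩

/-- the local ring at `y` inside the function field. -/
noncomputable def Oy (y : X) : Subring X.functionField := (sK y).range

/-- the maximal ideal of the local ring at `y` inside the function field. -/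
noncomputable def my (y : X) : AddSubgroup X.functionField :=
  (maximalIdeal (X.presheaf.stalk y)).toAddSubgroup.map (sK y).toAddMonoidHom

theorem mem_my_iff {y : X} {β : X.functionField} :
    β ∈ my y ↔ ∃ μ ∈ maximalIdeal (X.presheaf.stalk y), sK y μ = β := by
  simp [my, AddSubgroup.mem_map]

theorem sK_mem_my_iff {y : X} {μ : X.presheaf.stalk y} :
    sK y μ ∈ my y ↔ μ ∈ maximalIdeal (X.presheaf.stalk y) := by
  rw [mem_my_iff]
  constructor
  · rintro ⟨μ', hμ', h⟩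
    rwa [← sK_injective y h]
  · intro h
    exact ⟨μ, h, rfl⟩

theorem my_le_Oy (y : X) {β : X.functionField} (h : β ∈ my y) : β ∈ Oy y := by
  obtain ⟨μ, -, rfl⟩ := mem_my_iff.1 h
  exact ⟨μ, rfl⟩

theorem ΓK_le_Oy (V : X.Opens) (hV : genericPoint X ∈ V) (y : X) (hy : y ∈ V) :
    ΓK V hV ≤ Oy y := by
  rintro _ ⟨s, rfl⟩
  exact ⟨_, sK_germ V hV y hy s⟩

theorem mul_mem_my {y : X} {a b : X.functionField} (ha : a ∈ Oy y) (hb : b ∈ my y) :
    a * b ∈ my y := by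
  obtain ⟨a', rfl⟩ := ha
  obtain ⟨μ, hμ, rfl⟩ := mem_my_iff.1 hb
  rw [← map_mul]
  exact sK_mem_my_iff.2 (Ideal.mul_mem_left _ _ hμ)

theorem mul_mem_my' {y : X} {a b : X.functionField} (ha : a ∈ my y) (hb : b ∈ Oy y) :
    a * b ∈ my y := by
  rw [mul_comm]; exact mul_mem_my hb ha

/-- if a product of two elements of the local ring is a unit, so is each factor. -/
theorem notMem_my_of_mul {y : X} {a b : X.functionField} (ha : a ∈ Oy y) (hb : b ∈ Oy y)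
    (hab : a * b ∉ my y) : a ∉ my y ∧ b ∉ my y :=
  ⟨fun h => hab (mul_mem_my' h hb), fun h => hab (mul_mem_my ha h)⟩

theorem mul_notMem_my {y : X} {a b : X.functionField} (ha : a ∈ Oy y) (hb : b ∈ Oy y)
    (ha' : a ∉ my y) (hb' : b ∉ my y) : a * b ∉ my y := by
  obtain ⟨a', rfl⟩ := ha
  obtain ⟨b', rfl⟩ := hb
  rw [← map_mul, sK_mem_my_iff]
  rw [sK_mem_my_iff] at ha' hb'
  intro h
  rcases (IsLocalRing.maximalIdeal.isMaximal _).isPrime.mem_or_mem h with h | h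
  · exact ha' h
  · exact hb' h

theorem pow_notMem_my {y : X} {a : X.functionField} (ha : a ∈ Oy y) (ha' : a ∉ my y) (n : ℕ) :
    a ^ n ∉ my y := by
  induction n with
  | zero =>
    rw [pow_zero]
    intro h
    obtain ⟨μ, hμ, h1⟩ := mem_my_iff.1 h
    have : μ = 1 := sK_injective y (by rw [h1, map_one])
    rw [this] at hμ
    exact (Ideal.ne_top_iff_one _).1 (IsLocalRing.maximalIdeal.isMaximal _).ne_top hμ
  | succ n ih =>
    rw [pow_succ]
    exact mul_notMem_my (Subring.pow_mem _ ha n) ha ih ha'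

/-- the inverse of an element of the local ring that is not in the maximal ideal lies in the
local ring. -/
theorem inv_mem_Oy {y : X} {a : X.functionField} (ha : a ∈ Oy y) (ha' : a ∉ my y) :
    a⁻¹ ∈ Oy y := by
  obtain ⟨a', rfl⟩ := ha
  rw [sK_mem_my_iff] at ha'
  have hu : IsUnit a' := by
    by_contra h
    exact ha' ((IsLocalRing.mem_maximalIdeal _).2 h)
  obtain ⟨w, rfl⟩ := hu
  refine ⟨((w⁻¹ : (X.presheaf.stalk y)ˣ) : X.presheaf.stalk y), ?_⟩
  have : sK y ((w⁻¹ : (X.presheaf.stalk y)ˣ) : X.presheaf.stalk y) * sK y (w : X.presheaf.stalk y)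
      = 1 := by
    rw [← map_mul, Units.inv_mul, map_one]
  exact eq_inv_of_mul_eq_one_left this

theorem mem_basicOpen_iff (V : X.Opens) (hV : genericPoint X ∈ V) (s : Γ(X, V)) (y : X)
    (hy : y ∈ V) : y ∈ X.basicOpen s ↔ gK V hV s ∉ my y := by
  rw [Scheme.mem_basicOpen X s y hy, ← sK_germ V hV y hy s, sK_mem_my_iff,
    IsLocalRing.mem_maximalIdeal, mem_nonunits_iff, not_not]

/-- on a basic open, the function becomes invertible. -/
theorem inv_mem_ΓK_basicOpen (V : X.Opens) (hV : genericPoint X ∈ V) (s : Γ(X, V))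
    (hs : genericPoint X ∈ X.basicOpen s) : (gK V hV s)⁻¹ ∈ ΓK (X.basicOpen s) hs := by
  have hu : IsUnit (X.presheaf.map (homOfLE (X.basicOpen_le s)).op s) :=
    X.toRingedSpace.isUnit_res_basicOpen s
  obtain ⟨w, hw⟩ := hu
  refine ⟨((w⁻¹ : _ˣ) : _), ?_⟩
  have h1 : gK (X.basicOpen s) hs (w : Γ(X, X.basicOpen s)) = gK V hV s := by
    rw [hw]
    exact gK_res (X.basicOpen_le s) hs hV s
  have : gK (X.basicOpen s) hs ((w⁻¹ : _ˣ) : _) * gK (X.basicOpen s) hs (w : _) = 1 := by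
    rw [← map_mul, Units.inv_mul, map_one]
  rw [h1] at this
  exact eq_inv_of_mul_eq_one_left this

/-- sections over a basic open of an affine open have denominators a power of the function. -/
theorem exists_pow_mul_mem_of_basicOpen {V : X.Opens} (hVa : IsAffineOpen V)
    (hV : genericPoint X ∈ V) (s : Γ(X, V)) (hs : genericPoint X ∈ X.basicOpen s)
    {β : X.functionField} (hβ : β ∈ ΓK (X.basicOpen s) hs) :
    ∃ (n : ℕ) (a : Γ(X, V)), gK V hV s ^ n * β = gK V hV a := by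
  obtain ⟨σ, rfl⟩ := hβ
  have := hVa.isLocalization_basicOpen s
  obtain ⟨⟨a, ⟨_, n, rfl⟩⟩, h⟩ := IsLocalization.surj (Submonoid.powers s) σ
  refine ⟨n, a, ?_⟩
  simp only [RingHom.algebraMap_toAlgebra] at h
  have h' := congrArg (gK (X.basicOpen s) hs) h
  rw [map_mul] at h'
  erw [gK_res (X.basicOpen_le s) hs hV, gK_res (X.basicOpen_le s) hs hV] at h'
  rw [map_pow] at h'
  rw [mul_comm, h']

/-- elements of the local ring at a point of an affine open have denominators not vanishing at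
the point. -/
theorem exists_denominator {V : X.Opens} (hVa : IsAffineOpen V) (hV : genericPoint X ∈ V)
    (y : X) (hy : y ∈ V) {β : X.functionField} (hβ : β ∈ Oy y) :
    ∃ (s a : Γ(X, V)), y ∈ X.basicOpen s ∧ gK V hV s * β = gK V hV a := by
  obtain ⟨β', rfl⟩ := hβ
  obtain ⟨N, hyN, σ, rfl⟩ := X.presheaf.exists_germ_eq β'
  obtain ⟨f, hfN, hyf⟩ := hVa.exists_basicOpen_le (V := N) ⟨y, hyN⟩ hy
  have hξf : genericPoint X ∈ X.basicOpen f :=
    ((genericPoint_spec X).mem_open_set_iff (X.basicOpen f).isOpen).2 ⟨y, trivial, hyf⟩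
  have hξN : genericPoint X ∈ N := hfN hξf
  have hmem : sK y (X.presheaf.germ N y hyN σ) ∈ ΓK (X.basicOpen f) hξf := by
    rw [sK_germ N hξN y hyN σ]
    exact ΓK_anti hfN hξf hξN (gK_mem _ _ _)
  obtain ⟨n, a, hna⟩ := exists_pow_mul_mem_of_basicOpen hVa hV f hξf hmem
  refine ⟨f ^ n, a, ?_, ?_⟩
  · rw [mem_basicOpen_iff V hV _ y hy, map_pow]
    exact pow_notMem_my (ΓK_le_Oy V hV y hy (gK_mem _ _ _)) ((mem_basicOpen_iff V hV f y hy).1 hyf) n
  · rw [map_pow]; exact hna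

/-- sections glue: a rational function regular on two opens is regular on their union. -/
theorem mem_ΓK_sup {V₁ V₂ : X.Opens} (h₁ : genericPoint X ∈ V₁) (h₂ : genericPoint X ∈ V₂)
    (h : genericPoint X ∈ V₁ ⊔ V₂) {β : X.functionField} (hβ₁ : β ∈ ΓK V₁ h₁)
    (hβ₂ : β ∈ ΓK V₂ h₂) : β ∈ ΓK (V₁ ⊔ V₂) h := by
  obtain ⟨s₁, rfl⟩ := hβ₁
  obtain ⟨s₂, hs₂⟩ := hβ₂
  have h12 : genericPoint X ∈ V₁ ⊓ V₂ := ⟨h₁, h₂⟩
  have heq : X.presheaf.map (homOfLE (inf_le_left : V₁ ⊓ V₂ ≤ V₁)).op s₁ =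
      X.presheaf.map (homOfLE (inf_le_right : V₁ ⊓ V₂ ≤ V₂)).op s₂ := by
    apply gK_injective (V₁ ⊓ V₂) h12
    rw [gK_res inf_le_left h12 h₁, gK_res inf_le_right h12 h₂, hs₂]
  let σ := (X.sheaf.objSupIsoProdEqLocus V₁ V₂).inv ⟨(s₁, s₂), heq⟩
  refine ⟨σ, ?_⟩
  have hσ : X.presheaf.map (homOfLE (le_sup_left : V₁ ≤ V₁ ⊔ V₂)).op σ = s₁ :=
    TopCat.Sheaf.objSupIsoProdEqLocus_inv_fst X.sheaf V₁ V₂ ⟨(s₁, s₂), heq⟩
  rw [← gK_res le_sup_left h₁ h, hσ]

/-- on a separated scheme, functions on the intersection of two affine opens are generated by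
the functions on each. -/
theorem ΓK_inf_le [X.IsSeparated] {U W : X.Opens} (hU : IsAffineOpen U) (hW : IsAffineOpen W)
    (hξU : genericPoint X ∈ U) (hξW : genericPoint X ∈ W) (hξ : genericPoint X ∈ U ⊓ W) :
    IsAffineOpen (U ⊓ W) ∧ ΓK (U ⊓ W) hξ ≤ ΓK U hξU ⊔ ΓK W hξW := by
  have hsep : IsSeparated (Limits.terminal.from X) := inferInstance
  have key := (Groth.Agent.Lib.Seat80.SepAffine.main (Limits.terminal.from X)
    (fun i : X.affineOpens => (i : X.Opens)) (fun i => i.2) (iSup_affineOpens_eq_top X)).1 hsep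
    ⟨U, hU⟩ ⟨W, hW⟩
  refine ⟨key.1, ?_⟩
  rintro _ ⟨σ, rfl⟩
  have hσ : σ ∈ (⊤ : Subring Γ(X, U ⊓ W)) := Subring.mem_top σ
  rw [← key.2] at hσ
  induction hσ using Subring.closure_induction with
  | mem y hy =>
    rcases hy with ⟨a, rfl⟩ | ⟨a, rfl⟩
    · exact (le_sup_left : ΓK U hξU ≤ _) ⟨a, (gK_res inf_le_left hξ hξU a).symm⟩
    · exact (le_sup_right : ΓK W hξW ≤ _) ⟨a, (gK_res inf_le_right hξ hξW a).symm⟩
  | zero => rw [map_zero]; exact Subring.zero_mem _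
  | one => rw [map_one]; exact Subring.one_mem _
  | add a b _ _ ha hb => rw [map_add]; exact Subring.add_mem _ ha hb
  | neg a _ ha => rw [map_neg]; exact Subring.neg_mem _ ha
  | mul a b _ _ ha hb => rw [map_mul]; exact Subring.mul_mem _ ha hb

/-- **Separatedness, locally.**  If `x` is a point with one-dimensional Noetherian local ring
outside the affine open `U` of the separated integral scheme `X`, then the functions on `U` span
the function field over the local ring at `x`. -/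
theorem span_eq_top [X.IsSeparated] {U : X.Opens} (hU : IsAffineOpen U)
    (hξU : genericPoint X ∈ U) (x : X) (hxU : x ∉ U) [IsNoetherianRing (X.presheaf.stalk x)]
    [Ring.KrullDimLE 1 (X.presheaf.stalk x)] :
    Submodule.span (X.presheaf.stalk x) (ΓK U hξU : Set X.functionField) = ⊤ := by
  classical
  -- an affine neighbourhood of `x`
  obtain ⟨_, ⟨W, hW, rfl⟩, hxW, -⟩ :=
    X.isBasis_affineOpens.exists_subset_of_mem_open (Set.mem_univ x) isOpen_univ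
  have hξW : genericPoint X ∈ W :=
    ((genericPoint_spec X).mem_open_set_iff W.isOpen).2 ⟨x, trivial, hxW⟩
  have hξ : genericPoint X ∈ U ⊓ W := ⟨hξU, hξW⟩
  obtain ⟨hUW, hgen⟩ := ΓK_inf_le hU hW hξU hξW hξ
  -- the subalgebra generated by the functions on `U`
  let Sp : Subalgebra (X.presheaf.stalk x) X.functionField :=
    Algebra.adjoin (X.presheaf.stalk x) (ΓK U hξU : Set X.functionField)
  have hSp : Submodule.span (X.presheaf.stalk x) (ΓK U hξU : Set X.functionField)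
      = Subalgebra.toSubmodule Sp := by
    rw [Algebra.adjoin_eq_span]
    congr 1
    exact congrArg (fun M : Submonoid X.functionField => (M : Set X.functionField))
      ((ΓK U hξU).toSubmonoid.closure_eq).symm
  rw [hSp, eq_top_iff]
  have hUle : ΓK U hξU ≤ Sp.toSubring := fun β hβ => Algebra.subset_adjoin hβ
  have hWle : ΓK W hξW ≤ Sp.toSubring := by
    rintro _ ⟨c, rfl⟩
    rw [← sK_germ W hξW x hxW c]
    exact Sp.algebraMap_mem _
  have hUWle : ΓK (U ⊓ W) hξ ≤ Sp.toSubring := hgen.trans (sup_le hUle hWle)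
  -- the extension of the maximal ideal to `Sp` is the unit ideal
  let 𝔞 : Ideal Sp := Ideal.map (algebraMap (X.presheaf.stalk x) Sp)
    (maximalIdeal (X.presheaf.stalk x))
  let ψ : Γ(X, U ⊓ W) →+* Sp := (gK (U ⊓ W) hξ).codRestrict Sp.toSubring
    (fun σ => hUWle (gK_mem _ _ σ))
  have h𝔞 : 𝔞 = ⊤ := by
    let S : Set Γ(X, W) := {e | X.basicOpen e ≤ U ⊓ W}
    let res : Γ(X, W) →+* Γ(X, U ⊓ W) :=
      (X.presheaf.map (homOfLE (inf_le_right : U ⊓ W ≤ W)).op).hom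
    have hcov : ⨆ f : (res '' S : Set Γ(X, U ⊓ W)), X.basicOpen f.1 = U ⊓ W := by
      apply le_antisymm
      · exact iSup_le fun f => X.basicOpen_le _
      · intro y hy
        obtain ⟨e, heUW, hye⟩ := hW.exists_basicOpen_le (V := U ⊓ W) ⟨y, hy⟩ hy.2
        rw [Opens.mem_iSup]
        refine ⟨⟨res e, e, heUW, rfl⟩, ?_⟩
        show y ∈ X.basicOpen (X.presheaf.map (homOfLE (inf_le_right : U ⊓ W ≤ W)).op e)
        rw [Scheme.basicOpen_res]
        exact ⟨hy, hye⟩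
    have hspan : Ideal.span (res '' S) = ⊤ := (IsAffineOpen.iSup_basicOpen_eq_self_iff hUW).1 hcov
    have hle : Ideal.span (res '' S) ≤ Ideal.comap ψ 𝔞 := by
      rw [Ideal.span_le]
      rintro _ ⟨e, he, rfl⟩
      show ψ (res e) ∈ 𝔞
      have hex : X.presheaf.germ W x hxW e ∈ maximalIdeal (X.presheaf.stalk x) := by
        rw [IsLocalRing.mem_maximalIdeal, mem_nonunits_iff, ← Scheme.mem_basicOpen X e x hxW]
        intro h
        exact hxU (he h).1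
      have : ψ (res e) = algebraMap (X.presheaf.stalk x) Sp (X.presheaf.germ W x hxW e) := by
        apply Subtype.ext
        show gK (U ⊓ W) hξ (res e) = sK x (X.presheaf.germ W x hxW e)
        rw [sK_germ W hξW x hxW e]
        exact gK_res inf_le_right hξ hξW e
      rw [this]
      exact Ideal.mem_map_of_mem _ hex
    rw [hspan, top_le_iff, Ideal.comap_eq_top_iff] at hle
    exact hle
  -- hence the maximal ideal is nonzero
  have hm : maximalIdeal (X.presheaf.stalk x) ≠ ⊥ := by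
    intro h
    have : 𝔞 = ⊥ := by simp only [𝔞, h, Ideal.map_bot]
    rw [this] at h𝔞
    exact bot_ne_top h𝔞
  obtain ⟨e₀, he₀, he₀0⟩ := Submodule.exists_mem_ne_zero_of_ne_bot hm
  -- a power of the maximal ideal lies in `(e₀)`
  have hrad : (Ideal.span {e₀}).radical = maximalIdeal (X.presheaf.stalk x) := by
    apply le_antisymm
    · have : Ideal.span {e₀} ≤ maximalIdeal (X.presheaf.stalk x) := by
        rw [Ideal.span_le]; simpa using he₀
      exact (Ideal.radical_mono this).trans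
        (IsLocalRing.maximalIdeal.isMaximal _).isPrime.isRadical.radical.le
    · intro ω hω
      exact Groth.Agent.Lib.Seat33.AffNbhdAlg.exists_pow_mem_span he₀0 hω
  obtain ⟨N, hN⟩ := Ideal.exists_radical_pow_le_of_fg (Ideal.span {e₀})
    (IsNoetherian.noetherian _)
  rw [hrad] at hN
  have hunit : IsUnit (algebraMap (X.presheaf.stalk x) Sp e₀) := by
    have h1 : 𝔞 ^ N ≤ Ideal.span {algebraMap (X.presheaf.stalk x) Sp e₀} := by
      rw [← Ideal.map_pow, ← Set.image_singleton, ← Ideal.map_span]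
      exact Ideal.map_mono hN
    rw [h𝔞, Ideal.top_pow, top_le_iff, Ideal.span_singleton_eq_top] at h1
    exact h1
  obtain ⟨w, hw⟩ := hunit
  have hinv : (sK x e₀)⁻¹ ∈ Sp := by
    have h1 : ((w⁻¹ : Spˣ) : Sp).1 * sK x e₀ = 1 := by
      have := congrArg Subtype.val (Units.inv_mul w)
      rw [hw] at this
      exact this
    rw [← eq_inv_of_mul_eq_one_left h1]
    exact ((w⁻¹ : Spˣ) : Sp).2
  intro β _
  obtain ⟨L, ω, hω⟩ := Groth.Agent.Lib.Seat33.AffNbhdAlg.exists_pow_mul_mem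
    (K := X.functionField) he₀ β
  have hK0 : sK x e₀ ≠ 0 := by
    intro h
    exact he₀0 (sK_injective x (by rw [h, map_zero]))
  have : β = sK x ω * ((sK x e₀)⁻¹) ^ L := by
    have hω' : sK x ω = sK x e₀ ^ L * β := hω
    rw [hω', inv_pow]
    field_simp
  rw [this]
  exact Sp.mul_mem (Sp.algebraMap_mem ω) (Sp.pow_mem hinv L)

theorem zero_mem_my (y : X) : (0 : X.functionField) ∈ my y := (my y).zero_mem

theorem one_notMem_my (y : X) : (1 : X.functionField) ∉ my y := by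
  have := pow_notMem_my (y := y) (a := 1) (Subring.one_mem _) ?_ 0
  · simpa using this
  · intro h
    obtain ⟨μ, hμ, h1⟩ := mem_my_iff.1 h
    have : μ = 1 := sK_injective y (by rw [h1, map_one])
    rw [this] at hμ
    exact (Ideal.ne_top_iff_one _).1 (IsLocalRing.maximalIdeal.isMaximal _).ne_top hμ

theorem gK_ne_zero_of_mem_basicOpen (V : X.Opens) (hV : genericPoint X ∈ V) (s : Γ(X, V))
    (y : X) (hy : y ∈ X.basicOpen s) : gK V hV s ≠ 0 := by
  intro h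
  have := (mem_basicOpen_iff V hV s y (X.basicOpen_le s hy)).1 hy
  rw [h] at this
  exact this (zero_mem_my y)

theorem genericPoint_mem_of_mem {V : X.Opens} {y : X} (hy : y ∈ V) : genericPoint X ∈ V :=
  ((genericPoint_spec X).mem_open_set_iff V.isOpen).2 ⟨y, trivial, hy⟩

/-- a rational function with a denominator `b` is regular on `D(b)`. -/
theorem mem_ΓK_basicOpen_of_mul (V : X.Opens) (hV : genericPoint X ∈ V) (b a : Γ(X, V))
    (hb : genericPoint X ∈ X.basicOpen b) {β : X.functionField}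
    (h : gK V hV b * β = gK V hV a) : β ∈ ΓK (X.basicOpen b) hb := by
  have hb0 : gK V hV b ≠ 0 := gK_ne_zero_of_mem_basicOpen V hV b _ hb
  have : β = gK V hV a * (gK V hV b)⁻¹ := by
    rw [← h]; field_simp
  rw [this]
  exact Subring.mul_mem _ (ΓK_anti (X.basicOpen_le b) hb hV (gK_mem _ _ _))
    (inv_mem_ΓK_basicOpen V hV b hb)

/-- common denominators for finitely many points of an affine open. -/
theorem exists_common_denominator {U : X.Opens} (hU : IsAffineOpen U) (hξU : genericPoint X ∈ U)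
    (T' : Finset X) (hne : T'.Nonempty) (hT' : ∀ t ∈ T', t ∈ U) (β : X.functionField)
    (hβ : ∀ t ∈ T', β ∈ Oy t) :
    ∃ b a : Γ(X, U), (∀ t ∈ T', t ∈ X.basicOpen b) ∧ gK U hξU b * β = gK U hξU a := by
  classical
  obtain ⟨t₀, ht₀⟩ := hne
  -- the ideal of denominators
  let 𝔡 : Ideal Γ(X, U) :=
    { carrier := {s | ∃ a, gK U hξU s * β = gK U hξU a}
      zero_mem' := ⟨0, by simp⟩
      add_mem' := by
        rintro s s' ⟨a, ha⟩ ⟨a', ha'⟩
        exact ⟨a + a', by rw [map_add, map_add, add_mul, ha, ha']⟩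
      smul_mem' := by
        rintro c s ⟨a, ha⟩
        exact ⟨c * a, by rw [smul_eq_mul, map_mul, map_mul, mul_assoc, ha]⟩ }
  let f : {t // t ∈ T'} → Ideal Γ(X, U) := fun t =>
    Ideal.comap (X.presheaf.germ U t.1 (hT' t.1 t.2)).hom (maximalIdeal (X.presheaf.stalk t.1))
  have hf : ∀ t, (f t).IsPrime := fun t => Ideal.comap_isPrime _ _
  have hmem : ∀ (t : {t // t ∈ T'}) (s : Γ(X, U)), s ∈ f t ↔ t.1 ∉ X.basicOpen s := by
    intro t s
    rw [Scheme.mem_basicOpen X s t.1 (hT' t.1 t.2)]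
    simp only [f, Ideal.mem_comap, IsLocalRing.mem_maximalIdeal, mem_nonunits_iff]
  have hnot : ¬ ((𝔡 : Set Γ(X, U)) ⊆ ⋃ i ∈ (T'.attach : Set {t // t ∈ T'}), (f i : Set _)) := by
    rw [Ideal.subset_union_prime (s := T'.attach) (f := f) ⟨t₀, ht₀⟩ ⟨t₀, ht₀⟩
      (fun i _ _ _ => hf i)]
    rintro ⟨t, -, hle⟩
    obtain ⟨s, a, hts, hsa⟩ := exists_denominator hU hξU t.1 (hT' t.1 t.2) (hβ t.1 t.2)
    have : s ∈ f t := hle ⟨a, hsa⟩
    exact ((hmem t s).1 this) hts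
  rw [Set.not_subset] at hnot
  obtain ⟨b, ⟨a, hba⟩, hb⟩ := hnot
  refine ⟨b, a, ?_, hba⟩
  intro t ht
  by_contra hcon
  apply hb
  simp only [Set.mem_iUnion]
  exact ⟨⟨t, ht⟩, by simp, (hmem ⟨t, ht⟩ b).2 hcon⟩

/-- a nonzero function on `U` lying in the maximal ideals of finitely many points of `U` whose
local rings are not fields. -/
theorem exists_rho {U : X.Opens} (hU : IsAffineOpen U) (hξU : genericPoint X ∈ U)
    (T' : Finset X) (hT' : ∀ t ∈ T', t ∈ U)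
    (hm : ∀ t ∈ T', maximalIdeal (X.presheaf.stalk t) ≠ ⊥) :
    ∃ ρ ∈ ΓK U hξU, ρ ≠ 0 ∧ ∀ t ∈ T', ρ ∈ my t := by
  classical
  induction T' using Finset.induction_on with
  | empty => exact ⟨1, Subring.one_mem _, one_ne_zero, by simp⟩
  | insert t₀ T' _ ih =>
    obtain ⟨ρ, hρU, hρ0, hρ⟩ := ih (fun t ht => hT' t (Finset.mem_insert_of_mem ht))
      (fun t ht => hm t (Finset.mem_insert_of_mem ht))
    have ht₀U : t₀ ∈ U := hT' t₀ (Finset.mem_insert_self _ _)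
    obtain ⟨μ, hμ, hμ0⟩ := Submodule.exists_mem_ne_zero_of_ne_bot
      (hm t₀ (Finset.mem_insert_self _ _))
    obtain ⟨s, a, hts, hsa⟩ := exists_denominator hU hξU t₀ ht₀U (β := sK t₀ μ) ⟨μ, rfl⟩
    have hs0 : gK U hξU s ≠ 0 := gK_ne_zero_of_mem_basicOpen U hξU s t₀ hts
    have hμK : sK t₀ μ ≠ 0 := fun h => hμ0 (sK_injective t₀ (by rw [h, map_zero]))
    refine ⟨ρ * gK U hξU a, Subring.mul_mem _ hρU (gK_mem _ _ _), ?_, ?_⟩
    · rw [← hsa]
      exact mul_ne_zero hρ0 (mul_ne_zero hs0 hμK)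
    · intro t ht
      rcases Finset.mem_insert.1 ht with rfl | ht
      · apply mul_mem_my (ΓK_le_Oy U hξU t ht₀U hρU)
        rw [← hsa]
        exact mul_mem_my (ΓK_le_Oy U hξU t ht₀U (gK_mem _ _ _)) (sK_mem_my_iff.2 hμ)
      · exact mul_mem_my' (hρ t ht)
          (ΓK_le_Oy U hξU t (hT' t (Finset.mem_insert_of_mem ht)) (gK_mem _ _ _))

/-- the local ring at a point outside a nonempty open is not a field. -/
theorem maximalIdeal_ne_bot_of_notMem {U : X.Opens} (hξU : genericPoint X ∈ U) (x : X)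
    (hxU : x ∉ U) : maximalIdeal (X.presheaf.stalk x) ≠ ⊥ := by
  intro hbot
  obtain ⟨_, ⟨W, hW, rfl⟩, hxW, -⟩ :=
    X.isBasis_affineOpens.exists_subset_of_mem_open (Set.mem_univ x) isOpen_univ
  have hξW : genericPoint X ∈ W := genericPoint_mem_of_mem hxW
  obtain ⟨e, heUW, hξe⟩ := hW.exists_basicOpen_le (V := U ⊓ W) ⟨genericPoint X, hξU, hξW⟩ hξW
  have hxe : x ∉ X.basicOpen e := fun h => hxU (heUW h).1
  have h0 : gK W hξW e ∈ my x := by
    by_contra h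
    exact hxe ((mem_basicOpen_iff W hξW e x hxW).2 h)
  obtain ⟨μ, hμ, hμe⟩ := mem_my_iff.1 h0
  rw [hbot, Ideal.mem_bot] at hμ
  rw [hμ, map_zero] at hμe
  exact gK_ne_zero_of_mem_basicOpen W hξW e _ hξe hμe.symm

/-- **The separating function.** -/
theorem exists_sepFun [X.IsSeparated] {U : X.Opens} (hU : IsAffineOpen U)
    (hξU : genericPoint X ∈ U) (T' : Finset X) (hT' : ∀ t ∈ T', t ∈ U)
    (hm : ∀ t ∈ T', maximalIdeal (X.presheaf.stalk t) ≠ ⊥) (x : X) (hxU : x ∉ U)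
    [IsNoetherianRing (X.presheaf.stalk x)] [Ring.KrullDimLE 1 (X.presheaf.stalk x)] :
    ∃ F : X.functionField, F ∈ my x ∧ F ≠ 0 ∧ ∀ t ∈ T', 1 - F ∈ my t := by
  classical
  let 𝔯 : AddSubgroup X.functionField := ⨅ t ∈ T', my t
  have hmem𝔯 : ∀ β, β ∈ 𝔯 ↔ ∀ t ∈ T', β ∈ my t := by
    intro β
    simp only [𝔯, AddSubgroup.mem_iInf]
  have hmul : ∀ a ∈ 𝔯, ∀ b ∈ 𝔯, a * b ∈ 𝔯 := by
    intro a ha b hb
    rw [hmem𝔯] at ha hb ⊢
    intro t ht
    exact mul_mem_my (my_le_Oy t (ha t ht)) (hb t ht)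
  have hinv : ∀ ρ ∈ 𝔯, 1 + ρ ≠ 0 → ρ / (1 + ρ) ∈ 𝔯 := by
    intro ρ hρ _
    rw [hmem𝔯] at hρ ⊢
    intro t ht
    have h1 : 1 + ρ ∈ Oy t := Subring.add_mem _ (Subring.one_mem _) (my_le_Oy t (hρ t ht))
    have h2 : 1 + ρ ∉ my t := by
      intro h
      apply one_notMem_my t
      have := (my t).sub_mem h (hρ t ht)
      simpa using this
    rw [div_eq_mul_inv]
    exact mul_mem_my' (hρ t ht) (inv_mem_Oy h1 h2)
  obtain ⟨ρ₁, hρ₁U, hρ₁0, hρ₁⟩ := exists_rho hU hξU T' hT' hm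
  have hspan : Submodule.span (X.presheaf.stalk x) (𝔯 : Set X.functionField) = ⊤ := by
    rw [eq_top_iff]
    intro κ _
    let L : X.functionField →ₗ[X.presheaf.stalk x] X.functionField :=
      LinearMap.mulLeft (X.presheaf.stalk x) ρ₁
    have h1 : κ * ρ₁⁻¹ ∈ Submodule.span (X.presheaf.stalk x) (ΓK U hξU : Set X.functionField) := by
      rw [span_eq_top hU hξU x hxU]; trivial
    have h2 : L (κ * ρ₁⁻¹) ∈ Submodule.map L
        (Submodule.span (X.presheaf.stalk x) (ΓK U hξU : Set X.functionField)) :=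
      Submodule.mem_map_of_mem h1
    rw [Submodule.map_span] at h2
    have h3 : L (κ * ρ₁⁻¹) = κ := by
      simp only [L, LinearMap.mulLeft_apply]
      field_simp
    rw [h3] at h2
    refine Submodule.span_mono ?_ h2
    rintro _ ⟨β, hβ, rfl⟩
    simp only [L, LinearMap.mulLeft_apply, SetLike.mem_coe]
    rw [hmem𝔯]
    intro t ht
    exact mul_mem_my' (hρ₁ t ht) (ΓK_le_Oy U hξU t (hT' t ht) hβ)
  obtain ⟨y, hy, hy0, hy1⟩ := Groth.Agent.Lib.Seat33.AffNbhdAlg.exists_F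
    (R := X.presheaf.stalk x) (K := X.functionField)
    (maximalIdeal_ne_bot_of_notMem hξU x hxU) 𝔯 hmul hinv hspan
  refine ⟨sK x y, sK_mem_my_iff.2 hy, ?_, ?_⟩
  · intro h
    exact hy0 (sK_injective x (by rw [h, map_zero]))
  · exact (hmem𝔯 _).1 hy1

/-- a uniform power of an element of all the maximal ideals is divisible by a given nonzero
element in each of finitely many one-dimensional local rings. -/
theorem exists_pow_mul_inv_mem (T' : Finset X)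
    (hdim : ∀ t ∈ T', Ring.KrullDimLE 1 (X.presheaf.stalk t)) (F₁ g : X.functionField)
    (hF₁ : ∀ t ∈ T', F₁ ∈ my t) (hg : ∀ t ∈ T', g ∈ Oy t) (hg0 : g ≠ 0) :
    ∃ N' : ℕ, ∀ t ∈ T', F₁ ^ N' * g⁻¹ ∈ Oy t := by
  classical
  induction T' using Finset.induction_on with
  | empty => exact ⟨0, by simp⟩
  | insert t₀ T' _ ih =>
    obtain ⟨N₁, hN₁⟩ := ih (fun t ht => hdim t (Finset.mem_insert_of_mem ht))
      (fun t ht => hF₁ t (Finset.mem_insert_of_mem ht))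
      (fun t ht => hg t (Finset.mem_insert_of_mem ht))
    have := hdim t₀ (Finset.mem_insert_self _ _)
    obtain ⟨μ, hμ, hμF⟩ := mem_my_iff.1 (hF₁ t₀ (Finset.mem_insert_self _ _))
    obtain ⟨γ, hγ⟩ := hg t₀ (Finset.mem_insert_self _ _)
    have hγ0 : γ ≠ 0 := by
      rintro rfl
      rw [map_zero] at hγ
      exact hg0 hγ.symm
    obtain ⟨N₂, c, hN₂⟩ := Groth.Agent.Lib.Seat33.AffNbhdAlg.exists_pow_eq_mul hγ0 hμ
    have h2 : F₁ ^ N₂ * g⁻¹ = sK t₀ c := by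
      rw [← hμF, ← hγ, ← map_pow, hN₂, map_mul]
      have : sK t₀ γ ≠ 0 := by rw [hγ]; exact hg0
      field_simp
    refine ⟨N₁ + N₂, ?_⟩
    intro t ht
    rcases Finset.mem_insert.1 ht with rfl | ht
    · have : F₁ ^ (N₁ + N₂) * g⁻¹ = F₁ ^ N₁ * (F₁ ^ N₂ * g⁻¹) := by ring
      rw [this, h2]
      exact Subring.mul_mem _
        (Subring.pow_mem _ (my_le_Oy t (hF₁ t (Finset.mem_insert_self _ _))) _) ⟨c, rfl⟩
    · have : F₁ ^ (N₁ + N₂) * g⁻¹ = F₁ ^ N₂ * (F₁ ^ N₁ * g⁻¹) := by ring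
      rw [this]
      exact Subring.mul_mem _
        (Subring.pow_mem _ (my_le_Oy t (hF₁ t (Finset.mem_insert_of_mem ht))) _) (hN₁ t ht)

end Basics

section TwoChart

/-- **Two-chart criterion.**  If `G₁, G₂` are functions on `U₂ ∪ W₃` whose non-vanishing loci are
exactly the affine opens `U₂` and `W₃`, then the non-vanishing locus of `G₁ + G₂` is affine. -/
theorem isAffineOpen_basicOpen_add {X : Scheme.{u}} {U₂ W₃ : X.Opens} (hU₂ : IsAffineOpen U₂)
    (hW₃ : IsAffineOpen W₃) (G₁ G₂ : Γ(X, U₂ ⊔ W₃)) (h₁ : X.basicOpen G₁ = U₂)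
    (h₂ : X.basicOpen G₂ = W₃) : IsAffineOpen (X.basicOpen (G₁ + G₂)) := by
  have hle : X.basicOpen (G₁ + G₂) ≤ U₂ ⊔ W₃ := X.basicOpen_le _
  let r₁ := X.presheaf.map (homOfLE hle).op G₁
  let r₂ := X.presheaf.map (homOfLE hle).op G₂
  apply isAffineOpen_of_isAffineOpen_basicOpen (X.basicOpen (G₁ + G₂)) {r₁, r₂}
  · have hu : IsUnit (r₁ + r₂) := by
      have := X.toRingedSpace.isUnit_res_basicOpen (G₁ + G₂)
      have h : X.presheaf.map (homOfLE hle).op (G₁ + G₂) = r₁ + r₂ := map_add _ _ _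
      rw [← h]
      exact this
    apply Ideal.eq_top_of_isUnit_mem _ _ hu
    exact Ideal.add_mem _ (Ideal.subset_span (by simp)) (Ideal.subset_span (by simp))
  · intro r hr
    rcases hr with rfl | rfl
    · show IsAffineOpen (X.basicOpen (X.presheaf.map (homOfLE hle).op G₁))
      rw [Scheme.basicOpen_res, h₁, inf_comm]
      have := hU₂.basicOpen (X.presheaf.map (homOfLE (le_sup_left : U₂ ≤ U₂ ⊔ W₃)).op (G₁ + G₂))
      rwa [Scheme.basicOpen_res] at this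
    · show IsAffineOpen (X.basicOpen (X.presheaf.map (homOfLE hle).op G₂))
      rw [Scheme.basicOpen_res, h₂, inf_comm]
      have := hW₃.basicOpen (X.presheaf.map (homOfLE (le_sup_right : W₃ ≤ U₂ ⊔ W₃)).op (G₁ + G₂))
      rwa [Scheme.basicOpen_res] at this

end TwoChart

section Main

variable {X : Scheme.{u}} [IsIntegral X]

/-- **Adding one point.**  `X` separated integral, `U` an affine open containing the finitely many
points `T'` (each with one-dimensional local ring, not a field), `x ∉ U` a point with Noetherian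
one-dimensional local ring.  Then some affine open contains `T' ∪ {x}`. -/
theorem exists_affine_insert [X.IsSeparated] {U : X.Opens} (hU : IsAffineOpen U)
    (hξU : genericPoint X ∈ U) (T' : Finset X) (hT' : ∀ t ∈ T', t ∈ U)
    (hdim : ∀ t ∈ T', Ring.KrullDimLE 1 (X.presheaf.stalk t))
    (hm : ∀ t ∈ T', maximalIdeal (X.presheaf.stalk t) ≠ ⊥) (x : X) (hxU : x ∉ U)
    [IsNoetherianRing (X.presheaf.stalk x)] [Ring.KrullDimLE 1 (X.presheaf.stalk x)] :
    ∃ V : X.Opens, IsAffineOpen V ∧ x ∈ V ∧ ∀ t ∈ T', t ∈ V := by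
  classical
  rcases T'.eq_empty_or_nonempty with rfl | hne
  · obtain ⟨_, ⟨W, hW, rfl⟩, hxW, -⟩ :=
      X.isBasis_affineOpens.exists_subset_of_mem_open (Set.mem_univ x) isOpen_univ
    exact ⟨W, hW, hxW, by simp⟩
  -- the separating function
  obtain ⟨F, hFx, hF0, hF1⟩ := exists_sepFun hU hξU T' hT' hm x hxU
  have hFO : ∀ t ∈ T', F ∈ Oy t := fun t ht => by
    have : F = 1 - (1 - F) := by ring
    rw [this]
    exact Subring.sub_mem _ (Subring.one_mem _) (my_le_Oy t (hF1 t ht))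
  have hFnm : ∀ t ∈ T', F ∉ my t := fun t ht h => one_notMem_my t (by
    have := (my t).add_mem h (hF1 t ht)
    simpa using this)
  have hFinvO : ∀ t ∈ T', F⁻¹ ∈ Oy t := fun t ht => inv_mem_Oy (hFO t ht) (hFnm t ht)
  -- shrink `U` so that `F` and `F⁻¹` are regular on it
  obtain ⟨b₁, a₁, hb₁, hba₁⟩ := exists_common_denominator hU hξU T' hne hT' F hFO
  obtain ⟨b₂, a₂, hb₂, hba₂⟩ := exists_common_denominator hU hξU T' hne hT' F⁻¹ hFinvO
  obtain ⟨t₀, ht₀⟩ := hne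
  obtain ⟨U₁, hU₁def⟩ : ∃ U₁ : X.Opens, U₁ = X.basicOpen (b₁ * b₂) := ⟨_, rfl⟩
  have hU₁le : U₁ ≤ U := hU₁def ▸ X.basicOpen_le _
  have hU₁a : IsAffineOpen U₁ := hU₁def ▸ hU.basicOpen _
  have hU₁le₁ : U₁ ≤ X.basicOpen b₁ := by
    rw [hU₁def, Scheme.basicOpen_mul]; exact inf_le_left
  have hU₁le₂ : U₁ ≤ X.basicOpen b₂ := by
    rw [hU₁def, Scheme.basicOpen_mul]; exact inf_le_right
  have hT'U₁ : ∀ t ∈ T', t ∈ U₁ := fun t ht => by
    rw [hU₁def, Scheme.basicOpen_mul]; exact ⟨hb₁ t ht, hb₂ t ht⟩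
  have hξU₁ : genericPoint X ∈ U₁ := genericPoint_mem_of_mem (hT'U₁ t₀ ht₀)
  have hxU₁ : x ∉ U₁ := fun h => hxU (hU₁le h)
  have hFU₁ : F ∈ ΓK U₁ hξU₁ := by
    have hξb₁ : genericPoint X ∈ X.basicOpen b₁ := genericPoint_mem_of_mem (hb₁ t₀ ht₀)
    exact ΓK_anti hU₁le₁ hξU₁ hξb₁ (mem_ΓK_basicOpen_of_mul U hξU b₁ a₁ hξb₁ hba₁)
  have hFinvU₁ : F⁻¹ ∈ ΓK U₁ hξU₁ := by
    have hξb₂ : genericPoint X ∈ X.basicOpen b₂ := genericPoint_mem_of_mem (hb₂ t₀ ht₀)
    exact ΓK_anti hU₁le₂ hξU₁ hξb₂ (mem_ΓK_basicOpen_of_mul U hξU b₂ a₂ hξb₂ hba₂)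
  -- an affine neighbourhood of `x` on which `F` and `(1 - F)⁻¹` are regular
  obtain ⟨_, ⟨W₀, hW₀, rfl⟩, hxW₀, -⟩ :=
    X.isBasis_affineOpens.exists_subset_of_mem_open (Set.mem_univ x) isOpen_univ
  have hξW₀ : genericPoint X ∈ W₀ := genericPoint_mem_of_mem hxW₀
  have hFOx : F ∈ Oy x := my_le_Oy x hFx
  have h1FOx : 1 - F ∈ Oy x := Subring.sub_mem _ (Subring.one_mem _) hFOx
  have h1Fnm : 1 - F ∉ my x := fun h => one_notMem_my x (by
    have := (my x).add_mem h hFx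
    simpa using this)
  have h1FinvOx : (1 - F)⁻¹ ∈ Oy x := inv_mem_Oy h1FOx h1Fnm
  obtain ⟨c₁, d₁, hxc₁, hcd₁⟩ := exists_denominator hW₀ hξW₀ x hxW₀ hFOx
  obtain ⟨c₂, d₂, hxc₂, hcd₂⟩ := exists_denominator hW₀ hξW₀ x hxW₀ h1FinvOx
  obtain ⟨W₁, hW₁def⟩ : ∃ W₁ : X.Opens, W₁ = X.basicOpen (c₁ * c₂) := ⟨_, rfl⟩
  have hW₁a : IsAffineOpen W₁ := hW₁def ▸ hW₀.basicOpen _
  have hW₁le₁ : W₁ ≤ X.basicOpen c₁ := by
    rw [hW₁def, Scheme.basicOpen_mul]; exact inf_le_left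
  have hW₁le₂ : W₁ ≤ X.basicOpen c₂ := by
    rw [hW₁def, Scheme.basicOpen_mul]; exact inf_le_right
  have hxW₁ : x ∈ W₁ := by
    rw [hW₁def, Scheme.basicOpen_mul]; exact ⟨hxc₁, hxc₂⟩
  have hξW₁ : genericPoint X ∈ W₁ := genericPoint_mem_of_mem hxW₁
  have hFW₁ : F ∈ ΓK W₁ hξW₁ := by
    have hξc₁ : genericPoint X ∈ X.basicOpen c₁ := genericPoint_mem_of_mem hxc₁
    exact ΓK_anti hW₁le₁ hξW₁ hξc₁ (mem_ΓK_basicOpen_of_mul W₀ hξW₀ c₁ d₁ hξc₁ hcd₁)
  have h1FinvW₁ : (1 - F)⁻¹ ∈ ΓK W₁ hξW₁ := by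
    have hξc₂ : genericPoint X ∈ X.basicOpen c₂ := genericPoint_mem_of_mem hxc₂
    exact ΓK_anti hW₁le₂ hξW₁ hξc₂ (mem_ΓK_basicOpen_of_mul W₀ hξW₀ c₂ d₂ hξc₂ hcd₂)
  -- a function `e` on `W₁` whose non-vanishing locus lies in `U₁`
  obtain ⟨e, heUW, hξe⟩ :=
    hW₁a.exists_basicOpen_le (V := U₁ ⊓ W₁) ⟨genericPoint X, hξU₁, hξW₁⟩ hξW₁
  have he0 : gK W₁ hξW₁ e ≠ 0 := gK_ne_zero_of_mem_basicOpen _ _ _ _ hξe
  have hex : gK W₁ hξW₁ e ∈ my x := by
    by_contra h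
    exact hxU₁ (heUW ((mem_basicOpen_iff W₁ hξW₁ e x hxW₁).2 h)).1
  obtain ⟨ε, hε, hεe⟩ := mem_my_iff.1 hex
  obtain ⟨y₀, hy₀, hy₀F⟩ := mem_my_iff.1 hFx
  have hε0 : ε ≠ 0 := by
    rintro rfl
    rw [map_zero] at hεe
    exact he0 hεe.symm
  obtain ⟨N, c, hNc⟩ := Groth.Agent.Lib.Seat33.AffNbhdAlg.exists_pow_eq_mul hε0 hy₀
  obtain ⟨ω, hωdef⟩ : ∃ ω : X.functionField, ω = sK x c := ⟨_, rfl⟩
  have hFN : F ^ N = gK W₁ hξW₁ e * ω := by
    rw [← hy₀F, ← hεe, hωdef, ← map_pow, hNc, map_mul]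
  obtain ⟨c₃, d₃, hxc₃, hcd₃⟩ := exists_denominator hW₁a hξW₁ x hxW₁ (β := ω) ⟨c, hωdef.symm⟩
  obtain ⟨W, hWdef⟩ : ∃ W : X.Opens, W = X.basicOpen c₃ := ⟨_, rfl⟩
  have hWle : W ≤ W₁ := hWdef ▸ X.basicOpen_le _
  have hWa : IsAffineOpen W := hWdef ▸ hW₁a.basicOpen _
  have hxW : x ∈ W := hWdef ▸ hxc₃
  have hξW : genericPoint X ∈ W := genericPoint_mem_of_mem hxW
  have hωW : ω ∈ ΓK W hξW := by
    subst hWdef
    exact mem_ΓK_basicOpen_of_mul W₁ hξW₁ c₃ d₃ hξW hcd₃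
  have hFW : F ∈ ΓK W hξW := ΓK_anti hWle hξW hξW₁ hFW₁
  have h1FinvW : (1 - F)⁻¹ ∈ ΓK W hξW := ΓK_anti hWle hξW hξW₁ h1FinvW₁
  have heW : gK W₁ hξW₁ e ∈ ΓK W hξW := ΓK_anti hWle hξW hξW₁ (gK_mem _ _ _)
  have h1FW : 1 - F ∈ ΓK W hξW := Subring.sub_mem _ (Subring.one_mem _) hFW
  have h1FU₁ : 1 - F ∈ ΓK U₁ hξU₁ := Subring.sub_mem _ (Subring.one_mem _) hFU₁
  -- a function `j` on `U₁` whose non-vanishing locus lies in `W`
  obtain ⟨j, hjUW, hξj⟩ :=
    hU₁a.exists_basicOpen_le (V := U₁ ⊓ W) ⟨genericPoint X, hξU₁, hξW⟩ hξU₁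
  have hj0 : gK U₁ hξU₁ j ≠ 0 := gK_ne_zero_of_mem_basicOpen _ _ _ _ hξj
  have hjO : ∀ t ∈ T', gK U₁ hξU₁ j ∈ Oy t := fun t ht =>
    ΓK_le_Oy U₁ hξU₁ t (hT'U₁ t ht) (gK_mem _ _ _)
  obtain ⟨N', hN'⟩ := exists_pow_mul_inv_mem T' hdim (1 - F) (gK U₁ hξU₁ j) hF1 hjO hj0
  obtain ⟨L, a₀, ha₀⟩ := Groth.Agent.Lib.Seat33.AffNbhdAlg.exists_pow_mul_mem
    (K := X.functionField) hy₀ ((1 - F) ^ N' * (gK U₁ hξU₁ j)⁻¹)
  obtain ⟨a, hadef⟩ : ∃ a : X.functionField, a = sK x a₀ := ⟨_, rfl⟩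
  have haF : a = F ^ L * ((1 - F) ^ N' * (gK U₁ hξU₁ j)⁻¹) := by
    rw [hadef]
    exact (show sK x a₀ = sK x y₀ ^ L * _ from ha₀).trans (by rw [hy₀F])
  have haOx : a ∈ Oy x := ⟨a₀, hadef.symm⟩
  have haO : ∀ t ∈ T', a ∈ Oy t := fun t ht => by
    rw [haF]
    exact Subring.mul_mem _ (Subring.pow_mem _ (hFO t ht) L) (hN' t ht)
  have hrel : (1 - F) ^ N' * F ^ L = gK U₁ hξU₁ j * a := by
    rw [haF]; field_simp
  -- shrink both charts so that `a` is regular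
  obtain ⟨b', a', hb', hba'⟩ := exists_common_denominator hU₁a hξU₁ T' ⟨t₀, ht₀⟩ hT'U₁ a haO
  obtain ⟨c', d', hxc', hcd'⟩ := exists_denominator hWa hξW x hxW haOx
  obtain ⟨U₂, hU₂def⟩ : ∃ U₂ : X.Opens, U₂ = X.basicOpen b' := ⟨_, rfl⟩
  obtain ⟨W₃, hW₃def⟩ : ∃ W₃ : X.Opens, W₃ = X.basicOpen c' := ⟨_, rfl⟩
  have hU₂le : U₂ ≤ U₁ := hU₂def ▸ X.basicOpen_le _
  have hW₃le : W₃ ≤ W := hW₃def ▸ X.basicOpen_le _
  have hU₂a : IsAffineOpen U₂ := hU₂def ▸ hU₁a.basicOpen _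
  have hW₃a : IsAffineOpen W₃ := hW₃def ▸ hWa.basicOpen _
  have hT'U₂ : ∀ t ∈ T', t ∈ U₂ := fun t ht => hU₂def ▸ hb' t ht
  have hxW₃ : x ∈ W₃ := hW₃def ▸ hxc'
  have hξU₂ : genericPoint X ∈ U₂ := genericPoint_mem_of_mem (hT'U₂ t₀ ht₀)
  have hξW₃ : genericPoint X ∈ W₃ := genericPoint_mem_of_mem hxW₃
  have haU₂ : a ∈ ΓK U₂ hξU₂ := by
    subst hU₂def
    exact mem_ΓK_basicOpen_of_mul U₁ hξU₁ b' a' hξU₂ hba'
  have haW₃ : a ∈ ΓK W₃ hξW₃ := by
    subst hW₃def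
    exact mem_ΓK_basicOpen_of_mul W hξW c' d' hξW₃ hcd'
  -- the two functions
  have hb'e : gK U₁ hξU₁ b' ∈ ΓK (X.basicOpen e) hξe :=
    ΓK_anti (heUW.trans inf_le_left) hξe hξU₁ (gK_mem _ _ _)
  obtain ⟨M, m₁, hM⟩ := exists_pow_mul_mem_of_basicOpen hW₁a hξW₁ e hξe hb'e
  have hstuff₁ : (F ^ N) ^ M * gK U₁ hξU₁ b' ∈ ΓK W hξW := by
    have : (F ^ N) ^ M * gK U₁ hξU₁ b' = ω ^ M * (gK W₁ hξW₁ e ^ M * gK U₁ hξU₁ b') := by
      rw [hFN]; ring
    rw [this, hM]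
    exact Subring.mul_mem _ (Subring.pow_mem _ hωW M) (ΓK_anti hWle hξW hξW₁ (gK_mem _ _ _))
  obtain ⟨G₁, hG₁def⟩ : ∃ G₁ : X.functionField, G₁ = F ^ (N * M + 1) * gK U₁ hξU₁ b' := ⟨_, rfl⟩
  have hG₁eq : G₁ = F * ((F ^ N) ^ M * gK U₁ hξU₁ b') := by rw [hG₁def]; ring
  have hG₁U₁ : G₁ ∈ ΓK U₁ hξU₁ := by
    rw [hG₁def]; exact Subring.mul_mem _ (Subring.pow_mem _ hFU₁ _) (gK_mem _ _ _)
  have hG₁W : G₁ ∈ ΓK W hξW := by
    rw [hG₁eq]; exact Subring.mul_mem _ hFW hstuff₁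
  have hc'j : gK W hξW c' ∈ ΓK (X.basicOpen j) hξj :=
    ΓK_anti (hjUW.trans inf_le_right) hξj hξW (gK_mem _ _ _)
  obtain ⟨M', m₂, hM'⟩ := exists_pow_mul_mem_of_basicOpen hU₁a hξU₁ j hξj hc'j
  have hstuff₂ : ((1 - F) ^ N') ^ M' * gK W hξW c' ∈ ΓK U₂ hξU₂ := by
    have h1 : (1 - F) ^ N' = gK U₁ hξU₁ j * a * (F⁻¹) ^ L := by
      have hFL : F ^ L ≠ 0 := pow_ne_zero _ hF0
      rw [inv_pow, ← hrel]; field_simp
    have : ((1 - F) ^ N') ^ M' * gK W hξW c' =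
        a ^ M' * ((F⁻¹) ^ L) ^ M' * (gK U₁ hξU₁ j ^ M' * gK W hξW c') := by
      rw [h1]; ring
    rw [this, hM']
    exact Subring.mul_mem _ (Subring.mul_mem _ (Subring.pow_mem _ haU₂ _)
      (Subring.pow_mem _ (Subring.pow_mem _ (ΓK_anti hU₂le hξU₂ hξU₁ hFinvU₁) _) _))
      (ΓK_anti hU₂le hξU₂ hξU₁ (gK_mem _ _ _))
  obtain ⟨G₂, hG₂def⟩ : ∃ G₂ : X.functionField, G₂ = (1 - F) ^ (N' * M' + 1) * gK W hξW c' :=
    ⟨_, rfl⟩
  have hG₂eq : G₂ = (1 - F) * (((1 - F) ^ N') ^ M' * gK W hξW c') := by rw [hG₂def]; ring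
  have hG₂W : G₂ ∈ ΓK W hξW := by
    rw [hG₂def]; exact Subring.mul_mem _ (Subring.pow_mem _ h1FW _) (gK_mem _ _ _)
  have hG₂U₂ : G₂ ∈ ΓK U₂ hξU₂ := by
    rw [hG₂eq]; exact Subring.mul_mem _ (ΓK_anti hU₂le hξU₂ hξU₁ h1FU₁) hstuff₂
  -- glue to sections over `U₂ ∪ W₃`
  have hξV : genericPoint X ∈ U₂ ⊔ W₃ := Or.inl hξU₂
  obtain ⟨Gs₁, hGs₁⟩ := mem_ΓK_sup hξU₂ hξW₃ hξV (ΓK_anti hU₂le hξU₂ hξU₁ hG₁U₁)
    (ΓK_anti hW₃le hξW₃ hξW hG₁W)
  obtain ⟨Gs₂, hGs₂⟩ := mem_ΓK_sup hξU₂ hξW₃ hξV hG₂U₂ (ΓK_anti hW₃le hξW₃ hξW hG₂W)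
  -- units on the charts
  have hFunitU₁ : ∀ y ∈ U₁, F ∈ Oy y ∧ F ∉ my y := by
    intro y hy
    have h1 := ΓK_le_Oy U₁ hξU₁ y hy hFU₁
    have h2 := ΓK_le_Oy U₁ hξU₁ y hy hFinvU₁
    refine ⟨h1, fun h => one_notMem_my y ?_⟩
    have := mul_mem_my' h h2
    rwa [mul_inv_cancel₀ hF0] at this
  have h1F0 : 1 - F ≠ 0 := by
    intro h
    apply h1Fnm
    rw [h]; exact zero_mem_my x
  have h1FunitW : ∀ y ∈ W, 1 - F ∈ Oy y ∧ 1 - F ∉ my y := by
    intro y hy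
    have h1 := ΓK_le_Oy W hξW y hy h1FW
    have h2 := ΓK_le_Oy W hξW y hy h1FinvW
    refine ⟨h1, fun h => one_notMem_my y ?_⟩
    have := mul_mem_my' h h2
    rwa [mul_inv_cancel₀ h1F0] at this
  -- the non-vanishing locus of `G₁` is `U₂`
  have hA : X.basicOpen Gs₁ = U₂ := by
    ext y
    simp only [SetLike.mem_coe]
    constructor
    · intro hy
      have hyV : y ∈ U₂ ⊔ W₃ := X.basicOpen_le _ hy
      have hG : G₁ ∉ my y := by
        have := (mem_basicOpen_iff _ hξV Gs₁ y hyV).1 hy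
        rwa [hGs₁] at this
      rcases hyV with hyU₂ | hyW₃
      · exact hyU₂
      · have hyW : y ∈ W := hW₃le hyW₃
        have hyW₁ : y ∈ W₁ := hWle hyW
        have hFy : F ∈ Oy y := ΓK_le_Oy W hξW y hyW hFW
        rw [hG₁eq] at hG
        have hFnm' := (notMem_my_of_mul hFy (ΓK_le_Oy W hξW y hyW hstuff₁) hG).1
        have hFN' : F ^ N ∉ my y := pow_notMem_my hFy hFnm' N
        rw [hFN] at hFN'
        have hey := (notMem_my_of_mul (ΓK_le_Oy W hξW y hyW heW)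
          (ΓK_le_Oy W hξW y hyW hωW) hFN').1
        have hye : y ∈ X.basicOpen e := (mem_basicOpen_iff W₁ hξW₁ e y hyW₁).2 hey
        have hyU₁ : y ∈ U₁ := (heUW hye).1
        rw [← hG₁eq, hG₁def] at hG
        have hb'y := (notMem_my_of_mul
          (Subring.pow_mem _ (ΓK_le_Oy U₁ hξU₁ y hyU₁ hFU₁) _)
          (ΓK_le_Oy U₁ hξU₁ y hyU₁ (gK_mem _ _ _)) hG).2
        rw [hU₂def]
        exact (mem_basicOpen_iff U₁ hξU₁ b' y hyU₁).2 hb'y
    · intro hyU₂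
      have hyU₁ : y ∈ U₁ := hU₂le hyU₂
      rw [mem_basicOpen_iff _ hξV Gs₁ y (Or.inl hyU₂), hGs₁, hG₁def]
      have hb'y : gK U₁ hξU₁ b' ∉ my y := by
        rw [hU₂def] at hyU₂
        exact (mem_basicOpen_iff U₁ hξU₁ b' y hyU₁).1 hyU₂
      exact mul_notMem_my (Subring.pow_mem _ (hFunitU₁ y hyU₁).1 _)
        (ΓK_le_Oy U₁ hξU₁ y hyU₁ (gK_mem _ _ _))
        (pow_notMem_my (hFunitU₁ y hyU₁).1 (hFunitU₁ y hyU₁).2 _) hb'y
  -- the non-vanishing locus of `G₂` is `W₃`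
  have hB : X.basicOpen Gs₂ = W₃ := by
    ext y
    simp only [SetLike.mem_coe]
    constructor
    · intro hy
      have hyV : y ∈ U₂ ⊔ W₃ := X.basicOpen_le _ hy
      have hG : G₂ ∉ my y := by
        have := (mem_basicOpen_iff _ hξV Gs₂ y hyV).1 hy
        rwa [hGs₂] at this
      rcases hyV with hyU₂ | hyW₃
      · have hyU₁ : y ∈ U₁ := hU₂le hyU₂
        have h1Fy : 1 - F ∈ Oy y := ΓK_le_Oy U₁ hξU₁ y hyU₁ h1FU₁
        rw [hG₂eq] at hG
        have h1Fnm' := (notMem_my_of_mul h1Fy (ΓK_le_Oy U₂ hξU₂ y hyU₂ hstuff₂) hG).1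
        have hrel' : (1 - F) ^ N' * F ^ L ∉ my y :=
          mul_notMem_my (Subring.pow_mem _ h1Fy _) (Subring.pow_mem _ (hFunitU₁ y hyU₁).1 _)
            (pow_notMem_my h1Fy h1Fnm' _)
            (pow_notMem_my (hFunitU₁ y hyU₁).1 (hFunitU₁ y hyU₁).2 _)
        rw [hrel] at hrel'
        have hjy := (notMem_my_of_mul (ΓK_le_Oy U₁ hξU₁ y hyU₁ (gK_mem _ _ _))
          (ΓK_le_Oy U₂ hξU₂ y hyU₂ haU₂) hrel').1
        have hyj : y ∈ X.basicOpen j := (mem_basicOpen_iff U₁ hξU₁ j y hyU₁).2 hjy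
        have hyW : y ∈ W := (hjUW hyj).2
        rw [← hG₂eq, hG₂def] at hG
        have hc'y := (notMem_my_of_mul
          (Subring.pow_mem _ (ΓK_le_Oy W hξW y hyW h1FW) _)
          (ΓK_le_Oy W hξW y hyW (gK_mem _ _ _)) hG).2
        rw [hW₃def]
        exact (mem_basicOpen_iff W hξW c' y hyW).2 hc'y
      · exact hyW₃
    · intro hyW₃
      have hyW : y ∈ W := hW₃le hyW₃
      rw [mem_basicOpen_iff _ hξV Gs₂ y (Or.inr hyW₃), hGs₂, hG₂def]
      have hc'y : gK W hξW c' ∉ my y := by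
        rw [hW₃def] at hyW₃
        exact (mem_basicOpen_iff W hξW c' y hyW).1 hyW₃
      exact mul_notMem_my (Subring.pow_mem _ (h1FunitW y hyW).1 _)
        (ΓK_le_Oy W hξW y hyW (gK_mem _ _ _))
        (pow_notMem_my (h1FunitW y hyW).1 (h1FunitW y hyW).2 _) hc'y
  -- conclusion
  refine ⟨X.basicOpen (Gs₁ + Gs₂), isAffineOpen_basicOpen_add hU₂a hW₃a Gs₁ Gs₂ hA hB, ?_, ?_⟩
  · rw [mem_basicOpen_iff _ hξV _ x (Or.inr hxW₃), map_add, hGs₁, hGs₂]
    intro h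
    have h1 : G₁ ∈ my x := by
      rw [hG₁eq]
      exact mul_mem_my' hFx (ΓK_le_Oy W hξW x hxW hstuff₁)
    have h2 : G₂ ∉ my x := by
      have := (mem_basicOpen_iff _ hξV Gs₂ x (Or.inr hxW₃)).1 (by rw [hB]; exact hxW₃)
      rwa [hGs₂] at this
    apply h2
    have := (my x).sub_mem h h1
    simpa using this
  · intro t ht
    have htU₂ := hT'U₂ t ht
    rw [mem_basicOpen_iff _ hξV _ t (Or.inl htU₂), map_add, hGs₁, hGs₂]
    intro h
    have h2 : G₂ ∈ my t := by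
      rw [hG₂eq]
      exact mul_mem_my' (hF1 t ht) (ΓK_le_Oy U₂ hξU₂ t htU₂ hstuff₂)
    have h1 : G₁ ∉ my t := by
      have := (mem_basicOpen_iff _ hξV Gs₁ t (Or.inl htU₂)).1 (by rw [hA]; exact htU₂)
      rwa [hGs₁] at this
    apply h1
    have := (my t).sub_mem h h2
    simpa using this

/-- **Stacks 09NN, integral case.**  On a separated integral scheme, finitely many points whose
local rings are Noetherian of dimension at most one lie in a common (nonempty) affine open. -/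
theorem exists_affine_of_integral [X.IsSeparated] (T : Finset X)
    (hT : ∀ t ∈ T, IsNoetherianRing (X.presheaf.stalk t) ∧ ringKrullDim (X.presheaf.stalk t) ≤ 1) :
    ∃ V : X.Opens, IsAffineOpen V ∧ genericPoint X ∈ V ∧ ∀ t ∈ T, t ∈ V := by
  classical
  induction T using Finset.induction_on with
  | empty =>
    obtain ⟨_, ⟨W, hW, rfl⟩, hxW, -⟩ :=
      X.isBasis_affineOpens.exists_subset_of_mem_open (Set.mem_univ (genericPoint X)) isOpen_univ
    exact ⟨W, hW, hxW, by simp⟩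
  | insert x T' _ ih =>
    obtain ⟨V, hV, hξV, hT'V⟩ := ih (fun t ht => hT t (Finset.mem_insert_of_mem ht))
    by_cases hxV : x ∈ V
    · refine ⟨V, hV, hξV, fun t ht => ?_⟩
      rcases Finset.mem_insert.1 ht with rfl | ht
      · exact hxV
      · exact hT'V t ht
    · obtain ⟨hxN, hxd⟩ := hT x (Finset.mem_insert_self _ _)
      have : Ring.KrullDimLE 1 (X.presheaf.stalk x) := Ring.krullDimLE_iff.2 hxd
      obtain ⟨V', hV', hxV', hT''⟩ := exists_affine_insert hV hξV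
        (T'.filter fun t => maximalIdeal (X.presheaf.stalk t) ≠ ⊥)
        (fun t ht => hT'V t (Finset.mem_filter.1 ht).1)
        (fun t ht => Ring.krullDimLE_iff.2 (hT t (Finset.mem_insert_of_mem
          (Finset.mem_filter.1 ht).1)).2)
        (fun t ht => (Finset.mem_filter.1 ht).2) x hxV
      have hξV' : genericPoint X ∈ V' := genericPoint_mem_of_mem hxV'
      refine ⟨V', hV', hξV', fun t ht => ?_⟩
      rcases Finset.mem_insert.1 ht with rfl | ht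
      · exact hxV'
      · by_cases hm : maximalIdeal (X.presheaf.stalk t) = ⊥
        · by_contra htV'
          exact maximalIdeal_ne_bot_of_notMem hξV' t htV' hm
        · exact hT'' t (Finset.mem_filter.2 ⟨ht, hm⟩)

end Main

end Groth.Agent.Lib.Seat33.AffNbhdInt
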