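/-
Seat24: Stacks "finding affine opens" (09NK-type), integral case.  `T` integral affine,
`X` integral quasi-separated, `f : T ⟶ X` dominant, finitely many points `t` of `T` at which the
stalk map is surjective: their images lie in a common affine open of `X`.
Built on helper33's function-field API (`Seat33AffNbhdInt`) and its two-chart criterion.
-/
import Mathlib
import Groth.Agent.Lib.Seat33AffNbhdInt

set_option autoImplicit false
universe u

namespace Groth.Agent.Lib.Seat24.AffImg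

open AlgebraicGeometry CategoryTheory TopologicalSpace IsLocalRing Opposite
open Groth.Agent.Lib.Seat33.AffNbhdInt

section PrimeAvoidance

variable {X : Scheme.{u}} {U : X.Opens}

/-- the ideal of functions on `U` vanishing at `x` (everything if `x ∉ U`). -/
def vanIdeal (U : X.Opens) (x : X) : Ideal Γ(X, U) where
  carrier := {a | x ∉ X.basicOpen a}
  zero_mem' := by
    show x ∉ X.basicOpen (0 : Γ(X, U))
    rw [Scheme.basicOpen_zero]; exact fun h => h
  add_mem' := by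
    intro a b ha hb hab
    rcases X.basicOpen_add_le a b hab with h | h
    · exact ha h
    · exact hb h
  smul_mem' := by
    intro c a ha hca
    rw [smul_eq_mul, Scheme.basicOpen_mul] at hca
    exact ha hca.2

theorem mem_vanIdeal {x : X} {a : Γ(X, U)} : a ∈ vanIdeal U x ↔ x ∉ X.basicOpen a := Iff.rfl

theorem vanIdeal_isPrime {x : X} (hx : x ∈ U) : (vanIdeal U x).IsPrime := by
  refine ⟨?_, ?_⟩
  · rw [Ideal.ne_top_iff_one, mem_vanIdeal, Scheme.basicOpen_one]
    exact fun h => h hx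
  · intro a b hab
    rw [mem_vanIdeal, Scheme.basicOpen_mul] at hab
    by_contra hcon
    push Not at hcon
    exact hab ⟨not_not.1 hcon.1, not_not.1 hcon.2⟩

/-- the ideal of functions on `U` whose non-vanishing locus lies in `O`. -/
def subIdeal (U O : X.Opens) : Ideal Γ(X, U) where
  carrier := {a | X.basicOpen a ≤ O}
  zero_mem' := by
    show X.basicOpen (0 : Γ(X, U)) ≤ O
    rw [Scheme.basicOpen_zero]; exact bot_le
  add_mem' := by
    intro a b ha hb
    exact (X.basicOpen_add_le a b).trans (sup_le ha hb)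
  smul_mem' := by
    intro c a ha
    show X.basicOpen (c • a) ≤ O
    rw [smul_eq_mul, Scheme.basicOpen_mul]
    exact inf_le_right.trans ha

theorem vanIdeal_le_imp_specializes (hU : IsAffineOpen U) {x z : X} (hx : x ∈ U)
    (h : vanIdeal U z ≤ vanIdeal U x) : z ⤳ x := by
  rw [specializes_iff_forall_open]
  intro N hN hxN
  obtain ⟨a, haN, hxa⟩ := hU.exists_basicOpen_le (V := ⟨N, hN⟩) ⟨x, hxN⟩ hx
  by_contra hz
  have : a ∈ vanIdeal U z := fun hza => hz (haN hza)
  exact h this hxa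

/-- **Prime avoidance in an affine open.**  Finitely many points `Fp` of `U` inside an open `O`,
finitely many points `Fm` none of which is a generization of a point of `Fp`: some function on `U`
is nonzero at all points of `Fp`, zero at all points of `Fm`, with non-vanishing locus in `O`. -/
theorem exists_basicOpen_sep (hU : IsAffineOpen U) (Fp Fm : Finset X) (O : X.Opens)
    (hFpU : ∀ x ∈ Fp, x ∈ U) (hFpO : ∀ x ∈ Fp, x ∈ O)
    (hsp : ∀ x ∈ Fp, ∀ z ∈ Fm, ¬ z ⤳ x) :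
    ∃ a : Γ(X, U), (∀ x ∈ Fp, x ∈ X.basicOpen a) ∧ (∀ z ∈ Fm, z ∉ X.basicOpen a) ∧
      X.basicOpen a ≤ O := by
  classical
  rcases Fp.eq_empty_or_nonempty with rfl | ⟨x₀, hx₀⟩
  · refine ⟨0, by simp, ?_, ?_⟩
    · intro z _; rw [Scheme.basicOpen_zero]; exact fun h => h
    · rw [Scheme.basicOpen_zero]; exact bot_le
  let J : Ideal Γ(X, U) := subIdeal U O ⊓ Fm.inf (vanIdeal U)
  have hJ : ∀ x ∈ Fp, ¬ J ≤ vanIdeal U x := by
    intro x hx hle
    have hp := vanIdeal_isPrime (hFpU x hx)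
    rcases hp.inf_le.1 hle with h | h
    · obtain ⟨a, haO, hxa⟩ := hU.exists_basicOpen_le (V := O) ⟨x, hFpO x hx⟩ (hFpU x hx)
      exact h (show a ∈ subIdeal U O from haO) hxa
    · obtain ⟨z, hz, hzx⟩ := (Ideal.IsPrime.inf_le' hp).1 h
      exact hsp x hx z hz (vanIdeal_le_imp_specializes hU (hFpU x hx) hzx)
  have hnot : ¬ ((J : Set Γ(X, U)) ⊆ ⋃ i ∈ (Fp.attach : Set {x // x ∈ Fp}),
      (vanIdeal U i.1 : Set _)) := by
    rw [Ideal.subset_union_prime (s := Fp.attach) (f := fun i : {x // x ∈ Fp} => vanIdeal U i.1)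
      ⟨x₀, hx₀⟩ ⟨x₀, hx₀⟩ (fun i _ _ _ => vanIdeal_isPrime (hFpU i.1 i.2))]
    rintro ⟨x, -, hle⟩
    exact hJ x.1 x.2 hle
  rw [Set.not_subset] at hnot
  obtain ⟨a, haJ, ha⟩ := hnot
  refine ⟨a, ?_, ?_, haJ.1⟩
  · intro x hx
    by_contra hcon
    apply ha
    simp only [Set.mem_iUnion]
    exact ⟨⟨x, hx⟩, by simp, hcon⟩
  · intro z hz
    have := (Finset.inf_le hz : Fm.inf (vanIdeal U) ≤ vanIdeal U z) haJ.2
    exact this

end PrimeAvoidance

section Closure

/-- ring lemma: either some prime `r` with `J ≤ r ≤ q` avoids `h`, or `c * h ^ n ∈ J` for some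
`c ∉ q`. -/
theorem exists_prime_or_mul_mem {R : Type*} [CommRing R] (J q : Ideal R) [q.IsPrime] (h : R) :
    (∃ r : Ideal R, r.IsPrime ∧ J ≤ r ∧ r ≤ q ∧ h ∉ r) ∨ (∃ c, c ∉ q ∧ ∃ n : ℕ, c * h ^ n ∈ J) := by
  let M : Submonoid R := q.primeCompl ⊔ Submonoid.powers h
  by_cases hd : Disjoint (J : Set R) (M : Set R)
  · left
    obtain ⟨r, hr, hJr, hrM⟩ := Ideal.exists_le_prime_disjoint J M hd
    refine ⟨r, hr, hJr, ?_, ?_⟩
    · intro a har
      by_contra haq
      exact Set.disjoint_left.1 hrM har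
        ((le_sup_left : q.primeCompl ≤ M) (show a ∈ q.primeCompl from haq))
    · intro hhr
      exact Set.disjoint_left.1 hrM hhr
        ((le_sup_right : Submonoid.powers h ≤ M) (Submonoid.mem_powers h))
  · right
    rw [Set.not_disjoint_iff] at hd
    obtain ⟨m, hmJ, hmM⟩ := hd
    obtain ⟨c, hc, z, hz, rfl⟩ := Submonoid.mem_sup.1 hmM
    obtain ⟨n, rfl⟩ := (Submonoid.mem_powers_iff _ _).1 hz
    exact ⟨c, hc, n, hmJ⟩

variable {X : Scheme.{u}} {V : X.Opens}

theorem vanIdeal_fromSpec (hV : IsAffineOpen V) (p : PrimeSpectrum Γ(X, V)) :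
    vanIdeal V (hV.fromSpec p) = p.asIdeal := by
  ext a
  rw [mem_vanIdeal]
  have h := hV.fromSpec_preimage_basicOpen a
  have : hV.fromSpec p ∈ X.basicOpen a ↔ p ∈ PrimeSpectrum.basicOpen a := by
    rw [← h]; rfl
  rw [this, PrimeSpectrum.mem_basicOpen, not_not]

theorem basicOpen_le_basicOpen_pow (h : Γ(X, V)) (n : ℕ) : X.basicOpen h ≤ X.basicOpen (h ^ n) := by
  rcases n.eq_zero_or_pos with rfl | hn
  · rw [pow_zero, Scheme.basicOpen_one]; exact X.basicOpen_le h
  · rw [Scheme.basicOpen_pow X h hn]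

/-- a point of the affine open `V` in the closure of `D(h) ∖ W` has a generization in `D(h) ∖ W`. -/
theorem exists_generization_of_mem_closure (hV : IsAffineOpen V) (h : Γ(X, V)) (W : X.Opens)
    (x : X) (hxV : x ∈ V) (hx : x ∈ closure ((X.basicOpen h : Set X) ∩ (W : Set X)ᶜ)) :
    ∃ y, y ⤳ x ∧ y ∈ X.basicOpen h ∧ y ∉ W := by
  have := vanIdeal_isPrime hxV
  rcases exists_prime_or_mul_mem (subIdeal V W) (vanIdeal V x) h with
    ⟨r, hr, hJr, hrq, hhr⟩ | ⟨c, hc, n, hcn⟩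
  · let y := hV.fromSpec ⟨r, hr⟩
    have hy : vanIdeal V y = r := vanIdeal_fromSpec hV ⟨r, hr⟩
    have hyV : y ∈ V := by
      have : y ∈ Set.range hV.fromSpec := ⟨_, rfl⟩
      rw [hV.range_fromSpec] at this
      exact this
    refine ⟨y, vanIdeal_le_imp_specializes hV hxV (hy ▸ hrq), ?_, ?_⟩
    · by_contra hcon
      exact hhr (hy ▸ (show h ∈ vanIdeal V y from hcon))
    · intro hyW
      obtain ⟨a, haW, hya⟩ := hV.exists_basicOpen_le (V := W) ⟨y, hyW⟩ hyV
      have : a ∈ vanIdeal V y := hy ▸ hJr (show a ∈ subIdeal V W from haW)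
      exact this hya
  · exfalso
    have hxc : x ∈ X.basicOpen c := not_not.1 hc
    rw [mem_closure_iff] at hx
    obtain ⟨y, hyc, hyh, hyW⟩ := hx _ (X.basicOpen c).isOpen hxc
    apply hyW
    have h1 : X.basicOpen (c * h ^ n) ≤ W := hcn
    rw [Scheme.basicOpen_mul] at h1
    exact h1 ⟨hyc, basicOpen_le_basicOpen_pow h n hyh⟩

/-- **Shrinking.**  If every generization of the finitely many points `F ⊆ V` at which `h` does not
vanish lies in `W`, then on some basic open of `V` containing `F`, `D(h) ⊆ W`. -/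
theorem exists_basicOpen_inf_le (hV : IsAffineOpen V) (h : Γ(X, V)) (W : X.Opens) (F : Finset X)
    (hFV : ∀ x ∈ F, x ∈ V) (hF : ∀ x ∈ F, ∀ y, y ⤳ x → y ∈ X.basicOpen h → y ∈ W) :
    ∃ c : Γ(X, V), (∀ x ∈ F, x ∈ X.basicOpen c) ∧ X.basicOpen c ⊓ X.basicOpen h ≤ W := by
  let E : Set X := (X.basicOpen h : Set X) ∩ (W : Set X)ᶜ
  let O : X.Opens := ⟨(closure E)ᶜ, isClosed_closure.isOpen_compl⟩
  have hFO : ∀ x ∈ F, x ∈ O := by
    intro x hx hxE
    obtain ⟨y, hyx, hyh, hyW⟩ := exists_generization_of_mem_closure hV h W x (hFV x hx) hxE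
    exact hyW (hF x hx y hyx hyh)
  obtain ⟨c, hcF, -, hcO⟩ := exists_basicOpen_sep hV F ∅ O hFV hFO (by simp)
  refine ⟨c, hcF, ?_⟩
  rintro y ⟨hyc, hyh⟩
  by_contra hyW
  exact hcO hyc (subset_closure ⟨hyh, hyW⟩)

end Closure

section Generization

variable {T X : Scheme.{u}} (f : T ⟶ X)

/-- at a point where the stalk map is an isomorphism, generizations of the image lift. -/
theorem exists_preimage_of_specializes_of_isIso (t : T) [IsIso (f.stalkMap t)] (y : X)
    (hy : y ⤳ f t) : ∃ t' : T, t' ⤳ t ∧ f t' = y := by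
  have hy' : y ∈ Set.range (X.fromSpecStalk (f t)) := by
    rw [Scheme.range_fromSpecStalk]; exact hy
  obtain ⟨p, rfl⟩ := hy'
  have h := Scheme.SpecMap_stalkMap_fromSpecStalk f (x := t)
  let p' := (inv (Spec.map (f.stalkMap t))) p
  refine ⟨T.fromSpecStalk t p', ?_, ?_⟩
  · have : T.fromSpecStalk t p' ∈ Set.range (T.fromSpecStalk t) := ⟨_, rfl⟩
    rw [Scheme.range_fromSpecStalk] at this
    exact this
  · rw [← Scheme.Hom.comp_apply, ← h, Scheme.Hom.comp_apply]
    congr 1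
    show (Spec.map (f.stalkMap t)) ((inv (Spec.map (f.stalkMap t))) p) = p
    rw [← Scheme.Hom.comp_apply, IsIso.inv_hom_id]
    rfl

/-- at a point where the stalk map is an isomorphism, `f` is injective on generizations. -/
theorem eq_of_specializes_of_isIso (t : T) [IsIso (f.stalkMap t)] {t' t'' : T} (h' : t' ⤳ t)
    (h'' : t'' ⤳ t) (he : f t' = f t'') : t' = t'' := by
  have h1 : t' ∈ Set.range (T.fromSpecStalk t) := by rw [Scheme.range_fromSpecStalk]; exact h'
  have h2 : t'' ∈ Set.range (T.fromSpecStalk t) := by rw [Scheme.range_fromSpecStalk]; exact h''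
  obtain ⟨p', rfl⟩ := h1
  obtain ⟨p'', rfl⟩ := h2
  have h := Scheme.SpecMap_stalkMap_fromSpecStalk f (x := t)
  rw [← Scheme.Hom.comp_apply, ← Scheme.Hom.comp_apply, ← h, Scheme.Hom.comp_apply,
    Scheme.Hom.comp_apply] at he
  have he' := (X.fromSpecStalk (f t)).isEmbedding.injective he
  have he'' := congrArg (inv (Spec.map (f.stalkMap t))) he'
  rw [← Scheme.Hom.comp_apply, ← Scheme.Hom.comp_apply, IsIso.hom_inv_id] at he''
  exact congrArg _ he''

end Generization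

section StalkMap

variable {X T : Scheme.{u}} [IsIntegral X] [IsIntegral T] (f : T ⟶ X)
  (hdom : f (genericPoint T) = genericPoint X)

/-- the map of function fields induced by a dominant morphism of integral schemes. -/
noncomputable def φK : X.functionField →+* T.functionField :=
  (X.presheaf.stalkSpecializes (show f (genericPoint T) ⤳ genericPoint X from
    specializes_of_eq hdom) ≫ f.stalkMap (genericPoint T)).hom

theorem φK_injective : Function.Injective (φK f hdom) := (φK f hdom).injective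

/-- the stalk maps are compatible with the map of function fields. -/
theorem sK_stalkMap (y : T) (σ : X.presheaf.stalk (f y)) :
    sK y (f.stalkMap y σ) = φK f hdom (sK (f y) σ) := by
  have hy : genericPoint T ⤳ y := (genericPoint_spec T).specializes trivial
  have h1 := Scheme.Hom.stalkSpecializes_stalkMap_apply f (genericPoint T) y hy σ
  simp only [sK, φK, RingHom.algebraMap_toAlgebra]
  change (T.presheaf.stalkSpecializes _) (f.stalkMap y σ) = _
  rw [← h1]
  change _ = (f.stalkMap (genericPoint T)) ((X.presheaf.stalkSpecializes _)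
    ((X.presheaf.stalkSpecializes _) σ))
  congr 1
  have h2 := TopCat.Presheaf.stalkSpecializes_comp X.presheaf
    (show f (genericPoint T) ⤳ genericPoint X from specializes_of_eq hdom)
    ((genericPoint_spec X).specializes trivial : genericPoint X ⤳ f y)
  exact (DFunLike.congr_fun (CommRingCat.hom_ext_iff.mp h2) σ).symm

include hdom in
theorem stalkMap_injective (y : T) : Function.Injective (f.stalkMap y) := by
  intro σ σ' h
  apply sK_injective (f y)
  apply φK_injective f hdom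
  rw [← sK_stalkMap, ← sK_stalkMap, h]

/-- images of elements of the local ring at `f y` lie in the local ring at `y`. -/
theorem φK_mem_Oy (y : T) {κ : X.functionField} (hκ : κ ∈ Oy (f y)) : φK f hdom κ ∈ Oy y := by
  obtain ⟨σ, rfl⟩ := hκ
  exact ⟨f.stalkMap y σ, sK_stalkMap f hdom y σ⟩

theorem φK_mem_my_iff (y : T) {κ : X.functionField} (hκ : κ ∈ Oy (f y)) :
    φK f hdom κ ∈ my y ↔ κ ∈ my (f y) := by
  obtain ⟨σ, rfl⟩ := hκ
  rw [← sK_stalkMap, sK_mem_my_iff, sK_mem_my_iff, IsLocalRing.mem_maximalIdeal,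
    IsLocalRing.mem_maximalIdeal, mem_nonunits_iff, mem_nonunits_iff, not_iff_not]
  exact isUnit_map_iff (f.stalkMap y).hom σ

/-- at a point where the stalk map is surjective, elements of the local ring lift. -/
theorem exists_φK_eq (t : T) (ht : Function.Surjective (f.stalkMap t)) {θ : T.functionField}
    (hθ : θ ∈ Oy t) : ∃ κ ∈ Oy (f t), φK f hdom κ = θ := by
  obtain ⟨τ, rfl⟩ := hθ
  obtain ⟨σ, rfl⟩ := ht τ
  exact ⟨sK (f t) σ, ⟨σ, rfl⟩, (sK_stalkMap f hdom t σ).symm⟩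

include hdom in
/-- at a point where the stalk map is surjective, generizations of the image lift. -/
theorem exists_preimage_of_specializes (t : T) (ht : Function.Surjective (f.stalkMap t)) (y : X)
    (hy : y ⤳ f t) : ∃ t' : T, t' ⤳ t ∧ f t' = y := by
  have hbij : Function.Bijective (f.stalkMap t) := ⟨stalkMap_injective f hdom t, ht⟩
  have hiso : IsIso (f.stalkMap t) := (ConcreteCategory.isIso_iff_bijective _).2 hbij
  have hy' : y ∈ Set.range (X.fromSpecStalk (f t)) := by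
    rw [Scheme.range_fromSpecStalk]; exact hy
  obtain ⟨p, rfl⟩ := hy'
  have h := Scheme.SpecMap_stalkMap_fromSpecStalk f (x := t)
  let p' := (inv (Spec.map (f.stalkMap t))) p
  refine ⟨T.fromSpecStalk t p', ?_, ?_⟩
  · have : T.fromSpecStalk t p' ∈ Set.range (T.fromSpecStalk t) := ⟨_, rfl⟩
    rw [Scheme.range_fromSpecStalk] at this
    exact this
  · rw [← Scheme.Hom.comp_apply, ← h, Scheme.Hom.comp_apply]
    congr 1
    show (Spec.map (f.stalkMap t)) ((inv (Spec.map (f.stalkMap t))) p) = p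
    rw [← Scheme.Hom.comp_apply, IsIso.inv_hom_id]
    rfl

end StalkMap

section Core

variable {X T : Scheme.{u}} [IsIntegral X] [IsIntegral T] (f : T ⟶ X)
  (hdom : f (genericPoint T) = genericPoint X)

/-- the germ at the generic point of a global function on `T`. -/
noncomputable abbrev gT (a : Γ(T, ⊤)) : T.functionField :=
  gK (⊤ : T.Opens) (Opens.mem_top _) a

theorem gT_mem_Oy (a : Γ(T, ⊤)) (t : T) : gT a ∈ Oy t :=
  ΓK_le_Oy ⊤ (Opens.mem_top _) t (Opens.mem_top _) (gK_mem _ _ _)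

theorem mem_basicOpen_top_iff (a : Γ(T, ⊤)) (t : T) : t ∈ T.basicOpen a ↔ gT a ∉ my t :=
  mem_basicOpen_iff ⊤ (Opens.mem_top _) a t (Opens.mem_top _)

/-- a generization `y` of `f t` at which `κ` is a unit, where `φ(κ) = a / e` with `e(t) ≠ 0`,
is the image of a point of `D(a)`. -/
theorem exists_preimage_mem_basicOpen (t : T) (ht : Function.Surjective (f.stalkMap t))
    (a e : Γ(T, ⊤)) (hte : t ∈ T.basicOpen e) (κ : X.functionField)
    (hκ : φK f hdom κ * gT e = gT a) (y : X) (hy : y ⤳ f t) (hκy : κ ∈ Oy y)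
    (hκy' : κ ∉ my y) : ∃ t', f t' = y ∧ t' ∈ T.basicOpen a := by
  obtain ⟨t', ht't, rfl⟩ := exists_preimage_of_specializes f hdom t ht y hy
  refine ⟨t', rfl, ?_⟩
  rw [mem_basicOpen_top_iff, ← hκ]
  apply mul_notMem_my (φK_mem_Oy f hdom t' hκy) (gT_mem_Oy e t')
  · rwa [φK_mem_my_iff f hdom t' hκy]
  · rw [← mem_basicOpen_top_iff]
    exact ht't.mem_open (T.basicOpen e).isOpen hte

/-- **The separating function.**  `s` finitely many points of the affine `T` mapping into the open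
`U`, `tm` a further point with `f tm ∈ V ∖ U`, no point of `s` a generization of `tm`, all stalk
maps surjective: there is a rational function `h` on `X`, regular at all the image points, equal
to `1` at the points `f t` (`t ∈ s`) and to `0` at `f tm`, of the form `h = a₁ / (a₁ + a₂)` on `T`
with `D(a₁) ⊆ f⁻¹ U`, `D(a₂) ⊆ f⁻¹ V`. -/
theorem exists_sepFun [IsAffine T] {U V : X.Opens} (s : Finset T)
    (hs : ∀ t ∈ s, Function.Surjective (f.stalkMap t))
    (hsU : ∀ t ∈ s, f t ∈ U) (tm : T) (htm : Function.Surjective (f.stalkMap tm))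
    (hxm : f tm ∉ U) (hxmV : f tm ∈ V) (hgen : ∀ t ∈ s, ¬ t ⤳ tm) :
    ∃ (h : X.functionField) (a₁ a₂ : Γ(T, ⊤)),
      T.basicOpen a₁ ≤ f ⁻¹ᵁ U ∧ T.basicOpen a₂ ≤ f ⁻¹ᵁ V ∧
      (∀ t ∈ s, t ∈ T.basicOpen (a₁ + a₂)) ∧ tm ∈ T.basicOpen (a₁ + a₂) ∧
      φK f hdom h * gT (a₁ + a₂) = gT a₁ ∧ φK f hdom (1 - h) * gT (a₁ + a₂) = gT a₂ ∧
      (∀ t ∈ s, h ∈ Oy (f t) ∧ (1 - h) ∈ my (f t)) ∧ h ∈ Oy (f tm) ∧ h ∈ my (f tm) := by
  classical
  have hTaff : IsAffineOpen (⊤ : T.Opens) := isAffineOpen_top T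
  obtain ⟨a₁, ha₁s, ha₁m, ha₁U⟩ := exists_basicOpen_sep hTaff s {tm} (f ⁻¹ᵁ U)
    (fun t _ => Opens.mem_top _) (fun t ht => hsU t ht) (by
      intro t ht z hz hzt
      rw [Finset.mem_singleton] at hz; subst hz
      exact hxm ((hzt.map f.continuous).mem_open U.isOpen (hsU t ht)))
  obtain ⟨a₂, ha₂m, ha₂s, ha₂V⟩ := exists_basicOpen_sep hTaff {tm} s (f ⁻¹ᵁ V)
    (fun t _ => Opens.mem_top _)
    (fun t ht => by rw [Finset.mem_singleton] at ht; subst ht; exact hxmV) (by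
      intro x hx z hz hzx
      rw [Finset.mem_singleton] at hx; subst hx
      exact hgen z hz hzx)
  replace ha₁m := ha₁m tm (Finset.mem_singleton_self _)
  replace ha₂m := ha₂m tm (Finset.mem_singleton_self _)
  have hg : gT (a₁ + a₂) = gT a₁ + gT a₂ := map_add _ _ _
  have h1s : ∀ t ∈ s, gT a₁ ∉ my t := fun t ht => (mem_basicOpen_top_iff a₁ t).1 (ha₁s t ht)
  have h2s : ∀ t ∈ s, gT a₂ ∈ my t := fun t ht =>
    not_not.1 (fun h => ha₂s t ht ((mem_basicOpen_top_iff a₂ t).2 h))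
  have h1m : gT a₁ ∈ my tm := not_not.1 (fun h => ha₁m ((mem_basicOpen_top_iff a₁ tm).2 h))
  have h2m : gT a₂ ∉ my tm := (mem_basicOpen_top_iff a₂ tm).1 ha₂m
  have hes : ∀ t ∈ s, gT a₁ + gT a₂ ∉ my t := by
    intro t ht h
    apply h1s t ht
    have := (my t).sub_mem h (h2s t ht)
    simpa using this
  have hem : gT a₁ + gT a₂ ∉ my tm := by
    intro h
    apply h2m
    have := (my tm).sub_mem h h1m
    simpa using this
  have he0 : gT a₁ + gT a₂ ≠ 0 := fun h => hem (h ▸ zero_mem_my tm)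
  have hesO : ∀ t : T, gT a₁ + gT a₂ ∈ Oy t := fun t =>
    Subring.add_mem _ (gT_mem_Oy a₁ t) (gT_mem_Oy a₂ t)
  set θ := gT a₁ * (gT a₁ + gT a₂)⁻¹ with hθdef
  have hθe : θ * (gT a₁ + gT a₂) = gT a₁ := by
    rw [hθdef, mul_assoc, inv_mul_cancel₀ he0, mul_one]
  have hθ' : (1 - θ) * (gT a₁ + gT a₂) = gT a₂ := by rw [sub_mul, hθe]; ring
  have hθ'' : 1 - θ = gT a₂ * (gT a₁ + gT a₂)⁻¹ := (eq_mul_inv_iff_mul_eq₀ he0).2 hθ'
  have hOs : ∀ t ∈ s, θ ∈ Oy t := fun t ht =>
    Subring.mul_mem _ (gT_mem_Oy a₁ t) (inv_mem_Oy (hesO t) (hes t ht))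
  have hOm : θ ∈ Oy tm := Subring.mul_mem _ (gT_mem_Oy a₁ tm) (inv_mem_Oy (hesO tm) hem)
  have hθm : θ ∈ my tm := mul_mem_my' h1m (inv_mem_Oy (hesO tm) hem)
  have hθs : ∀ t ∈ s, 1 - θ ∈ my t := by
    intro t ht
    rw [hθ'']
    exact mul_mem_my' (h2s t ht) (inv_mem_Oy (hesO t) (hes t ht))
  obtain ⟨h, hhm, hφ⟩ := exists_φK_eq f hdom tm htm hOm
  have hhs : ∀ t ∈ s, h ∈ Oy (f t) := by
    intro t ht
    obtain ⟨κ, hκ, hφκ⟩ := exists_φK_eq f hdom t (hs t ht) (hOs t ht)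
    have : κ = h := φK_injective f hdom (hφκ.trans hφ.symm)
    exact this ▸ hκ
  refine ⟨h, a₁, a₂, ha₁U, ha₂V, ?_, ?_, ?_, ?_, ?_, hhm, ?_⟩
  · intro t ht; rw [mem_basicOpen_top_iff, hg]; exact hes t ht
  · rw [mem_basicOpen_top_iff, hg]; exact hem
  · rw [hφ, hg]; exact hθe
  · rw [map_sub, map_one, hφ, hg]; exact hθ'
  · intro t ht
    refine ⟨hhs t ht, ?_⟩
    have h1 : (1 - h) ∈ Oy (f t) := Subring.sub_mem _ (Subring.one_mem _) (hhs t ht)
    rw [← φK_mem_my_iff f hdom t h1, map_sub, map_one, hφ]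
    exact hθs t ht
  · rw [← φK_mem_my_iff f hdom tm hhm, hφ]; exact hθm

end Core

section Extend

variable {X : Scheme.{u}}

/-- on a quasi-compact quasi-separated open `N`, a basic open `D(b)` of an open `U ⊇ D(h₁)` that is
contained in `D(h₁)` (`h₁` a function on `N`) is the non-vanishing locus of a function on `N`. -/
theorem exists_section_basicOpen_eq {N U : X.Opens} (hNc : IsCompact (N : Set X))
    (hNqs : IsQuasiSeparated (N : Set X)) (h₁ : Γ(X, N)) (hle : X.basicOpen h₁ ≤ U) (b : Γ(X, U))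
    (hb : X.basicOpen b ≤ X.basicOpen h₁) : ∃ G : Γ(X, N), X.basicOpen G = X.basicOpen b := by
  obtain ⟨n, H, hH⟩ := exists_eq_pow_mul_of_isCompact_of_isQuasiSeparated X N hNc hNqs h₁
    (X.presheaf.map (homOfLE hle).op b)
  dsimp only [TopCat.Presheaf.restrictOpenCommRingCat_apply] at hH
  refine ⟨H * h₁, ?_⟩
  have hu : IsUnit (X.presheaf.map (homOfLE (X.basicOpen_le h₁)).op h₁) :=
    X.toRingedSpace.isUnit_res_basicOpen h₁
  have h1 := congrArg X.basicOpen hH
  rw [Scheme.basicOpen_res, Scheme.basicOpen_mul, Scheme.basicOpen_res,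
    Scheme.basicOpen_of_isUnit _ (hu.pow n)] at h1
  rw [Scheme.basicOpen_mul, inf_comm, h1]
  apply le_antisymm
  · exact inf_le_right.trans inf_le_right
  · exact le_inf hb (le_inf hb le_rfl)

end Extend

section Main

variable {X T : Scheme.{u}} [IsIntegral X] [IsIntegral T] [IsAffine T] [QuasiSeparatedSpace X]
  (f : T ⟶ X) (hdom : f (genericPoint T) = genericPoint X)

include hdom in
/-- **Adding one point.** -/
theorem exists_affine_insert {U : X.Opens} (hU : IsAffineOpen U) (s : Finset T)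
    (hs : ∀ t ∈ s, Function.Surjective (f.stalkMap t)) (hsU : ∀ t ∈ s, f t ∈ U)
    (tm : T) (htm : Function.Surjective (f.stalkMap tm)) (hxm : f tm ∉ U)
    (hgen : ∀ t ∈ s, ¬ t ⤳ tm) :
    ∃ U' : X.Opens, IsAffineOpen U' ∧ (∀ t ∈ s, f t ∈ U') ∧ f tm ∈ U' := by
  classical
  obtain ⟨V, hV, hxmV, -⟩ := exists_isAffineOpen_mem_and_subset (x := f tm) (U := ⊤) (Opens.mem_top _)
  rcases s.eq_empty_or_nonempty with rfl | hne
  · exact ⟨V, hV, by simp, hxmV⟩
  obtain ⟨t₀, ht₀⟩ := hne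
  have hξU : genericPoint X ∈ U := genericPoint_mem_of_mem (hsU t₀ ht₀)
  have hξV : genericPoint X ∈ V := genericPoint_mem_of_mem hxmV
  obtain ⟨h, a₁, a₂, ha₁U, ha₂V, hes, hem, hφ₁, hφ₂, hhs, hhm, hhm'⟩ :=
    exists_sepFun f hdom s hs hsU tm htm hxm hxmV hgen
  -- basic facts on `h`
  have h1hm : (1 - h) ∈ Oy (f tm) := Subring.sub_mem _ (Subring.one_mem _) hhm
  have hhs' : ∀ t ∈ s, h ∉ my (f t) := by
    intro t ht hmem
    have := (my (f t)).add_mem hmem (hhs t ht).2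
    rw [add_sub_cancel] at this
    exact one_notMem_my _ this
  have h1hm' : (1 - h) ∉ my (f tm) := by
    intro hmem
    have := (my (f tm)).add_mem hhm' hmem
    rw [add_sub_cancel] at this
    exact one_notMem_my _ this
  -- domains of regularity
  let T' : Finset X := s.image f
  have hT'U : ∀ x ∈ T', x ∈ U := by
    intro x hx
    obtain ⟨t, ht, rfl⟩ := Finset.mem_image.1 hx
    exact hsU t ht
  obtain ⟨b₁, a₁', hb₁, hb₁eq⟩ := exists_common_denominator hU hξU T' ⟨f t₀, Finset.mem_image_of_mem f ht₀⟩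
    hT'U h (by
      intro x hx
      obtain ⟨t, ht, rfl⟩ := Finset.mem_image.1 hx
      exact (hhs t ht).1)
  have hξU₁ : genericPoint X ∈ X.basicOpen b₁ :=
    genericPoint_mem_of_mem (hb₁ _ (Finset.mem_image_of_mem f ht₀))
  have hhU₁ : h ∈ ΓK (X.basicOpen b₁) hξU₁ := mem_ΓK_basicOpen_of_mul U hξU b₁ a₁' hξU₁ hb₁eq
  have hU₁aff : IsAffineOpen (X.basicOpen b₁) := hU.basicOpen b₁
  obtain ⟨c₁, c₁', hc₁, hc₁eq⟩ := exists_common_denominator hV hξV {f tm} ⟨f tm, Finset.mem_singleton_self _⟩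
    (by intro x hx; rw [Finset.mem_singleton] at hx; subst hx; exact hxmV) h
    (by intro x hx; rw [Finset.mem_singleton] at hx; subst hx; exact hhm)
  replace hc₁ := hc₁ _ (Finset.mem_singleton_self _)
  have hξV₁ : genericPoint X ∈ X.basicOpen c₁ := genericPoint_mem_of_mem hc₁
  have hhV₁ : h ∈ ΓK (X.basicOpen c₁) hξV₁ := mem_ΓK_basicOpen_of_mul V hξV c₁ c₁' hξV₁ hc₁eq
  have hV₁aff : IsAffineOpen (X.basicOpen c₁) := hV.basicOpen c₁
  obtain ⟨hU₁, hhU₁eq⟩ := hhU₁
  obtain ⟨hV₁, hhV₁eq⟩ := hhV₁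
  -- shrinking
  obtain ⟨b₂, hb₂, hb₂V⟩ := exists_basicOpen_inf_le hU₁aff (1 - hU₁) V T'
    (fun x hx => hb₁ x hx) (by
      intro x hx y hyx hy
      obtain ⟨t, ht, rfl⟩ := Finset.mem_image.1 hx
      have hyU₁ : y ∈ X.basicOpen b₁ := X.basicOpen_le _ hy
      have hg : gK (X.basicOpen b₁) hξU₁ (1 - hU₁) = 1 - h := by
        rw [map_sub, map_one, hhU₁eq]
      have hy1 : (1 - h) ∈ Oy y := hg ▸ ΓK_le_Oy _ hξU₁ y hyU₁ (gK_mem _ _ _)
      have hy2 : (1 - h) ∉ my y := hg ▸ (mem_basicOpen_iff _ hξU₁ (1 - hU₁) y hyU₁).1 hy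
      obtain ⟨t', rfl, ht'⟩ := exists_preimage_mem_basicOpen f hdom t (hs t ht) a₂ (a₁ + a₂)
        (hes t ht) (1 - h) hφ₂ y hyx hy1 hy2
      exact ha₂V ht')
  obtain ⟨c₂, hc₂, hc₂U⟩ := exists_basicOpen_inf_le hV₁aff hV₁ U {f tm}
    (by intro x hx; rw [Finset.mem_singleton] at hx; subst hx; exact hc₁) (by
      intro x hx y hyx hy
      rw [Finset.mem_singleton] at hx; subst hx
      have hyV₁ : y ∈ X.basicOpen c₁ := X.basicOpen_le _ hy
      have hy1 : h ∈ Oy y := hhV₁eq ▸ ΓK_le_Oy _ hξV₁ y hyV₁ (gK_mem _ _ _)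
      have hy2 : h ∉ my y := hhV₁eq ▸ (mem_basicOpen_iff _ hξV₁ hV₁ y hyV₁).1 hy
      obtain ⟨t', rfl, ht'⟩ := exists_preimage_mem_basicOpen f hdom tm htm a₁ (a₁ + a₂)
        hem h hφ₁ y hyx hy1 hy2
      exact ha₁U ht')
  replace hc₂ := hc₂ _ (Finset.mem_singleton_self _)
  have hU₂aff : IsAffineOpen (X.basicOpen b₂) := hU₁aff.basicOpen b₂
  have hV₂aff : IsAffineOpen (X.basicOpen c₂) := hV₁aff.basicOpen c₂
  have hU₂U₁ : X.basicOpen b₂ ≤ X.basicOpen b₁ := X.basicOpen_le b₂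
  have hV₂V₁ : X.basicOpen c₂ ≤ X.basicOpen c₁ := X.basicOpen_le c₂
  have hξU₂ : genericPoint X ∈ X.basicOpen b₂ :=
    genericPoint_mem_of_mem (hb₂ _ (Finset.mem_image_of_mem f ht₀))
  have hξV₂ : genericPoint X ∈ X.basicOpen c₂ := genericPoint_mem_of_mem hc₂
  -- the union
  set N : X.Opens := X.basicOpen b₂ ⊔ X.basicOpen c₂ with hNdef
  have hξN : genericPoint X ∈ N := Or.inl hξU₂
  have hhN : h ∈ ΓK N hξN := mem_ΓK_sup hξU₂ hξV₂ hξN
    (ΓK_anti hU₂U₁ hξU₂ hξU₁ ⟨hU₁, hhU₁eq⟩) (ΓK_anti hV₂V₁ hξV₂ hξV₁ ⟨hV₁, hhV₁eq⟩)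
  obtain ⟨h₁, hh₁⟩ := hhN
  have hh₁' : gK N hξN (1 - h₁) = 1 - h := by rw [map_sub, map_one, hh₁]
  have hU₂N : X.basicOpen b₂ ≤ N := le_sup_left
  have hV₂N : X.basicOpen c₂ ≤ N := le_sup_right
  have hA : X.basicOpen h₁ ≤ U := by
    intro y hy
    have hyN : y ∈ N := X.basicOpen_le _ hy
    rcases hyN with hyU₂ | hyV₂
    · exact X.basicOpen_le b₁ (hU₂U₁ hyU₂)
    · apply hc₂U
      refine ⟨hyV₂, ?_⟩
      show y ∈ X.basicOpen hV₁
      rw [mem_basicOpen_iff _ hξV₁ hV₁ y (hV₂V₁ hyV₂), hhV₁eq, ← hh₁]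
      exact (mem_basicOpen_iff _ hξN h₁ y (X.basicOpen_le _ hy)).1 hy
  have hB : X.basicOpen (1 - h₁) ≤ V := by
    intro y hy
    have hyN : y ∈ N := X.basicOpen_le _ hy
    rcases hyN with hyU₂ | hyV₂
    · apply hb₂V
      refine ⟨hyU₂, ?_⟩
      have hg : gK (X.basicOpen b₁) hξU₁ (1 - hU₁) = 1 - h := by
        rw [map_sub, map_one, hhU₁eq]
      show y ∈ X.basicOpen (1 - hU₁)
      rw [mem_basicOpen_iff _ hξU₁ (1 - hU₁) y (hU₂U₁ hyU₂), hg, ← hh₁']
      exact (mem_basicOpen_iff _ hξN (1 - h₁) y (X.basicOpen_le _ hy)).1 hy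
    · exact X.basicOpen_le c₁ (hV₂V₁ hyV₂)
  -- the charts
  have hT'h₁ : ∀ x ∈ T', x ∈ X.basicOpen h₁ := by
    intro x hx
    obtain ⟨t, ht, rfl⟩ := Finset.mem_image.1 hx
    rw [mem_basicOpen_iff _ hξN h₁ (f t) (hU₂N (hb₂ _ hx)), hh₁]
    exact hhs' t ht
  obtain ⟨b, hbT', -, hbh₁⟩ := exists_basicOpen_sep hU T' ∅ (X.basicOpen h₁) hT'U hT'h₁ (by simp)
  have hxmh₁ : f tm ∈ X.basicOpen (1 - h₁) := by
    rw [mem_basicOpen_iff _ hξN (1 - h₁) (f tm) (hV₂N hc₂), hh₁']
    exact h1hm'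
  obtain ⟨c, hcm, -, hch₁⟩ := exists_basicOpen_sep hV {f tm} ∅ (X.basicOpen (1 - h₁))
    (by intro x hx; rw [Finset.mem_singleton] at hx; subst hx; exact hxmV)
    (by intro x hx; rw [Finset.mem_singleton] at hx; subst hx; exact hxmh₁) (by simp)
  replace hcm := hcm _ (Finset.mem_singleton_self _)
  have hNc : IsCompact (N : Set X) := by
    rw [hNdef, Opens.coe_sup]
    exact hU₂aff.isCompact.union hV₂aff.isCompact
  have hNqs : IsQuasiSeparated (N : Set X) := isQuasiSeparated_univ.of_subset (Set.subset_univ _)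
  obtain ⟨G₁', hG₁'⟩ := exists_section_basicOpen_eq hNc hNqs h₁ hA b hbh₁
  obtain ⟨G₂', hG₂'⟩ := exists_section_basicOpen_eq hNc hNqs (1 - h₁) hB c hch₁
  have hbN : X.basicOpen b ≤ N := hbh₁.trans (X.basicOpen_le h₁)
  have hcN : X.basicOpen c ≤ N := hch₁.trans (X.basicOpen_le (1 - h₁))
  have hN'N : X.basicOpen b ⊔ X.basicOpen c ≤ N := sup_le hbN hcN
  let G₁ := X.presheaf.map (homOfLE hN'N).op G₁'
  let G₂ := X.presheaf.map (homOfLE hN'N).op G₂'
  have hG₁ : X.basicOpen G₁ = X.basicOpen b := by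
    rw [Scheme.basicOpen_res, hG₁']; exact inf_eq_right.2 le_sup_left
  have hG₂ : X.basicOpen G₂ = X.basicOpen c := by
    rw [Scheme.basicOpen_res, hG₂']; exact inf_eq_right.2 le_sup_right
  have haff := isAffineOpen_basicOpen_add (hU.basicOpen b) (hV.basicOpen c) G₁ G₂ hG₁ hG₂
  -- membership of the points
  have key : ∀ y : X, (y ∈ X.basicOpen G₁ ∧ y ∉ X.basicOpen G₂) ∨
      (y ∈ X.basicOpen G₂ ∧ y ∉ X.basicOpen G₁) → y ∈ X.basicOpen (G₁ + G₂) := by
    intro y hy
    have hyN' : y ∈ X.basicOpen b ⊔ X.basicOpen c := by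
      rcases hy with hy | hy
      · exact X.basicOpen_le G₁ hy.1
      · exact X.basicOpen_le G₂ hy.1
    have hξN' : genericPoint X ∈ X.basicOpen b ⊔ X.basicOpen c := genericPoint_mem_of_mem hyN'
    rw [mem_basicOpen_iff _ hξN' _ y hyN', map_add]
    rcases hy with ⟨hy1, hy2⟩ | ⟨hy1, hy2⟩
    · intro hmem
      have h2 : gK _ hξN' G₂ ∈ my y :=
        not_not.1 (fun hh => hy2 ((mem_basicOpen_iff _ hξN' G₂ y hyN').2 hh))
      have := (my y).sub_mem hmem h2
      rw [add_sub_cancel_right] at this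
      exact (mem_basicOpen_iff _ hξN' G₁ y hyN').1 hy1 this
    · intro hmem
      have h2 : gK _ hξN' G₁ ∈ my y :=
        not_not.1 (fun hh => hy2 ((mem_basicOpen_iff _ hξN' G₁ y hyN').2 hh))
      have := (my y).sub_mem hmem h2
      rw [add_sub_cancel_left] at this
      exact (mem_basicOpen_iff _ hξN' G₂ y hyN').1 hy1 this
  refine ⟨X.basicOpen (G₁ + G₂), haff, ?_, ?_⟩
  · intro t ht
    apply key
    left
    have hx : f t ∈ T' := Finset.mem_image_of_mem f ht
    rw [hG₁, hG₂]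
    refine ⟨hbT' _ hx, fun hc => ?_⟩
    have := hch₁ hc
    rw [mem_basicOpen_iff _ hξN (1 - h₁) (f t) (hU₂N (hb₂ _ hx)), hh₁'] at this
    exact this (hhs t ht).2
  · apply key
    right
    rw [hG₁, hG₂]
    refine ⟨hcm, fun hb => ?_⟩
    have := hbh₁ hb
    rw [mem_basicOpen_iff _ hξN h₁ (f tm) (hV₂N hc₂), hh₁] at this
    exact this hhm'

include hdom in
/-- **Integral case.**  `T` integral affine, `X` integral quasi-separated, `f : T ⟶ X` dominant,
`s` finitely many points of `T` at which the stalk map is surjective: the points `f t`, `t ∈ s`,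
lie in a common affine open of `X`. -/
theorem exists_affine_of_integral (s : Finset T)
    (hs : ∀ t ∈ s, Function.Surjective (f.stalkMap t)) :
    ∃ U : X.Opens, IsAffineOpen U ∧ ∀ t ∈ s, f t ∈ U := by
  classical
  induction s using Finset.induction_on with
  | empty => exact ⟨⊥, isAffineOpen_bot X, by simp⟩
  | insert tm s hnot ih =>
    obtain ⟨U, hU, hsU⟩ := ih (fun t ht => hs t (Finset.mem_insert_of_mem ht))
    by_cases hxm : f tm ∈ U
    · refine ⟨U, hU, fun t ht => ?_⟩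
      rcases Finset.mem_insert.1 ht with rfl | ht
      · exact hxm
      · exact hsU t ht
    · obtain ⟨U', hU', hs'U', hmU'⟩ := exists_affine_insert f hdom hU
        (s.filter (fun t => ¬ t ⤳ tm))
        (fun t ht => hs t (Finset.mem_insert_of_mem (Finset.mem_filter.1 ht).1))
        (fun t ht => hsU t (Finset.mem_filter.1 ht).1) tm
        (hs tm (Finset.mem_insert_self _ _)) hxm (fun t ht => (Finset.mem_filter.1 ht).2)
      refine ⟨U', hU', fun t ht => ?_⟩
      rcases Finset.mem_insert.1 ht with rfl | ht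
      · exact hmU'
      · by_cases hg : t ⤳ tm
        · exact (hg.map f.continuous).mem_open U'.isOpen hmU'
        · exact hs'U' t (Finset.mem_filter.2 ⟨ht, hg⟩)

end Main

end Groth.Agent.Lib.Seat24.AffImg
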