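/-
Seat24: reduction of the "images of points of an affine scheme with stalk isomorphisms lie in an
affine open" statement to irreducible components: for each irreducible component `Z` of `X`, the
points `f t` (`t ∈ s`) on `Z` lie in an affine open of the reduced subscheme on `Z`.
-/
import Mathlib
import Groth.Agent.Lib.Seat24AffImg
import Groth.Agent.Lib.Helper11RedCl

set_option autoImplicit false
universe u

namespace Groth.Agent.Lib.Seat24.AffImgRed

open AlgebraicGeometry CategoryTheory TopologicalSpace
open Groth.Agent.Lib.Seat24.AffImg Groth.Agent.Lib.Helper11RedCl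

variable {T X : Scheme.{u}} (f : T ⟶ X)

/-- a generization `η` of a point `t` with stalk isomorphism, mapping to a maximal point of `X`,
is a maximal point of `T`. -/
theorem closure_mem_irreducibleComponents_of_isIso (t : T) [IsIso (f.stalkMap t)] (η : T)
    (hη : η ⤳ t) (hξ : closure {f η} ∈ irreducibleComponents X) :
    closure {η} ∈ irreducibleComponents T := by
  refine ⟨isIrreducible_singleton.closure, ?_⟩
  intro C hC hle
  obtain ⟨γ, hγ⟩ := QuasiSober.sober hC.closure isClosed_closure
  have hγη : γ ⤳ η := by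
    rw [specializes_iff_mem_closure, hγ.def]
    exact subset_closure (hle (subset_closure rfl))
  have hfγ : f γ ⤳ f η := hγη.map f.continuous
  have hfeq : f γ = f η := by
    have h1 : closure {f η} ⊆ closure {f γ} := specializes_iff_closure_subset.1 hfγ
    have h2 : closure {f γ} ⊆ closure {f η} := hξ.2 isIrreducible_singleton.closure h1
    exact (hfγ.antisymm (specializes_iff_closure_subset.2 h2)).eq
  have hγeq : γ = η := eq_of_specializes_of_isIso f t (hγη.trans hη) hη hfeq
  subst hγeq
  show C ⊆ closure {γ}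
  rw [hγ.def]
  exact subset_closure

/-- the generic point of an irreducible scheme mapping homeomorphically onto `closure {y₀}` goes to
`y₀`. -/
theorem apply_genericPoint_eq {Y W : Scheme.{u}} (j : W ⟶ Y) [IrreducibleSpace W] (y₀ : Y)
    (hr : Set.range j = closure {y₀}) : j (genericPoint W) = y₀ := by
  have h1 := (genericPoint_spec W).image j.continuous
  rw [Set.image_univ, hr, closure_closure] at h1
  exact h1.eq isGenericPoint_closure

/-- the reduced closed subscheme on an irreducible closed set is irreducible. -/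
theorem irreducibleSpace_subscheme_vanishingIdeal {Y : Scheme.{u}} (C : Closeds Y)
    (hC : IsIrreducible (C : Set Y)) :
    IrreducibleSpace (Scheme.IdealSheafData.vanishingIdeal C).subscheme := by
  let j := (Scheme.IdealSheafData.vanishingIdeal C).subschemeι
  have hr : Set.range j = (C : Set Y) := range_subschemeι_vanishingIdeal C
  have hirr : IsIrreducible (Set.range j) := hr ▸ hC
  have := (isIrreducible_iff_irreducibleSpace (s := Set.range j)).1 hirr
  exact (j.isEmbedding.toHomeomorph).irreducibleSpace_iff.2 this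

open Scheme.IdealSheafData in
/-- **Reduction to components.**  `T` affine, `X` quasi-separated, `f : T ⟶ X` injective on maximal
points, `s` finitely many points of `T` with stalk isomorphisms.  For every irreducible component
`Z` of `X`, the points `f t` (`t ∈ s`) lying on `Z` are in an affine open of the reduced closed
subscheme on `Z`. -/
theorem exists_affine_component [IsAffine T] [QuasiSeparatedSpace X]
    (hinj : ∀ η η' : T, closure ({η} : Set T) ∈ irreducibleComponents (T : Type u) →
      closure ({η'} : Set T) ∈ irreducibleComponents (T : Type u) → f η = f η' → η = η')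
    (s : Finset T) (hs : ∀ t ∈ s, IsIso (f.stalkMap t))
    (Z : Set X) (hZ : Z ∈ irreducibleComponents (X : Type u)) :
    ∃ V : (vanishingIdeal ⟨Z, isClosed_of_mem_irreducibleComponents Z hZ⟩).subscheme.Opens,
      IsAffineOpen V ∧ ∀ t ∈ s, f t ∈ Z →
        f t ∈ (vanishingIdeal ⟨Z, isClosed_of_mem_irreducibleComponents Z hZ⟩).subschemeι ''
          (V : Set _) := by
  classical
  set Zc : Closeds X := ⟨Z, isClosed_of_mem_irreducibleComponents Z hZ⟩ with hZc
  by_cases hex : ∃ t₀ ∈ s, f t₀ ∈ Z
  swap
  · exact ⟨⊥, isAffineOpen_bot _, fun t ht htZ => (hex ⟨t, ht, htZ⟩).elim⟩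
  obtain ⟨t₀, ht₀, ht₀Z⟩ := hex
  obtain ⟨ξ, hξ⟩ := QuasiSober.sober hZ.1 Zc.isClosed
  have hξZ : closure {ξ} = Z := hξ.def
  have key : ∀ t ∈ s, f t ∈ Z →
      ∃ η : T, η ⤳ t ∧ f η = ξ ∧ closure {η} ∈ irreducibleComponents T := by
    intro t ht htZ
    have := hs t ht
    have h1 : ξ ⤳ f t := by rw [specializes_iff_mem_closure, hξZ]; exact htZ
    obtain ⟨η, hη, hfη⟩ := exists_preimage_of_specializes_of_isIso f t ξ h1
    refine ⟨η, hη, hfη, closure_mem_irreducibleComponents_of_isIso f t η hη ?_⟩
    rw [hfη, hξZ]; exact hZ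
  obtain ⟨η, hη₀, hfη, hηmax⟩ := key t₀ ht₀ ht₀Z
  have hall : ∀ t ∈ s, f t ∈ Z → η ⤳ t := by
    intro t ht htZ
    obtain ⟨η', hη', hfη', hη'max⟩ := key t ht htZ
    have : η' = η := hinj η' η hη'max hηmax (hfη'.trans hfη.symm)
    exact this ▸ hη'
  set Cη : Closeds T := ⟨closure {η}, isClosed_closure⟩ with hCη
  let ιT := (vanishingIdeal Cη).subschemeι
  let ιZ := (vanishingIdeal Zc).subschemeι
  have hrT : Set.range ιT = closure {η} := range_subschemeι_vanishingIdeal Cη
  have hrZ : Set.range ιZ = Z := range_subschemeι_vanishingIdeal Zc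
  have hirrT : IrreducibleSpace (vanishingIdeal Cη).subscheme :=
    irreducibleSpace_subscheme_vanishingIdeal Cη isIrreducible_singleton.closure
  have hirrZ : IrreducibleSpace (vanishingIdeal Zc).subscheme :=
    irreducibleSpace_subscheme_vanishingIdeal Zc hZ.1
  have hintT : IsIntegral (vanishingIdeal Cη).subscheme :=
    isIntegral_of_irreducibleSpace_of_isReduced _
  have hintZ : IsIntegral (vanishingIdeal Zc).subscheme :=
    isIntegral_of_irreducibleSpace_of_isReduced _
  have haffT : IsAffine (vanishingIdeal Cη).subscheme := isAffine_of_isAffineHom ιT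
  have hqsZ : QuasiSeparatedSpace (vanishingIdeal Zc).subscheme :=
    quasiSeparatedSpace_of_quasiSeparated ιZ
  obtain ⟨f', hf'⟩ := exists_lift_of_range_subset (ιT ≫ f) Zc (by
    rintro _ ⟨x, rfl⟩
    rw [Scheme.Hom.comp_apply]
    have h1 : ιT x ∈ closure {η} := hrT ▸ ⟨x, rfl⟩
    have h2 := image_closure_subset_closure_image f.continuous ⟨_, h1, rfl⟩
    rw [Set.image_singleton, hfη, hξZ] at h2
    exact h2)
  have hgT : ιT (genericPoint _) = η := apply_genericPoint_eq ιT η hrT
  have hgZ : ιZ (genericPoint _) = ξ := apply_genericPoint_eq ιZ ξ (hrZ.trans hξZ.symm)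
  have hdom : f' (genericPoint _) = genericPoint _ := by
    apply ιZ.isEmbedding.injective
    rw [← Scheme.Hom.comp_apply, hf', Scheme.Hom.comp_apply, hgT, hfη, hgZ]
  let s' : Finset (vanishingIdeal Cη).subscheme :=
    (s.filter (fun t => f t ∈ Z)).preimage ιT ιT.isEmbedding.injective.injOn
  have hs' : ∀ t' ∈ s', Function.Surjective (f'.stalkMap t') := by
    intro t' ht'
    have ht's : ιT t' ∈ s := (Finset.mem_filter.1 (Finset.mem_preimage.1 ht')).1
    have := hs _ ht's
    have h0 : Function.Surjective (f.stalkMap (ιT t')) :=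
      (ConcreteCategory.bijective_of_isIso (f.stalkMap (ιT t'))).2
    have h1 : Function.Surjective ((ιT ≫ f).stalkMap t') := by
      rw [Scheme.Hom.stalkMap_comp]
      exact (ιT.stalkMap_surjective t').comp h0
    have h2 : Function.Surjective ((f' ≫ ιZ).stalkMap t') := by
      rw [Scheme.Hom.stalkMap_congr_hom _ _ hf' t']
      exact h1.comp (ConcreteCategory.bijective_of_isIso
        (X.presheaf.stalkCongr (.of_eq (hf' ▸ rfl))).hom).2
    rw [Scheme.Hom.stalkMap_comp] at h2
    exact Function.Surjective.of_comp (g := ιZ.stalkMap (f' t')) h2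
  obtain ⟨V, hV, hVs⟩ := exists_affine_of_integral f' hdom s' hs'
  refine ⟨V, hV, fun t ht htZ => ?_⟩
  have htη : t ∈ closure {η} := specializes_iff_mem_closure.1 (hall t ht htZ)
  obtain ⟨t', rfl⟩ : t ∈ Set.range ιT := hrT ▸ htη
  have ht's' : t' ∈ s' := Finset.mem_preimage.2 (Finset.mem_filter.2 ⟨ht, htZ⟩)
  refine ⟨f' t', hVs t' ht's', ?_⟩
  rw [← Scheme.Hom.comp_apply, hf', Scheme.Hom.comp_apply]

open Scheme.IdealSheafData in
/-- **Assembly.**  Given the per-component criterion (`hcomp`, Stacks 09NH), the images of the points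
of `s` lie in a common affine open. -/
theorem exists_affine_of_components [IsAffine T] [QuasiSeparatedSpace X]
    (hinj : ∀ η η' : T, closure ({η} : Set T) ∈ irreducibleComponents (T : Type u) →
      closure ({η'} : Set T) ∈ irreducibleComponents (T : Type u) → f.base η = f.base η' → η = η')
    (s : Finset T) (hs : ∀ t ∈ s, IsIso (f.stalkMap t))
    (hcomp : ∀ (T' : Finset X),
      (∀ (Z : Set X) (hZ : Z ∈ irreducibleComponents (X : Type u)),
        ∃ V : (vanishingIdeal (⟨Z, isClosed_of_mem_irreducibleComponents Z hZ⟩ :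
            TopologicalSpace.Closeds X)).subscheme.Opens,
          IsAffineOpen V ∧ ∀ t ∈ T', t ∈ Z → t ∈ (vanishingIdeal
            (⟨Z, isClosed_of_mem_irreducibleComponents Z hZ⟩ :
              TopologicalSpace.Closeds X)).subschemeι.base '' (V : Set _)) →
      ∃ U : X.Opens, IsAffineOpen U ∧ ∀ t ∈ T', t ∈ U) :
    ∃ U : X.Opens, IsAffineOpen U ∧ ∀ t ∈ s, f.base t ∈ U := by
  classical
  obtain ⟨U, hU, hUs⟩ := hcomp (s.image f) (by
    intro Z hZ
    obtain ⟨V, hV, hVs⟩ := exists_affine_component f hinj s hs Z hZ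
    refine ⟨V, hV, fun x hx hxZ => ?_⟩
    obtain ⟨t, ht, rfl⟩ := Finset.mem_image.1 hx
    exact hVs t ht hxZ)
  exact ⟨U, hU, fun t ht => hUs _ (Finset.mem_image_of_mem f ht)⟩

end Groth.Agent.Lib.Seat24.AffImgRed
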