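import Groth.Agent.Lib.Helper25GLnEmbed

/-!
# A commutative Hopf algebra over a field all of whose comatrices are trivial is the base field
(helper24)

If every multiplicative matrix (`IsComatrix`) over the Hopf algebra `A` is the identity matrix, then
every finite-dimensional subcomodule of the regular comodule is trivial, hence (local finiteness)
`Δ x = x ⊗ 1` for all `x`, hence `x = ε(x) · 1`.
-/

set_option autoImplicit false
universe u

namespace Groth.Agent.Lib.Seat24.ComatTriv

open TensorProduct HopfRep Module Groth.Agent.Lib.Helper25

theorem eq_algebraMap_counit (k A : Type u) [Field k] [CommRing A] [HopfAlgebra k A]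
    (h : ∀ (n : ℕ) (a : Matrix (Fin n) (Fin n) A), IsComatrix (k := k) a → a = 1) (x : A) :
    x = algebraMap k A (CoalgebraStruct.counit (R := k) (A := A) x) := by
  classical
  obtain ⟨U, hUfg, hUsub, hx⟩ := exists_fg_subcomod_mem (k := k) (A := A) (V := A) x
  let _ := subComod U hUsub
  have : Module.Finite k U := Module.Finite.iff_fg.mpr hUfg
  have hj := isComodHom_subtype U hUsub
  let b := Module.finBasis k U
  have ha := isComatrix_comatrix (A := A) b
  have hone := h _ _ ha
  have hco : ∀ u : U, Comod.coact (k := k) (A := A) u = u ⊗ₜ[k] (1 : A) := by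
    intro u
    rw [coact_eq_sum b u]
    simp only [hone, Matrix.one_apply, smul_ite, smul_zero, Finset.sum_ite_eq, Finset.mem_univ,
      if_true]
    conv_rhs => rw [← b.sum_repr u, TensorProduct.sum_tmul]
    refine Finset.sum_congr rfl (fun i _ => ?_)
    rw [TensorProduct.smul_tmul]
  have hx1 : CoalgebraStruct.comul (R := k) x = x ⊗ₜ[k] (1 : A) := by
    have := LinearMap.congr_fun hj ⟨x, hx⟩
    simp only [LinearMap.comp_apply] at this
    rw [hco] at this
    simp only [LinearMap.rTensor_tmul, Submodule.subtype_apply] at this
    exact this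
  have h2 := LinearMap.congr_fun (Coalgebra.rTensor_counit_comp_comul (R := k) (A := A)) x
  rw [LinearMap.comp_apply, hx1, LinearMap.rTensor_tmul] at h2
  have h3 := congrArg (TensorProduct.lid k A) h2
  simp at h3
  rw [Algebra.algebraMap_eq_smul_one]
  exact h3.symm

end Groth.Agent.Lib.Seat24.ComatTriv
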