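import Mathlib.RingTheory.Flat.FaithfullyFlat.Basic
import Mathlib.RingTheory.TensorProduct.Maps
import Mathlib.Algebra.Category.CommAlgCat.Basic
import Mathlib.Algebra.BigOperators.Fin

/-!
# The Amitsur complex of a faithfully flat algebra, as an iterated tensor tower

`M 0 = R`, `M (j+1) = A ⊗[R] M j`; cofaces `δ j i : M j →ₐ M (j+1)` (insert `1` in slot `i`),
inclusions `ι j i : A →ₐ M j`; the alternating sum `d j` of the cofaces; exactness of `d j, d (j+1)`
for faithfully flat `A`.
-/

set_option autoImplicit false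
universe u

namespace Groth.Agent.Lib.Seat69.Amitsur

open TensorProduct

section Step

variable {R A : Type*} [CommRing R] [CommRing A] [Algebra R A]

/-- `a ⊗ (b ⊗ x) ↦ ab ⊗ x`. -/
noncomputable def contract (R A : Type*) [CommRing R] [CommRing A] [Algebra R A]
    (X : Type*) [AddCommGroup X] [Module R X] : A ⊗[R] (A ⊗[R] X) →ₗ[R] A ⊗[R] X :=
  (LinearMap.mul' R A).rTensor X ∘ₗ (TensorProduct.assoc R A A X).symm.toLinearMap

@[simp]
theorem contract_tmul (X : Type*) [AddCommGroup X] [Module R X] (a b : A) (x : X) :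
    contract R A X (a ⊗ₜ[R] (b ⊗ₜ[R] x)) = (a * b) ⊗ₜ[R] x := by
  simp [contract]

/-- The inductive step of the Amitsur complex is exact: for any `d : P → A ⊗ P` with
`d⁺ ∘ d = 0`, where `d⁺ y = 1 ⊗ y - (id ⊗ d) y`, the pair `d, d⁺` is exact. -/
theorem exact_step [Module.FaithfullyFlat R A] (P : Type*) [AddCommGroup P] [Module R P]
    (d : P →ₗ[R] A ⊗[R] P)
    (h0 : (TensorProduct.mk R A (A ⊗[R] P) 1 - d.lTensor A) ∘ₗ d = 0) :
    Function.Exact d (TensorProduct.mk R A (A ⊗[R] P) 1 - d.lTensor A) := by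
  rw [← Module.FaithfullyFlat.lTensor_exact_iff_exact R A]
  have hs : (contract R A (A ⊗[R] P)) ∘ₗ
      ((TensorProduct.mk R A (A ⊗[R] P) 1 - d.lTensor A).lTensor A) =
      LinearMap.id - (d.lTensor A) ∘ₗ (contract R A P) := by
    apply TensorProduct.ext'
    intro a y
    induction y using TensorProduct.induction_on with
    | zero => simp
    | tmul b m =>
      simp only [LinearMap.coe_comp, Function.comp_apply, LinearMap.lTensor_tmul,
        LinearMap.sub_apply, TensorProduct.mk_apply, LinearMap.id_coe, id_eq, contract_tmul,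
        TensorProduct.tmul_sub, map_sub, mul_one]
    | add y1 y2 h1 h2 =>
      rw [TensorProduct.tmul_add, map_add, h1, h2, map_add]
  intro w
  constructor
  · intro hw
    have := LinearMap.congr_fun hs w
    rw [LinearMap.comp_apply, hw, map_zero, LinearMap.sub_apply, LinearMap.id_apply,
      LinearMap.comp_apply] at this
    exact ⟨contract R A P w, (sub_eq_zero.mp this.symm).symm⟩
  · rintro ⟨v, rfl⟩
    rw [← LinearMap.comp_apply, ← LinearMap.lTensor_comp, h0, LinearMap.lTensor_zero,
      LinearMap.zero_apply]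

/-- Variant of `exact_step` with the two maps given abstractly. -/
theorem exact_step' [Module.FaithfullyFlat R A] (P : Type*) [AddCommGroup P] [Module R P]
    (d : P →ₗ[R] A ⊗[R] P) (one dl : A ⊗[R] P →ₗ[R] A ⊗[R] (A ⊗[R] P))
    (hone : ∀ y, one y = (1 : A) ⊗ₜ[R] y) (hdl : ∀ a p, dl (a ⊗ₜ[R] p) = a ⊗ₜ[R] d p)
    (h0 : (one - dl) ∘ₗ d = 0) : Function.Exact d (one - dl) := by
  have h1 : one = TensorProduct.mk R A (A ⊗[R] P) 1 := LinearMap.ext hone
  have h2 : dl = d.lTensor A := TensorProduct.ext' (fun a p => by rw [hdl]; rfl)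
  subst h1 h2
  exact exact_step P d h0

end Step


section Tower

variable (R A : Type u) [CommRing R] [CommRing A] [Algebra R A]

/-- The tower of iterated tensor powers: `M 0 = R`, `M (j+1) = A ⊗[R] M j`. -/
noncomputable def M : ℕ → CommAlgCat.{u} R
  | 0 => CommAlgCat.of R R
  | (j + 1) => CommAlgCat.of R (A ⊗[R] (M j))

/-! ### Tensor-product API at the level of the tower -/

/-- Pure tensors in `M (j+1) = A ⊗ M j`. -/
noncomputable def tm (j : ℕ) (a : A) (x : M R A j) : M R A (j + 1) :=
  (a ⊗ₜ[R] x : A ⊗[R] (M R A j))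

theorem tm_induction (j : ℕ) {P : M R A (j + 1) → Prop} (h0 : P 0)
    (htm : ∀ a x, P (tm R A j a x)) (hadd : ∀ y z, P y → P z → P (y + z)) (y : M R A (j + 1)) :
    P y :=
  TensorProduct.induction_on (motive := fun y : A ⊗[R] (M R A j) => P y) y h0 htm hadd

theorem tm_mul (j : ℕ) (a b : A) (x y : M R A j) :
    tm R A j a x * tm R A j b y = tm R A j (a * b) (x * y) :=
  Algebra.TensorProduct.tmul_mul_tmul a b x y

theorem one_def (j : ℕ) : (1 : M R A (j + 1)) = tm R A j 1 1 :=
  Algebra.TensorProduct.one_def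

/-- Left inclusion `A → M (j+1)`. -/
noncomputable def inL (j : ℕ) : A →ₐ[R] M R A (j + 1) :=
  (Algebra.TensorProduct.includeLeft : A →ₐ[R] A ⊗[R] (M R A j))

/-- Right inclusion `M j → M (j+1)`. -/
noncomputable def inR (j : ℕ) : M R A j →ₐ[R] M R A (j + 1) :=
  (Algebra.TensorProduct.includeRight : M R A j →ₐ[R] A ⊗[R] (M R A j))

@[simp] theorem inL_apply (j : ℕ) (a : A) : inL R A j a = tm R A j a 1 := rfl

@[simp] theorem inR_apply (j : ℕ) (x : M R A j) : inR R A j x = tm R A j 1 x := rfl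

/-- `id_A ⊗ f` for an algebra map `f`. -/
noncomputable def mapA {j k : ℕ} (f : M R A j →ₐ[R] M R A k) : M R A (j + 1) →ₐ[R] M R A (k + 1) :=
  (Algebra.TensorProduct.map (AlgHom.id R A) f : A ⊗[R] (M R A j) →ₐ[R] A ⊗[R] (M R A k))

@[simp] theorem mapA_tm {j k : ℕ} (f : M R A j →ₐ[R] M R A k) (a : A) (x : M R A j) :
    mapA R A f (tm R A j a x) = tm R A k a (f x) := rfl

/-- `id_A ⊗ f` for a linear map `f`. -/
noncomputable def lT {j k : ℕ} (f : M R A j →ₗ[R] M R A k) : M R A (j + 1) →ₗ[R] M R A (k + 1) :=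
  (f.lTensor A : A ⊗[R] (M R A j) →ₗ[R] A ⊗[R] (M R A k))

@[simp] theorem lT_tm {j k : ℕ} (f : M R A j →ₗ[R] M R A k) (a : A) (x : M R A j) :
    lT R A f (tm R A j a x) = tm R A k a (f x) := rfl

theorem lT_toLinearMap {j k : ℕ} (f : M R A j →ₐ[R] M R A k) :
    lT R A f.toLinearMap = (mapA R A f).toLinearMap := by
  apply LinearMap.ext
  intro y
  induction y using tm_induction with
  | h0 => simp
  | htm a x => rfl
  | hadd y z hy hz => rw [map_add, map_add, hy, hz]

theorem lT_sub {j k : ℕ} (f g : M R A j →ₗ[R] M R A k) :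
    lT R A (f - g) = lT R A f - lT R A g :=
  LinearMap.lTensor_sub (M := A) f g

theorem lT_comp {j k l : ℕ} (g : M R A k →ₗ[R] M R A l) (f : M R A j →ₗ[R] M R A k) :
    lT R A (g ∘ₗ f) = lT R A g ∘ₗ lT R A f :=
  LinearMap.lTensor_comp A g f

theorem lT_zero {j k : ℕ} : lT R A (0 : M R A j →ₗ[R] M R A k) = 0 :=
  LinearMap.lTensor_zero (M := A)

theorem lT_sum {j k : ℕ} {ι' : Type*} (s : Finset ι') (f : ι' → (M R A j →ₗ[R] M R A k)) :
    lT R A (∑ i ∈ s, f i) = ∑ i ∈ s, lT R A (f i) := by
  classical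
  induction s using Finset.induction_on with
  | empty => simp [lT_zero]
  | insert a s ha ih =>
    rw [Finset.sum_insert ha, Finset.sum_insert ha, ← ih]
    exact LinearMap.lTensor_add (M := A) _ _

theorem lT_zsmul {j k : ℕ} (n : ℤ) (f : M R A j →ₗ[R] M R A k) :
    lT R A (n • f) = n • lT R A f := by
  apply LinearMap.ext
  intro y
  induction y using tm_induction with
  | h0 => simp
  | htm a x =>
    rw [lT_tm, LinearMap.smul_apply, LinearMap.smul_apply, lT_tm]
    exact (TensorProduct.tmul_smul n a (f x))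
  | hadd y z hy hz => rw [map_add, map_add, hy, hz]

/-- Descent from `M (j+1)`. -/
noncomputable def liftT (j : ℕ) (S : Type u) [CommRing S] [Algebra R S] (g : A →ₐ[R] S)
    (h : M R A j →ₐ[R] S) : M R A (j + 1) →ₐ[R] S :=
  (Algebra.TensorProduct.lift g h (fun _ _ => Commute.all _ _) : A ⊗[R] (M R A j) →ₐ[R] S)

@[simp] theorem liftT_tm (j : ℕ) (S : Type u) [CommRing S] [Algebra R S] (g : A →ₐ[R] S)
    (h : M R A j →ₐ[R] S) (a : A) (x : M R A j) :
    liftT R A j S g h (tm R A j a x) = g a * h x :=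
  Algebra.TensorProduct.lift_tmul g h _ a x

theorem algHom_ext_succ (j : ℕ) (S : Type u) [CommRing S] [Algebra R S]
    (f g : M R A (j + 1) →ₐ[R] S) (hL : f.comp (inL R A j) = g.comp (inL R A j))
    (hR : f.comp (inR R A j) = g.comp (inR R A j)) : f = g :=
  Algebra.TensorProduct.ext (A := A) (B := M R A j) hL hR

theorem algHom_ext_zero (S : Type u) [CommRing S] [Algebra R S]
    (f g : M R A 0 →ₐ[R] S) : f = g := by
  apply AlgHom.ext
  intro x
  have hx : ∃ r : R, x = algebraMap R (M R A 0) r := ⟨x, rfl⟩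
  obtain ⟨r, hr⟩ := hx
  rw [hr, AlgHom.commutes, AlgHom.commutes]

/-- The step lemma at the level of the tower. -/
theorem exact_step_tower [Module.FaithfullyFlat R A] (j : ℕ) (dd : M R A j →ₗ[R] M R A (j + 1))
    (h0 : ((inR R A (j + 1)).toLinearMap - lT R A dd) ∘ₗ dd = 0) :
    Function.Exact dd ((inR R A (j + 1)).toLinearMap - lT R A dd) :=
  exact_step' (R := R) (A := A) (M R A j) dd (inR R A (j + 1)).toLinearMap (lT R A dd)
    (fun _ => rfl) (fun _ _ => rfl) h0


/-! ### Inclusions, cofaces, universal property -/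

/-- The `i`-th inclusion `A → M j`. -/
noncomputable def ι : ∀ j : ℕ, Fin j → (A →ₐ[R] M R A j)
  | 0, i => Fin.elim0 i
  | (j + 1), i => Fin.cases (inL R A j) (fun i' => (inR R A j).comp (ι j i')) i

/-- The `i`-th coface `M j → M (j+1)` (insert `1` in slot `i`). -/
noncomputable def δ : ∀ j : ℕ, Fin (j + 1) → (M R A j →ₐ[R] M R A (j + 1))
  | 0, _ => inR R A 0
  | (j + 1), i => Fin.cases (inR R A (j + 1)) (fun i' => mapA R A (δ j i')) i

theorem δ_zero (j : ℕ) : δ R A j 0 = inR R A j := by
  cases j <;> rfl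

theorem δ_succ (j : ℕ) (i : Fin (j + 1)) : δ R A (j + 1) i.succ = mapA R A (δ R A j i) := rfl

theorem ι_zero (j : ℕ) : ι R A (j + 1) 0 = inL R A j := rfl

theorem ι_succ (j : ℕ) (i : Fin j) : ι R A (j + 1) i.succ = (inR R A j).comp (ι R A j i) := rfl

/-- Cofaces permute the inclusions. -/
theorem δ_comp_ι : ∀ (j : ℕ) (i : Fin (j + 1)) (l : Fin j),
    (δ R A j i).comp (ι R A j l) = ι R A (j + 1) (i.succAbove l)
  | 0, _, l => Fin.elim0 l
  | (j + 1), i, l => by
    induction i using Fin.cases with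
    | zero =>
      rw [δ_zero, Fin.succAbove_zero, ι_succ]
    | succ i =>
      induction l using Fin.cases with
      | zero =>
        rw [δ_succ, Fin.succ_succAbove_zero, ι_zero, ι_zero]
        apply AlgHom.ext
        intro a
        rw [AlgHom.comp_apply, inL_apply, mapA_tm, map_one, inL_apply]
      | succ l =>
        rw [δ_succ, Fin.succ_succAbove_succ, ι_succ, ι_succ, ← δ_comp_ι j i l]
        apply AlgHom.ext
        intro a
        simp only [AlgHom.comp_apply, inR_apply, mapA_tm]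

/-- Universal property of the tower: descent of a family of algebra maps. -/
noncomputable def lift : ∀ (j : ℕ) (S : Type u) [CommRing S] [Algebra R S]
    (_ : Fin j → (A →ₐ[R] S)), M R A j →ₐ[R] S
  | 0, S, _, _, _ => (Algebra.ofId R S : M R A 0 →ₐ[R] S)
  | (j + 1), S, _, _, g => liftT R A j S (g 0) (lift j S (fun i => g i.succ))

theorem lift_succ (j : ℕ) (S : Type u) [CommRing S] [Algebra R S] (g : Fin (j + 1) → (A →ₐ[R] S)) :
    lift R A (j + 1) S g = liftT R A j S (g 0) (lift R A j S (fun i => g i.succ)) := rfl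

theorem lift_comp_ι : ∀ (j : ℕ) (S : Type u) [CommRing S] [Algebra R S]
    (g : Fin j → (A →ₐ[R] S)) (i : Fin j), (lift R A j S g).comp (ι R A j i) = g i
  | 0, _, _, _, _, i => Fin.elim0 i
  | (j + 1), S, _, _, g, i => by
    induction i using Fin.cases with
    | zero =>
      rw [ι_zero, lift_succ]
      apply AlgHom.ext
      intro a
      rw [AlgHom.comp_apply, inL_apply, liftT_tm, map_one, mul_one]
    | succ i =>
      rw [ι_succ, ← lift_comp_ι j S (fun i => g i.succ) i, lift_succ]
      apply AlgHom.ext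
      intro a
      simp only [AlgHom.comp_apply, inR_apply, liftT_tm, map_one, one_mul]

theorem hom_ext : ∀ (j : ℕ) (S : Type u) [CommRing S] [Algebra R S]
    (f g : M R A j →ₐ[R] S), (∀ i, f.comp (ι R A j i) = g.comp (ι R A j i)) → f = g
  | 0, S, _, _, f, g, _ => algHom_ext_zero R A S f g
  | (j + 1), S, _, _, f, g, h => by
    apply algHom_ext_succ
    · have := h 0
      rw [ι_zero] at this
      exact this
    · apply hom_ext j S
      intro i
      have := h i.succ
      rw [ι_succ] at this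
      rw [AlgHom.comp_assoc, AlgHom.comp_assoc]
      exact this

/-! ### The differential -/

/-- The alternating sum of the cofaces. -/
noncomputable def d (j : ℕ) : M R A j →ₗ[R] M R A (j + 1) :=
  ∑ i : Fin (j + 1), ((-1 : ℤ) ^ (i : ℕ)) • (δ R A j i).toLinearMap

theorem d_zero : d R A 0 = (inR R A 0).toLinearMap := by
  simp [d, δ]

theorem d_succ (j : ℕ) : d R A (j + 1) = (inR R A (j + 1)).toLinearMap - lT R A (d R A j) := by
  unfold d
  rw [Fin.sum_univ_succ, lT_sum, sub_eq_add_neg, ← Finset.sum_neg_distrib]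
  congr 1
  · rw [δ_zero]
    simp
  · apply Finset.sum_congr rfl
    intro i _
    rw [lT_zsmul, δ_succ, Fin.val_succ, pow_succ, mul_neg_one, neg_smul, lT_toLinearMap]

theorem d_comp_d : ∀ j : ℕ, (d R A (j + 1)) ∘ₗ (d R A j) = 0
  | 0 => by
    apply LinearMap.ext
    intro r
    rw [LinearMap.comp_apply, d_succ, LinearMap.sub_apply, d_zero]
    simp
  | (j + 1) => by
    have ih := d_comp_d j
    apply LinearMap.ext
    intro p
    rw [LinearMap.comp_apply, d_succ R A (j + 1), LinearMap.sub_apply, LinearMap.zero_apply,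
      sub_eq_zero]
    have h1 : d R A (j + 1) p = inR R A (j + 1) p - lT R A (d R A j) p := by
      rw [d_succ R A j]; rfl
    have h2 : lT R A (d R A (j + 1)) (lT R A (d R A j) p) = 0 := by
      rw [← LinearMap.comp_apply, ← lT_comp, ih, lT_zero, LinearMap.zero_apply]
    have h3 : lT R A (d R A (j + 1)) (inR R A (j + 1) p) = inR R A (j + 1 + 1) (d R A (j + 1) p) := by
      rw [inR_apply, lT_tm, inR_apply]
    conv_rhs => rw [h1, map_sub, h2, sub_zero, h3]
    rfl

/-- Exactness of the Amitsur complex of a faithfully flat algebra. -/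
theorem exact_d [Module.FaithfullyFlat R A] (j : ℕ) :
    Function.Exact (d R A j) (d R A (j + 1)) := by
  rw [d_succ]
  apply exact_step_tower
  rw [← d_succ]
  exact d_comp_d R A j

end Tower

end Groth.Agent.Lib.Seat69.Amitsur
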