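import Mathlib.Tactic
import Groth.Prelude.Def_NonAbH2
import Groth.Agent.Lib.Helper12Cart
import Groth.Agent.Lib.Seat27ExactSeq
import Groth.Agent.Lib.Seat27Descent

/-!
# Using an exact sequence `1 → G' → G → G'' → 1` of group schemes (seat 27)

For `hex : NonAbH1.IsExactSeq K u v` (`K ≤ fpqc` precoverage, stable under base change):

* `exists_of_comp_eq`: two points of `G` with the same image in `G''` differ by a unique point of `G'`;
  `mono_u`, `exists_of_comp_eq_one` (the kernel property).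
* `isLocallyTrivialFor_of_isPullback`, `isLocallyTrivialFor_whiskerRight/Left`.
* `existsUnique_desc`, `existsUnique_desc_right`, `existsUnique_desc_left`, `existsUnique_desc₂`: morphisms out of
  `G`, `G ⊗ T₀`, `T₀ ⊗ G`, `G ⊗ G` invariant under right translation by `G'` descend uniquely to
  `G''`, `G'' ⊗ T₀`, `T₀ ⊗ G''`, `G'' ⊗ G''`; `epi_v`, `epi_whiskerRight`, `epi_whiskerLeft`.
-/

set_option autoImplicit false
universe u

open CategoryTheory MonoidalCategory CartesianMonoidalCategory MonObj GrpObj AlgebraicGeometry CategoryTheory.Limits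

namespace Groth.Agent.Lib.Seat27.ExactSeqUse

open Groth.Agent.Lib.Seat27.ExactSeq Groth.Agent.Lib.Seat27.Descent

variable {S : Scheme.{u}} {K : Precoverage Scheme.{u}}

section LocTriv

theorem isLocallyTrivialFor_of_isPullback [K.IsStableUnderBaseChange] {E' B' E B : Over S}
    {p' : E' ⟶ B'} {a : E' ⟶ E} {b : B' ⟶ B} {p : E ⟶ B} (h : IsPullback p' a b p)
    (hp : NonAbH1.IsLocallyTrivialFor K (Over.mk p.left : Over B.left)) :
    NonAbH1.IsLocallyTrivialFor K (Over.mk p'.left : Over B'.left) := by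
  obtain ⟨R, hR, hsec⟩ := hp
  have hpb := h.map (CategoryTheory.Over.forget S)
  simp only [Over.forget_obj, Over.forget_map] at hpb
  refine ⟨R.pullbackArrows b.left, Precoverage.pullbackArrows_mem b.left hR, ?_⟩
  rintro T g ⟨Z, f, hf⟩
  obtain ⟨s, hs⟩ := hsec f hf
  have hs' : s ≫ p.left = f := hs
  refine ⟨hpb.lift (pullback.snd f b.left) (pullback.fst f b.left ≫ s) ?_, hpb.lift_fst _ _ _⟩
  rw [Category.assoc, hs', pullback.condition]

theorem isLocallyTrivialFor_whiskerRight [K.IsStableUnderBaseChange] {E B : Over S} (p : E ⟶ B)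
    (hp : NonAbH1.IsLocallyTrivialFor K (Over.mk p.left : Over B.left)) (T₀ : Over S) :
    NonAbH1.IsLocallyTrivialFor K (Over.mk (p ▷ T₀).left : Over (B ⊗ T₀).left) :=
  isLocallyTrivialFor_of_isPullback (Groth.Agent.Lib.Helper12.isPullback_whiskerRight T₀ p) hp

theorem isLocallyTrivialFor_whiskerLeft [K.IsStableUnderBaseChange] {E B : Over S} (p : E ⟶ B)
    (hp : NonAbH1.IsLocallyTrivialFor K (Over.mk p.left : Over B.left)) (T₀ : Over S) :
    NonAbH1.IsLocallyTrivialFor K (Over.mk (T₀ ◁ p).left : Over (T₀ ⊗ B).left) :=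
  isLocallyTrivialFor_of_isPullback (Groth.Agent.Lib.Helper12.isPullback_whiskerLeft T₀ p) hp

end LocTriv

variable {G' G G'' : Over S} [GrpObj G'] [GrpObj G] [GrpObj G''] {u : G' ⟶ G} {v : G ⟶ G''}

section Points

theorem exists_of_comp_eq (hex : NonAbH1.IsExactSeq K u v) {T : Over S} (x y : T ⟶ G)
    (h : x ≫ v = y ≫ v) : ∃ g' : T ⟶ G', y = x * (g' ≫ u) := by
  obtain ⟨-, -, -, hpb, -⟩ := hex
  refine ⟨hpb.lift x y h ≫ snd G G', ?_⟩
  have h1 := hpb.lift_snd x y h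
  have h2 := hpb.lift_fst x y h
  rw [comp_whiskerLeft_mul, h2] at h1
  rw [Category.assoc]
  exact h1.symm

theorem eq_of_mul_comp_eq (hex : NonAbH1.IsExactSeq K u v) {T : Over S} (x : T ⟶ G) (g₁ g₂ : T ⟶ G')
    (h : x * (g₁ ≫ u) = x * (g₂ ≫ u)) : g₁ = g₂ := by
  obtain ⟨-, -, -, hpb, -⟩ := hex
  have e : lift x g₁ = lift x g₂ := by
    apply hpb.hom_ext
    · simp
    · rw [comp_whiskerLeft_mul, comp_whiskerLeft_mul]
      simpa using h
  have := congrArg (· ≫ snd G G') e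
  simpa using this

theorem mono_u (hex : NonAbH1.IsExactSeq K u v) : Mono u := by
  constructor
  intro T a b hab
  apply eq_of_mul_comp_eq hex (1 : T ⟶ G)
  rw [hab]

theorem exists_of_comp_eq_one (hex : NonAbH1.IsExactSeq K u v) {T : Over S} (z : T ⟶ G)
    (h : z ≫ v = 1) : ∃ ζ : T ⟶ G', ζ ≫ u = z := by
  have hv : IsMonHom v := hex.2.1
  obtain ⟨g', hg'⟩ := exists_of_comp_eq hex (1 : T ⟶ G) z (by rw [MonObj.one_comp v, h])
  exact ⟨g', by rw [hg', _root_.one_mul]⟩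

end Points

section Desc

variable (hK : K ≤ Scheme.fpqcPrecoverage) [K.IsStableUnderBaseChange]

include hK in
theorem existsUnique_desc (hex : NonAbH1.IsExactSeq K u v) {Y : Over S} (φ : G ⟶ Y)
    (hφ : ∀ (T : Over S) (x : T ⟶ G) (g' : T ⟶ G'), (x * (g' ≫ u)) ≫ φ = x ≫ φ) :
    ∃! ψ : G'' ⟶ Y, v ≫ ψ = φ := by
  refine Descent.existsUnique_desc hK v hex.2.2.2.2 φ ?_
  intro T x y hxy
  obtain ⟨g', rfl⟩ := exists_of_comp_eq hex x y hxy
  exact (hφ T x g').symm

include hK in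
theorem existsUnique_desc_right (hex : NonAbH1.IsExactSeq K u v) (T₀ : Over S) {Y : Over S}
    (φ : G ⊗ T₀ ⟶ Y)
    (hφ : ∀ (T : Over S) (x : T ⟶ G) (g' : T ⟶ G') (t : T ⟶ T₀),
      lift (x * (g' ≫ u)) t ≫ φ = lift x t ≫ φ) :
    ∃! ψ : G'' ⊗ T₀ ⟶ Y, (v ▷ T₀) ≫ ψ = φ := by
  refine Descent.existsUnique_desc hK (v ▷ T₀)
    (isLocallyTrivialFor_whiskerRight v hex.2.2.2.2 T₀) φ ?_
  intro T x y hxy
  have h1 : (x ≫ fst G T₀) ≫ v = (y ≫ fst G T₀) ≫ v := by
    have := congrArg (· ≫ fst G'' T₀) hxy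
    simpa using this
  have h2 : x ≫ snd G T₀ = y ≫ snd G T₀ := by
    have := congrArg (· ≫ snd G'' T₀) hxy
    simpa using this
  obtain ⟨g', hg'⟩ := exists_of_comp_eq hex _ _ h1
  have ex : x = lift (x ≫ fst G T₀) (x ≫ snd G T₀) := by
    apply CartesianMonoidalCategory.hom_ext <;> simp
  have ey : y = lift ((x ≫ fst G T₀) * (g' ≫ u)) (x ≫ snd G T₀) := by
    apply CartesianMonoidalCategory.hom_ext
    · simp [hg']
    · simp [h2]
  rw [ey, hφ, ← ex]

include hK in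
theorem existsUnique_desc_left (hex : NonAbH1.IsExactSeq K u v) (T₀ : Over S) {Y : Over S}
    (φ : T₀ ⊗ G ⟶ Y)
    (hφ : ∀ (T : Over S) (t : T ⟶ T₀) (x : T ⟶ G) (g' : T ⟶ G'),
      lift t (x * (g' ≫ u)) ≫ φ = lift t x ≫ φ) :
    ∃! ψ : T₀ ⊗ G'' ⟶ Y, (T₀ ◁ v) ≫ ψ = φ := by
  refine Descent.existsUnique_desc hK (T₀ ◁ v)
    (isLocallyTrivialFor_whiskerLeft v hex.2.2.2.2 T₀) φ ?_
  intro T x y hxy
  have h1 : (x ≫ snd T₀ G) ≫ v = (y ≫ snd T₀ G) ≫ v := by
    have := congrArg (· ≫ snd T₀ G'') hxy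
    simpa using this
  have h2 : x ≫ fst T₀ G = y ≫ fst T₀ G := by
    have := congrArg (· ≫ fst T₀ G'') hxy
    simpa using this
  obtain ⟨g', hg'⟩ := exists_of_comp_eq hex _ _ h1
  have ex : x = lift (x ≫ fst T₀ G) (x ≫ snd T₀ G) := by
    apply CartesianMonoidalCategory.hom_ext <;> simp
  have ey : y = lift (x ≫ fst T₀ G) ((x ≫ snd T₀ G) * (g' ≫ u)) := by
    apply CartesianMonoidalCategory.hom_ext
    · simp [h2]
    · simp [hg']
  rw [ey, hφ, ← ex]

include hK in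
theorem epi_v (hex : NonAbH1.IsExactSeq K u v) : Epi v := by
  constructor
  intro Y a b hab
  obtain ⟨ψ, -, huniq⟩ := existsUnique_desc hK hex (v ≫ a) (by
    intro T x g'
    have hv : IsMonHom v := hex.2.1
    rw [← Category.assoc, ← Category.assoc, MonObj.mul_comp _ _ v, Category.assoc g' u v, hex.2.2.1,
      MonObj.comp_one, _root_.mul_one])
  rw [huniq a rfl, huniq b hab.symm]

include hK in
theorem epi_whiskerRight (hex : NonAbH1.IsExactSeq K u v) (T₀ : Over S) : Epi (v ▷ T₀) := by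
  have hv : IsMonHom v := hex.2.1
  constructor
  intro Y a b hab
  obtain ⟨ψ, -, huniq⟩ := existsUnique_desc_right hK hex T₀ ((v ▷ T₀) ≫ a) (by
    intro T x g' t
    rw [← Category.assoc, ← Category.assoc]
    congr 1
    apply CartesianMonoidalCategory.hom_ext
    · simp only [Category.assoc, whiskerRight_fst, lift_fst_assoc]
      rw [MonObj.mul_comp _ _ v, Category.assoc g' u v, hex.2.2.1, MonObj.comp_one, _root_.mul_one]
    · simp)
  rw [huniq a rfl, huniq b hab.symm]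

include hK in
theorem epi_whiskerLeft (hex : NonAbH1.IsExactSeq K u v) (T₀ : Over S) : Epi (T₀ ◁ v) := by
  have hv : IsMonHom v := hex.2.1
  constructor
  intro Y a b hab
  obtain ⟨ψ, -, huniq⟩ := existsUnique_desc_left hK hex T₀ ((T₀ ◁ v) ≫ a) (by
    intro T t x g'
    rw [← Category.assoc, ← Category.assoc]
    congr 1
    apply CartesianMonoidalCategory.hom_ext
    · simp
    · simp only [Category.assoc, whiskerLeft_snd, lift_snd_assoc]
      rw [MonObj.mul_comp _ _ v, Category.assoc g' u v, hex.2.2.1, MonObj.comp_one, _root_.mul_one])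
  rw [huniq a rfl, huniq b hab.symm]

include hK in
theorem existsUnique_desc₂ (hex : NonAbH1.IsExactSeq K u v) {Y : Over S} (φ : G ⊗ G ⟶ Y)
    (hφ₁ : ∀ (T : Over S) (x y : T ⟶ G) (g' : T ⟶ G'), lift (x * (g' ≫ u)) y ≫ φ = lift x y ≫ φ)
    (hφ₂ : ∀ (T : Over S) (x y : T ⟶ G) (g' : T ⟶ G'), lift x (y * (g' ≫ u)) ≫ φ = lift x y ≫ φ) :
    ∃! ψ : G'' ⊗ G'' ⟶ Y, (v ⊗ₘ v) ≫ ψ = φ := by
  obtain ⟨ψ₁, hψ₁, huniq₁⟩ := existsUnique_desc_right hK hex G φ
    (fun T x g' t => hφ₁ T x t g')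
  -- invariance of `ψ₁` in the second variable
  have hinv : ∀ (T : Over S) (q : T ⟶ G'') (y : T ⟶ G) (g' : T ⟶ G'),
      lift q (y * (g' ≫ u)) ≫ ψ₁ = lift q y ≫ ψ₁ := by
    have hAB : (G'' ◁ ((G ◁ u) ≫ μ[G])) ≫ ψ₁ = (G'' ◁ fst G G') ≫ ψ₁ := by
      have := epi_whiskerRight hK hex (G ⊗ G')
      rw [← cancel_epi (v ▷ (G ⊗ G'))]
      rw [← Category.assoc, ← Category.assoc, ← whisker_exchange, ← whisker_exchange,
        Category.assoc, Category.assoc, hψ₁]
      have e1 : G ◁ ((G ◁ u) ≫ μ[G]) =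
          lift (fst G (G ⊗ G')) ((snd G (G ⊗ G') ≫ fst G G') * ((snd G (G ⊗ G') ≫ snd G G') ≫ u)) := by
        apply CartesianMonoidalCategory.hom_ext
        · simp
        · simp only [whiskerLeft_snd, lift_snd]
          rw [comp_whiskerLeft_mul, Category.assoc]
      have e2 : G ◁ fst G G' = lift (fst G (G ⊗ G')) (snd G (G ⊗ G') ≫ fst G G') := by
        apply CartesianMonoidalCategory.hom_ext <;> simp
      rw [e1, e2, hφ₂]
    intro T q y g'
    have e1 : lift q (y * (g' ≫ u)) = lift q (lift y g') ≫ (G'' ◁ ((G ◁ u) ≫ μ[G])) := by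
      apply CartesianMonoidalCategory.hom_ext
      · simp
      · simp only [lift_snd, Category.assoc, whiskerLeft_snd, lift_snd_assoc]
        rw [comp_whiskerLeft_mul]
        simp
    have e2 : lift q y = lift q (lift y g') ≫ (G'' ◁ fst G G') := by
      apply CartesianMonoidalCategory.hom_ext <;> simp
    rw [e1, Category.assoc, hAB, ← Category.assoc, ← e2]
  obtain ⟨ψ, hψ, huniq⟩ := existsUnique_desc_left hK hex G'' ψ₁ hinv
  refine ⟨ψ, ?_, ?_⟩
  · change (v ⊗ₘ v) ≫ ψ = φ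
    rw [tensorHom_def, Category.assoc, hψ, hψ₁]
  · intro ψ' hψ'
    apply huniq
    apply huniq₁
    rw [← Category.assoc, ← tensorHom_def, hψ']

end Desc

end Groth.Agent.Lib.Seat27.ExactSeqUse
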