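import Mathlib
import Groth.Prelude.Def_FrameBundle
import Groth.Agent.Lib.Helper27GaGm
import Groth.Agent.Lib.Seat27GaTorsor
import Groth.Agent.Lib.Seat27GLamTorsor

/-!
Helper library (helper27, seat 27): points of the general linear group scheme `FrB.GLn n S`.

For `X : Over S`, a point `x : X ⟶ FrB.GLn n S` has a matrix `matFn n x` of global functions on
`X.left`; `matFn` is multiplicative, injective, and its image consists of the invertible matrices.
For points with values in `Spec C` (`T j C`), `valM` is the matrix with entries in `C`.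
-/

set_option autoImplicit false
universe u

open CategoryTheory MonoidalCategory CartesianMonoidalCategory MonObj GrpObj AlgebraicGeometry
  CategoryTheory.Limits
open scoped TensorProduct

namespace Groth.Agent.Lib.Seat27.GLnPoints

open Groth.Agent.Lib.Helper27.GaGm Groth.Agent.Lib.Seat27.GaTorsor
open Groth.Agent.Lib.Seat27.GLamTorsor (evT evTinv evT_evTinv evT_injective)

section RingHoms

variable (n : ℕ) {Γ' : Type u} [CommRing Γ']

/-- Ring homomorphisms out of the coordinate ring of `GL_n` over `ℤ` are determined by their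
values on the matrix entries and on the inverse determinant. -/
lemma ringHom_ext (φ ψ : CoordGrp.GLn n (ULift.{u} ℤ) →+* Γ')
    (hX : ∀ i j, φ (CoordGrp.GLn.X i j) = ψ (CoordGrp.GLn.X i j))
    (hD : φ CoordGrp.GLn.Dinv = ψ CoordGrp.GLn.Dinv) : φ = ψ := by
  letI : Algebra (ULift.{u} ℤ) Γ' := (φ.comp (algebraMap _ _)).toAlgebra
  let φ' : CoordGrp.GLn n (ULift.{u} ℤ) →ₐ[ULift.{u} ℤ] Γ' := { φ with commutes' := fun r => rfl }
  let ψ' : CoordGrp.GLn n (ULift.{u} ℤ) →ₐ[ULift.{u} ℤ] Γ' :=
    { ψ with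
      commutes' := fun r => congrArg (fun k : ULift.{u} ℤ →+* Γ' => k r)
        (ulift_int_ringHom_ext (ψ.comp (algebraMap _ _)) (φ.comp (algebraMap _ _))) }
  have h : φ' = ψ' := CoordGrp.GLn.algHom_ext (fun i j => hX i j) hD
  ext a
  exact congrArg (fun k : CoordGrp.GLn n (ULift.{u} ℤ) →ₐ[ULift.{u} ℤ] Γ' => k a) h

/-- Every invertible matrix is the value of a ring homomorphism out of the coordinate ring. -/
lemma ringHom_exists (M : Matrix (Fin n) (Fin n) Γ') (d : Γ') (h : M.det * d = 1) :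
    ∃ φ : CoordGrp.GLn n (ULift.{u} ℤ) →+* Γ',
      (∀ i j, φ (CoordGrp.GLn.X i j) = M i j) ∧ φ CoordGrp.GLn.Dinv = d := by
  letI : Algebra (ULift.{u} ℤ) Γ' := ULift.algebra' ℤ Γ'
  refine ⟨(CoordGrp.GLn.pt n (ULift.{u} ℤ) M d h).toRingHom, ?_, ?_⟩
  · intro i j
    exact CoordGrp.GLn.pt_X M d h i j
  · exact CoordGrp.GLn.pt_Dinv M d h

end RingHoms

section Points

variable (n : ℕ) {S : Scheme.{u}}

/-- the underlying morphism to `Spec ℤ[GL_n]` of a point of `GL_n`. -/
noncomputable def glPt {X : Over S} (x : X ⟶ FrB.GLn n S) :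
    X.left ⟶ Spec (CommRingCat.of (CoordGrp.GLn n (ULift.{u} ℤ))) :=
  x.left ≫ pullback.fst _ _

/-- the matrix of functions of a point of `GL_n`. -/
noncomputable def matFn {X : Over S} (x : X ⟶ FrB.GLn n S) :
    Matrix (Fin n) (Fin n) Γ(X.left, ⊤) :=
  fun i j => fn (glPt n x) (CoordGrp.GLn.X i j)

/-- the inverse determinant of a point of `GL_n`. -/
noncomputable def dinvFn {X : Over S} (x : X ⟶ FrB.GLn n S) : Γ(X.left, ⊤) :=
  fn (glPt n x) CoordGrp.GLn.Dinv

lemma glPt_eq {X : Over S} (x : X ⟶ FrB.GLn n S) :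
    glPt n x = (adjEquiv (Limits.IsTerminal.from specULiftZIsTerminal S) (FrB.GLZ n) X x).left :=
  rfl

lemma matFn_eq_map {X : Over S} (x : X ⟶ FrB.GLn n S) :
    matFn n x = (CoordGrp.GLn.genMat n (ULift.{u} ℤ)).map (fnHom (glPt n x)) := rfl

lemma det_matFn_mul_dinvFn {X : Over S} (x : X ⟶ FrB.GLn n S) :
    (matFn n x).det * dinvFn n x = 1 := by
  rw [matFn_eq_map]
  have h1 : ((CoordGrp.GLn.genMat n (ULift.{u} ℤ)).map (fnHom (glPt n x))).det =
      fnHom (glPt n x) (CoordGrp.GLn.det) := by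
    rw [CoordGrp.GLn.det_eq]
    exact ((fnHom (glPt n x)).map_det _).symm
  rw [h1, dinvFn, fn_eq, ← map_mul, CoordGrp.GLn.det_mul_Dinv, map_one]

lemma matFn_mul {X : Over S} (x y : X ⟶ FrB.GLn n S) :
    matFn n (x * y) = matFn n x * matFn n y := by
  ext i j
  rw [Matrix.mul_apply]
  show fn (glPt n (x * y)) (CoordGrp.GLn.X i j) = _
  rw [glPt_eq, adjEquiv_mul, fn_mul_left, CoordGrp.GLn.comul_X, fn_eq, map_sum]
  refine Finset.sum_congr rfl (fun l _ => ?_)
  rw [← fn_eq, fn_pullbackSpecIso, liftP_fst, liftP_snd]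
  rfl

lemma matFn_comp {X X' : Over S} (g : X' ⟶ X) (x : X ⟶ FrB.GLn n S) :
    matFn n (g ≫ x) = (matFn n x).map g.left.appTop := by
  ext i j
  show fn (glPt n (g ≫ x)) _ = g.left.appTop (fn (glPt n x) _)
  unfold glPt
  rw [Over.comp_left, Category.assoc, fn_comp]

lemma dinvFn_eq_of_matFn_eq {X : Over S} (x y : X ⟶ FrB.GLn n S) (h : matFn n x = matFn n y) :
    dinvFn n x = dinvFn n y := by
  have h1 := det_matFn_mul_dinvFn n x
  have h2 := det_matFn_mul_dinvFn n y
  rw [h] at h1
  calc dinvFn n x = dinvFn n x * ((matFn n y).det * dinvFn n y) := by rw [h2, _root_.mul_one]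
    _ = ((matFn n y).det * dinvFn n x) * dinvFn n y := by ring
    _ = dinvFn n y := by rw [h1, _root_.one_mul]

theorem matFn_injective {X : Over S} :
    Function.Injective (matFn n : (X ⟶ FrB.GLn n S) → Matrix (Fin n) (Fin n) Γ(X.left, ⊤)) := by
  intro x y h
  have hD := dinvFn_eq_of_matFn_eq n x y h
  have h2 : glPt n x = glPt n y := by
    apply fn_ext
    intro a
    refine congrArg (fun k : _ →+* _ => k a)
      (ringHom_ext n (fnHom (glPt n x)) (fnHom (glPt n y)) ?_ hD)
    intro i j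
    exact congrFun (congrFun h i) j
  apply (adjEquiv (Limits.IsTerminal.from specULiftZIsTerminal S) (FrB.GLZ n) X).injective
  apply Over.OverMorphism.ext
  exact h2

theorem exists_matFn_eq {X : Over S} (M : Matrix (Fin n) (Fin n) Γ(X.left, ⊤)) (d : Γ(X.left, ⊤))
    (h : M.det * d = 1) : ∃ x : X ⟶ FrB.GLn n S, matFn n x = M := by
  obtain ⟨φ, hφ, -⟩ := ringHom_exists.{u} n M d h
  obtain ⟨y', hy'⟩ := fn_surj φ
  refine ⟨(adjEquiv (Limits.IsTerminal.from specULiftZIsTerminal S) (FrB.GLZ n) X).symm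
    (Over.homMk y' (specULiftZIsTerminal.hom_ext _ _)), ?_⟩
  ext i j
  show fn (glPt n _) _ = _
  rw [glPt_eq, Equiv.apply_symm_apply]
  exact (hy' _).trans (hφ i j)

end Points

section PointsT

variable (n : ℕ) {S : Scheme.{u}} {A : Type u} [CommRing A] (j : Spec (CommRingCat.of A) ⟶ S)

/-- The matrix with entries in `C` of a `Spec C`-valued point of `GL_n`. -/
noncomputable def valM {C : Type u} [CommRing C] [Algebra A C] (g : T j C ⟶ FrB.GLn n S) :
    Matrix (Fin n) (Fin n) C :=
  (matFn n g).map (evT j C)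

lemma valM_mul {C : Type u} [CommRing C] [Algebra A C] (g h : T j C ⟶ FrB.GLn n S) :
    valM n j (g * h) = valM n j g * valM n j h := by
  unfold valM
  rw [matFn_mul]
  exact Matrix.map_mul (f := evT j C)

lemma valM_comp {C C' : Type u} [CommRing C] [CommRing C'] [Algebra A C] [Algebra A C']
    (φ : C →ₐ[A] C') (g : T j C ⟶ FrB.GLn n S) :
    valM n j (Tmap j φ ≫ g) = (valM n j g).map φ := by
  unfold valM
  rw [matFn_comp, Tmap_left]
  ext i k
  simp only [Matrix.map_apply]
  have := Scheme.ΓSpecIso_naturality (CommRingCat.ofHom φ.toRingHom)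
  exact congrArg (fun t => t.hom (matFn n g i k)) this

lemma valM_injective {C : Type u} [CommRing C] [Algebra A C] (g h : T j C ⟶ FrB.GLn n S)
    (e : valM n j g = valM n j h) : g = h := by
  apply matFn_injective n
  ext i k
  apply evT_injective j C
  exact congrFun (congrFun e i) k

lemma exists_valM_eq {C : Type u} [CommRing C] [Algebra A C] (M M' : Matrix (Fin n) (Fin n) C)
    (h : M * M' = 1) : ∃ g : T j C ⟶ FrB.GLn n S, valM n j g = M := by
  have hdet : M.det * M'.det = 1 := by rw [← Matrix.det_mul, h, Matrix.det_one]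
  obtain ⟨g, hg⟩ := exists_matFn_eq n (X := T j C) (M.map (evTinv j C)) (evTinv j C M'.det) (by
    apply evT_injective j C
    rw [map_mul, map_one, evT_evTinv]
    have h1 : evT j C (M.map (evTinv j C)).det = ((M.map (evTinv j C)).map (evT j C)).det :=
      (evT j C).map_det _
    rw [h1]
    have h2 : (M.map (evTinv j C)).map (evT j C) = M := by
      ext i k
      simp only [Matrix.map_apply]
      exact evT_evTinv j C _
    rw [h2, hdet])
  refine ⟨g, ?_⟩
  unfold valM
  rw [hg]
  ext i k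
  simp only [Matrix.map_apply]
  exact evT_evTinv j C _

lemma isUnit_det_valM {C : Type u} [CommRing C] [Algebra A C] (g : T j C ⟶ FrB.GLn n S) :
    IsUnit (valM n j g).det := by
  have h := congrArg (evT j C) (det_matFn_mul_dinvFn n g)
  rw [map_mul, map_one, (evT j C).map_det] at h
  exact IsUnit.of_mul_eq_one _ h

lemma valM_one {C : Type u} [CommRing C] [Algebra A C] :
    valM n j (1 : T j C ⟶ FrB.GLn n S) = 1 := by
  have h := valM_mul n j (1 : T j C ⟶ FrB.GLn n S) 1
  have h11 : (1 : T j C ⟶ FrB.GLn n S) * 1 = 1 := _root_.mul_one _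
  rw [h11] at h
  have hu : IsUnit (valM n j (1 : T j C ⟶ FrB.GLn n S)) :=
    (Matrix.isUnit_iff_isUnit_det _).2 (isUnit_det_valM n j _)
  exact (hu.mul_eq_left).1 h.symm

lemma valM_mul_inv {C : Type u} [CommRing C] [Algebra A C] (g : T j C ⟶ FrB.GLn n S) :
    valM n j g * valM n j g⁻¹ = 1 := by
  rw [← valM_mul, mul_inv_cancel, valM_one]

end PointsT

end Groth.Agent.Lib.Seat27.GLnPoints
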