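import Groth.Agent.Lib.Seat24AffHull
import Groth.Agent.Lib.Seat24ComatTriv
import Groth.Agent.Lib.Seat27GLnPoints

/-!
# Anti-affine groups and linear representations (helper24)

* `matFn_one`: the matrix of functions of the unit point of `GL_n` is the identity matrix.
* For a commutative Hopf algebra `A` over `k` and a comatrix `a` over `A`, the representation
  `comatHom a : Spec A ⟶ GL_n` (`exists_comatHom`).
* `eq_algebraMap_counit_of_trivial`: if a group scheme `G` over a field `k` with only trivial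
  representations maps to `Spec A` (`A` a Hopf algebra) by a homomorphism inducing an
  injection on global sections, then `A = k`.
-/

set_option autoImplicit false
universe u

open CategoryTheory MonoidalCategory CartesianMonoidalCategory MonObj GrpObj AlgebraicGeometry
  CategoryTheory.Limits
open scoped TensorProduct

namespace Groth.Agent.Lib.Seat24.AntiAff

open Groth.Agent.Lib.Helper27.GaGm Groth.Agent.Lib.Seat27.GLnPoints Groth.Agent.Lib.Helper25

section MatFnOne

variable (n : ℕ) {S : Scheme.{u}}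

lemma matFn_one {X : Over S} : matFn n (1 : X ⟶ FrB.GLn n S) = 1 := by
  have h1 : matFn n (1 : X ⟶ FrB.GLn n S) * matFn n (1 : X ⟶ FrB.GLn n S) =
      matFn n (1 : X ⟶ FrB.GLn n S) := by
    rw [← matFn_mul, _root_.one_mul]
  have hdet : IsUnit (matFn n (1 : X ⟶ FrB.GLn n S)).det :=
    IsUnit.of_mul_eq_one _ (det_matFn_mul_dinvFn n (1 : X ⟶ FrB.GLn n S))
  have hu : IsUnit (matFn n (1 : X ⟶ FrB.GLn n S)) := (Matrix.isUnit_iff_isUnit_det _).mpr hdet
  exact hu.mul_left_cancel (h1.trans (_root_.mul_one _).symm)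

end MatFnOne

section Comat

variable {k A : Type u} [CommRing k] [CommRing A] [HopfAlgebra k A]
variable {n : ℕ} (a : Matrix (Fin n) (Fin n) A)

/-- the group scheme `Spec A` over `Spec k`. -/
noncomputable abbrev specH (k A : Type u) [CommRing k] [CommRing A] [HopfAlgebra k A] :
    Over (Spec (CommRingCat.of k)) :=
  (Spec (CommRingCat.of A)).asOver (Spec (CommRingCat.of k))

/-- the matrix of functions on `Y` of a `Y`-point of `Spec A` and a matrix with entries in `A`. -/
noncomputable def Mx {Y : Over (Spec (CommRingCat.of k))} (x : Y ⟶ specH k A) :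
    Matrix (Fin n) (Fin n) Γ(Y.left, ⊤) :=
  fun i j => fn x.left (a i j)

lemma Mx_comp {Y Y' : Over (Spec (CommRingCat.of k))} (g : Y' ⟶ Y) (x : Y ⟶ specH k A) :
    Mx a (g ≫ x) = (Mx a x).map g.left.appTop := by
  ext i j
  exact fn_comp (A := A) g.left x.left (a i j)

variable {a}

lemma Mx_mul (ha : IsComatrix (k := k) a) {Y : Over (Spec (CommRingCat.of k))}
    (x y : Y ⟶ specH k A) : Mx a (x * y) = Mx a x * Mx a y := by
  ext i j
  rw [Matrix.mul_apply]
  show fn (x * y).left (a i j) = _
  rw [fn_mul_left, ha.comul, fn_eq, map_sum]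
  refine Finset.sum_congr rfl (fun l _ => ?_)
  rw [← fn_eq, fn_pullbackSpecIso, liftP_fst, liftP_snd]
  rfl

lemma Mx_one (ha : IsComatrix (k := k) a) {Y : Over (Spec (CommRingCat.of k))} :
    Mx a (1 : Y ⟶ specH k A) = 1 := by
  ext i j
  show fn (1 : Y ⟶ specH k A).left (a i j) = _
  have h1 : (1 : Y ⟶ specH k A).left = Y.hom ≫ Spec.map (CommRingCat.ofHom
      (RingHomClass.toRingHom (Bialgebra.counitAlgHom k A))) := by
    rw [Hom.one_def, Over.comp_left, one_spec_asOver_spec_left]
    rfl
  rw [h1, fn_specMap]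
  have h2 : (RingHomClass.toRingHom (Bialgebra.counitAlgHom k A)) (a i j) =
      if i = j then (1 : k) else 0 := ha.counit i j
  rw [h2, Matrix.one_apply, fn_eq]
  split_ifs
  · rw [map_one]
  · rw [map_zero]

end Comat

section ComatHom

variable {k A : Type u} [CommRing k] [CommRing A] [HopfAlgebra k A]
variable {n : ℕ} {a : Matrix (Fin n) (Fin n) A}

/-- **The representation attached to a comatrix**: a comatrix `a` over the Hopf algebra `A` gives
a homomorphism of group schemes `Spec A ⟶ GL_n` whose matrix of functions is `a`. -/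
theorem exists_comatHom (ha : IsComatrix (k := k) a) :
    ∃ ρ : specH k A ⟶ FrB.GLn n (Spec (CommRingCat.of k)),
      IsMonHom ρ ∧ matFn n ρ = Mx a (𝟙 (specH k A)) := by
  have hinv : Mx a (𝟙 (specH k A)) * Mx a ((𝟙 (specH k A))⁻¹) = 1 := by
    rw [← Mx_mul ha, mul_inv_cancel, Mx_one ha]
  have hdet : (Mx a (𝟙 (specH k A))).det * (Mx a ((𝟙 (specH k A))⁻¹)).det = 1 := by
    rw [← Matrix.det_mul, hinv, Matrix.det_one]
  obtain ⟨ρ, hρ⟩ := exists_matFn_eq n (Mx a (𝟙 (specH k A))) _ hdet
  have key : ∀ {Y : Over (Spec (CommRingCat.of k))} (x : Y ⟶ specH k A),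
      matFn n (x ≫ ρ) = Mx a x := by
    intro Y x
    rw [matFn_comp, hρ, ← Mx_comp, Category.comp_id]
  refine ⟨ρ, ⟨?_, ?_⟩, hρ⟩
  · -- one_hom
    apply matFn_injective n
    have e1 : η[specH k A] = (1 : 𝟙_ (Over (Spec (CommRingCat.of k))) ⟶ specH k A) := by
      rw [Hom.one_def, toUnit_unit, Category.id_comp]
    have e2 : η[FrB.GLn n (Spec (CommRingCat.of k))] =
        (1 : 𝟙_ (Over (Spec (CommRingCat.of k))) ⟶ FrB.GLn n (Spec (CommRingCat.of k))) := by
      rw [Hom.one_def, toUnit_unit, Category.id_comp]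
    rw [key, e1, Mx_one ha, e2, matFn_one]
  · -- mul_hom
    apply matFn_injective n
    have e1 : μ[specH k A] = fst (specH k A) (specH k A) * snd (specH k A) (specH k A) := by
      rw [Hom.mul_def, lift_fst_snd, Category.id_comp]
    have e2 : (ρ ⊗ₘ ρ) ≫ μ[FrB.GLn n (Spec (CommRingCat.of k))] =
        (fst (specH k A) (specH k A) ≫ ρ) * (snd (specH k A) (specH k A) ≫ ρ) := by
      rw [Hom.mul_def, ← lift_map, lift_fst_snd, Category.id_comp]
    rw [key, e1, Mx_mul ha, e2, matFn_mul, key, key]

end ComatHom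

section Triv

lemma fn_id_injective {A : Type u} [CommRing A] :
    Function.Injective (fn (𝟙 (Spec (CommRingCat.of A)))) := by
  intro a b h
  unfold fn at h
  have h2 := congrArg (Scheme.ΓSpecIso (CommRingCat.of A)).hom h
  simpa using h2

variable {k A : Type u} [Field k] [CommRing A] [HopfAlgebra k A]

/-- If `G` has only trivial linear representations and `φ : G ⟶ Spec A` is a homomorphism to an
affine group scheme which is injective on global functions, then `A = k`. -/
theorem eq_algebraMap_counit_of_trivial {G : Over (Spec (CommRingCat.of k))} [GrpObj G]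
    (hG : ∀ (n : ℕ) (ρ : G ⟶ FrB.GLn n (Spec (CommRingCat.of k))), IsMonHom ρ → ρ = 1)
    (φ : G ⟶ specH k A) [IsMonHom φ] (hφ : Function.Injective φ.left.appTop) (x : A) :
    x = algebraMap k A (CoalgebraStruct.counit (R := k) (A := A) x) := by
  apply Groth.Agent.Lib.Seat24.ComatTriv.eq_algebraMap_counit k A
  intro n a ha
  obtain ⟨ρ, hρmon, hρ⟩ := exists_comatHom ha
  have h1 := hG n (φ ≫ ρ) inferInstance
  have h2 : (matFn n ρ).map φ.left.appTop = 1 := by
    rw [← matFn_comp, h1, matFn_one]
  ext i j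
  have h3 : φ.left.appTop (fn (𝟙 (Spec (CommRingCat.of A))) (a i j)) =
      (1 : Matrix (Fin n) (Fin n) Γ(G.left, ⊤)) i j := by
    have := congrFun (congrFun h2 i) j
    rw [hρ] at this
    exact this
  rw [Matrix.one_apply] at h3 ⊢
  apply fn_id_injective
  apply hφ
  refine h3.trans ?_
  split_ifs
  · rw [fn_eq, map_one]
    exact (map_one φ.left.appTop.hom).symm
  · rw [fn_eq, map_zero]
    exact (map_zero φ.left.appTop.hom).symm

end Triv

section Main

open Groth.Agent.Lib.Seat24.AffHull

variable {k : Type u} [Field k] (G : Over (Spec (CommRingCat.of k))) [GrpObj G]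
  [CompactSpace G.left] [QuasiSeparatedSpace G.left]

/-- A qcqs group scheme over a field maps to the spectrum of a Hopf algebra by a homomorphism
inducing an isomorphism on global functions (the affine hull). -/
theorem exists_hopf_hom :
    ∃ (A : Type u) (_ : CommRing A) (_ : HopfAlgebra k A) (φ : G ⟶ specH k A),
      IsMonHom φ ∧ IsIso φ.left.appTop := by
  obtain ⟨inst, hmon⟩ := exists_grpObj_hull G
  let Gr : Grp (Over (Spec (CommRingCat.of k))) := Grp.mk (hull G)
  have hess : (hopfSpec (CommRingCat.of k)).essImage Gr :=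
    essImage_hopfSpec.mpr (inferInstance : IsAffine (hull G).left)
  obtain ⟨Hh, ⟨e⟩⟩ := hess
  have h1 : IsMonHom e.inv.hom.hom := inferInstance
  have h2 : IsIso e.inv.hom.hom := inferInstance
  let ψ : hull G ⟶ specH k Hh.unop := e.inv.hom.hom
  have hψ1 : IsMonHom ψ := h1
  have hψ2 : IsIso ψ := h2
  clear_value ψ
  have h3 : IsIso ψ.left := inferInstanceAs (IsIso ((Over.forget _).map ψ))
  have h4 : IsIso ψ.left.appTop := inferInstanceAs (IsIso (ψ.left.app ⊤))
  refine ⟨Hh.unop, inferInstance, inferInstance, toHull G ≫ ψ, inferInstance, ?_⟩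
  have h5 : (toHull G ≫ ψ).left.appTop = ψ.left.appTop ≫ (toHull G).left.appTop := by
    rw [Over.comp_left, Scheme.Hom.comp_appTop]
  rw [h5]
  infer_instance

end Main

section Iff

open Groth.Agent.Lib.Seat24.AffHull

variable {k : Type u} [Field k] (G : Over (Spec (CommRingCat.of k))) [GrpObj G]

/-- anti-affine ⇒ every linear representation is trivial. -/
theorem eq_one_of_bijective
    (hb : Function.Bijective ((Scheme.ΓSpecIso (CommRingCat.of k)).inv ≫ G.hom.appTop).hom)
    (n : ℕ) (ρ : G ⟶ FrB.GLn n (Spec (CommRingCat.of k))) [IsMonHom ρ] : ρ = 1 := by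
  apply matFn_injective n
  rw [matFn_one]
  have e2 : η[FrB.GLn n (Spec (CommRingCat.of k))] =
      (1 : 𝟙_ (Over (Spec (CommRingCat.of k))) ⟶ FrB.GLn n (Spec (CommRingCat.of k))) := by
    rw [Hom.one_def, toUnit_unit, Category.id_comp]
  have h1 : (matFn n ρ).map η[G].left.appTop = 1 := by
    rw [← matFn_comp, IsMonHom.one_hom, e2, matFn_one]
  -- the composite `k → Γ(G) → Γ(Spec k)` is an isomorphism
  have h2 : ((Scheme.ΓSpecIso (CommRingCat.of k)).inv ≫ G.hom.appTop) ≫ η[G].left.appTop =
      (Scheme.ΓSpecIso (CommRingCat.of k)).inv := by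
    rw [Category.assoc, ← Scheme.Hom.comp_appTop, Over.w]
    have : (𝟙_ (Over (Spec (CommRingCat.of k)))).hom = 𝟙 _ := rfl
    rw [this, Scheme.Hom.id_appTop]
    exact Category.comp_id _
  ext i j
  obtain ⟨c', hc'⟩ := hb.2 (matFn n ρ i j)
  have h3 : η[G].left.appTop (matFn n ρ i j) = (1 : Matrix (Fin n) (Fin n) _) i j :=
    congrFun (congrFun h1 i) j
  rw [← hc'] at h3
  have h4 : η[G].left.appTop
      (((Scheme.ΓSpecIso (CommRingCat.of k)).inv ≫ G.hom.appTop).hom c') =
      (Scheme.ΓSpecIso (CommRingCat.of k)).inv.hom c' :=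
    congrArg (fun f => f.hom c') h2
  rw [h4, Matrix.one_apply] at h3
  have hinj : Function.Injective (Scheme.ΓSpecIso (CommRingCat.of k)).inv.hom :=
    (ConcreteCategory.bijective_of_isIso (Scheme.ΓSpecIso (CommRingCat.of k)).inv).1
  rw [← hc', Matrix.one_apply]
  split_ifs at h3 ⊢ with hij
  · have : c' = 1 := hinj (h3.trans (map_one _).symm)
    rw [this, map_one]
  · have : c' = 0 := hinj (h3.trans (map_zero _).symm)
    rw [this, map_zero]

/-- every linear representation trivial ⇒ anti-affine (for qcqs `G`). -/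
theorem bijective_of_forall_eq_one [CompactSpace G.left] [QuasiSeparatedSpace G.left]
    (hG : ∀ (n : ℕ) (ρ : G ⟶ FrB.GLn n (Spec (CommRingCat.of k))), IsMonHom ρ → ρ = 1) :
    Function.Bijective ((Scheme.ΓSpecIso (CommRingCat.of k)).inv ≫ G.hom.appTop).hom := by
  obtain ⟨A, _, _, φ, hφ1, hφ2⟩ := exists_hopf_hom G
  have hinj : Function.Injective φ.left.appTop :=
    (ConcreteCategory.bijective_of_isIso φ.left.appTop).1
  have hx := eq_algebraMap_counit_of_trivial hG φ hinj
  have hnt : Nontrivial A :=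
    (RingHomClass.toRingHom (Bialgebra.counitAlgHom k A)).domain_nontrivial
  have hbij : Function.Bijective (algebraMap k A) :=
    ⟨(algebraMap k A).injective, fun x => ⟨_, (hx x).symm⟩⟩
  obtain ⟨φl, hφl⟩ : ∃ φl : G.left ⟶ Spec (CommRingCat.of A), φl = φ.left := ⟨_, rfl⟩
  have hiso : IsIso φl.appTop := by
    subst hφl
    exact hφ2
  have hw : G.hom = φl ≫ Spec.map (CommRingCat.ofHom (algebraMap k A)) := by
    subst hφl
    exact (Over.w φ).symm
  have h1 : (Scheme.ΓSpecIso (CommRingCat.of k)).inv ≫ G.hom.appTop =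
      CommRingCat.ofHom (algebraMap k A) ≫ (Scheme.ΓSpecIso (CommRingCat.of A)).inv ≫
        φl.appTop := by
    rw [hw, Scheme.Hom.comp_appTop, ← Category.assoc, ← Scheme.ΓSpecIso_inv_naturality,
      Category.assoc]
  rw [h1]
  have h2 : Function.Bijective ((Scheme.ΓSpecIso (CommRingCat.of A)).inv ≫ φl.appTop).hom :=
    ConcreteCategory.bijective_of_isIso _
  exact h2.comp hbij

end Iff

end Groth.Agent.Lib.Seat24.AntiAff
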