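import Mathlib
import Groth.Agent.Lib.Seat24GrpLocus
import Groth.Agent.Lib.Helper5FibMorLoci
import Groth.Agent.Lib.Helper3GrpFibDim

/-!
# Seat24: smooth / unramified / étale loci of homomorphisms of group schemes are unions of fibres

For a homomorphism `u : G ⟶ H` of `S`-group schemes, the set of points of `G` where `u` is smooth
(resp. unramified) is the preimage of the set of `s ∈ S` such that `u_s` is smooth (resp. unramified),
and this set is open.
-/

set_option autoImplicit false
set_option linter.unusedVariables false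
set_option linter.unusedSectionVars false
set_option linter.style.haveILetI false

open CategoryTheory CategoryTheory.Limits MonoidalCategory CartesianMonoidalCategory MonObj GrpObj
  AlgebraicGeometry

universe u

namespace Groth.Agent.Lib.Seat24.GrpHomLoci

open Groth.Agent.Lib.Seat24.GrpLocus Groth.Agent.Lib.Helper5.FibMorLoci
  Groth.Agent.Lib.Helper3.GrpFibDim

variable {S : Scheme.{u}} (G H : Over S) [GrpObj G] [GrpObj H] (u : G ⟶ H) [IsMonHom u]

/-- the homomorphism induced by `u` on the fibres over `s`. -/
noncomputable abbrev fibHom (s : S) :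
    (pullback G.hom (S.fromSpecResidueField s)) ⟶ (pullback H.hom (S.fromSpecResidueField s)) :=
  ((Over.pullback (S.fromSpecResidueField s)).map u).left

omit [GrpObj G] [GrpObj H] [IsMonHom u] in
theorem isPullback_fibHom (s : S) :
    IsPullback (pullback.fst G.hom (S.fromSpecResidueField s)) (fibHom G H u s) u.left
      (pullback.fst H.hom (S.fromSpecResidueField s)) :=
  isPullback_overPullback_map G H u (S.fromSpecResidueField s)

omit [GrpObj G] [GrpObj H] [IsMonHom u] in
/-- `fibHom` and `MoreMor.fiberMap` are isomorphic arrows. -/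
theorem prop_fibHom_iff (Q : MorphismProperty Scheme.{u}) [Q.RespectsIso] (s : S) :
    Q (fibHom G H u s) ↔ Q (MoreMor.fiberMap u.left H.hom s) := by
  have hpb := isPullback_fibHom G H u s
  have hpbFM := isPullback_fiberMap u.left H.hom s
  have he : (hpbFM.isoIsPullback _ _ hpb).hom ≫ fibHom G H u s = MoreMor.fiberMap u.left H.hom s :=
    IsPullback.isoIsPullback_hom_snd _ _ hpbFM hpb
  rw [← he]
  exact (Q.cancel_left_of_respectsIso _ _).symm

omit [GrpObj G] [GrpObj H] [IsMonHom u] in
theorem exists_fibre_point (x : G.left) :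
    ∃ z : ↑(pullback G.hom (S.fromSpecResidueField (G.hom x))),
      pullback.fst G.hom (S.fromSpecResidueField (G.hom x)) z = x := by
  let pt : Spec (S.residueField (G.hom x)) := IsLocalRing.closedPoint (S.residueField (G.hom x))
  have hpt : S.fromSpecResidueField (G.hom x) pt = G.hom x := Scheme.fromSpecResidueField_apply _ _
  obtain ⟨z, hz1, -⟩ := Scheme.Pullback.exists_preimage_pullback (f := G.hom)
    (g := S.fromSpecResidueField (G.hom x)) x pt hpt.symm
  exact ⟨z, hz1⟩

omit [GrpObj G] [GrpObj H] [IsMonHom u] in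
theorem hom_fst_eq (s : S) (z : ↑(pullback G.hom (S.fromSpecResidueField s))) :
    G.hom (pullback.fst G.hom (S.fromSpecResidueField s) z) = s := by
  rw [← Scheme.Hom.comp_apply, pullback.condition, Scheme.Hom.comp_apply]
  exact Scheme.fromSpecResidueField_apply _ _

omit [GrpObj H] in
lemma hom_unitSec_apply (s : S) : G.hom (unitSec G s) = s := by
  have h := Over.w η[G]
  have h' : unitSec G ≫ G.hom = 𝟙 S := by
    simpa [unitSec] using h
  rw [← Scheme.Hom.comp_apply, h']
  rfl

section smooth

variable [Flat G.hom] [LocallyOfFinitePresentation G.hom] [LocallyOfFiniteType H.hom]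

omit [GrpObj G] [GrpObj H] [IsMonHom u] [Flat G.hom] in
theorem lfp_hom : LocallyOfFinitePresentation u.left :=
  Groth.Agent.Lib.Helper6.locallyOfFinitePresentation_of_comp (g := H.hom) inferInstance
    (by rw [Over.w u]; infer_instance)

omit [GrpObj G] [GrpObj H] [IsMonHom u] [Flat G.hom] [LocallyOfFinitePresentation G.hom]
  [LocallyOfFiniteType H.hom] in
theorem mem_smoothLocus_iff_mem_locus {X Y : Scheme.{u}} (f : X ⟶ Y)
    [LocallyOfFinitePresentation f] (x : X) :
    x ∈ f.smoothLocus ↔ x ∈ locus @Smooth f := by
  rw [mem_locus]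
  constructor
  · intro hx
    refine ⟨f.smoothLocus, hx, ?_⟩
    rw [← Scheme.Hom.smoothLocus_eq_top_iff, ← Scheme.Hom.preimage_smoothLocus_eq, ← top_le_iff]
    rintro w -
    exact w.2
  · rintro ⟨W, hxW, hW⟩
    have h1 : (W.ι ≫ f).smoothLocus = ⊤ := Scheme.Hom.smoothLocus_eq_top_iff.mpr hW
    rw [← Scheme.Hom.preimage_smoothLocus_eq] at h1
    have h2 : (⟨x, hxW⟩ : W.toScheme) ∈ W.ι ⁻¹ᵁ f.smoothLocus := by rw [h1]; trivial
    exact h2

/-- **`u` is smooth at `x` iff the fibre `u_s`, `s` the image of `x`, is smooth.** -/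
theorem smooth_fibHom_iff (x : G.left) (s : S) (hxs : G.hom x = s) :
    haveI := lfp_hom G H u
    Smooth (fibHom G H u s) ↔ x ∈ u.left.smoothLocus := by
  subst hxs
  haveI := lfp_hom G H u
  have hw : u.left ≫ H.hom = G.hom := Over.w u
  haveI : LocallyOfFinitePresentation (u.left ≫ H.hom) := by rw [hw]; infer_instance
  set s := G.hom x with hs
  have hfl : ∀ y : G.left, (u.left ≫ H.hom) y = s → ((u.left ≫ H.hom).stalkMap y).hom.Flat := by
    intro y _
    haveI : Flat (u.left ≫ H.hom) := by rw [hw]; infer_instance
    exact Flat.stalkMap _ y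
  rw [prop_fibHom_iff G H u @Smooth s]
  constructor
  · intro h
    exact (smooth_fiberMap_iff u.left H.hom s hfl).mp h x (by rw [hw])
  · intro hx
    rw [← prop_fibHom_iff G H u @Smooth s]
    -- the field case
    let t := S.fromSpecResidueField s
    let Gs : Over (Spec (CommRingCat.of (S.residueField s))) := (Over.pullback t).obj G
    let Hs : Over (Spec (CommRingCat.of (S.residueField s))) := (Over.pullback t).obj H
    letI : GrpObj Gs := Functor.grpObjObj
    letI : GrpObj Hs := Functor.grpObjObj
    let us : Gs ⟶ Hs := (Over.pullback t).map u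
    haveI : IsMonHom us := inferInstanceAs (IsMonHom ((Over.pullback t).map u))
    haveI : LocallyOfFiniteType Gs.hom :=
      inferInstanceAs (LocallyOfFiniteType (pullback.snd G.hom t))
    have hpb := isPullback_fibHom G H u s
    haveI : LocallyOfFinitePresentation us.left :=
      MorphismProperty.of_isPullback hpb ‹_›
    obtain ⟨z, hz⟩ := exists_fibre_point G x
    have hzsm : z ∈ us.left.smoothLocus :=
      formallySmooth_stalkMap_of_isPullback hpb z (by rw [hz]; exact hx)
    have hW : Smooth (us.left.smoothLocus.ι ≫ us.left) := by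
      rw [← Scheme.Hom.smoothLocus_eq_top_iff, ← Scheme.Hom.preimage_smoothLocus_eq, ← top_le_iff]
      rintro w -
      exact w.2
    exact prop_of_nonempty_locus_field @Smooth Gs Hs us us.left.smoothLocus ⟨z, hzsm⟩ hW

theorem setOf_smooth_fibHom_eq :
    haveI := lfp_hom G H u
    {s : S | Smooth (fibHom G H u s)} = (unitSec G) ⁻¹' (u.left.smoothLocus : Set G.left) := by
  ext s
  exact smooth_fibHom_iff G H u (unitSec G s) s (hom_unitSec_apply G s)

theorem isOpen_setOf_smooth_fibHom : IsOpen {s : S | Smooth (fibHom G H u s)} := by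
  haveI := lfp_hom G H u
  rw [setOf_smooth_fibHom_eq]
  exact u.left.smoothLocus.2.preimage (unitSec G).continuous

theorem setOf_smooth_nbhd_eq :
    {x : G.left | ∃ W : G.left.Opens, x ∈ W ∧ Smooth (W.ι ≫ u.left)} =
      G.hom.base ⁻¹' {s : S | Smooth (fibHom G H u s)} := by
  haveI := lfp_hom G H u
  ext x
  simp only [Set.mem_ofPred_eq, Set.mem_preimage]
  rw [smooth_fibHom_iff G H u x _ rfl, mem_smoothLocus_iff_mem_locus, mem_locus]

end smooth

section unram

open Groth.Agent.Lib.Helper20.EtLocal

omit [GrpObj G] [GrpObj H] [IsMonHom u] in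
theorem mem_unramLocus_iff_mem_locus {X Y : Scheme.{u}} (f : X ⟶ Y) [LocallyOfFiniteType f]
    (x : X) : x ∈ unramLocus f ↔ x ∈ locus @FormallyUnramified f := by
  rw [mem_locus]
  constructor
  · intro hx
    obtain ⟨U, hxU, hU⟩ := exists_formallyUnramified_nbhd f x hx
    exact ⟨U, hxU, hU⟩
  · rintro ⟨W, hxW, hW⟩
    haveI := hW
    exact formallyUnramified_stalkMap_of_nbhd f x W hxW

variable [LocallyOfFiniteType u.left]

/-- **`u` is unramified at `x` iff the fibre `u_s`, `s` the image of `x`, is unramified.** -/
theorem unram_fibHom_iff (x : G.left) (s : S) (hxs : G.hom x = s)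
    (hG : LocallyOfFiniteType (pullback.snd G.hom (S.fromSpecResidueField s))) :
    FormallyUnramified (fibHom G H u s) ↔ x ∈ unramLocus u.left := by
  subst hxs
  set s := G.hom x with hs
  have hw : u.left ≫ H.hom = G.hom := Over.w u
  rw [prop_fibHom_iff G H u @FormallyUnramified s]
  constructor
  · intro h
    exact (unram_fiberMap_iff u.left H.hom s).mp h x (by rw [hw])
  · intro hx
    rw [← prop_fibHom_iff G H u @FormallyUnramified s]
    let t := S.fromSpecResidueField s
    let Gs : Over (Spec (CommRingCat.of (S.residueField s))) := (Over.pullback t).obj G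
    let Hs : Over (Spec (CommRingCat.of (S.residueField s))) := (Over.pullback t).obj H
    letI : GrpObj Gs := Functor.grpObjObj
    letI : GrpObj Hs := Functor.grpObjObj
    let us : Gs ⟶ Hs := (Over.pullback t).map u
    haveI : IsMonHom us := inferInstanceAs (IsMonHom ((Over.pullback t).map u))
    haveI : LocallyOfFiniteType Gs.hom := hG
    have hpb := isPullback_fibHom G H u s
    obtain ⟨z, hz⟩ := exists_fibre_point G x
    have hzl : z ∈ locus @FormallyUnramified us.left := by
      refine mem_locus_of_isPullback @FormallyUnramified hpb z ?_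
      rw [hz]
      exact (mem_unramLocus_iff_mem_locus u.left x).mp hx
    obtain ⟨W, hzW, hW⟩ := (mem_locus @FormallyUnramified us.left z).mp hzl
    exact prop_of_nonempty_locus_field @FormallyUnramified Gs Hs us W ⟨z, hzW⟩ hW

theorem setOf_unram_fibHom_eq
    (hG : ∀ s : S, LocallyOfFiniteType (pullback.snd G.hom (S.fromSpecResidueField s))) :
    {s : S | FormallyUnramified (fibHom G H u s)} =
      (unitSec G) ⁻¹' (unramLocus u.left : Set G.left) := by
  ext s
  exact unram_fibHom_iff G H u (unitSec G s) s (hom_unitSec_apply G s) (hG s)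

theorem isOpen_setOf_unram_fibHom
    (hG : ∀ s : S, LocallyOfFiniteType (pullback.snd G.hom (S.fromSpecResidueField s))) :
    IsOpen {s : S | FormallyUnramified (fibHom G H u s)} := by
  rw [setOf_unram_fibHom_eq G H u hG]
  exact (unramLocus u.left).2.preimage (unitSec G).continuous

theorem setOf_unram_nbhd_eq
    (hG : ∀ s : S, LocallyOfFiniteType (pullback.snd G.hom (S.fromSpecResidueField s))) :
    {x : G.left | ∃ W : G.left.Opens, x ∈ W ∧ FormallyUnramified (W.ι ≫ u.left)} =
      G.hom.base ⁻¹' {s : S | FormallyUnramified (fibHom G H u s)} := by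
  ext x
  simp only [Set.mem_ofPred_eq, Set.mem_preimage]
  rw [unram_fibHom_iff G H u x _ rfl (hG _), mem_unramLocus_iff_mem_locus, mem_locus]

end unram

section etale

variable [Flat G.hom] [LocallyOfFinitePresentation G.hom] [LocallyOfFiniteType H.hom]

omit [GrpObj G] [GrpObj H] [IsMonHom u] [Flat G.hom] [LocallyOfFiniteType H.hom] in
theorem lft_fibre (s : S) :
    LocallyOfFiniteType (pullback.snd G.hom (S.fromSpecResidueField s)) := inferInstance

theorem setOf_etale_fibHom_eq :
    {s : S | Etale (fibHom G H u s)} =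
      {s : S | Smooth (fibHom G H u s)} ∩ {s : S | FormallyUnramified (fibHom G H u s)} := by
  ext s
  exact etale_iff_smooth_and_unram _

theorem isOpen_setOf_etale_fibHom : IsOpen {s : S | Etale (fibHom G H u s)} := by
  haveI := lfp_hom G H u
  rw [setOf_etale_fibHom_eq]
  exact (isOpen_setOf_smooth_fibHom G H u).inter
    (isOpen_setOf_unram_fibHom G H u (lft_fibre G))

theorem setOf_etale_nbhd_eq :
    {x : G.left | ∃ W : G.left.Opens, x ∈ W ∧ Etale (W.ι ≫ u.left)} =
      G.hom.base ⁻¹' {s : S | Etale (fibHom G H u s)} := by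
  haveI := lfp_hom G H u
  rw [setOf_etale_fibHom_eq, Set.preimage_inter, ← setOf_smooth_nbhd_eq,
    ← setOf_unram_nbhd_eq G H u (lft_fibre G)]
  ext x
  simp only [Set.mem_ofPred_eq, Set.mem_inter_iff]
  constructor
  · rintro ⟨W, hxW, hW⟩
    rw [etale_iff_smooth_and_unram] at hW
    exact ⟨⟨W, hxW, hW.1⟩, ⟨W, hxW, hW.2⟩⟩
  · rintro ⟨⟨W₁, hxW₁, hW₁⟩, ⟨W₂, hxW₂, hW₂⟩⟩
    refine ⟨W₁ ⊓ W₂, ⟨hxW₁, hxW₂⟩, ?_⟩
    rw [etale_iff_smooth_and_unram]
    exact ⟨prop_ι_comp_of_le_locus @Smooth u.left _
        (inf_le_left.trans (le_locus @Smooth u.left W₁ hW₁)),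
      prop_ι_comp_of_le_locus @FormallyUnramified u.left _
        (inf_le_right.trans (le_locus @FormallyUnramified u.left W₂ hW₂))⟩

end etale

section openImm

/-- an étale universally injective morphism is an open immersion. -/
theorem isOpenImmersion_of_etale_of_universallyInjective {X Y : Scheme.{u}} (f : X ⟶ Y)
    [Etale f] [UniversallyInjective f] : IsOpenImmersion f := by
  haveI : Surjective (pullback.diagonal f) := (UniversallyInjective.iff_diagonal f).mp inferInstance
  haveI : IsOpenImmersion (pullback.diagonal f) := inferInstance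
  haveI : IsIso (pullback.diagonal f) :=
    (isIso_iff_isOpenImmersion_and_surjective _).mpr ⟨inferInstance, inferInstance⟩
  haveI : Mono f := (pullback.isIso_diagonal_iff f).mp inferInstance
  exact IsOpenImmersion.of_flat_of_mono f

theorem isOpenImmersion_iff_etale_of_universallyInjective {X Y : Scheme.{u}} (f : X ⟶ Y)
    [UniversallyInjective f] : IsOpenImmersion f ↔ Etale f :=
  ⟨fun _ => inferInstance, fun _ => isOpenImmersion_of_etale_of_universallyInjective f⟩

variable [UniversallyInjective u.left]
  [Flat G.hom] [LocallyOfFinitePresentation G.hom] [LocallyOfFiniteType H.hom]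

omit [GrpObj G] [GrpObj H] [IsMonHom u] [Flat G.hom] [LocallyOfFinitePresentation G.hom]
  [LocallyOfFiniteType H.hom] in
theorem universallyInjective_fibHom (s : S) : UniversallyInjective (fibHom G H u s) :=
  MorphismProperty.of_isPullback (P := @UniversallyInjective) (isPullback_fibHom G H u s) ‹_›

theorem setOf_isOpenImmersion_fibHom_eq :
    {s : S | IsOpenImmersion (fibHom G H u s)} = {s : S | Etale (fibHom G H u s)} := by
  ext s
  haveI := universallyInjective_fibHom G H u s
  exact isOpenImmersion_iff_etale_of_universallyInjective _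

theorem isOpen_setOf_isOpenImmersion_fibHom :
    IsOpen {s : S | IsOpenImmersion (fibHom G H u s)} := by
  rw [setOf_isOpenImmersion_fibHom_eq]
  exact isOpen_setOf_etale_fibHom G H u

theorem isOpenImmersion_of_subset (W : S.Opens)
    (hW : (W : Set S) ⊆ {s : S | IsOpenImmersion (fibHom G H u s)}) :
    IsOpenImmersion ((G.hom ⁻¹ᵁ W).ι ≫ u.left) := by
  rw [setOf_isOpenImmersion_fibHom_eq] at hW
  have hle : G.hom ⁻¹ᵁ W ≤ locus @Etale u.left := by
    intro x hx
    have h1 : x ∈ G.hom.base ⁻¹' {s : S | Etale (fibHom G H u s)} := hW hx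
    rw [← setOf_etale_nbhd_eq] at h1
    exact (mem_locus @Etale u.left x).mpr h1
  haveI : Etale ((G.hom ⁻¹ᵁ W).ι ≫ u.left) := prop_ι_comp_of_le_locus @Etale u.left _ hle
  haveI : UniversallyInjective ((G.hom ⁻¹ᵁ W).ι ≫ u.left) :=
    MorphismProperty.comp_mem _ _ _ inferInstance ‹_›
  exact isOpenImmersion_of_etale_of_universallyInjective _

end openImm

section kernel

open Groth.Agent.Lib.Helper20.FlatDesc

/-- a section of an unramified morphism locally of finite type is an open immersion. -/
theorem isOpenImmersion_of_section {X Y : Scheme.{u}} (f : X ⟶ Y) [FormallyUnramified f]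
    [LocallyOfFiniteType f] (σ : Y ⟶ X) (hσ : σ ≫ f = 𝟙 Y) : IsOpenImmersion σ := by
  haveI : MorphismProperty.HasOfPostcompProperty @IsOpenImmersion
      (@LocallyOfFiniteType ⊓ @FormallyUnramified) := by
    rw [MorphismProperty.hasOfPostcompProperty_iff_le_diagonal]
    intro X Y f ⟨hft, hfu⟩
    exact inferInstanceAs (IsOpenImmersion (pullback.diagonal f))
  refine MorphismProperty.of_postcomp (W := @IsOpenImmersion)
    (W' := @LocallyOfFiniteType ⊓ @FormallyUnramified) σ f ⟨‹_›, ‹_›⟩ ?_
  rw [hσ]
  exact inferInstanceAs (IsOpenImmersion (𝟙 Y))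

variable [LocallyOfFiniteType u.left]

/-- `u` is unramified iff all its fibres are. -/
theorem unram_iff_forall_fibHom
    (hG : ∀ s : S, LocallyOfFiniteType (pullback.snd G.hom (S.fromSpecResidueField s))) :
    FormallyUnramified u.left ↔ ∀ s : S, FormallyUnramified (fibHom G H u s) := by
  constructor
  · intro h s
    exact MorphismProperty.of_isPullback (P := @FormallyUnramified) (isPullback_fibHom G H u s) h
  · intro h
    apply of_locus_eq_top @FormallyUnramified
    intro x
    rw [← mem_unramLocus_iff_mem_locus, ← unram_fibHom_iff G H u x _ rfl (hG _)]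
    exact h _

/-- `u` is unramified iff it is unramified at the points of the unit section. -/
theorem unram_iff_forall_unitSec
    (hG : ∀ s : S, LocallyOfFiniteType (pullback.snd G.hom (S.fromSpecResidueField s))) :
    FormallyUnramified u.left ↔ ∀ s : S, unitSec G s ∈ unramLocus u.left := by
  rw [unram_iff_forall_fibHom G H u hG]
  exact forall_congr' fun s => unram_fibHom_iff G H u (unitSec G s) s (hom_unitSec_apply G s) (hG s)

variable (K : Over S) [GrpObj K] (i : K ⟶ G) [IsMonHom i]

omit [LocallyOfFiniteType u.left] in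
theorem isPullback_kernel (hK : AlgGrp.IsKernel i u) :
    IsPullback i.left K.hom u.left (η[H] : 𝟙_ (Over S) ⟶ H).left := by
  have := IsPullback.map (Over.forget S) hK
  simp at this
  exact this

omit [GrpObj H] [IsMonHom u] [LocallyOfFiniteType u.left] in
theorem map_unitSec (s : S) : i.left (unitSec K s) = unitSec G s := by
  show (η[K].left ≫ i.left) s = η[G].left s
  rw [← Over.comp_left, IsMonHom.one_hom]

/-- if the kernel is unramified at the points of its unit section, `u` is unramified. -/
theorem unram_of_kernel_unitSec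
    (hG : ∀ s : S, LocallyOfFiniteType (pullback.snd G.hom (S.fromSpecResidueField s)))
    (hK : AlgGrp.IsKernel i u)
    (h : ∀ s : S, (K.hom.stalkMap (unitSec K s)).hom.FormallyUnramified) :
    FormallyUnramified u.left := by
  rw [unram_iff_forall_unitSec G H u hG]
  intro s
  have := formallyUnramified_stalkMap_of_isPullback (isPullback_kernel G H u K i hK)
    (unitSec K s) (h s)
  rw [map_unitSec] at this
  exact this

theorem unram_iff_kernel
    (hG : ∀ s : S, LocallyOfFiniteType (pullback.snd G.hom (S.fromSpecResidueField s)))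
    (hK : AlgGrp.IsKernel i u) :
    FormallyUnramified u.left ↔ FormallyUnramified K.hom := by
  constructor
  · intro h
    exact MorphismProperty.of_isPullback (P := @FormallyUnramified)
      (isPullback_kernel G H u K i hK) h
  · intro h
    exact unram_of_kernel_unitSec G H u K i hG hK fun s => FormallyUnramified.stalkMap K.hom _

theorem unram_iff_unit_isOpenImmersion
    (hG : ∀ s : S, LocallyOfFiniteType (pullback.snd G.hom (S.fromSpecResidueField s)))
    (hK : AlgGrp.IsKernel i u) :
    FormallyUnramified u.left ↔ IsOpenImmersion η[K].left := by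
  have hpb := isPullback_kernel G H u K i hK
  haveI : LocallyOfFiniteType K.hom := MorphismProperty.of_isPullback hpb ‹_›
  have hsec : η[K].left ≫ K.hom = 𝟙 S := by
    have := Over.w η[K]
    simpa using this
  constructor
  · intro h
    haveI : FormallyUnramified K.hom := (unram_iff_kernel G H u K i hG hK).mp h
    exact isOpenImmersion_of_section K.hom η[K].left hsec
  · intro h
    refine unram_of_kernel_unitSec G H u K i hG hK fun s => ?_
    -- `K → S` is an isomorphism on the open image of the unit section
    let W : K.left.Opens := η[K].left.opensRange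
    have hs : unitSec K s ∈ W := ⟨s, rfl⟩
    have hiso : IsIso (W.ι ≫ K.hom) := by
      have h1 : (η[K].left.isoOpensRange).hom ≫ W.ι = η[K].left := by simp [W]
      have h2 : (η[K].left.isoOpensRange).hom ≫ (W.ι ≫ K.hom) = 𝟙 S := by
        rw [← Category.assoc, h1, hsec]
      have h3 : W.ι ≫ K.hom = (η[K].left.isoOpensRange).inv :=
        (Iso.hom_comp_eq_id _).mp h2
      rw [h3]
      infer_instance
    haveI : FormallyUnramified (W.ι ≫ K.hom) := inferInstance
    exact Groth.Agent.Lib.Helper20.EtLocal.formallyUnramified_stalkMap_of_nbhd K.hom _ W hs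

end kernel

end Groth.Agent.Lib.Seat24.GrpHomLoci
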