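import Mathlib

/-!
# Local descent of "locally of finite type" along a field extension (helper24)

`K/k` a field extension, `B` a `k`-algebra, `f ∈ K ⊗[k] B` with `(K ⊗[k] B)[1/f]` of finite type
over `K`.  Then every prime of `B` below a prime of `D(f)` has a basic open neighbourhood `D(b)`
with `B[1/b]` of finite type over `k`.
-/

set_option autoImplicit false
universe u

open TensorProduct

namespace Groth.Agent.Lib.Seat24.LFTDescent

section alg

variable {k K B : Type u} [Field k] [Field K] [Algebra k K] [CommRing B] [Algebra k B]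

/-- finitely many elements of `K ⊗ B` lie in the base change of a f.g. subalgebra. -/
lemma exists_fg_forall_mem_baseChange (T : Finset (K ⊗[k] B)) :
    ∃ A : Subalgebra k B, A.FG ∧ ∀ t ∈ T, t ∈ A.baseChange K := by
  classical
  induction T using Finset.induction_on with
  | empty => exact ⟨⊥, Subalgebra.fg_bot, by simp⟩
  | insert a s _ ih =>
    obtain ⟨A, hA, hAs⟩ := ih
    obtain ⟨A', hA', ha⟩ := exists_fg_and_mem_baseChange a
    have mono : ∀ {C D : Subalgebra k B}, C ≤ D → C.baseChange K ≤ D.baseChange K := by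
      intro C D hCD x hx
      obtain ⟨y, rfl⟩ := hx
      refine ⟨Algebra.TensorProduct.map (AlgHom.id K K) (Subalgebra.inclusion hCD) y, ?_⟩
      change (Algebra.TensorProduct.map (AlgHom.id K K) D.val)
        ((Algebra.TensorProduct.map (AlgHom.id K K) (Subalgebra.inclusion hCD)) y) =
        (Algebra.TensorProduct.map (AlgHom.id K K) C.val) y
      induction y using TensorProduct.induction_on with
      | zero => simp
      | tmul a c => simp
      | add a b ha hb => simp only [map_add, ha, hb]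
    refine ⟨A ⊔ A', hA.sup hA', ?_⟩
    intro t ht
    rcases Finset.mem_insert.mp ht with rfl | ht
    · exact mono le_sup_right ha
    · exact mono le_sup_left (hAs t ht)

/-- if `(K ⊗ B)[1/f]` is of finite type over `K`, there is a f.g. `k`-subalgebra `A` of `B` with
`f ∈ K ⊗ A` and such that every element of `K ⊗ B` is multiplied into `K ⊗ A` by a power of `f`. -/
lemma exists_fg_pow_mul_mem (f : K ⊗[k] B) (C : Type u) [CommRing C] [Algebra (K ⊗[k] B) C]
    [IsLocalization.Away f C] [Algebra K C] [IsScalarTower K (K ⊗[k] B) C]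
    (hfin : Algebra.FiniteType K C) :
    ∃ A : Subalgebra k B, A.FG ∧ f ∈ A.baseChange K ∧
      ∀ x : K ⊗[k] B, ∃ n : ℕ, f ^ n * x ∈ A.baseChange K := by
  classical
  obtain ⟨s, hs⟩ := hfin.out
  choose n t hnt using fun c : C => IsLocalization.Away.surj f c
  obtain ⟨A, hA, hAT⟩ := exists_fg_forall_mem_baseChange (insert f (s.image t))
  have hfA : f ∈ A.baseChange K := hAT f (Finset.mem_insert_self _ _)
  refine ⟨A, hA, hfA, ?_⟩
  -- the subalgebra of `C` of elements with numerators in `K ⊗ A`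
  let S' : Subalgebra K C :=
    { carrier := {c | ∃ m : ℕ, ∃ y ∈ A.baseChange K,
        c * algebraMap (K ⊗[k] B) C f ^ m = algebraMap (K ⊗[k] B) C y}
      mul_mem' := by
        rintro a b ⟨m₁, y₁, hy₁, h₁⟩ ⟨m₂, y₂, hy₂, h₂⟩
        refine ⟨m₁ + m₂, y₁ * y₂, mul_mem hy₁ hy₂, ?_⟩
        rw [map_mul, ← h₁, ← h₂, pow_add]; ring
      add_mem' := by
        rintro a b ⟨m₁, y₁, hy₁, h₁⟩ ⟨m₂, y₂, hy₂, h₂⟩
        refine ⟨m₁ + m₂, y₁ * f ^ m₂ + y₂ * f ^ m₁,
          add_mem (mul_mem hy₁ (pow_mem hfA _)) (mul_mem hy₂ (pow_mem hfA _)), ?_⟩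
        rw [map_add, map_mul, map_mul, ← h₁, ← h₂, pow_add, map_pow, map_pow]; ring
      algebraMap_mem' := by
        intro r
        refine ⟨0, algebraMap K (K ⊗[k] B) r, Subalgebra.algebraMap_mem _ r, ?_⟩
        rw [pow_zero, mul_one, ← IsScalarTower.algebraMap_apply] }
  have hS' : S' = ⊤ := by
    rw [eq_top_iff, ← hs]
    refine Algebra.adjoin_le ?_
    intro c hc
    exact ⟨n c, t c, hAT _ (Finset.mem_insert_of_mem (Finset.mem_image_of_mem t hc)), hnt c⟩
  intro x
  have hx : algebraMap (K ⊗[k] B) C x ∈ S' := hS' ▸ Algebra.mem_top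
  obtain ⟨m, y, hy, h⟩ := hx
  rw [← map_pow, ← map_mul] at h
  obtain ⟨l, hl⟩ := IsLocalization.Away.exists_of_eq f h
  refine ⟨l + m, ?_⟩
  have : f ^ (l + m) * x = f ^ l * y := by rw [← hl, pow_add]; ring
  rw [this]
  exact mul_mem (pow_mem hfA _) hy

variable (A : Subalgebra k B)

/-- the conductor of `x` into the subalgebra `A`. -/
def conductor (x : B) : Ideal A where
  carrier := {a | (a : B) * x ∈ A}
  add_mem' := by
    intro a b ha hb
    simp only [Set.mem_ofPred_eq, Subalgebra.coe_add, add_mul] at ha hb ⊢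
    exact add_mem ha hb
  zero_mem' := by simp
  smul_mem' := by
    intro c a ha
    simp only [Set.mem_ofPred_eq, smul_eq_mul, Subalgebra.coe_mul, mul_assoc] at ha ⊢
    exact mul_mem c.2 ha

lemma mem_conductor (x : B) (a : A) : a ∈ conductor A x ↔ (a : B) * x ∈ A := Iff.rfl

variable (K) in
/-- the inclusion `K ⊗ A → K ⊗ B`. -/
abbrev incl : K ⊗[k] A →ₐ[K] K ⊗[k] B := Algebra.TensorProduct.map (AlgHom.id K K) A.val

lemma mem_map_conductor (x : B) (t : K ⊗[k] A)
    (h : incl K A t * (1 ⊗ₜ x) ∈ A.baseChange K) :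
    t ∈ Ideal.map (Algebra.TensorProduct.includeRight : A →ₐ[k] K ⊗[k] A) (conductor A x) := by
  classical
  obtain ⟨y, hy⟩ := h
  let ℬ := Module.Free.chooseBasis k K
  let eA := TensorProduct.equivFinsuppOfBasisLeft (N := A) ℬ
  let eB := TensorProduct.equivFinsuppOfBasisLeft (N := B) ℬ
  have nat : ∀ (z : K ⊗[k] A) i, eB (incl K A z) i = (eA z i : B) := by
    intro z i
    induction z using TensorProduct.induction_on with
    | zero => simp
    | tmul a c =>
      simp only [eA, eB, incl, Algebra.TensorProduct.map_tmul, AlgHom.coe_id, id_eq,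
        Subalgebra.coe_val, TensorProduct.equivFinsuppOfBasisLeft_apply_tmul_apply]
      simp [Algebra.smul_def]
    | add a b ha hb => simp only [map_add, Finsupp.add_apply, ha, hb, Subalgebra.coe_add]
  have lin : ∀ (z : K ⊗[k] B) i, eB (z * (1 ⊗ₜ x)) i = eB z i * x := by
    intro z i
    induction z using TensorProduct.induction_on with
    | zero => simp
    | tmul a c =>
      simp only [eB, Algebra.TensorProduct.tmul_mul_tmul, mul_one,
        TensorProduct.equivFinsuppOfBasisLeft_apply_tmul_apply, smul_mul_assoc]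
    | add a b ha hb => simp only [add_mul, map_add, Finsupp.add_apply, ha, hb]
  have hmem : ∀ i, eA t i ∈ conductor A x := by
    intro i
    rw [mem_conductor, ← nat, ← lin]
    have : incl K A t * (1 ⊗ₜ x) = incl K A y := hy.symm
    rw [this, nat]
    exact (eA y i).2
  have ht : t = (eA t).sum fun i n => ℬ i ⊗ₜ n := by
    rw [← TensorProduct.equivFinsuppOfBasisLeft_symm_apply]
    exact (eA.symm_apply_apply t).symm
  rw [ht]
  refine Ideal.sum_mem _ fun i _ => ?_
  have : ℬ i ⊗ₜ[k] (eA t i) = (ℬ i ⊗ₜ[k] (1 : A)) *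
      (Algebra.TensorProduct.includeRight : A →ₐ[k] K ⊗[k] A) (eA t i) := by
    simp
  change ℬ i ⊗ₜ[k] (eA t i) ∈ _
  rw [this]
  exact Ideal.mul_mem_left _ _ (Ideal.mem_map_of_mem _ (hmem i))

/-- **Local descent of finite type along a field extension (algebra form).** -/
theorem exists_finiteType_away (f : K ⊗[k] B) (C : Type u) [CommRing C] [Algebra (K ⊗[k] B) C]
    [IsLocalization.Away f C] [Algebra K C] [IsScalarTower K (K ⊗[k] B) C]
    (hfin : Algebra.FiniteType K C) (q : PrimeSpectrum (K ⊗[k] B)) (hq : f ∉ q.asIdeal) :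
    ∃ b : B, (1 : K) ⊗ₜ[k] b ∉ q.asIdeal ∧ Algebra.FiniteType k (Localization.Away b) := by
  classical
  obtain ⟨A, hA, hfA, hpow⟩ := exists_fg_pow_mul_mem f C hfin
  obtain ⟨f₀, hf₀⟩ := hfA
  have hf₀' : incl K A f₀ = f := hf₀
  let iR : A →+* K ⊗[k] A := (Algebra.TensorProduct.includeRight : A →ₐ[k] K ⊗[k] A).toRingHom
  have hopen : IsOpenMap (PrimeSpectrum.comap iR) := by
    have h1 : iR = ((Algebra.TensorProduct.comm k A K).toAlgHom.toRingHom).comp
        (algebraMap A (A ⊗[k] K)) := by
      ext a; simp [iR]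
    rw [h1, PrimeSpectrum.comap_comp]
    exact (PrimeSpectrum.isOpenMap_comap_algebraMap_tensorProduct_of_field).comp
      (PrimeSpectrum.isHomeomorph_comap_of_bijective
        (Algebra.TensorProduct.comm k A K).bijective).isOpenMap
  let q₀ : PrimeSpectrum (K ⊗[k] A) := PrimeSpectrum.comap (incl K A).toRingHom q
  have hq₀ : q₀ ∈ (PrimeSpectrum.basicOpen f₀ : Set _) := by
    change f₀ ∉ q₀.asIdeal
    intro h
    exact hq (hf₀' ▸ h)
  let p₀ := PrimeSpectrum.comap iR q₀
  have hU : IsOpen (PrimeSpectrum.comap iR '' (PrimeSpectrum.basicOpen f₀ : Set _)) :=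
    hopen _ (PrimeSpectrum.basicOpen f₀).isOpen
  have hp₀ : p₀ ∈ PrimeSpectrum.comap iR '' (PrimeSpectrum.basicOpen f₀ : Set _) :=
    ⟨q₀, hq₀, rfl⟩
  obtain ⟨_, ⟨b, rfl⟩, hpb, hbU⟩ :=
    PrimeSpectrum.isTopologicalBasis_basic_opens.exists_subset_of_mem_open hp₀ hU
  have key : ∀ x : B, ∃ m : ℕ, (b : B) ^ m * x ∈ A := by
    intro x
    obtain ⟨n, hn⟩ := hpow (1 ⊗ₜ x)
    have h1 : f₀ ^ n ∈ Ideal.map (Algebra.TensorProduct.includeRight : A →ₐ[k] K ⊗[k] A)
        (conductor A x) :=
      mem_map_conductor A x (f₀ ^ n) (by rw [map_pow, hf₀']; exact hn)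
    have h2 : b ∈ (conductor A x).radical := by
      rw [Ideal.radical_eq_sInf, Ideal.mem_sInf]
      rintro P ⟨hJP, hP⟩
      by_contra hbP
      have hPb : (⟨P, hP⟩ : PrimeSpectrum A) ∈ (PrimeSpectrum.basicOpen b : Set _) := hbP
      obtain ⟨Q, hQ, hQP⟩ := hbU hPb
      have hle : Ideal.map (Algebra.TensorProduct.includeRight : A →ₐ[k] K ⊗[k] A)
          (conductor A x) ≤ Q.asIdeal := by
        rw [Ideal.map_le_iff_le_comap]
        have : Q.asIdeal.comap iR = P := congrArg PrimeSpectrum.asIdeal hQP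
        intro a ha
        have : a ∈ Q.asIdeal.comap iR := this ▸ hJP ha
        exact this
      exact hQ (Q.2.mem_of_pow_mem n (hle h1))
    obtain ⟨m, hm⟩ := h2
    exact ⟨m, by simpa [mem_conductor] using hm⟩
  refine ⟨(b : B), ?_, ?_⟩
  · intro h
    apply hpb
    change iR b ∈ q₀.asIdeal
    change incl K A (iR b) ∈ q.asIdeal
    simpa [iR] using h
  · obtain ⟨s, hs⟩ := hA
    let inv : Localization.Away (b : B) := IsLocalization.Away.invSelf (b : B)
    have hinv : algebraMap B (Localization.Away (b : B)) b * inv = 1 :=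
      IsLocalization.Away.mul_invSelf _
    refine ⟨⟨s.image (algebraMap B (Localization.Away (b : B))) ∪ {inv}, ?_⟩⟩
    rw [eq_top_iff]
    intro z _
    obtain ⟨l, x, hx⟩ := IsLocalization.Away.surj (b : B) z
    obtain ⟨m, hm⟩ := key x
    have hz : z = algebraMap B (Localization.Away (b : B)) ((b : B) ^ m * x) * inv ^ (m + l) := by
      rw [map_mul, ← hx, map_pow, pow_add]
      calc z = z * (algebraMap B (Localization.Away (b : B)) b * inv) ^ l *
            (algebraMap B (Localization.Away (b : B)) b * inv) ^ m := by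
              rw [hinv]; simp
        _ = _ := by ring
    rw [hz]
    refine mul_mem ?_ (pow_mem (Algebra.subset_adjoin (by simp)) _)
    have h1 : (b : B) ^ m * x ∈ Algebra.adjoin k (s : Set B) := hs ▸ hm
    have h2 : algebraMap B (Localization.Away (b : B)) ((b : B) ^ m * x) ∈
        (Algebra.adjoin k (s : Set B)).map (IsScalarTower.toAlgHom k B _) :=
      ⟨_, h1, rfl⟩
    rw [AlgHom.map_adjoin] at h2
    refine Algebra.adjoin_mono ?_ h2
    intro y hy
    obtain ⟨y', hy', rfl⟩ := hy
    simp only [Finset.coe_union, Finset.coe_image, Finset.coe_singleton, Set.union_singleton,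
      Set.mem_insert_iff, Set.mem_image]
    exact Or.inr ⟨y', hy', rfl⟩

end alg

section scheme

open AlgebraicGeometry CategoryTheory CategoryTheory.Limits

variable {k K : Type u} [Field k] [Field K] [Algebra k K]

/-- **Lemma A (Spec form).** -/
theorem exists_away_finiteType_of_opens {B : Type u} [CommRing B] [Algebra k B]
    (U : (Spec (CommRingCat.of (K ⊗[k] B))).Opens)
    (hU : LocallyOfFiniteType
      (U.ι ≫ Spec.map (CommRingCat.ofHom (algebraMap K (K ⊗[k] B)))))
    (x : Spec (CommRingCat.of (K ⊗[k] B))) (hx : x ∈ U) :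
    ∃ b : B, (1 : K) ⊗ₜ[k] b ∉ x.asIdeal ∧ Algebra.FiniteType k (Localization.Away b) := by
  obtain ⟨_, ⟨f, rfl⟩, hxf, hfU⟩ :=
    PrimeSpectrum.isTopologicalBasis_basic_opens.exists_subset_of_mem_open
      (show x ∈ (U : Set _) from hx) U.2
  let C := Localization.Away f
  let j : Spec (CommRingCat.of C) ⟶ Spec (CommRingCat.of (K ⊗[k] B)) :=
    Spec.map (CommRingCat.ofHom (algebraMap (K ⊗[k] B) C))
  have : IsOpenImmersion j := IsOpenImmersion.of_isLocalization f
  have hr : Set.range j ⊆ Set.range U.ι := by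
    rw [Scheme.Opens.range_ι]
    refine subset_trans ?_ hfU
    rintro _ ⟨y, rfl⟩
    exact (PrimeSpectrum.localization_away_comap_range C f).subset ⟨y, rfl⟩
  let l := IsOpenImmersion.lift U.ι j hr
  have hl : l ≫ U.ι = j := IsOpenImmersion.lift_fac _ _ _
  have : IsOpenImmersion (l ≫ U.ι) := by rw [hl]; infer_instance
  have : IsOpenImmersion l := IsOpenImmersion.of_comp l U.ι
  have h1 : LocallyOfFiniteType (j ≫ Spec.map (CommRingCat.ofHom (algebraMap K (K ⊗[k] B)))) := by
    rw [← hl, Category.assoc]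
    infer_instance
  rw [← Spec.map_comp, HasRingHomProperty.Spec_iff (P := @LocallyOfFiniteType)] at h1
  have h2 : Algebra.FiniteType K C := by
    rw [← RingHom.finiteType_algebraMap, IsScalarTower.algebraMap_eq K (K ⊗[k] B) C]
    exact h1
  exact exists_finiteType_away f C h2 x hxf

/-- auxiliary form of Lemma B with an abstract name for `Spec K → Spec k`. -/
theorem exists_nbhd_locallyOfFiniteType_aux {X : Scheme.{u}} (φ : X ⟶ Spec (CommRingCat.of k))
    (σ : Spec (CommRingCat.of K) ⟶ Spec (CommRingCat.of k))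
    (hσ : σ = Spec.map (CommRingCat.ofHom (algebraMap k K)))
    (U' : (pullback φ σ).Opens)
    (hU' : LocallyOfFiniteType (U'.ι ≫ pullback.snd φ σ))
    (x' : ↥(pullback φ σ)) (hx' : x' ∈ U') :
    ∃ N : X.Opens, (pullback.fst φ σ) x' ∈ N ∧ LocallyOfFiniteType (N.ι ≫ φ) := by
  obtain ⟨R, j, hj, x₁, hx₁⟩ := Scheme.exists_Spec_apply_eq ((pullback.fst φ σ) x')
  let ρ : CommRingCat.of k ⟶ R := Spec.preimage (j ≫ φ)
  have hρ : Spec.map ρ = j ≫ φ := Spec.map_preimage _
  let _ : Algebra k R := ρ.hom.toAlgebra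
  have hρ' : CommRingCat.ofHom (algebraMap k R) = ρ := rfl
  let inclR : R ⟶ CommRingCat.of (K ⊗[k] R) :=
    CommRingCat.ofHom (Algebra.TensorProduct.includeRight.toRingHom)
  let inclL : CommRingCat.of K ⟶ CommRingCat.of (K ⊗[k] R) :=
    CommRingCat.ofHom Algebra.TensorProduct.includeLeftRingHom
  have sqT : IsPullback (Spec.map inclR) (Spec.map inclL)
      (Spec.map (CommRingCat.ofHom (algebraMap k R))) σ := by
    rw [hσ]
    exact (isPullback_SpecMap_of_isPushout _ _ _ _
      (CommRingCat.isPushout_tensorProduct k K R)).flip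
  rw [hρ', hρ] at sqT
  let θ : Spec (CommRingCat.of (K ⊗[k] R)) ⟶ pullback φ σ :=
    pullback.lift (Spec.map inclR ≫ j) (Spec.map inclL) (by rw [Category.assoc, sqT.w])
  have hθ1 : θ ≫ pullback.fst φ σ = Spec.map inclR ≫ j := pullback.lift_fst _ _ _
  have hθ2 : θ ≫ pullback.snd φ σ = Spec.map inclL := pullback.lift_snd _ _ _
  have sqθ : IsPullback θ (Spec.map inclR) (pullback.fst φ σ) j :=
    IsPullback.of_right (by rw [hθ2]; exact sqT.flip) hθ1 (IsPullback.of_hasPullback φ σ).flip
  have hθo : IsOpenImmersion θ := MorphismProperty.of_isPullback (P := @IsOpenImmersion) sqθ.flip hj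
  obtain ⟨x'', hx''1, hx''2⟩ := Scheme.exists_preimage_of_isPullback sqθ x' x₁ hx₁.symm
  let U'' : (Spec (CommRingCat.of (K ⊗[k] R))).Opens := θ ⁻¹ᵁ U'
  have hx''U : x'' ∈ U'' := by
    change θ x'' ∈ U'
    rw [hx''1]; exact hx'
  have hU'' : LocallyOfFiniteType
      (U''.ι ≫ Spec.map (CommRingCat.ofHom (algebraMap K (K ⊗[k] R)))) := by
    have e1 : Spec.map (CommRingCat.ofHom (algebraMap K (K ⊗[k] R))) = θ ≫ pullback.snd φ σ := by
      rw [hθ2]
    rw [e1, ← Category.assoc, ← morphismRestrict_ι θ U', Category.assoc]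
    have := hU'
    infer_instance
  obtain ⟨b, hb, hfin⟩ := exists_away_finiteType_of_opens U'' hU'' x'' hx''U
  have : IsOpenImmersion (Spec.map (CommRingCat.ofHom (algebraMap R (Localization.Away b)))) :=
    IsOpenImmersion.of_isLocalization b
  let g : Spec (CommRingCat.of (Localization.Away b)) ⟶ X :=
    Spec.map (CommRingCat.ofHom (algebraMap R (Localization.Away b))) ≫ j
  have : IsOpenImmersion g := inferInstance
  refine ⟨g.opensRange, ?_, ?_⟩
  · have hb1 : b ∉ x₁.asIdeal := by
      rw [← hx''2]; exact hb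
    have hb2 : x₁ ∈ Set.range (PrimeSpectrum.comap (algebraMap R (Localization.Away b))) := by
      rw [PrimeSpectrum.localization_away_comap_range (Localization.Away b) b]
      exact hb1
    obtain ⟨y, hy⟩ := hb2
    exact ⟨y, by rw [← hx₁, ← hy]; rfl⟩
  · rw [← g.isoOpensRange_inv_comp, Category.assoc]
    have : LocallyOfFiniteType (g ≫ φ) := by
      rw [Category.assoc, ← hρ, ← Spec.map_comp,
        HasRingHomProperty.Spec_iff (P := @LocallyOfFiniteType)]
      have := RingHom.finiteType_algebraMap.mpr hfin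
      rw [IsScalarTower.algebraMap_eq k R (Localization.Away b)] at this
      exact this
    infer_instance

/-- **Lemma B (scheme form).** If an open `U'` of `X_K` is locally of finite type over `K`, then
every point of its image in `X` has an open neighbourhood locally of finite type over `k`. -/
theorem exists_nbhd_locallyOfFiniteType {X : Scheme.{u}} (φ : X ⟶ Spec (CommRingCat.of k))
    (U' : (pullback φ (Spec.map (CommRingCat.ofHom (algebraMap k K)))).Opens)
    (hU' : LocallyOfFiniteType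
      (U'.ι ≫ pullback.snd φ (Spec.map (CommRingCat.ofHom (algebraMap k K)))))
    (x' : ↥(pullback φ (Spec.map (CommRingCat.ofHom (algebraMap k K))))) (hx' : x' ∈ U') :
    ∃ N : X.Opens, (pullback.fst φ (Spec.map (CommRingCat.ofHom (algebraMap k K)))) x' ∈ N ∧
      LocallyOfFiniteType (N.ι ≫ φ) :=
  exists_nbhd_locallyOfFiniteType_aux φ _ rfl U' hU' x' hx'

end scheme

end Groth.Agent.Lib.Seat24.LFTDescent
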