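import Mathlib
import Groth.Agent.Lib.Seat24GrpLocus
import Groth.Agent.Lib.Seat24LFTDescent

/-!
# A group scheme over a field with a nonempty open locally of finite type is locally of finite type
(helper24)
-/

set_option autoImplicit false
universe u

open CategoryTheory CategoryTheory.Limits MonoidalCategory CartesianMonoidalCategory MonObj GrpObj
  AlgebraicGeometry

namespace Groth.Agent.Lib.Seat24.GrpLFT

open Groth.Agent.Lib.Seat24.GrpLocus Groth.Agent.Lib.Seat24.LFTDescent

section algClosed

variable {K : Type u} [Field K] [IsAlgClosed K]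
variable (G : Over (Spec (CommRingCat.of K))) [GrpObj G]

/-- over an algebraically closed field, every rational point of a group scheme with a nonempty
open locally of finite type lies in the locally-of-finite-type locus. -/
theorem rational_mem_locus (W : G.left.Opens) (hne : (W : Set G.left).Nonempty)
    (hW : LocallyOfFiniteType (W.ι ≫ G.hom))
    (g : 𝟙_ (Over (Spec (CommRingCat.of K))) ⟶ G)
    (a : (𝟙_ (Over (Spec (CommRingCat.of K)))).left) :
    g.left a ∈ locus @LocallyOfFiniteType G.hom := by
  have := hW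
  have : JacobsonSpace W.toScheme :=
    LocallyOfFiniteType.jacobsonSpace (Y := Spec _) (W.ι ≫ G.hom)
  obtain ⟨x₀, hx₀⟩ := hne
  obtain ⟨w, -, hwc⟩ := nonempty_inter_closedPoints (X := W.toScheme) (Z := Set.univ)
    ⟨⟨x₀, hx₀⟩, trivial⟩ isOpen_univ.isLocallyClosed
  have hwc' : IsClosed {w} := hwc
  let p : Spec (CommRingCat.of K) ⟶ W.toScheme := pointOfClosedPoint (W.ι ≫ G.hom) w hwc'
  have hp : p ≫ W.ι ≫ G.hom = 𝟙 _ := pointOfClosedPoint_comp _ _ _
  let w' : 𝟙_ (Over (Spec (CommRingCat.of K))) ⟶ G :=
    Over.homMk (p ≫ W.ι) (by simpa using hp)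
  have hw'W : w'.left a ∈ W := by
    change (p ≫ W.ι) a ∈ W
    rw [Scheme.Hom.comp_apply]
    exact (p a).2
  let h : 𝟙_ (Over (Spec (CommRingCat.of K))) ⟶ G := w' * g⁻¹
  have h1 : g ≫ transl G h = w' := by
    rw [comp_transl]
    have : toUnit (𝟙_ (Over (Spec (CommRingCat.of K)))) = 𝟙 _ := toUnit_unique _ _
    rw [this, Category.id_comp, inv_mul_cancel_right]
  have h2 : (transl G h).left (g.left a) = w'.left a := by
    have := congrArg (fun f => f.left a) h1
    simpa only [Over.comp_left, Scheme.Hom.comp_apply] using this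
  have : IsIso (transl G h).left :=
    inferInstanceAs (IsIso ((Over.forget _).map (transl G h)))
  refine mem_locus_of_iso _ G.hom (transl G h).left (𝟙 _) (by simp) _ ?_
  rw [h2]
  exact le_locus _ _ W hW hw'W

end algClosed

section field

variable {k : Type u} [Field k] (G : Over (Spec (CommRingCat.of k))) [GrpObj G]

/-- **A group scheme over a field which is locally of finite type on some nonempty open is locally
of finite type.** (SGA 3 VI_A 2.5.2, field case.) -/
theorem locallyOfFiniteType_of_nonempty_open (W : G.left.Opens) (hne : (W : Set G.left).Nonempty)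
    (hW : LocallyOfFiniteType (W.ι ≫ G.hom)) : LocallyOfFiniteType G.hom := by
  apply of_forall_exists_nbhd
  intro x
  let ψ : CommRingCat.of k ⟶ G.left.residueField x :=
    Spec.preimage (G.left.fromSpecResidueField x ≫ G.hom)
  have hψ : Spec.map ψ = G.left.fromSpecResidueField x ≫ G.hom := Spec.map_preimage _
  let _ : Algebra k (G.left.residueField x) := ψ.hom.toAlgebra
  let K := AlgebraicClosure (G.left.residueField x)
  let σ : Spec (CommRingCat.of K) ⟶ Spec (CommRingCat.of k) :=
    Spec.map (CommRingCat.ofHom (algebraMap k K))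
  let G' : Over (Spec (CommRingCat.of K)) := (Over.pullback σ).obj G
  letI : GrpObj G' := Functor.grpObjObj
  let ξ : Spec (CommRingCat.of K) ⟶ G.left :=
    Spec.map (CommRingCat.ofHom (algebraMap (G.left.residueField x) K)) ≫
      G.left.fromSpecResidueField x
  have hξ : ξ ≫ G.hom = σ := by
    simp only [ξ, Category.assoc, ← hψ, ← Spec.map_comp]
    rfl
  let g' : 𝟙_ (Over (Spec (CommRingCat.of K))) ⟶ G' :=
    Over.homMk (pullback.lift ξ (𝟙 _) (by rw [hξ, Category.id_comp])) (by
      change pullback.lift ξ (𝟙 _) _ ≫ pullback.snd G.hom σ = _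
      rw [pullback.lift_snd]; rfl)
  let pt : (𝟙_ (Over (Spec (CommRingCat.of K)))).left := IsLocalRing.closedPoint K
  have hg'x : (pullback.fst G.hom σ) (g'.left pt) = x := by
    rw [← Scheme.Hom.comp_apply]
    have : g'.left ≫ pullback.fst G.hom σ = ξ := pullback.lift_fst _ _ _
    rw [this, Scheme.Hom.comp_apply, Scheme.fromSpecResidueField_apply]
  have : Surjective σ := ⟨Function.surjective_to_subsingleton _⟩
  let W' : G'.left.Opens := (pullback.fst G.hom σ) ⁻¹ᵁ W
  have hne' : (W' : Set G'.left).Nonempty := by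
    obtain ⟨y, hy⟩ := hne
    obtain ⟨y', hy'⟩ := (pullback.fst G.hom σ).surjective y
    exact ⟨y', by rw [← hy'] at hy; exact hy⟩
  have hW' : LocallyOfFiniteType (W'.ι ≫ G'.hom) := by
    have htop : IsPullback (pullback.fst G.hom σ ∣_ W) W'.ι W.ι (pullback.fst G.hom σ) :=
      isPullback_morphismRestrict _ W
    exact MorphismProperty.of_isPullback (P := @LocallyOfFiniteType)
      (htop.paste_vert (IsPullback.of_hasPullback G.hom σ)) hW
  have hloc := rational_mem_locus G' W' hne' hW' g' pt
  obtain ⟨N, hN, hNP⟩ := exists_nbhd_locallyOfFiniteType (K := K) G.hom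
    (locus @LocallyOfFiniteType G'.hom)
    (prop_ι_comp_of_le_locus @LocallyOfFiniteType G'.hom _ le_rfl) (g'.left pt) hloc
  exact ⟨N, hg'x ▸ hN, hNP⟩

end field

end Groth.Agent.Lib.Seat24.GrpLFT
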