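import Mathlib
import Groth.Agent.S5346
import Groth.Agent.Lib.Seat24GrpLFT
import Groth.Agent.Lib.Seat24GrpHomLoci
import Groth.Agent.Lib.Helper3GrpHomQF

/-!
# Homogeneity of group schemes over a local artinian ring (helper24)

Over a base with one point, a homomorphism `u : G ⟶ H` of group schemes which is unramified /
smooth / étale / locally quasi-finite on a nonempty open of `G` is so everywhere.
-/

set_option autoImplicit false
universe u

open CategoryTheory CategoryTheory.Limits MonoidalCategory CartesianMonoidalCategory MonObj GrpObj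
  AlgebraicGeometry

namespace Groth.Agent.Lib.Seat24.ArtinHomog

open Groth.Agent.Lib.Seat24.GrpLocus Groth.Agent.Lib.Seat24.GrpHomLoci
  Groth.Agent.Lib.Helper3.GrpHomQF Groth.Agent.Lib.Helper3.FlatFibDim

/-- over a locally noetherian base, locally of finite type implies locally of finite presentation. -/
theorem lfp_of_lft_of_isLocallyNoetherian {X Y : Scheme.{u}} (f : X ⟶ Y) [IsLocallyNoetherian Y]
    [LocallyOfFiniteType f] : LocallyOfFinitePresentation f := by
  rw [HasRingHomProperty.iff_appLE (P := @LocallyOfFinitePresentation)]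
  intro U V e
  have : IsNoetherianRing Γ(Y, U.1) := IsLocallyNoetherian.component_noetherian U
  rw [← RingHom.FinitePresentation.of_finiteType]
  exact (HasRingHomProperty.iff_appLE (P := @LocallyOfFiniteType)).mp ‹_› U V e

section artin

variable {A : Type u} [CommRing A] [IsArtinianRing A] [IsLocalRing A]

/-- **S5340 without quasi-compactness.** -/
theorem lft_of_nonempty_open (G : Over (Spec (CommRingCat.of A))) [GrpObj G]
    (W : G.left.Opens) (hW : (W : Set G.left).Nonempty)
    (hlft : LocallyOfFiniteType (W.ι ≫ G.hom)) : LocallyOfFiniteType G.hom := by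
  let i : Spec (CommRingCat.of (IsLocalRing.ResidueField A)) ⟶ Spec (CommRingCat.of A) :=
    Spec.map (CommRingCat.ofHom (IsLocalRing.residue A))
  have hsub : Subsingleton (Spec (CommRingCat.of A)) :=
    inferInstanceAs (Subsingleton (PrimeSpectrum A))
  have : Surjective i :=
    ⟨fun x => ⟨IsLocalRing.closedPoint (IsLocalRing.ResidueField A), Subsingleton.elim _ _⟩⟩
  let G' : Over (Spec (CommRingCat.of (IsLocalRing.ResidueField A))) := (Over.pullback i).obj G
  letI : GrpObj G' := Functor.grpObjObj
  let W' : G'.left.Opens := (pullback.fst G.hom i) ⁻¹ᵁ W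
  have hne' : (W' : Set G'.left).Nonempty := by
    obtain ⟨y, hy⟩ := hW
    obtain ⟨y', hy'⟩ := (pullback.fst G.hom i).surjective y
    exact ⟨y', by rw [← hy'] at hy; exact hy⟩
  have hW' : LocallyOfFiniteType (W'.ι ≫ G'.hom) := by
    have htop : IsPullback (pullback.fst G.hom i ∣_ W) W'.ι W.ι (pullback.fst G.hom i) :=
      isPullback_morphismRestrict _ W
    exact MorphismProperty.of_isPullback (P := @LocallyOfFiniteType)
      (htop.paste_vert (IsPullback.of_hasPullback G.hom i)) hlft
  have h := Groth.Agent.Lib.Seat24.GrpLFT.locallyOfFiniteType_of_nonempty_open G' W' hne' hW'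
  exact (Groth.Agent.S5346.result A G G (𝟙 G)).1 h

variable (G H : Over (Spec (CommRingCat.of A))) [GrpObj G] [GrpObj H] (u : G ⟶ H) [IsMonHom u]

omit [GrpObj G] in
lemma base_eq (x y : G.left) : G.hom x = G.hom y := by
  have : Subsingleton (Spec (CommRingCat.of A)) :=
    inferInstanceAs (Subsingleton (PrimeSpectrum A))
  exact Subsingleton.elim _ _

/-- unramified on a nonempty open ⟹ unramified. -/
theorem unram_of_nonempty_open [LocallyOfFiniteType u.left] [LocallyOfFiniteType G.hom]
    (W : G.left.Opens) (hne : (W : Set G.left).Nonempty)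
    (h : FormallyUnramified (W.ι ≫ u.left)) : FormallyUnramified u.left := by
  have hG : ∀ s, LocallyOfFiniteType
      (pullback.snd G.hom ((Spec (CommRingCat.of A)).fromSpecResidueField s)) :=
    fun s => inferInstance
  have key := setOf_unram_nbhd_eq G H u hG
  obtain ⟨x₀, hx₀⟩ := hne
  have h0 : x₀ ∈ {x : G.left | ∃ W : G.left.Opens, x ∈ W ∧ FormallyUnramified (W.ι ≫ u.left)} :=
    ⟨W, hx₀, h⟩
  rw [key] at h0
  refine of_forall_exists_nbhd @FormallyUnramified u.left fun x => ?_
  have hx : x ∈ G.hom.base ⁻¹'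
      {s | FormallyUnramified (fibHom G H u s)} := by
    change G.hom x ∈ {s | FormallyUnramified (fibHom G H u s)}
    rw [base_eq G x x₀]
    exact h0
  rw [← key] at hx
  exact hx

/-- smooth on a nonempty open ⟹ smooth. -/
theorem smooth_of_nonempty_open [Flat G.hom] [LocallyOfFinitePresentation G.hom]
    [LocallyOfFiniteType H.hom]
    (W : G.left.Opens) (hne : (W : Set G.left).Nonempty)
    (h : Smooth (W.ι ≫ u.left)) : Smooth u.left := by
  have key := setOf_smooth_nbhd_eq G H u
  obtain ⟨x₀, hx₀⟩ := hne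
  have h0 : x₀ ∈ {x : G.left | ∃ W : G.left.Opens, x ∈ W ∧ Smooth (W.ι ≫ u.left)} :=
    ⟨W, hx₀, h⟩
  rw [key] at h0
  refine of_forall_exists_nbhd @Smooth u.left fun x => ?_
  have hx : x ∈ G.hom.base ⁻¹' {s | Smooth (fibHom G H u s)} := by
    change G.hom x ∈ {s | Smooth (fibHom G H u s)}
    rw [base_eq G x x₀]
    exact h0
  rw [← key] at hx
  exact hx

/-- étale on a nonempty open ⟹ étale. -/
theorem etale_of_nonempty_open [Flat G.hom] [LocallyOfFinitePresentation G.hom]
    [LocallyOfFiniteType H.hom]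
    (W : G.left.Opens) (hne : (W : Set G.left).Nonempty)
    (h : Etale (W.ι ≫ u.left)) : Etale u.left := by
  have key := setOf_etale_nbhd_eq G H u
  obtain ⟨x₀, hx₀⟩ := hne
  have h0 : x₀ ∈ {x : G.left | ∃ W : G.left.Opens, x ∈ W ∧ Etale (W.ι ≫ u.left)} :=
    ⟨W, hx₀, h⟩
  rw [key] at h0
  refine of_forall_exists_nbhd @Etale u.left fun x => ?_
  have hx : x ∈ G.hom.base ⁻¹' {s | Etale (fibHom G H u s)} := by
    change G.hom x ∈ {s | Etale (fibHom G H u s)}
    rw [base_eq G x x₀]
    exact h0
  rw [← key] at hx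
  exact hx

/-- locally quasi-finite on a nonempty open ⟹ locally quasi-finite. -/
theorem lqf_of_nonempty_open [LocallyOfFiniteType u.left]
    (W : G.left.Opens) (hne : (W : Set G.left).Nonempty)
    (h : LocallyQuasiFinite (W.ι ≫ u.left)) : LocallyQuasiFinite u.left := by
  obtain ⟨x₀, hx₀⟩ := hne
  have h1 := (locallyQuasiFinite_iff_forall_fibreDimAt_le_zero (W.ι ≫ u.left)).mp h ⟨x₀, hx₀⟩
  rw [fibreDimAt_comp_of_isOpenImmersion] at h1
  have h2 : FlatMor.fibreDimAt u.left x₀ ≤ 0 := h1
  rw [locallyQuasiFinite_iff_forall_fibreDimAt_le_zero]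
  intro x
  rw [fibreDimAt_hom_eq_unitSec G H u x, base_eq G x x₀, ← fibreDimAt_hom_eq_unitSec G H u x₀]
  exact h2

end artin

end Groth.Agent.Lib.Seat24.ArtinHomog
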