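import Mathlib
import Groth.Prelude.Def_TwC
import Groth.Prelude.Def_NonAbH2
import Groth.Agent.Lib.Seat27ConstPoints

/-!
# Extensions by a torsion-free constant group are rigid (seat 24)

Let `G ≅ Z_S` be a constant `S`-group.  A `T`-point `x` of `G` has, at each point `t` of `T`, a well
defined *value* `m : Z` (`IsValAt eG x t m`): near `t` it is the constant point of index `m`.  Values
are multiplicative, and `x = 1` as soon as all its values are `1`.

* `eq_one_of_finite_values`: over a base with at most one point, a morphism `gam : E ⟶ G` which is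
  multiplicative on points and takes finitely many values is trivial when `Z` has no torsion.
* `rigid`: S8716.
-/

set_option autoImplicit false
universe u
open CategoryTheory CategoryTheory.Limits MonoidalCategory CartesianMonoidalCategory MonObj
  AlgebraicGeometry

namespace Groth.Agent.Lib.Seat24.ConstExt

open Groth.Agent.Lib.Seat27.ConstPoints

variable {S : Scheme.{u}} {Z : Type u} [Group Z] {G : Over S} [GrpObj G]
  (eG : G ≅ TwC.const S Z)

/-- near `t`, the `T`-point `x` of `G ≅ Z_S` is the constant point of index `m`. -/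
def IsValAt {T : Over S} (x : T ⟶ G) (t : T.left) (m : Z) : Prop :=
  ∃ W : T.left.Opens, t ∈ W ∧ ovι T W ≫ x = toUnit _ ≫ TwC.pt S Z m ≫ eG.inv

lemma exists_isValAt {T : Over S} (x : T ⟶ G) (t : T.left) : ∃ m, IsValAt eG x t m := by
  obtain ⟨m, W, htW, h⟩ := exists_nhd_factor (x ≫ eG.hom) t
  refine ⟨m, W, htW, ?_⟩
  calc ovι T W ≫ x = (ovι T W ≫ x ≫ eG.hom) ≫ eG.inv := by
        rw [Category.assoc, Category.assoc, Iso.hom_inv_id, Category.comp_id]
    _ = (toUnit _ ≫ TwC.pt S Z m) ≫ eG.inv := by rw [h]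
    _ = _ := Category.assoc _ _ _

lemma mem_range_of_eq {T : Over S} {x : T ⟶ G} {t : T.left} {m : Z} (W : T.left.Opens)
    (htW : t ∈ W) (hW : ovι T W ≫ x = toUnit _ ≫ TwC.pt S Z m ≫ eG.inv) :
    (x ≫ eG.hom).left t ∈ Set.range (Sigma.ι (fun _ : Z => S) m) := by
  have h1 : ovι T W ≫ x ≫ eG.hom = toUnit _ ≫ TwC.pt S Z m := by
    rw [← Category.assoc, hW, Category.assoc, Category.assoc, Iso.inv_hom_id, Category.comp_id]
  have h2 : W.ι ≫ (x ≫ eG.hom).left =
      (toUnit (ovOpen T W)).left ≫ Sigma.ι (fun _ : Z => S) m := by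
    have := congrArg (fun f => f.left) h1
    simp only [Over.comp_left, pt_left] at this
    exact this
  refine ⟨(toUnit (ovOpen T W)).left ⟨t, htW⟩, ?_⟩
  rw [← Scheme.Hom.comp_apply, ← h2, Scheme.Hom.comp_apply]
  rfl

lemma IsValAt.unique {T : Over S} {x : T ⟶ G} {t : T.left} {m m' : Z}
    (h : IsValAt eG x t m) (h' : IsValAt eG x t m') : m = m' := by
  obtain ⟨W, htW, hW⟩ := h
  obtain ⟨W', htW', hW'⟩ := h'
  obtain ⟨y, hy⟩ := mem_range_of_eq eG W htW hW
  obtain ⟨y', hy'⟩ := mem_range_of_eq eG W' htW' hW'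
  have := (sigmaι_eq_iff (fun _ : Z => S) m m' y y').mp (hy.trans hy'.symm)
  exact congrArg Sigma.fst this

/-- values are compatible with precomposition. -/
lemma IsValAt.comp {T T' : Over S} {x : T ⟶ G} (f : T' ⟶ T) {t' : T'.left} {m : Z}
    (h : IsValAt eG x (f.left t') m) : IsValAt eG (f ≫ x) t' m := by
  obtain ⟨W, htW, hW⟩ := h
  refine ⟨f.left ⁻¹ᵁ W, htW, ?_⟩
  let fr : ovOpen T' (f.left ⁻¹ᵁ W) ⟶ ovOpen T W :=
    Over.homMk (f.left ∣_ W) (by
      change (f.left ∣_ W) ≫ W.ι ≫ T.hom = (f.left ⁻¹ᵁ W).ι ≫ T'.hom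
      rw [← Category.assoc, morphismRestrict_ι, Category.assoc, Over.w])
  have hfr : fr ≫ ovι T W = ovι T' (f.left ⁻¹ᵁ W) ≫ f := by
    apply Over.OverMorphism.ext
    simp only [Over.comp_left]
    exact morphismRestrict_ι f.left W
  rw [← Category.assoc, ← hfr, Category.assoc, hW, ← Category.assoc]
  congr 1
  exact toUnit_unique _ _

lemma IsValAt.of_comp {T T' : Over S} {x : T ⟶ G} (f : T' ⟶ T) {t' : T'.left} {m : Z}
    (h : IsValAt eG (f ≫ x) t' m) : IsValAt eG x (f.left t') m := by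
  obtain ⟨m', hm'⟩ := exists_isValAt eG x (f.left t')
  have := (IsValAt.comp eG f hm').unique eG h
  rwa [this] at hm'

lemma IsValAt.mul {T : Over S} {x y : T ⟶ G} {t : T.left} {m m' : Z}
    (hG : TwC.IsConstGrp Z G eG)
    (h : IsValAt eG x t m) (h' : IsValAt eG y t m') : IsValAt eG (x * y) t (m * m') := by
  obtain ⟨W, htW, hW⟩ := h
  obtain ⟨W', htW', hW'⟩ := h'
  refine ⟨W ⊓ W', ⟨htW, htW'⟩, ?_⟩
  let j₁ : ovOpen T (W ⊓ W') ⟶ ovOpen T W :=
    Over.homMk (T.left.homOfLE inf_le_left) (by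
      change T.left.homOfLE _ ≫ W.ι ≫ T.hom = (W ⊓ W').ι ≫ T.hom
      rw [← Category.assoc, Scheme.homOfLE_ι])
  have hj₁ : j₁ ≫ ovι T W = ovι T (W ⊓ W') := by
    apply Over.OverMorphism.ext
    simp only [Over.comp_left]
    exact Scheme.homOfLE_ι T.left (inf_le_left : W ⊓ W' ≤ W)
  let j₂ : ovOpen T (W ⊓ W') ⟶ ovOpen T W' :=
    Over.homMk (T.left.homOfLE inf_le_right) (by
      change T.left.homOfLE _ ≫ W'.ι ≫ T.hom = (W ⊓ W').ι ≫ T.hom
      rw [← Category.assoc, Scheme.homOfLE_ι])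
  have hj₂ : j₂ ≫ ovι T W' = ovι T (W ⊓ W') := by
    apply Over.OverMorphism.ext
    simp only [Over.comp_left]
    exact Scheme.homOfLE_ι T.left (inf_le_right : W ⊓ W' ≤ W')
  have e1 : ovι T (W ⊓ W') ≫ x = toUnit _ ≫ TwC.pt S Z m ≫ eG.inv := by
    rw [← hj₁, Category.assoc, hW, ← Category.assoc]
    congr 1
    exact toUnit_unique _ _
  have e2 : ovι T (W ⊓ W') ≫ y = toUnit _ ≫ TwC.pt S Z m' ≫ eG.inv := by
    rw [← hj₂, Category.assoc, hW', ← Category.assoc]
    congr 1
    exact toUnit_unique _ _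
  rw [MonObj.comp_mul, e1, e2, ← MonObj.comp_mul, hG m m']

lemma unit_eq (hG : TwC.IsConstGrp Z G eG) : TwC.pt S Z 1 ≫ eG.inv = η[G] := by
  have h := hG 1 1
  rw [_root_.mul_one] at h
  have h1 : TwC.pt S Z (1 : Z) ≫ eG.inv = 1 := by
    apply mul_left_cancel (a := TwC.pt S Z (1 : Z) ≫ eG.inv)
    rw [h, _root_.mul_one]
  rw [h1, Hom.one_def, toUnit_unique (toUnit _) (𝟙 _), Category.id_comp]

lemma isValAt_one (hG : TwC.IsConstGrp Z G eG) {T : Over S} (t : T.left) :
    IsValAt eG (1 : T ⟶ G) t 1 := by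
  refine ⟨⊤, trivial, ?_⟩
  rw [MonObj.comp_one, unit_eq eG hG, Hom.one_def]

lemma eq_one_of_isValAt (hG : TwC.IsConstGrp Z G eG) {T : Over S} (x : T ⟶ G)
    (h : ∀ t, IsValAt eG x t 1) : x = 1 := by
  apply over_hom_ext_of_cover
  intro t
  obtain ⟨W, htW, hW⟩ := h t
  refine ⟨W, htW, ?_⟩
  rw [hW, MonObj.comp_one, unit_eq eG hG, Hom.one_def]

/-- Over a base with at most one point, a morphism to a torsion-free constant group which is
multiplicative on points and takes finitely many values is trivial. -/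
theorem eq_one_of_finite_values [Subsingleton S] (hZ : ∀ z : Z, IsOfFinOrder z → z = 1)
    (hG : TwC.IsConstGrp Z G eG) {E : Over S} [GrpObj E] (gam : E ⟶ G)
    (hgam : ∀ (T : Over S) (x y : T ⟶ E), (x * y) ≫ gam = (x ≫ gam) * (y ≫ gam))
    (F : Set Z) (hF : F.Finite) (hFgam : ∀ (e : E.left) (m : Z), IsValAt eG gam e m → m ∈ F) :
    gam = 1 := by
  apply eq_one_of_isValAt eG hG
  intro e
  obtain ⟨m, hm⟩ := exists_isValAt eG gam e
  have hpow : ∀ n : ℕ, ∃ e' : E.left, IsValAt eG gam e' (m ^ (n + 1)) := by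
    intro n
    induction n with
    | zero => exact ⟨e, by simpa using hm⟩
    | succ n ih =>
      obtain ⟨e', he'⟩ := ih
      obtain ⟨w, hw1, hw2⟩ := Scheme.Pullback.exists_preimage_pullback (f := E.hom) (g := E.hom)
        e' e (Subsingleton.elim _ _)
      let w' : (E ⊗ E).left := w
      have hw1' : (fst E E).left w' = e' := by rw [Over.fst_left]; exact hw1
      have hw2' : (snd E E).left w' = e := by rw [Over.snd_left]; exact hw2
      have h1 : IsValAt eG (fst E E ≫ gam) w' (m ^ (n + 1)) :=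
        IsValAt.comp eG (fst E E) (by rw [hw1']; exact he')
      have h2 : IsValAt eG (snd E E ≫ gam) w' m :=
        IsValAt.comp eG (snd E E) (by rw [hw2']; exact hm)
      have h3 := IsValAt.mul eG hG h1 h2
      rw [← hgam] at h3
      have hμ : (fst E E * snd E E) = μ[E] := by
        rw [Hom.mul_def, lift_fst_snd, Category.id_comp]
      rw [hμ] at h3
      exact ⟨μ[E].left w', by rw [pow_succ]; exact IsValAt.of_comp eG _ h3⟩
  by_contra hne
  have hm1 : m ≠ 1 := by
    rintro rfl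
    exact hne hm
  have hnot : ¬ IsOfFinOrder m := fun h => hm1 (hZ m h)
  have hinj : Function.Injective (fun n : ℕ => m ^ (n + 1)) := by
    intro a b hab
    have := (injective_pow_iff_not_isOfFinOrder.mpr hnot) hab
    omega
  have hmem : ∀ n : ℕ, (fun n : ℕ => m ^ (n + 1)) n ∈ F := by
    intro n
    obtain ⟨e', he'⟩ := hpow n
    exact hFgam e' _ he'
  exact (Set.infinite_of_injective_forall_mem hinj hmem) hF

/-- **S8716.** An extension of a commutative group scheme of finite type over a field by a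
torsion-free constant group is rigid. -/
theorem rigid (k : Type u) [Field k]
    (Z : Type u) [CommGroup Z] (hZ : ∀ z : Z, IsOfFinOrder z → z = 1)
    (P E G : Over (Spec (CommRingCat.of k))) [GrpObj P] [GrpObj E] [GrpObj G]
    [IsCommMonObj P] [IsCommMonObj E]
    [LocallyOfFiniteType P.hom] [QuasiCompact P.hom]
    (eG : G ≅ TwC.const (Spec (CommRingCat.of k)) Z) (hG : TwC.IsConstGrp Z G eG)
    (u : G ⟶ E) (v : E ⟶ P) (hex : NonAbH1.IsExactSeq Scheme.fppfPrecoverage u v)
    (φ : E ≅ E) [IsMonHom φ.hom] (hφu : u ≫ φ.hom = u) (hφv : φ.hom ≫ v = v) :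
    φ.hom = 𝟙 E := by
  obtain ⟨hu, hv, huv, hpb, R, hR, hsec⟩ := hex
  have : Subsingleton (Spec (CommRingCat.of k)) :=
    inferInstanceAs (Subsingleton (PrimeSpectrum k))
  -- the morphism `gam : E ⟶ G` with `φ(e) = e * u(gam(e))`
  let l : E ⟶ E ⊗ G := hpb.lift (𝟙 E) φ.hom (by rw [Category.id_comp, hφv])
  have hl1 : l ≫ fst E G = 𝟙 E := hpb.lift_fst _ _ _
  have hl2 : l ≫ (E ◁ u) ≫ μ[E] = φ.hom := hpb.lift_snd _ _ _
  obtain ⟨gam, hgam⟩ : ∃ gam : E ⟶ G, gam = l ≫ snd E G := ⟨_, rfl⟩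
  have hact : ∀ {T : Over (Spec (CommRingCat.of k))} (a : T ⟶ E) (g : T ⟶ G),
      lift a g ≫ (E ◁ u) ≫ μ[E] = a * (g ≫ u) := by
    intro T a g
    rw [Hom.mul_def, ← Category.assoc]
    congr 1
    ext <;> simp
  have hl : l = lift (𝟙 E) gam := by
    ext
    · rw [hl1, lift_fst]
    · rw [lift_snd, hgam]
  have hφ : φ.hom = 𝟙 E * (gam ≫ u) := by
    rw [← hact, ← hl, hl2]
  have hcancel : ∀ {T : Over (Spec (CommRingCat.of k))} (a : T ⟶ E) (g g' : T ⟶ G),
      a * (g ≫ u) = a * (g' ≫ u) → g = g' := by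
    intro T a g g' h
    have h1 : lift a g = lift a g' := by
      apply hpb.hom_ext
      · rw [lift_fst, lift_fst]
      · rw [hact, hact, h]
    have := congrArg (· ≫ snd E G) h1
    simpa using this
  have hx : ∀ {T : Over (Spec (CommRingCat.of k))} (z : T ⟶ E),
      z ≫ φ.hom = z * ((z ≫ gam) ≫ u) := by
    intro T z
    rw [hφ, MonObj.comp_mul, Category.comp_id, Category.assoc]
  have hgmul : ∀ (T : Over (Spec (CommRingCat.of k))) (x y : T ⟶ E),
      (x * y) ≫ gam = (x ≫ gam) * (y ≫ gam) := by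
    intro T x y
    apply hcancel (x * y)
    rw [← hx, MonObj.mul_comp, hx, hx, MonObj.mul_comp]
    exact mul_mul_mul_comm _ _ _ _
  have hug : u ≫ gam = 1 := by
    apply hcancel u
    rw [← hx, hφu, MonObj.one_comp, _root_.mul_one]
  -- `gam` is invariant under translation by `G`
  have hinv : ((E ◁ u) ≫ μ[E]) ≫ gam = fst E G ≫ gam := by
    have h1 : (E ◁ u) ≫ μ[E] = fst E G * (snd E G ≫ u) := by
      rw [← hact, lift_fst_snd, Category.id_comp]
    rw [h1, hgmul, Category.assoc, hug, MonObj.comp_one, _root_.mul_one]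
  -- hence constant along the fibres of `v`
  have hpbL : IsPullback (fst E G).left ((E ◁ u) ≫ μ[E]).left v.left v.left :=
    hpb.map (Over.forget _)
  have hfib : ∀ e₁ e₂ : E.left, v.left e₁ = v.left e₂ → ∀ m, IsValAt eG gam e₁ m →
      IsValAt eG gam e₂ m := by
    intro e₁ e₂ h12 m hm
    obtain ⟨w₀, hw1, hw2⟩ := Scheme.Pullback.exists_preimage_pullback (f := v.left) (g := v.left)
      e₁ e₂ h12
    let w : (E ⊗ G).left := hpbL.isoPullback.inv w₀
    have hw1' : (fst E G).left w = e₁ := by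
      rw [← Scheme.Hom.comp_apply, IsPullback.isoPullback_inv_fst]; exact hw1
    have hw2' : ((E ◁ u) ≫ μ[E]).left w = e₂ := by
      rw [← Scheme.Hom.comp_apply, IsPullback.isoPullback_inv_snd]; exact hw2
    have h1 : IsValAt eG (fst E G ≫ gam) w m := IsValAt.comp eG (fst E G) (by rw [hw1']; exact hm)
    rw [← hinv] at h1
    have h2 := IsValAt.of_comp eG _ h1
    rwa [hw2'] at h2
  -- local data on `P`
  have : CompactSpace P.left := QuasiCompact.compactSpace_of_compactSpace P.hom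
  have hcov : ∀ p : P.left, ∃ (N : Set P.left) (m : Z), IsOpen N ∧ p ∈ N ∧
      ∀ e : E.left, v.left e ∈ N → IsValAt eG gam e m := by
    intro p
    have hR1 := hR.1
    rw [Scheme.jointlySurjectivePrecoverage, Presieve.mem_comap_jointlySurjectivePrecoverage_iff]
      at hR1
    obtain ⟨Y, t, hRt, τ, hτ⟩ := hR1 p
    obtain ⟨σ, hσ⟩ := hsec t hRt
    have htP : (@Flat ⊓ @LocallyOfFinitePresentation) t := hR.2 hRt
    have : Flat t := htP.1
    have : LocallyOfFinitePresentation t := htP.2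
    change σ ≫ v.left = t at hσ
    let x : Over.mk (t ≫ P.hom) ⟶ E := Over.homMk σ (by
      change σ ≫ E.hom = t ≫ P.hom
      rw [← hσ, Category.assoc, Over.w v])
    obtain ⟨m, W, hτW, hW⟩ := exists_isValAt eG (x ≫ gam) τ
    refine ⟨t '' (W.1 : Set Y), m, t.isOpenMap _ W.2, ⟨τ, hτW, hτ⟩, ?_⟩
    rintro e ⟨τ', hτ'W, hτ'⟩
    have h1 : IsValAt eG (x ≫ gam) τ' m := ⟨W, hτ'W, hW⟩
    have h2 := IsValAt.of_comp eG x h1
    refine hfib (x.left τ') e ?_ m h2
    change v.left (σ τ') = v.left e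
    rw [← Scheme.Hom.comp_apply, hσ, hτ']
  choose N mN hNo hpN hNval using hcov
  obtain ⟨s, hs⟩ := isCompact_univ.elim_finite_subcover N hNo (fun p _ => Set.mem_iUnion.mpr ⟨p, hpN p⟩)
  have hgam : gam = 1 := by
    refine eq_one_of_finite_values eG hZ hG gam hgmul (mN '' (s : Set P.left))
      (s.finite_toSet.image _) ?_
    intro e m hm
    have hmem := hs (Set.mem_univ (v.left e))
    simp only [Set.mem_iUnion] at hmem
    obtain ⟨p, hps, hp⟩ := hmem
    exact ⟨p, hps, (hNval p e hp).unique eG hm⟩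
  rw [hφ, hgam, MonObj.one_comp, _root_.mul_one]

end Groth.Agent.Lib.Seat24.ConstExt
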