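import Mathlib
import Groth.Agent.Lib.Seat24Neutral

/-!
# A quasi-compact open containing the neutral set (helper24)

* `fibTensor`: the canonical map `G_s × G_s → G × G`, compatible with projections and
  multiplication.
* `exists_mul_eq_of_mem_connectedComponent`: over a field, every point of the identity component
  is a product of two points of any open neighbourhood of the unit.
* `exists_isCompact_neutralSet_subset`: **S5323**.
-/

set_option autoImplicit false
set_option linter.unusedSectionVars false
universe u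
open CategoryTheory CategoryTheory.Limits MonoidalCategory CartesianMonoidalCategory MonObj GrpObj
  AlgebraicGeometry

namespace Groth.Agent.Lib.Seat24.Neutral

open Groth.Agent.Lib.Helper25.IdComp Groth.Agent.Lib.Helper25.IdComp0

section tensor

variable {S : Scheme.{u}} (G : Over S) [GrpObj G]

/-- the canonical map `G_s × G_s → G × G`. -/
noncomputable def fibTensor (s : S) : (fib G s ⊗ fib G s).left ⟶ (G ⊗ G).left :=
  (Functor.LaxMonoidal.μ (Over.pullback (S.fromSpecResidueField s)) G G).left ≫
    pullback.fst (G ⊗ G).hom (S.fromSpecResidueField s)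

lemma map_left_fst {X Y : Over S} (u : X ⟶ Y) (s : S) :
    ((Over.pullback (S.fromSpecResidueField s)).map u).left ≫
      pullback.fst Y.hom (S.fromSpecResidueField s) =
    pullback.fst X.hom (S.fromSpecResidueField s) ≫ u.left :=
  ((Groth.Agent.Lib.Seat24.GrpLocus.isPullback_overPullback_map X Y u
    (S.fromSpecResidueField s)).w).symm

lemma fibTensor_fst (s : S) :
    fibTensor G s ≫ (fst G G).left = (fst (fib G s) (fib G s)).left ≫ fibι G s := by
  rw [fibTensor, Category.assoc, ← map_left_fst (fst G G) s, ← Category.assoc, ← Over.comp_left,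
    Functor.Monoidal.μ_fst]
  rfl

lemma fibTensor_snd (s : S) :
    fibTensor G s ≫ (snd G G).left = (snd (fib G s) (fib G s)).left ≫ fibι G s := by
  rw [fibTensor, Category.assoc, ← map_left_fst (snd G G) s, ← Category.assoc, ← Over.comp_left,
    Functor.Monoidal.μ_snd]
  rfl

lemma fibTensor_mul (s : S) :
    fibTensor G s ≫ μ[G].left = μ[fib G s].left ≫ fibι G s := by
  rw [fibTensor, Category.assoc, ← map_left_fst μ[G] s, ← Category.assoc, ← Over.comp_left]
  rfl

end tensor

section field

variable {k : Type u} [Field k] (G : Over (Spec (CommRingCat.of k))) [GrpObj G]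

/-- over a field, every point of the identity component is a product of two points of any open
neighbourhood of the unit. -/
theorem exists_mul_eq_of_mem_connectedComponent (U : G.left.Opens) (hU : ePt G ∈ U)
    (x : G.left) (hx : x ∈ connectedComponent (ePt G)) :
    ∃ z : ↥(G ⊗ G).left, (fst G G).left z ∈ (U : Set G.left) ∧
      (snd G G).left z ∈ (U : Set G.left) ∧ μ[G].left z = x := by
  obtain ⟨inst, hmon⟩ := exists_grpObj_G0 G
  let j := G0incl G
  let U' : (G0 G).left.Opens := j.left ⁻¹ᵁ U
  have hne : (U' : Set (G0 G).left).Nonempty := by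
    obtain ⟨y, hy⟩ : ePt G ∈ Set.range j.left := by
      rw [range_G0incl_left]; exact mem_connectedComponent
    exact ⟨y, by change j.left y ∈ U; rw [hy]; exact hU⟩
  have hd : Dense (U' : Set (G0 G).left) := U'.isOpen.dense hne
  obtain ⟨x₀, rfl⟩ : x ∈ Set.range j.left := by rw [range_G0incl_left]; exact hx
  obtain ⟨z₀, h1, h2, h3⟩ :=
    Groth.Agent.Lib.Helper25.DenseMul.exists_mul_eq k (G0 G) U' U' hd hd x₀
  refine ⟨(j ⊗ₘ j).left z₀, ?_, ?_, ?_⟩
  · change ((j ⊗ₘ j).left ≫ (fst G G).left) z₀ ∈ (U : Set G.left)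
    rw [← Over.comp_left, tensorHom_fst]
    exact h1
  · change ((j ⊗ₘ j).left ≫ (snd G G).left) z₀ ∈ (U : Set G.left)
    rw [← Over.comp_left, tensorHom_snd]
    exact h2
  · change ((j ⊗ₘ j).left ≫ μ[G].left) z₀ = _
    rw [← Over.comp_left, ← IsMonHom.mul_hom, Over.comp_left, Scheme.Hom.comp_apply, h3]

end field

section main

variable {S : Scheme.{u}} (G : Over S) [GrpObj G]

/-- every point of the neutral set is a product of two points of any open containing the unit
section. -/
theorem exists_mul_eq_of_mem_neutralSet (U : G.left.Opens)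
    (hU : ∀ p : (𝟙_ (Over S)).left, η[G].left p ∈ U) (g : G.left) (hg : g ∈ SGA3x.neutralSet G) :
    ∃ z : ↥(G ⊗ G).left, (fst G G).left z ∈ (U : Set G.left) ∧
      (snd G G).left z ∈ (U : Set G.left) ∧ μ[G].left z = g := by
  obtain ⟨s, x, hx, rfl⟩ := exists_of_mem_neutralSet' G hg
  let U' : (fib G s).left.Opens := fibι G s ⁻¹ᵁ U
  have hU' : ePt (fib G s) ∈ U' := by
    change fibι G s (ePt (fib G s)) ∈ U
    rw [fibι_ePt G s (show (𝟙_ (Over S)).left from s) rfl]
    exact hU _
  obtain ⟨z, h1, h2, h3⟩ := exists_mul_eq_of_mem_connectedComponent (fib G s) U' hU' x hx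
  refine ⟨fibTensor G s z, ?_, ?_, ?_⟩
  · rw [← Scheme.Hom.comp_apply, fibTensor_fst]
    exact h1
  · rw [← Scheme.Hom.comp_apply, fibTensor_snd]
    exact h2
  · rw [← Scheme.Hom.comp_apply, fibTensor_mul, Scheme.Hom.comp_apply, h3]

/-- **S5323.** Over a quasi-compact quasi-separated base, the neutral set is contained in a
quasi-compact open. -/
theorem exists_isCompact_neutralSet_subset [CompactSpace S] [QuasiSeparatedSpace S] :
    ∃ U : G.left.Opens, IsCompact (U : Set G.left) ∧ SGA3x.neutralSet G ⊆ U := by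
  let e : S → G.left := fun s => η[G].left (show (𝟙_ (Over S)).left from s)
  have hecont : Continuous e := η[G].left.continuous
  have hK : IsCompact (Set.range e) := isCompact_range hecont
  obtain ⟨W, hWc, hWo, hKW, -⟩ :=
    PrespectralSpace.exists_isCompact_and_isOpen_between hK isOpen_univ (Set.subset_univ _)
  let U₀ : G.left.Opens := ⟨W, hWo⟩
  have hcomp := Groth.Agent.Lib.Helper25.TopGrp.isCompact_fst_preimage_inter_snd_preimage
    (G := G) U₀ U₀ hWc hWc
  have hK2 : IsCompact (μ[G].left '' ((fst G G).left ⁻¹' (U₀ : Set G.left) ∩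
      (snd G G).left ⁻¹' (U₀ : Set G.left))) := hcomp.image μ[G].left.continuous
  obtain ⟨W', hWc', hWo', hKW', -⟩ :=
    PrespectralSpace.exists_isCompact_and_isOpen_between hK2 isOpen_univ (Set.subset_univ _)
  refine ⟨⟨W', hWo'⟩, hWc', fun g hg => hKW' ?_⟩
  obtain ⟨z, h1, h2, h3⟩ := exists_mul_eq_of_mem_neutralSet G U₀
    (fun p => hKW ⟨p, rfl⟩) g hg
  exact ⟨z, ⟨h1, h2⟩, h3⟩

end main

end Groth.Agent.Lib.Seat24.Neutral
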