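import Groth.Statements.S10603
import Groth.Agent.Lib.Helper3FibCritSch
import Groth.Agent.S9947
import Groth.Agent.S9948
import Groth.Agent.S9874
import Groth.Agent.S10175
import Groth.Agent.S10177
import Groth.Agent.S10288
import Groth.Agent.Lib.Helper12LargestOpen

set_option autoImplicit false
universe u
open CategoryTheory CategoryTheory.Limits AlgebraicGeometry

namespace Groth.Agent.Lib.Seat43.FibFlatSp

/-- Scheme-level fibrewise flatness criterion, global form. -/
theorem flat_of_fibres {U V W : Scheme.{u}} (k : U ⟶ V) (g : V ⟶ W)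
    [LocallyOfFinitePresentation (k ≫ g)] [LocallyOfFiniteType g] [Flat (k ≫ g)]
    (hfib : ∀ s : W, Flat (MoreMor.fiberMap k g s)) :
    Flat k ∧ ∀ u : U, (g.stalkMap (k u)).hom.Flat := by
  have key : ∀ u : U, (k.stalkMap u).hom.Flat := by
    intro u
    have h1 : ((k ≫ g).stalkMap u).hom.Flat := Flat.stalkMap (k ≫ g) u
    have := hfib (g (k u))
    have h2 : ((MoreMor.fiberMap k g (g (k u))).stalkMap ((k ≫ g).asFiber u)).hom.Flat :=
      Flat.stalkMap _ _
    exact Groth.Agent.Lib.Helper3.FibCritSch.flat_stalkMap_of_flat_of_fiberMap k g u h1 h2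
  refine ⟨Flat.of_stalkMap _ key, fun u => ?_⟩
  exact Groth.Agent.Lib.Helper5.FiberMor.flat_of_comp k g u (Flat.stalkMap (k ≫ g) u) (key u)

variable {S : Scheme.{u}}

/-- cancellation: a morphism from a scheme to an algebraic space which becomes representable étale
after composing with a representable étale morphism is representable étale. -/
theorem repWith_etale_of_comp {T : Over S} {B C : AlgSp.Sp S} (hB : AlgSp.IsAlgSpace B)
    (m : (AlgSp.yon S).obj T ⟶ B) (j : B ⟶ C) (hj : AlgSp.RepWith @Etale j)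
    (hmj : AlgSp.RepWith @Etale (m ≫ j)) : AlgSp.RepWith @Etale m := by
  have h1 : AlgSp.LocP @Etale (m ≫ j) :=
    Groth.Agent.S9947.locP_of_repWith_etale @Etale (fun g hg => hg) (m ≫ j) hmj
  have h2 : AlgSp.LocP @Etale m :=
    Groth.Agent.Lib.Helper12.LargestOpen.locP_cancel_repEtale @Etale m j hj h1
  exact (Groth.Agent.S9948.locP_iff_repWith @Etale (fun g hg => hg) hB m
    (hB.representable_from_yon m)).1 h2

open AlgSp in
/-- From the fibre hypothesis (on algebraic spaces) to flatness of the scheme-theoretic fibre maps of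
a chart tower `U ⟶ V ⟶ W`. -/
theorem flat_fiberMap_of_charts {X Y Z : AlgSp.Sp S} (hX : AlgSp.IsAlgSpace X)
    (hY : AlgSp.IsAlgSpace Y) (hZ : AlgSp.IsAlgSpace Z) (f : X ⟶ Y) (h : Y ⟶ Z)
    (hfib : ∀ (K : Type u) [Field K] (sK : Spec (CommRingCat.of K) ⟶ S)
      (z : (AlgSp.yon S).obj (Over.mk sK) ⟶ Z) (Xz Yz : AlgSp.Sp S)
      (pX : Xz ⟶ X) (qX : Xz ⟶ (AlgSp.yon S).obj (Over.mk sK))
      (pY : Yz ⟶ Y) (qY : Yz ⟶ (AlgSp.yon S).obj (Over.mk sK)) (fz : Xz ⟶ Yz),
      IsPullback pX qX (f ≫ h) z → IsPullback pY qY h z → fz ≫ pY = pX ≫ f → fz ≫ qY = qX →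
      AlgSp.LocP @Flat fz)
    {U V W : Over S} (c : (AlgSp.yon S).obj W ⟶ Z) (hc : AlgSp.RepWith @Etale c)
    (b0 : (AlgSp.yon S).obj V ⟶ pullback h c) (hb0 : AlgSp.RepWith @Etale b0)
    (a : (AlgSp.yon S).obj U ⟶ X) (ha : AlgSp.RepWith @Etale a)
    (k : U ⟶ V) (g : V ⟶ W)
    (hg : (AlgSp.yon S).map g = b0 ≫ pullback.snd h c)
    (hk : a ≫ f = (AlgSp.yon S).map k ≫ b0 ≫ pullback.fst h c)
    (s : ↥W.left) : Flat (MoreMor.fiberMap k.left g.left s) := by
  -- the residue field point
  let sK : Spec (W.left.residueField s) ⟶ S := W.left.fromSpecResidueField s ≫ W.hom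
  let Ks : Over S := Over.mk sK
  let ιs : Ks ⟶ W := Over.homMk (W.left.fromSpecResidueField s) rfl
  -- the sheaf-level fibres
  have sqXW := IsPullback.of_hasPullback (f ≫ h) c
  have sqYW := IsPullback.of_hasPullback h c
  have sqXz := IsPullback.of_hasPullback (pullback.snd (f ≫ h) c) ((AlgSp.yon S).map ιs)
  have sqYz := IsPullback.of_hasPullback (pullback.snd h c) ((AlgSp.yon S).map ιs)
  have sqX := sqXz.paste_horiz sqXW
  have sqY := sqYz.paste_horiz sqYW
  let fW : pullback (f ≫ h) c ⟶ pullback h c :=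
    pullback.lift (pullback.fst (f ≫ h) c ≫ f) (pullback.snd (f ≫ h) c)
      (by rw [Category.assoc]; exact pullback.condition)
  have hfW1 : fW ≫ pullback.fst h c = pullback.fst (f ≫ h) c ≫ f := pullback.lift_fst _ _ _
  have hfW2 : fW ≫ pullback.snd h c = pullback.snd (f ≫ h) c := pullback.lift_snd _ _ _
  let fz : pullback (pullback.snd (f ≫ h) c) ((AlgSp.yon S).map ιs) ⟶
      pullback (pullback.snd h c) ((AlgSp.yon S).map ιs) :=
    pullback.lift (pullback.fst _ _ ≫ fW) (pullback.snd _ _)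
      (by rw [Category.assoc, hfW2]; exact pullback.condition)
  have hfz1 : fz ≫ pullback.fst _ _ = pullback.fst _ _ ≫ fW := pullback.lift_fst _ _ _
  have hfz2 : fz ≫ pullback.snd _ _ = pullback.snd _ _ := pullback.lift_snd _ _ _
  have hflat : AlgSp.LocP @Flat fz := by
    refine hfib (W.left.residueField s) sK ((AlgSp.yon S).map ιs ≫ c) _ _ _ _ _ _ fz sqX sqY ?_ hfz2
    rw [← Category.assoc, hfz1, Category.assoc, hfW1, Category.assoc]
  -- the scheme-level fibres as objects over `S`
  let kg : U.left ⟶ W.left := k.left ≫ g.left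
  let Us : Over S := Over.mk (kg.fiberToSpecResidueField s ≫ sK)
  let Vs : Over S := Over.mk (g.left.fiberToSpecResidueField s ≫ sK)
  have hUw : kg.fiberι s ≫ U.hom = kg.fiberToSpecResidueField s ≫ sK := by
    have e1 : kg ≫ W.hom = U.hom := by
      have := Over.w (k ≫ g)
      simpa [kg] using this
    rw [← e1, ← Category.assoc, Scheme.Hom.fiber_fac, Category.assoc]
  have hVw : g.left.fiberι s ≫ V.hom = g.left.fiberToSpecResidueField s ≫ sK := by
    rw [← Over.w g, ← Category.assoc, Scheme.Hom.fiber_fac, Category.assoc]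
  let ιU : Us ⟶ U := Over.homMk (kg.fiberι s) hUw
  let πU : Us ⟶ Ks := Over.homMk (kg.fiberToSpecResidueField s) rfl
  let ιV : Vs ⟶ V := Over.homMk (g.left.fiberι s) hVw
  let πV : Vs ⟶ Ks := Over.homMk (g.left.fiberToSpecResidueField s) rfl
  have hm1 : MoreMor.fiberMap k.left g.left s ≫ g.left.fiberι s = kg.fiberι s ≫ k.left :=
    pullback.lift_fst _ _ _
  have hm2 : MoreMor.fiberMap k.left g.left s ≫ g.left.fiberToSpecResidueField s =
      kg.fiberToSpecResidueField s := pullback.lift_snd _ _ _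
  let m : Us ⟶ Vs := Over.homMk (MoreMor.fiberMap k.left g.left s)
    (by
      show MoreMor.fiberMap k.left g.left s ≫ g.left.fiberToSpecResidueField s ≫ sK = _
      rw [← Category.assoc, hm2]
      rfl)
  have hmι : m ≫ ιV = ιU ≫ k := by
    ext
    exact hm1
  have hmπ : m ≫ πV = πU := by
    ext
    exact hm2
  have hUsq : IsPullback πU ιU ιs (k ≫ g) := by
    refine IsPullback.of_map (Over.forget S) ?_ ?_
    · ext
      exact (Scheme.Hom.fiber_fac kg s).symm
    · exact (IsPullback.of_hasPullback kg (W.left.fromSpecResidueField s)).flip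
  have hVsq : IsPullback πV ιV ιs g := by
    refine IsPullback.of_map (Over.forget S) ?_ ?_
    · ext
      exact (Scheme.Hom.fiber_fac g.left s).symm
    · exact (IsPullback.of_hasPullback g.left (W.left.fromSpecResidueField s)).flip
  have hUsqY := hUsq.map (AlgSp.yon S)
  have hVsqY := hVsq.map (AlgSp.yon S)
  -- the chart of `X_W`
  have hXW : AlgSp.IsAlgSpace (pullback (f ≫ h) c) :=
    Groth.Agent.S9874.isAlgSpace_of_isPullback hZ.diag hX (AlgSp.IsAlgSpace.yon_obj W) sqXW
  have hx₁ : AlgSp.RepWith @Etale (pullback.fst (f ≫ h) c) :=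
    (AlgSp.repWith_isStableUnderBaseChange (S := S) @Etale).of_isPullback sqXW.flip hc
  have hcomm_a : a ≫ (f ≫ h) = (AlgSp.yon S).map (k ≫ g) ≫ c := by
    rw [← Category.assoc, hk, Functor.map_comp, hg]
    simp only [Category.assoc]
    rw [pullback.condition]
  let abar : (AlgSp.yon S).obj U ⟶ pullback (f ≫ h) c :=
    pullback.lift a ((AlgSp.yon S).map (k ≫ g)) hcomm_a
  have habar1 : abar ≫ pullback.fst (f ≫ h) c = a := pullback.lift_fst _ _ _
  have habar2 : abar ≫ pullback.snd (f ≫ h) c = (AlgSp.yon S).map (k ≫ g) := pullback.lift_snd _ _ _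
  have habar : AlgSp.RepWith @Etale abar :=
    repWith_etale_of_comp hXW abar _ hx₁ (by rw [habar1]; exact ha)
  have habarf : abar ≫ fW = (AlgSp.yon S).map k ≫ b0 := by
    apply pullback.hom_ext
    · rw [Category.assoc, hfW1, ← Category.assoc, habar1, hk]
      simp only [Category.assoc]
    · rw [Category.assoc, hfW2, habar2, Functor.map_comp, hg]
      simp only [Category.assoc]
  -- the charts of the fibres
  have hαcond : ((AlgSp.yon S).map ιU ≫ abar) ≫ pullback.snd (f ≫ h) c =
      (AlgSp.yon S).map πU ≫ (AlgSp.yon S).map ιs := by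
    rw [Category.assoc, habar2]
    exact hUsqY.w.symm
  let α : (AlgSp.yon S).obj Us ⟶ pullback (pullback.snd (f ≫ h) c) ((AlgSp.yon S).map ιs) :=
    pullback.lift ((AlgSp.yon S).map ιU ≫ abar) ((AlgSp.yon S).map πU) hαcond
  have hα1 : α ≫ pullback.fst _ _ = (AlgSp.yon S).map ιU ≫ abar := pullback.lift_fst _ _ _
  have hα2 : α ≫ pullback.snd _ _ = (AlgSp.yon S).map πU := pullback.lift_snd _ _ _
  have sqα : IsPullback α ((AlgSp.yon S).map ιU) (pullback.fst _ _) abar := by
    refine IsPullback.of_right ?_ hα1 sqXz.flip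
    rw [hα2, habar2]
    exact hUsqY
  have hα : AlgSp.RepWith @Etale α :=
    (AlgSp.repWith_isStableUnderBaseChange (S := S) @Etale).of_isPullback sqα.flip habar
  have hβcond : ((AlgSp.yon S).map ιV ≫ b0) ≫ pullback.snd h c =
      (AlgSp.yon S).map πV ≫ (AlgSp.yon S).map ιs := by
    rw [Category.assoc, ← hg]
    exact hVsqY.w.symm
  let β : (AlgSp.yon S).obj Vs ⟶ pullback (pullback.snd h c) ((AlgSp.yon S).map ιs) :=
    pullback.lift ((AlgSp.yon S).map ιV ≫ b0) ((AlgSp.yon S).map πV) hβcond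
  have hβ1 : β ≫ pullback.fst _ _ = (AlgSp.yon S).map ιV ≫ b0 := pullback.lift_fst _ _ _
  have hβ2 : β ≫ pullback.snd _ _ = (AlgSp.yon S).map πV := pullback.lift_snd _ _ _
  have sqβ : IsPullback β ((AlgSp.yon S).map ιV) (pullback.fst _ _) b0 := by
    refine IsPullback.of_right ?_ hβ1 sqYz.flip
    rw [hβ2, ← hg]
    exact hVsqY
  have hβ : AlgSp.RepWith @Etale β :=
    (AlgSp.repWith_isStableUnderBaseChange (S := S) @Etale).of_isPullback sqβ.flip hb0
  have hcommz : α ≫ fz = (AlgSp.yon S).map m ≫ β := by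
    apply pullback.hom_ext
    · rw [Category.assoc, hfz1, ← Category.assoc, hα1, Category.assoc, habarf, Category.assoc, hβ1,
        ← Category.assoc, ← Functor.map_comp, ← Category.assoc ((AlgSp.yon S).map m),
        ← Functor.map_comp, hmι]
    · rw [Category.assoc, hfz2, hα2, Category.assoc, hβ2, ← Functor.map_comp, hmπ]
  exact hflat α β m hα hβ hcommz

end Groth.Agent.Lib.Seat43.FibFlatSp
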