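import Mathlib
import Groth.Agent.Lib.Seat24NeutralQC
import Groth.Agent.Lib.Seat24ArtinConn
import Groth.Agent.Lib.Seat24ArtinHomog
import Groth.Agent.Lib.Helper6LfpComp
import Groth.Agent.Lib.Seat43FibFlatSp
import Groth.Agent.S5355

/-!
# Flat homomorphisms and neutral components (helper24)

For a homomorphism `u : G ⟶ H` of group schemes locally of finite presentation over `S`:
* `image_neutralSet_of_flat`: if `u` is flat then `u(G⁰) = H⁰`;
* `flat_of_image_neutralSet`: if `G` is flat over `S`, the fibres of `H` are reduced and
  `u(G⁰) = H⁰`, then `u` is flat.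
-/

set_option autoImplicit false
set_option linter.unusedSectionVars false
universe u
open CategoryTheory CategoryTheory.Limits MonoidalCategory CartesianMonoidalCategory MonObj GrpObj
  AlgebraicGeometry

namespace Groth.Agent.Lib.Seat24.Neutral

open Groth.Agent.Lib.Helper25.IdComp Groth.Agent.Lib.Helper25.IdComp0

lemma _root_.RingHom.Flat.codescendsAlong_faithfullyFlat_seat24 :
    RingHom.CodescendsAlong RingHom.Flat RingHom.FaithfullyFlat := by
  refine .mk _ RingHom.Flat.respectsIso fun R S T _ _ _ _ _ h h' ↦ ?_
  rw [RingHom.flat_algebraMap_iff] at h' ⊢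
  rw [RingHom.faithfullyFlat_algebraMap_iff] at h
  exact Module.Flat.of_flat_tensorProduct R T S

/-- flatness descends along fpqc morphisms. -/
theorem flat_descendsAlong :
    MorphismProperty.DescendsAlong @Flat (@Surjective ⊓ @Flat ⊓ @QuasiCompact) :=
  HasRingHomProperty.descendsAlong_flat RingHom.Flat.codescendsAlong_faithfullyFlat_seat24

section field

variable {k : Type u} [Field k] {G H : Over (Spec (CommRingCat.of k))} [GrpObj G] [GrpObj H]
  (v : G ⟶ H) [IsMonHom v]

lemma map_ePt : v.left (ePt G) = ePt H := by
  have h : η[G] ≫ v = η[H] := IsMonHom.one_hom _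
  have h2 : (η[G].left ≫ v.left) (IsLocalRing.closedPoint _) =
      η[H].left (IsLocalRing.closedPoint _) := by
    rw [← Over.comp_left, h]
  exact h2

lemma image_connectedComponent_subset :
    v.left '' connectedComponent (ePt G) ⊆ connectedComponent (ePt H) := by
  rw [← map_ePt v]
  exact v.left.continuous.image_connectedComponent_subset _

lemma isLocallyNoetherian_of_lft (G : Over (Spec (CommRingCat.of k)))
    [LocallyOfFiniteType G.hom] : IsLocallyNoetherian G.left :=
  LocallyOfFiniteType.isLocallyNoetherian G.hom

/-- for `G` locally of finite type over a field, `G⁰ → G` is an open immersion. -/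
lemma isOpenImmersion_G0incl (G : Over (Spec (CommRingCat.of k))) [GrpObj G]
    [LocallyOfFiniteType G.hom] : IsOpenImmersion (G0incl G).left := by
  have : IsLocallyNoetherian G.left := isLocallyNoetherian_of_lft G
  have h1 : IsClosedImmersion (G0incl G).left := inferInstanceAs (IsClosedImmersion (G0ι G))
  have h2 : Flat (G0incl G).left := inferInstanceAs (Flat (G0ι G))
  have h3 : LocallyOfFinitePresentation (G0incl G).left :=
    Groth.Agent.Lib.Seat24.ArtinHomog.lfp_of_lft_of_isLocallyNoetherian _
  have h4 : Mono (G0incl G).left := inferInstance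
  exact IsOpenImmersion.of_flat_of_mono _

/-- **field case of (a)**: an open homomorphism maps `G⁰` onto `H⁰`. -/
theorem image_connectedComponent_of_isOpenMap [LocallyOfFiniteType G.hom]
    (hopen : IsOpenMap v.left) :
    v.left '' connectedComponent (ePt G) = connectedComponent (ePt H) := by
  apply le_antisymm (image_connectedComponent_subset v)
  obtain ⟨inst, hmon⟩ := exists_grpObj_G0 G
  have : IsLocallyNoetherian G.left := isLocallyNoetherian_of_lft G
  have : LocallyConnectedSpace G.left :=
    Groth.Agent.Lib.Seat24.ArtinConn.locallyConnectedSpace_of_isLocallyNoetherian G.left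
  have hCo : IsOpen (connectedComponent (ePt G)) := isOpen_connectedComponent
  have hr : Set.range (G0incl G ≫ v).left = v.left '' connectedComponent (ePt G) := by
    rw [Over.comp_left, Scheme.Hom.comp_base, TopCat.coe_comp, Set.range_comp]
    congr 1
    exact range_G0incl_left G
  have ho : IsOpen (Set.range (G0incl G ≫ v).left) := by
    rw [hr]; exact hopen _ hCo
  have hcl : IsClosed (Set.range (G0incl G ≫ v).left) :=
    Groth.Agent.Lib.Helper25.TopGrp.isClosed_range_of_isLocallyClosed (G0incl G ≫ v)
      ho.isLocallyClosed
  rw [← hr]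
  refine IsClopen.connectedComponent_subset ⟨hcl, ho⟩ ?_
  rw [hr]
  exact ⟨ePt G, mem_connectedComponent, map_ePt v⟩

/-- **field case of (b)**. -/
theorem flat_of_image_connectedComponent [LocallyOfFiniteType G.hom] [LocallyOfFiniteType H.hom]
    [IsReduced H.left]
    (hv : v.left '' connectedComponent (ePt G) = connectedComponent (ePt H)) : Flat v.left := by
  obtain ⟨instG, hmonG⟩ := exists_grpObj_G0 G
  obtain ⟨instH, hmonH⟩ := exists_grpObj_G0 H
  have hr : Set.range (G0incl G ≫ v).left = connectedComponent (ePt H) := by
    rw [← hv, Over.comp_left, Scheme.Hom.comp_base, TopCat.coe_comp, Set.range_comp]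
    congr 1
    exact range_G0incl_left G
  obtain ⟨w, hw⟩ := exists_lift_G0_over H (G0incl G ≫ v) hr.le
  -- `w` is a homomorphism
  have hwmon : IsMonHom w := by
    constructor
    · rw [← cancel_mono (G0incl H), Category.assoc, hw, IsMonHom.one_hom_assoc,
        IsMonHom.one_hom, IsMonHom.one_hom]
    · rw [← cancel_mono (G0incl H), Category.assoc, hw, Category.assoc,
        IsMonHom.mul_hom (f := G0incl H), tensorHom_comp_tensorHom_assoc, hw]
      exact IsMonHom.mul_hom (f := G0incl G ≫ v)
  -- `w` is surjective
  have hwsurj : Function.Surjective w.left := by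
    intro y
    have hy : (G0incl H).left y ∈ Set.range (G0incl G ≫ v).left := by
      rw [hr, ← range_G0incl_left]; exact ⟨y, rfl⟩
    obtain ⟨x, hx⟩ := hy
    refine ⟨x, ?_⟩
    have hci : IsClosedImmersion (G0incl H).left := inferInstanceAs (IsClosedImmersion (G0ι H))
    have hinj : Function.Injective (G0incl H).left := (G0incl H).left.isEmbedding.injective
    apply hinj
    rw [← hx, ← hw]
    rfl
  -- `w` is quasi-compact
  have : IsLocallyNoetherian H.left := isLocallyNoetherian_of_lft H
  have hoiH : IsOpenImmersion (G0incl H).left := isOpenImmersion_G0incl H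
  have hoiG : IsOpenImmersion (G0incl G).left := isOpenImmersion_G0incl G
  have : IsLocallyNoetherian (G0 H).left := LocallyOfFiniteType.isLocallyNoetherian (G0incl H).left
  have : IsNoetherian (G0 H).left := { }
  have hqc : QuasiCompact w.left := inferInstance
  have hred : IsReduced (G0 H).left := isReduced_of_isOpenImmersion (G0incl H).left
  have hflatw : Flat w.left :=
    (Groth.Agent.S5355.result k (G0 G) (G0 H) w hwsurj.denseRange).2 hred
  -- flatness on the open `G⁰`
  have hflat1 : Flat ((G0incl G).left ≫ v.left) := by
    rw [← Over.comp_left, ← hw, Over.comp_left]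
    infer_instance
  let W : G.left.Opens := (G0incl G).left.opensRange
  have hne : (W : Set G.left).Nonempty := ⟨ePt G, by
    change ePt G ∈ Set.range (G0incl G).left
    rw [range_G0incl_left]; exact mem_connectedComponent⟩
  have hW : Flat (W.ι ≫ v.left) := by
    have e : W.ι = (G0incl G).left.isoOpensRange.inv ≫ (G0incl G).left := by
      rw [Iso.eq_inv_comp]; exact Scheme.Hom.isoOpensRange_hom_ι _
    rw [e, Category.assoc]
    infer_instance
  have := flat_descendsAlong
  exact Groth.Agent.Lib.Seat24.GrpLocus.prop_of_nonempty_locus_field @Flat G H v W hne hW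

end field


section global

variable {S : Scheme.{u}}

/-- the prelude's fibre map agrees with the base-change functor, up to an isomorphism. -/
lemma flat_fiberMap_of_flat_map {X Y : Over S} (u : X ⟶ Y) (s : S)
    (h : Flat ((Over.pullback (S.fromSpecResidueField s)).map u).left) :
    Flat (MoreMor.fiberMap u.left Y.hom s) := by
  let f := S.fromSpecResidueField s
  let α : pullback (u.left ≫ Y.hom) f ≅ pullback X.hom f := pullback.congrHom (Over.w u) rfl
  let mu : pullback X.hom f ⟶ pullback Y.hom f := ((Over.pullback f).map u).left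
  have hmu : Flat mu := h
  let m : pullback (u.left ≫ Y.hom) f ⟶ pullback Y.hom f := α.hom ≫ mu
  have hm : Flat m := inferInstance
  have hmu1 : mu ≫ pullback.fst Y.hom f = pullback.fst X.hom f ≫ u.left := map_left_fst u s
  have hmu2 : mu ≫ pullback.snd Y.hom f = pullback.snd X.hom f := by
    simp only [mu, Over.pullback_map_left]
    exact pullback.lift_snd _ _ _
  have hα1 : α.hom ≫ pullback.fst X.hom f = pullback.fst (u.left ≫ Y.hom) f := by
    simp only [α, pullback.congrHom_hom]
    rw [pullback.lift_fst, Category.comp_id]
  have hα2 : α.hom ≫ pullback.snd X.hom f = pullback.snd (u.left ≫ Y.hom) f := by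
    simp only [α, pullback.congrHom_hom]
    rw [pullback.lift_snd, Category.comp_id]
  have e : MoreMor.fiberMap u.left Y.hom s = m := by
    apply pullback.hom_ext
    · have h1 : MoreMor.fiberMap u.left Y.hom s ≫ pullback.fst Y.hom f =
          pullback.fst (u.left ≫ Y.hom) f ≫ u.left := pullback.lift_fst _ _ _
      have h2 : m ≫ pullback.fst Y.hom f = pullback.fst (u.left ≫ Y.hom) f ≫ u.left := by
        simp only [m, Category.assoc]
        rw [hmu1, ← Category.assoc, hα1]
      exact h1.trans h2.symm
    · have h1 : MoreMor.fiberMap u.left Y.hom s ≫ pullback.snd Y.hom f =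
          pullback.snd (u.left ≫ Y.hom) f := pullback.lift_snd _ _ _
      have h2 : m ≫ pullback.snd Y.hom f = pullback.snd (u.left ≫ Y.hom) f := by
        simp only [m, Category.assoc]
        rw [hmu2, hα2]
      exact h1.trans h2.symm
  rw [e]
  exact hm

variable {G H : Over S} [GrpObj G] [GrpObj H] (u : G ⟶ H) [IsMonHom u]

instance lft_fib (s : S) [LocallyOfFiniteType G.hom] : LocallyOfFiniteType (fib G s).hom := by
  change LocallyOfFiniteType (pullback.snd G.hom (S.fromSpecResidueField s))
  infer_instance

/-- **S5328 (a)**: a flat homomorphism maps `G⁰` onto `H⁰`. -/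
theorem image_neutralSet_of_flat [LocallyOfFinitePresentation G.hom]
    [LocallyOfFinitePresentation H.hom] (hu : Flat u.left) :
    u.left '' SGA3x.neutralSet G = SGA3x.neutralSet H := by
  apply le_antisymm (image_neutralSet_subset u)
  intro h hh
  obtain ⟨s, y, hy, rfl⟩ := exists_of_mem_neutralSet' H hh
  have hlfp : LocallyOfFinitePresentation u.left :=
    Groth.Agent.Lib.Helper6.locallyOfFinitePresentation_of_comp (g := H.hom) inferInstance
      (by rw [Over.w]; infer_instance)
  have hflat_s : Flat (fibMap u s).left :=
    MorphismProperty.of_isPullback (P := @Flat) (isPullback_fibMap u s) hu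
  have hlfp_s : LocallyOfFinitePresentation (fibMap u s).left :=
    MorphismProperty.of_isPullback (P := @LocallyOfFinitePresentation) (isPullback_fibMap u s) hlfp
  have hopen : IsOpenMap (fibMap u s).left := (fibMap u s).left.isOpenMap
  have := image_connectedComponent_of_isOpenMap (fibMap u s) hopen
  rw [← this] at hy
  obtain ⟨x, hx, rfl⟩ := hy
  exact ⟨fibι G s x, (mem_neutralSet_iff G s x).mpr hx, (fibMap_fibι u s x).symm⟩

/-- **S5328 (b)**. -/
theorem flat_of_image_neutralSet [LocallyOfFinitePresentation G.hom]
    [LocallyOfFinitePresentation H.hom] (hG : Flat G.hom)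
    (hred : ∀ s : S, IsReduced (H.hom.fiber s))
    (himg : u.left '' SGA3x.neutralSet G = SGA3x.neutralSet H) : Flat u.left := by
  have hfib : ∀ s, Flat (fibMap u s).left := by
    intro s
    have : IsReduced (fib H s).left := hred s
    apply flat_of_image_connectedComponent (fibMap u s)
    apply le_antisymm (image_connectedComponent_subset _)
    intro y hy
    have hmem : fibι H s y ∈ SGA3x.neutralSet H := (mem_neutralSet_iff H s y).mpr hy
    rw [← himg] at hmem
    obtain ⟨g, hg, hgy⟩ := hmem
    obtain ⟨s', x, hx, rfl⟩ := exists_of_mem_neutralSet' G hg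
    have hs : s' = s := by
      have h1 : H.hom (u.left (fibι G s' x)) = s' := by
        rw [← Scheme.Hom.comp_apply, Over.w, hom_fibι]
      rw [hgy, hom_fibι] at h1
      exact h1.symm
    subst hs
    refine ⟨x, hx, (isEmbedding_fibι H s').injective ?_⟩
    rw [fibMap_fibι, hgy]
  have e : u.left ≫ H.hom = G.hom := Over.w u
  have h1 : LocallyOfFinitePresentation (u.left ≫ H.hom) := by rw [e]; infer_instance
  have h2 : Flat (u.left ≫ H.hom) := by rw [e]; exact hG
  refine (Groth.Agent.Lib.Seat43.FibFlatSp.flat_of_fibres u.left H.hom fun s => ?_).1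
  exact flat_fiberMap_of_flat_map u s (hfib s)

end global

end Groth.Agent.Lib.Seat24.Neutral
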