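import Mathlib
import Groth.Prelude.Def_TwC
import Groth.Prelude.Def_NonAbH2
import Groth.Agent.Lib.Seat27ConstPoints
import Groth.Agent.Lib.Seat24ConstExt
import Groth.Agent.Lib.Seat24NeutralFlat
import Groth.Agent.Lib.Helper12Torsor
import Groth.Agent.Lib.Helper8Grp

/-!
# Extensions of a connected group by a torsion-free constant group split (seat 24)

Let `1 → G → E → P → 1` be an fppf-exact sequence of group schemes over a field `k`, with `G ≅ Z_k`
constant, `Z` torsion-free, and `P` connected and locally of finite type.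

* `etale_v`: `v : E → P` is étale (fppf descent from the trivial torsor `G × Y → Y`).
* `mono_v0`: the restriction `v⁰ : E⁰ → P` of `v` to the identity component is a monomorphism (its
  kernel is a quasi-compact subgroup of `Z_k`, hence finite, hence trivial).
* `isIso_v0`: `v⁰` is an isomorphism; this gives the splitting and the rigidity (S8708).
-/

set_option autoImplicit false
set_option linter.unusedSectionVars false
universe u
open CategoryTheory CategoryTheory.Limits MonoidalCategory CartesianMonoidalCategory MonObj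
  AlgebraicGeometry

namespace Groth.Agent.Lib.Seat24.ConstSplit

section cart

variable {C : Type*} [Category C] [CartesianMonoidalCategory C]

lemma isPullback_whiskerRight_fst {Y E : C} (x : Y ⟶ E) (G : C) :
    IsPullback (x ▷ G) (fst Y G) (fst E G) x := by
  refine ⟨⟨by simp⟩, ⟨PullbackCone.IsLimit.mk _ (fun s => lift s.snd (s.fst ≫ snd E G)) ?_ ?_ ?_⟩⟩
  · intro s
    apply CartesianMonoidalCategory.hom_ext
    · simp [s.condition]
    · simp
  · intro s
    simp
  · intro s m h1 h2
    apply CartesianMonoidalCategory.hom_ext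
    · simp [← h2]
    · simp [← h1]

lemma isPullback_unit_fst (G : C) {X : C} (x : 𝟙_ C ⟶ X) :
    IsPullback (toUnit G) (lift (toUnit G ≫ x) (𝟙 G)) x (fst X G) := by
  refine ⟨⟨by simp⟩, ⟨PullbackCone.IsLimit.mk _ (fun s => s.snd ≫ snd X G) ?_ ?_ ?_⟩⟩
  · intro s
    exact toUnit_unique _ _
  · intro s
    apply CartesianMonoidalCategory.hom_ext
    · rw [Category.assoc, lift_fst, ← s.condition, ← Category.assoc]
      congr 1
      exact toUnit_unique _ _
    · simp
  · intro s m _ h2
    rw [← h2, Category.assoc, lift_snd, Category.comp_id]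

end cart

section kernel

variable {S : Scheme.{u}} {G E P : Over S} [GrpObj G] [GrpObj E] [GrpObj P]

/-- the kernel square of an exact sequence. -/
lemma isPullback_kernel (u : G ⟶ E) (v : E ⟶ P) [IsMonHom v]
    (hpb : IsPullback (fst E G) ((E ◁ u) ≫ μ[E]) v v) :
    IsPullback (toUnit G) u η[P] v := by
  have h := (isPullback_unit_fst G η[E]).paste_vert hpb
  have h1 : lift (toUnit G ≫ η[E]) (𝟙 G) ≫ (E ◁ u) ≫ μ[E] = u := by
    have : lift (toUnit G ≫ η[E]) (𝟙 G) ≫ (E ◁ u) = lift (toUnit G ≫ η[E]) u := by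
      apply CartesianMonoidalCategory.hom_ext <;> simp
    rw [← Category.assoc, this]
    change (toUnit G ≫ η[E]) * u = u
    rw [← Hom.one_def, _root_.one_mul]
  have h2 : η[E] ≫ v = η[P] := IsMonHom.one_hom _
  rwa [h1, h2] at h

end kernel

section const

variable (S : Scheme.{u}) (Z : Type u)

/-- the constant scheme `Z_S` is étale over `S`. -/
lemma etale_const_hom : Etale (TwC.const S Z).hom := by
  change Etale (Sigma.desc fun _ : Z => 𝟙 S)
  rw [IsZariskiLocalAtSource.iff_of_openCover (P := @Etale) (sigmaOpenCover (fun _ : Z => S))]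
  intro m
  change Etale (Sigma.ι (fun _ : Z => S) m ≫ Sigma.desc fun _ : Z => 𝟙 S)
  rw [Sigma.ι_desc]
  infer_instance

variable {S Z}

lemma etale_of_iso_const {G : Over S} (eG : G ≅ TwC.const S Z) : Etale G.hom := by
  have h : G.hom = eG.hom.left ≫ (TwC.const S Z).hom := (Over.w eG.hom).symm
  have : Etale (TwC.const S Z).hom := etale_const_hom S Z
  have : IsIso eG.hom.left := inferInstanceAs (IsIso ((Over.forget S).map eG.hom))
  rw [h]
  infer_instance

end const

section etale

variable {S : Scheme.{u}} {G E P : Over S} [GrpObj G] [GrpObj E] [GrpObj P]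

/-- In an fppf-exact sequence `1 → G → E → P → 1`, the morphism `v` inherits every property of
`G → S` which is stable under base change, Zariski-local on the target and satisfies fpqc
descent. -/
theorem prop_v (Q : MorphismProperty Scheme.{u}) [Q.IsStableUnderBaseChange]
    [IsZariskiLocalAtTarget Q]
    (hQ : Q.DescendsAlong (@Surjective ⊓ @Flat ⊓ @QuasiCompact : MorphismProperty Scheme.{u}))
    (u : G ⟶ E) (v : E ⟶ P) (hex : NonAbH1.IsExactSeq Scheme.fppfPrecoverage u v)
    (hG : Q G.hom) : Q v.left := by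
  obtain ⟨hu, hv, huv, hpb, R, hR, hsec⟩ := hex
  refine Groth.Agent.Lib.Helper12.of_mem_fpqcPrecoverage hQ v.left R
    (Scheme.fppfPrecoverage_le_fpqcPrecoverage _ hR) ?_
  intro Y t hRt
  obtain ⟨σ, hσ⟩ := hsec t hRt
  change σ ≫ v.left = t at hσ
  let Y' : Over S := Over.mk (t ≫ P.hom)
  let x : Y' ⟶ E := Over.homMk σ (by
    change σ ≫ E.hom = t ≫ P.hom
    rw [← hσ, Category.assoc, Over.w v])
  have h1 : IsPullback ((x ▷ G) ≫ (E ◁ u) ≫ μ[E]) (fst Y' G) v (x ≫ v) :=
    (isPullback_whiskerRight_fst x G).paste_horiz hpb.flip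
  have h2 : IsPullback ((x ▷ G) ≫ (E ◁ u) ≫ μ[E]).left (fst Y' G).left v.left t := by
    have := h1.map (Over.forget S)
    have e : (x ≫ v).left = t := by rw [Over.comp_left]; exact hσ
    rw [← e]
    exact this
  have h3 : Q (fst Y' G).left := by
    rw [Over.fst_left]
    exact Q.pullback_fst _ _ hG
  have h4 : h2.isoPullback.hom ≫ pullback.snd v.left t = (fst Y' G).left :=
    IsPullback.isoPullback_hom_snd h2
  have h5 : pullback.snd v.left t = h2.isoPullback.inv ≫ (fst Y' G).left := by
    rw [Iso.eq_inv_comp]; exact h4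
  rw [h5, Q.cancel_left_of_respectsIso]
  exact h3

theorem etale_v {Z : Type u} (eG : G ≅ TwC.const S Z)
    (u : G ⟶ E) (v : E ⟶ P) (hex : NonAbH1.IsExactSeq Scheme.fppfPrecoverage u v) :
    Etale v.left :=
  prop_v @Etale inferInstance u v hex (etale_of_iso_const eG)

end etale

section points

open Groth.Agent.Lib.Seat27.ConstPoints Groth.Agent.Lib.Seat24.ConstExt

variable {k : Type u} [Field k] {Z : Type u} [Group Z]
  {G : Over (Spec (CommRingCat.of k))} (eG : G ≅ TwC.const (Spec (CommRingCat.of k)) Z)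

/-- the rational point of `G ≅ Z_k` of index `m`. -/
noncomputable def cpt (m : Z) : 𝟙_ (Over (Spec (CommRingCat.of k))) ⟶ G :=
  TwC.pt (Spec (CommRingCat.of k)) Z m ≫ eG.inv

/-- the (topological) point of `G ≅ Z_k` of index `m`. -/
noncomputable def gpt (m : Z) : G.left :=
  (cpt eG m).left (show ↥(Spec (CommRingCat.of k)) from IsLocalRing.closedPoint k)

lemma hom_gpt (m : Z) :
    eG.hom.left (gpt eG m) =
      Sigma.ι (fun _ : Z => Spec (CommRingCat.of k)) m (IsLocalRing.closedPoint k) := by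
  have h : (cpt eG m).left ≫ eG.hom.left = Sigma.ι (fun _ : Z => Spec (CommRingCat.of k)) m := by
    rw [← Over.comp_left, cpt, Category.assoc, Iso.inv_hom_id, Category.comp_id]
    rfl
  rw [gpt, ← Scheme.Hom.comp_apply, h]

lemma gpt_injective : Function.Injective (gpt eG) := by
  intro m m' h
  have h1 := congrArg eG.hom.left h
  rw [hom_gpt, hom_gpt] at h1
  have := (sigmaι_eq_iff (fun _ : Z => Spec (CommRingCat.of k)) m m' _ _).mp h1
  exact congrArg Sigma.fst this

lemma finite_setOf_gpt_mem {C : Set G.left} (hC : IsCompact C) : {m : Z | gpt eG m ∈ C}.Finite := by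
  let O : Z → Set G.left := fun m =>
    eG.hom.left ⁻¹' Set.range (Sigma.ι (fun _ : Z => Spec (CommRingCat.of k)) m)
  have hO : ∀ m, IsOpen (O m) := fun m =>
    (Scheme.Hom.isOpenEmbedding (Sigma.ι (fun _ : Z => Spec (CommRingCat.of k)) m)).isOpen_range.preimage
      eG.hom.left.continuous
  have hcov : C ⊆ ⋃ m, O m := by
    intro y _
    obtain ⟨⟨m, x⟩, hx⟩ := (sigmaMk (fun _ : Z => Spec (CommRingCat.of k))).surjective
      (eG.hom.left y)
    rw [sigmaMk_mk] at hx
    exact Set.mem_iUnion.mpr ⟨m, x, hx⟩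
  obtain ⟨s, hs⟩ := hC.elim_finite_subcover O hO hcov
  refine s.finite_toSet.subset ?_
  intro m hm
  have := hs hm
  simp only [Set.mem_iUnion] at this
  obtain ⟨m', hm's, x, hx⟩ := this
  rw [hom_gpt] at hx
  have := (sigmaι_eq_iff (fun _ : Z => Spec (CommRingCat.of k)) m' m _ _).mp hx
  have hmm : m' = m := congrArg Sigma.fst this
  rw [← hmm]
  exact hm's

lemma left_eq_gpt_of_isValAt {T : Over (Spec (CommRingCat.of k))} (g : T ⟶ G) (t : T.left) (m : Z)
    (h : IsValAt eG g t m) : g.left t = gpt eG m := by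
  obtain ⟨W, htW, hW⟩ := h
  have h1 : W.ι ≫ g.left = (toUnit (ovOpen T W)).left ≫ (cpt eG m).left := by
    have := congrArg (fun f => f.left) hW
    simp only [Over.comp_left] at this
    simp only [cpt, Over.comp_left]
    exact this
  have h2 : g.left t = (W.ι ≫ g.left) ⟨t, htW⟩ := by
    rw [Scheme.Hom.comp_apply]; rfl
  rw [h2, h1, Scheme.Hom.comp_apply, gpt]
  congr 1
  exact Subsingleton.elim (α := PrimeSpectrum k) _ _

lemma IsValAt.pow {T : Over (Spec (CommRingCat.of k))} [GrpObj G] (hG : TwC.IsConstGrp Z G eG)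
    {g : T ⟶ G} {t : T.left} {m : Z}
    (h : IsValAt eG g t m) (n : ℕ) : IsValAt eG (g ^ (n + 1)) t (m ^ (n + 1)) := by
  induction n with
  | zero => simpa using h
  | succ n ih =>
    rw [pow_succ, pow_succ m]
    exact IsValAt.mul eG hG ih h

end points

section monoker

variable {C : Type*} [Category C] [CartesianMonoidalCategory C]

/-- a homomorphism of group objects with trivial kernel is a monomorphism. -/
lemma mono_of_ker_trivial {A B : C} [GrpObj A] [GrpObj B] (f : A ⟶ B) [IsMonHom f]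
    (h : ∀ (T : C) (c : T ⟶ A), c ≫ f = 1 → c = 1) : Mono f := by
  constructor
  intro T a b hab
  have h1 : (a⁻¹ * b) ≫ f = 1 := by
    rw [MonObj.mul_comp, GrpObj.inv_comp, hab, inv_mul_cancel]
  exact inv_mul_eq_one.mp (h T _ h1)

end monoker

section split

open Groth.Agent.Lib.Seat27.ConstPoints Groth.Agent.Lib.Seat24.ConstExt
  Groth.Agent.Lib.Helper25.IdComp Groth.Agent.Lib.Helper25.IdComp0 Groth.Agent.Lib.Seat24.Neutral

variable {k : Type u} [Field k] {Z : Type u} [Group Z]
  {P E G : Over (Spec (CommRingCat.of k))} [GrpObj P] [GrpObj E] [GrpObj G]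

instance : DiscreteTopology ↥(Spec (CommRingCat.of k)) :=
  inferInstanceAs (DiscreteTopology (PrimeSpectrum k))

/-- `u` is a closed immersion. -/
lemma isClosedImmersion_u (u : G ⟶ E) (v : E ⟶ P) [IsMonHom v]
    (hpb : IsPullback (fst E G) ((E ◁ u) ≫ μ[E]) v v) : IsClosedImmersion u.left := by
  have hker := (isPullback_kernel u v hpb).map (Over.forget _)
  have : IsClosedImmersion η[P].left :=
    Groth.Agent.Lib.Helper8.isClosedImmersion_of_comp_eq_id_of_discrete
      (S := Spec (CommRingCat.of k)) P.hom η[P].left (Over.w η[P])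
  exact MorphismProperty.of_isPullback (P := @IsClosedImmersion) hker this

/-- the kernel of `E⁰ → P` is trivial. -/
theorem ker_v0_trivial (hZ : ∀ z : Z, IsOfFinOrder z → z = 1)
    (eG : G ≅ TwC.const (Spec (CommRingCat.of k)) Z) (hG : TwC.IsConstGrp Z G eG)
    (u : G ⟶ E) (v : E ⟶ P) [IsMonHom u] [IsMonHom v]
    (hpb : IsPullback (fst E G) ((E ◁ u) ≫ μ[E]) v v)
    [GrpObj (G0 E)] [IsMonHom (G0incl E)]
    (T : Over (Spec (CommRingCat.of k))) (c : T ⟶ G0 E) (hc : c ≫ G0incl E ≫ v = 1) : c = 1 := by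
  have hker := isPullback_kernel u v hpb
  obtain ⟨c', hc'⟩ : ∃ c', c' = c ≫ G0incl E := ⟨_, rfl⟩
  have hc'v : c' ≫ v = toUnit T ≫ η[P] := by
    rw [hc', Category.assoc, hc, Hom.one_def]
  obtain ⟨g, hg⟩ : ∃ g : T ⟶ G, g ≫ u = c' :=
    ⟨hker.lift (toUnit T) c' hc'v.symm, hker.lift_snd _ _ _⟩
  have hci : IsClosedImmersion u.left := isClosedImmersion_u u v hpb
  have hK : IsCompact (u.left ⁻¹' connectedComponent (ePt E)) :=
    u.left.isClosedEmbedding.isCompact_preimage (isCompact_connectedComponent_ePt E)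
  have hF := finite_setOf_gpt_mem eG hK
  have hg1 : g = 1 := by
    apply eq_one_of_isValAt eG hG
    intro t
    obtain ⟨m, hm⟩ := exists_isValAt eG g t
    have hmem : ∀ n : ℕ, m ^ (n + 1) ∈ {m : Z | gpt eG m ∈ u.left ⁻¹' connectedComponent (ePt E)} := by
      intro n
      have h1 := left_eq_gpt_of_isValAt eG _ t _ (IsValAt.pow eG hG hm n)
      have h2 : (g ^ (n + 1)) ≫ u = (c ^ (n + 1)) ≫ G0incl E := by
        rw [MonObj.pow_comp, MonObj.pow_comp, hg, hc']
      change u.left (gpt eG (m ^ (n + 1))) ∈ connectedComponent (ePt E)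
      rw [← h1, ← Scheme.Hom.comp_apply, ← Over.comp_left, h2, Over.comp_left,
        Scheme.Hom.comp_apply, ← range_G0incl_left]
      exact ⟨_, rfl⟩
    by_contra hne
    have hm1 : m ≠ 1 := by
      rintro rfl
      exact hne hm
    have hnot : ¬ IsOfFinOrder m := fun h => hm1 (hZ m h)
    have hinj : Function.Injective (fun n : ℕ => m ^ (n + 1)) := by
      intro a b hab
      have := (injective_pow_iff_not_isOfFinOrder.mpr hnot) hab
      omega
    exact (Set.infinite_of_injective_forall_mem hinj hmem) hF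
  apply (cancel_mono (G0incl E)).mp
  rw [← hc', ← hg, hg1, MonObj.one_comp, MonObj.one_comp]

/-- **Structure of the extension.** The restriction of `v` to the identity component of `E` is an
isomorphism onto `P`. -/
theorem isIso_v0 [LocallyOfFiniteType P.hom] [ConnectedSpace ↥P.left]
    (hZ : ∀ z : Z, IsOfFinOrder z → z = 1)
    (eG : G ≅ TwC.const (Spec (CommRingCat.of k)) Z) (hG : TwC.IsConstGrp Z G eG)
    (u : G ⟶ E) (v : E ⟶ P) (hex : NonAbH1.IsExactSeq Scheme.fppfPrecoverage u v) :
    IsIso (G0incl E ≫ v) := by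
  have hev : Etale v.left := etale_v eG u v hex
  obtain ⟨hu, hv, huv, hpb, -⟩ := hex
  obtain ⟨inst, hmon⟩ := exists_grpObj_G0 E
  have hlftE : LocallyOfFiniteType E.hom := by
    rw [← Over.w v]
    infer_instance
  have hoi : IsOpenImmersion (G0incl E).left := isOpenImmersion_G0incl E
  have hmono : Mono (G0incl E ≫ v) :=
    mono_of_ker_trivial _ (fun T c hc => ker_v0_trivial hZ eG hG u v hpb T c hc)
  have hmonoL : Mono (G0incl E ≫ v).left := inferInstance
  have hfl : Flat (G0incl E ≫ v).left := by rw [Over.comp_left]; infer_instance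
  have hlfp : LocallyOfFinitePresentation (G0incl E ≫ v).left := by
    rw [Over.comp_left]; infer_instance
  have hoi2 : IsOpenImmersion (G0incl E ≫ v).left := IsOpenImmersion.of_flat_of_mono _
  have hrange : Set.range (G0incl E ≫ v).left = Set.univ := by
    rw [Over.comp_left, Scheme.Hom.comp_base, TopCat.coe_comp, Set.range_comp]
    have h1 : Set.range (G0incl E).left = connectedComponent (ePt E) := range_G0incl_left E
    rw [h1, image_connectedComponent_of_isOpenMap v v.left.isOpenMap]
    exact PreconnectedSpace.connectedComponent_eq_univ _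
  have hiso : IsIso (G0incl E ≫ v).left := by
    apply isIso_of_isOpenImmersion_of_opensRange_eq_top
    ext1
    exact hrange
  have : IsIso ((Over.forget _).map (G0incl E ≫ v)) := hiso
  exact isIso_of_reflects_iso _ (Over.forget _)

/-- **S8708.** -/
theorem split_and_rigid [LocallyOfFiniteType P.hom] [ConnectedSpace ↥P.left]
    (hZ : ∀ z : Z, IsOfFinOrder z → z = 1)
    (eG : G ≅ TwC.const (Spec (CommRingCat.of k)) Z) (hG : TwC.IsConstGrp Z G eG)
    (u : G ⟶ E) (v : E ⟶ P) (hex : NonAbH1.IsExactSeq Scheme.fppfPrecoverage u v) :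
    (∀ φ : E ≅ E, IsMonHom φ.hom → u ≫ φ.hom = u → φ.hom ≫ v = v → φ.hom = 𝟙 E) ∧
      ∃ s : P ⟶ E, IsMonHom s ∧ s ≫ v = 𝟙 P := by
  have hiso := isIso_v0 hZ eG hG u v hex
  obtain ⟨hu, hv, huv, hpb, -⟩ := hex
  obtain ⟨inst, hmon⟩ := exists_grpObj_G0 E
  have hker := isPullback_kernel u v hpb
  obtain ⟨s, hs⟩ : ∃ s : P ⟶ E, s = inv (G0incl E ≫ v) ≫ G0incl E := ⟨_, rfl⟩
  have hsmon : IsMonHom s := by
    have : IsMonHom (asIso (G0incl E ≫ v)).inv := inferInstance
    have h2 : s = (asIso (G0incl E ≫ v)).inv ≫ G0incl E := by rw [hs]; rfl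
    rw [h2]
    infer_instance
  have hsv : s ≫ v = 𝟙 P := by
    rw [hs, Category.assoc, IsIso.inv_hom_id]
  refine ⟨?_, s, hsmon, hsv⟩
  intro φ hφ hφu hφv
  -- `φ` fixes `E⁰`
  have hφ0 : G0incl E ≫ φ.hom = G0incl E := by
    have hr : Set.range (G0incl E ≫ φ.hom).left ⊆ connectedComponent (ePt E) := by
      rw [Over.comp_left, Scheme.Hom.comp_base, TopCat.coe_comp, Set.range_comp]
      have h1 : Set.range (G0incl E).left = connectedComponent (ePt E) := range_G0incl_left E
      rw [h1]
      exact image_connectedComponent_subset φ.hom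
    obtain ⟨w, hw⟩ := exists_lift_G0_over E (G0incl E ≫ φ.hom) hr
    have hw1 : w ≫ (G0incl E ≫ v) = 𝟙 _ ≫ (G0incl E ≫ v) := by
      rw [← Category.assoc, hw, Category.assoc, hφv, Category.id_comp]
    have hw2 : w = 𝟙 _ := by
      have : Mono (G0incl E ≫ v) := inferInstance
      exact (cancel_mono (G0incl E ≫ v)).mp hw1
    rw [← hw, hw2, Category.id_comp]
  have hsφ : s ≫ φ.hom = s := by
    rw [hs, Category.assoc, hφ0]
  -- decomposition of the identity
  obtain ⟨κ, hκ⟩ : ∃ κ : E ⟶ E, κ = (v ≫ s)⁻¹ * 𝟙 E := ⟨_, rfl⟩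
  have hκv : κ ≫ v = toUnit E ≫ η[P] := by
    rw [hκ, MonObj.mul_comp, GrpObj.inv_comp, Category.assoc, hsv, Category.comp_id,
      Category.id_comp, inv_mul_cancel, Hom.one_def]
  obtain ⟨g, hg⟩ : ∃ g : E ⟶ G, g ≫ u = κ :=
    ⟨hker.lift (toUnit E) κ hκv.symm, hker.lift_snd _ _ _⟩
  have hid : 𝟙 E = (v ≫ s) * (g ≫ u) := by
    rw [hg, hκ, mul_inv_cancel_left]
  calc φ.hom = 𝟙 E ≫ φ.hom := (Category.id_comp _).symm
    _ = ((v ≫ s) * (g ≫ u)) ≫ φ.hom := by rw [← hid]
    _ = (v ≫ s) * (g ≫ u) := by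
        rw [MonObj.mul_comp, Category.assoc, Category.assoc, hsφ, hφu]
    _ = 𝟙 E := hid.symm

end split

end Groth.Agent.Lib.Seat24.ConstSplit
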