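import Mathlib

/-!
# Descent along generalized fpqc coverings (seat 24)

A morphism `q : Z ⟶ Y` which is flat and such that every affine open of `Y` is the image of a
quasi-compact open of `Z` (an fpqc covering in the sense of SGA 3, not necessarily quasi-compact)
satisfies descent for every property which is Zariski-local on the target and descends along
quasi-compact faithfully flat morphisms.  We also show that quasi-compactness and
quasi-separatedness descend along fpqc coverings.
-/

set_option autoImplicit false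
universe u

open CategoryTheory CategoryTheory.Limits AlgebraicGeometry MorphismProperty

namespace Groth.Agent.Lib.Seat24.CoverDescent

/-- quasi-compactness descends along surjective quasi-compact morphisms. -/
instance quasiCompact_descendsAlong :
    DescendsAlong @QuasiCompact (@Surjective ⊓ @Flat ⊓ @QuasiCompact : MorphismProperty Scheme.{u}) where
  of_isPullback {A X Y Z fst snd f g} h hf hfst := by
    have h1 : Surjective f := hf.1.1
    have h3 : QuasiCompact f := hf.2
    have h4 : QuasiCompact fst := hfst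
    have : Surjective snd := MorphismProperty.of_isPullback (P := @Surjective) h h1
    rw [quasiCompact_iff]
    intro U hU hUc
    have c1 : IsCompact (f ⁻¹' U) := h3.isCompact_preimage U hU hUc
    have c2 : IsCompact (fst ⁻¹' (f ⁻¹' U)) :=
      h4.isCompact_preimage _ (hU.preimage f.continuous) c1
    have e : g ⁻¹' U = snd '' (fst ⁻¹' (f ⁻¹' U)) := by
      ext y
      constructor
      · intro hy
        obtain ⟨a, rfl⟩ := snd.surjective y
        refine ⟨a, ?_, rfl⟩
        show f (fst a) ∈ U
        rw [← Scheme.Hom.comp_apply, h.w, Scheme.Hom.comp_apply]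
        exact hy
      · rintro ⟨a, ha, rfl⟩
        show g (snd a) ∈ U
        rw [← Scheme.Hom.comp_apply, ← h.w, Scheme.Hom.comp_apply]
        exact ha
    rw [e]
    exact c2.image snd.continuous

/-- quasi-separatedness descends along fpqc morphisms. -/
instance quasiSeparated_descendsAlong :
    DescendsAlong @QuasiSeparated (@Surjective ⊓ @Flat ⊓ @QuasiCompact : MorphismProperty Scheme.{u}) := by
  rw [quasiSeparated_eq_diagonal_is_quasiCompact]
  infer_instance

/-- **Descent along a generalized fpqc covering.** -/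
theorem descends_of_cover (P : MorphismProperty Scheme.{u}) [IsZariskiLocalAtTarget P]
    [P.DescendsAlong (@Surjective ⊓ @Flat ⊓ @QuasiCompact)]
    {A X Y Z : Scheme.{u}} {fst' : A ⟶ Z} {snd' : A ⟶ X} {q : Z ⟶ Y} {f : X ⟶ Y}
    (sq : IsPullback fst' snd' q f) [Flat q]
    (hq : ∀ V : Y.Opens, IsAffineOpen V → ∃ W : Z.Opens, IsCompact (W : Set Z) ∧
      q.base '' (W : Set Z) = (V : Set Y))
    (H : P fst') : P f := by
  refine IsZariskiLocalAtTarget.of_iSup_eq_top (P := P) (fun V : Y.affineOpens => V.1)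
    (iSup_affineOpens_eq_top Y) ?_
  rintro ⟨V, hV⟩
  show P (f ∣_ V)
  obtain ⟨W, hWc, hWV⟩ := hq V hV
  have hr : Set.range (W.ι ≫ q) ⊆ Set.range V.ι := by
    rw [Scheme.Opens.range_ι, ← hWV]
    rintro _ ⟨w, rfl⟩
    exact ⟨W.ι w, w.2, rfl⟩
  let qW : W.toScheme ⟶ V.toScheme := IsOpenImmersion.lift V.ι (W.ι ≫ q) hr
  have hqW : qW ≫ V.ι = W.ι ≫ q := IsOpenImmersion.lift_fac _ _ _
  -- `qW` is an fpqc morphism
  have hflat : Flat qW := MorphismProperty.of_postcomp (W := @Flat) (W' := @IsOpenImmersion) qW V.ι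
    inferInstance (by rw [hqW]; infer_instance)
  have hsurj : Surjective qW := by
    refine ⟨fun v => ?_⟩
    have hv : V.ι v ∈ q.base '' (W : Set Z) := by rw [hWV]; exact v.2
    obtain ⟨w, hw, hwv⟩ := hv
    refine ⟨⟨w, hw⟩, ?_⟩
    apply V.ι.injective
    rw [← Scheme.Hom.comp_apply, hqW]
    exact hwv
  have : CompactSpace W.toScheme := isCompact_iff_compactSpace.mp hWc
  have : IsAffine V.toScheme := hV
  have hqc : QuasiCompact qW := inferInstance
  -- the pullback square
  let AW : A.Opens := fst' ⁻¹ᵁ W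
  have hr2 : Set.range (AW.ι ≫ snd') ⊆ Set.range (f ⁻¹ᵁ V).ι := by
    rw [Scheme.Opens.range_ι]
    rintro _ ⟨a, rfl⟩
    show f (snd' (AW.ι a)) ∈ V
    rw [← Scheme.Hom.comp_apply, ← sq.w, Scheme.Hom.comp_apply]
    have : q (fst' (AW.ι a)) ∈ q.base '' (W : Set Z) := ⟨_, a.2, rfl⟩
    rw [hWV] at this
    exact this
  let sndW : AW.toScheme ⟶ (f ⁻¹ᵁ V).toScheme :=
    IsOpenImmersion.lift (f ⁻¹ᵁ V).ι (AW.ι ≫ snd') hr2
  have hsndW : sndW ≫ (f ⁻¹ᵁ V).ι = AW.ι ≫ snd' := IsOpenImmersion.lift_fac _ _ _
  have outer : IsPullback (AW.ι ≫ snd') (fst' ∣_ W) f (W.ι ≫ q) :=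
    (isPullback_morphismRestrict fst' W).flip.paste_horiz sq.flip
  rw [← hsndW, ← hqW] at outer
  have hcomm : sndW ≫ (f ∣_ V) = (fst' ∣_ W) ≫ qW := by
    rw [← cancel_mono V.ι, Category.assoc, Category.assoc, morphismRestrict_ι, ← Category.assoc,
      hsndW, hqW, Category.assoc, ← sq.w, ← Category.assoc, ← Category.assoc, morphismRestrict_ι]
  have left : IsPullback sndW (fst' ∣_ W) (f ∣_ V) qW :=
    IsPullback.of_right outer hcomm (isPullback_morphismRestrict f V).flip
  exact MorphismProperty.of_isPullback_of_descendsAlong (P := P)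
    (Q := @Surjective ⊓ @Flat ⊓ @QuasiCompact) left.flip ⟨⟨hsurj, hflat⟩, hqc⟩
    (IsZariskiLocalAtTarget.restrict H W)

end Groth.Agent.Lib.Seat24.CoverDescent
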