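import Mathlib
import Groth.Agent.Lib.Helper5KrullAkizuki2

/-!
# Units of a finite extension of the fraction field of a DVR

For a discrete valuation ring `O` with fraction field `F` and a finite extension `K / F` (not
necessarily separable), the integral closure `B` of `O` in `K` is a Dedekind domain with finitely
many primes (Krull–Akizuki, via `Helper5KrullAkizuki2`).  Consequently there is a homomorphism
from `Kˣ` to a free abelian group of finite rank whose kernel consists of elements integral over
`O`.
-/

universe u
open IsDedekindDomain WithZero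

namespace Groth.Agent.Lib.Seat24.DVRUnits

open Groth.Agent.Lib.Helper5

variable (O F K : Type u) [CommRing O] [IsDomain O] [IsDiscreteValuationRing O] [Field F]
  [Algebra O F] [IsFractionRing O F] [Field K] [Algebra F K] [Algebra O K] [IsScalarTower O F K]
  [FiniteDimensional F K]

/-- The integral closure of the DVR `O` in the finite extension `K`. -/
abbrev B : Subalgebra O K := integralClosure O K

omit [IsDiscreteValuationRing O] in
include F in
theorem isFractionRing_B : IsFractionRing (B O K) K :=
  integralClosure.isFractionRing_of_finite_extension F K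

include F in
theorem isNoetherianRing_B : IsNoetherianRing (B O K) := by
  have := isFractionRing_B O F K
  have hdim : ringKrullDim O ≤ 1 := (IsDiscreteValuationRing.ringKrullDim_eq_one O).le
  rw [isNoetherianRing_iff_ideal_fg]
  intro I
  by_cases hI : I = ⊥
  · rw [hI]; exact Submodule.fg_bot
  -- a nonzero element of `O` in `I`
  have hne : I.comap (algebraMap O (B O K)) ≠ ⊥ := Ideal.IsIntegral.comap_ne_bot O hI
  obtain ⟨x, hxI, hx⟩ := Submodule.exists_mem_ne_zero_of_ne_bot hne
  have hfin := KrullAkizuki.length_quot_ne_top hdim x hx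
  set J : Ideal (B O K) := Ideal.span {algebraMap O (B O K) x} with hJ
  have hJI : J ≤ I := (Ideal.span_singleton_le_iff_mem I).2 hxI
  have hfq : Module.Finite O (B O K ⧸ J) :=
    KrullAkizuki2.finite_quot O (B O K) F K x hx hfin J (Ideal.mem_span_singleton_self _)
  have hN : IsNoetherian O (B O K ⧸ J) := inferInstance
  have hN' : IsNoetherian (B O K) (B O K ⧸ J) := isNoetherian_of_tower O hN
  refine Submodule.fg_of_fg_map_of_fg_inf_ker (Submodule.mkQ J) (hN'.noetherian _) ?_
  rw [Submodule.ker_mkQ, inf_eq_right.2 hJI]
  exact ⟨{algebraMap O (B O K) x}, by simp [hJ]⟩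

include F in
theorem isDedekindDomain_B : IsDedekindDomain (B O K) := by
  have := isFractionRing_B O F K
  refine (isDedekindDomain_iff (B O K) K).2 ⟨inferInstance, isNoetherianRing_B O F K, inferInstance,
    fun {x} hx => ⟨⟨x, isIntegral_trans (R := O) _ hx⟩, rfl⟩⟩

/-- Every height one prime of `B` lies over the maximal ideal of `O`. -/
theorem asIdeal_mem_primesOver [IsDedekindDomain (B O K)] (v : HeightOneSpectrum (B O K)) :
    v.asIdeal ∈ (IsLocalRing.maximalIdeal O).primesOver (B O K) := by
  refine ⟨v.isPrime, ⟨?_⟩⟩
  have hne : v.asIdeal.comap (algebraMap O (B O K)) ≠ ⊥ := Ideal.IsIntegral.comap_ne_bot O v.ne_bot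
  have hp : (v.asIdeal.comap (algebraMap O (B O K))).IsPrime := Ideal.IsPrime.comap _
  have hmax := Ring.DimensionLEOne.maximalOfPrime hne hp
  exact (IsLocalRing.eq_maximalIdeal hmax).symm

include F in
theorem finite_heightOneSpectrum_B [IsDedekindDomain (B O K)] :
    Finite (HeightOneSpectrum (B O K)) := by
  have := isFractionRing_B O F K
  have hfin := (KrullAkizuki2.main O (B O K) F K (IsDiscreteValuationRing.ringKrullDim_eq_one O)).2.1
  have := hfin.to_subtype
  refine Finite.of_injective (β := (IsLocalRing.maximalIdeal O).primesOver (B O K))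
    (fun v => ⟨v.asIdeal, asIdeal_mem_primesOver O K v⟩) ?_
  intro v w h
  exact HeightOneSpectrum.ext (congrArg Subtype.val h)


include F in
/-- **Units of a finite extension of the fraction field of a DVR**: there is a homomorphism from
`Kˣ` to a free abelian group of finite rank whose kernel consists of elements integral over `O`. -/
theorem exists_hom_ker_isIntegral :
    ∃ (n : ℕ) (φ : Kˣ →* Multiplicative (Fin n → ℤ)), ∀ u ∈ φ.ker, IsIntegral O (u : K) := by
  have := isFractionRing_B O F K
  have := isDedekindDomain_B O F K
  have := finite_heightOneSpectrum_B O F K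
  obtain ⟨n, ⟨e⟩⟩ := Finite.exists_equiv_fin (HeightOneSpectrum (B O K))
  let ψ : Kˣ →* Multiplicative (Fin n → ℤ) :=
    { toFun := fun u => Multiplicative.ofAdd (fun i =>
        (WithZero.unitsWithZeroEquiv (Units.map ((e.symm i).valuation K).toMonoidHom u)).toAdd)
      map_one' := by
        simp only [map_one, toAdd_one]
        rfl
      map_mul' := fun a b => by
        simp only [map_mul, toAdd_mul]
        rfl }
  refine ⟨n, ψ, fun u hu => ?_⟩
  have h1 : ∀ v : HeightOneSpectrum (B O K), v.valuation K (u : K) = 1 := by
    intro v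
    have h2 := congrFun (congrArg Multiplicative.toAdd (MonoidHom.mem_ker.1 hu)) (e v)
    simp only [ψ, MonoidHom.coe_mk, OneHom.coe_mk, toAdd_ofAdd, Equiv.symm_apply_apply, toAdd_one,
      Pi.zero_apply, toAdd_eq_zero, EmbeddingLike.map_eq_one_iff] at h2
    have h3 := congrArg Units.val h2
    simpa using h3
  obtain ⟨b, hb⟩ := HeightOneSpectrum.mem_integers_of_valuation_le_one (R := B O K) K (u : K)
    (fun v => (h1 v).le)
  rw [← hb]
  exact b.2

end Groth.Agent.Lib.Seat24.DVRUnits
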