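import Mathlib

/-!
# The total degree valuation ("valuation at infinity") on a polynomial ring over a field

`degVal : Valuation (MvPolynomial σ k) ℤᵐ⁰` sends a nonzero polynomial to `exp (totalDegree p)`.
It extends to any fraction field `F` (`degValF`), whose valuation subring is a discrete valuation
ring as soon as `σ` is nonempty, and the only polynomials of valuation `≤ 1` are the constants.
-/

open MvPolynomial WithZero Valuation MonoidWithZeroHom

universe u

namespace Groth.Agent.Lib.Seat24.DegVal

variable {k : Type u} [Field k] {σ : Type*}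

noncomputable def degValDef (p : MvPolynomial σ k) : ℤᵐ⁰ :=
  open Classical in if p = 0 then 0 else exp (p.totalDegree : ℤ)

noncomputable def degVal : Valuation (MvPolynomial σ k) ℤᵐ⁰ where
  toFun := degValDef
  map_zero' := by simp [degValDef]
  map_one' := by simp [degValDef]
  map_mul' x y := by
    unfold degValDef
    by_cases hx : x = 0
    · simp [hx]
    by_cases hy : y = 0
    · simp [hy]
    rw [if_neg hx, if_neg hy, if_neg (mul_ne_zero hx hy), totalDegree_mul_of_isDomain hx hy,
      Nat.cast_add, exp_add]
  map_add_le_max' x y := by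
    unfold degValDef
    have := totalDegree_add x y
    by_cases hx : x = 0
    · subst hx; rw [zero_add]; exact le_max_right _ _
    by_cases hy : y = 0
    · subst hy; rw [add_zero]; exact le_max_left _ _
    by_cases hxy : x + y = 0
    · simp [hxy]
    rw [if_neg hx, if_neg hy, if_neg hxy]
    rcases le_max_iff.1 this with h | h
    · exact le_max_of_le_left (exp_le_exp.2 (by exact_mod_cast h))
    · exact le_max_of_le_right (exp_le_exp.2 (by exact_mod_cast h))

lemma degVal_apply_of_ne_zero {p : MvPolynomial σ k} (hp : p ≠ 0) :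
    degVal p = exp (p.totalDegree : ℤ) := if_neg hp

lemma degVal_eq_zero_iff {p : MvPolynomial σ k} : degVal p = 0 ↔ p = 0 := by
  constructor
  · intro h
    by_contra hp
    rw [degVal_apply_of_ne_zero hp] at h
    exact exp_ne_zero h
  · rintro rfl; exact map_zero _

lemma exists_C_of_degVal_le_one {p : MvPolynomial σ k} (h : degVal p ≤ 1) : ∃ c : k, p = C c := by
  by_cases hp : p = 0
  · exact ⟨0, by simp [hp]⟩
  rw [degVal_apply_of_ne_zero hp, ← exp_zero, exp_le_exp] at h
  have h0 : p.totalDegree = 0 := by exact_mod_cast le_antisymm h (by positivity)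
  exact ⟨_, (totalDegree_eq_zero_iff_eq_C.1 h0)⟩

lemma degVal_X (i : σ) : degVal (X i : MvPolynomial σ k) = exp 1 := by
  rw [degVal_apply_of_ne_zero (X_ne_zero i), totalDegree_X]; rfl

variable (F : Type*) [Field F] [Algebra (MvPolynomial σ k) F] [IsFractionRing (MvPolynomial σ k) F]

lemma nzd_le : nonZeroDivisors (MvPolynomial σ k) ≤ (degVal (k := k) (σ := σ)).supp.primeCompl := by
  intro p hp hmem
  have : degVal p = 0 := hmem
  rw [degVal_eq_zero_iff] at this
  exact nonZeroDivisors.ne_zero hp this

noncomputable def degValF : Valuation F ℤᵐ⁰ :=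
  (degVal (k := k) (σ := σ)).extendToLocalization nzd_le F

lemma degValF_algebraMap (p : MvPolynomial σ k) :
    degValF (k := k) (σ := σ) F (algebraMap _ F p) = degVal p :=
  Valuation.extendToLocalization_apply_map_apply _ _ _ _

instance : IsCyclic (valueGroup (.ofClass (degValF (k := k) (σ := σ) F))) := inferInstance

instance [Nonempty σ] : Nontrivial (valueGroup (.ofClass (degValF (k := k) (σ := σ) F))) := by
  obtain ⟨i⟩ := ‹Nonempty σ›
  have h1 : degValF (k := k) (σ := σ) F (algebraMap (MvPolynomial σ k) F (X i)) = exp 1 := by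
    rw [degValF_algebraMap, degVal_X (k := k) i]
  refine ⟨⟨⟨Units.mk0 (exp 1) exp_ne_zero, mem_valueGroup _ ⟨_, h1⟩⟩, 1, ?_⟩⟩
  intro h
  have h2 := congrArg (fun x => ((x : valueGroup _) : ℤᵐ⁰ˣ).1) h
  simp only [Units.val_mk0, OneMemClass.coe_one, Units.val_one] at h2
  rw [← exp_zero, exp_injective.eq_iff] at h2
  exact one_ne_zero h2

instance [Nonempty σ] :
    IsDiscreteValuationRing (degValF (k := k) (σ := σ) F).valuationSubring := inferInstance

/-- An element of the fraction field which is a polynomial and has valuation `≤ 1` is a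
constant. -/
lemma exists_C_of_degValF_le_one (p : MvPolynomial σ k)
    (h : degValF (k := k) (σ := σ) F (algebraMap _ F p) ≤ 1) : ∃ c : k, p = C c := by
  rw [degValF_algebraMap] at h
  exact exists_C_of_degVal_le_one h

end Groth.Agent.Lib.Seat24.DegVal
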