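import Mathlib
import Groth.Agent.Lib.Seat24ActSep

/-!
# Étale equivariant maps reflect fixed points (helper24)

`fixed_of_isOpenImmersion_diagonal`: let `G` be an `S`-group scheme such that `Spec K ×_S G` is
irreducible for all field valued points, acting on `X` and `Y`, and `f : X ⟶ Y` an equivariant
morphism whose diagonal is an open immersion (e.g. `f` étale, or a monomorphism).  If `x : T ⟶ X`
is such that `f x` is fixed by `G`, then `x` is fixed by `G`.

Proof: the locus `W ⊆ T × G` of `(τ, g)` with `g x(τ) = x(τ)` is open, as the pullback of the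
diagonal of `f`.  It contains the unit section and is "stable under products"; since the fibres of
`T × G → T` are irreducible, `W` is everything (`W_τ · W_τ = G_τ`).
-/

set_option autoImplicit false
set_option linter.unusedSectionVars false
universe u
open CategoryTheory CategoryTheory.Limits MonoidalCategory CartesianMonoidalCategory MonObj GrpObj
  AlgebraicGeometry

namespace Groth.Agent.Lib.Seat24.FixedEtale

open Groth.Agent.Lib.Seat24.Neutral Groth.Agent.Lib.Helper12

section eqLocus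

variable {X Y Z : Scheme.{u}} (f : X ⟶ Y) [IsOpenImmersion (pullback.diagonal f)] (o c : Z ⟶ X)
  (h : o ≫ f = c ≫ f)

/-- the open locus where two `Y`-morphisms to `X` agree, when the diagonal of `X ⟶ Y` is an open
immersion. -/
noncomputable def eqLocus : Z.Opens := (pullback.lift o c h) ⁻¹ᵁ (pullback.diagonal f).opensRange

lemma comp_eq_iff {Z' : Scheme.{u}} (u : Z' ⟶ Z) :
    u ≫ o = u ≫ c ↔ Set.range u ⊆ (eqLocus f o c h : Set Z) := by
  constructor
  · intro huc
    have h1 : u ≫ pullback.lift o c h = (u ≫ o) ≫ pullback.diagonal f := by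
      apply pullback.hom_ext
      · rw [Category.assoc, pullback.lift_fst, Category.assoc, pullback.diagonal_fst,
          Category.comp_id]
      · rw [Category.assoc, pullback.lift_snd, Category.assoc, pullback.diagonal_snd,
          Category.comp_id, huc]
    rintro _ ⟨z', rfl⟩
    change (pullback.lift o c h) (u z') ∈ Set.range (pullback.diagonal f)
    rw [← Scheme.Hom.comp_apply, h1, Scheme.Hom.comp_apply]
    exact ⟨_, rfl⟩
  · intro hr
    have hr' : Set.range (u ≫ pullback.lift o c h) ⊆ Set.range (pullback.diagonal f) := by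
      rintro _ ⟨z', rfl⟩
      rw [Scheme.Hom.comp_apply]
      exact hr ⟨z', rfl⟩
    let v : Z' ⟶ X := IsOpenImmersion.lift (pullback.diagonal f) (u ≫ pullback.lift o c h) hr'
    have hv : v ≫ pullback.diagonal f = u ≫ pullback.lift o c h := IsOpenImmersion.lift_fac _ _ _
    have h1 : u ≫ o = v := by
      have := congrArg (· ≫ pullback.fst f f) hv
      simp only [Category.assoc, pullback.diagonal_fst, pullback.lift_fst, Category.comp_id] at this
      exact this.symm
    have h2 : u ≫ c = v := by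
      have := congrArg (· ≫ pullback.snd f f) hv
      simp only [Category.assoc, pullback.diagonal_snd, pullback.lift_snd, Category.comp_id] at this
      exact this.symm
    rw [h1, h2]

end eqLocus

variable {S : Scheme.{u}} {G X Y : Over S} [GrpObj G]

/-- **Fixed points are reflected** by equivariant maps with open diagonal. -/
theorem fixed_of_isOpenImmersion_diagonal
    (hirr : ∀ (Z : Over S) (q : Z.left), PreirreducibleSpace
      (Over.mk (Z.left.fromSpecResidueField q ≫ Z.hom) ⊗ G).left)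
    (a : AlgGrp.Action G X) (b : AlgGrp.Action G Y) (f : X ⟶ Y)
    [IsOpenImmersion (pullback.diagonal f.left)]
    (hf : a.act ≫ f = (G ◁ f) ≫ b.act) {T : Over S} (x : T ⟶ X)
    (hx : lift (snd T G) (fst T G ≫ x ≫ f) ≫ b.act = fst T G ≫ x ≫ f) :
    lift (snd T G) (fst T G ≫ x) ≫ a.act = fst T G ≫ x := by
  let o : T ⊗ G ⟶ X := lift (snd T G) (fst T G ≫ x) ≫ a.act
  let c : T ⊗ G ⟶ X := fst T G ≫ x
  have hoc : o ≫ f = c ≫ f := by
    change (lift (snd T G) (fst T G ≫ x) ≫ a.act) ≫ f = (fst T G ≫ x) ≫ f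
    rw [Category.assoc, hf, ← Category.assoc, lift_whiskerLeft, Category.assoc, hx]
  have hoc' : o.left ≫ f.left = c.left ≫ f.left := by
    rw [← Over.comp_left, hoc]; rfl
  let W : (T ⊗ G).left.Opens := eqLocus f.left o.left c.left hoc'
  have key : ∀ {T' : Over S} (u : T' ⟶ T ⊗ G),
      u ≫ o = u ≫ c ↔ Set.range u.left ⊆ (W : Set (T ⊗ G).left) := by
    intro T' u
    rw [← comp_eq_iff f.left o.left c.left hoc' u.left]
    constructor
    · intro h; rw [← Over.comp_left, h]; rfl
    · intro h; ext1; exact h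
  suffices hW : ∀ p : (T ⊗ G).left, p ∈ W by
    have := (key (𝟙 (T ⊗ G))).mpr (fun p _ => hW p)
    simpa using this
  intro p
  -- the point `p = (τ, g)`
  let P : Over S := Over.mk ((T ⊗ G).left.fromSpecResidueField p ≫ (T ⊗ G).hom)
  let pP : P ⟶ T ⊗ G := Over.homMk ((T ⊗ G).left.fromSpecResidueField p) rfl
  let τP : P ⟶ T := pP ≫ fst T G
  let gP : P ⟶ G := pP ≫ snd T G
  let xP : P ⟶ X := τP ≫ x
  have hpo : pP ≫ o = lift gP xP ≫ a.act := by
    change pP ≫ lift (snd T G) (fst T G ≫ x) ≫ a.act = _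
    rw [← Category.assoc, comp_lift, ← Category.assoc]
  have hpc : pP ≫ c = xP := by
    change pP ≫ fst T G ≫ x = _
    rw [← Category.assoc]
  suffices hmain : lift gP xP ≫ a.act = xP by
    have h1 : pP ≫ o = pP ≫ c := by rw [hpo, hpc, hmain]
    have h2 := (key pP).mp h1
    have hPne : Nonempty P.left := by
      change Nonempty (Spec ((T ⊗ G).left.residueField p))
      infer_instance
    obtain ⟨pt⟩ := hPne
    have : pP.left pt = p := Scheme.fromSpecResidueField_apply _ _
    rw [← this]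
    exact h2 ⟨pt, rfl⟩
  have hPne : Nonempty P.left := by
    change Nonempty (Spec ((T ⊗ G).left.residueField p))
    infer_instance
  obtain ⟨pt⟩ := hPne
  let Q : Over S := P ⊗ G
  let p₁ : Q ⟶ P := fst P G
  let gQ : Q ⟶ G := snd P G
  let m₁ : Q ⟶ T ⊗ G := lift (p₁ ≫ τP) gQ
  let m₂ : Q ⟶ T ⊗ G := lift (p₁ ≫ τP) (gQ⁻¹ * (p₁ ≫ gP))
  have hQ : PreirreducibleSpace Q.left := hirr (T ⊗ G) p
  have ho1 : IsOpen (m₁.left ⁻¹' (W : Set (T ⊗ G).left)) := W.isOpen.preimage m₁.left.continuous
  have ho2 : IsOpen (m₂.left ⁻¹' (W : Set (T ⊗ G).left)) := W.isOpen.preimage m₂.left.continuous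
  -- the unit section lies in `W`
  have hunit : Set.range (lift τP (1 : P ⟶ G)).left ⊆ (W : Set (T ⊗ G).left) := by
    rw [← key]
    change lift τP (1 : P ⟶ G) ≫ lift (snd T G) (fst T G ≫ x) ≫ a.act =
      lift τP (1 : P ⟶ G) ≫ fst T G ≫ x
    rw [← Category.assoc, comp_lift, lift_snd, lift_fst_assoc, act_one]
  have hne1 : (m₁.left ⁻¹' (W : Set (T ⊗ G).left)).Nonempty := by
    refine ⟨(lift (𝟙 P) (1 : P ⟶ G)).left pt, ?_⟩
    change (lift (𝟙 P) (1 : P ⟶ G) ≫ m₁).left pt ∈ W
    have : lift (𝟙 P) (1 : P ⟶ G) ≫ m₁ = lift τP (1 : P ⟶ G) := by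
      change lift (𝟙 P) (1 : P ⟶ G) ≫ lift (p₁ ≫ τP) gQ = _
      rw [comp_lift, lift_fst_assoc, lift_snd, Category.id_comp]
    rw [this]
    exact hunit ⟨pt, rfl⟩
  have hne2 : (m₂.left ⁻¹' (W : Set (T ⊗ G).left)).Nonempty := by
    refine ⟨(lift (𝟙 P) gP).left pt, ?_⟩
    change (lift (𝟙 P) gP ≫ m₂).left pt ∈ W
    have : lift (𝟙 P) gP ≫ m₂ = lift τP (1 : P ⟶ G) := by
      change lift (𝟙 P) gP ≫ lift (p₁ ≫ τP) (gQ⁻¹ * (p₁ ≫ gP)) = _
      rw [comp_lift, lift_fst_assoc, MonObj.comp_mul, GrpObj.comp_inv, lift_snd, lift_fst_assoc,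
        Category.id_comp, Category.id_comp, inv_mul_cancel]
    rw [this]
    exact hunit ⟨pt, rfl⟩
  obtain ⟨t, ht1, ht2⟩ := nonempty_preirreducible_inter ho1 ho2 hne1 hne2
  -- the point `t = (π, h)`
  let R : Over S := Over.mk (Q.left.fromSpecResidueField t ≫ Q.hom)
  let tR : R ⟶ Q := Over.homMk (Q.left.fromSpecResidueField t) rfl
  let π : R ⟶ P := tR ≫ p₁
  let h : R ⟶ G := tR ≫ gQ
  have htR : ∀ r : R.left, tR.left r = t := fun r => Scheme.fromSpecResidueField_apply _ _
  have h1 : lift h (π ≫ xP) ≫ a.act = π ≫ xP := by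
    have hr : Set.range (tR ≫ m₁).left ⊆ (W : Set (T ⊗ G).left) := by
      rintro _ ⟨r, rfl⟩
      change m₁.left (tR.left r) ∈ W
      rw [htR]; exact ht1
    have := (key (tR ≫ m₁)).mpr hr
    have e : tR ≫ m₁ = lift (π ≫ τP) h := by
      change tR ≫ lift (p₁ ≫ τP) gQ = _
      rw [comp_lift, ← Category.assoc]
    rw [e] at this
    change lift (π ≫ τP) h ≫ lift (snd T G) (fst T G ≫ x) ≫ a.act =
      lift (π ≫ τP) h ≫ fst T G ≫ x at this
    rw [← Category.assoc, comp_lift, lift_snd, lift_fst_assoc, Category.assoc] at this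
    exact this
  have h2 : lift (h⁻¹ * (π ≫ gP)) (π ≫ xP) ≫ a.act = π ≫ xP := by
    have hr : Set.range (tR ≫ m₂).left ⊆ (W : Set (T ⊗ G).left) := by
      rintro _ ⟨r, rfl⟩
      change m₂.left (tR.left r) ∈ W
      rw [htR]; exact ht2
    have := (key (tR ≫ m₂)).mpr hr
    have e : tR ≫ m₂ = lift (π ≫ τP) (h⁻¹ * (π ≫ gP)) := by
      change tR ≫ lift (p₁ ≫ τP) (gQ⁻¹ * (p₁ ≫ gP)) =
        lift ((tR ≫ p₁) ≫ τP) ((tR ≫ gQ)⁻¹ * ((tR ≫ p₁) ≫ gP))
      simp only [comp_lift, MonObj.comp_mul, GrpObj.comp_inv, Category.assoc]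
    rw [e] at this
    change lift (π ≫ τP) (h⁻¹ * (π ≫ gP)) ≫ lift (snd T G) (fst T G ≫ x) ≫ a.act =
      lift (π ≫ τP) (h⁻¹ * (π ≫ gP)) ≫ fst T G ≫ x at this
    rw [← Category.assoc, comp_lift, lift_snd, lift_fst_assoc, Category.assoc] at this
    exact this
  have h3 : lift (π ≫ gP) (π ≫ xP) ≫ a.act = π ≫ xP := by
    have e : π ≫ gP = h * (h⁻¹ * (π ≫ gP)) := by group
    rw [e, act_mul, h2, h1]
  have h4 : π ≫ (lift gP xP ≫ a.act) = π ≫ xP := by
    rw [← Category.assoc, comp_lift, h3]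
  have hepi : Epi π.left := by
    have hs : Surjective π.left := by
      refine ⟨fun y => ⟨IsLocalRing.closedPoint (Q.left.residueField t), ?_⟩⟩
      exact Subsingleton.elim (α := Spec ((T ⊗ G).left.residueField p)) _ _
    have hfl : Flat π.left := by
      change Flat (show R.left ⟶ Spec ((T ⊗ G).left.residueField p) from π.left)
      infer_instance
    exact Flat.epi_of_flat_of_surjective π.left
  ext1
  have h5 := congrArg (fun m => m.left) h4
  simp only [Over.comp_left] at h5
  exact (cancel_epi π.left).mp h5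

end Groth.Agent.Lib.Seat24.FixedEtale
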