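import Mathlib
import Groth.Agent.S0113
import Groth.Agent.S0114
import Groth.Agent.S0115
import Groth.Agent.Lib.Helper20EtSrc

/-!
# Descent of properties of `g : X ⟶ Y` along fppf covers `f : X' ⟶ X` of the source (seat 24)

For `f` surjective, flat and locally of finite presentation:
* `lft_of_fppf_cover_source`: `f ≫ g` locally of finite type ⇒ `g` locally of finite type;
* `unram_of_fppf_cover_source`: `f ≫ g` unramified (and `g` locally of finite type) ⇒ `g` unramified;
* `etale_of_fppf_cover_source`: `f ≫ g` étale ⇒ `g` étale;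
* `lqf_of_fppf_cover_source`: `f ≫ g` locally quasi-finite ⇒ `g` locally quasi-finite;
* `quasiCompact_of_surjective_comp`: `f` surjective, `f ≫ g` quasi-compact ⇒ `g` quasi-compact.
(locally of finite presentation: `S0114`; smooth: `S0115`.)
-/

set_option autoImplicit false
universe u

open CategoryTheory CategoryTheory.Limits AlgebraicGeometry MorphismProperty

namespace Groth.Agent.Lib.Seat24.FppfSrc

open Groth.Agent.Lib.Helper20.EtSrc

/-- Generic descent along fppf covers of the source. -/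
theorem of_fppf_cover_source {P : MorphismProperty Scheme.{u}}
    {Q : ∀ {R S : Type u} [CommRing R] [CommRing S], (R →+* S) → Prop}
    [HasRingHomProperty P Q]
    (hQ : RingHom.StableUnderCompositionWithLocalizationAwaySource Q)
    (hdesc : ∀ {R A B : Type u} [CommRing R] [CommRing A] [CommRing B] (φ : R →+* A)
      (ψ : A →+* B), ψ.Flat → ψ.FinitePresentation →
        Function.Surjective (PrimeSpectrum.comap ψ) → Q (ψ.comp φ) → Q φ)
    {X' X Y : Scheme.{u}} (f : X' ⟶ X) (g : X ⟶ Y) [Flat f] [LocallyOfFinitePresentation f]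
    [Surjective f] (h : P (f ≫ g)) : P g := by
  rw [HasRingHomProperty.iff_exists_appLE (P := P) hQ]
  intro x
  obtain ⟨U, hU, hgx, -⟩ := TopologicalSpace.Opens.isBasis_iff_nbhd.mp Y.isBasis_affineOpens
    (TopologicalSpace.Opens.mem_top (g x))
  obtain ⟨V₀, hV₀, hxV₀, eV₀⟩ := TopologicalSpace.Opens.isBasis_iff_nbhd.mp X.isBasis_affineOpens
    (show x ∈ g ⁻¹ᵁ U from hgx)
  obtain ⟨x', rfl⟩ := f.surjective x
  obtain ⟨W₀, hW₀, hxW₀, eW₀⟩ := TopologicalSpace.Opens.isBasis_iff_nbhd.mp X'.isBasis_affineOpens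
    (show x' ∈ f ⁻¹ᵁ V₀ from hxV₀)
  let O : X.Opens := ⟨f '' W₀, f.isOpenMap _ W₀.isOpen⟩
  obtain ⟨a, haO, hxa⟩ := hV₀.exists_basicOpen_le (V := O) ⟨f x', ⟨x', hxW₀, rfl⟩⟩ hxV₀
  let V : X.Opens := X.basicOpen a
  have hV : IsAffineOpen V := hV₀.basicOpen a
  let W : X'.Opens := X'.basicOpen (f.appLE V₀ W₀ eW₀ a)
  have hW : IsAffineOpen W := hW₀.basicOpen _
  have hWeq : W = W₀ ⊓ f ⁻¹ᵁ V := Scheme.basicOpen_appLE f W₀ V₀ eW₀ a
  have eW : W ≤ f ⁻¹ᵁ V := hWeq ▸ inf_le_right
  have eV : V ≤ g ⁻¹ᵁ U := (X.basicOpen_le a).trans eV₀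
  refine ⟨⟨U, hU⟩, ⟨V, hV⟩, hxa, eV, ?_⟩
  apply hdesc (g.appLE U V eV).hom (f.appLE V W eW).hom
  · exact HasRingHomProperty.appLE (P := @Flat) f inferInstance ⟨V, hV⟩ ⟨W, hW⟩ eW
  · exact HasRingHomProperty.appLE (P := @LocallyOfFinitePresentation) f inferInstance
      ⟨V, hV⟩ ⟨W, hW⟩ eW
  · apply comap_appLE_surjective f hV hW eW
    intro y hy
    obtain ⟨w, hw, rfl⟩ := haO hy
    exact ⟨w, hWeq ▸ ⟨hw, hy⟩, rfl⟩
  · rw [← CommRingCat.hom_comp, Scheme.Hom.appLE_comp_appLE]
    exact HasRingHomProperty.appLE (P := P) _ h ⟨U, hU⟩ ⟨W, hW⟩ _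

/-- Local finite type descends along fppf covers of the source. -/
theorem lft_of_fppf_cover_source {X' X Y : Scheme.{u}} (f : X' ⟶ X) (g : X ⟶ Y)
    [Flat f] [LocallyOfFinitePresentation f] [Surjective f] [h : LocallyOfFiniteType (f ≫ g)] :
    LocallyOfFiniteType g := by
  refine of_fppf_cover_source (P := @LocallyOfFiniteType) (Q := @RingHom.FiniteType) ?_ ?_ f g h
  · intro R S T _ _ _ _ r _ φ hφ
    exact hφ.comp (RingHom.finiteType_holdsForLocalizationAway S r)
  · intro R A B _ _ _ φ ψ hψ1 hψ2 hs hc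
    algebraize [φ, ψ, ψ.comp φ]
    have : Module.Flat A B := hψ1
    have : Algebra.FinitePresentation A B := hψ2
    have : Algebra.FiniteType R B := hc
    have : Module.FaithfullyFlat A B := Module.FaithfullyFlat.of_comap_surjective hs
    exact Groth.Agent.S0113.result (R := R) (A := A) (B := B)

/-- Quasi-compactness descends along surjections of the source. -/
theorem quasiCompact_of_surjective_comp {X' X Y : Scheme.{u}} (f : X' ⟶ X) (g : X ⟶ Y)
    [Surjective f] [h : QuasiCompact (f ≫ g)] : QuasiCompact g := by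
  rw [quasiCompact_iff]
  intro U hU hUc
  have h1 : IsCompact ((f ≫ g) ⁻¹' U) := h.isCompact_preimage U hU hUc
  have h2 : g ⁻¹' U = f '' ((f ≫ g) ⁻¹' U) := by
    ext x
    constructor
    · intro hx
      obtain ⟨x', rfl⟩ := f.surjective x
      exact ⟨x', hx, rfl⟩
    · rintro ⟨x', hx', rfl⟩
      exact hx'
  rw [h2]
  exact h1.image f.continuous

/-- Unramifiedness descends along fppf covers of the source. -/
theorem unram_of_fppf_cover_source {X' X Y : Scheme.{u}} (f : X' ⟶ X) (g : X ⟶ Y)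
    [Flat f] [LocallyOfFinitePresentation f] [Surjective f] [FormallyUnramified (f ≫ g)]
    [LocallyOfFiniteType (f ≫ g)] : FormallyUnramified g := by
  have sq := pullback_map_diagonal_isPullback f f g
  set δ := pullback.map f f (f ≫ g) (f ≫ g) (𝟙 _) (𝟙 _) g (Category.id_comp _).symm
    (Category.id_comp _).symm with hδ
  set T := pullback.map (f ≫ g) (f ≫ g) g g f f (𝟙 _) (Category.comp_id _)
    (Category.comp_id _) with hT
  -- `T` is an fppf cover
  have hT' : (@Surjective ⊓ @Flat ⊓ @LocallyOfFinitePresentation : MorphismProperty Scheme.{u}) T :=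
    MorphismProperty.pullbackMap (P := @Surjective ⊓ @Flat ⊓ @LocallyOfFinitePresentation)
      ⟨⟨‹_›, ‹_›⟩, ‹_›⟩ ⟨⟨‹_›, ‹_›⟩, ‹_›⟩ rfl rfl
  -- `δ` is an open immersion
  have : Mono δ := sq.mono_snd_of_mono
  have hδ1 : δ ≫ pullback.fst (f ≫ g) (f ≫ g) = pullback.fst f f := by
    rw [hδ]
    unfold pullback.map
    rw [pullback.lift_fst, Category.comp_id]
  have : LocallyOfFiniteType (δ ≫ pullback.fst (f ≫ g) (f ≫ g)) := by rw [hδ1]; infer_instance
  have : LocallyOfFiniteType δ := locallyOfFiniteType_of_comp δ (pullback.fst (f ≫ g) (f ≫ g))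
  have : FormallyUnramified δ := by
    have : IsIso (pullback.diagonal δ) := (pullback.isIso_diagonal_iff δ).mpr inferInstance
    infer_instance
  have hπ : FormallyUnramified (pullback.fst (f ≫ g) (f ≫ g)) :=
    MorphismProperty.pullback_fst (P := @FormallyUnramified) _ _ ‹_›
  have : FormallyUnramified (pullback.fst f f) := by
    rw [← hδ1]
    exact MorphismProperty.comp_mem (W := @FormallyUnramified) _ _ ‹_› hπ
  have : Etale (pullback.fst f f) := Etale.of_formallyUnramified_of_flat _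
  have : Etale (δ ≫ pullback.fst (f ≫ g) (f ≫ g)) := by rw [hδ1]; infer_instance
  have : Etale δ := Etale.of_comp δ (pullback.fst (f ≫ g) (f ≫ g))
  have : IsOpenImmersion δ := IsOpenImmersion.of_flat_of_mono δ
  -- descent
  have : IsOpenImmersion (pullback.diagonal g) :=
    MorphismProperty.of_isPullback_of_descendsAlong (P := @IsOpenImmersion)
      (Q := @Surjective ⊓ @Flat ⊓ @LocallyOfFinitePresentation) sq.flip hT' this
  infer_instance

/-- Étaleness descends along fppf covers of the source. -/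
theorem etale_of_fppf_cover_source {X' X Y : Scheme.{u}} (f : X' ⟶ X) (g : X ⟶ Y)
    [Flat f] [LocallyOfFinitePresentation f] [Surjective f] [Etale (f ≫ g)] : Etale g := by
  have : Smooth g := Groth.Agent.S0115.result f g
  have : FormallyUnramified g := unram_of_fppf_cover_source f g
  exact Etale.of_formallyUnramified_of_flat g

/-- Local quasi-finiteness descends along fppf covers of the source. -/
theorem lqf_of_fppf_cover_source {X' X Y : Scheme.{u}} (f : X' ⟶ X) (g : X ⟶ Y)
    [Flat f] [LocallyOfFinitePresentation f] [Surjective f] [LocallyQuasiFinite (f ≫ g)]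
    [LocallyOfFiniteType (f ≫ g)] : LocallyQuasiFinite g := by
  have : LocallyOfFiniteType g := lft_of_fppf_cover_source f g
  rw [locallyQuasiFinite_iff_isDiscrete_preimage_singleton]
  intro y
  rw [isDiscrete_iff_forall_mem_exists_isOpen]
  intro x hx
  obtain ⟨x', rfl⟩ := f.surjective x
  have hd := (f ≫ g).isDiscrete_preimage_singleton y
  rw [isDiscrete_iff_forall_mem_exists_isOpen] at hd
  obtain ⟨u', hu', hu'e⟩ := hd x' (by simpa using hx)
  refine ⟨f '' u', f.isOpenMap _ hu', ?_⟩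
  ext z
  simp only [Set.mem_inter_iff, Set.mem_image, Set.mem_preimage, Set.mem_singleton_iff]
  constructor
  · rintro ⟨⟨z', hz', rfl⟩, hz⟩
    have : z' ∈ u' ∩ (f ≫ g) ⁻¹' {y} := ⟨hz', by simpa using hz⟩
    rw [hu'e] at this
    rw [this]
  · rintro rfl
    have hx'mem : x' ∈ u' ∩ (f ≫ g) ⁻¹' {y} := by rw [hu'e]; rfl
    exact ⟨⟨x', hx'mem.1, rfl⟩, by simpa using hx⟩

end Groth.Agent.Lib.Seat24.FppfSrc
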