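import Mathlib
import Groth.Agent.Lib.Helper3GrpFlat
import Groth.Agent.Lib.Helper5FibMorLoci
import Groth.Agent.Lib.Helper20SmoothDescSch

/-!
# Homogeneity of the smooth locus of a homomorphism of group schemes (helper24)

For `u : G ⟶ H` locally of finite presentation with `G` flat over `S` (no hypothesis on `H`), the
smooth locus of `u` is a union of fibres of `G → S`.
-/

set_option autoImplicit false
set_option linter.style.haveILetI false
universe u

open CategoryTheory CategoryTheory.Limits MonoidalCategory CartesianMonoidalCategory MonObj GrpObj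
  AlgebraicGeometry

namespace Groth.Agent.Lib.Seat24.HomShear

open Groth.Agent.Lib.Helper20.FlatDesc Groth.Agent.Lib.Helper3.GrpHomQF
  Groth.Agent.Lib.Helper3.GrpFibDim

/-- `IsPullback` version of pointwise smooth descent along flat base change. -/
theorem formallySmooth_stalkMap_of_isPullback_of_flat {P X Y Y' : Scheme.{u}} {fst' : P ⟶ X}
    {snd' : P ⟶ Y'} {f : X ⟶ Y} {g : Y' ⟶ Y} (sq : IsPullback fst' snd' f g)
    [LocallyOfFinitePresentation f] [Flat g] (p : P)
    (H : (snd'.stalkMap p).hom.FormallySmooth) :
    (f.stalkMap (fst' p)).hom.FormallySmooth := by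
  have h1 : sq.isoPullback.hom ≫ pullback.snd f g = snd' := sq.isoPullback_hom_snd
  have h2 : sq.isoPullback.hom ≫ pullback.fst f g = fst' := sq.isoPullback_hom_fst
  have hQ := RingHom.FormallySmooth.respectsIso
  have H' : ((pullback.snd f g).stalkMap (sq.isoPullback.hom p)).hom.FormallySmooth :=
    (stalkMap_comp_iff_left hQ sq.isoPullback.hom (pullback.snd f g) p).mp
      ((stalkMap_congr_iff (Q := RingHom.FormallySmooth) h1.symm p).mp H)
  have h3 := formallySmooth_stalkMap_of_flat_baseChange f g (sq.isoPullback.hom p) H'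
  have h4 : pullback.fst f g (sq.isoPullback.hom p) = fst' p := by
    rw [← Scheme.Hom.comp_apply, h2]
  rw [h4] at h3
  exact h3

section homogeneity

variable {S : Scheme.{u}} (G H : Over S) [GrpObj G] [GrpObj H] (u : G ⟶ H) [IsMonHom u]
  [LocallyOfFinitePresentation u.left] [Flat G.hom]

/-- smoothness of a homomorphism `u` at `a` and at `a · b` are equivalent (`G` flat over `S`). -/
theorem smooth_hom_mul (z : ↥(G ⊗ G).left) :
    (u.left.stalkMap (μ[G].left z)).hom.FormallySmooth ↔
      (u.left.stalkMap ((fst G G).left z)).hom.FormallySmooth := by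
  have hpb := isPullback_whiskerRight G H u
  haveI : Flat (fst H G).left := inferInstanceAs (Flat (pullback.fst H.hom G.hom))
  haveI : LocallyOfFinitePresentation (u ▷ G).left := MorphismProperty.of_isPullback hpb ‹_›
  have hQ := RingHom.FormallySmooth.respectsIso
  have hA : ∀ w : ↥(G ⊗ G).left, ((u ▷ G).left.stalkMap w).hom.FormallySmooth ↔
      (u.left.stalkMap ((fst G G).left w)).hom.FormallySmooth := fun w =>
    ⟨formallySmooth_stalkMap_of_isPullback_of_flat hpb w,
      Groth.Agent.Lib.Helper5.FibMorLoci.formallySmooth_stalkMap_of_isPullback hpb w⟩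
  have hc := congrArg (fun f => f.left) (shear_comm u)
  simp only [Over.comp_left] at hc
  haveI : IsIso (shearIso' G).hom.left := inferInstance
  haveI : IsIso (shearHom u).hom.left := inferInstance
  have e1 : ((u ▷ G).left.stalkMap ((shearIso' G).hom.left z)).hom.FormallySmooth ↔
      ((u ▷ G).left.stalkMap z).hom.FormallySmooth := by
    rw [← stalkMap_comp_iff_left hQ (shearIso' G).hom.left (u ▷ G).left z,
      stalkMap_congr_iff (Q := RingHom.FormallySmooth) hc z,
      stalkMap_comp_iff_right hQ (u ▷ G).left (shearHom u).hom.left z]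
  rw [hA, hA] at e1
  have hpt : (fst G G).left ((shearIso' G).hom.left z) = μ[G].left z := by
    rw [← Scheme.Hom.comp_apply, ← Over.comp_left]
    congr 2
    simp [shearIso', fst_mul_snd]
  rw [hpt] at e1
  exact e1

/-- **the smooth locus of a homomorphism of group schemes is a union of fibres of `G → S`**
(`G` flat over `S`, `u` locally of finite presentation). -/
theorem smooth_hom_iff_unitSec (x : G.left) :
    (u.left.stalkMap x).hom.FormallySmooth ↔
      (u.left.stalkMap (unitSec G (G.hom x))).hom.FormallySmooth := by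
  have h := smooth_hom_mul G H u ((lift (toUnit G ≫ η[G]) (𝟙 G)).left x)
  have hp1 : μ[G].left ((lift (toUnit G ≫ η[G]) (𝟙 G)).left x) = x := by
    rw [← Scheme.Hom.comp_apply, ← Over.comp_left, lift_comp_one_left]
    rfl
  have hp2 : (fst G G).left ((lift (toUnit G ≫ η[G]) (𝟙 G)).left x) = unitSec G (G.hom x) := by
    rw [← Scheme.Hom.comp_apply, ← Over.comp_left, lift_fst, Over.comp_left,
      Scheme.Hom.comp_apply]
    rfl
  rw [hp1, hp2] at h
  exact h

theorem smooth_hom_iff_of_base_eq (x₁ x₂ : G.left) (h : G.hom x₁ = G.hom x₂) :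
    (u.left.stalkMap x₁).hom.FormallySmooth ↔ (u.left.stalkMap x₂).hom.FormallySmooth := by
  rw [smooth_hom_iff_unitSec G H u x₁, smooth_hom_iff_unitSec G H u x₂, h]

end homogeneity

end Groth.Agent.Lib.Seat24.HomShear
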