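import Mathlib

/-!
# Maximal points (points without proper generizations) (helper24)

Elementary facts about maximal points of a topological space (for the specialization order):
existence of maximal generizations in quasi-sober spaces, images under generalizing maps,
relation with irreducible components.
-/

set_option autoImplicit false
universe u

namespace Groth.Agent.Lib.Seat24.MaxPt

variable {α β : Type*} [TopologicalSpace α] [TopologicalSpace β]

/-- a point all of whose generizations are equal to it. -/
def IsMaxPt (x : α) : Prop := ∀ y : α, y ⤳ x → y = x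

lemma IsMaxPt.eq {x y : α} (hx : IsMaxPt x) (h : y ⤳ x) : y = x := hx y h

/-- generalizing maps send maximal points to maximal points. -/
lemma IsMaxPt.map {f : α → β} (hf : GeneralizingMap f) {x : α} (hx : IsMaxPt x) :
    IsMaxPt (f x) := by
  intro y hy
  obtain ⟨x', hx', rfl⟩ := hf hy
  rw [hx x' hx']

/-- homeomorphisms preserve maximal points. -/
lemma IsMaxPt.homeomorph (e : α ≃ₜ β) {x : α} (hx : IsMaxPt x) : IsMaxPt (e x) := by
  intro y hy
  have h1 : e.symm y ⤳ x := by
    have := hy.map e.symm.continuous
    rwa [e.symm_apply_apply] at this
  rw [← hx _ h1, e.apply_symm_apply]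

/-- the generic point of an irreducible component is a maximal point. -/
lemma isMaxPt_of_isGenericPoint [T0Space α] {x : α} {Z : Set α}
    (hZ : Z ∈ irreducibleComponents α) (hx : IsGenericPoint x Z) : IsMaxPt x := by
  intro y hy
  have h1 : Z ⊆ closure {y} := by
    rw [← hx.def]
    exact hy.closure_subset
  have h2 : closure {y} ⊆ Z := hZ.2 isIrreducible_singleton.closure h1
  have h3 : IsGenericPoint y Z := le_antisymm h2 h1
  exact h3.eq hx

/-- every point of a quasi-sober `T0` space has a maximal generization. -/
lemma exists_isMaxPt_specializes [QuasiSober α] [T0Space α] (x : α) :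
    ∃ ξ : α, IsMaxPt ξ ∧ ξ ⤳ x := by
  have hZ : irreducibleComponent x ∈ irreducibleComponents α :=
    irreducibleComponent_mem_irreducibleComponents x
  have hcl : IsClosed (irreducibleComponent x) := isClosed_irreducibleComponent
  have hg := hZ.1.isGenericPoint_genericPoint hcl
  refine ⟨hZ.1.genericPoint, isMaxPt_of_isGenericPoint hZ hg, ?_⟩
  exact hg.specializes mem_irreducibleComponent

/-- the closure of a maximal point is an irreducible component. -/
lemma IsMaxPt.closure_mem_irreducibleComponents [QuasiSober α] {x : α} (hx : IsMaxPt x) :
    closure {x} ∈ irreducibleComponents α := by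
  refine ⟨isIrreducible_singleton.closure, fun Z hZ hxZ => ?_⟩
  have hZc : IsIrreducible (closure Z) := hZ.closure
  have hg := hZc.isGenericPoint_genericPoint isClosed_closure
  have h1 : hZc.genericPoint ⤳ x := hg.specializes (subset_closure (hxZ (subset_closure rfl)))
  have h2 := hx _ h1
  intro z hz
  have : z ∈ closure Z := subset_closure hz
  rw [← hg.def, h2] at this
  exact this

/-- a maximal point lying in an irreducible component `Z` with generic point `ξ` is `ξ`. -/
lemma IsMaxPt.eq_of_mem {x ξ : α} {Z : Set α} (hx : IsMaxPt x) (hξ : IsGenericPoint ξ Z)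
    (hxZ : x ∈ Z) : ξ = x := hx ξ (hξ.specializes hxZ)

/-- if `f` is inducing, specializations in the source can be tested in the target. -/
lemma isMaxPt_of_isInducing {f : α → β} (hf : Topology.IsInducing f) {x : α}
    (hrange : ∀ y : β, y ⤳ f x → y ∈ Set.range f)
    (hx : IsMaxPt x) : IsMaxPt (f x) := by
  intro y hy
  obtain ⟨x', rfl⟩ := hrange y hy
  have : x' ⤳ x := hf.specializes_iff.mp hy
  rw [hx _ this]

end Groth.Agent.Lib.Seat24.MaxPt
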