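import Mathlib
import Groth.Agent.Lib.Helper25IdCompScheme
import Groth.Agent.Lib.Helper25OrbitLC
import Groth.Agent.Lib.Helper12Act
import Groth.Agent.Lib.Helper12Cart
import Groth.Agent.Lib.Seat24ActSep
import Groth.Agent.Lib.Seat24MaxPt

/-!
# Homogeneous spaces under a group scheme over a field (SGA3 VI_A 2.6) (helper24)

`G` a group scheme over a field `k` (not assumed of finite type), acting on a `k`-scheme `X` such
that `G × X → X × X` is surjective.  `C⁰` is the connected component of the unit point of `G`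
(the unique irreducible component through the unit point).
-/

set_option autoImplicit false
set_option linter.unusedSectionVars false
universe u
open CategoryTheory CategoryTheory.Limits MonoidalCategory CartesianMonoidalCategory MonObj GrpObj
  AlgebraicGeometry

namespace Groth.Agent.Lib.Seat24.Homog

open Groth.Agent.Lib.Helper25.IdComp Groth.Agent.Lib.Helper25.IdComp0
  Groth.Agent.Lib.Helper25.TopGrp
  Groth.Agent.Lib.Seat24.MaxPt

variable {k : Type u} [Field k] {G X : Over (Spec (CommRingCat.of k))} [GrpObj G]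
  (a : AlgGrp.Action G X)

/-- the neutral component as a set. -/
abbrev C0 (G : Over (Spec (CommRingCat.of k))) [GrpObj G] : Set G.left :=
  connectedComponent (ePt G)

/-- the action of `G⁰` on `X`. -/
noncomputable def m : G0 G ⊗ X ⟶ X := Groth.Agent.Lib.Helper25.OrbitLC.trans a (G0incl G)

lemma isOpenMap_m : IsOpenMap (m a).left :=
  Groth.Agent.Lib.Helper25.OrbitLC.isOpenMap_trans a (G0incl G)

lemma m_eq : m a = (G0incl G ▷ X) ≫ a.act := by
  rw [m, Groth.Agent.Lib.Helper25.OrbitLC.trans]
  congr 1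

lemma range_whiskerRight_G0incl :
    Set.range (G0incl G ▷ X).left = (fst G X).left ⁻¹' C0 G := by
  have h1 := range_tensorHom (G0incl G) (𝟙 X)
  rw [tensorHom_id] at h1
  rw [h1, range_G0incl_left]
  have h2 : Set.range (𝟙 X : X ⟶ X).left = Set.univ := by
    rw [Over.id_left]
    exact Set.range_eq_univ.mpr (fun y => ⟨y, rfl⟩)
  rw [h2, Set.preimage_univ, Set.inter_univ]

/-- the unit point of `G⁰`. -/
lemma exists_eH : ∃ e : 𝟙_ (Over (Spec (CommRingCat.of k))) ⟶ G0 G, e ≫ G0incl G = η[G] :=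
  exists_lift_G0_over G η[G] (range_one_subset G)

/-- points `z` of `G × X` with first projection in `C⁰` come from `G⁰ × X`. -/
lemma exists_of_fst_mem (z : ↥(G ⊗ X).left) (hz : (fst G X).left z ∈ C0 G) :
    ∃ z' : ↥(G0 G ⊗ X).left, (G0incl G ▷ X).left z' = z := by
  have : z ∈ Set.range (G0incl G ▷ X).left := by
    rw [range_whiskerRight_G0incl]; exact hz
  exact this

lemma snd_whiskerRight_apply (z' : ↥(G0 G ⊗ X).left) :
    (snd G X).left ((G0incl G ▷ X).left z') = (snd (G0 G) X).left z' := by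
  change ((G0incl G ▷ X) ≫ snd G X).left z' = _
  rw [whiskerRight_snd]

lemma act_whiskerRight_apply (z' : ↥(G0 G ⊗ X).left) :
    a.act.left ((G0incl G ▷ X).left z') = (m a).left z' := by
  change ((G0incl G ▷ X) ≫ a.act).left z' = _
  rw [← m_eq]

lemma fst_whiskerRight_mem (z' : ↥(G0 G ⊗ X).left) :
    (fst G X).left ((G0incl G ▷ X).left z') ∈ C0 G := by
  have : (G0incl G ▷ X).left z' ∈ Set.range (G0incl G ▷ X).left := ⟨z', rfl⟩
  rw [range_whiskerRight_G0incl] at this
  exact this

/-- irreducible components of `X` are stable under `C⁰`. -/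
theorem act_mem_of_mem_irreducibleComponents {Z : Set X.left}
    (hZ : Z ∈ irreducibleComponents X.left) (z : ↥(G ⊗ X).left)
    (hz1 : (fst G X).left z ∈ C0 G) (hz2 : (snd G X).left z ∈ Z) : a.act.left z ∈ Z := by
  have hgi : GeometricallyIrreducible (snd (G0 G) X).left := by
    rw [Over.snd_left]
    infer_instance
  have hirr : IsIrreducible ((snd (G0 G) X).left ⁻¹' Z) :=
    (snd (G0 G) X).left.isIrreducible_preimage (isOpenMap_snd (G0 G) X) hZ.1
  have himg : IsIrreducible ((m a).left '' ((snd (G0 G) X).left ⁻¹' Z)) :=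
    hirr.image _ (m a).left.continuous.continuousOn
  have hsub : Z ⊆ (m a).left '' ((snd (G0 G) X).left ⁻¹' Z) := by
    intro x hx
    obtain ⟨e, he⟩ := exists_eH (G := G)
    let σ : X ⟶ G0 G ⊗ X := lift (toUnit X ≫ e) (𝟙 X)
    refine ⟨σ.left x, ?_, ?_⟩
    · change (σ ≫ snd (G0 G) X).left x ∈ Z
      rw [lift_snd]; exact hx
    · change (σ ≫ m a).left x = x
      have : σ ≫ m a = 𝟙 X := by
        rw [m_eq, ← Category.assoc]
        have h1 : σ ≫ (G0incl G ▷ X) = lift (1 : X ⟶ G) (𝟙 X) := by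
          apply CartesianMonoidalCategory.hom_ext
          · rw [Category.assoc, whiskerRight_fst, lift_fst_assoc, lift_fst, Category.assoc, he,
              Hom.one_def]
          · rw [Category.assoc, whiskerRight_snd, lift_snd, lift_snd]
        rw [h1]
        exact Groth.Agent.Lib.Helper12.act_one a (𝟙 X)
      rw [this]; rfl
  have hcl : closure ((m a).left '' ((snd (G0 G) X).left ⁻¹' Z)) ⊆ Z :=
    hZ.2 himg.closure (hsub.trans subset_closure)
  obtain ⟨z', rfl⟩ := exists_of_fst_mem z hz1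
  rw [act_whiskerRight_apply]
  apply hcl
  apply subset_closure
  refine ⟨z', ?_, rfl⟩
  rw [snd_whiskerRight_apply] at hz2
  exact hz2


section keylemma

variable {L : Type u} [Field L] (f : Spec (CommRingCat.of L) ⟶ Spec (CommRingCat.of k))

/-- generizations of the unit point lie in `C⁰`. -/
lemma mem_C0_of_specializes {g : G.left} (h : g ⤳ ePt G) : g ∈ C0 G := by
  have h1 : _root_.IsPreconnected (closure ({g} : Set G.left)) :=
    isPreconnected_singleton.closure
  exact h1.subset_connectedComponent h.mem_closure (subset_closure rfl)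

/-- **Key lemma** (group case, relative to a field extension `L`): a maximal generization `w₀` of
a point `w` of `Spec L × G` is a left translate of `w` by a point of `C⁰`. -/
theorem exists_translate_of_isMaxPt (w w₀ : ↥(Over.mk f ⊗ G).left) (hmax : IsMaxPt w₀)
    (hsp : w₀ ⤳ w) :
    ∃ (T : Over (Spec (CommRingCat.of k))) (c g : T ⟶ G) (q : T ⟶ Over.mk f) (t : ↥T.left),
      c.left t ∈ C0 G ∧ (lift q g).left t = w ∧ (lift q (c * g)).left t = w₀ := by
  let Q : Over (Spec (CommRingCat.of k)) := Over.mk f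
  let P : Over (Spec (CommRingCat.of k)) :=
    Over.mk ((Q ⊗ G).left.fromSpecResidueField w ≫ (Q ⊗ G).hom)
  let qP : P ⟶ Q ⊗ G := Over.homMk ((Q ⊗ G).left.fromSpecResidueField w) rfl
  obtain ⟨q₀, hq₀⟩ : ∃ q : P ⟶ Q, q = qP ≫ fst Q G := ⟨_, rfl⟩
  obtain ⟨g₀, hg₀⟩ : ∃ g : P ⟶ G, g = qP ≫ snd Q G := ⟨_, rfl⟩
  have hPpt : ∀ pt : P.left, qP.left pt = w := fun pt => Scheme.fromSpecResidueField_apply _ _
  have hPne : Nonempty P.left := by
    change Nonempty (Spec ((Q ⊗ G).left.residueField w))
    infer_instance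
  have hPirr : IrreducibleSpace P.left := by
    change IrreducibleSpace (Spec ((Q ⊗ G).left.residueField w))
    infer_instance
  obtain ⟨pt⟩ := hPne
  let TT : Over (Spec (CommRingCat.of k)) := P ⊗ G
  let aa : TT ⟶ Q ⊗ G := q₀ ▷ G
  have hflat0 : Flat q₀.left := by
    have : Subsingleton ↥Q.left := by
      change Subsingleton (Spec (CommRingCat.of L)); infer_instance
    have : IsIntegral Q.left := by
      change IsIntegral (Spec (CommRingCat.of L)); infer_instance
    infer_instance
  have hflat : Flat aa.left := Groth.Agent.Lib.Helper12.flat_whiskerRight_left G q₀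
  have hgen : GeneralizingMap aa.left := Flat.generalizingMap aa.left
  let ty : TT.left := (lift (𝟙 P) g₀).left pt
  have haty : aa.left ty = w := by
    change (lift (𝟙 P) g₀ ≫ aa).left pt = w
    have : lift (𝟙 P) g₀ ≫ aa = qP := by
      apply CartesianMonoidalCategory.hom_ext
      · rw [Category.assoc, whiskerRight_fst, lift_fst_assoc, Category.id_comp, hq₀]
      · rw [Category.assoc, whiskerRight_snd, lift_snd, hg₀]
    rw [this]; exact hPpt pt
  obtain ⟨ζ₁, hζ₁, hζ₁a⟩ := hgen (haty ▸ hsp)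
  -- the division map
  let b : TT ⟶ G := snd P G * (fst P G ≫ g₀)⁻¹
  let ψ : TT ⟶ TT := lift (fst P G) (snd P G * (fst P G ≫ g₀))
  let φ : TT ⟶ TT := lift (fst P G) b
  have hψb : ψ ≫ b = snd P G := by
    simp only [b, ψ]
    rw [MonObj.comp_mul, GrpObj.comp_inv, lift_snd, ← Category.assoc, lift_fst]
    group
  have hφψ : φ ≫ ψ = 𝟙 TT := by
    apply CartesianMonoidalCategory.hom_ext
    · simp [φ, ψ]
    · simp only [φ, ψ]
      rw [Category.assoc, lift_snd, MonObj.comp_mul, lift_snd, ← Category.assoc, lift_fst,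
        Category.id_comp]
      simp only [b]; group
  have hbty : b.left ty = ePt G := by
    have : lift (𝟙 P) g₀ ≫ b = 1 := by
      simp only [b]
      rw [MonObj.comp_mul, GrpObj.comp_inv, lift_snd, lift_fst_assoc, Category.id_comp,
        mul_inv_cancel]
    change (lift (𝟙 P) g₀ ≫ b).left pt = ePt G
    rw [this, one_left_apply]
  let N : Set TT.left := b.left ⁻¹' C0 G
  have hNcl : IsClosed N := isClosed_connectedComponent.preimage b.left.continuous
  have hZT : IsIrreducible ((snd P G).left ⁻¹' C0 G) := by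
    have hr : (snd P G).left ⁻¹' C0 G = Set.range (P ◁ G0incl G).left := by
      rw [range_whiskerLeft, range_G0incl_left]
    rw [hr]
    have hirr : IrreducibleSpace (P ⊗ G0 G).left := by
      have : UniversallyOpen (G0 G).hom := inferInstance
      exact inferInstanceAs (IrreducibleSpace ↥(pullback P.hom (G0 G).hom))
    rw [← Set.image_univ]
    exact (IrreducibleSpace.isIrreducible_univ _).image _
      (P ◁ G0incl G).left.continuous.continuousOn
  have hNeq : N = ψ.left '' ((snd P G).left ⁻¹' C0 G) := by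
    ext t
    constructor
    · intro ht
      refine ⟨φ.left t, ?_, ?_⟩
      · change (φ ≫ snd P G).left t ∈ C0 G
        rw [lift_snd]; exact ht
      · change (φ ≫ ψ).left t = t
        rw [hφψ]; rfl
    · rintro ⟨s, hs, rfl⟩
      change (ψ ≫ b).left s ∈ C0 G
      rw [hψb]; exact hs
  have hNirr : IsIrreducible N := by
    rw [hNeq]; exact hZT.image _ ψ.left.continuous.continuousOn
  let ζ := hNirr.genericPoint
  have hζ : IsGenericPoint ζ N := hNirr.isGenericPoint_genericPoint hNcl
  have hζ₁N : ζ₁ ∈ N := by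
    have h1 : b.left ζ₁ ⤳ b.left ty := hζ₁.map b.left.continuous
    rw [hbty] at h1
    exact mem_C0_of_specializes h1
  have h3 : ζ ⤳ ζ₁ := hζ.specializes hζ₁N
  have h4 : aa.left ζ = w₀ := by
    apply hmax
    rw [← hζ₁a]; exact h3.map aa.left.continuous
  have hζN : ζ ∈ N := hζ.mem
  rw [hNeq] at hζN
  obtain ⟨s, hs, hsζ⟩ := hζN
  refine ⟨TT, snd P G, fst P G ≫ g₀, fst P G ≫ q₀, s, hs, ?_, ?_⟩
  · have : lift (fst P G ≫ q₀) (fst P G ≫ g₀) = fst P G ≫ qP := by
      apply CartesianMonoidalCategory.hom_ext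
      · rw [lift_fst, Category.assoc, hq₀]
      · rw [lift_snd, Category.assoc, hg₀]
    rw [this]
    exact hPpt _
  · have : lift (fst P G ≫ q₀) (snd P G * (fst P G ≫ g₀)) = ψ ≫ aa := by
      apply CartesianMonoidalCategory.hom_ext
      · rw [lift_fst, Category.assoc, whiskerRight_fst, ← Category.assoc, lift_fst]
      · rw [lift_snd, Category.assoc, whiskerRight_snd, lift_snd]
    rw [this]
    change aa.left (ψ.left s) = w₀
    rw [hsζ]; exact h4

end keylemma


section involution

/-- the involution `(g, x) ↦ (g⁻¹, g x)` of `G × X`. -/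
noncomputable def J : G ⊗ X ⟶ G ⊗ X := lift (fst G X)⁻¹ a.act

lemma J_fst : J a ≫ fst G X = (fst G X)⁻¹ := lift_fst _ _

lemma J_snd : J a ≫ snd G X = a.act := lift_snd _ _

lemma J_act : J a ≫ a.act = snd G X := Groth.Agent.Lib.Helper12.lift_inv_act_act a

lemma J_J : J a ≫ J a = 𝟙 _ := by
  apply CartesianMonoidalCategory.hom_ext
  · rw [Category.assoc, J_fst, GrpObj.comp_inv, J_fst, _root_.inv_inv, Category.id_comp]
  · rw [Category.assoc, J_snd, J_act, Category.id_comp]

lemma isIso_J_left : IsIso (J a).left :=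
  ⟨(J a).left, by rw [← Over.comp_left, J_J]; rfl, by rw [← Over.comp_left, J_J]; rfl⟩

lemma inv_mem_C0 {g : G.left} (hg : g ∈ C0 G) : ι[G].left g ∈ C0 G := by
  have hg' : g ∈ Set.range (G0incl G).left := by rw [range_G0incl_left]; exact hg
  obtain ⟨h, rfl⟩ := hg'
  apply range_inv_subset G
  exact ⟨h, rfl⟩

lemma J_fst_mem_C0 (z : ↥(G ⊗ X).left) (hz : (fst G X).left z ∈ C0 G) :
    (fst G X).left ((J a).left z) ∈ C0 G := by
  change (J a ≫ fst G X).left z ∈ C0 G
  rw [J_fst, Hom.inv_def]
  exact inv_mem_C0 hz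

lemma J_snd_apply (z : ↥(G ⊗ X).left) : (snd G X).left ((J a).left z) = a.act.left z := by
  change (J a ≫ snd G X).left z = _
  rw [J_snd]

lemma J_act_apply (z : ↥(G ⊗ X).left) : a.act.left ((J a).left z) = (snd G X).left z := by
  change (J a ≫ a.act).left z = _
  rw [J_act]

end involution

section orbits

/-- the orbit relation of `C⁰` on the points of `X`. -/
def R (x y : X.left) : Prop :=
  ∃ z : ↥(G ⊗ X).left, (fst G X).left z ∈ C0 G ∧ (snd G X).left z = x ∧ a.act.left z = y

lemma R.symm {x y : X.left} (h : R a x y) : R a y x := by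
  obtain ⟨z, h1, h2, h3⟩ := h
  exact ⟨(J a).left z, J_fst_mem_C0 a z h1, by rw [J_snd_apply, h3], by rw [J_act_apply, h2]⟩

/-- field-valued-point criterion for the orbit relation. -/
lemma R.of_point {T : Over (Spec (CommRingCat.of k))} (c : T ⟶ G) (x : T ⟶ X) (t : ↥T.left)
    (hc : c.left t ∈ C0 G) : R a (x.left t) ((lift c x ≫ a.act).left t) := by
  refine ⟨(lift c x).left t, ?_, ?_, rfl⟩
  · change (lift c x ≫ fst G X).left t ∈ C0 G
    rw [lift_fst]; exact hc
  · change (lift c x ≫ snd G X).left t = _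
    rw [lift_snd]

lemma R.mem_of_mem_irreducibleComponents {x y : X.left} (h : R a x y) {Z : Set X.left}
    (hZ : Z ∈ irreducibleComponents X.left) (hx : x ∈ Z) : y ∈ Z := by
  obtain ⟨z, h1, rfl, rfl⟩ := h
  exact act_mem_of_mem_irreducibleComponents a hZ z h1 hx

end orbits

section cart

variable {C : Type*} [Category C] [CartesianMonoidalCategory C]

/-- `(q, g) ↦ (g, ξ(q))` is the base change of `ξ : Q ⟶ X` along `snd : G ⊗ X ⟶ X`. -/
lemma isPullback_swap (G : C) {Q X : C} (ξ : Q ⟶ X) :
    IsPullback (lift (snd Q G) (fst Q G ≫ ξ)) (fst Q G) (snd G X) ξ := by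
  refine ⟨⟨by simp⟩, ⟨PullbackCone.IsLimit.mk _ (fun s => lift s.snd (s.fst ≫ fst G X)) ?_ ?_ ?_⟩⟩
  · intro s
    apply CartesianMonoidalCategory.hom_ext
    · simp
    · simpa using s.condition.symm
  · intro s
    simp
  · intro s m h1 h2
    apply CartesianMonoidalCategory.hom_ext
    · rw [lift_fst, ← h2]
    · rw [lift_snd, ← h1]; simp

end cart

section main

/-- **Main theorem** (SGA3 VI_A 2.6): for a homogeneous space `X`, the generic point of any
irreducible component through `y` lies in the `C⁰`-orbit of `y`. -/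
theorem R_genericPoint (hΦ : Function.Surjective (lift a.act (snd G X)).left)
    {Z : Set X.left} (hZ : Z ∈ irreducibleComponents X.left) {ξ : X.left}
    (hξ : IsGenericPoint ξ Z) {y : X.left} (hy : y ∈ Z) : R a y ξ := by
  have hξmax : IsMaxPt ξ := isMaxPt_of_isGenericPoint hZ hξ
  -- a point `w = (g, ξ)` with `g ξ = y`
  obtain ⟨t₀, ht1, ht2⟩ := exists_tensor_point X X y ξ
  obtain ⟨w, hw⟩ := hΦ t₀
  have hw1 : a.act.left w = y := by
    rw [← ht1, ← hw]
    change _ = (lift a.act (snd G X) ≫ fst X X).left w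
    rw [lift_fst]
  have hw2 : (snd G X).left w = ξ := by
    rw [← ht2, ← hw]
    change _ = (lift a.act (snd G X) ≫ snd X X).left w
    rw [lift_snd]
  -- the fibre over `ξ`
  let fξ : Spec (CommRingCat.of (X.left.residueField ξ)) ⟶ Spec (CommRingCat.of k) :=
    X.left.fromSpecResidueField ξ ≫ X.hom
  let Q : Over (Spec (CommRingCat.of k)) := Over.mk fξ
  let ξQ : Q ⟶ X := Over.homMk (X.left.fromSpecResidueField ξ) rfl
  let jj : Q ⊗ G ⟶ G ⊗ X := lift (snd Q G) (fst Q G ≫ ξQ)
  have hsq : IsPullback jj.left (fst Q G).left (snd G X).left ξQ.left :=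
    (isPullback_swap G ξQ).map (Over.forget _)
  have hpre : IsPreimmersion jj.left := by
    have : IsPreimmersion ξQ.left := by
      change IsPreimmersion (X.left.fromSpecResidueField ξ); infer_instance
    exact MorphismProperty.of_isPullback (P := @IsPreimmersion) hsq.flip this
  have hξQ : ∀ q : ↥Q.left, ξQ.left q = ξ := fun q => Scheme.fromSpecResidueField_apply _ _
  obtain ⟨q₁⟩ : Nonempty ↥Q.left := by
    change Nonempty (Spec (X.left.residueField ξ)); infer_instance
  have hrange : ∀ v : ↥(G ⊗ X).left, (snd G X).left v = ξ → ∃ p : ↥(Q ⊗ G).left, jj.left p = v := by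
    intro v hv
    obtain ⟨p, hp1, -⟩ := Scheme.exists_preimage_of_isPullback hsq v q₁ (by rw [hξQ]; exact hv)
    exact ⟨p, hp1⟩
  have hjjsnd : ∀ p : ↥(Q ⊗ G).left, (snd G X).left (jj.left p) = ξ := by
    intro p
    change (jj ≫ snd G X).left p = ξ
    rw [lift_snd]
    exact hξQ _
  obtain ⟨wQ, hwQ⟩ := hrange w hw2
  obtain ⟨w₀Q, hmaxQ, hspQ⟩ := exists_isMaxPt_specializes wQ
  obtain ⟨T, c, g, q, t, hct, hgt, hcgt⟩ := exists_translate_of_isMaxPt fξ wQ w₀Q hmaxQ hspQ
  -- maximality of `w₀ = jj w₀Q` in `G × X`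
  have hmax : IsMaxPt (jj.left w₀Q) := by
    apply isMaxPt_of_isInducing jj.left.isEmbedding.isInducing _ hmaxQ
    intro v hv
    have h1 : (snd G X).left v ⤳ ξ := by
      have := hv.map (snd G X).left.continuous
      rwa [hjjsnd] at this
    obtain ⟨p, hp⟩ := hrange v (hξmax _ h1)
    exact ⟨p, hp⟩
  -- `g w₀` is maximal in `X`
  have hmaxJ : IsMaxPt ((J a).left (jj.left w₀Q)) := by
    have := isIso_J_left a
    exact hmax.homeomorph (J a).left.homeomorph
  have hflat : Flat (snd G X).left := by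
    rw [Over.snd_left]
    have : Flat G.hom := inferInstance
    infer_instance
  have hmaxX : IsMaxPt (a.act.left (jj.left w₀Q)) := by
    rw [← J_snd_apply]
    exact hmaxJ.map (Flat.generalizingMap (snd G X).left)
  -- the point `z`
  have hR := R.of_point a c (lift g (q ≫ ξQ) ≫ a.act) t hct
  have e1 : lift g (q ≫ ξQ) = lift q g ≫ jj := by
    apply CartesianMonoidalCategory.hom_ext
    · rw [lift_fst, Category.assoc, lift_fst, lift_snd]
    · rw [lift_snd, Category.assoc, lift_snd, lift_fst_assoc]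
  have e2 : lift (c * g) (q ≫ ξQ) = lift q (c * g) ≫ jj := by
    apply CartesianMonoidalCategory.hom_ext
    · rw [lift_fst, Category.assoc, lift_fst, lift_snd]
    · rw [lift_snd, Category.assoc, lift_snd, lift_fst_assoc]
  have h1 : (lift g (q ≫ ξQ) ≫ a.act).left t = y := by
    rw [e1]
    change a.act.left (jj.left ((lift q g).left t)) = y
    rw [hgt, hwQ, hw1]
  have h2 : (lift c (lift g (q ≫ ξQ) ≫ a.act) ≫ a.act).left t = a.act.left (jj.left w₀Q) := by
    rw [← Groth.Agent.Lib.Helper12.act_mul, e2]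
    change a.act.left (jj.left ((lift q (c * g)).left t)) = _
    rw [hcgt]
  rw [h1, h2] at hR
  have hmem : a.act.left (jj.left w₀Q) ∈ Z := hR.mem_of_mem_irreducibleComponents a hZ hy
  rw [← hmaxX.eq_of_mem hξ hmem] at hR
  exact hR

end main


section sat

lemma R.refl (x : X.left) : R a x x := by
  have h := R.of_point a (1 : X ⟶ G) (𝟙 X) x (by rw [one_left_apply]; exact mem_connectedComponent)
  rw [Groth.Agent.Lib.Helper12.act_one] at h
  exact h

/-- the set `C⁰·U`. -/
def sat (U : Set X.left) : Set X.left :=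
  a.act.left '' {z : ↥(G ⊗ X).left | (fst G X).left z ∈ C0 G ∧ (snd G X).left z ∈ U}

lemma mem_sat_iff {U : Set X.left} {y : X.left} : y ∈ sat a U ↔ ∃ x ∈ U, R a x y := by
  constructor
  · rintro ⟨z, ⟨h1, h2⟩, rfl⟩
    exact ⟨_, h2, z, h1, rfl, rfl⟩
  · rintro ⟨x, hx, z, h1, rfl, rfl⟩
    exact ⟨z, ⟨h1, hx⟩, rfl⟩

lemma subset_sat (U : Set X.left) : U ⊆ sat a U := fun x hx =>
  (mem_sat_iff a).mpr ⟨x, hx, R.refl a x⟩

lemma sat_eq_image_m (U : Set X.left) :
    sat a U = (m a).left '' ((snd (G0 G) X).left ⁻¹' U) := by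
  ext y
  constructor
  · rintro ⟨z, ⟨h1, h2⟩, rfl⟩
    obtain ⟨z', rfl⟩ := exists_of_fst_mem z h1
    rw [snd_whiskerRight_apply] at h2
    exact ⟨z', h2, (act_whiskerRight_apply a z').symm⟩
  · rintro ⟨z', h2, rfl⟩
    refine ⟨(G0incl G ▷ X).left z', ⟨fst_whiskerRight_mem z', ?_⟩, act_whiskerRight_apply a z'⟩
    change (snd G X).left ((G0incl G ▷ X).left z') ∈ U
    rw [snd_whiskerRight_apply]; exact h2

lemma sat_eq_image_snd (U : Set X.left) :
    sat a U = (snd (G0 G) X).left '' ((m a).left ⁻¹' U) := by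
  ext y
  constructor
  · intro hy
    obtain ⟨x, hx, hR⟩ := (mem_sat_iff a).mp hy
    obtain ⟨z, h1, h2, h3⟩ := hR.symm
    obtain ⟨z', rfl⟩ := exists_of_fst_mem z h1
    rw [snd_whiskerRight_apply] at h2
    rw [act_whiskerRight_apply] at h3
    exact ⟨z', by rw [Set.mem_preimage, h3]; exact hx, h2⟩
  · rintro ⟨z', h2, rfl⟩
    refine (mem_sat_iff a).mpr ⟨(m a).left z', h2, R.symm a ?_⟩
    exact ⟨(G0incl G ▷ X).left z', fst_whiskerRight_mem z', snd_whiskerRight_apply z',
      act_whiskerRight_apply a z'⟩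

theorem isOpen_sat {U : Set X.left} (hU : IsOpen U) : IsOpen (sat a U) := by
  rw [sat_eq_image_m]
  exact isOpenMap_m a _ (hU.preimage (snd (G0 G) X).left.continuous)

/-- `C⁰·U` is the union of the irreducible components of `X` whose generic point lies in `U`. -/
theorem sat_eq_sUnion (hΦ : Function.Surjective (lift a.act (snd G X)).left)
    {U : Set X.left} (hU : IsOpen U) :
    sat a U = ⋃₀ {Z : Set X.left | Z ∈ irreducibleComponents X.left ∧
      ∃ ξ ∈ U, closure {ξ} = Z} := by
  ext y
  constructor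
  · intro hy
    obtain ⟨x, hx, hR⟩ := (mem_sat_iff a).mp hy
    have hZ : irreducibleComponent x ∈ irreducibleComponents X.left :=
      irreducibleComponent_mem_irreducibleComponents x
    have hg := hZ.1.isGenericPoint_genericPoint isClosed_irreducibleComponent
    refine ⟨irreducibleComponent x, ⟨hZ, hZ.1.genericPoint, ?_, hg.def⟩, ?_⟩
    · exact (hg.specializes mem_irreducibleComponent).mem_open hU hx
    · exact hR.mem_of_mem_irreducibleComponents a hZ mem_irreducibleComponent
  · rintro ⟨Z, ⟨hZ, ξ, hξU, hξ⟩, hyZ⟩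
    have hR := R_genericPoint a hΦ hZ (ξ := ξ) hξ hyZ
    exact (mem_sat_iff a).mpr ⟨ξ, hξU, hR.symm⟩

end sat


section closed

/-- preimages of retrocompact opens under morphisms of schemes are retrocompact. -/
lemma isRetrocompact_preimage {Y Y' : Scheme.{u}} (f : Y ⟶ Y') {U : Set Y'} (hU : IsOpen U)
    (hr : IsRetrocompact U) : IsRetrocompact (f ⁻¹' U) :=
  IsRetrocompact_iff_isSpectralMap_subtypeVal.mpr
    (quasiCompact_iff_isSpectralMap.mp
    (MorphismProperty.of_isPullback (P := @QuasiCompact)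
    (isPullback_morphismRestrict f ⟨U, hU⟩)
    (quasiCompact_iff_isSpectralMap.mpr (IsRetrocompact_iff_isSpectralMap_subtypeVal.mp hr))))

lemma quasiCompact_snd_G0 : QuasiCompact (snd (G0 G) X).left := by
  have h1 : QuasiCompact (G0 G).hom :=
    HasAffineProperty.iff_of_isAffine.mpr (inferInstanceAs (CompactSpace (G0 G).left))
  rw [Over.snd_left]
  infer_instance

/-- `C⁰·U` is retrocompact when `U` is a retrocompact open. -/
theorem isRetrocompact_sat {U : Set X.left} (hU : IsOpen U) (hr : IsRetrocompact U) :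
    IsRetrocompact (sat a U) := by
  intro W hWc hWo
  have hq := quasiCompact_snd_G0 (G := G) (X := X)
  have hK : IsCompact ((snd (G0 G) X).left ⁻¹' W) :=
    QuasiCompact.isCompact_preimage (f := (snd (G0 G) X).left) W hWo hWc
  have hKo : IsOpen ((snd (G0 G) X).left ⁻¹' W) := hWo.preimage (snd (G0 G) X).left.continuous
  have h1 : IsCompact ((m a).left ⁻¹' U ∩ (snd (G0 G) X).left ⁻¹' W) :=
    isRetrocompact_preimage (m a).left hU hr hK hKo
  have h2 : sat a U ∩ W =
      (snd (G0 G) X).left '' ((m a).left ⁻¹' U ∩ (snd (G0 G) X).left ⁻¹' W) := by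
    rw [sat_eq_image_snd]
    ext y
    constructor
    · rintro ⟨⟨z', h3, rfl⟩, hW⟩
      exact ⟨z', ⟨h3, hW⟩, rfl⟩
    · rintro ⟨z', ⟨h3, hW⟩, rfl⟩
      exact ⟨⟨z', h3, rfl⟩, hW⟩
  rw [h2]
  exact h1.image (snd (G0 G) X).left.continuous

/-- a retrocompact open subset of a scheme which is stable under specialization is closed. -/
lemma isClosed_of_isRetrocompact_of_stableUnderSpecialization {Y : Scheme.{u}} (W : Y.Opens)
    (hc : IsRetrocompact (W : Set Y)) (hs : StableUnderSpecialization (W : Set Y)) :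
    IsClosed (W : Set Y) := by
  have hq : QuasiCompact W.ι :=
    quasiCompact_iff_isSpectralMap.mpr (IsRetrocompact_iff_isSpectralMap_subtypeVal.mp hc)
  have hsp : SpecializingMap W.ι := by
    intro w x hwx
    have hx : x ∈ W := hs hwx w.2
    refine ⟨⟨x, hx⟩, ?_, rfl⟩
    exact (subtype_specializes_iff _ _).mpr hwx
  have := (isClosedMap_iff_specializingMap W.ι).mpr hsp
  rw [← Scheme.Opens.range_ι]
  exact this.isClosed_range

/-- `C⁰·U` is closed when `U` is a retrocompact open. -/
theorem isClosed_sat (hΦ : Function.Surjective (lift a.act (snd G X)).left)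
    {U : Set X.left} (hU : IsOpen U) (hr : IsRetrocompact U) : IsClosed (sat a U) := by
  let W : X.left.Opens := ⟨sat a U, isOpen_sat a hU⟩
  refine isClosed_of_isRetrocompact_of_stableUnderSpecialization W (isRetrocompact_sat a hU hr) ?_
  intro y y' hyy' hy
  change y ∈ sat a U at hy
  change y' ∈ sat a U
  rw [sat_eq_sUnion a hΦ hU] at hy ⊢
  obtain ⟨Z, ⟨hZ, hξ⟩, hyZ⟩ := hy
  refine ⟨Z, ⟨hZ, hξ⟩, ?_⟩
  have hcl : IsClosed Z := isClosed_of_mem_irreducibleComponents Z hZ
  exact hcl.closure_subset_iff.mpr (Set.singleton_subset_iff.mpr hyZ) hyy'.mem_closure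

/-- `C⁰·U = closure U` when `U` is a retrocompact open. -/
theorem sat_eq_closure (hΦ : Function.Surjective (lift a.act (snd G X)).left)
    {U : Set X.left} (hU : IsOpen U) (hr : IsRetrocompact U) : sat a U = closure U := by
  apply le_antisymm
  · rw [sat_eq_sUnion a hΦ hU]
    rintro y ⟨Z, ⟨-, ξ, hξU, rfl⟩, hyZ⟩
    exact closure_mono (Set.singleton_subset_iff.mpr hξU) hyZ
  · exact (isClosed_sat a hΦ hU hr).closure_subset_iff.mpr (subset_sat a U)

end closed

end Groth.Agent.Lib.Seat24.Homog
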