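import Mathlib
import Groth.Prelude.Def_ActBC
import Groth.Agent.Lib.Seat24Homog
import Groth.Agent.Lib.Helper12TorsorDescent

/-!
# Homogeneous spaces over a field: uniqueness of components, base change, rational points (helper24)
-/

set_option autoImplicit false
set_option linter.unusedSectionVars false
universe u
open CategoryTheory CategoryTheory.Limits MonoidalCategory CartesianMonoidalCategory MonObj GrpObj
  AlgebraicGeometry

namespace Groth.Agent.Lib.Seat24.HomogBC

open Groth.Agent.Lib.Helper25.IdComp Groth.Agent.Lib.Helper25.IdComp0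
  Groth.Agent.Lib.Helper25.TopGrp
  Groth.Agent.Lib.Seat24.MaxPt Groth.Agent.Lib.Seat24.Homog

section unique

variable {k : Type u} [Field k] {G X : Over (Spec (CommRingCat.of k))} [GrpObj G]
  (a : AlgGrp.Action G X)

/-- every point of a homogeneous space lies in exactly one irreducible component. -/
theorem irreducibleComponent_unique (hΦ : Function.Surjective (lift a.act (snd G X)).left)
    {Z₁ Z₂ : Set X.left} (h₁ : Z₁ ∈ irreducibleComponents X.left)
    (h₂ : Z₂ ∈ irreducibleComponents X.left) (y : X.left) (hy₁ : y ∈ Z₁) (hy₂ : y ∈ Z₂) :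
    Z₁ = Z₂ := by
  have hcl₁ : IsClosed Z₁ := isClosed_of_mem_irreducibleComponents Z₁ h₁
  have hcl₂ : IsClosed Z₂ := isClosed_of_mem_irreducibleComponents Z₂ h₂
  have hg := h₁.1.isGenericPoint_genericPoint hcl₁
  have hR := R_genericPoint a hΦ h₁ hg hy₁
  have hmem : h₁.1.genericPoint ∈ Z₂ := hR.mem_of_mem_irreducibleComponents a h₂ hy₂
  have hsub : Z₁ ⊆ Z₂ := by
    rw [← hg.def]
    exact hcl₂.closure_subset_iff.mpr (Set.singleton_subset_iff.mpr hmem)
  exact le_antisymm hsub (h₁.2 h₂.1 hsub)

end unique

section bc

variable {S S' : Scheme.{u}} (f : S' ⟶ S) {G X : Over S} [GrpObj G] (a : AlgGrp.Action G X)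

/-- surjectivity of `(g, x) ↦ (g x, x)` is stable under base change. -/
theorem surjective_bc (hΦ : Surjective (lift a.act (snd G X)).left) :
    Surjective (lift (a.bc f).act (snd (Red.bc f G) (Red.bc f X))).left := by
  have key : lift (a.bc f).act (snd _ _) ≫ Functor.LaxMonoidal.μ (Over.pullback f) X X =
      Functor.LaxMonoidal.μ (Over.pullback f) G X ≫ (Over.pullback f).map (lift a.act (snd G X)) := by
    rw [← Functor.Monoidal.lift_μ, comp_lift_assoc, Functor.Monoidal.μ_snd, AlgGrp.Action.bc_act]
  have h1 : Surjective ((Over.pullback f).map (lift a.act (snd G X))).left :=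
    MorphismProperty.of_isPullback (P := @Surjective)
      (Groth.Agent.Lib.Helper12.TorsorDescent.isPullback_pullback_map f (lift a.act (snd G X))).flip
      hΦ
  have h2 : lift (a.bc f).act (snd (Red.bc f G) (Red.bc f X)) =
      Functor.LaxMonoidal.μ (Over.pullback f) G X ≫
        (Over.pullback f).map (lift a.act (snd G X)) ≫
          inv (Functor.LaxMonoidal.μ (Over.pullback f) X X) := by
    rw [← Category.assoc, ← key, Category.assoc, IsIso.hom_inv_id, Category.comp_id]
  rw [h2, Over.comp_left, Over.comp_left]
  have h3 : IsIso (Functor.LaxMonoidal.μ (Over.pullback f) G X).left :=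
    inferInstanceAs (IsIso ((Over.forget S').map (Functor.LaxMonoidal.μ (Over.pullback f) G X)))
  have h4 : IsIso (inv (Functor.LaxMonoidal.μ (Over.pullback f) X X)).left :=
    inferInstanceAs (IsIso ((Over.forget S').map
      (inv (Functor.LaxMonoidal.μ (Over.pullback f) X X))))
  infer_instance

end bc


section cart

variable {C : Type*} [Category C] [CartesianMonoidalCategory C]

/-- `g ↦ (g, x)` is the base change of a global point `x` of `X` along `snd : G ⊗ X ⟶ X`. -/
lemma isPullback_sigma (G : C) {X : C} (x : 𝟙_ C ⟶ X) :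
    IsPullback (lift (𝟙 G) (toUnit G ≫ x)) (toUnit G) (snd G X) x := by
  refine ⟨⟨by simp⟩, ⟨PullbackCone.IsLimit.mk _ (fun s => s.fst ≫ fst G X) ?_ ?_ ?_⟩⟩
  · intro s
    apply CartesianMonoidalCategory.hom_ext
    · simp
    · rw [Category.assoc, lift_snd, s.condition, ← Category.assoc]
      congr 1
      exact toUnit_unique _ _
  · intro s
    exact toUnit_unique _ _
  · intro s m h1 _
    rw [← h1, Category.assoc, lift_fst, Category.comp_id]

end cart

section rational

variable {k : Type u} [Field k] {G X : Over (Spec (CommRingCat.of k))} [GrpObj G]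
  (a : AlgGrp.Action G X) (x : 𝟙_ (Over (Spec (CommRingCat.of k))) ⟶ X)
  (pt : ↥(𝟙_ (Over (Spec (CommRingCat.of k)))).left)

/-- the `C⁰`-orbit of a rational point is the image of `C⁰` under the orbit map. -/
theorem R_iff_mem_image (y : X.left) :
    R a (x.left pt) y ↔ y ∈ (a.orbitMap x).left '' C0 G := by
  let σ : G ⟶ G ⊗ X := lift (𝟙 G) (toUnit G ≫ x)
  have hσ : a.orbitMap x = σ ≫ a.act := rfl
  have hsq : IsPullback σ.left (toUnit G).left (snd G X).left x.left :=
    (isPullback_sigma G x).map (Over.forget _)
  have hfst : ∀ g : G.left, (fst G X).left (σ.left g) = g := by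
    intro g
    change (σ ≫ fst G X).left g = g
    rw [lift_fst]; rfl
  have hsnd : ∀ g : G.left, (snd G X).left (σ.left g) = x.left pt := by
    intro g
    change (σ ≫ snd G X).left g = _
    rw [lift_snd, Over.comp_left, Scheme.Hom.comp_apply]
    congr 1
    exact Subsingleton.elim (α := Spec (CommRingCat.of k)) _ _
  constructor
  · rintro ⟨z, h1, h2, rfl⟩
    obtain ⟨g, hg, -⟩ := Scheme.exists_preimage_of_isPullback hsq z pt h2
    have hg' : σ.left g = z := hg
    refine ⟨g, ?_, ?_⟩
    · rw [← hfst g, hg']; exact h1
    · rw [hσ, Over.comp_left, Scheme.Hom.comp_apply, hg']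
  · rintro ⟨g, hg, rfl⟩
    refine ⟨σ.left g, ?_, hsnd g, ?_⟩
    · rw [hfst]; exact hg
    · rw [hσ, Over.comp_left, Scheme.Hom.comp_apply]

/-- the orbit map restricted to `G⁰`. -/
noncomputable def o0 : G0 G ⟶ X := G0incl G ≫ a.orbitMap x

lemma range_o0 : Set.range (o0 a x).left = (a.orbitMap x).left '' C0 G := by
  rw [o0, Over.comp_left, Scheme.Hom.comp_base, TopCat.coe_comp, Set.range_comp]
  congr 1
  exact range_G0incl_left G

/-- the irreducible component through a rational point is the closure of its `C⁰`-orbit. -/
theorem closure_range_o0 (hΦ : Function.Surjective (lift a.act (snd G X)).left)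
    {C : Set X.left} (hC : C ∈ irreducibleComponents X.left) (hx : x.left pt ∈ C) :
    closure (Set.range (o0 a x).left) = C := by
  have hcl : IsClosed C := isClosed_of_mem_irreducibleComponents C hC
  apply le_antisymm
  · apply hcl.closure_subset_iff.mpr
    rw [range_o0]
    intro y hy
    exact ((R_iff_mem_image a x pt y).mpr hy).mem_of_mem_irreducibleComponents a hC hx
  · have hg := hC.1.isGenericPoint_genericPoint hcl
    have hR := R_genericPoint a hΦ hC hg hx
    have hmem : hC.1.genericPoint ∈ Set.range (o0 a x).left := by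
      rw [range_o0]; exact (R_iff_mem_image a x pt _).mp hR
    rw [← hg.def]
    exact closure_mono (Set.singleton_subset_iff.mpr hmem)

/-- **SGA3 VI_A 2.6.6 (iv)**: the irreducible component through a rational point is
geometrically irreducible. -/
theorem isIrreducible_preimage_of_rational
    (hΦ : Function.Surjective (lift a.act (snd G X)).left)
    {C : Set X.left} (hC : C ∈ irreducibleComponents X.left) (hx : x.left pt ∈ C)
    {S' : Scheme.{u}} [IrreducibleSpace S'] (f : S' ⟶ Spec (CommRingCat.of k)) :
    IsIrreducible ((pullback.fst X.hom f) ⁻¹' C) := by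
  have huo : UniversallyOpen f := inferInstance
  have hop : IsOpenMap (pullback.fst X.hom f) := (pullback.fst X.hom f).isOpenMap
  rw [← closure_range_o0 a x pt hΦ hC hx,
    hop.preimage_closure_eq_closure_preimage (pullback.fst X.hom f).continuous]
  have hsq := (Groth.Agent.Lib.Helper12.TorsorDescent.isPullback_pullback_map f (o0 a x)).flip
  have himg := Scheme.image_preimage_eq_of_isPullback hsq Set.univ
  rw [Set.preimage_univ, Set.image_univ, Set.image_univ] at himg
  have himg' : (pullback.fst X.hom f) ⁻¹' Set.range (o0 a x).left =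
      Set.range ((Over.pullback f).map (o0 a x)).left := himg.symm
  rw [himg']
  have hirr : IrreducibleSpace ↥(pullback (G0 G).hom f) := by
    have : UniversallyOpen (G0 G).hom := inferInstance
    infer_instance
  have hirr' : IrreducibleSpace ↥((Over.pullback f).obj (G0 G)).left := hirr
  apply IsIrreducible.closure
  rw [← Set.image_univ]
  exact (IrreducibleSpace.isIrreducible_univ _).image _
    ((Over.pullback f).map (o0 a x)).left.continuous.continuousOn

end rational


section trans

variable {k : Type u} [Field k] {G X : Over (Spec (CommRingCat.of k))} [GrpObj G]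
  (a : AlgGrp.Action G X)

lemma pmul_C0_subset : pmul G (C0 G) (C0 G) ⊆ C0 G := by
  have h := range_mul_subset G
  rw [← pmul_range_range, range_G0incl_left] at h
  exact h

/-- the orbit relation of `C⁰` is transitive. -/
theorem R.trans {x y w : X.left} (h1 : R a x y) (h2 : R a y w) : R a x w := by
  obtain ⟨z1, hz1, rfl, rfl⟩ := h1
  obtain ⟨z2, hz2, hz2', rfl⟩ := h2
  have hsq : IsPullback (G ◁ a.act).left (snd G (G ⊗ X)).left (snd G X).left a.act.left :=
    (Groth.Agent.Lib.Helper12.isPullback_whiskerLeft G a.act).map (Over.forget _)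
  obtain ⟨u, hu1, hu2⟩ := Scheme.exists_preimage_of_isPullback hsq z2 z1 hz2'
  have hu1' : (G ◁ a.act).left u = z2 := hu1
  have hu2' : (snd G (G ⊗ X)).left u = z1 := hu2
  let c2 : G ⊗ (G ⊗ X) ⟶ G := fst G (G ⊗ X)
  let c1 : G ⊗ (G ⊗ X) ⟶ G := snd G (G ⊗ X) ≫ fst G X
  let x' : G ⊗ (G ⊗ X) ⟶ X := snd G (G ⊗ X) ≫ snd G X
  have hc2 : c2.left u ∈ C0 G := by
    have : c2 = (G ◁ a.act) ≫ fst G X := by rw [whiskerLeft_fst]
    rw [this, Over.comp_left, Scheme.Hom.comp_apply, hu1']
    exact hz2
  have hc1 : c1.left u ∈ C0 G := by
    change (fst G X).left ((snd G (G ⊗ X)).left u) ∈ C0 G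
    rw [hu2']; exact hz1
  have hR := R.of_point a (c2 * c1) x' u (pmul_C0_subset (mul_left_apply_mem_pmul c2 c1 u hc2 hc1))
  have e1 : x'.left u = (snd G X).left z1 := by
    change (snd G X).left ((snd G (G ⊗ X)).left u) = _
    rw [hu2']
  have e2 : lift (c2 * c1) x' ≫ a.act = (G ◁ a.act) ≫ a.act := by
    rw [Groth.Agent.Lib.Helper12.act_mul]
    congr 1
    apply CartesianMonoidalCategory.hom_ext
    · rw [lift_fst, whiskerLeft_fst]
    · rw [lift_snd, whiskerLeft_snd]
      congr 1
      apply CartesianMonoidalCategory.hom_ext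
      · exact lift_fst _ _
      · exact lift_snd _ _
  rw [e1, e2, Over.comp_left, Scheme.Hom.comp_apply, hu1'] at hR
  exact hR

end trans

section conn

variable {k : Type u} [Field k] {G X : Over (Spec (CommRingCat.of k))} [GrpObj G]
  (a : AlgGrp.Action G X) (x : 𝟙_ (Over (Spec (CommRingCat.of k))) ⟶ X)
  (pt : ↥(𝟙_ (Over (Spec (CommRingCat.of k)))).left)

/-- the `C⁰`-orbit of a rational point is its irreducible component. -/
theorem image_orbitMap_C0 (hΦ : Function.Surjective (lift a.act (snd G X)).left) :
    (a.orbitMap x).left '' C0 G = irreducibleComponent (x.left pt) := by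
  have hZ : irreducibleComponent (x.left pt) ∈ irreducibleComponents X.left :=
    irreducibleComponent_mem_irreducibleComponents _
  ext y
  rw [← R_iff_mem_image a x pt y]
  constructor
  · intro hR
    exact hR.mem_of_mem_irreducibleComponents a hZ mem_irreducibleComponent
  · intro hy
    have hg := hZ.1.isGenericPoint_genericPoint isClosed_irreducibleComponent
    have h1 := R_genericPoint a hΦ hZ hg hy
    have h2 := R_genericPoint a hΦ hZ hg (mem_irreducibleComponent (x := x.left pt))
    exact R.trans a h2 h1.symm

/-- in a quasi-separated homogeneous space the connected components are the irreducible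
components. -/
theorem connectedComponent_eq_irreducibleComponent [QuasiSeparatedSpace X.left]
    (hΦ : Function.Surjective (lift a.act (snd G X)).left) (x₀ : X.left) :
    connectedComponent x₀ = irreducibleComponent x₀ := by
  have hZ : irreducibleComponent x₀ ∈ irreducibleComponents X.left :=
    irreducibleComponent_mem_irreducibleComponents _
  apply le_antisymm
  · intro y hy
    have hZy : irreducibleComponent y ∈ irreducibleComponents X.left :=
      irreducibleComponent_mem_irreducibleComponents _
    have hgy := hZy.1.isGenericPoint_genericPoint isClosed_irreducibleComponent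
    have hsp : hZy.1.genericPoint ⤳ x₀ := by
      rw [specializes_iff_forall_open]
      intro s hs hx₀
      obtain ⟨_, ⟨(U : X.left.Opens), hUaff, rfl⟩, hxU, hUs⟩ :=
        X.left.isBasis_affineOpens.exists_subset_of_mem_open hx₀ hs
      have hUaff : IsAffineOpen U := hUaff
      apply hUs
      have hr : IsRetrocompact (U : Set X.left) := fun V hVc hVo =>
        QuasiSeparatedSpace.inter_isCompact _ _ U.isOpen hUaff.isCompact hVo hVc
      have hclopen : IsClopen (sat a (U : Set X.left)) :=
        ⟨isClosed_sat a hΦ U.isOpen hr, isOpen_sat a U.isOpen⟩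
      have hsub := hclopen.connectedComponent_subset (subset_sat a _ hxU)
      have hysat := hsub hy
      rw [sat_eq_sUnion a hΦ U.isOpen] at hysat
      obtain ⟨Z', ⟨hZ', ξ', hξ'U, hξ'⟩, hyZ'⟩ := hysat
      have hZeq : Z' = irreducibleComponent y :=
        irreducibleComponent_unique a hΦ hZ' hZy y hyZ' mem_irreducibleComponent
      have hgen' : IsGenericPoint ξ' (irreducibleComponent y) := by rw [← hZeq]; exact hξ'
      rw [← hgen'.eq hgy]
      exact hξ'U
    have hx₀y : x₀ ∈ irreducibleComponent y := by
      rw [← hgy.def]; exact hsp.mem_closure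
    have := irreducibleComponent_unique a hΦ hZy hZ x₀ hx₀y mem_irreducibleComponent
    rw [← this]
    exact mem_irreducibleComponent
  · exact isIrreducible_irreducibleComponent.2.isPreconnected.subset_connectedComponent
      mem_irreducibleComponent

end conn

end Groth.Agent.Lib.Seat24.HomogBC
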