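import Mathlib
import Groth.Prelude.Def_ActBC
import Groth.Agent.Lib.Seat24HomogBC
import Groth.Agent.Lib.Seat24Neutral
import Groth.Agent.Lib.Seat24NeutralQC
import Groth.Agent.Lib.Seat24ActSepDense

/-!
# Homogeneous spaces over a base with connected quasi-separated fibres (helper24)

Transfer of the field-case results of `Seat24Homog` to the fibres of an action over a base `S`;
application to separatedness and quasi-compactness (SGA3 VI_B, S5397).
-/

set_option autoImplicit false
set_option linter.unusedSectionVars false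
universe u
open CategoryTheory CategoryTheory.Limits MonoidalCategory CartesianMonoidalCategory MonObj GrpObj
  AlgebraicGeometry

namespace Groth.Agent.Lib.Seat24.HomogFib

open Groth.Agent.Lib.Helper25.IdComp Groth.Agent.Lib.Helper25.IdComp0
  Groth.Agent.Lib.Helper25.TopGrp
  Groth.Agent.Lib.Seat24.MaxPt Groth.Agent.Lib.Seat24.Homog Groth.Agent.Lib.Seat24.HomogBC

section dn

variable {S S' : Scheme.{u}} (f : S' ⟶ S)

/-- a `T'`-point of the base change `Y ×_S S'` gives a point of `Y` with values in `T'` regarded as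
an `S`-scheme. -/
noncomputable def dn {Y : Over S} {T' : Over S'} (φ' : T' ⟶ Red.bc f Y) :
    (Over.map f).obj T' ⟶ Y :=
  ((Over.mapPullbackAdj f).homEquiv T' Y).symm φ'

lemma dn_left {Y : Over S} {T' : Over S'} (φ' : T' ⟶ Red.bc f Y) :
    (dn f φ').left = φ'.left ≫ pullback.fst Y.hom f := rfl

lemma dn_comp_map {Y Y' : Over S} {T' : Over S'} (φ' : T' ⟶ Red.bc f Y) (ψ : Y ⟶ Y') :
    dn f (φ' ≫ (Over.pullback f).map ψ) = dn f φ' ≫ ψ :=
  (Over.mapPullbackAdj f).homEquiv_naturality_right_symm φ' ψ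

lemma comp_dn {Y : Over S} {T' T'' : Over S'} (u : T'' ⟶ T') (φ' : T' ⟶ Red.bc f Y) :
    dn f (u ≫ φ') = (Over.map f).map u ≫ dn f φ' :=
  (Over.mapPullbackAdj f).homEquiv_naturality_left_symm u φ'

variable {G X : Over S} [GrpObj G] (a : AlgGrp.Action G X)

lemma dn_lift_act {T' : Over S'} (c' : T' ⟶ Red.bc f G) (x' : T' ⟶ Red.bc f X) :
    dn f (lift c' x' ≫ (a.bc f).act) = lift (dn f c') (dn f x') ≫ a.act := by
  have h := AlgGrp.Action.lift_homEquiv_bc_act f a (dn f c') (dn f x')
  unfold dn at h ⊢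
  rw [Equiv.apply_symm_apply, Equiv.apply_symm_apply] at h
  rw [h, Equiv.symm_apply_apply]

end dn


section field

variable {k : Type u} [Field k] {G X : Over (Spec (CommRingCat.of k))} [GrpObj G]
  (a : AlgGrp.Action G X)

/-- a quasi-separated, connected homogeneous space is irreducible. -/
theorem irreducibleComponent_eq_univ [QuasiSeparatedSpace X.left] [PreconnectedSpace X.left]
    (hΦ : Function.Surjective (lift a.act (snd G X)).left) (x₀ : X.left) :
    irreducibleComponent x₀ = Set.univ := by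
  rw [← connectedComponent_eq_irreducibleComponent a hΦ x₀]
  exact PreconnectedSpace.connectedComponent_eq_univ x₀

/-- the orbit map of a point `x : P ⟶ X`, restricted to `G⁰`. -/
noncomputable def oP {P : Over (Spec (CommRingCat.of k))} (x : P ⟶ X) : P ⊗ G0 G ⟶ X :=
  lift (snd P (G0 G) ≫ G0incl G) (fst P (G0 G) ≫ x) ≫ a.act

/-- in a quasi-separated connected homogeneous space, the `G⁰`-orbit of any point meets any nonempty
open. -/
theorem oP_preimage_nonempty [QuasiSeparatedSpace X.left] [PreconnectedSpace X.left]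
    (hΦ : Function.Surjective (lift a.act (snd G X)).left)
    {P : Over (Spec (CommRingCat.of k))} [Nonempty P.left] (x : P ⟶ X)
    {U : Set X.left} (hU : IsOpen U) (hUne : U.Nonempty) :
    ((oP a x).left ⁻¹' U).Nonempty := by
  obtain ⟨p₀⟩ := ‹Nonempty P.left›
  let y : X.left := x.left p₀
  have hZ : irreducibleComponent y ∈ irreducibleComponents X.left :=
    irreducibleComponent_mem_irreducibleComponents y
  have hg := hZ.1.isGenericPoint_genericPoint isClosed_irreducibleComponent
  have hξU : hZ.1.genericPoint ∈ U := by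
    rw [hg.mem_open_set_iff hU, irreducibleComponent_eq_univ a hΦ y, Set.univ_inter]
    exact hUne
  obtain ⟨z, hz1, hz2, hz3⟩ := R_genericPoint a hΦ hZ hg (mem_irreducibleComponent (x := y))
  let jj : P ⊗ G ⟶ G ⊗ X := lift (snd P G) (fst P G ≫ x)
  have hsq : IsPullback jj.left (fst P G).left (snd G X).left x.left :=
    (isPullback_swap G x).map (Over.forget _)
  obtain ⟨τ, hτ1, -⟩ := Scheme.exists_preimage_of_isPullback hsq z p₀ hz2
  have hτ1' : jj.left τ = z := hτ1
  have hτC : (snd P G).left τ ∈ C0 G := by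
    have : snd P G = jj ≫ fst G X := by rw [lift_fst]
    rw [this, Over.comp_left, Scheme.Hom.comp_apply, hτ1']
    exact hz1
  have hτr : τ ∈ Set.range (P ◁ G0incl G).left := by
    rw [range_whiskerLeft, range_G0incl_left]; exact hτC
  obtain ⟨t', rfl⟩ := hτr
  refine ⟨t', ?_⟩
  have e : oP a x = (P ◁ G0incl G) ≫ jj ≫ a.act := by
    rw [oP, ← Category.assoc]
    congr 1
    apply CartesianMonoidalCategory.hom_ext
    · rw [lift_fst, Category.assoc, lift_fst, whiskerLeft_snd]
    · rw [lift_snd, Category.assoc, lift_snd, whiskerLeft_fst_assoc]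
  change (oP a x).left t' ∈ U
  rw [e, Over.comp_left, Over.comp_left, Scheme.Hom.comp_apply, Scheme.Hom.comp_apply, hτ1', hz3]
  exact hξU

/-- two points of a quasi-separated connected homogeneous space can be moved into a given nonempty
open by a common element of `G⁰` lying in a given neighbourhood of the unit. -/
theorem exists_common_translate [QuasiSeparatedSpace X.left] [PreconnectedSpace X.left]
    (hΦ : Function.Surjective (lift a.act (snd G X)).left)
    {P : Over (Spec (CommRingCat.of k))} [IrreducibleSpace P.left] (x₁ x₂ : P ⟶ X)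
    {U : Set X.left} (hU : IsOpen U) (hUne : U.Nonempty)
    {W : Set G.left} (hW : IsOpen W) (heW : ePt G ∈ W) :
    ∃ t : ↥(P ⊗ G0 G).left, (snd P (G0 G) ≫ G0incl G).left t ∈ W ∧
      (oP a x₁).left t ∈ U ∧ (oP a x₂).left t ∈ U := by
  have hirr : IrreducibleSpace (P ⊗ G0 G).left := by
    have : UniversallyOpen (G0 G).hom := inferInstance
    exact inferInstanceAs (IrreducibleSpace ↥(pullback P.hom (G0 G).hom))
  have h1 := oP_preimage_nonempty a hΦ x₁ hU hUne
  have h2 := oP_preimage_nonempty a hΦ x₂ hU hUne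
  have ho1 : IsOpen ((oP a x₁).left ⁻¹' U) := hU.preimage (oP a x₁).left.continuous
  have ho2 : IsOpen ((oP a x₂).left ⁻¹' U) := hU.preimage (oP a x₂).left.continuous
  have ho3 : IsOpen ((snd P (G0 G) ≫ G0incl G).left ⁻¹' W) :=
    hW.preimage (snd P (G0 G) ≫ G0incl G).left.continuous
  have h3 : ((snd P (G0 G) ≫ G0incl G).left ⁻¹' W).Nonempty := by
    obtain ⟨e, he⟩ := exists_eH (G := G)
    obtain ⟨p₀⟩ : Nonempty P.left := inferInstance
    refine ⟨(lift (𝟙 P) (toUnit P ≫ e)).left p₀, ?_⟩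
    change (lift (𝟙 P) (toUnit P ≫ e) ≫ snd P (G0 G) ≫ G0incl G).left p₀ ∈ W
    rw [lift_snd_assoc, Category.assoc, he, ← Hom.one_def, one_left_apply]
    exact heW
  have h12 := nonempty_preirreducible_inter ho1 ho2 h1 h2
  obtain ⟨t, ⟨ht1, ht2⟩, ht3⟩ := nonempty_preirreducible_inter (ho1.inter ho2) ho3 h12 h3
  exact ⟨t, ht3, ht1, ht2⟩

end field


section fibre

variable {S : Scheme.{u}} {G X : Over S} [GrpObj G] (a : AlgGrp.Action G X)

/-- the fibre of `X` at `s` as a scheme over the residue field is quasi-separated if the fibre is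
(as a subspace). -/
lemma quasiSeparatedSpace_fib (s : S) (h : QuasiSeparatedSpace ↥(X.hom ⁻¹' {s})) :
    QuasiSeparatedSpace ↥(Red.bc (S.fromSpecResidueField s) X).left :=
  QuasiSeparatedSpace.of_isOpenEmbedding (X.hom.fiberHomeo s).isOpenEmbedding

lemma preconnectedSpace_fib (s : S) (h : _root_.IsPreconnected (X.hom ⁻¹' {s})) :
    PreconnectedSpace ↥(Red.bc (S.fromSpecResidueField s) X).left := by
  have h1 : PreconnectedSpace ↥(X.hom ⁻¹' {s}) := isPreconnected_iff_preconnectedSpace.mp h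
  constructor
  have : (Set.univ : Set ↥(Red.bc (S.fromSpecResidueField s) X).left) =
      (X.hom.fiberHomeo s).symm '' Set.univ := by
    ext x
    simp only [Set.mem_univ, Set.image_univ, true_iff]
    exact (X.hom.fiberHomeo s).symm.surjective x
  rw [this]
  exact isPreconnected_univ.image _ (X.hom.fiberHomeo s).symm.continuous.continuousOn

end fibre

section sep

variable {S : Scheme.{u}} {G X : Over S} [GrpObj G] (a : AlgGrp.Action G X)

open Groth.Agent.Lib.Seat24.ActSep Groth.Agent.Lib.Seat24.Neutral in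
/-- **S5397, first part**: the diagonal of `X` is closed. -/
theorem isClosed_range_diag_of_fibres (W : G.left.Opens)
    (hWe : ∀ p : ↥(𝟙_ (Over S)).left, η[G].left p ∈ W) [UniversallyOpen (W.ι ≫ G.hom)]
    (hΦ : Surjective (lift a.act (snd G X)).left)
    (hqs : ∀ s : S, QuasiSeparatedSpace ↥(X.hom ⁻¹' {s}))
    (hconn : ∀ s : S, _root_.IsPreconnected (X.hom ⁻¹' {s})) :
    IsClosed (Set.range (ActSep.diag X).left) := by
  rw [← closure_subset_iff_isClosed]
  intro z hz
  let s : S := (X ⊗ X).hom z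
  let t := S.fromSpecResidueField s
  -- the fibre objects
  have hΦs := surjective_bc t a hΦ
  have hqs' := quasiSeparatedSpace_fib (X := X) s (hqs s)
  have hconn' := preconnectedSpace_fib (X := X) s (hconn s)
  -- lift `z` to the fibre of `X × X`
  obtain ⟨z', hz'⟩ : z ∈ Set.range ((X ⊗ X).hom.fiberι s) := by
    rw [(X ⊗ X).hom.range_fiberι s]; rfl
  let P : Over (Spec (CommRingCat.of (S.residueField s))) :=
    Over.mk ((Red.bc t (X ⊗ X)).left.fromSpecResidueField z' ≫ (Red.bc t (X ⊗ X)).hom)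
  let zP : P ⟶ Red.bc t (X ⊗ X) :=
    Over.homMk ((Red.bc t (X ⊗ X)).left.fromSpecResidueField z') rfl
  have hPpt : ∀ pt : P.left, zP.left pt = z' := fun pt => Scheme.fromSpecResidueField_apply _ _
  have hPirr : IrreducibleSpace P.left := by
    change IrreducibleSpace (Spec ((Red.bc t (X ⊗ X)).left.residueField z'))
    infer_instance
  obtain ⟨x₁', hx₁'⟩ : ∃ x : P ⟶ Red.bc t X, x = zP ≫ (Over.pullback t).map (fst X X) := ⟨_, rfl⟩
  obtain ⟨x₂', hx₂'⟩ : ∃ x : P ⟶ Red.bc t X, x = zP ≫ (Over.pullback t).map (snd X X) := ⟨_, rfl⟩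
  -- the affine open `U`
  let ξ : X.left := (snd X X).left z
  obtain ⟨_, ⟨(U : X.left.Opens), hUaff, rfl⟩, hξU, -⟩ :=
    X.left.isBasis_affineOpens.exists_subset_of_mem_open (Set.mem_univ ξ) isOpen_univ
  have hUaff : IsAffineOpen U := hUaff
  have : IsAffine (U : Scheme.{u}) := hUaff
  have hsep : IsSeparated (U.ι ≫ X.hom) := by
    have : IsSeparated ((U.ι ≫ X.hom) ≫ terminal.from S) := by
      rw [terminal.comp_from]
      infer_instance
    exact IsSeparated.of_comp (U.ι ≫ X.hom) (terminal.from S)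
  let Us : Set ↥(Red.bc t X).left := (pullback.fst X.hom t) ⁻¹' (U : Set X.left)
  have hUs : IsOpen Us := U.isOpen.preimage (pullback.fst X.hom t).continuous
  obtain ⟨p₀⟩ : Nonempty P.left := inferInstance
  have hUsne : Us.Nonempty := by
    refine ⟨x₂'.left p₀, ?_⟩
    change (x₂'.left ≫ pullback.fst X.hom t) p₀ ∈ U
    have : x₂'.left ≫ pullback.fst X.hom t = (dn t x₂').left := rfl
    rw [this, hx₂', dn_comp_map, Over.comp_left, Scheme.Hom.comp_apply, dn_left,
      Scheme.Hom.comp_apply, hPpt]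
    change (snd X X).left ((X ⊗ X).hom.fiberι s z') ∈ U
    rw [hz']
    exact hξU
  let Ws : Set ↥(fib G s).left := (fibι G s) ⁻¹' (W : Set G.left)
  have hWs : IsOpen Ws := W.isOpen.preimage (fibι G s).continuous
  have heWs : ePt (fib G s) ∈ Ws := by
    change fibι G s (ePt (fib G s)) ∈ W
    rw [fibι_ePt G s (show (𝟙_ (Over S)).left from s) rfl]
    exact hWe _
  obtain ⟨t', ht1, ht2, ht3⟩ := exists_common_translate (k := S.residueField s) (G := fib G s)
    (X := Red.bc t X) (a.bc t) hΦs.surj x₁' x₂' hUs hUsne hWs heWs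
  -- descend to `S`
  let T' : Over (Spec (CommRingCat.of (S.residueField s))) := P ⊗ G0 (fib G s)
  let c' : T' ⟶ fib G s := snd P (G0 (fib G s)) ≫ G0incl (fib G s)
  let c : (Over.map t).obj T' ⟶ G := dn t c'
  let zz : (Over.map t).obj T' ⟶ X ⊗ X := dn t (fst P (G0 (fib G s)) ≫ zP)
  let w : ↥(G ⊗ (X ⊗ X)).left := (lift c zz).left t'
  have hw_fst : (fst G (X ⊗ X)).left w ∈ W := by
    change (lift c zz ≫ fst G (X ⊗ X)).left t' ∈ W
    rw [lift_fst]
    exact ht1
  have hw_snd : (snd G (X ⊗ X)).left w = z := by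
    change (lift c zz ≫ snd G (X ⊗ X)).left t' = z
    rw [lift_snd]
    change (X ⊗ X).hom.fiberι s (zP.left ((fst P (G0 (fib G s))).left t')) = z
    rw [hPpt, hz']
  have key : ∀ (x' : P ⟶ Red.bc t X) (pr : X ⊗ X ⟶ X), x' = zP ≫ (Over.pullback t).map pr →
      (lift c (zz ≫ pr) ≫ a.act).left t' = pullback.fst X.hom t ((oP (k := S.residueField s)
        (G := fib G s) (X := Red.bc t X) (a.bc t) x').left t') := by
    intro x' pr hx'
    have e1 : zz ≫ pr = dn t (fst P (G0 (fib G s)) ≫ x') := by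
      rw [hx', ← Category.assoc, dn_comp_map]
    rw [e1, ← dn_lift_act]
    rfl
  have hw1 : (fst X X).left ((Psi a).left w) ∈ U := by
    change (lift c zz ≫ Psi a ≫ fst X X).left t' ∈ U
    have : lift c zz ≫ Psi a ≫ fst X X = lift c (zz ≫ fst X X) ≫ a.act := by
      rw [Psi, lift_fst, ← Category.assoc, comp_lift, lift_fst, lift_snd_assoc]
    rw [this, key x₁' (fst X X) hx₁']
    exact ht2
  have hw2 : (snd X X).left ((Psi a).left w) ∈ U := by
    change (lift c zz ≫ Psi a ≫ snd X X).left t' ∈ U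
    have : lift c zz ≫ Psi a ≫ snd X X = lift c (zz ≫ snd X X) ≫ a.act := by
      rw [Psi, lift_snd, ← Category.assoc, comp_lift, lift_fst, lift_snd_assoc]
    rw [this, key x₂' (snd X X) hx₂']
    exact ht3
  have := Groth.Agent.Lib.Seat24.ActSepDense.mem_range_diag_of_point a W U w hw_fst hw1 hw2
    (by rw [hw_snd]; exact hz)
  rw [hw_snd] at this
  exact this

end sep


section qc

variable {S : Scheme.{u}} {G X : Over S} [GrpObj G] (a : AlgGrp.Action G X)

open Groth.Agent.Lib.Seat24.Neutral in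
/-- every point `x` of `X` is a translate, by a point of the neutral set of `G`, of a point of any
open meeting the fibre through `x` (fibres quasi-separated and connected). -/
theorem exists_neutral_translate (hΦ : Surjective (lift a.act (snd G X)).left)
    (hqs : ∀ s : S, QuasiSeparatedSpace ↥(X.hom ⁻¹' {s}))
    (hconn : ∀ s : S, _root_.IsPreconnected (X.hom ⁻¹' {s}))
    (V : X.left.Opens) (x : X.left)
    (hV : ((V : Set X.left) ∩ X.hom ⁻¹' {X.hom x}).Nonempty) :
    ∃ z : ↥(G ⊗ X).left, (fst G X).left z ∈ SGA3x.neutralSet G ∧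
      (snd G X).left z ∈ V ∧ a.act.left z = x := by
  let s : S := X.hom x
  let t := S.fromSpecResidueField s
  have hΦs := surjective_bc t a hΦ
  have hqs' := quasiSeparatedSpace_fib (X := X) s (hqs s)
  have hconn' := preconnectedSpace_fib (X := X) s (hconn s)
  obtain ⟨x', hx'⟩ : ∃ x' : ↥(Red.bc t X).left, X.hom.fiberι s x' = x := by
    have : x ∈ Set.range (X.hom.fiberι s) := by rw [X.hom.range_fiberι s]; rfl
    exact this
  let Vs : Set ↥(Red.bc t X).left := (X.hom.fiberι s) ⁻¹' (V : Set X.left)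
  have hVs : IsOpen Vs := V.isOpen.preimage (X.hom.fiberι s).continuous
  have hVsne : Vs.Nonempty := by
    obtain ⟨v, hvV, hvs⟩ := hV
    obtain ⟨v', hv'⟩ : ∃ v' : ↥(Red.bc t X).left, X.hom.fiberι s v' = v := by
      have : v ∈ Set.range (X.hom.fiberι s) := by rw [X.hom.range_fiberι s]; exact hvs
      exact this
    exact ⟨v', by change X.hom.fiberι s v' ∈ V; rw [hv']; exact hvV⟩
  have hZ : irreducibleComponent x' ∈ irreducibleComponents ↥(Red.bc t X).left :=
    irreducibleComponent_mem_irreducibleComponents x'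
  have hg := hZ.1.isGenericPoint_genericPoint isClosed_irreducibleComponent
  have huniv := irreducibleComponent_eq_univ (k := S.residueField s) (G := fib G s)
    (X := Red.bc t X) (a.bc t) hΦs.surj x'
  have hξV : hZ.1.genericPoint ∈ Vs := by
    rw [hg.mem_open_set_iff hVs, huniv, Set.univ_inter]
    exact hVsne
  obtain ⟨zs, hz1, hz2, hz3⟩ := (R_genericPoint (k := S.residueField s) (G := fib G s)
    (X := Red.bc t X) (a.bc t) hΦs.surj hZ hg (mem_irreducibleComponent (x := x'))).symm
  let pz : (Over.map t).obj (fib G s ⊗ Red.bc t X) ⟶ G ⊗ X :=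
    lift (dn t (fst (fib G s) (Red.bc t X))) (dn t (snd (fib G s) (Red.bc t X)))
  refine ⟨pz.left zs, ?_, ?_, ?_⟩
  · change (pz ≫ fst G X).left zs ∈ _
    rw [lift_fst]
    change fibι G s ((fst (fib G s) (Red.bc t X)).left zs) ∈ _
    rw [mem_neutralSet_iff]
    exact hz1
  · change (pz ≫ snd G X).left zs ∈ V
    rw [lift_snd]
    change X.hom.fiberι s ((snd (fib G s) (Red.bc t X)).left zs) ∈ V
    rw [hz2]
    exact hξV
  · change (pz ≫ a.act).left zs = x
    rw [← dn_lift_act, lift_fst_snd, Category.id_comp]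
    change X.hom.fiberι s ((a.bc t).act.left zs) = x
    rw [hz3, hx']

end qc


section qc2

variable {S : Scheme.{u}}

/-- `A ×_S B` is quasi-compact for quasi-compact opens `A ⊆ Y₁`, `B ⊆ Y₂` lying over an affine
open of the base. -/
lemma isCompact_fst_inter_snd {Y₁ Y₂ : Over S} (O : S.Opens) (hO : IsAffineOpen O)
    (A : Y₁.left.Opens) (B : Y₂.left.Opens)
    (hA : IsCompact (A : Set Y₁.left)) (hB : IsCompact (B : Set Y₂.left))
    (hAO : A ≤ Y₁.hom ⁻¹ᵁ O) (hBO : B ≤ Y₂.hom ⁻¹ᵁ O) :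
    IsCompact ((fst Y₁ Y₂).left ⁻¹' (A : Set Y₁.left) ∩ (snd Y₁ Y₂).left ⁻¹' (B : Set Y₂.left)) := by
  have : CompactSpace A := isCompact_iff_compactSpace.mp hA
  have : CompactSpace B := isCompact_iff_compactSpace.mp hB
  have hAr : Set.range (A.ι ≫ Y₁.hom) ⊆ Set.range O.ι := by
    rintro _ ⟨x, rfl⟩
    rw [Scheme.Opens.range_ι]
    exact hAO x.2
  have hBr : Set.range (B.ι ≫ Y₂.hom) ⊆ Set.range O.ι := by
    rintro _ ⟨x, rfl⟩
    rw [Scheme.Opens.range_ι]
    exact hBO x.2
  let a' : (A : Scheme.{u}) ⟶ O := IsOpenImmersion.lift O.ι (A.ι ≫ Y₁.hom) hAr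
  have ha : a' ≫ O.ι = A.ι ≫ Y₁.hom := IsOpenImmersion.lift_fac _ _ _
  let b' : (B : Scheme.{u}) ⟶ O := IsOpenImmersion.lift O.ι (B.ι ≫ Y₂.hom) hBr
  have hb : b' ≫ O.ι = B.ι ≫ Y₂.hom := IsOpenImmersion.lift_fac _ _ _
  have : IsAffine (O : Scheme.{u}) := hO
  have : QuasiCompact b' := inferInstance
  have : CompactSpace ↑(pullback a' b') := inferInstance
  have hrange := Scheme.Pullback.range_map a' b' Y₁.hom Y₂.hom A.ι B.ι O.ι ha hb
  rw [Scheme.Opens.range_ι, Scheme.Opens.range_ι] at hrange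
  rw [Over.fst_left, Over.snd_left, ← hrange]
  exact isCompact_range (Scheme.Hom.continuous _)

variable {G X : Over S} [GrpObj G] (a : AlgGrp.Action G X)

open Groth.Agent.Lib.Seat24.Neutral in
/-- every point of the neutral set over `s` is a product of two points of any open containing the
value of the unit section at `s`. -/
theorem exists_mul_eq_of_mem_neutralSet_at (U : G.left.Opens) (g : G.left)
    (hg : g ∈ SGA3x.neutralSet G)
    (hU : η[G].left (show (𝟙_ (Over S)).left from G.hom g) ∈ U) :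
    ∃ z : ↥(G ⊗ G).left, (fst G G).left z ∈ (U : Set G.left) ∧
      (snd G G).left z ∈ (U : Set G.left) ∧ μ[G].left z = g := by
  obtain ⟨x, hx, hxg⟩ := exists_of_mem_neutralSet G hg
  let s : S := G.hom g
  let U' : (fib G s).left.Opens := fibι G s ⁻¹ᵁ U
  have hU' : ePt (fib G s) ∈ U' := by
    change fibι G s (ePt (fib G s)) ∈ U
    rw [fibι_ePt G s (show (𝟙_ (Over S)).left from s) rfl]
    exact hU
  obtain ⟨z, h1, h2, h3⟩ := exists_mul_eq_of_mem_connectedComponent (fib G s) U' hU' x hx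
  refine ⟨fibTensor G s z, ?_, ?_, ?_⟩
  · rw [← Scheme.Hom.comp_apply, fibTensor_fst]
    exact h1
  · rw [← Scheme.Hom.comp_apply, fibTensor_snd]
    exact h2
  · rw [← Scheme.Hom.comp_apply, fibTensor_mul, Scheme.Hom.comp_apply, h3]
    exact hxg


open Groth.Agent.Lib.Seat24.Neutral in
/-- **S5397, second part**: `X` is quasi-compact over `S` if some open, quasi-compact over `S`,
meets every nonempty fibre. -/
theorem quasiCompact_of_fibres (hΦ : Surjective (lift a.act (snd G X)).left)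
    (hqs : ∀ s : S, QuasiSeparatedSpace ↥(X.hom ⁻¹' {s}))
    (hconn : ∀ s : S, _root_.IsPreconnected (X.hom ⁻¹' {s}))
    (V : X.left.Opens) (hVqc : QuasiCompact (V.ι ≫ X.hom))
    (hVs : ∀ s : S, (X.hom ⁻¹' {s}).Nonempty → ((V : Set X.left) ∩ X.hom ⁻¹' {s}).Nonempty) :
    QuasiCompact X.hom := by
  rw [quasiCompact_iff_forall_isAffineOpen]
  intro O hO
  -- a compact open of `G` containing the unit section over `O`
  let e : S → G.left := fun s => η[G].left (show (𝟙_ (Over S)).left from s)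
  have hecont : Continuous e := η[G].left.continuous
  have hK : IsCompact (e '' (O : Set S)) := hO.isCompact.image hecont
  have hKO : e '' (O : Set S) ⊆ (G.hom ⁻¹ᵁ O : Set G.left) := by
    rintro _ ⟨s, hs, rfl⟩
    change G.hom (e s) ∈ O
    rw [hom_unit_apply]
    exact hs
  obtain ⟨Wc, hWc, hWo, hKW, hWO⟩ :=
    PrespectralSpace.exists_isCompact_and_isOpen_between hK (G.hom ⁻¹ᵁ O).isOpen hKO
  let UG : G.left.Opens := ⟨Wc, hWo⟩
  have hUGO : UG ≤ G.hom ⁻¹ᵁ O := hWO
  -- the part of `V` over `O`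
  let VO : X.left.Opens := V ⊓ X.hom ⁻¹ᵁ O
  have hVO : IsCompact (VO : Set X.left) := by
    have h1 : IsCompact ((V.ι ≫ X.hom) ⁻¹' (O : Set S)) :=
      QuasiCompact.isCompact_preimage (f := V.ι ≫ X.hom) _ O.isOpen hO.isCompact
    have h2 : (VO : Set X.left) = V.ι '' ((V.ι ≫ X.hom) ⁻¹' (O : Set S)) := by
      ext y
      constructor
      · rintro ⟨hyV, hyO⟩
        exact ⟨⟨y, hyV⟩, hyO, rfl⟩
      · rintro ⟨y', hy', rfl⟩
        exact ⟨y'.2, hy'⟩
    rw [h2]
    exact h1.image V.ι.continuous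
  have hVOO : VO ≤ X.hom ⁻¹ᵁ O := inf_le_right
  -- the compact sets
  let A : (G ⊗ X).left.Opens := (fst G X).left ⁻¹ᵁ UG ⊓ (snd G X).left ⁻¹ᵁ VO
  have hA : IsCompact (A : Set (G ⊗ X).left) :=
    isCompact_fst_inter_snd O hO UG VO hWc hVO hUGO hVOO
  have hAO : A ≤ (G ⊗ X).hom ⁻¹ᵁ O := by
    rintro z ⟨-, hz2⟩
    change (G ⊗ X).hom z ∈ O
    rw [← Over.w (snd G X), Scheme.Hom.comp_apply]
    exact hVOO hz2
  have hB : IsCompact ((fst G (G ⊗ X)).left ⁻¹' (UG : Set G.left) ∩
      (snd G (G ⊗ X)).left ⁻¹' (A : Set (G ⊗ X).left)) :=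
    isCompact_fst_inter_snd O hO UG A hWc hA hUGO hAO
  have heq : (X.hom ⁻¹ᵁ O : Set X.left) = ((G ◁ a.act) ≫ a.act).left ''
      ((fst G (G ⊗ X)).left ⁻¹' (UG : Set G.left) ∩
        (snd G (G ⊗ X)).left ⁻¹' (A : Set (G ⊗ X).left)) := by
    apply le_antisymm
    · intro x hx
      have hxO : X.hom x ∈ O := hx
      obtain ⟨z, hz1, hz2, hz3⟩ := exists_neutral_translate a hΦ hqs hconn V x
        (hVs _ ⟨x, rfl⟩)
      have hGz : G.hom ((fst G X).left z) = X.hom x := by
        rw [← hz3, ← Scheme.Hom.comp_apply, ← Scheme.Hom.comp_apply, Over.w, Over.w]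
      have hXz : X.hom ((snd G X).left z) = X.hom x := by
        rw [← hz3, ← Scheme.Hom.comp_apply, ← Scheme.Hom.comp_apply, Over.w, Over.w]
      have hU : η[G].left (show (𝟙_ (Over S)).left from G.hom ((fst G X).left z)) ∈ UG := by
        apply hKW
        exact ⟨G.hom ((fst G X).left z), by rw [hGz]; exact hxO, rfl⟩
      obtain ⟨z₂, h1, h2, h3⟩ := exists_mul_eq_of_mem_neutralSet_at UG _ hz1 hU
      have hsq : IsPullback (μ[G] ▷ X).left (fst (G ⊗ G) X).left (fst G X).left μ[G].left :=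
        (Groth.Agent.Lib.Helper12.isPullback_whiskerRight X μ[G]).map (Over.forget _)
      obtain ⟨u, hu1, hu2⟩ := Scheme.exists_preimage_of_isPullback hsq z z₂ h3.symm
      have hu1' : (μ[G] ▷ X).left u = z := hu1
      have hu2' : (fst (G ⊗ G) X).left u = z₂ := hu2
      refine ⟨(α_ G G X).hom.left u, ⟨?_, ?_, ?_⟩, ?_⟩
      · change ((α_ G G X).hom ≫ fst G (G ⊗ X)).left u ∈ UG
        rw [associator_hom_fst, Over.comp_left, Scheme.Hom.comp_apply, hu2']
        exact h1
      · change ((α_ G G X).hom ≫ snd G (G ⊗ X) ≫ fst G X).left u ∈ UG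
        rw [associator_hom_snd_fst, Over.comp_left, Scheme.Hom.comp_apply, hu2']
        exact h2
      · change ((α_ G G X).hom ≫ snd G (G ⊗ X) ≫ snd G X).left u ∈ VO
        rw [associator_hom_snd_snd]
        have : snd (G ⊗ G) X = (μ[G] ▷ X) ≫ snd G X := by rw [whiskerRight_snd]
        rw [this, Over.comp_left, Scheme.Hom.comp_apply, hu1']
        refine ⟨hz2, ?_⟩
        change X.hom ((snd G X).left z) ∈ O
        rw [hXz]; exact hxO
      · change ((α_ G G X).hom ≫ (G ◁ a.act) ≫ a.act).left u = x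
        rw [← a.mul_act, Over.comp_left, Scheme.Hom.comp_apply, hu1', hz3]
    · rintro _ ⟨v, ⟨hv1, -⟩, rfl⟩
      change X.hom (((G ◁ a.act) ≫ a.act).left v) ∈ O
      rw [← Scheme.Hom.comp_apply, Over.w, ← Over.w (fst G (G ⊗ X)), Scheme.Hom.comp_apply]
      exact hUGO hv1
  rw [heq]
  exact hB.image ((G ◁ a.act) ≫ a.act).left.continuous

end qc2

end Groth.Agent.Lib.Seat24.HomogFib
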