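import Mathlib
import Groth.Agent.Lib.Seat24UnitsRing
import Groth.Agent.Lib.Helper25UnipUniv
import Groth.Agent.Lib.Helper12GeomConn
import Groth.Agent.Lib.Seat24SolvPts

/-!
# Units of Hopf algebras of connected reduced groups (helper24)

* `comul_unit_eq_tmul_self`: over an algebraically closed field, a unit `u` with `ε(u) = 1` of a
  finitely generated reduced bialgebra with connected spectrum is group-like (Rosenlicht);
* `eq_one_of_isGroupLikeElem_of_isUnipotent`: a unipotent bialgebra has no group-like element but `1`;
* `unit_eq_algebraMap_counit`: the units of a connected reduced unipotent group are constants;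
* `isReduced_baseChange_of_formallySmooth`, `preconnectedSpace_baseChange`: base change of a smooth
  connected algebra with an augmentation to an extension field stays reduced and connected.
-/

set_option autoImplicit false
set_option linter.style.haveILetI false
set_option linter.unusedSectionVars false
universe u v

open TensorProduct HopfRep

namespace Groth.Agent.Lib.Seat24.HopfUnits

section GroupLike

variable {k : Type u} [Field k] [IsAlgClosed k] {A : Type v} [CommRing A] [Bialgebra k A]
  [Algebra.FiniteType k A] [IsReduced A]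

/-- **Rosenlicht**: units with counit `1` of a connected reduced finitely generated bialgebra over an
algebraically closed field are group-like. -/
theorem comul_unit_eq_tmul_self [PreconnectedSpace (PrimeSpectrum A)] (u : Aˣ)
    (hu : Coalgebra.counit (R := k) (u : A) = 1) :
    Coalgebra.comul (R := k) (u : A) = (u : A) ⊗ₜ[k] (u : A) := by
  have huinv : Coalgebra.counit (R := k) ((u⁻¹ : Aˣ) : A) = 1 := by
    have h := congrArg (Bialgebra.counitAlgHom k A) u.mul_inv
    rw [map_mul, map_one] at h
    change Coalgebra.counit (R := k) (u : A) * Coalgebra.counit (R := k) ((u⁻¹ : Aˣ) : A) = 1 at h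
    rwa [hu, one_mul] at h
  let ε : A →ₐ[k] k := Bialgebra.counitAlgHom k A
  let F : (A ⊗[k] A)ˣ := Units.map (Bialgebra.comulAlgHom k A : A →* A ⊗[k] A) u *
    (Units.map (Algebra.TensorProduct.includeLeft : A →ₐ[k] A ⊗[k] A) u)⁻¹ *
    (Units.map (Algebra.TensorProduct.includeRight : A →ₐ[k] A ⊗[k] A) u)⁻¹
  have hFval : (F : A ⊗[k] A) = Coalgebra.comul (R := k) (u : A) *
      (((u⁻¹ : Aˣ) : A) ⊗ₜ[k] 1) * (1 ⊗ₜ[k] ((u⁻¹ : Aˣ) : A)) := rfl
  have hF1 : F = 1 := by
    refine Groth.Agent.Lib.Seat24.UnitsRing.eq_one_of_eval_of_connected F ε ε ?_ ?_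
    · rw [hFval, map_mul, map_mul,
        Groth.Agent.Lib.Helper25.TensorDomain.evalLeft_tmul,
        Groth.Agent.Lib.Helper25.TensorDomain.evalLeft_tmul]
      have h1 : Groth.Agent.Lib.Helper25.TensorDomain.evalLeft ε
          (Coalgebra.comul (R := k) (u : A)) = (u : A) := by
        have h := Coalgebra.rTensor_counit_comul (R := k) (u : A)
        change Algebra.TensorProduct.lid k A
          (Algebra.TensorProduct.map ε (AlgHom.id k A) (Coalgebra.comul (R := k) (u : A))) = _
        have h' : Algebra.TensorProduct.map ε (AlgHom.id k A) (Coalgebra.comul (R := k) (u : A))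
            = (1 : k) ⊗ₜ[k] (u : A) := h
        rw [h']
        simp
      rw [h1]
      change (u : A) * (Coalgebra.counit (R := k) ((u⁻¹ : Aˣ) : A) • (1 : A)) *
        (Coalgebra.counit (R := k) (1 : A) • ((u⁻¹ : Aˣ) : A)) = 1
      rw [huinv, Bialgebra.counit_one, one_smul, one_smul, mul_one, Units.mul_inv]
    · rw [hFval, map_mul, map_mul, map_mul, map_mul]
      have h1 : Algebra.TensorProduct.rid k k A (Algebra.TensorProduct.map (AlgHom.id k A) ε
          (Coalgebra.comul (R := k) (u : A))) = (u : A) := by
        have h := Coalgebra.lTensor_counit_comul (R := k) (u : A)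
        have h' : Algebra.TensorProduct.map (AlgHom.id k A) ε (Coalgebra.comul (R := k) (u : A))
            = (u : A) ⊗ₜ[k] (1 : k) := h
        rw [h']
        simp
      rw [h1]
      simp only [Algebra.TensorProduct.map_tmul, AlgHom.coe_id, id_eq, map_one,
        Algebra.TensorProduct.rid_tmul, one_smul]
      change (u : A) * ((u⁻¹ : Aˣ) : A) * (Coalgebra.counit (R := k) ((u⁻¹ : Aˣ) : A) • (1 : A)) = 1
      rw [huinv, one_smul, mul_one, Units.mul_inv]
  have hF1' : (F : A ⊗[k] A) = 1 := by rw [hF1]; rfl
  rw [hFval] at hF1'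
  have h3 : Coalgebra.comul (R := k) (u : A) = Coalgebra.comul (R := k) (u : A) *
      (((u⁻¹ : Aˣ) : A) ⊗ₜ[k] 1) * (1 ⊗ₜ[k] ((u⁻¹ : Aˣ) : A)) * ((u : A) ⊗ₜ[k] (u : A)) := by
    rw [mul_assoc, mul_assoc, Algebra.TensorProduct.tmul_mul_tmul,
      Algebra.TensorProduct.tmul_mul_tmul, Units.inv_mul, one_mul, Units.inv_mul, one_mul]
    exact (mul_one (Coalgebra.comul (R := k) (u : A))).symm
  rw [h3, hF1', one_mul]

end GroupLike

section Unipotent

variable {K : Type u} [Field K] {A : Type v} [CommRing A] [Bialgebra K A]

/-- the one-dimensional comodule defined by a group-like element. -/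
@[reducible] def charComod (g : A) (hg : IsGroupLikeElem K g) : Comod K A K where
  coact := (TensorProduct.mk K K A).flip g
  coassoc := by
    ext
    simp [hg.comul_eq_tmul_self]
  counit_comp := by
    ext
    simp [hg.counit_eq_one]

/-- a unipotent bialgebra has no group-like element other than `1`. -/
theorem eq_one_of_isGroupLikeElem_of_isUnipotent (hU : IsUnipotent K A) (g : A)
    (hg : IsGroupLikeElem K g) : g = 1 := by
  letI := charComod g hg
  have hne := Groth.Agent.Lib.Helper25.UnipUniv.fixedPts_ne_bot_of_isUnipotent hU K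
    inferInstance inferInstance
  obtain ⟨v, hv, hv0⟩ := Submodule.exists_mem_ne_zero_of_ne_bot hne
  have hv' : v ⊗ₜ[K] g = v ⊗ₜ[K] (1 : A) := hv
  have h := congrArg (TensorProduct.lid K A) hv'
  rw [TensorProduct.lid_tmul, TensorProduct.lid_tmul] at h
  have h2 := congrArg (fun a => v⁻¹ • a) h
  simp only [smul_smul, inv_mul_cancel₀ hv0, one_smul] at h2
  exact h2

end Unipotent

section Const

variable {K : Type u} [Field K] [IsAlgClosed K] {A : Type v} [CommRing A] [Bialgebra K A]
  [Algebra.FiniteType K A] [IsReduced A]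

/-- the units of a connected reduced unipotent algebraic group over an algebraically closed field
are the nonzero constants. -/
theorem unit_eq_algebraMap_counit [PreconnectedSpace (PrimeSpectrum A)]
    (hU : IsUnipotent K A) (u : A) (hu : IsUnit u) :
    u = algebraMap K A (Coalgebra.counit (R := K) u) := by
  obtain ⟨u, rfl⟩ := hu
  set c : K := Coalgebra.counit (R := K) (u : A) with hc
  have hcu : IsUnit c := u.isUnit.map (Bialgebra.counitAlgHom K A)
  have hc0 : c ≠ 0 := hcu.ne_zero
  let w : Aˣ := u * (Units.map (algebraMap K A : K →* A) hcu.unit)⁻¹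
  have hwval : (w : A) = (u : A) * algebraMap K A c⁻¹ := by
    change (u : A) * ((Units.map (algebraMap K A : K →* A) hcu.unit)⁻¹ : Aˣ) = _
    congr 1
    rw [← map_inv]
    change algebraMap K A ((hcu.unit⁻¹ : Kˣ) : K) = _
    congr 1
    rw [Units.val_inv_eq_inv_val, IsUnit.unit_spec]
  have hw1 : Coalgebra.counit (R := K) (w : A) = 1 := by
    rw [hwval]
    have := map_mul (Bialgebra.counitAlgHom K A) (u : A) (algebraMap K A c⁻¹)
    change Coalgebra.counit (R := K) ((u : A) * algebraMap K A c⁻¹) = _ at this
    rw [this]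
    change c * (Bialgebra.counitAlgHom K A) (algebraMap K A c⁻¹) = 1
    rw [AlgHom.commutes]
    exact mul_inv_cancel₀ hc0
  have hgl : IsGroupLikeElem K (w : A) := ⟨hw1, comul_unit_eq_tmul_self w hw1⟩
  have hw := eq_one_of_isGroupLikeElem_of_isUnipotent hU (w : A) hgl
  rw [hwval] at hw
  have h2 := congrArg (fun a => a * algebraMap K A c) hw
  simp only [mul_assoc, ← map_mul, inv_mul_cancel₀ hc0, map_one, mul_one, one_mul] at h2
  exact h2

end Const

section BaseChange

open CategoryTheory CategoryTheory.Limits AlgebraicGeometry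

variable (k : Type u) [Field k] (K : Type u) [Field K] [Algebra k K] (C : Type u) [CommRing C]
  [Algebra k C]

/-- the base change of a smooth algebra over a field to an extension field is reduced. -/
theorem isReduced_baseChange_of_formallySmooth [Algebra.FiniteType k C]
    [Algebra.FormallySmooth k C] : IsReduced (K ⊗[k] C) := by
  haveI : Algebra.FormallySmooth K (K ⊗[k] C) := inferInstance
  haveI : Algebra.FiniteType K (K ⊗[k] C) := inferInstance
  haveI : Algebra.FinitePresentation K (K ⊗[k] C) :=
    Algebra.FinitePresentation.of_finiteType.mp inferInstance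
  haveI : Algebra.Smooth K (K ⊗[k] C) := ⟨inferInstance, inferInstance⟩
  haveI hs : Smooth (Spec.map (CommRingCat.ofHom (algebraMap K (K ⊗[k] C)))) := by
    rw [HasRingHomProperty.Spec_iff (P := @Smooth)]
    exact RingHom.smooth_algebraMap.mpr inferInstance
  have := Groth.Agent.Lib.Seat24.SolvPts.isReduced_of_smooth (k := K)
    (Spec (CommRingCat.of (K ⊗[k] C))) (Spec.map (CommRingCat.ofHom (algebraMap K (K ⊗[k] C))))
  exact (affine_isReduced_iff (CommRingCat.of (K ⊗[k] C))).mp this

/-- the base change of a connected algebra with an augmentation to an extension field is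
connected. -/
theorem preconnectedSpace_baseChange (hconn : ∀ e : C, IsIdempotentElem e → e = 0 ∨ e = 1)
    (ε : C →ₐ[k] k) : PreconnectedSpace (PrimeSpectrum (K ⊗[k] C)) := by
  haveI : PreconnectedSpace (PrimeSpectrum C) :=
    Groth.Agent.Lib.Seat24.UnitsRing.preconnectedSpace_of_idempotents hconn
  haveI : Nontrivial C := ε.toRingHom.domain_nontrivial
  haveI : ConnectedSpace ↥(Spec (CommRingCat.of C)) :=
    show ConnectedSpace (PrimeSpectrum C) from { toNonempty := inferInstance }
  let f₀ : Spec (CommRingCat.of C) ⟶ Spec (CommRingCat.of k) :=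
    Spec.map (CommRingCat.ofHom (algebraMap k C))
  let x : Spec (CommRingCat.of k) ⟶ Spec (CommRingCat.of C) :=
    Spec.map (CommRingCat.ofHom (ε : C →+* k))
  have hx : x ≫ f₀ = 𝟙 _ := by
    rw [← Spec.map_comp, ← CommRingCat.ofHom_comp]
    have : (ε : C →+* k).comp (algebraMap k C) = RingHom.id k := by
      ext a
      simp
    rw [this]
    exact Spec.map_id _
  have hgc := Groth.Agent.Lib.Helper12.GeomConn.geometricallyConnected_of_section f₀ x hx
  have hpb := (isPullback_SpecMap_of_isPushout _ _ _ _
    (CommRingCat.isPushout_tensorProduct k K C)).flip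
  have hcs : ConnectedSpace ↥(Spec (CommRingCat.of (K ⊗[k] C))) :=
    hgc.geometrically_connectedSpace _ _ _ hpb
  exact (show ConnectedSpace (PrimeSpectrum (K ⊗[k] C)) from hcs).toPreconnectedSpace

end BaseChange

end Groth.Agent.Lib.Seat24.HopfUnits
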