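import Mathlib

/-!
# Purely transcendental extensions are geometrically irreducible (helper24)

If `x : ι → K` is algebraically independent over `k`, then `E ⊗[k] L` is a domain for
`E = k(x)` and every field extension `L/k`; hence `Spec E ⟶ Spec k` is geometrically irreducible.
-/

set_option autoImplicit false
set_option linter.style.haveILetI false
universe u
open CategoryTheory CategoryTheory.Limits AlgebraicGeometry TensorProduct

namespace Groth.Agent.Lib.Seat24.PureTr

/-- if `R ⊗[k] L` is a domain and `E = Frac R`, then `E ⊗[k] L` is a domain. -/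
theorem isDomain_tensor_of_isFractionRing (k R E L : Type*) [Field k] [CommRing R] [IsDomain R]
    [Algebra k R] [Field E] [Algebra k E] [Algebra R E] [IsScalarTower k R E]
    [IsFractionRing R E] [Field L] [Algebra k L] [IsDomain (R ⊗[k] L)] :
    IsDomain (E ⊗[k] L) := by
  letI : Algebra (R ⊗[k] L) (E ⊗[R] (R ⊗[k] L)) := Algebra.TensorProduct.rightAlgebra
  haveI h1 : IsLocalization (Algebra.algebraMapSubmonoid (R ⊗[k] L) (nonZeroDivisors R))
      (E ⊗[R] (R ⊗[k] L)) := IsLocalization.tensorRight E (nonZeroDivisors R)
  have h2 : Algebra.algebraMapSubmonoid (R ⊗[k] L) (nonZeroDivisors R) ≤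
      nonZeroDivisors (R ⊗[k] L) := by
    rintro _ ⟨r, hr, rfl⟩
    rw [mem_nonZeroDivisors_iff_ne_zero]
    have hinj : Function.Injective (Algebra.TensorProduct.includeLeft : R →ₐ[k] R ⊗[k] L) :=
      Algebra.TensorProduct.includeLeft_injective (algebraMap k L).injective
    intro h0
    have : (Algebra.TensorProduct.includeLeft : R →ₐ[k] R ⊗[k] L) r = 0 := h0
    rw [← map_zero (Algebra.TensorProduct.includeLeft : R →ₐ[k] R ⊗[k] L)] at this
    exact (mem_nonZeroDivisors_iff_ne_zero.mp hr) (hinj this)
  haveI h3 : IsDomain (E ⊗[R] (R ⊗[k] L)) :=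
    IsLocalization.isDomain_of_le_nonZeroDivisors (E ⊗[R] (R ⊗[k] L)) h2
  exact (Algebra.TensorProduct.cancelBaseChange k R R E L).symm.toMulEquiv.isDomain _

open scoped IntermediateField.algebraAdjoinAdjoin in
/-- `k(x) ⊗[k] L` is a domain for algebraically independent `x`. -/
theorem isDomain_tensor_adjoin {k K : Type*} [Field k] [Field K] [Algebra k K] {ι : Type*}
    (x : ι → K) (hx : AlgebraicIndependent k x) (L : Type*) [Field L] [Algebra k L] :
    IsDomain ((IntermediateField.adjoin k (Set.range x)) ⊗[k] L) := by
  have e1 : (Algebra.adjoin k (Set.range x)) ⊗[k] L ≃ₐ[k] MvPolynomial ι L :=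
    ((Algebra.TensorProduct.congr hx.aevalEquiv.symm (AlgEquiv.refl (R := k) (A₁ := L))).trans
      (Algebra.TensorProduct.comm k (MvPolynomial ι k) L)).trans
      ((MvPolynomial.algebraTensorAlgEquiv (σ := ι) k L).restrictScalars k)
  haveI : IsDomain ((Algebra.adjoin k (Set.range x)) ⊗[k] L) := e1.toMulEquiv.isDomain _
  exact isDomain_tensor_of_isFractionRing k (Algebra.adjoin k (Set.range x))
    (IntermediateField.adjoin k (Set.range x)) L

/-- a purely transcendental extension `k(x)/k` is geometrically irreducible. -/
theorem geometricallyIrreducible_adjoin {k K : Type u} [Field k] [Field K] [Algebra k K]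
    {ι : Type*} (x : ι → K) (hx : AlgebraicIndependent k x) :
    GeometricallyIrreducible (Spec.map (CommRingCat.ofHom
      (algebraMap k (IntermediateField.adjoin k (Set.range x))))) := by
  rw [geometricallyIrreducible_iff, geometrically_iff_of_commRing_of_isClosedUnderIsomorphisms]
  intro L _ _
  haveI : IsDomain ((IntermediateField.adjoin k (Set.range x)) ⊗[k] L) :=
    isDomain_tensor_adjoin x hx L
  haveI : IrreducibleSpace (Spec (CommRingCat.of ((IntermediateField.adjoin k (Set.range x)) ⊗[k] L))) := by
    change IrreducibleSpace (PrimeSpectrum ((IntermediateField.adjoin k (Set.range x)) ⊗[k] L))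
    infer_instance
  exact (pullbackSpecIso k (IntermediateField.adjoin k (Set.range x)) L).hom.homeomorph.irreducibleSpace_iff.mpr
    inferInstance

end Groth.Agent.Lib.Seat24.PureTr
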