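import Mathlib
import Groth.Agent.Lib.Seat24MaxPt
import Groth.Agent.Lib.Seat24PureTr
import Groth.Agent.Lib.Seat1IntTop

/-!
# Maximal points of the fibres of `G_K ⟶ G` (helper24)

`G` of finite type over a field `k`, `K/k` a field extension, `W` a dense open of `G_K`: the set of
`g ∈ G` such that `W` contains all maximal points of the fibre of `G_K ⟶ G` over `g` is open and
dense.  Proof: `k ⊆ E ⊆ K` with `E/k` purely transcendental (fibres of `G_E ⟶ G` irreducible,
`G_E ⟶ G` open) and `K/E` algebraic (`G_K ⟶ G_E` integral: closed, generalizing, incomparability).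
-/

set_option autoImplicit false
set_option linter.style.haveILetI false
universe u
open CategoryTheory CategoryTheory.Limits AlgebraicGeometry TensorProduct

namespace Groth.Agent.Lib.Seat24.MaxFib

open Groth.Agent.Lib.Seat24.MaxPt

section Top

variable {α β γ : Type*} [TopologicalSpace α] [TopologicalSpace β] [TopologicalSpace γ]

/-- in a `T0` space a point whose closure is an irreducible component is a maximal point. -/
lemma isMaxPt_of_closure_mem_irreducibleComponents [T0Space α] {x : α}
    (hx : closure {x} ∈ irreducibleComponents α) : IsMaxPt x := by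
  intro y hy
  have h1 : closure {x} ⊆ closure {y} := hy.closure_subset
  have h2 : closure {y} ⊆ closure {x} := hx.2 isIrreducible_singleton.closure h1
  have h3 : x ⤳ y := specializes_iff_closure_subset.mpr h2
  exact (hy.antisymm h3).eq

/-- maximal points of a subspace, in terms of the ambient space. -/
lemma isMaxPt_subtype_iff {T : Set α} (z : T) :
    IsMaxPt z ↔ ∀ z' : α, z' ∈ T → z' ⤳ z.1 → z' = z.1 := by
  constructor
  · intro h z' hz' hs
    have := h ⟨z', hz'⟩ ((subtype_specializes_iff _ _).mpr hs)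
    exact congrArg Subtype.val this
  · intro h y hy
    exact Subtype.ext (h y.1 y.2 ((subtype_specializes_iff _ _).mp hy))

/-- the key topological lemma: a closed set `F` contains a maximal point of the fibre of
`p₁ ∘ p₂` over `g` iff `p₂ '' F` contains the fibre of `p₁` over `g`. -/
lemma exists_max_mem_iff [T0Space β] (p₂ : α → β) (p₁ : β → γ)
    (hcont : Continuous p₂) (hgen : GeneralizingMap p₂)
    (hinc : ∀ z' z : α, z' ⤳ z → p₂ z' = p₂ z → z' = z)
    (ξ : γ → β) (hξ₁ : ∀ g, p₁ (ξ g) = g) (hξ₂ : ∀ y, ξ (p₁ y) ⤳ y)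
    (F : Set α) (hC : IsClosed (p₂ '' F)) (g : γ) :
    (∃ z ∈ F, p₁ (p₂ z) = g ∧ ∀ z' : α, p₁ (p₂ z') = g → z' ⤳ z → z' = z) ↔
      p₁ ⁻¹' {g} ⊆ p₂ '' F := by
  constructor
  · rintro ⟨z, hzF, hzg, hmax⟩
    have h1 : ξ g ⤳ p₂ z := by
      have := hξ₂ (p₂ z)
      rwa [hzg] at this
    obtain ⟨z', hz', hz'ξ⟩ := hgen h1
    have h2 : z' = z := hmax z' (by rw [hz'ξ, hξ₁]) hz'
    subst h2
    have h3 : ξ g ∈ p₂ '' F := ⟨z', hzF, hz'ξ⟩
    intro y hy
    have h4 : ξ g ⤳ y := by
      have := hξ₂ y
      rwa [show p₁ y = g from hy] at this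
    exact h4.mem_closed hC h3
  · intro hsub
    obtain ⟨z₀, hz₀F, hz₀⟩ := hsub (show ξ g ∈ p₁ ⁻¹' {g} from hξ₁ g)
    refine ⟨z₀, hz₀F, by rw [hz₀, hξ₁], fun z' hz'g hz' => ?_⟩
    have h1 : p₂ z' ⤳ ξ g := by
      have := hz'.map hcont
      rwa [hz₀] at this
    have h2 : ξ g ⤳ p₂ z' := by
      have := hξ₂ (p₂ z')
      rwa [hz'g] at this
    have h3 : p₂ z' = ξ g := (h1.antisymm h2).eq
    exact hinc z' z₀ hz' (by rw [h3, hz₀])

/-- in a Noetherian quasi-sober space a dense open set contains every maximal point. -/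
lemma mem_of_dense_of_isMaxPt [TopologicalSpace.NoetherianSpace α] [QuasiSober α] {x : α}
    (hx : IsMaxPt x) {W : Set α} (hWo : IsOpen W) (hWd : Dense W) : x ∈ W := by
  have hZ := hx.closure_mem_irreducibleComponents
  obtain ⟨o, ho, hne, hsub⟩ :=
    TopologicalSpace.NoetherianSpace.exists_isOpen_nonempty_subset_irreducibleComponent _ hZ
  obtain ⟨w, hwo, hwW⟩ := hWd.inter_open_nonempty o ho hne
  have : x ⤳ w := specializes_iff_mem_closure.mpr (hsub hwo)
  exact this.mem_open hWo hwW

/-- a set containing all maximal points of a quasi-sober `T0` space is dense. -/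
lemma dense_of_forall_isMaxPt_mem [QuasiSober α] [T0Space α] {U : Set α}
    (h : ∀ x, IsMaxPt x → x ∈ U) : Dense U := by
  intro x
  obtain ⟨ξ, hξ, hξx⟩ := exists_isMaxPt_specializes x
  exact closure_mono (Set.singleton_subset_iff.mpr (h ξ hξ)) (specializes_iff_mem_closure.mp hξx)

end Top

section Scheme

variable {k E K : Type u} [Field k] [Field E] [Field K] [Algebra k E] [Algebra E K] [Algebra k K]
  [IsScalarTower k E K]
variable {G : Scheme.{u}} (f : G ⟶ Spec (CommRingCat.of k))

variable (E K) in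
/-- the projection `G_K ⟶ G_E`. -/
noncomputable def p₂ : pullback f (Spec.map (CommRingCat.ofHom (algebraMap k K))) ⟶
    pullback f (Spec.map (CommRingCat.ofHom (algebraMap k E))) :=
  pullback.lift (pullback.fst _ _)
    (pullback.snd _ _ ≫ Spec.map (CommRingCat.ofHom (algebraMap E K)))
    (by rw [pullback.condition, Category.assoc, ← Spec.map_comp, ← CommRingCat.ofHom_comp,
      ← IsScalarTower.algebraMap_eq])

@[reassoc (attr := simp)]
lemma p₂_fst : p₂ E K f ≫ pullback.fst _ _ = pullback.fst _ _ := pullback.lift_fst _ _ _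

@[reassoc (attr := simp)]
lemma p₂_snd : p₂ E K f ≫ pullback.snd _ _ =
    pullback.snd _ _ ≫ Spec.map (CommRingCat.ofHom (algebraMap E K)) := pullback.lift_snd _ _ _

lemma isPullback_p₂ : IsPullback (pullback.snd f (Spec.map (CommRingCat.ofHom (algebraMap k K))))
    (p₂ E K f) (Spec.map (CommRingCat.ofHom (algebraMap E K)))
    (pullback.snd f (Spec.map (CommRingCat.ofHom (algebraMap k E)))) := by
  refine IsPullback.of_bot ?_ (p₂_snd f).symm
    (IsPullback.of_hasPullback f (Spec.map (CommRingCat.ofHom (algebraMap k E)))).flip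
  have h := (IsPullback.of_hasPullback f (Spec.map (CommRingCat.ofHom (algebraMap k K)))).flip
  have e1 : Spec.map (CommRingCat.ofHom (algebraMap E K)) ≫
      Spec.map (CommRingCat.ofHom (algebraMap k E)) =
      Spec.map (CommRingCat.ofHom (algebraMap k K)) := by
    rw [← Spec.map_comp, ← CommRingCat.ofHom_comp, ← IsScalarTower.algebraMap_eq]
  rw [p₂_fst, e1]
  exact h

instance [Algebra.IsAlgebraic E K] : IsIntegralHom (p₂ E K f) := by
  haveI : IsIntegralHom (Spec.map (CommRingCat.ofHom (algebraMap E K))) := by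
    rw [IsIntegralHom.SpecMap_iff]
    haveI : Algebra.IsIntegral E K := Algebra.IsAlgebraic.isIntegral
    exact algebraMap_isIntegral_iff.mpr inferInstance
  exact MorphismProperty.of_isPullback (isPullback_p₂ f) inferInstance

instance : Flat (p₂ E K f) := by
  haveI : Flat (Spec.map (CommRingCat.ofHom (algebraMap E K))) := by
    rw [HasRingHomProperty.Spec_iff (P := @Flat)]
    exact (RingHom.flat_algebraMap_iff).mpr inferInstance
  exact MorphismProperty.of_isPullback (isPullback_p₂ f) inferInstance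

section Main

variable [GeometricallyIrreducible (Spec.map (CommRingCat.ofHom (algebraMap k E)))]

variable (E) in
/-- the generic point of the fibre of `G_E ⟶ G` over `g`. -/
noncomputable def ξ (g : G) : ↥(pullback f (Spec.map (CommRingCat.ofHom (algebraMap k E)))) :=
  ((pullback.fst f (Spec.map (CommRingCat.ofHom (algebraMap k E)))).fiberι g)
    (genericPoint ↥((pullback.fst f (Spec.map (CommRingCat.ofHom (algebraMap k E)))).fiber g))

lemma fst_ξ (g : G) : (pullback.fst f (Spec.map (CommRingCat.ofHom (algebraMap k E)))) (ξ E f g) = g := by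
  have h : ξ E f g ∈ Set.range
      ((pullback.fst f (Spec.map (CommRingCat.ofHom (algebraMap k E)))).fiberι g) := ⟨_, rfl⟩
  rw [Scheme.Hom.range_fiberι] at h
  exact h

lemma ξ_specializes (y : ↥(pullback f (Spec.map (CommRingCat.ofHom (algebraMap k E))))) :
    ξ E f ((pullback.fst f (Spec.map (CommRingCat.ofHom (algebraMap k E)))) y) ⤳ y := by
  have h : y ∈ (pullback.fst f (Spec.map (CommRingCat.ofHom (algebraMap k E)))) ⁻¹'
      {(pullback.fst f (Spec.map (CommRingCat.ofHom (algebraMap k E)))) y} := rfl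
  rw [← Scheme.Hom.range_fiberι] at h
  obtain ⟨y', hy'⟩ := h
  have := (genericPoint_specializes y').map (Scheme.Hom.continuous
    ((pullback.fst f (Spec.map (CommRingCat.ofHom (algebraMap k E)))).fiberι
      ((pullback.fst f (Spec.map (CommRingCat.ofHom (algebraMap k E)))) y)))
  rw [hy'] at this
  exact this

variable [Algebra.IsAlgebraic E K]

/-- quasi-soberness of a set-theoretic fibre. -/
lemma quasiSober_fibre {X Y : Scheme.{u}} (h : X ⟶ Y) (y : Y) : QuasiSober ↥(h.base ⁻¹' {y}) :=
  (h.fiberHomeo y).symm.isClosedEmbedding.quasiSober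

include E in
theorem isOpen_and_dense [LocallyOfFiniteType f] [QuasiCompact f]
    (W : (pullback f (Spec.map (CommRingCat.ofHom (algebraMap k K)))).Opens)
    (hW : Dense (W : Set ↥(pullback f (Spec.map (CommRingCat.ofHom (algebraMap k K)))))) :
    letI π := (pullback.fst f (Spec.map (CommRingCat.ofHom (algebraMap k K)))).base
    letI U : Set G := {g : G | ∀ z : ↥(π ⁻¹' {g}),
      closure {z} ∈ irreducibleComponents ↥(π ⁻¹' {g}) → z.1 ∈ W}
    IsOpen U ∧ Dense U := by
  set πK := pullback.fst f (Spec.map (CommRingCat.ofHom (algebraMap k K))) with hπK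
  set U : Set G := {g : G | ∀ z : ↥(πK ⁻¹' {g}),
      closure {z} ∈ irreducibleComponents ↥(πK ⁻¹' {g}) → z.1 ∈ W} with hU
  set π₁ := pullback.fst f (Spec.map (CommRingCat.ofHom (algebraMap k E))) with hπ₁
  set F : Set ↥(pullback f (Spec.map (CommRingCat.ofHom (algebraMap k K)))) := (W : Set _)ᶜ with hF
  have hFc : IsClosed F := W.isOpen.isClosed_compl
  have hπ : ∀ z, πK z = π₁ (p₂ E K f z) := by
    intro z
    rw [← Scheme.Hom.comp_apply, p₂_fst]
  -- Step A
  have hA : ∀ g : G, g ∈ U ↔ ¬ (∃ z ∈ F, π₁ (p₂ E K f z) = g ∧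
      ∀ z', π₁ (p₂ E K f z') = g → z' ⤳ z → z' = z) := by
    intro g
    haveI : QuasiSober ↥(πK ⁻¹' {g}) := quasiSober_fibre πK g
    constructor
    · rintro hg ⟨z, hzF, hzg, hmax⟩
      have hz : z ∈ πK ⁻¹' {g} := by
        change πK z = g
        rw [hπ, hzg]
      have hm : IsMaxPt (⟨z, hz⟩ : ↥(πK ⁻¹' {g})) := by
        rw [isMaxPt_subtype_iff]
        intro z' hz' hs
        refine hmax z' ?_ hs
        rw [← hπ]
        exact hz'
      exact hzF (hg ⟨z, hz⟩ hm.closure_mem_irreducibleComponents)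
    · intro hne z hz
      by_contra hzW
      have hm := isMaxPt_of_closure_mem_irreducibleComponents hz
      rw [isMaxPt_subtype_iff] at hm
      refine hne ⟨z.1, hzW, ?_, fun z' hz' hs => hm z' ?_ hs⟩
      · rw [← hπ]
        exact z.2
      · change πK z' = g
        rw [hπ, hz']
  -- Step B
  have hcl : IsClosed ((p₂ E K f) '' F) := (p₂ E K f).isClosedMap _ hFc
  have hB : U = π₁ '' ((p₂ E K f) '' F)ᶜ := by
    ext g
    rw [hA g, exists_max_mem_iff (p₂ E K f) π₁ (p₂ E K f).continuous
      (Flat.generalizingMap (p₂ E K f))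
      (fun z' z hs he => Groth.Agent.Lib.Seat1.IntTop.eq_of_specializes (p₂ E K f) hs he)
      (ξ E f) (fst_ξ f) (ξ_specializes f) F hcl g]
    rw [Set.not_subset]
    constructor
    · rintro ⟨y, hy, hyn⟩
      exact ⟨y, hyn, hy⟩
    · rintro ⟨y, hyn, hy⟩
      exact ⟨y, hy, hyn⟩
  refine ⟨?_, ?_⟩
  · rw [hB]
    exact π₁.isOpenMap _ hcl.isOpen_compl
  · -- density
    haveI : IsNoetherian (pullback f (Spec.map (CommRingCat.ofHom (algebraMap k K)))) :=
      { }
    apply dense_of_forall_isMaxPt_mem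
    intro g hg z hz
    have hm := isMaxPt_of_closure_mem_irreducibleComponents hz
    rw [isMaxPt_subtype_iff] at hm
    have hm' : IsMaxPt z.1 := by
      intro z' hz'
      refine hm z' ?_ hz'
      have h1 : πK z' ⤳ πK z.1 := hz'.map πK.continuous
      have h2 : πK z.1 = g := z.2
      rw [h2] at h1
      exact hg _ h1
    exact mem_of_dense_of_isMaxPt hm' W.isOpen hW

end Main

end Scheme

end Groth.Agent.Lib.Seat24.MaxFib
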