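import Mathlib
import Groth.Agent.Lib.Helper3GrpHomQF

/-!
# The largest open on which a homomorphism of group schemes has a property is an open subgroup
(seat 24)

Let `u : G ⟶ H` be a homomorphism of `S`-group schemes and `Q` a class of morphisms of schemes
which is stable under base change and composition, contains the open immersions, consists of open
maps, and descends along surjective `Q`-morphisms of the source.  If `V` is the largest open of `G`
such that `u|V` is in `Q` and `V → S` is in `Q`, then `V` is stable under inversion and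
multiplication and contains the unit point of every fibre it meets.
-/

set_option autoImplicit false
universe u
open CategoryTheory MonoidalCategory CartesianMonoidalCategory MonObj GrpObj AlgebraicGeometry
  CategoryTheory.Limits

namespace Groth.Agent.Lib.Seat24.OpenSubgrp

open Groth.Agent.Lib.Helper3.GrpHomQF

section general

variable {C : Type*} [Category C] [CartesianMonoidalCategory C]

/-- `(x, y) ↦ a x * a y` is `(x, y) ↦ (a x, y) ↦ (a x * a y, y) ↦ a x * a y`. -/
lemma tensorHom_mul_eq {K X : C} [GrpObj K] (a : X ⟶ K) :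
    (a ⊗ₘ a) ≫ μ[K] = (a ▷ X) ≫ (shearHom a).hom ≫ fst K X := by
  have h1 : (shearHom a).hom ≫ fst K X = fst K X * (snd K X ≫ a) := by
    simp [shearHom]
  have h2 : fst K X * (snd K X ≫ a) = (K ◁ a) ≫ μ[K] := by
    rw [CategoryTheory.Hom.mul_def]
    congr 1
    apply CartesianMonoidalCategory.hom_ext <;> simp
  rw [h1, h2, ← Category.assoc, ← MonoidalCategory.tensorHom_def]

end general

variable {S : Scheme.{u}}

/-- `a × id` is the base change of `a` along the first projection. -/
theorem isPullback_whiskerRight' {X Y : Over S} (a : X ⟶ Y) (Z : Over S) :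
    IsPullback (fst X Z).left (a ▷ Z).left a.left (fst Y Z).left := by
  have hr : IsPullback (snd Y Z).left (fst Y Z).left Z.hom Y.hom :=
    (IsPullback.of_hasPullback Y.hom Z.hom).flip
  have h1 : (a ▷ Z).left ≫ (snd Y Z).left = (snd X Z).left := by
    rw [← Over.comp_left, whiskerRight_snd]
  have h2 : (a ▷ Z).left ≫ (fst Y Z).left = (fst X Z).left ≫ a.left := by
    rw [← Over.comp_left, whiskerRight_fst, Over.comp_left]
  have ho : IsPullback ((a ▷ Z).left ≫ (snd Y Z).left) (fst X Z).left Z.hom (a.left ≫ Y.hom) := by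
    rw [h1, Over.w a]
    exact (IsPullback.of_hasPullback X.hom Z.hom).flip
  exact (IsPullback.of_right ho h2 hr).flip

/-- the first projection `K × X → K` is the base change of `X → S`. -/
theorem isPullback_fst (K X : Over S) :
    IsPullback (snd K X).left (fst K X).left X.hom K.hom :=
  (IsPullback.of_hasPullback K.hom X.hom).flip

variable (Q : MorphismProperty Scheme.{u}) [Q.IsStableUnderBaseChange]
  [Q.IsMultiplicative] [Q.RespectsIso]

/-- the map `(x, y) ↦ a x * a y` is in `Q` if `a` and `X → S` are. -/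
theorem prop_tensorHom_mul {K X : Over S} [GrpObj K] (a : X ⟶ K) (ha : Q a.left) (hX : Q X.hom) :
    Q ((a ⊗ₘ a) ≫ μ[K]).left := by
  rw [tensorHom_mul_eq, Over.comp_left, Over.comp_left]
  refine Q.comp_mem _ _ ?_ (Q.comp_mem _ _ ?_ ?_)
  · exact Q.of_isPullback (isPullback_whiskerRight' a X) ha
  · have : IsIso (shearHom a).hom.left := inferInstance
    exact Q.of_isIso _
  · exact Q.of_isPullback (isPullback_fst K X) hX

variable (G H : Over S) [GrpObj G] [GrpObj H] (u : G ⟶ H) [IsMonHom u]

include Q in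
omit [Q.IsStableUnderBaseChange] in
/-- stability of the largest open under inversion. -/
theorem inv_mem (V : G.left.Opens) (hV : Q (V.ι ≫ u.left))
    (hmax : ∀ W : G.left.Opens, Q (W.ι ≫ u.left) → W ≤ V) (g : G.left) (hg : g ∈ V) :
    ι[G].left g ∈ V := by
  let W : G.left.Opens := ι[G].left ⁻¹ᵁ V
  have hW : Q (W.ι ≫ u.left) := by
    have h1 : W.ι ≫ u.left = (ι[G].left ∣_ V) ≫ (V.ι ≫ u.left) ≫ ι[H].left := by
      have h2 : u.left = ι[G].left ≫ u.left ≫ ι[H].left := by
        rw [← Over.comp_left, ← Over.comp_left, ← GrpObj.inv_hom u, ← Category.assoc,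
          GrpObj.inv_comp_inv, Category.id_comp]
      conv_lhs => rw [h2]
      rw [← Category.assoc, ← morphismRestrict_ι]
      simp only [Category.assoc]
    rw [h1]
    have i1 : IsIso ι[H].left := inferInstanceAs (IsIso ((Over.forget S).map ι[H]))
    have i2 : IsIso ι[G].left := inferInstanceAs (IsIso ((Over.forget S).map ι[G]))
    have i3 : IsIso (ι[G].left ∣_ V) := inferInstance
    refine Q.comp_mem _ _ (Q.of_isIso _) (Q.comp_mem _ _ hV (Q.of_isIso _))
  have hle := hmax W hW
  have h3 : ι[G].left g ∈ W := by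
    show ι[G].left (ι[G].left g) ∈ V
    have : ι[G].left (ι[G].left g) = g := by
      rw [← Scheme.Hom.comp_apply, ← Over.comp_left, GrpObj.inv_comp_inv]
      rfl
    rw [this]
    exact hg
  exact hle h3

include Q in
/-- stability of the largest open under multiplication. -/
theorem mul_mem (himm : ∀ {X Y : Scheme.{u}} (f : X ⟶ Y) [IsOpenImmersion f], Q f)
    (hopen : ∀ {X Y : Scheme.{u}} (f : X ⟶ Y), Q f → IsOpenMap f)
    (hdesc : ∀ {X' X Z Y : Scheme.{u}} (p : X' ⟶ X) (i : X ⟶ Z) (g : Z ⟶ Y) [IsOpenImmersion i],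
      Function.Surjective p → Q (p ≫ i) → Q (p ≫ i ≫ g) → Q (i ≫ g))
    (V : G.left.Opens) (hV : Q (V.ι ≫ u.left)) (hVS : Q (V.ι ≫ G.hom))
    (hmax : ∀ W : G.left.Opens, Q (W.ι ≫ u.left) → W ≤ V)
    (z : ↥(G ⊗ G).left) (h1 : (fst G G).left z ∈ V) (h2 : (snd G G).left z ∈ V) :
    μ[G].left z ∈ V := by
  let VO : Over S := Over.mk (V.ι ≫ G.hom)
  let j : VO ⟶ G := Over.homMk V.ι rfl
  let m : VO ⊗ VO ⟶ G := (j ⊗ₘ j) ≫ μ[G]
  have hj : Q j.left := himm V.ι
  have hm : Q m.left := prop_tensorHom_mul Q j hj hVS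
  have hmu : Q (m ≫ u).left := by
    have : m ≫ u = ((j ≫ u) ⊗ₘ (j ≫ u)) ≫ μ[H] := by
      simp only [m, Category.assoc, IsMonHom.mul_hom, tensorHom_comp_tensorHom_assoc]
    rw [this]
    exact prop_tensorHom_mul Q (j ≫ u) hV hVS
  let W : G.left.Opens := ⟨Set.range m.left, (hopen _ hm).isOpen_range⟩
  let m' : (VO ⊗ VO).left ⟶ W.toScheme := IsOpenImmersion.lift W.ι m.left (by
    rw [Scheme.Opens.range_ι]; rfl)
  have hm' : m' ≫ W.ι = m.left := IsOpenImmersion.lift_fac _ _ _
  have hsurj : Function.Surjective m' := by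
    intro w
    obtain ⟨x, hx⟩ : W.ι w ∈ Set.range m.left := w.2
    refine ⟨x, ?_⟩
    apply W.ι.isOpenEmbedding.injective
    rw [← Scheme.Hom.comp_apply, hm']
    exact hx
  have hW : Q (W.ι ≫ u.left) := by
    refine hdesc m' W.ι u.left hsurj (hm' ▸ hm) ?_
    rw [← Category.assoc, hm', ← Over.comp_left]
    exact hmu
  have hle := hmax W hW
  apply hle
  show μ[G].left z ∈ Set.range m.left
  have hz : z ∈ Set.range (j ⊗ₘ j).left := by
    rw [Over.tensorHom_left, Scheme.Pullback.range_map]
    refine ⟨?_, ?_⟩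
    · show (fst G G).left z ∈ Set.range V.ι
      rw [Scheme.Opens.range_ι]; exact h1
    · show (snd G G).left z ∈ Set.range V.ι
      rw [Scheme.Opens.range_ι]; exact h2
  obtain ⟨x, rfl⟩ := hz
  exact ⟨x, by rw [Over.comp_left, Scheme.Hom.comp_apply]⟩

include Q in
/-- the largest open contains the unit point of every fibre it meets. -/
theorem one_mem (himm : ∀ {X Y : Scheme.{u}} (f : X ⟶ Y) [IsOpenImmersion f], Q f)
    (hopen : ∀ {X Y : Scheme.{u}} (f : X ⟶ Y), Q f → IsOpenMap f)
    (hdesc : ∀ {X' X Z Y : Scheme.{u}} (p : X' ⟶ X) (i : X ⟶ Z) (g : Z ⟶ Y) [IsOpenImmersion i],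
      Function.Surjective p → Q (p ≫ i) → Q (p ≫ i ≫ g) → Q (i ≫ g))
    (V : G.left.Opens) (hV : Q (V.ι ≫ u.left)) (hVS : Q (V.ι ≫ G.hom))
    (hmax : ∀ W : G.left.Opens, Q (W.ι ≫ u.left) → W ≤ V)
    (g : G.left) (hg : g ∈ V) (p : ↥(𝟙_ (Over S)).left)
    (hp : (𝟙_ (Over S)).hom p = G.hom g) : η[G].left p ∈ V := by
  let z : ↥(G ⊗ G).left := (lift (𝟙 G) ι[G]).left g
  have hz1 : (fst G G).left z = g := by
    show (fst G G).left ((lift (𝟙 G) ι[G]).left g) = g
    rw [← Scheme.Hom.comp_apply, ← Over.comp_left, lift_fst]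
    rfl
  have hz2 : (snd G G).left z = ι[G].left g := by
    show (snd G G).left ((lift (𝟙 G) ι[G]).left g) = _
    rw [← Scheme.Hom.comp_apply, ← Over.comp_left, lift_snd]
  have hz3 : μ[G].left z = η[G].left p := by
    show μ[G].left ((lift (𝟙 G) ι[G]).left g) = _
    rw [← Scheme.Hom.comp_apply, ← Over.comp_left]
    have : lift (𝟙 G) ι[G] ≫ μ[G] = toUnit G ≫ η[G] := by
      have h := GrpObj.lift_comp_inv_right (𝟙 G)
      rwa [Category.id_comp] at h
    rw [this, Over.comp_left, Scheme.Hom.comp_apply]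
    congr 1
    have h1 : (toUnit G).left g = G.hom g := rfl
    rw [h1, ← hp]
    rfl
  rw [← hz3]
  exact mul_mem Q G H u himm hopen hdesc V hV hVS hmax z (hz1 ▸ hg)
    (hz2 ▸ inv_mem Q G H u V hV hmax g hg)

end Groth.Agent.Lib.Seat24.OpenSubgrp
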