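import Mathlib
import Groth.Agent.Lib.Seat24OpenSubgrp
import Groth.Agent.Lib.Seat24HomShear
import Groth.Agent.Lib.Seat24GrpLocus
import Groth.Agent.Lib.Helper20FiberSq
import Groth.Agent.Lib.Helper20EtLocalSch
import Groth.Agent.Lib.Helper20SmoothDescSch

/-!
# Pointwise homogeneity of a homomorphism of group schemes, local form (seat 24)

For a homomorphism `u : G ⟶ H` of `S`-group schemes and a point `z` of `G ×_S G`, a property `Q`
of the stalk maps of `u` which is compatible with flat base change holds at `μ z` iff it holds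
at `fst z`, provided `u` is locally of finite presentation near `fst z` and `μ z` and `G` is flat
over `S` near `snd z`.
-/

set_option autoImplicit false
set_option linter.style.haveILetI false
universe u

open CategoryTheory CategoryTheory.Limits MonoidalCategory CartesianMonoidalCategory MonObj GrpObj
  AlgebraicGeometry

namespace Groth.Agent.Lib.Seat24.StalkShear

open Groth.Agent.Lib.Helper20.FlatDesc Groth.Agent.Lib.Helper3.GrpHomQF
  Groth.Agent.Lib.Helper3.GrpFibDim Groth.Agent.Lib.Seat24.OpenSubgrp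

/-- compatibility of a pointwise property of stalk maps with flat base change. -/
def PtwBC (Q : ∀ {R S : Type u} [CommRing R] [CommRing S], (R →+* S) → Prop) : Prop :=
  ∀ {P X Y Y' : Scheme.{u}} {fst' : P ⟶ X} {snd' : P ⟶ Y'} {f : X ⟶ Y} {g : Y' ⟶ Y},
    IsPullback fst' snd' f g → LocallyOfFinitePresentation f → Flat g → ∀ p : P,
      (Q (snd'.stalkMap p).hom ↔ Q (f.stalkMap (fst' p)).hom)

theorem ptwBC_formallySmooth : PtwBC (fun φ => RingHom.FormallySmooth φ) := by
  intro P X Y Y' fst' snd' f g sq hf hg p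
  exact ⟨Groth.Agent.Lib.Seat24.HomShear.formallySmooth_stalkMap_of_isPullback_of_flat sq p,
    Groth.Agent.Lib.Helper5.FibMorLoci.formallySmooth_stalkMap_of_isPullback sq p⟩

theorem ptwBC_formallyUnramified : PtwBC (fun φ => RingHom.FormallyUnramified φ) := by
  intro P X Y Y' fst' snd' f g sq hf hg p
  refine ⟨Groth.Agent.Lib.Helper20.FlatDesc.formallyUnramified_stalkMap_of_isPullback sq p, ?_⟩
  intro H
  obtain ⟨U, hU, hUf⟩ := Groth.Agent.Lib.Helper20.EtLocal.exists_formallyUnramified_nbhd f _ H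
  have htop : IsPullback (fst' ∣_ U) (fst' ⁻¹ᵁ U).ι U.ι fst' := isPullback_morphismRestrict fst' U
  haveI : FormallyUnramified ((fst' ⁻¹ᵁ U).ι ≫ snd') :=
    MorphismProperty.of_isPullback (P := @FormallyUnramified) (htop.paste_vert sq) hUf
  exact Groth.Agent.Lib.Helper20.EtLocal.formallyUnramified_stalkMap_of_nbhd snd' p
    (fst' ⁻¹ᵁ U) hU

variable {S : Scheme.{u}} (G H : Over S) [GrpObj G] [GrpObj H] (u : G ⟶ H) [IsMonHom u]

section

variable (Q : ∀ {R S : Type u} [CommRing R] [CommRing S], (R →+* S) → Prop)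
  (hQ : RingHom.RespectsIso Q) (hbc : PtwBC Q)

include hQ hbc in
omit [GrpObj G] [GrpObj H] [IsMonHom u] in
/-- `u × id` has `Q` at `w` iff `u` has `Q` at the first projection of `w`. -/
theorem whiskerRight_stalk_iff (w : ↥(G ⊗ G).left) (U V₀ : G.left.Opens)
    (h1 : (fst G G).left w ∈ U) (h0 : (snd G G).left w ∈ V₀)
    (hU : LocallyOfFinitePresentation (U.ι ≫ u.left)) (hV₀ : Flat (V₀.ι ≫ G.hom)) :
    Q ((u ▷ G).left.stalkMap w).hom ↔ Q (u.left.stalkMap ((fst G G).left w)).hom := by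
  let UO : Over S := Over.mk (U.ι ≫ G.hom)
  let jU : UO ⟶ G := Over.homMk U.ι rfl
  let VO : Over S := Over.mk (V₀.ι ≫ G.hom)
  let j₀ : VO ⟶ G := Over.homMk V₀.ι rfl
  let a : UO ⟶ H := jU ≫ u
  have hw : w ∈ Set.range (jU ⊗ₘ j₀).left := by
    rw [Over.tensorHom_left, Scheme.Pullback.range_map]
    refine ⟨?_, ?_⟩
    · show (fst G G).left w ∈ Set.range U.ι
      rw [Scheme.Opens.range_ι]; exact h1
    · show (snd G G).left w ∈ Set.range V₀.ι
      rw [Scheme.Opens.range_ι]; exact h0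
  obtain ⟨w₁, rfl⟩ := hw
  haveI i1 : IsOpenImmersion (jU ⊗ₘ j₀).left := by
    rw [Over.tensorHom_left]
    haveI : IsOpenImmersion jU.left := inferInstanceAs (IsOpenImmersion U.ι)
    haveI : IsOpenImmersion j₀.left := inferInstanceAs (IsOpenImmersion V₀.ι)
    infer_instance
  haveI i2 : IsOpenImmersion (H ◁ j₀).left := by
    rw [Over.whiskerLeft_left]
    haveI : IsOpenImmersion j₀.left := inferInstanceAs (IsOpenImmersion V₀.ι)
    infer_instance
  haveI i3 : IsOpenImmersion jU.left := inferInstanceAs (IsOpenImmersion U.ι)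
  have hcomm : (jU ⊗ₘ j₀) ≫ (u ▷ G) = (a ▷ VO) ≫ (H ◁ j₀) := by
    apply CartesianMonoidalCategory.hom_ext <;> simp [a]
  have hcomm' : (jU ⊗ₘ j₀).left ≫ (u ▷ G).left = (a ▷ VO).left ≫ (H ◁ j₀).left := by
    rw [← Over.comp_left, hcomm, Over.comp_left]
  have hpb := isPullback_whiskerRight' a VO
  haveI : Flat (fst H VO).left :=
    MorphismProperty.of_isPullback (P := @Flat) (isPullback_fst H VO) hV₀
  have hfst : (fst G G).left ((jU ⊗ₘ j₀).left w₁) = jU.left ((fst UO VO).left w₁) := by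
    rw [← Scheme.Hom.comp_apply, ← Scheme.Hom.comp_apply, ← Over.comp_left, ← Over.comp_left,
      tensorHom_fst]
  rw [hfst]
  exact (stalkMap_comp_iff_left hQ (jU ⊗ₘ j₀).left (u ▷ G).left w₁).symm.trans
    ((stalkMap_congr_iff (Q := Q) hcomm' w₁).trans
      ((stalkMap_comp_iff_right hQ (a ▷ VO).left (H ◁ j₀).left w₁).trans
        ((hbc hpb hU inferInstance w₁).trans
          (stalkMap_comp_iff_left hQ jU.left u.left _))))

include hQ hbc in
/-- `u` has `Q` at `a · b` iff at `a`. -/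
theorem stalk_mul_iff (z : ↥(G ⊗ G).left) (U₁ U₂ V₀ : G.left.Opens)
    (h1 : (fst G G).left z ∈ U₁) (h2 : μ[G].left z ∈ U₂) (h0 : (snd G G).left z ∈ V₀)
    (hU₁ : LocallyOfFinitePresentation (U₁.ι ≫ u.left))
    (hU₂ : LocallyOfFinitePresentation (U₂.ι ≫ u.left)) (hV₀ : Flat (V₀.ι ≫ G.hom)) :
    Q (u.left.stalkMap (μ[G].left z)).hom ↔ Q (u.left.stalkMap ((fst G G).left z)).hom := by
  have hc := congrArg (fun f => f.left) (shear_comm u)
  simp only [Over.comp_left] at hc
  haveI : IsIso (shearIso' G).hom.left := inferInstance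
  haveI : IsIso (shearHom u).hom.left := inferInstance
  have e1 : Q ((u ▷ G).left.stalkMap ((shearIso' G).hom.left z)).hom ↔
      Q ((u ▷ G).left.stalkMap z).hom := by
    rw [← stalkMap_comp_iff_left hQ (shearIso' G).hom.left (u ▷ G).left z,
      stalkMap_congr_iff (Q := Q) hc z,
      stalkMap_comp_iff_right hQ (u ▷ G).left (shearHom u).hom.left z]
  have hpt : (fst G G).left ((shearIso' G).hom.left z) = μ[G].left z := by
    rw [← Scheme.Hom.comp_apply, ← Over.comp_left]
    congr 2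
    simp [shearIso', fst_mul_snd]
  have hpt2 : (snd G G).left ((shearIso' G).hom.left z) = (snd G G).left z := by
    rw [← Scheme.Hom.comp_apply, ← Over.comp_left]
    congr 2
    simp [shearIso']
  rw [whiskerRight_stalk_iff G H u Q hQ hbc _ U₂ V₀ (hpt ▸ h2) (hpt2 ▸ h0) hU₂ hV₀,
    whiskerRight_stalk_iff G H u Q hQ hbc z U₁ V₀ h1 h0 hU₁ hV₀, hpt] at e1
  exact e1

end

section nbhd

open Groth.Agent.Lib.Seat24.GrpLocus Groth.Agent.Lib.Helper20.EtLocal

/-- a point of the locus of a restriction lies in the locus. -/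
lemma mem_locus_of_restrict (P : MorphismProperty Scheme.{u}) [P.RespectsIso] {X Y : Scheme.{u}}
    (f : X ⟶ Y) (U₀ : X.Opens) (x : U₀.toScheme) (hx : x ∈ locus P (U₀.ι ≫ f)) :
    U₀.ι x ∈ locus P f := by
  obtain ⟨U', hxU', hU'⟩ := (mem_locus P (U₀.ι ≫ f) x).mp hx
  refine (mem_locus P f _).mpr ⟨U₀.ι ''ᵁ U', ⟨x, hxU', rfl⟩, ?_⟩
  rw [← Scheme.Hom.isoImage_inv_ι, Category.assoc, Category.assoc]
  exact (P.cancel_left_of_respectsIso _ _).mpr hU'

/-- near a point where `f` is locally of finite presentation and the stalk map is formally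
smooth, `f` is smooth. -/
theorem mem_locus_smooth_of_stalk {X Y : Scheme.{u}} (f : X ⟶ Y) (U₀ : X.Opens)
    (hU₀ : LocallyOfFinitePresentation (U₀.ι ≫ f)) (x : X) (hx : x ∈ U₀)
    (H : (f.stalkMap x).hom.FormallySmooth) : x ∈ locus @Smooth f := by
  have H' : ((U₀.ι ≫ f).stalkMap ⟨x, hx⟩).hom.FormallySmooth :=
    (stalkMap_ι_comp_iff RingHom.FormallySmooth.respectsIso f U₀ ⟨x, hx⟩).mpr H
  obtain ⟨U', hxU', hU'⟩ := exists_smooth_nbhd (U₀.ι ≫ f) ⟨x, hx⟩ H'
  exact mem_locus_of_restrict @Smooth f U₀ ⟨x, hx⟩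
    ((mem_locus @Smooth (U₀.ι ≫ f) _).mpr ⟨U', hxU', hU'⟩)

/-- near a point where `f` is locally of finite type and the stalk map is formally
unramified, `f` is unramified. -/
theorem mem_locus_unram_of_stalk {X Y : Scheme.{u}} (f : X ⟶ Y) (U₀ : X.Opens)
    (hU₀ : LocallyOfFiniteType (U₀.ι ≫ f)) (x : X) (hx : x ∈ U₀)
    (H : (f.stalkMap x).hom.FormallyUnramified) : x ∈ locus @FormallyUnramified f := by
  have H' : ((U₀.ι ≫ f).stalkMap ⟨x, hx⟩).hom.FormallyUnramified :=
    (stalkMap_ι_comp_iff RingHom.FormallyUnramified.respectsIso f U₀ ⟨x, hx⟩).mpr H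
  obtain ⟨U', hxU', hU'⟩ := exists_formallyUnramified_nbhd (U₀.ι ≫ f) ⟨x, hx⟩ H'
  exact mem_locus_of_restrict @FormallyUnramified f U₀ ⟨x, hx⟩
    ((mem_locus @FormallyUnramified (U₀.ι ≫ f) _).mpr ⟨U', hxU', hU'⟩)

end nbhd

end Groth.Agent.Lib.Seat24.StalkShear
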