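import Mathlib
import Groth.Agent.S5338
import Groth.Agent.Lib.Helper22Thick
import Groth.Agent.Lib.Helper6LfpComp

/-!
# Local finite presentation lifts along nilpotent thickenings of the base, for flat sources
(helper24)
-/

set_option autoImplicit false
universe u

open TensorProduct

namespace Groth.Agent.Lib.Seat24.ThickLFP

/-- ring-level statement: `A → R → S`, `n ⊆ A` nilpotent, `T = R / nR`, `S` flat over `A`,
`T → S ⊗[R] T` of finite presentation ⟹ `R → S` of finite presentation. -/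
theorem finitePresentation_of_tensor {A R S T : Type u} [CommRing A] [CommRing R] [CommRing S]
    [CommRing T] [Algebra A R] [Algebra R S] [Algebra A S] [IsScalarTower A R S] [Algebra R T]
    (n : Ideal A) (hn : IsNilpotent n)
    (hπ : Function.Surjective (algebraMap R T))
    (hker : RingHom.ker (algebraMap R T) = n.map (algebraMap A R))
    (hflat : Module.Flat A S)
    (hfp : (Algebra.TensorProduct.includeRight : T →ₐ[R] S ⊗[R] T).toRingHom.FinitePresentation) :
    Algebra.FinitePresentation R S := by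
  set I : Ideal R := n.map (algebraMap A R) with hI
  refine (Groth.Agent.S5338.result A R S n hn).2 hflat ?_
  -- the equivalences
  have hker' : RingHom.ker (Algebra.ofId R T) = I := hker
  let eT : (R ⧸ I) ≃ₐ[R] T :=
    (Ideal.quotientEquivAlgOfEq R hker'.symm).trans
      (Ideal.quotientKerAlgEquivOfSurjective (f := Algebra.ofId R T) hπ)
  let e : (S ⧸ I.map (algebraMap R S)) ≃ₐ[S] S ⊗[R] T :=
    (Algebra.TensorProduct.quotIdealMapEquivTensorQuot S I).trans
      (Algebra.TensorProduct.congr AlgEquiv.refl eT)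
  rw [← RingHom.finitePresentation_algebraMap]
  have key : algebraMap (R ⧸ I) (S ⧸ I.map (algebraMap R S)) =
      (e.symm : S ⊗[R] T →+* S ⧸ I.map (algebraMap R S)).comp
        ((Algebra.TensorProduct.includeRight : T →ₐ[R] S ⊗[R] T).toRingHom.comp
          (eT : (R ⧸ I) →+* T)) := by
    apply Ideal.Quotient.ringHom_ext
    ext r
    simp only [RingHom.coe_comp, Function.comp_apply]
    have h1 : eT (Ideal.Quotient.mk I r) = algebraMap R T r := eT.commutes r
    have h2 : (Algebra.TensorProduct.includeRight : T →ₐ[R] S ⊗[R] T) (algebraMap R T r) =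
        algebraMap S (S ⊗[R] T) (algebraMap R S r) := by
      rw [Algebra.TensorProduct.includeRight_apply]
      calc (1 : S) ⊗ₜ[R] (algebraMap R T r) = (1 : S) ⊗ₜ[R] (r • (1 : T)) := by
            rw [Algebra.algebraMap_eq_smul_one]
        _ = (r • (1 : S)) ⊗ₜ[R] (1 : T) := (TensorProduct.smul_tmul r 1 1).symm
        _ = (algebraMap R S r) ⊗ₜ[R] (1 : T) := by rw [← Algebra.algebraMap_eq_smul_one]
        _ = algebraMap S (S ⊗[R] T) (algebraMap R S r) := by
            rw [Algebra.TensorProduct.algebraMap_apply]; rfl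
    have h3 : e.symm (algebraMap S (S ⊗[R] T) (algebraMap R S r)) =
        algebraMap S (S ⧸ I.map (algebraMap R S)) (algebraMap R S r) := e.symm.commutes _
    change _ = e.symm ((Algebra.TensorProduct.includeRight : T →ₐ[R] S ⊗[R] T)
      (eT (Ideal.Quotient.mk I r)))
    rw [h1, h2, h3]
    rfl
  rw [key]
  refine RingHom.FinitePresentation.comp ?_ (RingHom.FinitePresentation.comp hfp ?_)
  · exact RingHom.FinitePresentation.of_surjective _ e.symm.surjective (by
      have : RingHom.ker (e.symm : S ⊗[R] T →+* S ⧸ I.map (algebraMap R S)) = ⊥ :=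
        (RingHom.injective_iff_ker_eq_bot _).mp e.symm.injective
      rw [this]; exact Submodule.fg_bot)
  · exact RingHom.FinitePresentation.of_surjective _ eT.surjective (by
      have : RingHom.ker (eT : (R ⧸ I) →+* T) = ⊥ :=
        (RingHom.injective_iff_ker_eq_bot _).mp eT.injective
      rw [this]; exact Submodule.fg_bot)

open AlgebraicGeometry CategoryTheory CategoryTheory.Limits Groth.Agent.Lib.Helper22.Thick

/-- **Local finite presentation lifts along a nilpotent thickening of an affine base, for sources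
flat over the base.**  `i : S₀ → S` a closed immersion with nilpotent kernel, `S` affine,
`q : Y → S`, `f : X → Y` with `X` flat over `S`, `iY : Y₀ → Y` the base change of `i`.  If the base
change of `f` to `Y₀` is locally of finite presentation, so is `f`. -/
theorem lfp_of_thickening {S S₀ X Y Y₀ : Scheme.{u}} (i : S₀ ⟶ S) [IsClosedImmersion i]
    [IsAffine S] (hnil : IsNilpotent (RingHom.ker (i.app ⊤).hom))
    (q : Y ⟶ S) (f : X ⟶ Y) [Flat (f ≫ q)] (iY : Y₀ ⟶ Y) (q₀ : Y₀ ⟶ S₀)
    (sqY : IsPullback iY q₀ q i) [LocallyOfFinitePresentation (pullback.snd f iY)] :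
    LocallyOfFinitePresentation f := by
  have : IsClosedImmersion iY := MorphismProperty.of_isPullback sqY.flip ‹_›
  rw [HasRingHomProperty.iff_appLE (P := @LocallyOfFinitePresentation)]
  intro U V e
  have hU : IsAffineOpen U.1 := U.2
  have hV : IsAffineOpen V.1 := V.2
  have hW : IsAffineOpen (iY ⁻¹ᵁ U.1) := hU.preimage iY
  have hS : IsAffineOpen (⊤ : S.Opens) := isAffineOpen_top S
  have e₁ : Spec.map (f.appLE U.1 V.1 e) ≫ hU.fromSpec = hV.fromSpec ≫ f :=
    IsAffineOpen.SpecMap_appLE_fromSpec f hU hV e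
  have e₂ : Spec.map (iY.appLE U.1 (iY ⁻¹ᵁ U.1) le_rfl) ≫ hU.fromSpec = hW.fromSpec ≫ iY :=
    IsAffineOpen.SpecMap_appLE_fromSpec iY hU hW le_rfl
  have hLFP : LocallyOfFinitePresentation (pullback.snd (Spec.map (f.appLE U.1 V.1 e))
      (Spec.map (iY.appLE U.1 (iY ⁻¹ᵁ U.1) le_rfl))) := by
    have h1 : pullback.snd (Spec.map (f.appLE U.1 V.1 e))
        (Spec.map (iY.appLE U.1 (iY ⁻¹ᵁ U.1) le_rfl)) ≫ hW.fromSpec =
        pullback.map _ _ f iY hV.fromSpec hW.fromSpec hU.fromSpec e₁ e₂ ≫ pullback.snd f iY := by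
      rw [pullback.map, pullback.lift_snd]
    have h2 : LocallyOfFinitePresentation (pullback.snd (Spec.map (f.appLE U.1 V.1 e))
        (Spec.map (iY.appLE U.1 (iY ⁻¹ᵁ U.1) le_rfl)) ≫ hW.fromSpec) := by
      rw [h1]; infer_instance
    exact Groth.Agent.Lib.Helper6.locallyOfFinitePresentation_of_comp
      (g := hW.fromSpec) inferInstance h2
  -- the rings
  have eU : U.1 ≤ q ⁻¹ᵁ ⊤ := le_top
  have eV : V.1 ≤ (f ≫ q) ⁻¹ᵁ ⊤ := le_top
  have htower : q.appLE ⊤ U.1 eU ≫ f.appLE U.1 V.1 e = (f ≫ q).appLE ⊤ V.1 eV :=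
    Scheme.Hom.appLE_comp_appLE f q ⊤ U.1 V.1 eU e
  have hπsurj : Function.Surjective (iY.appLE U.1 (iY ⁻¹ᵁ U.1) le_rfl).hom := by
    rw [← Scheme.Hom.app_eq_appLE]
    exact iY.app_surjective U.1 hU
  have hflat : ((f ≫ q).appLE ⊤ V.1 eV).hom.Flat := Flat.flat_appLE (f ≫ q) hS hV eV
  -- the kernel of `Γ(Y, U) → Γ(Y₀, iY⁻¹ U)`
  have hker : RingHom.ker (iY.appLE U.1 (iY ⁻¹ᵁ U.1) le_rfl).hom =
      (RingHom.ker (i.app ⊤).hom).map (q.appLE ⊤ U.1 eU).hom := by
    rw [← Scheme.Hom.app_eq_appLE]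
    apply le_antisymm
    · exact ker_app_le sqY hS hU eU
    · rw [Ideal.map_le_iff_le_comap]
      intro a ha
      rw [RingHom.mem_ker] at ha
      rw [Ideal.mem_comap, RingHom.mem_ker]
      have hc : q.appLE ⊤ U.1 eU ≫ iY.app U.1 =
          i.app ⊤ ≫ q₀.appLE (i ⁻¹ᵁ ⊤) (iY ⁻¹ᵁ U.1) (by
            intro y hy; trivial) := by
        rw [Scheme.Hom.app_eq_appLE, Scheme.Hom.app_eq_appLE, Scheme.Hom.appLE_comp_appLE,
          Scheme.Hom.appLE_comp_appLE]
        congr 1
        exact sqY.w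
      have := congrArg (fun φ => φ.hom a) hc
      simp only [CommRingCat.hom_comp, RingHom.comp_apply] at this
      rw [this, ha, map_zero]
  algebraize [(q.appLE ⊤ U.1 eU).hom, (f.appLE U.1 V.1 e).hom, ((f ≫ q).appLE ⊤ V.1 eV).hom,
    (iY.appLE U.1 (iY ⁻¹ᵁ U.1) le_rfl).hom]
  have : IsScalarTower Γ(S, ⊤) Γ(Y, U.1) Γ(X, V.1) := by
    refine IsScalarTower.of_algebraMap_eq' ?_
    have := congrArg (fun φ => φ.hom) htower
    exact this.symm
  have h3 : LocallyOfFinitePresentation
      ((pullbackSpecIso Γ(Y, U.1) Γ(X, V.1) Γ(Y₀, iY ⁻¹ᵁ U.1)).inv ≫ pullback.snd _ _) := by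
    have := hLFP
    infer_instance
  rw [pullbackSpecIso_inv_snd,
    HasRingHomProperty.Spec_iff (P := @LocallyOfFinitePresentation)] at h3
  have hfin := finitePresentation_of_tensor (A := Γ(S, ⊤)) (R := Γ(Y, U.1)) (S := Γ(X, V.1))
    (T := Γ(Y₀, iY ⁻¹ᵁ U.1)) (RingHom.ker (i.app ⊤).hom) hnil hπsurj hker hflat h3
  exact RingHom.finitePresentation_algebraMap.mpr hfin

end Groth.Agent.Lib.Seat24.ThickLFP
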