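import Mathlib
import Groth.Agent.Lib.Seat24ArtinHomog

/-!
# The unit section of a group scheme and unramifiedness (helper24)
-/

set_option autoImplicit false
universe u

open CategoryTheory CategoryTheory.Limits MonoidalCategory CartesianMonoidalCategory MonObj GrpObj
  AlgebraicGeometry

namespace Groth.Agent.Lib.Seat24.UnitSec

open Groth.Agent.Lib.Seat24.GrpLocus Groth.Agent.Lib.Seat24.GrpHomLoci
  Groth.Agent.Lib.Helper5.FibMorLoci Groth.Agent.Lib.Helper3.GrpFibDim
  Groth.Agent.Lib.Helper20.FlatDesc

variable {S : Scheme.{u}} (G : Over S) [GrpObj G]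

lemma unit_hom : η[G].left ≫ G.hom = 𝟙 S := by
  exact Over.w η[G]

/-- if `G` is locally of finite type near the unit section and has unramified fibres, the unit
section is an open immersion. -/
theorem isOpenImmersion_unit_of_fibres (W : G.left.Opens) (hW : ∀ s : S, η[G].left s ∈ W)
    (hlft : LocallyOfFiniteType (W.ι ≫ G.hom))
    (hfib : ∀ s : S, FormallyUnramified (pullback.snd G.hom (S.fromSpecResidueField s))) :
    IsOpenImmersion η[G].left := by
  have hr : Set.range η[G].left ⊆ Set.range W.ι := by
    rw [Scheme.Opens.range_ι]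
    rintro _ ⟨s, rfl⟩
    exact hW s
  let ηW : S ⟶ W.toScheme := IsOpenImmersion.lift W.ι η[G].left hr
  have hηW : ηW ≫ W.ι = η[G].left := IsOpenImmersion.lift_fac _ _ _
  let fW := W.ι ≫ G.hom
  have hsec : ηW ≫ fW = 𝟙 S := by
    rw [← Category.assoc, hηW, unit_hom]
  -- the unit section lands in the unramified locus of `fW`
  have hmem : ∀ s : S, ηW s ∈ unramLocus fW := by
    intro s
    let t := S.fromSpecResidueField s
    let pt : Spec (S.residueField s) := IsLocalRing.closedPoint (S.residueField s)
    have hpt : t pt = s := Scheme.fromSpecResidueField_apply _ _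
    have hfs : fW (ηW s) = s := by
      rw [← Scheme.Hom.comp_apply, hsec]; rfl
    obtain ⟨p, hp1, -⟩ := Scheme.Pullback.exists_preimage_pullback (f := fW) (g := t) (ηW s) pt
      (by rw [hfs, hpt])
    -- `pullback.snd fW t` is unramified
    have hsq : IsPullback (pullback.fst fW t) (pullback.snd fW t) fW t :=
      IsPullback.of_hasPullback _ _
    let j : pullback fW t ⟶ pullback G.hom t :=
      pullback.map fW t G.hom t W.ι (𝟙 _) (𝟙 _) (by simp [fW]) (by simp)
    have hj : j ≫ pullback.snd G.hom t = pullback.snd fW t :=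
      (pullback.lift_snd _ _ _).trans (Category.comp_id _)
    have : IsOpenImmersion j := inferInstance
    have hfs' : FormallyUnramified (pullback.snd G.hom t) := hfib s
    have : FormallyUnramified j := inferInstance
    have hfu : FormallyUnramified (pullback.snd fW t) := by
      rw [← hj]; exact MorphismProperty.comp_mem _ _ _ ‹_› hfs'
    have := formallyUnramified_stalkMap_of_isPullback hsq p (FormallyUnramified.stalkMap _ p)
    rw [hp1] at this
    exact this
  let U : W.toScheme.Opens := unramLocus fW
  have hU : FormallyUnramified (U.ι ≫ fW) :=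
    prop_ι_comp_of_le_locus @FormallyUnramified fW U
      (fun x hx => (mem_unramLocus_iff_mem_locus fW x).mp hx)
  have hrU : Set.range ηW ⊆ Set.range U.ι := by
    rw [Scheme.Opens.range_ι]
    rintro _ ⟨s, rfl⟩
    exact hmem s
  let ηU : S ⟶ U.toScheme := IsOpenImmersion.lift U.ι ηW hrU
  have hηU : ηU ≫ U.ι = ηW := IsOpenImmersion.lift_fac _ _ _
  have hsecU : ηU ≫ (U.ι ≫ fW) = 𝟙 S := by
    rw [← Category.assoc, hηU, hsec]
  have : IsOpenImmersion ηU := isOpenImmersion_of_section (U.ι ≫ fW) ηU hsecU
  rw [← hηW, ← hηU]
  infer_instance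

/-- the structure morphism is an isomorphism on the open image of an open-immersion unit
section. -/
theorem isIso_opensRange_unit [IsOpenImmersion η[G].left] :
    IsIso (η[G].left.opensRange.ι ≫ G.hom) := by
  have h1 : (η[G].left.isoOpensRange).hom ≫ η[G].left.opensRange.ι = η[G].left := by simp
  have h2 : (η[G].left.isoOpensRange).hom ≫ (η[G].left.opensRange.ι ≫ G.hom) = 𝟙 S := by
    rw [← Category.assoc, h1, unit_hom]
  have h3 : η[G].left.opensRange.ι ≫ G.hom = (η[G].left.isoOpensRange).inv :=
    (Iso.hom_comp_eq_id _).mp h2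
  rw [h3]
  infer_instance

/-- if the unit section is an open immersion, every fibre is unramified and locally of finite
presentation (no finiteness assumption on `G`). -/
theorem fibre_unram_of_unit_isOpenImmersion (h : IsOpenImmersion η[G].left) (s : S) :
    FormallyUnramified (pullback.snd G.hom (S.fromSpecResidueField s)) ∧
      LocallyOfFinitePresentation (pullback.snd G.hom (S.fromSpecResidueField s)) := by
  let t := S.fromSpecResidueField s
  let Gs : Over (Spec (CommRingCat.of (S.residueField s))) := (Over.pullback t).obj G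
  letI : GrpObj Gs := Functor.grpObjObj
  let W : G.left.Opens := η[G].left.opensRange
  have hiso : IsIso (W.ι ≫ G.hom) := isIso_opensRange_unit G
  let Ws : Gs.left.Opens := (pullback.fst G.hom t) ⁻¹ᵁ W
  have hsq : IsPullback (pullback.fst G.hom t ∣_ W) (Ws.ι ≫ Gs.hom) (W.ι ≫ G.hom) t :=
    (isPullback_morphismRestrict _ W).paste_vert (IsPullback.of_hasPullback G.hom t)
  have hiso' : IsIso (Ws.ι ≫ Gs.hom) :=
    MorphismProperty.of_isPullback (P := MorphismProperty.isomorphisms Scheme) hsq hiso
  have hne : (Ws : Set Gs.left).Nonempty := by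
    let pt : Spec (S.residueField s) := IsLocalRing.closedPoint (S.residueField s)
    have hpt : t pt = s := Scheme.fromSpecResidueField_apply _ _
    have hs : G.hom (η[G].left s) = s := by
      rw [← Scheme.Hom.comp_apply, unit_hom]; rfl
    obtain ⟨p, hp1, -⟩ := Scheme.Pullback.exists_preimage_pullback (f := G.hom) (g := t)
      (η[G].left s) pt (by rw [hs, hpt])
    exact ⟨p, by change pullback.fst G.hom t p ∈ W; rw [hp1]; exact ⟨s, rfl⟩⟩
  have hlft : LocallyOfFiniteType Gs.hom :=
    Groth.Agent.Lib.Seat24.ArtinHomog.lft_of_nonempty_open Gs Ws hne inferInstance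
  have : LocallyOfFiniteType (toUnit Gs).left := hlft
  have hfu : FormallyUnramified (toUnit Gs).left :=
    Groth.Agent.Lib.Seat24.ArtinHomog.unram_of_nonempty_open Gs _ (toUnit Gs) Ws hne
      (inferInstanceAs (FormallyUnramified (Ws.ι ≫ Gs.hom)))
  exact ⟨hfu, Groth.Agent.Lib.Seat24.ArtinHomog.lfp_of_lft_of_isLocallyNoetherian Gs.hom⟩

/-- if `G` is locally of finite type and the unit section is an open immersion, `G` is
unramified. -/
theorem unram_of_unit_isOpenImmersion [LocallyOfFiniteType G.hom]
    (h : IsOpenImmersion η[G].left) : FormallyUnramified G.hom := by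
  have hG : ∀ s : S, LocallyOfFiniteType (pullback.snd G.hom (S.fromSpecResidueField s)) :=
    fun s => inferInstance
  have : LocallyOfFiniteType (toUnit G).left := ‹LocallyOfFiniteType G.hom›
  have key := unram_iff_forall_fibHom G (𝟙_ (Over S)) (toUnit G) hG
  change FormallyUnramified (toUnit G).left
  rw [key]
  intro s
  have h1 := (fibre_unram_of_unit_isOpenImmersion G h s).1
  -- `fibHom` composed with the isomorphism `pullback (𝟙 S) t ≅ Spec κ(s)` is `pullback.snd`
  have h2 : fibHom G (𝟙_ (Over S)) (toUnit G) s ≫
      pullback.snd (𝟙_ (Over S)).hom (S.fromSpecResidueField s) =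
      pullback.snd G.hom (S.fromSpecResidueField s) := by
    simp only [fibHom, Over.pullback_map_left]
    exact pullback.lift_snd _ _ _
  have h3 : IsIso (pullback.snd (𝟙_ (Over S)).hom (S.fromSpecResidueField s)) :=
    inferInstanceAs (IsIso (pullback.snd (𝟙 S) (S.fromSpecResidueField s)))
  rw [← h2] at h1
  exact (MorphismProperty.cancel_right_of_respectsIso @FormallyUnramified _ _).mp h1

end Groth.Agent.Lib.Seat24.UnitSec
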