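import Mathlib
import Groth.Agent.Lib.Seat24DegVal
import Groth.Agent.Lib.Seat24DVRUnits

/-!
# Units of a finitely generated domain over a field, modulo algebraic constants

For a finitely generated `k`-algebra `A` which is a domain, there is a homomorphism from `Aˣ` to a
free abelian group of finite rank whose kernel consists of elements integral over `k`
(`exists_hom_ker_isIntegral`).  Proof: Noether normalisation `k[x₁..x_s] ↪ A` (finite), the
valuation at infinity (total degree) on `k(x₁..x_s)`, whose valuation ring is a DVR `O`, the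
Dedekind integral closure of `O` in `Frac A` with finitely many primes (`Seat24DVRUnits`), and the
fact that a unit integral over both `k[x₁..x_s]` and `O` has minimal polynomial with coefficients
in `k[x₁..x_s] ∩ O = k`.
-/

universe u
open MvPolynomial Polynomial

namespace Groth.Agent.Lib.Seat24.UnitsFG

open Groth.Agent.Lib.Seat24

theorem exists_hom_of_finite_mvPolynomial (k : Type u) [Field k] (s : ℕ) [NeZero s]
    (A : Type u) [CommRing A] [IsDomain A] [Algebra k A]
    [Algebra (MvPolynomial (Fin s) k) A] [IsScalarTower k (MvPolynomial (Fin s) k) A]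
    [FaithfulSMul (MvPolynomial (Fin s) k) A] [Module.Finite (MvPolynomial (Fin s) k) A] :
    ∃ (n : ℕ) (φ : Aˣ →* Multiplicative (Fin n → ℤ)), ∀ u ∈ φ.ker, IsIntegral k (u : A) := by
  set R := MvPolynomial (Fin s) k with hR
  let F := FractionRing R
  let K := FractionRing A
  have hinjRK : Function.Injective (algebraMap R K) := by
    rw [IsScalarTower.algebraMap_eq R A K]
    exact (IsFractionRing.injective A K).comp (FaithfulSMul.algebraMap_injective R A)
  have : FaithfulSMul R K := (faithfulSMul_iff_algebraMap_injective R K).2 hinjRK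
  let _ : Algebra F K := FractionRing.liftAlgebra R K
  have : IsScalarTower R F K := FractionRing.isScalarTower_liftAlgebra R K
  have : Algebra.IsIntegral R A := inferInstance
  have : FiniteDimensional F K := Module.Finite.of_isLocalization R A (nonZeroDivisors R)
  have : Nonempty (Fin s) := ⟨⟨0, Nat.pos_of_ne_zero (NeZero.ne s)⟩⟩
  let O := (DegVal.degValF (k := k) (σ := Fin s) F).valuationSubring
  let _ : Algebra O K := ((algebraMap F K).comp O.subtype).toAlgebra
  have : IsScalarTower O F K := IsScalarTower.of_algebraMap_eq (fun x => rfl)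
  obtain ⟨n, φ₀, hφ₀⟩ := DVRUnits.exists_hom_ker_isIntegral O F K
  refine ⟨n, φ₀.comp (Units.map (algebraMap A K).toMonoidHom), fun u hu => ?_⟩
  have hu' : IsIntegral O (algebraMap A K (u : A)) := hφ₀ _ hu
  have huR : IsIntegral R (u : A) := Algebra.IsIntegral.isIntegral _
  have h1 : minpoly F (algebraMap A K (u : A)) = (minpoly R (u : A)).map (algebraMap R F) :=
    minpoly.isIntegrallyClosed_eq_field_fractions F K huR
  have h2 : minpoly F (algebraMap A K (u : A)) =
      (minpoly O (algebraMap A K (u : A))).map (algebraMap O F) :=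
    minpoly.isIntegrallyClosed_eq_field_fractions' F hu'
  have h3 : ∀ i, ∃ c : k, (minpoly R (u : A)).coeff i = MvPolynomial.C c := by
    intro i
    apply DegVal.exists_C_of_degValF_le_one F
    have h4 : algebraMap R F ((minpoly R (u : A)).coeff i) =
        algebraMap O F ((minpoly O (algebraMap A K (u : A))).coeff i) := by
      rw [← Polynomial.coeff_map, ← Polynomial.coeff_map, ← h1, ← h2]
    rw [h4]
    exact (Valuation.mem_valuationSubring_iff _ _).1
      ((minpoly O (algebraMap A K (u : A))).coeff i).2
  have h5 : minpoly R (u : A) ∈ Polynomial.lifts (algebraMap k R) := by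
    rw [Polynomial.lifts_iff_coeff_lifts]
    intro i
    obtain ⟨c, hc⟩ := h3 i
    exact ⟨c, hc.symm⟩
  obtain ⟨q, hq, -, hqm⟩ := Polynomial.lifts_and_degree_eq_and_monic h5 (minpoly.monic huR)
  refine ⟨q, hqm, ?_⟩
  have h6 : Polynomial.eval₂ (algebraMap R A) (u : A) (q.map (algebraMap k R)) = 0 := by
    rw [hq]
    exact minpoly.aeval R (u : A)
  rwa [Polynomial.eval₂_map, ← IsScalarTower.algebraMap_eq] at h6


/-- **Units of a finitely generated domain over a field**: there is a homomorphism from `Aˣ` to a
free abelian group of finite rank whose kernel consists of elements integral (algebraic) over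
`k`. -/
theorem exists_hom_ker_isIntegral (k A : Type u) [Field k] [CommRing A] [IsDomain A] [Algebra k A]
    [Algebra.FiniteType k A] :
    ∃ (n : ℕ) (φ : Aˣ →* Multiplicative (Fin n → ℤ)), ∀ u ∈ φ.ker, IsIntegral k (u : A) := by
  obtain ⟨s, g, hinj, hfin⟩ := exists_finite_inj_algHom_of_fg k A
  let _ : Algebra (MvPolynomial (Fin s) k) A := g.toRingHom.toAlgebra
  have : IsScalarTower k (MvPolynomial (Fin s) k) A :=
    IsScalarTower.of_algebraMap_eq (fun x => (g.commutes x).symm)
  have : FaithfulSMul (MvPolynomial (Fin s) k) A :=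
    (faithfulSMul_iff_algebraMap_injective _ _).2 hinj
  have : Module.Finite (MvPolynomial (Fin s) k) A := hfin
  rcases Nat.eq_zero_or_pos s with rfl | hs
  · refine ⟨0, 1, fun u _ => ?_⟩
    have hsurj : Function.Surjective (algebraMap k (MvPolynomial (Fin 0) k)) :=
      MvPolynomial.C_surjective (Fin 0)
    have : Algebra.IsIntegral k (MvPolynomial (Fin 0) k) :=
      Algebra.isIntegral_of_surjective hsurj
    exact isIntegral_trans (R := k) (A := MvPolynomial (Fin 0) k) _
      (Algebra.IsIntegral.isIntegral _)
  · have : NeZero s := ⟨hs.ne'⟩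
    exact exists_hom_of_finite_mvPolynomial k s A

/-- A commutative group which embeds in a finitely generated commutative group is finitely
generated. -/
theorem _root_.Groth.Agent.Lib.Seat24.UnitsFG.group_fg_of_injective {G H : Type*} [CommGroup G]
    [CommGroup H] [Group.FG H] (f : G →* H) (hf : Function.Injective f) : Group.FG G := by
  rw [GroupFG.iff_add_fg, ← Module.Finite.iff_addGroup_fg]
  have hH : Module.Finite ℤ (Additive H) := by
    rw [Module.Finite.iff_addGroup_fg, ← GroupFG.iff_add_fg]; infer_instance
  exact Module.Finite.of_injective (MonoidHom.toAdditive f).toIntLinearMap hf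

/-- The quotient of the unit group of a finitely generated domain over a field by any subgroup
containing all units integral over `k` is finitely generated. -/
theorem fg_quotient (k A : Type u) [Field k] [CommRing A] [IsDomain A] [Algebra k A]
    [Algebra.FiniteType k A] (N : Subgroup Aˣ) (hN : ∀ u : Aˣ, IsIntegral k (u : A) → u ∈ N) :
    Group.FG (Aˣ ⧸ N) := by
  obtain ⟨n, φ, hφ⟩ := exists_hom_ker_isIntegral k A
  have hker : φ.ker ≤ N := fun u hu => hN u (hφ u hu)
  -- `Aˣ ⧸ ker φ` embeds in a f.g. abelian group
  have h1 : Group.FG (Aˣ ⧸ φ.ker) := by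
    have : Group.FG (Multiplicative (Fin n → ℤ)) := by
      rw [← AddGroup.fg_iff_mul_fg, ← Module.Finite.iff_addGroup_fg]
      infer_instance
    exact group_fg_of_injective (G := Aˣ ⧸ φ.ker) (H := Multiplicative (Fin n → ℤ))
      (QuotientGroup.kerLift φ) (QuotientGroup.kerLift_injective φ)
  refine Group.fg_of_surjective (f := QuotientGroup.map _ _ (MonoidHom.id _) hker) ?_
  exact QuotientGroup.map_surjective_of_surjective φ.ker N (MonoidHom.id _)
    QuotientGroup.mk_surjective hker

end Groth.Agent.Lib.Seat24.UnitsFG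

namespace Groth.Agent.Lib.Seat24.UnitsFG

/-- A commutative group `G` with a subgroup `C` such that `G ⧸ C` is finitely generated and
torsion-free admits a surjection onto `ℤⁿ` with kernel exactly `C`. -/
theorem exists_hom_ker_eq {G : Type*} [CommGroup G] (C : Subgroup G) (hfg : Group.FG (G ⧸ C))
    (htf : ∀ (g : G) (m : ℕ), 0 < m → g ^ m ∈ C → g ∈ C) :
    ∃ (n : ℕ) (v : G →* Multiplicative (Fin n → ℤ)), Function.Surjective v ∧ v.ker = C := by
  let M := Additive (G ⧸ C)
  have hfin : Module.Finite ℤ M := by
    rw [Module.Finite.iff_addGroup_fg, ← GroupFG.iff_add_fg]; exact hfg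
  have htf' : Module.IsTorsionFree ℤ M := by
    refine Module.IsTorsionFree.of_smul_eq_zero (fun r m hrm => ?_)
    by_cases hr : r = 0
    · exact Or.inl hr
    right
    obtain ⟨g, hg⟩ := QuotientGroup.mk_surjective (Additive.toMul m)
    have h0 : Additive.toMul (r • m) = Additive.toMul (0 : M) := congrArg _ hrm
    rw [toMul_zsmul, toMul_zero, ← hg, ← QuotientGroup.mk_zpow, QuotientGroup.eq_one_iff] at h0
    have h2 : g ^ r.natAbs ∈ C := by
      rcases Int.natAbs_eq r with h | h
      · rw [h, zpow_natCast] at h0; exact h0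
      · rw [h, zpow_neg, zpow_natCast] at h0
        simpa using C.inv_mem h0
    have h3 := htf g r.natAbs (Int.natAbs_pos.2 hr) h2
    have h4 : (g : G ⧸ C) = 1 := (QuotientGroup.eq_one_iff g).2 h3
    rw [hg] at h4
    exact Additive.toMul.injective (h4.trans toMul_zero.symm)
  have hfree : Module.Free ℤ M := inferInstance
  let b := Module.finBasis ℤ M
  let e : M ≃ₗ[ℤ] (Fin (Module.finrank ℤ M) → ℤ) := b.equivFun
  let v₀ : (G ⧸ C) →* Multiplicative (Fin (Module.finrank ℤ M) → ℤ) :=
    AddMonoidHom.toMultiplicativeRight (e : M →+ _)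
  have hv₀ : Function.Bijective v₀ := by
    rw [AddMonoidHom.coe_toMultiplicativeRight]
    exact Multiplicative.ofAdd.bijective.comp (e.bijective.comp Additive.ofMul.bijective)
  refine ⟨_, v₀.comp (QuotientGroup.mk' C), hv₀.2.comp (QuotientGroup.mk'_surjective C), ?_⟩
  ext g
  rw [MonoidHom.mem_ker, MonoidHom.comp_apply, ← map_one v₀, hv₀.1.eq_iff,
    QuotientGroup.mk'_apply, QuotientGroup.eq_one_iff]

end Groth.Agent.Lib.Seat24.UnitsFG

namespace Groth.Agent.Lib.Seat24.UnitsFG

/-- If finitely many homomorphisms from a commutative group `G` to free abelian groups of finite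
rank have joint kernel contained in the subgroup `N`, then `G ⧸ N` is finitely generated. -/
theorem fg_quotient_of_forall_ker_le {G : Type*} [CommGroup G] {ι : Type*} [Finite ι] (n : ι → ℕ)
    (φ : ∀ i, G →* Multiplicative (Fin (n i) → ℤ)) (N : Subgroup G)
    (h : ∀ g : G, (∀ i, φ i g = 1) → g ∈ N) : Group.FG (G ⧸ N) := by
  let Φ : G →* Multiplicative (∀ i, Fin (n i) → ℤ) :=
    { toFun := fun g => Multiplicative.ofAdd (fun i => Multiplicative.toAdd (φ i g))
      map_one' := by
        simp only [map_one, toAdd_one]
        rfl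
      map_mul' := fun a b => by
        simp only [map_mul, toAdd_mul]
        rfl }
  have hker : Φ.ker ≤ N := by
    intro g hg
    refine h g (fun i => ?_)
    have h1 := congrFun (congrArg Multiplicative.toAdd (MonoidHom.mem_ker.1 hg)) i
    exact Multiplicative.toAdd.injective h1
  have h1 : Group.FG (G ⧸ Φ.ker) := by
    have : Group.FG (Multiplicative (∀ i, Fin (n i) → ℤ)) := by
      rw [← AddGroup.fg_iff_mul_fg, ← Module.Finite.iff_addGroup_fg]
      infer_instance
    exact group_fg_of_injective (G := G ⧸ Φ.ker) (H := Multiplicative (∀ i, Fin (n i) → ℤ))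
      (QuotientGroup.kerLift Φ) (QuotientGroup.kerLift_injective Φ)
  refine Group.fg_of_surjective (f := QuotientGroup.map _ _ (MonoidHom.id _) hker) ?_
  exact QuotientGroup.map_surjective_of_surjective Φ.ker N (MonoidHom.id _)
    QuotientGroup.mk_surjective hker

/-- Single homomorphism version of `fg_quotient_of_forall_ker_le`. -/
theorem fg_quotient_of_ker_le {G : Type*} [CommGroup G] {n : ℕ}
    (φ : G →* Multiplicative (Fin n → ℤ)) (N : Subgroup G) (h : φ.ker ≤ N) :
    Group.FG (G ⧸ N) :=
  fg_quotient_of_forall_ker_le (ι := Unit) (fun _ => n) (fun _ => φ) N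
    (fun _ hg => h (MonoidHom.mem_ker.2 (hg ())))

end Groth.Agent.Lib.Seat24.UnitsFG
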