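import Mathlib
import Groth.Agent.Lib.Seat24UnitsFG

/-!
# Units of schemes locally of finite type over a field: scheme-level form of `Seat24UnitsFG`
-/

universe u
open CategoryTheory AlgebraicGeometry

namespace Groth.Agent.Lib.Seat24.UnitsFGScheme

open Groth.Agent.Lib.Seat24

/-- Scheme-level form of `UnitsFG.exists_hom_ker_isIntegral`: for `X` locally of finite type over a
field `k` and an affine open `U` whose ring of sections is a domain, there is a homomorphism from
the global units of `X` to a free abelian group of finite rank whose kernel consists of functions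
whose restriction to `U` is integral over `k`. -/
theorem exists_hom_of_affineOpen {k : Type u} [Field k] {X : Scheme.{u}}
    (f : X ⟶ Spec (CommRingCat.of k)) [LocallyOfFiniteType f] (U : X.Opens) (hU : IsAffineOpen U)
    [IsDomain Γ(X, U)] :
    ∃ (n : ℕ) (φ : (Γ(X, ⊤))ˣ →* Multiplicative (Fin n → ℤ)), ∀ u ∈ φ.ker,
      ((X.presheaf.map (homOfLE (le_top : U ≤ ⊤)).op).hom.comp
        (f.appTop.hom.comp (Scheme.ΓSpecIso (CommRingCat.of k)).inv.hom)).IsIntegralElem
        ((X.presheaf.map (homOfLE (le_top : U ≤ ⊤)).op).hom (u : Γ(X, ⊤))) := by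
  set res := (X.presheaf.map (homOfLE (le_top : U ≤ ⊤)).op).hom with hres
  set ι := f.appTop.hom.comp (Scheme.ΓSpecIso (CommRingCat.of k)).inv.hom with hι
  have hρ : (res.comp ι).FiniteType := by
    have h1 := HasRingHomProperty.appLE (P := @LocallyOfFiniteType) f inferInstance
      ⟨⊤, isAffineOpen_top _⟩ ⟨U, hU⟩ le_top
    have h2 : res.comp ι = (f.appLE ⊤ U le_top).hom.comp
        (Scheme.ΓSpecIso (CommRingCat.of k)).inv.hom := by
      rw [hres, hι, ← RingHom.comp_assoc]
      congr 1
    rw [h2]
    exact h1.comp (RingHom.FiniteType.of_surjective _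
      (ConcreteCategory.bijective_of_isIso (Scheme.ΓSpecIso (CommRingCat.of k)).inv).2)
  let _ : Algebra k Γ(X, U) := (res.comp ι).toAlgebra
  have : Algebra.FiniteType k Γ(X, U) := hρ
  obtain ⟨n, φ₀, h⟩ := UnitsFG.exists_hom_ker_isIntegral k Γ(X, U)
  exact ⟨n, φ₀.comp (Units.map res.toMonoidHom), fun u hu => h _ hu⟩

end Groth.Agent.Lib.Seat24.UnitsFGScheme
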