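import Mathlib
import Groth.Agent.Lib.Seat24UnitsGrp

/-!
# Units on a product of integral varieties are products of units (Rosenlicht) (helper24)
-/

set_option autoImplicit false
set_option linter.style.haveILetI false
set_option linter.unusedSectionVars false
universe u
open CategoryTheory CategoryTheory.Limits AlgebraicGeometry MonoidalCategory
  CartesianMonoidalCategory

namespace Groth.Agent.Lib.Seat24.UnitsProd

open Groth.Agent.Lib.Seat24.UnitsScheme Groth.Agent.Lib.Seat24.UnitsGrp

variable {k : Type u} [Field k] [IsAlgClosed k]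

/-- **Rosenlicht**: over an algebraically closed field, every unit on the product of two integral
schemes locally of finite type is a product of a unit of `X` and a unit of `Y`. -/
theorem exists_units_mul_eq (X Y : Over (Spec (CommRingCat.of k))) [IsIntegral X.left]
    [LocallyOfFiniteType X.hom] [IsIntegral Y.left] [LocallyOfFiniteType Y.hom]
    (f : Γ((X ⊗ Y).left, ⊤)) (hf : IsUnit f) :
    ∃ (g : Γ(X.left, ⊤)) (h : Γ(Y.left, ⊤)), IsUnit g ∧ IsUnit h ∧
      f = (fst X Y).left.appTop g * (snd X Y).left.appTop h := by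
  obtain ⟨x₀, -⟩ := Groth.Agent.Lib.Seat75.OrbitBdry.exists_rational_point_mem k X Set.univ
    isClosed_univ Set.univ_nonempty
  obtain ⟨y₀, -⟩ := Groth.Agent.Lib.Seat75.OrbitBdry.exists_rational_point_mem k Y Set.univ
    isClosed_univ Set.univ_nonempty
  let s₁ : X ⟶ X ⊗ Y := lift (𝟙 X) (toUnit X ≫ y₀)
  let s₂ : Y ⟶ X ⊗ Y := lift (toUnit Y ≫ x₀) (𝟙 Y)
  have hpt : x₀ ≫ s₁ = y₀ ≫ s₂ := by
    apply CartesianMonoidalCategory.hom_ext
    · simp only [s₁, s₂, Category.assoc, lift_fst, Category.comp_id]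
      rw [← Category.assoc, toUnit_unique (y₀ ≫ toUnit Y) (𝟙 _), Category.id_comp]
    · simp only [s₁, s₂, Category.assoc, lift_snd, Category.comp_id]
      rw [← Category.assoc, toUnit_unique (x₀ ≫ toUnit X) (𝟙 _), Category.id_comp]
  set χ₀ := s₁.left.appTop f with hχ₀
  set u := s₂.left.appTop f with hu
  have hχ₀u : IsUnit χ₀ := hf.map _
  have huu : IsUnit u := hf.map _
  set c := x₀.left.appTop χ₀ with hc
  have hcu : IsUnit c := hχ₀u.map _
  have hc' : y₀.left.appTop u = c := by
    rw [hc, hχ₀, hu, appTop_comp_apply, appTop_comp_apply, hpt]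
  obtain ⟨cinv, hcinv⟩ : ∃ cinv, c * cinv = 1 := ⟨((hcu.unit⁻¹ : _ˣ) : _), by
    have := hcu.unit.mul_inv
    rwa [IsUnit.unit_spec] at this⟩
  have hτX : ∀ z, x₀.left.appTop ((toUnit X).left.appTop z) = z := by
    intro z
    rw [appTop_comp_apply, toUnit_unique (x₀ ≫ toUnit X) (𝟙 _), Over.id_left,
      Scheme.Hom.id_appTop]
    rfl
  set χ := χ₀ * (toUnit X).left.appTop cinv with hχ
  have hχe : x₀.left.appTop χ = 1 := by
    rw [hχ, map_mul, hτX, ← hc, hcinv]
  have hχu : IsUnit χ := by
    refine hχ₀u.mul (IsUnit.map _ ?_)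
    exact IsUnit.of_mul_eq_one _ (by rw [mul_comm]; exact hcinv)
  set D := (fst X Y).left.appTop χ * (snd X Y).left.appTop u with hD
  have hDu : IsUnit D := (hχu.map _).mul (huu.map _)
  obtain ⟨F, hFmul, hFu⟩ : ∃ F : Γ((X ⊗ Y).left, ⊤), F * D = f ∧ IsUnit F := by
    refine ⟨f * ((hDu.unit⁻¹ : _ˣ) : _), ?_, hf.mul (Units.isUnit _)⟩
    rw [mul_assoc]
    have : ((hDu.unit⁻¹ : _ˣ) : Γ((X ⊗ Y).left, ⊤)) * D = 1 := by
      have := hDu.unit.inv_mul
      rwa [IsUnit.unit_spec] at this
    rw [this, mul_one]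
  have hid : ∀ (Z : Over (Spec (CommRingCat.of k))) (z : Γ(Z.left, ⊤)),
      (𝟙 Z : Z ⟶ Z).left.appTop z = z := by
    intro Z z
    rw [Over.id_left, Scheme.Hom.id_appTop]
    rfl
  have key : F = 1 := by
    refine eq_one_of_slices X Y x₀ y₀ F hFu ?_ ?_
    · -- slice `x₀ × Y`
      have h := congrArg s₂.left.appTop hFmul
      rw [hD, map_mul, map_mul, appTop_comp_apply, appTop_comp_apply] at h
      simp only [s₂, lift_fst, lift_snd] at h
      rw [← appTop_comp_apply, hχe, map_one, hid, one_mul] at h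
      exact huu.mul_left_injective (by simp only [h, one_mul]; rfl)
    · -- slice `X × y₀`
      have h := congrArg s₁.left.appTop hFmul
      rw [hD, map_mul, map_mul, appTop_comp_apply, appTop_comp_apply] at h
      simp only [s₁, lift_fst, lift_snd] at h
      rw [← appTop_comp_apply (toUnit X) y₀, hc', hid, hχ, mul_assoc, ← map_mul,
        mul_comm cinv c, hcinv, map_one, mul_one] at h
      exact hχ₀u.mul_left_injective (by simp only [h, one_mul]; rfl)
  refine ⟨χ, u, hχu, huu, ?_⟩
  rw [← hFmul, key, one_mul]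

end Groth.Agent.Lib.Seat24.UnitsProd
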