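import Mathlib
import Groth.Agent.Lib.LeadCSA

/-!
# Seat25: étale (separable) commutative algebras generated by one element

* `isSeparable_pi`: a finite product of separable field extensions is a separable algebra
  (every element has separable minimal polynomial).
* `adjoin_image_of_generator`: transport along an injective algebra hom of a monogenic separable
  algebra.
* `exists_generator_pi`: over an infinite field, `Fin n → L` is monogenic for `L/k` finite separable.
-/

set_option autoImplicit false

open Polynomial

namespace Groth.Agent.Lib.Seat25.EtaleGen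

section SepPi

variable {k : Type*} [Field k]

/-- two distinct monic irreducible polynomials over a field are coprime -/
theorem isCoprime_of_irreducible_monic_ne {p q : k[X]} (hp : Irreducible p) (hq : Irreducible q)
    (hpm : p.Monic) (hqm : q.Monic) (hne : p ≠ q) : IsCoprime p q := by
  rw [hp.coprime_iff_not_dvd]
  intro hdvd
  exact hne (eq_of_monic_of_associated hpm hqm (hp.associated_of_dvd hq hdvd))

/-- A finite product of separable field extensions is separable: all elements have separable
minimal polynomial. -/
theorem isSeparable_pi {ι : Type*} [Finite ι] (F : ι → Type*) [∀ i, Field (F i)]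
    [∀ i, Algebra k (F i)] [∀ i, Algebra.IsSeparable k (F i)] :
    Algebra.IsSeparable k (∀ i, F i) := by
  classical
  have := Fintype.ofFinite ι
  refine ⟨fun y => ?_⟩
  set s : Finset k[X] := Finset.univ.image (fun i => minpoly k (y i)) with hs
  have hsep : (∏ q ∈ s, q).Separable := by
    have := separable_prod' (f := fun q : k[X] => q) (s := s) ?_ ?_
    · simpa using this
    · intro p hp q hq hne
      obtain ⟨i, -, rfl⟩ := Finset.mem_image.mp hp
      obtain ⟨j, -, rfl⟩ := Finset.mem_image.mp hq
      have hi : IsIntegral k (y i) := (Algebra.IsSeparable.isSeparable k (y i)).isIntegral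
      have hj : IsIntegral k (y j) := (Algebra.IsSeparable.isSeparable k (y j)).isIntegral
      exact isCoprime_of_irreducible_monic_ne (minpoly.irreducible hi) (minpoly.irreducible hj)
        (minpoly.monic hi) (minpoly.monic hj) hne
    · intro p hp
      obtain ⟨i, -, rfl⟩ := Finset.mem_image.mp hp
      exact Algebra.IsSeparable.isSeparable k (y i)
  have hzero : aeval y (∏ q ∈ s, q) = 0 := by
    funext i
    have h1 : (aeval y (∏ q ∈ s, q)) i = aeval (y i) (∏ q ∈ s, q) := by
      have := aeval_algHom_apply (Pi.evalAlgHom k F i) y (∏ q ∈ s, q)
      simpa using this.symm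
    rw [h1, Pi.zero_apply]
    have hmem : minpoly k (y i) ∈ s := Finset.mem_image.mpr ⟨i, Finset.mem_univ _, rfl⟩
    obtain ⟨c, hc⟩ := Finset.dvd_prod_of_mem (fun q : k[X] => q) hmem
    rw [hc, map_mul, minpoly.aeval, zero_mul]
  exact hsep.of_dvd (minpoly.dvd k y hzero)

end SepPi

section Transfer

variable {k : Type*} [Field k] {E : Type*} [Ring E] [Algebra k E] {A : Type*} [Ring A] [Algebra k A]

/-- transport of a monogenic separable algebra along an injective algebra hom -/
theorem adjoin_image_of_generator (j : E →ₐ[k] A) (hj : Function.Injective j) (x : E)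
    (hx : Algebra.adjoin k {x} = ⊤) [Algebra.IsSeparable k E] :
    Algebra.IsSeparable k (Algebra.adjoin k ({j x} : Set A)) ∧
      Module.finrank k (Algebra.adjoin k ({j x} : Set A)) = Module.finrank k E := by
  have h1 : Algebra.adjoin k ({j x} : Set A) = j.range := by
    have := AlgHom.map_adjoin j ({x} : Set E)
    rw [Set.image_singleton, hx, Algebra.map_top] at this
    exact this.symm
  let e1 : E ≃ₐ[k] j.range := AlgEquiv.ofInjective j hj
  let e2 : j.range ≃ₐ[k] Algebra.adjoin k ({j x} : Set A) := Subalgebra.equivOfEq _ _ h1.symm
  let e : E ≃ₐ[k] Algebra.adjoin k ({j x} : Set A) := e1.trans e2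
  exact ⟨AlgEquiv.Algebra.isSeparable e, (e.toLinearEquiv.finrank_eq).symm⟩

end Transfer


section Mono

variable {k : Type*} [Field k] {L : Type*} [Field L] [Algebra k L]

/-- for `θ` a root of `f`, the set of translations `t` with `f(X - t) = g` is finite -/
theorem finite_setOf_comp_eq (f g : k[X]) (hf : f ≠ 0) (θ : L) (hθ : aeval θ f = 0) :
    {t : k | f.comp (X - C t) = g}.Finite := by
  by_cases hg : g = 0
  · convert Set.finite_empty
    ext t
    simp only [Set.mem_ofPred_eq, Set.mem_empty_iff_false, iff_false, hg]
    intro h
    have hd : (f.comp (X - C t)).natDegree = f.natDegree := by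
      rw [natDegree_comp, natDegree_X_sub_C, mul_one]
    apply hf
    have h2 : f.comp (X - C t) = 0 := h
    have : (f.comp (X - C t)).comp (X + C t) = f := by
      rw [comp_assoc]; simp
    rw [← this, h2, zero_comp]
  · have hinj : Function.Injective (fun t : k => θ + algebraMap k L t) := by
      intro a b h
      exact (algebraMap k L).injective (add_left_cancel h)
    refine Set.Finite.subset ((g.rootSet_finite L).preimage hinj.injOn) ?_
    intro t ht
    simp only [Set.mem_ofPred_eq] at ht
    simp only [Set.mem_preimage, mem_rootSet, ne_eq, hg, not_false_eq_true, true_and]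
    rw [← ht, aeval_comp]
    simp [hθ]

/-- a choice of `n` translation parameters with pairwise distinct translated polynomials -/
theorem exists_translations [Infinite k] (f : k[X]) (hf : f ≠ 0) (θ : L) (hθ : aeval θ f = 0)
    (n : ℕ) : ∃ c : Fin n → k, ∀ i j, i ≠ j → f.comp (X - C (c i)) ≠ f.comp (X - C (c j)) := by
  induction n with
  | zero => exact ⟨Fin.elim0, fun i => i.elim0⟩
  | succ n ih =>
    obtain ⟨c, hc⟩ := ih
    have hfin : (⋃ i : Fin n, {t : k | f.comp (X - C t) = f.comp (X - C (c i))}).Finite :=
      Set.finite_iUnion fun i => finite_setOf_comp_eq f _ hf θ hθ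
    obtain ⟨t, ht⟩ := hfin.exists_notMem
    simp only [Set.mem_iUnion, Set.mem_ofPred_eq, not_exists] at ht
    refine ⟨Fin.snoc c t, ?_⟩
    intro i j hij
    induction i using Fin.lastCases with
    | last =>
      induction j using Fin.lastCases with
      | last => exact absurd rfl hij
      | cast j => simpa using ht j
    | cast i =>
      induction j using Fin.lastCases with
      | last => simpa using fun h => ht i h.symm
      | cast j =>
        have : i ≠ j := fun h => hij (by rw [h])
        simpa using hc i j this

end Mono


section Mono2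

variable {k : Type*} [Field k] {L : Type*} [Field L] [Algebra k L]

/-- Over an infinite field, a finite power of a finite separable field extension is generated by
one element. -/
theorem exists_generator_pi [Infinite k] [FiniteDimensional k L] [Algebra.IsSeparable k L] (n : ℕ) :
    ∃ x : Fin n → L, Algebra.adjoin k {x} = ⊤ := by
  classical
  obtain ⟨θ, hθ⟩ := Field.exists_primitive_element k L
  have hθi : IsIntegral k θ := Algebra.IsIntegral.isIntegral θ
  set f := minpoly k θ with hf
  have hf0 : f ≠ 0 := minpoly.ne_zero hθi
  have hdeg : f.natDegree = Module.finrank k L := by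
    have h1 := IntermediateField.adjoin.finrank hθi
    rw [hθ, IntermediateField.finrank_top'] at h1
    exact h1.symm
  obtain ⟨c, hc⟩ := exists_translations f hf0 θ (minpoly.aeval k θ) n
  let x : Fin n → L := fun i => θ + algebraMap k L (c i)
  have hxi : ∀ i, IsIntegral k (x i) := fun i => Algebra.IsIntegral.isIntegral _
  have hmin : ∀ i, minpoly k (x i) = f.comp (X - C (c i)) := fun i => minpoly.add_algebraMap θ (c i)
  have hX : IsIntegral k x := Algebra.IsIntegral.isIntegral x
  refine ⟨x, ?_⟩
  -- each `minpoly (x i)` divides `minpoly x`
  have hdvd : ∀ i ∈ (Finset.univ : Finset (Fin n)), minpoly k (x i) ∣ minpoly k x := by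
    intro i _
    apply minpoly.dvd
    have := aeval_algHom_apply (Pi.evalAlgHom k (fun _ : Fin n => L) i) x (minpoly k x)
    rw [minpoly.aeval, map_zero] at this
    simpa using this
  have hcop : ((Finset.univ : Finset (Fin n)) : Set (Fin n)).Pairwise
      (Function.onFun IsCoprime fun i => minpoly k (x i)) := by
    intro i _ j _ hij
    refine isCoprime_of_irreducible_monic_ne (minpoly.irreducible (hxi i))
      (minpoly.irreducible (hxi j)) (minpoly.monic (hxi i)) (minpoly.monic (hxi j)) ?_
    show minpoly k (x i) ≠ minpoly k (x j)
    rw [hmin, hmin]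
    exact hc i j hij
  have hprod : ∏ i, minpoly k (x i) ∣ minpoly k x := Finset.prod_dvd_of_coprime hcop hdvd
  have hdegprod : (∏ i, minpoly k (x i)).natDegree = n * Module.finrank k L := by
    rw [natDegree_prod_of_monic _ _ (fun i _ => minpoly.monic (hxi i))]
    simp only [hmin, natDegree_comp, natDegree_X_sub_C, mul_one, hdeg, Finset.sum_const,
      Finset.card_univ, Fintype.card_fin, smul_eq_mul]
  have hle : n * Module.finrank k L ≤ (minpoly k x).natDegree := by
    rw [← hdegprod]
    exact natDegree_le_of_dvd hprod (minpoly.ne_zero hX)
  have hfr : Module.finrank k (Algebra.adjoin k {x}) = (minpoly k x).natDegree := by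
    rw [← Algebra.adjoin.powerBasis_dim hX]
    exact (Algebra.adjoin.powerBasis hX).finrank
  have hE : Module.finrank k (Fin n → L) = n * Module.finrank k L := by
    rw [Module.finrank_pi_fintype]
    simp
  apply Subalgebra.toSubmodule_injective
  rw [Algebra.top_toSubmodule]
  apply Submodule.eq_top_of_finrank_eq
  rw [Subalgebra.finrank_toSubmodule]
  apply le_antisymm
  · exact (Subalgebra.toSubmodule (Algebra.adjoin k {x})).finrank_le
  · rw [hE, hfr]; exact hle

end Mono2


section FiniteCase

variable {k : Type*} [Field k]

/-- over a finite field, the matrix algebra `M_n(k)` contains a separable monogenic commutative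
subalgebra of dimension `n` (a copy of the extension of degree `n`). -/
theorem exists_matrix_embedding_of_finite [Finite k] (n : ℕ) [NeZero n] :
    ∃ (F : Type) (_ : Field F) (_ : Algebra k F) (_ : Algebra.IsSeparable k F)
      (j : F →ₐ[k] Matrix (Fin n) (Fin n) k) (x : F),
      Function.Injective j ∧ Algebra.adjoin k {x} = ⊤ ∧ Module.finrank k F = n := by
  classical
  obtain ⟨p, hp⟩ := CharP.exists k
  have hprime : p.Prime := by
    rcases CharP.char_is_prime_or_zero k p with h | h
    · exact h
    · exact absurd h (CharP.char_ne_zero_of_finite k p)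
  have : Fact p.Prime := ⟨hprime⟩
  let F := FiniteField.Extension k p n
  have hfr : Module.finrank k F = n := FiniteField.finrank_extension k p n
  have : Algebra.IsSeparable k F := inferInstance
  obtain ⟨θ, hθ⟩ := Field.exists_primitive_element k F
  have hθi : IsIntegral k θ := Algebra.IsIntegral.isIntegral θ
  let b : Module.Basis (Fin n) k F := Module.finBasisOfFinrankEq k F hfr
  refine ⟨F, inferInstance, inferInstance, inferInstance, Algebra.leftMulMatrix b, θ,
    Algebra.leftMulMatrix_injective b, ?_, hfr⟩
  have := IntermediateField.adjoin_simple_toSubalgebra_of_isAlgebraic hθi.isAlgebraic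
  rw [hθ] at this
  rw [← this]
  rfl

end FiniteCase


universe u v

section Main

variable {k : Type u} [Field k] {A : Type v} [Ring A] [Algebra k A] [Algebra.IsCentral k A]
  [IsSimpleRing A] [FiniteDimensional k A]

theorem sq_eq_sq_nat {a b : ℕ} (h : a ^ 2 = b ^ 2) : a = b :=
  Nat.pow_left_injective (by norm_num : (2 : ℕ) ≠ 0) h

/-- the core: a monogenic separable commutative algebra `E` of dimension `r` embeds in `A` -/
theorem exists_etale_generator (r : ℕ) (hA : Module.finrank k A = r ^ 2) :
    ∃ x : A, Algebra.IsSeparable k (Algebra.adjoin k ({x} : Set A)) ∧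
      Module.finrank k (Algebra.adjoin k ({x} : Set A)) = r := by
  classical
  have : IsArtinianRing A := IsArtinianRing.of_finite k A
  obtain ⟨n, hn, D, hD1, hD2, hD3, ⟨e⟩⟩ :=
    IsSimpleRing.exists_algEquiv_matrix_divisionRing_finite k A
  have : Algebra.IsCentral k (Matrix (Fin n) (Fin n) D) := Algebra.IsCentral.of_algEquiv k A _ e
  have hDc : Algebra.IsCentral k D := Groth.Agent.Lib.LeadCSA.isCentral_of_matrix (n := n)
  have hfrA : Module.finrank k A = n * n * Module.finrank k D := by
    rw [e.toLinearEquiv.finrank_eq, Module.finrank_matrix]
    simp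
  rcases finite_or_infinite k with hfin | hinf
  · -- finite field: D = k
    have : Finite D := Module.finite_of_finite k
    have hcomm : ∀ a b : D, a * b = b * a := by
      let _ := littleWedderburn D
      exact fun a b => mul_comm a b
    have hsurj : Function.Surjective (algebraMap k D) := by
      intro d
      have hd : d ∈ Subalgebra.center k D := by
        rw [Subalgebra.mem_center_iff]
        exact fun b => hcomm b d
      exact Algebra.mem_bot.mp (hDc.out hd)
    have hfrD : Module.finrank k D = 1 := by
      have hbij : Function.Bijective (Algebra.ofId k D) :=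
        ⟨(algebraMap k D).injective, hsurj⟩
      have := (AlgEquiv.ofBijective (Algebra.ofId k D) hbij).toLinearEquiv.finrank_eq
      rw [← this, Module.finrank_self]
    have hrn : r = n := by
      apply sq_eq_sq_nat
      rw [← hA, hfrA, hfrD]; ring
    obtain ⟨F, hF1, hF2, hF3, j, x, hj, hx, hfr⟩ := exists_matrix_embedding_of_finite (k := k) n
    let J : F →ₐ[k] A := (e.symm.toAlgHom.comp ((Algebra.ofId k D).mapMatrix)).comp j
    have hJ : Function.Injective J := by
      refine (e.symm.injective.comp ?_).comp hj
      intro M N hMN
      ext a b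
      have := congrFun (congrFun hMN a) b
      exact (algebraMap k D).injective this
    obtain ⟨h1, h2⟩ := adjoin_image_of_generator J hJ x hx
    exact ⟨J x, h1, by rw [h2, hfr, hrn]⟩
  · -- infinite field
    obtain ⟨L, hLc, hLs, hLcent⟩ :=
      Groth.Agent.Lib.LeadCSA.exists_separable_self_centralizing (k := k) (D := D)
    have hfrD : Module.finrank k D = Module.finrank k L * Module.finrank k L := by
      have := Groth.Agent.Lib.LeadCSA.centralizer_finrank (k := k) (A := D) L
      rw [hLcent] at this
      exact this
    have hrn : r = n * Module.finrank k L := by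
      apply sq_eq_sq_nat
      rw [← hA, hfrA, hfrD]; ring
    let _ : Field L := Groth.Agent.Lib.LeadCSA.fieldOfComm L hLc
    obtain ⟨x, hx⟩ := exists_generator_pi (k := k) (L := L) n
    let J : (Fin n → L) →ₐ[k] A :=
      (e.symm.toAlgHom.comp (Matrix.diagonalAlgHom k)).comp (L.val.compLeft (Fin n))
    have hJ : Function.Injective J := by
      refine (e.symm.injective.comp ?_).comp ?_
      · exact Matrix.diagonal_injective
      · intro a b hab
        funext i
        exact Subtype.ext (congrFun hab i)
    have : Algebra.IsSeparable k (Fin n → L) := isSeparable_pi (fun _ : Fin n => L)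
    obtain ⟨h1, h2⟩ := adjoin_image_of_generator J hJ x hx
    refine ⟨J x, h1, ?_⟩
    rw [h2, hrn, Module.finrank_pi_fintype]
    simp

end Main

end Groth.Agent.Lib.Seat25.EtaleGen
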