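import Mathlib
import Groth.Agent.Lib.Seat25EtaleGen

/-!
# Seat25: commutative algebras generated by separable elements

* `formallyUnramified_of_adjoin_eq_top`: a commutative `k`-algebra generated by elements with
  separable minimal polynomial is formally unramified.
* `isSeparable_of_formallyUnramified`: a finite-dimensional formally unramified commutative
  `k`-algebra has all its elements separable.
* `isSeparable_of_aeval_eq_zero`: an element killed by a separable polynomial is separable.
* `isSeparable_adjoin_of_commute`: in a (noncommutative) `k`-algebra, the subalgebra generated by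
  pairwise commuting separable elements is commutative and all its elements are separable
  (finite-dimensional case).
-/

set_option autoImplicit false
set_option linter.style.haveILetI false

open Polynomial

namespace Groth.Agent.Lib.Seat25.SepAlg

variable {k : Type*} [Field k]

/-- an element killed by a separable polynomial is separable -/
theorem isSeparable_of_aeval_eq_zero {A : Type*} [Ring A] [Algebra k A] (x : A) (p : k[X])
    (hp : p.Separable) (hx : aeval x p = 0) : IsSeparable k x :=
  hp.of_dvd (minpoly.dvd k x hx)

/-- the image of a separable element under an algebra hom is separable -/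
theorem isSeparable_map {A B : Type*} [Ring A] [Algebra k A] [Ring B] [Algebra k B]
    (f : A →ₐ[k] B) {x : A} (hx : IsSeparable k x) : IsSeparable k (f x) := by
  refine isSeparable_of_aeval_eq_zero (f x) (minpoly k x) hx ?_
  rw [aeval_algHom_apply, minpoly.aeval, map_zero]

/-- separability can be tested after an injective algebra hom -/
theorem isSeparable_of_map_injective {A B : Type*} [Ring A] [Algebra k A] [Ring B] [Algebra k B]
    (f : A →ₐ[k] B) (hf : Function.Injective f) {x : A} (hx : IsSeparable k (f x)) :
    IsSeparable k x := by
  refine isSeparable_of_aeval_eq_zero x (minpoly k (f x)) hx ?_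
  apply hf
  rw [← aeval_algHom_apply, minpoly.aeval, map_zero]

/-- a derivation kills separable elements -/
theorem derivation_eq_zero_of_isSeparable {R : Type*} [CommRing R] [Algebra k R] {M : Type*}
    [AddCommGroup M] [Module R M] [Module k M] [IsScalarTower k R M] (D : Derivation k R M)
    (x : R) (hx : IsSeparable k x) : D x = 0 := by
  obtain ⟨a, b, hab⟩ := hx
  have h1 : D (aeval x (minpoly k x)) = 0 := by rw [minpoly.aeval, map_zero]
  rw [Derivation.map_aeval] at h1
  have h2 : aeval x b * aeval x (derivative (minpoly k x)) = 1 := by
    have := congrArg (aeval x) hab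
    simpa [minpoly.aeval] using this
  calc D x = (aeval x b * aeval x (derivative (minpoly k x))) • D x := by rw [h2, one_smul]
    _ = aeval x b • (aeval x (derivative (minpoly k x)) • D x) := by rw [mul_smul]
    _ = 0 := by rw [h1, smul_zero]

/-- a commutative algebra generated by separable elements is formally unramified -/
theorem formallyUnramified_of_adjoin_eq_top {R : Type*} [CommRing R] [Algebra k R] (S : Set R)
    (hS : ∀ x ∈ S, IsSeparable k x) (h : Algebra.adjoin k S = ⊤) :
    Algebra.FormallyUnramified k R := by
  have hD : KaehlerDifferential.D k R = 0 :=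
    Derivation.ext_of_adjoin_eq_top S h fun x hx => by
      rw [derivation_eq_zero_of_isSeparable _ x (hS x hx)]
      rfl
  refine ⟨?_⟩
  rw [← Submodule.subsingleton_iff (R := R), ← subsingleton_iff_bot_eq_top,
    ← KaehlerDifferential.span_range_derivation, hD]
  symm
  rw [Submodule.span_eq_bot]
  rintro _ ⟨x, rfl⟩
  rfl

/-- a commutative algebra all of whose elements are separable is formally unramified -/
theorem formallyUnramified_of_isSeparable {R : Type*} [CommRing R] [Algebra k R]
    [Algebra.IsSeparable k R] : Algebra.FormallyUnramified k R :=
  formallyUnramified_of_adjoin_eq_top Set.univ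
    (fun x _ => Algebra.IsSeparable.isSeparable k x) (Algebra.adjoin_univ k R)

/-- a finite-dimensional formally unramified commutative algebra over a field has all its
elements separable -/
theorem isSeparable_of_formallyUnramified {R : Type*} [CommRing R] [Algebra k R]
    [FiniteDimensional k R] [Algebra.FormallyUnramified k R] : Algebra.IsSeparable k R := by
  haveI : IsReduced R := Algebra.FormallyUnramified.isReduced_of_field k R
  haveI : IsArtinianRing R := IsArtinianRing.of_finite k R
  let e : R ≃ₐ[k] ∀ I : MaximalSpectrum R, R ⧸ I.asIdeal :=
    (IsArtinianRing.equivPi R).restrictScalars k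
  letI : ∀ I : MaximalSpectrum R, Field (R ⧸ I.asIdeal) := fun I =>
    Ideal.Quotient.field I.asIdeal
  haveI : ∀ I : MaximalSpectrum R, Algebra.FormallyUnramified k (R ⧸ I.asIdeal) := fun I =>
    Algebra.FormallyUnramified.of_surjective (Ideal.Quotient.mkₐ k I.asIdeal)
      Ideal.Quotient.mk_surjective
  haveI : ∀ I : MaximalSpectrum R, Algebra.IsSeparable k (R ⧸ I.asIdeal) := fun I =>
    Algebra.FormallyUnramified.isSeparable k (R ⧸ I.asIdeal)
  haveI : Algebra.IsSeparable k (∀ I : MaximalSpectrum R, R ⧸ I.asIdeal) :=
    Groth.Agent.Lib.Seat25.EtaleGen.isSeparable_pi _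
  refine ⟨fun x => ?_⟩
  exact isSeparable_of_map_injective e.toAlgHom e.injective
    (Algebra.IsSeparable.isSeparable k (e x))

/-- In a finite-dimensional `k`-algebra, the subalgebra generated by pairwise commuting separable
elements is commutative and all its elements are separable. -/
theorem isSeparable_adjoin_of_commute {A : Type*} [Ring A] [Algebra k A] [FiniteDimensional k A]
    (S : Set A) (hcomm : ∀ a ∈ S, ∀ b ∈ S, a * b = b * a) (hsep : ∀ a ∈ S, IsSeparable k a) :
    (∀ x ∈ Algebra.adjoin k S, ∀ y ∈ Algebra.adjoin k S, x * y = y * x) ∧
      Algebra.IsSeparable k (Algebra.adjoin k S) := by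
  have hmc := Algebra.isMulCommutative_adjoin k hcomm
  have hc : ∀ a b : Algebra.adjoin k S, a * b = b * a := fun a b => hmc.is_comm.comm a b
  refine ⟨fun x hx y hy => congrArg Subtype.val (hc ⟨x, hx⟩ ⟨y, hy⟩), ?_⟩
  have htop : Algebra.adjoin k (Subtype.val ⁻¹' S : Set (Algebra.adjoin k S)) = ⊤ :=
    Algebra.adjoin_adjoin_coe_preimage
  have hsep' : ∀ x ∈ (Subtype.val ⁻¹' S : Set (Algebra.adjoin k S)), IsSeparable k x :=
    fun x hx => isSeparable_of_map_injective (Algebra.adjoin k S).val Subtype.val_injective
      (hsep _ hx)
  letI : CommRing (Algebra.adjoin k S) :=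
    { (inferInstance : Ring (Algebra.adjoin k S)) with mul_comm := hc }
  haveI : Algebra.FormallyUnramified k (Algebra.adjoin k S) :=
    formallyUnramified_of_adjoin_eq_top _ hsep' htop
  exact isSeparable_of_formallyUnramified

end Groth.Agent.Lib.Seat25.SepAlg
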