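import Mathlib
import Groth.Agent.Lib.Seat25SepAlg

/-!
# Seat25: absolutely semisimple algebras (descent and centralizers)

* `mem_jacobson_of_forall_isNilpotent`, `eq_zero_of_central_nilpotent`.
* `isSemisimpleRing_of_baseChange`: `K ⊗[k] R` semisimple ⇒ `R` semisimple (`R` finite-dimensional).
* `isSeparable_of_central_of_baseChange`: `K ⊗[k] R` semisimple, `K` perfect ⇒ central elements of
  `R` have separable minimal polynomial over `k`.
* `isSemisimpleRing_tensor_of_isReduced`, `isSemisimpleRing_of_range_eq_centralizer`: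
  the centralizer of a reduced commutative subalgebra in a semisimple algebra over an algebraically
  closed field is semisimple (via `End_{S ⊗ M}(S)`).
* `isSemisimpleRing_baseChange_centralizer`: if `K ⊗ A` is semisimple and `L ⊆ A` is commutative
  separable, then `K ⊗ C_A(L)` is semisimple.
-/

set_option autoImplicit false
set_option linter.style.haveILetI false

open Polynomial TensorProduct

namespace Groth.Agent.Lib.Seat25.AbsSS

/-- an element all of whose left multiples are nilpotent lies in the Jacobson radical -/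
theorem mem_jacobson_of_forall_isNilpotent {R : Type*} [Ring R] (x : R)
    (h : ∀ y : R, IsNilpotent (y * x)) : x ∈ Ring.jacobson R := by
  rw [← Ideal.jacobson_bot, Ideal.mem_jacobson_iff]
  intro y
  obtain ⟨u, hu⟩ := (h y).isUnit_one_add
  refine ⟨(u⁻¹ : Rˣ), ?_⟩
  rw [Ideal.mem_bot, sub_eq_zero]
  have : ((u⁻¹ : Rˣ) : R) * (1 + y * x) = 1 := by rw [← hu, Units.inv_mul]
  rw [mul_add, mul_one, ← mul_assoc] at this
  rw [← this]
  abel

/-- a central nilpotent element of a semisimple ring vanishes -/
theorem eq_zero_of_central_nilpotent {R : Type*} [Ring R] [IsSemisimpleRing R] (w : R)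
    (hc : ∀ y : R, w * y = y * w) (hn : IsNilpotent w) : w = 0 := by
  have hmem : w ∈ Ring.jacobson R := by
    apply mem_jacobson_of_forall_isNilpotent
    intro y
    exact (Commute.isNilpotent_mul_left (hc y).symm hn)
  rw [IsSemisimpleRing.jacobson_eq_bot] at hmem
  exact hmem

section Descent

variable (k : Type*) [Field k] (K : Type*) [Field K] [Algebra k K]
  (R : Type*) [Ring R] [Algebra k R]

/-- descent of semisimplicity along a field extension (finite-dimensional algebras) -/
theorem isSemisimpleRing_of_baseChange [FiniteDimensional k R]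
    (h : IsSemisimpleRing (K ⊗[k] R)) : IsSemisimpleRing R := by
  haveI : IsArtinianRing R := IsArtinianRing.of_finite k R
  rw [IsArtinianRing.isSemisimpleRing_iff_jacobson, eq_bot_iff]
  intro x hx
  set J : Ideal R := Ring.jacobson R with hJ
  obtain ⟨n, hn⟩ : IsNilpotent J := by
    have := IsArtinianRing.isNilpotent_jacobson_bot (R := R)
    rwa [Ideal.jacobson_bot] at this
  let P : ℕ → Submodule K (K ⊗[k] R) := fun m =>
    Submodule.span K ((fun j : R => (1 : K) ⊗ₜ[k] j) '' ((J ^ m : Ideal R) : Set R))
  let P' : Submodule K (K ⊗[k] R) :=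
    Submodule.span K ((fun j : R => (1 : K) ⊗ₜ[k] j) '' (J : Set R))
  have hA : ∀ a, P a * P' ≤ P (a + 1) := by
    intro a
    change Submodule.span K _ * Submodule.span K _ ≤ _
    rw [Submodule.span_mul_span]
    apply Submodule.span_mono
    rintro _ ⟨_, ⟨j, hj, rfl⟩, _, ⟨j', hj', rfl⟩, rfl⟩
    refine ⟨j * j', ?_, ?_⟩
    · change j * j' ∈ J ^ (a + 1)
      rw [Submodule.pow_succ]
      exact Ideal.mul_mem_mul hj hj'
    · simp [Algebra.TensorProduct.tmul_mul_tmul]
  have hB : ∀ y : K ⊗[k] R, y * ((1 : K) ⊗ₜ[k] x) ∈ P' := by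
    intro y
    induction y using TensorProduct.induction_on with
    | zero => rw [zero_mul]; exact Submodule.zero_mem _
    | add y y' hy hy' => rw [add_mul]; exact Submodule.add_mem _ hy hy'
    | tmul c r =>
      rw [Algebra.TensorProduct.tmul_mul_tmul, mul_one]
      have : c ⊗ₜ[k] (r * x) = c • ((1 : K) ⊗ₜ[k] (r * x)) := by
        rw [TensorProduct.smul_tmul', smul_eq_mul, mul_one]
      rw [this]
      apply Submodule.smul_mem
      apply Submodule.subset_span
      exact ⟨r * x, Ideal.mul_mem_left _ r hx, rfl⟩
  have hC : ∀ (w : K ⊗[k] R), w ∈ P' → ∀ m : ℕ, w ^ m ∈ P m := by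
    intro w hw m
    induction m with
    | zero =>
      rw [pow_zero]
      apply Submodule.subset_span
      refine ⟨1, ?_, (Algebra.TensorProduct.one_def).symm⟩
      change (1 : R) ∈ J ^ 0
      rw [Submodule.pow_zero, Ideal.one_eq_top]
      trivial
    | succ m ih =>
      rw [pow_succ]
      exact hA m (Submodule.mul_mem_mul ih hw)
  have hPn : P n = ⊥ := by
    change Submodule.span K _ = ⊥
    rw [Submodule.span_eq_bot]
    rintro _ ⟨j, hj, rfl⟩
    rw [hn] at hj
    have : j = 0 := hj
    change (1 : K) ⊗ₜ[k] j = 0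
    rw [this, TensorProduct.tmul_zero]
  have hmem : (1 : K) ⊗ₜ[k] x ∈ Ring.jacobson (K ⊗[k] R) := by
    apply mem_jacobson_of_forall_isNilpotent
    intro y
    refine ⟨n, ?_⟩
    have := hC _ (hB y) n
    rw [hPn] at this
    exact this
  rw [IsSemisimpleRing.jacobson_eq_bot] at hmem
  have hinj : Function.Injective (Algebra.TensorProduct.includeRight : R →ₐ[k] K ⊗[k] R) :=
    Algebra.TensorProduct.includeRight_injective (algebraMap k K).injective
  apply hinj
  rw [map_zero]
  exact hmem

/-- if `K ⊗ R` is semisimple for a perfect field `K`, central elements of `R` are separable -/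
theorem isSeparable_of_central_of_baseChange [PerfectField K] [FiniteDimensional k R]
    (h : IsSemisimpleRing (K ⊗[k] R)) (z : R) (hz : ∀ y : R, z * y = y * z) :
    IsSeparable k z := by
  classical
  have hzint : IsIntegral k z := Algebra.IsIntegral.isIntegral z
  set f := minpoly k z with hf
  set zK : K ⊗[k] R := (1 : K) ⊗ₜ[k] z with hzK
  have hzKint : IsIntegral K zK := Algebra.IsIntegral.isIntegral zK
  set μ := minpoly K zK with hμ
  -- `zK` is central
  have hzKc : ∀ y : K ⊗[k] R, zK * y = y * zK := by
    intro y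
    induction y using TensorProduct.induction_on with
    | zero => rw [mul_zero, zero_mul]
    | add y y' hy hy' => rw [mul_add, add_mul, hy, hy']
    | tmul c r =>
      rw [hzK, Algebra.TensorProduct.tmul_mul_tmul, Algebra.TensorProduct.tmul_mul_tmul, hz r,
        mul_comm]
  -- polynomials in `zK` are central
  have hpc : ∀ (p : K[X]) (y : K ⊗[k] R), aeval zK p * y = y * aeval zK p := by
    intro p y
    have h1 : aeval zK p ∈ Algebra.adjoin K ({zK} : Set (K ⊗[k] R)) :=
      Polynomial.aeval_mem_adjoin_singleton K zK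
    have h2 : Algebra.adjoin K ({zK} : Set (K ⊗[k] R)) ≤ Subalgebra.center K (K ⊗[k] R) := by
      apply Algebra.adjoin_le
      intro w hw
      rw [Set.mem_singleton_iff] at hw
      rw [hw, SetLike.mem_coe, Subalgebra.mem_center_iff]
      intro b
      exact (hzKc b).symm
    exact ((Subalgebra.mem_center_iff).mp (h2 h1) y).symm
  -- `μ` is radical, hence separable
  have hμrad : IsRadical μ := by
    intro m p hdvd
    rw [hμ, minpoly.dvd_iff] at hdvd ⊢
    rw [map_pow] at hdvd
    exact eq_zero_of_central_nilpotent _ (hpc p) ⟨m, hdvd⟩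
  have hμsep : μ.Separable :=
    PerfectField.separable_iff_squarefree.mpr (hμrad.squarefree (minpoly.ne_zero hzKint))
  -- `μ ∣ f.map`
  have hdvd : μ ∣ f.map (algebraMap k K) := by
    apply minpoly.dvd
    rw [aeval_map_algebraMap, hzK]
    have := aeval_algHom_apply
      (Algebra.TensorProduct.includeRight : R →ₐ[k] K ⊗[k] R) z f
    rw [Algebra.TensorProduct.includeRight_apply] at this
    rw [this, hf, minpoly.aeval, map_zero]
  -- degree bound via linear independence
  have hli : LinearIndependent K (fun i : Fin f.natDegree => (1 : K) ⊗ₜ[k] (z ^ (i : ℕ))) :=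
    Module.Flat.linearIndependent_one_tmul (linearIndependent_pow z)
  have hdeg : f.natDegree ≤ μ.natDegree := by
    by_contra hlt
    rw [not_le] at hlt
    have h0 : aeval zK μ = 0 := minpoly.aeval K zK
    rw [aeval_eq_sum_range' hlt, Finset.sum_range] at h0
    have h1 : ∀ i : Fin f.natDegree, μ.coeff i • zK ^ (i : ℕ) =
        μ.coeff i • ((1 : K) ⊗ₜ[k] (z ^ (i : ℕ))) := by
      intro i
      rw [hzK, Algebra.TensorProduct.tmul_pow, one_pow]
    simp_rw [h1] at h0
    have h2 := (Fintype.linearIndependent_iff.mp hli) (fun i => μ.coeff i) h0 ⟨μ.natDegree, hlt⟩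
    have h3 : μ.coeff μ.natDegree = 1 := (minpoly.monic hzKint).coeff_natDegree
    rw [h3] at h2
    exact one_ne_zero h2
  have heq : f.map (algebraMap k K) = μ :=
    eq_of_monic_of_dvd_of_natDegree_le (minpoly.monic hzKint)
      ((minpoly.monic hzint).map _) hdvd (by rw [natDegree_map]; exact hdeg)
  rw [← heq] at hμsep
  exact (Polynomial.separable_map (algebraMap k K)).mp hμsep

end Descent

section Centralizer

variable (K : Type*) [Field K] [IsAlgClosed K] (S : Type*) [Ring S] [Algebra K S]
  (M : Type*) [CommRing M] [Algebra K M] [FiniteDimensional K M]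
  [IsReduced M]

/-- `S ⊗[K] M` is semisimple for `S` semisimple and `M` a reduced finite-dimensional commutative
algebra over an algebraically closed field `K`. -/
theorem isSemisimpleRing_tensor_of_isReduced [IsSemisimpleRing S] :
    IsSemisimpleRing (S ⊗[K] M) := by
  classical
  haveI : IsArtinianRing M := IsArtinianRing.of_finite K M
  haveI : Fintype (MaximalSpectrum M) := Fintype.ofFinite _
  let e₁ : M ≃ₐ[K] ∀ I : MaximalSpectrum M, M ⧸ I.asIdeal :=
    (IsArtinianRing.equivPi M).restrictScalars K
  letI : ∀ I : MaximalSpectrum M, Field (M ⧸ I.asIdeal) := fun I =>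
    Ideal.Quotient.field I.asIdeal
  let e₂ : ∀ I : MaximalSpectrum M, K ≃ₐ[K] (M ⧸ I.asIdeal) := fun I =>
    AlgEquiv.ofBijective (Algebra.ofId K (M ⧸ I.asIdeal))
      IsAlgClosed.algebraMap_bijective_of_isIntegral
  let e₃ : S ⊗[K] M ≃ₐ[K] ∀ I : MaximalSpectrum M, S ⊗[K] (M ⧸ I.asIdeal) :=
    (Algebra.TensorProduct.congr AlgEquiv.refl e₁).trans
      (Algebra.TensorProduct.piRight K K S (fun I : MaximalSpectrum M => M ⧸ I.asIdeal))
  let e₄ : ∀ I : MaximalSpectrum M, S ⊗[K] (M ⧸ I.asIdeal) ≃ₐ[K] S := fun I =>
    (Algebra.TensorProduct.congr AlgEquiv.refl (e₂ I).symm).trans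
      (Algebra.TensorProduct.rid K K S)
  haveI : ∀ I : MaximalSpectrum M, IsSemisimpleRing (S ⊗[K] (M ⧸ I.asIdeal)) := fun I =>
    (e₄ I).symm.toRingEquiv.isSemisimpleRing
  exact e₃.symm.toRingEquiv.isSemisimpleRing

end Centralizer

section EndCent

open MulOpposite

variable {K : Type*} [Field K] {S : Type*} [Ring S] [Algebra K S]
  {M : Type*} [CommRing M] [Algebra K M] (ι : M →ₐ[K] S)

/-- the action of `S ⊗[K] M` on `S`: `(s ⊗ m) • x = s * x * ι m` -/
noncomputable def actHom : S ⊗[K] M →ₐ[K] Module.End K S :=
  (AlgHom.mulLeftRight K S).comp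
    (Algebra.TensorProduct.map (AlgHom.id K S)
      (ι.toOpposite (fun x y => by rw [commute_iff_eq, ← map_mul, ← map_mul, mul_comm])))

theorem actHom_tmul (s : S) (m : M) (x : S) : actHom ι (s ⊗ₜ[K] m) x = s * x * ι m := by
  rw [actHom, AlgHom.comp_apply, Algebra.TensorProduct.map_tmul, AlgHom.mulLeftRight_apply]
  rfl

/-- If `S ⊗[K] M` is semisimple, then any ring mapping isomorphically onto the centralizer of
`ι(M)` in `S` is semisimple. -/
theorem isSemisimpleRing_of_range_eq_centralizer [IsSemisimpleRing (S ⊗[K] M)]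
    {R' : Type*} [Ring R'] (j : R' →+* S) (hj : Function.Injective j)
    (hrange : ∀ c : S, (∀ m : M, c * ι m = ι m * c) → ∃ w : R', j w = c)
    (hcomm : ∀ (w : R') (m : M), j w * ι m = ι m * j w) : IsSemisimpleRing R' := by
  letI : Module (S ⊗[K] M) S := Module.compHom S (actHom ι).toRingHom
  have hsmul : ∀ (t : S ⊗[K] M) (x : S), t • x = actHom ι t x := fun t x => rfl
  haveI : Module.Finite (S ⊗[K] M) S := by
    refine Module.Finite.of_surjective (LinearMap.toSpanSingleton (S ⊗[K] M) S 1) ?_
    intro x
    refine ⟨x ⊗ₜ[K] 1, ?_⟩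
    rw [LinearMap.toSpanSingleton_apply, hsmul, actHom_tmul, map_one, mul_one, mul_one]
  haveI : IsSemisimpleRing (Module.End (S ⊗[K] M) S) := IsSemisimpleRing.moduleEnd _ _
  -- right multiplication by `j w` is `S ⊗ M`-linear
  let rmul : R' → Module.End (S ⊗[K] M) S := fun w =>
    { toFun := fun x => x * j w
      map_add' := fun x y => add_mul x y (j w)
      map_smul' := fun t x => by
        simp only [RingHom.id_apply]
        induction t using TensorProduct.induction_on with
        | zero => rw [zero_smul, zero_smul, zero_mul]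
        | add t t' ht ht' => rw [add_smul, add_smul, add_mul, ht, ht']
        | tmul s m =>
          rw [hsmul, hsmul, actHom_tmul, actHom_tmul]
          simp only [mul_assoc]
          rw [hcomm w m] }
  have hrmul : ∀ w x, rmul w x = x * j w := fun w x => rfl
  let Ψ : R' →+* (Module.End (S ⊗[K] M) S)ᵐᵒᵖ :=
    { toFun := fun w => op (rmul w)
      map_one' := by
        apply unop_injective
        refine LinearMap.ext fun x => ?_
        rw [unop_op, hrmul, map_one, mul_one]
        rfl
      map_mul' := fun w w' => by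
        apply unop_injective
        refine LinearMap.ext fun x => ?_
        rw [unop_op, unop_mul, unop_op, unop_op, Module.End.mul_apply, hrmul, hrmul, hrmul,
          map_mul, mul_assoc]
      map_zero' := by
        apply unop_injective
        refine LinearMap.ext fun x => ?_
        rw [unop_op, hrmul, map_zero, mul_zero]
        rfl
      map_add' := fun w w' => by
        apply unop_injective
        refine LinearMap.ext fun x => ?_
        rw [unop_op, unop_add, unop_op, unop_op, LinearMap.add_apply, hrmul, hrmul, hrmul,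
          map_add, mul_add] }
  have hΨinj : Function.Injective Ψ := by
    intro w w' h
    apply hj
    have h1 := congrArg (fun f => (unop f) (1 : S)) h
    simpa [Ψ, hrmul] using h1
  have hΨsurj : Function.Surjective Ψ := by
    intro f
    set c := (unop f) 1 with hc
    have hfx : ∀ x : S, (unop f) x = x * c := by
      intro x
      have h1 : (x ⊗ₜ[K] (1 : M)) • (1 : S) = x := by
        rw [hsmul, actHom_tmul, map_one, mul_one, mul_one]
      conv_lhs => rw [← h1]
      rw [map_smul, hsmul, actHom_tmul, (map_one ι), mul_one]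
    have hcm : ∀ m : M, c * ι m = ι m * c := by
      intro m
      have h1 : ((1 : S) ⊗ₜ[K] m) • (1 : S) = ι m := by
        rw [hsmul, actHom_tmul, one_mul, one_mul]
      have h2 : (unop f) (ι m) = c * ι m := by
        conv_lhs => rw [← h1]
        rw [map_smul, hsmul, actHom_tmul, one_mul]
      rw [← h2, hfx]
    obtain ⟨w, hw⟩ := hrange c hcm
    refine ⟨w, ?_⟩
    apply unop_injective
    refine LinearMap.ext fun x => ?_
    change rmul w x = (unop f) x
    rw [hrmul, hw, hfx]
  exact (RingEquiv.ofBijective Ψ ⟨hΨinj, hΨsurj⟩).symm.isSemisimpleRing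

end EndCent

section Main

variable (k : Type*) [Field k] (K : Type*) [Field K] [IsAlgClosed K] [Algebra k K]
  (A : Type*) [Ring A] [Algebra k A] [FiniteDimensional k A]

/-- If `K ⊗ A` is semisimple (`K` algebraically closed) and `L` is a commutative separable
subalgebra of `A`, then `K ⊗ C_A(L)` is semisimple. -/
theorem isSemisimpleRing_baseChange_centralizer (hss : IsSemisimpleRing (K ⊗[k] A))
    (L : Subalgebra k A) (hcomm : ∀ x ∈ L, ∀ y ∈ L, x * y = y * x)
    [Algebra.IsSeparable k L] :
    IsSemisimpleRing (K ⊗[k] Subalgebra.centralizer k (L : Set A)) := by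
  classical
  letI : CommRing L :=
    { (inferInstance : Ring L) with
      mul_comm := fun a b => Subtype.ext (hcomm a a.2 b b.2) }
  haveI : Algebra.FormallyUnramified k L :=
    Groth.Agent.Lib.Seat25.SepAlg.formallyUnramified_of_isSeparable
  haveI : IsReduced (K ⊗[k] L) := Algebra.FormallyUnramified.isReduced_of_field K (K ⊗[k] L)
  let C := Subalgebra.centralizer k (L : Set A)
  let ι : K ⊗[k] L →ₐ[K] K ⊗[k] A := Algebra.TensorProduct.map (AlgHom.id K K) L.val
  haveI : IsSemisimpleRing ((K ⊗[k] A) ⊗[K] (K ⊗[k] L)) :=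
    isSemisimpleRing_tensor_of_isReduced K (K ⊗[k] A) (K ⊗[k] L)
  let jk : K ⊗[k] C →ₐ[k] K ⊗[k] A := Algebra.TensorProduct.map (AlgHom.id k K) C.val
  have hjk : Function.Injective jk := by
    have : ⇑jk = ⇑(LinearMap.lTensor K C.val.toLinearMap) := by
      ext x
      induction x using TensorProduct.induction_on with
      | zero => simp
      | tmul a b => simp [jk]
      | add x y hx hy => simp only [map_add, hx, hy]
    rw [this]
    exact Module.Flat.lTensor_preserves_injective_linearMap _ Subtype.val_injective
  refine isSemisimpleRing_of_range_eq_centralizer ι jk.toRingHom hjk ?_ ?_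
  · intro c hc
    have hmem : c ∈ Subalgebra.centralizer k
        (Algebra.TensorProduct.includeRight (R := k) (A := K) (B := A) '' (L : Set A)) := by
      rw [Subalgebra.mem_centralizer_iff]
      rintro _ ⟨l, hl, rfl⟩
      have := hc ((1 : K) ⊗ₜ[k] (⟨l, hl⟩ : L))
      simp only [ι, Algebra.TensorProduct.map_tmul, AlgHom.id_apply, Subalgebra.val_apply] at this
      exact this.symm
    rw [Subalgebra.centralizer_coe_image_includeRight_eq_center_tensorProduct] at hmem
    obtain ⟨w, hw⟩ := hmem
    exact ⟨w, hw⟩
  · intro w m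
    change jk w * ι m = ι m * jk w
    induction w using TensorProduct.induction_on with
    | zero => rw [map_zero, zero_mul, mul_zero]
    | add w w' hw hw' => rw [map_add, add_mul, mul_add, hw, hw']
    | tmul a c =>
      induction m using TensorProduct.induction_on with
      | zero => rw [map_zero, zero_mul, mul_zero]
      | add m m' hm hm' => rw [map_add, add_mul, mul_add, hm, hm']
      | tmul b l =>
        simp only [jk, ι, Algebra.TensorProduct.map_tmul, AlgHom.id_apply, Subalgebra.val_apply,
          Algebra.TensorProduct.tmul_mul_tmul]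
        rw [mul_comm a b, (Subalgebra.mem_centralizer_iff k).mp c.2 l l.2]

end Main

end Groth.Agent.Lib.Seat25.AbsSS
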