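import Mathlib
import Groth.Agent.Lib.Seat25SepAlg
import Groth.Agent.Lib.Seat25AbsSS
import Groth.Agent.Lib.LeadSemisimple

set_option autoImplicit false
set_option linter.style.haveILetI false

open Polynomial TensorProduct

namespace Groth.Agent.Lib.Seat25.MaxEtale

open Groth.Agent.Lib.Seat25.SepAlg

/-- a finite formally unramified commutative algebra over a finite separable field extension `K/k`
has all its elements separable over `k` -/
theorem isSeparable_of_formallyUnramified_tower (k K : Type*) [Field k] [Field K] [Algebra k K]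
    [FiniteDimensional k K] [Algebra.IsSeparable k K] (R' : Type*) [CommRing R'] [Algebra K R']
    [Algebra k R'] [IsScalarTower k K R'] [Module.Finite K R']
    [Algebra.FormallyUnramified K R'] : Algebra.IsSeparable k R' := by
  haveI : Algebra.FormallyUnramified k K := formallyUnramified_of_isSeparable
  haveI : Algebra.FormallyUnramified k R' := Algebra.FormallyUnramified.comp k K R'
  haveI : FiniteDimensional k R' := Module.Finite.trans K R'
  exact isSeparable_of_formallyUnramified

/-- transitivity of separability for an element of a (noncommutative) algebra over a finite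
separable field extension -/
theorem isSeparable_of_isSeparable_tower (k K : Type*) [Field k] [Field K] [Algebra k K]
    [FiniteDimensional k K] [Algebra.IsSeparable k K] {D : Type*} [Ring D] [Algebra K D]
    [Algebra k D] [IsScalarTower k K D] (y : D) (hy : IsSeparable K y) : IsSeparable k y := by
  have hcomm : ∀ a ∈ ({y} : Set D), ∀ b ∈ ({y} : Set D), a * b = b * a := by
    intro a ha b hb
    rw [Set.mem_singleton_iff] at ha hb
    rw [ha, hb]
  have hmc := Algebra.isMulCommutative_adjoin K hcomm
  have hc : ∀ a b : Algebra.adjoin K ({y} : Set D), a * b = b * a :=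
    fun a b => hmc.is_comm.comm a b
  have htop : Algebra.adjoin K (Subtype.val ⁻¹' ({y} : Set D) :
      Set (Algebra.adjoin K ({y} : Set D))) = ⊤ :=
    Algebra.adjoin_adjoin_coe_preimage
  have hsep' : ∀ x ∈ (Subtype.val ⁻¹' ({y} : Set D) : Set (Algebra.adjoin K ({y} : Set D))),
      IsSeparable K x := by
    intro x hx
    refine isSeparable_of_map_injective (Algebra.adjoin K ({y} : Set D)).val
      Subtype.val_injective ?_
    have : (Algebra.adjoin K ({y} : Set D)).val x = y := hx
    rw [this]
    exact hy
  have hfin : Module.Finite K (Algebra.adjoin K ({y} : Set D)) :=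
    Module.Finite.iff_fg.mpr hy.isIntegral.fg_adjoin_singleton
  have hsepk : Algebra.IsSeparable k (Algebra.adjoin K ({y} : Set D)) := by
    letI : CommRing (Algebra.adjoin K ({y} : Set D)) :=
      { (inferInstance : Ring (Algebra.adjoin K ({y} : Set D))) with mul_comm := hc }
    haveI : Algebra.FormallyUnramified K (Algebra.adjoin K ({y} : Set D)) :=
      formallyUnramified_of_adjoin_eq_top _ hsep' htop
    exact isSeparable_of_formallyUnramified_tower k K _
  have h1 : IsSeparable k (⟨y, Algebra.self_mem_adjoin_singleton K y⟩ :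
      Algebra.adjoin K ({y} : Set D)) := Algebra.IsSeparable.isSeparable k _
  clear hsepk hfin hsep' htop hc hmc hcomm
  let f : Algebra.adjoin K ({y} : Set D) →ₐ[k] D :=
    (Algebra.adjoin K ({y} : Set D)).val.restrictScalars k
  have h2 := isSeparable_map f h1
  exact h2

/-- A central division algebra `D` over a finite separable extension `K/k` in which all
`k`-separable elements are central is commutative. -/
theorem commutative_of_divisionRing_aux (k K : Type*) [Field k] [Field K] [Algebra k K]
    [FiniteDimensional k K] [Algebra.IsSeparable k K] {D : Type*} [DivisionRing D]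
    [Algebra K D] [Algebra k D] [IsScalarTower k K D] [FiniteDimensional K D]
    [Algebra.IsCentral K D]
    (hb : ∀ x : D, IsSeparable k x → ∀ y, x * y = y * x) : ∀ x y : D, x * y = y * x := by
  classical
  by_contra hne
  push Not at hne
  obtain ⟨x₀, y₀, hxy⟩ := hne
  have hbot_comm : ∀ x ∈ (⊥ : Subalgebra K D), ∀ y ∈ (⊥ : Subalgebra K D), x * y = y * x := by
    intro x hx y _
    obtain ⟨a, rfl⟩ := Algebra.mem_bot.mp hx
    exact Algebra.commutes a y
  have hbot_sep : Algebra.IsSeparable K (⊥ : Subalgebra K D) := by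
    refine ⟨?_⟩
    rintro ⟨x, hx⟩
    obtain ⟨a, rfl⟩ := Algebra.mem_bot.mp hx
    have : (⟨algebraMap K D a, hx⟩ : (⊥ : Subalgebra K D)) =
        algebraMap K (⊥ : Subalgebra K D) a := Subtype.ext rfl
    rw [this]
    exact isSeparable_algebraMap a
  have hne' : Subalgebra.centralizer K ((⊥ : Subalgebra K D) : Set D) ≠ ⊥ := by
    intro h
    have hx₀ : x₀ ∈ Subalgebra.centralizer K ((⊥ : Subalgebra K D) : Set D) := by
      rw [Subalgebra.mem_centralizer_iff]
      intro g hg
      obtain ⟨a, rfl⟩ := Algebra.mem_bot.mp hg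
      exact Algebra.commutes a x₀
    rw [h] at hx₀
    obtain ⟨a, rfl⟩ := Algebra.mem_bot.mp hx₀
    exact hxy (Algebra.commutes a y₀)
  obtain ⟨E', hlt, hc', hs'⟩ := Groth.Agent.Lib.LeadCSA.exists_larger_separable
    (⊥ : Subalgebra K D) hbot_comm hbot_sep hne'
  obtain ⟨y, hyE, hyb⟩ := SetLike.exists_of_lt hlt
  have hyK' := isSeparable_map E'.val (Algebra.IsSeparable.isSeparable K (⟨y, hyE⟩ : E'))
  have hyK : IsSeparable K y := hyK'
  have hyk : IsSeparable k y := isSeparable_of_isSeparable_tower k K y hyK
  have hyc := hb y hyk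
  apply hyb
  have hyz : y ∈ Subalgebra.center K D :=
    Subalgebra.mem_center_iff.mpr (fun b => (hyc b).symm)
  rw [Algebra.IsCentral.center_eq_bot K D] at hyz
  exact hyz

/-- A finite-dimensional division algebra in which central elements are separable over `k` and
separable elements are central is commutative. -/
theorem commutative_of_divisionRing {k : Type*} [Field k] {D : Type*} [DivisionRing D]
    [Algebra k D] [FiniteDimensional k D]
    (ha : ∀ z : D, (∀ y, z * y = y * z) → IsSeparable k z)
    (hb : ∀ x : D, IsSeparable k x → ∀ y, x * y = y * x) : ∀ x y : D, x * y = y * x := by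
  letI iF : Field (Subalgebra.center k D) :=
    (Groth.Agent.Lib.LeadSemisimple.isField_center k D).toField
  letI iA : Algebra (Subalgebra.center k D) D :=
    Groth.Agent.Lib.LeadSemisimple.centerAlgebra k D
  have iT : @IsScalarTower k (Subalgebra.center k D) D _ iA.toSMul _ :=
    @IsScalarTower.of_algebraMap_eq k (Subalgebra.center k D) D _ _ _ _ iA _ (fun _ => rfl)
  have iC : @Algebra.IsCentral (Subalgebra.center k D) _ D _ iA := ⟨by
    intro x hx
    rw [Algebra.mem_bot]
    refine ⟨⟨x, ?_⟩, rfl⟩
    rw [Subalgebra.mem_center_iff] at hx ⊢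
    exact hx⟩
  have iFD : @Module.Finite (Subalgebra.center k D) D _ _ iA.toModule :=
    @Module.Finite.of_restrictScalars_finite k (Subalgebra.center k D) D _ _ _ _
      iA.toModule _ iT _
  have iS : Algebra.IsSeparable k (Subalgebra.center k D) :=
    ⟨fun z => isSeparable_of_map_injective (Subalgebra.center k D).val Subtype.val_injective
      (ha z.1 (fun y => (Subalgebra.mem_center_iff.mp z.2 y).symm))⟩
  exact @commutative_of_divisionRing_aux k (Subalgebra.center k D) _ iF _ _ iS D _ iA _ iT iFD iC hb

/-- idempotents are separable -/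
theorem isSeparable_of_isIdempotentElem {k : Type*} [Field k] {A : Type*} [Ring A] [Algebra k A]
    (x : A) (hx : x * x = x) : IsSeparable k x := by
  have hsep : (X * (X - C (1 : k))).Separable := by
    refine Polynomial.Separable.mul separable_X (separable_X_sub_C) ?_
    exact ⟨1, -1, by rw [C_1]; ring⟩
  refine isSeparable_of_aeval_eq_zero x _ hsep ?_
  rw [map_mul, map_sub, aeval_X, aeval_C, map_one, mul_sub, mul_one, hx, sub_self]

/-- `X * q` is separable when `q` is separable with nonzero constant coefficient -/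
theorem separable_X_mul {k : Type*} [Field k] (q : k[X]) (hq : q.Separable)
    (h0 : q.coeff 0 ≠ 0) : (X * q).Separable := by
  refine Polynomial.Separable.mul separable_X hq ?_
  refine ⟨-(C (q.coeff 0)⁻¹ * q.divX), C (q.coeff 0)⁻¹, ?_⟩
  have h1 : X * q.divX + C (q.coeff 0) = q := Polynomial.X_mul_divX_add q
  have h2 : C (q.coeff 0)⁻¹ * C (q.coeff 0) = (1 : k[X]) := by
    rw [← C_mul, inv_mul_cancel₀ h0, C_1]
  calc -(C (q.coeff 0)⁻¹ * q.divX) * X + C (q.coeff 0)⁻¹ * q
      = -(C (q.coeff 0)⁻¹ * q.divX) * X + C (q.coeff 0)⁻¹ * (X * q.divX + C (q.coeff 0)) := by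
        rw [h1]
    _ = C (q.coeff 0)⁻¹ * C (q.coeff 0) := by ring
    _ = 1 := h2




section Wedderburn

variable {k : Type*} [Field k] {C : Type*} [Ring C] [Algebra k C] {n : ℕ}
  (D : Fin n → Type*) [∀ i, DivisionRing (D i)] [∀ i, Algebra k (D i)]
  (d : Fin n → ℕ)
  (e : C ≃ₐ[k] ∀ i, Matrix (Fin (d i)) (Fin (d i)) (D i))

/-- the `i`-th component of an element of `C` -/
noncomputable def comp (i : Fin n) : C →ₐ[k] Matrix (Fin (d i)) (Fin (d i)) (D i) :=
  (Pi.evalAlgHom k (fun i => Matrix (Fin (d i)) (Fin (d i)) (D i)) i).comp e.toAlgHom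

/-- the element of `C` with a single nonzero component -/
noncomputable def sgl (i : Fin n) (b : Matrix (Fin (d i)) (Fin (d i)) (D i)) : C :=
  e.symm (Pi.single i b)

theorem comp_sgl (i : Fin n) (b : Matrix (Fin (d i)) (Fin (d i)) (D i)) :
    comp D d e i (sgl D d e i b) = b := by
  simp [comp, sgl]

theorem e_sgl (i : Fin n) (b : Matrix (Fin (d i)) (Fin (d i)) (D i)) :
    e (sgl D d e i b) = Pi.single i b := by
  simp [sgl]

theorem sgl_mul (i : Fin n) (b b' : Matrix (Fin (d i)) (Fin (d i)) (D i)) :
    sgl D d e i b * sgl D d e i b' = sgl D d e i (b * b') := by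
  rw [sgl, sgl, sgl, ← map_mul, ← Pi.single_mul]

theorem sgl_central (i : Fin n) (b : Matrix (Fin (d i)) (Fin (d i)) (D i))
    (hbc : ∀ b', b * b' = b' * b) (y : C) : sgl D d e i b * y = y * sgl D d e i b := by
  apply e.injective
  rw [map_mul, map_mul, e_sgl]
  funext j
  by_cases hj : j = i
  · subst hj
    simp only [Pi.mul_apply, Pi.single_eq_same]
    exact hbc _
  · simp [Pi.mul_apply, Pi.single_eq_of_ne hj]

theorem comm_of_sgl_central (i : Fin n) (b : Matrix (Fin (d i)) (Fin (d i)) (D i))
    (hc : ∀ y : C, sgl D d e i b * y = y * sgl D d e i b)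
    (b' : Matrix (Fin (d i)) (Fin (d i)) (D i)) : b * b' = b' * b := by
  have := congrArg (comp D d e i) (hc (sgl D d e i b'))
  rw [map_mul, map_mul, comp_sgl, comp_sgl] at this
  exact this

end Wedderburn

section Wedderburn2

variable {k : Type*} [Field k] {C : Type*} [Ring C] [Algebra k C] {n : ℕ}
  (D : Fin n → Type*) [∀ i, DivisionRing (D i)] [∀ i, Algebra k (D i)]
  (d : Fin n → ℕ) [∀ i, NeZero (d i)]
  (e : C ≃ₐ[k] ∀ i, Matrix (Fin (d i)) (Fin (d i)) (D i))
  (hb : ∀ x : C, IsSeparable k x → ∀ y, x * y = y * x)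

include D e hb in
theorem size_eq_one (i : Fin n) (j : Fin (d i)) : j = 0 := by
  by_contra hj
  have hEE : sgl D d e i (Matrix.single (0 : Fin (d i)) 0 (1 : D i)) *
      sgl D d e i (Matrix.single (0 : Fin (d i)) 0 (1 : D i)) =
      sgl D d e i (Matrix.single (0 : Fin (d i)) 0 (1 : D i)) := by
    rw [sgl_mul, Matrix.single_mul_single_same, mul_one]
  have hEs := isSeparable_of_isIdempotentElem (k := k) _ hEE
  have hEc := comm_of_sgl_central D d e i _ (hb _ hEs)
  have h1 := hEc (Matrix.single (0 : Fin (d i)) j (1 : D i))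
  rw [Matrix.single_mul_single_same, Matrix.single_mul_single_of_ne (h := hj), mul_one] at h1
  have h2 := congrFun (congrFun h1 0) j
  rw [Matrix.single_apply_same] at h2
  exact one_ne_zero h2

omit [∀ i, NeZero (d i)] in
theorem scalarAlgHom_injective [∀ i, NeZero (d i)] (i : Fin n) :
    Function.Injective (Matrix.scalarAlgHom (Fin (d i)) k :
      D i →ₐ[k] Matrix (Fin (d i)) (Fin (d i)) (D i)) := by
  intro a b hab
  exact Matrix.scalar_inj.mp hab


end Wedderburn2

end Groth.Agent.Lib.Seat25.MaxEtale
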