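import Mathlib
import Groth.Agent.Lib.Seat25MaxEtaleA

/-!
# Seat25MaxEtaleB

A finite-dimensional semisimple algebra over a field in which central elements are separable
and separable elements are central is commutative (via Wedderburn–Artin and Jacobson–Noether).
-/

set_option autoImplicit false
open Polynomial TensorProduct

namespace Groth.Agent.Lib.Seat25.MaxEtale

open Groth.Agent.Lib.Seat25.SepAlg

section Wedderburn2

variable {k : Type*} [Field k] {C : Type*} [Ring C] [Algebra k C] {n : ℕ}
  (D : Fin n → Type*) [∀ i, DivisionRing (D i)] [∀ i, Algebra k (D i)]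
  (d : Fin n → ℕ) [∀ i, NeZero (d i)]
  (e : C ≃ₐ[k] ∀ i, Matrix (Fin (d i)) (Fin (d i)) (D i))
  (hb : ∀ x : C, IsSeparable k x → ∀ y, x * y = y * x)
  (ha : ∀ z : C, (∀ y, z * y = y * z) → IsSeparable k z)

include e ha in
theorem isSeparable_of_central_component (i : Fin n) (c : D i) (hc : ∀ y, c * y = y * c) :
    IsSeparable k c := by
  have hcc : ∀ b' : Matrix (Fin (d i)) (Fin (d i)) (D i),
      Matrix.scalarAlgHom (Fin (d i)) k c * b' = b' * Matrix.scalarAlgHom (Fin (d i)) k c :=
    fun b' => (Matrix.scalar_commute c (fun r => hc r) b').eq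
  have hx := ha _ (sgl_central D d e i _ hcc)
  refine isSeparable_of_aeval_eq_zero c _ hx ?_
  apply scalarAlgHom_injective (k := k) D d i
  rw [map_zero, ← aeval_algHom_apply]
  generalize hq : minpoly k (sgl D d e i (Matrix.scalarAlgHom (Fin (d i)) k c)) = q
  have hq0 : aeval (sgl D d e i (Matrix.scalarAlgHom (Fin (d i)) k c)) q = 0 := by
    rw [← hq]; exact minpoly.aeval _ _
  have h : Matrix.scalarAlgHom (Fin (d i)) k c =
      comp D d e i (sgl D d e i (Matrix.scalarAlgHom (Fin (d i)) k c)) :=
    (comp_sgl D d e i _).symm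
  rw [h, aeval_algHom_apply, hq0, map_zero]

include e hb in
theorem central_of_isSeparable_component (i : Fin n) (y : D i) (hy : IsSeparable k y)
    (y' : D i) : y * y' = y' * y := by
  by_cases hy0 : y = 0
  · rw [hy0, zero_mul, mul_zero]
  have hyint : IsIntegral k y := hy.isIntegral
  have hsep : (X * minpoly k y).Separable :=
    separable_X_mul _ hy (minpoly.coeff_zero_ne_zero hyint hy0)
  have hx : IsSeparable k (sgl D d e i (Matrix.scalarAlgHom (Fin (d i)) k y)) := by
    refine isSeparable_of_aeval_eq_zero _ _ hsep ?_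
    apply e.injective
    rw [map_zero, ← aeval_algHom_apply, e_sgl, map_mul, aeval_X]
    funext j
    by_cases hj : j = i
    · subst hj
      have h1 : (aeval (Pi.single j (Matrix.scalarAlgHom (Fin (d j)) k y) :
          ∀ i, Matrix (Fin (d i)) (Fin (d i)) (D i)) (minpoly k y)) j =
          aeval (Matrix.scalarAlgHom (Fin (d j)) k y) (minpoly k y) := by
        have := aeval_algHom_apply
          (Pi.evalAlgHom k (fun i => Matrix (Fin (d i)) (Fin (d i)) (D i)) j)
          (Pi.single j (Matrix.scalarAlgHom (Fin (d j)) k y)) (minpoly k y)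
        simpa using this.symm
      have h2 : aeval (Matrix.scalarAlgHom (Fin (d j)) k y) (minpoly k y) = 0 := by
        rw [aeval_algHom_apply, minpoly.aeval, map_zero]
      rw [Pi.mul_apply, h1, h2, mul_zero]
      rfl
    · rw [Pi.mul_apply, Pi.single_eq_of_ne hj, zero_mul]
      rfl
  have hxc := comm_of_sgl_central D d e i _ (hb _ hx)
  have h1 := hxc (Matrix.scalarAlgHom (Fin (d i)) k y')
  rw [← map_mul, ← map_mul] at h1
  exact scalarAlgHom_injective D d i h1

variable [∀ i, Module.Finite k (D i)]

include D d e ha hb in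
theorem commutative_of_algEquiv_pi : ∀ x y : C, x * y = y * x := by
  classical
  have hDcomm : ∀ i, ∀ a b : D i, a * b = b * a := fun i =>
    commutative_of_divisionRing (k := k)
      (fun c hc => isSeparable_of_central_component D d e ha i c hc)
      (fun y hy y' => central_of_isSeparable_component D d e hb i y hy y')
  intro x y
  apply e.injective
  rw [map_mul, map_mul]
  funext i
  rw [Pi.mul_apply, Pi.mul_apply]
  ext a b
  rw [Matrix.mul_apply, Matrix.mul_apply]
  refine Finset.sum_congr rfl fun c _ => ?_
  have ha0 := size_eq_one D d e hb i a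
  have hb0 := size_eq_one D d e hb i b
  have hc0 := size_eq_one D d e hb i c
  rw [ha0, hb0, hc0]
  exact hDcomm i _ _

end Wedderburn2

/-- A finite-dimensional semisimple `k`-algebra in which central elements are separable and
separable elements are central is commutative. -/
theorem commutative_of_semisimple {k : Type*} [Field k] {C : Type*} [Ring C] [Algebra k C]
    [FiniteDimensional k C] [IsSemisimpleRing C]
    (ha : ∀ z : C, (∀ y, z * y = y * z) → IsSeparable k z)
    (hb : ∀ x : C, IsSeparable k x → ∀ y, x * y = y * x) : ∀ x y : C, x * y = y * x := by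
  obtain ⟨n, D, d, _, _, hfin, hd, ⟨e⟩⟩ :=
    IsSemisimpleRing.exists_algEquiv_pi_matrix_divisionRing_finite k C
  exact commutative_of_algEquiv_pi D d e hb ha

end Groth.Agent.Lib.Seat25.MaxEtale
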