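import Mathlib
import Groth.Agent.Lib.Seat25AbsSS
import Groth.Agent.Lib.LeadAzumayaLocal
import Groth.Agent.Lib.LeadAzumaya
import Groth.Agent.S5701

/-!
# Seat25AzReg: regular elements of Azumaya algebras

* `exists_algEquiv_pi`: reduced f.d. commutative algebra over an algebraically closed field is `K^ι`.
* `card_le_finrank_of_injective`: a faithful action of `K^ι` on `V` forces `|ι| ≤ dim V`.
* `exists_algEquiv_matrix`: Azumaya of rank `r²` over a field becomes `M_r(K)` over `K` alg. closed.
* `finrank_le_of_comm_separable`: commutative separable subalgebras have dimension `≤ r`.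
* `centralizer_eq_of_finrank_eq`: those of dimension `r` are self-centralizing.
* `toSubmodule_adjoin_singleton`, `finrank_adjoin_singleton`, `adjoin_singleton_comm`.
* `powers_basis`: over a local ring, a lift `ξ` of a regular element of the special fibre of an
  Azumaya algebra of rank `r²` has `1, ξ, …, ξ^(r-1)` linearly independent and `ξ^r` in their span.
-/

set_option autoImplicit false
open Polynomial TensorProduct

namespace Groth.Agent.Lib.Seat25.AzReg

section PiK

universe v
variable (K : Type*) [Field K] [IsAlgClosed K] (M : Type v) [CommRing M] [Algebra K M]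
  [FiniteDimensional K M] [IsReduced M]

/-- A reduced finite-dimensional commutative algebra over an algebraically closed field is a
finite product of copies of the field. -/
theorem exists_algEquiv_pi : ∃ (ι : Type v) (_ : Fintype ι), Nonempty (M ≃ₐ[K] (ι → K)) := by
  classical
  have : IsArtinianRing M := IsArtinianRing.of_finite K M
  have : Fintype (MaximalSpectrum M) := Fintype.ofFinite _
  let e₁ : M ≃ₐ[K] ∀ I : MaximalSpectrum M, M ⧸ I.asIdeal :=
    (IsArtinianRing.equivPi M).restrictScalars K
  let _ : ∀ I : MaximalSpectrum M, Field (M ⧸ I.asIdeal) := fun I =>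
    Ideal.Quotient.field I.asIdeal
  let e₂ : ∀ I : MaximalSpectrum M, (M ⧸ I.asIdeal) ≃ₐ[K] K := fun I =>
    (AlgEquiv.ofBijective (Algebra.ofId K (M ⧸ I.asIdeal))
      IsAlgClosed.algebraMap_bijective_of_isIntegral).symm
  exact ⟨MaximalSpectrum M, inferInstance, ⟨e₁.trans (AlgEquiv.piCongrRight e₂)⟩⟩

end PiK

section Idem

variable {K : Type*} [Field K] {ι : Type*} [Fintype ι] {V : Type*} [AddCommGroup V] [Module K V]
  [FiniteDimensional K V]

/-- A faithful action of `K^ι` on a finite-dimensional vector space `V` forces `|ι| ≤ dim V`. -/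
theorem card_le_finrank_of_injective (φ : (ι → K) →ₐ[K] Module.End K V)
    (hφ : Function.Injective φ) : Fintype.card ι ≤ Module.finrank K V := by
  classical
  have hE : ∀ i, φ (Pi.single i 1) ≠ 0 := fun i h => by
    have h1 : (Pi.single i (1 : K) : ι → K) = 0 := hφ (by rw [h, map_zero])
    have := congrFun h1 i
    simp at this
  have hw : ∀ i, ∃ w : V, φ (Pi.single i 1) w ≠ 0 := fun i => by
    by_contra hcon
    push Not at hcon
    exact hE i (LinearMap.ext hcon)
  choose w hw using hw
  have hli : LinearIndependent K (fun i => φ (Pi.single i 1) (w i)) := by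
    rw [Fintype.linearIndependent_iff]
    intro c hc j
    have h2 := congrArg (φ (Pi.single j 1)) hc
    rw [map_sum, map_zero] at h2
    have h3 : ∀ i, φ (Pi.single j 1) (c i • φ (Pi.single i 1) (w i)) =
        if i = j then c j • φ (Pi.single j 1) (w j) else 0 := by
      intro i
      rw [map_smul, ← Module.End.mul_apply, ← map_mul]
      split_ifs with hij
      · subst hij
        rw [← Pi.single_mul, one_mul]
      · have : (Pi.single j (1 : K) * Pi.single i (1 : K) : ι → K) = 0 := by
          ext l
          rw [Pi.mul_apply, Pi.zero_apply]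
          by_cases hl : l = i
          · subst hl
            rw [Pi.single_eq_of_ne hij, zero_mul]
          · rw [Pi.single_eq_of_ne hl, mul_zero]
        rw [this, map_zero, LinearMap.zero_apply, smul_zero]
    simp only [h3, Finset.sum_ite_eq', Finset.mem_univ, if_true] at h2
    exact (smul_eq_zero.mp h2).resolve_right (hw j)
  exact hli.fintype_card_le_finrank

end Idem

section Bound

universe u v
variable (k : Type u) [Field k] (A : Type v) [Ring A] [Algebra k A] [IsAzumaya k A]

/-- the base change of an Azumaya algebra over a field to an algebraically closed field is a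
matrix algebra -/
theorem exists_algEquiv_matrix (K : Type*) [Field K] [IsAlgClosed K] [Algebra k K] (r : ℕ)
    (hr : Module.finrank k A = r ^ 2) :
    Nonempty (K ⊗[k] A ≃ₐ[K] Matrix (Fin r) (Fin r) K) := by
  have : Module.Finite k A := IsAzumaya.toFinite (R := k)
  have hAz : IsAzumaya K (K ⊗[k] A) := Groth.Agent.Lib.LeadAzumaya.isAzumaya_baseChange K A
  have : IsSimpleRing (K ⊗[k] A) :=
    Groth.Agent.Lib.LeadAzumaya.isSimpleRing_of_isAzumaya_field (k := K)
  obtain ⟨n, _, ⟨e⟩⟩ := IsSimpleRing.exists_algEquiv_matrix_of_isAlgClosed K (K ⊗[k] A)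
  have h1 : Module.finrank K (K ⊗[k] A) = r ^ 2 := by
    rw [Module.finrank_baseChange, hr]
  have h2 : Module.finrank K (K ⊗[k] A) = n ^ 2 := by
    rw [e.toLinearEquiv.finrank_eq, Module.finrank_matrix]
    simp [sq]
  have hn : n = r := by
    have : n ^ 2 = r ^ 2 := h2.symm.trans h1
    exact Nat.pow_left_injective (by norm_num : 2 ≠ 0) this
  subst hn
  exact ⟨e⟩

/-- a commutative separable subalgebra of an Azumaya algebra of rank `r ^ 2` over a field has
dimension at most `r`. -/
theorem finrank_le_of_comm_separable (r : ℕ) (hr : Module.finrank k A = r ^ 2)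
    (L : Subalgebra k A) (hcomm : ∀ x ∈ L, ∀ y ∈ L, x * y = y * x)
    [Algebra.IsSeparable k L] : Module.finrank k L ≤ r := by
  classical
  have : Module.Finite k A := IsAzumaya.toFinite (R := k)
  let K := AlgebraicClosure k
  obtain ⟨e⟩ := exists_algEquiv_matrix k A K r hr
  let _ : CommRing L :=
    { (inferInstance : Ring L) with
      mul_comm := fun a b => Subtype.ext (hcomm a a.2 b b.2) }
  have : Algebra.FormallyUnramified k L :=
    Groth.Agent.Lib.Seat25.SepAlg.formallyUnramified_of_isSeparable
  have : IsReduced (K ⊗[k] L) := Algebra.FormallyUnramified.isReduced_of_field K (K ⊗[k] L)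
  obtain ⟨ι, _, ⟨f⟩⟩ := exists_algEquiv_pi K (K ⊗[k] L)
  let j : K ⊗[k] L →ₐ[K] K ⊗[k] A := Algebra.TensorProduct.map (AlgHom.id K K) L.val
  have hj : Function.Injective j := by
    have : ⇑j = ⇑(LinearMap.lTensor K L.val.toLinearMap) := by
      ext x
      induction x using TensorProduct.induction_on with
      | zero => simp
      | tmul a b => simp [j]
      | add x y hx hy => simp only [map_add, hx, hy]
    rw [this]
    exact Module.Flat.lTensor_preserves_injective_linearMap _ Subtype.val_injective
  let φ : (ι → K) →ₐ[K] Module.End K (Fin r → K) :=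
    (Matrix.toLinAlgEquiv' : Matrix (Fin r) (Fin r) K ≃ₐ[K] _).toAlgHom.comp
      (e.toAlgHom.comp (j.comp f.symm.toAlgHom))
  have hφ : Function.Injective φ := by
    intro x y hxy
    have h1 : e (j (f.symm x)) = e (j (f.symm y)) :=
      (Matrix.toLinAlgEquiv' : Matrix (Fin r) (Fin r) K ≃ₐ[K] _).injective hxy
    exact f.symm.injective (hj (e.injective h1))
  have hcard := card_le_finrank_of_injective φ hφ
  rw [Module.finrank_fin_fun] at hcard
  have h1 : Module.finrank k L = Module.finrank K (K ⊗[k] L) :=
    (Module.finrank_baseChange).symm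
  rw [h1, f.toLinearEquiv.finrank_eq, Module.finrank_pi]
  exact hcard

/-- a commutative separable subalgebra of dimension `r` of an Azumaya algebra of rank `r ^ 2` over
a field is its own centralizer. -/
theorem centralizer_eq_of_finrank_eq (r : ℕ) (hr : Module.finrank k A = r ^ 2)
    (L : Subalgebra k A) (hcomm : ∀ x ∈ L, ∀ y ∈ L, x * y = y * x)
    [hsep : Algebra.IsSeparable k L] (hL : Module.finrank k L = r) :
    Subalgebra.centralizer k (L : Set A) = L := by
  have : Module.Finite k A := IsAzumaya.toFinite (R := k)
  have hAz : IsAzumaya (AlgebraicClosure k) (AlgebraicClosure k ⊗[k] A) :=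
    Groth.Agent.Lib.LeadAzumaya.isAzumaya_baseChange _ A
  have : Module.Finite (AlgebraicClosure k) (AlgebraicClosure k ⊗[k] A) :=
    IsAzumaya.toFinite (R := AlgebraicClosure k)
  have : IsArtinianRing (AlgebraicClosure k ⊗[k] A) :=
    IsArtinianRing.of_finite (AlgebraicClosure k) _
  have : IsSimpleRing (AlgebraicClosure k ⊗[k] A) :=
    Groth.Agent.Lib.LeadAzumaya.isSimpleRing_of_isAzumaya_field (k := AlgebraicClosure k)
  have hss : IsSemisimpleRing (AlgebraicClosure k ⊗[k] A) := inferInstance
  refine ((Groth.Agent.S5701.result k A hss L).mpr ⟨hcomm, hsep, ?_⟩).2.2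
  intro L' hcomm' hsep' hle
  have hle' : Module.finrank k L' ≤ Module.finrank k L := by
    rw [hL]
    exact finrank_le_of_comm_separable k A r hr L' hcomm'
  have h := Submodule.eq_of_le_of_finrank_le
    (show Subalgebra.toSubmodule L ≤ Subalgebra.toSubmodule L' from hle) hle'
  exact (Subalgebra.toSubmodule_injective h).symm

end Bound

section Adjoin

variable {k : Type*} [Field k] {B : Type*} [Ring B] [Algebra k B]

theorem toSubmodule_adjoin_singleton (x : B) (hx : IsIntegral k x) :
    Subalgebra.toSubmodule (Algebra.adjoin k ({x} : Set B)) =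
      Submodule.span k (Set.range fun i : Fin (minpoly k x).natDegree => x ^ (i : ℕ)) := by
  apply le_antisymm
  · intro a ha
    have ha' : a ∈ Algebra.adjoin k ({x} : Set B) := ha
    rw [Algebra.adjoin_singleton_eq_range_aeval k x] at ha'
    obtain ⟨f, rfl⟩ := ha'
    exact IsIntegral.mem_span_pow (R := k) (x := x) (y := aeval x f) hx ⟨f, rfl⟩
  · rw [Submodule.span_le]
    rintro _ ⟨i, rfl⟩
    exact Subalgebra.pow_mem (Algebra.adjoin k ({x} : Set B))
      (Algebra.subset_adjoin (Set.mem_singleton x)) _

theorem finrank_adjoin_singleton (x : B) (hx : IsIntegral k x) :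
    Module.finrank k (Algebra.adjoin k ({x} : Set B)) = (minpoly k x).natDegree := by
  have h1 : Module.finrank k (Algebra.adjoin k ({x} : Set B)) =
      Module.finrank k (Subalgebra.toSubmodule (Algebra.adjoin k ({x} : Set B))) := rfl
  rw [h1, toSubmodule_adjoin_singleton x hx, finrank_span_eq_card (linearIndependent_pow x)]
  simp

theorem adjoin_singleton_comm (x : B) :
    ∀ a ∈ Algebra.adjoin k ({x} : Set B), ∀ b ∈ Algebra.adjoin k ({x} : Set B), a * b = b * a := by
  intro a ha b hb
  have hb' : b ∈ Subalgebra.centralizer k ({x} : Set B) := by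
    rw [Subalgebra.mem_centralizer_iff]
    intro g hg
    rw [Set.mem_singleton_iff] at hg
    subst hg
    exact (Algebra.commute_of_mem_adjoin_self hb).eq
  exact ((Algebra.adjoin_le_centralizer_centralizer k ({x} : Set B) ha) b hb').symm

end Adjoin

section Main
universe u
open IsLocalRing

variable (R : Type u) [CommRing R] [IsLocalRing R] (A : Type u) [Ring A] [Algebra R A]

omit [IsLocalRing R] in
/-- `k ⊗ (a ↦ ξ a - a ξ)` is `a ↦ x a - a x` for `x = 1 ⊗ ξ`. -/
theorem lTensor_ad_apply (k : Type*) [CommRing k] [Algebra R k] (ξ : A) (a : k ⊗[R] A) :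
    (LinearMap.mulLeft R ξ - LinearMap.mulRight R ξ).lTensor k a =
      ((1 : k) ⊗ₜ[R] ξ) * a - a * ((1 : k) ⊗ₜ[R] ξ) := by
  induction a using TensorProduct.induction_on with
  | zero => simp
  | add a b ha hb => rw [map_add, ha, hb, mul_add, add_mul]; abel
  | tmul c a =>
    rw [LinearMap.lTensor_tmul, LinearMap.sub_apply, LinearMap.mulLeft_apply,
      LinearMap.mulRight_apply, TensorProduct.tmul_sub, Algebra.TensorProduct.tmul_mul_tmul,
      Algebra.TensorProduct.tmul_mul_tmul, one_mul, mul_one]

theorem powers_basis [IsAzumaya R A] (r : ℕ) (hA : Module.finrank R A = r ^ 2) (ξ : A)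
    (hsep : Algebra.IsSeparable (ResidueField R) (Algebra.adjoin (ResidueField R)
      ({(1 : ResidueField R) ⊗ₜ[R] ξ} : Set (ResidueField R ⊗[R] A))))
    (hrk : Module.finrank (ResidueField R) (Algebra.adjoin (ResidueField R)
      ({(1 : ResidueField R) ⊗ₜ[R] ξ} : Set (ResidueField R ⊗[R] A))) = r) :
    LinearIndependent R (fun i : Fin r => ξ ^ (i : ℕ)) ∧
      ξ ^ r ∈ Submodule.span R (Set.range (fun i : Fin r => ξ ^ (i : ℕ))) := by
  have : Module.Finite R A := IsAzumaya.toFinite (R := R)
  have : Module.Projective R A := IsAzumaya.toProjective (R := R)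
  have : Module.Free R A := Module.free_of_flat_of_isLocalRing
  have hAz : IsAzumaya (ResidueField R) (ResidueField R ⊗[R] A) :=
    Groth.Agent.Lib.LeadAzumaya.isAzumaya_baseChange _ A
  have : Module.Finite (ResidueField R) (ResidueField R ⊗[R] A) :=
    IsAzumaya.toFinite (R := ResidueField R)
  have hfr : Module.finrank (ResidueField R) (ResidueField R ⊗[R] A) = r ^ 2 := by
    rw [Module.finrank_baseChange, hA]
  set x : ResidueField R ⊗[R] A := (1 : ResidueField R) ⊗ₜ[R] ξ with hx
  have hxint : IsIntegral (ResidueField R) x := IsIntegral.of_finite _ x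
  have hd : (minpoly (ResidueField R) x).natDegree = r := by
    rw [← finrank_adjoin_singleton x hxint, hrk]
  have hxpow : ∀ n : ℕ, x ^ n = (1 : ResidueField R) ⊗ₜ[R] (ξ ^ n) := fun n => by
    rw [hx, Algebra.TensorProduct.tmul_pow, one_pow]
  -- centralizer
  have hcent := centralizer_eq_of_finrank_eq (ResidueField R) (ResidueField R ⊗[R] A) r hfr
    (Algebra.adjoin (ResidueField R) ({x} : Set (ResidueField R ⊗[R] A)))
    (adjoin_singleton_comm x) (hsep := hsep) hrk
  subst hd
  constructor
  · apply Module.IsLocalRing.linearIndependent_of_flat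
    have : (TensorProduct.mk R (ResidueField R) A 1 ∘ fun i : Fin _ => ξ ^ (i : ℕ)) =
        fun i : Fin (minpoly (ResidueField R) x).natDegree => x ^ (i : ℕ) := by
      funext i
      rw [Function.comp_apply, TensorProduct.mk_apply, hxpow]
    rw [this]
    exact linearIndependent_pow x
  · set v : Fin (minpoly (ResidueField R) x).natDegree → A := fun i => ξ ^ (i : ℕ) with hv
    set M' : Submodule R A := Submodule.span R (Set.range v) with hM'
    let ad : A →ₗ[R] A := LinearMap.mulLeft R ξ - LinearMap.mulRight R ξ
    have hadpow : ∀ n : ℕ, ad (ξ ^ n) = 0 := fun n => by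
      change ξ * ξ ^ n - ξ ^ n * ξ = 0
      rw [← pow_succ, ← pow_succ', sub_self]
    have hle : M' ≤ LinearMap.ker ad := by
      rw [hM', Submodule.span_le]
      rintro _ ⟨i, rfl⟩
      exact hadpow _
    let ad' : (A ⧸ M') →ₗ[R] A := M'.liftQ ad hle
    have hcomp : ad' ∘ₗ M'.mkQ = ad := Submodule.liftQ_mkQ _ _ _
    have hinj : Function.Injective (ad'.lTensor (ResidueField R)) := by
      rw [injective_iff_map_eq_zero]
      intro z hz
      obtain ⟨a, rfl⟩ := LinearMap.lTensor_surjective (ResidueField R) M'.mkQ_surjective z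
      rw [← LinearMap.comp_apply, ← LinearMap.lTensor_comp, hcomp, lTensor_ad_apply] at hz
      have ha : a ∈ Subalgebra.centralizer (ResidueField R)
          ((Algebra.adjoin (ResidueField R) ({x} : Set (ResidueField R ⊗[R] A)) : Subalgebra _ _) :
            Set (ResidueField R ⊗[R] A)) := by
        have h1 : Algebra.adjoin (ResidueField R) ({x} : Set (ResidueField R ⊗[R] A)) ≤
            Subalgebra.centralizer (ResidueField R) ({a} : Set (ResidueField R ⊗[R] A)) := by
          rw [Algebra.adjoin_le_iff, Set.singleton_subset_iff]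
          change x ∈ Subalgebra.centralizer (ResidueField R) ({a} : Set (ResidueField R ⊗[R] A))
          rw [Subalgebra.mem_centralizer_iff]
          intro g hg
          rw [Set.mem_singleton_iff] at hg
          subst hg
          exact (sub_eq_zero.mp hz).symm
        rw [Subalgebra.mem_centralizer_iff]
        intro g hg
        have := h1 hg
        rw [Subalgebra.mem_centralizer_iff] at this
        exact (this a rfl).symm
      rw [hcent] at ha
      have ha' : a ∈ Subalgebra.toSubmodule
          (Algebra.adjoin (ResidueField R) ({x} : Set (ResidueField R ⊗[R] A))) := ha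
      rw [toSubmodule_adjoin_singleton x hxint] at ha'
      have hker : Submodule.span (ResidueField R)
          (Set.range fun i : Fin (minpoly (ResidueField R) x).natDegree => x ^ (i : ℕ)) ≤
          LinearMap.ker (M'.mkQ.baseChange (ResidueField R)) := by
        rw [Submodule.span_le]
        rintro _ ⟨i, rfl⟩
        change (M'.mkQ.baseChange (ResidueField R)) (x ^ (i : ℕ)) = 0
        rw [hxpow, LinearMap.baseChange_tmul]
        have : M'.mkQ (ξ ^ (i : ℕ)) = 0 :=
          (Submodule.Quotient.mk_eq_zero M').mpr (Submodule.subset_span ⟨i, rfl⟩)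
        rw [this, TensorProduct.tmul_zero]
      have := hker ha'
      rw [LinearMap.mem_ker, LinearMap.baseChange_eq_ltensor] at this
      exact this
    obtain ⟨l', hl'⟩ :=
      (IsLocalRing.split_injective_iff_lTensor_residueField_injective ad').mpr hinj
    have hinj' : Function.Injective ad' := fun a b hab => by
      have := congrArg l' hab
      rwa [← LinearMap.comp_apply, ← LinearMap.comp_apply, hl'] at this
    have h0 : ad' (M'.mkQ (ξ ^ (minpoly (ResidueField R) x).natDegree)) = 0 := by
      rw [← LinearMap.comp_apply, hcomp]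
      exact hadpow _
    have h1 : M'.mkQ (ξ ^ (minpoly (ResidueField R) x).natDegree) = 0 :=
      hinj' (h0.trans (map_zero ad').symm)
    exact (Submodule.Quotient.mk_eq_zero M').mp h1

end Main

end Groth.Agent.Lib.Seat25.AzReg
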