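import Mathlib
import Groth.Agent.Lib.Seat25AbsSS
import Groth.Agent.Lib.Seat25AzReg

/-!
# Seat25AzFree: an Azumaya algebra is free over a maximal étale subalgebra

* `exists_injective_apply`: faithful representation of a reduced f.d. commutative algebra has a
  vector with trivial annihilator.
* `biact`, `exists_bijective_biact`: for `L` étale commutative of dimension `r` inside an Azumaya
  algebra `A` of rank `r²` over a field, `A` is free of rank one over `L ⊗ L`.
* `exists_bijective_sum`, `exists_basis`: over a local ring, `A` is free of rank `r` over a finite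
  étale free `E` of rank `r` mapping to `A` injectively on the special fibre (right action).
* `surjective_of_forall_maximal`: global Nakayama for surjectivity.
* `nonempty_algEquiv_end`: `E ⊗[R] A ≃ₐ[E] End_E(A)`.
-/

set_option autoImplicit false
open Polynomial TensorProduct

namespace Groth.Agent.Lib.Seat25.AzFree

open Groth.Agent.Lib.Seat25.AbsSS IsLocalRing

section KL

variable {k : Type*} [Field k] {S : Type*} [CommRing S] [Algebra k S] [FiniteDimensional k S]
  [IsReduced S] {M : Type*} [AddCommGroup M] [Module k M]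

/-- a faithful representation of a reduced finite-dimensional commutative algebra has a vector
with trivial annihilator. -/
theorem exists_injective_apply (ρ : S →ₐ[k] Module.End k M) (hρ : Function.Injective ρ) :
    ∃ a : M, Function.Injective (fun s : S => ρ s a) := by
  classical
  have : IsArtinianRing S := IsArtinianRing.of_finite k S
  have : Fintype (MaximalSpectrum S) := Fintype.ofFinite _
  let ψ : S ≃+* ∀ Q : MaximalSpectrum S, S ⧸ Q.asIdeal := IsArtinianRing.equivPi S
  let _ : ∀ Q : MaximalSpectrum S, Field (S ⧸ Q.asIdeal) := fun Q =>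
    Ideal.Quotient.field Q.asIdeal
  let e : MaximalSpectrum S → S := fun Q => ψ.symm (Pi.single Q 1)
  have he_mul : ∀ Q Q', e Q * e Q' = if Q = Q' then e Q else 0 := by
    intro Q Q'
    apply ψ.injective
    simp only [e, map_mul, RingEquiv.apply_symm_apply]
    split_ifs with h
    · subst h
      rw [RingEquiv.apply_symm_apply, ← Pi.single_mul, one_mul]
    · rw [map_zero]
      ext P
      rw [Pi.mul_apply, Pi.zero_apply]
      by_cases hP : P = Q
      · subst hP
        rw [Pi.single_eq_of_ne h, mul_zero]
      · rw [Pi.single_eq_of_ne hP, zero_mul]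
  have he_ne : ∀ Q, ρ (e Q) ≠ 0 := by
    intro Q h
    have h1 : e Q = 0 := hρ (by rw [h, map_zero])
    have h2 : (Pi.single Q (1 : S ⧸ Q.asIdeal) : ∀ Q : MaximalSpectrum S, S ⧸ Q.asIdeal) = 0 := by
      have := congrArg ψ h1
      simp only [e, RingEquiv.apply_symm_apply, map_zero] at this
      exact this
    have := congrFun h2 Q
    simp at this
  have hw : ∀ Q, ∃ w : M, ρ (e Q) w ≠ 0 := fun Q => by
    by_contra hcon
    push Not at hcon
    exact he_ne Q (LinearMap.ext hcon)
  choose w hw using hw
  refine ⟨∑ Q, ρ (e Q) (w Q), ?_⟩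
  have hsum : ∀ Q, ρ (e Q) (∑ Q', ρ (e Q') (w Q')) = ρ (e Q) (w Q) := by
    intro Q
    rw [map_sum]
    have : ∀ Q', ρ (e Q) (ρ (e Q') (w Q')) = if Q = Q' then ρ (e Q) (w Q) else 0 := by
      intro Q'
      rw [← Module.End.mul_apply, ← map_mul, he_mul]
      split_ifs with h
      · subst h; rfl
      · rw [map_zero, LinearMap.zero_apply]
    simp only [this, Finset.sum_ite_eq, Finset.mem_univ, if_true]
  intro s s' hss'
  have h0 : ρ (s - s') (∑ Q, ρ (e Q) (w Q)) = 0 := by
    rw [map_sub, LinearMap.sub_apply]
    exact sub_eq_zero.mpr hss'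
  have hψ : ψ (s - s') = 0 := by
    funext Q
    by_contra hQ
    rw [Pi.zero_apply] at hQ
    let t' : S := ψ.symm (Pi.single Q (ψ (s - s') Q)⁻¹)
    have ht' : t' * (s - s') = e Q := by
      apply ψ.injective
      simp only [t', e, map_mul, RingEquiv.apply_symm_apply]
      ext P
      rw [Pi.mul_apply]
      by_cases hP : P = Q
      · subst hP
        rw [Pi.single_eq_same, Pi.single_eq_same, inv_mul_cancel₀ hQ]
      · rw [Pi.single_eq_of_ne hP, Pi.single_eq_of_ne hP, zero_mul]
    have h1 : ρ (e Q) (∑ Q, ρ (e Q) (w Q)) = 0 := by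
      rw [← ht', map_mul, Module.End.mul_apply, h0, map_zero]
    rw [hsum] at h1
    exact hw Q h1
  have : s - s' = 0 := ψ.injective (by rw [hψ, map_zero])
  exact sub_eq_zero.mp this

end KL

section FLT

variable (k : Type*) [Field k] (A : Type*) [Ring A] [Algebra k A] [IsAzumaya k A]
  (L : Type*) [CommRing L] [Algebra k L] [Algebra.Etale k L] [Module.Finite k L]

/-- the two-sided action `l ⊗ l' ↦ (x ↦ u l * x * u l')` -/
noncomputable def biact (u : L →ₐ[k] A) : L ⊗[k] L →ₐ[k] Module.End k A :=
  (actHom u).comp (Algebra.TensorProduct.map u (AlgHom.id k L))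

omit [IsAzumaya k A] [Algebra.Etale k L] [Module.Finite k L] in
theorem biact_tmul (u : L →ₐ[k] A) (l l' : L) (x : A) :
    biact k A L u (l ⊗ₜ[k] l') x = u l * x * u l' := by
  rw [biact, AlgHom.comp_apply, Algebra.TensorProduct.map_tmul, actHom_tmul, AlgHom.id_apply]

omit [Module.Finite k L] in
theorem biact_injective (u : L →ₐ[k] A) (hu : Function.Injective u) :
    Function.Injective (biact k A L u) := by
  have h1 : Function.Injective (Algebra.TensorProduct.map u (AlgHom.id k L)) := by
    have : ⇑(Algebra.TensorProduct.map u (AlgHom.id k L)) = ⇑(LinearMap.rTensor L u.toLinearMap) := by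
      ext x
      induction x using TensorProduct.induction_on with
      | zero => simp
      | tmul a b => simp
      | add x y hx hy => simp only [map_add, hx, hy]
    rw [this]
    exact Module.Flat.rTensor_preserves_injective_linearMap _ hu
  have h2 : Function.Injective (actHom u) := by
    set g := u.toOpposite (fun x y => by rw [commute_iff_eq, ← map_mul, ← map_mul, mul_comm])
      with hg
    have hginj : Function.Injective g := fun x y hxy => hu (MulOpposite.op_injective hxy)
    have hmap : Function.Injective (Algebra.TensorProduct.map (AlgHom.id k A) g) := by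
      have : ⇑(Algebra.TensorProduct.map (AlgHom.id k A) g) =
          ⇑(LinearMap.lTensor A g.toLinearMap) := by
        ext x
        induction x using TensorProduct.induction_on with
        | zero => simp
        | tmul a b => simp
        | add x y hx hy => simp only [map_add, hx, hy]
      rw [this]
      exact Module.Flat.lTensor_preserves_injective_linearMap _ hginj
    intro x y hxy
    have hxy' : AlgHom.mulLeftRight k A (Algebra.TensorProduct.map (AlgHom.id k A) g x) =
        AlgHom.mulLeftRight k A (Algebra.TensorProduct.map (AlgHom.id k A) g y) := hxy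
    exact hmap ((IsAzumaya.bij (R := k) (A := A)).1 hxy')
  exact h2.comp h1

/-- for a commutative étale subalgebra `L` of dimension `r` of an Azumaya algebra `A` of rank
`r ^ 2` over a field, `A` is free of rank one over `L ⊗ L`. -/
theorem exists_bijective_biact (r : ℕ) (hr : Module.finrank k A = r ^ 2)
    (hL : Module.finrank k L = r) (u : L →ₐ[k] A) (hu : Function.Injective u) :
    ∃ a₀ : A, Function.Bijective (fun s : L ⊗[k] L => biact k A L u s a₀) := by
  have : Module.Finite k A := IsAzumaya.toFinite (R := k)
  have : Algebra.Etale k (L ⊗[k] L) := Algebra.Etale.comp k L (L ⊗[k] L)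
  have : IsReduced (L ⊗[k] L) := Algebra.FormallyUnramified.isReduced_of_field k (L ⊗[k] L)
  obtain ⟨a₀, ha₀⟩ := exists_injective_apply (biact k A L u) (biact_injective k A L u hu)
  refine ⟨a₀, ha₀, ?_⟩
  let Ψ : L ⊗[k] L →ₗ[k] A := (LinearMap.applyₗ a₀) ∘ₗ (biact k A L u).toLinearMap
  have hΨ : ⇑Ψ = fun s : L ⊗[k] L => biact k A L u s a₀ := rfl
  have hfr : Module.finrank k (L ⊗[k] L) = Module.finrank k A := by
    rw [Module.finrank_tensorProduct, hL, hr, sq]
  rw [← hΨ] at ha₀ ⊢
  exact (LinearMap.injective_iff_surjective_of_finrank_eq_finrank hfr).mp ha₀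

end FLT

section Lift

universe u
variable (R : Type u) [CommRing R] [IsLocalRing R] (A : Type u) [Ring A] [Algebra R A]
  [IsAzumaya R A] (E : Type u) [CommRing E] [Algebra R E] [Algebra.Etale R E] [Module.Finite R E]
  [Module.Free R E]

theorem exists_bijective_sum (r : ℕ) (hA : Module.finrank R A = r ^ 2)
    (hE : Module.finrank R E = r) (u : E →ₐ[R] A)
    (hu : Function.Injective (u.toLinearMap.lTensor (ResidueField R))) :
    ∃ b : Fin r → A, Function.Bijective (fun e : Fin r → E => ∑ i, b i * u (e i)) := by
  classical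
  have : Module.Finite R A := IsAzumaya.toFinite (R := R)
  have : Module.Projective R A := IsAzumaya.toProjective (R := R)
  have : Module.Free R A := Module.free_of_flat_of_isLocalRing
  have hAz : IsAzumaya (ResidueField R) (ResidueField R ⊗[R] A) :=
    Groth.Agent.Lib.LeadAzumaya.isAzumaya_baseChange _ A
  have hfr : Module.finrank (ResidueField R) (ResidueField R ⊗[R] A) = r ^ 2 := by
    rw [Module.finrank_baseChange, hA]
  have hfrE : Module.finrank (ResidueField R) (ResidueField R ⊗[R] E) = r := by
    rw [Module.finrank_baseChange, hE]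
  -- the special fibre of `u`
  let ubar : ResidueField R ⊗[R] E →ₐ[ResidueField R] ResidueField R ⊗[R] A :=
    Algebra.TensorProduct.map (AlgHom.id (ResidueField R) (ResidueField R)) u
  have hubar : Function.Injective ubar := by
    have : ⇑ubar = ⇑(u.toLinearMap.lTensor (ResidueField R)) := by
      ext x
      induction x using TensorProduct.induction_on with
      | zero => simp
      | tmul a b => simp [ubar]
      | add x y hx hy => simp only [map_add, hx, hy]
    rw [this]
    exact hu
  obtain ⟨a₀, -, ha₀⟩ := exists_bijective_biact (ResidueField R) (ResidueField R ⊗[R] A)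
    (ResidueField R ⊗[R] E) r hfr hfrE ubar hubar
  obtain ⟨α, rfl⟩ : ∃ α : A, (1 : ResidueField R) ⊗ₜ[R] α = a₀ :=
    TensorProduct.mk_surjective R A (ResidueField R) residue_surjective a₀
  let bE : Module.Basis (Fin r) R E := Module.finBasisOfFinrankEq R E hE
  let bK := Algebra.TensorProduct.basis (ResidueField R) bE
  have hbK : ∀ i, bK i = (1 : ResidueField R) ⊗ₜ[R] bE i := fun i =>
    Algebra.TensorProduct.basis_apply bE i
  refine ⟨fun i => u (bE i) * α, ?_⟩
  -- the `R`-linear map
  let Φ : (Fin r → E) →ₗ[R] A :=
    ∑ i, (LinearMap.mulLeft R (u (bE i) * α)) ∘ₗ u.toLinearMap ∘ₗ (LinearMap.proj i)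
  have hΦ : ∀ e : Fin r → E, Φ e = ∑ i, u (bE i) * α * u (e i) := by
    intro e
    simp [Φ, LinearMap.sum_apply, mul_assoc]
  have hΦ' : (fun e : Fin r → E => ∑ i, u (bE i) * α * u (e i)) = ⇑Φ := funext fun e => (hΦ e).symm
  rw [hΦ']
  have hsurj : Function.Surjective Φ := by
    apply Groth.Agent.Lib.LeadAzumaya.surjective_of_lTensor_residueField_surjective
    intro z
    obtain ⟨s, hs⟩ := ha₀ z
    obtain ⟨c, rfl⟩ := TensorProduct.eq_repr_basis_left bK s
    have hlift : ∀ i, ∃ e : E, (1 : ResidueField R) ⊗ₜ[R] e = c i := fun i =>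
      TensorProduct.mk_surjective R E (ResidueField R) residue_surjective (c i)
    choose e he using hlift
    refine ⟨(1 : ResidueField R) ⊗ₜ[R] e, ?_⟩
    have hubar1 : ∀ y : E, ubar ((1 : ResidueField R) ⊗ₜ[R] y) = (1 : ResidueField R) ⊗ₜ[R] u y :=
      fun y => by simp [ubar]
    have hterm : ∀ d, biact (ResidueField R) (ResidueField R ⊗[R] A) (ResidueField R ⊗[R] E) ubar
        (bK d ⊗ₜ[ResidueField R] c d) ((1 : ResidueField R) ⊗ₜ[R] α) =
        (1 : ResidueField R) ⊗ₜ[R] (u (bE d) * α * u (e d)) := by
      intro d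
      rw [biact_tmul, hbK, ← he d, hubar1, hubar1, Algebra.TensorProduct.tmul_mul_tmul,
        Algebra.TensorProduct.tmul_mul_tmul, one_mul, one_mul]
    rw [LinearMap.lTensor_tmul, hΦ, ← hs, TensorProduct.tmul_sum]
    simp only [Finsupp.sum, map_sum, LinearMap.sum_apply]
    simp only [hterm]
    symm
    apply Finset.sum_subset (Finset.subset_univ _)
    intro d _ hd
    rw [Finsupp.notMem_support_iff] at hd
    rw [← hterm, hd, TensorProduct.tmul_zero, map_zero, LinearMap.zero_apply]
  have hfrank : Module.finrank R A = Module.finrank R (Fin r → E) := by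
    rw [Module.finrank_pi_fintype]
    simp [hE, hA, sq]
  let σ : A ≃ₗ[R] (Fin r → E) := LinearEquiv.ofFinrankEq A (Fin r → E) hfrank
  have hinj : Function.Injective Φ := by
    have h1 : Function.Surjective (Φ ∘ₗ σ.toLinearMap) := hsurj.comp σ.surjective
    have h2 := OrzechProperty.injective_of_surjective_endomorphism _ h1
    intro x y hxy
    have := h2 (a₁ := σ.symm x) (a₂ := σ.symm y) (by simpa using hxy)
    exact σ.symm.injective this
  exact ⟨hinj, hsurj⟩

end Lift

section GN

variable {E : Type*} [CommRing E] {B C : Type*} [AddCommGroup B] [Module E B]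
  [AddCommGroup C] [Module E C] [Module.Finite E C]

/-- global Nakayama: a linear map into a finite module is surjective if it is so modulo every
maximal ideal. -/
theorem surjective_of_forall_maximal (φ : B →ₗ[E] C)
    (h : ∀ P : Ideal E, P.IsMaximal → Function.Surjective (φ.lTensor (E ⧸ P))) :
    Function.Surjective φ := by
  rw [← LinearMap.range_eq_top]
  by_contra hne
  set N := LinearMap.range φ with hN
  -- the annihilator of the cokernel
  let I : Ideal E := (⊤ : Submodule E (C ⧸ N)).annihilator
  have hI : I ≠ ⊤ := by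
    intro hI
    apply hne
    rw [eq_top_iff]
    intro c _
    have h1 : (1 : E) ∈ I := by rw [hI]; exact Submodule.mem_top
    have h2 := (Submodule.mem_annihilator.mp h1) (N.mkQ c) Submodule.mem_top
    rw [one_smul] at h2
    exact (Submodule.Quotient.mk_eq_zero N).mp h2
  obtain ⟨P, hP, hIP⟩ := Ideal.exists_le_maximal I hI
  have hsup : ∀ c : C, ∃ b : B, c - φ b ∈ P • (⊤ : Submodule E C) := by
    intro c
    obtain ⟨z, hz⟩ := h P hP ((1 : E ⧸ P) ⊗ₜ[E] c)
    obtain ⟨b, rfl⟩ := TensorProduct.mk_surjective E B (E ⧸ P) Ideal.Quotient.mk_surjective z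
    refine ⟨b, ?_⟩
    have h0 : (1 : E ⧸ P) ⊗ₜ[E] (c - φ b) = 0 := by
      rw [TensorProduct.tmul_sub, ← hz]
      simp
    have h1 := quotTensorEquivQuotSMul_mk_one_tmul (M := C) P (c - φ b)
    rw [h0, map_zero] at h1
    exact (Submodule.Quotient.mk_eq_zero _).mp h1.symm
  -- the quotient `C ⧸ N` satisfies `Q = P Q`
  have hQ : (⊤ : Submodule E (C ⧸ N)) ≤ P • ⊤ := by
    intro q _
    obtain ⟨c, rfl⟩ := N.mkQ_surjective q
    obtain ⟨b, hb⟩ := hsup c
    have h1 : N.mkQ c = N.mkQ (c - φ b) := by
      have h2 : N.mkQ (φ b) = 0 := (Submodule.Quotient.mk_eq_zero N).mpr ⟨b, rfl⟩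
      rw [map_sub, h2, sub_zero]
    rw [h1]
    have : N.mkQ (c - φ b) ∈ Submodule.map N.mkQ (P • (⊤ : Submodule E C)) := ⟨_, hb, rfl⟩
    rw [Submodule.map_smul''] at this
    exact Submodule.smul_mono le_rfl le_top this
  obtain ⟨e, he1, he2⟩ := Submodule.exists_sub_one_mem_and_smul_eq_zero_of_fg_of_le_smul P
    (⊤ : Submodule E (C ⧸ N)) Module.Finite.fg_top hQ
  have heI : e ∈ I := Submodule.mem_annihilator.mpr he2
  have : (1 : E) ∈ P := by
    have h1 : e ∈ P := hIP heI
    have := P.sub_mem h1 he1
    simpa using this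
  exact hP.ne_top ((Ideal.eq_top_iff_one P).mpr this)

end GN

section Main

universe u
variable (R : Type u) [CommRing R] [IsLocalRing R] (A : Type u) [Ring A] [Algebra R A]
  [IsAzumaya R A] (E : Type u) [CommRing E] [Algebra R E] [Algebra.Etale R E] [Module.Finite R E]
  [Module.Free R E]

theorem exists_basis (r : ℕ) (hA : Module.finrank R A = r ^ 2)
    (hE : Module.finrank R E = r) (u : E →ₐ[R] A)
    (hu : Function.Injective (u.toLinearMap.lTensor (ResidueField R)))
    [Module E A] (hmod : ∀ (e : E) (a : A), e • a = a * u e) :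
    Nonempty (Module.Basis (Fin r) E A) := by
  obtain ⟨b, hb⟩ := exists_bijective_sum R A E r hA hE u hu
  let Φ : (Fin r → E) →ₗ[E] A :=
    { toFun := fun e => ∑ i, b i * u (e i)
      map_add' := fun e e' => by
        simp only [Pi.add_apply, map_add, mul_add, Finset.sum_add_distrib]
      map_smul' := fun c e => by
        simp only [Pi.smul_apply, smul_eq_mul, RingHom.id_apply, hmod, Finset.sum_mul]
        refine Finset.sum_congr rfl fun i _ => ?_
        rw [mul_comm c (e i), map_mul, mul_assoc] }
  exact ⟨Module.Basis.ofEquivFun (LinearEquiv.ofBijective Φ hb).symm⟩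

theorem nonempty_algEquiv_end (r : ℕ) (hA : Module.finrank R A = r ^ 2)
    (hE : Module.finrank R E = r) (u : E →ₐ[R] A)
    (hu : Function.Injective (u.toLinearMap.lTensor (ResidueField R)))
    [Module E A] (hmod : ∀ (e : E) (a : A), e • a = a * u e) :
    Nonempty ((E ⊗[R] A) ≃ₐ[E] Module.End E A) := by
  classical
  have : Module.Finite R A := IsAzumaya.toFinite (R := R)
  have : Module.Projective R A := IsAzumaya.toProjective (R := R)
  have : Module.Free R A := Module.free_of_flat_of_isLocalRing
  have : Nontrivial A := by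
    have hinj : Function.Injective (algebraMap R A) := FaithfulSMul.algebraMap_injective R A
    exact hinj.nontrivial
  have : Nontrivial E := u.toRingHom.domain_nontrivial
  obtain ⟨bA⟩ := exists_basis R A E r hA hE u hu hmod
  have : Module.Free E A := Module.Free.of_basis bA
  have : Module.Finite E A := Module.Finite.of_basis bA
  have hrankA : Module.finrank E A = r := by
    rw [Module.finrank_eq_card_basis bA, Fintype.card_fin]
  have hrpos : 0 < r := by
    have h := (Module.finrank_pos_iff_of_free (R := R) (M := A)).mpr inferInstance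
    rw [hA] at h
    exact Nat.pos_of_ne_zero fun h0 => by simp [h0] at h
  have : IsScalarTower R E A := ⟨fun c e a => by
    rw [hmod, hmod, map_smul, mul_smul_comm]⟩
  have : SMulCommClass E R A := ⟨fun e c a => by
    rw [hmod, hmod, smul_mul_assoc]⟩
  -- left multiplication
  let g : A →ₐ[R] Module.End E A :=
    { toFun := fun a =>
        { toFun := fun y => a * y
          map_add' := fun y y' => mul_add a y y'
          map_smul' := fun e y => by
            simp only [hmod, RingHom.id_apply, mul_assoc] }
      map_one' := by ext y; simp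
      map_mul' := fun a a' => by ext y; simp [mul_assoc]
      map_zero' := by ext y; simp
      map_add' := fun a a' => by ext y; simp [add_mul]
      commutes' := fun c => by
        ext y
        simp [Algebra.algebraMap_eq_smul_one] }
  have hfg : ∀ (e : E) (a : A), Commute (Algebra.ofId E (Module.End E A) e) (g a) := by
    intro e a
    ext y
    simp [g, Algebra.ofId_apply, Module.algebraMap_end_apply, hmod, mul_assoc]
  let φ : E ⊗[R] A →ₐ[E] Module.End E A :=
    Algebra.TensorProduct.lift (Algebra.ofId E (Module.End E A)) g hfg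
  -- ranks
  have hAzB : IsAzumaya E (E ⊗[R] A) := Groth.Agent.Lib.LeadAzumaya.isAzumaya_baseChange E A
  have hrankB : Module.finrank E (E ⊗[R] A) = r ^ 2 := by
    rw [Module.finrank_baseChange, hA]
  have hrankC : Module.finrank E (Module.End E A) = r ^ 2 := by
    rw [Module.finrank_linearMap, hrankA, sq]
  -- surjectivity modulo every maximal ideal
  have hsurj : Function.Surjective φ := by
    have h1 : Function.Surjective φ.toLinearMap := by
      apply surjective_of_forall_maximal
      intro P hP
      let _ : Field (E ⧸ P) := Ideal.Quotient.field P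
      have hAzF : IsAzumaya (E ⧸ P) ((E ⧸ P) ⊗[E] (E ⊗[R] A)) :=
        Groth.Agent.Lib.LeadAzumaya.isAzumaya_baseChange (E ⧸ P) (E ⊗[R] A)
      have : IsSimpleRing ((E ⧸ P) ⊗[E] (E ⊗[R] A)) :=
        Groth.Agent.Lib.LeadAzumaya.isSimpleRing_of_isAzumaya_field (k := E ⧸ P)
      have hrB : Module.finrank (E ⧸ P) ((E ⧸ P) ⊗[E] (E ⊗[R] A)) = r ^ 2 := by
        rw [Module.finrank_baseChange, hrankB]
      have hrC : Module.finrank (E ⧸ P) ((E ⧸ P) ⊗[E] (Module.End E A)) = r ^ 2 := by
        rw [Module.finrank_baseChange, hrankC]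
      have : Nontrivial ((E ⧸ P) ⊗[E] (Module.End E A)) := by
        apply Module.nontrivial_of_finrank_pos (R := E ⧸ P)
        rw [hrC]
        positivity
      let φP : (E ⧸ P) ⊗[E] (E ⊗[R] A) →ₐ[E ⧸ P] (E ⧸ P) ⊗[E] (Module.End E A) :=
        Algebra.TensorProduct.map (AlgHom.id (E ⧸ P) (E ⧸ P)) φ
      have hφP : Function.Injective φP := RingHom.injective φP.toRingHom
      have hφP' : Function.Surjective φP :=
        (LinearMap.injective_iff_surjective_of_finrank_eq_finrank
          (f := φP.toLinearMap) (hrB.trans hrC.symm)).mp hφP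
      have heq : ⇑(φ.toLinearMap.lTensor (E ⧸ P)) = ⇑φP := by
        ext x
        induction x using TensorProduct.induction_on with
        | zero => simp
        | tmul a b => simp [φP]
        | add x y hx hy => simp only [map_add, hx, hy]
      rw [heq]
      exact hφP'
    exact h1
  -- injectivity by Orzech
  have hinj : Function.Injective φ := by
    let σ : Module.End E A ≃ₗ[E] E ⊗[R] A :=
      LinearEquiv.ofFinrankEq _ _ (hrankC.trans hrankB.symm)
    have h1 : Function.Surjective (φ.toLinearMap ∘ₗ σ.toLinearMap) := hsurj.comp σ.surjective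
    have h2 := OrzechProperty.injective_of_surjective_endomorphism _ h1
    intro x y hxy
    have := h2 (a₁ := σ.symm x) (a₂ := σ.symm y) (by simpa using hxy)
    exact σ.symm.injective this
  exact ⟨AlgEquiv.ofBijective φ ⟨hinj, hsurj⟩⟩

end Main

end Groth.Agent.Lib.Seat25.AzFree
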