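import Mathlib

/-!
# Seat25MonicEt: monic polynomials, separability and étale algebras (pure Mathlib)

* `separable_iff_resultant_ne_zero`: for monic `f` over a field, `f.Separable ↔ Res(f, f') ≠ 0`
  (any admissible size for `f'`).
* `isCoprime_derivative_of_separable_map`: over a local ring, monic `f` with separable reduction is
  coprime to `f'`.
* `etale_adjoinRoot`: `R[X]/(f)` is étale for `f` monic coprime to `f'`.
* `minpoly_eq_charpoly_of_separable`: matrix over alg. closed field with separable charpoly.
* `aeval_one_tmul`, `minpoly_one_tmul`: `minpoly K (1 ⊗ x) = (minpoly k x).map`.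
-/

set_option autoImplicit false
open Polynomial TensorProduct

namespace Groth.Agent.Lib.Seat25.MonicEt

section Field

variable {K : Type*} [Field K]

/-- for a monic polynomial over a field, separability is detected by the resultant with its
derivative, computed with any admissible size for the derivative. -/
theorem separable_iff_resultant_ne_zero (f : K[X]) (hf : f.Monic) (n : ℕ)
    (hn : (derivative f).natDegree ≤ n) :
    f.Separable ↔ resultant f (derivative f) f.natDegree n ≠ 0 := by
  obtain ⟨j, rfl⟩ := Nat.exists_eq_add_of_le hn
  rw [resultant_add_right_deg _ _ _ _ j le_rfl, coeff_natDegree, hf.leadingCoeff, one_pow, one_mul,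
    ← isUnit_iff_ne_zero, isUnit_resultant_iff_isCoprime hf]
  rfl

end Field

section Local

variable {R : Type*} [CommRing R] [IsLocalRing R]

/-- over a local ring, a monic polynomial whose reduction is separable is coprime to its
derivative. -/
theorem isCoprime_derivative_of_separable_map (f : R[X]) (hf : f.Monic)
    (hsep : (f.map (IsLocalRing.residue R)).Separable) : IsCoprime f (derivative f) := by
  rw [← isUnit_resultant_iff_isCoprime hf]
  have h1 : IsLocalRing.residue R (resultant f (derivative f)) =
      resultant (f.map (IsLocalRing.residue R)) (derivative (f.map (IsLocalRing.residue R)))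
        f.natDegree (derivative f).natDegree := by
    rw [derivative_map, resultant_map_map]
  have h2 : (f.map (IsLocalRing.residue R)).natDegree = f.natDegree :=
    hf.natDegree_map _
  have h3 := (separable_iff_resultant_ne_zero (f.map (IsLocalRing.residue R)) (hf.map _)
    (derivative f).natDegree (by
      rw [derivative_map]; exact natDegree_map_le)).mp hsep
  rw [h2, ← h1] at h3
  by_contra hnu
  exact h3 ((IsLocalRing.residue_eq_zero_iff _).mpr ((IsLocalRing.mem_maximalIdeal _).mpr hnu))

end Local

section Etale

variable {R : Type*} [CommRing R]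

/-- `R[X]/(f)` is étale for `f` monic and coprime to its derivative. -/
theorem etale_adjoinRoot (f : R[X]) (hf : f.Monic) (hc : IsCoprime f (derivative f)) :
    Algebra.Etale R (AdjoinRoot f) := by
  obtain ⟨a, b, hab⟩ := hc
  let P : StandardEtalePair R :=
    { f := f
      monic_f := hf
      g := 1
      cond := ⟨b, a, 0, by rw [pow_zero, ← hab]; ring⟩ }
  let e₁ : P.Ring ≃ₐ[R] Localization.Away (AdjoinRoot.mk f (1 : R[X])) := P.equivAwayAdjoinRoot
  have hle : Submonoid.powers (AdjoinRoot.mk f (1 : R[X])) ≤ IsUnit.submonoid (AdjoinRoot f) := by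
    rintro _ ⟨n, rfl⟩
    change IsUnit ((AdjoinRoot.mk f (1 : R[X])) ^ n)
    rw [map_one, one_pow]
    exact isUnit_one
  let e₂ : AdjoinRoot f ≃ₐ[R] Localization.Away (AdjoinRoot.mk f (1 : R[X])) :=
    (IsLocalization.atUnits (AdjoinRoot f) (Submonoid.powers (AdjoinRoot.mk f (1 : R[X])))
      (S := Localization.Away (AdjoinRoot.mk f (1 : R[X]))) hle).restrictScalars R
  exact Algebra.Etale.of_equiv (e₁.trans e₂.symm)

end Etale

section EIG

variable {K : Type*} [Field K] [IsAlgClosed K] {n : Type*} [Fintype n] [DecidableEq n]

/-- a matrix with separable characteristic polynomial (over an algebraically closed field) has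
minimal polynomial equal to its characteristic polynomial. -/
theorem minpoly_eq_charpoly_of_separable (T : Matrix n n K) (hsep : T.charpoly.Separable) :
    minpoly K T = T.charpoly := by
  have h1 : minpoly K T ∣ T.charpoly := Matrix.minpoly_dvd_charpoly T
  have hne : T.charpoly ≠ 0 := (Matrix.charpoly_monic T).ne_zero
  have hmne : minpoly K T ≠ 0 := minpoly.ne_zero (Matrix.isIntegral T)
  have h2 : T.charpoly ∣ minpoly K T := by
    refine Splits.dvd_of_roots_le_roots (IsAlgClosed.splits _) hne ?_
    rw [Multiset.le_iff_subset (nodup_roots hsep)]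
    intro μ hμ
    rw [mem_roots hne] at hμ
    rw [mem_roots hmne, ← Matrix.minpoly_toLin', ← Module.End.hasEigenvalue_iff_isRoot,
      Module.End.hasEigenvalue_iff_isRoot_charpoly, Matrix.charpoly_toLin']
    exact hμ
  exact eq_of_monic_of_associated (minpoly.monic (Matrix.isIntegral T)) (Matrix.charpoly_monic T)
    (associated_of_dvd_dvd h1 h2)

end EIG

section MBC

variable (k : Type*) [Field k] (K : Type*) [Field K] [Algebra k K]
  {B : Type*} [Ring B] [Algebra k B]

theorem aeval_one_tmul (x : B) (p : k[X]) :
    aeval ((1 : K) ⊗ₜ[k] x : K ⊗[k] B) (p.map (algebraMap k K)) = (1 : K) ⊗ₜ[k] (aeval x p) := by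
  rw [aeval_map_algebraMap]
  exact (aeval_algHom_apply (Algebra.TensorProduct.includeRight : B →ₐ[k] K ⊗[k] B) x p)

/-- the minimal polynomial of `1 ⊗ x` over `K` is the base change of that of `x` over `k`. -/
theorem minpoly_one_tmul (x : B) (hx : IsIntegral k x) :
    minpoly K ((1 : K) ⊗ₜ[k] x : K ⊗[k] B) = (minpoly k x).map (algebraMap k K) := by
  set y : K ⊗[k] B := (1 : K) ⊗ₜ[k] x with hy
  have hmonic : ((minpoly k x).map (algebraMap k K)).Monic := (minpoly.monic hx).map _
  have hdeg : ((minpoly k x).map (algebraMap k K)).natDegree = (minpoly k x).natDegree :=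
    (minpoly.monic hx).natDegree_map _
  have hli : LinearIndependent K (fun i : Fin (minpoly k x).natDegree => y ^ (i : ℕ)) := by
    have h := Module.Flat.linearIndependent_one_tmul (S := K) (linearIndependent_pow (K := k) x)
    convert h using 2 with i
    rw [hy, Algebra.TensorProduct.tmul_pow, one_pow]
  symm
  refine minpoly.unique K y hmonic ?_ ?_
  · rw [hy, aeval_one_tmul, minpoly.aeval, TensorProduct.tmul_zero]
  · intro q hq hq0
    by_contra hlt
    push Not at hlt
    have hlt' : q.natDegree < (minpoly k x).natDegree := by
      rw [← hdeg]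
      exact natDegree_lt_natDegree hq.ne_zero hlt
    rw [aeval_eq_sum_range' hlt', Finset.sum_range] at hq0
    have := (Fintype.linearIndependent_iff.mp hli) (fun i => q.coeff i) hq0 ⟨q.natDegree, hlt'⟩
    simp only [coeff_natDegree] at this
    rw [hq.leadingCoeff] at this
    exact one_ne_zero this

end MBC

end Groth.Agent.Lib.Seat25.MonicEt
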