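import Mathlib
import Groth.Agent.Lib.Seat25MonicEt
import Groth.Agent.Lib.Seat25AzReg

/-!
# Seat25AzMaxEt: regular elements and maximal étale subalgebras of Azumaya algebras

* `minpoly_separable_of_charpoly`, `map_eval_generic`, `exists_eval_ne_zero`,
  `exists_regular_of_infinite`: generic (resultant) argument over infinite fields.
* `exists_separable_monic`, `exists_regular_of_algEquiv_matrix`, `exists_algEquiv_matrix_of_finite`:
  the split case, Azumaya algebras over finite fields are split.
* `exists_regular`: an Azumaya algebra of rank `r²` over a field has an element whose minimal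
  polynomial is separable of degree `r`.
* `exists_maximal_etale`: over a local ring, an Azumaya algebra of rank `r²` receives a map from a
  finite étale free algebra of rank `r`, injective on the special fibre.
-/

set_option autoImplicit false
open Polynomial TensorProduct

namespace Groth.Agent.Lib.Seat25.AzMaxEt

open Groth.Agent.Lib.Seat25.MonicEt Groth.Agent.Lib.Seat25.AzReg

section Generic

universe u v
variable (k : Type u) [Field k] (A : Type v) [Ring A] [Algebra k A]

/-- transfer: if the image of `1 ⊗ x` in `M_r(K)` has separable characteristic polynomial, then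
`minpoly k x` is separable of degree `r`. -/
theorem minpoly_separable_of_charpoly (K : Type*) [Field K] [IsAlgClosed K] [Algebra k K] (r : ℕ)
    (e : K ⊗[k] A ≃ₐ[K] Matrix (Fin r) (Fin r) K) (x : A) (hx : IsIntegral k x)
    (hsep : (e ((1 : K) ⊗ₜ[k] x)).charpoly.Separable) :
    (minpoly k x).Separable ∧ (minpoly k x).natDegree = r := by
  have h1 := minpoly_eq_charpoly_of_separable _ hsep
  rw [minpoly.algEquiv_eq e, minpoly_one_tmul k K x hx] at h1
  constructor
  · rw [← Polynomial.separable_map (algebraMap k K), h1]
    exact hsep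
  · have h2 := congrArg natDegree h1
    rw [(minpoly.monic hx).natDegree_map, Matrix.charpoly_natDegree_eq_dim] at h2
    simpa using h2

/-- the generic matrix `∑ Xᵢ • Tᵢ` specialises to `∑ tᵢ • Tᵢ`. -/
theorem map_eval_generic {K : Type*} [Field K] {ι : Type*} [Fintype ι] {n : Type*}
    (T : ι → Matrix n n K) (t : ι → K) :
    (∑ i, (MvPolynomial.X i : MvPolynomial ι K) • (T i).map (MvPolynomial.C (σ := ι))).map
      (MvPolynomial.eval t) = ∑ i, t i • T i := by
  ext a b
  simp only [Matrix.map_apply, Matrix.sum_apply, Matrix.smul_apply, smul_eq_mul, map_sum, map_mul,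
    MvPolynomial.eval_X, MvPolynomial.eval_C]

/-- a nonzero polynomial over `K` does not vanish identically on the points with coordinates in an
infinite subfield `k`. -/
theorem exists_eval_ne_zero {K : Type*} [Field K] [Algebra k K] [Infinite k] {ι : Type*} [Finite ι]
    (G : MvPolynomial ι K) (hG : G ≠ 0) :
    ∃ t : ι → k, MvPolynomial.eval (fun i => algebraMap k K (t i)) G ≠ 0 := by
  classical
  by_contra hcon
  push Not at hcon
  apply hG
  obtain ⟨S₀, hS₀⟩ := Infinite.exists_subset_card_eq k (G.totalDegree + 1)
  refine MvPolynomial.eq_zero_of_eval_zero_at_prod_finset G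
    (fun _ => S₀.image (algebraMap k K)) ?_ ?_
  · intro i
    rw [Finset.card_image_of_injective _ (algebraMap k K).injective, hS₀]
    exact Nat.lt_succ_of_le (MvPolynomial.degreeOf_le_totalDegree G i)
  · intro x hx
    have : ∀ i, ∃ c : k, algebraMap k K c = x i := fun i => by
      obtain ⟨c, -, hc⟩ := Finset.mem_image.mp (hx i)
      exact ⟨c, hc⟩
    choose t ht using this
    have hxt : x = fun i => algebraMap k K (t i) := funext fun i => (ht i).symm
    rw [hxt]
    exact hcon t

variable [IsAzumaya k A]

/-- over an infinite field, an Azumaya algebra of rank `r ^ 2` has a regular element. -/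
theorem exists_regular_of_infinite [Infinite k] (r : ℕ) (hr : Module.finrank k A = r ^ 2) :
    ∃ x : A, (minpoly k x).Separable ∧ (minpoly k x).natDegree = r := by
  classical
  have : Module.Finite k A := IsAzumaya.toFinite (R := k)
  let K := AlgebraicClosure k
  obtain ⟨e⟩ := exists_algEquiv_matrix k A K r hr
  let b := Module.finBasis k A
  let bK := Algebra.TensorProduct.basis K b
  have hbK : ∀ i, bK i = (1 : K) ⊗ₜ[k] b i := fun i => Algebra.TensorProduct.basis_apply b i
  let T : Fin (Module.finrank k A) → Matrix (Fin r) (Fin r) K := fun i => e (bK i)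
  let TT : Matrix (Fin r) (Fin r) (MvPolynomial (Fin (Module.finrank k A)) K) :=
    ∑ i, (MvPolynomial.X i : MvPolynomial _ K) • (T i).map (MvPolynomial.C (σ := _))
  let G : MvPolynomial (Fin (Module.finrank k A)) K :=
    resultant TT.charpoly (derivative TT.charpoly) r (r - 1)
  have key : ∀ t : Fin (Module.finrank k A) → K,
      MvPolynomial.eval t G ≠ 0 ↔ (e (∑ i, t i • bK i)).charpoly.Separable := by
    intro t
    have h1 : MvPolynomial.eval t G = resultant (e (∑ i, t i • bK i)).charpoly
        (derivative (e (∑ i, t i • bK i)).charpoly) r (r - 1) := by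
      change MvPolynomial.eval t (resultant TT.charpoly (derivative TT.charpoly) r (r - 1)) = _
      have h4 : e (∑ i, t i • bK i) = ∑ i, t i • T i := by
        rw [map_sum]
        exact Finset.sum_congr rfl (fun x _ => map_smul e _ _)
      rw [h4, ← resultant_map_map, ← derivative_map, ← Matrix.charpoly_map, map_eval_generic T t]
    have hdeg : (e (∑ i, t i • bK i)).charpoly.natDegree = r := by
      rw [Matrix.charpoly_natDegree_eq_dim]; simp
    rw [h1, separable_iff_resultant_ne_zero _ (Matrix.charpoly_monic _) (r - 1)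
      ((natDegree_derivative_le _).trans (by rw [hdeg])), hdeg]
  have hG : G ≠ 0 := by
    obtain ⟨c⟩ : Nonempty (Fin r ↪ k) := ⟨(Fin.valEmbedding).trans (Infinite.natEmbedding k)⟩
    let y₀ : K ⊗[k] A := e.symm (Matrix.diagonal fun j => algebraMap k K (c j))
    have hy₀ : ∑ i, bK.repr y₀ i • bK i = y₀ := bK.sum_repr y₀
    have hsep : (e (∑ i, bK.repr y₀ i • bK i)).charpoly.Separable := by
      rw [hy₀, AlgEquiv.apply_symm_apply, Matrix.charpoly_diagonal,
        separable_prod_X_sub_C_iff]
      exact (algebraMap k K).injective.comp c.injective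
    intro h0
    have := (key (fun i => bK.repr y₀ i)).mpr hsep
    rw [h0, map_zero] at this
    exact this rfl
  obtain ⟨t, ht⟩ := exists_eval_ne_zero k G hG
  refine ⟨∑ i, t i • b i, ?_⟩
  have hsep := (key _).mp ht
  have h2 : ∑ i, algebraMap k K (t i) • bK i = (1 : K) ⊗ₜ[k] (∑ i, t i • b i) := by
    rw [TensorProduct.tmul_sum]
    refine Finset.sum_congr rfl fun i _ => ?_
    rw [hbK, TensorProduct.tmul_smul, algebraMap_smul]
  rw [h2] at hsep
  exact minpoly_separable_of_charpoly k A K r e _ (IsIntegral.of_finite k _) hsep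

end Generic

section Split

universe u v
variable (k : Type u) [Field k] (A : Type v) [Ring A] [Algebra k A]

/-- every field has a separable monic polynomial of each positive degree -/
theorem exists_separable_monic (r : ℕ) (hr : 0 < r) :
    ∃ P : k[X], P.Monic ∧ P.Separable ∧ P.natDegree = r := by
  by_cases hrk : (r : k) = 0
  · have hr2 : 2 ≤ r := by
      rcases Nat.lt_or_ge r 2 with h | h
      · exfalso
        have : r = 1 := by omega
        subst this
        simp at hrk
      · exact h
    have hdeg : (X : k[X]).degree < (r : WithBot ℕ) := by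
      rw [degree_X]
      exact_mod_cast hr2
    refine ⟨X ^ r - X, monic_X_pow_sub hdeg, ?_, ?_⟩
    · rw [separable_def]
      have hd : derivative (X ^ r - X : k[X]) = -1 := by
        rw [derivative_sub, derivative_X_pow, derivative_X, hrk, C_0, zero_mul, zero_sub]
      rw [hd]
      exact isCoprime_one_right.neg_right
    · rw [natDegree_sub_eq_left_of_natDegree_lt (by rw [natDegree_X_pow, natDegree_X]; omega),
        natDegree_X_pow]
  · refine ⟨X ^ r - C 1, monic_X_pow_sub_C 1 hr.ne', separable_X_pow_sub_C 1 hrk one_ne_zero,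
      natDegree_X_pow_sub_C⟩

/-- a split algebra `M_r(k)` has a regular element. -/
theorem exists_regular_of_algEquiv_matrix (r : ℕ) (hr : 0 < r)
    (e : A ≃ₐ[k] Matrix (Fin r) (Fin r) k) :
    ∃ x : A, (minpoly k x).Separable ∧ (minpoly k x).natDegree = r := by
  obtain ⟨P, hmonic, hsep, hdeg⟩ := exists_separable_monic k r hr
  have hP0 : P ≠ 0 := hmonic.ne_zero
  let pb := AdjoinRoot.powerBasis hP0
  have hdim : pb.dim = r := by rw [AdjoinRoot.powerBasis_dim, hdeg]
  let b : Module.Basis (Fin r) k (AdjoinRoot P) := pb.basis.reindex (finCongr hdim)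
  let φ : AdjoinRoot P →ₐ[k] A := e.symm.toAlgHom.comp (Algebra.leftMulMatrix b)
  have hφ : Function.Injective φ := e.symm.injective.comp (Algebra.leftMulMatrix_injective b)
  refine ⟨φ (AdjoinRoot.root P), ?_⟩
  have hmin : minpoly k (φ (AdjoinRoot.root P)) = P := by
    rw [minpoly.algHom_eq φ hφ, AdjoinRoot.minpoly_root hP0, hmonic.leadingCoeff, inv_one, C_1,
      mul_one]
  rw [hmin]
  exact ⟨hsep, hdeg⟩

variable [IsAzumaya k A]

/-- an Azumaya algebra over a finite field is split. -/
theorem exists_algEquiv_matrix_of_finite [Finite k] (r : ℕ) (hr : Module.finrank k A = r ^ 2) :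
    Nonempty (A ≃ₐ[k] Matrix (Fin r) (Fin r) k) := by
  classical
  have : Module.Finite k A := IsAzumaya.toFinite (R := k)
  have : IsSimpleRing A := Groth.Agent.Lib.LeadAzumaya.isSimpleRing_of_isAzumaya_field (k := k)
  have : IsArtinianRing A := IsArtinianRing.of_finite k A
  obtain ⟨n, hn, D, _, _, hfin, ⟨e₀⟩⟩ :=
    IsSimpleRing.exists_algEquiv_matrix_divisionRing_finite k A
  have : Finite D := Module.finite_of_finite k
  have hcommD : ∀ a b : D, a * b = b * a := fun a b => (littleWedderburn D).mul_comm a b
  have hsurj : Function.Surjective (algebraMap k D) := by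
    intro c
    have hz : e₀.symm (Matrix.scalar (Fin n) c) ∈ Subalgebra.center k A := by
      rw [Subalgebra.mem_center_iff]
      intro a
      apply e₀.injective
      rw [map_mul, map_mul, AlgEquiv.apply_symm_apply]
      exact ((Matrix.scalar_commute c (fun d => hcommD c d) (e₀ a)).eq).symm
    have hbot : e₀.symm (Matrix.scalar (Fin n) c) ∈ (⊥ : Subalgebra k A) :=
      Algebra.IsCentral.out hz
    obtain ⟨a₀, ha₀⟩ := Algebra.mem_bot.mp hbot
    refine ⟨a₀, ?_⟩
    have h1 : e₀ (algebraMap k A a₀) = Matrix.scalar (Fin n) c := by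
      rw [ha₀, AlgEquiv.apply_symm_apply]
    rw [AlgEquiv.commutes] at h1
    have := congrFun (congrFun h1 0) 0
    simpa [Matrix.algebraMap_matrix_apply] using this
  let eD : D ≃ₐ[k] k :=
    (AlgEquiv.ofBijective (Algebra.ofId k D) ⟨(algebraMap k D).injective, hsurj⟩).symm
  let e : A ≃ₐ[k] Matrix (Fin n) (Fin n) k := e₀.trans (AlgEquiv.mapMatrix eD)
  have h2 : Module.finrank k A = n ^ 2 := by
    rw [e.toLinearEquiv.finrank_eq, Module.finrank_matrix]
    simp [sq]
  have hn' : n = r := by
    have : n ^ 2 = r ^ 2 := h2.symm.trans hr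
    exact Nat.pow_left_injective (by norm_num : 2 ≠ 0) this
  subst hn'
  exact ⟨e⟩

end Split

section Regular

universe u v
variable (k : Type u) [Field k] (A : Type v) [Ring A] [Algebra k A] [IsAzumaya k A]

/-- an Azumaya algebra of rank `r ^ 2` over a field has a regular element: one whose minimal
polynomial is separable of degree `r`. -/
theorem exists_regular (r : ℕ) (hr : Module.finrank k A = r ^ 2) :
    ∃ x : A, (minpoly k x).Separable ∧ (minpoly k x).natDegree = r := by
  have : Module.Finite k A := IsAzumaya.toFinite (R := k)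
  have : IsSimpleRing A := Groth.Agent.Lib.LeadAzumaya.isSimpleRing_of_isAzumaya_field (k := k)
  have hpos : 0 < r := by
    have h := Module.finrank_pos (R := k) (M := A)
    rw [hr] at h
    exact Nat.pos_of_ne_zero fun h0 => by simp [h0] at h
  rcases finite_or_infinite k with hfin | hinf
  · obtain ⟨e⟩ := exists_algEquiv_matrix_of_finite k A r hr
    exact exists_regular_of_algEquiv_matrix k A r hpos e
  · exact exists_regular_of_infinite k A r hr

end Regular

section Lift

universe u
open IsLocalRing

theorem aeval_one_tmul' {R : Type*} [CommRing R] (S : Type*) [CommRing S] [Algebra R S]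
    {B : Type*} [Ring B] [Algebra R B] (x : B) (p : R[X]) :
    aeval ((1 : S) ⊗ₜ[R] x : S ⊗[R] B) (p.map (algebraMap R S)) = (1 : S) ⊗ₜ[R] (aeval x p) := by
  rw [aeval_map_algebraMap]
  exact (aeval_algHom_apply (Algebra.TensorProduct.includeRight : B →ₐ[R] S ⊗[R] B) x p)

variable (R : Type u) [CommRing R] [IsLocalRing R] (A : Type u) [Ring A] [Algebra R A]
  [IsAzumaya R A]

theorem exists_maximal_etale (r : ℕ) (hA : Module.finrank R A = r ^ 2) :
    ∃ (E : Type u) (_ : CommRing E) (_ : Algebra R E), Algebra.Etale R E ∧ Module.Finite R E ∧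
      Module.Free R E ∧ Module.finrank R E = r ∧
      ∃ u : E →ₐ[R] A, Function.Injective (u.toLinearMap.lTensor (ResidueField R)) := by
  have : Module.Finite R A := IsAzumaya.toFinite (R := R)
  have : Module.Projective R A := IsAzumaya.toProjective (R := R)
  have : Module.Free R A := Module.free_of_flat_of_isLocalRing
  have hAz : IsAzumaya (ResidueField R) (ResidueField R ⊗[R] A) :=
    Groth.Agent.Lib.LeadAzumaya.isAzumaya_baseChange _ A
  have : Module.Finite (ResidueField R) (ResidueField R ⊗[R] A) :=
    IsAzumaya.toFinite (R := ResidueField R)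
  have hfr : Module.finrank (ResidueField R) (ResidueField R ⊗[R] A) = r ^ 2 := by
    rw [Module.finrank_baseChange, hA]
  obtain ⟨x, hxsep, hxdeg⟩ := exists_regular (ResidueField R) (ResidueField R ⊗[R] A) r hfr
  obtain ⟨ξ, rfl⟩ : ∃ ξ : A, (1 : ResidueField R) ⊗ₜ[R] ξ = x :=
    TensorProduct.mk_surjective R A (ResidueField R) residue_surjective x
  set x : ResidueField R ⊗[R] A := (1 : ResidueField R) ⊗ₜ[R] ξ with hx
  have hxint : IsIntegral (ResidueField R) x := IsIntegral.of_finite _ x
  have hxpow : ∀ n : ℕ, x ^ n = (1 : ResidueField R) ⊗ₜ[R] (ξ ^ n) := fun n => by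
    rw [hx, Algebra.TensorProduct.tmul_pow, one_pow]
  -- the subalgebra generated by `x` is separable of rank `r`
  have hsep : Algebra.IsSeparable (ResidueField R)
      (Algebra.adjoin (ResidueField R) ({x} : Set (ResidueField R ⊗[R] A))) :=
    (Groth.Agent.Lib.Seat25.SepAlg.isSeparable_adjoin_of_commute (k := ResidueField R)
      ({x} : Set (ResidueField R ⊗[R] A))
      (by
        intro a ha b hb
        rw [Set.mem_singleton_iff] at ha hb
        rw [ha, hb])
      (by
        intro a ha
        rw [Set.mem_singleton_iff] at ha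
        rw [ha]
        exact hxsep)).2
  have hrk : Module.finrank (ResidueField R)
      (Algebra.adjoin (ResidueField R) ({x} : Set (ResidueField R ⊗[R] A))) = r := by
    rw [finrank_adjoin_singleton x hxint, hxdeg]
  obtain ⟨hli, hmem⟩ := powers_basis R A r hA ξ hsep hrk
  obtain ⟨c, hc⟩ := (Submodule.mem_span_range_iff_exists_fun R).mp hmem
  -- the polynomial
  let q : R[X] := ∑ i : Fin r, C (c i) * X ^ (i : ℕ)
  have hqdeg : q.degree < (r : WithBot ℕ) := degree_sum_fin_lt c
  let P : R[X] := X ^ r - q
  have hPmonic : P.Monic := monic_X_pow_sub hqdeg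
  have hPdeg : P.natDegree = r := by
    apply natDegree_eq_of_degree_eq_some
    rw [degree_sub_eq_left_of_degree_lt (by rw [degree_X_pow]; exact hqdeg), degree_X_pow]
  have hPξ : aeval ξ P = 0 := by
    simp only [P, q, map_sub, map_pow, aeval_X, map_sum, map_mul, aeval_C]
    rw [← hc, sub_eq_zero]
    refine Finset.sum_congr rfl fun i _ => ?_
    rw [Algebra.smul_def]
  -- its reduction is the minimal polynomial of `x`
  have hPx : aeval x (P.map (algebraMap R (ResidueField R))) = 0 := by
    rw [hx, aeval_one_tmul', hPξ, TensorProduct.tmul_zero]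
  have hPbar : P.map (algebraMap R (ResidueField R)) = minpoly (ResidueField R) x := by
    refine eq_of_monic_of_dvd_of_natDegree_le (minpoly.monic hxint) (hPmonic.map _)
      (minpoly.dvd _ _ hPx) ?_
    rw [hPmonic.natDegree_map, hPdeg, hxdeg]
  have hPsep : (P.map (residue R)).Separable := by
    change (P.map (algebraMap R (ResidueField R))).Separable
    rw [hPbar]
    exact hxsep
  have hcop : IsCoprime P (derivative P) := isCoprime_derivative_of_separable_map P hPmonic hPsep
  have hEt : Algebra.Etale R (AdjoinRoot P) := etale_adjoinRoot P hPmonic hcop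
  have hfin : Module.Finite R (AdjoinRoot P) := hPmonic.finite_adjoinRoot
  have hfree : Module.Free R (AdjoinRoot P) := hPmonic.free_adjoinRoot
  let pb := AdjoinRoot.powerBasis' hPmonic
  have hpbdim : pb.dim = r := hPdeg
  have hrank : Module.finrank R (AdjoinRoot P) = r := by
    rw [pb.finrank, hpbdim]
  -- the map to `A`
  let u : AdjoinRoot P →ₐ[R] A := Ideal.Quotient.liftₐ (Ideal.span {P}) (aeval ξ) (by
    intro a ha
    obtain ⟨b, rfl⟩ := Ideal.mem_span_singleton'.mp ha
    rw [map_mul, hPξ, mul_zero])
  have hu : ∀ n : ℕ, u (AdjoinRoot.root P ^ n) = ξ ^ n := by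
    intro n
    rw [map_pow]
    congr 1
    change Ideal.Quotient.liftₐ (Ideal.span {P}) (aeval ξ) _ (Ideal.Quotient.mk _ X) = ξ
    rw [Ideal.Quotient.liftₐ_apply, Ideal.Quotient.lift_mk]
    exact aeval_X ξ
  refine ⟨AdjoinRoot P, inferInstance, inferInstance, hEt, hfin, hfree, hrank, u, ?_⟩
  -- injectivity on the special fibre
  let bK := Algebra.TensorProduct.basis (ResidueField R) pb.basis
  have hbK : ∀ i, bK i = (1 : ResidueField R) ⊗ₜ[R] (AdjoinRoot.root P ^ (i : ℕ)) := fun i => by
    rw [Algebra.TensorProduct.basis_apply, pb.basis_eq_pow]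
    rfl
  rw [← LinearMap.baseChange_eq_ltensor]
  refine LinearMap.injective_of_linearIndependent (v := bK) bK.span_eq ?_
  have hcomp : (u.toLinearMap.baseChange (ResidueField R)) ∘ bK =
      fun i : Fin pb.dim => x ^ (i : ℕ) := by
    funext i
    rw [Function.comp_apply, hbK, LinearMap.baseChange_tmul, AlgHom.toLinearMap_apply, hu, hxpow]
  rw [hcomp]
  have hd : pb.dim = (minpoly (ResidueField R) x).natDegree := by rw [hpbdim, hxdeg]
  have := linearIndependent_pow (K := ResidueField R) x
  exact this.comp (finCongr hd) (finCongr hd).injective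

end Lift

end Groth.Agent.Lib.Seat25.AzMaxEt
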