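import Mathlib

/-!
# Seat25AzSpread: spreading-out tools (pure Mathlib)

* `exists_comp_eq_smul`: a linear map (finite → finitely presented) bijective after localisation at
  `S` has an inverse up to an element of `S`.
* `exists_basis_baseChange`: a family which is a "basis up to `s`" becomes a basis after any base
  change inverting `s`.
* `exists_monic_of_mem_span`: clearing denominators in a monic relation, keeping it monic.
* `map_resultant_ne_zero_of_separable`, `isCoprime_map_of_isUnit_resultant`: the resultant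
  `Res(Q, Q')` controls separability after base change.
* `liftRoot`, `powBasis`: `T[X]/(P) → A`, power basis indexed by `Fin r`.
* `bijective_sum_of_basis`: from a basis `b i * u (bE j)` of `A` over `T` to freeness of `A` over `E`.
-/

set_option autoImplicit false
open Polynomial TensorProduct

namespace Groth.Agent.Lib.Seat25.AzSpread


section T

variable {R : Type*} [CommRing R] (S : Submonoid R) {M N M' N' : Type*}
  [AddCommGroup M] [Module R M] [AddCommGroup N] [Module R N]
  [AddCommGroup M'] [Module R M'] [AddCommGroup N'] [Module R N']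
  (f : M →ₗ[R] M') [IsLocalizedModule S f] (g : N →ₗ[R] N') [IsLocalizedModule S g]

/-- a linear map from a finite module to a finitely presented module which becomes bijective
after localisation has an inverse up to an element of the submonoid. -/
theorem exists_comp_eq_smul [Module.Finite R M] [Module.FinitePresentation R N]
    (l : M →ₗ[R] N) (hl : Function.Bijective (IsLocalizedModule.map S f g l)) :
    ∃ (l' : N →ₗ[R] M) (s : R), s ∈ S ∧ l ∘ₗ l' = s • LinearMap.id ∧
      l' ∘ₗ l = s • LinearMap.id := by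
  let e : M' ≃ₗ[R] N' := LinearEquiv.ofBijective _ hl
  obtain ⟨l', s₀, H⟩ := Module.FinitePresentation.exists_lift_of_isLocalizedModule S f
    (e.symm.toLinearMap.comp g)
  have H₁ : g ∘ₗ l ∘ₗ l' = g ∘ₗ (s₀ • LinearMap.id) := by
    ext a; simpa [-EmbeddingLike.apply_eq_iff_eq, e] using congr(e ($H a))
  obtain ⟨s₁, hs₁⟩ := Module.Finite.exists_smul_of_comp_eq_of_isLocalizedModule S g _ _ H₁
  have H₂ : f ∘ₗ l' ∘ₗ l = f ∘ₗ (s₀ • LinearMap.id) := by
    rw [← LinearMap.comp_assoc, H, LinearMap.smul_comp, LinearMap.comp_assoc,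
      ← IsLocalizedModule.map_comp S f g l, ← LinearMap.comp_assoc]
    change s₀ • (e.symm.toLinearMap ∘ₗ e.toLinearMap) ∘ₗ _ = _
    simp [LinearMap.comp_smul]
  obtain ⟨s₂, hs₂⟩ := Module.Finite.exists_smul_of_comp_eq_of_isLocalizedModule S f _ _ H₂
  refine ⟨((s₁ : R) * (s₂ : R)) • l', (s₁ : R) * (s₂ : R) * (s₀ : R),
    S.mul_mem (S.mul_mem s₁.2 s₂.2) s₀.2, ?_, ?_⟩
  · have h1 : (s₁ : R) • (l ∘ₗ l') = (s₁ : R) • ((s₀ : R) • LinearMap.id) := hs₁
    rw [LinearMap.comp_smul, mul_comm (s₁ : R) (s₂ : R), mul_smul, h1, smul_smul, smul_smul]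
  · have h2 : (s₂ : R) • (l' ∘ₗ l) = (s₂ : R) • ((s₀ : R) • LinearMap.id) := hs₂
    rw [LinearMap.smul_comp, mul_smul, h2, smul_smul, smul_smul]

end T

section T'

variable {R : Type*} [CommRing R] {N : Type*} [AddCommGroup N] [Module R N]
  {ι : Type*}

/-- if a finite family `w` of a module `N` is a "basis up to `s`", it becomes a basis after any
base change inverting `s`. -/
theorem exists_basis_baseChange (T : Type*) [CommRing T] [Algebra R T] (w : ι → N)
    (l' : N →ₗ[R] (ι →₀ R)) (s : R) (hs : IsUnit (algebraMap R T s))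
    (h1 : Finsupp.linearCombination R w ∘ₗ l' = s • LinearMap.id)
    (h2 : l' ∘ₗ Finsupp.linearCombination R w = s • LinearMap.id) :
    ∃ b : Module.Basis ι T (T ⊗[R] N), ∀ i, b i = (1 : T) ⊗ₜ[R] w i := by
  set ψ := Finsupp.linearCombination R w with hψ
  have hc1 : (ψ.baseChange T) ∘ₗ (l'.baseChange T) = (algebraMap R T s) • LinearMap.id := by
    rw [← LinearMap.baseChange_comp, h1, LinearMap.baseChange_smul, LinearMap.baseChange_id]
    ext x
    simp
  have hc2 : (l'.baseChange T) ∘ₗ (ψ.baseChange T) = (algebraMap R T s) • LinearMap.id := by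
    rw [← LinearMap.baseChange_comp, h2, LinearMap.baseChange_smul, LinearMap.baseChange_id]
    ext x
    simp
  obtain ⟨v, hv⟩ := hs
  have hbij : Function.Bijective (ψ.baseChange T) := by
    constructor
    · intro x y hxy
      have hx := congrArg (fun F => F x) hc2
      have hy := congrArg (fun F => F y) hc2
      simp only [LinearMap.comp_apply, LinearMap.smul_apply, LinearMap.id_apply] at hx hy
      rw [hxy, hy, ← hv] at hx
      have := congrArg (fun z => (↑v⁻¹ : T) • z) hx
      simpa [smul_smul] using this.symm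
    · intro y
      refine ⟨l'.baseChange T ((↑v⁻¹ : T) • y), ?_⟩
      have hy := congrArg (fun F => F ((↑v⁻¹ : T) • y)) hc1
      simp only [LinearMap.comp_apply, LinearMap.smul_apply, LinearMap.id_apply] at hy
      rw [hy, ← hv, smul_smul]
      simp
  let b₀ : Module.Basis ι T (T ⊗[R] (ι →₀ R)) :=
    Algebra.TensorProduct.basis T (Finsupp.basisSingleOne (R := R) (ι := ι))
  refine ⟨b₀.map (LinearEquiv.ofBijective (ψ.baseChange T) hbij), fun i => ?_⟩
  rw [Module.Basis.map_apply, Algebra.TensorProduct.basis_apply, LinearEquiv.ofBijective_apply,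
    LinearMap.baseChange_tmul, Finsupp.coe_basisSingleOne, hψ, Finsupp.linearCombination_single,
    one_smul]

end T'



section M1

variable {R : Type*} [CommRing R] [Nontrivial R] (S : Submonoid R) (Rp : Type*) [CommRing Rp]
  [Algebra R Rp] [IsLocalization S Rp] {A : Type*} [Ring A] [Algebra R A]

/-- if `1 ⊗ a₀` satisfies a monic relation of degree `r` over the localisation, then a multiple
`t • a₀` with `t ∈ S` satisfies a monic polynomial of degree `r` over `R`. -/
theorem exists_monic_of_mem_span (a₀ : A) (r : ℕ) (hr : 0 < r)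
    (hmem : ((1 : Rp) ⊗ₜ[R] a₀) ^ r ∈ Submodule.span Rp
      (Set.range fun i : Fin r => ((1 : Rp) ⊗ₜ[R] a₀ : Rp ⊗[R] A) ^ (i : ℕ))) :
    ∃ t : R, t ∈ S ∧ ∃ Q : R[X], Q.Monic ∧ Q.natDegree = r ∧ aeval (t • a₀) Q = 0 := by
  classical
  obtain ⟨c, hc⟩ := (Submodule.mem_span_range_iff_exists_fun Rp).mp hmem
  obtain ⟨t₀, ht₀⟩ := IsLocalization.exist_integer_multiples_of_finite S c
  choose b hb using ht₀
  have hpow : ∀ n : ℕ, ((1 : Rp) ⊗ₜ[R] a₀ : Rp ⊗[R] A) ^ n = (1 : Rp) ⊗ₜ[R] (a₀ ^ n) := fun n => by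
    rw [Algebra.TensorProduct.tmul_pow, one_pow]
  let x : A := (t₀ : R) • a₀ ^ r - ∑ i : Fin r, b i • a₀ ^ (i : ℕ)
  have hx : (1 : Rp) ⊗ₜ[R] x = 0 := by
    simp only [x, TensorProduct.tmul_sub, TensorProduct.tmul_sum, TensorProduct.tmul_smul]
    rw [← hpow, ← hc, Finset.smul_sum, sub_eq_zero]
    refine Finset.sum_congr rfl fun i _ => ?_
    rw [← hpow, ← algebraMap_smul Rp (b i), hb i, smul_assoc]
  obtain ⟨t₁, ht₁⟩ := (IsLocalizedModule.eq_zero_iff S (TensorProduct.mk R Rp A 1)).mp hx
  have ht₁' : (t₁ : R) • x = 0 := ht₁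
  set t : R := (t₁ : R) * (t₀ : R) with ht
  let q : R[X] := ∑ i : Fin r, C ((t₁ : R) * b i * t ^ (r - 1 - (i : ℕ))) * X ^ (i : ℕ)
  have hqdeg : q.degree < (r : WithBot ℕ) := degree_sum_fin_lt _
  refine ⟨t, S.mul_mem t₁.2 t₀.2, X ^ r - q, monic_X_pow_sub hqdeg, ?_, ?_⟩
  · apply natDegree_eq_of_degree_eq_some
    rw [degree_sub_eq_left_of_degree_lt (by rw [degree_X_pow]; exact hqdeg), degree_X_pow]
  · have key : ∀ i : Fin r, ((t₁ : R) * b i * t ^ (r - 1 - (i : ℕ))) * t ^ (i : ℕ) =
        t ^ (r - 1) * ((t₁ : R) * b i) := by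
      intro i
      have : r - 1 - (i : ℕ) + (i : ℕ) = r - 1 := by have := i.2; omega
      rw [mul_assoc, ← pow_add, this, mul_comm]
    have hr' : t ^ r = t ^ (r - 1) * ((t₁ : R) * (t₀ : R)) := by
      rw [← ht, ← pow_succ]
      congr 1
      omega
    have h3 : ∀ i : Fin r, aeval (t • a₀) (C ((t₁ : R) * b i * t ^ (r - 1 - (i : ℕ))) * X ^ (i : ℕ)) =
        t ^ (r - 1) • ((t₁ : R) • (b i • a₀ ^ (i : ℕ))) := by
      intro i
      rw [map_mul, aeval_C, map_pow, aeval_X, _root_.smul_pow, ← Algebra.smul_def, smul_smul, key,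
        mul_smul, mul_smul]
    rw [map_sub, map_pow, aeval_X, _root_.smul_pow, map_sum, Finset.sum_congr rfl fun i _ => h3 i,
      hr', mul_smul, mul_smul, ← Finset.smul_sum, ← Finset.smul_sum, ← smul_sub, ← smul_sub, ht₁',
      smul_zero]

end M1

section Res

variable {R : Type*} [CommRing R]

/-- if the reduction of a monic polynomial to a field is separable, the image of
`Res(Q, Q')` is nonzero. -/
theorem map_resultant_ne_zero_of_separable {K : Type*} [Field K] (φ : R →+* K) (Q : R[X])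
    (hQ : Q.Monic) (hsep : (Q.map φ).Separable) :
    φ (resultant Q (derivative Q)) ≠ 0 := by
  have h1 : φ (resultant Q (derivative Q)) =
      resultant (Q.map φ) (derivative (Q.map φ)) Q.natDegree (derivative Q).natDegree := by
    rw [derivative_map, resultant_map_map]
  have h2 : (Q.map φ).natDegree = Q.natDegree := hQ.natDegree_map _
  have hsep' : (Q.map φ).Separable := hsep
  rw [separable_def] at hsep'
  rw [h1, ← h2]
  have hn : (derivative (Q.map φ)).natDegree ≤ (derivative Q).natDegree := by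
    rw [derivative_map]; exact natDegree_map_le
  obtain ⟨j, hj⟩ := Nat.exists_eq_add_of_le hn
  rw [hj, resultant_add_right_deg _ _ _ _ j le_rfl, coeff_natDegree, (hQ.map φ).leadingCoeff,
    one_pow, one_mul, ← isUnit_iff_ne_zero, isUnit_resultant_iff_isCoprime (hQ.map φ)]
  exact hsep'

/-- if `Res(Q, Q')` becomes a unit in `T`, then `Q` and `Q'` become coprime over `T`. -/
theorem isCoprime_map_of_isUnit_resultant {T : Type*} [CommRing T] (φ : R →+* T) (Q : R[X])
    (h0 : Q.natDegree ≠ 0) (hu : IsUnit (φ (resultant Q (derivative Q)))) :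
    IsCoprime (Q.map φ) (derivative (Q.map φ)) := by
  obtain ⟨U, V, -, -, hUV⟩ := exists_mul_add_mul_eq_C_resultant Q (derivative Q)
    (m := Q.natDegree) (n := (derivative Q).natDegree) le_rfl le_rfl (Or.inl h0)
  obtain ⟨v, hv⟩ := hu
  have h := congrArg (Polynomial.map φ) hUV
  rw [Polynomial.map_add, Polynomial.map_mul, Polynomial.map_mul, map_C, ← hv,
    ← derivative_map] at h
  refine ⟨C (↑v⁻¹ : T) * U.map φ, C (↑v⁻¹ : T) * V.map φ, ?_⟩
  calc C (↑v⁻¹ : T) * U.map φ * Q.map φ + C (↑v⁻¹ : T) * V.map φ * derivative (Q.map φ)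
      = C (↑v⁻¹ : T) * (Q.map φ * U.map φ + derivative (Q.map φ) * V.map φ) := by ring
    _ = 1 := by rw [h, ← C_mul, Units.inv_mul, C_1]

end Res



section Lift

variable {T : Type*} [CommRing T] {A : Type*} [Ring A] [Algebra T A]

/-- the algebra map `T[X]/(P) → A` sending the root to `ξ`. -/
noncomputable def liftRoot (P : T[X]) (ξ : A) (h : aeval ξ P = 0) : AdjoinRoot P →ₐ[T] A :=
  Ideal.Quotient.liftₐ (Ideal.span {P}) (aeval ξ) (by
    intro a ha
    obtain ⟨b, rfl⟩ := Ideal.mem_span_singleton'.mp ha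
    rw [map_mul, h, mul_zero])

theorem liftRoot_root (P : T[X]) (ξ : A) (h : aeval ξ P = 0) :
    liftRoot P ξ h (AdjoinRoot.root P) = ξ := by
  change Ideal.Quotient.liftₐ (Ideal.span {P}) (aeval ξ) _ (Ideal.Quotient.mk _ X) = ξ
  rw [Ideal.Quotient.liftₐ_apply, Ideal.Quotient.lift_mk]
  exact aeval_X ξ

theorem liftRoot_mk (P : T[X]) (ξ : A) (h : aeval ξ P = 0) (q : T[X]) :
    liftRoot P ξ h (AdjoinRoot.mk P q) = aeval ξ q := by
  change Ideal.Quotient.liftₐ (Ideal.span {P}) (aeval ξ) _ (Ideal.Quotient.mk _ q) = aeval ξ q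
  rw [Ideal.Quotient.liftₐ_apply, Ideal.Quotient.lift_mk]
  rfl

theorem liftRoot_root_pow (P : T[X]) (ξ : A) (h : aeval ξ P = 0) (n : ℕ) :
    liftRoot P ξ h (AdjoinRoot.root P ^ n) = ξ ^ n := by
  rw [map_pow, liftRoot_root]

/-- the power basis of `T[X]/(P)` indexed by `Fin r`. -/
noncomputable def powBasis (P : T[X]) (hP : P.Monic) (r : ℕ) (hr : P.natDegree = r) :
    Module.Basis (Fin r) T (AdjoinRoot P) :=
  (AdjoinRoot.powerBasis' hP).basis.reindex (finCongr (by rw [AdjoinRoot.powerBasis'_dim, hr]))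

theorem powBasis_apply (P : T[X]) (hP : P.Monic) (r : ℕ) (hr : P.natDegree = r) (i : Fin r) :
    powBasis P hP r hr i = AdjoinRoot.root P ^ (i : ℕ) := by
  rw [powBasis, Module.Basis.reindex_apply, PowerBasis.basis_eq_pow, AdjoinRoot.powerBasis'_gen]
  rfl

end Lift

section PB

variable {T : Type*} [CommRing T] {E : Type*} [CommRing E] [Algebra T E] {A : Type*} [Ring A]
  [Algebra T A]

/-- if the products `b i * u (bE j)` form a basis of `A`, then `A` is free over `E` on the `b i`
(for the right action through `u`). -/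
theorem bijective_sum_of_basis {r : ℕ} (u : E →ₐ[T] A) (bE : Module.Basis (Fin r) T E)
    (b : Fin r → A) (B : Module.Basis (Fin r × Fin r) T A)
    (hB : ∀ i j, B (i, j) = b i * u (bE j)) :
    Function.Bijective (fun e : Fin r → E => ∑ i, b i * u (e i)) := by
  classical
  let Φ : (Fin r → E) →ₗ[T] A :=
    ∑ i, (LinearMap.mulLeft T (b i)) ∘ₗ u.toLinearMap ∘ₗ (LinearMap.proj i)
  have hΦ : ∀ e : Fin r → E, Φ e = ∑ i, b i * u (e i) := by
    intro e
    simp [Φ, LinearMap.sum_apply]
  have hΦ' : (fun e : Fin r → E => ∑ i, b i * u (e i)) = ⇑Φ := funext fun e => (hΦ e).symm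
  rw [hΦ']
  let β : Module.Basis (Fin r × Fin r) T (Fin r → E) :=
    (Pi.basis (fun _ : Fin r => bE)).reindex (Equiv.sigmaEquivProd (Fin r) (Fin r))
  have hβ : ∀ i j, β (i, j) = Pi.single i (bE j) := by
    intro i j
    rw [Module.Basis.reindex_apply]
    exact Pi.basis_apply (fun _ : Fin r => bE) ⟨i, j⟩
  have heq : Φ = (β.equiv B (Equiv.refl _)).toLinearMap := by
    apply β.ext
    rintro ⟨i, j⟩
    rw [LinearEquiv.coe_coe, Module.Basis.equiv_apply, Equiv.refl_apply, hB, hβ, hΦ]
    rw [Finset.sum_eq_single i]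
    · rw [Pi.single_eq_same]
    · intro k _ hk
      rw [Pi.single_eq_of_ne hk, map_zero, mul_zero]
    · intro h
      exact absurd (Finset.mem_univ i) h
  rw [heq]
  exact (β.equiv B (Equiv.refl _)).bijective

end PB

end Groth.Agent.Lib.Seat25.AzSpread
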