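import Mathlib
import Groth.Agent.Lib.Seat25AzMaxEt
import Groth.Agent.Lib.Seat25AzFree
import Groth.Agent.Lib.Seat25AzSpread

/-!
# Seat25AzSplit: splitting an Azumaya algebra by a finite étale cover near a prime

* `exists_finrank_eq_sq`, `exists_finrank_eq_sq_local`: the rank of an Azumaya algebra over a
  field / local ring is a square.
* `regular_smul`, `regular_unit_smul`: regular elements are stable under unit scaling.
* `exists_span_pow_mul_pow`, `exists_basis_pow_mul_pow`: for a regular `ξ` there is `α` with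
  `ξ ^ i * α * ξ ^ j` a basis (local ring).
* `nonempty_algEquiv_matrix`: global version of `E ⊗ A ≃ M_r(E)` when `A` is free over `E`.
* `nonempty_algEquiv_matrix_adjoinRoot`: the same from element-level data, `E = T[X]/(Q)`.
* `pow_mem_span_of_regular`: `ξ ^ r` is a combination of lower powers.
* `exists_local_data`: element-level data near a prime extracted from the local theory.
-/

set_option autoImplicit false
open Polynomial TensorProduct

namespace Groth.Agent.Lib.Seat25.AzSplit

open Groth.Agent.Lib.Seat25.MonicEt Groth.Agent.Lib.Seat25.AzReg Groth.Agent.Lib.Seat25.AzMaxEt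
  Groth.Agent.Lib.Seat25.AzFree Groth.Agent.Lib.Seat25.AzSpread

section Rank

universe u v

/-- the rank of an Azumaya algebra over a field is a square -/
theorem exists_finrank_eq_sq (k : Type u) [Field k] (A : Type v) [Ring A] [Algebra k A]
    [IsAzumaya k A] : ∃ n : ℕ, Module.finrank k A = n ^ 2 := by
  have : Module.Finite k A := IsAzumaya.toFinite (R := k)
  let K := AlgebraicClosure k
  have hAz : IsAzumaya K (K ⊗[k] A) := Groth.Agent.Lib.LeadAzumaya.isAzumaya_baseChange K A
  have : IsSimpleRing (K ⊗[k] A) :=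
    Groth.Agent.Lib.LeadAzumaya.isSimpleRing_of_isAzumaya_field (k := K)
  obtain ⟨n, _, ⟨e⟩⟩ := IsSimpleRing.exists_algEquiv_matrix_of_isAlgClosed K (K ⊗[k] A)
  refine ⟨n, ?_⟩
  rw [← Module.finrank_baseChange (R := K), e.toLinearEquiv.finrank_eq, Module.finrank_matrix]
  simp [sq]

/-- the rank of an Azumaya algebra over a local ring is a square -/
theorem exists_finrank_eq_sq_local (R : Type u) [CommRing R] [IsLocalRing R] (A : Type v) [Ring A]
    [Algebra R A] [IsAzumaya R A] : ∃ n : ℕ, Module.finrank R A = n ^ 2 := by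
  have : Module.Finite R A := IsAzumaya.toFinite (R := R)
  have : Module.Projective R A := IsAzumaya.toProjective (R := R)
  have : Module.Free R A := Module.free_of_flat_of_isLocalRing
  have hAz : IsAzumaya (IsLocalRing.ResidueField R) (IsLocalRing.ResidueField R ⊗[R] A) :=
    Groth.Agent.Lib.LeadAzumaya.isAzumaya_baseChange _ A
  obtain ⟨n, hn⟩ := exists_finrank_eq_sq (IsLocalRing.ResidueField R)
    (IsLocalRing.ResidueField R ⊗[R] A)
  exact ⟨n, by rw [← hn, Module.finrank_baseChange]⟩

end Rank

section Scale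

variable {k : Type*} [Field k] {B : Type*} [Ring B] [Algebra k B] [FiniteDimensional k B]

omit [FiniteDimensional k B] in
theorem adjoin_smul_eq (x : B) (c : k) (hc : c ≠ 0) :
    Algebra.adjoin k ({c • x} : Set B) = Algebra.adjoin k ({x} : Set B) := by
  apply le_antisymm
  · apply Algebra.adjoin_le
    intro y hy
    rw [Set.mem_singleton_iff] at hy
    rw [hy]
    exact Subalgebra.smul_mem _ (Algebra.subset_adjoin (Set.mem_singleton x)) c
  · apply Algebra.adjoin_le
    intro y hy
    rw [Set.mem_singleton_iff] at hy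
    rw [hy]
    have h1 : c⁻¹ • (c • x) ∈ Algebra.adjoin k ({c • x} : Set B) :=
      Subalgebra.smul_mem _ (Algebra.subset_adjoin (Set.mem_singleton (c • x))) c⁻¹
    rwa [smul_smul, inv_mul_cancel₀ hc, one_smul] at h1

/-- the regular elements are stable under scaling by nonzero scalars. -/
theorem regular_smul (r : ℕ) (x : B) (c : k) (hc : c ≠ 0)
    (h : (minpoly k x).Separable ∧ (minpoly k x).natDegree = r) :
    (minpoly k (c • x)).Separable ∧ (minpoly k (c • x)).natDegree = r := by
  have hxint : IsIntegral k x := IsIntegral.of_finite k x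
  have hcxint : IsIntegral k (c • x) := IsIntegral.of_finite k _
  constructor
  · have hsep : Algebra.IsSeparable k (Algebra.adjoin k ({x} : Set B)) :=
      (Groth.Agent.Lib.Seat25.SepAlg.isSeparable_adjoin_of_commute (k := k) ({x} : Set B)
        (by
          intro a ha b hb
          rw [Set.mem_singleton_iff] at ha hb
          rw [ha, hb])
        (by
          intro a ha
          rw [Set.mem_singleton_iff] at ha
          rw [ha]
          exact h.1)).2
    have hmem : c • x ∈ Algebra.adjoin k ({x} : Set B) :=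
      Subalgebra.smul_mem _ (Algebra.subset_adjoin (Set.mem_singleton x)) c
    have h1 : IsSeparable k (⟨c • x, hmem⟩ : Algebra.adjoin k ({x} : Set B)) :=
      Algebra.IsSeparable.isSeparable k _
    have h2 := Groth.Agent.Lib.Seat25.SepAlg.isSeparable_map (k := k)
      (Algebra.adjoin k ({x} : Set B)).val h1
    rwa [Subalgebra.val_apply] at h2
  · rw [← finrank_adjoin_singleton (c • x) hcxint, adjoin_smul_eq x c hc,
      finrank_adjoin_singleton x hxint, h.2]

end Scale


section F1

universe u v
variable (k : Type u) [Field k] (A : Type v) [Ring A] [Algebra k A] [IsAzumaya k A]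

/-- for a regular element `x` of an Azumaya algebra of rank `r²` over a field there is `a₀` such
that the `x ^ i * a₀ * x ^ j` span. -/
theorem exists_span_pow_mul_pow (r : ℕ) (hr : Module.finrank k A = r ^ 2) (x : A)
    (hx : (minpoly k x).Separable ∧ (minpoly k x).natDegree = r) :
    ∃ a₀ : A, Submodule.span k
      (Set.range fun ij : Fin r × Fin r => x ^ (ij.1 : ℕ) * a₀ * x ^ (ij.2 : ℕ)) = ⊤ := by
  have : Module.Finite k A := IsAzumaya.toFinite (R := k)
  have hxint : IsIntegral k x := IsIntegral.of_finite k x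
  set p := minpoly k x with hp
  have hpm : p.Monic := minpoly.monic hxint
  have hEt : Algebra.Etale k (AdjoinRoot p) := etale_adjoinRoot p hpm hx.1
  have hfin : Module.Finite k (AdjoinRoot p) := hpm.finite_adjoinRoot
  let bE := powBasis p hpm r hx.2
  have hrank : Module.finrank k (AdjoinRoot p) = r := by
    rw [Module.finrank_eq_card_basis bE, Fintype.card_fin]
  let u : AdjoinRoot p →ₐ[k] A := liftRoot p x (minpoly.aeval k x)
  have hu : Function.Injective u := by
    rw [injective_iff_map_eq_zero]
    intro z hz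
    obtain ⟨q, rfl⟩ := AdjoinRoot.mk_surjective z
    rw [liftRoot_mk] at hz
    exact AdjoinRoot.mk_eq_zero.mpr (minpoly.dvd k x hz)
  obtain ⟨a₀, ha₀⟩ := exists_bijective_biact k A (AdjoinRoot p) r hr hrank u hu
  refine ⟨a₀, ?_⟩
  have hul : ∀ l : AdjoinRoot p, u l = ∑ i, bE.repr l i • x ^ (i : ℕ) := by
    intro l
    conv_lhs => rw [← bE.sum_repr l]
    rw [map_sum]
    refine Finset.sum_congr rfl fun i _ => ?_
    rw [map_smul, powBasis_apply, liftRoot_root_pow]
  have key : ∀ s : AdjoinRoot p ⊗[k] AdjoinRoot p, biact k A (AdjoinRoot p) u s a₀ ∈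
      Submodule.span k
        (Set.range fun ij : Fin r × Fin r => x ^ (ij.1 : ℕ) * a₀ * x ^ (ij.2 : ℕ)) := by
    intro s
    induction s using TensorProduct.induction_on with
    | zero =>
      simp only [map_zero, LinearMap.zero_apply]
      exact Submodule.zero_mem _
    | tmul l l' =>
      simp only [biact_tmul]
      rw [hul l, hul l', Finset.sum_mul, Finset.sum_mul]
      refine Submodule.sum_mem _ fun i _ => ?_
      rw [Finset.mul_sum]
      refine Submodule.sum_mem _ fun j _ => ?_
      rw [smul_mul_assoc, smul_mul_assoc, mul_smul_comm]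
      refine Submodule.smul_mem _ _ (Submodule.smul_mem _ _ (Submodule.subset_span ⟨(i, j), rfl⟩))
    | add s s' hs hs' =>
      simp only [map_add, LinearMap.add_apply]
      exact Submodule.add_mem _ hs hs'
  rw [eq_top_iff]
  intro y _
  obtain ⟨s, rfl⟩ := ha₀.2 y
  exact key s

end F1

section L1

universe u
open IsLocalRing

variable (R : Type u) [CommRing R] [IsLocalRing R] (A : Type u) [Ring A] [Algebra R A]
  [IsAzumaya R A]

/-- over a local ring: for a regular section `ξ` of an Azumaya algebra of rank `r²` there is `α`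
such that the `ξ ^ i * α * ξ ^ j` form a basis. -/
theorem exists_basis_pow_mul_pow (r : ℕ) (hA : Module.finrank R A = r ^ 2) (ξ : A)
    (hξ : (minpoly (ResidueField R) ((1 : ResidueField R) ⊗ₜ[R] ξ : ResidueField R ⊗[R] A)).Separable
      ∧ (minpoly (ResidueField R)
        ((1 : ResidueField R) ⊗ₜ[R] ξ : ResidueField R ⊗[R] A)).natDegree = r) :
    ∃ (α : A) (b : Module.Basis (Fin r × Fin r) R A),
      ∀ ij, b ij = ξ ^ (ij.1 : ℕ) * α * ξ ^ (ij.2 : ℕ) := by
  have : Module.Finite R A := IsAzumaya.toFinite (R := R)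
  have : Module.Projective R A := IsAzumaya.toProjective (R := R)
  have : Module.Free R A := Module.free_of_flat_of_isLocalRing
  have hAz : IsAzumaya (ResidueField R) (ResidueField R ⊗[R] A) :=
    Groth.Agent.Lib.LeadAzumaya.isAzumaya_baseChange _ A
  have : Module.Finite (ResidueField R) (ResidueField R ⊗[R] A) :=
    IsAzumaya.toFinite (R := ResidueField R)
  have hfr : Module.finrank (ResidueField R) (ResidueField R ⊗[R] A) = r ^ 2 := by
    rw [Module.finrank_baseChange, hA]
  obtain ⟨a₀, ha₀⟩ := exists_span_pow_mul_pow (ResidueField R) (ResidueField R ⊗[R] A) r hfr _ hξ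
  obtain ⟨α, rfl⟩ : ∃ α : A, (1 : ResidueField R) ⊗ₜ[R] α = a₀ :=
    TensorProduct.mk_surjective R A (ResidueField R) residue_surjective a₀
  refine ⟨α, ?_⟩
  let W : Fin r × Fin r → A := fun ij => ξ ^ (ij.1 : ℕ) * α * ξ ^ (ij.2 : ℕ)
  have hW : (TensorProduct.mk R (ResidueField R) A 1 ∘ W) = fun ij : Fin r × Fin r =>
      ((1 : ResidueField R) ⊗ₜ[R] ξ : ResidueField R ⊗[R] A) ^ (ij.1 : ℕ) *
        ((1 : ResidueField R) ⊗ₜ[R] α) * ((1 : ResidueField R) ⊗ₜ[R] ξ) ^ (ij.2 : ℕ) := by
    funext ij
    simp only [Function.comp_apply, TensorProduct.mk_apply, W, Algebra.TensorProduct.tmul_pow,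
      one_pow, Algebra.TensorProduct.tmul_mul_tmul, one_mul]
  have hsp : Submodule.span (ResidueField R)
      (Set.range (TensorProduct.mk R (ResidueField R) A 1 ∘ W)) = ⊤ := by
    rw [hW]; exact ha₀
  have hli : LinearIndependent (ResidueField R) (TensorProduct.mk R (ResidueField R) A 1 ∘ W) := by
    apply linearIndependent_of_top_le_span_of_card_eq_finrank (le_of_eq hsp.symm)
    rw [hfr, Fintype.card_prod, Fintype.card_fin, sq]
  have : Module.FinitePresentation R A := Module.finitePresentation_of_projective R A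
  exact Module.exists_basis_of_basis_baseChange W hli hsp
    (Module.Flat.rTensor_preserves_injective_linearMap _ Subtype.val_injective)

end L1


section G

universe u v w
variable (R : Type u) [CommRing R] [Nontrivial R] (A : Type v) [Ring A] [Algebra R A] [IsAzumaya R A]
  (E : Type w) [CommRing E] [Algebra R E]

/-- global version: if the Azumaya algebra `A` (free of rank `r²` over `R`) is free of rank `r`
over a commutative `R`-algebra `E` mapping to it (right action), then `E ⊗ A ≃ M_r(E)`. -/
theorem nonempty_algEquiv_matrix (r : ℕ) (hr : 0 < r) [Module.Free R A]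
    (hA : Module.finrank R A = r ^ 2) (u : E →ₐ[R] A) (b : Fin r → A)
    (hb : Function.Bijective (fun e : Fin r → E => ∑ i, b i * u (e i))) :
    Nonempty ((E ⊗[R] A) ≃ₐ[E] Matrix (Fin r) (Fin r) E) := by
  classical
  have : Module.Finite R A := IsAzumaya.toFinite (R := R)
  have : Nontrivial A := by
    apply Module.nontrivial_of_finrank_pos (R := R)
    rw [hA]; positivity
  have : Nontrivial E := u.toRingHom.domain_nontrivial
  have hcomm : ∀ x y : E, Commute (u x) (u y) := fun x y => by
    rw [commute_iff_eq, ← map_mul, ← map_mul, mul_comm]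
  let _ : Module E A := Module.compHom A (u.toOpposite hcomm).toRingHom
  have hmod : ∀ (e : E) (a : A), e • a = a * u e := fun e a => rfl
  let Φ : (Fin r → E) →ₗ[E] A :=
    { toFun := fun e => ∑ i, b i * u (e i)
      map_add' := fun e e' => by
        simp only [Pi.add_apply, map_add, mul_add, Finset.sum_add_distrib]
      map_smul' := fun c e => by
        simp only [Pi.smul_apply, smul_eq_mul, RingHom.id_apply, hmod, Finset.sum_mul]
        refine Finset.sum_congr rfl fun i _ => ?_
        rw [mul_comm c (e i), map_mul, mul_assoc] }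
  let bA : Module.Basis (Fin r) E A := Module.Basis.ofEquivFun (LinearEquiv.ofBijective Φ hb).symm
  have : Module.Free E A := Module.Free.of_basis bA
  have : Module.Finite E A := Module.Finite.of_basis bA
  have hrankA : Module.finrank E A = r := by
    rw [Module.finrank_eq_card_basis bA, Fintype.card_fin]
  have : IsScalarTower R E A := ⟨fun c e a => by
    rw [hmod, hmod, map_smul, mul_smul_comm]⟩
  have : SMulCommClass E R A := ⟨fun e c a => by
    rw [hmod, hmod, smul_mul_assoc]⟩
  -- left multiplication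
  let g : A →ₐ[R] Module.End E A :=
    { toFun := fun a =>
        { toFun := fun y => a * y
          map_add' := fun y y' => mul_add a y y'
          map_smul' := fun e y => by
            simp only [hmod, RingHom.id_apply, mul_assoc] }
      map_one' := by ext y; simp
      map_mul' := fun a a' => by ext y; simp [mul_assoc]
      map_zero' := by ext y; simp
      map_add' := fun a a' => by ext y; simp [add_mul]
      commutes' := fun c => by
        ext y
        simp [Algebra.algebraMap_eq_smul_one] }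
  have hfg : ∀ (e : E) (a : A), Commute (Algebra.ofId E (Module.End E A) e) (g a) := by
    intro e a
    ext y
    simp [g, Algebra.ofId_apply, Module.algebraMap_end_apply, hmod, mul_assoc]
  let φ : E ⊗[R] A →ₐ[E] Module.End E A :=
    Algebra.TensorProduct.lift (Algebra.ofId E (Module.End E A)) g hfg
  -- ranks
  have hAzB : IsAzumaya E (E ⊗[R] A) := Groth.Agent.Lib.LeadAzumaya.isAzumaya_baseChange E A
  have hrankB : Module.finrank E (E ⊗[R] A) = r ^ 2 := by
    rw [Module.finrank_baseChange, hA]
  have hrankC : Module.finrank E (Module.End E A) = r ^ 2 := by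
    rw [Module.finrank_linearMap, hrankA, sq]
  -- surjectivity modulo every maximal ideal
  have hsurj : Function.Surjective φ := by
    have h1 : Function.Surjective φ.toLinearMap := by
      apply surjective_of_forall_maximal
      intro P hP
      let _ : Field (E ⧸ P) := Ideal.Quotient.field P
      have hAzF : IsAzumaya (E ⧸ P) ((E ⧸ P) ⊗[E] (E ⊗[R] A)) :=
        Groth.Agent.Lib.LeadAzumaya.isAzumaya_baseChange (E ⧸ P) (E ⊗[R] A)
      have : IsSimpleRing ((E ⧸ P) ⊗[E] (E ⊗[R] A)) :=
        Groth.Agent.Lib.LeadAzumaya.isSimpleRing_of_isAzumaya_field (k := E ⧸ P)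
      have hrB : Module.finrank (E ⧸ P) ((E ⧸ P) ⊗[E] (E ⊗[R] A)) = r ^ 2 := by
        rw [Module.finrank_baseChange, hrankB]
      have hrC : Module.finrank (E ⧸ P) ((E ⧸ P) ⊗[E] (Module.End E A)) = r ^ 2 := by
        rw [Module.finrank_baseChange, hrankC]
      have : Nontrivial ((E ⧸ P) ⊗[E] (Module.End E A)) := by
        apply Module.nontrivial_of_finrank_pos (R := E ⧸ P)
        rw [hrC]
        positivity
      let φP : (E ⧸ P) ⊗[E] (E ⊗[R] A) →ₐ[E ⧸ P] (E ⧸ P) ⊗[E] (Module.End E A) :=
        Algebra.TensorProduct.map (AlgHom.id (E ⧸ P) (E ⧸ P)) φ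
      have hφP : Function.Injective φP := RingHom.injective φP.toRingHom
      have hφP' : Function.Surjective φP :=
        (LinearMap.injective_iff_surjective_of_finrank_eq_finrank
          (f := φP.toLinearMap) (hrB.trans hrC.symm)).mp hφP
      have heq : ⇑(φ.toLinearMap.lTensor (E ⧸ P)) = ⇑φP := by
        ext x
        induction x using TensorProduct.induction_on with
        | zero => simp
        | tmul a b => simp [φP]
        | add x y hx hy => simp only [map_add, hx, hy]
      rw [heq]
      exact hφP'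
    exact h1
  -- injectivity by Orzech
  have hinj : Function.Injective φ := by
    let σ : Module.End E A ≃ₗ[E] E ⊗[R] A :=
      LinearEquiv.ofFinrankEq _ _ (hrankC.trans hrankB.symm)
    have h1 : Function.Surjective (φ.toLinearMap ∘ₗ σ.toLinearMap) := hsurj.comp σ.surjective
    have h2 := OrzechProperty.injective_of_surjective_endomorphism _ h1
    intro x y hxy
    have := h2 (a₁ := σ.symm x) (a₂ := σ.symm y) (by simpa using hxy)
    exact σ.symm.injective this
  exact ⟨(AlgEquiv.ofBijective φ ⟨hinj, hsurj⟩).trans (algEquivMatrix bA)⟩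

end G


section GLOB

universe u v
variable (T : Type u) [CommRing T] [Nontrivial T] (A : Type v) [Ring A] [Algebra T A]
  [IsAzumaya T A]

/-- splitting by `T[X]/(Q)` from the element-level data. -/
theorem nonempty_algEquiv_matrix_adjoinRoot (r : ℕ) (hr : 0 < r) (a α : A) (Q : T[X])
    (hQ : Q.Monic) (hdeg : Q.natDegree = r) (hQa : aeval a Q = 0)
    (B : Module.Basis (Fin r × Fin r) T A)
    (hB : ∀ ij, B ij = a ^ (ij.1 : ℕ) * α * a ^ (ij.2 : ℕ)) :
    Nonempty ((AdjoinRoot Q ⊗[T] A) ≃ₐ[AdjoinRoot Q] Matrix (Fin r) (Fin r) (AdjoinRoot Q)) := by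
  have : Module.Free T A := Module.Free.of_basis B
  have hA : Module.finrank T A = r ^ 2 := by
    rw [Module.finrank_eq_card_basis B, Fintype.card_prod, Fintype.card_fin, sq]
  let u : AdjoinRoot Q →ₐ[T] A := liftRoot Q a hQa
  let bE := powBasis Q hQ r hdeg
  have hb := bijective_sum_of_basis u bE (fun i : Fin r => a ^ (i : ℕ) * α) B (by
    intro i j
    rw [hB, powBasis_apply, liftRoot_root_pow])
  exact nonempty_algEquiv_matrix T A (AdjoinRoot Q) r hr hA u _ hb

end GLOB

section Pow

universe u
open IsLocalRing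

variable (R : Type u) [CommRing R] [IsLocalRing R] (A : Type u) [Ring A] [Algebra R A]
  [IsAzumaya R A]

/-- for a regular section `ξ`, `ξ ^ r` is a combination of the lower powers. -/
theorem pow_mem_span_of_regular (r : ℕ) (hA : Module.finrank R A = r ^ 2) (ξ : A)
    (hξ : (minpoly (ResidueField R) ((1 : ResidueField R) ⊗ₜ[R] ξ : ResidueField R ⊗[R] A)).Separable
      ∧ (minpoly (ResidueField R)
        ((1 : ResidueField R) ⊗ₜ[R] ξ : ResidueField R ⊗[R] A)).natDegree = r) :
    ξ ^ r ∈ Submodule.span R (Set.range (fun i : Fin r => ξ ^ (i : ℕ))) := by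
  have : Module.Finite R A := IsAzumaya.toFinite (R := R)
  have hAz : IsAzumaya (ResidueField R) (ResidueField R ⊗[R] A) :=
    Groth.Agent.Lib.LeadAzumaya.isAzumaya_baseChange _ A
  have : Module.Finite (ResidueField R) (ResidueField R ⊗[R] A) :=
    IsAzumaya.toFinite (R := ResidueField R)
  set x : ResidueField R ⊗[R] A := (1 : ResidueField R) ⊗ₜ[R] ξ with hx
  have hxint : IsIntegral (ResidueField R) x := IsIntegral.of_finite _ x
  have hsep : Algebra.IsSeparable (ResidueField R)
      (Algebra.adjoin (ResidueField R) ({x} : Set (ResidueField R ⊗[R] A))) :=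
    (Groth.Agent.Lib.Seat25.SepAlg.isSeparable_adjoin_of_commute (k := ResidueField R)
      ({x} : Set (ResidueField R ⊗[R] A))
      (by
        intro a ha b hb
        rw [Set.mem_singleton_iff] at ha hb
        rw [ha, hb])
      (by
        intro a ha
        rw [Set.mem_singleton_iff] at ha
        rw [ha]
        exact hξ.1)).2
  have hrk : Module.finrank (ResidueField R)
      (Algebra.adjoin (ResidueField R) ({x} : Set (ResidueField R ⊗[R] A))) = r := by
    rw [finrank_adjoin_singleton x hxint, hξ.2]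
  exact (powers_basis R A r hA ξ hsep hrk).2

end Pow


section LOC

universe u
open IsLocalRing

variable (R : Type u) [CommRing R] [IsLocalRing R] (A : Type u) [Ring A] [Algebra R A]
  [IsAzumaya R A]

/-- regular sections are stable under scaling by units. -/
theorem regular_unit_smul (r : ℕ) (ξ : A) (c : R) (hc : IsUnit c)
    (hξ : (minpoly (ResidueField R) ((1 : ResidueField R) ⊗ₜ[R] ξ : ResidueField R ⊗[R] A)).Separable
      ∧ (minpoly (ResidueField R)
        ((1 : ResidueField R) ⊗ₜ[R] ξ : ResidueField R ⊗[R] A)).natDegree = r) :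
    (minpoly (ResidueField R)
        ((1 : ResidueField R) ⊗ₜ[R] (c • ξ) : ResidueField R ⊗[R] A)).Separable
      ∧ (minpoly (ResidueField R)
        ((1 : ResidueField R) ⊗ₜ[R] (c • ξ) : ResidueField R ⊗[R] A)).natDegree = r := by
  have : Module.Finite R A := IsAzumaya.toFinite (R := R)
  have h1 : ((1 : ResidueField R) ⊗ₜ[R] (c • ξ) : ResidueField R ⊗[R] A) =
      (residue R c) • ((1 : ResidueField R) ⊗ₜ[R] ξ) := by
    rw [TensorProduct.tmul_smul, ← algebraMap_smul (ResidueField R) c]
    rfl
  rw [h1]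
  have hne : residue R c ≠ 0 := by
    intro h0
    exact ((IsLocalRing.residue_eq_zero_iff c).mp h0) hc
  exact regular_smul r _ _ hne hξ

end LOC


section LOC2

universe u
open IsLocalRing

variable (R : Type u) [CommRing R] (A : Type u) [Ring A] [Algebra R A] [IsAzumaya R A]
  (p : Ideal R) [p.IsPrime]

/-- the element-level data near a prime `p` extracted from the local theory at `p`. -/
theorem exists_local_data :
    ∃ (r : ℕ) (_ : 0 < r) (a α : A) (Q : R[X]), Q.Monic ∧ Q.natDegree = r ∧ aeval a Q = 0 ∧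
      resultant Q (derivative Q) ∉ p ∧
      ∃ (χ : A →ₗ[R] ((Fin r × Fin r) →₀ R)) (s : R), s ∉ p ∧
        (Finsupp.linearCombination R
          (fun ij : Fin r × Fin r => a ^ (ij.1 : ℕ) * α * a ^ (ij.2 : ℕ))) ∘ₗ χ =
            s • LinearMap.id ∧
        χ ∘ₗ (Finsupp.linearCombination R
          (fun ij : Fin r × Fin r => a ^ (ij.1 : ℕ) * α * a ^ (ij.2 : ℕ))) =
            s • LinearMap.id := by
  classical
  have : Nontrivial R := ⟨⟨0, 1, fun h => (Ideal.IsPrime.ne_top ‹_›)
    ((Ideal.eq_top_iff_one p).mpr (h ▸ p.zero_mem))⟩⟩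
  let Rp := Localization.AtPrime p
  let Ap := Rp ⊗[R] A
  let κ := ResidueField Rp
  have hAz : IsAzumaya Rp Ap := Groth.Agent.Lib.LeadAzumaya.isAzumaya_baseChange Rp A
  have : Module.Finite Rp Ap := IsAzumaya.toFinite (R := Rp)
  have : Module.Projective Rp Ap := IsAzumaya.toProjective (R := Rp)
  have : Module.Free Rp Ap := Module.free_of_flat_of_isLocalRing
  obtain ⟨r, hA⟩ := exists_finrank_eq_sq_local Rp Ap
  have : Nontrivial Ap := by
    have hinj : Function.Injective (algebraMap Rp Ap) := FaithfulSMul.algebraMap_injective Rp Ap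
    exact hinj.nontrivial
  have hr : 0 < r := by
    have h := (Module.finrank_pos_iff_of_free (R := Rp) (M := Ap)).mpr inferInstance
    rw [hA] at h
    exact Nat.pos_of_ne_zero fun h0 => by simp [h0] at h
  have hAzκ : IsAzumaya κ (κ ⊗[Rp] Ap) := Groth.Agent.Lib.LeadAzumaya.isAzumaya_baseChange _ Ap
  have hfr : Module.finrank κ (κ ⊗[Rp] Ap) = r ^ 2 := by
    rw [Module.finrank_baseChange, hA]
  -- Step 1: a regular section over `Rp`
  obtain ⟨x, hx⟩ := exists_regular κ (κ ⊗[Rp] Ap) r hfr
  obtain ⟨ξ₀, rfl⟩ : ∃ ξ₀ : Ap, (1 : κ) ⊗ₜ[Rp] ξ₀ = x :=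
    TensorProduct.mk_surjective Rp Ap κ residue_surjective x
  -- Step 2: make it come from `A`
  obtain ⟨⟨a₀, s₀⟩, hs₀⟩ := IsLocalizedModule.surj p.primeCompl (TensorProduct.mk R Rp A 1) ξ₀
  have hunit : ∀ s : p.primeCompl, IsUnit (algebraMap R Rp (s : R)) := fun s =>
    IsLocalization.map_units Rp s
  have hsmul : ∀ (s : R) (ξ : Ap), s • ξ = algebraMap R Rp s • ξ := fun s ξ =>
    (algebraMap_smul Rp s ξ).symm
  have hreg₀ : (minpoly κ ((1 : κ) ⊗ₜ[Rp] ((1 : Rp) ⊗ₜ[R] a₀ : Ap) : κ ⊗[Rp] Ap)).Separable ∧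
      (minpoly κ ((1 : κ) ⊗ₜ[Rp] ((1 : Rp) ⊗ₜ[R] a₀ : Ap) : κ ⊗[Rp] Ap)).natDegree = r := by
    have h1 : ((1 : Rp) ⊗ₜ[R] a₀ : Ap) = algebraMap R Rp (s₀ : R) • ξ₀ := by
      rw [← hsmul]
      exact hs₀.symm
    rw [h1]
    exact regular_unit_smul Rp Ap r ξ₀ _ (hunit s₀) hx
  -- Step 3: the monic polynomial
  have hmem := pow_mem_span_of_regular Rp Ap r hA _ hreg₀
  obtain ⟨t, ht, Q, hQ, hdeg, hQa⟩ := exists_monic_of_mem_span p.primeCompl Rp a₀ r hr hmem
  set a : A := t • a₀ with ha
  have hreg : (minpoly κ ((1 : κ) ⊗ₜ[Rp] ((1 : Rp) ⊗ₜ[R] a : Ap) : κ ⊗[Rp] Ap)).Separable ∧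
      (minpoly κ ((1 : κ) ⊗ₜ[Rp] ((1 : Rp) ⊗ₜ[R] a : Ap) : κ ⊗[Rp] Ap)).natDegree = r := by
    have h1 : ((1 : Rp) ⊗ₜ[R] a : Ap) = algebraMap R Rp t • ((1 : Rp) ⊗ₜ[R] a₀ : Ap) := by
      rw [← hsmul, ha, TensorProduct.tmul_smul]
    rw [h1]
    exact regular_unit_smul Rp Ap r _ _ (hunit ⟨t, ht⟩) hreg₀
  set ξ : Ap := (1 : Rp) ⊗ₜ[R] a with hξ
  -- Step 4: the resultant
  have hres : resultant Q (derivative Q) ∉ p := by
    let φ : R →+* κ := (algebraMap Rp κ).comp (algebraMap R Rp)
    have hxint : IsIntegral κ ((1 : κ) ⊗ₜ[Rp] ξ : κ ⊗[Rp] Ap) := by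
      exact IsIntegral.of_finite _ _
    have hmap : Q.map φ = (Q.map (algebraMap R Rp)).map (algebraMap Rp κ) :=
      (Polynomial.map_map _ _ _).symm
    have hQx : aeval ((1 : κ) ⊗ₜ[Rp] ξ : κ ⊗[Rp] Ap) (Q.map φ) = 0 := by
      rw [hmap, aeval_one_tmul', hξ, aeval_one_tmul', hQa, TensorProduct.tmul_zero,
        TensorProduct.tmul_zero]
    have hQbar : Q.map φ = minpoly κ ((1 : κ) ⊗ₜ[Rp] ξ : κ ⊗[Rp] Ap) := by
      refine eq_of_monic_of_dvd_of_natDegree_le (minpoly.monic hxint) (hQ.map _)
        (minpoly.dvd _ _ hQx) ?_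
      rw [hQ.natDegree_map, hdeg, hreg.2]
    have hsep : (Q.map φ).Separable := by rw [hQbar]; exact hreg.1
    have hne := map_resultant_ne_zero_of_separable φ Q hQ hsep
    intro hmemp
    apply hne
    have h1 : algebraMap R Rp (resultant Q (derivative Q)) ∈ maximalIdeal Rp :=
      (IsLocalization.AtPrime.to_map_mem_maximal_iff Rp p _).mpr hmemp
    change algebraMap Rp κ (algebraMap R Rp (resultant Q (derivative Q))) = 0
    rw [ResidueField.algebraMap_eq]
    exact (residue_eq_zero_iff _).mpr h1
  -- Step 5: the basis over `Rp`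
  obtain ⟨αp, bp, hbp⟩ := exists_basis_pow_mul_pow Rp Ap r hA ξ hreg
  obtain ⟨⟨α, s₁⟩, hs₁⟩ := IsLocalizedModule.surj p.primeCompl (TensorProduct.mk R Rp A 1) αp
  let W : Fin r × Fin r → A := fun ij => a ^ (ij.1 : ℕ) * α * a ^ (ij.2 : ℕ)
  let b' : Module.Basis (Fin r × Fin r) Rp Ap :=
    bp.isUnitSMul (fun _ => hunit s₁)
  have hb' : ∀ ij, b' ij = (1 : Rp) ⊗ₜ[R] W ij := by
    intro ij
    have h1 : ((1 : Rp) ⊗ₜ[R] α : Ap) = algebraMap R Rp (s₁ : R) • αp := by
      rw [← hsmul]
      exact hs₁.symm
    rw [Module.Basis.isUnitSMul_apply, hbp]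
    simp only [W]
    rw [← smul_mul_assoc, ← mul_smul_comm, ← h1, hξ, Algebra.TensorProduct.tmul_pow,
      Algebra.TensorProduct.tmul_pow, one_pow, Algebra.TensorProduct.tmul_mul_tmul,
      Algebra.TensorProduct.tmul_mul_tmul, one_mul, one_mul, one_pow]
  -- Step 6: inverse up to `s`
  have : Module.Finite R A := IsAzumaya.toFinite (R := R)
  have : Module.Projective R A := IsAzumaya.toProjective (R := R)
  have : Module.FinitePresentation R A := Module.finitePresentation_of_projective R A
  have hl : Function.Bijective (IsLocalizedModule.map p.primeCompl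
      (Finsupp.mapRange.linearMap (α := Fin r × Fin r) (Algebra.linearMap R Rp))
      (TensorProduct.mk R Rp A 1) (Finsupp.linearCombination R W)) := by
    rw [IsLocalizedModule.map_linearCombination]
    have h2 : (⇑(TensorProduct.mk R Rp A 1) ∘ W) = ⇑b' := funext fun ij => (hb' ij).symm
    rw [h2]
    have h3 : ⇑(Finsupp.linearCombination Rp ⇑b') = ⇑b'.repr.symm := by
      rw [← Module.Basis.coe_repr_symm]
      rfl
    change Function.Bijective ⇑(Finsupp.linearCombination Rp ⇑b')
    rw [h3]
    exact b'.repr.symm.bijective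
  obtain ⟨χ, s, hs, h1, h2⟩ := exists_comp_eq_smul p.primeCompl
    (Finsupp.mapRange.linearMap (α := Fin r × Fin r) (Algebra.linearMap R Rp))
    (TensorProduct.mk R Rp A 1) (Finsupp.linearCombination R W) hl
  exact ⟨r, hr, a, α, Q, hQ, hdeg, hQa, hres, χ, s, fun hsp => hs hsp, h1, h2⟩

end LOC2

end Groth.Agent.Lib.Seat25.AzSplit
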