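import Mathlib
import Groth.Agent.Lib.Seat25AzSplit

/-!
# Seat25AzSH: Azumaya algebras over strictly henselian local rings have matrix units

* universe-general copies `powers_basis'`, `pow_mem_span_of_regular'`, `exists_basis_pow_mul_pow'`
  (base ring and algebra in different universes).
* `HasMatrixUnits n B`: `B` contains a full system of `n × n` matrix units; stability under ring
  homomorphisms, products; `hasMatrixUnits_matrix`.
* `hasMatrixUnits_of_strictlyHenselian`: an Azumaya algebra of rank `n²` over a strictly henselian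
  local ring has `n × n` matrix units.
-/

set_option autoImplicit false
open Polynomial TensorProduct

namespace Groth.Agent.Lib.Seat25.AzSH

open Groth.Agent.Lib.Seat25.MonicEt Groth.Agent.Lib.Seat25.AzReg Groth.Agent.Lib.Seat25.AzMaxEt
  Groth.Agent.Lib.Seat25.AzFree Groth.Agent.Lib.Seat25.AzSpread Groth.Agent.Lib.Seat25.AzSplit

section Univ

universe u v
open IsLocalRing

variable (R : Type u) [CommRing R] [IsLocalRing R] (A : Type v) [Ring A] [Algebra R A]

omit [IsLocalRing R] in
/-- `k ⊗ (a ↦ ξ a - a ξ)` is `a ↦ x a - a x` for `x = 1 ⊗ ξ`. -/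
theorem lTensor_ad_apply' (k : Type*) [CommRing k] [Algebra R k] (ξ : A) (a : k ⊗[R] A) :
    (LinearMap.mulLeft R ξ - LinearMap.mulRight R ξ).lTensor k a =
      ((1 : k) ⊗ₜ[R] ξ) * a - a * ((1 : k) ⊗ₜ[R] ξ) := by
  induction a using TensorProduct.induction_on with
  | zero => simp
  | add a b ha hb => rw [map_add, ha, hb, mul_add, add_mul]; abel
  | tmul c a =>
    rw [LinearMap.lTensor_tmul, LinearMap.sub_apply, LinearMap.mulLeft_apply,
      LinearMap.mulRight_apply, TensorProduct.tmul_sub, Algebra.TensorProduct.tmul_mul_tmul,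
      Algebra.TensorProduct.tmul_mul_tmul, one_mul, mul_one]

theorem powers_basis' [IsAzumaya R A] (r : ℕ) (hA : Module.finrank R A = r ^ 2) (ξ : A)
    (hsep : Algebra.IsSeparable (ResidueField R) (Algebra.adjoin (ResidueField R)
      ({(1 : ResidueField R) ⊗ₜ[R] ξ} : Set (ResidueField R ⊗[R] A))))
    (hrk : Module.finrank (ResidueField R) (Algebra.adjoin (ResidueField R)
      ({(1 : ResidueField R) ⊗ₜ[R] ξ} : Set (ResidueField R ⊗[R] A))) = r) :
    LinearIndependent R (fun i : Fin r => ξ ^ (i : ℕ)) ∧
      ξ ^ r ∈ Submodule.span R (Set.range (fun i : Fin r => ξ ^ (i : ℕ))) := by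
  have : Module.Finite R A := IsAzumaya.toFinite (R := R)
  have : Module.Projective R A := IsAzumaya.toProjective (R := R)
  have : Module.Free R A := Module.free_of_flat_of_isLocalRing
  have hAz : IsAzumaya (ResidueField R) (ResidueField R ⊗[R] A) :=
    Groth.Agent.Lib.LeadAzumaya.isAzumaya_baseChange _ A
  have : Module.Finite (ResidueField R) (ResidueField R ⊗[R] A) :=
    IsAzumaya.toFinite (R := ResidueField R)
  have hfr : Module.finrank (ResidueField R) (ResidueField R ⊗[R] A) = r ^ 2 := by
    rw [Module.finrank_baseChange, hA]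
  set x : ResidueField R ⊗[R] A := (1 : ResidueField R) ⊗ₜ[R] ξ with hx
  have hxint : IsIntegral (ResidueField R) x := IsIntegral.of_finite _ x
  have hd : (minpoly (ResidueField R) x).natDegree = r := by
    rw [← finrank_adjoin_singleton x hxint, hrk]
  have hxpow : ∀ n : ℕ, x ^ n = (1 : ResidueField R) ⊗ₜ[R] (ξ ^ n) := fun n => by
    rw [hx, Algebra.TensorProduct.tmul_pow, one_pow]
  -- centralizer
  have hcent := centralizer_eq_of_finrank_eq (ResidueField R) (ResidueField R ⊗[R] A) r hfr
    (Algebra.adjoin (ResidueField R) ({x} : Set (ResidueField R ⊗[R] A)))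
    (adjoin_singleton_comm x) (hsep := hsep) hrk
  subst hd
  constructor
  · apply Module.IsLocalRing.linearIndependent_of_flat
    have : (TensorProduct.mk R (ResidueField R) A 1 ∘ fun i : Fin _ => ξ ^ (i : ℕ)) =
        fun i : Fin (minpoly (ResidueField R) x).natDegree => x ^ (i : ℕ) := by
      funext i
      rw [Function.comp_apply, TensorProduct.mk_apply, hxpow]
    rw [this]
    exact linearIndependent_pow x
  · set v : Fin (minpoly (ResidueField R) x).natDegree → A := fun i => ξ ^ (i : ℕ) with hv
    set M' : Submodule R A := Submodule.span R (Set.range v) with hM'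
    let ad : A →ₗ[R] A := LinearMap.mulLeft R ξ - LinearMap.mulRight R ξ
    have hadpow : ∀ n : ℕ, ad (ξ ^ n) = 0 := fun n => by
      change ξ * ξ ^ n - ξ ^ n * ξ = 0
      rw [← pow_succ, ← pow_succ', sub_self]
    have hle : M' ≤ LinearMap.ker ad := by
      rw [hM', Submodule.span_le]
      rintro _ ⟨i, rfl⟩
      exact hadpow _
    let ad' : (A ⧸ M') →ₗ[R] A := M'.liftQ ad hle
    have hcomp : ad' ∘ₗ M'.mkQ = ad := Submodule.liftQ_mkQ _ _ _
    have hinj : Function.Injective (ad'.lTensor (ResidueField R)) := by
      rw [injective_iff_map_eq_zero]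
      intro z hz
      obtain ⟨a, rfl⟩ := LinearMap.lTensor_surjective (ResidueField R) M'.mkQ_surjective z
      rw [← LinearMap.comp_apply, ← LinearMap.lTensor_comp, hcomp, lTensor_ad_apply'] at hz
      have ha : a ∈ Subalgebra.centralizer (ResidueField R)
          ((Algebra.adjoin (ResidueField R) ({x} : Set (ResidueField R ⊗[R] A)) : Subalgebra _ _) :
            Set (ResidueField R ⊗[R] A)) := by
        have h1 : Algebra.adjoin (ResidueField R) ({x} : Set (ResidueField R ⊗[R] A)) ≤
            Subalgebra.centralizer (ResidueField R) ({a} : Set (ResidueField R ⊗[R] A)) := by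
          rw [Algebra.adjoin_le_iff, Set.singleton_subset_iff]
          change x ∈ Subalgebra.centralizer (ResidueField R) ({a} : Set (ResidueField R ⊗[R] A))
          rw [Subalgebra.mem_centralizer_iff]
          intro g hg
          rw [Set.mem_singleton_iff] at hg
          subst hg
          exact (sub_eq_zero.mp hz).symm
        rw [Subalgebra.mem_centralizer_iff]
        intro g hg
        have := h1 hg
        rw [Subalgebra.mem_centralizer_iff] at this
        exact (this a rfl).symm
      rw [hcent] at ha
      have ha' : a ∈ Subalgebra.toSubmodule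
          (Algebra.adjoin (ResidueField R) ({x} : Set (ResidueField R ⊗[R] A))) := ha
      rw [toSubmodule_adjoin_singleton x hxint] at ha'
      have hker : Submodule.span (ResidueField R)
          (Set.range fun i : Fin (minpoly (ResidueField R) x).natDegree => x ^ (i : ℕ)) ≤
          LinearMap.ker (M'.mkQ.baseChange (ResidueField R)) := by
        rw [Submodule.span_le]
        rintro _ ⟨i, rfl⟩
        change (M'.mkQ.baseChange (ResidueField R)) (x ^ (i : ℕ)) = 0
        rw [hxpow, LinearMap.baseChange_tmul]
        have : M'.mkQ (ξ ^ (i : ℕ)) = 0 :=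
          (Submodule.Quotient.mk_eq_zero M').mpr (Submodule.subset_span ⟨i, rfl⟩)
        rw [this, TensorProduct.tmul_zero]
      have := hker ha'
      rw [LinearMap.mem_ker, LinearMap.baseChange_eq_ltensor] at this
      exact this
    obtain ⟨l', hl'⟩ :=
      (IsLocalRing.split_injective_iff_lTensor_residueField_injective ad').mpr hinj
    have hinj' : Function.Injective ad' := fun a b hab => by
      have := congrArg l' hab
      rwa [← LinearMap.comp_apply, ← LinearMap.comp_apply, hl'] at this
    have h0 : ad' (M'.mkQ (ξ ^ (minpoly (ResidueField R) x).natDegree)) = 0 := by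
      rw [← LinearMap.comp_apply, hcomp]
      exact hadpow _
    have h1 : M'.mkQ (ξ ^ (minpoly (ResidueField R) x).natDegree) = 0 :=
      hinj' (h0.trans (map_zero ad').symm)
    exact (Submodule.Quotient.mk_eq_zero M').mp h1


variable [IsAzumaya R A]

/-- for a regular section `ξ`, `ξ ^ r` is a combination of the lower powers. -/
theorem pow_mem_span_of_regular' (r : ℕ) (hA : Module.finrank R A = r ^ 2) (ξ : A)
    (hξ : (minpoly (ResidueField R) ((1 : ResidueField R) ⊗ₜ[R] ξ : ResidueField R ⊗[R] A)).Separable
      ∧ (minpoly (ResidueField R)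
        ((1 : ResidueField R) ⊗ₜ[R] ξ : ResidueField R ⊗[R] A)).natDegree = r) :
    ξ ^ r ∈ Submodule.span R (Set.range (fun i : Fin r => ξ ^ (i : ℕ))) := by
  have : Module.Finite R A := IsAzumaya.toFinite (R := R)
  have hAz : IsAzumaya (ResidueField R) (ResidueField R ⊗[R] A) :=
    Groth.Agent.Lib.LeadAzumaya.isAzumaya_baseChange _ A
  have : Module.Finite (ResidueField R) (ResidueField R ⊗[R] A) :=
    IsAzumaya.toFinite (R := ResidueField R)
  set x : ResidueField R ⊗[R] A := (1 : ResidueField R) ⊗ₜ[R] ξ with hx
  have hxint : IsIntegral (ResidueField R) x := IsIntegral.of_finite _ x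
  have hsep : Algebra.IsSeparable (ResidueField R)
      (Algebra.adjoin (ResidueField R) ({x} : Set (ResidueField R ⊗[R] A))) :=
    (Groth.Agent.Lib.Seat25.SepAlg.isSeparable_adjoin_of_commute (k := ResidueField R)
      ({x} : Set (ResidueField R ⊗[R] A))
      (by
        intro a ha b hb
        rw [Set.mem_singleton_iff] at ha hb
        rw [ha, hb])
      (by
        intro a ha
        rw [Set.mem_singleton_iff] at ha
        rw [ha]
        exact hξ.1)).2
  have hrk : Module.finrank (ResidueField R)
      (Algebra.adjoin (ResidueField R) ({x} : Set (ResidueField R ⊗[R] A))) = r := by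
    rw [finrank_adjoin_singleton x hxint, hξ.2]
  exact (powers_basis' R A r hA ξ hsep hrk).2

/-- over a local ring: for a regular section `ξ` of an Azumaya algebra of rank `r²` there is `α`
such that the `ξ ^ i * α * ξ ^ j` form a basis. -/
theorem exists_basis_pow_mul_pow' (r : ℕ) (hA : Module.finrank R A = r ^ 2) (ξ : A)
    (hξ : (minpoly (ResidueField R) ((1 : ResidueField R) ⊗ₜ[R] ξ : ResidueField R ⊗[R] A)).Separable
      ∧ (minpoly (ResidueField R)
        ((1 : ResidueField R) ⊗ₜ[R] ξ : ResidueField R ⊗[R] A)).natDegree = r) :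
    ∃ (α : A) (b : Module.Basis (Fin r × Fin r) R A),
      ∀ ij, b ij = ξ ^ (ij.1 : ℕ) * α * ξ ^ (ij.2 : ℕ) := by
  have : Module.Finite R A := IsAzumaya.toFinite (R := R)
  have : Module.Projective R A := IsAzumaya.toProjective (R := R)
  have : Module.Free R A := Module.free_of_flat_of_isLocalRing
  have hAz : IsAzumaya (ResidueField R) (ResidueField R ⊗[R] A) :=
    Groth.Agent.Lib.LeadAzumaya.isAzumaya_baseChange _ A
  have : Module.Finite (ResidueField R) (ResidueField R ⊗[R] A) :=
    IsAzumaya.toFinite (R := ResidueField R)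
  have hfr : Module.finrank (ResidueField R) (ResidueField R ⊗[R] A) = r ^ 2 := by
    rw [Module.finrank_baseChange, hA]
  obtain ⟨a₀, ha₀⟩ := exists_span_pow_mul_pow (ResidueField R) (ResidueField R ⊗[R] A) r hfr _ hξ
  obtain ⟨α, rfl⟩ : ∃ α : A, (1 : ResidueField R) ⊗ₜ[R] α = a₀ :=
    TensorProduct.mk_surjective R A (ResidueField R) residue_surjective a₀
  refine ⟨α, ?_⟩
  let W : Fin r × Fin r → A := fun ij => ξ ^ (ij.1 : ℕ) * α * ξ ^ (ij.2 : ℕ)
  have hW : (TensorProduct.mk R (ResidueField R) A 1 ∘ W) = fun ij : Fin r × Fin r =>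
      ((1 : ResidueField R) ⊗ₜ[R] ξ : ResidueField R ⊗[R] A) ^ (ij.1 : ℕ) *
        ((1 : ResidueField R) ⊗ₜ[R] α) * ((1 : ResidueField R) ⊗ₜ[R] ξ) ^ (ij.2 : ℕ) := by
    funext ij
    simp only [Function.comp_apply, TensorProduct.mk_apply, W, Algebra.TensorProduct.tmul_pow,
      one_pow, Algebra.TensorProduct.tmul_mul_tmul, one_mul]
  have hsp : Submodule.span (ResidueField R)
      (Set.range (TensorProduct.mk R (ResidueField R) A 1 ∘ W)) = ⊤ := by
    rw [hW]; exact ha₀
  have hli : LinearIndependent (ResidueField R) (TensorProduct.mk R (ResidueField R) A 1 ∘ W) := by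
    apply linearIndependent_of_top_le_span_of_card_eq_finrank (le_of_eq hsp.symm)
    rw [hfr, Fintype.card_prod, Fintype.card_fin, sq]
  have : Module.FinitePresentation R A := Module.finitePresentation_of_projective R A
  exact Module.exists_basis_of_basis_baseChange W hli hsp
    (Module.Flat.rTensor_preserves_injective_linearMap _ Subtype.val_injective)

end Univ

section MU

/-- `B` contains a full system of `n × n` matrix units. -/
def HasMatrixUnits (n : ℕ) (B : Type*) [Ring B] : Prop :=
  ∃ e : Fin n → Fin n → B,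
    (∀ a b c d, e a b * e c d = if b = c then e a d else 0) ∧ ∑ a, e a a = 1

theorem HasMatrixUnits.map {n : ℕ} {B B' : Type*} [Ring B] [Ring B'] (f : B →+* B')
    (h : HasMatrixUnits n B) : HasMatrixUnits n B' := by
  obtain ⟨e, he, h1⟩ := h
  refine ⟨fun a b => f (e a b), fun a b c d => ?_, ?_⟩
  · rw [← map_mul, he]
    split_ifs
    · rfl
    · exact map_zero f
  · rw [← map_sum, h1, map_one]

theorem hasMatrixUnits_matrix (n : ℕ) (C : Type*) [Ring C] :
    HasMatrixUnits n (Matrix (Fin n) (Fin n) C) := by
  classical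
  refine ⟨fun a b => Matrix.single a b 1, fun a b c d => ?_, ?_⟩
  · split_ifs with h
    · subst h
      rw [Matrix.single_mul_single_same, mul_one]
    · rw [Matrix.single_mul_single_of_ne _ _ _ _ h]
  · change ∑ a, Matrix.single a a (1 : C) = 1
    ext i j
    rw [Matrix.sum_apply, Matrix.one_apply]
    by_cases hij : i = j
    · subst hij
      rw [if_pos rfl, Finset.sum_eq_single i]
      · rw [Matrix.single_apply_same]
      · intro a _ ha
        exact Matrix.single_apply_of_ne _ _ _ _ _ (fun h => ha h.1)
      · intro h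
        exact absurd (Finset.mem_univ i) h
    · rw [if_neg hij]
      apply Finset.sum_eq_zero
      intro a _
      apply Matrix.single_apply_of_ne
      rintro ⟨h1, h2⟩
      exact hij (h1.symm.trans h2)

theorem HasMatrixUnits.pi {n : ℕ} {ι : Type*} (B : ι → Type*) [∀ i, Ring (B i)]
    (h : ∀ i, HasMatrixUnits n (B i)) : HasMatrixUnits n (∀ i, B i) := by
  choose e he h1 using h
  refine ⟨fun a b i => e i a b, fun a b c d => ?_, ?_⟩
  · funext i
    rw [Pi.mul_apply, he]
    split_ifs <;> rfl
  · funext i
    rw [Finset.sum_apply, h1, Pi.one_apply]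

end MU

section SH

universe u v
open IsLocalRing

variable (T : Type u) [CommRing T] [HenselianLocalRing T] [IsSepClosed (ResidueField T)]
  (A : Type v) [Ring A] [Algebra T A] [IsAzumaya T A]

/-- an Azumaya algebra of rank `n²` over a strictly henselian local ring has `n × n` matrix
units (it is a matrix algebra). -/
theorem hasMatrixUnits_of_strictlyHenselian (n : ℕ) (hn : 0 < n)
    (hA : Module.finrank T A = n ^ 2) : HasMatrixUnits n A := by
  classical
  have : Module.Finite T A := IsAzumaya.toFinite (R := T)
  have : Module.Projective T A := IsAzumaya.toProjective (R := T)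
  have : Module.Free T A := Module.free_of_flat_of_isLocalRing
  have hAz : IsAzumaya (ResidueField T) (ResidueField T ⊗[T] A) :=
    Groth.Agent.Lib.LeadAzumaya.isAzumaya_baseChange _ A
  have : Module.Finite (ResidueField T) (ResidueField T ⊗[T] A) :=
    IsAzumaya.toFinite (R := ResidueField T)
  have hfr : Module.finrank (ResidueField T) (ResidueField T ⊗[T] A) = n ^ 2 := by
    rw [Module.finrank_baseChange, hA]
  obtain ⟨x, hx⟩ := exists_regular (ResidueField T) (ResidueField T ⊗[T] A) n hfr
  obtain ⟨ξ, rfl⟩ : ∃ ξ : A, (1 : ResidueField T) ⊗ₜ[T] ξ = x :=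
    TensorProduct.mk_surjective T A (ResidueField T) residue_surjective x
  set x : ResidueField T ⊗[T] A := (1 : ResidueField T) ⊗ₜ[T] ξ with hxdef
  have hxint : IsIntegral (ResidueField T) x := IsIntegral.of_finite _ x
  have hmem := pow_mem_span_of_regular' T A n hA ξ hx
  obtain ⟨c, hc⟩ := (Submodule.mem_span_range_iff_exists_fun T).mp hmem
  -- the polynomial
  let q : T[X] := ∑ i : Fin n, C (c i) * X ^ (i : ℕ)
  have hqdeg : q.degree < (n : WithBot ℕ) := degree_sum_fin_lt c
  let P : T[X] := X ^ n - q
  have hPmonic : P.Monic := monic_X_pow_sub hqdeg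
  have hPdeg : P.natDegree = n := by
    apply natDegree_eq_of_degree_eq_some
    rw [degree_sub_eq_left_of_degree_lt (by rw [degree_X_pow]; exact hqdeg), degree_X_pow]
  have hPξ : aeval ξ P = 0 := by
    simp only [P, q, map_sub, map_pow, aeval_X, map_sum, map_mul, aeval_C]
    rw [← hc, sub_eq_zero]
    refine Finset.sum_congr rfl fun i _ => ?_
    rw [Algebra.smul_def]
  have hPx : aeval x (P.map (algebraMap T (ResidueField T))) = 0 := by
    rw [hxdef, aeval_one_tmul', hPξ, TensorProduct.tmul_zero]
  have hPbar : P.map (algebraMap T (ResidueField T)) = minpoly (ResidueField T) x := by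
    refine eq_of_monic_of_dvd_of_natDegree_le (minpoly.monic hxint) (hPmonic.map _)
      (minpoly.dvd _ _ hPx) ?_
    rw [hPmonic.natDegree_map, hPdeg, hx.2]
  have hPsep : (P.map (residue T)).Separable := by
    change (P.map (algebraMap T (ResidueField T))).Separable
    rw [hPbar]
    exact hx.1
  -- a root in the residue field, lifted by Hensel
  have hdeg0 : (P.map (residue T)).degree ≠ 0 := by
    have h0 : (P.map (residue T)).natDegree = n := by rw [hPmonic.natDegree_map, hPdeg]
    intro h
    have := natDegree_eq_of_degree_eq_some (n := 0) (by rw [h]; rfl)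
    omega
  obtain ⟨y, hy⟩ := IsSepClosed.exists_root (P.map (residue T)) hdeg0 hPsep
  obtain ⟨y₀, rfl⟩ := residue_surjective y
  have h1 : P.eval y₀ ∈ maximalIdeal T := by
    rw [← residue_eq_zero_iff, ← eval₂_at_apply, ← eval_map]
    exact hy
  have h2 : IsUnit ((derivative P).eval y₀) := by
    by_contra hnu
    have h3 : residue T ((derivative P).eval y₀) = 0 :=
      (residue_eq_zero_iff _).mpr ((mem_maximalIdeal _).mpr hnu)
    rw [← eval₂_at_apply, ← eval_map, ← derivative_map] at h3
    exact hPsep.eval₂_derivative_ne_zero (RingHom.id _) (by rw [eval₂_id]; exact hy)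
      (by rw [eval₂_id]; exact h3)
  obtain ⟨y₁, hy₁, -⟩ := HenselianLocalRing.is_henselian P hPmonic y₀ h1 h2
  -- the splitting over `T[X]/(P)` and its specialisation at the root
  obtain ⟨α, B, hB⟩ := exists_basis_pow_mul_pow' T A n hA ξ hx
  obtain ⟨e⟩ := nonempty_algEquiv_matrix_adjoinRoot T A n hn ξ α P hPmonic hPdeg hPξ B hB
  have hroot : aeval y₁ P = 0 := by
    rw [← hy₁.eq_zero]
    rfl
  let χ : AdjoinRoot P →ₐ[T] T := liftRoot P y₁ hroot
  let g : AdjoinRoot P ⊗[T] A →ₐ[T] A :=
    Algebra.TensorProduct.lift ((Algebra.ofId T A).comp χ) (AlgHom.id T A)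
      (fun z a => by
        rw [AlgHom.comp_apply, Algebra.ofId_apply, AlgHom.id_apply]
        exact Algebra.commutes _ _)
  exact ((hasMatrixUnits_matrix n (AdjoinRoot P)).map
    (e.symm : Matrix (Fin n) (Fin n) (AdjoinRoot P) →+* AdjoinRoot P ⊗[T] A)).map
      (g : AdjoinRoot P ⊗[T] A →+* A)

end SH

end Groth.Agent.Lib.Seat25.AzSH
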