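import Mathlib
import Groth.Agent.Lib.Helper3IndEtFlat
import Groth.Agent.Lib.Seat25AzSH

/-!
# Descending finitely many tensor-elements and relations from an ind-étale algebra

`T` an ind-étale (`Obj.Factor S T`) `S`-algebra, `A` any `S`-algebra.  Finitely many elements of
`T ⊗[S] A` come from `E ⊗[S] A` for an étale `S`-algebra `E` mapping to `T`, and finitely many
elements of `E ⊗[S] A` dying in `T ⊗[S] A` die in `E' ⊗[S] A` for a further étale `E → E' → T`.
Application: matrix units descend.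
-/

set_option autoImplicit false

open scoped TensorProduct
open Groth.Agent.Lib.Helper3.IndEt

namespace Groth.Agent.Lib.Seat25.AzDesc

open Groth.Agent.Lib.Seat25.AzSH

universe u w

theorem exists_fin_sum_tmul {R M N : Type*} [CommSemiring R] [AddCommMonoid M] [AddCommMonoid N]
    [Module R M] [Module R N] (x : M ⊗[R] N) :
    ∃ (m : ℕ) (t : Fin m → M) (a : Fin m → N), x = ∑ k, t k ⊗ₜ[R] a k := by
  induction x using TensorProduct.induction_on with
  | zero => exact ⟨0, Fin.elim0, Fin.elim0, by simp⟩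
  | tmul t a => exact ⟨1, fun _ => t, fun _ => a, by simp⟩
  | add x y hx hy =>
    obtain ⟨m₁, t₁, a₁, rfl⟩ := hx
    obtain ⟨m₂, t₂, a₂, rfl⟩ := hy
    refine ⟨m₁ + m₂, Fin.append t₁ t₂, Fin.append a₁ a₂, ?_⟩
    rw [Fin.sum_univ_add]
    simp

section

variable {S : Type u} [CommRing S] (A : Type w) [Ring A] [Algebra S A]

/-- base change of an algebra map along `- ⊗[S] A`. -/
noncomputable abbrev bc {P Q : Type u} [CommRing P] [CommRing Q] [Algebra S P] [Algebra S Q]
    (h : P →ₐ[S] Q) : P ⊗[S] A →ₐ[S] Q ⊗[S] A :=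
  Algebra.TensorProduct.map h (AlgHom.id S A)

theorem bc_comp {P Q Q' : Type u} [CommRing P] [CommRing Q] [CommRing Q'] [Algebra S P]
    [Algebra S Q] [Algebra S Q'] (h : P →ₐ[S] Q) (h' : Q →ₐ[S] Q') (x : P ⊗[S] A) :
    bc A (h'.comp h) x = bc A h' (bc A h x) := by
  induction x using TensorProduct.induction_on with
  | zero => simp
  | tmul p a => simp [bc]
  | add x y hx hy => rw [map_add, map_add, map_add, hx, hy]

theorem bc_id {P : Type u} [CommRing P] [Algebra S P] (x : P ⊗[S] A) :
    bc A (AlgHom.id S P) x = x := by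
  simp [bc]


section Kill

variable {T : Type u} [CommRing T] [Algebra S T]

open MvPolynomial in
/-- killing one element of the kernel of `P ⊗ A → T ⊗ A` at a later finitely presented stage. -/
theorem kill_one [Module.Flat S T] {P : Type u} [CommRing P] [Algebra S P]
    [Algebra.FinitePresentation S P] (ψ : P →ₐ[S] T) (z : P ⊗[S] A) (hz : bc A ψ z = 0) :
    ∃ (P' : Type u) (_ : CommRing P') (_ : Algebra S P') (_ : Algebra.FinitePresentation S P')
      (h : P →ₐ[S] P') (ψ' : P' →ₐ[S] T), ψ'.comp h = ψ ∧ bc A h z = 0 := by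
  classical
  obtain ⟨m, p, a, rfl⟩ := exists_fin_sum_tmul z
  have h0 : ∑ i, a i ⊗ₜ[S] ψ (p i) = (0 : A ⊗[S] T) := by
    have := congrArg (TensorProduct.comm S T A) hz
    simpa [bc, map_sum] using this
  obtain ⟨k, s, y, hy, hs⟩ :=
    TensorProduct.vanishesTrivially_of_sum_tmul_eq_zero_of_rTensor_injective S
      (Module.Flat.rTensor_preserves_injective_linearMap _ Subtype.val_injective) h0
  replace hy : ∀ i, ψ (p i) = ∑ j, s i j • y j := hy
  let Q := MvPolynomial (Fin k) P
  let rel : Fin m → Q := fun i => C (p i) - ∑ j, s i j • X j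
  let I : Ideal Q := Ideal.span (Set.range rel)
  have hIfg : I.FG := by
    refine ⟨(Finset.univ : Finset (Fin m)).image rel, ?_⟩
    rw [Finset.coe_image, Finset.coe_univ, Set.image_univ]
  have : Algebra.FinitePresentation S Q :=
    Algebra.FinitePresentation.trans S P Q
  have : Algebra.FinitePresentation S (Q ⧸ I) := Algebra.FinitePresentation.quotient hIfg
  let ψQ : Q →ₐ[S] T :=
    { MvPolynomial.eval₂Hom (ψ : P →+* T) y with
      commutes' := fun r => by
        change MvPolynomial.eval₂Hom (ψ : P →+* T) y (algebraMap S Q r) = _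
        rw [IsScalarTower.algebraMap_apply S P Q, MvPolynomial.algebraMap_eq,
          MvPolynomial.eval₂Hom_C]
        exact ψ.commutes r }
  have hψQC : ∀ x : P, ψQ (C x) = ψ x := fun x => MvPolynomial.eval₂Hom_C _ _ x
  have hψQX : ∀ j, ψQ (X j) = y j := fun j => MvPolynomial.eval₂Hom_X' _ _ j
  have hker : ∀ q ∈ I, ψQ q = 0 := by
    intro q hq
    have : I ≤ RingHom.ker (ψQ : Q →+* T) := by
      rw [Ideal.span_le]
      rintro _ ⟨i, rfl⟩
      rw [SetLike.mem_coe, RingHom.mem_ker]
      change ψQ (C (p i) - ∑ j, s i j • X j) = 0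
      rw [map_sub, hψQC, map_sum, hy i, sub_eq_zero]
      refine Finset.sum_congr rfl fun j _ => ?_
      rw [map_smul, hψQX]
    exact this hq
  let h : P →ₐ[S] Q ⧸ I := (Ideal.Quotient.mkₐ S I).comp (IsScalarTower.toAlgHom S P Q)
  let ψ' : Q ⧸ I →ₐ[S] T := Ideal.Quotient.liftₐ I ψQ hker
  refine ⟨Q ⧸ I, inferInstance, inferInstance, inferInstance, h, ψ', ?_, ?_⟩
  · apply AlgHom.ext
    intro x
    change ψQ (C x) = ψ x
    exact hψQC x
  · have hrel : ∀ i, h (p i) = ∑ j, s i j • Ideal.Quotient.mk I (X j) := by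
      intro i
      have : Ideal.Quotient.mk I (rel i) = 0 :=
        Ideal.Quotient.eq_zero_iff_mem.mpr (Ideal.subset_span ⟨i, rfl⟩)
      change Ideal.Quotient.mk I (C (p i)) = _
      rw [← sub_eq_zero, ← this]
      simp only [rel, map_sub, map_sum]
      congr 1
    rw [map_sum]
    simp only [bc, Algebra.TensorProduct.map_tmul, AlgHom.id_apply]
    simp_rw [hrel, TensorProduct.sum_tmul, TensorProduct.smul_tmul]
    rw [Finset.sum_comm]
    simp_rw [← TensorProduct.tmul_sum, hs, TensorProduct.tmul_zero]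
    exact Finset.sum_const_zero

/-- killing finitely many elements of the kernel at a later finitely presented stage. -/
theorem kill_finset [Module.Flat S T] {κ : Type*} (s : Finset κ) :
    ∀ {P : Type u} [CommRing P] [Algebra S P] [Algebra.FinitePresentation S P]
      (ψ : P →ₐ[S] T) (z : κ → P ⊗[S] A) (_ : ∀ k ∈ s, bc A ψ (z k) = 0),
    ∃ (P' : Type u) (_ : CommRing P') (_ : Algebra S P') (_ : Algebra.FinitePresentation S P')
      (h : P →ₐ[S] P') (ψ' : P' →ₐ[S] T), ψ'.comp h = ψ ∧ ∀ k ∈ s, bc A h (z k) = 0 := by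
  classical
  induction s using Finset.induction_on with
  | empty =>
    intro P _ _ _ ψ z _
    exact ⟨P, inferInstance, inferInstance, inferInstance, AlgHom.id S P, ψ, AlgHom.comp_id ψ,
      fun k hk => absurd hk (Finset.notMem_empty k)⟩
  | insert k₀ s hk₀ ih =>
    intro P _ _ _ ψ z hz
    obtain ⟨P₁, _, _, _, h₁, ψ₁, hc₁, hk₁⟩ :=
      kill_one A ψ (z k₀) (hz k₀ (Finset.mem_insert_self k₀ s))
    obtain ⟨P₂, _, _, _, h₂, ψ₂, hc₂, hk₂⟩ := ih ψ₁ (fun k => bc A h₁ (z k)) (fun k hk => by
      rw [← bc_comp, hc₁]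
      exact hz k (Finset.mem_insert_of_mem hk))
    refine ⟨P₂, inferInstance, inferInstance, inferInstance, h₂.comp h₁, ψ₂, ?_, ?_⟩
    · rw [← AlgHom.comp_assoc, hc₂, hc₁]
    · intro k hk
      rw [bc_comp]
      rcases Finset.mem_insert.mp hk with rfl | hk
      · rw [hk₁, map_zero]
      · exact hk₂ k hk

/-- finitely many elements of `T ⊗ A` come from an étale stage. -/
theorem lift_etale (hF : Obj.Factor S T) {ι : Type} [Fintype ι] (x : ι → T ⊗[S] A) :
    ∃ (E : Type u) (_ : CommRing E) (_ : Algebra S E) (_ : Algebra.Etale S E)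
      (g : E →ₐ[S] T) (x' : ι → E ⊗[S] A), ∀ i, bc A g (x' i) = x i := by
  classical
  choose m t a hx using fun i => exists_fin_sum_tmul (x i)
  let σ := Σ i : ι, Fin (m i)
  let ψ₀ : MvPolynomial σ S →ₐ[S] T := MvPolynomial.aeval (fun ik : σ => t ik.1 ik.2)
  obtain ⟨E, _, _, _, f, g, hfg⟩ := hF (MvPolynomial σ S) ψ₀
  refine ⟨E, inferInstance, inferInstance, inferInstance, g,
    fun i => ∑ k : Fin (m i), f (MvPolynomial.X (⟨i, k⟩ : σ)) ⊗ₜ[S] a i k, fun i => ?_⟩
  rw [map_sum, hx i]
  refine Finset.sum_congr rfl fun k _ => ?_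
  rw [Algebra.TensorProduct.map_tmul, AlgHom.id_apply, ← AlgHom.comp_apply, hfg]
  simp [ψ₀]

/-- finitely many elements of `E ⊗ A` (`E` étale over `S`, mapping to `T`) dying in `T ⊗ A` die at
a later étale stage. -/
theorem kill_etale (hF : Obj.Factor S T) {E : Type u} [CommRing E] [Algebra S E]
    [Algebra.Etale S E] (g : E →ₐ[S] T) {κ : Type*} [Fintype κ] (z : κ → E ⊗[S] A)
    (hz : ∀ k, bc A g (z k) = 0) :
    ∃ (E' : Type u) (_ : CommRing E') (_ : Algebra S E') (_ : Algebra.Etale S E')
      (h : E →ₐ[S] E') (g' : E' →ₐ[S] T), g'.comp h = g ∧ ∀ k, bc A h (z k) = 0 := by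
  have : Module.Flat S T := flat_of_factor' hF
  obtain ⟨P', _, _, _, h, ψ', hc, hk⟩ := kill_finset A (Finset.univ : Finset κ) g z
    (fun k _ => hz k)
  obtain ⟨E', _, _, _, f, g', hfg⟩ := hF P' ψ'
  refine ⟨E', inferInstance, inferInstance, inferInstance, f.comp h, g', ?_, fun k => ?_⟩
  · rw [← AlgHom.comp_assoc, hfg, hc]
  · rw [bc_comp, hk k (Finset.mem_univ k), map_zero]

/-- matrix units in `T ⊗[S] A` (`T` ind-étale over `S`) descend to an étale `S`-algebra mapping
to `T`. -/
theorem hasMatrixUnits_descend (hF : Obj.Factor S T) (n : ℕ)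
    (hMU : HasMatrixUnits n (T ⊗[S] A)) :
    ∃ (E : Type u) (_ : CommRing E) (_ : Algebra S E) (_ : Algebra.Etale S E)
      (_ : E →ₐ[S] T), HasMatrixUnits n (E ⊗[S] A) := by
  classical
  obtain ⟨e, he, h1⟩ := hMU
  obtain ⟨E, _, _, _, g, e', he'⟩ := lift_etale A hF (fun ab : Fin n × Fin n => e ab.1 ab.2)
  let z : Option (Fin n × Fin n × Fin n × Fin n) → E ⊗[S] A := fun o =>
    match o with
    | none => ∑ a, e' (a, a) - 1
    | some (a, b, c, d) => e' (a, b) * e' (c, d) - if b = c then e' (a, d) else 0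
  have hz : ∀ o, bc A g (z o) = 0 := by
    intro o
    match o with
    | none =>
      change bc A g (∑ a, e' (a, a) - 1) = 0
      rw [map_sub, map_sum, map_one, sub_eq_zero, ← h1]
      exact Finset.sum_congr rfl fun a _ => he' (a, a)
    | some (a, b, c, d) =>
      change bc A g (e' (a, b) * e' (c, d) - if b = c then e' (a, d) else 0) = 0
      rw [map_sub, map_mul, he', he', sub_eq_zero, he a b c d]
      split_ifs
      · exact (he' (a, d)).symm
      · exact (map_zero _).symm
  obtain ⟨E', _, _, _, h, g', -, hk⟩ := kill_etale A hF g z hz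
  refine ⟨E', inferInstance, inferInstance, inferInstance, g',
    fun a b => bc A h (e' (a, b)), fun a b c d => ?_, ?_⟩
  · have := hk (some (a, b, c, d))
    change bc A h (e' (a, b) * e' (c, d) - if b = c then e' (a, d) else 0) = 0 at this
    rw [map_sub, map_mul, sub_eq_zero] at this
    rw [this]
    split_ifs
    · rfl
    · exact map_zero _
  · have := hk none
    change bc A h (∑ a, e' (a, a) - 1) = 0 at this
    rw [map_sub, map_sum, map_one, sub_eq_zero] at this
    exact this

end Kill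

end

end Groth.Agent.Lib.Seat25.AzDesc
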