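import Mathlib
import Groth.Agent.Lib.LeadAzumaya
import Groth.Agent.Lib.Seat25AzFree
import Groth.Agent.Lib.Seat25AzSH

/-!
# Azumaya algebras over a ring with involution: algebraic tools

* `theta`: the ring isomorphism `(R ⊗[S] S') ⊗[R] A ≃+* S' ⊗[S] A`;
* `hasMatrixUnits_of_pi`: an Azumaya algebra of constant rank `n²` over a finite product of strictly
  henselian local rings has `n × n` matrix units;
* `nonempty_algEquiv_matrix_of_hasMatrixUnits`: an Azumaya algebra of constant rank `n²` with
  `n × n` matrix units is the matrix algebra.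
-/

set_option autoImplicit false

open scoped TensorProduct

namespace Groth.Agent.Lib.Seat25.AzInvA

open Groth.Agent.Lib.Seat25.AzSH

section Theta

universe u v w u'

variable (S : Type u) (R : Type v) [CommRing S] [CommRing R] [Algebra S R]
  (A : Type w) [Ring A] [Algebra S A] [Algebra R A] [IsScalarTower S R A]
  (S' : Type u') [CommRing S'] [Algebra S S']

/-- `A ⊗[R] (R ⊗[S] S') ≃ₐ[R] A ⊗[S] S'` for noncommutative `A`. -/
noncomputable def cbc : A ⊗[R] (R ⊗[S] S') ≃ₐ[R] A ⊗[S] S' :=
  AlgEquiv.symm <| AlgEquiv.ofLinearEquiv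
    (TensorProduct.AlgebraTensorModule.cancelBaseChange S R R A S').symm
    (by simp [Algebra.TensorProduct.one_def]) <|
      LinearMap.map_mul_of_map_mul_tmul (fun _ _ _ _ ↦ by simp)

/-- the ring isomorphism `(R ⊗[S] S') ⊗[R] A ≃+* S' ⊗[S] A`. -/
noncomputable def theta : (R ⊗[S] S') ⊗[R] A ≃+* S' ⊗[S] A :=
  ((Algebra.TensorProduct.comm R (R ⊗[S] S') A).toRingEquiv.trans
    (cbc S R A S').toRingEquiv).trans (Algebra.TensorProduct.comm S A S').toRingEquiv

theorem theta_tmul (r : R) (s : S') (a : A) :
    theta S R A S' ((r ⊗ₜ[S] s) ⊗ₜ[R] a) = s ⊗ₜ[S] (r • a) := by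
  simp [theta, cbc]

theorem theta_symm_tmul (s : S') (a : A) :
    (theta S R A S').symm (s ⊗ₜ[S] a) = ((1 : R) ⊗ₜ[S] s) ⊗ₜ[R] a := by
  simp [theta, cbc]

end Theta

section Prod

universe u v w

open IsLocalRing

/-- an Azumaya algebra of constant rank `n²` over a finite product of strictly henselian local
rings has `n × n` matrix units. -/
theorem hasMatrixUnits_of_pi (C : Type u) [CommRing C] (A : Type v) [Ring A] [Algebra C A]
    [IsAzumaya C A] (n : ℕ) (hn : 0 < n)
    (hrank : ∀ p : PrimeSpectrum C, Module.rankAtStalk (R := C) A p = n ^ 2)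
    {ι : Type} [Fintype ι] (T : ι → Type w) [∀ i, CommRing (T i)]
    [∀ i, HenselianLocalRing (T i)] [∀ i, IsSepClosed (ResidueField (T i))]
    (φ : C ≃+* (∀ i, T i)) : HasMatrixUnits n A := by
  classical
  have : Module.Finite C A := IsAzumaya.toFinite (R := C)
  have : Module.Projective C A := IsAzumaya.toProjective (R := C)
  letI alg : ∀ i, Algebra C (T i) := fun i =>
    ((Pi.evalRingHom T i).comp φ.toRingHom).toAlgebra
  have halg : ∀ (i : ι) (c : C), algebraMap C (T i) c = φ c i := fun i c => rfl
  -- each factor has matrix units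
  have hi : ∀ i, HasMatrixUnits n (A ⊗[C] T i) := by
    intro i
    have hAz : IsAzumaya (T i) (T i ⊗[C] A) :=
      Groth.Agent.Lib.LeadAzumaya.isAzumaya_baseChange (T i) A
    have : Module.Finite (T i) (T i ⊗[C] A) := IsAzumaya.toFinite (R := T i)
    have : Module.Projective (T i) (T i ⊗[C] A) := IsAzumaya.toProjective (R := T i)
    have : Module.Free (T i) (T i ⊗[C] A) := Module.free_of_flat_of_isLocalRing
    have hfr : Module.finrank (T i) (T i ⊗[C] A) = n ^ 2 := by
      have h1 := Module.rankAtStalk_baseChange (R := C) (M := A) (S := T i)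
        (IsLocalRing.closedPoint (T i))
      rw [hrank] at h1
      rw [← h1, Module.rankAtStalk_eq_finrank_of_free]
      rfl
    have := hasMatrixUnits_of_strictlyHenselian (T i) (T i ⊗[C] A) n hn hfr
    exact this.map (Algebra.TensorProduct.comm C (T i) A : (T i ⊗[C] A) →+* (A ⊗[C] T i))
  -- the product decomposition
  let φa : C ≃ₐ[C] (∀ i, T i) := { φ with commutes' := fun c => rfl }
  let e : A ≃ₐ[C] (∀ i, A ⊗[C] T i) :=
    ((Algebra.TensorProduct.rid C C A).symm.trans
      (Algebra.TensorProduct.congr (AlgEquiv.refl : A ≃ₐ[C] A) φa)).trans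
      (Algebra.TensorProduct.piRight C C A T)
  exact (HasMatrixUnits.pi (fun i => A ⊗[C] T i) hi).map
    (e.symm : (∀ i, A ⊗[C] T i) →+* A)

end Prod

section GenMat

universe u v

variable (C : Type u) [CommRing C] (A : Type v) [Ring A] [Algebra C A]

/-- the linear map `M_n(C) → A` attached to a family `e`. -/
noncomputable def matMap (n : ℕ) (e : Fin n → Fin n → A) :
    Matrix (Fin n) (Fin n) C →ₗ[C] A where
  toFun M := ∑ a, ∑ b, M a b • e a b
  map_add' M N := by
    simp only [Matrix.add_apply, add_smul, Finset.sum_add_distrib]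
  map_smul' c M := by
    simp only [Matrix.smul_apply, smul_eq_mul, mul_smul, Finset.smul_sum, RingHom.id_apply]

theorem matMap_apply (n : ℕ) (e : Fin n → Fin n → A) (M : Matrix (Fin n) (Fin n) C) :
    matMap C A n e M = ∑ a, ∑ b, M a b • e a b := rfl

variable {A} in
theorem matMap_one (n : ℕ) (e : Fin n → Fin n → A) (h1 : ∑ a, e a a = 1) :
    matMap C A n e 1 = 1 := by
  classical
  rw [matMap_apply, ← h1]
  refine Finset.sum_congr rfl fun a _ => ?_
  rw [Finset.sum_eq_single a]
  · rw [Matrix.one_apply_eq, one_smul]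
  · intro b _ hb
    rw [Matrix.one_apply_ne (Ne.symm hb), zero_smul]
  · intro h
    exact absurd (Finset.mem_univ a) h

variable {A} in
theorem matMap_mul (n : ℕ) (e : Fin n → Fin n → A)
    (he : ∀ a b c d, e a b * e c d = if b = c then e a d else 0)
    (M N : Matrix (Fin n) (Fin n) C) :
    matMap C A n e (M * N) = matMap C A n e M * matMap C A n e N := by
  classical
  have hR : matMap C A n e M * matMap C A n e N =
      ∑ a, ∑ b, ∑ d, (M a b * N b d) • e a d := by
    rw [matMap_apply, matMap_apply, Finset.sum_mul]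
    refine Finset.sum_congr rfl fun a _ => ?_
    rw [Finset.sum_mul]
    refine Finset.sum_congr rfl fun b _ => ?_
    rw [Finset.mul_sum, Finset.sum_eq_single b]
    · rw [Finset.mul_sum]
      refine Finset.sum_congr rfl fun d _ => ?_
      rw [smul_mul_smul_comm, he, if_pos rfl]
    · intro c _ hc
      rw [Finset.mul_sum]
      refine Finset.sum_eq_zero fun d _ => ?_
      rw [smul_mul_smul_comm, he, if_neg (Ne.symm hc), smul_zero]
    · intro h
      exact absurd (Finset.mem_univ b) h
  rw [hR, matMap_apply]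
  refine Finset.sum_congr rfl fun a _ => ?_
  rw [Finset.sum_comm]
  refine Finset.sum_congr rfl fun d _ => ?_
  rw [Matrix.mul_apply, Finset.sum_smul]

variable {A} in
theorem matMap_injective [FaithfulSMul C A] (n : ℕ) (e : Fin n → Fin n → A)
    (he : ∀ a b c d, e a b * e c d = if b = c then e a d else 0) (h1 : ∑ a, e a a = 1) :
    Function.Injective (matMap C A n e) := by
  classical
  rw [← LinearMap.ker_eq_bot, LinearMap.ker_eq_bot']
  intro M hM
  ext a b
  have key : ∑ c, e c a * matMap C A n e M * e b c = M a b • (1 : A) := by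
    rw [← h1, Finset.smul_sum]
    refine Finset.sum_congr rfl fun c _ => ?_
    simp only [matMap_apply, Finset.sum_mul, Finset.mul_sum, mul_smul_comm, smul_mul_assoc, he]
    rw [Finset.sum_eq_single a]
    · rw [Finset.sum_eq_single b]
      · rw [if_pos rfl, he, if_pos rfl]
      · intro b' _ hb'
        rw [if_pos rfl, he, if_neg hb', smul_zero]
      · intro h
        exact absurd (Finset.mem_univ b) h
    · intro a' _ ha'
      refine Finset.sum_eq_zero fun b' _ => ?_
      rw [if_neg (Ne.symm ha'), zero_mul, smul_zero]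
    · intro h
      exact absurd (Finset.mem_univ a) h
  rw [hM] at key
  simp only [mul_zero, zero_mul, Finset.sum_const_zero] at key
  have h0 : algebraMap C A (M a b) = algebraMap C A 0 := by
    rw [Algebra.algebraMap_eq_smul_one, ← key, map_zero]
  exact FaithfulSMul.algebraMap_injective C A h0

variable [IsAzumaya C A]

/-- an Azumaya algebra of constant rank `n²` containing `n × n` matrix units is the matrix
algebra. -/
theorem nonempty_algEquiv_matrix_of_hasMatrixUnits (n : ℕ) (hn : 0 < n)
    (hrank : ∀ p : PrimeSpectrum C, Module.rankAtStalk (R := C) A p = n ^ 2)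
    (h : HasMatrixUnits n A) : Nonempty (Matrix (Fin n) (Fin n) C ≃ₐ[C] A) := by
  classical
  obtain ⟨e, he, h1⟩ := h
  have : Module.Finite C A := IsAzumaya.toFinite (R := C)
  have : Module.Projective C A := IsAzumaya.toProjective (R := C)
  have : FaithfulSMul C A := IsAzumaya.toFaithfulSMul (R := C)
  have : Nonempty (Fin n) := ⟨⟨0, hn⟩⟩
  let g : Matrix (Fin n) (Fin n) C →ₐ[C] A :=
    AlgHom.ofLinearMap (matMap C A n e) (matMap_one C n e h1) (matMap_mul C n e he)
  have hinj : Function.Injective g := matMap_injective C n e he h1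
  have hsurj : Function.Surjective g := by
    have h2 : Function.Surjective g.toLinearMap := by
      apply Groth.Agent.Lib.Seat25.AzFree.surjective_of_forall_maximal
      intro P hP
      let _ : Field (C ⧸ P) := Ideal.Quotient.field P
      have : Nontrivial C := (Ideal.Quotient.mk P).domain_nontrivial
      have hAzM : IsAzumaya C (Matrix (Fin n) (Fin n) C) := IsAzumaya.matrix C (Fin n)
      have hAzF : IsAzumaya (C ⧸ P) ((C ⧸ P) ⊗[C] Matrix (Fin n) (Fin n) C) :=
        Groth.Agent.Lib.LeadAzumaya.isAzumaya_baseChange (C ⧸ P) (Matrix (Fin n) (Fin n) C)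
      have : IsSimpleRing ((C ⧸ P) ⊗[C] Matrix (Fin n) (Fin n) C) :=
        Groth.Agent.Lib.LeadAzumaya.isSimpleRing_of_isAzumaya_field (k := C ⧸ P)
      have hrB : Module.finrank (C ⧸ P) ((C ⧸ P) ⊗[C] Matrix (Fin n) (Fin n) C) = n ^ 2 := by
        rw [Module.finrank_baseChange, Module.finrank_matrix, Module.finrank_self]
        simp [sq]
      have hrC : Module.finrank (C ⧸ P) ((C ⧸ P) ⊗[C] A) = n ^ 2 := by
        have hAzA : IsAzumaya (C ⧸ P) ((C ⧸ P) ⊗[C] A) :=
          Groth.Agent.Lib.LeadAzumaya.isAzumaya_baseChange (C ⧸ P) A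
        have : Module.Finite (C ⧸ P) ((C ⧸ P) ⊗[C] A) := IsAzumaya.toFinite (R := C ⧸ P)
        have h3 := Module.rankAtStalk_baseChange (R := C) (M := A) (S := C ⧸ P)
          (⟨⊥, Ideal.isPrime_bot⟩ : PrimeSpectrum (C ⧸ P))
        rw [hrank] at h3
        rw [← h3, Module.rankAtStalk_eq_finrank_of_free]
        rfl
      have : Nontrivial ((C ⧸ P) ⊗[C] A) := by
        apply Module.nontrivial_of_finrank_pos (R := C ⧸ P)
        rw [hrC]
        positivity
      let gP : (C ⧸ P) ⊗[C] Matrix (Fin n) (Fin n) C →ₐ[C ⧸ P] (C ⧸ P) ⊗[C] A :=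
        Algebra.TensorProduct.map (AlgHom.id (C ⧸ P) (C ⧸ P)) g
      have hgP : Function.Injective gP := RingHom.injective gP.toRingHom
      have hgP' : Function.Surjective gP :=
        (LinearMap.injective_iff_surjective_of_finrank_eq_finrank
          (f := gP.toLinearMap) (hrB.trans hrC.symm)).mp hgP
      have heq : ⇑(g.toLinearMap.lTensor (C ⧸ P)) = ⇑gP := by
        ext x
        induction x using TensorProduct.induction_on with
        | zero => simp
        | tmul a b => simp [gP]
        | add x y hx hy => simp only [map_add, hx, hy]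
      rw [heq]
      exact hgP'
    exact h2
  exact ⟨AlgEquiv.ofBijective g ⟨hinj, hsurj⟩⟩

end GenMat

end Groth.Agent.Lib.Seat25.AzInvA
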