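import Mathlib
import Groth.Prelude.Def_FlatCA
import Groth.Prelude.Def_Hensel
import Groth.Agent.Lib.Helper3IndEtHz
import Groth.Agent.Lib.Helper3IndEtComp

/-!
# Étale neighbourhoods from henselizations (seat 6)

* `exists_sub_mem_maximalIdeal`: in any henselization `S` of a local ring `R`, every element is
  congruent to an element of `R` modulo the maximal ideal.
* `factor_of_henselization`: for a henselization `A'` of `A_p`, every map from a finitely presented
  `A`-algebra to `A'` factors through an étale `A`-algebra.
* `isEtaleNhd_of_forall`: criterion for an étale algebra with a prime over `p` to be an elementary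
  étale neighbourhood.
-/

set_option autoImplicit false
set_option linter.style.haveILetI false

universe u

open IsLocalRing

namespace Groth.Agent.Lib.Seat6.EtNhd

open Groth.Agent.Lib.Helper3 Groth.Agent.Lib.Helper3.IndEt

/-- In a henselization `S` of `R` every element is congruent to an element of `R` modulo the
maximal ideal. -/
theorem exists_sub_mem_maximalIdeal (R S : Type u) [CommRing R] [IsLocalRing R] [CommRing S]
    [IsLocalRing S] [Algebra R S] [IsLocalHom (algebraMap R S)] [Hensel.IsHenselization R S]
    (z : S) : ∃ r : R, z - algebraMap R S r ∈ maximalIdeal S := by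
  obtain ⟨e⟩ := Hz.nonempty_algEquiv (R := R) S
  obtain ⟨r, hr⟩ := Hz.exists_sub_mem_maximalIdeal (R := R) (e z)
  refine ⟨r, ?_⟩
  rw [mem_maximalIdeal, mem_nonunits_iff] at hr ⊢
  intro hu
  apply hr
  have := hu.map e
  rwa [map_sub, e.commutes] at this

/-- `A → A_p` has the factorization property. -/
theorem factor_atPrime (A : Type u) [CommRing A] (p : Ideal A) [p.IsPrime] :
    Obj.Factor A (Localization.AtPrime p) := by
  intro P _ _ _ ψ
  obtain ⟨s, ψs, hψs⟩ := exists_factor_localization (R := A) (C := A)
    (L := Localization.AtPrime p) p.primeCompl ψ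
  exact ⟨Localization.Away (s : A), inferInstance, inferInstance, inferInstance, ψs,
    awayTo p.primeCompl s, hψs⟩

/-- For a henselization `A'` of `A_p`, every map from a finitely presented `A`-algebra to `A'`
factors through an étale `A`-algebra. -/
theorem factor_of_henselization (A : Type u) [CommRing A] (p : Ideal A) [p.IsPrime]
    (A' : Type u) [CommRing A'] [Algebra A A'] [IsLocalRing A']
    [Algebra (Localization.AtPrime p) A'] [IsScalarTower A (Localization.AtPrime p) A']
    [IsLocalHom (algebraMap (Localization.AtPrime p) A')]
    [Hensel.IsHenselization (Localization.AtPrime p) A'] : Obj.Factor A A' := by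
  apply factor_of_isIndEtale
  exact isIndEtale_comp A (Localization.AtPrime p) A' (isIndEtale_of_factor (factor_atPrime A p))
    (isIndEtale_of_isHenselization (Localization.AtPrime p) A')

/-- Criterion for an elementary étale neighbourhood: `E` étale over `A`, `q` a prime over `p`, and
every element of `E` is, up to a multiplier outside `p`, congruent modulo `q` to an element of `A`. -/
theorem isEtaleNhd_of_forall {A E : Type u} [CommRing A] [CommRing E] [Algebra A E]
    [Algebra.Etale A E] (p : Ideal A) [p.IsPrime] (q : Ideal E) [q.IsPrime] [hqp : q.LiesOver p]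
    (H : ∀ e : E, ∃ a b : A, b ∉ p ∧ algebraMap A E b * e - algebraMap A E a ∈ q) :
    FlatCA.IsEtaleNhd A E p q := by
  refine ⟨inferInstance, hqp, RingHom.injective _, ?_⟩
  intro z
  obtain ⟨w, rfl⟩ := IsLocalRing.residue_surjective z
  obtain ⟨e, s, rfl⟩ := IsLocalization.exists_mk'_eq q.primeCompl w
  set φ := Ideal.ResidueField.mapₐ p q (Algebra.ofId A E) hqp.over with hφ
  have hmem : ∀ x : E, algebraMap E q.ResidueField x = 0 ↔ x ∈ q := fun x =>
    Ideal.algebraMap_residueField_eq_zero
  have hzs : algebraMap E q.ResidueField (s : E) *
      IsLocalRing.residue (Localization.AtPrime q) (IsLocalization.mk' _ e s) =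
      algebraMap E q.ResidueField e := by
    rw [IsScalarTower.algebraMap_apply E (Localization.AtPrime q) q.ResidueField,
      IsScalarTower.algebraMap_apply E (Localization.AtPrime q) q.ResidueField,
      IsLocalRing.ResidueField.algebraMap_eq, ← map_mul, IsLocalization.mk'_spec']
  have hA : ∀ a : A, algebraMap E q.ResidueField (algebraMap A E a) = φ (algebraMap A p.ResidueField a) := by
    intro a
    rw [φ.commutes, ← IsScalarTower.algebraMap_apply]
  have hAne : ∀ b : A, b ∉ p → algebraMap E q.ResidueField (algebraMap A E b) ≠ 0 := by
    intro b hb h0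
    rw [hmem] at h0
    apply hb
    rw [hqp.over]
    exact h0
  obtain ⟨a, b, hb, hab⟩ := H e
  obtain ⟨a', b', hb', hab'⟩ := H s
  rw [← hmem, map_sub, map_mul, sub_eq_zero] at hab hab'
  have hs0 : algebraMap E q.ResidueField (s : E) ≠ 0 := by
    rw [Ne, hmem]; exact s.2
  have ha'0 : algebraMap E q.ResidueField (algebraMap A E a') ≠ 0 := by
    rw [← hab']; exact mul_ne_zero (hAne b' hb') hs0
  refine ⟨algebraMap A p.ResidueField (a * b') / algebraMap A p.ResidueField (b * a'), ?_⟩
  change φ _ = _
  rw [map_div₀, ← hA, ← hA, map_mul, map_mul, map_mul, map_mul]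
  rw [div_eq_iff (mul_ne_zero (hAne b hb) ha'0)]
  have hb0 := hAne b hb
  have hb'0 := hAne b' hb'
  -- z * (b * a') = a * b'
  calc algebraMap E q.ResidueField (algebraMap A E a) * algebraMap E q.ResidueField (algebraMap A E b')
      = (algebraMap E q.ResidueField (algebraMap A E b) * algebraMap E q.ResidueField e) *
          algebraMap E q.ResidueField (algebraMap A E b') := by rw [hab]
    _ = (algebraMap E q.ResidueField (algebraMap A E b) *
          (algebraMap E q.ResidueField (s : E) *
            IsLocalRing.residue (Localization.AtPrime q) (IsLocalization.mk' _ e s))) *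
          algebraMap E q.ResidueField (algebraMap A E b') := by rw [hzs]
    _ = IsLocalRing.residue (Localization.AtPrime q) (IsLocalization.mk' _ e s) *
          (algebraMap E q.ResidueField (algebraMap A E b) *
            (algebraMap E q.ResidueField (algebraMap A E b') * algebraMap E q.ResidueField (s : E))) := by
        ring
    _ = _ := by rw [hab']

end Groth.Agent.Lib.Seat6.EtNhd
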