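import Mathlib
import Groth.Agent.Lib.Helper3HenselInt
import Groth.Agent.Lib.Seat1IntHensel

/-!
# Universe-polymorphic versions of facts on algebras integral over henselian local rings

The prior libraries `Helper3HenselInt` and `Seat1IntHensel` are stated for an algebra in the same universe as the
base ring; here the algebra may live in any universe (transport through `ULift`).

* `henselianLocalRing_of_ringEquiv`: henselianity is invariant under ring isomorphisms.
* `henselian_of_isIntegral'`: a local ring integral over a henselian local ring is henselian.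
* `exists_idem_mul_eq'`: for `B` integral over a henselian local ring and `t` outside a maximal ideal `𝔪`,
  `t` is invertible on an idempotent piece containing `𝔪`.
* `isLocalHom_of_isIntegral'`, `isSepClosed_residueField_of_isIntegral'`.
-/

set_option autoImplicit false
set_option linter.style.haveILetI false
universe u v

namespace Groth.Agent.Lib.Seat88.HensUniv

open IsLocalRing Polynomial

/-- henselianity is invariant under ring isomorphisms -/
theorem henselianLocalRing_of_ringEquiv {R₁ : Type u} {R₂ : Type v} [CommRing R₁] [CommRing R₂]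
    [HenselianLocalRing R₁] (e : R₁ ≃+* R₂) : HenselianLocalRing R₂ := by
  haveI : IsLocalRing R₂ := e.isLocalRing
  refine ⟨fun f hf a₀ h0 h1 => ?_⟩
  let g : R₁[X] := f.map (e.symm : R₂ →+* R₁)
  have hg : g.Monic := hf.map _
  have heval : ∀ (q : R₂[X]) (x : R₂),
      (q.map (e.symm : R₂ →+* R₁)).eval (e.symm x) = e.symm (q.eval x) := by
    intro q x
    rw [eval_map]
    exact Polynomial.eval₂_hom (e.symm : R₂ →+* R₁) x
  have h0' : g.eval (e.symm a₀) ∈ maximalIdeal R₁ := by
    rw [heval, mem_maximalIdeal, mem_nonunits_iff]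
    rw [mem_maximalIdeal, mem_nonunits_iff] at h0
    intro hu
    apply h0
    have := hu.map (e : R₁ →+* R₂)
    simpa using this
  have h1' : IsUnit (g.derivative.eval (e.symm a₀)) := by
    rw [Polynomial.derivative_map, heval]
    exact h1.map (e.symm : R₂ →+* R₁)
  obtain ⟨a, har, ha⟩ := HenselianLocalRing.is_henselian g hg (e.symm a₀) h0' h1'
  refine ⟨e a, ?_, ?_⟩
  · have h2 := heval f (e a)
    rw [e.symm_apply_apply] at h2
    rw [Polynomial.IsRoot.def] at har ⊢
    rw [har] at h2
    apply e.symm.injective
    rw [← h2, map_zero]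
  · rw [mem_maximalIdeal, mem_nonunits_iff] at ha ⊢
    intro hu
    apply ha
    have := hu.map (e.symm : R₂ →+* R₁)
    simpa using this

section ULiftAlg

variable (S : Type u) [CommRing S] (C : Type v) [CommRing C] [Algebra S C]

/-- the algebra structure on `ULift C` over `ULift S` -/
@[reducible] noncomputable def uliftAlgebra : Algebra (ULift.{v} S) (ULift.{u} C) :=
  (((ULift.ringEquiv.symm : C ≃+* ULift.{u} C) : C →+* ULift.{u} C).comp
    ((algebraMap S C).comp ((ULift.ringEquiv : ULift.{v} S ≃+* S) : ULift.{v} S →+* S))).toAlgebra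

theorem algebraMap_ulift_comp :
    letI := uliftAlgebra S C
    (algebraMap (ULift.{v} S) (ULift.{u} C)).comp
        ((ULift.ringEquiv.symm : S ≃+* ULift.{v} S) : S →+* ULift.{v} S) =
      ((ULift.ringEquiv.symm : C ≃+* ULift.{u} C) : C →+* ULift.{u} C).comp (algebraMap S C) :=
  rfl

theorem isIntegral_ulift [Algebra.IsIntegral S C] :
    letI := uliftAlgebra S C
    Algebra.IsIntegral (ULift.{v} S) (ULift.{u} C) := by
  letI := uliftAlgebra S C
  refine ⟨fun x => ?_⟩
  obtain ⟨p, hp, hpx⟩ := Algebra.IsIntegral.isIntegral (R := S) x.down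
  refine ⟨p.map ((ULift.ringEquiv.symm : S ≃+* ULift.{v} S) : S →+* ULift.{v} S), hp.map _, ?_⟩
  rw [Polynomial.eval₂_map, algebraMap_ulift_comp]
  have h1 := Polynomial.hom_eval₂ p (algebraMap S C)
    ((ULift.ringEquiv.symm : C ≃+* ULift.{u} C) : C →+* ULift.{u} C) x.down
  rw [hpx, map_zero] at h1
  exact h1.symm

end ULiftAlg

/-- a local ring integral over a henselian local ring is henselian (any universes) -/
theorem henselian_of_isIntegral' (S : Type u) [CommRing S] [HenselianLocalRing S]
    (C : Type v) [CommRing C] [IsLocalRing C] [Algebra S C] [Algebra.IsIntegral S C] :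
    HenselianLocalRing C := by
  haveI : HenselianLocalRing (ULift.{v} S) :=
    henselianLocalRing_of_ringEquiv (ULift.ringEquiv.symm : S ≃+* ULift.{v} S)
  haveI : IsLocalRing (ULift.{u} C) := (ULift.ringEquiv.symm : C ≃+* ULift.{u} C).isLocalRing
  letI := uliftAlgebra S C
  haveI := isIntegral_ulift S C
  haveI : HenselianLocalRing (ULift.{u} C) :=
    Groth.Agent.Lib.Helper3.HenselInt.henselian_of_isIntegral (ULift.{v} S) (ULift.{u} C)
  exact henselianLocalRing_of_ringEquiv (ULift.ringEquiv : ULift.{u} C ≃+* C)

/-- for `B` integral over a henselian local ring, an element outside a maximal ideal `𝔪` is invertible on the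
clopen neighbourhood of `𝔪` cut out by some idempotent (any universes) -/
theorem exists_idem_mul_eq' (S : Type u) [CommRing S] [HenselianLocalRing S]
    (B : Type v) [CommRing B] [Algebra S B] [Algebra.IsIntegral S B]
    (𝔪 : Ideal B) [h𝔪 : 𝔪.IsMaximal] (t : B) (ht : t ∉ 𝔪) :
    ∃ e c : B, IsIdempotentElem e ∧ e ∉ 𝔪 ∧ t * c * e = e := by
  haveI : HenselianLocalRing (ULift.{v} S) :=
    henselianLocalRing_of_ringEquiv (ULift.ringEquiv.symm : S ≃+* ULift.{v} S)
  letI := uliftAlgebra S B
  haveI := isIntegral_ulift S B
  let E : ULift.{u} B ≃+* B := ULift.ringEquiv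
  let 𝔪' : Ideal (ULift.{u} B) := 𝔪.comap (E : ULift.{u} B →+* B)
  haveI : 𝔪'.IsMaximal := Ideal.comap_isMaximal_of_surjective _ E.surjective
  have ht' : E.symm t ∉ 𝔪' := by
    intro h
    apply ht
    have : E (E.symm t) ∈ 𝔪 := h
    rwa [E.apply_symm_apply] at this
  obtain ⟨e, c, he, hen, hce⟩ :=
    Groth.Agent.Lib.Seat1.IntHensel.exists_idem_mul_eq (ULift.{v} S) (ULift.{u} B) 𝔪' (E.symm t) ht'
  refine ⟨E e, E c, ?_, fun h => hen h, ?_⟩
  · change E e * E e = E e
    rw [← map_mul, he.eq]
  · have := congrArg E hce
    rw [map_mul, map_mul, E.apply_symm_apply] at this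
    exact this

/-- an integral algebra between local rings is a local homomorphism -/
lemma isLocalHom_of_isIntegral' (R : Type u) (C : Type v) [CommRing R] [IsLocalRing R] [CommRing C]
    [IsLocalRing C] [Algebra R C] [Algebra.IsIntegral R C] : IsLocalHom (algebraMap R C) := by
  refine ⟨fun r hr => ?_⟩
  by_contra hnu
  have hm : r ∈ maximalIdeal R := hnu
  have hker : RingHom.ker (algebraMap R C) ≤ maximalIdeal R :=
    IsLocalRing.le_maximalIdeal ((RingHom.ker_ne_top _))
  obtain ⟨Q, hQ, hQc⟩ := Ideal.exists_ideal_over_maximal_of_isIntegral (S := C) (maximalIdeal R) hker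
  have : algebraMap R C r ∈ Q := by
    have : r ∈ Q.comap (algebraMap R C) := by rw [hQc]; exact hm
    exact this
  exact hQ.ne_top (Ideal.eq_top_of_isUnit_mem _ this hr)

/-- a local ring integral over a local ring with separably closed residue field has separably closed residue
field -/
lemma isSepClosed_residueField_of_isIntegral' (R : Type u) (C : Type v) [CommRing R] [IsLocalRing R]
    [IsSepClosed (ResidueField R)] [CommRing C] [IsLocalRing C]
    [Algebra R C] [Algebra.IsIntegral R C] : IsSepClosed (ResidueField C) := by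
  haveI := isLocalHom_of_isIntegral' R C
  haveI : Algebra.IsIntegral R (ResidueField C) := by
    refine ⟨fun x => ?_⟩
    obtain ⟨c, rfl⟩ := IsLocalRing.residue_surjective x
    have hc : IsIntegral R c := Algebra.IsIntegral.isIntegral c
    exact hc.map (IsScalarTower.toAlgHom R C (ResidueField C))
  haveI : Algebra.IsIntegral (ResidueField R) (ResidueField C) :=
    Algebra.IsIntegral.tower_top (R := R)
  haveI : Algebra.IsAlgebraic (ResidueField R) (ResidueField C) := inferInstance
  exact Algebra.IsAlgebraic.isSepClosed (F := ResidueField R)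

end Groth.Agent.Lib.Seat88.HensUniv
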