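import Mathlib
import Groth.Prelude.Def_W4c2azumayainvolQEt
import Groth.Agent.Lib.Seat88HensUniv

/-!
# Rings with an involution whose fixed ring is strictly henselian

`main`: if `S` is the fixed ring of an involution `lam` of `R` and `S` is strictly henselian, then `R` is a finite
product of strictly henselian local rings (at most two factors).
-/

set_option autoImplicit false
set_option linter.style.haveILetI false
set_option linter.unusedSectionVars false
universe u v

namespace Groth.Agent.Lib.Seat88.InvolHens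

open IsLocalRing Polynomial
open Groth.Agent.Lib.Seat88.HensUniv

variable {S : Type u} {R : Type v} [CommRing S] [CommRing R] [Algebra S R] (lam : R ≃+* R)
  (hlam : Function.Involutive lam) (hS : RInv.IsFixedRing S R lam)

include hlam hS

theorem exists_trace (r : R) : ∃ s : S, algebraMap S R s = r + lam r := by
  have : lam (r + lam r) = r + lam r := by rw [map_add, hlam r, add_comm]
  exact (hS.2 _).1 this

theorem exists_norm (r : R) : ∃ s : S, algebraMap S R s = r * lam r := by
  have : lam (r * lam r) = r * lam r := by rw [map_mul, hlam r, mul_comm]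
  exact (hS.2 _).1 this

theorem isIntegral : Algebra.IsIntegral S R := by
  refine ⟨fun r => ?_⟩
  obtain ⟨t, ht⟩ := exists_trace lam hlam hS r
  obtain ⟨n, hn⟩ := exists_norm lam hlam hS r
  refine ⟨X ^ 2 + (C (-t) * X + C n), ?_, ?_⟩
  · apply monic_X_pow_add
    exact lt_of_le_of_lt degree_linear_le (by norm_num)
  · rw [eval₂_add, eval₂_pow, eval₂_X, eval₂_add, eval₂_mul, eval₂_C, eval₂_C, eval₂_X, map_neg,
      ht, hn]
    ring

/-- every maximal ideal of `R` is `M₁` or its conjugate -/
theorem eq_or_eq_comap [IsLocalRing S] (M₁ M : Ideal R) [hM₁ : M₁.IsMaximal] [hM : M.IsMaximal] :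
    M = M₁ ∨ M = M₁.comap (lam : R →+* R) := by
  haveI := isIntegral lam hlam hS
  by_contra hcon
  push Not at hcon
  obtain ⟨h1, h2⟩ := hcon
  haveI hM₁' : (M₁.comap (lam : R →+* R)).IsMaximal :=
    Ideal.comap_isMaximal_of_surjective _ lam.surjective
  have hnot : ¬ ((M : Set R) ⊆ (M₁ : Set R) ∪ (M₁.comap (lam : R →+* R) : Ideal R)) := by
    rw [Ideal.subset_union]
    rintro (h | h)
    · exact h1 (hM.eq_of_le hM₁.ne_top h)
    · exact h2 (hM.eq_of_le hM₁'.ne_top h)
  obtain ⟨x, hxM, hx⟩ := Set.not_subset.1 hnot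
  rw [Set.mem_union, not_or] at hx
  obtain ⟨n, hn⟩ := exists_norm lam hlam hS x
  have hcM : M.comap (algebraMap S R) = maximalIdeal S :=
    IsLocalRing.eq_maximalIdeal (Ideal.isMaximal_comap_of_isIntegral_of_isMaximal M)
  have hcM₁ : M₁.comap (algebraMap S R) = maximalIdeal S :=
    IsLocalRing.eq_maximalIdeal (Ideal.isMaximal_comap_of_isIntegral_of_isMaximal M₁)
  have hnM : n ∈ M.comap (algebraMap S R) := by
    rw [Ideal.mem_comap, hn]
    exact M.mul_mem_right _ hxM
  rw [hcM, ← hcM₁, Ideal.mem_comap, hn] at hnM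
  rcases hM₁.isPrime.mem_or_mem hnM with h | h
  · exact hx.1 h
  · exact hx.2 h

omit hlam hS in
/-- the quotient by an element lying in exactly one of the two maximal ideals is local -/
theorem isLocalRing_quotient (M₁ M₂ : Ideal R) [hM₁ : M₁.IsMaximal]
    (h12 : ∀ M : Ideal R, M.IsMaximal → M = M₁ ∨ M = M₂) (e : R) (he1 : e ∈ M₁) (he2 : e ∉ M₂) :
    IsLocalRing (R ⧸ Ideal.span {e}) := by
  set I : Ideal R := Ideal.span {e} with hI
  have hIM : I ≤ M₁ := by
    rw [hI, Ideal.span_le, Set.singleton_subset_iff]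
    exact he1
  have hmk : Function.Surjective (Ideal.Quotient.mk I) := Ideal.Quotient.mk_surjective
  have hcomap : (M₁.map (Ideal.Quotient.mk I)).comap (Ideal.Quotient.mk I) = M₁ := by
    rw [Ideal.comap_map_of_surjective _ hmk, ← RingHom.ker_eq_comap_bot, Ideal.mk_ker,
      sup_eq_left.2 hIM]
  have hmax : (M₁.map (Ideal.Quotient.mk I)).IsMaximal := by
    rcases Ideal.map_eq_top_or_isMaximal_of_surjective (Ideal.Quotient.mk I) hmk hM₁ with h | h
    · exfalso
      rw [h, Ideal.comap_top] at hcomap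
      exact hM₁.ne_top hcomap.symm
    · exact h
  apply IsLocalRing.of_unique_max_ideal
  refine ⟨M₁.map (Ideal.Quotient.mk I), hmax, ?_⟩
  intro 𝔫 h𝔫
  haveI := h𝔫
  have hc : (𝔫.comap (Ideal.Quotient.mk I)).IsMaximal := Ideal.comap_isMaximal_of_surjective _ hmk
  have heI : e ∈ 𝔫.comap (Ideal.Quotient.mk I) := by
    rw [Ideal.mem_comap]
    have : Ideal.Quotient.mk I e = 0 :=
      Ideal.Quotient.eq_zero_iff_mem.2 (Ideal.subset_span (Set.mem_singleton e))
    rw [this]
    exact 𝔫.zero_mem
  rcases h12 _ hc with h | h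
  · rw [← Ideal.map_comap_of_surjective _ hmk 𝔫, h]
  · exfalso
    rw [h] at heI
    exact he2 heI

theorem main [HenselianLocalRing S] [IsSepClosed (ResidueField S)] :
    ∃ (ι : Type) (_ : Fintype ι) (T : ι → Type v) (_ : ∀ i, CommRing (T i))
      (_ : ∀ i, HenselianLocalRing (T i)),
      (∀ i, IsSepClosed (IsLocalRing.ResidueField (T i))) ∧ Nonempty (R ≃+* (∀ i, T i)) := by
  classical
  haveI hint := isIntegral lam hlam hS
  haveI : Nontrivial R := hS.1.nontrivial
  by_cases hloc : IsLocalRing R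
  · -- the local case
    haveI := hloc
    refine ⟨Fin 1, inferInstance, fun _ => R, fun _ => inferInstance,
      fun _ => henselian_of_isIntegral' S R, fun _ => ?_,
      ⟨(RingEquiv.piUnique (fun _ : Fin 1 => R)).symm⟩⟩
    exact isSepClosed_residueField_of_isIntegral' S R
  · -- two maximal ideals
    obtain ⟨M₁, hM₁⟩ := Ideal.exists_maximal R
    haveI := hM₁
    have hex : ∃ M₂ : Ideal R, M₂.IsMaximal ∧ M₂ ≠ M₁ := by
      by_contra hcon
      push Not at hcon
      exact hloc (IsLocalRing.of_unique_max_ideal ⟨M₁, hM₁, fun M hM => hcon M hM⟩)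
    obtain ⟨M₂, hM₂, hne⟩ := hex
    haveI := hM₂
    have hM₂eq : M₂ = M₁.comap (lam : R →+* R) :=
      (eq_or_eq_comap lam hlam hS M₁ M₂).resolve_left hne
    have h12 : ∀ M : Ideal R, M.IsMaximal → M = M₁ ∨ M = M₂ := by
      intro M hM
      haveI := hM
      rw [hM₂eq]
      exact eq_or_eq_comap lam hlam hS M₁ M
    have h21 : ∀ M : Ideal R, M.IsMaximal → M = M₂ ∨ M = M₁ := fun M hM => (h12 M hM).symm
    have hnle : ¬ M₁ ≤ M₂ := fun h => hne (hM₁.eq_of_le hM₂.ne_top h).symm
    obtain ⟨t, ht1, ht2⟩ := SetLike.not_le_iff_exists.1 hnle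
    obtain ⟨e, c, he, he2, hce⟩ := exists_idem_mul_eq' S R M₂ t ht2
    have he1 : e ∈ M₁ := by
      rw [← hce]
      exact M₁.mul_mem_right _ (M₁.mul_mem_right _ ht1)
    have hmul : e * (1 - e) = 0 := by
      rw [mul_sub, mul_one, he.eq, sub_self]
    have hf2 : 1 - e ∈ M₂ := by
      have : e * (1 - e) ∈ M₂ := by rw [hmul]; exact M₂.zero_mem
      exact (hM₂.isPrime.mem_or_mem this).resolve_left he2
    have hf1 : 1 - e ∉ M₁ := by
      intro h
      apply hM₁.ne_top
      rw [Ideal.eq_top_iff_one]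
      have := M₁.add_mem he1 h
      rwa [add_sub_cancel] at this
    let E : Fin 2 → R := ![e, 1 - e]
    let I : Fin 2 → Ideal R := fun i => Ideal.span {E i}
    have hloc' : ∀ i, IsLocalRing (R ⧸ I i) := by
      intro i
      fin_cases i
      · exact isLocalRing_quotient M₁ M₂ h12 e he1 he2
      · exact isLocalRing_quotient M₂ M₁ h21 (1 - e) hf2 hf1
    have hcop01 : IsCoprime (I 0) (I 1) := by
      change IsCoprime (Ideal.span {e}) (Ideal.span {1 - e})
      rw [Ideal.isCoprime_span_singleton_iff]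
      exact ⟨1, 1, by ring⟩
    have hcop : Pairwise (Function.onFun IsCoprime I) := by
      intro i j hij
      fin_cases i <;> fin_cases j
      · exact absurd rfl hij
      · exact hcop01
      · exact hcop01.symm
      · exact absurd rfl hij
    have hinf : ⨅ i, I i = ⊥ := by
      rw [eq_bot_iff]
      intro x hx
      rw [Ideal.mem_iInf] at hx
      have h0 : x ∈ Ideal.span {e} := hx 0
      have h1 : x ∈ Ideal.span {1 - e} := hx 1
      obtain ⟨a, rfl⟩ := Ideal.mem_span_singleton'.1 h0
      obtain ⟨b, hb⟩ := Ideal.mem_span_singleton'.1 h1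
      rw [Ideal.mem_bot]
      have h2 : a * e = a * e * e := by rw [mul_assoc, he.eq]
      rw [h2, ← hb, mul_assoc, mul_comm (1 - e) e, hmul, mul_zero]
    let Φ : R ≃+* (∀ i, R ⧸ I i) :=
      (RingEquiv.quotientBot R).symm.trans
        ((Ideal.quotEquivOfEq hinf.symm).trans (Ideal.quotientInfRingEquivPiQuotient I hcop))
    refine ⟨Fin 2, inferInstance, fun i => R ⧸ I i, fun i => inferInstance,
      fun i => ?_, fun i => ?_, ⟨Φ⟩⟩
    · haveI := hloc' i
      exact henselian_of_isIntegral' S (R ⧸ I i)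
    · haveI := hloc' i
      exact isSepClosed_residueField_of_isIntegral' S (R ⧸ I i)

end Groth.Agent.Lib.Seat88.InvolHens
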