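import Mathlib
import Groth.Prelude.Def_AzInv
import Groth.Agent.S0537
import Groth.Agent.S15586
import Groth.Agent.S15578
import Groth.Agent.Lib.Seat6EtNhd
import Groth.Agent.Lib.Seat14EtNbhd
import Groth.Agent.Lib.Seat25AzDesc
import Groth.Agent.Lib.Seat25AzInvA

/-!
# Azumaya algebras over a ring with involution: étale-local splitting over the fixed ring
-/

set_option autoImplicit false

open scoped TensorProduct
open IsLocalRing

namespace Groth.Agent.Lib.Seat25.AzInvB

open Groth.Agent.Lib.Seat25.AzSH Groth.Agent.Lib.Seat25.AzDesc Groth.Agent.Lib.Seat25.AzInvA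
open Groth.Agent.Lib.Helper3 Groth.Agent.Lib.Helper3.IndEt

universe u v w

/-- a strict henselization of `S` at a prime, as an ind-étale `S`-algebra. -/
theorem exists_strictHenselization_atPrime (S : Type u) [CommRing S] (q : Ideal S) [q.IsPrime] :
    ∃ (T : Type u) (_ : CommRing T) (_ : Algebra S T) (_ : HenselianLocalRing T)
      (_ : IsSepClosed (ResidueField T)),
      Obj.Factor S T ∧ (maximalIdeal T).comap (algebraMap S T) = q := by
  obtain ⟨T, _, _, _, _, hsh⟩ := Groth.Agent.S0537.result (Localization.AtPrime q)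
  letI : Algebra S T :=
    ((algebraMap (Localization.AtPrime q) T).comp (algebraMap S (Localization.AtPrime q))).toAlgebra
  haveI : IsScalarTower S (Localization.AtPrime q) T := IsScalarTower.of_algebraMap_eq (fun _ => rfl)
  have hH : HenselianLocalRing T := hsh.henselian
  have hsc : IsSepClosed (ResidueField T) := hsh.isSepClosure.sep_closed
  refine ⟨T, inferInstance, inferInstance, hH, hsc, ?_, ?_⟩
  · apply factor_of_isIndEtale
    exact isIndEtale_comp S (Localization.AtPrime q) T
      (isIndEtale_of_factor (Groth.Agent.Lib.Seat6.EtNhd.factor_atPrime S q))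
      (isIndEtale_of_isStrictHenselization (Localization.AtPrime q) T)
  · rw [IsScalarTower.algebraMap_eq S (Localization.AtPrime q) T, ← Ideal.comap_comap,
      IsLocalRing.maximalIdeal_comap (algebraMap (Localization.AtPrime q) T)]
    exact IsLocalization.AtPrime.under_maximalIdeal (Localization.AtPrime q) q

section Semi

open Groth.Agent.Lib.Seat14.EtLoc

variable (S : Type u) (R : Type v) [CommRing S] [CommRing R] [Algebra S R]
  (lam : R ≃ₐ[S] R) (hlam : ∀ r, lam (lam r) = r)
  (hfix : RInv.IsFixedRing S R lam.toRingEquiv)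
  (A : Type w) [Ring A] [Algebra S A] [Algebra R A] [IsScalarTower S R A]
  (n : ℕ) (hn : 0 < n) (hA : AzInv.IsAzumayaDeg R A n)

include hA in
/-- the rank of a base change of an Azumaya algebra of degree `n` -/
theorem rankAtStalk_baseChange_eq (C : Type*) [CommRing C] [Algebra R C] (p : PrimeSpectrum C) :
    Module.rankAtStalk (R := C) (C ⊗[R] A) p = n ^ 2 := by
  have hAz : IsAzumaya R A := hA.1
  have : Module.Finite R A := IsAzumaya.toFinite (R := R)
  have : Module.Projective R A := IsAzumaya.toProjective (R := R)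
  rw [Module.rankAtStalk_baseChange, hA.2]

include hlam hfix hn hA in
/-- over a strictly henselian flat `S`-algebra `T`, `T ⊗[S] A` has matrix units. -/
theorem hasMatrixUnits_of_strictlyHenselian_fixed (T : Type u) [CommRing T] [Algebra S T]
    [Module.Flat S T] [HenselianLocalRing T] [IsSepClosed (ResidueField T)] :
    HasMatrixUnits n (T ⊗[S] A) := by
  have hAz : IsAzumaya R A := hA.1
  let lamT : T ⊗[S] R ≃ₐ[S] T ⊗[S] R :=
    Algebra.TensorProduct.congr (AlgEquiv.refl : T ≃ₐ[S] T) lam
  have hfixT : RInv.IsFixedRing T (T ⊗[S] R) lamT.toRingEquiv :=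
    Groth.Agent.S15586.result S R T lam hlam hfix (Or.inl inferInstance)
  have hinv : Function.Involutive lamT.toRingEquiv := by
    intro z
    change lamT (lamT z) = z
    induction z using TensorProduct.induction_on with
    | zero => simp
    | tmul t r => simp [lamT, hlam]
    | add x y hx hy => rw [map_add, map_add, hx, hy]
  obtain ⟨ι, _, Ti, _, _, hsc, ⟨φ₀⟩⟩ :=
    Groth.Agent.S15578.result T (T ⊗[S] R) lamT.toRingEquiv hinv hfixT
  let φ : R ⊗[S] T ≃+* ∀ i, Ti i := (Algebra.TensorProduct.comm S R T).toRingEquiv.trans φ₀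
  have hAzC : IsAzumaya (R ⊗[S] T) ((R ⊗[S] T) ⊗[R] A) :=
    Groth.Agent.Lib.LeadAzumaya.isAzumaya_baseChange (R ⊗[S] T) A
  have hrank := rankAtStalk_baseChange_eq R A n hA (R ⊗[S] T)
  have hMU := hasMatrixUnits_of_pi (R ⊗[S] T) ((R ⊗[S] T) ⊗[R] A) n hn hrank Ti φ
  exact hMU.map (theta S R A T : (R ⊗[S] T) ⊗[R] A →+* T ⊗[S] A)

include hlam hfix hn hA in
/-- étale-locally on `Spec S`, `A` acquires matrix units. -/
theorem exists_etNbhd_hasMatrixUnits (q : PrimeSpectrum S) :
    ∃ N : EtNbhd S q, HasMatrixUnits n (N.B ⊗[S] A) := by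
  obtain ⟨T, _, _, _, _, hF, hq⟩ := exists_strictHenselization_atPrime S q.asIdeal
  have : Module.Flat S T := flat_of_factor' hF
  have hMU := hasMatrixUnits_of_strictlyHenselian_fixed S R lam hlam hfix A n hn hA T
  obtain ⟨E, _, _, hE, g, hMUE⟩ := hasMatrixUnits_descend A hF n hMU
  refine ⟨{ B := E, etale := hE, q := PrimeSpectrum.comap g.toRingHom (closedPoint T), hq := ?_ },
    hMUE⟩
  ext x
  change g (algebraMap S E x) ∈ maximalIdeal T ↔ x ∈ q.asIdeal
  rw [g.commutes, ← hq]
  rfl

include hlam hfix hn hA in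
/-- there is an étale covering of `Spec S` over which `A` acquires matrix units. -/
theorem exists_cover_hasMatrixUnits :
    ∃ (S' : Type u) (_ : CommRing S') (_ : Algebra S S') (_ : Algebra.Etale S S')
      (_ : Module.FaithfullyFlat S S'), HasMatrixUnits n (S' ⊗[S] A) := by
  classical
  obtain ⟨k, B, _, _, het, hsurj, hMU⟩ := exists_finite_family (A := S)
    (fun B _ _ => HasMatrixUnits n (B ⊗[S] A))
    (fun q => exists_etNbhd_hasMatrixUnits S R lam hlam hfix A n hn hA q)
  have hE : Algebra.Etale S (∀ t, B t) := inferInstance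
  have : Algebra.Smooth S (∀ t, B t) := inferInstance
  have : Module.Flat S (∀ t, B t) := inferInstance
  have hff : Module.FaithfullyFlat S (∀ t, B t) := by
    apply Module.FaithfullyFlat.of_comap_surjective
    intro p
    obtain ⟨t, q, hq⟩ := hsurj p
    refine ⟨PrimeSpectrum.comap (Pi.evalRingHom B t) q, ?_⟩
    ext x
    rw [← hq]
    rfl
  refine ⟨∀ t, B t, inferInstance, inferInstance, hE, hff, ?_⟩
  let e : (∀ t, B t) ⊗[S] A ≃ₐ[S] (∀ t, A ⊗[S] B t) :=
    (Algebra.TensorProduct.comm S (∀ t, B t) A).trans (Algebra.TensorProduct.piRight S S A B)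
  have hMU' : ∀ t, HasMatrixUnits n (A ⊗[S] B t) := fun t =>
    (hMU t).map (Algebra.TensorProduct.comm S (B t) A : (B t ⊗[S] A) →+* (A ⊗[S] B t))
  exact (HasMatrixUnits.pi (fun t => A ⊗[S] B t) hMU').map
    (e.symm : (∀ t, A ⊗[S] B t) →+* (∀ t, B t) ⊗[S] A)

end Semi

end Groth.Agent.Lib.Seat25.AzInvB
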