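import Mathlib
import Groth.Agent.S5705
import Groth.Agent.Lib.Seat25AzInvB

/-!
# Automorphisms of Azumaya algebras over a ring with involution are inner étale-locally over the
fixed ring
-/

set_option autoImplicit false

open scoped TensorProduct
open IsLocalRing

namespace Groth.Agent.Lib.Seat25.AzInvC

open Groth.Agent.Lib.Seat25.AzSH Groth.Agent.Lib.Seat25.AzDesc Groth.Agent.Lib.Seat25.AzInvA
  Groth.Agent.Lib.Seat25.AzInvB
open Groth.Agent.Lib.Helper3 Groth.Agent.Lib.Helper3.IndEt

section Inner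

/-- `Ψ` is conjugation by an invertible element. -/
def IsInner {D : Type*} [Ring D] (Ψ : D → D) : Prop :=
  ∃ U V : D, U * V = 1 ∧ V * U = 1 ∧ ∀ x, Ψ x = U * x * V

theorem IsInner.of_ringEquiv {D D' : Type*} [Ring D] [Ring D'] (e : D ≃+* D') {Ψ : D → D}
    {Ψ' : D' → D'} (hc : ∀ x, e (Ψ x) = Ψ' (e x)) (h : IsInner Ψ') : IsInner Ψ := by
  obtain ⟨U, V, h1, h2, h3⟩ := h
  refine ⟨e.symm U, e.symm V, ?_, ?_, fun x => ?_⟩
  · rw [← map_mul, h1, map_one]
  · rw [← map_mul, h2, map_one]
  · apply e.injective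
    rw [hc, h3, map_mul, map_mul, e.apply_symm_apply, e.apply_symm_apply]

theorem IsInner.pi {ι : Type*} {D : ι → Type*} [∀ i, Ring (D i)] {Ψ : ∀ i, D i → D i}
    (h : ∀ i, IsInner (Ψ i)) : IsInner (fun (x : ∀ i, D i) i => Ψ i (x i)) := by
  choose U V h1 h2 h3 using h
  refine ⟨U, V, ?_, ?_, fun x => ?_⟩
  · funext i; exact h1 i
  · funext i; exact h2 i
  · funext i; exact h3 i (x i)

end Inner

section PiTensor

universe u v w

variable (C : Type u) [CommRing C] {ι : Type} [Fintype ι] (B : ι → Type v) [∀ i, CommRing (B i)]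
  [∀ i, Algebra C (B i)] (A : Type w) [Ring A] [Algebra C A]

/-- `(Π B_i) ⊗ A → Π (B_i ⊗ A)`. -/
noncomputable def piTensorHom : (∀ i, B i) ⊗[C] A →ₐ[C] ∀ i, B i ⊗[C] A :=
  AlgHom.pi (fun i => Algebra.TensorProduct.map (Pi.evalAlgHom C B i) (AlgHom.id C A))

omit [Fintype ι] in
theorem piTensorHom_tmul (b : ∀ i, B i) (a : A) (i : ι) :
    piTensorHom C B A (b ⊗ₜ[C] a) i = b i ⊗ₜ[C] a := rfl

theorem piTensorHom_bijective : Function.Bijective (piTensorHom C B A) := by
  classical
  let e : (∀ i, B i) ⊗[C] A ≃ₐ[C] (∀ i, B i ⊗[C] A) :=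
    ((Algebra.TensorProduct.comm C (∀ i, B i) A).trans
      (Algebra.TensorProduct.piRight C C A B)).trans
      (AlgEquiv.piCongrRight (fun i => Algebra.TensorProduct.comm C A (B i)))
  have : ⇑(piTensorHom C B A) = ⇑e := by
    ext x i
    induction x using TensorProduct.induction_on with
    | zero => simp
    | tmul b a => simp [e, piTensorHom_tmul]
    | add x y hx hy => simp only [map_add, Pi.add_apply, hx, hy]
  rw [this]
  exact e.bijective

/-- the ring isomorphism `(Π B_i) ⊗ A ≃ Π (B_i ⊗ A)`. -/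
noncomputable def piTensorEquiv : (∀ i, B i) ⊗[C] A ≃+* ∀ i, B i ⊗[C] A :=
  RingEquiv.ofBijective (piTensorHom C B A) (piTensorHom_bijective C B A)

theorem piTensorEquiv_apply (x : (∀ i, B i) ⊗[C] A) (i : ι) :
    piTensorEquiv C B A x i =
      Algebra.TensorProduct.map (Pi.evalAlgHom C B i) (AlgHom.id C A) x := rfl

end PiTensor

section Psi

universe u v w

variable (S : Type u) {R : Type v} [CommRing S] [CommRing R] [Algebra S R]
  {A : Type w} [Ring A] [Algebra S A] [Algebra R A] [IsScalarTower S R A] (ψ : A ≃ₐ[R] A)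

/-- base change of `ψ` to `P ⊗[S] A`. -/
noncomputable def psiBC (P : Type*) [CommRing P] [Algebra S P] : P ⊗[S] A →ₐ[S] P ⊗[S] A :=
  Algebra.TensorProduct.map (AlgHom.id S P) ((ψ.restrictScalars S : A ≃ₐ[S] A) : A →ₐ[S] A)

@[simp]
theorem psiBC_tmul (P : Type*) [CommRing P] [Algebra S P] (p : P) (a : A) :
    psiBC S ψ P (p ⊗ₜ[S] a) = p ⊗ₜ[S] ψ a := rfl

theorem psiBC_natural {P Q : Type*} [CommRing P] [CommRing Q] [Algebra S P] [Algebra S Q]
    (h : P →ₐ[S] Q) (x : P ⊗[S] A) :
    Algebra.TensorProduct.map h (AlgHom.id S A) (psiBC S ψ P x) =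
      psiBC S ψ Q (Algebra.TensorProduct.map h (AlgHom.id S A) x) := by
  induction x using TensorProduct.induction_on with
  | zero => simp
  | tmul p a => simp
  | add x y hx hy => rw [map_add, map_add, map_add, map_add, hx, hy]

/-- compatibility with `theta`. -/
theorem theta_congr (T : Type*) [CommRing T] [Algebra S T] (y : (R ⊗[S] T) ⊗[R] A) :
    theta S R A T (Algebra.TensorProduct.congr
      (AlgEquiv.refl : (R ⊗[S] T) ≃ₐ[R ⊗[S] T] (R ⊗[S] T)) ψ y) =
      psiBC S ψ T (theta S R A T y) := by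
  induction y using TensorProduct.induction_on with
  | zero => simp
  | tmul c a =>
    induction c using TensorProduct.induction_on with
    | zero => simp
    | tmul r t =>
      rw [Algebra.TensorProduct.congr_apply, Algebra.TensorProduct.map_tmul]
      change theta S R A T ((r ⊗ₜ[S] t) ⊗ₜ[R] ψ a) = _
      rw [theta_tmul, theta_tmul, psiBC_tmul, map_smul]
    | add c c' hc hc' =>
      rw [TensorProduct.add_tmul, map_add, map_add, map_add, map_add, hc, hc']
  | add x y hx hy => rw [map_add, map_add, map_add, map_add, hx, hy]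

omit [Algebra S R] [IsScalarTower S R A] in
/-- elements `p ⊗ r` are central in `P ⊗[S] A`. -/
theorem tmul_algebraMap_commute (P : Type*) [CommRing P] [Algebra S P] (p : P) (r : R)
    (y : P ⊗[S] A) : (p ⊗ₜ[S] algebraMap R A r) * y = y * (p ⊗ₜ[S] algebraMap R A r) := by
  induction y using TensorProduct.induction_on with
  | zero => simp
  | tmul p' a =>
    rw [Algebra.TensorProduct.tmul_mul_tmul, Algebra.TensorProduct.tmul_mul_tmul, mul_comm,
      Algebra.commutes]
  | add x y hx hy => rw [mul_add, add_mul, hx, hy]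

/-- finitely many relations suffice for `ψ_P(x) U = U x`. -/
theorem psiBC_mul_eq_of_span (P : Type*) [CommRing P] [Algebra S P] (U : P ⊗[S] A) {m : ℕ}
    (a : Fin m → A) (ha : Submodule.span R (Set.range a) = ⊤)
    (hU : ∀ k, psiBC S ψ P ((1 : P) ⊗ₜ[S] a k) * U = U * ((1 : P) ⊗ₜ[S] a k)) (x : P ⊗[S] A) :
    psiBC S ψ P x * U = U * x := by
  induction x using TensorProduct.induction_on with
  | zero => simp
  | tmul p a' =>
    have hmem : a' ∈ Submodule.span R (Set.range a) := by rw [ha]; exact Submodule.mem_top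
    obtain ⟨c, rfl⟩ := (Submodule.mem_span_range_iff_exists_fun R).mp hmem
    rw [TensorProduct.tmul_sum, map_sum, Finset.sum_mul, Finset.mul_sum]
    refine Finset.sum_congr rfl fun k _ => ?_
    have h1 : p ⊗ₜ[S] (c k • a k) = (p ⊗ₜ[S] algebraMap R A (c k)) * ((1 : P) ⊗ₜ[S] a k) := by
      rw [Algebra.TensorProduct.tmul_mul_tmul, mul_one, ← Algebra.smul_def]
    have h2 : psiBC S ψ P (p ⊗ₜ[S] algebraMap R A (c k)) = p ⊗ₜ[S] algebraMap R A (c k) := by
      rw [psiBC_tmul, ψ.commutes]
    rw [h1, map_mul, h2, mul_assoc, hU k, ← mul_assoc, tmul_algebraMap_commute, mul_assoc]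
  | add x y hx hy => rw [map_add, add_mul, mul_add, hx, hy]

end Psi

section Local

universe u v w

/-- automorphisms of an Azumaya algebra over a finite product of local rings are inner. -/
theorem isInner_of_pi (C : Type u) [CommRing C] (A : Type v) [Ring A] [Algebra C A]
    [IsAzumaya C A] {ι : Type} [Fintype ι] (T : ι → Type w) [∀ i, CommRing (T i)]
    [∀ i, IsLocalRing (T i)] (φ : C ≃+* (∀ i, T i)) (Ψ : A ≃ₐ[C] A) : IsInner Ψ := by
  classical
  letI alg : ∀ i, Algebra C (T i) := fun i =>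
    ((Pi.evalRingHom T i).comp φ.toRingHom).toAlgebra
  let φa : C ≃ₐ[C] (∀ i, T i) := { φ with commutes' := fun c => rfl }
  let e₁ : A ≃ₐ[C] (∀ i, T i) ⊗[C] A :=
    (Algebra.TensorProduct.lid C A).symm.trans
      (Algebra.TensorProduct.congr φa (AlgEquiv.refl : A ≃ₐ[C] A))
  let e : A ≃+* (∀ i, T i ⊗[C] A) := e₁.toRingEquiv.trans (piTensorEquiv C T A)
  have he : ∀ (x : A) (i : ι), e x i = (1 : T i) ⊗ₜ[C] x := by
    intro x i
    change piTensorEquiv C T A (e₁ x) i = _
    have : e₁ x = (1 : ∀ i, T i) ⊗ₜ[C] x := by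
      simp [e₁, φa]
    rw [this, piTensorEquiv_apply]
    simp
  let Ψi : ∀ i, T i ⊗[C] A ≃ₐ[T i] T i ⊗[C] A := fun i =>
    Algebra.TensorProduct.congr (AlgEquiv.refl : T i ≃ₐ[T i] T i) Ψ
  have hΨi : ∀ i, IsInner (Ψi i) := by
    intro i
    have hAz : IsAzumaya (T i) (T i ⊗[C] A) :=
      Groth.Agent.Lib.LeadAzumaya.isAzumaya_baseChange (T i) A
    obtain ⟨⟨a, ha⟩, -⟩ := Groth.Agent.S5705.result (T i) (T i ⊗[C] A) (Ψi i)
    exact ⟨(a : T i ⊗[C] A), ((a⁻¹ : (T i ⊗[C] A)ˣ) : T i ⊗[C] A), a.mul_inv, a.inv_mul, ha⟩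
  refine IsInner.of_ringEquiv e (Ψ' := fun x i => Ψi i (x i)) (fun x => ?_) (IsInner.pi hΨi)
  funext i
  rw [he, he]
  simp [Ψi]

variable (S : Type u) (R : Type v) [CommRing S] [CommRing R] [Algebra S R]
  (lam : R ≃ₐ[S] R) (hlam : ∀ r, lam (lam r) = r)
  (hfix : RInv.IsFixedRing S R lam.toRingEquiv)

include hlam hfix in
/-- the base change of `R` to a strictly henselian flat `S`-algebra is a finite product of
strictly henselian local rings. -/
theorem exists_pi_of_strictlyHenselian_fixed (T : Type u) [CommRing T] [Algebra S T]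
    [Module.Flat S T] [HenselianLocalRing T] [IsSepClosed (ResidueField T)] :
    ∃ (ι : Type) (_ : Fintype ι) (Ti : ι → Type (max u v)) (_ : ∀ i, CommRing (Ti i))
      (_ : ∀ i, HenselianLocalRing (Ti i)),
      (∀ i, IsSepClosed (ResidueField (Ti i))) ∧ Nonempty (R ⊗[S] T ≃+* (∀ i, Ti i)) := by
  let lamT : T ⊗[S] R ≃ₐ[S] T ⊗[S] R :=
    Algebra.TensorProduct.congr (AlgEquiv.refl : T ≃ₐ[S] T) lam
  have hfixT : RInv.IsFixedRing T (T ⊗[S] R) lamT.toRingEquiv :=
    Groth.Agent.S15586.result S R T lam hlam hfix (Or.inl inferInstance)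
  have hinv : Function.Involutive lamT.toRingEquiv := by
    intro z
    change lamT (lamT z) = z
    induction z using TensorProduct.induction_on with
    | zero => simp
    | tmul t r => simp [lamT, hlam]
    | add x y hx hy => rw [map_add, map_add, hx, hy]
  obtain ⟨ι, i1, Ti, i2, i3, hsc, ⟨φ₀⟩⟩ :=
    Groth.Agent.S15578.result T (T ⊗[S] R) lamT.toRingEquiv hinv hfixT
  exact ⟨ι, i1, Ti, i2, i3, hsc, ⟨(Algebra.TensorProduct.comm S R T).toRingEquiv.trans φ₀⟩⟩

variable (A : Type w) [Ring A] [Algebra S A] [Algebra R A] [IsScalarTower S R A]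
  [IsAzumaya R A] (ψ : A ≃ₐ[R] A)

include hlam hfix in
/-- over a strictly henselian flat `S`-algebra `T`, the base change of `ψ` is inner. -/
theorem isInner_of_strictlyHenselian_fixed (T : Type u) [CommRing T] [Algebra S T]
    [Module.Flat S T] [HenselianLocalRing T] [IsSepClosed (ResidueField T)] :
    IsInner (psiBC S ψ T) := by
  obtain ⟨ι, _, Ti, _, _, -, ⟨φ⟩⟩ := exists_pi_of_strictlyHenselian_fixed S R lam hlam hfix T
  have hAzC : IsAzumaya (R ⊗[S] T) ((R ⊗[S] T) ⊗[R] A) :=
    Groth.Agent.Lib.LeadAzumaya.isAzumaya_baseChange (R ⊗[S] T) A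
  have h1 := isInner_of_pi (R ⊗[S] T) ((R ⊗[S] T) ⊗[R] A) Ti φ
    (Algebra.TensorProduct.congr (AlgEquiv.refl : (R ⊗[S] T) ≃ₐ[R ⊗[S] T] (R ⊗[S] T)) ψ)
  refine IsInner.of_ringEquiv (theta S R A T).symm (fun x => ?_) h1
  apply (theta S R A T).injective
  rw [theta_congr, RingEquiv.apply_symm_apply, RingEquiv.apply_symm_apply]

end Local

section Descend

universe u v w

open Groth.Agent.Lib.Seat14.EtLoc

variable (S : Type u) (R : Type v) [CommRing S] [CommRing R] [Algebra S R]
  (A : Type w) [Ring A] [Algebra S A] [Algebra R A] [IsScalarTower S R A]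
  [Module.Finite R A] (ψ : A ≃ₐ[R] A)

/-- innerness of the base change of `ψ` descends from an ind-étale algebra to an étale one. -/
theorem isInner_descend {T : Type u} [CommRing T] [Algebra S T] (hF : Obj.Factor S T)
    (h : IsInner (psiBC S ψ T)) :
    ∃ (E : Type u) (_ : CommRing E) (_ : Algebra S E) (_ : Algebra.Etale S E)
      (_ : E →ₐ[S] T), IsInner (psiBC S ψ E) := by
  classical
  obtain ⟨U, V, h1, h2, h3⟩ := h
  obtain ⟨m, a, ha⟩ := Module.Finite.exists_fin (R := R) (M := A)
  obtain ⟨E, _, _, _, g, x', hx'⟩ := lift_etale A hF (fun b : Bool => if b then U else V)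
  have hU₀ : bc A g (x' true) = U := by simpa using hx' true
  have hV₀ : bc A g (x' false) = V := by simpa using hx' false
  have hUrel : ∀ x, psiBC S ψ T x * U = U * x := by
    intro x
    rw [h3, mul_assoc, h2, mul_one]
  let z : Option (Option (Fin m)) → E ⊗[S] A := fun o =>
    match o with
    | none => x' true * x' false - 1
    | some none => x' false * x' true - 1
    | some (some k) =>
      psiBC S ψ E ((1 : E) ⊗ₜ[S] a k) * x' true - x' true * ((1 : E) ⊗ₜ[S] a k)
  have hz : ∀ o, bc A g (z o) = 0 := by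
    intro o
    match o with
    | none =>
      change bc A g (x' true * x' false - 1) = 0
      rw [map_sub, map_mul, map_one, hU₀, hV₀, h1, sub_self]
    | some none =>
      change bc A g (x' false * x' true - 1) = 0
      rw [map_sub, map_mul, map_one, hU₀, hV₀, h2, sub_self]
    | some (some k) =>
      change bc A g (psiBC S ψ E ((1 : E) ⊗ₜ[S] a k) * x' true -
        x' true * ((1 : E) ⊗ₜ[S] a k)) = 0
      rw [map_sub, map_mul, map_mul, hU₀]
      change Algebra.TensorProduct.map g (AlgHom.id S A) (psiBC S ψ E ((1 : E) ⊗ₜ[S] a k)) * U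
        - U * bc A g ((1 : E) ⊗ₜ[S] a k) = 0
      rw [psiBC_natural, hUrel, sub_self]
  obtain ⟨E', _, _, _, h, g', -, hk⟩ := kill_etale A hF g z hz
  refine ⟨E', inferInstance, inferInstance, inferInstance, g', bc A h (x' true),
    bc A h (x' false), ?_, ?_, ?_⟩
  · have := hk none
    change bc A h (x' true * x' false - 1) = 0 at this
    rwa [map_sub, map_mul, map_one, sub_eq_zero] at this
  · have := hk (some none)
    change bc A h (x' false * x' true - 1) = 0 at this
    rwa [map_sub, map_mul, map_one, sub_eq_zero] at this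
  · have hVU : bc A h (x' false) * bc A h (x' true) = 1 := by
      have := hk (some none)
      change bc A h (x' false * x' true - 1) = 0 at this
      rwa [map_sub, map_mul, map_one, sub_eq_zero] at this
    have hUV : bc A h (x' true) * bc A h (x' false) = 1 := by
      have := hk none
      change bc A h (x' true * x' false - 1) = 0 at this
      rwa [map_sub, map_mul, map_one, sub_eq_zero] at this
    have hrel : ∀ k, psiBC S ψ E' ((1 : E') ⊗ₜ[S] a k) * bc A h (x' true) =
        bc A h (x' true) * ((1 : E') ⊗ₜ[S] a k) := by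
      intro k
      have := hk (some (some k))
      change bc A h (psiBC S ψ E ((1 : E) ⊗ₜ[S] a k) * x' true -
        x' true * ((1 : E) ⊗ₜ[S] a k)) = 0 at this
      rw [map_sub, map_mul, map_mul, sub_eq_zero] at this
      change Algebra.TensorProduct.map h (AlgHom.id S A) (psiBC S ψ E ((1 : E) ⊗ₜ[S] a k)) *
        bc A h (x' true) = bc A h (x' true) * bc A h ((1 : E) ⊗ₜ[S] a k) at this
      rw [psiBC_natural] at this
      simpa using this
    intro x
    have := psiBC_mul_eq_of_span S ψ E' (bc A h (x' true)) a ha hrel x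
    calc psiBC S ψ E' x = psiBC S ψ E' x * (bc A h (x' true) * bc A h (x' false)) := by
          rw [hUV, mul_one]
      _ = bc A h (x' true) * x * bc A h (x' false) := by rw [← mul_assoc, this]

end Descend

section Global

universe u v w

open Groth.Agent.Lib.Seat14.EtLoc

variable (S : Type u) (R : Type v) [CommRing S] [CommRing R] [Algebra S R]
  (lam : R ≃ₐ[S] R) (hlam : ∀ r, lam (lam r) = r)
  (hfix : RInv.IsFixedRing S R lam.toRingEquiv)
  (A : Type w) [Ring A] [Algebra S A] [Algebra R A] [IsScalarTower S R A]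
  [IsAzumaya R A] (ψ : A ≃ₐ[R] A)

include hlam hfix in
/-- étale-locally on `Spec S`, `ψ` becomes inner. -/
theorem exists_etNbhd_isInner (q : PrimeSpectrum S) :
    ∃ N : EtNbhd S q, IsInner (psiBC S ψ N.B) := by
  have : Module.Finite R A := IsAzumaya.toFinite (R := R)
  obtain ⟨T, _, _, _, _, hF, hq⟩ := exists_strictHenselization_atPrime S q.asIdeal
  have : Module.Flat S T := flat_of_factor' hF
  have hI := isInner_of_strictlyHenselian_fixed S R lam hlam hfix A ψ T
  obtain ⟨E, _, _, hE, g, hIE⟩ := isInner_descend S R A ψ hF hI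
  refine ⟨{ B := E, etale := hE, q := PrimeSpectrum.comap g.toRingHom (closedPoint T), hq := ?_ },
    hIE⟩
  ext x
  change g (algebraMap S E x) ∈ maximalIdeal T ↔ x ∈ q.asIdeal
  rw [g.commutes, ← hq]
  rfl

include hlam hfix in
/-- there is an étale covering of `Spec S` over which `ψ` becomes inner. -/
theorem exists_cover_isInner :
    ∃ (S' : Type u) (_ : CommRing S') (_ : Algebra S S') (_ : Algebra.Etale S S')
      (_ : Module.FaithfullyFlat S S'), IsInner (psiBC S ψ S') := by
  classical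
  obtain ⟨k, B, _, _, het, hsurj, hI⟩ := exists_finite_family (A := S)
    (fun B _ _ => IsInner (psiBC S ψ B))
    (fun q => exists_etNbhd_isInner S R lam hlam hfix A ψ q)
  have hE : Algebra.Etale S (∀ t, B t) := inferInstance
  have : Algebra.Smooth S (∀ t, B t) := inferInstance
  have : Module.Flat S (∀ t, B t) := inferInstance
  have hff : Module.FaithfullyFlat S (∀ t, B t) := by
    apply Module.FaithfullyFlat.of_comap_surjective
    intro p
    obtain ⟨t, q, hq⟩ := hsurj p
    refine ⟨PrimeSpectrum.comap (Pi.evalRingHom B t) q, ?_⟩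
    ext x
    rw [← hq]
    rfl
  refine ⟨∀ t, B t, inferInstance, inferInstance, hE, hff, ?_⟩
  refine IsInner.of_ringEquiv (piTensorEquiv S B A)
    (Ψ' := fun x t => psiBC S ψ (B t) (x t)) (fun x => ?_) (IsInner.pi hI)
  funext t
  rw [piTensorEquiv_apply, piTensorEquiv_apply, psiBC_natural]

end Global

end Groth.Agent.Lib.Seat25.AzInvC
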