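import Mathlib
import Groth.Prelude.Def_AzInv
import Groth.Prelude.Def_W4c2azumayainvolQEt

/-!
# Azumaya algebras with involution: centre computations (seat 77)

* `exists_retraction`: a faithful f.g. projective `R`-algebra `A` has an `R`-linear retraction
  `ρ : A → R` of the structure map (`ρ 1 = 1`).
* `mem_range_algebraMap_of_central`: Azumaya algebras are central.
* `mem_range_map_of_central`: for `S → R → A` with `A` Azumaya over `R` and `S₁` flat over `S`,
  an element of `S₁ ⊗[S] A` commuting with all `1 ⊗ a` comes from `S₁ ⊗[S] R`.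
-/

set_option autoImplicit false
set_option linter.style.haveILetI false

namespace Groth.Agent.Lib.Seat77.AzInvA

open scoped TensorProduct

section Center

variable {R : Type*} [CommRing R] {A : Type*} [Ring A] [Algebra R A]

/-- A faithful finitely generated projective algebra has a linear retraction onto the base. -/
theorem exists_retraction [Module.Finite R A] [Module.Projective R A] [FaithfulSMul R A] :
    ∃ ρ : A →ₗ[R] R, ρ 1 = 1 := by
  classical
  obtain ⟨n, f, g, -, -, hfg⟩ := Module.Finite.exists_comp_eq_id_of_projective R A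
  -- the trace ideal
  let τ : Ideal R := Ideal.span (Set.range fun p : (A →ₗ[R] R) × A => p.1 p.2)
  have hτ : ∀ (φ : A →ₗ[R] R) (a : A), φ a ∈ τ := fun φ a => Ideal.subset_span ⟨(φ, a), rfl⟩
  have hexp : ∀ a : A, a = ∑ i, (g a i) • f (Pi.single i 1) := by
    intro a
    have h1 : f (g a) = a := by
      have := LinearMap.congr_fun hfg a
      simpa using this
    conv_lhs => rw [← h1]
    have h2 : g a = ∑ i, (g a i) • (Pi.single i 1 : Fin n → R) := by
      ext j
      simp [Finset.sum_apply, Pi.single_apply]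
    conv_lhs => rw [h2]
    simp only [map_sum, map_smul]
  have hle : (⊤ : Submodule R A) ≤ τ • (⊤ : Submodule R A) := by
    intro a _
    rw [hexp a]
    refine Submodule.sum_mem _ fun i _ => ?_
    refine Submodule.smul_mem_smul ?_ trivial
    exact hτ ((LinearMap.proj i).comp g) a
  obtain ⟨r, hr, hr0⟩ := Submodule.exists_sub_one_mem_and_smul_eq_zero_of_fg_of_le_smul τ
    (⊤ : Submodule R A) Module.Finite.fg_top hle
  have hr0' : r = 0 := by
    have h : ∀ a : A, r • a = (0 : R) • a := fun a => by rw [zero_smul]; exact hr0 a trivial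
    exact FaithfulSMul.eq_of_smul_eq_smul h
  have h1 : (1 : R) ∈ τ := by
    have : r - 1 ∈ τ := hr
    rw [hr0', zero_sub] at this
    simpa using τ.neg_mem this
  -- write 1 as a combination
  have hspan : ∀ x ∈ τ, ∃ ρ : A →ₗ[R] R, ρ 1 = x := by
    intro x hx
    induction hx using Submodule.span_induction with
    | mem x hx =>
      obtain ⟨⟨φ, a⟩, rfl⟩ := hx
      refine ⟨φ.comp (LinearMap.mulRight R a), ?_⟩
      simp
    | zero => exact ⟨0, rfl⟩
    | add x y _ _ hx hy =>
      obtain ⟨ρ₁, h₁⟩ := hx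
      obtain ⟨ρ₂, h₂⟩ := hy
      exact ⟨ρ₁ + ρ₂, by simp [h₁, h₂]⟩
    | smul c x _ hx =>
      obtain ⟨ρ₁, h₁⟩ := hx
      exact ⟨c • ρ₁, by simp [h₁]⟩
  exact hspan 1 h1

/-- Azumaya algebras are central. -/
theorem mem_range_algebraMap_of_central [IsAzumaya R A] (z : A) (hz : ∀ a : A, z * a = a * z) :
    z ∈ Set.range (algebraMap R A) := by
  obtain ⟨ρ, hρ⟩ := exists_retraction (R := R) (A := A)
  have hbij := (IsAzumaya.bij (R := R) (A := A))
  have heq : (z ⊗ₜ[R] (1 : Aᵐᵒᵖ)) = ((1 : A) ⊗ₜ[R] (MulOpposite.op z) : A ⊗[R] Aᵐᵒᵖ) := by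
    apply hbij.1
    apply LinearMap.ext
    intro x
    simp [AlgHom.mulLeftRight_apply, hz x]
  -- apply id ⊗ (ρ ∘ unop)
  let ρ' : Aᵐᵒᵖ →ₗ[R] R := ρ.comp (MulOpposite.opLinearEquiv R).symm.toLinearMap
  let Φ : A ⊗[R] Aᵐᵒᵖ →ₗ[R] A := (TensorProduct.rid R A).toLinearMap ∘ₗ (LinearMap.lTensor A ρ')
  have h1 : Φ (z ⊗ₜ[R] (1 : Aᵐᵒᵖ)) = z := by
    simp [Φ, ρ', hρ]
  have h2 : Φ ((1 : A) ⊗ₜ[R] (MulOpposite.op z)) = algebraMap R A (ρ z) := by
    simp [Φ, ρ', Algebra.algebraMap_eq_smul_one]
  exact ⟨ρ z, by rw [← h2, ← heq, h1]⟩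

end Center

section BaseChangeCenter

variable {S : Type*} [CommRing S] {R : Type*} [CommRing R] [Algebra S R]
  {A : Type*} [Ring A] [Algebra S A] [Algebra R A] [IsScalarTower S R A]
  (S₁ : Type*) [CommRing S₁] [Algebra S S₁]

/-- the canonical map `S₁ ⊗[S] R → S₁ ⊗[S] A` -/
noncomputable def inclR : S₁ ⊗[S] R →ₐ[S₁] S₁ ⊗[S] A :=
  Algebra.TensorProduct.map (AlgHom.id S₁ S₁) (IsScalarTower.toAlgHom S R A)

@[simp] theorem inclR_tmul (s : S₁) (r : R) :
    inclR (S := S) (A := A) S₁ (s ⊗ₜ[S] r) = s ⊗ₜ[S] algebraMap R A r := by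
  simp [inclR]

theorem inclR_comm (ζ : S₁ ⊗[S] R) (x : S₁ ⊗[S] A) :
    inclR (S := S) (A := A) S₁ ζ * x = x * inclR (S := S) (A := A) S₁ ζ := by
  induction ζ using TensorProduct.induction_on with
  | zero => simp
  | add a b ha hb => rw [map_add, add_mul, mul_add, ha, hb]
  | tmul s r =>
    induction x using TensorProduct.induction_on with
    | zero => simp
    | add a b ha hb => rw [mul_add, add_mul, ha, hb]
    | tmul s' a =>
      rw [inclR_tmul, Algebra.TensorProduct.tmul_mul_tmul, Algebra.TensorProduct.tmul_mul_tmul,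
        mul_comm s s', Algebra.commutes]

/-- **Centre of a flat base change of an Azumaya algebra**: an element of `S₁ ⊗[S] A` commuting
with all `1 ⊗ a` comes from `S₁ ⊗[S] R`. -/
theorem mem_range_inclR_of_central [IsAzumaya R A] [Module.Flat S S₁] (z : S₁ ⊗[S] A)
    (hz : ∀ a : A, z * ((1 : S₁) ⊗ₜ[S] a) = ((1 : S₁) ⊗ₜ[S] a) * z) :
    ∃ ζ : S₁ ⊗[S] R, inclR (S := S) (A := A) S₁ ζ = z := by
  classical
  obtain ⟨G, hG⟩ := (Module.Finite.fg_top : (⊤ : Submodule R A).FG)
  let gen : Fin G.card → A := fun j => ((G.equivFin.symm j : G) : A)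
  have hgen : Submodule.span R (Set.range gen) = ⊤ := by
    rw [← hG]
    congr 1
    ext a
    constructor
    · rintro ⟨j, rfl⟩
      exact (G.equivFin.symm j).2
    · intro ha
      exact ⟨G.equivFin ⟨a, ha⟩, by simp [gen]⟩
  let ι : R →ₗ[S] A := (IsScalarTower.toAlgHom S R A).toLinearMap
  let c : A →ₗ[S] (Fin G.card → A) :=
    LinearMap.pi fun j => (LinearMap.mulLeft S (gen j)) - (LinearMap.mulRight S (gen j))
  have hc : ∀ x j, c x j = gen j * x - x * gen j := fun x j => rfl
  have hex : Function.Exact ι c := by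
    intro x
    constructor
    · intro hx
      have hcomm : ∀ a : A, x * a = a * x := by
        intro a
        have ha : a ∈ Submodule.span R (Set.range gen) := by rw [hgen]; trivial
        induction ha using Submodule.span_induction with
        | mem a ha =>
          obtain ⟨j, rfl⟩ := ha
          have := congrFun hx j
          rw [hc, Pi.zero_apply, sub_eq_zero] at this
          exact this.symm
        | zero => simp
        | add a b _ _ ha hb => rw [mul_add, add_mul, ha, hb]
        | smul r a _ ha => rw [mul_smul_comm, smul_mul_assoc, ha]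
      obtain ⟨r, hr⟩ := mem_range_algebraMap_of_central (R := R) x hcomm
      exact ⟨r, hr⟩
    · rintro ⟨r, rfl⟩
      ext j
      rw [hc, Pi.zero_apply, sub_eq_zero]
      exact (Algebra.commutes r (gen j)).symm
  have hex' := Module.Flat.lTensor_exact S₁ hex
  have hz0 : (c.lTensor S₁) z = 0 := by
    apply (TensorProduct.piRight S S S₁ (fun _ : Fin G.card => A)).injective
    rw [map_zero]
    have key : ∀ w : S₁ ⊗[S] A, (TensorProduct.piRight S S S₁ (fun _ : Fin G.card => A))
        ((c.lTensor S₁) w) = fun j => ((1 : S₁) ⊗ₜ[S] gen j) * w - w * ((1 : S₁) ⊗ₜ[S] gen j) := by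
      intro w
      induction w using TensorProduct.induction_on with
      | zero => ext j; simp
      | add a b ha hb =>
        rw [map_add, map_add, ha, hb]
        ext j
        simp only [Pi.add_apply, mul_add, add_mul]
        abel
      | tmul s x =>
        ext j
        rw [LinearMap.lTensor_tmul, TensorProduct.piRight_apply, TensorProduct.piRightHom_tmul]
        show s ⊗ₜ[S] c x j = _
        rw [hc, Algebra.TensorProduct.tmul_mul_tmul, Algebra.TensorProduct.tmul_mul_tmul, one_mul,
          mul_one, TensorProduct.tmul_sub]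
    rw [key]
    ext j
    rw [Pi.zero_apply, sub_eq_zero]
    exact (hz (gen j)).symm
  obtain ⟨ζ, hζ⟩ := (hex' z).mp hz0
  refine ⟨ζ, ?_⟩
  rw [← hζ]
  clear hζ
  induction ζ using TensorProduct.induction_on with
  | zero => simp
  | add a b ha hb => rw [map_add, map_add, ha, hb]
  | tmul s r => rw [inclR_tmul, LinearMap.lTensor_tmul]; rfl

end BaseChangeCenter

end Groth.Agent.Lib.Seat77.AzInvA
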