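import Mathlib
import Groth.Prelude.Def_AzInv
import Groth.Prelude.Def_W4c2azumayainvolQEt
import Groth.Agent.Lib.Seat77AzInvA

/-!
# Base change of `lam`-involutions: algebraic properties of `LamInv.bc` (seat 77)

For `t : LamInv R A lam` over `S → R` and an `S`-algebra `S'`, the `S'`-linear map
`T = t.bc S lam S'` on `S' ⊗[S] A` is an involutive anti-automorphism, semilinear over
`S' ⊗[S] R` with respect to `id ⊗ lam`, and compatible with change of `S'`.
-/

set_option autoImplicit false
set_option linter.style.haveILetI false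

namespace Groth.Agent.Lib.Seat77.AzInvB

open scoped TensorProduct
open AzInv Groth.Agent.Lib.Seat77.AzInvA

variable {S : Type*} [CommRing S] {R : Type*} [CommRing R] [Algebra S R]
  {A : Type*} [Ring A] [Algebra S A] [Algebra R A] [IsScalarTower S R A]
  (lam : R ≃ₐ[S] R) (t : LamInv R A lam)
  (S' : Type*) [CommRing S'] [Algebra S S']

theorem bc_mul (x y : S' ⊗[S] A) :
    t.bc S lam S' (x * y) = t.bc S lam S' y * t.bc S lam S' x := by
  induction x using TensorProduct.induction_on with
  | zero => simp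
  | add a b ha hb => rw [add_mul, map_add, ha, hb, map_add, mul_add]
  | tmul s a =>
    induction y using TensorProduct.induction_on with
    | zero => simp
    | add c d hc hd => rw [mul_add, map_add, hc, hd, map_add, add_mul]
    | tmul s' a' =>
      rw [Algebra.TensorProduct.tmul_mul_tmul, LamInv.bc_tmul, LamInv.bc_tmul, LamInv.bc_tmul,
        Algebra.TensorProduct.tmul_mul_tmul, t.map_mul, mul_comm]

theorem bc_bc (x : S' ⊗[S] A) : t.bc S lam S' (t.bc S lam S' x) = x := by
  induction x using TensorProduct.induction_on with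
  | zero => simp
  | add a b ha hb => rw [map_add, map_add, ha, hb]
  | tmul s a => rw [LamInv.bc_tmul, LamInv.bc_tmul, t.invol]

theorem bc_one : t.bc S lam S' (1 : S' ⊗[S] A) = 1 := by
  rw [Algebra.TensorProduct.one_def, LamInv.bc_tmul, t.map_one]

theorem bc_algebraMap (s : S') :
    t.bc S lam S' (algebraMap S' (S' ⊗[S] A) s) = algebraMap S' (S' ⊗[S] A) s := by
  rw [Algebra.algebraMap_eq_smul_one, map_smul, bc_one]

theorem bc_surjective : Function.Surjective (t.bc S lam S') :=
  fun x => ⟨t.bc S lam S' x, bc_bc lam t S' x⟩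

theorem bc_injective : Function.Injective (t.bc S lam S') := by
  intro x y h
  rw [← bc_bc lam t S' x, ← bc_bc lam t S' y, h]

/-- `id ⊗ lam` on `S' ⊗[S] R` -/
noncomputable abbrev lamBC : S' ⊗[S] R ≃ₐ[S'] S' ⊗[S] R :=
  Algebra.TensorProduct.congr (AlgEquiv.refl : S' ≃ₐ[S'] S') lam

theorem lamBC_tmul (s : S') (r : R) : lamBC lam S' (s ⊗ₜ[S] r) = s ⊗ₜ[S] lam r := by
  simp [lamBC]

theorem bc_inclR (ζ : S' ⊗[S] R) :
    t.bc S lam S' (inclR (S := S) (A := A) S' ζ) = inclR (S := S) (A := A) S' (lamBC lam S' ζ) := by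
  induction ζ using TensorProduct.induction_on with
  | zero => simp
  | add a b ha hb => rw [map_add, map_add, ha, hb, map_add, map_add]
  | tmul s r =>
    rw [inclR_tmul, LamInv.bc_tmul, lamBC_tmul, inclR_tmul, t.map_algebraMap]

/-- units are carried to units -/
theorem bc_unit_mul (u : (S' ⊗[S] A)ˣ) :
    t.bc S lam S' (↑u⁻¹ : S' ⊗[S] A) * t.bc S lam S' (↑u : S' ⊗[S] A) = 1 := by
  rw [← bc_mul, Units.mul_inv, bc_one]

theorem bc_unit_mul' (u : (S' ⊗[S] A)ˣ) :
    t.bc S lam S' (↑u : S' ⊗[S] A) * t.bc S lam S' (↑u⁻¹ : S' ⊗[S] A) = 1 := by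
  rw [← bc_mul, Units.inv_mul, bc_one]

section Change

variable {S'} {S'' : Type*} [CommRing S''] [Algebra S S''] (φ : S' →ₐ[S] S'')

/-- the change-of-cover map `S' ⊗[S] A → S'' ⊗[S] A` -/
noncomputable def chg : S' ⊗[S] A →ₐ[S] S'' ⊗[S] A :=
  Algebra.TensorProduct.map φ (AlgHom.id S A)

@[simp] theorem chg_tmul (s : S') (a : A) : chg (A := A) φ (s ⊗ₜ[S] a) = φ s ⊗ₜ[S] a := by
  simp [chg]

theorem chg_bc (x : S' ⊗[S] A) :
    chg (A := A) φ (t.bc S lam S' x) = t.bc S lam S'' (chg (A := A) φ x) := by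
  induction x using TensorProduct.induction_on with
  | zero => simp
  | add a b ha hb => rw [map_add, map_add, ha, hb, map_add, map_add]
  | tmul s a => rw [LamInv.bc_tmul, chg_tmul, chg_tmul, LamInv.bc_tmul]

theorem chg_congr (ψ : A ≃ₐ[R] A) (x : S' ⊗[S] A) :
    chg (A := A) φ (Algebra.TensorProduct.congr (AlgEquiv.refl : S' ≃ₐ[S'] S')
      (ψ.restrictScalars S) x) =
    Algebra.TensorProduct.congr (AlgEquiv.refl : S'' ≃ₐ[S''] S'') (ψ.restrictScalars S)
      (chg (A := A) φ x) := by
  induction x using TensorProduct.induction_on with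
  | zero => simp
  | add a b ha hb => rw [map_add, map_add, ha, hb, map_add, map_add]
  | tmul s a => simp

theorem chg_algebraMap (s : S') :
    chg (A := A) φ (algebraMap S' (S' ⊗[S] A) s) = algebraMap S'' (S'' ⊗[S] A) (φ s) := by
  rw [Algebra.TensorProduct.algebraMap_apply, Algebra.TensorProduct.algebraMap_apply]
  simp

end Change

end Groth.Agent.Lib.Seat77.AzInvB
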