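import Mathlib
import Groth.Agent.Lib.Seat77AzInvB
import Groth.Agent.Lib.Seat25AzInvB

/-!
# Involution-adapted matrix units and local isomorphism with a matrix algebra with involution

`R` a commutative ring with involution `lam` over `S`, `A` an Azumaya `R`-algebra of degree `n` with a
`lam`-involution `t`, `W` a (global) invertible matrix with `lamT W = e • W`.  A system of `n × n`
matrix units `E` of `S' ⊗[S] A` is `W`-adapted when `t(E a b) = Ŵ E b a Ŵ⁻¹`, `Ŵ = ∑ W a b E a b`.
`W`-adapted units over an étale faithfully flat `S'` give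
`LocIsoEt S lam t ((transpose lam).conj W e)`.
-/

set_option autoImplicit false

open scoped TensorProduct

namespace Groth.Agent.Lib.Seat25.AzInvD

open Groth.Agent.Lib.Seat25.AzSH Groth.Agent.Lib.Seat25.AzInvA Groth.Agent.Lib.Seat25.AzInvB
open Groth.Agent.Lib.Seat77.AzInvA Groth.Agent.Lib.Seat77.AzInvB
open AzInv

section MatMap

universe u v

variable (C : Type u) [CommRing C] (A : Type v) [Ring A] [Algebra C A] [IsAzumaya C A]

omit [IsAzumaya C A] in
theorem matMap_single (n : ℕ) (e : Fin n → Fin n → A) (a b : Fin n) (c : C) :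
    matMap C A n e (Matrix.single a b c) = c • e a b := by
  classical
  rw [matMap_apply, Finset.sum_eq_single a, Finset.sum_eq_single b]
  · rw [Matrix.single_apply_same]
  · intro b' _ hb'
    rw [Matrix.single_apply_of_ne _ _ _ _ _ (fun h => hb' h.2.symm), zero_smul]
  · intro h
    exact absurd (Finset.mem_univ b) h
  · intro a' _ ha'
    refine Finset.sum_eq_zero fun b' _ => ?_
    rw [Matrix.single_apply_of_ne _ _ _ _ _ (fun h => ha' h.1.symm), zero_smul]
  · intro h
    exact absurd (Finset.mem_univ a) h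

/-- an Azumaya algebra of constant rank `n²` with matrix units `e` is the matrix algebra, via
`matMap`. -/
theorem exists_algEquiv_matMap (n : ℕ) (hn : 0 < n)
    (hrank : ∀ p : PrimeSpectrum C, Module.rankAtStalk (R := C) A p = n ^ 2)
    (e : Fin n → Fin n → A) (he : ∀ a b c d, e a b * e c d = if b = c then e a d else 0)
    (h1 : ∑ a, e a a = 1) :
    ∃ g : Matrix (Fin n) (Fin n) C ≃ₐ[C] A, ∀ M, g M = matMap C A n e M := by
  classical
  have : Module.Finite C A := IsAzumaya.toFinite (R := C)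
  have : Module.Projective C A := IsAzumaya.toProjective (R := C)
  have : FaithfulSMul C A := IsAzumaya.toFaithfulSMul (R := C)
  have : Nonempty (Fin n) := ⟨⟨0, hn⟩⟩
  let g : Matrix (Fin n) (Fin n) C →ₐ[C] A :=
    AlgHom.ofLinearMap (matMap C A n e) (matMap_one C n e h1) (matMap_mul C n e he)
  have hinj : Function.Injective g := matMap_injective C n e he h1
  have hsurj : Function.Surjective g := by
    have h2 : Function.Surjective g.toLinearMap := by
      apply Groth.Agent.Lib.Seat25.AzFree.surjective_of_forall_maximal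
      intro P hP
      let _ : Field (C ⧸ P) := Ideal.Quotient.field P
      have : Nontrivial C := (Ideal.Quotient.mk P).domain_nontrivial
      have hAzM : IsAzumaya C (Matrix (Fin n) (Fin n) C) := IsAzumaya.matrix C (Fin n)
      have hAzF : IsAzumaya (C ⧸ P) ((C ⧸ P) ⊗[C] Matrix (Fin n) (Fin n) C) :=
        Groth.Agent.Lib.LeadAzumaya.isAzumaya_baseChange (C ⧸ P) (Matrix (Fin n) (Fin n) C)
      have : IsSimpleRing ((C ⧸ P) ⊗[C] Matrix (Fin n) (Fin n) C) :=
        Groth.Agent.Lib.LeadAzumaya.isSimpleRing_of_isAzumaya_field (k := C ⧸ P)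
      have hrB : Module.finrank (C ⧸ P) ((C ⧸ P) ⊗[C] Matrix (Fin n) (Fin n) C) = n ^ 2 := by
        rw [Module.finrank_baseChange, Module.finrank_matrix, Module.finrank_self]
        simp [sq]
      have hrC : Module.finrank (C ⧸ P) ((C ⧸ P) ⊗[C] A) = n ^ 2 := by
        have hAzA : IsAzumaya (C ⧸ P) ((C ⧸ P) ⊗[C] A) :=
          Groth.Agent.Lib.LeadAzumaya.isAzumaya_baseChange (C ⧸ P) A
        have : Module.Finite (C ⧸ P) ((C ⧸ P) ⊗[C] A) := IsAzumaya.toFinite (R := C ⧸ P)
        have h3 := Module.rankAtStalk_baseChange (R := C) (M := A) (S := C ⧸ P)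
          (⟨⊥, Ideal.isPrime_bot⟩ : PrimeSpectrum (C ⧸ P))
        rw [hrank] at h3
        rw [← h3, Module.rankAtStalk_eq_finrank_of_free]
        rfl
      have : Nontrivial ((C ⧸ P) ⊗[C] A) := by
        apply Module.nontrivial_of_finrank_pos (R := C ⧸ P)
        rw [hrC]
        positivity
      let gP : (C ⧸ P) ⊗[C] Matrix (Fin n) (Fin n) C →ₐ[C ⧸ P] (C ⧸ P) ⊗[C] A :=
        Algebra.TensorProduct.map (AlgHom.id (C ⧸ P) (C ⧸ P)) g
      have hgP : Function.Injective gP := RingHom.injective gP.toRingHom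
      have hgP' : Function.Surjective gP :=
        (LinearMap.injective_iff_surjective_of_finrank_eq_finrank
          (f := gP.toLinearMap) (hrB.trans hrC.symm)).mp hgP
      have heq : ⇑(g.toLinearMap.lTensor (C ⧸ P)) = ⇑gP := by
        ext x
        induction x using TensorProduct.induction_on with
        | zero => simp
        | tmul a b => simp [gP]
        | add x y hx hy => simp only [map_add, hx, hy]
      rw [heq]
      exact hgP'
    exact h2
  exact ⟨AlgEquiv.ofBijective g ⟨hinj, hsurj⟩, fun M => rfl⟩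

end MatMap

section F0

universe u v w u'

variable (S : Type u) (R : Type v) [CommRing S] [CommRing R] [Algebra S R]
  (A : Type w) [Ring A] [Algebra S A] [Algebra R A] [IsScalarTower S R A]
  (n : ℕ) (hn : 0 < n) (hA : AzInv.IsAzumayaDeg R A n)
  (S' : Type u') [CommRing S'] [Algebra S S']

theorem theta_symm_inclR (ζ : S' ⊗[S] R) :
    (theta S R A S').symm (inclR (S := S) (A := A) S' ζ) =
      (Algebra.TensorProduct.comm S R S').symm ζ ⊗ₜ[R] (1 : A) := by
  induction ζ using TensorProduct.induction_on with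
  | zero => simp
  | tmul s r =>
    rw [inclR_tmul, theta_symm_tmul, Algebra.algebraMap_eq_smul_one, ← TensorProduct.smul_tmul,
      TensorProduct.smul_tmul', smul_eq_mul, mul_one]
    rfl
  | add x y hx hy => rw [map_add, map_add, hx, hy, map_add, TensorProduct.add_tmul]

include hn hA in
/-- matrix units of `S' ⊗[S] A` give an isomorphism with the matrix algebra over `S' ⊗[S] R`,
linear over `S' ⊗[S] R` and carrying the given units to the standard ones. -/
theorem exists_algEquiv_of_matrixUnits (E : Fin n → Fin n → S' ⊗[S] A)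
    (hE : ∀ a b c d, E a b * E c d = if b = c then E a d else 0) (h1 : ∑ a, E a a = 1) :
    ∃ f : S' ⊗[S] A ≃ₐ[S'] Matrix (Fin n) (Fin n) (S' ⊗[S] R),
      (∀ (ζ : S' ⊗[S] R) (x : S' ⊗[S] A),
        f (inclR (S := S) (A := A) S' ζ * x) = Matrix.scalar (Fin n) ζ * f x) ∧
      ∀ a b, f (E a b) = Matrix.single a b 1 := by
  classical
  have hAz : IsAzumaya R A := hA.1
  have hAzC : IsAzumaya (R ⊗[S] S') ((R ⊗[S] S') ⊗[R] A) :=
    Groth.Agent.Lib.LeadAzumaya.isAzumaya_baseChange (R ⊗[S] S') A
  have hrank := rankAtStalk_baseChange_eq R A n hA (R ⊗[S] S')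
  let th := theta S R A S'
  let e' : Fin n → Fin n → (R ⊗[S] S') ⊗[R] A := fun a b => th.symm (E a b)
  have he' : ∀ a b c d, e' a b * e' c d = if b = c then e' a d else 0 := by
    intro a b c d
    change th.symm (E a b) * th.symm (E c d) = _
    rw [← map_mul, hE]
    split_ifs
    · rfl
    · exact map_zero _
  have h1' : ∑ a, e' a a = 1 := by
    change ∑ a, th.symm (E a a) = 1
    rw [← map_sum, h1, map_one]
  obtain ⟨g, hg⟩ := exists_algEquiv_matMap (R ⊗[S] S') ((R ⊗[S] S') ⊗[R] A) n hn hrank e' he' h1'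
  let cm : R ⊗[S] S' ≃ₐ[S] S' ⊗[S] R := Algebra.TensorProduct.comm S R S'
  let f₀ : S' ⊗[S] A ≃+* Matrix (Fin n) (Fin n) (S' ⊗[S] R) :=
    (th.symm.trans g.symm.toRingEquiv).trans (cm.mapMatrix (m := Fin n)).toRingEquiv
  have hf₀ : ∀ x, f₀ x = (cm.mapMatrix (m := Fin n)) (g.symm (th.symm x)) := fun x => rfl
  have key : ∀ (c : R ⊗[S] S') (x : S' ⊗[S] A), th.symm x = c ⊗ₜ[R] (1 : A) →
      f₀ x = Matrix.scalar (Fin n) (cm c) := by
    intro c x hx
    rw [hf₀, hx]
    have h2 : c ⊗ₜ[R] (1 : A) = algebraMap (R ⊗[S] S') ((R ⊗[S] S') ⊗[R] A) c := by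
      rw [Algebra.TensorProduct.algebraMap_apply, Algebra.algebraMap_self, RingHom.id_apply]
    rw [h2, g.symm.commutes]
    ext i j
    simp [Matrix.algebraMap_matrix_apply, Matrix.scalar_apply, Matrix.diagonal_apply]
    split_ifs <;> simp
  have hincl : ∀ ζ : S' ⊗[S] R, f₀ (inclR (S := S) (A := A) S' ζ) = Matrix.scalar (Fin n) ζ := by
    intro ζ
    rw [key (cm.symm ζ) _ (theta_symm_inclR S R A S' ζ), AlgEquiv.apply_symm_apply]
  have hcomm : ∀ s : S', f₀ (algebraMap S' (S' ⊗[S] A) s) =
      algebraMap S' (Matrix (Fin n) (Fin n) (S' ⊗[S] R)) s := by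
    intro s
    have : algebraMap S' (S' ⊗[S] A) s = inclR (S := S) (A := A) S' (s ⊗ₜ[S] (1 : R)) := by
      rw [inclR_tmul, map_one, Algebra.TensorProduct.algebraMap_apply, Algebra.algebraMap_self,
        RingHom.id_apply]
    rw [this, hincl]
    ext i j
    simp [Matrix.algebraMap_matrix_apply, Matrix.scalar_apply, Matrix.diagonal_apply]
  refine ⟨AlgEquiv.ofRingEquiv hcomm, fun ζ x => ?_, fun a b => ?_⟩
  · change f₀ (_ * x) = _ * f₀ x
    rw [map_mul, hincl]
  · change f₀ (E a b) = _
    rw [hf₀]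
    have : g.symm (th.symm (E a b)) = Matrix.single a b 1 := by
      rw [AlgEquiv.symm_apply_eq, hg, matMap_single, one_smul]
    rw [this]
    ext i j
    simp [Matrix.single_apply]

end F0

section Adapted

universe u v w u'

variable (S : Type u) {R : Type v} [CommRing S] [CommRing R] [Algebra S R]
  {A : Type w} [Ring A] [Algebra S A] [Algebra R A] [IsScalarTower S R A]
  (lam : R ≃ₐ[S] R) (t : LamInv R A lam) {n : ℕ}
  (S' : Type u') [CommRing S'] [Algebra S S']

/-- the element `∑ (M a b) E a b` of `S' ⊗[S] A`. -/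
noncomputable def matElt (E : Fin n → Fin n → S' ⊗[S] A) (M : Matrix (Fin n) (Fin n) R) :
    S' ⊗[S] A :=
  ∑ a, ∑ b, ((1 : S') ⊗ₜ[S] algebraMap R A (M a b)) * E a b

/-- `E` is a system of matrix units of `S' ⊗[S] A` on which the base change of `t` acts by
`E a b ↦ Ŵ E b a Ŵ'`. -/
structure IsAdapted (W W' : Matrix (Fin n) (Fin n) R) (E : Fin n → Fin n → S' ⊗[S] A) :
    Prop where
  mul : ∀ a b c d, E a b * E c d = if b = c then E a d else 0
  sum : ∑ a, E a a = 1
  inv : ∀ a b, t.bc S lam S' (E a b) = matElt S S' E W * E b a * matElt S S' E W'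

/-- `r ↦ 1 ⊗ r`. -/
noncomputable abbrev incR : R →ₐ[S] S' ⊗[S] R := Algebra.TensorProduct.includeRight

variable {S S'} in
theorem map_matElt (f : S' ⊗[S] A ≃ₐ[S'] Matrix (Fin n) (Fin n) (S' ⊗[S] R))
    (hf : ∀ (ζ : S' ⊗[S] R) (x : S' ⊗[S] A),
      f (inclR (S := S) (A := A) S' ζ * x) = Matrix.scalar (Fin n) ζ * f x)
    (E : Fin n → Fin n → S' ⊗[S] A) (hE : ∀ a b, f (E a b) = Matrix.single a b 1)
    (M : Matrix (Fin n) (Fin n) R) : f (matElt S S' E M) = M.map (incR S S') := by
  classical
  rw [matElt, map_sum]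
  simp_rw [map_sum]
  rw [Matrix.matrix_eq_sum_single (M.map (incR S S'))]
  refine Finset.sum_congr rfl fun a _ => Finset.sum_congr rfl fun b _ => ?_
  have h1 : ((1 : S') ⊗ₜ[S] algebraMap R A (M a b)) =
      inclR (S := S) (A := A) S' ((1 : S') ⊗ₜ[S] M a b) := (inclR_tmul S' 1 (M a b)).symm
  rw [h1, hf, hE]
  ext i j
  simp [Matrix.single_apply]

variable {S S'} in
/-- transport of the involution through `f`: it becomes `X ↦ W · lamT X · W'`. -/
theorem map_bc_symm (f : S' ⊗[S] A ≃ₐ[S'] Matrix (Fin n) (Fin n) (S' ⊗[S] R))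
    (hf : ∀ (ζ : S' ⊗[S] R) (x : S' ⊗[S] A),
      f (inclR (S := S) (A := A) S' ζ * x) = Matrix.scalar (Fin n) ζ * f x)
    (W W' : Matrix (Fin n) (Fin n) R) (E : Fin n → Fin n → S' ⊗[S] A)
    (hE : ∀ a b, f (E a b) = Matrix.single a b 1) (had : IsAdapted S lam t S' W W' E)
    (M : Matrix (Fin n) (Fin n) (S' ⊗[S] R)) :
    f (t.bc S lam S' (f.symm M)) =
      W.map (incR S S') * AzInv.lamTr (lamBC lam S') M * W'.map (incR S S') := by
  classical
  induction M using Matrix.induction_on' with
  | h_zero =>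
    have : AzInv.lamTr (lamBC lam S') (0 : Matrix (Fin n) (Fin n) (S' ⊗[S] R)) = 0 := by
      ext i j; simp
    rw [map_zero, map_zero, map_zero, this, mul_zero, zero_mul]
  | h_add p q hp hq =>
    have : AzInv.lamTr (lamBC lam S') (p + q) =
        AzInv.lamTr (lamBC lam S') p + AzInv.lamTr (lamBC lam S') q := by
      ext i j; simp
    rw [map_add, map_add, map_add, hp, hq, this, mul_add, add_mul]
  | h_std_basis a b ζ =>
    have h1 : f.symm (Matrix.single a b ζ) = inclR (S := S) (A := A) S' ζ * E a b := by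
      rw [AlgEquiv.symm_apply_eq, hf, hE]
      ext i j
      simp [Matrix.single_apply]
    have h2 : AzInv.lamTr (lamBC lam S') (Matrix.single a b ζ) =
        Matrix.single b a 1 * Matrix.scalar (Fin n) (lamBC lam S' ζ) := by
      ext i j
      simp [Matrix.single_apply, and_comm]
      split_ifs <;> simp
    rw [h1, bc_mul, bc_inclR, had.inv, ← inclR_comm, hf, map_mul, map_mul,
      map_matElt f hf E hE, map_matElt f hf E hE, hE, h2]
    simp only [← mul_assoc]
    have hc : ∀ X : Matrix (Fin n) (Fin n) (S' ⊗[S] R),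
        Matrix.scalar (Fin n) (lamBC lam S' ζ) * X = X * Matrix.scalar (Fin n) (lamBC lam S' ζ) :=
      fun X => (Matrix.scalar_commute _ (fun r' => Commute.all _ r') X).eq
    congr 1
    rw [mul_assoc, hc, mul_assoc]

end Adapted

section Gamma

universe u v u'

variable (S : Type u) (R : Type v) [CommRing S] [CommRing R] [Algebra S R]
  (S' : Type u') [CommRing S'] [Algebra S S'] (n : ℕ)

/-- `S' ⊗[S] M_n(R) → M_n(S' ⊗[S] R)`. -/
noncomputable def gammaHom :
    S' ⊗[S] Matrix (Fin n) (Fin n) R →ₐ[S'] Matrix (Fin n) (Fin n) (S' ⊗[S] R) :=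
  Algebra.TensorProduct.lift (Algebra.ofId S' (Matrix (Fin n) (Fin n) (S' ⊗[S] R)))
    ((incR S S').mapMatrix)
    (fun s M => by
      rw [Algebra.ofId_apply]
      exact Algebra.commute_algebraMap_left s _)

theorem gammaHom_tmul (s : S') (M : Matrix (Fin n) (Fin n) R) :
    gammaHom S R S' n (s ⊗ₜ[S] M) = s • M.map (incR S S') := by
  rw [gammaHom, Algebra.TensorProduct.lift_tmul, Algebra.ofId_apply, ← Algebra.smul_def]
  rfl

/-- the underlying linear equivalence. -/
noncomputable def gammaLin :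
    S' ⊗[S] Matrix (Fin n) (Fin n) R ≃ₗ[S'] Matrix (Fin n) (Fin n) (S' ⊗[S] R) :=
  (TensorProduct.piRight S S' S' (fun _ : Fin n => Fin n → R)).trans
    (LinearEquiv.piCongrRight fun _ => TensorProduct.piRight S S' S' (fun _ : Fin n => R))

theorem gammaHom_eq (x : S' ⊗[S] Matrix (Fin n) (Fin n) R) :
    gammaHom S R S' n x = gammaLin S R S' n x := by
  induction x using TensorProduct.induction_on with
  | zero => simp
  | tmul s M =>
    rw [gammaHom_tmul]
    ext i j
    simp only [gammaLin, Matrix.smul_apply, Matrix.map_apply,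
      Algebra.TensorProduct.includeRight_apply, TensorProduct.smul_tmul', smul_eq_mul, mul_one]
    rfl
  | add x y hx hy => rw [map_add, map_add, hx, hy]

/-- `S' ⊗[S] M_n(R) ≃ M_n(S' ⊗[S] R)`. -/
noncomputable def gamma :
    S' ⊗[S] Matrix (Fin n) (Fin n) R ≃ₐ[S'] Matrix (Fin n) (Fin n) (S' ⊗[S] R) :=
  AlgEquiv.ofBijective (gammaHom S R S' n) (by
    have : ⇑(gammaHom S R S' n) = ⇑(gammaLin S R S' n) := funext (gammaHom_eq S R S' n)
    rw [this]
    exact (gammaLin S R S' n).bijective)

theorem gamma_tmul (s : S') (M : Matrix (Fin n) (Fin n) R) :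
    gamma S R S' n (s ⊗ₜ[S] M) = s • M.map (incR S S') := gammaHom_tmul S R S' n s M

end Gamma

section TheoremA

universe u v w

variable (S : Type u) {R : Type v} [CommRing S] [CommRing R] [Algebra S R]
  {A : Type w} [Ring A] [Algebra S A] [Algebra R A] [IsScalarTower S R A]
  (lam : R ≃ₐ[S] R) (hlam : ∀ r, lam (lam r) = r) (t : LamInv R A lam) {n : ℕ}

theorem lamTr_map_incR (S' : Type*) [CommRing S'] [Algebra S S']
    (N : Matrix (Fin n) (Fin n) R) :
    (AzInv.lamTr lam N).map (incR S S') = AzInv.lamTr (lamBC lam S') (N.map (incR S S')) := by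
  ext i j
  simp [lamBC]

/-- the base change of `X ↦ W · lamT X · W⁻¹` through `gamma`. -/
theorem gamma_bc (S' : Type*) [CommRing S'] [Algebra S S']
    (Wu : (Matrix (Fin n) (Fin n) R)ˣ) (e : R)
    (hW : LamInv.transpose lam (Fin n) hlam (↑Wu : Matrix (Fin n) (Fin n) R) =
      e • (↑Wu : Matrix (Fin n) (Fin n) R)) (he : lam e * e = 1)
    (y : S' ⊗[S] Matrix (Fin n) (Fin n) R) :
    gamma S R S' n (((LamInv.transpose lam (Fin n) hlam).conj Wu e hW he).bc S lam S' y) =
      (↑Wu : Matrix (Fin n) (Fin n) R).map (incR S S') *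
        AzInv.lamTr (lamBC lam S') (gamma S R S' n y) *
        (↑Wu⁻¹ : Matrix (Fin n) (Fin n) R).map (incR S S') := by
  induction y using TensorProduct.induction_on with
  | zero =>
    have : AzInv.lamTr (lamBC lam S') (0 : Matrix (Fin n) (Fin n) (S' ⊗[S] R)) = 0 := by
      ext i j; simp
    rw [map_zero, map_zero, this, mul_zero, zero_mul]
  | tmul s N =>
    rw [LamInv.bc_tmul, gamma_tmul, gamma_tmul, LamInv.conj_apply]
    have h1 : LamInv.transpose lam (Fin n) hlam N = AzInv.lamTr lam N := rfl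
    have h2 : AzInv.lamTr (lamBC lam S') (s • N.map (incR S S')) =
        s • AzInv.lamTr (lamBC lam S') (N.map (incR S S')) := by
      ext i j
      simp only [AzInv.lamTr_apply, Matrix.smul_apply, map_smul]
    rw [h1, Matrix.map_mul, Matrix.map_mul, lamTr_map_incR, h2, Matrix.mul_smul,
      Matrix.smul_mul]
  | add x y hx hy =>
    have : AzInv.lamTr (lamBC lam S') (gamma S R S' n x + gamma S R S' n y) =
        AzInv.lamTr (lamBC lam S') (gamma S R S' n x) +
          AzInv.lamTr (lamBC lam S') (gamma S R S' n y) := by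
      ext i j; simp
    rw [map_add, map_add, map_add, hx, hy, this, mul_add, add_mul]

include hlam in
/-- **`W`-adapted matrix units over an étale covering give a local isomorphism with the matrix
algebra with involution `X ↦ W · lamT X · W⁻¹`.** -/
theorem locIsoEt_of_isAdapted (hn : 0 < n) (hA : AzInv.IsAzumayaDeg R A n)
    (Wu : (Matrix (Fin n) (Fin n) R)ˣ) (e : R)
    (hW : LamInv.transpose lam (Fin n) hlam (↑Wu : Matrix (Fin n) (Fin n) R) =
      e • (↑Wu : Matrix (Fin n) (Fin n) R)) (he : lam e * e = 1)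
    (S' : Type u) [CommRing S'] [Algebra S S'] [hE : Algebra.Etale S S']
    [hff : Module.FaithfullyFlat S S'] (E : Fin n → Fin n → S' ⊗[S] A)
    (had : IsAdapted S lam t S' (↑Wu : Matrix (Fin n) (Fin n) R)
      (↑Wu⁻¹ : Matrix (Fin n) (Fin n) R) E) :
    AzInv.LocIsoEt S lam t ((LamInv.transpose lam (Fin n) hlam).conj Wu e hW he) := by
  classical
  obtain ⟨f₀, hf₀, hfE⟩ := exists_algEquiv_of_matrixUnits S R A n hn hA S' E had.mul had.sum
  refine ⟨S', inferInstance, inferInstance, hE, hff, f₀.trans (gamma S R S' n).symm, ?_, ?_⟩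
  · intro r x
    rw [AlgEquiv.trans_apply, AlgEquiv.trans_apply]
    have h1 : ((1 : S') ⊗ₜ[S] algebraMap R A r) =
        inclR (S := S) (A := A) S' ((1 : S') ⊗ₜ[S] r) := (inclR_tmul S' 1 r).symm
    rw [h1, hf₀, map_mul]
    congr 1
    rw [AlgEquiv.symm_apply_eq, gamma_tmul, one_smul]
    ext i j
    simp [Matrix.algebraMap_matrix_apply, Matrix.diagonal_apply]
    split_ifs <;> simp
  · intro x
    rw [AlgEquiv.trans_apply, AlgEquiv.trans_apply, AlgEquiv.symm_apply_eq, gamma_bc,
      AlgEquiv.apply_symm_apply]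
    have := map_bc_symm lam t f₀ hf₀ _ _ E hfE had (f₀ x)
    rw [AlgEquiv.symm_apply_apply] at this
    exact this

end TheoremA

section Compose

universe u v w w' w''

variable (S : Type u) {R : Type v} [CommRing S] [CommRing R] [Algebra S R]
  {A : Type w} [Ring A] [Algebra S A] [Algebra R A] [IsScalarTower S R A]
  {A' : Type w'} [Ring A'] [Algebra S A'] [Algebra R A'] [IsScalarTower S R A']
  {A'' : Type w''} [Ring A''] [Algebra S A''] [Algebra R A''] [IsScalarTower S R A'']
  (lam : R ≃ₐ[S] R)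

/-- base change of a global isomorphism of algebras with involution commutes with the base-changed
involutions. -/
theorem congr_bc {t' : LamInv R A' lam} {t'' : LamInv R A'' lam} (g : A' ≃ₐ[R] A'')
    (hg : AzInv.IsInvHom t' t'' g) (S' : Type*) [CommRing S'] [Algebra S S'] (x : S' ⊗[S] A') :
    Algebra.TensorProduct.congr (AlgEquiv.refl : S' ≃ₐ[S'] S') (g.restrictScalars S)
      (t'.bc S lam S' x) =
    t''.bc S lam S' (Algebra.TensorProduct.congr (AlgEquiv.refl : S' ≃ₐ[S'] S')
      (g.restrictScalars S) x) := by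
  induction x using TensorProduct.induction_on with
  | zero => simp
  | tmul s a =>
    rw [LamInv.bc_tmul, Algebra.TensorProduct.congr_apply, Algebra.TensorProduct.map_tmul,
      Algebra.TensorProduct.congr_apply, Algebra.TensorProduct.map_tmul, LamInv.bc_tmul]
    exact congrArg _ (hg a)
  | add x y hx hy => rw [map_add, map_add, map_add, map_add, hx, hy]

/-- compose a local isomorphism with a global one on the right. -/
theorem locIsoEt_trans_algEquiv {t : LamInv R A lam} {t' : LamInv R A' lam}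
    {t'' : LamInv R A'' lam} (h : AzInv.LocIsoEt S lam t t') (g : A' ≃ₐ[R] A'')
    (hg : AzInv.IsInvHom t' t'' g) : AzInv.LocIsoEt S lam t t'' := by
  obtain ⟨S', _, _, hE, hff, f, h1, h2⟩ := h
  refine ⟨S', inferInstance, inferInstance, hE, hff,
    f.trans (Algebra.TensorProduct.congr (AlgEquiv.refl : S' ≃ₐ[S'] S') (g.restrictScalars S)),
    fun r x => ?_, fun x => ?_⟩
  · rw [AlgEquiv.trans_apply, AlgEquiv.trans_apply, h1, map_mul]
    congr 1
    rw [Algebra.TensorProduct.congr_apply, Algebra.TensorProduct.map_tmul]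
    congr 1
    exact g.commutes r
  · rw [AlgEquiv.trans_apply, AlgEquiv.trans_apply, h2, congr_bc S lam g hg]

/-- compose a global isomorphism (on the left) with a local one. -/
theorem algEquiv_trans_locIsoEt {t : LamInv R A lam} {t' : LamInv R A' lam}
    {t'' : LamInv R A'' lam} (g : A ≃ₐ[R] A') (hg : AzInv.IsInvHom t t' g)
    (h : AzInv.LocIsoEt S lam t' t'') : AzInv.LocIsoEt S lam t t'' := by
  obtain ⟨S', _, _, hE, hff, f, h1, h2⟩ := h
  refine ⟨S', inferInstance, inferInstance, hE, hff,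
    (Algebra.TensorProduct.congr (AlgEquiv.refl : S' ≃ₐ[S'] S') (g.restrictScalars S)).trans f,
    fun r x => ?_, fun x => ?_⟩
  · rw [AlgEquiv.trans_apply, AlgEquiv.trans_apply, map_mul]
    have : Algebra.TensorProduct.congr (AlgEquiv.refl : S' ≃ₐ[S'] S') (g.restrictScalars S)
        ((1 : S') ⊗ₜ[S] algebraMap R A r) = (1 : S') ⊗ₜ[S] algebraMap R A' r := by
      rw [Algebra.TensorProduct.congr_apply, Algebra.TensorProduct.map_tmul]
      congr 1
      exact g.commutes r
    rw [this, h1]
  · rw [AlgEquiv.trans_apply, AlgEquiv.trans_apply, congr_bc S lam g hg, h2]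

end Compose

end Groth.Agent.Lib.Seat25.AzInvD
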