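import Mathlib
import Groth.Agent.Lib.Seat25AzInvC
import Groth.Agent.Lib.Seat25AzInvD

/-!
# Descent and globalization of involution-adapted matrix units
-/

set_option autoImplicit false

open scoped TensorProduct
open IsLocalRing

namespace Groth.Agent.Lib.Seat25.AzInvE

open Groth.Agent.Lib.Seat25.AzSH Groth.Agent.Lib.Seat25.AzDesc Groth.Agent.Lib.Seat25.AzInvA
  Groth.Agent.Lib.Seat25.AzInvB Groth.Agent.Lib.Seat25.AzInvC Groth.Agent.Lib.Seat25.AzInvD
open Groth.Agent.Lib.Seat77.AzInvA Groth.Agent.Lib.Seat77.AzInvB
open Groth.Agent.Lib.Helper3 Groth.Agent.Lib.Helper3.IndEt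
open Groth.Agent.Lib.Seat14.EtLoc
open AzInv

universe u v w

variable (S : Type u) {R : Type v} [CommRing S] [CommRing R] [Algebra S R]
  {A : Type w} [Ring A] [Algebra S A] [Algebra R A] [IsScalarTower S R A]
  (lam : R ≃ₐ[S] R) (t : LamInv R A lam) {n : ℕ}
  (W W' : Matrix (Fin n) (Fin n) R)

section Natural

variable {P Q : Type*} [CommRing P] [CommRing Q] [Algebra S P] [Algebra S Q] (h : P →ₐ[S] Q)

omit [Algebra S R] [IsScalarTower S R A] in
theorem map_matElt' (E : Fin n → Fin n → P ⊗[S] A) (M : Matrix (Fin n) (Fin n) R) :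
    Algebra.TensorProduct.map h (AlgHom.id S A) (matElt S P E M) =
      matElt S Q (fun a b => Algebra.TensorProduct.map h (AlgHom.id S A) (E a b)) M := by
  simp only [matElt, map_sum, map_mul, Algebra.TensorProduct.map_tmul, map_one, AlgHom.id_apply]

theorem map_bc (x : P ⊗[S] A) :
    Algebra.TensorProduct.map h (AlgHom.id S A) (t.bc S lam P x) =
      t.bc S lam Q (Algebra.TensorProduct.map h (AlgHom.id S A) x) :=
  chg_bc lam t h x

variable {S lam t W W'} in
theorem IsAdapted.map {E : Fin n → Fin n → P ⊗[S] A} (had : IsAdapted S lam t P W W' E) :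
    IsAdapted S lam t Q W W'
      (fun a b => Algebra.TensorProduct.map h (AlgHom.id S A) (E a b)) where
  mul a b c d := by
    rw [← map_mul, had.mul]
    split_ifs
    · rfl
    · exact map_zero _
  sum := by rw [← map_sum, had.sum, map_one]
  inv a b := by
    rw [← map_bc, had.inv, map_mul, map_mul, map_matElt', map_matElt']

end Natural

section Descend

/-- adapted units descend from an ind-étale algebra to an étale one. -/
theorem isAdapted_descend {T : Type u} [CommRing T] [Algebra S T] (hF : Obj.Factor S T)
    (ET : Fin n → Fin n → T ⊗[S] A) (had : IsAdapted S lam t T W W' ET) :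
    ∃ (E : Type u) (_ : CommRing E) (_ : Algebra S E) (_ : Algebra.Etale S E)
      (_ : E →ₐ[S] T) (EE : Fin n → Fin n → E ⊗[S] A), IsAdapted S lam t E W W' EE := by
  classical
  obtain ⟨E, _, _, _, g, e', he'⟩ := lift_etale A hF (fun ab : Fin n × Fin n => ET ab.1 ab.2)
  let e'' : Fin n → Fin n → E ⊗[S] A := fun a b => e' (a, b)
  have hg : ∀ a b, bc A g (e'' a b) = ET a b := fun a b => he' (a, b)
  have hadg : (fun a b => bc A g (e'' a b)) = ET := by
    funext a b; exact hg a b
  let z : Option (Fin n × Fin n × Fin n × Fin n) ⊕ (Fin n × Fin n) → E ⊗[S] A := fun o =>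
    match o with
    | Sum.inl none => ∑ a, e'' a a - 1
    | Sum.inl (some (a, b, c, d)) => e'' a b * e'' c d - if b = c then e'' a d else 0
    | Sum.inr (a, b) =>
      t.bc S lam E (e'' a b) - matElt S E e'' W * e'' b a * matElt S E e'' W'
  have hz : ∀ o, bc A g (z o) = 0 := by
    intro o
    match o with
    | Sum.inl none =>
      change bc A g (∑ a, e'' a a - 1) = 0
      rw [map_sub, map_sum, map_one, sub_eq_zero, ← had.sum]
      exact Finset.sum_congr rfl fun a _ => hg a a
    | Sum.inl (some (a, b, c, d)) =>
      change bc A g (e'' a b * e'' c d - if b = c then e'' a d else 0) = 0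
      rw [map_sub, map_mul, hg, hg, sub_eq_zero, had.mul a b c d]
      split_ifs
      · exact (hg a d).symm
      · exact (map_zero _).symm
    | Sum.inr (a, b) =>
      change bc A g (t.bc S lam E (e'' a b) -
        matElt S E e'' W * e'' b a * matElt S E e'' W') = 0
      rw [map_sub, map_mul, map_mul, sub_eq_zero]
      change Algebra.TensorProduct.map g (AlgHom.id S A) (t.bc S lam E (e'' a b)) =
        Algebra.TensorProduct.map g (AlgHom.id S A) (matElt S E e'' W) * bc A g (e'' b a) *
        Algebra.TensorProduct.map g (AlgHom.id S A) (matElt S E e'' W')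
      rw [map_bc, map_matElt', map_matElt']
      change t.bc S lam T (bc A g (e'' a b)) =
        matElt S T (fun a b => bc A g (e'' a b)) W * bc A g (e'' b a) *
          matElt S T (fun a b => bc A g (e'' a b)) W'
      rw [hadg, hg, hg]
      exact had.inv a b
  obtain ⟨E', _, _, _, h, g', -, hk⟩ := kill_etale A hF g z hz
  refine ⟨E', inferInstance, inferInstance, inferInstance, g',
    fun a b => bc A h (e'' a b), ?_, ?_, ?_⟩
  · intro a b c d
    have := hk (Sum.inl (some (a, b, c, d)))
    change bc A h (e'' a b * e'' c d - if b = c then e'' a d else 0) = 0 at this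
    rw [map_sub, map_mul, sub_eq_zero] at this
    rw [this]
    split_ifs
    · rfl
    · exact map_zero _
  · have := hk (Sum.inl none)
    change bc A h (∑ a, e'' a a - 1) = 0 at this
    rw [map_sub, map_sum, map_one, sub_eq_zero] at this
    exact this
  · intro a b
    have := hk (Sum.inr (a, b))
    change bc A h (t.bc S lam E (e'' a b) -
      matElt S E e'' W * e'' b a * matElt S E e'' W') = 0 at this
    rw [map_sub, map_mul, map_mul, sub_eq_zero] at this
    change Algebra.TensorProduct.map h (AlgHom.id S A) (t.bc S lam E (e'' a b)) =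
      Algebra.TensorProduct.map h (AlgHom.id S A) (matElt S E e'' W) * bc A h (e'' b a) *
      Algebra.TensorProduct.map h (AlgHom.id S A) (matElt S E e'' W') at this
    rw [map_bc, map_matElt', map_matElt'] at this
    exact this

/-- adapted units over the strict henselization at `q` give adapted units on an étale
neighbourhood of `q`. -/
theorem exists_etNbhd_isAdapted (q : PrimeSpectrum S) {T : Type u} [CommRing T] [Algebra S T]
    [IsLocalRing T] (hF : Obj.Factor S T)
    (hq : (maximalIdeal T).comap (algebraMap S T) = q.asIdeal)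
    (ET : Fin n → Fin n → T ⊗[S] A) (had : IsAdapted S lam t T W W' ET) :
    ∃ (N : EtNbhd S q) (EE : Fin n → Fin n → N.B ⊗[S] A), IsAdapted S lam t N.B W W' EE := by
  obtain ⟨E, _, _, hE, g, EE, hEE⟩ := isAdapted_descend S lam t W W' hF ET had
  let N : EtNbhd S q :=
    { B := E
      etale := hE
      q := PrimeSpectrum.comap g.toRingHom (closedPoint T)
      hq := by
        ext x
        change g (algebraMap S E x) ∈ maximalIdeal T ↔ x ∈ q.asIdeal
        rw [g.commutes, ← hq]
        rfl }
  exact ⟨N, EE, hEE⟩

/-- adapted units étale-locally at every prime give adapted units over an étale covering. -/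
theorem exists_cover_isAdapted
    (hloc : ∀ q : PrimeSpectrum S, ∃ (N : EtNbhd S q) (EE : Fin n → Fin n → N.B ⊗[S] A),
      IsAdapted S lam t N.B W W' EE) :
    ∃ (S' : Type u) (_ : CommRing S') (_ : Algebra S S') (_ : Algebra.Etale S S')
      (_ : Module.FaithfullyFlat S S') (E : Fin n → Fin n → S' ⊗[S] A),
      IsAdapted S lam t S' W W' E := by
  classical
  obtain ⟨k, B, _, _, het, hsurj, hI⟩ := exists_finite_family (A := S)
    (fun B _ _ => ∃ EE : Fin n → Fin n → B ⊗[S] A, IsAdapted S lam t B W W' EE) hloc
  have hE : Algebra.Etale S (∀ i, B i) := inferInstance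
  have : Algebra.Smooth S (∀ i, B i) := inferInstance
  have : Module.Flat S (∀ i, B i) := inferInstance
  have hff : Module.FaithfullyFlat S (∀ i, B i) := by
    apply Module.FaithfullyFlat.of_comap_surjective
    intro p
    obtain ⟨i, q, hq⟩ := hsurj p
    refine ⟨PrimeSpectrum.comap (Pi.evalRingHom B i) q, ?_⟩
    ext x
    rw [← hq]
    rfl
  choose EE hEE using hI
  let e := piTensorEquiv S B A
  let E : Fin n → Fin n → (∀ i, B i) ⊗[S] A := fun a b => e.symm (fun i => EE i a b)
  have heE : ∀ a b i, Algebra.TensorProduct.map (Pi.evalAlgHom S B i) (AlgHom.id S A) (E a b) =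
      EE i a b := by
    intro a b i
    rw [← piTensorEquiv_apply]
    change e (e.symm _) i = _
    rw [e.apply_symm_apply]
  refine ⟨∀ i, B i, inferInstance, inferInstance, hE, hff, E, ?_, ?_, ?_⟩
  · intro a b c d
    apply e.injective
    funext i
    rw [map_mul, Pi.mul_apply, piTensorEquiv_apply, piTensorEquiv_apply, heE, heE,
      (hEE i).mul a b c d]
    split_ifs
    · rw [piTensorEquiv_apply, heE]
    · rw [map_zero]; rfl
  · apply e.injective
    funext i
    rw [map_sum, Finset.sum_apply, map_one, Pi.one_apply, ← (hEE i).sum]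
    refine Finset.sum_congr rfl fun a _ => ?_
    rw [piTensorEquiv_apply, heE]
  · intro a b
    apply e.injective
    funext i
    rw [piTensorEquiv_apply, map_bc, heE, (hEE i).inv a b, map_mul, map_mul, Pi.mul_apply,
      Pi.mul_apply, piTensorEquiv_apply, piTensorEquiv_apply, piTensorEquiv_apply, map_matElt',
      map_matElt', heE]
    have : (fun a b => Algebra.TensorProduct.map (Pi.evalAlgHom S B i) (AlgHom.id S A) (E a b)) =
        EE i := by
      funext a b; exact heE a b i
    rw [this]

end Descend

end Groth.Agent.Lib.Seat25.AzInvE
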