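import Groth.Agent.Lib.Seat65HermD

/-!
The case analysis producing a vector of unit norm, and the diagonalisation theorem for
`ε`-hermitian matrices over a ring with involution whose fixed ring is local.
-/

set_option autoImplicit false

namespace Groth.Agent.Lib.Seat65.HermE

open Matrix Groth.Agent.Lib.Seat65.HermA Groth.Agent.Lib.Seat65.HermB
  Groth.Agent.Lib.Seat65.HermC Groth.Agent.Lib.Seat65.HermD Groth.Agent.Lib.Helper15.QuadEtale

universe u v

variable {B : Type u} {A : Type v} [CommRing B] [CommRing A] [Algebra B A]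
  (lam : A ≃+* A) (hlam : Function.Involutive lam) (hB : RInv.IsFixedRing B A lam)
  [IsLocalRing B]

include hlam hB in
/-- In the bad case (involution trivial and `ε = -1` modulo the radical), an invertible
`ε`-hermitian matrix of odd size has a unit on the diagonal. -/
theorem exists_isUnit_diag_of_odd {ε : A} (hε : ε = 1 ∨ ε = -1) {n : ℕ} (hn : Odd n)
    {h : Matrix (Fin n) (Fin n) A} (hh : Herm lam ε h) (hu : IsUnit h)
    (h1 : ∀ a : A, lam a - a ∈ Ring.jacobson A) (h2 : ε + 1 ∈ Ring.jacobson A) :
    ∃ j, IsUnit (h j j) := by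
  have := nontrivial lam hB
  by_contra hcon
  push Not at hcon
  have hJ : ∀ j, h j j ∈ Ring.jacobson A := by
    intro j
    have hs : h j j = ε * lam (h j j) := hh.apply j j
    exact (dichotomy' lam hlam hB hε hs).resolve_right (hcon j)
  let π : A →+* A ⧸ Ring.jacobson A := Ideal.Quotient.mk _
  have hπε : π ε = -1 := by
    have : π (ε + 1) = 0 := Ideal.Quotient.eq_zero_iff_mem.mpr h2
    rw [map_add, map_one] at this
    exact eq_neg_of_add_eq_zero_left this
  have hπlam : ∀ a, π (lam a) = π a := by
    intro a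
    have : π (lam a - a) = 0 := Ideal.Quotient.eq_zero_iff_mem.mpr (h1 a)
    rw [map_sub, sub_eq_zero] at this
    exact this
  have hT : (π.mapMatrix h).transpose = -(π.mapMatrix h) := by
    ext j k
    simp only [Matrix.transpose_apply, RingHom.mapMatrix_apply, Matrix.map_apply,
      Matrix.neg_apply]
    rw [hh.apply k j, map_mul, hπε, hπlam]
    ring
  have hd : ∀ j, (π.mapMatrix h) j j = 0 := by
    intro j
    simp only [RingHom.mapMatrix_apply, Matrix.map_apply]
    exact Ideal.Quotient.eq_zero_iff_mem.mpr (hJ j)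
  have hdet := det_eq_zero_of_alt hn (π.mapMatrix h) hT hd
  rw [← RingHom.map_det] at hdet
  have hmem : h.det ∈ Ring.jacobson A := Ideal.Quotient.eq_zero_iff_mem.mp hdet
  exact not_isUnit_of_mem_jacobson hmem ((Matrix.isUnit_iff_isUnit_det _).mp hu)

include hlam hB in
theorem main (n : ℕ) {ε : A} (hε : ε = 1 ∨ ε = -1) (h : Matrix (Fin n) (Fin n) A)
    (hh : IsUnit h) (herm : ε • (h.map lam).transpose = h)
    (hcase : (∃ a : A, lam a - a ∉ Ring.jacobson A) ∨ ε + 1 ∉ Ring.jacobson A ∨ Odd n) :
    ∃ v : Matrix (Fin n) (Fin n) A, IsUnit v ∧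
      ∃ d : Fin n → A, (v.map lam).transpose * h * v = Matrix.diagonal d := by
  have hH : Herm lam ε h := herm
  have hg : IsEmpty (Fin n) ∨ Good lam h := by
    by_cases hc : (∃ a : A, lam a - a ∉ Ring.jacobson A) ∨ ε + 1 ∉ Ring.jacobson A
    · have hT := hasT_of_case lam hlam hB hε hc
      rcases isEmpty_or_nonempty (Fin n) with he | hne
      · exact Or.inl he
      · exact Or.inr (good_of_hasT lam hlam hB hε hT hH hh)
    · push Not at hc
      have hodd : Odd n := by
        rcases hcase with hc1 | hc2 | hc3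
        · obtain ⟨a, ha⟩ := hc1; exact absurd (hc.1 a) ha
        · exact absurd hc.2 hc2
        · exact hc3
      obtain ⟨j, hj⟩ := exists_isUnit_diag_of_odd lam hlam hB hε hodd hH hh hc.1 hc.2
      refine Or.inr ⟨Pi.single j 1, ?_⟩
      rw [sq_single_single]; exact hj
  exact diagonalizable lam hlam hB hε n (Fin n) (Fintype.card_fin n) h hh hH hg

end Groth.Agent.Lib.Seat65.HermE
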