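import Groth.Agent.Lib.Seat65SkewB

/-!
Main induction for the block form of skew-hermitian matrices.
-/

set_option autoImplicit false

namespace Groth.Agent.Lib.Seat65.SkewC

open Matrix Groth.Agent.Lib.Seat65.HermA Groth.Agent.Lib.Seat65.HermB
  Groth.Agent.Lib.Seat65.HermC Groth.Agent.Lib.Seat65.SkewA Groth.Agent.Lib.Seat65.SkewB
  Groth.Agent.Lib.Helper15.QuadEtale

universe u v

variable {B : Type u} {A : Type v} [CommRing B] [CommRing A] [Algebra B A]
  (lam : A ≃+* A) (hlam : Function.Involutive lam) (hB : RInv.IsFixedRing B A lam)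
  [IsLocalRing B] (hid : ∀ a : A, lam a - a ∈ Ring.jacobson A) (h2 : IsUnit (2 : A))

include hlam hid h2 in
/-- The block step. -/
theorem block_step {n : ℕ} {M : Matrix (Fin (n + 2)) (Fin (n + 2)) A}
    (hM : Herm lam (-1) M) (hMu : IsUnit M) (h01 : M 0 1 = 1) (h10 : M 1 0 = -1)
    (hcross : ∀ k : Fin (n + 2), k ≠ 0 → k ≠ 1 →
      M 0 k = 0 ∧ M k 0 = 0 ∧ M 1 k = 0 ∧ M k 1 = 0)
    (IH : ∀ M' : Matrix (Fin n) (Fin n) A, IsUnit M' → Herm lam (-1) M' →
      Even n ∧ ∃ w' : Matrix (Fin n) (Fin n) A, IsUnit w' ∧ SympJ n (st lam w' * M' * w')) :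
    Even (n + 2) ∧ ∃ w : Matrix (Fin (n + 2)) (Fin (n + 2)) A, IsUnit w ∧
      SympJ (n + 2) (st lam w * M * w) := by
  obtain ⟨e, he⟩ : ∃ e : Fin n ⊕ Fin 2 ≃ Fin (n + 2), e = e2 n := ⟨_, rfl⟩
  have hel : ∀ j : Fin n, ((e (Sum.inl j) : Fin (n + 2)) : ℕ) = j.val + 2 := by
    intro j; rw [he]; rfl
  have her : ∀ b : Fin 2, ((e (Sum.inr b) : Fin (n + 2)) : ℕ) = b.val := by
    intro b; rw [he]; rfl
  have her0 : e (Sum.inr 0) = 0 := Fin.ext (by rw [her]; rfl)
  have her1 : e (Sum.inr 1) = 1 := Fin.ext (by rw [her]; rfl)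
  have hel0 : ∀ j : Fin n, e (Sum.inl j) ≠ 0 := by
    intro j hj
    have := congrArg Fin.val hj
    rw [hel] at this
    simp at this
  have hel1 : ∀ j : Fin n, e (Sum.inl j) ≠ 1 := by
    intro j hj
    have := congrArg Fin.val hj
    rw [hel] at this
    simp at this
  obtain ⟨M', hM'⟩ : ∃ M' : Matrix (Fin n) (Fin n) A,
      M' = M.submatrix (fun j => e (Sum.inl j)) (fun j => e (Sum.inl j)) := ⟨_, rfl⟩
  obtain ⟨D, hD⟩ : ∃ D : Matrix (Fin 2) (Fin 2) A,
      D = M.submatrix (fun b => e (Sum.inr b)) (fun b => e (Sum.inr b)) := ⟨_, rfl⟩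
  obtain ⟨N, hN⟩ : ∃ N : Matrix (Fin n ⊕ Fin 2) (Fin n ⊕ Fin 2) A,
      N = M.submatrix e e := ⟨_, rfl⟩
  have hNb : N = fromBlocks M' 0 0 D := by
    ext (j | j) (k | k)
    · simp [hN, hM']
    · have hc := hcross (e (Sum.inl j)) (hel0 j) (hel1 j)
      fin_cases k
      · simp only [hN, Matrix.submatrix_apply, Fin.zero_eta, fromBlocks_apply₁₂,
          Matrix.zero_apply, her0]
        exact hc.2.1
      · simp only [hN, Matrix.submatrix_apply, Fin.mk_one, fromBlocks_apply₁₂,
          Matrix.zero_apply, her1]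
        exact hc.2.2.2
    · have hc := hcross (e (Sum.inl k)) (hel0 k) (hel1 k)
      fin_cases j
      · simp only [hN, Matrix.submatrix_apply, Fin.zero_eta, fromBlocks_apply₂₁,
          Matrix.zero_apply, her0]
        exact hc.1
      · simp only [hN, Matrix.submatrix_apply, Fin.mk_one, fromBlocks_apply₂₁,
          Matrix.zero_apply, her1]
        exact hc.2.2.1
    · simp [hN, hD]
  have hM'u : IsUnit M' := by
    rw [Matrix.isUnit_iff_isUnit_det] at hMu ⊢
    have h1 : N.det = M.det := by rw [hN]; exact Matrix.det_submatrix_equiv_self e M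
    rw [hNb, Matrix.det_fromBlocks_zero₂₁] at h1
    rw [← h1] at hMu
    exact isUnit_of_mul_isUnit_left hMu
  have hM'h : Herm lam (-1) M' := by
    unfold Herm
    ext j k
    have := hM.apply (e (Sum.inl j)) (e (Sum.inl k))
    simp only [hM', Matrix.smul_apply, Matrix.transpose_apply, Matrix.map_apply,
      Matrix.submatrix_apply, smul_eq_mul]
    exact this.symm
  obtain ⟨hev, w', hw'u, hw'⟩ := IH M' hM'u hM'h
  refine ⟨by rw [Nat.even_add]; simp [hev], ?_⟩
  obtain ⟨W, hW⟩ : ∃ W : Matrix (Fin n ⊕ Fin 2) (Fin n ⊕ Fin 2) A,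
      W = fromBlocks w' 0 0 1 := ⟨_, rfl⟩
  have hstW : st lam W = fromBlocks (st lam w') 0 0 1 := by
    rw [hW]
    unfold st
    rw [fromBlocks_map, fromBlocks_transpose]
    congr 1
    · ext j k; simp
    · ext j k; simp
    · exact st_one lam
  have hWN : st lam W * N * W = fromBlocks (st lam w' * M' * w') 0 0 D := by
    rw [hstW, hNb, hW, fromBlocks_multiply, fromBlocks_multiply]
    simp only [Matrix.mul_zero, Matrix.zero_mul, add_zero, zero_add, Matrix.one_mul,
      Matrix.mul_one]
  have hWu : IsUnit W := by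
    rw [Matrix.isUnit_iff_isUnit_det] at hw'u ⊢
    rw [hW, Matrix.det_fromBlocks_zero₂₁, Matrix.det_one, mul_one]
    exact hw'u
  refine ⟨W.submatrix e.symm e.symm, ?_, ?_⟩
  · rw [Matrix.isUnit_iff_isUnit_det, Matrix.det_submatrix_equiv_self]
    exact (Matrix.isUnit_iff_isUnit_det _).mp hWu
  have hF : st lam (W.submatrix e.symm e.symm) * M * W.submatrix e.symm e.symm =
      (fromBlocks (st lam w' * M' * w') 0 0 D).submatrix e.symm e.symm := by
    have hMN : M = N.submatrix e.symm e.symm := by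
      rw [hN]; ext j k; simp
    have hst : st lam (W.submatrix e.symm e.symm) = (st lam W).submatrix e.symm e.symm := rfl
    rw [hst]
    conv_lhs => rw [hMN]
    rw [Matrix.submatrix_mul_equiv, Matrix.submatrix_mul_equiv, hWN]
  rw [hF]
  have hD00 : D 0 0 ∈ Ring.jacobson A := by
    rw [hD]; exact diag_mem lam hlam hid h2 hM _
  have hD11 : D 1 1 ∈ Ring.jacobson A := by
    rw [hD]; exact diag_mem lam hlam hid h2 hM _
  have hD01 : D 0 1 = 1 := by
    rw [hD]; simp only [Matrix.submatrix_apply, her0, her1]; exact h01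
  have hD10 : D 1 0 = -1 := by
    rw [hD]; simp only [Matrix.submatrix_apply, her0, her1]; exact h10
  intro i j
  obtain ⟨i', rfl⟩ := e.surjective i
  obtain ⟨j', rfl⟩ := e.surjective j
  simp only [Matrix.submatrix_apply, Equiv.symm_apply_apply]
  rcases i' with a | a <;> rcases j' with b | b
  · -- both in the complement
    simp only [fromBlocks_apply₁₁, hel]
    have hS := hw' a b
    have e1 : (a.val + 2) / 2 = a.val / 2 + 1 := Nat.add_div_right _ (by norm_num)
    have e2' : (b.val + 2) / 2 = b.val / 2 + 1 := Nat.add_div_right _ (by norm_num)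
    have p1 : Even (a.val + 2) ↔ Even a.val := by rw [Nat.even_add]; simp
    have p2 : Even (b.val + 2) ↔ Even b.val := by rw [Nat.even_add]; simp
    rw [e1, e2', p1, p2]
    refine ⟨fun hne => hS.1 (fun h => hne (by rw [h])), fun heq hp => hS.2.1 (by omega) hp,
      fun heq hp hq => hS.2.2.1 (by omega) hp hq, fun heq hp hq => hS.2.2.2 (by omega) hp hq⟩
  · simp only [fromBlocks_apply₁₂, Matrix.zero_apply, hel, her]
    have hb := b.isLt
    refine ⟨fun _ => trivial, fun heq => ?_, fun heq => ?_, fun heq => ?_⟩ <;> omega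
  · simp only [fromBlocks_apply₂₁, Matrix.zero_apply, hel, her]
    have ha := a.isLt
    refine ⟨fun _ => trivial, fun heq => ?_, fun heq => ?_, fun heq => ?_⟩ <;> omega
  · simp only [fromBlocks_apply₂₂, her]
    fin_cases a <;> fin_cases b
    · refine ⟨fun hne => absurd rfl hne, fun _ _ => hD00, fun _ _ hq => absurd (by decide) hq,
        fun _ hp _ => absurd (by decide) hp⟩
    · refine ⟨fun hne => absurd rfl hne, fun _ hp => ?_, fun _ _ _ => ?_,
        fun _ hp _ => absurd (by decide) hp⟩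
      · exact absurd (hp.mp (by decide)) (by decide)
      · simp only [Fin.zero_eta, Fin.mk_one]
        rw [hD01, sub_self]; exact Ideal.zero_mem _
    · refine ⟨fun hne => absurd rfl hne, fun _ hp => ?_, fun _ hp _ => absurd hp (by decide),
        fun _ _ _ => ?_⟩
      · exact absurd (hp.mpr (by decide)) (by decide)
      · simp only [Fin.zero_eta, Fin.mk_one]
        rw [hD10, neg_add_cancel]; exact Ideal.zero_mem _
    · refine ⟨fun hne => absurd rfl hne, fun _ _ => hD11, fun _ hp _ => absurd hp (by decide),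
        fun _ _ hq => absurd hq (by decide)⟩

include hlam hB hid h2 in
/-- Invertible skew-hermitian matrices have even size and are congruent to a block sum of
`2 × 2` blocks congruent to the standard one modulo the radical. -/
theorem main : ∀ (n : ℕ) (h : Matrix (Fin n) (Fin n) A), IsUnit h → Herm lam (-1) h →
    Even n ∧ ∃ v : Matrix (Fin n) (Fin n) A, IsUnit v ∧ SympJ n (st lam v * h * v) := by
  intro n
  induction n using Nat.twoStepInduction with
  | zero =>
    intro h _ _
    exact ⟨Even.zero, 1, isUnit_one, fun i => i.elim0⟩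
  | one =>
    intro h hu hh
    exfalso
    have := nontrivial lam hB
    have h1 : h 0 0 ∈ Ring.jacobson A := diag_mem lam hlam hid h2 hh 0
    rw [Matrix.isUnit_iff_isUnit_det, Matrix.det_fin_one] at hu
    exact not_isUnit_of_mem_jacobson h1 hu
  | more n ih0 _ =>
    intro h hu hh
    obtain ⟨v, hvu, h01, h10, hcross⟩ := exists_split_01 lam hlam hB hid h2 hh hu
    have hMh : Herm lam (-1) (st lam v * h * v) := hh.congr hlam v
    have hMu : IsUnit (st lam v * h * v) := ((isUnit_st lam hvu).mul hu).mul hvu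
    obtain ⟨hev, w, hwu, hw⟩ := block_step lam hlam hid h2 hMh hMu h01 h10 hcross
      (fun M' hM'u hM'h => ih0 M' hM'u hM'h)
    refine ⟨hev, v * w, hvu.mul hwu, ?_⟩
    have hmul : st lam (v * w) * h * (v * w) = st lam w * (st lam v * h * v) * w := by
      rw [st_mul]
      simp only [Matrix.mul_assoc]
    rw [hmul]; exact hw

end Groth.Agent.Lib.Seat65.SkewC
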