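import Mathlib
import Groth.Agent.S15583
import Groth.Agent.S15584
import Groth.Agent.S5705
import Groth.Agent.Lib.Seat25AzSH
import Groth.Agent.Lib.Seat25AzInvD

/-!
# Symmetric and alternating invertible matrices over a strictly henselian local ring with `2`
invertible; involutions of the first kind of a matrix algebra over such a ring
-/

set_option autoImplicit false

open scoped TensorProduct
open IsLocalRing Matrix

namespace Groth.Agent.Lib.Seat25.AzInvF

universe u

section Sign

variable {C : Type u} [CommRing C] {n : ℕ}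

/-- if `x ↦ w xᵀ w'` (with `w w' = 1 = w' w`) is an involution then `w = ε wᵀ` for a scalar `ε`
with `ε ^ 2 = 1`. -/
theorem exists_scalar_of_involution (w w' : Matrix (Fin n) (Fin n) C) (h1 : w * w' = 1)
    (h2 : w' * w = 1) (hinv : ∀ x : Matrix (Fin n) (Fin n) C, w * (w * xᵀ * w')ᵀ * w' = x) :
    ∃ ε : C, ε * ε = 1 ∧ w = ε • wᵀ := by
  classical
  by_cases hn : n = 0
  · subst hn
    exact ⟨1, one_mul 1, Subsingleton.elim _ _⟩
  have ht1 : w'ᵀ * wᵀ = 1 := by rw [← Matrix.transpose_mul, h1, Matrix.transpose_one]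
  have ht2 : wᵀ * w'ᵀ = 1 := by rw [← Matrix.transpose_mul, h2, Matrix.transpose_one]
  set u := w * w'ᵀ with hu
  set u' := wᵀ * w' with hu'
  have hu'u : u' * u = 1 := by
    rw [hu, hu', Matrix.mul_assoc, ← Matrix.mul_assoc w', h2, Matrix.one_mul, ht2]
  have hconj : ∀ x : Matrix (Fin n) (Fin n) C, u * x * u' = x := by
    intro x
    have := hinv x
    rw [Matrix.transpose_mul, Matrix.transpose_mul, Matrix.transpose_transpose] at this
    rw [hu, hu']
    simpa [Matrix.mul_assoc] using this
  have hcomm : ∀ x : Matrix (Fin n) (Fin n) C, Commute x u := by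
    intro x
    have := hconj x
    calc x * u = (u * x * u') * u := by rw [this]
      _ = u * x * (u' * u) := by simp only [Matrix.mul_assoc]
      _ = u * x := by rw [hu'u, Matrix.mul_one]
  obtain ⟨ε, hε⟩ := Matrix.mem_range_scalar_iff_commute_single'.mpr (fun i j => hcomm _)
  have hw : w = ε • wᵀ := by
    have h3 : u * wᵀ = w := by
      rw [hu, Matrix.mul_assoc, ht1, Matrix.mul_one]
    calc w = u * wᵀ := h3.symm
      _ = Matrix.scalar (Fin n) ε * wᵀ := by rw [hε]
      _ = ε • wᵀ := by rw [Matrix.scalar_apply, ← Matrix.smul_eq_diagonal_mul]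
  refine ⟨ε, ?_, hw⟩
  have hwt : wᵀ = ε • w := by
    conv_lhs => rw [hw]
    rw [Matrix.transpose_smul, Matrix.transpose_transpose]
  have hw2 : w = (ε * ε) • w := by
    conv_lhs => rw [hw, hwt]
    rw [smul_smul]
  have h3 : (1 : Matrix (Fin n) (Fin n) C) = (ε * ε) • 1 := by
    calc (1 : Matrix (Fin n) (Fin n) C) = w * w' := h1.symm
      _ = ((ε * ε) • w) * w' := by rw [← hw2]
      _ = (ε * ε) • 1 := by rw [Matrix.smul_mul, h1]
  have : (1 : Matrix (Fin n) (Fin n) C) ⟨0, Nat.pos_of_ne_zero hn⟩ ⟨0, Nat.pos_of_ne_zero hn⟩ =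
      ((ε * ε) • (1 : Matrix (Fin n) (Fin n) C)) ⟨0, Nat.pos_of_ne_zero hn⟩
        ⟨0, Nat.pos_of_ne_zero hn⟩ := by rw [← h3]
  simpa using this.symm

end Sign

section Local

variable (C : Type u) [CommRing C] [HenselianLocalRing C] [IsSepClosed (ResidueField C)]

open Polynomial in
include C in
/-- units of a strictly henselian local ring with `2` invertible are squares. -/
theorem exists_mul_self_eq (h2 : IsUnit (2 : C)) (x : C) (hx : IsUnit x) : ∃ s : C, s * s = x := by
  classical
  let P : C[X] := X ^ 2 - Polynomial.C x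
  have hPmonic : P.Monic := monic_X_pow_sub_C x (by norm_num)
  have hxres : residue C x ≠ 0 := by
    rw [Ne, residue_eq_zero_iff]
    exact fun h => (mem_maximalIdeal _).mp h hx
  have h2res : ((2 : ℕ) : ResidueField C) ≠ 0 := by
    have : ((2 : ℕ) : ResidueField C) = residue C 2 := by rw [Nat.cast_ofNat, map_ofNat]
    rw [this, Ne, residue_eq_zero_iff]
    exact fun h => (mem_maximalIdeal _).mp h h2
  have hPmap : P.map (residue C) = X ^ 2 - Polynomial.C (residue C x) := by
    simp [P]
  have hsep : (P.map (residue C)).Separable := by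
    rw [hPmap]
    exact separable_X_pow_sub_C _ h2res hxres
  have hdeg : (P.map (residue C)).degree ≠ 0 := by
    rw [hPmap, degree_X_pow_sub_C (by norm_num)]
    norm_num
  obtain ⟨y, hy⟩ := IsSepClosed.exists_root (P.map (residue C)) hdeg hsep
  obtain ⟨y₀, rfl⟩ := residue_surjective y
  have hy' : residue C y₀ ^ 2 = residue C x := by
    rw [hPmap] at hy
    simpa [sub_eq_zero] using hy
  have h1 : P.eval y₀ ∈ maximalIdeal C := by
    rw [← residue_eq_zero_iff]
    simp [P, hy']
  have hy₀ : IsUnit y₀ := by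
    by_contra hnu
    have : residue C y₀ = 0 := (residue_eq_zero_iff _).mpr ((mem_maximalIdeal _).mpr hnu)
    rw [this] at hy'
    exact hxres (by rw [← hy']; simp)
  have h3 : IsUnit ((derivative P).eval y₀) := by
    have : (derivative P).eval y₀ = 2 * y₀ := by
      simp [P]
      rw [one_add_one_eq_two]
    rw [this]
    exact h2.mul hy₀
  obtain ⟨s, hs, -⟩ := HenselianLocalRing.is_henselian P hPmonic y₀ h1 h3
  refine ⟨s, ?_⟩
  have := hs.eq_zero
  simp only [P, eval_sub, eval_pow, eval_X, eval_C, sub_eq_zero] at this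
  rw [← this, sq]

variable {C} {n : ℕ}

/-- a symmetric invertible matrix over a strictly henselian local ring with `2` invertible is of
the form `g gᵀ`. -/
theorem exists_eq_mul_transpose_of_symmetric (h2 : IsUnit (2 : C))
    (w : Matrix (Fin n) (Fin n) C) (hw : IsUnit w) (hsym : wᵀ = w) :
    ∃ g : Matrix (Fin n) (Fin n) C, IsUnit g ∧ w = g * gᵀ := by
  classical
  have hfix : RInv.IsFixedRing C C (RingEquiv.refl C) :=
    ⟨Function.injective_id, fun r => ⟨fun _ => ⟨r, rfl⟩, fun _ => rfl⟩⟩
  have hmap : w.map (RingEquiv.refl C) = w := by ext i j; rfl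
  have hcase : (∃ a : C, (RingEquiv.refl C) a - a ∉ Ring.jacobson C) ∨
      (1 : C) + 1 ∉ Ring.jacobson C ∨ Odd n := by
    refine Or.inr (Or.inl ?_)
    rw [ringJacobson_eq_maximalIdeal, one_add_one_eq_two]
    exact fun h => (mem_maximalIdeal _).mp h h2
  obtain ⟨v, hv, d, hvd⟩ := Groth.Agent.S15583.result C C (RingEquiv.refl C) (fun _ => rfl) hfix n 1
    (Or.inl rfl) w hw (by rw [hmap, one_smul, hsym]) hcase
  have hvmap : v.map (RingEquiv.refl C) = v := by ext i j; rfl
  rw [hvmap] at hvd
  have hvdet : IsUnit v.det := (Matrix.isUnit_iff_isUnit_det v).mp hv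
  have hddet : IsUnit (∏ i, d i) := by
    have : IsUnit (Matrix.diagonal d) := by
      rw [← hvd]
      exact (hv.map (Matrix.transposeRingEquiv (Fin n) C)).unop.mul hw |>.mul hv
    rw [← Matrix.det_diagonal]
    exact (Matrix.isUnit_iff_isUnit_det _).mp this
  have hd : ∀ i, IsUnit (d i) := fun i =>
    isUnit_of_dvd_unit (Finset.dvd_prod_of_mem d (Finset.mem_univ i)) hddet
  choose s hs using fun i => exists_mul_self_eq C h2 (d i) (hd i)
  have hsunit : ∀ i, IsUnit (s i) := fun i => by
    have := hd i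
    rw [← hs i] at this
    exact isUnit_of_mul_isUnit_left this
  refine ⟨(v⁻¹)ᵀ * Matrix.diagonal s, ?_, ?_⟩
  · apply IsUnit.mul
    · rw [Matrix.isUnit_iff_isUnit_det, Matrix.det_transpose]
      exact Matrix.isUnit_nonsing_inv_det v hvdet
    · rw [Matrix.isUnit_iff_isUnit_det, Matrix.det_diagonal]
      exact (Finset.prod_induction _ IsUnit (fun _ _ => IsUnit.mul) isUnit_one
        (fun i _ => hsunit i))
  · rw [Matrix.transpose_mul, Matrix.diagonal_transpose, Matrix.transpose_transpose]
    have hss : Matrix.diagonal s * Matrix.diagonal s = Matrix.diagonal d := by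
      rw [Matrix.diagonal_mul_diagonal]
      congr 1
      funext i
      exact hs i
    calc w = ((v⁻¹)ᵀ * vᵀ) * w * (v * v⁻¹) := by
          rw [← Matrix.transpose_mul, Matrix.mul_nonsing_inv _ hvdet, Matrix.transpose_one,
            Matrix.one_mul, Matrix.mul_one]
      _ = (v⁻¹)ᵀ * (vᵀ * w * v) * v⁻¹ := by simp only [Matrix.mul_assoc]
      _ = (v⁻¹)ᵀ * (Matrix.diagonal s * Matrix.diagonal s) * v⁻¹ := by rw [hvd, hss]
      _ = (v⁻¹)ᵀ * Matrix.diagonal s * (Matrix.diagonal s * v⁻¹) := by
          simp only [Matrix.mul_assoc]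

end Local

section Alt

/-- the standard alternating matrix: diagonal blocks `[[0, -1], [1, 0]]` on the index pairs
`{2k, 2k+1}`. -/
def Jstd (C : Type*) [Ring C] (n : ℕ) : Matrix (Fin n) (Fin n) C := Matrix.of fun i j =>
  if i.val / 2 = j.val / 2 then
    (if Even i.val ∧ ¬ Even j.val then -1 else if ¬ Even i.val ∧ Even j.val then 1 else 0)
  else 0

theorem Jstd_apply (C : Type*) [Ring C] (n : ℕ) (i j : Fin n) :
    Jstd C n i j = if i.val / 2 = j.val / 2 then
      (if Even i.val ∧ ¬ Even j.val then -1 else if ¬ Even i.val ∧ Even j.val then 1 else 0)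
    else 0 := rfl

variable {C : Type u} [CommRing C] [IsLocalRing C] {n : ℕ}

/-- an alternating (skew-symmetric, `2` invertible) invertible matrix over a local ring is
congruent to the standard one; in particular its size is even. -/
theorem exists_eq_mul_Jstd_mul_transpose (h2 : IsUnit (2 : C))
    (w : Matrix (Fin n) (Fin n) C) (hw : IsUnit w) (hskew : wᵀ = -w) :
    Even n ∧ ∃ g : Matrix (Fin n) (Fin n) C, IsUnit g ∧ w = g * Jstd C n * gᵀ := by
  classical
  have hfix : RInv.IsFixedRing C C (RingEquiv.refl C) :=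
    ⟨Function.injective_id, fun r => ⟨fun _ => ⟨r, rfl⟩, fun _ => rfl⟩⟩
  have hmap : w.map (RingEquiv.refl C) = w := by ext i j; rfl
  have hid : ∀ a : C, (RingEquiv.refl C) a - a ∈ Ring.jacobson C := fun a => by
    rw [RingEquiv.refl_apply, sub_self]
    exact Ideal.zero_mem _
  obtain ⟨heven, v, hv, hblk⟩ := Groth.Agent.S15584.result C C (RingEquiv.refl C) (fun _ => rfl)
    hfix n hid h2 w hw (by rw [hmap, hskew, neg_neg])
  refine ⟨heven, ?_⟩
  have hvmap : v.map (RingEquiv.refl C) = v := by ext i j; rfl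
  rw [hvmap] at hblk
  set h' := vᵀ * w * v with hh'
  have hjac : Ring.jacobson C = maximalIdeal C := ringJacobson_eq_maximalIdeal C
  rw [hjac] at hblk
  have hh'skew : ∀ i j, h' j i = -h' i j := by
    intro i j
    have : h'ᵀ = -h' := by
      rw [hh', Matrix.transpose_mul, Matrix.transpose_mul, Matrix.transpose_transpose, hskew]
      simp [Matrix.mul_assoc]
    have := congrFun (congrFun this i) j
    simp at this
    exact this
  have hdiag : ∀ i, h' i i = 0 := by
    intro i
    have h3 := hh'skew i i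
    have h4 : (2 : C) * h' i i = 0 := by
      rw [two_mul]
      nth_rewrite 1 [h3]
      exact neg_add_cancel _
    exact (h2.mul_right_eq_zero).mp h4
  have hunit : ∀ i j : Fin n, i.val / 2 = j.val / 2 → Even i.val → ¬ Even j.val →
      IsUnit (h' i j) := by
    intro i j h1 h3 h4
    have := (hblk i j).2.2.1 h1 h3 h4
    by_contra hnu
    have h5 : h' i j ∈ maximalIdeal C := (mem_maximalIdeal _).mpr hnu
    have h6 : (1 : C) ∈ maximalIdeal C := by
      have := (maximalIdeal C).sub_mem h5 this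
      simpa using this
    exact (maximalIdeal.isMaximal C).ne_top ((Ideal.eq_top_iff_one _).mpr h6)
  let pr : Fin n → Fin n := fun j => ⟨j.val - 1, by omega⟩
  let c : Fin n → C := fun j => if Even j.val then 1 else -Ring.inverse (h' (pr j) j)
  have hpr : ∀ j : Fin n, ¬ Even j.val →
      (pr j).val / 2 = j.val / 2 ∧ Even (pr j).val := by
    intro j hj
    rw [Nat.not_even_iff] at hj
    refine ⟨?_, ?_⟩
    · change (j.val - 1) / 2 = j.val / 2
      omega
    · rw [Nat.even_iff]
      change (j.val - 1) % 2 = 0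
      omega
  have hcunit : ∀ j, IsUnit (c j) := by
    intro j
    by_cases hj : Even j.val
    · simp only [c, if_pos hj]
      exact isUnit_one
    · simp only [c, if_neg hj]
      exact (hunit (pr j) j (hpr j hj).1 (hpr j hj).2 hj).ringInverse.neg
  have hkey : Matrix.diagonal c * h' * Matrix.diagonal c = Jstd C n := by
    ext i j
    rw [Matrix.mul_diagonal, Matrix.diagonal_mul, Jstd_apply]
    by_cases hb : i.val / 2 = j.val / 2
    · rw [if_pos hb]
      by_cases hi : Even i.val <;> by_cases hj : Even j.val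
      · have hij : i = j := by
          apply Fin.ext
          rw [Nat.even_iff] at hi hj
          omega
        subst hij
        rw [hdiag]
        simp [hi]
      · have hpj : pr j = i := by
          apply Fin.ext
          change j.val - 1 = i.val
          rw [Nat.even_iff] at hi
          rw [Nat.not_even_iff] at hj
          omega
        simp only [c, if_pos hi, if_neg hj, hpj, one_mul]
        rw [if_pos ⟨hi, hj⟩, mul_neg, Ring.mul_inverse_cancel _ (hunit i j hb hi hj)]
      · have hpi : pr i = j := by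
          apply Fin.ext
          change i.val - 1 = j.val
          rw [Nat.even_iff] at hj
          rw [Nat.not_even_iff] at hi
          omega
        simp only [c, if_pos hj, if_neg hi, hpi, mul_one]
        rw [if_neg (fun h => hi h.1), if_pos ⟨hi, hj⟩, hh'skew j i, neg_mul_neg,
          Ring.inverse_mul_cancel _ (hunit j i hb.symm hj hi)]
      · have hij : i = j := by
          apply Fin.ext
          rw [Nat.not_even_iff] at hi hj
          omega
        subst hij
        rw [hdiag]
        simp [hi]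
    · rw [if_neg hb, (hblk i j).1 hb, mul_zero, zero_mul]
  -- assemble
  have hvdet : IsUnit v.det := (Matrix.isUnit_iff_isUnit_det v).mp hv
  have hcdet : IsUnit (Matrix.diagonal c).det := by
    rw [Matrix.det_diagonal]
    exact Finset.prod_induction _ IsUnit (fun _ _ => IsUnit.mul) isUnit_one
      (fun i _ => hcunit i)
  set v₂ := v * Matrix.diagonal c with hv₂
  have hv₂det : IsUnit v₂.det := by
    rw [hv₂, Matrix.det_mul]
    exact hvdet.mul hcdet
  have hv₂key : v₂ᵀ * w * v₂ = Jstd C n := by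
    rw [hv₂, Matrix.transpose_mul, Matrix.diagonal_transpose, ← hkey, hh']
    simp only [Matrix.mul_assoc]
  refine ⟨(v₂⁻¹)ᵀ, ?_, ?_⟩
  · rw [Matrix.isUnit_iff_isUnit_det, Matrix.det_transpose]
    exact Matrix.isUnit_nonsing_inv_det v₂ hv₂det
  · rw [Matrix.transpose_transpose, ← hv₂key]
    calc w = ((v₂⁻¹)ᵀ * v₂ᵀ) * w * (v₂ * v₂⁻¹) := by
          rw [← Matrix.transpose_mul, Matrix.mul_nonsing_inv _ hv₂det, Matrix.transpose_one,
            Matrix.one_mul, Matrix.mul_one]
      _ = (v₂⁻¹)ᵀ * (v₂ᵀ * w * v₂) * v₂⁻¹ := by simp only [Matrix.mul_assoc]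

end Alt

section Assemble

open Groth.Agent.Lib.Seat25.AzSH Groth.Agent.Lib.Seat25.AzInvA Groth.Agent.Lib.Seat25.AzInvD

universe v

variable {C : Type u} [CommRing C] {D : Type v} [Ring D] [Algebra C D] {n : ℕ}

/-- `∑ M c d • E c d`. -/
def hatM (E : Fin n → Fin n → D) (M : Matrix (Fin n) (Fin n) C) : D :=
  ∑ c, ∑ d, M c d • E c d

theorem hatM_conj (g : Matrix (Fin n) (Fin n) C ≃ₐ[C] D) (g₁ g₁' M : Matrix (Fin n) (Fin n) C) :
    hatM (fun c d => g (g₁ * Matrix.single c d 1 * g₁')) M = g (g₁ * M * g₁') := by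
  classical
  rw [hatM]
  conv_rhs => rw [Matrix.matrix_eq_sum_single M]
  simp only [Finset.mul_sum, Finset.sum_mul, map_sum]
  refine Finset.sum_congr rfl fun c _ => Finset.sum_congr rfl fun d _ => ?_
  rw [← map_smul]
  congr 1
  rw [← Matrix.smul_mul, ← Matrix.mul_smul, Matrix.smul_single, smul_eq_mul, mul_one]

/-- matrix units conjugated by `g₁` and transported by `g`, for an involution of the form
`x ↦ w xᵀ w'` with `w = g₁ W₀ g₁ᵀ`. -/
theorem sigma_conj_units (g : Matrix (Fin n) (Fin n) C ≃ₐ[C] D) (σ : D → D)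
    (w w' g₁ g₁' W₀ W₀' : Matrix (Fin n) (Fin n) C)
    (hσ : ∀ x, σ (g x) = g (w * xᵀ * w')) (hw : w = g₁ * W₀ * g₁ᵀ) (hww' : w' * w = 1)
    (hW₀ : W₀ * W₀' = 1) (hg₁ : g₁ * g₁' = 1) (hg₁' : g₁' * g₁ = 1) :
    (∀ a b c d, g (g₁ * Matrix.single a b 1 * g₁') * g (g₁ * Matrix.single c d 1 * g₁') =
      if b = c then g (g₁ * Matrix.single a d 1 * g₁') else 0) ∧
    ∑ a, g (g₁ * Matrix.single a a 1 * g₁') = 1 ∧
    ∀ a b, σ (g (g₁ * Matrix.single a b 1 * g₁')) =
      hatM (fun c d => g (g₁ * Matrix.single c d 1 * g₁')) W₀ *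
        g (g₁ * Matrix.single b a 1 * g₁') *
        hatM (fun c d => g (g₁ * Matrix.single c d 1 * g₁')) W₀' := by
  classical
  have ht : g₁ᵀ * g₁'ᵀ = 1 := by rw [← Matrix.transpose_mul, hg₁', Matrix.transpose_one]
  have hw' : w' = g₁'ᵀ * W₀' * g₁' := by
    have h1 : w * (g₁'ᵀ * W₀' * g₁') = 1 := by
      rw [hw]
      calc g₁ * W₀ * g₁ᵀ * (g₁'ᵀ * W₀' * g₁') = g₁ * W₀ * (g₁ᵀ * g₁'ᵀ) * W₀' * g₁' := by
            simp only [Matrix.mul_assoc]
        _ = g₁ * (W₀ * W₀') * g₁' := by rw [ht, Matrix.mul_one]; simp only [Matrix.mul_assoc]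
        _ = 1 := by rw [hW₀, Matrix.mul_one, hg₁]
    exact (left_inv_eq_right_inv hww' h1)
  refine ⟨fun a b c d => ?_, ?_, fun a b => ?_⟩
  · rw [← map_mul]
    have : g₁ * Matrix.single a b 1 * g₁' * (g₁ * Matrix.single c d 1 * g₁') =
        g₁ * (Matrix.single a b 1 * Matrix.single c d 1) * g₁' := by
      calc _ = g₁ * Matrix.single a b 1 * (g₁' * g₁) * Matrix.single c d 1 * g₁' := by
            simp only [Matrix.mul_assoc]
        _ = _ := by rw [hg₁', Matrix.mul_one]; simp only [Matrix.mul_assoc]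
    rw [this]
    by_cases hbc : b = c
    · subst hbc
      rw [if_pos rfl, Matrix.single_mul_single_same, mul_one]
    · rw [if_neg hbc, Matrix.single_mul_single_of_ne _ _ _ _ hbc, Matrix.mul_zero,
        Matrix.zero_mul, map_zero]
  · rw [← map_sum, ← Finset.sum_mul, ← Finset.mul_sum]
    have : ∑ a : Fin n, Matrix.single a a (1 : C) = 1 := by
      ext i j
      rw [Matrix.sum_apply, Matrix.one_apply]
      by_cases hij : i = j
      · subst hij
        rw [if_pos rfl, Finset.sum_eq_single i]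
        · rw [Matrix.single_apply_same]
        · intro a _ ha
          exact Matrix.single_apply_of_ne _ _ _ _ _ (fun h => ha h.1)
        · intro h
          exact absurd (Finset.mem_univ i) h
      · rw [if_neg hij]
        apply Finset.sum_eq_zero
        intro a _
        apply Matrix.single_apply_of_ne
        rintro ⟨h1, h2⟩
        exact hij (h1.symm.trans h2)
    rw [this, Matrix.mul_one, hg₁, map_one]
  · rw [hσ, hatM_conj, hatM_conj, ← map_mul, ← map_mul]
    congr 1
    rw [hw, hw', Matrix.transpose_mul, Matrix.transpose_mul, Matrix.transpose_single]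
    calc g₁ * W₀ * g₁ᵀ * (g₁'ᵀ * (Matrix.single b a 1 * g₁ᵀ)) * (g₁'ᵀ * W₀' * g₁')
        = g₁ * W₀ * (g₁ᵀ * g₁'ᵀ) * Matrix.single b a 1 * (g₁ᵀ * g₁'ᵀ) * W₀' * g₁' := by
          simp only [Matrix.mul_assoc]
      _ = g₁ * W₀ * Matrix.single b a 1 * W₀' * g₁' := by
          rw [ht, Matrix.mul_one, Matrix.mul_one]
      _ = g₁ * W₀ * (g₁' * g₁) * Matrix.single b a 1 * (g₁' * g₁) * W₀' * g₁' := by
          rw [hg₁', Matrix.mul_one, Matrix.mul_one]
      _ = _ := by simp only [Matrix.mul_assoc]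

end Assemble

section Main

open Groth.Agent.Lib.Seat25.AzSH Groth.Agent.Lib.Seat25.AzInvA Groth.Agent.Lib.Seat25.AzInvD

universe v

variable (C : Type u) [CommRing C] [HenselianLocalRing C] [IsSepClosed (ResidueField C)]
  (D : Type v) [Ring D] [Algebra C D] [IsAzumaya C D]

/-- **Involutions of the first kind over a strictly henselian local ring with `2` invertible**:
an Azumaya algebra of rank `n²` with a linear involution `σ` has matrix units on which `σ` acts
either by the transpose pattern or by the standard symplectic pattern. -/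
theorem exists_units_of_involution (h2 : IsUnit (2 : C)) (n : ℕ) (hn : 0 < n)
    (hD : Module.finrank C D = n ^ 2) (σ : D →ₗ[C] D) (hσm : ∀ x y, σ (x * y) = σ y * σ x)
    (hσσ : ∀ x, σ (σ x) = x) :
    ∃ E : Fin n → Fin n → D, (∀ a b c d, E a b * E c d = if b = c then E a d else 0) ∧
      ∑ a, E a a = 1 ∧
      ((∀ a b, σ (E a b) = hatM E (1 : Matrix (Fin n) (Fin n) C) * E b a *
          hatM E (1 : Matrix (Fin n) (Fin n) C)) ∨
        (Even n ∧ ∀ J' : Matrix (Fin n) (Fin n) C, Jstd C n * J' = 1 →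
          ∀ a b, σ (E a b) = hatM E (Jstd C n) * E b a * hatM E J')) := by
  classical
  have : Module.Finite C D := IsAzumaya.toFinite (R := C)
  have : Module.Projective C D := IsAzumaya.toProjective (R := C)
  have : Module.Free C D := Module.free_of_flat_of_isLocalRing
  have : Nonempty (Fin n) := ⟨⟨0, hn⟩⟩
  obtain ⟨e, he, h1⟩ := hasMatrixUnits_of_strictlyHenselian C D n hn hD
  have hrank : ∀ p : PrimeSpectrum C, Module.rankAtStalk (R := C) D p = n ^ 2 := by
    intro p
    rw [Module.rankAtStalk_eq_finrank_of_free, ← hD]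
    rfl
  obtain ⟨g, -⟩ := exists_algEquiv_matMap C D n hn hrank e he h1
  -- the transported involution
  have hσ1 : σ 1 = 1 := by
    have h : ∀ a : D, σ 1 * a = a := fun a => by
      rw [← hσσ a, ← hσm, mul_one]
    simpa using h 1
  let σ' : Matrix (Fin n) (Fin n) C → Matrix (Fin n) (Fin n) C := fun x => g.symm (σ (g x))
  have hσ'm : ∀ x y, σ' (x * y) = σ' y * σ' x := fun x y => by
    simp only [σ', map_mul, hσm]
  have hσ'σ' : ∀ x, σ' (σ' x) = x := fun x => by
    simp only [σ', AlgEquiv.apply_symm_apply, hσσ, AlgEquiv.symm_apply_apply]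
  let ψh : Matrix (Fin n) (Fin n) C →ₐ[C] Matrix (Fin n) (Fin n) C :=
    AlgHom.ofLinearMap
      ((g.symm.toLinearMap ∘ₗ σ ∘ₗ g.toLinearMap) ∘ₗ
        (Matrix.transposeLinearEquiv (Fin n) (Fin n) C C).toLinearMap)
      (by simp [hσ1])
      (fun x y => by
        change σ' (x * y)ᵀ = σ' xᵀ * σ' yᵀ
        rw [Matrix.transpose_mul, hσ'm])
  have hψh : ∀ x, ψh x = σ' xᵀ := fun x => rfl
  have hψbij : Function.Bijective ψh := by
    constructor
    · intro x y hxy
      rw [hψh, hψh] at hxy
      have := congrArg σ' hxy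
      rw [hσ'σ', hσ'σ'] at this
      exact Matrix.transpose_injective this
    · intro y
      refine ⟨(σ' y)ᵀ, ?_⟩
      rw [hψh, Matrix.transpose_transpose, hσ'σ']
  let ψ : Matrix (Fin n) (Fin n) C ≃ₐ[C] Matrix (Fin n) (Fin n) C := AlgEquiv.ofBijective ψh hψbij
  have hAzM : IsAzumaya C (Matrix (Fin n) (Fin n) C) := IsAzumaya.matrix C (Fin n)
  obtain ⟨⟨a, ha⟩, -⟩ := Groth.Agent.S5705.result C (Matrix (Fin n) (Fin n) C) ψ
  set w : Matrix (Fin n) (Fin n) C := (a : Matrix (Fin n) (Fin n) C) with hwdef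
  set w' : Matrix (Fin n) (Fin n) C := ((a⁻¹ : (Matrix (Fin n) (Fin n) C)ˣ) :
    Matrix (Fin n) (Fin n) C) with hw'def
  have hww' : w * w' = 1 := a.mul_inv
  have hw'w : w' * w = 1 := a.inv_mul
  have hσ' : ∀ x, σ' x = w * xᵀ * w' := by
    intro x
    have := ha xᵀ
    change σ' xᵀᵀ = _ at this
    rwa [Matrix.transpose_transpose] at this
  have hσg : ∀ x, σ (g x) = g (w * xᵀ * w') := by
    intro x
    rw [← hσ' x]
    simp only [σ', AlgEquiv.apply_symm_apply]
  have hinv : ∀ x : Matrix (Fin n) (Fin n) C, w * (w * xᵀ * w')ᵀ * w' = x := by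
    intro x
    rw [← hσ', ← hσ', hσ'σ']
  obtain ⟨ε, hε2, hwε⟩ := exists_scalar_of_involution w w' hww' hw'w hinv
  have hwunit : IsUnit w := a.isUnit
  -- `ε = 1` or `ε = -1`
  have hε : ε = 1 ∨ ε = -1 := by
    have hprod : (ε - 1) * (ε + 1) = 0 := by
      have : (ε - 1) * (ε + 1) = ε * ε - 1 := by ring
      rw [this, hε2, sub_self]
    by_cases hu : IsUnit (ε - 1)
    · right
      have := (hu.mul_right_eq_zero).mp hprod
      exact eq_neg_of_add_eq_zero_left this
    · left
      have h5 : ε - 1 ∈ maximalIdeal C := (mem_maximalIdeal _).mpr hu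
      have hu' : IsUnit (ε + 1) := by
        by_contra hnu
        have h6 : ε + 1 ∈ maximalIdeal C := (mem_maximalIdeal _).mpr hnu
        have h7 : (2 : C) ∈ maximalIdeal C := by
          have := (maximalIdeal C).sub_mem h6 h5
          have h8 : ε + 1 - (ε - 1) = 2 := by ring
          rwa [h8] at this
        exact (mem_maximalIdeal _).mp h7 h2
      have := (hu'.mul_left_eq_zero).mp hprod
      exact sub_eq_zero.mp this
  rcases hε with rfl | rfl
  · -- orthogonal case
    have hsym : wᵀ = w := by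
      conv_rhs => rw [hwε]
      rw [one_smul]
    obtain ⟨g₁, hg₁u, hwg⟩ := exists_eq_mul_transpose_of_symmetric h2 w hwunit hsym
    obtain ⟨g₁u, rfl⟩ := hg₁u
    obtain ⟨hm, hs, hi⟩ := sigma_conj_units g σ w w' (g₁u : Matrix (Fin n) (Fin n) C)
      ((g₁u⁻¹ : (Matrix (Fin n) (Fin n) C)ˣ) : Matrix (Fin n) (Fin n) C) 1 1 hσg
      (by rw [Matrix.mul_one]; exact hwg) hw'w (one_mul 1) g₁u.mul_inv g₁u.inv_mul
    exact ⟨_, hm, hs, Or.inl hi⟩
  · -- symplectic case
    have hskew : wᵀ = -w := by
      have h3 : w = -wᵀ := by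
        conv_lhs => rw [hwε]
        rw [neg_one_smul]
      conv_rhs => rw [h3]
      rw [neg_neg]
    obtain ⟨heven, g₁, hg₁u, hwg⟩ := exists_eq_mul_Jstd_mul_transpose h2 w hwunit hskew
    obtain ⟨g₁u, rfl⟩ := hg₁u
    have hJdet : IsUnit (Jstd C n).det := by
      have h3 : IsUnit w.det := (Matrix.isUnit_iff_isUnit_det w).mp hwunit
      rw [hwg, Matrix.det_mul, Matrix.det_mul] at h3
      exact isUnit_of_dvd_unit ⟨(g₁u : Matrix (Fin n) (Fin n) C).det *
        (g₁u : Matrix (Fin n) (Fin n) C)ᵀ.det, by ring⟩ h3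
    have hJJ : Jstd C n * (Jstd C n)⁻¹ = 1 := Matrix.mul_nonsing_inv _ hJdet
    have key := fun J' hJ' => sigma_conj_units g σ w w' (g₁u : Matrix (Fin n) (Fin n) C)
        ((g₁u⁻¹ : (Matrix (Fin n) (Fin n) C)ˣ) : Matrix (Fin n) (Fin n) C) (Jstd C n) J' hσg hwg
        hw'w hJ' g₁u.mul_inv g₁u.inv_mul
    exact ⟨_, (key _ hJJ).1, (key _ hJJ).2.1, Or.inr ⟨heven, fun J' hJ' => (key J' hJ').2.2⟩⟩

end Main

end Groth.Agent.Lib.Seat25.AzInvF
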