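import Mathlib
import Groth.Agent.Lib.Seat25AzInvE
import Groth.Agent.Lib.Seat25AzInvF
import Groth.Agent.Lib.Helper18StdEtaleCover

/-!
# Involutions of the first kind over a connected base with `2` invertible: orthogonal or symplectic

* `Jstd` facts (`Jstd_transpose`, `Jstd_map`, `Jstd_mul_Jstd`), the block isomorphism
  `Xi : M_k(M_2(C)) ≃ M_{2k}(C)` with `Xi (scalar J2) = Jstd` and `Xi_conj`.
* `not_both_patterns`: over a local ring with `2` invertible an involution of an Azumaya algebra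
  cannot have both orthogonal and symplectic adapted matrix units.
* `isAdapted_of_strictlyHenselian`, `exists_etNbhd_isAdapted_or`, `not_isAdapted_both`,
  `exists_cover_isAdapted_or` (connected base: one pattern globally on an étale cover).
* `sameType_orth`, `sameType_sympl`: from adapted units to `SameType` with `(R, id)` resp.
  `(M_2(R), symplectic)`.
-/

set_option autoImplicit false
set_option linter.style.haveILetI false

open scoped TensorProduct
open Matrix IsLocalRing AzInv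

namespace Groth.Agent.Lib.Seat25.AzInvG

open Groth.Agent.Lib.Seat25.AzInvF Groth.Agent.Lib.Seat25.AzInvA Groth.Agent.Lib.Seat25.AzInvD
  Groth.Agent.Lib.Seat25.AzInvE Groth.Agent.Lib.Seat25.AzInvB
open Groth.Agent.Lib.Seat77.AzInvB
open Groth.Agent.Lib.Seat14.EtLoc

universe u v w




section Jstd

variable (C : Type u) [CommRing C]

theorem Jstd_transpose (n : ℕ) : (Jstd C n)ᵀ = -Jstd C n := by
  ext i j
  rw [Matrix.transpose_apply, Matrix.neg_apply, Jstd_apply, Jstd_apply]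
  by_cases h : i.val / 2 = j.val / 2
  · rw [if_pos h, if_pos h.symm]
    by_cases hi : Even i.val <;> by_cases hj : Even j.val <;> simp [hi, hj]
  · rw [if_neg h, if_neg (Ne.symm h), neg_zero]

theorem Jstd_map {C' : Type*} [CommRing C'] (f : C →+* C') (n : ℕ) :
    (Jstd C n).map f = Jstd C' n := by
  ext i j
  rw [Matrix.map_apply, Jstd_apply, Jstd_apply]
  split_ifs <;> simp

/-- the `2 × 2` alternating matrix. -/
def J2 : Matrix (Fin 2) (Fin 2) C := Matrix.of ![![0, -1], ![1, 0]]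

theorem J2_mul_J2 : J2 C * J2 C = -1 := by
  ext i j
  fin_cases i <;> fin_cases j <;> simp [J2, Matrix.mul_apply, Fin.sum_univ_two]

/-- `M_k(M_2(C)) ≃ M_{2k}(C)`, blocks on the index pairs `{2i, 2i+1}`. -/
noncomputable def Xi (k : ℕ) :
    Matrix (Fin k) (Fin k) (Matrix (Fin 2) (Fin 2) C) ≃ₐ[C] Matrix (Fin (k * 2)) (Fin (k * 2)) C :=
  (Matrix.compAlgEquiv (Fin k) (Fin 2) C C).trans (Matrix.reindexAlgEquiv C C finProdFinEquiv)

theorem Xi_apply (k : ℕ) (M : Matrix (Fin k) (Fin k) (Matrix (Fin 2) (Fin 2) C))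
    (i j : Fin (k * 2)) :
    Xi C k M i j = M i.divNat j.divNat i.modNat j.modNat := rfl

theorem Xi_scalar_J2 (k : ℕ) : Xi C k (Matrix.scalar (Fin k) (J2 C)) = Jstd C (k * 2) := by
  ext i j
  rw [Xi_apply, Jstd_apply, Matrix.scalar_apply, Matrix.diagonal_apply]
  have hi : (i.divNat : Fin k).val = i.val / 2 := rfl
  have hj : (j.divNat : Fin k).val = j.val / 2 := rfl
  have hi' : (i.modNat : Fin 2).val = i.val % 2 := rfl
  have hj' : (j.modNat : Fin 2).val = j.val % 2 := rfl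
  by_cases h : i.val / 2 = j.val / 2
  · have h' : (i.divNat : Fin k) = j.divNat := Fin.ext (by rw [hi, hj, h])
    rw [if_pos h', if_pos h]
    rcases Nat.mod_two_eq_zero_or_one i.val with h1 | h1 <;>
    rcases Nat.mod_two_eq_zero_or_one j.val with h3 | h3
    · have e1 : (i.modNat : Fin 2) = 0 := Fin.ext (by rw [hi', h1]; rfl)
      have e2 : (j.modNat : Fin 2) = 0 := Fin.ext (by rw [hj', h3]; rfl)
      rw [e1, e2]
      simp [J2, Nat.even_iff, h1, h3]
    · have e1 : (i.modNat : Fin 2) = 0 := Fin.ext (by rw [hi', h1]; rfl)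
      have e2 : (j.modNat : Fin 2) = 1 := Fin.ext (by rw [hj', h3]; rfl)
      rw [e1, e2]
      simp [J2, Nat.even_iff, h1, h3]
    · have e1 : (i.modNat : Fin 2) = 1 := Fin.ext (by rw [hi', h1]; rfl)
      have e2 : (j.modNat : Fin 2) = 0 := Fin.ext (by rw [hj', h3]; rfl)
      rw [e1, e2]
      simp [J2, Nat.even_iff, h1, h3]
    · have e1 : (i.modNat : Fin 2) = 1 := Fin.ext (by rw [hi', h1]; rfl)
      have e2 : (j.modNat : Fin 2) = 1 := Fin.ext (by rw [hj', h3]; rfl)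
      rw [e1, e2]
      simp [J2, Nat.even_iff, h1, h3]
  · have h' : (i.divNat : Fin k) ≠ j.divNat := fun e => h (by rw [← hi, ← hj, e])
    rw [if_neg h', if_neg h]
    rfl

theorem Jstd_mul_Jstd (k : ℕ) : Jstd C (k * 2) * Jstd C (k * 2) = -1 := by
  rw [← Xi_scalar_J2, ← map_mul, ← map_mul (Matrix.scalar (Fin k)), J2_mul_J2, map_neg, map_one,
    map_neg, map_one]

end Jstd






section Pure

variable {C : Type u} [CommRing C] {D : Type v} [Ring D] [Algebra C D] {n : ℕ}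

theorem hatM_eq_matMap (E : Fin n → Fin n → D) (M : Matrix (Fin n) (Fin n) C) :
    hatM E M = matMap C D n E M := rfl

/-- the action of `σ` on all of `M_n(C)` from its action on matrix units. -/
theorem sigma_matMap (g : Matrix (Fin n) (Fin n) C ≃ₐ[C] D) (E : Fin n → Fin n → D)
    (hg : ∀ M, g M = matMap C D n E M) (σ : D →ₗ[C] D) (W W' : Matrix (Fin n) (Fin n) C)
    (hσ : ∀ a b, σ (E a b) = hatM E W * E b a * hatM E W') (M : Matrix (Fin n) (Fin n) C) :
    σ (g M) = g (W * Mᵀ * W') := by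
  classical
  conv_lhs => rw [Matrix.matrix_eq_sum_single M]
  have hT : Mᵀ = ∑ a, ∑ b, Matrix.single b a (M a b) := by
    conv_lhs => rw [Matrix.matrix_eq_sum_single M]
    rw [Matrix.transpose_sum]
    refine Finset.sum_congr rfl fun a _ => ?_
    rw [Matrix.transpose_sum]
    refine Finset.sum_congr rfl fun b _ => ?_
    rw [Matrix.transpose_single]
  rw [hT]
  simp only [Finset.mul_sum, Finset.sum_mul, map_sum]
  refine Finset.sum_congr rfl fun a _ => Finset.sum_congr rfl fun b _ => ?_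
  have h1 : g (Matrix.single a b (M a b)) = M a b • E a b := by
    rw [hg, matMap_single]
  have h2 : (Matrix.single b a (M a b) : Matrix (Fin n) (Fin n) C) =
      M a b • Matrix.single b a (1 : C) := by
    rw [Matrix.smul_single, smul_eq_mul, mul_one]
  rw [h1, map_smul, hσ, h2, Matrix.mul_smul, Matrix.smul_mul, map_smul, map_mul, map_mul,
    hatM_eq_matMap, hatM_eq_matMap, ← hg, ← hg]
  congr 3
  rw [hg, matMap_single, one_smul]

end Pure






section Pure2

variable (C : Type u) [CommRing C] [IsLocalRing C] (D : Type v) [Ring D] [Algebra C D]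
  [IsAzumaya C D] {n : ℕ}

/-- over a local ring with `2` invertible, an involution cannot have both an orthogonal and a
symplectic system of adapted matrix units. -/
theorem not_both_patterns (h2 : IsUnit (2 : C)) (hn : 0 < n)
    (hrank : ∀ p : PrimeSpectrum C, Module.rankAtStalk (R := C) D p = n ^ 2)
    (σ : D →ₗ[C] D)
    (E₁ : Fin n → Fin n → D) (he₁ : ∀ a b c d, E₁ a b * E₁ c d = if b = c then E₁ a d else 0)
    (hs₁ : ∑ a, E₁ a a = 1)
    (hσ₁ : ∀ a b, σ (E₁ a b) = hatM E₁ (1 : Matrix (Fin n) (Fin n) C) * E₁ b a *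
      hatM E₁ (1 : Matrix (Fin n) (Fin n) C))
    (E₂ : Fin n → Fin n → D) (he₂ : ∀ a b c d, E₂ a b * E₂ c d = if b = c then E₂ a d else 0)
    (hs₂ : ∑ a, E₂ a a = 1) (J' : Matrix (Fin n) (Fin n) C) (hJ' : Jstd C n * J' = 1)
    (hσ₂ : ∀ a b, σ (E₂ a b) = hatM E₂ (Jstd C n) * E₂ b a * hatM E₂ J') : False := by
  classical
  have : Nonempty (Fin n) := ⟨⟨0, hn⟩⟩
  obtain ⟨g₁, hg₁⟩ := exists_algEquiv_matMap C D n hn hrank E₁ he₁ hs₁
  obtain ⟨g₂, hg₂⟩ := exists_algEquiv_matMap C D n hn hrank E₂ he₂ hs₂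
  have k₁ := sigma_matMap g₁ E₁ hg₁ σ 1 1 hσ₁
  have k₂ := sigma_matMap g₂ E₂ hg₂ σ (Jstd C n) J' hσ₂
  have hAzM : IsAzumaya C (Matrix (Fin n) (Fin n) C) := IsAzumaya.matrix C (Fin n)
  obtain ⟨⟨c, hc⟩, -⟩ := Groth.Agent.S5705.result C (Matrix (Fin n) (Fin n) C) (g₁.trans g₂.symm)
  set cm : Matrix (Fin n) (Fin n) C := (c : Matrix (Fin n) (Fin n) C) with hcm
  set ci : Matrix (Fin n) (Fin n) C := ((c⁻¹ : (Matrix (Fin n) (Fin n) C)ˣ) :
    Matrix (Fin n) (Fin n) C) with hci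
  have hcc : cm * ci = 1 := c.mul_inv
  have hcc' : ci * cm = 1 := c.inv_mul
  have hg12 : ∀ x, g₁ x = g₂ (cm * x * ci) := by
    intro x
    rw [← hc x, AlgEquiv.trans_apply, AlgEquiv.apply_symm_apply]
  -- the key identity
  have key : ∀ y : Matrix (Fin n) (Fin n) C, cm * y * ci = Jstd C n * (ciᵀ * y * cmᵀ) * J' := by
    intro y
    apply g₂.injective
    have e1 : σ (g₁ yᵀ) = g₂ (cm * y * ci) := by
      rw [k₁, Matrix.one_mul, Matrix.mul_one, Matrix.transpose_transpose, hg12]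
    have e2 : σ (g₁ yᵀ) = g₂ (Jstd C n * (ciᵀ * y * cmᵀ) * J') := by
      rw [hg12, k₂, Matrix.transpose_mul, Matrix.transpose_mul, Matrix.transpose_transpose]
      simp only [Matrix.mul_assoc]
    rw [← e1, e2]
  have hct : cmᵀ * ciᵀ = 1 := by rw [← Matrix.transpose_mul, hcc', Matrix.transpose_one]
  have hct' : ciᵀ * cmᵀ = 1 := by rw [← Matrix.transpose_mul, hcc, Matrix.transpose_one]
  have hJ'J : J' * Jstd C n = 1 := (mul_eq_one_comm).mp hJ'
  set z := ci * Jstd C n * ciᵀ with hz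
  set z' := cmᵀ * J' * cm with hz'
  have hzz' : z * z' = 1 := by
    rw [hz, hz']
    calc ci * Jstd C n * ciᵀ * (cmᵀ * J' * cm) = ci * (Jstd C n * ((ciᵀ * cmᵀ) * J')) * cm := by
          simp only [Matrix.mul_assoc]
      _ = 1 := by rw [hct', Matrix.one_mul, hJ', Matrix.mul_one, hcc']
  have hz'z : z' * z = 1 := (mul_eq_one_comm).mp hzz'
  have hzy : ∀ y : Matrix (Fin n) (Fin n) C, z * y * z' = y := by
    intro y
    have := key y
    calc z * y * z' = ci * (Jstd C n * (ciᵀ * y * cmᵀ) * J') * cm := by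
          rw [hz, hz']; simp only [Matrix.mul_assoc]
      _ = ci * (cm * y * ci) * cm := by rw [← this]
      _ = (ci * cm) * y * (ci * cm) := by simp only [Matrix.mul_assoc]
      _ = y := by rw [hcc', Matrix.one_mul, Matrix.mul_one]
  have hcomm : ∀ y : Matrix (Fin n) (Fin n) C, Commute y z := by
    intro y
    calc y * z = (z * y * z') * z := by rw [hzy]
      _ = z * y * (z' * z) := by simp only [Matrix.mul_assoc]
      _ = z * y := by rw [hz'z, Matrix.mul_one]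
  obtain ⟨ε, hε⟩ := Matrix.mem_range_scalar_iff_commute_single'.mpr (fun i j => hcomm _)
  -- `Jstd = ε • cm * cmᵀ` is symmetric
  have hJ : Jstd C n = ε • (cm * cmᵀ) := by
    calc Jstd C n = (cm * ci) * Jstd C n * (ciᵀ * cmᵀ) := by
          rw [hcc, hct', Matrix.one_mul, Matrix.mul_one]
      _ = cm * z * cmᵀ := by rw [hz]; simp only [Matrix.mul_assoc]
      _ = cm * (Matrix.scalar (Fin n) ε) * cmᵀ := by rw [hε]
      _ = ε • (cm * cmᵀ) := by
          rw [Matrix.scalar_apply, ← Matrix.smul_one_eq_diagonal, Matrix.mul_smul, Matrix.mul_one,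
            Matrix.smul_mul]
  have hsym : (Jstd C n)ᵀ = Jstd C n := by
    conv_lhs => rw [hJ]
    rw [Matrix.transpose_smul, Matrix.transpose_mul, Matrix.transpose_transpose, ← hJ]
  rw [Jstd_transpose] at hsym
  have h0 : Jstd C n = 0 := by
    have h3 : (2 : C) • Jstd C n = 0 := by
      rw [two_smul]
      nth_rewrite 1 [← hsym]
      exact neg_add_cancel _
    exact (h2.smul_eq_zero).mp h3
  rw [h0, Matrix.zero_mul] at hJ'
  have : (0 : Matrix (Fin n) (Fin n) C) ⟨0, hn⟩ ⟨0, hn⟩ = (1 : Matrix (Fin n) (Fin n) C) ⟨0, hn⟩ ⟨0, hn⟩ := by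
    rw [hJ']
  simp at this

end Pure2






theorem Jstd_mul_neg_Jstd (C : Type*) [CommRing C] {n : ℕ} (heven : Even n) :
    Jstd C n * -Jstd C n = 1 := by
  obtain ⟨k, hk⟩ : ∃ k, n = k * 2 := by
    obtain ⟨r, hr⟩ := heven
    exact ⟨r, by omega⟩
  subst hk
  rw [Matrix.mul_neg, Jstd_mul_Jstd, neg_neg]

section RLevel

variable (R : Type u) [CommRing R] (A : Type w) [Ring A] [Algebra R A]
  (t : LamInv R A (AlgEquiv.refl : R ≃ₐ[R] R)) {n : ℕ}

omit t in
theorem matElt_eq_hatM (T : Type*) [CommRing T] [Algebra R T] (E : Fin n → Fin n → T ⊗[R] A)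
    (M : Matrix (Fin n) (Fin n) R) :
    matElt R T E M = hatM E (M.map (algebraMap R T)) := by
  rw [matElt, hatM]
  refine Finset.sum_congr rfl fun a _ => Finset.sum_congr rfl fun b _ => ?_
  rw [Matrix.map_apply]
  have : ((1 : T) ⊗ₜ[R] algebraMap R A (M a b)) = algebraMap R T (M a b) • (1 : T ⊗[R] A) := by
    rw [Algebra.TensorProduct.one_def, TensorProduct.smul_tmul', smul_eq_mul, mul_one,
      Algebra.algebraMap_eq_smul_one, Algebra.algebraMap_eq_smul_one, TensorProduct.smul_tmul]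
  rw [this, smul_mul_assoc, one_mul]

/-- over a strictly henselian local `R`-algebra `T` (with `2` invertible), the base change of an
involution of the first kind has orthogonal or symplectic adapted matrix units. -/
theorem isAdapted_of_strictlyHenselian (h2 : IsUnit (2 : R)) (hn : 0 < n)
    (hA : AzInv.IsAzumayaDeg R A n)
    (T : Type u) [CommRing T] [Algebra R T] [HenselianLocalRing T] [IsSepClosed (ResidueField T)] :
    (∃ E : Fin n → Fin n → T ⊗[R] A,
        IsAdapted R (AlgEquiv.refl : R ≃ₐ[R] R) t T (1 : Matrix (Fin n) (Fin n) R) 1 E) ∨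
      (Even n ∧ ∃ E : Fin n → Fin n → T ⊗[R] A,
        IsAdapted R (AlgEquiv.refl : R ≃ₐ[R] R) t T (Jstd R n) (-Jstd R n) E) := by
  classical
  haveI : IsAzumaya R A := hA.1
  haveI : IsAzumaya T (T ⊗[R] A) := Groth.Agent.Lib.LeadAzumaya.isAzumaya_baseChange T A
  have : Module.Finite T (T ⊗[R] A) := IsAzumaya.toFinite (R := T)
  have : Module.Projective T (T ⊗[R] A) := IsAzumaya.toProjective (R := T)
  have : Module.Free T (T ⊗[R] A) := Module.free_of_flat_of_isLocalRing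
  have hfr : Module.finrank T (T ⊗[R] A) = n ^ 2 := by
    have := rankAtStalk_baseChange_eq R A n hA T (closedPoint T)
    rw [Module.rankAtStalk_eq_finrank_of_free] at this
    exact this
  have h2T : IsUnit (2 : T) := by
    have := h2.map (algebraMap R T)
    rwa [map_ofNat] at this
  obtain ⟨E, hmul, hsum, hcase⟩ := exists_units_of_involution T (T ⊗[R] A) h2T n hn hfr
    (t.bc R (AlgEquiv.refl : R ≃ₐ[R] R) T) (bc_mul _ t T) (bc_bc _ t T)
  rcases hcase with h | ⟨heven, h⟩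
  · left
    refine ⟨E, ⟨hmul, hsum, fun a b => ?_⟩⟩
    rw [matElt_eq_hatM, Matrix.map_one _ (map_zero _) (map_one _)]
    exact h a b
  · right
    refine ⟨heven, E, ⟨hmul, hsum, fun a b => ?_⟩⟩
    have hneg : (-Jstd R n).map (algebraMap R T) = -Jstd T n := by
      rw [← Jstd_map R (algebraMap R T) n]
      ext i j
      simp
    rw [matElt_eq_hatM, matElt_eq_hatM, Jstd_map, hneg]
    exact h (-Jstd T n) (Jstd_mul_neg_Jstd T heven) a b

/-- étale-local form of the dichotomy at a prime. -/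
theorem exists_etNbhd_isAdapted_or (h2 : IsUnit (2 : R)) (hn : 0 < n)
    (hA : AzInv.IsAzumayaDeg R A n) (q : PrimeSpectrum R) :
    (∃ (N : EtNbhd R q) (EE : Fin n → Fin n → N.B ⊗[R] A),
        IsAdapted R (AlgEquiv.refl : R ≃ₐ[R] R) t N.B (1 : Matrix (Fin n) (Fin n) R) 1 EE) ∨
      (Even n ∧ ∃ (N : EtNbhd R q) (EE : Fin n → Fin n → N.B ⊗[R] A),
        IsAdapted R (AlgEquiv.refl : R ≃ₐ[R] R) t N.B (Jstd R n) (-Jstd R n) EE) := by
  haveI := q.isPrime
  obtain ⟨T, _, _, hH, hsc, hF, hq⟩ := exists_strictHenselization_atPrime R q.asIdeal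
  rcases isAdapted_of_strictlyHenselian R A t h2 hn hA T with ⟨E, hE⟩ | ⟨heven, E, hE⟩
  · left
    exact exists_etNbhd_isAdapted R _ t _ _ q hF hq E hE
  · right
    exact ⟨heven, exists_etNbhd_isAdapted R _ t _ _ q hF hq E hE⟩

/-- over a local `R`-algebra with `2` invertible there are no orthogonal and symplectic adapted
units at the same time. -/
theorem not_isAdapted_both_local (h2 : IsUnit (2 : R)) (hn : 0 < n) (heven : Even n)
    (hA : AzInv.IsAzumayaDeg R A n) (K : Type*) [CommRing K] [IsLocalRing K] [Algebra R K]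
    (E₁ : Fin n → Fin n → K ⊗[R] A)
    (had₁ : IsAdapted R (AlgEquiv.refl : R ≃ₐ[R] R) t K (1 : Matrix (Fin n) (Fin n) R) 1 E₁)
    (E₂ : Fin n → Fin n → K ⊗[R] A)
    (had₂ : IsAdapted R (AlgEquiv.refl : R ≃ₐ[R] R) t K (Jstd R n) (-Jstd R n) E₂) : False := by
  haveI : IsAzumaya R A := hA.1
  haveI : IsAzumaya K (K ⊗[R] A) := Groth.Agent.Lib.LeadAzumaya.isAzumaya_baseChange K A
  have h2K : IsUnit (2 : K) := by
    have := h2.map (algebraMap R K)
    rwa [map_ofNat] at this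
  have hneg : (-Jstd R n).map (algebraMap R K) = -Jstd K n := by
    rw [← Jstd_map R (algebraMap R K) n]
    ext i j
    simp
  refine not_both_patterns K (K ⊗[R] A) h2K hn (rankAtStalk_baseChange_eq R A n hA K)
    (t.bc R (AlgEquiv.refl : R ≃ₐ[R] R) K) E₁ had₁.mul had₁.sum (fun a b => ?_)
    E₂ had₂.mul had₂.sum (-Jstd K n) (Jstd_mul_neg_Jstd K heven) (fun a b => ?_)
  · have := had₁.inv a b
    rwa [matElt_eq_hatM, Matrix.map_one _ (map_zero _) (map_one _)] at this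
  · have := had₂.inv a b
    rwa [matElt_eq_hatM, matElt_eq_hatM, Jstd_map, hneg] at this

/-- orthogonal and symplectic adapted units cannot both exist étale-locally at the same prime. -/
theorem not_isAdapted_both (h2 : IsUnit (2 : R)) (hn : 0 < n) (heven : Even n)
    (hA : AzInv.IsAzumayaDeg R A n)
    (B₁ B₂ : Type u) [CommRing B₁] [CommRing B₂] [Algebra R B₁] [Algebra R B₂]
    (E₁ : Fin n → Fin n → B₁ ⊗[R] A)
    (had₁ : IsAdapted R (AlgEquiv.refl : R ≃ₐ[R] R) t B₁ (1 : Matrix (Fin n) (Fin n) R) 1 E₁)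
    (E₂ : Fin n → Fin n → B₂ ⊗[R] A)
    (had₂ : IsAdapted R (AlgEquiv.refl : R ≃ₐ[R] R) t B₂ (Jstd R n) (-Jstd R n) E₂)
    (Q₁ : PrimeSpectrum B₁) (Q₂ : PrimeSpectrum B₂)
    (hQ : Q₁.asIdeal.under R = Q₂.asIdeal.under R) : False := by
  obtain ⟨𝔔, h𝔔, -, -⟩ := Groth.Agent.Lib.Helper18StdEtaleCover.exists_prime_tensor R B₁ B₂
    Q₁.asIdeal Q₂.asIdeal hQ
  obtain ⟨m, hm, -⟩ := Ideal.exists_le_maximal 𝔔 h𝔔.ne_top
  letI : Field ((B₁ ⊗[R] B₂) ⧸ m) := Ideal.Quotient.field m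
  let f₁ : B₁ →ₐ[R] (B₁ ⊗[R] B₂) ⧸ m :=
    (Ideal.Quotient.mkₐ R m).comp Algebra.TensorProduct.includeLeft
  let f₂ : B₂ →ₐ[R] (B₁ ⊗[R] B₂) ⧸ m :=
    (Ideal.Quotient.mkₐ R m).comp Algebra.TensorProduct.includeRight
  exact not_isAdapted_both_local R A t h2 hn heven hA ((B₁ ⊗[R] B₂) ⧸ m) _
    (Groth.Agent.Lib.Seat25.AzInvE.IsAdapted.map f₁ had₁) _
    (Groth.Agent.Lib.Seat25.AzInvE.IsAdapted.map f₂ had₂)

end RLevel






section Global

variable (R : Type u) [CommRing R]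

/-- a property that holds on some étale neighbourhood of a prime holds on an open set of primes. -/
theorem isOpen_setOf_exists_etNbhd (P : ∀ (B : Type u) [CommRing B] [Algebra R B], Prop) :
    IsOpen {q : PrimeSpectrum R | ∃ N : EtNbhd R q, P N.B} := by
  rw [isOpen_iff_forall_mem_open]
  rintro q ⟨N, hN⟩
  haveI := N.etale
  refine ⟨Set.range (PrimeSpectrum.comap (algebraMap R N.B)), ?_, isOpen_range_comap N.B,
    ⟨N.q, N.hq⟩⟩
  rintro _ ⟨Q, rfl⟩
  exact ⟨{ B := N.B, etale := N.etale, q := Q, hq := rfl }, hN⟩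

variable (A : Type w) [Ring A] [Algebra R A]
  (t : LamInv R A (AlgEquiv.refl : R ≃ₐ[R] R)) {n : ℕ}

/-- **Orthogonal or symplectic, globally, over a connected base.** -/
theorem exists_cover_isAdapted_or [ConnectedSpace (PrimeSpectrum R)] (h2 : IsUnit (2 : R))
    (hn : 0 < n) (hA : AzInv.IsAzumayaDeg R A n) :
    (∃ (S' : Type u) (_ : CommRing S') (_ : Algebra R S') (_ : Algebra.Etale R S')
      (_ : Module.FaithfullyFlat R S') (E : Fin n → Fin n → S' ⊗[R] A),
      IsAdapted R (AlgEquiv.refl : R ≃ₐ[R] R) t S' (1 : Matrix (Fin n) (Fin n) R) 1 E) ∨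
    (Even n ∧ ∃ (S' : Type u) (_ : CommRing S') (_ : Algebra R S') (_ : Algebra.Etale R S')
      (_ : Module.FaithfullyFlat R S') (E : Fin n → Fin n → S' ⊗[R] A),
      IsAdapted R (AlgEquiv.refl : R ≃ₐ[R] R) t S' (Jstd R n) (-Jstd R n) E) := by
  classical
  set U₁ : Set (PrimeSpectrum R) := {q | ∃ N : EtNbhd R q, ∃ EE : Fin n → Fin n → N.B ⊗[R] A,
    IsAdapted R (AlgEquiv.refl : R ≃ₐ[R] R) t N.B (1 : Matrix (Fin n) (Fin n) R) 1 EE} with hU₁
  set U₂ : Set (PrimeSpectrum R) := {q | ∃ N : EtNbhd R q, ∃ EE : Fin n → Fin n → N.B ⊗[R] A,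
    IsAdapted R (AlgEquiv.refl : R ≃ₐ[R] R) t N.B (Jstd R n) (-Jstd R n) EE} with hU₂
  have ho₁ : IsOpen U₁ := isOpen_setOf_exists_etNbhd R
    (fun B _ _ => ∃ EE : Fin n → Fin n → B ⊗[R] A,
      IsAdapted R (AlgEquiv.refl : R ≃ₐ[R] R) t B (1 : Matrix (Fin n) (Fin n) R) 1 EE)
  have ho₂ : IsOpen U₂ := isOpen_setOf_exists_etNbhd R
    (fun B _ _ => ∃ EE : Fin n → Fin n → B ⊗[R] A,
      IsAdapted R (AlgEquiv.refl : R ≃ₐ[R] R) t B (Jstd R n) (-Jstd R n) EE)
  have hcov : ∀ q, q ∈ U₁ ∨ (Even n ∧ q ∈ U₂) := fun q =>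
    exists_etNbhd_isAdapted_or R A t h2 hn hA q
  have hdisj : Even n → ∀ q, q ∈ U₁ → q ∈ U₂ → False := by
    rintro heven q ⟨N₁, E₁, h₁⟩ ⟨N₂, E₂, h₂⟩
    refine not_isAdapted_both R A t h2 hn heven hA N₁.B N₂.B E₁ h₁ E₂ h₂ N₁.q N₂.q ?_
    have e₁ := congrArg PrimeSpectrum.asIdeal N₁.hq
    have e₂ := congrArg PrimeSpectrum.asIdeal N₂.hq
    rw [Ideal.under_def, Ideal.under_def]
    exact e₁.trans e₂.symm
  by_cases hall : ∀ q, q ∈ U₁
  · left
    exact exists_cover_isAdapted R _ t _ _ hall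
  · right
    obtain ⟨q₀, hq₀⟩ := not_forall.mp hall
    obtain ⟨heven, hq₀'⟩ := (hcov q₀).resolve_left hq₀
    refine ⟨heven, exists_cover_isAdapted R _ t _ _ fun q => ?_⟩
    by_contra hq
    have hq₁ : q ∈ U₁ := (hcov q).resolve_right (fun h => hq h.2)
    have hpre : IsPreconnected (Set.univ : Set (PrimeSpectrum R)) := isPreconnected_univ
    obtain ⟨z, -, hz₁, hz₂⟩ := hpre U₁ U₂ ho₁ ho₂
      (fun x _ => (hcov x).imp id (fun h => h.2)) ⟨q, trivial, hq₁⟩ ⟨q₀, trivial, hq₀'⟩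
    exact hdisj heven z hz₁ hz₂

end Global






section XiInv

variable (C : Type u) [CommRing C]

theorem Xi_conj (k : ℕ) (Jm Jm' : Matrix (Fin 2) (Fin 2) C)
    (M : Matrix (Fin k) (Fin k) (Matrix (Fin 2) (Fin 2) C)) :
    Xi C k (Matrix.of fun i j => Jm * (M j i)ᵀ * Jm') =
      Xi C k (Matrix.scalar (Fin k) Jm) * (Xi C k M)ᵀ * Xi C k (Matrix.scalar (Fin k) Jm') := by
  have h1 : (Xi C k M)ᵀ = Xi C k (Matrix.of fun i j => (M j i)ᵀ) := by
    ext i j
    rfl
  rw [h1, ← map_mul, ← map_mul]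
  congr 1
  ext i j : 1
  rw [Matrix.scalar_apply, Matrix.scalar_apply, Matrix.mul_diagonal, Matrix.diagonal_mul]
  rfl

end XiInv


section SameType

/-- `M_1(A) ≃ A`. -/
def mat1 (R : Type u) [CommRing R] (A : Type w) [Ring A] [Algebra R A] :
    Matrix (Fin 1) (Fin 1) A ≃ₐ[R] A where
  toFun M := M 0 0
  invFun a := Matrix.of fun _ _ => a
  left_inv M := by
    ext i j
    rw [Subsingleton.elim i 0, Subsingleton.elim j 0]
    rfl
  right_inv a := rfl
  map_mul' M N := by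
    rw [Matrix.mul_apply, Fin.sum_univ_one]
  map_add' M N := rfl
  commutes' r := by
    rw [Matrix.algebraMap_matrix_apply, if_pos rfl]

theorem sameType_orth (R : Type u) [CommRing R]
    (hlam : ∀ r : R, (AlgEquiv.refl : R ≃ₐ[R] R) ((AlgEquiv.refl : R ≃ₐ[R] R) r) = r)
    (A : Type w) [Ring A] [Algebra R A]
    (n : ℕ) (hn : 0 < n) (hA : AzInv.IsAzumayaDeg R A n)
    (t : AzInv.LamInv R A (AlgEquiv.refl : R ≃ₐ[R] R))
    (S' : Type u) [CommRing S'] [Algebra R S'] [Algebra.Etale R S'] [Module.FaithfullyFlat R S']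
    (E : Fin n → Fin n → S' ⊗[R] A)
    (had : IsAdapted R (AlgEquiv.refl : R ≃ₐ[R] R) t S' (1 : Matrix (Fin n) (Fin n) R) 1 E) :
    AzInv.SameType R (AlgEquiv.refl : R ≃ₐ[R] R) t
      (AzInv.LamInv.self (AlgEquiv.refl : R ≃ₐ[R] R) hlam) := by
  classical
  have hW : LamInv.transpose (AlgEquiv.refl : R ≃ₐ[R] R) (Fin n) hlam
      (↑(1 : (Matrix (Fin n) (Fin n) R)ˣ) : Matrix (Fin n) (Fin n) R) =
      (1 : R) • (↑(1 : (Matrix (Fin n) (Fin n) R)ˣ) : Matrix (Fin n) (Fin n) R) := by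
    ext i j
    rw [Units.val_one, LamInv.transpose_apply, Matrix.smul_apply, Matrix.one_apply, Matrix.one_apply]
    simp [eq_comm]
  have he : (AlgEquiv.refl : R ≃ₐ[R] R) 1 * 1 = 1 := by simp
  have L := locIsoEt_of_isAdapted R (AlgEquiv.refl : R ≃ₐ[R] R) hlam t hn hA 1 1 hW he S' E
    (by simpa using had)
  refine ⟨1, n, one_pos, hn, ?_⟩
  refine algEquiv_trans_locIsoEt R _ (mat1 R A) ?_
    (locIsoEt_trans_algEquiv R _ L AlgEquiv.refl ?_)
  · intro M
    rfl
  · intro M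
    ext i j
    change ((LamInv.transpose (AlgEquiv.refl : R ≃ₐ[R] R) (Fin n) hlam).conj 1 1 hW he) M i j =
      ((LamInv.self (AlgEquiv.refl : R ≃ₐ[R] R) hlam).matrix (Fin n)) M i j
    rw [LamInv.conj_apply, Units.val_one, inv_one, Units.val_one, one_mul, mul_one,
      LamInv.transpose_apply, LamInv.matrix_apply, LamInv.self_apply]

theorem sameType_sympl (R : Type u) [CommRing R]
    (hlam : ∀ r : R, (AlgEquiv.refl : R ≃ₐ[R] R) ((AlgEquiv.refl : R ≃ₐ[R] R) r) = r)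
    (J : (Matrix (Fin 2) (Fin 2) R)ˣ)
    (hJ : (↑J : Matrix (Fin 2) (Fin 2) R) = Matrix.of ![![0, -1], ![1, 0]])
    (hJt : AzInv.LamInv.transpose (AlgEquiv.refl : R ≃ₐ[R] R) (Fin 2) hlam
      (↑J : Matrix (Fin 2) (Fin 2) R) = (-1 : R) • (↑J : Matrix (Fin 2) (Fin 2) R))
    (hneg : (AlgEquiv.refl : R ≃ₐ[R] R) (-1) * (-1) = 1)
    (A : Type w) [Ring A] [Algebra R A]
    (k : ℕ) (hn : 0 < k * 2) (hA : AzInv.IsAzumayaDeg R A (k * 2))
    (t : AzInv.LamInv R A (AlgEquiv.refl : R ≃ₐ[R] R))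
    (S' : Type u) [CommRing S'] [Algebra R S'] [Algebra.Etale R S'] [Module.FaithfullyFlat R S']
    (E : Fin (k * 2) → Fin (k * 2) → S' ⊗[R] A)
    (had : IsAdapted R (AlgEquiv.refl : R ≃ₐ[R] R) t S' (Jstd R (k * 2)) (-Jstd R (k * 2)) E) :
    AzInv.SameType R (AlgEquiv.refl : R ≃ₐ[R] R) t
      ((AzInv.LamInv.transpose (AlgEquiv.refl : R ≃ₐ[R] R) (Fin 2) hlam).conj J (-1) hJt hneg) := by
  classical
  have hk : 0 < k := by omega
  let φ : Matrix (Fin 2) (Fin 2) R →* Matrix (Fin (k * 2)) (Fin (k * 2)) R :=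
    ((Xi R k).toAlgHom.toRingHom.comp (Matrix.scalar (Fin k))).toMonoidHom
  have hφ : ∀ x, φ x = Xi R k (Matrix.scalar (Fin k) x) := fun _ => rfl
  let Wu : (Matrix (Fin (k * 2)) (Fin (k * 2)) R)ˣ := Units.map φ J
  have hWu : (↑Wu : Matrix (Fin (k * 2)) (Fin (k * 2)) R) = Jstd R (k * 2) := by
    change φ ↑J = _
    rw [hφ, hJ]
    exact Xi_scalar_J2 R k
  have hWu' : (↑Wu⁻¹ : Matrix (Fin (k * 2)) (Fin (k * 2)) R) = -Jstd R (k * 2) := by
    have h1 : (↑Wu⁻¹ : Matrix (Fin (k * 2)) (Fin (k * 2)) R) * Jstd R (k * 2) = 1 := by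
      rw [← hWu]
      exact Wu.inv_mul
    calc (↑Wu⁻¹ : Matrix (Fin (k * 2)) (Fin (k * 2)) R)
        = ↑Wu⁻¹ * (Jstd R (k * 2) * -Jstd R (k * 2)) := by
          rw [Jstd_mul_neg_Jstd R ⟨k, by ring⟩, mul_one]
      _ = -Jstd R (k * 2) := by rw [← mul_assoc, h1, one_mul]
  have hW : LamInv.transpose (AlgEquiv.refl : R ≃ₐ[R] R) (Fin (k * 2)) hlam
      (↑Wu : Matrix (Fin (k * 2)) (Fin (k * 2)) R) =
      (-1 : R) • (↑Wu : Matrix (Fin (k * 2)) (Fin (k * 2)) R) := by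
    rw [hWu]
    have := Jstd_transpose R (k * 2)
    ext i j
    have h3 := congrFun (congrFun this i) j
    rw [LamInv.transpose_apply, Matrix.smul_apply]
    simpa using h3
  have L := locIsoEt_of_isAdapted R (AlgEquiv.refl : R ≃ₐ[R] R) hlam t hn hA Wu (-1) hW hneg S' E
    (by rw [hWu, hWu']; exact had)
  refine ⟨1, k, one_pos, hk, ?_⟩
  refine algEquiv_trans_locIsoEt R _ (mat1 R A) ?_
    (locIsoEt_trans_algEquiv R _ L (Xi R k).symm ?_)
  · intro M
    rfl
  · intro M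
    obtain ⟨M', rfl⟩ := (Xi R k).surjective M
    rw [AlgEquiv.symm_apply_apply, AlgEquiv.symm_apply_eq]
    have h1 : (((AzInv.LamInv.transpose (AlgEquiv.refl : R ≃ₐ[R] R) (Fin 2) hlam).conj J (-1) hJt
        hneg).matrix (Fin k)) M' =
        Matrix.of fun i j => (↑J : Matrix (Fin 2) (Fin 2) R) * (M' j i)ᵀ *
          (↑J⁻¹ : Matrix (Fin 2) (Fin 2) R) := by
      ext i j : 1
      rfl
    rw [h1, Xi_conj, LamInv.conj_apply, ← hφ, ← hφ]
    rfl


end SameType

end Groth.Agent.Lib.Seat25.AzInvG
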