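import Mathlib
import Groth.Agent.Lib.Seat25AzInvG

/-!
# Dimension of the fixed space of a linear involution (abstract counting)

* `sdim τ`: dimension of the fixed space of `τ`; `sdim_congr`, `sdim_baseChange` (field extension).
* `matInv m τ` on `M_m(W)` and `two_mul_sdim_matInv`:
  `2 sdim = 2 m sdim τ + m (m - 1) dim W`.
* models: `conjT K W W' : x ↦ W xᵀ W'`; `two_mul_sdim_transpose`, `sdim_symp2`,
  `two_mul_sdim_Jstd`.
-/

set_option autoImplicit false

open scoped TensorProduct
open Matrix

namespace Groth.Agent.Lib.Seat25.AzInvH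

open Groth.Agent.Lib.Seat25.AzInvF Groth.Agent.Lib.Seat25.AzInvG

universe u v



section Abstract

variable {K : Type*} [Field K] {V : Type*} [AddCommGroup V] [Module K V]
  {V' : Type*} [AddCommGroup V'] [Module K V']

/-- the dimension of the fixed space of an endomorphism. -/
noncomputable def sdim (τ : V →ₗ[K] V) : ℕ := Module.finrank K (LinearMap.eqLocus τ LinearMap.id)

theorem sdim_congr (τ : V →ₗ[K] V) (τ' : V' →ₗ[K] V') (e : V ≃ₗ[K] V')
    (h : ∀ x, e (τ x) = τ' (e x)) : sdim τ = sdim τ' := by
  have hmap : (LinearMap.eqLocus τ LinearMap.id).map (e : V →ₗ[K] V') =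
      LinearMap.eqLocus τ' LinearMap.id := by
    ext y
    constructor
    · rintro ⟨x, hx, rfl⟩
      change τ' (e x) = e x
      rw [← h, show τ x = x from hx]
    · intro hy
      refine ⟨e.symm y, ?_, by simp⟩
      change τ (e.symm y) = e.symm y
      apply e.injective
      rw [h, e.apply_symm_apply]
      exact hy
  rw [sdim, sdim, ← hmap]
  exact (LinearEquiv.finrank_eq (e.submoduleMap _))

theorem sdim_baseChange (L : Type*) [Field L] [Algebra K L] (τ : V →ₗ[K] V) :
    sdim (τ.baseChange L) = sdim τ := by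
  have e := LinearMap.tensorEqLocusEquiv L L τ LinearMap.id
  have h1 : TensorProduct.AlgebraTensorModule.lTensor L L τ = τ.baseChange L := rfl
  have h2 : TensorProduct.AlgebraTensorModule.lTensor L L (LinearMap.id : V →ₗ[K] V) =
      LinearMap.id := by
    ext x
    simp
  rw [h1, h2] at e
  rw [sdim, sdim, ← e.finrank_eq, Module.finrank_baseChange]

end Abstract




section MatrixInv

variable {K : Type*} [Field K] {W : Type*} [AddCommGroup W] [Module K W]

/-- the involution `N ↦ (τ N_ji)` of `M_m(W)`. -/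
def matInv (m : ℕ) (τ : W →ₗ[K] W) : Matrix (Fin m) (Fin m) W →ₗ[K] Matrix (Fin m) (Fin m) W where
  toFun N := Matrix.of fun i j => τ (N j i)
  map_add' M N := by ext i j; simp
  map_smul' c N := by ext i j; simp

@[simp] theorem matInv_apply (m : ℕ) (τ : W →ₗ[K] W) (N : Matrix (Fin m) (Fin m) W)
    (i j : Fin m) : matInv m τ N i j = τ (N j i) := rfl

/-- the fixed space of `matInv`: diagonal entries fixed, strictly upper entries free. -/
noncomputable def fixEquiv (m : ℕ) (τ : W →ₗ[K] W) (hτ : ∀ x, τ (τ x) = x) :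
    LinearMap.eqLocus (matInv m τ) LinearMap.id ≃ₗ[K]
      ((Fin m → LinearMap.eqLocus τ LinearMap.id) × ((Σ j : Fin m, Fin j.val) → W)) where
  toFun N := (fun i => ⟨N.1 i i, by
      have := congrFun (congrFun N.2 i) i
      exact this⟩,
    fun p => N.1 ⟨p.2.val, lt_trans p.2.isLt p.1.isLt⟩ p.1)
  map_add' M N := by
    ext <;> simp
  map_smul' c N := by
    ext <;> simp
  invFun x := ⟨Matrix.of fun i j =>
      if h : i.val < j.val then x.2 ⟨j, ⟨i.val, h⟩⟩
      else if h' : j.val < i.val then τ (x.2 ⟨i, ⟨j.val, h'⟩⟩) else (x.1 i : W), by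
    ext i j
    change τ (Matrix.of _ j i) = Matrix.of _ i j
    simp only [Matrix.of_apply]
    by_cases h : i.val < j.val
    · have h' : ¬ j.val < i.val := by omega
      rw [dif_neg h', dif_pos h, dif_pos h, hτ]
    · by_cases h' : j.val < i.val
      · rw [dif_pos h', dif_neg h, dif_pos h']
      · have hij : j = i := Fin.ext (by omega)
        subst hij
        rw [dif_neg h, dif_neg h]
        exact (x.1 j).2⟩
  left_inv N := by
    apply Subtype.ext
    ext i j
    simp only [Matrix.of_apply]
    by_cases h : i.val < j.val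
    · rw [dif_pos h]
    · by_cases h' : j.val < i.val
      · rw [dif_neg h, dif_pos h']
        have := congrFun (congrFun N.2 i) j
        exact this
      · have hij : j = i := Fin.ext (by omega)
        subst hij
        rw [dif_neg h, dif_neg h]
  right_inv x := by
    refine Prod.ext ?_ ?_
    · funext i
      apply Subtype.ext
      simp
    · funext p
      obtain ⟨j, i⟩ := p
      simp only [Matrix.of_apply]
      rw [dif_pos i.isLt]

theorem card_sigma_fin (m : ℕ) : 2 * Fintype.card (Σ j : Fin m, Fin j.val) = m * (m - 1) := by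
  rw [Fintype.card_sigma]
  simp only [Fintype.card_fin]
  rw [Fin.sum_univ_eq_sum_range (fun i => i) m, mul_comm, Finset.sum_range_id_mul_two]

theorem two_mul_sdim_matInv [FiniteDimensional K W] (m : ℕ) (τ : W →ₗ[K] W)
    (hτ : ∀ x, τ (τ x) = x) :
    2 * sdim (matInv m τ) = 2 * m * sdim τ + m * (m - 1) * Module.finrank K W := by
  rw [sdim, (fixEquiv m τ hτ).finrank_eq, Module.finrank_prod, Module.finrank_pi_fintype,
    Module.finrank_pi_fintype]
  simp only [Finset.sum_const, Finset.card_univ, Fintype.card_fin, smul_eq_mul]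
  rw [← card_sigma_fin m, sdim]
  ring

end MatrixInv





section Models

variable (K : Type*) [Field K]

/-- `x ↦ W xᵀ W'` as a linear map. -/
def conjT {n : ℕ} (W W' : Matrix (Fin n) (Fin n) K) :
    Matrix (Fin n) (Fin n) K →ₗ[K] Matrix (Fin n) (Fin n) K where
  toFun x := W * xᵀ * W'
  map_add' x y := by rw [Matrix.transpose_add, Matrix.mul_add, Matrix.add_mul]
  map_smul' c x := by
    rw [Matrix.transpose_smul, Matrix.mul_smul, Matrix.smul_mul, RingHom.id_apply]

@[simp] theorem conjT_apply {n : ℕ} (W W' x : Matrix (Fin n) (Fin n) K) :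
    conjT K W W' x = W * xᵀ * W' := rfl

theorem sdim_id : sdim (LinearMap.id : K →ₗ[K] K) = 1 := by
  rw [sdim]
  have : LinearMap.eqLocus (LinearMap.id : K →ₗ[K] K) LinearMap.id = ⊤ := by
    ext x
    simp
  rw [this, finrank_top, Module.finrank_self]

theorem two_mul_sdim_transpose (n : ℕ) :
    2 * sdim (conjT K (1 : Matrix (Fin n) (Fin n) K) 1) = n * (n + 1) := by
  have h : conjT K (1 : Matrix (Fin n) (Fin n) K) 1 = matInv n (LinearMap.id : K →ₗ[K] K) := by
    ext x i j
    simp [Matrix.transpose_apply]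
  rw [h, two_mul_sdim_matInv n _ (fun _ => rfl), sdim_id, Module.finrank_self]
  cases n with
  | zero => rfl
  | succ k =>
    simp only [Nat.add_sub_cancel]
    ring

theorem sdim_symp2 (h2 : (2 : K) ≠ 0) : sdim (conjT K (J2 K) (-J2 K)) = 1 := by
  rw [sdim]
  have : LinearMap.eqLocus (conjT K (J2 K) (-J2 K)) LinearMap.id =
      Submodule.span K {(1 : Matrix (Fin 2) (Fin 2) K)} := by
    ext x
    rw [Submodule.mem_span_singleton]
    constructor
    · intro hx
      have hx' : J2 K * xᵀ * -J2 K = x := hx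
      have key : J2 K * xᵀ * -J2 K = Matrix.of ![![x 1 1, -x 0 1], ![-x 1 0, x 0 0]] := by
        ext i j
        fin_cases i <;> fin_cases j <;>
          simp [J2, Matrix.mul_apply, Fin.sum_univ_two, Matrix.vecMul, dotProduct,
            Matrix.transpose_apply]
      rw [key] at hx'
      have e01 : -x 0 1 = x 0 1 := congrFun (congrFun hx' 0) 1
      have e10 : -x 1 0 = x 1 0 := congrFun (congrFun hx' 1) 0
      have e00 : x 1 1 = x 0 0 := congrFun (congrFun hx' 0) 0
      have h01 : x 0 1 = 0 := by
        have : (2 : K) * x 0 1 = 0 := by rw [two_mul]; nth_rewrite 1 [← e01]; ring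
        exact (mul_eq_zero.mp this).resolve_left h2
      have h10 : x 1 0 = 0 := by
        have : (2 : K) * x 1 0 = 0 := by rw [two_mul]; nth_rewrite 1 [← e10]; ring
        exact (mul_eq_zero.mp this).resolve_left h2
      refine ⟨x 0 0, ?_⟩
      ext i j
      fin_cases i <;> fin_cases j <;> simp [h01, h10, e00]
    · rintro ⟨c, rfl⟩
      change J2 K * (c • (1 : Matrix (Fin 2) (Fin 2) K))ᵀ * -J2 K = c • 1
      rw [Matrix.transpose_smul, Matrix.transpose_one, Matrix.mul_smul, Matrix.mul_one,
        Matrix.smul_mul, Matrix.mul_neg, J2_mul_J2, neg_neg]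
  rw [this, finrank_span_singleton one_ne_zero]

theorem two_mul_sdim_Jstd (h2 : (2 : K) ≠ 0) (k : ℕ) :
    2 * sdim (conjT K (Jstd K (k * 2)) (-Jstd K (k * 2))) = (k * 2) * (k * 2 - 1) := by
  have hc : sdim (matInv k (conjT K (J2 K) (-J2 K))) =
      sdim (conjT K (Jstd K (k * 2)) (-Jstd K (k * 2))) := by
    refine sdim_congr _ _ (Xi K k).toLinearEquiv (fun M => ?_)
    change Xi K k (matInv k (conjT K (J2 K) (-J2 K)) M) =
      Jstd K (k * 2) * (Xi K k M)ᵀ * -Jstd K (k * 2)
    have h1 : matInv k (conjT K (J2 K) (-J2 K)) M =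
        Matrix.of fun i j => J2 K * (M j i)ᵀ * -J2 K := by
      ext i j : 1
      rfl
    rw [h1, Xi_conj, Xi_scalar_J2, map_neg (Matrix.scalar (Fin k)), map_neg, Xi_scalar_J2]
  have hinv : ∀ x : Matrix (Fin 2) (Fin 2) K,
      conjT K (J2 K) (-J2 K) (conjT K (J2 K) (-J2 K) x) = x := by
    intro x
    simp only [conjT_apply, Matrix.transpose_mul, Matrix.transpose_transpose,
      Matrix.transpose_neg]
    have ht : (J2 K)ᵀ = -J2 K := by
      ext i j
      fin_cases i <;> fin_cases j <;> simp [J2]
    rw [ht]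
    calc J2 K * (- -J2 K * (x * -J2 K)) * -J2 K
        = (J2 K * J2 K) * x * (J2 K * J2 K) := by
          simp only [neg_neg, Matrix.mul_neg, Matrix.neg_mul, Matrix.mul_assoc]
      _ = x := by rw [J2_mul_J2]; simp
  rw [← hc, two_mul_sdim_matInv k _ hinv, sdim_symp2 K h2, Module.finrank_matrix]
  simp only [Fintype.card_fin, Module.finrank_self]
  cases k with
  | zero => rfl
  | succ j =>
    have : (j + 1) * 2 - 1 = 2 * j + 1 := by omega
    rw [this]
    simp only [Nat.add_sub_cancel]
    ring

end Models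


end Groth.Agent.Lib.Seat25.AzInvH
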