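import Mathlib
import Groth.Agent.Lib.Seat25AzInvH
import Groth.Agent.Lib.Helper10AzSign
import Groth.Agent.Lib.Helper18StdEtaleCover

/-!
# The sign of a `lam`-involution at a ramified prime via symmetric elements

On top of `Helper10AzSign` (`fibreInv`, `symSpan`):
* `symSpan_eq_eqLocus`, `finrank_symSpan_eq_sdim`, `sdim_fibreInv_of_field_ext`,
  `finrank_symSpan_residueField_eq` (the dimension can be computed at any field point with kernel `q`);
* `matTensor`, `two_mul_sdim_fibreInv_matrix` (matrix algebras);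
* `piMap : P ⊗[S] A → K ⊗[R] A`, `transMap`, `sdim_eq_of_algEquiv` (transport along an isomorphism of
  algebras with involution over an `S`-algebra `P` with a point in `K`);
* `sdim_of_isAdapted`, `two_mul_sdim_of_isAdapted_one/_Jstd`;
* `sign_arith`, `symSpan_of_sameType`: **same type ⇒ same sign at every ramified prime**.
-/

set_option autoImplicit false
set_option linter.style.haveILetI false

open scoped TensorProduct
open Matrix AzInv

namespace Groth.Agent.Lib.Seat25.AzInvI

open Groth.Agent.Lib.Seat25.AzInvH Groth.Agent.Lib.Helper10.AzSign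
open Groth.Agent.Lib.Seat25.AzInvF Groth.Agent.Lib.Seat25.AzInvG Groth.Agent.Lib.Seat25.AzInvD
  Groth.Agent.Lib.Seat25.AzInvA Groth.Agent.Lib.Seat25.AzInvB

universe u v w w'




section Fibre

variable {R : Type v} {A : Type w} [CommRing R] [Ring A] [Algebra R A] {lam : R → R}
  (t : AzInv.LamInv R A lam)
  (K : Type*) [Field K] [Algebra R K]
  (hram : ∀ r : R, algebraMap R K (lam r) = algebraMap R K r)

include hram in
/-- the span of the images of the symmetric elements is the fixed space of the fibre involution. -/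
theorem symSpan_eq_eqLocus (u : R) (hu : 2 * u = 1) (hlu : lam u = u) :
    symSpan t K = LinearMap.eqLocus (fibreInv t K hram) LinearMap.id := by
  apply le_antisymm
  · apply Submodule.span_le.mpr
    rintro _ ⟨a, rfl⟩
    change fibreInv t K hram ((1 : K) ⊗ₜ[R] (a : A)) = (1 : K) ⊗ₜ[R] (a : A)
    rw [fibreInv_tmul, a.2]
  · intro x hx
    have hx' : fibreInv t K hram x = x := hx
    have hP : ∀ y : K ⊗[R] A, algebraMap R K u • (y + fibreInv t K hram y) ∈ symSpan t K := by
      intro y
      induction y using TensorProduct.induction_on with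
      | zero => simp
      | tmul c a =>
        have hs : t (u • (a + t a)) = u • (a + t a) := by
          rw [t.map_smul, hlu, t.map_add, t.invol, add_comm]
        have : algebraMap R K u • (c ⊗ₜ[R] a + fibreInv t K hram (c ⊗ₜ[R] a)) =
            c • ((1 : K) ⊗ₜ[R] (u • (a + t a))) := by
          rw [fibreInv_tmul, ← TensorProduct.tmul_add, TensorProduct.smul_tmul',
            TensorProduct.smul_tmul', smul_eq_mul, smul_eq_mul, mul_one, ← Algebra.smul_def,
            TensorProduct.smul_tmul]
        rw [this]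
        exact Submodule.smul_mem _ _ (Submodule.subset_span ⟨⟨_, hs⟩, rfl⟩)
      | add y z hy hz =>
        rw [map_add, add_add_add_comm, smul_add]
        exact Submodule.add_mem _ hy hz
    have h2 : algebraMap R K u • (x + fibreInv t K hram x) = x := by
      rw [hx', ← two_smul K x, smul_smul]
      have : algebraMap R K u * 2 = 1 := by
        rw [mul_comm, ← map_ofNat (algebraMap R K) 2, ← map_mul, hu, map_one]
      rw [this, one_smul]
    rw [← h2]
    exact hP x

include hram in
theorem finrank_symSpan_eq_sdim (u : R) (hu : 2 * u = 1) (hlu : lam u = u) :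
    Module.finrank K (symSpan t K) = sdim (fibreInv t K hram) := by
  rw [symSpan_eq_eqLocus t K hram u hu hlu, sdim]

/-- invariance of the fixed-space dimension under extension of the field. -/
theorem sdim_fibreInv_of_field_ext (L : Type*) [Field L] [Algebra R L] [Algebra K L]
    [IsScalarTower R K L] (hramL : ∀ r : R, algebraMap R L (lam r) = algebraMap R L r) :
    sdim (fibreInv t L hramL) = sdim (fibreInv t K hram) := by
  rw [← sdim_baseChange L (fibreInv t K hram)]
  symm
  refine sdim_congr _ _ (TensorProduct.AlgebraTensorModule.cancelBaseChange R K L L A)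
    (fun y => ?_)
  induction y using TensorProduct.induction_on with
  | zero => simp
  | add y z hy hz => rw [map_add, map_add, hy, hz, map_add, map_add]
  | tmul l x =>
    rw [LinearMap.baseChange_tmul]
    induction x using TensorProduct.induction_on with
    | zero => simp
    | add y z hy hz =>
      rw [map_add, TensorProduct.tmul_add, map_add, hy, hz, TensorProduct.tmul_add, map_add,
        map_add]
    | tmul c a =>
      rw [fibreInv_tmul, TensorProduct.AlgebraTensorModule.cancelBaseChange_tmul,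
        TensorProduct.AlgebraTensorModule.cancelBaseChange_tmul, fibreInv_tmul]

end Fibre





section MatrixFibre

variable {R : Type v} {A : Type w} [CommRing R] [Ring A] [Algebra R A] {lam : R → R}
  (t : AzInv.LamInv R A lam)
  (K : Type*) [Field K] [Algebra R K]
  (hram : ∀ r : R, algebraMap R K (lam r) = algebraMap R K r)

/-- `K ⊗ M_m(A) ≃ M_m(K ⊗ A)`. -/
noncomputable def matTensor (m : ℕ) :
    K ⊗[R] Matrix (Fin m) (Fin m) A ≃ₗ[K] Matrix (Fin m) (Fin m) (K ⊗[R] A) :=
  (TensorProduct.AlgebraTensorModule.congr (LinearEquiv.refl K K)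
    (Matrix.ofLinearEquiv R (m := Fin m) (n := Fin m) (α := A)).symm).trans
  ((TensorProduct.piRight R K K (fun _ : Fin m => Fin m → A)).trans
    ((LinearEquiv.piCongrRight fun _ => TensorProduct.piRight R K K (fun _ : Fin m => A)).trans
      (Matrix.ofLinearEquiv K)))

theorem matTensor_tmul (m : ℕ) (c : K) (M : Matrix (Fin m) (Fin m) A) (i j : Fin m) :
    matTensor (R := R) (A := A) K m (c ⊗ₜ[R] M) i j = c ⊗ₜ[R] M i j := by
  simp [matTensor]

theorem matTensor_fibreInv (m : ℕ) (x : K ⊗[R] Matrix (Fin m) (Fin m) A) :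
    matTensor K m (fibreInv (t.matrix (Fin m)) K hram x) =
      matInv m (fibreInv t K hram) (matTensor K m x) := by
  induction x using TensorProduct.induction_on with
  | zero => simp
  | add y z hy hz => rw [map_add, map_add, hy, hz, map_add, map_add]
  | tmul c M =>
    ext i j
    rw [fibreInv_tmul, matTensor_tmul, matInv_apply, matTensor_tmul, fibreInv_tmul]
    rfl

theorem two_mul_sdim_fibreInv_matrix [Module.Finite R A] (m : ℕ) :
    2 * sdim (fibreInv (t.matrix (Fin m)) K hram) =
      2 * m * sdim (fibreInv t K hram) + m * (m - 1) * Module.finrank K (K ⊗[R] A) := by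
  rw [sdim_congr _ _ (matTensor K m) (matTensor_fibreInv t K hram m)]
  refine two_mul_sdim_matInv m _ (fun x => ?_)
  induction x using TensorProduct.induction_on with
  | zero => simp
  | add y z hy hz => rw [map_add, map_add, hy, hz]
  | tmul c a => rw [fibreInv_tmul, fibreInv_tmul, t.invol]

end MatrixFibre





section Pi

variable {S : Type u} {R : Type v} [CommRing S] [CommRing R] [Algebra S R]
  {A : Type w} [Ring A] [Algebra S A] [Algebra R A] [IsScalarTower S R A]
  (lam : R ≃ₐ[S] R) (t : LamInv R A lam)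
  {P : Type*} [CommRing P] [Algebra S P]
  {K : Type*} [Field K] [Algebra R K] [Algebra S K] [IsScalarTower S R K]
  (φ : P →ₐ[S] K)

variable (R A) in
/-- `p ⊗ a ↦ φ p ⊗ a : P ⊗[S] A → K ⊗[R] A`. -/
noncomputable def piMap : P ⊗[S] A →ₐ[S] K ⊗[R] A :=
  Algebra.TensorProduct.lift
    ((Algebra.TensorProduct.includeLeft : K →ₐ[S] K ⊗[R] A).comp φ)
    ((Algebra.TensorProduct.includeRight : A →ₐ[R] K ⊗[R] A).restrictScalars S)
    (fun p a => by
      change (φ p ⊗ₜ[R] (1 : A)) * ((1 : K) ⊗ₜ[R] a) = ((1 : K) ⊗ₜ[R] a) * (φ p ⊗ₜ[R] (1 : A))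
      rw [Algebra.TensorProduct.tmul_mul_tmul, Algebra.TensorProduct.tmul_mul_tmul, mul_one,
        one_mul, mul_one, one_mul])

@[simp] theorem piMap_tmul (p : P) (a : A) :
    piMap R A φ (p ⊗ₜ[S] a) = φ p ⊗ₜ[R] a := by
  rw [piMap, Algebra.TensorProduct.lift_tmul]
  change (φ p ⊗ₜ[R] (1 : A)) * ((1 : K) ⊗ₜ[R] a) = _
  rw [Algebra.TensorProduct.tmul_mul_tmul, mul_one, one_mul]

variable (hram : ∀ r : R, algebraMap R K (lam r) = algebraMap R K r)

theorem piMap_bc (x : P ⊗[S] A) :
    piMap R A φ (t.bc S lam P x) = fibreInv t K hram (piMap R A φ x) := by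
  induction x using TensorProduct.induction_on with
  | zero => simp
  | add y z hy hz => rw [map_add, map_add, hy, hz, map_add, map_add]
  | tmul p a => rw [LamInv.bc_tmul, piMap_tmul, piMap_tmul, fibreInv_tmul]

theorem piMap_algebraMap_mul (r : R) (x : P ⊗[S] A) :
    piMap R A φ (((1 : P) ⊗ₜ[S] algebraMap R A r) * x) = algebraMap R K r • piMap R A φ x := by
  have h1 : (1 : K) ⊗ₜ[R] algebraMap R A r = algebraMap R K r ⊗ₜ[R] (1 : A) := by
    rw [Algebra.algebraMap_eq_smul_one, ← TensorProduct.smul_tmul,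
      Algebra.algebraMap_eq_smul_one]
  rw [map_mul, piMap_tmul, map_one, Algebra.smul_def, Algebra.TensorProduct.algebraMap_apply,
    h1]
  rfl

theorem piMap_smul (p : P) (x : P ⊗[S] A) :
    piMap R A φ (p • x) = φ p • piMap R A φ x := by
  induction x using TensorProduct.induction_on with
  | zero => simp
  | add y z hy hz => rw [smul_add, map_add, hy, hz, map_add, smul_add]
  | tmul p' a =>
    rw [TensorProduct.smul_tmul', piMap_tmul, piMap_tmul, TensorProduct.smul_tmul', smul_eq_mul,
      smul_eq_mul, map_mul]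

end Pi





section Transport

variable {S : Type u} {R : Type v} [CommRing S] [CommRing R] [Algebra S R]
  {A : Type w} [Ring A] [Algebra S A] [Algebra R A] [IsScalarTower S R A]
  {A' : Type w'} [Ring A'] [Algebra S A'] [Algebra R A'] [IsScalarTower S R A']
  (lam : R ≃ₐ[S] R) (t : LamInv R A lam) (t' : LamInv R A' lam)
  {P : Type*} [CommRing P] [Algebra S P]
  {K : Type*} [Field K] [Algebra R K] [Algebra S K] [IsScalarTower S R K]
  (φ : P →ₐ[S] K)

/-- the `K`-linear map `K ⊗[R] A → K ⊗[R] A'` induced by a `P`-linear, `R`-compatible map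
`P ⊗[S] A → P ⊗[S] A'`. -/
noncomputable def transMap (f : P ⊗[S] A →ₗ[P] P ⊗[S] A')
    (hfR : ∀ (r : R) (x : P ⊗[S] A),
      f (((1 : P) ⊗ₜ[S] algebraMap R A r) * x) = ((1 : P) ⊗ₜ[S] algebraMap R A' r) * f x) :
    K ⊗[R] A →ₗ[K] K ⊗[R] A' :=
  LinearMap.liftBaseChange K
    { toFun := fun a => piMap R A' φ (f ((1 : P) ⊗ₜ[S] a))
      map_add' := fun a b => by rw [TensorProduct.tmul_add, map_add, map_add]
      map_smul' := fun r a => by
        have h1 : (1 : P) ⊗ₜ[S] (r • a) = ((1 : P) ⊗ₜ[S] algebraMap R A r) * ((1 : P) ⊗ₜ[S] a) := by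
          rw [Algebra.TensorProduct.tmul_mul_tmul, one_mul, ← Algebra.smul_def]
        rw [h1, hfR, piMap_algebraMap_mul, RingHom.id_apply, algebraMap_smul] }

omit [IsScalarTower S R A] in
theorem transMap_tmul (f : P ⊗[S] A →ₗ[P] P ⊗[S] A')
    (hfR : ∀ (r : R) (x : P ⊗[S] A),
      f (((1 : P) ⊗ₜ[S] algebraMap R A r) * x) = ((1 : P) ⊗ₜ[S] algebraMap R A' r) * f x)
    (c : K) (a : A) :
    transMap φ f hfR (c ⊗ₜ[R] a) = c • piMap R A' φ (f ((1 : P) ⊗ₜ[S] a)) := by
  rw [transMap, LinearMap.liftBaseChange_tmul]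
  rfl

theorem transMap_piMap (f : P ⊗[S] A →ₗ[P] P ⊗[S] A')
    (hfR : ∀ (r : R) (x : P ⊗[S] A),
      f (((1 : P) ⊗ₜ[S] algebraMap R A r) * x) = ((1 : P) ⊗ₜ[S] algebraMap R A' r) * f x)
    (y : P ⊗[S] A) :
    transMap φ f hfR (piMap R A φ y) = piMap R A' φ (f y) := by
  induction y using TensorProduct.induction_on with
  | zero => simp
  | add y z hy hz => rw [map_add, map_add, hy, hz, map_add, map_add]
  | tmul p a =>
    rw [piMap_tmul, transMap_tmul, ← piMap_smul, ← map_smul, TensorProduct.smul_tmul',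
      smul_eq_mul, mul_one]

variable (hram : ∀ r : R, algebraMap R K (lam r) = algebraMap R K r)

theorem transMap_fibreInv (f : P ⊗[S] A →ₗ[P] P ⊗[S] A')
    (hfR : ∀ (r : R) (x : P ⊗[S] A),
      f (((1 : P) ⊗ₜ[S] algebraMap R A r) * x) = ((1 : P) ⊗ₜ[S] algebraMap R A' r) * f x)
    (hft : ∀ x, f (t.bc S lam P x) = t'.bc S lam P (f x)) (x : K ⊗[R] A) :
    transMap φ f hfR (fibreInv t K hram x) = fibreInv t' K hram (transMap φ f hfR x) := by
  induction x using TensorProduct.induction_on with
  | zero => simp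
  | add y z hy hz => rw [map_add, map_add, hy, hz, map_add, map_add]
  | tmul c a =>
    rw [fibreInv_tmul, transMap_tmul, transMap_tmul, map_smul, ← piMap_bc lam t' φ hram, ← hft,
      LamInv.bc_tmul]

include φ in
/-- an isomorphism of algebras with involution over `P` induces one on the fibres at `K`. -/
theorem sdim_eq_of_algEquiv (f : P ⊗[S] A ≃ₐ[P] P ⊗[S] A')
    (hfR : ∀ (r : R) (x : P ⊗[S] A),
      f (((1 : P) ⊗ₜ[S] algebraMap R A r) * x) = ((1 : P) ⊗ₜ[S] algebraMap R A' r) * f x)
    (hft : ∀ x, f (t.bc S lam P x) = t'.bc S lam P (f x)) :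
    sdim (fibreInv t K hram) = sdim (fibreInv t' K hram) ∧
      Module.finrank K (K ⊗[R] A) = Module.finrank K (K ⊗[R] A') := by
  have hfR' : ∀ (r : R) (x : P ⊗[S] A'),
      f.symm (((1 : P) ⊗ₜ[S] algebraMap R A' r) * x) =
        ((1 : P) ⊗ₜ[S] algebraMap R A r) * f.symm x := by
    intro r x
    apply f.injective
    rw [hfR, f.apply_symm_apply, f.apply_symm_apply]
  let F := transMap φ f.toLinearMap hfR
  let F' := transMap φ f.symm.toLinearMap hfR'
  have h1 : ∀ x, F' (F x) = x := by
    intro x
    induction x using TensorProduct.induction_on with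
    | zero => simp
    | add y z hy hz => rw [map_add, map_add, hy, hz]
    | tmul c a =>
      change F' (transMap φ f.toLinearMap hfR (c ⊗ₜ[R] a)) = _
      rw [transMap_tmul, map_smul]
      change c • transMap φ f.symm.toLinearMap hfR' (piMap R A' φ _) = _
      rw [transMap_piMap]
      change c • piMap R A φ (f.symm (f ((1 : P) ⊗ₜ[S] a))) = _
      rw [f.symm_apply_apply, piMap_tmul, map_one, TensorProduct.smul_tmul', smul_eq_mul,
        mul_one]
  have h2 : ∀ x, F (F' x) = x := by
    intro x
    induction x using TensorProduct.induction_on with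
    | zero => simp
    | add y z hy hz => rw [map_add, map_add, hy, hz]
    | tmul c a =>
      change F (transMap φ f.symm.toLinearMap hfR' (c ⊗ₜ[R] a)) = _
      rw [transMap_tmul, map_smul]
      change c • transMap φ f.toLinearMap hfR (piMap R A φ _) = _
      rw [transMap_piMap]
      change c • piMap R A' φ (f (f.symm ((1 : P) ⊗ₜ[S] a))) = _
      rw [f.apply_symm_apply, piMap_tmul, map_one, TensorProduct.smul_tmul', smul_eq_mul,
        mul_one]
  let e : K ⊗[R] A ≃ₗ[K] K ⊗[R] A' := LinearEquiv.ofLinearMap F F'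
    (LinearMap.ext h2) (LinearMap.ext h1)
  refine ⟨sdim_congr _ _ e (fun x => ?_), e.finrank_eq⟩
  exact transMap_fibreInv lam t t' φ hram f.toLinearMap hfR hft x

end Transport





section Adapted

variable {S : Type u} {R : Type v} [CommRing S] [CommRing R] [Algebra S R]
  {A : Type w} [Ring A] [Algebra S A] [Algebra R A] [IsScalarTower S R A]
  (lam : R ≃ₐ[S] R) (t : LamInv R A lam)
  {P : Type*} [CommRing P] [Algebra S P]
  {K : Type*} [Field K] [Algebra R K] [Algebra S K] [IsScalarTower S R K]
  (φ : P →ₐ[S] K) (hram : ∀ r : R, algebraMap R K (lam r) = algebraMap R K r) {n : ℕ}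

theorem piMap_matElt (E : Fin n → Fin n → P ⊗[S] A) (W : Matrix (Fin n) (Fin n) R) :
    piMap R A φ (matElt S P E W) =
      hatM (fun a b => piMap R A φ (E a b)) (W.map (algebraMap R K)) := by
  rw [matElt, hatM, map_sum]
  refine Finset.sum_congr rfl fun a _ => ?_
  rw [map_sum]
  refine Finset.sum_congr rfl fun b _ => ?_
  rw [piMap_algebraMap_mul, Matrix.map_apply]

include φ in
/-- the fixed-space dimension at a field point of an algebra with `W`-adapted matrix units. -/
theorem sdim_of_isAdapted (hn : 0 < n) (hA : AzInv.IsAzumayaDeg R A n)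
    (W W' : Matrix (Fin n) (Fin n) R) (E : Fin n → Fin n → P ⊗[S] A)
    (had : IsAdapted S lam t P W W' E) :
    sdim (fibreInv t K hram) =
      sdim (conjT K (W.map (algebraMap R K)) (W'.map (algebraMap R K))) := by
  classical
  haveI : IsAzumaya R A := hA.1
  haveI : IsAzumaya K (K ⊗[R] A) := Groth.Agent.Lib.LeadAzumaya.isAzumaya_baseChange K A
  have : Nonempty (Fin n) := ⟨⟨0, hn⟩⟩
  set e : Fin n → Fin n → K ⊗[R] A := fun a b => piMap R A φ (E a b) with he
  have hmul : ∀ a b c d, e a b * e c d = if b = c then e a d else 0 := by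
    intro a b c d
    simp only [he]
    rw [← map_mul, had.mul]
    split_ifs
    · rfl
    · exact map_zero _
  have hsum : ∑ a, e a a = 1 := by
    simp only [he]
    rw [← map_sum, had.sum, map_one]
  obtain ⟨g, hg⟩ := exists_algEquiv_matMap K (K ⊗[R] A) n hn
    (rankAtStalk_baseChange_eq R A n hA K) e hmul hsum
  have hσ : ∀ a b, fibreInv t K hram (e a b) =
      hatM e (W.map (algebraMap R K)) * e b a * hatM e (W'.map (algebraMap R K)) := by
    intro a b
    simp only [he]
    rw [← piMap_bc lam t φ hram, had.inv, map_mul, map_mul, piMap_matElt, piMap_matElt]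
  have key := sigma_matMap g e hg (fibreInv t K hram) (W.map (algebraMap R K))
    (W'.map (algebraMap R K)) hσ
  refine sdim_congr _ _ g.toLinearEquiv.symm (fun x => ?_)
  obtain ⟨M, rfl⟩ := g.surjective x
  change g.symm (fibreInv t K hram (g M)) = conjT K _ _ (g.symm (g M))
  rw [key, g.symm_apply_apply, g.symm_apply_apply, conjT_apply]

include φ in
theorem two_mul_sdim_of_isAdapted_one (hn : 0 < n) (hA : AzInv.IsAzumayaDeg R A n)
    (E : Fin n → Fin n → P ⊗[S] A)
    (had : IsAdapted S lam t P (1 : Matrix (Fin n) (Fin n) R) 1 E) :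
    2 * sdim (fibreInv t K hram) = n * (n + 1) := by
  rw [sdim_of_isAdapted lam t φ hram hn hA 1 1 E had,
    Matrix.map_one _ (map_zero _) (map_one _), two_mul_sdim_transpose]

include φ in
theorem two_mul_sdim_of_isAdapted_Jstd (h2 : (2 : K) ≠ 0) (hn : 0 < n) (heven : Even n)
    (hA : AzInv.IsAzumayaDeg R A n) (E : Fin n → Fin n → P ⊗[S] A)
    (had : IsAdapted S lam t P (Jstd R n) (-Jstd R n) E) :
    2 * sdim (fibreInv t K hram) = n * (n - 1) := by
  obtain ⟨k, hk⟩ : ∃ k, n = k * 2 := by
    obtain ⟨r, hr⟩ := heven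
    exact ⟨r, by omega⟩
  subst hk
  have hneg : (-Jstd R (k * 2)).map (algebraMap R K) = -Jstd K (k * 2) := by
    rw [← Jstd_map R (algebraMap R K) (k * 2)]
    ext i j
    simp
  rw [sdim_of_isAdapted lam t φ hram hn hA _ _ E had, Jstd_map, hneg, two_mul_sdim_Jstd K h2]

end Adapted





section Residue

variable {R : Type v} {A : Type w} [CommRing R] [Ring A] [Algebra R A] {lam : R → R}
  (t : AzInv.LamInv R A lam)

/-- the dimension of the span of the symmetric elements in the fibre at a ramified prime `q`,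
computed at any field-valued point with kernel `q`. -/
theorem finrank_symSpan_residueField_eq (u : R) (hu : 2 * u = 1) (hlu : lam u = u)
    (q : PrimeSpectrum R) (K : Type*) [Field K] [Algebra R K]
    (hker : RingHom.ker (algebraMap R K) = q.asIdeal)
    (hram : ∀ r : R, algebraMap R K (lam r) = algebraMap R K r) :
    Module.finrank q.asIdeal.ResidueField (symSpan t q.asIdeal.ResidueField) =
      sdim (fibreInv t K hram) := by
  have hf₁ : q.asIdeal ≤ RingHom.ker (algebraMap R K) := hker.ge
  have hf₂ : q.asIdeal.primeCompl ≤ (IsUnit.submonoid K).comap (algebraMap R K) := by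
    intro x hx
    change IsUnit (algebraMap R K x)
    rw [isUnit_iff_ne_zero]
    intro h0
    exact hx (hker ▸ (RingHom.mem_ker.mpr h0))
  letI : Algebra q.asIdeal.ResidueField K :=
    (Ideal.ResidueField.lift q.asIdeal (algebraMap R K) hf₁ hf₂).toAlgebra
  haveI : IsScalarTower R q.asIdeal.ResidueField K :=
    IsScalarTower.of_algebraMap_eq (fun r =>
      (Ideal.ResidueField.lift_algebraMap q.asIdeal (algebraMap R K) hf₁ hf₂ r).symm)
  have hramq : ∀ r : R, algebraMap R q.asIdeal.ResidueField (lam r) =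
      algebraMap R q.asIdeal.ResidueField r := by
    intro r
    rw [← sub_eq_zero, ← map_sub, Ideal.algebraMap_residueField_eq_zero, ← hker, RingHom.mem_ker,
      map_sub, hram, sub_self]
  rw [finrank_symSpan_eq_sdim t _ hramq u hu hlu]
  exact (sdim_fibreInv_of_field_ext t q.asIdeal.ResidueField hramq K hram).symm

end Residue





theorem two_mul_choose_succ (n : ℕ) : 2 * (n + 1).choose 2 = n * (n + 1) := by
  induction n with
  | zero => rfl
  | succ k ih =>
    rw [Nat.choose_succ_succ, Nat.choose_one_right, mul_add, ih]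
    ring

/-- the arithmetic behind the invariance of the sign. -/
theorem sign_arith (m m' n n' s s' : ℕ) (hm : 0 < m) (hm' : 0 < m')
    (E1 : 2 * m * s + m * (m - 1) * n ^ 2 = 2 * m' * s' + m' * (m' - 1) * n' ^ 2)
    (E2 : m * n = m' * n') (hs : s = (n + 1).choose 2) : s' = (n' + 1).choose 2 := by
  obtain ⟨a, rfl⟩ : ∃ a, m = a + 1 := ⟨m - 1, by omega⟩
  obtain ⟨b, rfl⟩ : ∃ b, m' = b + 1 := ⟨m' - 1, by omega⟩
  simp only [Nat.add_sub_cancel] at E1
  have hs2 : 2 * s = n * (n + 1) := by rw [hs, two_mul_choose_succ]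
  have key : (b + 1) * (2 * s') = (b + 1) * (n' * (n' + 1)) := by
    zify at E1 E2 hs2 ⊢
    linear_combination (-1 : ℤ) * E1 + ((a : ℤ) + 1) * hs2 +
      (((a : ℤ) + 1) * n + ((b : ℤ) + 1) * n' + 1) * E2
  have h3 : 2 * s' = n' * (n' + 1) := Nat.eq_of_mul_eq_mul_left (Nat.succ_pos b) key
  have h4 := two_mul_choose_succ n'
  omega

section Forward

variable (S : Type u) (R : Type v) [CommRing S] [CommRing R] [Algebra S R]
  (lam : R ≃ₐ[S] R)
  (A : Type w) [Ring A] [Algebra S A] [Algebra R A] [IsScalarTower S R A]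

omit [Algebra S A] [IsScalarTower S R A] in
theorem finrank_fibre {n : ℕ} (hA : AzInv.IsAzumayaDeg R A n) (K : Type*) [Field K]
    [Algebra R K] : Module.finrank K (K ⊗[R] A) = n ^ 2 := by
  haveI : IsAzumaya R A := hA.1
  haveI : IsAzumaya K (K ⊗[R] A) := Groth.Agent.Lib.LeadAzumaya.isAzumaya_baseChange K A
  have : Module.Finite K (K ⊗[R] A) := IsAzumaya.toFinite (R := K)
  have := rankAtStalk_baseChange_eq R A n hA K (IsLocalRing.closedPoint K)
  rw [Module.rankAtStalk_eq_finrank_of_free] at this
  exact this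

end Forward





section Forward

variable (S : Type u) (R : Type v) [CommRing S] [CommRing R] [Algebra S R]
  (lam : R ≃ₐ[S] R)
  (A : Type w) [Ring A] [Algebra S A] [Algebra R A] [IsScalarTower S R A]
  (A' : Type w') [Ring A'] [Algebra S A'] [Algebra R A'] [IsScalarTower S R A']

/-- **same type ⇒ same sign at every ramified prime** (one direction of the implication;
apply twice for the equivalence). -/
theorem symSpan_of_sameType (h2 : IsUnit (2 : S)) {n n' : ℕ}
    (hA : AzInv.IsAzumayaDeg R A n) (hA' : AzInv.IsAzumayaDeg R A' n')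
    (t : LamInv R A lam) (t' : LamInv R A' lam) (h : SameType S lam t t')
    (q : PrimeSpectrum R) (hq : ∀ r : R, lam r - r ∈ q.asIdeal) :
    Module.finrank q.asIdeal.ResidueField (symSpan t q.asIdeal.ResidueField) =
        (n + 1).choose 2 ↔
      Module.finrank q.asIdeal.ResidueField (symSpan t' q.asIdeal.ResidueField) =
        (n' + 1).choose 2 := by
  classical
  haveI : IsAzumaya R A := hA.1
  haveI : IsAzumaya R A' := hA'.1
  have : Module.Finite R A := IsAzumaya.toFinite (R := R)
  have : Module.Finite R A' := IsAzumaya.toFinite (R := R)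
  obtain ⟨v, hv⟩ := h2.exists_right_inv
  have hu : (2 : R) * algebraMap S R v = 1 := by
    rw [← map_ofNat (algebraMap S R) 2, ← map_mul, hv, map_one]
  have hlu : lam (algebraMap S R v) = algebraMap S R v := lam.commutes v
  obtain ⟨m, m', hm, hm', S', _, _, hE, hff, f, hfR, hft⟩ := h
  -- a point of `S'` over `q ∩ S`
  let p : PrimeSpectrum S := PrimeSpectrum.comap (algebraMap S R) q
  obtain ⟨p', hp'⟩ := PrimeSpectrum.comap_surjective_of_faithfullyFlat (A := S) (B := S') p
  haveI := q.isPrime
  haveI := p'.isPrime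
  obtain ⟨𝔔, h𝔔, h1, -⟩ := Groth.Agent.Lib.Helper18StdEtaleCover.exists_prime_tensor S R S'
    q.asIdeal p'.asIdeal (by
      rw [Ideal.under_def, Ideal.under_def]
      exact (congrArg PrimeSpectrum.asIdeal hp').symm)
  let X := R ⊗[S] S'
  let K := 𝔔.ResidueField
  let φ : S' →ₐ[S] K :=
    (IsScalarTower.toAlgHom S X K).comp (Algebra.TensorProduct.includeRight : S' →ₐ[S] X)
  have hker : RingHom.ker (algebraMap R K) = q.asIdeal := by
    rw [IsScalarTower.algebraMap_eq R X K, ← RingHom.comap_ker, Ideal.ker_algebraMap_residueField,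
      ← h1]
    rfl
  have hramK : ∀ r : R, algebraMap R K (lam r) = algebraMap R K r := by
    intro r
    rw [← sub_eq_zero, ← map_sub, ← RingHom.mem_ker, hker]
    exact hq r
  -- transport
  obtain ⟨e1, e2⟩ := sdim_eq_of_algEquiv lam (t.matrix (Fin m)) (t'.matrix (Fin m')) φ hramK f
    hfR hft
  have f1 := two_mul_sdim_fibreInv_matrix t K hramK m
  have f2 := two_mul_sdim_fibreInv_matrix t' K hramK m'
  rw [finrank_fibre R A hA K] at f1
  rw [finrank_fibre R A' hA' K] at f2
  have g1 : Module.finrank K (K ⊗[R] Matrix (Fin m) (Fin m) A) = m * m * n ^ 2 := by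
    rw [(matTensor K m).finrank_eq, Module.finrank_matrix, finrank_fibre R A hA K]
    simp
  have g2 : Module.finrank K (K ⊗[R] Matrix (Fin m') (Fin m') A') = m' * m' * n' ^ 2 := by
    rw [(matTensor K m').finrank_eq, Module.finrank_matrix, finrank_fibre R A' hA' K]
    simp
  rw [g1, g2] at e2
  have E2 : m * n = m' * n' := by
    have : (m * n) ^ 2 = (m' * n') ^ 2 := by
      calc (m * n) ^ 2 = m * m * n ^ 2 := by ring
        _ = m' * m' * n' ^ 2 := e2
        _ = (m' * n') ^ 2 := by ring
    exact Nat.pow_left_injective (by norm_num : 2 ≠ 0) this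
  have E1 : 2 * m * sdim (fibreInv t K hramK) + m * (m - 1) * n ^ 2 =
      2 * m' * sdim (fibreInv t' K hramK) + m' * (m' - 1) * n' ^ 2 := by
    rw [← f1, ← f2, e1]
  rw [finrank_symSpan_residueField_eq t _ hu hlu q K hker hramK,
    finrank_symSpan_residueField_eq t' _ hu hlu q K hker hramK]
  constructor
  · exact sign_arith m m' n n' _ _ hm hm' E1 E2
  · exact sign_arith m' m n' n _ _ hm' hm E1.symm E2.symm

end Forward


end Groth.Agent.Lib.Seat25.AzInvI
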