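import Mathlib
import Groth.Agent.S15583
import Groth.Agent.S15580
import Groth.Agent.S15574
import Groth.Agent.Lib.Seat25AzInvC

/-!
# `lam`-involutions of a matrix algebra over a ring with involution whose fixed ring is local

`C` a commutative ring with an involution `lamC` whose fixed ring `H` is local, such that every
`C`-automorphism of `M_n(C)` is inner.  If `n` is odd or `C` is quadratic étale over `H`, every
`lamC`-involution `τ` of `M_n(C)` admits a system of matrix units `e a b = P * E a b * Q` with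
`τ (e a b) = (d b / d a) • e b a` for units `d a` of `H`.
-/

set_option autoImplicit false

open scoped TensorProduct

namespace Groth.Agent.Lib.Seat77.AzInvD

open Groth.Agent.Lib.Seat25.AzInvC (IsInner)

universe u v

section Abstract

variable {H : Type u} {C : Type v} [CommRing H] [CommRing C] [Algebra H C]
  (lamC : C ≃+* C) (hinv : Function.Involutive lamC) {n : ℕ}

/-- the `lamC`-transpose as a `LamInv`. -/
noncomputable abbrev sig : AzInv.LamInv C (Matrix (Fin n) (Fin n) C) lamC :=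
  AzInv.LamInv.transpose lamC (Fin n) hinv

theorem sig_apply (M : Matrix (Fin n) (Fin n) C) (i j : Fin n) :
    sig lamC hinv M i j = lamC (M j i) := rfl

theorem sig_single (a b : Fin n) :
    sig lamC hinv (Matrix.single a b (1 : C)) = Matrix.single b a (1 : C) := by
  ext i j
  rw [sig_apply]
  by_cases h : b = i ∧ a = j
  · obtain ⟨rfl, rfl⟩ := h
    simp
  · have h' : ¬ (a = j ∧ b = i) := fun hh => h ⟨hh.2, hh.1⟩
    rw [Matrix.single_apply, if_neg h', Matrix.single_apply, if_neg h, map_zero]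

theorem sig_diagonal_apply (d : Fin n → C) (a : Fin n) :
    sig lamC hinv (Matrix.diagonal d) a a = lamC (d a) := by
  rw [sig_apply, Matrix.diagonal_apply_eq]

theorem sig_det (M : Matrix (Fin n) (Fin n) C) :
    (sig lamC hinv M).det = lamC M.det := by
  change (Matrix.transpose (M.map lamC)).det = _
  rw [Matrix.det_transpose]
  exact (RingHom.map_det (lamC : C →+* C) M).symm

/-- Step 1-2: `τ = U σ(-) V` with `σ U = ε • U`. -/
theorem exists_conj (hn : 0 < n)
    (hinner : ∀ Ψ : Matrix (Fin n) (Fin n) C ≃ₐ[C] Matrix (Fin n) (Fin n) C, IsInner Ψ)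
    (τ : AzInv.LamInv C (Matrix (Fin n) (Fin n) C) lamC) :
    ∃ (U V : Matrix (Fin n) (Fin n) C) (ε : C), U * V = 1 ∧ V * U = 1 ∧ lamC ε * ε = 1 ∧
      sig lamC hinv U = ε • U ∧ ∀ x, τ x = U * sig lamC hinv x * V := by
  classical
  set σ := sig lamC hinv with hσ
  let ψ : Matrix (Fin n) (Fin n) C ≃ₐ[C] Matrix (Fin n) (Fin n) C :=
    { toFun := fun x => τ (σ x)
      invFun := fun x => σ (τ x)
      left_inv := fun x => by
        change σ (τ (τ (σ x))) = x
        rw [τ.invol, σ.invol]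
      right_inv := fun x => by
        change τ (σ (σ (τ x))) = x
        rw [σ.invol, τ.invol]
      map_mul' := fun x y => by
        change τ (σ (x * y)) = τ (σ x) * τ (σ y)
        rw [σ.map_mul, τ.map_mul]
      map_add' := fun x y => by
        change τ (σ (x + y)) = τ (σ x) + τ (σ y)
        rw [σ.map_add, τ.map_add]
      commutes' := fun c => by
        rw [σ.map_algebraMap, τ.map_algebraMap, hinv c] }
  obtain ⟨U, V, hUV, hVU, hψ⟩ := hinner ψ
  have hτ : ∀ x, τ x = U * σ x * V := by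
    intro x
    have := hψ (σ x)
    change τ (σ (σ x)) = _ at this
    rwa [σ.invol] at this
  have hσVU : σ V * σ U = 1 := by rw [← σ.map_mul, hUV, σ.map_one]
  have hσUV : σ U * σ V = 1 := by rw [← σ.map_mul, hVU, σ.map_one]
  obtain ⟨Z, hZ⟩ : ∃ Z, Z = σ U * V := ⟨_, rfl⟩
  obtain ⟨Z', hZ'⟩ : ∃ Z', Z' = U * σ V := ⟨_, rfl⟩
  have hZ'Z : Z' * Z = 1 := by
    rw [hZ, hZ', mul_assoc, ← mul_assoc (σ V), hσVU, one_mul, hUV]
  have hZZ' : Z * Z' = 1 := by
    rw [hZ, hZ', mul_assoc, ← mul_assoc V, hVU, one_mul, hσUV]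
  have hx : ∀ x, x = Z' * x * Z := by
    intro x
    have h1 : τ (τ x) = x := τ.invol x
    rw [hτ (τ x), hτ x, σ.map_mul, σ.map_mul, σ.invol] at h1
    calc x = U * (σ V * (x * σ U)) * V := h1.symm
      _ = Z' * x * Z := by rw [hZ, hZ']; simp only [mul_assoc]
  have hcomm : ∀ x, Z * x = x * Z := by
    intro x
    calc Z * x = Z * (Z' * x * Z) := by rw [← hx x]
      _ = x * Z := by rw [← mul_assoc, ← mul_assoc, hZZ', one_mul]
  obtain ⟨ε, hε⟩ : Z ∈ Set.range (Matrix.scalar (Fin n)) :=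
    Matrix.mem_range_scalar_iff_commute_single'.mpr (fun i j => (hcomm _).symm)
  have hσU : σ U = ε • U := by
    have : σ U = Z * U := by rw [hZ, mul_assoc, hVU, mul_one]
    rw [this, ← hε, Matrix.scalar_apply, ← Matrix.smul_eq_diagonal_mul]
  have hεε : lamC ε * ε = 1 := by
    have h1 : σ (σ U) = U := σ.invol U
    rw [hσU, σ.map_smul, hσU, smul_smul] at h1
    have h2 : (lamC ε * ε) • (1 : Matrix (Fin n) (Fin n) C) = 1 := by
      rw [← hUV, ← smul_mul_assoc, h1]
    have h3 := congrFun (congrFun h2 ⟨0, hn⟩) ⟨0, hn⟩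
    simpa [Matrix.smul_apply] using h3
  exact ⟨U, V, ε, hUV, hVU, hεε, hσU, hτ⟩

/-- Step 3 (Hilbert 90): a central unit `a` with `lamC a * ε = a`. -/
theorem exists_unit_fix [IsLocalRing H] (hfix : RInv.IsFixedRing H C lamC)
    (hcase : Odd n ∨ RInv.IsQuadEtale H C)
    (U V : Matrix (Fin n) (Fin n) C) (ε : C) (hUV : U * V = 1) (hVU : V * U = 1)
    (hεε : lamC ε * ε = 1) (hσU : sig lamC hinv U = ε • U) :
    ∃ a a' : C, a * a' = 1 ∧ lamC a * ε = a := by
  classical
  rcases hcase with hodd | hq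
  · obtain ⟨k, rfl⟩ := hodd
    set σ := sig lamC hinv with hσ
    have hσVU : σ V * σ U = 1 := by rw [← σ.map_mul, hUV, σ.map_one]
    have hσV : σ V = lamC ε • V := by
      have h1 : ε • (σ V * U) = 1 := by
        rw [← mul_smul_comm, ← hσU]; exact hσVU
      have h2 : ε • σ V = V := by
        have := congrArg (· * V) h1
        simp only [smul_mul_assoc, mul_assoc, hUV, mul_one, one_mul] at this
        exact this
      calc σ V = (lamC ε * ε) • σ V := by rw [hεε, one_smul]
        _ = lamC ε • V := by rw [← smul_smul, h2]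
    have hdet : lamC V.det = lamC ε ^ (2 * k + 1) * V.det := by
      rw [← sig_det lamC hinv V, ← hσ, hσV, Matrix.det_smul, Fintype.card_fin]
    have hdetUV : V.det * U.det = 1 := by rw [← Matrix.det_mul, hVU, Matrix.det_one]
    refine ⟨V.det * lamC ε ^ k, U.det * ε ^ k, ?_, ?_⟩
    · calc V.det * lamC ε ^ k * (U.det * ε ^ k) = (V.det * U.det) * (lamC ε * ε) ^ k := by ring
        _ = 1 := by rw [hdetUV, hεε, one_pow, mul_one]
    · rw [map_mul, map_pow, hdet, hinv ε]
      calc lamC ε ^ (2 * k + 1) * V.det * ε ^ k * ε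
          = V.det * lamC ε ^ k * (lamC ε * ε) ^ (k + 1) := by ring
        _ = V.det * lamC ε ^ k := by rw [hεε, one_pow, mul_one]
  · have hε' : ε * lamC ε = 1 := by rw [mul_comm, hεε]
    let r : Cˣ := ⟨ε, lamC ε, hε', hεε⟩
    obtain ⟨a, ha⟩ := Groth.Agent.S15580.result H C lamC hinv hfix hq r hεε
    change ε = ((a⁻¹ : Cˣ) : C) * lamC a at ha
    refine ⟨((a⁻¹ : Cˣ) : C), (a : C), a.inv_mul, ?_⟩
    rw [ha, ← mul_assoc, mul_comm (lamC _), mul_assoc, ← map_mul, a.inv_mul, map_one, mul_one]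

theorem diagonal_mul_single_mul_diagonal (d d' : Fin n → C) (a b : Fin n) :
    Matrix.diagonal d * Matrix.single b a (1 : C) * Matrix.diagonal d' =
      (d b * d' a) • Matrix.single b a (1 : C) := by
  classical
  ext i j
  rw [Matrix.mul_diagonal, Matrix.diagonal_mul, Matrix.smul_apply, Matrix.single_apply]
  by_cases h : b = i ∧ a = j
  · obtain ⟨rfl, rfl⟩ := h
    simp
  · rw [if_neg h]
    simp

include hinv in
/-- Main abstract theorem: matrix units on which `τ` acts diagonally. -/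
theorem exists_diag_units [IsLocalRing H] (hfix : RInv.IsFixedRing H C lamC) (hn : 0 < n)
    (hinner : ∀ Ψ : Matrix (Fin n) (Fin n) C ≃ₐ[C] Matrix (Fin n) (Fin n) C, IsInner Ψ)
    (τ : AzInv.LamInv C (Matrix (Fin n) (Fin n) C) lamC)
    (hcase : Odd n ∨ RInv.IsQuadEtale H C) :
    ∃ (P Q : Matrix (Fin n) (Fin n) C) (d d' : Fin n → H), P * Q = 1 ∧ Q * P = 1 ∧
      (∀ a, d a * d' a = 1) ∧
      ∀ a b, τ (P * Matrix.single a b 1 * Q) =
        algebraMap H C (d b * d' a) • (P * Matrix.single b a 1 * Q) := by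
  classical
  obtain ⟨U, V, ε, hUV, hVU, hεε, hσU, hτ⟩ := exists_conj lamC hinv hn hinner τ
  obtain ⟨a, a', haa', ha⟩ := exists_unit_fix lamC hinv hfix hcase U V ε hUV hVU hεε hσU
  set σ := sig lamC hinv with hσ
  obtain ⟨U', hU'⟩ : ∃ U', U' = a • U := ⟨_, rfl⟩
  obtain ⟨V', hV'⟩ : ∃ V', V' = a' • V := ⟨_, rfl⟩
  have hU'V' : U' * V' = 1 := by
    rw [hU', hV', smul_mul_smul_comm, haa', hUV, one_smul]
  have hV'U' : V' * U' = 1 := by
    rw [hU', hV', smul_mul_smul_comm, mul_comm a' a, haa', hVU, one_smul]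
  have hσU' : σ U' = U' := by rw [hU', σ.map_smul, hσU, smul_smul, ha]
  have hτ' : ∀ x, τ x = U' * σ x * V' := by
    intro x
    rw [hτ x, hU', hV', smul_mul_assoc, mul_smul_comm, smul_mul_assoc, smul_smul, mul_comm a' a,
      haa', one_smul]
  have hnt : Nontrivial C := hfix.1.nontrivial
  have hcase' : (∃ c : C, lamC c - c ∉ Ring.jacobson C) ∨ (1 : C) + 1 ∉ Ring.jacobson C ∨
      Odd n := by
    rcases hcase with hodd | hq
    · exact Or.inr (Or.inr hodd)
    · obtain ⟨r, hr⟩ := Groth.Agent.S15574.result H C lamC hinv hfix hq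
      refine Or.inl ⟨r, fun hmem => ?_⟩
      have hu : IsUnit (lamC r - r) := by
        have : lamC r - r = -(r - lamC r) := by ring
        rw [this]; exact hr.neg
      exact (Ring.jacobson_lt_top C).ne (Ideal.eq_top_of_isUnit_mem _ hmem hu)
  obtain ⟨v, hv, d, hd⟩ := Groth.Agent.S15583.result H C lamC hinv hfix n 1 (Or.inl rfl) U'
    ⟨⟨U', V', hU'V', hV'U'⟩, rfl⟩ (by rw [one_smul]; exact hσU') hcase'
  change σ v * U' * v = Matrix.diagonal d at hd
  obtain ⟨vu, rfl⟩ := hv
  obtain ⟨w, hw⟩ : ∃ w : Matrix (Fin n) (Fin n) C, w = ↑vu⁻¹ := ⟨_, rfl⟩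
  obtain ⟨v, hv⟩ : ∃ v : Matrix (Fin n) (Fin n) C, v = ↑vu := ⟨_, rfl⟩
  rw [← hv] at hd
  have hvw : v * w = 1 := by rw [hv, hw]; exact vu.mul_inv
  have hwv : w * v = 1 := by rw [hv, hw]; exact vu.inv_mul
  -- P = σ w, Q = σ v
  have hPQ : σ w * σ v = 1 := by rw [← σ.map_mul, hvw, σ.map_one]
  have hQP : σ v * σ w = 1 := by rw [← σ.map_mul, hwv, σ.map_one]
  obtain ⟨D', hD'⟩ : ∃ D', D' = w * V' * σ w := ⟨_, rfl⟩
  have hDD' : Matrix.diagonal d * D' = 1 := by
    rw [← hd, hD']
    calc σ v * U' * v * (w * V' * σ w) = σ v * (U' * ((v * w) * V')) * σ w := by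
          simp only [mul_assoc]
      _ = 1 := by rw [hvw, one_mul, hU'V', mul_one, hQP]
  have hD'D : D' * Matrix.diagonal d = 1 := by
    rw [← hd, hD']
    calc w * V' * σ w * (σ v * U' * v) = w * (V' * ((σ w * σ v) * U')) * v := by
          simp only [mul_assoc]
      _ = 1 := by rw [hPQ, one_mul, hV'U', mul_one, hwv]
  obtain ⟨dinv, hdinv⟩ : ∃ dinv : Fin n → C, dinv = fun a => D' a a := ⟨_, rfl⟩
  have hdd : ∀ i, d i * dinv i = 1 := by
    intro i
    have := congrFun (congrFun hDD' i) i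
    rw [Matrix.diagonal_mul, Matrix.one_apply_eq] at this
    rw [hdinv]; exact this
  have hD'eq : D' = Matrix.diagonal dinv := by
    have h1 : Matrix.diagonal d * Matrix.diagonal dinv = 1 := by
      rw [Matrix.diagonal_mul_diagonal]
      simp only [hdd]
      exact Matrix.diagonal_one
    calc D' = D' * (Matrix.diagonal d * Matrix.diagonal dinv) := by rw [h1, mul_one]
      _ = Matrix.diagonal dinv := by rw [← mul_assoc, hD'D, one_mul]
  -- fixedness
  have hσD : σ (Matrix.diagonal d) = Matrix.diagonal d := by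
    rw [← hd, σ.map_mul, σ.map_mul, σ.invol, hσU', mul_assoc]
  have hfixd : ∀ i, lamC (d i) = d i := by
    intro i
    have := congrFun (congrFun hσD i) i
    rwa [hσ, sig_diagonal_apply, Matrix.diagonal_apply_eq] at this
  have hfixdinv : ∀ i, lamC (dinv i) = dinv i := by
    intro i
    have h1 : d i * lamC (dinv i) = 1 := by
      rw [← hfixd i, ← map_mul, hdd, map_one]
    calc lamC (dinv i) = (dinv i * d i) * lamC (dinv i) := by
          rw [mul_comm (dinv i), hdd, one_mul]
      _ = dinv i := by rw [mul_assoc, h1, mul_one]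
  choose h hh using fun i => (hfix.2 (d i)).mp (hfixd i)
  choose h' hh' using fun i => (hfix.2 (dinv i)).mp (hfixdinv i)
  have hUv : U' * v = σ w * Matrix.diagonal d := by
    rw [← hd, ← mul_assoc, ← mul_assoc, hPQ, one_mul]
  have hwV : w * V' = Matrix.diagonal dinv * σ v := by
    rw [← hD'eq, hD', mul_assoc, hPQ, mul_one]
  refine ⟨σ w, σ v, h, h', hPQ, hQP, fun i => ?_, fun i j => ?_⟩
  · apply hfix.1
    rw [map_mul, hh, hh', hdd, map_one]
  · rw [hτ', σ.map_mul, σ.map_mul, σ.invol, hσ, sig_single, ← hσ, map_mul, hh, hh']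
    calc U' * (v * (Matrix.single j i 1 * σ (σ w))) * V'
        = (U' * v) * Matrix.single j i 1 * (w * V') := by
          rw [σ.invol]; simp only [mul_assoc]
      _ = σ w * (Matrix.diagonal d * Matrix.single j i 1 * Matrix.diagonal dinv) * σ v := by
          rw [hUv, hwV]; simp only [mul_assoc]
      _ = (d j * dinv i) • (σ w * Matrix.single j i 1 * σ v) := by
          rw [diagonal_mul_single_mul_diagonal, mul_smul_comm, smul_mul_assoc]

end Abstract

end Groth.Agent.Lib.Seat77.AzInvD
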