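import Mathlib
import Groth.Prelude.Def_AzInv
import Groth.Prelude.Def_W4c2azumayainvolQEt
import Groth.Agent.Lib.Seat77AzInvA
import Groth.Agent.Lib.Seat77AzInvB
import Groth.Agent.S15586

/-!
# Automorphisms commuting with an involution are étale-locally unitary conjugations (seat 77)

`exists_unitary_conj`: from the statement of S17357 (automorphisms are étale-locally inner over the
fixed ring) deduce S17355.
-/

set_option autoImplicit false
set_option linter.style.haveILetI false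

namespace Groth.Agent.Lib.Seat77.AzInvC

open scoped TensorProduct
open AzInv Groth.Agent.Lib.Seat77.AzInvA Groth.Agent.Lib.Seat77.AzInvB

universe u v w

variable (S : Type u) (R : Type v) [CommRing S] [CommRing R] [Algebra S R]
  (lam : R ≃ₐ[S] R) (hlam : ∀ r, lam (lam r) = r) (hfix : RInv.IsFixedRing S R lam.toRingEquiv)
  (A : Type w) [Ring A] [Algebra S A] [Algebra R A] [IsScalarTower S R A]

include hlam hfix in
/-- elements of `S₁ ⊗ R` fixed by `id ⊗ lam` come from `S₁` (flat base change of the fixed ring) -/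
theorem mem_range_of_lamBC_eq (S₁ : Type u) [CommRing S₁] [Algebra S S₁] [Module.Flat S S₁]
    (ζ : S₁ ⊗[S] R) (hζ : lamBC lam S₁ ζ = ζ) :
    ∃ s : S₁, algebraMap S₁ (S₁ ⊗[S] R) s = ζ := by
  have h := Groth.Agent.S15586.result S R S₁ lam (fun r => hlam r) hfix (Or.inl inferInstance)
  have h2 := (h.2 ζ).mp (by
    change (Algebra.TensorProduct.congr (AlgEquiv.refl : S₁ ≃ₐ[S] S₁) lam) ζ = ζ
    have : ∀ w : S₁ ⊗[S] R, (Algebra.TensorProduct.congr (AlgEquiv.refl : S₁ ≃ₐ[S] S₁) lam) w =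
        lamBC lam S₁ w := by
      intro w
      induction w using TensorProduct.induction_on with
      | zero => simp
      | add a b ha hb => rw [map_add, map_add, ha, hb]
      | tmul s r => simp [lamBC]
    rw [this, hζ])
  exact h2

include hlam hfix in
theorem algebraMap_injective_tensor (S₁ : Type u) [CommRing S₁] [Algebra S S₁] [Module.Flat S S₁] :
    Function.Injective (algebraMap S₁ (S₁ ⊗[S] R)) :=
  (Groth.Agent.S15586.result S R S₁ lam (fun r => hlam r) hfix (Or.inl inferInstance)).1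

theorem inclR_injective [IsAzumaya R A] (S₁ : Type u) [CommRing S₁] [Algebra S S₁] :
    Function.Injective (inclR (S := S) (R := R) (A := A) S₁) := by
  obtain ⟨ρ, hρ⟩ := exists_retraction (R := R) (A := A)
  let ρS : A →ₗ[S] R := ρ.restrictScalars S
  have hleft : ∀ ζ : S₁ ⊗[S] R, (ρS.lTensor S₁) (inclR (S := S) (A := A) S₁ ζ) = ζ := by
    intro ζ
    induction ζ using TensorProduct.induction_on with
    | zero => simp
    | add a b ha hb => rw [map_add, map_add, ha, hb]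
    | tmul s r =>
      rw [inclR_tmul, LinearMap.lTensor_tmul]
      congr 1
      change ρ (algebraMap R A r) = r
      rw [Algebra.algebraMap_eq_smul_one, map_smul, hρ, smul_eq_mul, mul_one]
  intro a b hab
  rw [← hleft a, ← hleft b, hab]

include hlam hfix in
/-- a central element of `S₁ ⊗ A` fixed by the base-changed involution is a scalar from `S₁` -/
theorem exists_algebraMap_eq_of_central_of_fixed [IsAzumaya R A] (t : LamInv R A lam)
    (S₁ : Type u) [CommRing S₁] [Algebra S S₁] [Module.Flat S S₁] (z : S₁ ⊗[S] A)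
    (hz : ∀ y : S₁ ⊗[S] A, z * y = y * z) (hT : t.bc S lam S₁ z = z) :
    ∃ s : S₁, algebraMap S₁ (S₁ ⊗[S] A) s = z := by
  obtain ⟨ζ, hζ⟩ := mem_range_inclR_of_central (S := S) (R := R) (A := A) S₁ z (fun a => hz _)
  have h1 : inclR (S := S) (A := A) S₁ (lamBC lam S₁ ζ) = inclR (S := S) (A := A) S₁ ζ := by
    rw [← bc_inclR, hζ, hT]
  have h2 := inclR_injective S R A S₁ h1
  obtain ⟨s, hs⟩ := mem_range_of_lamBC_eq S R lam hlam hfix S₁ ζ h2
  refine ⟨s, ?_⟩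
  rw [← hζ, ← hs, AlgHom.commutes]

include hlam hfix in
theorem algebraMap_injective_tensorA [IsAzumaya R A]
    (S₁ : Type u) [CommRing S₁] [Algebra S S₁] [Module.Flat S S₁] :
    Function.Injective (algebraMap S₁ (S₁ ⊗[S] A)) := by
  intro a b hab
  apply algebraMap_injective_tensor S R lam hlam hfix S₁
  apply inclR_injective S R A S₁
  rw [AlgHom.commutes, AlgHom.commutes, hab]

include hlam hfix in
/-- **S17355 from S17357.** -/
theorem exists_unitary_conj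
    (hsq : ∀ (S₁ : Type u) [CommRing S₁] [Algebra S S₁] [Algebra.Etale S S₁] (x : S₁ˣ),
      ∃ (S₂ : Type u) (_ : CommRing S₂) (_ : Algebra S₁ S₂) (_ : Algebra.Etale S₁ S₂)
        (_ : Module.FaithfullyFlat S₁ S₂) (y : S₂), y * y = algebraMap S₁ S₂ ↑x)
    [IsAzumaya R A] (t : LamInv R A lam)
    (ψ : A ≃ₐ[R] A) (hψ : IsInvHom t t ψ)
    (h57 : ∃ (S' : Type u) (_ : CommRing S') (_ : Algebra S S') (_ : Algebra.Etale S S')
      (_ : Module.FaithfullyFlat S S') (u : (S' ⊗[S] A)ˣ),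
      ∀ x : S' ⊗[S] A,
        Algebra.TensorProduct.congr (AlgEquiv.refl : S' ≃ₐ[S'] S') (ψ.restrictScalars S) x =
          ↑u * x * ↑u⁻¹) :
    ∃ (S' : Type u) (_ : CommRing S') (_ : Algebra S S') (_ : Algebra.Etale S S')
      (_ : Module.FaithfullyFlat S S') (u : (S' ⊗[S] A)ˣ),
      t.bc S lam S' (↑u : S' ⊗[S] A) * ↑u = 1 ∧
        ∀ x : S' ⊗[S] A,
          Algebra.TensorProduct.congr (AlgEquiv.refl : S' ≃ₐ[S'] S') (ψ.restrictScalars S) x =
            ↑u * x * ↑u⁻¹ := by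
  obtain ⟨S₁, _, _, _, _, u₁, hu₁⟩ := h57
  haveI : Module.Flat S S₁ := inferInstance
  set T₁ := t.bc S lam S₁ with hT₁
  -- Ψ₁ commutes with T₁
  have hcomm : ∀ x : S₁ ⊗[S] A,
      Algebra.TensorProduct.congr (AlgEquiv.refl : S₁ ≃ₐ[S₁] S₁) (ψ.restrictScalars S) (T₁ x) =
        T₁ (Algebra.TensorProduct.congr (AlgEquiv.refl : S₁ ≃ₐ[S₁] S₁) (ψ.restrictScalars S) x) := by
    intro x
    induction x using TensorProduct.induction_on with
    | zero => simp
    | add a b ha hb => rw [map_add, map_add, ha, hb, map_add, map_add]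
    | tmul s a =>
      rw [hT₁, LamInv.bc_tmul]
      simp only [Algebra.TensorProduct.congr_apply, Algebra.TensorProduct.map_tmul]
      rw [LamInv.bc_tmul]
      congr 1
      exact hψ a
  have hTu : T₁ (↑u₁ : S₁ ⊗[S] A) * T₁ (↑u₁⁻¹ : S₁ ⊗[S] A) = 1 := bc_unit_mul' lam t S₁ u₁
  have hTu' : T₁ (↑u₁⁻¹ : S₁ ⊗[S] A) * T₁ (↑u₁ : S₁ ⊗[S] A) = 1 := bc_unit_mul lam t S₁ u₁
  set z : S₁ ⊗[S] A := T₁ ↑u₁ * ↑u₁ with hzdef
  set z' : S₁ ⊗[S] A := ↑u₁⁻¹ * T₁ ↑u₁⁻¹ with hz'def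
  have hzz' : z * z' = 1 := by
    rw [hzdef, hz'def, mul_assoc, ← mul_assoc (↑u₁ : S₁ ⊗[S] A), Units.mul_inv, one_mul, hTu]
  have hz'z : z' * z = 1 := by
    rw [hzdef, hz'def, mul_assoc, ← mul_assoc (T₁ ↑u₁⁻¹), hTu', one_mul, Units.inv_mul]
  have hzc : ∀ y : S₁ ⊗[S] A, z * y = y * z := by
    intro y
    obtain ⟨x, rfl⟩ := bc_surjective lam t S₁ y
    have h1 := hcomm x
    rw [hu₁ (T₁ x), hu₁ x, hT₁, bc_mul, bc_mul, ← hT₁] at h1
    -- h1 : u₁ * T₁ x * u₁⁻¹ = T₁ u₁⁻¹ * (T₁ x * T₁ u₁)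
    calc z * T₁ x = T₁ ↑u₁ * (↑u₁ * T₁ x * ↑u₁⁻¹) * ↑u₁ := by
          rw [hzdef]; simp only [mul_assoc, Units.inv_mul, mul_one]
      _ = T₁ ↑u₁ * (T₁ ↑u₁⁻¹ * (T₁ x * T₁ ↑u₁)) * ↑u₁ := by rw [h1]
      _ = T₁ x * z := by
          rw [hzdef, ← mul_assoc (T₁ ↑u₁), hTu, one_mul, mul_assoc]
  have hz'c : ∀ y : S₁ ⊗[S] A, z' * y = y * z' := by
    intro y
    calc z' * y = z' * y * (z * z') := by rw [hzz', mul_one]
      _ = z' * (y * z) * z' := by simp only [mul_assoc]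
      _ = z' * (z * y) * z' := by rw [hzc y]
      _ = y * z' := by rw [← mul_assoc z', hz'z, one_mul]
  have hTz : T₁ z = z := by
    rw [hzdef, hT₁, bc_mul, bc_bc]
  have hTz' : T₁ z' = z' := by
    rw [hz'def, hT₁, bc_mul, bc_bc]
  obtain ⟨s, hs⟩ := exists_algebraMap_eq_of_central_of_fixed S R lam hlam hfix A t S₁ z hzc hTz
  obtain ⟨s', hs'⟩ := exists_algebraMap_eq_of_central_of_fixed S R lam hlam hfix A t S₁ z' hz'c hTz'
  have hss' : s' * s = 1 := by
    apply algebraMap_injective_tensorA S R lam hlam hfix A S₁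
    rw [map_mul, hs, hs', hz'z, map_one]
  let us' : S₁ˣ := ⟨s', s, hss', by rw [mul_comm]; exact hss'⟩
  obtain ⟨S₂, _, _, _, _, y, hy⟩ := hsq S₁ us'
  letI algSS₂ : Algebra S S₂ := ((algebraMap S₁ S₂).comp (algebraMap S S₁)).toAlgebra
  haveI tow : IsScalarTower S S₁ S₂ := IsScalarTower.of_algebraMap_eq' rfl
  haveI : Algebra.Etale S S₂ := Algebra.Etale.comp S S₁ S₂
  haveI : Module.FaithfullyFlat S S₂ := Module.FaithfullyFlat.trans S S₁ S₂
  let φ : S₁ →ₐ[S] S₂ := IsScalarTower.toAlgHom S S₁ S₂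
  have hφ : ∀ a : S₁, φ a = algebraMap S₁ S₂ a := fun a => rfl
  have hyunit : IsUnit y := by
    have : IsUnit (y * y) := by
      rw [hy]; exact (us'.isUnit).map (algebraMap S₁ S₂)
    exact isUnit_of_mul_isUnit_left this
  obtain ⟨Y, hY⟩ := hyunit
  let u₂ : (S₂ ⊗[S] A)ˣ :=
    Units.map (algebraMap S₂ (S₂ ⊗[S] A)).toMonoidHom Y *
      Units.map (chg (A := A) φ).toRingHom.toMonoidHom u₁
  have hu₂ : (↑u₂ : S₂ ⊗[S] A) = algebraMap S₂ (S₂ ⊗[S] A) y * chg (A := A) φ ↑u₁ := by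
    simp [u₂, hY]
  have hu₂inv : (↑u₂⁻¹ : S₂ ⊗[S] A) = chg (A := A) φ ↑u₁⁻¹ * algebraMap S₂ (S₂ ⊗[S] A) ↑Y⁻¹ := by
    simp [u₂, mul_inv_rev]
  refine ⟨S₂, inferInstance, algSS₂, inferInstance, inferInstance, u₂, ?_, ?_⟩
  · rw [hu₂, bc_mul, bc_algebraMap, ← chg_bc]
    calc chg (A := A) φ (t.bc S lam S₁ ↑u₁) * algebraMap S₂ (S₂ ⊗[S] A) y *
          (algebraMap S₂ (S₂ ⊗[S] A) y * chg (A := A) φ ↑u₁)
        = algebraMap S₂ (S₂ ⊗[S] A) (y * y) * chg (A := A) φ (T₁ ↑u₁ * ↑u₁) := by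
          rw [map_mul, map_mul, ← hT₁]
          have e0 := Algebra.commutes y (chg (A := A) φ (T₁ ↑u₁))
          rw [← e0]
          simp only [mul_assoc]
          congr 1
          rw [← mul_assoc, ← e0, mul_assoc]
      _ = 1 := by
          rw [← hzdef, ← hs, chg_algebraMap, hy, ← map_mul, hφ, ← map_mul]
          change algebraMap S₂ (S₂ ⊗[S] A) (algebraMap S₁ S₂ (s' * s)) = 1
          rw [hss', map_one, map_one]
  · intro x
    induction x using TensorProduct.induction_on with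
    | zero => simp
    | add a b ha hb => rw [map_add, ha, hb, mul_add, add_mul]
    | tmul s₂ a =>
      have h1 : (s₂ ⊗ₜ[S] a : S₂ ⊗[S] A) =
          algebraMap S₂ (S₂ ⊗[S] A) s₂ * chg (A := A) φ ((1 : S₁) ⊗ₜ[S] a) := by
        rw [chg_tmul, Algebra.TensorProduct.algebraMap_apply, Algebra.TensorProduct.tmul_mul_tmul,
          map_one, mul_one, one_mul]
        rfl
      rw [h1, map_mul, AlgEquiv.commutes, ← chg_congr, hu₁, map_mul, map_mul, hu₂, hu₂inv]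
      have hc1 := Algebra.commutes y (chg (A := A) φ (↑u₁ : S₁ ⊗[S] A))
      have hYY : algebraMap S₂ (S₂ ⊗[S] A) y * algebraMap S₂ (S₂ ⊗[S] A) ↑Y⁻¹ = 1 := by
        rw [← map_mul, ← hY, Units.mul_inv, map_one]
      calc algebraMap S₂ (S₂ ⊗[S] A) s₂ * (chg (A := A) φ ↑u₁ * chg (A := A) φ (1 ⊗ₜ[S] a) *
            chg (A := A) φ ↑u₁⁻¹)
          = (algebraMap S₂ (S₂ ⊗[S] A) y * algebraMap S₂ (S₂ ⊗[S] A) ↑Y⁻¹) *
            (algebraMap S₂ (S₂ ⊗[S] A) s₂ * (chg (A := A) φ ↑u₁ * chg (A := A) φ (1 ⊗ₜ[S] a) *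
            chg (A := A) φ ↑u₁⁻¹)) := by rw [hYY, one_mul]
        _ = algebraMap S₂ (S₂ ⊗[S] A) y * chg (A := A) φ ↑u₁ *
            (algebraMap S₂ (S₂ ⊗[S] A) s₂ * chg (A := A) φ (1 ⊗ₜ[S] a)) *
            (chg (A := A) φ ↑u₁⁻¹ * algebraMap S₂ (S₂ ⊗[S] A) ↑Y⁻¹) := by
          have e1 := Algebra.commutes (↑Y⁻¹ : S₂) (algebraMap S₂ (S₂ ⊗[S] A) s₂ *
            (chg (A := A) φ ↑u₁ * chg (A := A) φ (1 ⊗ₜ[S] a) * chg (A := A) φ ↑u₁⁻¹))
          have e2 := Algebra.commutes s₂ (chg (A := A) φ (↑u₁ : S₁ ⊗[S] A))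
          rw [mul_assoc (algebraMap S₂ (S₂ ⊗[S] A) y), e1]
          simp only [mul_assoc]
          rw [← mul_assoc (algebraMap S₂ (S₂ ⊗[S] A) s₂) (chg (A := A) φ ↑u₁), e2]
          simp only [mul_assoc]

end Groth.Agent.Lib.Seat77.AzInvC
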