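import Mathlib
import Groth.Agent.Lib.Seat25AzInvB
import Groth.Agent.Lib.Seat77AzInvC

/-!
# Matrix units in a base change of an Azumaya algebra over a ring with involution

* `matMap_bijective`: explicit form of helper25's `nonempty_algEquiv_matrix_of_hasMatrixUnits`;
* `Phi`: for matrix units `e` in `S' ⊗[S] A`, the map `M_n(S' ⊗[S] R) → S' ⊗[S] A`,
  `N ↦ ∑ inclR (N a b) * e a b`, its multiplicativity, compatibility with the involutions, and its
  bijectivity for `A` Azumaya of degree `n`;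
* `locIsoEt_of_symMU`: two Azumaya algebras with involution of degree `n` with symmetric matrix
  units over the same étale cover are locally isomorphic.
-/

set_option autoImplicit false

open scoped TensorProduct

namespace Groth.Agent.Lib.Seat77.AzInvE

open Groth.Agent.Lib.Seat25.AzSH Groth.Agent.Lib.Seat25.AzInvA
open AzInv Groth.Agent.Lib.Seat77.AzInvA Groth.Agent.Lib.Seat77.AzInvB

section GenMat

universe u v

variable (C : Type u) [CommRing C] (A : Type v) [Ring A] [Algebra C A] [IsAzumaya C A]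

/-- explicit form of `nonempty_algEquiv_matrix_of_hasMatrixUnits` (same proof). -/
theorem matMap_bijective (n : ℕ) (hn : 0 < n)
    (hrank : ∀ p : PrimeSpectrum C, Module.rankAtStalk (R := C) A p = n ^ 2)
    (e : Fin n → Fin n → A) (he : ∀ a b c d, e a b * e c d = if b = c then e a d else 0)
    (h1 : ∑ a, e a a = 1) : Function.Bijective (matMap C A n e) := by
  classical
  have : Module.Finite C A := IsAzumaya.toFinite (R := C)
  have : Module.Projective C A := IsAzumaya.toProjective (R := C)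
  have : FaithfulSMul C A := IsAzumaya.toFaithfulSMul (R := C)
  have : Nonempty (Fin n) := ⟨⟨0, hn⟩⟩
  let g : Matrix (Fin n) (Fin n) C →ₐ[C] A :=
    AlgHom.ofLinearMap (matMap C A n e) (matMap_one C n e h1) (matMap_mul C n e he)
  have hinj : Function.Injective g := matMap_injective C n e he h1
  have hsurj : Function.Surjective g := by
    have h2 : Function.Surjective g.toLinearMap := by
      apply Groth.Agent.Lib.Seat25.AzFree.surjective_of_forall_maximal
      intro P hP
      let _ : Field (C ⧸ P) := Ideal.Quotient.field P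
      have : Nontrivial C := (Ideal.Quotient.mk P).domain_nontrivial
      have hAzM : IsAzumaya C (Matrix (Fin n) (Fin n) C) := IsAzumaya.matrix C (Fin n)
      have hAzF : IsAzumaya (C ⧸ P) ((C ⧸ P) ⊗[C] Matrix (Fin n) (Fin n) C) :=
        Groth.Agent.Lib.LeadAzumaya.isAzumaya_baseChange (C ⧸ P) (Matrix (Fin n) (Fin n) C)
      have : IsSimpleRing ((C ⧸ P) ⊗[C] Matrix (Fin n) (Fin n) C) :=
        Groth.Agent.Lib.LeadAzumaya.isSimpleRing_of_isAzumaya_field (k := C ⧸ P)
      have hrB : Module.finrank (C ⧸ P) ((C ⧸ P) ⊗[C] Matrix (Fin n) (Fin n) C) = n ^ 2 := by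
        rw [Module.finrank_baseChange, Module.finrank_matrix, Module.finrank_self]
        simp [sq]
      have hrC : Module.finrank (C ⧸ P) ((C ⧸ P) ⊗[C] A) = n ^ 2 := by
        have hAzA : IsAzumaya (C ⧸ P) ((C ⧸ P) ⊗[C] A) :=
          Groth.Agent.Lib.LeadAzumaya.isAzumaya_baseChange (C ⧸ P) A
        have : Module.Finite (C ⧸ P) ((C ⧸ P) ⊗[C] A) := IsAzumaya.toFinite (R := C ⧸ P)
        have h3 := Module.rankAtStalk_baseChange (R := C) (M := A) (S := C ⧸ P)
          (⟨⊥, Ideal.isPrime_bot⟩ : PrimeSpectrum (C ⧸ P))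
        rw [hrank] at h3
        rw [← h3, Module.rankAtStalk_eq_finrank_of_free]
        rfl
      have : Nontrivial ((C ⧸ P) ⊗[C] A) := by
        apply Module.nontrivial_of_finrank_pos (R := C ⧸ P)
        rw [hrC]
        positivity
      let gP : (C ⧸ P) ⊗[C] Matrix (Fin n) (Fin n) C →ₐ[C ⧸ P] (C ⧸ P) ⊗[C] A :=
        Algebra.TensorProduct.map (AlgHom.id (C ⧸ P) (C ⧸ P)) g
      have hgP : Function.Injective gP := RingHom.injective gP.toRingHom
      have hgP' : Function.Surjective gP :=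
        (LinearMap.injective_iff_surjective_of_finrank_eq_finrank
          (f := gP.toLinearMap) (hrB.trans hrC.symm)).mp hgP
      have heq : ⇑(g.toLinearMap.lTensor (C ⧸ P)) = ⇑gP := by
        ext x
        induction x using TensorProduct.induction_on with
        | zero => simp
        | tmul a b => simp [gP]
        | add x y hx hy => simp only [map_add, hx, hy]
      rw [heq]
      exact hgP'
    exact h2
  exact ⟨hinj, hsurj⟩

end GenMat

section Phi

universe u v w

variable {S : Type u} (R : Type v) [CommRing S] [CommRing R] [Algebra S R]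
  {A : Type w} [Ring A] [Algebra S A] [Algebra R A] [IsScalarTower S R A]
  (S' : Type u) [CommRing S'] [Algebra S S'] {n : ℕ} (e : Fin n → Fin n → S' ⊗[S] A)

/-- `N ↦ ∑ inclR (N a b) * e a b`. -/
noncomputable def Phi : Matrix (Fin n) (Fin n) (S' ⊗[S] R) →+ S' ⊗[S] A where
  toFun N := ∑ a, ∑ b, inclR (S := S) (A := A) S' (N a b) * e a b
  map_zero' := by simp
  map_add' M N := by
    simp only [Matrix.add_apply, map_add, add_mul, Finset.sum_add_distrib]

theorem Phi_apply (N : Matrix (Fin n) (Fin n) (S' ⊗[S] R)) :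
    Phi R S' e N = ∑ a, ∑ b, inclR (S := S) (A := A) S' (N a b) * e a b := rfl

theorem Phi_scalar_mul (c : S' ⊗[S] R) (N : Matrix (Fin n) (Fin n) (S' ⊗[S] R)) :
    Phi R S' e (Matrix.scalar (Fin n) c * N) = inclR (S := S) (A := A) S' c * Phi R S' e N := by
  classical
  rw [Phi_apply, Phi_apply, Finset.mul_sum]
  refine Finset.sum_congr rfl fun a _ => ?_
  rw [Finset.mul_sum]
  refine Finset.sum_congr rfl fun b _ => ?_
  rw [Matrix.scalar_apply, Matrix.diagonal_mul, map_mul, mul_assoc]

/-- the comparison with helper25's `matMap` over `R ⊗[S] S'`. -/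
theorem theta_tmul_one (c : R ⊗[S] S') :
    theta S R A S' (c ⊗ₜ[R] (1 : A)) =
      inclR (S := S) (A := A) S' (Algebra.TensorProduct.comm S R S' c) := by
  induction c using TensorProduct.induction_on with
  | zero => simp
  | tmul r s =>
    rw [theta_tmul, Algebra.TensorProduct.comm_tmul, inclR_tmul, Algebra.algebraMap_eq_smul_one]
  | add x y hx hy => rw [TensorProduct.add_tmul, map_add, hx, hy, map_add, map_add]

theorem Phi_eq_theta_matMap (N : Matrix (Fin n) (Fin n) (S' ⊗[S] R)) :
    Phi R S' e N = theta S R A S' (matMap (R ⊗[S] S') ((R ⊗[S] S') ⊗[R] A) n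
      (fun a b => (theta S R A S').symm (e a b))
      (N.map (Algebra.TensorProduct.comm S R S').symm)) := by
  rw [Phi_apply, matMap_apply, map_sum]
  refine Finset.sum_congr rfl fun a _ => ?_
  rw [map_sum]
  refine Finset.sum_congr rfl fun b _ => ?_
  rw [Algebra.smul_def, map_mul, RingEquiv.apply_symm_apply,
    Algebra.TensorProduct.algebraMap_apply, Algebra.algebraMap_self, RingHom.id_apply,
    theta_tmul_one, Matrix.map_apply, AlgEquiv.apply_symm_apply]

variable {R S' e}

theorem Phi_one (h1 : ∑ a, e a a = 1) : Phi R S' e 1 = 1 := by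
  classical
  rw [Phi_apply, ← h1]
  refine Finset.sum_congr rfl fun a _ => ?_
  rw [Finset.sum_eq_single a]
  · rw [Matrix.one_apply_eq, map_one, one_mul]
  · intro b _ hb
    rw [Matrix.one_apply_ne (Ne.symm hb), map_zero, zero_mul]
  · intro h
    exact absurd (Finset.mem_univ a) h

theorem Phi_mul (he : ∀ a b c d, e a b * e c d = if b = c then e a d else 0)
    (M N : Matrix (Fin n) (Fin n) (S' ⊗[S] R)) :
    Phi R S' e (M * N) = Phi R S' e M * Phi R S' e N := by
  classical
  have hR : Phi R S' e M * Phi R S' e N =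
      ∑ a, ∑ b, ∑ d, inclR (S := S) (A := A) S' (M a b * N b d) * e a d := by
    rw [Phi_apply, Phi_apply, Finset.sum_mul]
    refine Finset.sum_congr rfl fun a _ => ?_
    rw [Finset.sum_mul]
    refine Finset.sum_congr rfl fun b _ => ?_
    rw [Finset.mul_sum, Finset.sum_eq_single b]
    · rw [Finset.mul_sum]
      refine Finset.sum_congr rfl fun d _ => ?_
      rw [mul_assoc, ← mul_assoc (e a b), ← inclR_comm, mul_assoc, he, if_pos rfl, ← mul_assoc,
        ← map_mul]
    · intro c _ hc
      rw [Finset.mul_sum]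
      refine Finset.sum_eq_zero fun d _ => ?_
      rw [mul_assoc, ← mul_assoc (e a b), ← inclR_comm, mul_assoc, he, if_neg (Ne.symm hc),
        mul_zero, mul_zero]
    · intro h
      exact absurd (Finset.mem_univ b) h
  rw [hR, Phi_apply]
  refine Finset.sum_congr rfl fun a _ => ?_
  rw [Finset.sum_comm]
  refine Finset.sum_congr rfl fun d _ => ?_
  rw [Matrix.mul_apply, map_sum, Finset.sum_mul]

variable (lam : R ≃ₐ[S] R) (t : LamInv R A lam)

/-- compatibility with the involutions when the matrix units are "diagonally symmetric". -/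
theorem Phi_lamTr (hsym : ∀ a b, t.bc S lam S' (e a b) = e b a)
    (N : Matrix (Fin n) (Fin n) (S' ⊗[S] R)) :
    Phi R S' e (AzInv.lamTr (lamBC lam S') N) = t.bc S lam S' (Phi R S' e N) := by
  rw [Phi_apply, Phi_apply, map_sum, Finset.sum_comm]
  refine Finset.sum_congr rfl fun a _ => ?_
  rw [map_sum]
  refine Finset.sum_congr rfl fun b _ => ?_
  rw [bc_mul, hsym, bc_inclR, AzInv.lamTr_apply, inclR_comm]

theorem Phi_bijective [IsAzumaya R A] (hn : 0 < n)
    (hrank : ∀ p : PrimeSpectrum R, Module.rankAtStalk (R := R) A p = n ^ 2)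
    (he : ∀ a b c d, e a b * e c d = if b = c then e a d else 0) (h1 : ∑ a, e a a = 1) :
    Function.Bijective (Phi R S' e) := by
  classical
  have hAzC : IsAzumaya (R ⊗[S] S') ((R ⊗[S] S') ⊗[R] A) :=
    Groth.Agent.Lib.LeadAzumaya.isAzumaya_baseChange (R ⊗[S] S') A
  have hrank' := Groth.Agent.Lib.Seat25.AzInvB.rankAtStalk_baseChange_eq R A n ⟨inferInstance, hrank⟩
    (R ⊗[S] S')
  have hb := matMap_bijective (R ⊗[S] S') ((R ⊗[S] S') ⊗[R] A) n hn hrank'
    (fun a b => (theta S R A S').symm (e a b))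
    (fun a b c d => by
      rw [← map_mul, he]
      split_ifs
      · rfl
      · exact map_zero _)
    (by rw [← map_sum, h1, map_one])
  have hfun : ⇑(Phi R S' e) = ⇑(theta S R A S') ∘
      ⇑(matMap (R ⊗[S] S') ((R ⊗[S] S') ⊗[R] A) n (fun a b => (theta S R A S').symm (e a b))) ∘
      ⇑((Algebra.TensorProduct.comm S R S').symm.mapMatrix (m := Fin n)) := by
    funext N
    exact Phi_eq_theta_matMap R S' e N
  rw [hfun]
  exact (theta S R A S').bijective.comp (hb.comp (AlgEquiv.bijective _))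

end Phi

section LocIso

universe u v w w'

variable {S : Type u} {R : Type v} [CommRing S] [CommRing R] [Algebra S R]
  {A : Type w} [Ring A] [Algebra S A] [Algebra R A] [IsScalarTower S R A]
  {A' : Type w'} [Ring A'] [Algebra S A'] [Algebra R A'] [IsScalarTower S R A']
  (lam : R ≃ₐ[S] R) (t : LamInv R A lam) (t' : LamInv R A' lam)

/-- symmetric `n × n` matrix units for `(A, t)` over `S'`. -/
def HasSymMU (n : ℕ) (S' : Type u) [CommRing S'] [Algebra S S'] : Prop :=
  ∃ e : Fin n → Fin n → S' ⊗[S] A, (∀ a b c d, e a b * e c d = if b = c then e a d else 0) ∧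
    ∑ a, e a a = 1 ∧ ∀ a b, t.bc S lam S' (e a b) = e b a

/-- the ring isomorphism attached to matrix units. -/
noncomputable def PhiEquiv [IsAzumaya R A] {n : ℕ} (hn : 0 < n)
    (hrank : ∀ p : PrimeSpectrum R, Module.rankAtStalk (R := R) A p = n ^ 2)
    (S' : Type u) [CommRing S'] [Algebra S S'] (e : Fin n → Fin n → S' ⊗[S] A)
    (he : ∀ a b c d, e a b * e c d = if b = c then e a d else 0) (h1 : ∑ a, e a a = 1) :
    Matrix (Fin n) (Fin n) (S' ⊗[S] R) ≃+* S' ⊗[S] A :=
  RingEquiv.ofBijective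
    ({ toFun := Phi R S' e
       map_one' := Phi_one h1
       map_mul' := Phi_mul he
       map_zero' := map_zero _
       map_add' := map_add _ } : Matrix (Fin n) (Fin n) (S' ⊗[S] R) →+* S' ⊗[S] A)
    (Phi_bijective hn hrank he h1)

theorem PhiEquiv_apply [IsAzumaya R A] {n : ℕ} (hn : 0 < n)
    (hrank : ∀ p : PrimeSpectrum R, Module.rankAtStalk (R := R) A p = n ^ 2)
    (S' : Type u) [CommRing S'] [Algebra S S'] (e : Fin n → Fin n → S' ⊗[S] A)
    (he : ∀ a b c d, e a b * e c d = if b = c then e a d else 0) (h1 : ∑ a, e a a = 1)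
    (N : Matrix (Fin n) (Fin n) (S' ⊗[S] R)) :
    PhiEquiv hn hrank S' e he h1 N = Phi R S' e N := rfl

theorem locIsoEt_of_hasSymMU (n : ℕ) (hn : 0 < n) (hA : IsAzumayaDeg R A n)
    (hA' : IsAzumayaDeg R A' n) (S' : Type u) [CommRing S'] [Algebra S S'] [Algebra.Etale S S']
    [Module.FaithfullyFlat S S'] (h : HasSymMU lam t n S') (h' : HasSymMU lam t' n S') :
    LocIsoEt S lam t t' := by
  obtain ⟨e, he, h1, hsym⟩ := h
  obtain ⟨e', he', h1', hsym'⟩ := h'
  have := hA.1
  have := hA'.1
  obtain ⟨Φ, hΦ⟩ : ∃ Φ : Matrix (Fin n) (Fin n) (S' ⊗[S] R) ≃+* S' ⊗[S] A,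
      ∀ N, Φ N = Phi R S' e N := ⟨PhiEquiv hn hA.2 S' e he h1, fun _ => rfl⟩
  obtain ⟨Φ', hΦ'⟩ : ∃ Φ' : Matrix (Fin n) (Fin n) (S' ⊗[S] R) ≃+* S' ⊗[S] A',
      ∀ N, Φ' N = Phi R S' e' N := ⟨PhiEquiv hn hA'.2 S' e' he' h1', fun _ => rfl⟩
  let f₀ : S' ⊗[S] A ≃+* S' ⊗[S] A' := Φ.symm.trans Φ'
  have hf : ∀ N, f₀ (Φ N) = Φ' N := fun N => by
    change Φ' (Φ.symm (Φ N)) = _
    rw [RingEquiv.symm_apply_apply]
  have key : ∀ (c : S' ⊗[S] R) (x : S' ⊗[S] A),
      f₀ (inclR (S := S) (A := A) S' c * x) = inclR (S := S) (A := A') S' c * f₀ x := by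
    intro c x
    obtain ⟨N, rfl⟩ := Φ.surjective x
    have h4 : inclR (S := S) (A := A) S' c * Φ N = Φ (Matrix.scalar (Fin n) c * N) := by
      rw [hΦ, hΦ, Phi_scalar_mul]
    rw [h4, hf, hf, hΦ', hΦ', Phi_scalar_mul]
  have hcomm : ∀ s : S', f₀ (algebraMap S' (S' ⊗[S] A) s) = algebraMap S' (S' ⊗[S] A') s := by
    intro s
    have h2 : algebraMap S' (S' ⊗[S] A) s = inclR (S := S) (A := A) S' (s ⊗ₜ[S] (1 : R)) * 1 := by
      rw [mul_one, inclR_tmul, map_one, Algebra.TensorProduct.algebraMap_apply,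
        Algebra.algebraMap_self, RingHom.id_apply]
    have h3 : algebraMap S' (S' ⊗[S] A') s =
        inclR (S := S) (A := A') S' (s ⊗ₜ[S] (1 : R)) * 1 := by
      rw [mul_one, inclR_tmul, map_one, Algebra.TensorProduct.algebraMap_apply,
        Algebra.algebraMap_self, RingHom.id_apply]
    rw [h2, key, map_one, h3]
  refine ⟨S', inferInstance, inferInstance, inferInstance, inferInstance,
    AlgEquiv.ofRingEquiv (f := f₀) hcomm, ?_, ?_⟩
  · intro r x
    change f₀ (((1 : S') ⊗ₜ[S] algebraMap R A r) * x) = ((1 : S') ⊗ₜ[S] algebraMap R A' r) * f₀ x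
    rw [← inclR_tmul, key, inclR_tmul]
  · intro x
    change f₀ (t.bc S lam S' x) = t'.bc S lam S' (f₀ x)
    obtain ⟨N, rfl⟩ := Φ.surjective x
    have h4 : t.bc S lam S' (Φ N) = Φ (AzInv.lamTr (lamBC lam S') N) := by
      rw [hΦ, hΦ, Phi_lamTr lam t hsym]
    rw [h4, hf, hf, hΦ', hΦ', Phi_lamTr lam t' hsym']

/-- the matrix algebra over `R` with the `lam`-transpose has global symmetric matrix units. -/
theorem hasSymMU_matrix (hlam : ∀ r, lam (lam r) = r) (n : ℕ) (S' : Type u) [CommRing S']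
    [Algebra S S'] :
    HasSymMU lam ((LamInv.self lam hlam).matrix (Fin n)) n S' := by
  classical
  refine ⟨fun a b => (1 : S') ⊗ₜ[S] Matrix.single a b (1 : R), fun a b c d => ?_, ?_,
    fun a b => ?_⟩
  · rw [Algebra.TensorProduct.tmul_mul_tmul, one_mul]
    by_cases h : b = c
    · subst h
      rw [if_pos rfl, Matrix.single_mul_single_same, one_mul]
    · rw [if_neg h, Matrix.single_mul_single_of_ne _ _ _ _ h, TensorProduct.tmul_zero]
  · rw [← TensorProduct.tmul_sum, Matrix.sum_single_one, Algebra.TensorProduct.one_def]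
  · rw [LamInv.bc_tmul]
    congr 1
    ext i j
    rw [LamInv.matrix_apply, LamInv.self_apply]
    by_cases h : b = i ∧ a = j
    · obtain ⟨rfl, rfl⟩ := h
      simp
    · have h' : ¬ (a = j ∧ b = i) := fun hh => h ⟨hh.2, hh.1⟩
      rw [Matrix.single_apply, if_neg h', Matrix.single_apply, if_neg h, map_zero]

theorem isAzumayaDeg_matrix (n : ℕ) (hn : 0 < n) :
    IsAzumayaDeg R (Matrix (Fin n) (Fin n) R) n := by
  have : Nonempty (Fin n) := ⟨⟨0, hn⟩⟩
  refine ⟨IsAzumaya.matrix R (Fin n), fun p => ?_⟩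
  have : Nontrivial R :=
    ⟨⟨0, 1, fun h => p.2.ne_top ((Ideal.eq_top_iff_one _).2 (h ▸ p.asIdeal.zero_mem))⟩⟩
  rw [Module.rankAtStalk_eq_finrank_of_free]
  change Module.finrank R (Matrix (Fin n) (Fin n) R) = n ^ 2
  rw [Module.finrank_matrix, Module.finrank_self]
  simp [sq]

end LocIso

end Groth.Agent.Lib.Seat77.AzInvE
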