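import Mathlib
import Groth.Agent.Lib.Seat77AzInvD
import Groth.Agent.Lib.Seat77AzInvE

/-!
# Diagonal matrix units for an Azumaya algebra with involution over a strict henselization
-/

set_option autoImplicit false

open scoped TensorProduct
open IsLocalRing

namespace Groth.Agent.Lib.Seat77.AzInvF

open Groth.Agent.Lib.Seat25.AzSH Groth.Agent.Lib.Seat25.AzInvA
open AzInv Groth.Agent.Lib.Seat77.AzInvA Groth.Agent.Lib.Seat77.AzInvB
  Groth.Agent.Lib.Seat77.AzInvD Groth.Agent.Lib.Seat77.AzInvE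

universe u v w

section Defs

variable {S : Type u} {R : Type v} [CommRing S] [CommRing R] [Algebra S R]
  (lam : R ≃ₐ[S] R) {A : Type w} [Ring A] [Algebra S A] [Algebra R A] [IsScalarTower S R A]
  (t : LamInv R A lam) (n : ℕ)

/-- `n × n` matrix units `e` in `S' ⊗[S] A` with `t (e a b) = (d b / d a) • e b a` for units
`d a` of `S'`. -/
def HasDiagMU (S' : Type u) [CommRing S'] [Algebra S S'] : Prop :=
  ∃ (e : Fin n → Fin n → S' ⊗[S] A) (d d' : Fin n → S'),
    (∀ a b c d, e a b * e c d = if b = c then e a d else 0) ∧ ∑ a, e a a = 1 ∧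
    (∀ a, d a * d' a = 1) ∧ ∀ a b, t.bc S lam S' (e a b) = (d b * d' a) • e b a

variable {n}

/-- transport of `t.bc` to the matrix algebra along `Φ₀`. -/
noncomputable def tauOf (T : Type u) [CommRing T] [Algebra S T]
    (lamC : (T ⊗[S] R) ≃+* (T ⊗[S] R)) (hbridge : ∀ w, lamC w = lamBC lam T w)
    (Φ₀ : Matrix (Fin n) (Fin n) (T ⊗[S] R) ≃+* T ⊗[S] A)
    (hΦ : ∀ c N, Φ₀ (Matrix.scalar (Fin n) c * N) = inclR (S := S) (A := A) T c * Φ₀ N) :
    LamInv (T ⊗[S] R) (Matrix (Fin n) (Fin n) (T ⊗[S] R)) lamC where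
  toFun N := Φ₀.symm (t.bc S lam T (Φ₀ N))
  map_add' M N := by rw [map_add, map_add, map_add]
  map_mul' M N := by rw [map_mul, bc_mul, map_mul]
  map_smul' c N := by
    have h1 : ∀ (c : T ⊗[S] R) (N : Matrix (Fin n) (Fin n) (T ⊗[S] R)),
        c • N = Matrix.scalar (Fin n) c * N := fun c N => by
      rw [Matrix.scalar_apply, ← Matrix.smul_eq_diagonal_mul]
    apply Φ₀.injective
    rw [h1, hΦ, bc_mul, bc_inclR, ← inclR_comm, RingEquiv.apply_symm_apply, h1, hΦ,
      RingEquiv.apply_symm_apply, hbridge]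
  invol' N := by rw [RingEquiv.apply_symm_apply, bc_bc, RingEquiv.symm_apply_apply]

theorem tauOf_apply (T : Type u) [CommRing T] [Algebra S T]
    (lamC : (T ⊗[S] R) ≃+* (T ⊗[S] R)) (hbridge : ∀ w, lamC w = lamBC lam T w)
    (Φ₀ : Matrix (Fin n) (Fin n) (T ⊗[S] R) ≃+* T ⊗[S] A)
    (hΦ : ∀ c N, Φ₀ (Matrix.scalar (Fin n) c * N) = inclR (S := S) (A := A) T c * Φ₀ N)
    (N : Matrix (Fin n) (Fin n) (T ⊗[S] R)) :
    Φ₀ (tauOf lam t T lamC hbridge Φ₀ hΦ N) = t.bc S lam T (Φ₀ N) := by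
  change Φ₀ (Φ₀.symm (t.bc S lam T (Φ₀ N))) = _
  rw [RingEquiv.apply_symm_apply]

end Defs

section Hens

open Groth.Agent.Lib.Seat25.AzInvC

variable (S : Type u) (R : Type v) [CommRing S] [CommRing R] [Algebra S R]
  (lam : R ≃ₐ[S] R) (hlam : ∀ r, lam (lam r) = r)
  (hfix : RInv.IsFixedRing S R lam.toRingEquiv)
  (A : Type w) [Ring A] [Algebra S A] [Algebra R A] [IsScalarTower S R A]
  (t : LamInv R A lam) (n : ℕ) (hn : 0 < n) (hA : AzInv.IsAzumayaDeg R A n)

theorem isQuadEtale_baseChange (hq : RInv.IsQuadEtale S R) (T : Type u) [CommRing T]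
    [Algebra S T] : RInv.IsQuadEtale T (T ⊗[S] R) := by
  obtain ⟨h1, h2, h3, h4⟩ := hq
  refine ⟨inferInstance, inferInstance, inferInstance, fun p => ?_⟩
  rw [Module.rankAtStalk_baseChange, h4]

include hlam hfix hn hA in
/-- over a strictly henselian flat `S`-algebra, `(A, t)` has diagonal matrix units, if `n` is odd
or `R` is quadratic étale over `S`. -/
theorem hasDiagMU_of_strictlyHenselian (hcase : Odd n ∨ RInv.IsQuadEtale S R) (T : Type u)
    [CommRing T] [Algebra S T] [Module.Flat S T] [HenselianLocalRing T]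
    [IsSepClosed (ResidueField T)] : HasDiagMU lam t n T := by
  classical
  have hAz : IsAzumaya R A := hA.1
  obtain ⟨e0, he0, h10⟩ :=
    Groth.Agent.Lib.Seat25.AzInvB.hasMatrixUnits_of_strictlyHenselian_fixed S R lam hlam hfix A n
      hn hA T
  let lamT : T ⊗[S] R ≃ₐ[S] T ⊗[S] R :=
    Algebra.TensorProduct.congr (AlgEquiv.refl : T ≃ₐ[S] T) lam
  have hfixT : RInv.IsFixedRing T (T ⊗[S] R) lamT.toRingEquiv :=
    Groth.Agent.S15586.result S R T lam hlam hfix (Or.inl inferInstance)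
  have hbridge : ∀ w, lamT.toRingEquiv w = lamBC lam T w := by
    intro w
    change lamT w = _
    induction w using TensorProduct.induction_on with
    | zero => simp
    | add a b ha hb => rw [map_add, map_add, ha, hb]
    | tmul s r => simp [lamT, lamBC]
  have hinv : Function.Involutive lamT.toRingEquiv := by
    intro z
    change lamT (lamT z) = z
    induction z using TensorProduct.induction_on with
    | zero => simp
    | tmul t r => simp [lamT, hlam]
    | add x y hx hy => rw [map_add, map_add, hx, hy]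
  obtain ⟨Φ₀, hΦ₀⟩ : ∃ Φ₀ : Matrix (Fin n) (Fin n) (T ⊗[S] R) ≃+* T ⊗[S] A,
      ∀ N, Φ₀ N = Phi R T e0 N := ⟨PhiEquiv hn hA.2 T e0 he0 h10, fun _ => rfl⟩
  have hΦs : ∀ c N, Φ₀ (Matrix.scalar (Fin n) c * N) =
      inclR (S := S) (A := A) T c * Φ₀ N := fun c N => by rw [hΦ₀, hΦ₀, Phi_scalar_mul]
  obtain ⟨τ, hτdef⟩ : ∃ τ : LamInv (T ⊗[S] R) (Matrix (Fin n) (Fin n) (T ⊗[S] R))
      lamT.toRingEquiv, ∀ N, Φ₀ (τ N) = t.bc S lam T (Φ₀ N) :=
    ⟨tauOf lam t T lamT.toRingEquiv hbridge Φ₀ hΦs,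
      tauOf_apply lam t T lamT.toRingEquiv hbridge Φ₀ hΦs⟩
  obtain ⟨ι, _, Ti, _, _, -, ⟨φ⟩⟩ :=
    exists_pi_of_strictlyHenselian_fixed S R lam hlam hfix T
  let φ' : T ⊗[S] R ≃+* ∀ i, Ti i := (Algebra.TensorProduct.comm S T R).toRingEquiv.trans φ
  have : Nonempty (Fin n) := ⟨⟨0, hn⟩⟩
  have hAzM : IsAzumaya (T ⊗[S] R) (Matrix (Fin n) (Fin n) (T ⊗[S] R)) := IsAzumaya.matrix _ _
  have hinner : ∀ Ψ : Matrix (Fin n) (Fin n) (T ⊗[S] R) ≃ₐ[T ⊗[S] R]
      Matrix (Fin n) (Fin n) (T ⊗[S] R), IsInner Ψ :=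
    fun Ψ => isInner_of_pi (T ⊗[S] R) _ Ti φ' Ψ
  have hcase' : Odd n ∨ RInv.IsQuadEtale T (T ⊗[S] R) :=
    hcase.imp id (fun hq => isQuadEtale_baseChange S R hq T)
  obtain ⟨P, Q, d, d', hPQ, hQP, hdd, hτ⟩ :=
    exists_diag_units lamT.toRingEquiv hinv hfixT hn hinner τ hcase'
  refine ⟨fun a b => Φ₀ (P * Matrix.single a b 1 * Q), d, d', ?_, ?_, hdd, ?_⟩
  · intro a b c d
    rw [← map_mul]
    have h3 : P * Matrix.single a b 1 * Q * (P * Matrix.single c d 1 * Q) =
        P * (Matrix.single a b 1 * Matrix.single c d 1) * Q := by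
      calc P * Matrix.single a b 1 * Q * (P * Matrix.single c d 1 * Q)
          = P * Matrix.single a b 1 * ((Q * P) * (Matrix.single c d 1 * Q)) := by
            simp only [mul_assoc]
        _ = P * (Matrix.single a b 1 * Matrix.single c d 1) * Q := by
            rw [hQP, one_mul]; simp only [mul_assoc]
    rw [h3]
    by_cases h : b = c
    · subst h
      rw [if_pos rfl, Matrix.single_mul_single_same, one_mul]
    · rw [if_neg h, Matrix.single_mul_single_of_ne _ _ _ _ h, mul_zero, zero_mul, map_zero]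
  · rw [← map_sum, ← Finset.sum_mul, ← Finset.mul_sum, Matrix.sum_single_one, mul_one, hPQ,
      map_one]
  · intro a b
    rw [← hτdef, hτ a b]
    have h1 : ∀ (c : T ⊗[S] R) (N : Matrix (Fin n) (Fin n) (T ⊗[S] R)),
        c • N = Matrix.scalar (Fin n) c * N := fun c N => by
      rw [Matrix.scalar_apply, ← Matrix.smul_eq_diagonal_mul]
    rw [h1, hΦs, AlgHom.commutes, ← Algebra.smul_def]

end Hens

end Groth.Agent.Lib.Seat77.AzInvF
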