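import Mathlib
import Groth.Agent.Lib.Seat77AzInvF

/-!
# Spreading out diagonal matrix units from a strict henselization to an étale neighbourhood,
and étale covers with symmetric matrix units
-/

set_option autoImplicit false

open scoped TensorProduct
open IsLocalRing

namespace Groth.Agent.Lib.Seat77.AzInvG

open Groth.Agent.Lib.Seat25.AzSH Groth.Agent.Lib.Seat25.AzDesc Groth.Agent.Lib.Seat25.AzInvA
  Groth.Agent.Lib.Seat25.AzInvB
open Groth.Agent.Lib.Helper3 Groth.Agent.Lib.Helper3.IndEt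
open AzInv Groth.Agent.Lib.Seat77.AzInvA Groth.Agent.Lib.Seat77.AzInvB
  Groth.Agent.Lib.Seat77.AzInvE Groth.Agent.Lib.Seat77.AzInvF

universe u v w

section Lift

variable {S : Type u} [CommRing S] (A : Type w) [Ring A] [Algebra S A]
  {T : Type u} [CommRing T] [Algebra S T]

/-- finitely many elements of `T ⊗ A` and of `T` come from an étale stage. -/
theorem lift_both (hF : Obj.Factor S T) {ι κ : Type} [Fintype ι] [Fintype κ]
    (x : ι → T ⊗[S] A) (y : κ → T) :
    ∃ (E : Type u) (_ : CommRing E) (_ : Algebra S E) (_ : Algebra.Etale S E)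
      (g : E →ₐ[S] T) (x' : ι → E ⊗[S] A) (y' : κ → E),
      (∀ i, bc A g (x' i) = x i) ∧ ∀ k, g (y' k) = y k := by
  classical
  choose m t a hx using fun i => exists_fin_sum_tmul (x i)
  let σ := (Σ i : ι, Fin (m i)) ⊕ κ
  let v : σ → T := Sum.elim (fun ik => t ik.1 ik.2) y
  let ψ₀ : MvPolynomial σ S →ₐ[S] T := MvPolynomial.aeval v
  obtain ⟨E, _, _, _, f, g, hfg⟩ := hF (MvPolynomial σ S) ψ₀
  refine ⟨E, inferInstance, inferInstance, inferInstance, g,
    fun i => ∑ k : Fin (m i), f (MvPolynomial.X (Sum.inl ⟨i, k⟩ : σ)) ⊗ₜ[S] a i k,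
    fun k => f (MvPolynomial.X (Sum.inr k : σ)), fun i => ?_, fun k => ?_⟩
  · rw [map_sum, hx i]
    refine Finset.sum_congr rfl fun k _ => ?_
    rw [Algebra.TensorProduct.map_tmul, AlgHom.id_apply, ← AlgHom.comp_apply, hfg]
    simp [ψ₀, v]
  · rw [← AlgHom.comp_apply, hfg]
    simp [ψ₀, v]

/-- finitely many elements of an étale stage dying in `T` die at a later étale stage. -/
theorem kill_ring_etale (hF : Obj.Factor S T) {E : Type u} [CommRing E] [Algebra S E]
    [Algebra.Etale S E] (g : E →ₐ[S] T) {κ : Type} [Fintype κ] (z : κ → E)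
    (hz : ∀ k, g (z k) = 0) :
    ∃ (E' : Type u) (_ : CommRing E') (_ : Algebra S E') (_ : Algebra.Etale S E')
      (h : E →ₐ[S] E') (g' : E' →ₐ[S] T), g'.comp h = g ∧ ∀ k, h (z k) = 0 := by
  classical
  let I : Ideal E := Ideal.span (Set.range z)
  have hIfg : I.FG := by
    refine ⟨(Finset.univ : Finset κ).image z, ?_⟩
    rw [Finset.coe_image, Finset.coe_univ, Set.image_univ]
  have : Algebra.FinitePresentation S (E ⧸ I) := Algebra.FinitePresentation.quotient hIfg
  have hker : ∀ q ∈ I, g q = 0 := by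
    intro q hq
    have : I ≤ RingHom.ker (g : E →+* T) := by
      rw [Ideal.span_le]
      rintro _ ⟨k, rfl⟩
      exact hz k
    exact this hq
  let ψ : E ⧸ I →ₐ[S] T := Ideal.Quotient.liftₐ I g hker
  obtain ⟨E', _, _, _, f, g', hfg⟩ := hF (E ⧸ I) ψ
  refine ⟨E', inferInstance, inferInstance, inferInstance, f.comp (Ideal.Quotient.mkₐ S I), g',
    ?_, fun k => ?_⟩
  · rw [← AlgHom.comp_assoc, hfg]
    apply AlgHom.ext
    intro x
    rfl
  · have : Ideal.Quotient.mkₐ S I (z k) = 0 :=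
      Ideal.Quotient.eq_zero_iff_mem.mpr (Ideal.subset_span ⟨k, rfl⟩)
    rw [AlgHom.comp_apply, this, map_zero]

end Lift

section Descend

variable {S : Type u} {R : Type v} [CommRing S] [CommRing R] [Algebra S R]
  (lam : R ≃ₐ[S] R) {A : Type w} [Ring A] [Algebra S A] [Algebra R A] [IsScalarTower S R A]
  (t : LamInv R A lam) (n : ℕ)

theorem bc_tbc {P Q : Type u} [CommRing P] [CommRing Q] [Algebra S P] [Algebra S Q]
    (φ : P →ₐ[S] Q) (x : P ⊗[S] A) :
    bc A φ (t.bc S lam P x) = t.bc S lam Q (bc A φ x) := chg_bc lam t φ x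

omit [Algebra R A] in
theorem bc_smul {P Q : Type u} [CommRing P] [CommRing Q] [Algebra S P] [Algebra S Q]
    (φ : P →ₐ[S] Q) (s : P) (x : P ⊗[S] A) :
    bc A φ (s • x) = φ s • bc A φ x := by
  rw [Algebra.smul_def, map_mul, Algebra.smul_def,
    show bc A φ (algebraMap P (P ⊗[S] A) s) = algebraMap Q (Q ⊗[S] A) (φ s) from
      chg_algebraMap φ s]

/-- `HasDiagMU` is stable under change of the base. -/
theorem HasDiagMU.map {P Q : Type u} [CommRing P] [CommRing Q] [Algebra S P] [Algebra S Q]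
    (φ : P →ₐ[S] Q) (h : HasDiagMU lam t n P) : HasDiagMU lam t n Q := by
  obtain ⟨e, d, d', he, h1, hdd, hsym⟩ := h
  refine ⟨fun a b => bc A φ (e a b), fun a => φ (d a), fun a => φ (d' a), fun a b c d => ?_, ?_,
    fun a => ?_, fun a b => ?_⟩
  · rw [← map_mul, he]
    split_ifs
    · rfl
    · exact map_zero _
  · rw [← map_sum, h1, map_one]
  · rw [← map_mul, hdd, map_one]
  · rw [← bc_tbc, hsym, bc_smul, map_mul]

variable {T : Type u} [CommRing T] [Algebra S T]

/-- diagonal matrix units over an ind-étale algebra descend to an étale stage. -/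
theorem hasDiagMU_descend (hF : Obj.Factor S T) (h : HasDiagMU lam t n T) :
    ∃ (E : Type u) (_ : CommRing E) (_ : Algebra S E) (_ : Algebra.Etale S E)
      (_ : E →ₐ[S] T), HasDiagMU lam t n E := by
  classical
  obtain ⟨e, d, d', he, h1, hdd, hsym⟩ := h
  obtain ⟨E₁, _, _, _, g₁, e₁, y₁, he₁, hy₁⟩ := lift_both A hF
    (fun ab : Fin n × Fin n => e ab.1 ab.2) (fun k : Fin n ⊕ Fin n => Sum.elim d d' k)
  obtain ⟨E₂, _, _, _, h₁₂, g₂, hc₂, hk₂⟩ := kill_ring_etale hF g₁
    (fun a : Fin n => y₁ (Sum.inl a) * y₁ (Sum.inr a) - 1) (fun a => by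
      rw [map_sub, map_mul, hy₁, hy₁, map_one, Sum.elim_inl, Sum.elim_inr, hdd a, sub_self])
  obtain ⟨e₂, he₂def⟩ : ∃ e₂ : Fin n × Fin n → E₂ ⊗[S] A, ∀ ab, e₂ ab = bc A h₁₂ (e₁ ab) :=
    ⟨_, fun _ => rfl⟩
  obtain ⟨d₂, hd₂def⟩ : ∃ d₂ : Fin n → E₂, ∀ a, d₂ a = h₁₂ (y₁ (Sum.inl a)) := ⟨_, fun _ => rfl⟩
  obtain ⟨d₂', hd₂'def⟩ : ∃ d₂' : Fin n → E₂, ∀ a, d₂' a = h₁₂ (y₁ (Sum.inr a)) :=
    ⟨_, fun _ => rfl⟩
  have he₂ : ∀ a b, bc A g₂ (e₂ (a, b)) = e a b := by
    intro a b
    rw [he₂def, ← bc_comp, hc₂, he₁]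
  have hd₂ : ∀ a, g₂ (d₂ a) = d a := by
    intro a
    rw [hd₂def, ← AlgHom.comp_apply, hc₂, hy₁, Sum.elim_inl]
  have hd₂' : ∀ a, g₂ (d₂' a) = d' a := by
    intro a
    rw [hd₂'def, ← AlgHom.comp_apply, hc₂, hy₁, Sum.elim_inr]
  have hdd₂ : ∀ a, d₂ a * d₂' a = 1 := by
    intro a
    have := hk₂ a
    rw [map_sub, map_mul, map_one, sub_eq_zero] at this
    rw [hd₂def, hd₂'def, this]
  let z : Option (Fin n × Fin n × Fin n × Fin n) ⊕ (Fin n × Fin n) → E₂ ⊗[S] A := fun o =>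
    match o with
    | Sum.inl none => ∑ a, e₂ (a, a) - 1
    | Sum.inl (some (a, b, c, d)) => e₂ (a, b) * e₂ (c, d) - if b = c then e₂ (a, d) else 0
    | Sum.inr (a, b) => t.bc S lam E₂ (e₂ (a, b)) - (d₂ b * d₂' a) • e₂ (b, a)
  have hz : ∀ o, bc A g₂ (z o) = 0 := by
    intro o
    match o with
    | Sum.inl none =>
      change bc A g₂ (∑ a, e₂ (a, a) - 1) = 0
      rw [map_sub, map_sum, map_one, sub_eq_zero, ← h1]
      exact Finset.sum_congr rfl fun a _ => he₂ a a
    | Sum.inl (some (a, b, c, d)) =>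
      change bc A g₂ (e₂ (a, b) * e₂ (c, d) - if b = c then e₂ (a, d) else 0) = 0
      rw [map_sub, map_mul, he₂, he₂, sub_eq_zero, he a b c d]
      split_ifs
      · exact (he₂ a d).symm
      · exact (map_zero _).symm
    | Sum.inr (a, b) =>
      change bc A g₂ (t.bc S lam E₂ (e₂ (a, b)) - (d₂ b * d₂' a) • e₂ (b, a)) = 0
      rw [map_sub, bc_tbc, bc_smul, he₂, he₂, map_mul, hd₂, hd₂', hsym, sub_self]
  obtain ⟨E₃, _, _, _, h₂₃, g₃, -, hk₃⟩ := kill_etale A hF g₂ z hz
  refine ⟨E₃, inferInstance, inferInstance, inferInstance, g₃,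
    fun a b => bc A h₂₃ (e₂ (a, b)), fun a => h₂₃ (d₂ a), fun a => h₂₃ (d₂' a),
    fun a b c d => ?_, ?_, fun a => ?_, fun a b => ?_⟩
  · have := hk₃ (Sum.inl (some (a, b, c, d)))
    change bc A h₂₃ (e₂ (a, b) * e₂ (c, d) - if b = c then e₂ (a, d) else 0) = 0 at this
    rw [map_sub, map_mul, sub_eq_zero] at this
    rw [this]
    split_ifs
    · rfl
    · exact map_zero _
  · have := hk₃ (Sum.inl none)
    change bc A h₂₃ (∑ a, e₂ (a, a) - 1) = 0 at this
    rw [map_sub, map_sum, map_one, sub_eq_zero] at this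
    exact this
  · rw [← map_mul, hdd₂, map_one]
  · have := hk₃ (Sum.inr (a, b))
    change bc A h₂₃ (t.bc S lam E₂ (e₂ (a, b)) - (d₂ b * d₂' a) • e₂ (b, a)) = 0 at this
    rw [map_sub, bc_tbc, bc_smul, sub_eq_zero, map_mul] at this
    exact this

end Descend

section Cover

open Groth.Agent.Lib.Seat14.EtLoc Groth.Agent.Lib.Seat25.AzInvC

variable (S : Type u) (R : Type v) [CommRing S] [CommRing R] [Algebra S R]
  (lam : R ≃ₐ[S] R) (hlam : ∀ r, lam (lam r) = r)
  (hfix : RInv.IsFixedRing S R lam.toRingEquiv)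
  (A : Type w) [Ring A] [Algebra S A] [Algebra R A] [IsScalarTower S R A]
  (t : LamInv R A lam) (n : ℕ) (hn : 0 < n) (hA : AzInv.IsAzumayaDeg R A n)

include hlam hfix hn hA in
/-- étale-locally on `Spec S`, `(A, t)` acquires diagonal matrix units. -/
theorem exists_etNbhd_hasDiagMU (hcase : Odd n ∨ RInv.IsQuadEtale S R) (q : PrimeSpectrum S) :
    ∃ N : EtNbhd S q, HasDiagMU lam t n N.B := by
  obtain ⟨T, _, _, _, _, hF, hq⟩ := exists_strictHenselization_atPrime S q.asIdeal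
  have : Module.Flat S T := flat_of_factor' hF
  have hMU := hasDiagMU_of_strictlyHenselian S R lam hlam hfix A t n hn hA hcase T
  obtain ⟨E, _, _, hE, g, hMUE⟩ := hasDiagMU_descend lam t n hF hMU
  refine ⟨{ B := E, etale := hE, q := PrimeSpectrum.comap g.toRingHom (closedPoint T), hq := ?_ },
    hMUE⟩
  ext x
  change g (algebraMap S E x) ∈ maximalIdeal T ↔ x ∈ q.asIdeal
  rw [g.commutes, ← hq]
  rfl

variable {S R A n}

/-- diagonal matrix units over a finite product. -/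
theorem HasDiagMU.pi {k : ℕ} (B : Fin k → Type u) [∀ i, CommRing (B i)] [∀ i, Algebra S (B i)]
    (h : ∀ i, HasDiagMU lam t n (B i)) : HasDiagMU lam t n (∀ i, B i) := by
  classical
  choose e d d' he h1 hdd hsym using h
  obtain ⟨Ψ, hΨ⟩ : ∃ Ψ : (∀ i, B i) ⊗[S] A ≃+* ∀ i, B i ⊗[S] A,
      ∀ x i, Ψ x i = bc A (Pi.evalAlgHom S B i) x :=
    ⟨piTensorEquiv S B A, fun x i => piTensorEquiv_apply S B A x i⟩
  refine ⟨fun a b => Ψ.symm (fun i => e i a b), fun a i => d i a, fun a i => d' i a,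
    fun a b c d => ?_, ?_, fun a => ?_, fun a b => ?_⟩
  · apply Ψ.injective
    rw [map_mul, RingEquiv.apply_symm_apply, RingEquiv.apply_symm_apply]
    split_ifs with hbc
    · rw [RingEquiv.apply_symm_apply]
      funext i
      rw [Pi.mul_apply, he, if_pos hbc]
    · rw [map_zero]
      funext i
      rw [Pi.mul_apply, he, if_neg hbc]
      rfl
  · apply Ψ.injective
    rw [map_sum, map_one]
    funext i
    rw [Finset.sum_apply, Pi.one_apply, ← h1 i]
    refine Finset.sum_congr rfl fun a _ => ?_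
    rw [RingEquiv.apply_symm_apply]
  · funext i
    exact hdd i a
  · apply Ψ.injective
    funext i
    rw [hΨ, hΨ, bc_tbc, bc_smul, ← hΨ, ← hΨ, RingEquiv.apply_symm_apply,
      RingEquiv.apply_symm_apply, hsym]
    rfl

variable (S R A n)

include hlam hfix hn hA in
/-- there is an étale covering of `Spec S` over which `(A, t)` acquires diagonal matrix units. -/
theorem exists_cover_hasDiagMU (hcase : Odd n ∨ RInv.IsQuadEtale S R) :
    ∃ (S' : Type u) (_ : CommRing S') (_ : Algebra S S') (_ : Algebra.Etale S S')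
      (_ : Module.FaithfullyFlat S S'), HasDiagMU lam t n S' := by
  classical
  obtain ⟨k, B, _, _, het, hsurj, hMU⟩ := exists_finite_family (A := S)
    (fun B _ _ => HasDiagMU lam t n B)
    (fun q => exists_etNbhd_hasDiagMU S R lam hlam hfix A t n hn hA hcase q)
  have hE : Algebra.Etale S (∀ t, B t) := inferInstance
  have : Algebra.Smooth S (∀ t, B t) := inferInstance
  have : Module.Flat S (∀ t, B t) := inferInstance
  have hff : Module.FaithfullyFlat S (∀ t, B t) := by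
    apply Module.FaithfullyFlat.of_comap_surjective
    intro p
    obtain ⟨t, q, hq⟩ := hsurj p
    refine ⟨PrimeSpectrum.comap (Pi.evalRingHom B t) q, ?_⟩
    ext x
    rw [← hq]
    rfl
  exact ⟨∀ t, B t, inferInstance, inferInstance, hE, hff, HasDiagMU.pi lam t B hMU⟩

end Cover

end Groth.Agent.Lib.Seat77.AzInvG
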