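import Mathlib
import Groth.Agent.Lib.Seat77AzInvG

/-!
# Azumaya algebras with involution of neutral type are étale-locally the matrix algebra with the
`lam`-transpose (odd degree, or `R` quadratic étale over the fixed ring `S`)
-/

set_option autoImplicit false
set_option linter.style.haveILetI false

open scoped TensorProduct

namespace Groth.Agent.Lib.Seat77.AzInvH

open Groth.Agent.Lib.Seat25.AzDesc
open AzInv Groth.Agent.Lib.Seat77.AzInvA Groth.Agent.Lib.Seat77.AzInvB
  Groth.Agent.Lib.Seat77.AzInvE Groth.Agent.Lib.Seat77.AzInvF Groth.Agent.Lib.Seat77.AzInvG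

universe u v w

section Sqrt

variable {S : Type u} [CommRing S]

/-- square roots of finitely many units after an étale faithfully flat extension. -/
theorem exists_sqrt_family
    (hsq : ∀ (S₁ : Type u) [CommRing S₁] [Algebra S S₁] [Algebra.Etale S S₁] (x : S₁ˣ),
      ∃ (S₂ : Type u) (_ : CommRing S₂) (_ : Algebra S₁ S₂) (_ : Algebra.Etale S₁ S₂)
        (_ : Module.FaithfullyFlat S₁ S₂) (y : S₂), y * y = algebraMap S₁ S₂ ↑x) :
    ∀ (m : ℕ) (S₁ : Type u) [CommRing S₁] [Algebra S S₁] [Algebra.Etale S S₁] (d : Fin m → S₁ˣ),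
      ∃ (S₂ : Type u) (_ : CommRing S₂) (_ : Algebra S₁ S₂) (_ : Algebra.Etale S₁ S₂)
        (_ : Module.FaithfullyFlat S₁ S₂) (y : Fin m → S₂),
        ∀ a, y a * y a = algebraMap S₁ S₂ ↑(d a) := by
  intro m
  induction m with
  | zero =>
    intro S₁ _ _ _ d
    exact ⟨S₁, inferInstance, inferInstance, inferInstance, inferInstance, Fin.elim0,
      fun a => a.elim0⟩
  | succ m ih =>
    intro S₁ _ _ _ d
    obtain ⟨S₂, _, _, hE₂, hff₂, y, hy⟩ := ih S₁ (fun a => d a.succ)
    letI : Algebra S S₂ := ((algebraMap S₁ S₂).comp (algebraMap S S₁)).toAlgebra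
    haveI : IsScalarTower S S₁ S₂ := IsScalarTower.of_algebraMap_eq (fun _ => rfl)
    haveI : Algebra.Etale S S₂ := Algebra.Etale.comp S S₁ S₂
    obtain ⟨S₃, _, _, hE₃, hff₃, y₀, hy₀⟩ :=
      hsq S₂ (Units.map (algebraMap S₁ S₂ : S₁ →* S₂) (d 0))
    letI : Algebra S₁ S₃ := ((algebraMap S₂ S₃).comp (algebraMap S₁ S₂)).toAlgebra
    haveI : IsScalarTower S₁ S₂ S₃ := IsScalarTower.of_algebraMap_eq (fun _ => rfl)
    refine ⟨S₃, inferInstance, inferInstance, Algebra.Etale.comp S₁ S₂ S₃,
      Module.FaithfullyFlat.trans S₁ S₂ S₃,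
      Fin.cons y₀ (fun a => algebraMap S₂ S₃ (y a)), ?_⟩
    intro a
    refine Fin.cases ?_ (fun a => ?_) a
    · rw [Fin.cons_zero, hy₀]
      rfl
    · rw [Fin.cons_succ, ← map_mul, hy a]
      rfl

end Sqrt

section Sym

variable {S : Type u} {R : Type v} [CommRing S] [CommRing R] [Algebra S R]
  (lam : R ≃ₐ[S] R) {A : Type w} [Ring A] [Algebra S A] [Algebra R A] [IsScalarTower S R A]
  (t : LamInv R A lam) (n : ℕ)

/-- diagonal matrix units whose units `d a` are squares can be rescaled to symmetric ones. -/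
theorem hasSymMU_of_sqrt {P : Type u} [CommRing P] [Algebra S P]
    (e : Fin n → Fin n → P ⊗[S] A) (d d' : Fin n → P)
    (he : ∀ a b c d, e a b * e c d = if b = c then e a d else 0) (h1 : ∑ a, e a a = 1)
    (hdd : ∀ a, d a * d' a = 1) (hsym : ∀ a b, t.bc S lam P (e a b) = (d b * d' a) • e b a)
    (y : Fin n → P) (hy : ∀ a, y a * y a = d a) : HasSymMU lam t n P := by
  classical
  obtain ⟨y', hy'def⟩ : ∃ y' : Fin n → P, ∀ a, y' a = y a * d' a := ⟨_, fun _ => rfl⟩
  have hyy' : ∀ a, y a * y' a = 1 := by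
    intro a
    rw [hy'def, ← mul_assoc, hy, hdd]
  refine ⟨fun a b => (y a * y' b) • e a b, fun a b c d => ?_, ?_, fun a b => ?_⟩
  · rw [smul_mul_smul_comm, he]
    split_ifs with hbc
    · subst hbc
      congr 1
      calc y a * y' b * (y b * y' d) = (y b * y' b) * (y a * y' d) := by ring
        _ = y a * y' d := by rw [hyy', one_mul]
    · rw [smul_zero]
  · rw [← h1]
    refine Finset.sum_congr rfl fun a _ => ?_
    change (y a * y' a) • e a a = e a a
    rw [hyy', one_smul]
  · rw [map_smul, hsym, smul_smul]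
    congr 1
    calc y a * y' b * (d b * d' a) = (y b * (d b * d' b)) * (y a * d' a) := by
          rw [hy'def]; ring
      _ = y b * y' a := by rw [hdd, mul_one, hy'def]

end Sym

section Main

variable (S : Type u) (R : Type v) [CommRing S] [CommRing R] [Algebra S R]
  (lam : R ≃ₐ[S] R) (hlam : ∀ r, lam (lam r) = r)
  (hfix : RInv.IsFixedRing S R lam.toRingEquiv)
  (hsq : ∀ (S₁ : Type u) [CommRing S₁] [Algebra S S₁] [Algebra.Etale S S₁] (x : S₁ˣ),
    ∃ (S₂ : Type u) (_ : CommRing S₂) (_ : Algebra S₁ S₂) (_ : Algebra.Etale S₁ S₂)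
      (_ : Module.FaithfullyFlat S₁ S₂) (y : S₂), y * y = algebraMap S₁ S₂ ↑x)
  (A : Type w) [Ring A] [Algebra S A] [Algebra R A] [IsScalarTower S R A]
  (t : LamInv R A lam) (n : ℕ) (hn : 0 < n) (hA : AzInv.IsAzumayaDeg R A n)

include hlam hfix hsq hn hA in
/-- there is an étale covering of `Spec S` over which `(A, t)` has symmetric matrix units. -/
theorem exists_cover_hasSymMU (hcase : Odd n ∨ RInv.IsQuadEtale S R) :
    ∃ (S' : Type u) (_ : CommRing S') (_ : Algebra S S') (_ : Algebra.Etale S S')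
      (_ : Module.FaithfullyFlat S S'), HasSymMU lam t n S' := by
  classical
  obtain ⟨S₁, _, _, hE₁, hff₁, e, d, d', he, h1, hdd, hsym⟩ :=
    exists_cover_hasDiagMU S R lam hlam hfix A t n hn hA hcase
  let du : Fin n → S₁ˣ := fun a => ⟨d a, d' a, hdd a, by rw [mul_comm]; exact hdd a⟩
  obtain ⟨S₂, _, _, hE₂, hff₂, y, hy⟩ := exists_sqrt_family hsq n S₁ du
  letI : Algebra S S₂ := ((algebraMap S₁ S₂).comp (algebraMap S S₁)).toAlgebra
  haveI : IsScalarTower S S₁ S₂ := IsScalarTower.of_algebraMap_eq (fun _ => rfl)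
  have hE : Algebra.Etale S S₂ := Algebra.Etale.comp S S₁ S₂
  have hff : Module.FaithfullyFlat S S₂ := Module.FaithfullyFlat.trans S S₁ S₂
  let φ : S₁ →ₐ[S] S₂ := IsScalarTower.toAlgHom S S₁ S₂
  refine ⟨S₂, inferInstance, inferInstance, hE, hff, ?_⟩
  refine hasSymMU_of_sqrt lam t n (fun a b => bc A φ (e a b)) (fun a => φ (d a))
    (fun a => φ (d' a)) (fun a b c d => ?_) ?_ (fun a => ?_) (fun a b => ?_) y (fun a => ?_)
  · rw [← map_mul, he]
    split_ifs
    · rfl
    · exact map_zero _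
  · rw [← map_sum, h1, map_one]
  · rw [← map_mul, hdd, map_one]
  · rw [← bc_tbc, hsym, bc_smul, map_mul]
  · rw [hy a]
    rfl

include hlam hfix hsq hn hA in
/-- **Neutral type**: if `n` is odd or `R` is quadratic étale over `S`, an Azumaya algebra with
`lam`-involution of degree `n` is étale-locally the matrix algebra with the `lam`-transpose. -/
theorem locIsoEt_transpose (hcase : Odd n ∨ RInv.IsQuadEtale S R) :
    LocIsoEt S lam t ((LamInv.self lam hlam).matrix (Fin n)) := by
  obtain ⟨S', _, _, hE, hff, hsym⟩ :=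
    exists_cover_hasSymMU S R lam hlam hfix hsq A t n hn hA hcase
  exact locIsoEt_of_hasSymMU lam t ((LamInv.self lam hlam).matrix (Fin n)) n hn hA
    (isAzumayaDeg_matrix n hn) S' hsym (hasSymMU_matrix lam hlam n S')

/-- the `1 × 1` matrix algebra over an Azumaya algebra of degree `n`. -/
theorem isAzumayaDeg_matrix_one {n : ℕ} (hA : AzInv.IsAzumayaDeg R A n) :
    AzInv.IsAzumayaDeg R (Matrix (Fin 1) (Fin 1) A) n := by
  have := hA.1
  let g : A ≃ₐ[R] Matrix (Fin 1) (Fin 1) A := AlgEquiv.symm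
    { toFun := fun M => M 0 0
      invFun := fun a => Matrix.of fun _ _ => a
      left_inv := fun M => by
        ext i j
        rw [Subsingleton.elim i 0, Subsingleton.elim j 0]
        rfl
      right_inv := fun a => rfl
      map_mul' := fun M N => by
        simp [Matrix.mul_apply]
      map_add' := fun M N => rfl
      commutes' := fun r => by
        simp [Matrix.algebraMap_matrix_apply] }
  refine ⟨IsAzumaya.of_AlgEquiv R A _ g, fun p => ?_⟩
  rw [← Module.rankAtStalk_eq_of_equiv g.toLinearEquiv, hA.2]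

include hlam hfix hsq hn hA in
/-- `(A, t)` has the same type as `(R, lam)`. -/
theorem sameType_self (hcase : Odd n ∨ RInv.IsQuadEtale S R) :
    SameType S lam t (LamInv.self lam hlam) :=
  ⟨1, n, Nat.one_pos, hn,
    locIsoEt_transpose S R lam hlam hfix hsq (Matrix (Fin 1) (Fin 1) A) (t.matrix (Fin 1)) n hn
      (isAzumayaDeg_matrix_one R A hA) hcase⟩

end Main

end Groth.Agent.Lib.Seat77.AzInvH
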