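import Groth.Agent.Lib.Seat65HermB

/-!
Splitting off a vector of unit norm from a hermitian matrix, and arranging that the
orthogonal complement again contains a vector of unit norm.
-/

set_option autoImplicit false

namespace Groth.Agent.Lib.Seat65.HermC

open Matrix Groth.Agent.Lib.Seat65.HermA Groth.Agent.Lib.Seat65.HermB
  Groth.Agent.Lib.Helper15.QuadEtale

universe u v

section elem

variable {A : Type*} [CommRing A] {ι : Type*} [Fintype ι] [DecidableEq ι]

theorem vecMulVec_mulVec' (a b y : ι → A) : vecMulVec a b *ᵥ y = (b ⬝ᵥ y) • a := by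
  funext k
  simp only [Matrix.mulVec, dotProduct, vecMulVec_apply, Pi.smul_apply, smul_eq_mul,
    Finset.sum_mul]
  exact Finset.sum_congr rfl fun j _ => by ring

theorem one_add_vecMulVec_mulVec (a b y : ι → A) :
    (1 + vecMulVec a b) *ᵥ y = y + (b ⬝ᵥ y) • a := by
  rw [Matrix.add_mulVec, Matrix.one_mulVec, vecMulVec_mulVec']

theorem isUnit_one_add_vecMulVec (a b : ι → A) (hab : b ⬝ᵥ a = 0) :
    IsUnit (1 + vecMulVec a b) := by
  have hN : vecMulVec a b * vecMulVec a b = 0 := by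
    rw [vecMulVec_mul_vecMulVec, hab, zero_smul, vecMulVec_zero]
  refine isUnit_iff_exists.mpr ⟨1 - vecMulVec a b, ?_, ?_⟩
  · rw [mul_sub, mul_one, add_mul, one_mul, hN]; abel
  · rw [sub_mul, one_mul, mul_add, mul_one, hN]; abel

end elem

variable {B : Type u} {A : Type v} [CommRing B] [CommRing A] [Algebra B A]
  (lam : A ≃+* A) (hlam : Function.Involutive lam) (hB : RInv.IsFixedRing B A lam)
  [IsLocalRing B] {ι : Type*} [Fintype ι] [DecidableEq ι]

theorem congr_apply (h v : Matrix ι ι A) (j k : ι) :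
    (st lam v * h * v) j k = sq lam h (v *ᵥ Pi.single j 1) (v *ᵥ Pi.single k 1) := by
  rw [← sq_congr, sq_single_single]

include hlam in
/-- Splitting off a vector `x` of unit norm with `x i = 1`. -/
theorem exists_split {ε : A} {h : Matrix ι ι A} (hh : Herm lam ε h)
    (i : ι) (x : ι → A) (hxi : x i = 1) (hu : IsUnit (sq lam h x x)) :
    ∃ v : Matrix ι ι A, IsUnit v ∧ (st lam v * h * v) i i = sq lam h x x ∧
      (∀ k, k ≠ i → (st lam v * h * v) i k = 0 ∧ (st lam v * h * v) k i = 0) ∧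
      (∀ w, sq lam h x w = 0 →
        ∃ y : ι → A, y i = 0 ∧ sq lam (st lam v * h * v) y y = sq lam h w w) := by
  obtain ⟨uinv, hu1⟩ := hu.exists_right_inv
  obtain ⟨r, hr⟩ : ∃ r : ι → A,
      r = fun j => if j = i then 0 else uinv * sq lam h x (Pi.single j 1) := ⟨_, rfl⟩
  have hri : r i = 0 := by simp [hr]
  obtain ⟨T₁, hT₁⟩ : ∃ T₁ : Matrix ι ι A,
      T₁ = 1 + vecMulVec (x - Pi.single i 1) (Pi.single i 1) := ⟨_, rfl⟩
  obtain ⟨T₂, hT₂⟩ : ∃ T₂ : Matrix ι ι A,
      T₂ = 1 + vecMulVec (Pi.single i 1) (-r) := ⟨_, rfl⟩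
  have hT₁u : IsUnit T₁ := by
    rw [hT₁]
    exact isUnit_one_add_vecMulVec _ _ (by rw [single_one_dotProduct]; simp [hxi])
  have hT₂u : IsUnit T₂ := by
    rw [hT₂]
    exact isUnit_one_add_vecMulVec _ _ (by rw [dotProduct_single_one]; simp [hri])
  obtain ⟨v, hv⟩ : ∃ v : Matrix ι ι A, v = T₁ * T₂ := ⟨_, rfl⟩
  have hvu : IsUnit v := hv ▸ hT₁u.mul hT₂u
  have hvi : v *ᵥ Pi.single i 1 = x := by
    rw [hv, ← Matrix.mulVec_mulVec, hT₂, one_add_vecMulVec_mulVec, hT₁,
      one_add_vecMulVec_mulVec]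
    funext k
    simp [dotProduct_single_one, single_one_dotProduct, hri]
  have hvk : ∀ k, k ≠ i → v *ᵥ Pi.single k 1 = Pi.single k 1 - r k • x := by
    intro k hk
    rw [hv, ← Matrix.mulVec_mulVec, hT₂, one_add_vecMulVec_mulVec, hT₁,
      one_add_vecMulVec_mulVec]
    funext l
    simp only [dotProduct_single_one, single_one_dotProduct, Pi.add_apply, Pi.smul_apply,
      Pi.neg_apply, Pi.sub_apply, smul_eq_mul, Pi.single_eq_of_ne hk.symm, Pi.single_eq_same]
    ring
  obtain ⟨M, hM⟩ : ∃ M : Matrix ι ι A, M = st lam v * h * v := ⟨_, rfl⟩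
  have hMh : Herm lam ε M := hM ▸ hh.congr hlam v
  have hMii : M i i = sq lam h x x := by
    rw [hM, congr_apply, hvi]
  have hMik : ∀ k, k ≠ i → M i k = 0 := by
    intro k hk
    rw [hM, congr_apply, hvi, hvk k hk, sq_sub_right, sq_smul_right]
    simp only [hr, if_neg hk]
    calc sq lam h x (Pi.single k 1) - uinv * sq lam h x (Pi.single k 1) * sq lam h x x
        = sq lam h x (Pi.single k 1) * (1 - sq lam h x x * uinv) := by ring
      _ = 0 := by rw [hu1, sub_self, mul_zero]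
  refine ⟨v, hvu, ?_, fun k hk => ⟨?_, ?_⟩, fun w hw => ?_⟩
  · rw [← hM]; exact hMii
  · rw [← hM]; exact hMik k hk
  · rw [← hM, hMh.apply k i, hMik k hk, map_zero, mul_zero]
  · obtain ⟨vinv, hv1, -⟩ := isUnit_iff_exists.mp hvu
    refine ⟨vinv *ᵥ w, ?_, ?_⟩
    · have h1 : sq lam M (Pi.single i 1) (vinv *ᵥ w) = 0 := by
        rw [hM, sq_congr, hvi, Matrix.mulVec_mulVec, hv1, Matrix.one_mulVec, hw]
      rw [sq_single_left] at h1
      have h2 : (M *ᵥ (vinv *ᵥ w)) i = M i i * (vinv *ᵥ w) i := by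
        simp only [Matrix.mulVec, dotProduct]
        rw [Finset.sum_eq_single i]
        · intro k _ hk
          rw [hMik k hk, zero_mul]
        · intro hi; exact absurd (Finset.mem_univ i) hi
      rw [h2, hMii] at h1
      calc (vinv *ᵥ w) i = uinv * (sq lam h x x * (vinv *ᵥ w) i) := by
            rw [← mul_assoc, mul_comm uinv, hu1, one_mul]
        _ = 0 := by rw [h1, mul_zero]
    · rw [sq_congr, Matrix.mulVec_mulVec, hv1, Matrix.one_mulVec]

include hlam hB in
/-- If the complement of a split-off index has no vector of unit norm, a different splitting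
vector can be found whose orthogonal complement does. -/
theorem exists_pair {ε : A} (hε : ε = 1 ∨ ε = -1) {M : Matrix ι ι A} (hM : Herm lam ε M)
    (hMu : IsUnit M) (i : ι) (hsplit : ∀ k, k ≠ i → M i k = 0 ∧ M k i = 0)
    (hii : IsUnit (M i i)) (k₀ : ι) (hk₀ : k₀ ≠ i)
    (hng : ¬ ∃ y : ι → A, y i = 0 ∧ IsUnit (sq lam M y y)) :
    ∃ x w : ι → A, x i = 1 ∧ IsUnit (sq lam M x x) ∧ sq lam M x w = 0 ∧
      IsUnit (sq lam M w w) := by
  have hJ : ∀ y : ι → A, y i = 0 → sq lam M y y ∈ Ring.jacobson A := fun y hy =>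
    (norm_dichotomy lam hlam hB hε hM y).resolve_right fun hyu => hng ⟨y, hy, hyu⟩
  obtain ⟨W, hW1, -⟩ := isUnit_iff_exists.mp hMu
  obtain ⟨uinv, hu1⟩ := hii.exists_right_inv
  set z : ι → A := W *ᵥ Pi.single k₀ 1 with hz
  have hMz : M *ᵥ z = Pi.single k₀ 1 := by
    rw [hz, Matrix.mulVec_mulVec, hW1, Matrix.one_mulVec]
  have hrow : ∀ y : ι → A, (M *ᵥ y) i = M i i * y i := by
    intro y
    simp only [Matrix.mulVec, dotProduct]
    rw [Finset.sum_eq_single i]
    · intro k _ hk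
      rw [(hsplit k hk).1, zero_mul]
    · intro hi; exact absurd (Finset.mem_univ i) hi
  have hzi : z i = 0 := by
    have h1 := hrow z
    rw [hMz, Pi.single_eq_of_ne hk₀.symm] at h1
    calc z i = uinv * (M i i * z i) := by rw [← mul_assoc, mul_comm uinv, hu1, one_mul]
      _ = 0 := by rw [← h1, mul_zero]
  have hk₀J : M k₀ k₀ ∈ Ring.jacobson A := by
    have := hJ (Pi.single k₀ 1) (Pi.single_eq_of_ne hk₀.symm _)
    rwa [sq_single_single] at this
  have hzJ : sq lam M z z ∈ Ring.jacobson A := hJ z hzi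
  have huinv : IsUnit uinv := IsUnit.of_mul_eq_one _ (by rw [mul_comm]; exact hu1)
  refine ⟨Pi.single i 1 + Pi.single k₀ 1, (-uinv) • Pi.single i 1 + z, ?_, ?_, ?_, ?_⟩
  · simp [Pi.single_eq_of_ne hk₀.symm]
  · rw [sq_polar, sq_single_single, sq_single_single, sq_single_single, sq_single_single,
      (hsplit k₀ hk₀).1, (hsplit k₀ hk₀).2, add_zero, add_zero]
    exact isUnit_add_of_mem_jacobson hii hk₀J
  · rw [sq_add_left, sq_single_left, sq_single_left, Matrix.mulVec_add, Matrix.mulVec_smul,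
      hMz, Matrix.mulVec_single_one]
    simp only [Pi.add_apply, Pi.smul_apply, smul_eq_mul, Matrix.col_apply,
      Pi.single_eq_same, Pi.single_eq_of_ne hk₀.symm, (hsplit k₀ hk₀).2]
    rw [neg_mul, mul_comm, hu1]; ring
  · have h1 : sq lam M ((-uinv) • Pi.single i 1) z = 0 := by
      rw [sq_smul_left, sq_single_left, hMz, Pi.single_eq_of_ne hk₀.symm, mul_zero]
    have h2 : sq lam M z ((-uinv) • Pi.single i 1) = 0 := by
      rw [sq_symm hlam hM ((-uinv) • Pi.single i 1) z, h1, map_zero, mul_zero]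
    rw [sq_polar, h1, h2, add_zero, add_zero, sq_smul_left, sq_smul_right, sq_single_single]
    refine isUnit_add_of_mem_jacobson ?_ hzJ
    have h3 : IsUnit (-uinv) := huinv.neg
    exact (h3.map lam).mul (h3.mul hii)

include hlam hB in
/-- A hermitian invertible matrix with a vector of unit norm can be split so that the
complement again has a vector of unit norm (or is empty). -/
theorem exists_good_split {ε : A} (hε : ε = 1 ∨ ε = -1) {h : Matrix ι ι A}
    (hh : Herm lam ε h) (hu : IsUnit h) (hg : Good lam h) :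
    ∃ (i : ι) (v : Matrix ι ι A), IsUnit v ∧
      (∀ k, k ≠ i → (st lam v * h * v) i k = 0 ∧ (st lam v * h * v) k i = 0) ∧
      IsUnit ((st lam v * h * v) i i) ∧
      ((∃ y : ι → A, y i = 0 ∧ IsUnit (sq lam (st lam v * h * v) y y)) ∨ ∀ k : ι, k = i) := by
  obtain ⟨i, x, hxi, hxu⟩ := exists_unit_coord lam hlam hB hε hh hg
  obtain ⟨v₁, hv₁u, hM₁ii, hM₁s, -⟩ := exists_split lam hlam hh i x hxi hxu
  have hM₁iu : IsUnit ((st lam v₁ * h * v₁) i i) := by rw [hM₁ii]; exact hxu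
  by_cases hall : ∀ k : ι, k = i
  · exact ⟨i, v₁, hv₁u, hM₁s, hM₁iu, Or.inr hall⟩
  by_cases hgood : ∃ y : ι → A, y i = 0 ∧ IsUnit (sq lam (st lam v₁ * h * v₁) y y)
  · exact ⟨i, v₁, hv₁u, hM₁s, hM₁iu, Or.inl hgood⟩
  push Not at hall
  obtain ⟨k₀, hk₀⟩ := hall
  have hM₁h : Herm lam ε (st lam v₁ * h * v₁) := hh.congr hlam v₁
  have hM₁u : IsUnit (st lam v₁ * h * v₁) := ((isUnit_st lam hv₁u).mul hu).mul hv₁u
  obtain ⟨x', w', hx'i, hx'u, hx'w', hw'u⟩ :=
    exists_pair lam hlam hB hε hM₁h hM₁u i hM₁s hM₁iu k₀ hk₀ hgood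
  obtain ⟨v₂, hv₂u, hM₂ii, hM₂s, hM₂w⟩ := exists_split lam hlam hM₁h i x' hx'i hx'u
  obtain ⟨y, hyi, hy⟩ := hM₂w w' hx'w'
  have hmul : st lam (v₁ * v₂) * h * (v₁ * v₂) = st lam v₂ * (st lam v₁ * h * v₁) * v₂ := by
    rw [st_mul]
    simp only [Matrix.mul_assoc]
  refine ⟨i, v₁ * v₂, hv₁u.mul hv₂u, ?_, ?_, Or.inl ⟨y, hyi, ?_⟩⟩
  · rw [hmul]; exact hM₂s
  · rw [hmul, hM₂ii]; exact hx'u
  · rw [hmul, hy]; exact hw'u

end Groth.Agent.Lib.Seat65.HermC
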