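import Groth.Agent.Lib.Seat65HermA
import Groth.Agent.Lib.Helper15QuadEtale

/-!
Hermitian forms over a commutative ring with involution whose fixed ring is local:
the unit/Jacobson dichotomy for (anti)symmetric elements, existence of vectors of unit norm.
-/

set_option autoImplicit false

namespace Groth.Agent.Lib.Seat65.HermB

open Matrix Groth.Agent.Lib.Seat65.HermA Groth.Agent.Lib.Helper15.QuadEtale

universe u v

variable {B : Type u} {A : Type v} [CommRing B] [CommRing A] [Algebra B A]
  (lam : A ≃+* A) (hlam : Function.Involutive lam) (hB : RInv.IsFixedRing B A lam)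
  [IsLocalRing B]

include hB in
theorem nontrivial : Nontrivial A := hB.1.nontrivial

include hlam hB in
/-- A symmetric or antisymmetric element is either in the Jacobson radical or a unit. -/
theorem dichotomy (s : A) (hs : lam s = s ∨ lam s = -s) : s ∈ Ring.jacobson A ∨ IsUnit s := by
  by_contra hcon
  push Not at hcon
  obtain ⟨hJ, hnu⟩ := hcon
  obtain ⟨N, hN, hsN⟩ := exists_max_ideal_of_mem_nonunits hnu
  rw [← Ideal.jacobson_bot, Ideal.jacobson, Ideal.mem_sInf] at hJ
  push Not at hJ
  obtain ⟨M, ⟨-, hM⟩, hsM⟩ := hJ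
  haveI := hM
  haveI := hN
  rcases maximal_orbit lam hlam hB M N with h | h
  · exact hsM (h ▸ hsN)
  · rw [h, Ideal.mem_comap] at hsN
    have h1 : lam s ∈ M := hsN
    rcases hs with hs | hs
    · rw [hs] at h1; exact hsM h1
    · rw [hs] at h1; exact hsM ((Ideal.neg_mem_iff _).mp h1)

/-- `ε`-symmetric elements (for `ε = ±1`) are symmetric or antisymmetric. -/
theorem symm_cases {ε : A} (hε : ε = 1 ∨ ε = -1) {s : A} (hs : s = ε * lam s) :
    lam s = s ∨ lam s = -s := by
  rcases hε with rfl | rfl
  · left; rw [one_mul] at hs; exact hs.symm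
  · right
    have : lam s = -(-1 * lam s) := by ring
    rw [this, ← hs]

theorem eps_mul_self {ε : A} (hε : ε = 1 ∨ ε = -1) : ε * ε = 1 := by
  rcases hε with rfl | rfl <;> ring

theorem lam_eps {ε : A} (hε : ε = 1 ∨ ε = -1) : lam ε = ε := by
  rcases hε with rfl | rfl <;> simp

include hlam hB in
theorem dichotomy' {ε : A} (hε : ε = 1 ∨ ε = -1) {s : A} (hs : s = ε * lam s) :
    s ∈ Ring.jacobson A ∨ IsUnit s :=
  dichotomy lam hlam hB s (symm_cases lam hε hs)

/-- The `ε`-trace `t + ε * lam t` is `ε`-symmetric. -/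
theorem tr_symm (hlam : Function.Involutive lam) {ε : A} (hε : ε = 1 ∨ ε = -1) (t : A) :
    t + ε * lam t = ε * lam (t + ε * lam t) := by
  rw [map_add, map_mul, hlam, lam_eps lam hε, mul_add, ← mul_assoc, eps_mul_self hε, one_mul,
    add_comm]

/-- Some `ε`-trace is a unit. -/
def HasT (ε : A) : Prop := ∃ t : A, IsUnit (t + ε * lam t)

include hlam hB in
theorem hasT_of_case {ε : A} (hε : ε = 1 ∨ ε = -1)
    (hc : (∃ a : A, lam a - a ∉ Ring.jacobson A) ∨ ε + 1 ∉ Ring.jacobson A) : HasT lam ε := by
  rcases hc with ⟨a, ha⟩ | hc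
  · have hanti : lam (lam a - a) = -(lam a - a) := by rw [map_sub, hlam]; ring
    have hu : IsUnit (lam a - a) :=
      (dichotomy lam hlam hB _ (Or.inr hanti)).resolve_left ha
    rcases hε with rfl | rfl
    · obtain ⟨w, hw⟩ := hu.exists_right_inv
      have hlw : lam w = -w := by
        have h1 : lam (lam a - a) * lam w = 1 := by rw [← map_mul, hw, map_one]
        rw [hanti] at h1
        calc lam w = (w * (lam a - a)) * lam w := by rw [mul_comm w, hw, one_mul]
          _ = -w * (-(lam a - a) * lam w) := by ring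
          _ = -w := by rw [h1, mul_one]
      refine ⟨-a * w, ?_⟩
      have : -a * w + 1 * lam (-a * w) = (lam a - a) * w := by
        rw [map_mul, map_neg, hlw]; ring
      rw [this, hw]; exact isUnit_one
    · refine ⟨-a, ?_⟩
      have : -a + -1 * lam (-a) = lam a - a := by rw [map_neg]; ring
      rw [this]; exact hu
  · refine ⟨1, ?_⟩
    have h1 : (1 : A) + ε * lam 1 = ε + 1 := by rw [map_one]; ring
    have h2 := tr_symm lam hlam hε (1 : A)
    rw [h1] at h2 ⊢
    exact (dichotomy' lam hlam hB hε h2).resolve_left hc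

variable {ι : Type*} [Fintype ι] [DecidableEq ι]

/-- Some vector has unit norm. -/
def Good (h : Matrix ι ι A) : Prop := ∃ x : ι → A, IsUnit (sq lam h x x)

include hlam in
theorem sq_self_symm {ε : A} {h : Matrix ι ι A} (hh : Herm lam ε h) (x : ι → A) :
    sq lam h x x = ε * lam (sq lam h x x) :=
  sq_symm hlam hh x x

include hlam hB in
theorem norm_dichotomy {ε : A} (hε : ε = 1 ∨ ε = -1) {h : Matrix ι ι A} (hh : Herm lam ε h)
    (x : ι → A) : sq lam h x x ∈ Ring.jacobson A ∨ IsUnit (sq lam h x x) :=
  dichotomy' lam hlam hB hε (sq_self_symm lam hlam hh x)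

include hlam hB in
/-- If some `ε`-trace is a unit, every invertible `ε`-hermitian matrix of positive size has a
vector of unit norm. -/
theorem good_of_hasT {ε : A} (hε : ε = 1 ∨ ε = -1) (hT : HasT lam ε) {h : Matrix ι ι A}
    (hh : Herm lam ε h) (hu : IsUnit h) [Nonempty ι] : Good lam h := by
  have := nontrivial lam hB
  by_contra hng
  have hJ : ∀ x : ι → A, sq lam h x x ∈ Ring.jacobson A := fun x =>
    (norm_dichotomy lam hlam hB hε hh x).resolve_right fun hx => hng ⟨x, hx⟩
  have hpol : ∀ x y : ι → A, sq lam h x y + sq lam h y x ∈ Ring.jacobson A := by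
    intro x y
    have h1 := hJ (x + y)
    rw [sq_polar] at h1
    have h2 := Ideal.add_mem _ (hJ x) (hJ y)
    have h3 := Ideal.sub_mem _ h1 h2
    have : sq lam h x x + sq lam h y y + sq lam h x y + sq lam h y x -
        (sq lam h x x + sq lam h y y) = sq lam h x y + sq lam h y x := by ring
    rwa [this] at h3
  obtain ⟨w, hw1, -⟩ := isUnit_iff_exists.mp hu
  obtain ⟨t, ht⟩ := hT
  obtain ⟨j₀⟩ := ‹Nonempty ι›
  have key : sq lam h (Pi.single j₀ 1) (t • (w *ᵥ Pi.single j₀ 1)) = t := by
    rw [sq_smul_right, sq_single_left, Matrix.mulVec_mulVec, hw1, Matrix.one_mulVec,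
      Pi.single_eq_same, mul_one]
  have h4 := hpol (Pi.single j₀ 1) (t • (w *ᵥ Pi.single j₀ 1))
  rw [sq_symm hlam hh (Pi.single j₀ 1) (t • (w *ᵥ Pi.single j₀ 1)), key] at h4
  exact not_isUnit_of_mem_jacobson h4 ht

include hlam hB in
/-- A vector of unit norm can be chosen with some coordinate equal to `1`. -/
theorem exists_unit_coord {ε : A} (hε : ε = 1 ∨ ε = -1) {h : Matrix ι ι A}
    (hh : Herm lam ε h) (hg : Good lam h) :
    ∃ (i : ι) (x : ι → A), x i = 1 ∧ IsUnit (sq lam h x x) := by
  have := nontrivial lam hB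
  by_contra hcon
  push Not at hcon
  have hJ1 : ∀ (i : ι) (x : ι → A), x i = 1 → sq lam h x x ∈ Ring.jacobson A := fun i x hx =>
    (norm_dichotomy lam hlam hB hε hh x).resolve_right (hcon i x hx)
  -- diagonal entries
  have hdiag : ∀ j, h j j ∈ Ring.jacobson A := by
    intro j
    have := hJ1 j (Pi.single j 1) (by simp)
    rwa [sq_single_single] at this
  -- off-diagonal traces
  have hoff : ∀ j k, j ≠ k → ∀ c : A, c * h j k + ε * lam (c * h j k) ∈ Ring.jacobson A := by
    intro j k hjk c
    have h1 := hJ1 j (Pi.single j 1 + c • Pi.single k 1) (by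
      simp [Pi.single_eq_of_ne hjk])
    rw [sq_polar, sq_smul_left, sq_smul_right, sq_single_single, sq_smul_right,
      sq_single_single, sq_symm hlam hh (Pi.single j 1) (c • Pi.single k 1), sq_smul_right,
      sq_single_single] at h1
    have h2 : h j j + lam c * (c * h k k) ∈ Ring.jacobson A :=
      Ideal.add_mem _ (hdiag j) (Ideal.mul_mem_left _ _ (Ideal.mul_mem_left _ _ (hdiag k)))
    have h3 := Ideal.sub_mem _ h1 h2
    have : h j j + lam c * (c * h k k) + c * h j k + ε * lam (c * h j k) -
        (h j j + lam c * (c * h k k)) = c * h j k + ε * lam (c * h j k) := by ring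
    rwa [this] at h3
  -- the class of vectors all of whose norms and polar values are in the radical
  let Pr : (ι → A) → Prop := fun x =>
    sq lam h x x ∈ Ring.jacobson A ∧ ∀ y, sq lam h x y + sq lam h y x ∈ Ring.jacobson A
  have hPr0 : Pr 0 := by
    refine ⟨?_, fun y => ?_⟩
    · rw [sq_zero_left]; exact Ideal.zero_mem _
    · rw [sq_zero_left, sq_zero_right, add_zero]; exact Ideal.zero_mem _
  have hPradd : ∀ x x', Pr x → Pr x' → Pr (x + x') := by
    rintro x x' ⟨hx1, hx2⟩ ⟨hx'1, hx'2⟩
    refine ⟨?_, fun y => ?_⟩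
    · rw [sq_polar]
      have := Ideal.add_mem _ (Ideal.add_mem _ hx1 hx'1) (hx2 x')
      rwa [← add_assoc] at this
    · rw [sq_add_left, sq_add_right]
      have := Ideal.add_mem _ (hx2 y) (hx'2 y)
      have e : sq lam h x y + sq lam h y x + (sq lam h x' y + sq lam h y x') =
          sq lam h x y + sq lam h x' y + (sq lam h y x + sq lam h y x') := by ring
      rwa [e] at this
  have hPrsingle : ∀ (j : ι) (c : A), Pr (c • Pi.single j 1) := by
    intro j c
    refine ⟨?_, fun y => ?_⟩
    · rw [sq_smul_left, sq_smul_right, sq_single_single]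
      exact Ideal.mul_mem_left _ _ (Ideal.mul_mem_left _ _ (hdiag j))
    · rw [sq_symm hlam hh (c • Pi.single j 1) y, sq_smul_left, sq_single_left]
      have hexp : lam c * (h *ᵥ y) j = ∑ k, (lam c * y k) * h j k := by
        simp only [Matrix.mulVec, dotProduct, Finset.mul_sum]
        exact Finset.sum_congr rfl fun k _ => by ring
      rw [hexp, map_sum, Finset.mul_sum, ← Finset.sum_add_distrib]
      refine Ideal.sum_mem _ fun k _ => ?_
      by_cases hjk : j = k
      · subst hjk
        have e : lam c * y j * h j j + ε * lam (lam c * y j * h j j) =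
            (lam c * y j + lam (lam c * y j)) * h j j := by
          rw [map_mul (lam) (lam c * y j) (h j j)]
          have := hh.apply j j
          calc lam c * y j * h j j + ε * (lam (lam c * y j) * lam (h j j))
              = lam c * y j * h j j + lam (lam c * y j) * (ε * lam (h j j)) := by ring
            _ = (lam c * y j + lam (lam c * y j)) * h j j := by rw [← this]; ring
        rw [e]
        exact Ideal.mul_mem_left _ _ (hdiag j)
      · exact hoff j k hjk (lam c * y k)
  have hall : ∀ x : ι → A, Pr x := by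
    intro x
    rw [pi_eq_sum_univ' x]
    refine Finset.sum_induction _ Pr hPradd hPr0 fun j _ => ?_
    exact hPrsingle j (x j)
  obtain ⟨x, hx⟩ := hg
  exact not_isUnit_of_mem_jacobson (hall x).1 hx

end Groth.Agent.Lib.Seat65.HermB
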