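import Mathlib
import Groth.Agent.Lib.Seat77AzInvD
import Groth.Agent.Lib.Seat65HermB

/-!
# `lam`-involutions of matrix algebras when `2` is invertible: sign normalisation

Same abstract setting as `Seat77AzInvD` (`C` with involution `lamC`, local fixed ring `H`), with `2`
a unit of `H`.  `τ = Inn(U) ∘ σ` with `σ U = ε U`; after rescaling `U` is hermitian or
skew-hermitian; in the hermitian case, and in the skew-hermitian case when some `lamC c - c` is a
unit, `τ` admits diagonal matrix units.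
-/

set_option autoImplicit false

open scoped TensorProduct

namespace Groth.Agent.Lib.Seat77.AzInvI

open Groth.Agent.Lib.Seat25.AzInvC (IsInner)
open Groth.Agent.Lib.Seat77.AzInvD

universe u v

section Abstract

variable {H : Type u} {C : Type v} [CommRing H] [CommRing C] [Algebra H C]
  (lamC : C ≃+* C) (hinv : Function.Involutive lamC) {n : ℕ}

include hinv in
/-- sign normalisation: a central unit `a` with `lamC a * ε = ± a`. -/
theorem exists_unit_sign [IsLocalRing H] (hfix : RInv.IsFixedRing H C lamC) (h2 : IsUnit (2 : H))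
    (ε : C) (hεε : lamC ε * ε = 1) :
    ∃ a a' : C, a * a' = 1 ∧ (lamC a * ε = a ∨ lamC a * ε = -a) := by
  have hε' : ε * lamC ε = 1 := by rw [mul_comm, hεε]
  have hfixp : lamC ((1 + ε) * lamC (1 + ε)) = (1 + ε) * lamC (1 + ε) := by
    rw [map_mul, hinv, mul_comm]
  have hfixm : lamC ((1 - ε) * lamC (1 - ε)) = (1 - ε) * lamC (1 - ε) := by
    rw [map_mul, hinv, mul_comm]
  obtain ⟨hp, hhp⟩ := (hfix.2 _).mp hfixp
  obtain ⟨hm, hhm⟩ := (hfix.2 _).mp hfixm
  have hsum : hp + hm = 4 := by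
    apply hfix.1
    rw [map_add, hhp, hhm, map_sub, map_add, map_one, map_ofNat]
    linear_combination 2 * hε'
  have h4 : IsUnit (hp + hm) := by
    rw [hsum]
    have : (4 : H) = 2 * 2 := by norm_num
    rw [this]
    exact h2.mul h2
  rcases IsLocalRing.isUnit_or_isUnit_of_isUnit_add h4 with hu | hu
  · obtain ⟨w, hw⟩ := hu.exists_right_inv
    refine ⟨1 + ε, lamC (1 + ε) * algebraMap H C w, ?_, Or.inl ?_⟩
    · rw [← mul_assoc, ← hhp, ← map_mul, hw, map_one]
    · rw [map_add, map_one]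
      linear_combination hεε
  · obtain ⟨w, hw⟩ := hu.exists_right_inv
    refine ⟨1 - ε, lamC (1 - ε) * algebraMap H C w, ?_, Or.inr ?_⟩
    · rw [← mul_assoc, ← hhm, ← map_mul, hw, map_one]
    · rw [map_sub, map_one]
      linear_combination -hεε

include hinv in
/-- the second half of `exists_diag_units`: a hermitian unit `U'` with `τ = Inn(U') ∘ σ` gives
diagonal matrix units, under the hypotheses of the diagonalisation theorem S15583. -/
theorem diag_units_of_hermitian [IsLocalRing H] (hfix : RInv.IsFixedRing H C lamC)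
    (τ : AzInv.LamInv C (Matrix (Fin n) (Fin n) C) lamC)
    (U' V' : Matrix (Fin n) (Fin n) C) (hU'V' : U' * V' = 1) (hV'U' : V' * U' = 1)
    (hσU'₀ : sig lamC hinv U' = U') (hτ'₀ : ∀ x, τ x = U' * sig lamC hinv x * V')
    (hcase' : (∃ c : C, lamC c - c ∉ Ring.jacobson C) ∨ (1 : C) + 1 ∉ Ring.jacobson C ∨ Odd n) :
    ∃ (P Q : Matrix (Fin n) (Fin n) C) (d d' : Fin n → H), P * Q = 1 ∧ Q * P = 1 ∧
      (∀ a, d a * d' a = 1) ∧
      ∀ a b, τ (P * Matrix.single a b 1 * Q) =
        algebraMap H C (d b * d' a) • (P * Matrix.single b a 1 * Q) := by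
  classical
  set σ := sig lamC hinv with hσ
  have hσU' : σ U' = U' := hσU'₀
  have hτ' : ∀ x, τ x = U' * σ x * V' := hτ'₀
  obtain ⟨v, hv, d, hd⟩ := Groth.Agent.S15583.result H C lamC hinv hfix n 1 (Or.inl rfl) U'
    ⟨⟨U', V', hU'V', hV'U'⟩, rfl⟩ (by rw [one_smul]; exact hσU') hcase'
  change σ v * U' * v = Matrix.diagonal d at hd
  obtain ⟨vu, rfl⟩ := hv
  obtain ⟨w, hw⟩ : ∃ w : Matrix (Fin n) (Fin n) C, w = ↑vu⁻¹ := ⟨_, rfl⟩
  obtain ⟨v, hv⟩ : ∃ v : Matrix (Fin n) (Fin n) C, v = ↑vu := ⟨_, rfl⟩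
  rw [← hv] at hd
  have hvw : v * w = 1 := by rw [hv, hw]; exact vu.mul_inv
  have hwv : w * v = 1 := by rw [hv, hw]; exact vu.inv_mul
  -- P = σ w, Q = σ v
  have hPQ : σ w * σ v = 1 := by rw [← σ.map_mul, hvw, σ.map_one]
  have hQP : σ v * σ w = 1 := by rw [← σ.map_mul, hwv, σ.map_one]
  obtain ⟨D', hD'⟩ : ∃ D', D' = w * V' * σ w := ⟨_, rfl⟩
  have hDD' : Matrix.diagonal d * D' = 1 := by
    rw [← hd, hD']
    calc σ v * U' * v * (w * V' * σ w) = σ v * (U' * ((v * w) * V')) * σ w := by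
          simp only [mul_assoc]
      _ = 1 := by rw [hvw, one_mul, hU'V', mul_one, hQP]
  have hD'D : D' * Matrix.diagonal d = 1 := by
    rw [← hd, hD']
    calc w * V' * σ w * (σ v * U' * v) = w * (V' * ((σ w * σ v) * U')) * v := by
          simp only [mul_assoc]
      _ = 1 := by rw [hPQ, one_mul, hV'U', mul_one, hwv]
  obtain ⟨dinv, hdinv⟩ : ∃ dinv : Fin n → C, dinv = fun a => D' a a := ⟨_, rfl⟩
  have hdd : ∀ i, d i * dinv i = 1 := by
    intro i
    have := congrFun (congrFun hDD' i) i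
    rw [Matrix.diagonal_mul, Matrix.one_apply_eq] at this
    rw [hdinv]; exact this
  have hD'eq : D' = Matrix.diagonal dinv := by
    have h1 : Matrix.diagonal d * Matrix.diagonal dinv = 1 := by
      rw [Matrix.diagonal_mul_diagonal]
      simp only [hdd]
      exact Matrix.diagonal_one
    calc D' = D' * (Matrix.diagonal d * Matrix.diagonal dinv) := by rw [h1, mul_one]
      _ = Matrix.diagonal dinv := by rw [← mul_assoc, hD'D, one_mul]
  -- fixedness
  have hσD : σ (Matrix.diagonal d) = Matrix.diagonal d := by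
    rw [← hd, σ.map_mul, σ.map_mul, σ.invol, hσU', mul_assoc]
  have hfixd : ∀ i, lamC (d i) = d i := by
    intro i
    have := congrFun (congrFun hσD i) i
    rwa [hσ, sig_diagonal_apply, Matrix.diagonal_apply_eq] at this
  have hfixdinv : ∀ i, lamC (dinv i) = dinv i := by
    intro i
    have h1 : d i * lamC (dinv i) = 1 := by
      rw [← hfixd i, ← map_mul, hdd, map_one]
    calc lamC (dinv i) = (dinv i * d i) * lamC (dinv i) := by
          rw [mul_comm (dinv i), hdd, one_mul]
      _ = dinv i := by rw [mul_assoc, h1, mul_one]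
  choose h hh using fun i => (hfix.2 (d i)).mp (hfixd i)
  choose h' hh' using fun i => (hfix.2 (dinv i)).mp (hfixdinv i)
  have hUv : U' * v = σ w * Matrix.diagonal d := by
    rw [← hd, ← mul_assoc, ← mul_assoc, hPQ, one_mul]
  have hwV : w * V' = Matrix.diagonal dinv * σ v := by
    rw [← hD'eq, hD', mul_assoc, hPQ, mul_one]
  refine ⟨σ w, σ v, h, h', hPQ, hQP, fun i => ?_, fun i j => ?_⟩
  · apply hfix.1
    rw [map_mul, hh, hh', hdd, map_one]
  · rw [hτ', σ.map_mul, σ.map_mul, σ.invol, hσ, sig_single, ← hσ, map_mul, hh, hh']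
    calc U' * (v * (Matrix.single j i 1 * σ (σ w))) * V'
        = (U' * v) * Matrix.single j i 1 * (w * V') := by
          rw [σ.invol]; simp only [mul_assoc]
      _ = σ w * (Matrix.diagonal d * Matrix.single j i 1 * Matrix.diagonal dinv) * σ v := by
          rw [hUv, hwV]; simp only [mul_assoc]
      _ = (d j * dinv i) • (σ w * Matrix.single j i 1 * σ v) := by
          rw [diagonal_mul_single_mul_diagonal, mul_smul_comm, smul_mul_assoc]

include hinv in
/-- with `2` invertible: `τ` has diagonal matrix units, or `lamC` is the identity modulo the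
Jacobson radical and `τ = Inn(U) ∘ σ` with `U` skew-hermitian. -/
theorem exists_diag_units_or_skew [IsLocalRing H] (hfix : RInv.IsFixedRing H C lamC)
    (h2 : IsUnit (2 : H)) (hn : 0 < n)
    (hinner : ∀ Ψ : Matrix (Fin n) (Fin n) C ≃ₐ[C] Matrix (Fin n) (Fin n) C, IsInner Ψ)
    (τ : AzInv.LamInv C (Matrix (Fin n) (Fin n) C) lamC) :
    (∃ (P Q : Matrix (Fin n) (Fin n) C) (d d' : Fin n → H), P * Q = 1 ∧ Q * P = 1 ∧
      (∀ a, d a * d' a = 1) ∧
      ∀ a b, τ (P * Matrix.single a b 1 * Q) =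
        algebraMap H C (d b * d' a) • (P * Matrix.single b a 1 * Q)) ∨
    ((∀ c : C, lamC c - c ∈ Ring.jacobson C) ∧
      ∃ U V : Matrix (Fin n) (Fin n) C, U * V = 1 ∧ V * U = 1 ∧ sig lamC hinv U = -U ∧
        ∀ x, τ x = U * sig lamC hinv x * V) := by
  classical
  obtain ⟨U, V, ε, hUV, hVU, hεε, hσU, hτ⟩ := exists_conj lamC hinv hn hinner τ
  obtain ⟨a, a', haa', ha⟩ := exists_unit_sign lamC hinv hfix h2 ε hεε
  set σ := sig lamC hinv with hσ
  obtain ⟨U', hU'⟩ : ∃ U', U' = a • U := ⟨_, rfl⟩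
  obtain ⟨V', hV'⟩ : ∃ V', V' = a' • V := ⟨_, rfl⟩
  have hU'V' : U' * V' = 1 := by
    rw [hU', hV', smul_mul_smul_comm, haa', hUV, one_smul]
  have hV'U' : V' * U' = 1 := by
    rw [hU', hV', smul_mul_smul_comm, mul_comm a' a, haa', hVU, one_smul]
  have hτ' : ∀ x, τ x = U' * σ x * V' := by
    intro x
    rw [hτ x, hU', hV', smul_mul_assoc, mul_smul_comm, smul_mul_assoc, smul_smul, mul_comm a' a,
      haa', one_smul]
  have hnt : Nontrivial C := hfix.1.nontrivial
  have h2C : IsUnit ((1 : C) + 1) := by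
    have : (1 : C) + 1 = algebraMap H C 2 := by rw [map_ofNat]; norm_num
    rw [this]
    exact h2.map _
  have h2J : (1 : C) + 1 ∉ Ring.jacobson C := fun hmem =>
    (Ring.jacobson_lt_top C).ne (Ideal.eq_top_of_isUnit_mem _ hmem h2C)
  rcases ha with ha | ha
  · -- hermitian
    left
    have hσU' : σ U' = U' := by rw [hU', σ.map_smul, hσU, smul_smul, ha]
    exact diag_units_of_hermitian lamC hinv hfix τ U' V' hU'V' hV'U' hσU' hτ'
      (Or.inr (Or.inl h2J))
  · -- skew-hermitian
    have hσU' : σ U' = -U' := by rw [hU', σ.map_smul, hσU, smul_smul, ha, neg_smul]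
    by_cases hram : ∀ c : C, lamC c - c ∈ Ring.jacobson C
    · exact Or.inr ⟨hram, U', V', hU'V', hV'U', hσU', hτ'⟩
    · left
      push Not at hram
      obtain ⟨c, hc⟩ := hram
      obtain ⟨c₀, hc₀⟩ : ∃ c₀, c₀ = lamC c - c := ⟨_, rfl⟩
      have hlc₀ : lamC c₀ = -c₀ := by rw [hc₀, map_sub, hinv c]; ring
      have hu : IsUnit c₀ := by
        rcases Groth.Agent.Lib.Seat65.HermB.dichotomy lamC hinv hfix c₀ (Or.inr hlc₀) with h | h
        · exact absurd (hc₀ ▸ h) hc
        · exact h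
      obtain ⟨c₁, hc₁⟩ := hu.exists_right_inv
      have hσU'' : σ (c₀ • U') = c₀ • U' := by
        rw [σ.map_smul, hσU', hlc₀, neg_smul, smul_neg, neg_neg]
      refine diag_units_of_hermitian lamC hinv hfix τ (c₀ • U') (c₁ • V') ?_ ?_ hσU'' ?_
        (Or.inr (Or.inl h2J))
      · rw [smul_mul_smul_comm, hc₁, hU'V', one_smul]
      · rw [smul_mul_smul_comm, mul_comm c₁ c₀, hc₁, hV'U', one_smul]
      · intro x
        rw [hτ' x, smul_mul_assoc, mul_smul_comm, smul_mul_assoc, smul_smul, mul_comm c₁ c₀, hc₁,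
          one_smul]

end Abstract

end Groth.Agent.Lib.Seat77.AzInvI
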