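import Mathlib
import Groth.Agent.Lib.Seat77AzInvI
import Groth.Agent.S15584
import Groth.Agent.Lib.Seat65HermC

/-!
# Skew-hermitian forms in the ramified case: exact hyperbolic normal form

`C` with involution `lam`, local fixed ring `H` in which `2` is a unit and principal units are
squares, `lam ≡ id` modulo the Jacobson radical.  An invertible skew-hermitian matrix is congruent
to the standard alternating matrix.
-/

set_option autoImplicit false

namespace Groth.Agent.Lib.Seat77.AzInvJ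

open Matrix Groth.Agent.Lib.Seat65.HermA Groth.Agent.Lib.Helper15.QuadEtale

universe u v

section Plane

variable {H : Type u} {C : Type v} [CommRing H] [CommRing C] [Algebra H C]
  (lam : C ≃+* C) (hlam : Function.Involutive lam) (hfix : RInv.IsFixedRing H C lam)
  [IsLocalRing H] (hid : ∀ c : C, lam c - c ∈ Ring.jacobson C) (h2 : IsUnit (2 : H))
  (hsqrt : ∀ z ∈ IsLocalRing.maximalIdeal H, ∃ w : H, w * w = 1 + z ∧
    w - 1 ∈ IsLocalRing.maximalIdeal H)
  {ι : Type*} [Fintype ι] [DecidableEq ι]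

include hlam in
theorem skew_self {M : Matrix ι ι C} (hM : Herm lam (-1) M) (x : ι → C) :
    lam (sq lam M x x) = -sq lam M x x := by
  have := sq_symm hlam hM x x
  linear_combination this

include hlam in
theorem skew_swap {M : Matrix ι ι C} (hM : Herm lam (-1) M) (x y : ι → C) :
    sq lam M y x = -lam (sq lam M x y) := by
  have := sq_symm hlam hM x y
  linear_combination this

omit [IsLocalRing H] in
include hid h2 in
theorem mem_jac_of_skew {c : C} (hc : lam c = -c) : c ∈ Ring.jacobson C := by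
  have h3 : lam c - c ∈ Ring.jacobson C := hid _
  have h4 : lam c - c = -(2 * c) := by rw [hc]; ring
  rw [h4] at h3
  have h5 : 2 * c ∈ Ring.jacobson C := (Ideal.neg_mem_iff _).mp h3
  obtain ⟨t, ht⟩ := h2.exists_left_inv
  have h6 := Ideal.mul_mem_left _ (algebraMap H C t) h5
  rwa [← mul_assoc, ← map_ofNat (algebraMap H C) 2, ← map_mul, ht, map_one, one_mul] at h6

theorem isUnit_of_sub_one_mem {c : C} (hc : c - 1 ∈ Ring.jacobson C) : IsUnit c := by
  rw [← Ideal.jacobson_bot] at hc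
  exact Ideal.isUnit_of_sub_one_mem_jacobson_bot c hc

include hlam hfix hid h2 hsqrt in
/-- a skew-hermitian plane whose off-diagonal entry is a principal unit is hyperbolic. -/
theorem plane (M : Matrix (Fin 2) (Fin 2) C) (hM : Herm lam (-1) M)
    (h01 : M 0 1 - 1 ∈ Ring.jacobson C) :
    ∃ x y : Fin 2 → C, sq lam M x x = 0 ∧ sq lam M x y = 1 ∧ sq lam M y y = 0 := by
  classical
  have hnt : Nontrivial C := hfix.1.nontrivial
  obtain ⟨e0, he0⟩ : ∃ e0 : Fin 2 → C, e0 = Pi.single 0 1 := ⟨_, rfl⟩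
  obtain ⟨e1, he1⟩ : ∃ e1 : Fin 2 → C, e1 = Pi.single 1 1 := ⟨_, rfl⟩
  have hfixH : ∀ z : H, lam (algebraMap H C z) = algebraMap H C z :=
    fun z => (hfix.2 _).mpr ⟨z, rfl⟩
  -- step 1
  have hu01 : sq lam M e0 e1 = M 0 1 := by rw [he0, he1, sq_single_single]
  obtain ⟨uinv, huinv⟩ := (isUnit_of_sub_one_mem h01).exists_right_inv
  obtain ⟨y₁, hy₁⟩ : ∃ y₁ : Fin 2 → C, y₁ = uinv • e1 := ⟨_, rfl⟩
  have h_e0y₁ : sq lam M e0 y₁ = 1 := by
    rw [hy₁, sq_smul_right, hu01, mul_comm, huinv]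
  have h_y₁e0 : sq lam M y₁ e0 = -1 := by
    rw [skew_swap lam hlam hM e0 y₁, h_e0y₁, map_one]
  obtain ⟨a, ha⟩ : ∃ a, a = sq lam M e0 e0 := ⟨_, rfl⟩
  obtain ⟨b₁, hb₁⟩ : ∃ b₁, b₁ = sq lam M y₁ y₁ := ⟨_, rfl⟩
  have hla : lam a = -a := by rw [ha]; exact skew_self lam hlam hM e0
  have hlb₁ : lam b₁ = -b₁ := by rw [hb₁]; exact skew_self lam hlam hM y₁
  have hb₁J : b₁ ∈ Ring.jacobson C := mem_jac_of_skew lam hid h2 hlb₁
  -- step 2
  have hzfix : lam (a * b₁) = a * b₁ := by rw [map_mul, hla, hlb₁]; ring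
  obtain ⟨z₀, hz₀⟩ := (hfix.2 _).mp hzfix
  have hz₀m : z₀ ∈ IsLocalRing.maximalIdeal H := by
    rw [IsLocalRing.mem_maximalIdeal, mem_nonunits_iff]
    intro hu
    have h1 : IsUnit (a * b₁) := hz₀ ▸ hu.map (algebraMap H C)
    exact not_isUnit_of_mem_jacobson (Ideal.mul_mem_left _ a hb₁J) h1
  obtain ⟨w₀, hw₀, hw₀m⟩ := hsqrt z₀ hz₀m
  have hu1w : IsUnit (1 + w₀) := by
    by_contra hcon
    have h1 : 1 + w₀ ∈ IsLocalRing.maximalIdeal H := by
      rwa [IsLocalRing.mem_maximalIdeal, mem_nonunits_iff]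
    have h3 : (2 : H) ∈ IsLocalRing.maximalIdeal H := by
      have : (2 : H) = (1 + w₀) - (w₀ - 1) := by ring
      rw [this]
      exact Ideal.sub_mem _ h1 hw₀m
    rw [IsLocalRing.mem_maximalIdeal, mem_nonunits_iff] at h3
    exact h3 h2
  obtain ⟨q₀, hq₀⟩ := hu1w.exists_right_inv
  obtain ⟨w, hwdef⟩ : ∃ w, w = algebraMap H C w₀ := ⟨_, rfl⟩
  obtain ⟨q, hqdef⟩ : ∃ q, q = algebraMap H C q₀ := ⟨_, rfl⟩
  have hw : w * w = 1 + a * b₁ := by
    rw [hwdef, ← map_mul, hw₀, map_add, map_one, hz₀]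
  have hq : (1 + w) * q = 1 := by
    rw [hwdef, hqdef, ← map_one (algebraMap H C), ← map_add, ← map_mul, hq₀]
  have hlq : lam q = q := by rw [hqdef]; exact hfixH q₀
  obtain ⟨s, hs⟩ : ∃ s, s = -a * q := ⟨_, rfl⟩
  have hls : lam s = -s := by rw [hs, map_mul, map_neg, hla, hlq]; ring
  obtain ⟨x', hx'⟩ : ∃ x' : Fin 2 → C, x' = e0 + s • y₁ := ⟨_, rfl⟩
  have hx'x' : sq lam M x' x' = 0 := by
    rw [hx', sq_add_left, sq_add_right, sq_add_right, sq_smul_left, sq_smul_left, sq_smul_right,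
      sq_smul_right, ← ha, ← hb₁, h_e0y₁, h_y₁e0, hls, hs]
    linear_combination (-a * (1 + q * (w - 1))) * hq + (a * q ^ 2) * hw
  -- step 3
  have hx'y₁ : sq lam M x' y₁ = 1 + lam s * b₁ := by
    rw [hx', sq_add_left, sq_smul_left, h_e0y₁, ← hb₁]
  have hu' : IsUnit (1 + lam s * b₁) := by
    apply isUnit_of_sub_one_mem
    rw [add_sub_cancel_left]
    exact Ideal.mul_mem_left _ _ hb₁J
  obtain ⟨uinv', huinv'⟩ := hu'.exists_right_inv
  obtain ⟨y₂, hy₂⟩ : ∃ y₂ : Fin 2 → C, y₂ = uinv' • y₁ := ⟨_, rfl⟩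
  have hx'y₂ : sq lam M x' y₂ = 1 := by
    rw [hy₂, sq_smul_right, hx'y₁, mul_comm, huinv']
  have hy₂x' : sq lam M y₂ x' = -1 := by
    rw [skew_swap lam hlam hM x' y₂, hx'y₂, map_one]
  obtain ⟨b₂, hb₂⟩ : ∃ b₂, b₂ = sq lam M y₂ y₂ := ⟨_, rfl⟩
  have hlb₂ : lam b₂ = -b₂ := by rw [hb₂]; exact skew_self lam hlam hM y₂
  -- step 4
  obtain ⟨t₀, ht₀⟩ := h2.exists_right_inv
  obtain ⟨hf, hhf⟩ : ∃ hf, hf = algebraMap H C t₀ := ⟨_, rfl⟩
  have h2hf : 2 * hf = 1 := by
    rw [hhf, ← map_ofNat (algebraMap H C) 2, ← map_mul, ht₀, map_one]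
  have hlhf : lam hf = hf := by rw [hhf]; exact hfixH t₀
  obtain ⟨r, hr⟩ : ∃ r, r = b₂ * hf := ⟨_, rfl⟩
  have hlr : lam r = -r := by rw [hr, map_mul, hlb₂, hlhf]; ring
  refine ⟨x', y₂ + r • x', hx'x', ?_, ?_⟩
  · rw [sq_add_right, sq_smul_right, hx'x', hx'y₂, mul_zero, add_zero]
  · rw [sq_add_left, sq_add_right, sq_add_right, sq_smul_left, sq_smul_left, sq_smul_right,
      sq_smul_right, ← hb₂, hx'x', hx'y₂, hy₂x', hlr, hr]
    linear_combination (-b₂) * h2hf

end Plane

section Normal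

variable {H : Type u} {C : Type v} [CommRing H] [CommRing C] [Algebra H C]
  (lam : C ≃+* C) (hlam : Function.Involutive lam) (hfix : RInv.IsFixedRing H C lam)
  [IsLocalRing H] (hid : ∀ c : C, lam c - c ∈ Ring.jacobson C) (h2 : IsUnit (2 : H))
  (hsqrt : ∀ z ∈ IsLocalRing.maximalIdeal H, ∃ w : H, w * w = 1 + z ∧
    w - 1 ∈ IsLocalRing.maximalIdeal H)

/-- the index equivalence `(j, k) ↦ j + 2 k`. -/
def eqv (m : ℕ) : Fin 2 × Fin m ≃ Fin (m * 2) :=
  (Equiv.prodComm (Fin 2) (Fin m)).trans finProdFinEquiv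

theorem eqv_val (m : ℕ) (j : Fin 2) (k : Fin m) :
    ((eqv m (j, k) : Fin (m * 2)) : ℕ) = j.val + 2 * k.val := by
  simp [eqv, finProdFinEquiv]

variable (C) in
/-- the standard alternating `2 × 2` block. -/
def J2 : Matrix (Fin 2) (Fin 2) C := !![0, 1; -1, 0]

variable (C) in
/-- the standard alternating matrix of size `2 m`, with blocks on the index pairs `{2k, 2k+1}`. -/
def Jstd (m : ℕ) : Matrix (Fin (m * 2)) (Fin (m * 2)) C :=
  (blockDiagonal (fun _ : Fin m => J2 C)).submatrix (eqv m).symm (eqv m).symm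

theorem st_blockDiagonal {m : ℕ} (G : Fin m → Matrix (Fin 2) (Fin 2) C) :
    st lam (blockDiagonal G) = blockDiagonal (fun k => st lam (G k)) := by
  unfold st
  rw [blockDiagonal_map _ _ (map_zero lam), blockDiagonal_transpose]

theorem st_submatrix {ι κ : Type*} (e : κ → ι) (N : Matrix ι ι C) :
    st lam (N.submatrix e e) = (st lam N).submatrix e e := by
  unfold st
  rw [← submatrix_map, transpose_submatrix]

include hlam hfix hid h2 hsqrt in
/-- an invertible skew-hermitian matrix is congruent to the standard alternating matrix. -/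
theorem exists_congr_Jstd (m : ℕ) (U : Matrix (Fin (m * 2)) (Fin (m * 2)) C) (hU : IsUnit U)
    (hskew : Herm lam (-1) U) : ∃ g : Matrix (Fin (m * 2)) (Fin (m * 2)) C,
      st lam g * U * g = Jstd C m := by
  classical
  have hnt : Nontrivial C := hfix.1.nontrivial
  have h2C : IsUnit (2 : C) := by
    rw [← map_ofNat (algebraMap H C) 2]
    exact h2.map _
  have herm : -(U.map lam).transpose = U := by
    have := hskew
    unfold Herm at this
    rwa [neg_one_smul] at this
  obtain ⟨-, v, -, hpat⟩ :=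
    Groth.Agent.S15584.result H C lam hlam hfix (m * 2) hid h2C U hU herm
  obtain ⟨M, hMdef⟩ : ∃ M, M = st lam v * U * v := ⟨_, rfl⟩
  have hpat' : ∀ i j : Fin (m * 2),
      (i.val / 2 ≠ j.val / 2 → M i j = 0) ∧
      (i.val / 2 = j.val / 2 → Even i.val → ¬ Even j.val → M i j - 1 ∈ Ring.jacobson C) := by
    intro i j
    rw [hMdef]
    exact ⟨(hpat i j).1, (hpat i j).2.2.1⟩
  have hMskew : Herm lam (-1) M := hMdef ▸ hskew.congr hlam v
  -- the blocks
  obtain ⟨Mk, hMk⟩ : ∃ Mk : Fin m → Matrix (Fin 2) (Fin 2) C,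
      ∀ k j j', Mk k j j' = M (eqv m (j, k)) (eqv m (j', k)) := ⟨_, fun _ _ _ => rfl⟩
  have hblock : M.submatrix (eqv m) (eqv m) = blockDiagonal Mk := by
    ext ⟨j, k⟩ ⟨j', k'⟩
    rw [submatrix_apply, blockDiagonal_apply]
    by_cases hk : k = k'
    · subst hk
      rw [if_pos rfl, hMk]
    · rw [if_neg hk]
      apply (hpat' _ _).1
      rw [eqv_val, eqv_val]
      intro hcon
      apply hk
      apply Fin.ext
      have hj := j.isLt
      have hj' := j'.isLt
      omega
  have hMkskew : ∀ k, Herm lam (-1) (Mk k) := by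
    intro k
    unfold Herm
    ext j j'
    have := hMskew.apply (eqv m (j, k)) (eqv m (j', k))
    rw [Matrix.smul_apply, transpose_apply, map_apply, smul_eq_mul, hMk, hMk]
    exact this.symm
  have hMk01 : ∀ k, Mk k 0 1 - 1 ∈ Ring.jacobson C := by
    intro k
    rw [hMk]
    apply (hpat' _ _).2
    · rw [eqv_val, eqv_val]
      simp
      omega
    · rw [eqv_val]
      simp
    · rw [eqv_val]
      simp
  choose x y hxx hxy hyy using fun k =>
    plane lam hlam hfix hid h2 hsqrt (Mk k) (hMkskew k) (hMk01 k)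
  obtain ⟨G, hG⟩ : ∃ G : Fin m → Matrix (Fin 2) (Fin 2) C,
      ∀ k i j, G k i j = if j = 0 then x k i else y k i := ⟨_, fun _ _ _ => rfl⟩
  have hcol0 : ∀ k, G k *ᵥ Pi.single 0 1 = x k := by
    intro k
    funext i
    rw [mulVec_single_one]
    change G k i 0 = _
    rw [hG, if_pos rfl]
  have hcol1 : ∀ k, G k *ᵥ Pi.single 1 1 = y k := by
    intro k
    funext i
    rw [mulVec_single_one]
    change G k i 1 = _
    rw [hG, if_neg (by decide)]
  have hGk : ∀ k, st lam (G k) * Mk k * G k = J2 C := by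
    intro k
    ext i j
    rw [Groth.Agent.Lib.Seat65.HermC.congr_apply]
    fin_cases i <;> fin_cases j
    · simp only [Fin.zero_eta, hcol0, hxx, J2]
      rfl
    · simp only [Fin.zero_eta, Fin.mk_one, hcol0, hcol1, hxy, J2]
      rfl
    · simp only [Fin.zero_eta, Fin.mk_one, hcol0, hcol1, J2]
      rw [skew_swap lam hlam (hMkskew k), hxy, map_one]
      rfl
    · simp only [Fin.mk_one, hcol1, hyy, J2]
      rfl
  -- assemble
  obtain ⟨g', hg'⟩ : ∃ g' : Matrix (Fin 2 × Fin m) (Fin 2 × Fin m) C, g' = blockDiagonal G :=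
    ⟨_, rfl⟩
  have hkey : st lam g' * M.submatrix (eqv m) (eqv m) * g' = blockDiagonal (fun _ => J2 C) := by
    rw [hblock, hg', st_blockDiagonal, ← blockDiagonal_mul, ← blockDiagonal_mul]
    congr 1
    funext k
    exact hGk k
  refine ⟨v * g'.submatrix (eqv m).symm (eqv m).symm, ?_⟩
  have hM' : M = (M.submatrix (eqv m) (eqv m)).submatrix (eqv m).symm (eqv m).symm := by
    ext i j
    simp
  calc st lam (v * g'.submatrix (eqv m).symm (eqv m).symm) * U *
        (v * g'.submatrix (eqv m).symm (eqv m).symm)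
      = st lam (g'.submatrix (eqv m).symm (eqv m).symm) * M *
          g'.submatrix (eqv m).symm (eqv m).symm := by
        rw [st_mul, hMdef]
        simp only [Matrix.mul_assoc]
    _ = Jstd C m := by
        rw [hM', st_submatrix, submatrix_mul_equiv, submatrix_mul_equiv, hkey]
        rfl

end Normal

section Pattern

variable {C : Type v} [CommRing C]

/-- swap inside the index pairs `{2k, 2k+1}`. -/
def swp (m : ℕ) (i : Fin (m * 2)) : Fin (m * 2) :=
  eqv m (((eqv m).symm i).1.rev, ((eqv m).symm i).2)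

/-- the sign attached to an index: `+1` on odd indices, `-1` on even ones. -/
def sgn (m : ℕ) (i : Fin (m * 2)) : ℤ := if ((eqv m).symm i).1 = 1 then 1 else -1

theorem swp_swp (m : ℕ) (i : Fin (m * 2)) : swp m (swp m i) = i := by
  unfold swp
  simp [Fin.rev_rev]

theorem sgn_swp (m : ℕ) (i : Fin (m * 2)) : sgn m (swp m i) = -sgn m i := by
  unfold sgn swp
  simp only [Equiv.symm_apply_apply]
  generalize ((eqv m).symm i).1 = j
  fin_cases j <;> simp

theorem sgn_mul_self (m : ℕ) (i : Fin (m * 2)) : sgn m i * sgn m i = 1 := by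
  unfold sgn
  split_ifs <;> simp

theorem Jstd_apply (m : ℕ) (i i' : Fin (m * 2)) :
    Jstd C m i i' = if i = swp m i' then ((sgn m i' : ℤ) : C) else 0 := by
  unfold Jstd swp sgn
  rw [submatrix_apply, blockDiagonal_apply]
  obtain ⟨⟨j, k⟩, rfl⟩ := (eqv m).surjective i
  obtain ⟨⟨j', k'⟩, rfl⟩ := (eqv m).surjective i'
  simp only [Equiv.symm_apply_apply, EmbeddingLike.apply_eq_iff_eq, Prod.mk.injEq]
  by_cases hk : k = k'
  · subst hk
    simp only [if_true, and_true]
    fin_cases j <;> fin_cases j' <;> simp [J2, Fin.rev]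
  · rw [if_neg hk, if_neg (fun h => hk h.2)]

theorem mul_single_mul_apply {ι : Type*} [Fintype ι] [DecidableEq ι] (A B : Matrix ι ι C)
    (a b i j : ι) :
    (A * Matrix.single b a (1 : C) * B : Matrix ι ι C) i j = A i b * B a j := by
  rw [Matrix.mul_assoc, Matrix.mul_apply, Finset.sum_eq_single b]
  · rw [Matrix.single_mul_apply_same, one_mul]
  · intro c _ hc
    rw [Matrix.single_mul_apply_of_ne _ _ _ _ _ hc, mul_zero]
  · intro h; exact absurd (Finset.mem_univ b) h

theorem Jstd_mul_Jstd (m : ℕ) : Jstd C m * Jstd C m = -1 := by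
  ext i i'
  rw [Matrix.mul_apply, Finset.sum_eq_single (swp m i')]
  · rw [Jstd_apply, Jstd_apply, if_pos rfl, Matrix.neg_apply]
    by_cases h : i = i'
    · subst h
      rw [if_pos (swp_swp m i).symm, sgn_swp, Matrix.one_apply_eq, ← Int.cast_mul, neg_mul,
        sgn_mul_self]
      simp
    · rw [if_neg (fun hh => h (by rw [hh, swp_swp])), zero_mul, Matrix.one_apply_ne h, neg_zero]
  · intro c _ hc
    rw [Jstd_apply m c, if_neg hc, mul_zero]
  · intro h; exact absurd (Finset.mem_univ _) h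

theorem Jstd_single_Jstd (m : ℕ) (a b : Fin (m * 2)) :
    Jstd C m * Matrix.single b a (1 : C) * (-Jstd C m) =
      ((sgn m a * sgn m b : ℤ) : C) • Matrix.single (swp m b) (swp m a) (1 : C) := by
  ext i i'
  rw [mul_single_mul_apply, Matrix.neg_apply, Jstd_apply, Jstd_apply, Matrix.smul_apply,
    Matrix.single_apply, smul_eq_mul]
  by_cases h1 : i = swp m b
  · by_cases h2 : a = swp m i'
    · have h3 : swp m a = i' := by rw [h2, swp_swp]
      rw [if_pos h1, if_pos h2, if_pos ⟨h1.symm, h3⟩, mul_one, ← h3, sgn_swp]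
      push_cast
      ring
    · have h3 : ¬ (swp m b = i ∧ swp m a = i') := fun hh => h2 (by rw [← hh.2, swp_swp])
      rw [if_neg h2, if_neg h3, neg_zero, mul_zero, mul_zero]
  · have h3 : ¬ (swp m b = i ∧ swp m a = i') := fun hh => h1 hh.1.symm
    rw [if_neg h1, if_neg h3, zero_mul, mul_zero]

end Pattern

section Symp

open Groth.Agent.Lib.Seat77.AzInvD

variable {H : Type u} {C : Type v} [CommRing H] [CommRing C] [Algebra H C]
  (lam : C ≃+* C) (hlam : Function.Involutive lam) (hfix : RInv.IsFixedRing H C lam)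
  [IsLocalRing H] (hid : ∀ c : C, lam c - c ∈ Ring.jacobson C) (h2 : IsUnit (2 : H))
  (hsqrt : ∀ z ∈ IsLocalRing.maximalIdeal H, ∃ w : H, w * w = 1 + z ∧
    w - 1 ∈ IsLocalRing.maximalIdeal H)

include hlam hfix hid h2 hsqrt in
/-- a `lam`-involution `τ = Inn(U) ∘ σ` of `M_{2m}(C)` with `U` skew-hermitian, in the ramified
case, has matrix units with the standard symplectic pattern. -/
theorem exists_symp_units (m : ℕ)
    (τ : AzInv.LamInv C (Matrix (Fin (m * 2)) (Fin (m * 2)) C) lam)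
    (U V : Matrix (Fin (m * 2)) (Fin (m * 2)) C) (hUV : U * V = 1) (hVU : V * U = 1)
    (hσU : sig lam hlam U = -U) (hτ : ∀ x, τ x = U * sig lam hlam x * V) :
    ∃ P Q : Matrix (Fin (m * 2)) (Fin (m * 2)) C, P * Q = 1 ∧ Q * P = 1 ∧
      ∀ a b, τ (P * Matrix.single a b 1 * Q) =
        (sgn m a * sgn m b) • (P * Matrix.single (swp m b) (swp m a) 1 * Q) := by
  classical
  set σ := sig lam hlam with hσ
  have hskew : Herm lam (-1) U := by
    unfold Herm
    rw [neg_one_smul]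
    have : (U.map lam).transpose = σ U := rfl
    rw [this, hσU, neg_neg]
  obtain ⟨g, hg⟩ := exists_congr_Jstd lam hlam hfix hid h2 hsqrt m U ⟨⟨U, V, hUV, hVU⟩, rfl⟩ hskew
  have hg' : σ g * U * g = Jstd C m := hg
  obtain ⟨J, hJ⟩ : ∃ J, J = Jstd C m := ⟨_, rfl⟩
  rw [← hJ] at hg'
  have hJJ : J * (-J) = 1 := by rw [hJ, mul_neg, Jstd_mul_Jstd, neg_neg]
  have hJJ' : (-J) * J = 1 := by rw [hJ, neg_mul, Jstd_mul_Jstd, neg_neg]
  -- inverse of g
  obtain ⟨w, hw⟩ : ∃ w, w = -J * σ g * U := ⟨_, rfl⟩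
  have hwg : w * g = 1 := by
    rw [hw, Matrix.mul_assoc, Matrix.mul_assoc, ← Matrix.mul_assoc (σ g), hg', hJJ']
  have hgw : g * w = 1 := mul_eq_one_comm.mp hwg
  have hPQ : σ w * σ g = 1 := by rw [← σ.map_mul, hgw, σ.map_one]
  have hQP : σ g * σ w = 1 := by rw [← σ.map_mul, hwg, σ.map_one]
  have hUg : U * g = σ w * J := by
    rw [← hg', ← Matrix.mul_assoc, ← Matrix.mul_assoc, hPQ, Matrix.one_mul]
  have hwV : w * V = -J * σ g := by
    have h1 : J * (w * V * σ w) = 1 := by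
      rw [← hg']
      calc σ g * U * g * (w * V * σ w) = σ g * (U * ((g * w) * V)) * σ w := by
            simp only [Matrix.mul_assoc]
        _ = 1 := by rw [hgw, Matrix.one_mul, hUV, Matrix.mul_one, hQP]
    have h3 : w * V * σ w = -J := by
      calc w * V * σ w = (-J * J) * (w * V * σ w) := by rw [hJJ', Matrix.one_mul]
        _ = -J := by rw [Matrix.mul_assoc, h1, Matrix.mul_one]
    calc w * V = w * V * (σ w * σ g) := by rw [hPQ, Matrix.mul_one]
      _ = -J * σ g := by rw [← Matrix.mul_assoc, h3]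
  refine ⟨σ w, σ g, hPQ, hQP, fun a b => ?_⟩
  rw [hτ, σ.map_mul, σ.map_mul, σ.invol, σ.invol, hσ, sig_single, ← hσ]
  calc U * (g * (Matrix.single b a 1 * w)) * V
      = (U * g) * Matrix.single b a 1 * (w * V) := by simp only [Matrix.mul_assoc]
    _ = σ w * (J * Matrix.single b a 1 * (-J)) * σ g := by
        rw [hUg, hwV]; simp only [Matrix.mul_assoc]
    _ = (sgn m a * sgn m b) • (σ w * Matrix.single (swp m b) (swp m a) 1 * σ g) := by
        rw [hJ, Jstd_single_Jstd, Matrix.mul_smul, Matrix.smul_mul, Int.cast_smul_eq_zsmul]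

end Symp

end Groth.Agent.Lib.Seat77.AzInvJ
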