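import Mathlib
import Groth.Agent.Lib.Seat77AzInvH
import Groth.Agent.Lib.Seat77AzInvJ

/-!
# Azumaya algebras with involution when `2` is invertible: diagonal or symplectic matrix units
over a strict henselization, and their descent
-/

set_option autoImplicit false
set_option linter.style.haveILetI false

open scoped TensorProduct
open IsLocalRing

namespace Groth.Agent.Lib.Seat77.AzInvK

open Groth.Agent.Lib.Seat25.AzSH Groth.Agent.Lib.Seat25.AzDesc Groth.Agent.Lib.Seat25.AzInvA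
  Groth.Agent.Lib.Seat25.AzInvB Groth.Agent.Lib.Seat25.AzInvC
open Groth.Agent.Lib.Helper3 Groth.Agent.Lib.Helper3.IndEt
open AzInv Groth.Agent.Lib.Seat77.AzInvA Groth.Agent.Lib.Seat77.AzInvB
  Groth.Agent.Lib.Seat77.AzInvD Groth.Agent.Lib.Seat77.AzInvE Groth.Agent.Lib.Seat77.AzInvF
  Groth.Agent.Lib.Seat77.AzInvG Groth.Agent.Lib.Seat77.AzInvI Groth.Agent.Lib.Seat77.AzInvJ

universe u v w

open Polynomial in
theorem exists_sqrt_one_add {T : Type*} [CommRing T] [HenselianLocalRing T] (h2 : IsUnit (2 : T))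
    (z : T) (hz : z ∈ maximalIdeal T) : ∃ w : T, w * w = 1 + z ∧ w - 1 ∈ maximalIdeal T := by
  have hmonic : (X ^ 2 - C (1 + z) : T[X]).Monic := by
    apply monic_X_pow_sub_C
    norm_num
  obtain ⟨w, hw, hw1⟩ := HenselianLocalRing.is_henselian (X ^ 2 - C (1 + z) : T[X]) hmonic 1
    (by
      simp only [eval_sub, eval_pow, eval_X, eval_C, one_pow]
      have : (1 : T) - (1 + z) = -z := by ring
      rw [this]
      exact (Ideal.neg_mem_iff _).mpr hz)
    (by
      simp only [derivative_sub, derivative_X_pow, derivative_C, sub_zero, eval_mul, eval_C,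
        eval_pow, eval_X]
      simpa using h2)
  refine ⟨w, ?_, hw1⟩
  have := hw
  simp only [IsRoot.def, eval_sub, eval_pow, eval_X, eval_C] at this
  linear_combination this

section Defs

variable {S : Type u} {R : Type v} [CommRing S] [CommRing R] [Algebra S R]
  (lam : R ≃ₐ[S] R) {A : Type w} [Ring A] [Algebra S A] [Algebra R A] [IsScalarTower S R A]
  (t : LamInv R A lam)

/-- `2m × 2m` matrix units in `S' ⊗[S] A` with the standard symplectic pattern
`t (e a b) = sgn a * sgn b • e (swp b) (swp a)`. -/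
def HasSympMU (m : ℕ) (S' : Type u) [CommRing S'] [Algebra S S'] : Prop :=
  ∃ e : Fin (m * 2) → Fin (m * 2) → S' ⊗[S] A,
    (∀ a b c d, e a b * e c d = if b = c then e a d else 0) ∧ ∑ a, e a a = 1 ∧
    ∀ a b, t.bc S lam S' (e a b) = (sgn m a * sgn m b) • e (swp m b) (swp m a)

/-- `HasSympMU` is stable under change of the base. -/
theorem HasSympMU.map {m : ℕ} {P Q : Type u} [CommRing P] [CommRing Q] [Algebra S P]
    [Algebra S Q] (φ : P →ₐ[S] Q) (h : HasSympMU lam t m P) : HasSympMU lam t m Q := by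
  obtain ⟨e, he, h1, hsym⟩ := h
  refine ⟨fun a b => bc A φ (e a b), fun a b c d => ?_, ?_, fun a b => ?_⟩
  · rw [← map_mul, he]
    split_ifs
    · rfl
    · exact map_zero _
  · rw [← map_sum, h1, map_one]
  · rw [← bc_tbc, hsym, map_zsmul]

variable {T : Type u} [CommRing T] [Algebra S T]

/-- symplectic matrix units over an ind-étale algebra descend to an étale stage. -/
theorem hasSympMU_descend {m : ℕ} (hF : Obj.Factor S T) (h : HasSympMU lam t m T) :
    ∃ (E : Type u) (_ : CommRing E) (_ : Algebra S E) (_ : Algebra.Etale S E)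
      (_ : E →ₐ[S] T), HasSympMU lam t m E := by
  classical
  obtain ⟨e, he, h1, hsym⟩ := h
  obtain ⟨E₂, _, _, _, g₂, e₂, he₂⟩ := lift_etale A hF
    (fun ab : Fin (m * 2) × Fin (m * 2) => e ab.1 ab.2)
  let z : Option (Fin (m * 2) × Fin (m * 2) × Fin (m * 2) × Fin (m * 2)) ⊕
      (Fin (m * 2) × Fin (m * 2)) → E₂ ⊗[S] A := fun o =>
    match o with
    | Sum.inl none => ∑ a, e₂ (a, a) - 1
    | Sum.inl (some (a, b, c, d)) => e₂ (a, b) * e₂ (c, d) - if b = c then e₂ (a, d) else 0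
    | Sum.inr (a, b) => t.bc S lam E₂ (e₂ (a, b)) - (sgn m a * sgn m b) • e₂ (swp m b, swp m a)
  have hz : ∀ o, bc A g₂ (z o) = 0 := by
    intro o
    match o with
    | Sum.inl none =>
      change bc A g₂ (∑ a, e₂ (a, a) - 1) = 0
      rw [map_sub, map_sum, map_one, sub_eq_zero, ← h1]
      exact Finset.sum_congr rfl fun a _ => he₂ (a, a)
    | Sum.inl (some (a, b, c, d)) =>
      change bc A g₂ (e₂ (a, b) * e₂ (c, d) - if b = c then e₂ (a, d) else 0) = 0
      rw [map_sub, map_mul, he₂, he₂, sub_eq_zero, he a b c d]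
      split_ifs
      · exact (he₂ (a, d)).symm
      · exact (map_zero _).symm
    | Sum.inr (a, b) =>
      change bc A g₂ (t.bc S lam E₂ (e₂ (a, b)) -
        (sgn m a * sgn m b) • e₂ (swp m b, swp m a)) = 0
      rw [map_sub, bc_tbc, map_zsmul, he₂, he₂, hsym, sub_self]
  obtain ⟨E₃, _, _, _, h₂₃, g₃, -, hk₃⟩ := kill_etale A hF g₂ z hz
  refine ⟨E₃, inferInstance, inferInstance, inferInstance, g₃,
    fun a b => bc A h₂₃ (e₂ (a, b)), fun a b c d => ?_, ?_, fun a b => ?_⟩
  · have := hk₃ (Sum.inl (some (a, b, c, d)))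
    change bc A h₂₃ (e₂ (a, b) * e₂ (c, d) - if b = c then e₂ (a, d) else 0) = 0 at this
    rw [map_sub, map_mul, sub_eq_zero] at this
    rw [this]
    split_ifs
    · rfl
    · exact map_zero _
  · have := hk₃ (Sum.inl none)
    change bc A h₂₃ (∑ a, e₂ (a, a) - 1) = 0 at this
    rw [map_sub, map_sum, map_one, sub_eq_zero] at this
    exact this
  · have := hk₃ (Sum.inr (a, b))
    change bc A h₂₃ (t.bc S lam E₂ (e₂ (a, b)) -
      (sgn m a * sgn m b) • e₂ (swp m b, swp m a)) = 0 at this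
    rw [map_sub, bc_tbc, map_zsmul, sub_eq_zero] at this
    exact this

end Defs

section Hens

variable (S : Type u) (R : Type v) [CommRing S] [CommRing R] [Algebra S R]
  (lam : R ≃ₐ[S] R) (hlam : ∀ r, lam (lam r) = r)
  (hfix : RInv.IsFixedRing S R lam.toRingEquiv)
  (A : Type w) [Ring A] [Algebra S A] [Algebra R A] [IsScalarTower S R A]
  (t : LamInv R A lam) (n : ℕ) (hn : 0 < n) (hA : AzInv.IsAzumayaDeg R A n)

/-- the family of matrix units `Φ₀ (P E_ab Q)`. -/
theorem matrixUnits_of_conj {B : Type*} [Ring B] {C : Type*} [CommRing C] {N : ℕ}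
    (Φ₀ : Matrix (Fin N) (Fin N) C ≃+* B) (P Q : Matrix (Fin N) (Fin N) C) (hPQ : P * Q = 1)
    (hQP : Q * P = 1) :
    (∀ a b c d, Φ₀ (P * Matrix.single a b 1 * Q) * Φ₀ (P * Matrix.single c d 1 * Q) =
      if b = c then Φ₀ (P * Matrix.single a d 1 * Q) else 0) ∧
    ∑ a, Φ₀ (P * Matrix.single a a 1 * Q) = 1 := by
  classical
  constructor
  · intro a b c d
    rw [← map_mul]
    have h3 : P * Matrix.single a b 1 * Q * (P * Matrix.single c d 1 * Q) =
        P * (Matrix.single a b 1 * Matrix.single c d 1) * Q := by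
      calc P * Matrix.single a b 1 * Q * (P * Matrix.single c d 1 * Q)
          = P * Matrix.single a b 1 * ((Q * P) * (Matrix.single c d 1 * Q)) := by
            simp only [mul_assoc]
        _ = P * (Matrix.single a b 1 * Matrix.single c d 1) * Q := by
            rw [hQP, one_mul]; simp only [mul_assoc]
    rw [h3]
    by_cases h : b = c
    · subst h
      rw [if_pos rfl, Matrix.single_mul_single_same, one_mul]
    · rw [if_neg h, Matrix.single_mul_single_of_ne _ _ _ _ h, mul_zero, zero_mul, map_zero]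
  · rw [← map_sum, ← Finset.sum_mul, ← Finset.mul_sum, Matrix.sum_single_one, mul_one, hPQ,
      map_one]

include hlam hfix hn hA in
/-- over a strictly henselian flat `S`-algebra with `2` invertible, `(A, t)` has diagonal matrix
units, or `lam` is the identity modulo the radical and `(A, t)` has symplectic matrix units. -/
theorem hasDiagMU_or_hasSympMU (h2 : IsUnit (2 : S)) (T : Type u)
    [CommRing T] [Algebra S T] [Module.Flat S T] [HenselianLocalRing T]
    [IsSepClosed (ResidueField T)] :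
    HasDiagMU lam t n T ∨
      ((∀ c : T ⊗[S] R, lamBC lam T c - c ∈ Ring.jacobson (T ⊗[S] R)) ∧
        ∃ m, n = m * 2 ∧ HasSympMU lam t m T) := by
  classical
  have hAz : IsAzumaya R A := hA.1
  have h2T : IsUnit (2 : T) := by
    rw [← map_ofNat (algebraMap S T) 2]
    exact h2.map _
  obtain ⟨e0, he0, h10⟩ :=
    Groth.Agent.Lib.Seat25.AzInvB.hasMatrixUnits_of_strictlyHenselian_fixed S R lam hlam hfix A n
      hn hA T
  let lamT : T ⊗[S] R ≃ₐ[S] T ⊗[S] R :=
    Algebra.TensorProduct.congr (AlgEquiv.refl : T ≃ₐ[S] T) lam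
  have hfixT : RInv.IsFixedRing T (T ⊗[S] R) lamT.toRingEquiv :=
    Groth.Agent.S15586.result S R T lam hlam hfix (Or.inl inferInstance)
  have hbridge : ∀ w, lamT.toRingEquiv w = lamBC lam T w := by
    intro w
    change lamT w = _
    induction w using TensorProduct.induction_on with
    | zero => simp
    | add a b ha hb => rw [map_add, map_add, ha, hb]
    | tmul s r => simp [lamT, lamBC]
  have hinv : Function.Involutive lamT.toRingEquiv := by
    intro z
    change lamT (lamT z) = z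
    induction z using TensorProduct.induction_on with
    | zero => simp
    | tmul t r => simp [lamT, hlam]
    | add x y hx hy => rw [map_add, map_add, hx, hy]
  obtain ⟨Φ₀, hΦ₀⟩ : ∃ Φ₀ : Matrix (Fin n) (Fin n) (T ⊗[S] R) ≃+* T ⊗[S] A,
      ∀ N, Φ₀ N = Phi R T e0 N := ⟨PhiEquiv hn hA.2 T e0 he0 h10, fun _ => rfl⟩
  have hΦs : ∀ c N, Φ₀ (Matrix.scalar (Fin n) c * N) =
      inclR (S := S) (A := A) T c * Φ₀ N := fun c N => by rw [hΦ₀, hΦ₀, Phi_scalar_mul]
  obtain ⟨τ, hτdef⟩ : ∃ τ : LamInv (T ⊗[S] R) (Matrix (Fin n) (Fin n) (T ⊗[S] R))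
      lamT.toRingEquiv, ∀ N, Φ₀ (τ N) = t.bc S lam T (Φ₀ N) :=
    ⟨tauOf lam t T lamT.toRingEquiv hbridge Φ₀ hΦs,
      tauOf_apply lam t T lamT.toRingEquiv hbridge Φ₀ hΦs⟩
  obtain ⟨ι, _, Ti, _, _, -, ⟨φ⟩⟩ :=
    exists_pi_of_strictlyHenselian_fixed S R lam hlam hfix T
  let φ' : T ⊗[S] R ≃+* ∀ i, Ti i := (Algebra.TensorProduct.comm S T R).toRingEquiv.trans φ
  have : Nonempty (Fin n) := ⟨⟨0, hn⟩⟩
  have hAzM : IsAzumaya (T ⊗[S] R) (Matrix (Fin n) (Fin n) (T ⊗[S] R)) := IsAzumaya.matrix _ _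
  have hinner : ∀ Ψ : Matrix (Fin n) (Fin n) (T ⊗[S] R) ≃ₐ[T ⊗[S] R]
      Matrix (Fin n) (Fin n) (T ⊗[S] R), IsInner Ψ :=
    fun Ψ => isInner_of_pi (T ⊗[S] R) _ Ti φ' Ψ
  rcases exists_diag_units_or_skew lamT.toRingEquiv hinv hfixT h2T hn hinner τ with
    ⟨P, Q, d, d', hPQ, hQP, hdd, hτ⟩ | ⟨hram, U, V, hUV, hVU, hσU, hτ⟩
  · left
    obtain ⟨hmu, hsum⟩ := matrixUnits_of_conj Φ₀ P Q hPQ hQP
    refine ⟨fun a b => Φ₀ (P * Matrix.single a b 1 * Q), d, d', hmu, hsum, hdd, ?_⟩
    intro a b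
    rw [← hτdef, hτ a b]
    have h1 : ∀ (c : T ⊗[S] R) (N : Matrix (Fin n) (Fin n) (T ⊗[S] R)),
        c • N = Matrix.scalar (Fin n) c * N := fun c N => by
      rw [Matrix.scalar_apply, ← Matrix.smul_eq_diagonal_mul]
    rw [h1, hΦs, AlgHom.commutes, ← Algebra.smul_def]
  · right
    refine ⟨fun c => by rw [← hbridge]; exact hram c, ?_⟩
    have h2C : IsUnit (2 : T ⊗[S] R) := by
      rw [← map_ofNat (algebraMap T (T ⊗[S] R)) 2]
      exact h2T.map _
    have herm : -(U.map lamT.toRingEquiv).transpose = U := by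
      have : (U.map lamT.toRingEquiv).transpose = sig lamT.toRingEquiv hinv U := rfl
      rw [this, hσU, neg_neg]
    obtain ⟨hev, -⟩ := Groth.Agent.S15584.result T (T ⊗[S] R) lamT.toRingEquiv hinv hfixT n hram
      h2C U ⟨⟨U, V, hUV, hVU⟩, rfl⟩ herm
    obtain ⟨m, rfl⟩ : ∃ m, n = m * 2 := by
      obtain ⟨r, hr⟩ := hev
      exact ⟨r, by omega⟩
    refine ⟨m, rfl, ?_⟩
    obtain ⟨P, Q, hPQ, hQP, hpat⟩ := exists_symp_units lamT.toRingEquiv hinv hfixT hram h2T
      (fun z hz => exists_sqrt_one_add h2T z hz) m τ U V hUV hVU hσU hτ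
    obtain ⟨hmu, hsum⟩ := matrixUnits_of_conj Φ₀ P Q hPQ hQP
    refine ⟨fun a b => Φ₀ (P * Matrix.single a b 1 * Q), hmu, hsum, ?_⟩
    intro a b
    rw [← hτdef, hpat a b, map_zsmul]

end Hens

end Groth.Agent.Lib.Seat77.AzInvK
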