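import Mathlib
import Groth.Agent.Lib.Seat77AzInvK

/-!
# Isomorphisms of algebras with involution over a cover: patterns, base change, finite products
-/

set_option autoImplicit false
set_option linter.style.haveILetI false

open scoped TensorProduct

namespace Groth.Agent.Lib.Seat77.AzInvL

open Groth.Agent.Lib.Seat25.AzDesc Groth.Agent.Lib.Seat25.AzInvC
open AzInv Groth.Agent.Lib.Seat77.AzInvA Groth.Agent.Lib.Seat77.AzInvB
  Groth.Agent.Lib.Seat77.AzInvE Groth.Agent.Lib.Seat77.AzInvF Groth.Agent.Lib.Seat77.AzInvG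
  Groth.Agent.Lib.Seat77.AzInvJ Groth.Agent.Lib.Seat77.AzInvK

universe u v w w'

section Pattern

variable {S : Type u} {R : Type v} [CommRing S] [CommRing R] [Algebra S R]
  (lam : R ≃ₐ[S] R) {A : Type w} [Ring A] [Algebra S A] [Algebra R A] [IsScalarTower S R A]
  (t : LamInv R A lam)

/-- matrix units on which `t` acts through a signed permutation pattern. -/
def HasPatMU (N : ℕ) (π : Fin N → Fin N) (c : Fin N → Fin N → ℤ) (S' : Type u) [CommRing S']
    [Algebra S S'] : Prop :=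
  ∃ e : Fin N → Fin N → S' ⊗[S] A,
    (∀ a b c d, e a b * e c d = if b = c then e a d else 0) ∧ ∑ a, e a a = 1 ∧
    ∀ a b, t.bc S lam S' (e a b) = c a b • e (π b) (π a)

theorem HasSymMU.toPat {N : ℕ} {S' : Type u} [CommRing S'] [Algebra S S']
    (h : HasSymMU lam t N S') : HasPatMU lam t N id (fun _ _ => 1) S' := by
  obtain ⟨e, he, h1, hsym⟩ := h
  exact ⟨e, he, h1, fun a b => by rw [hsym, one_smul]; rfl⟩

theorem HasSympMU.toPat {m : ℕ} {S' : Type u} [CommRing S'] [Algebra S S']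
    (h : HasSympMU lam t m S') :
    HasPatMU lam t (m * 2) (swp m) (fun a b => sgn m a * sgn m b) S' := h

/-- the transform of a matrix corresponding to a pattern. -/
noncomputable def rho (S' : Type u) [CommRing S'] [Algebra S S'] {N : ℕ} (π : Fin N → Fin N)
    (c : Fin N → Fin N → ℤ) (M : Matrix (Fin N) (Fin N) (S' ⊗[S] R)) :
    Matrix (Fin N) (Fin N) (S' ⊗[S] R) :=
  Matrix.of fun x y => c (π y) (π x) • lamBC lam S' (M (π y) (π x))

theorem Phi_pat {N : ℕ} {S' : Type u} [CommRing S'] [Algebra S S'] {π : Fin N → Fin N}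
    (hπ : ∀ a, π (π a) = a) {c : Fin N → Fin N → ℤ} {e : Fin N → Fin N → S' ⊗[S] A}
    (hsym : ∀ a b, t.bc S lam S' (e a b) = c a b • e (π b) (π a))
    (M : Matrix (Fin N) (Fin N) (S' ⊗[S] R)) :
    t.bc S lam S' (Phi R S' e M) = Phi R S' e (rho lam S' π c M) := by
  classical
  let πe : Fin N ≃ Fin N := ⟨π, π, hπ, hπ⟩
  have hπe : ∀ a, πe a = π a := fun _ => rfl
  obtain ⟨G, hGdef⟩ : ∃ G : Fin N → Fin N → S' ⊗[S] A, ∀ x y, G x y =
      inclR (S := S) (A := A) S' (rho lam S' π c M x y) * e x y := ⟨_, fun _ _ => rfl⟩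
  have hG : ∀ a b, t.bc S lam S' (inclR (S := S) (A := A) S' (M a b) * e a b) = G (π b) (π a) := by
    intro a b
    rw [hGdef, bc_mul, hsym, bc_inclR]
    unfold rho
    rw [Matrix.of_apply, hπ, hπ, map_zsmul, smul_mul_assoc, smul_mul_assoc, inclR_comm]
  calc t.bc S lam S' (Phi R S' e M)
      = ∑ a, ∑ b, G (π b) (π a) := by
        rw [Phi_apply, map_sum]
        refine Finset.sum_congr rfl fun a _ => ?_
        rw [map_sum]
        exact Finset.sum_congr rfl fun b _ => hG a b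
    _ = ∑ b, ∑ a, G (πe b) (πe a) := Finset.sum_comm
    _ = ∑ b, ∑ y, G (πe b) y := by
        refine Finset.sum_congr rfl fun b _ => ?_
        exact Equiv.sum_comp πe (fun y => G (πe b) y)
    _ = ∑ x, ∑ y, G x y := Equiv.sum_comp πe (fun x => ∑ y, G x y)
    _ = Phi R S' e (rho lam S' π c M) := by
        rw [Phi_apply]
        refine Finset.sum_congr rfl fun x _ => ?_
        exact Finset.sum_congr rfl fun y _ => hGdef x y

end Pattern

section IsoOver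

variable {S : Type u} {R : Type v} [CommRing S] [CommRing R] [Algebra S R]
  (lam : R ≃ₐ[S] R) {A : Type w} [Ring A] [Algebra S A] [Algebra R A] [IsScalarTower S R A]
  {A' : Type w'} [Ring A'] [Algebra S A'] [Algebra R A'] [IsScalarTower S R A']
  (t : LamInv R A lam) (t' : LamInv R A' lam)

/-- `(A, t)` and `(A', t')` are isomorphic over `S'`. -/
def IsoOver (S' : Type u) [CommRing S'] [Algebra S S'] : Prop :=
  ∃ f : S' ⊗[S] A ≃ₐ[S'] S' ⊗[S] A',
    (∀ (r : R) (x : S' ⊗[S] A),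
        f (((1 : S') ⊗ₜ[S] algebraMap R A r) * x) = ((1 : S') ⊗ₜ[S] algebraMap R A' r) * f x) ∧
      ∀ x : S' ⊗[S] A, f (t.bc S lam S' x) = t'.bc S lam S' (f x)

theorem locIsoEt_of_isoOver (S' : Type u) [CommRing S'] [Algebra S S'] [Algebra.Etale S S']
    [Module.FaithfullyFlat S S'] (h : IsoOver lam t t' S') : LocIsoEt S lam t t' := by
  obtain ⟨f, h1, h2⟩ := h
  exact ⟨S', inferInstance, inferInstance, inferInstance, inferInstance, f, h1, h2⟩

/-- two Azumaya algebras with involution of the same degree with matrix units of the same pattern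
over `S'` are isomorphic over `S'`. -/
theorem isoOver_of_hasPatMU (N : ℕ) (hN : 0 < N) (hA : IsAzumayaDeg R A N)
    (hA' : IsAzumayaDeg R A' N) (S' : Type u) [CommRing S'] [Algebra S S']
    {π : Fin N → Fin N} (hπ : ∀ a, π (π a) = a) {c : Fin N → Fin N → ℤ}
    (h : HasPatMU lam t N π c S') (h' : HasPatMU lam t' N π c S') :
    IsoOver lam t t' S' := by
  obtain ⟨e, he, h1, hsym⟩ := h
  obtain ⟨e', he', h1', hsym'⟩ := h'
  have := hA.1
  have := hA'.1
  obtain ⟨Φ, hΦ⟩ : ∃ Φ : Matrix (Fin N) (Fin N) (S' ⊗[S] R) ≃+* S' ⊗[S] A,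
      ∀ M, Φ M = Phi R S' e M := ⟨PhiEquiv hN hA.2 S' e he h1, fun _ => rfl⟩
  obtain ⟨Φ', hΦ'⟩ : ∃ Φ' : Matrix (Fin N) (Fin N) (S' ⊗[S] R) ≃+* S' ⊗[S] A',
      ∀ M, Φ' M = Phi R S' e' M := ⟨PhiEquiv hN hA'.2 S' e' he' h1', fun _ => rfl⟩
  let f₀ : S' ⊗[S] A ≃+* S' ⊗[S] A' := Φ.symm.trans Φ'
  have hf : ∀ M, f₀ (Φ M) = Φ' M := fun M => by
    change Φ' (Φ.symm (Φ M)) = _
    rw [RingEquiv.symm_apply_apply]
  have key : ∀ (c : S' ⊗[S] R) (x : S' ⊗[S] A),
      f₀ (inclR (S := S) (A := A) S' c * x) = inclR (S := S) (A := A') S' c * f₀ x := by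
    intro c x
    obtain ⟨M, rfl⟩ := Φ.surjective x
    have h4 : inclR (S := S) (A := A) S' c * Φ M = Φ (Matrix.scalar (Fin N) c * M) := by
      rw [hΦ, hΦ, Phi_scalar_mul]
    rw [h4, hf, hf, hΦ', hΦ', Phi_scalar_mul]
  have hcomm : ∀ s : S', f₀ (algebraMap S' (S' ⊗[S] A) s) = algebraMap S' (S' ⊗[S] A') s := by
    intro s
    have h2 : algebraMap S' (S' ⊗[S] A) s = inclR (S := S) (A := A) S' (s ⊗ₜ[S] (1 : R)) * 1 := by
      rw [mul_one, inclR_tmul, map_one, Algebra.TensorProduct.algebraMap_apply,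
        Algebra.algebraMap_self, RingHom.id_apply]
    have h3 : algebraMap S' (S' ⊗[S] A') s =
        inclR (S := S) (A := A') S' (s ⊗ₜ[S] (1 : R)) * 1 := by
      rw [mul_one, inclR_tmul, map_one, Algebra.TensorProduct.algebraMap_apply,
        Algebra.algebraMap_self, RingHom.id_apply]
    rw [h2, key, map_one, h3]
  refine ⟨AlgEquiv.ofRingEquiv (f := f₀) hcomm, ?_, ?_⟩
  · intro r x
    change f₀ (((1 : S') ⊗ₜ[S] algebraMap R A r) * x) = ((1 : S') ⊗ₜ[S] algebraMap R A' r) * f₀ x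
    rw [← inclR_tmul, key, inclR_tmul]
  · intro x
    change f₀ (t.bc S lam S' x) = t'.bc S lam S' (f₀ x)
    obtain ⟨M, rfl⟩ := Φ.surjective x
    have h4 : t.bc S lam S' (Φ M) = Φ (rho lam S' π c M) := by
      rw [hΦ, hΦ, Phi_pat lam t hπ hsym]
    rw [h4, hf, hf, hΦ', hΦ', Phi_pat lam t' hπ hsym']

end IsoOver

section BaseChange

variable {S : Type u} {R : Type v} [CommRing S] [CommRing R] [Algebra S R]
  (lam : R ≃ₐ[S] R) {A : Type w} [Ring A] [Algebra S A] [Algebra R A] [IsScalarTower S R A]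
  {A' : Type w'} [Ring A'] [Algebra S A'] [Algebra R A'] [IsScalarTower S R A']
  (t : LamInv R A lam) (t' : LamInv R A' lam)
  {P Q : Type u} [CommRing P] [CommRing Q] [Algebra S P] [Algebra S Q]

/-- base change of a `P`-algebra map `P ⊗ A → P ⊗ A'` along `φ : P → Q`. -/
noncomputable def bcHom (φ : P →ₐ[S] Q) (f : P ⊗[S] A →ₐ[P] P ⊗[S] A') :
    Q ⊗[S] A →ₐ[Q] Q ⊗[S] A' :=
  Algebra.TensorProduct.lift (Algebra.ofId Q (Q ⊗[S] A'))
    (((bc A' φ).comp (f.restrictScalars S)).comp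
      (Algebra.TensorProduct.includeRight : A →ₐ[S] P ⊗[S] A))
    (fun q _ => Algebra.commute_algebraMap_left q _)

theorem bcHom_tmul (φ : P →ₐ[S] Q) (f : P ⊗[S] A →ₐ[P] P ⊗[S] A') (q : Q) (a : A) :
    bcHom φ f (q ⊗ₜ[S] a) = q • bc A' φ (f ((1 : P) ⊗ₜ[S] a)) := by
  change algebraMap Q (Q ⊗[S] A') q * bc A' φ (f ((1 : P) ⊗ₜ[S] a)) = _
  rw [← Algebra.smul_def]

/-- naturality: `bcHom φ f ∘ bc φ = bc φ ∘ f`. -/
theorem bcHom_bc (φ : P →ₐ[S] Q) (f : P ⊗[S] A →ₐ[P] P ⊗[S] A') (x : P ⊗[S] A) :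
    bcHom φ f (bc A φ x) = bc A' φ (f x) := by
  induction x using TensorProduct.induction_on with
  | zero => simp
  | add x y hx hy => rw [map_add, map_add, hx, hy, map_add, map_add]
  | tmul p a =>
    have h1 : p ⊗ₜ[S] a = p • ((1 : P) ⊗ₜ[S] a) := by
      rw [TensorProduct.smul_tmul', smul_eq_mul, mul_one]
    rw [Algebra.TensorProduct.map_tmul, AlgHom.id_apply, bcHom_tmul, h1, map_smul, bc_smul]

theorem bcHom_comp (φ : P →ₐ[S] Q) (f : P ⊗[S] A →ₐ[P] P ⊗[S] A')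
    (g : P ⊗[S] A' →ₐ[P] P ⊗[S] A) (hgf : ∀ x, g (f x) = x) (y : Q ⊗[S] A) :
    bcHom φ g (bcHom φ f y) = y := by
  induction y using TensorProduct.induction_on with
  | zero => simp
  | add x y hx hy => rw [map_add, map_add, hx, hy]
  | tmul q a =>
    rw [bcHom_tmul, map_smul, bcHom_bc, hgf, Algebra.TensorProduct.map_tmul, map_one,
      AlgHom.id_apply, TensorProduct.smul_tmul', smul_eq_mul, mul_one]

/-- `IsoOver` is stable under base change. -/
theorem IsoOver.map (φ : P →ₐ[S] Q) (h : IsoOver lam t t' P) : IsoOver lam t t' Q := by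
  obtain ⟨f, hR, hinv⟩ := h
  let F : Q ⊗[S] A →ₐ[Q] Q ⊗[S] A' := bcHom φ (f : P ⊗[S] A →ₐ[P] P ⊗[S] A')
  let G : Q ⊗[S] A' →ₐ[Q] Q ⊗[S] A := bcHom φ (f.symm : P ⊗[S] A' →ₐ[P] P ⊗[S] A)
  have hGF : ∀ y, G (F y) = y := bcHom_comp φ _ _ (fun x => f.symm_apply_apply x)
  have hFG : ∀ y, F (G y) = y := bcHom_comp φ _ _ (fun x => f.apply_symm_apply x)
  refine ⟨AlgEquiv.ofAlgHom F G (AlgHom.ext hFG) (AlgHom.ext hGF), ?_, ?_⟩
  · intro r x
    change F (((1 : Q) ⊗ₜ[S] algebraMap R A r) * x) = ((1 : Q) ⊗ₜ[S] algebraMap R A' r) * F x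
    rw [map_mul]
    congr 1
    rw [bcHom_tmul, one_smul]
    have h1 : (f : P ⊗[S] A →ₐ[P] P ⊗[S] A') ((1 : P) ⊗ₜ[S] algebraMap R A r) =
        (1 : P) ⊗ₜ[S] algebraMap R A' r := by
      have := hR r 1
      rw [mul_one, map_one, mul_one] at this
      exact this
    rw [h1, Algebra.TensorProduct.map_tmul, map_one, AlgHom.id_apply]
  · intro x
    change F (t.bc S lam Q x) = t'.bc S lam Q (F x)
    induction x using TensorProduct.induction_on with
    | zero => simp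
    | add x y hx hy => rw [map_add, map_add, hx, hy, map_add, map_add]
    | tmul q a =>
      rw [LamInv.bc_tmul, bcHom_tmul, bcHom_tmul, map_smul, ← bc_tbc]
      congr 2
      have := hinv ((1 : P) ⊗ₜ[S] a)
      rw [LamInv.bc_tmul] at this
      exact this

end BaseChange

section Pi

variable {S : Type u} {R : Type v} [CommRing S] [CommRing R] [Algebra S R]
  (lam : R ≃ₐ[S] R) {A : Type w} [Ring A] [Algebra S A] [Algebra R A] [IsScalarTower S R A]
  {A' : Type w'} [Ring A'] [Algebra S A'] [Algebra R A'] [IsScalarTower S R A']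
  (t : LamInv R A lam) (t' : LamInv R A' lam)

/-- `IsoOver` over a finite product. -/
theorem IsoOver.pi {k : ℕ} (B : Fin k → Type u) [∀ i, CommRing (B i)] [∀ i, Algebra S (B i)]
    (h : ∀ i, IsoOver lam t t' (B i)) : IsoOver lam t t' (∀ i, B i) := by
  classical
  choose f hR hinv using h
  obtain ⟨Ψ, hΨ⟩ : ∃ Ψ : (∀ i, B i) ⊗[S] A ≃+* ∀ i, B i ⊗[S] A,
      ∀ x i, Ψ x i = bc A (Pi.evalAlgHom S B i) x :=
    ⟨piTensorEquiv S B A, fun x i => piTensorEquiv_apply S B A x i⟩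
  obtain ⟨Ψ', hΨ'⟩ : ∃ Ψ' : (∀ i, B i) ⊗[S] A' ≃+* ∀ i, B i ⊗[S] A',
      ∀ x i, Ψ' x i = bc A' (Pi.evalAlgHom S B i) x :=
    ⟨piTensorEquiv S B A', fun x i => piTensorEquiv_apply S B A' x i⟩
  let mid : (∀ i, B i ⊗[S] A) ≃+* (∀ i, B i ⊗[S] A') :=
    RingEquiv.piCongrRight fun i => (f i).toRingEquiv
  let f₀ : (∀ i, B i) ⊗[S] A ≃+* (∀ i, B i) ⊗[S] A' := Ψ.trans (mid.trans Ψ'.symm)
  have hf₀ : ∀ x i, Ψ' (f₀ x) i = f i (Ψ x i) := by
    intro x i
    change Ψ' (Ψ'.symm (mid (Ψ x))) i = _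
    rw [RingEquiv.apply_symm_apply]
    rfl
  have hcomm : ∀ b : (∀ i, B i), f₀ (algebraMap _ ((∀ i, B i) ⊗[S] A) b) =
      algebraMap _ ((∀ i, B i) ⊗[S] A') b := by
    intro b
    apply Ψ'.injective
    funext i
    rw [hf₀, hΨ, hΨ']
    rw [show bc A (Pi.evalAlgHom S B i) (algebraMap _ ((∀ i, B i) ⊗[S] A) b) =
        algebraMap (B i) (B i ⊗[S] A) (Pi.evalAlgHom S B i b) from chg_algebraMap _ b,
      show bc A' (Pi.evalAlgHom S B i) (algebraMap _ ((∀ i, B i) ⊗[S] A') b) =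
        algebraMap (B i) (B i ⊗[S] A') (Pi.evalAlgHom S B i b) from chg_algebraMap _ b,
      AlgEquiv.commutes]
  refine ⟨AlgEquiv.ofRingEquiv (f := f₀) hcomm, ?_, ?_⟩
  · intro r x
    change f₀ (((1 : ∀ i, B i) ⊗ₜ[S] algebraMap R A r) * x) =
      ((1 : ∀ i, B i) ⊗ₜ[S] algebraMap R A' r) * f₀ x
    apply Ψ'.injective
    funext i
    have hL : Ψ ((1 : ∀ i, B i) ⊗ₜ[S] algebraMap R A r) i = (1 : B i) ⊗ₜ[S] algebraMap R A r := by
      rw [hΨ, Algebra.TensorProduct.map_tmul, map_one, AlgHom.id_apply]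
    have hR' : Ψ' ((1 : ∀ i, B i) ⊗ₜ[S] algebraMap R A' r) i =
        (1 : B i) ⊗ₜ[S] algebraMap R A' r := by
      rw [hΨ', Algebra.TensorProduct.map_tmul, map_one, AlgHom.id_apply]
    calc Ψ' (f₀ (((1 : ∀ i, B i) ⊗ₜ[S] algebraMap R A r) * x)) i
        = f i (Ψ (((1 : ∀ i, B i) ⊗ₜ[S] algebraMap R A r) * x) i) := hf₀ _ i
      _ = f i (((1 : B i) ⊗ₜ[S] algebraMap R A r) * Ψ x i) := by
          rw [map_mul, Pi.mul_apply, hL]
      _ = ((1 : B i) ⊗ₜ[S] algebraMap R A' r) * f i (Ψ x i) := hR i r _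
      _ = Ψ' (((1 : ∀ i, B i) ⊗ₜ[S] algebraMap R A' r) * f₀ x) i := by
          rw [map_mul, Pi.mul_apply, hR', hf₀]
  · intro x
    change f₀ (t.bc S lam _ x) = t'.bc S lam _ (f₀ x)
    apply Ψ'.injective
    funext i
    rw [hf₀, hΨ, hΨ', bc_tbc, bc_tbc, ← hΨ, ← hΨ', hf₀, hinv]

end Pi

end Groth.Agent.Lib.Seat77.AzInvL
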