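import Mathlib
import Groth.Agent.Lib.Seat77AzInvL

/-!
# Matrix units in `P ⊗ M_m(A)` built from matrix units in `P ⊗ A`
-/

set_option autoImplicit false
set_option linter.style.haveILetI false

open scoped TensorProduct

namespace Groth.Agent.Lib.Seat77.AzInvM

open Groth.Agent.Lib.Seat25.AzDesc
open AzInv Groth.Agent.Lib.Seat77.AzInvA Groth.Agent.Lib.Seat77.AzInvB
  Groth.Agent.Lib.Seat77.AzInvC
  Groth.Agent.Lib.Seat77.AzInvE Groth.Agent.Lib.Seat77.AzInvF Groth.Agent.Lib.Seat77.AzInvG
  Groth.Agent.Lib.Seat77.AzInvJ Groth.Agent.Lib.Seat77.AzInvK Groth.Agent.Lib.Seat77.AzInvL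

universe u v w

section Iota

variable {S : Type u} {R : Type v} [CommRing S] [CommRing R] [Algebra S R]
  (lam : R ≃ₐ[S] R) {A : Type w} [Ring A] [Algebra S A] [Algebra R A] [IsScalarTower S R A]
  (t : LamInv R A lam) (P : Type u) [CommRing P] [Algebra S P] {m : ℕ}

/-- `x ↦ x` placed in position `(i, j)`: `P ⊗ A → P ⊗ M_m(A)`. -/
noncomputable def ιs (i j : Fin m) : P ⊗[S] A →ₗ[P] P ⊗[S] Matrix (Fin m) (Fin m) A :=
  LinearMap.baseChange P (Matrix.singleLinearMap S i j)

omit [Algebra R A] in
@[simp] theorem ιs_tmul (i j : Fin m) (p : P) (a : A) :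
    ιs (S := S) P i j (p ⊗ₜ[S] a) = p ⊗ₜ[S] Matrix.single i j a := by
  simp [ιs, Matrix.singleLinearMap]

omit [Algebra R A] in
theorem ιs_mul (i j k l : Fin m) (x y : P ⊗[S] A) :
    ιs (S := S) P i j x * ιs (S := S) P k l y = if j = k then ιs (S := S) P i l (x * y) else 0 := by
  induction x using TensorProduct.induction_on with
  | zero => simp
  | add x x' hx hx' =>
    rw [map_add, add_mul, hx, hx']
    split_ifs
    · rw [add_mul, map_add]
    · rw [add_zero]
  | tmul p a =>
    induction y using TensorProduct.induction_on with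
    | zero => simp
    | add y y' hy hy' =>
      rw [map_add, mul_add, hy, hy']
      split_ifs
      · rw [mul_add, map_add]
      · rw [add_zero]
    | tmul p' a' =>
      rw [ιs_tmul, ιs_tmul, Algebra.TensorProduct.tmul_mul_tmul, Algebra.TensorProduct.tmul_mul_tmul]
      by_cases h : j = k
      · subst h
        rw [if_pos rfl, ιs_tmul, Matrix.single_mul_single_same]
      · rw [if_neg h, Matrix.single_mul_single_of_ne _ _ _ _ h, TensorProduct.tmul_zero]

omit [Algebra R A] in
theorem ιs_sum_one : ∑ i : Fin m, ιs (S := S) (A := A) P i i 1 = 1 := by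
  simp_rw [Algebra.TensorProduct.one_def, ιs_tmul]
  rw [← TensorProduct.tmul_sum, Matrix.sum_single_one]

theorem ιs_tbc (i j : Fin m) (x : P ⊗[S] A) :
    (t.matrix (Fin m)).bc S lam P (ιs (S := S) P i j x) = ιs (S := S) P j i (t.bc S lam P x) := by
  induction x using TensorProduct.induction_on with
  | zero => simp
  | add x y hx hy => rw [map_add, map_add, hx, hy, map_add, map_add]
  | tmul p a =>
    rw [ιs_tmul, LamInv.bc_tmul, LamInv.bc_tmul, ιs_tmul]
    congr 1
    ext k l
    rw [LamInv.matrix_apply]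
    by_cases h : j = k ∧ i = l
    · obtain ⟨rfl, rfl⟩ := h
      simp
    · have h' : ¬ (i = l ∧ j = k) := fun hh => h ⟨hh.2, hh.1⟩
      rw [Matrix.single_apply, if_neg h', Matrix.single_apply, if_neg h, t.map_zero]

theorem ιs_inclR (i j : Fin m) (c : P ⊗[S] R) (x : P ⊗[S] A) :
    inclR (S := S) (A := Matrix (Fin m) (Fin m) A) P c * ιs (S := S) P i j x =
      ιs (S := S) P i j (inclR (S := S) (A := A) P c * x) := by
  induction c using TensorProduct.induction_on with
  | zero => simp
  | add c c' hc hc' => rw [map_add, add_mul, hc, hc', map_add, add_mul, map_add]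
  | tmul p r =>
    induction x using TensorProduct.induction_on with
    | zero => simp
    | add x y hx hy => rw [map_add, mul_add, hx, hy, mul_add, map_add]
    | tmul p' a =>
      rw [inclR_tmul, inclR_tmul, ιs_tmul, Algebra.TensorProduct.tmul_mul_tmul,
        Algebra.TensorProduct.tmul_mul_tmul, ιs_tmul, ← Algebra.smul_def, ← Algebra.smul_def,
        Matrix.smul_single]

/-- the `(0,0)` entry `P ⊗ M_m(A) → P ⊗ A`. -/
noncomputable def ε00 (hm : 0 < m) : P ⊗[S] Matrix (Fin m) (Fin m) A →ₗ[P] P ⊗[S] A :=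
  LinearMap.baseChange P (Matrix.entryLinearMap S A (⟨0, hm⟩ : Fin m) (⟨0, hm⟩ : Fin m))

theorem ε00_inclR (hm : 0 < m) (c : P ⊗[S] R) :
    ε00 (S := S) (A := A) P hm (inclR (S := S) (A := Matrix (Fin m) (Fin m) A) P c) =
      inclR (S := S) (A := A) P c := by
  induction c using TensorProduct.induction_on with
  | zero => simp
  | add c c' hc hc' => rw [map_add, map_add, hc, hc', map_add]
  | tmul p r =>
    rw [inclR_tmul, inclR_tmul]
    change p ⊗ₜ[S] ((algebraMap R (Matrix (Fin m) (Fin m) A) r) ⟨0, hm⟩ ⟨0, hm⟩) = _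
    rw [Matrix.algebraMap_matrix_apply, if_pos rfl]

end Iota

section Big

variable {S : Type u} {R : Type v} [CommRing S] [CommRing R] [Algebra S R]
  (lam : R ≃ₐ[S] R) {A : Type w} [Ring A] [Algebra S A] [Algebra R A] [IsScalarTower S R A]
  (t : LamInv R A lam) {P : Type u} [CommRing P] [Algebra S P] (m : ℕ) {N : ℕ}

/-- the family of size `m * N` in `P ⊗ M_m(A)` attached to a family of size `N` in `P ⊗ A`. -/
noncomputable def big (e : Fin N → Fin N → P ⊗[S] A) :
    Fin (m * N) → Fin (m * N) → P ⊗[S] Matrix (Fin m) (Fin m) A :=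
  fun x y => ιs (S := S) P (finProdFinEquiv.symm x).1 (finProdFinEquiv.symm y).1
    (e (finProdFinEquiv.symm x).2 (finProdFinEquiv.symm y).2)

omit [Algebra R A] in
theorem big_mul {e : Fin N → Fin N → P ⊗[S] A}
    (he : ∀ a b c d, e a b * e c d = if b = c then e a d else 0) (x y z w : Fin (m * N)) :
    big m e x y * big m e z w = if y = z then big m e x w else 0 := by
  unfold big
  rw [ιs_mul, he]
  by_cases h : y = z
  · subst h
    rw [if_pos rfl, if_pos rfl, if_pos rfl]
  · rw [if_neg h]
    by_cases h1 : (finProdFinEquiv.symm y).1 = (finProdFinEquiv.symm z).1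
    · rw [if_pos h1]
      have h2 : (finProdFinEquiv.symm y).2 ≠ (finProdFinEquiv.symm z).2 := fun h2 =>
        h (finProdFinEquiv.symm.injective (Prod.ext h1 h2))
      rw [if_neg h2, map_zero]
    · rw [if_neg h1]

omit [Algebra R A] in
theorem big_sum {e : Fin N → Fin N → P ⊗[S] A} (h1 : ∑ a, e a a = 1) :
    ∑ x, big m e x x = 1 := by
  unfold big
  rw [Equiv.sum_comp finProdFinEquiv.symm
    (fun ia : Fin m × Fin N => ιs (S := S) P ia.1 ia.1 (e ia.2 ia.2)), Fintype.sum_prod_type]
  simp_rw [← map_sum, h1]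
  exact ιs_sum_one P

/-- the diagonal pattern passes to `M_m(A)`. -/
theorem HasDiagMU.big (h : HasDiagMU lam t N P) :
    HasDiagMU lam (t.matrix (Fin m)) (m * N) P := by
  obtain ⟨e, d, d', he, h1, hdd, hsym⟩ := h
  refine ⟨Groth.Agent.Lib.Seat77.AzInvM.big m e, fun x => d (finProdFinEquiv.symm x).2,
    fun x => d' (finProdFinEquiv.symm x).2, big_mul m he, big_sum m h1, fun x => hdd _,
    fun x y => ?_⟩
  unfold Groth.Agent.Lib.Seat77.AzInvM.big
  rw [ιs_tbc, hsym, map_smul]

/-- the permutation of `Fin (m * N)` induced by a permutation of `Fin N`. -/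
def bigπ (π : Fin N → Fin N) (x : Fin (m * N)) : Fin (m * N) :=
  finProdFinEquiv ((finProdFinEquiv.symm x).1, π (finProdFinEquiv.symm x).2)

theorem bigπ_bigπ {π : Fin N → Fin N} (hπ : ∀ a, π (π a) = a) (x : Fin (m * N)) :
    bigπ m π (bigπ m π x) = x := by
  unfold bigπ
  rw [Equiv.symm_apply_apply, hπ]
  exact finProdFinEquiv.apply_symm_apply x

/-- a signed permutation pattern passes to `M_m(A)`. -/
theorem HasPatMU.big {π : Fin N → Fin N} {c : Fin N → Fin N → ℤ} (h : HasPatMU lam t N π c P) :
    HasPatMU lam (t.matrix (Fin m)) (m * N) (bigπ m π)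
      (fun x y => c (finProdFinEquiv.symm x).2 (finProdFinEquiv.symm y).2) P := by
  obtain ⟨e, he, h1, hsym⟩ := h
  refine ⟨Groth.Agent.Lib.Seat77.AzInvM.big m e, big_mul m he, big_sum m h1, fun x y => ?_⟩
  unfold Groth.Agent.Lib.Seat77.AzInvM.big bigπ
  rw [ιs_tbc, hsym, map_zsmul]
  simp

end Big

section BigBij

variable {S : Type u} {R : Type v} [CommRing S] [CommRing R] [Algebra S R]
  {A : Type w} [Ring A] [Algebra S A] [Algebra R A] [IsScalarTower S R A]
  {P : Type u} [CommRing P] [Algebra S P]

/-- `Phi` is injective as soon as `inclR` is. -/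
theorem Phi_injective_of_inclR {K : ℕ} (E : Fin K → Fin K → P ⊗[S] A)
    (hincl : Function.Injective (inclR (S := S) (R := R) (A := A) P))
    (he : ∀ a b c d, E a b * E c d = if b = c then E a d else 0) (h1 : ∑ a, E a a = 1) :
    Function.Injective (Phi R P E) := by
  classical
  rw [injective_iff_map_eq_zero]
  intro M hM
  ext a b
  have key : ∑ c, E c a * Phi R P E M * E b c = inclR (S := S) (A := A) P (M a b) := by
    rw [← mul_one (inclR (S := S) (A := A) P (M a b)), ← h1, Finset.mul_sum]
    refine Finset.sum_congr rfl fun c _ => ?_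
    rw [Phi_apply, Finset.mul_sum, Finset.sum_mul, Finset.sum_eq_single a]
    · rw [Finset.mul_sum, Finset.sum_mul, Finset.sum_eq_single b]
      · rw [← mul_assoc, ← inclR_comm, mul_assoc, mul_assoc, he, if_pos rfl, he, if_pos rfl]
      · intro b' _ hb'
        rw [← mul_assoc, ← inclR_comm, mul_assoc, mul_assoc, he, if_neg hb', mul_zero, mul_zero]
      · intro h; exact absurd (Finset.mem_univ b) h
    · intro a' _ ha'
      rw [Finset.mul_sum, Finset.sum_mul]
      refine Finset.sum_eq_zero fun b' _ => ?_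
      rw [← mul_assoc, ← inclR_comm, mul_assoc, mul_assoc, ← mul_assoc (E c a), he,
        if_neg (Ne.symm ha'), zero_mul, mul_zero]
    · intro h; exact absurd (Finset.mem_univ a) h
  rw [hM] at key
  simp only [mul_zero, zero_mul, Finset.sum_const_zero] at key
  apply hincl
  rw [Matrix.zero_apply, map_zero]
  exact key.symm

theorem Phi_single {K : ℕ} (E : Fin K → Fin K → P ⊗[S] A) (x y : Fin K) (c : P ⊗[S] R) :
    Phi R P E (Matrix.single x y c) = inclR (S := S) (A := A) P c * E x y := by
  classical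
  rw [Phi_apply, Finset.sum_eq_single x]
  · rw [Finset.sum_eq_single y]
    · rw [Matrix.single_apply, if_pos ⟨rfl, rfl⟩]
    · intro b _ hb
      rw [Matrix.single_apply, if_neg (fun h => hb h.2.symm), map_zero, zero_mul]
    · intro h; exact absurd (Finset.mem_univ y) h
  · intro a _ ha
    refine Finset.sum_eq_zero fun b _ => ?_
    rw [Matrix.single_apply, if_neg (fun h => ha h.1.symm), map_zero, zero_mul]
  · intro h; exact absurd (Finset.mem_univ x) h

variable [IsAzumaya R A]

/-- `Phi` of the big family is bijective if `Phi` of the small family is. -/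
theorem Phi_big_bijective (m : ℕ) (hm : 0 < m) {N : ℕ} (e : Fin N → Fin N → P ⊗[S] A)
    (he : ∀ a b c d, e a b * e c d = if b = c then e a d else 0) (h1 : ∑ a, e a a = 1)
    (hb : Function.Bijective (Phi R P e)) :
    Function.Bijective (Phi R P (big m e)) := by
  classical
  constructor
  · apply Phi_injective_of_inclR (big m e) ?_ (big_mul m he) (big_sum m h1)
    intro c c' hcc'
    apply inclR_injective S R A P
    have h1 := ε00_inclR (S := S) (A := A) P hm c
    have h2 := ε00_inclR (S := S) (A := A) P hm c'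
    rw [← h1, ← h2, hcc']
  · -- surjectivity
    have hrange : ∀ (i j : Fin m) (x : P ⊗[S] A),
        ιs (S := S) P i j x ∈ (Phi R P (big m e)).range := by
      intro i j x
      obtain ⟨M, rfl⟩ := hb.2 x
      rw [Phi_apply, map_sum]
      refine AddSubgroup.sum_mem _ fun a _ => ?_
      rw [map_sum]
      refine AddSubgroup.sum_mem _ fun b _ => ?_
      refine ⟨Matrix.single (finProdFinEquiv (i, a)) (finProdFinEquiv (j, b)) (M a b), ?_⟩
      rw [Phi_single, ← ιs_inclR]
      unfold big
      simp
    intro y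
    change y ∈ (Phi R P (big m e)).range
    induction y using TensorProduct.induction_on with
    | zero => exact AddSubgroup.zero_mem _
    | add x y hx hy => exact AddSubgroup.add_mem _ hx hy
    | tmul p M =>
      have hM : M = ∑ i, ∑ j, Matrix.single i j (M i j) := Matrix.matrix_eq_sum_single M
      rw [hM, TensorProduct.tmul_sum]
      refine AddSubgroup.sum_mem _ fun i _ => ?_
      rw [TensorProduct.tmul_sum]
      refine AddSubgroup.sum_mem _ fun j _ => ?_
      rw [← ιs_tmul]
      exact hrange i j _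

end BigBij

end Groth.Agent.Lib.Seat77.AzInvM
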