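import Mathlib
import Groth.Agent.Lib.Seat77AzInvM

/-!
# Diagonal and symplectic matrix units cannot coexist at a ramified point

If `lam` is the identity modulo the Jacobson radical of `C = P ⊗ R` and `2` is a unit, an algebra
with involution cannot have both a family of matrix units with diagonal pattern and one with
symplectic pattern: a `τ`-fixed rank one idempotent has all its coordinates (in symplectic matrix
units) in the radical.
-/

set_option autoImplicit false
set_option linter.style.haveILetI false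

open scoped TensorProduct

namespace Groth.Agent.Lib.Seat77.AzInvN

open AzInv Groth.Agent.Lib.Seat77.AzInvA Groth.Agent.Lib.Seat77.AzInvB
  Groth.Agent.Lib.Seat77.AzInvC
  Groth.Agent.Lib.Seat77.AzInvE Groth.Agent.Lib.Seat77.AzInvF Groth.Agent.Lib.Seat77.AzInvG
  Groth.Agent.Lib.Seat77.AzInvJ Groth.Agent.Lib.Seat77.AzInvK Groth.Agent.Lib.Seat77.AzInvL
  Groth.Agent.Lib.Seat77.AzInvM

universe u v w w'

section Abstract

variable {C : Type*} [CommRing C]

theorem mem_jacobson_of_sq_mem {x : C} (hx : x * x ∈ Ring.jacobson C) : x ∈ Ring.jacobson C := by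
  rw [← Ideal.jacobson_bot] at hx ⊢
  rw [Ideal.jacobson, Ideal.mem_sInf] at hx ⊢
  intro M hM
  have hp : M.IsPrime := hM.2.isPrime
  rcases hp.mem_or_mem (hx hM) with h | h <;> exact h

/-- a "symplectically fixed" matrix of rank one has all entries in the radical, when `lamC` is the
identity modulo the radical and `2` is invertible. -/
theorem entries_mem_jacobson (lamC : C →+* C) (hram : ∀ c, lamC c - c ∈ Ring.jacobson C)
    (h2 : IsUnit (2 : C)) {K : ℕ} (π : Fin K → Fin K) (s : Fin K → ℤ)
    (hπ : ∀ a, π (π a) = a) (hs : ∀ a, s (π a) = -s a) (hs2 : ∀ a, s a * s a = 1)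
    (X : Matrix (Fin K) (Fin K) C)
    (hfix : ∀ x y, X x y = (s (π y) * s (π x)) • lamC (X (π y) (π x)))
    (hrk : ∀ Z : Matrix (Fin K) (Fin K) C, ∃ c : C, X * Z * X = c • X) (x y : Fin K) :
    X x y ∈ Ring.jacobson C := by
  classical
  -- entries `X x (π x)` are skew
  have hskew : ∀ x, X x (π x) ∈ Ring.jacobson C := by
    intro x
    have h1 : X x (π x) = -lamC (X x (π x)) := by
      have := hfix x (π x)
      rw [hπ, hs] at this
      have h3 : s x * -s x = -1 := by rw [mul_neg, hs2]
      rw [h3, neg_smul, one_smul] at this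
      exact this
    have h3 : lamC (X x (π x)) - X x (π x) ∈ Ring.jacobson C := hram _
    have h4 : lamC (X x (π x)) - X x (π x) = -(2 * X x (π x)) := by
      linear_combination h1
    rw [h4] at h3
    have h5 : 2 * X x (π x) ∈ Ring.jacobson C := (Ideal.neg_mem_iff _).mp h3
    obtain ⟨w, hw⟩ := h2.exists_left_inv
    have h6 := Ideal.mul_mem_left _ w h5
    rwa [← mul_assoc, hw, one_mul] at h6
  -- general entry `X p (π q)`
  have hgen : ∀ p q, X p (π q) ∈ Ring.jacobson C := by
    intro p q
    obtain ⟨c, hc⟩ := hrk (Matrix.single (π q) p 1)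
    have hent : ∀ a b, X a (π q) * X p b = c * X a b := by
      intro a b
      have := congrFun (congrFun hc a) b
      rw [Matrix.smul_apply, smul_eq_mul, Matrix.mul_apply] at this
      rw [← this]
      rw [Finset.sum_eq_single p]
      · rw [Matrix.mul_apply, Finset.sum_eq_single (π q)]
        · rw [Matrix.single_apply, if_pos ⟨rfl, rfl⟩, mul_one]
        · intro j _ hj
          rw [Matrix.single_apply, if_neg (fun h => hj h.1.symm), mul_zero]
        · intro h; exact absurd (Finset.mem_univ _) h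
      · intro j _ hj
        rw [Matrix.mul_apply]
        have : ∑ k, X a k * Matrix.single (π q) p (1 : C) k j = 0 := by
          refine Finset.sum_eq_zero fun k _ => ?_
          rw [Matrix.single_apply, if_neg (fun h => hj h.2.symm), mul_zero]
        rw [this, zero_mul]
      · intro h; exact absurd (Finset.mem_univ _) h
    have h1 := hent p (π q)
    have h2' := hent q (π p)
    -- `X q (π p) = ± lamC (X p (π q))`
    have h3 : X q (π p) = (s p * s (π q)) • lamC (X p (π q)) := by
      have := hfix q (π p)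
      rw [hπ] at this
      exact this
    have h4 : c * lamC (X p (π q)) ∈ Ring.jacobson C := by
      have h5 : c * X q (π p) ∈ Ring.jacobson C := by
        rw [← h2']
        exact Ideal.mul_mem_right _ _ (hskew q)
      rw [h3, mul_smul_comm] at h5
      have h6 := zsmul_mem h5 (s p * s (π q))
      rw [smul_smul] at h6
      have h7 : s p * s (π q) * (s p * s (π q)) = 1 := by
        rw [mul_mul_mul_comm, hs2, hs2, mul_one]
      rwa [h7, one_smul] at h6
    have h5 : c * X p (π q) ∈ Ring.jacobson C := by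
      have h6 : c * X p (π q) = c * lamC (X p (π q)) - c * (lamC (X p (π q)) - X p (π q)) := by
        ring
      rw [h6]
      exact Ideal.sub_mem _ h4 (Ideal.mul_mem_left _ _ (hram _))
    apply mem_jacobson_of_sq_mem
    rw [h1]
    exact h5
  have := hgen x (π y)
  rwa [hπ] at this

end Abstract

section Tensor

variable {S : Type u} {R : Type v} [CommRing S] [CommRing R] [Algebra S R]
  (lam : R ≃ₐ[S] R) {A : Type w} [Ring A] [Algebra S A] [Algebra R A] [IsScalarTower S R A]
  (t : LamInv R A lam) {P : Type u} [CommRing P] [Algebra S P]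

/-- `E x a * Phi E M * E b y = inclR (M a b) * E x y`. -/
theorem single_mul_Phi_mul_single {K : ℕ} (E : Fin K → Fin K → P ⊗[S] A)
    (he : ∀ a b c d, E a b * E c d = if b = c then E a d else 0)
    (M : Matrix (Fin K) (Fin K) (P ⊗[S] R)) (x a b y : Fin K) :
    E x a * Phi R P E M * E b y = inclR (S := S) (A := A) P (M a b) * E x y := by
  classical
  rw [Phi_apply, Finset.mul_sum, Finset.sum_mul, Finset.sum_eq_single a]
  · rw [Finset.mul_sum, Finset.sum_mul, Finset.sum_eq_single b]
    · rw [← mul_assoc, ← inclR_comm, mul_assoc, mul_assoc, he, if_pos rfl, he, if_pos rfl]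
    · intro b' _ hb'
      rw [← mul_assoc, ← inclR_comm, mul_assoc, mul_assoc, he, if_neg hb', mul_zero, mul_zero]
    · intro h; exact absurd (Finset.mem_univ b) h
  · intro a' _ ha'
    rw [Finset.mul_sum, Finset.sum_mul]
    refine Finset.sum_eq_zero fun b' _ => ?_
    rw [← mul_assoc, ← inclR_comm, mul_assoc, mul_assoc, ← mul_assoc (E x a), he,
      if_neg (Ne.symm ha'), zero_mul, mul_zero]
  · intro h; exact absurd (Finset.mem_univ a) h

/-- the incompatibility, for two families of matrix units in the same algebra. -/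
theorem no_diag_symp [Nontrivial (P ⊗[S] R)]
    (hram : ∀ c : P ⊗[S] R, lamBC lam P c - c ∈ Ring.jacobson (P ⊗[S] R))
    (h2 : IsUnit (2 : P ⊗[S] R)) {K₁ K₂ : ℕ} (hK₂ : 0 < K₂)
    (F : Fin K₁ → Fin K₁ → P ⊗[S] A)
    (hF : ∀ a b c d, F a b * F c d = if b = c then F a d else 0) (hF1 : ∑ a, F a a = 1)
    (hFsurj : Function.Surjective (Phi R P F)) (hFfix : ∀ a, t.bc S lam P (F a a) = F a a)
    (E : Fin K₂ → Fin K₂ → P ⊗[S] A)
    (hE : ∀ a b c d, E a b * E c d = if b = c then E a d else 0) (hE1 : ∑ a, E a a = 1)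
    (hEbij : Function.Bijective (Phi R P E))
    (π : Fin K₂ → Fin K₂) (s : Fin K₂ → ℤ)
    (hπ : ∀ a, π (π a) = a) (hs : ∀ a, s (π a) = -s a) (hs2 : ∀ a, s a * s a = 1)
    (hsym : ∀ a b, t.bc S lam P (E a b) = (s a * s b) • E (π b) (π a)) : False := by
  classical
  choose X hX using fun a => hEbij.2 (F a a)
  have hmem : ∀ a x y, X a x y ∈ Ring.jacobson (P ⊗[S] R) := by
    intro a
    apply entries_mem_jacobson (lamBC lam P : P ⊗[S] R ≃ₐ[P] P ⊗[S] R).toRingEquiv.toRingHom hram h2
      π s hπ hs hs2 (X a)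
    · -- fixed
      have h1 : rho lam P π (fun a b => s a * s b) (X a) = X a := by
        apply hEbij.1
        rw [← Phi_pat lam t hπ hsym, hX, hFfix]
      intro x y
      conv_lhs => rw [← h1]
      rfl
    · -- rank one
      intro Z
      obtain ⟨N, hN⟩ := hFsurj (Phi R P E Z)
      refine ⟨N a a, ?_⟩
      apply hEbij.1
      have h1 : (N a a) • X a = Matrix.scalar (Fin K₂) (N a a) * X a := by
        rw [Matrix.scalar_apply, ← Matrix.smul_eq_diagonal_mul]
      rw [h1, Phi_scalar_mul, Phi_mul hE, Phi_mul hE, hX, ← hN,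
        single_mul_Phi_mul_single F hF]
  have hsum : ∑ a, X a = 1 := by
    apply hEbij.1
    rw [map_sum, Phi_one hE1, ← hF1]
    exact Finset.sum_congr rfl fun a _ => hX a
  have h1 : (1 : P ⊗[S] R) ∈ Ring.jacobson (P ⊗[S] R) := by
    have h3 := congrFun (congrFun hsum ⟨0, hK₂⟩) ⟨0, hK₂⟩
    rw [Matrix.one_apply_eq, Matrix.sum_apply] at h3
    rw [← h3]
    exact Ideal.sum_mem _ fun a _ => hmem a _ _
  exact (Ring.jacobson_lt_top (P ⊗[S] R)).ne ((Ideal.eq_top_iff_one _).mpr h1)

end Tensor

section Concrete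

variable {S : Type u} {R : Type v} [CommRing S] [CommRing R] [Algebra S R]
  (lam : R ≃ₐ[S] R) {A : Type w} [Ring A] [Algebra S A] [Algebra R A] [IsScalarTower S R A]
  {A' : Type w'} [Ring A'] [Algebra S A'] [Algebra R A'] [IsScalarTower S R A']
  (t : LamInv R A lam) (t' : LamInv R A' lam) {P : Type u} [CommRing P] [Algebra S P]

/-- an `R`-compatible `P`-algebra map is compatible with `inclR`. -/
theorem inclR_of_compat (f : P ⊗[S] A →ₐ[P] P ⊗[S] A')
    (hR : ∀ (r : R) (x : P ⊗[S] A),
      f (((1 : P) ⊗ₜ[S] algebraMap R A r) * x) = ((1 : P) ⊗ₜ[S] algebraMap R A' r) * f x)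
    (c : P ⊗[S] R) (x : P ⊗[S] A) :
    f (inclR (S := S) (A := A) P c * x) = inclR (S := S) (A := A') P c * f x := by
  induction c using TensorProduct.induction_on with
  | zero => simp
  | add c c' hc hc' => rw [map_add, add_mul, map_add, hc, hc', map_add, add_mul]
  | tmul p r =>
    have h1 : p ⊗ₜ[S] algebraMap R A r = p • ((1 : P) ⊗ₜ[S] algebraMap R A r) := by
      rw [TensorProduct.smul_tmul', smul_eq_mul, mul_one]
    have h1' : p ⊗ₜ[S] algebraMap R A' r = p • ((1 : P) ⊗ₜ[S] algebraMap R A' r) := by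
      rw [TensorProduct.smul_tmul', smul_eq_mul, mul_one]
    rw [inclR_tmul, inclR_tmul, h1, h1', smul_mul_assoc, map_smul, hR, smul_mul_assoc]

/-- `IsoOver` is symmetric. -/
theorem IsoOver.symm (h : IsoOver lam t t' P) : IsoOver lam t' t P := by
  obtain ⟨f, hR, hinv⟩ := h
  refine ⟨f.symm, fun r x => ?_, fun x => ?_⟩
  · apply f.injective
    rw [f.apply_symm_apply, hR, f.apply_symm_apply]
  · apply f.injective
    rw [f.apply_symm_apply, hinv, f.apply_symm_apply]

/-- diagonal matrix units for `(A, t)` and symplectic ones for `(A', t')` cannot coexist at a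
ramified point if the two have the same type. -/
theorem diag_symp_false [IsAzumaya R A] [IsAzumaya R A'] [Nontrivial (P ⊗[S] R)]
    (hram : ∀ c : P ⊗[S] R, lamBC lam P c - c ∈ Ring.jacobson (P ⊗[S] R))
    (h2 : IsUnit (2 : P ⊗[S] R)) {n m k k' : ℕ} (hn : 0 < n) (hm : 0 < m) (hk : 0 < k)
    (hk' : 0 < k')
    (hrank : ∀ p : PrimeSpectrum R, Module.rankAtStalk (R := R) A p = n ^ 2)
    (hrank' : ∀ p : PrimeSpectrum R, Module.rankAtStalk (R := R) A' p = (m * 2) ^ 2)
    (hD : HasDiagMU lam t n P) (hS : HasSympMU lam t' m P)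
    (hiso : IsoOver lam (t.matrix (Fin k)) (t'.matrix (Fin k')) P) : False := by
  classical
  obtain ⟨f, hR, hinv⟩ := hiso
  obtain ⟨e, d, d', he, h1, hdd, hsym⟩ := hD
  obtain ⟨e', he', h1', hsym'⟩ := hS
  have hb : Function.Bijective (Phi R P e) := Phi_bijective hn hrank he h1
  have hb' : Function.Bijective (Phi R P e') :=
    Phi_bijective (Nat.mul_pos hm (by norm_num)) hrank' he' h1'
  have hB := Phi_big_bijective k hk e he h1 hb
  have hB' := Phi_big_bijective k' hk' e' he' h1' hb'
  have hfixE : ∀ x, (t.matrix (Fin k)).bc S lam P (big k e x x) = big k e x x := by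
    intro x
    unfold big
    rw [ιs_tbc, hsym, hdd, one_smul]
  have hsymE' : ∀ x y, (t'.matrix (Fin k')).bc S lam P (big k' e' x y) =
      (sgn m (finProdFinEquiv.symm x).2 * sgn m (finProdFinEquiv.symm y).2) •
        big k' e' (bigπ k' (swp m) y) (bigπ k' (swp m) x) := by
    intro x y
    unfold big bigπ
    rw [ιs_tbc, hsym', map_zsmul]
    simp
  have hΦ : ∀ M, Phi R P (fun a b => f (big k e a b)) M = f (Phi R P (big k e) M) := by
    intro M
    rw [Phi_apply, Phi_apply, map_sum]
    refine Finset.sum_congr rfl fun a _ => ?_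
    rw [map_sum]
    refine Finset.sum_congr rfl fun b _ => ?_
    exact (inclR_of_compat (f : P ⊗[S] Matrix (Fin k) (Fin k) A →ₐ[P]
      P ⊗[S] Matrix (Fin k') (Fin k') A') (fun r x => hR r x) _ _).symm
  refine no_diag_symp lam (t'.matrix (Fin k')) hram h2
    (Nat.mul_pos hk' (Nat.mul_pos hm (by norm_num : 0 < 2)))
    (fun a b => f (big k e a b)) (fun a b c d => ?_) ?_ ?_ (fun a => ?_)
    (big k' e') (big_mul k' he') (big_sum k' h1') hB'
    (bigπ k' (swp m)) (fun x => sgn m (finProdFinEquiv.symm x).2)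
    (bigπ_bigπ k' (swp_swp m)) (fun x => ?_) (fun x => sgn_mul_self m _) hsymE'
  · rw [← map_mul, big_mul k he]
    split_ifs
    · rfl
    · exact map_zero _
  · rw [← map_sum, big_sum k h1, map_one]
  · intro y
    obtain ⟨M, hM⟩ := hB.2 (f.symm y)
    exact ⟨M, by rw [hΦ, hM, f.apply_symm_apply]⟩
  · rw [← hinv, hfixE]
  · unfold bigπ
    rw [Equiv.symm_apply_apply, sgn_swp]

end Concrete

end Groth.Agent.Lib.Seat77.AzInvN
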