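import Mathlib
import Groth.Agent.Lib.Seat77AzInvN
import Groth.Agent.Lib.Seat77AzInvH
import Groth.Agent.Lib.Helper3IndEtComp

/-!
# Same type implies étale-locally isomorphic: assembly
-/

set_option autoImplicit false
set_option linter.style.haveILetI false

open scoped TensorProduct
open IsLocalRing

namespace Groth.Agent.Lib.Seat77.AzInvO

open Groth.Agent.Lib.Seat25.AzSH Groth.Agent.Lib.Seat25.AzDesc Groth.Agent.Lib.Seat25.AzInvA
  Groth.Agent.Lib.Seat25.AzInvB
open Groth.Agent.Lib.Helper3 Groth.Agent.Lib.Helper3.IndEt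
open Groth.Agent.Lib.Seat14.EtLoc
open AzInv Groth.Agent.Lib.Seat77.AzInvA Groth.Agent.Lib.Seat77.AzInvB
  Groth.Agent.Lib.Seat77.AzInvC
  Groth.Agent.Lib.Seat77.AzInvE Groth.Agent.Lib.Seat77.AzInvF Groth.Agent.Lib.Seat77.AzInvG
  Groth.Agent.Lib.Seat77.AzInvH
  Groth.Agent.Lib.Seat77.AzInvJ Groth.Agent.Lib.Seat77.AzInvK Groth.Agent.Lib.Seat77.AzInvL
  Groth.Agent.Lib.Seat77.AzInvM Groth.Agent.Lib.Seat77.AzInvN

universe u v w w'

section Glue

variable {S : Type u} {R : Type v} [CommRing S] [CommRing R] [Algebra S R]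
  (lam : R ≃ₐ[S] R) {A : Type w} [Ring A] [Algebra S A] [Algebra R A] [IsScalarTower S R A]
  {A' : Type w'} [Ring A'] [Algebra S A'] [Algebra R A'] [IsScalarTower S R A']
  (t : LamInv R A lam) (t' : LamInv R A' lam)

/-- local-to-global for `IsoOver`. -/
theorem locIsoEt_of_local
    (h : ∀ q : PrimeSpectrum S, ∃ N : EtNbhd S q, IsoOver lam t t' N.B) :
    LocIsoEt S lam t t' := by
  classical
  obtain ⟨k, B, _, _, het, hsurj, hMU⟩ := exists_finite_family (A := S)
    (fun B _ _ => IsoOver lam t t' B) h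
  have hE : Algebra.Etale S (∀ t, B t) := inferInstance
  have : Algebra.Smooth S (∀ t, B t) := inferInstance
  have : Module.Flat S (∀ t, B t) := inferInstance
  have hff : Module.FaithfullyFlat S (∀ t, B t) := by
    apply Module.FaithfullyFlat.of_comap_surjective
    intro p
    obtain ⟨t, q, hq⟩ := hsurj p
    refine ⟨PrimeSpectrum.comap (Pi.evalRingHom B t) q, ?_⟩
    ext x
    rw [← hq]
    rfl
  exact locIsoEt_of_isoOver lam t t' (∀ t, B t) (IsoOver.pi lam t t' B hMU)

/-- two properties that descend from `T` to étale stages descend simultaneously. -/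
theorem exists_common {T : Type u} [CommRing T] [Algebra S T]
    (Q₁ Q₂ : ∀ (B : Type u) [CommRing B] [Algebra S B], Prop)
    (hmap₁ : ∀ (P Q : Type u) [CommRing P] [CommRing Q] [Algebra S P] [Algebra S Q]
      (_ : P →ₐ[S] Q), Q₁ P → Q₁ Q)
    (hmap₂ : ∀ (P Q : Type u) [CommRing P] [CommRing Q] [Algebra S P] [Algebra S Q]
      (_ : P →ₐ[S] Q), Q₂ P → Q₂ Q)
    (h₁ : ∃ (E : Type u) (_ : CommRing E) (_ : Algebra S E) (_ : Algebra.Etale S E)
      (_ : E →ₐ[S] T), Q₁ E)
    (h₂ : ∃ (E : Type u) (_ : CommRing E) (_ : Algebra S E) (_ : Algebra.Etale S E)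
      (_ : E →ₐ[S] T), Q₂ E) :
    ∃ (E : Type u) (_ : CommRing E) (_ : Algebra S E) (_ : Algebra.Etale S E)
      (_ : E →ₐ[S] T), Q₁ E ∧ Q₂ E := by
  obtain ⟨E₁, _, _, _, g₁, hQ₁⟩ := h₁
  obtain ⟨E₂, _, _, _, g₂, hQ₂⟩ := h₂
  refine ⟨E₁ ⊗[S] E₂, inferInstance, inferInstance, etale_tensor S E₁ E₂,
    Algebra.TensorProduct.productMap g₁ g₂, ?_, ?_⟩
  · exact hmap₁ E₁ (E₁ ⊗[S] E₂) Algebra.TensorProduct.includeLeft hQ₁
  · exact hmap₂ E₂ (E₁ ⊗[S] E₂) Algebra.TensorProduct.includeRight hQ₂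

/-- an étale algebra mapping to a local `S`-algebra whose closed point lies over `q` is an étale
neighbourhood of `q`. -/
theorem exists_etNbhd_of_map {T : Type u} [CommRing T] [Algebra S T] [IsLocalRing T]
    (q : PrimeSpectrum S) (hq : (maximalIdeal T).comap (algebraMap S T) = q.asIdeal)
    (Q : ∀ (B : Type u) [CommRing B] [Algebra S B], Prop)
    (E : Type u) [CommRing E] [Algebra S E] (hE : Algebra.Etale S E) (g : E →ₐ[S] T)
    (h : Q E) : ∃ (N : EtNbhd S q), Q N.B := by
  refine ⟨{ B := E, etale := hE, q := PrimeSpectrum.comap g.toRingHom (closedPoint T), hq := ?_ },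
    h⟩
  ext x
  change g (algebraMap S E x) ∈ maximalIdeal T ↔ x ∈ q.asIdeal
  rw [g.commutes, ← hq]
  rfl

end Glue

section Local

variable {S : Type u} {R : Type v} [CommRing S] [CommRing R] [Algebra S R]
  (lam : R ≃ₐ[S] R) {A : Type w} [Ring A] [Algebra S A] [Algebra R A] [IsScalarTower S R A]
  {A' : Type w'} [Ring A'] [Algebra S A'] [Algebra R A'] [IsScalarTower S R A']
  (t : LamInv R A lam) (t' : LamInv R A' lam)
  (hsq : ∀ (S₁ : Type u) [CommRing S₁] [Algebra S S₁] [Algebra.Etale S S₁] (x : S₁ˣ),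
    ∃ (S₂ : Type u) (_ : CommRing S₂) (_ : Algebra S₁ S₂) (_ : Algebra.Etale S₁ S₂)
      (_ : Module.FaithfullyFlat S₁ S₂) (y : S₂), y * y = algebraMap S₁ S₂ ↑x)
  (n : ℕ) (hn : 0 < n) (hA : AzInv.IsAzumayaDeg R A n) (hA' : AzInv.IsAzumayaDeg R A' n)

include hsq hn hA hA' in
/-- diagonal matrix units for both over an étale neighbourhood give an isomorphism over a finer
étale neighbourhood. -/
theorem exists_etNbhd_isoOver_of_diag (q : PrimeSpectrum S) (N : EtNbhd S q)
    (hD : HasDiagMU lam t n N.B ∧ HasDiagMU lam t' n N.B) :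
    ∃ N' : EtNbhd S q, IsoOver lam t t' N'.B := by
  classical
  obtain ⟨⟨e, d, d', he, h1, hdd, hsym⟩, ⟨e', c, c', he', h1', hcc, hsym'⟩⟩ := hD
  haveI := N.etale
  let du : Fin n → N.Bˣ := fun a => ⟨d a, d' a, hdd a, by rw [mul_comm]; exact hdd a⟩
  let cu : Fin n → N.Bˣ := fun a => ⟨c a, c' a, hcc a, by rw [mul_comm]; exact hcc a⟩
  obtain ⟨S₂, _, _, hE₂, hff₂, y, hy⟩ := exists_sqrt_family hsq (n + n) N.B (Fin.append du cu)
  letI : Algebra S S₂ := ((algebraMap N.B S₂).comp (algebraMap S N.B)).toAlgebra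
  haveI : IsScalarTower S N.B S₂ := IsScalarTower.of_algebraMap_eq (fun _ => rfl)
  have hE : Algebra.Etale S S₂ := Algebra.Etale.comp S N.B S₂
  let φ : N.B →ₐ[S] S₂ := IsScalarTower.toAlgHom S N.B S₂
  have hSym : HasSymMU lam t n S₂ := by
    refine hasSymMU_of_sqrt lam t n (fun a b => bc A φ (e a b)) (fun a => φ (d a))
      (fun a => φ (d' a)) (fun a b c d => ?_) ?_ (fun a => ?_) (fun a b => ?_)
      (fun a => y (Fin.castAdd n a)) (fun a => ?_)
    · rw [← map_mul, he]
      split_ifs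
      · rfl
      · exact map_zero _
    · rw [← map_sum, h1, map_one]
    · rw [← map_mul, hdd, map_one]
    · rw [← bc_tbc, hsym, bc_smul, map_mul]
    · rw [hy, Fin.append_left]
      rfl
  have hSym' : HasSymMU lam t' n S₂ := by
    refine hasSymMU_of_sqrt lam t' n (fun a b => bc A' φ (e' a b)) (fun a => φ (c a))
      (fun a => φ (c' a)) (fun a b c d => ?_) ?_ (fun a => ?_) (fun a b => ?_)
      (fun a => y (Fin.natAdd n a)) (fun a => ?_)
    · rw [← map_mul, he']
      split_ifs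
      · rfl
      · exact map_zero _
    · rw [← map_sum, h1', map_one]
    · rw [← map_mul, hcc, map_one]
    · rw [← bc_tbc, hsym', bc_smul, map_mul]
    · rw [hy, Fin.append_right]
      rfl
  obtain ⟨p₂, hp₂⟩ := PrimeSpectrum.comap_surjective_of_faithfullyFlat (A := N.B) (B := S₂) N.q
  refine ⟨{ B := S₂, etale := hE, q := p₂, hq := ?_ },
    isoOver_of_hasPatMU lam t t' n hn hA hA' S₂ (π := id) (fun _ => rfl)
      (HasSymMU.toPat lam t hSym) (HasSymMU.toPat lam t' hSym')⟩
  rw [← N.hq, ← hp₂]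
  rfl

variable {T : Type u} [CommRing T] [Algebra S T] [IsLocalRing T]

include hsq hn hA hA' in
/-- diagonal matrix units for both over an ind-étale local `T` over `q`. -/
theorem exists_etNbhd_isoOver_of_diagT (hF : Obj.Factor S T) (q : PrimeSpectrum S)
    (hq : (maximalIdeal T).comap (algebraMap S T) = q.asIdeal)
    (hD : HasDiagMU lam t n T) (hD' : HasDiagMU lam t' n T) :
    ∃ N : EtNbhd S q, IsoOver lam t t' N.B := by
  obtain ⟨E, _, _, hE, g, hDE⟩ := exists_common (S := S) (T := T)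
    (fun B _ _ => HasDiagMU lam t n B) (fun B _ _ => HasDiagMU lam t' n B)
    (fun P Q _ _ _ _ φ h => HasDiagMU.map lam t n φ h)
    (fun P Q _ _ _ _ φ h => HasDiagMU.map lam t' n φ h)
    (hasDiagMU_descend lam t n hF hD) (hasDiagMU_descend lam t' n hF hD')
  obtain ⟨N, hN⟩ := exists_etNbhd_of_map q hq
    (fun B _ _ => HasDiagMU lam t n B ∧ HasDiagMU lam t' n B) E hE g hDE
  exact exists_etNbhd_isoOver_of_diag lam t t' hsq n hn hA hA' q N hN

omit hsq in
/-- symplectic matrix units for both over an ind-étale local `T` over `q`. -/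
theorem exists_etNbhd_isoOver_of_sympT {m : ℕ} (hm : 0 < m)
    (hA : AzInv.IsAzumayaDeg R A (m * 2)) (hA' : AzInv.IsAzumayaDeg R A' (m * 2))
    (hF : Obj.Factor S T) (q : PrimeSpectrum S)
    (hq : (maximalIdeal T).comap (algebraMap S T) = q.asIdeal)
    (hD : HasSympMU lam t m T) (hD' : HasSympMU lam t' m T) :
    ∃ N : EtNbhd S q, IsoOver lam t t' N.B := by
  obtain ⟨E, _, _, hE, g, hDE, hDE'⟩ := exists_common (S := S) (T := T)
    (fun B _ _ => HasSympMU lam t m B) (fun B _ _ => HasSympMU lam t' m B)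
    (fun P Q _ _ _ _ φ h => HasSympMU.map lam t φ h)
    (fun P Q _ _ _ _ φ h => HasSympMU.map lam t' φ h)
    (hasSympMU_descend lam t hF hD) (hasSympMU_descend lam t' hF hD')
  exact exists_etNbhd_of_map q hq (fun B _ _ => IsoOver lam t t' B) E hE g
    (isoOver_of_hasPatMU lam t t' (m * 2) (Nat.mul_pos hm (by norm_num)) hA hA' E
      (swp_swp m) (HasSympMU.toPat lam t hDE) (HasSympMU.toPat lam t' hDE'))

end Local

section Main

variable (S : Type u) (R : Type v) [CommRing S] [CommRing R] [Algebra S R]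
  (lam : R ≃ₐ[S] R) (hlam : ∀ r, lam (lam r) = r)
  (hfix : RInv.IsFixedRing S R lam.toRingEquiv)
  (hsq : ∀ (S₁ : Type u) [CommRing S₁] [Algebra S S₁] [Algebra.Etale S S₁] (x : S₁ˣ),
    ∃ (S₂ : Type u) (_ : CommRing S₂) (_ : Algebra S₁ S₂) (_ : Algebra.Etale S₁ S₂)
      (_ : Module.FaithfullyFlat S₁ S₂) (y : S₂), y * y = algebraMap S₁ S₂ ↑x)
  (n : ℕ) (hn : 0 < n)
  (A : Type w) [Ring A] [Algebra S A] [Algebra R A] [IsScalarTower S R A]
  (A' : Type w') [Ring A'] [Algebra S A'] [Algebra R A'] [IsScalarTower S R A']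
  (hA : AzInv.IsAzumayaDeg R A n) (hA' : AzInv.IsAzumayaDeg R A' n)
  (t : LamInv R A lam) (t' : LamInv R A' lam)

include hlam hfix hsq hn hA hA' in
/-- the neutral branches (`n` odd, or `R` quadratic étale over `S`): no hypothesis on types. -/
theorem exists_etNbhd_isoOver_neutral (hcase : Odd n ∨ RInv.IsQuadEtale S R)
    (q : PrimeSpectrum S) : ∃ N : EtNbhd S q, IsoOver lam t t' N.B := by
  obtain ⟨T, _, _, _, _, hF, hq⟩ := exists_strictHenselization_atPrime S q.asIdeal
  have : Module.Flat S T := flat_of_factor' hF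
  have hMU := hasDiagMU_of_strictlyHenselian S R lam hlam hfix A t n hn hA hcase T
  have hMU' := hasDiagMU_of_strictlyHenselian S R lam hlam hfix A' t' n hn hA' hcase T
  exact exists_etNbhd_isoOver_of_diagT lam t t' hsq n hn hA hA' hF q hq hMU hMU'

include hlam hfix hsq hn hA hA' in
/-- the branch where `2` is invertible. -/
theorem exists_etNbhd_isoOver_two (h2 : IsUnit (2 : S)) (hsame : SameType S lam t t')
    (q : PrimeSpectrum S) : ∃ N : EtNbhd S q, IsoOver lam t t' N.B := by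
  classical
  obtain ⟨k, k', hk, hk', S', _, _, hE', hff', f, hR, hinv⟩ := hsame
  obtain ⟨q', hq'⟩ := PrimeSpectrum.comap_surjective_of_faithfullyFlat (A := S) (B := S') q
  obtain ⟨T, _, _, _, _, hF', hqT'⟩ := exists_strictHenselization_atPrime S' q'.asIdeal
  letI : Algebra S T := ((algebraMap S' T).comp (algebraMap S S')).toAlgebra
  haveI : IsScalarTower S S' T := IsScalarTower.of_algebraMap_eq (fun _ => rfl)
  have hF : Obj.Factor S T :=
    factor_of_isIndEtale (isIndEtale_of_etale_of_isIndEtale S S' T (isIndEtale_of_factor hF'))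
  have : Module.Flat S T := flat_of_factor' hF
  have hqT : (maximalIdeal T).comap (algebraMap S T) = q.asIdeal := by
    rw [IsScalarTower.algebraMap_eq S S' T, ← Ideal.comap_comap, hqT', ← hq']
    rfl
  have hisoT : IsoOver lam (t.matrix (Fin k)) (t'.matrix (Fin k')) T :=
    IsoOver.map lam _ _ (IsScalarTower.toAlgHom S S' T) ⟨f, hR, hinv⟩
  haveI := hA.1
  haveI := hA'.1
  -- the ring `T ⊗ R`
  let lamT : T ⊗[S] R ≃ₐ[S] T ⊗[S] R :=
    Algebra.TensorProduct.congr (AlgEquiv.refl : T ≃ₐ[S] T) lam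
  have hfixT : RInv.IsFixedRing T (T ⊗[S] R) lamT.toRingEquiv :=
    Groth.Agent.S15586.result S R T lam hlam hfix (Or.inl inferInstance)
  haveI hnt : Nontrivial (T ⊗[S] R) := hfixT.1.nontrivial
  have h2T : IsUnit (2 : T ⊗[S] R) := by
    rw [← map_ofNat (algebraMap S (T ⊗[S] R)) 2]
    exact h2.map _
  rcases hasDiagMU_or_hasSympMU S R lam hlam hfix A t n hn hA h2 T with
    hD | ⟨hram, m, hnm, hSp⟩
  · rcases hasDiagMU_or_hasSympMU S R lam hlam hfix A' t' n hn hA' h2 T with
      hD' | ⟨hram', m', hnm', hSp'⟩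
    · exact exists_etNbhd_isoOver_of_diagT lam t t' hsq n hn hA hA' hF q hqT hD hD'
    · exfalso
      subst hnm'
      have hm' : 0 < m' := by omega
      exact diag_symp_false lam t t' hram' h2T hn hm' hk hk' hA.2 hA'.2 hD hSp' hisoT
  · rcases hasDiagMU_or_hasSympMU S R lam hlam hfix A' t' n hn hA' h2 T with
      hD' | ⟨hram', m', hnm', hSp'⟩
    · exfalso
      subst hnm
      have hm : 0 < m := by omega
      exact diag_symp_false lam t' t hram h2T hn hm hk' hk hA'.2 hA.2 hD' hSp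
        (IsoOver.symm lam _ _ hisoT)
    · have hmm : m = m' := by omega
      subst hmm
      subst hnm
      have hm : 0 < m := by omega
      exact exists_etNbhd_isoOver_of_sympT lam t t' hm hA hA' hF q hqT hSp hSp'

include hlam hfix hsq hn hA hA' in
/-- **(b) ⇒ (a)**: same type implies étale-locally isomorphic. -/
theorem locIsoEt_of_sameType (hcond : IsUnit (2 : S) ∨ RInv.IsQuadEtale S R ∨ Odd n)
    (h : SameType S lam t t') : LocIsoEt S lam t t' := by
  apply locIsoEt_of_local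
  intro q
  rcases hcond with h2 | hq | hodd
  · exact exists_etNbhd_isoOver_two S R lam hlam hfix hsq n hn A A' hA hA' t t' h2 h q
  · exact exists_etNbhd_isoOver_neutral S R lam hlam hfix hsq n hn A A' hA hA' t t' (Or.inr hq) q
  · exact exists_etNbhd_isoOver_neutral S R lam hlam hfix hsq n hn A A' hA hA' t t' (Or.inl hodd) q

end Main

end Groth.Agent.Lib.Seat77.AzInvO
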