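import Mathlib
import Groth.Agent.Lib.Seat25AzInvI
import Groth.Agent.Lib.Seat25MonicEt
import Groth.Agent.Lib.Seat77AzInvO
import Groth.Agent.S19587
import Groth.Agent.S15586

/-!
# Equal signs at all ramified primes ⇒ same type

* `sdim_of_units`, `two_mul_sdim_conjT_diagonal`, `Jstd_77` (comparison with `Seat77.AzInvJ.Jstd`);
* `two_mul_sdim_of_hasDiagMU`, `two_mul_sdim_of_hasSympMU` (sign from the matrix-unit patterns of
  `Seat77AzInvF/K`);
* `hsq_of_two` (square roots of units étale-locally when `2` is invertible);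
* `isAzumayaDeg_matrix'` (`M_m(A)` is Azumaya of degree `m n`);
* `sdim_of_hasDiagMU_matrix`, `sdim_of_hasSympMU_matrix`, `exists_field_point`;
* `sameType_of_forall_symSpan`.
-/

set_option autoImplicit false
set_option linter.style.haveILetI false

open scoped TensorProduct
open Matrix AzInv IsLocalRing Polynomial

namespace Groth.Agent.Lib.Seat25.AzInvI

open Groth.Agent.Lib.Seat25.AzInvH Groth.Agent.Lib.Helper10.AzSign
open Groth.Agent.Lib.Seat25.AzInvF Groth.Agent.Lib.Seat25.AzInvG Groth.Agent.Lib.Seat25.AzInvD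
  Groth.Agent.Lib.Seat25.AzInvA Groth.Agent.Lib.Seat25.AzInvB
open Groth.Agent.Lib.Seat77.AzInvB Groth.Agent.Lib.Seat77.AzInvF Groth.Agent.Lib.Seat77.AzInvK
  Groth.Agent.Lib.Seat77.AzInvL Groth.Agent.Lib.Seat77.AzInvO
open Groth.Agent.Lib.Helper3 Groth.Agent.Lib.Helper3.IndEt
open Groth.Agent.Lib.Seat14.EtLoc

universe u v w w'




section PureUnits

variable (K : Type*) [Field K] (D : Type*) [Ring D] [Algebra K D] [IsAzumaya K D] {n : ℕ}

/-- the fixed-space dimension of an involution acting on matrix units by `e_ab ↦ Ŵ e_ba Ŵ'`. -/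
theorem sdim_of_units (hn : 0 < n)
    (hrank : ∀ p : PrimeSpectrum K, Module.rankAtStalk (R := K) D p = n ^ 2)
    (σ : D →ₗ[K] D) (e : Fin n → Fin n → D)
    (hmul : ∀ a b c d, e a b * e c d = if b = c then e a d else 0) (hsum : ∑ a, e a a = 1)
    (W W' : Matrix (Fin n) (Fin n) K)
    (hσ : ∀ a b, σ (e a b) = matMap K D n e (W * Matrix.single b a 1 * W')) :
    sdim σ = sdim (conjT K W W') := by
  classical
  have : Nonempty (Fin n) := ⟨⟨0, hn⟩⟩
  obtain ⟨g, hg⟩ := exists_algEquiv_matMap K D n hn hrank e hmul hsum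
  have hσ' : ∀ a b, σ (e a b) = hatM e W * e b a * hatM e W' := by
    intro a b
    rw [hσ, matMap_mul K n e hmul, matMap_mul K n e hmul, matMap_single, one_smul]
    rfl
  have key := sigma_matMap g e hg σ W W' hσ'
  refine sdim_congr _ _ g.toLinearEquiv.symm (fun x => ?_)
  obtain ⟨M, rfl⟩ := g.surjective x
  change g.symm (σ (g M)) = conjT K _ _ (g.symm (g M))
  rw [key, g.symm_apply_apply, g.symm_apply_apply, conjT_apply]

theorem two_mul_sdim_conjT_diagonal (δ δ' : Fin n → K) (hδ : ∀ a, δ a * δ' a = 1) :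
    2 * sdim (conjT K (Matrix.diagonal δ) (Matrix.diagonal δ')) = n * (n + 1) := by
  classical
  rw [← two_mul_sdim_transpose K n]
  congr 1
  have h1 : Matrix.diagonal δ * Matrix.diagonal δ' = 1 := by
    rw [Matrix.diagonal_mul_diagonal]
    simp [hδ]
  have h2 : Matrix.diagonal δ' * Matrix.diagonal δ = 1 := by
    rw [Matrix.diagonal_mul_diagonal]
    simp [fun a => (mul_comm (δ' a) (δ a)).trans (hδ a)]
  let E : Matrix (Fin n) (Fin n) K ≃ₗ[K] Matrix (Fin n) (Fin n) K :=
    LinearEquiv.ofLinearMap (LinearMap.mulRight K (Matrix.diagonal δ))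
      (LinearMap.mulRight K (Matrix.diagonal δ'))
      (by ext x : 1; simp [Matrix.mul_assoc, h2])
      (by ext x : 1; simp [Matrix.mul_assoc, h1])
  refine sdim_congr _ _ E (fun x => ?_)
  change (Matrix.diagonal δ * xᵀ * Matrix.diagonal δ') * Matrix.diagonal δ =
    1 * (x * Matrix.diagonal δ)ᵀ * 1
  rw [Matrix.mul_assoc, h2, Matrix.mul_one, Matrix.one_mul, Matrix.mul_one, Matrix.transpose_mul,
    Matrix.diagonal_transpose]

end PureUnits





section J77

variable (C : Type*) [CommRing C]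

theorem J2_77 : Groth.Agent.Lib.Seat77.AzInvJ.J2 C = -J2 C := by
  ext i j
  fin_cases i <;> fin_cases j <;> simp [Groth.Agent.Lib.Seat77.AzInvJ.J2, J2]

theorem Jstd_77 (m : ℕ) : Groth.Agent.Lib.Seat77.AzInvJ.Jstd C m = -Jstd C (m * 2) := by
  rw [← Xi_scalar_J2, ← map_neg, ← map_neg (Matrix.scalar (Fin m)), ← J2_77]
  ext i j
  rw [Xi_apply, Groth.Agent.Lib.Seat77.AzInvJ.Jstd, Matrix.submatrix_apply,
    Matrix.scalar_apply, Matrix.diagonal_apply]
  have hi : (Groth.Agent.Lib.Seat77.AzInvJ.eqv m).symm i = (i.modNat, i.divNat) := rfl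
  have hj : (Groth.Agent.Lib.Seat77.AzInvJ.eqv m).symm j = (j.modNat, j.divNat) := rfl
  rw [hi, hj, Matrix.blockDiagonal_apply]
  split_ifs <;> rfl

end J77

section Links

variable {S : Type u} {R : Type v} [CommRing S] [CommRing R] [Algebra S R]
  {A : Type w} [Ring A] [Algebra S A] [Algebra R A] [IsScalarTower S R A]
  (lam : R ≃ₐ[S] R) (t : LamInv R A lam)
  {P : Type u} [CommRing P] [Algebra S P]
  {K : Type*} [Field K] [Algebra R K] [Algebra S K] [IsScalarTower S R K]
  (φ : P →ₐ[S] K) (hram : ∀ r : R, algebraMap R K (lam r) = algebraMap R K r) {n : ℕ}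

include φ in
/-- diagonal matrix units: the fibre involution is orthogonal. -/
theorem two_mul_sdim_of_hasDiagMU (hn : 0 < n) (hA : AzInv.IsAzumayaDeg R A n)
    (h : HasDiagMU lam t n P) : 2 * sdim (fibreInv t K hram) = n * (n + 1) := by
  classical
  obtain ⟨e, d, d', hmul, hsum, hdd, hτ⟩ := h
  haveI : IsAzumaya R A := hA.1
  haveI : IsAzumaya K (K ⊗[R] A) := Groth.Agent.Lib.LeadAzumaya.isAzumaya_baseChange K A
  set ē : Fin n → Fin n → K ⊗[R] A := fun a b => piMap R A φ (e a b) with hē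
  have hmul' : ∀ a b c d, ē a b * ē c d = if b = c then ē a d else 0 := by
    intro a b c d
    simp only [hē]
    rw [← map_mul, hmul]
    split_ifs
    · rfl
    · exact map_zero _
  have hsum' : ∑ a, ē a a = 1 := by
    simp only [hē]
    rw [← map_sum, hsum, map_one]
  have hδ : ∀ a, φ (d a) * φ (d' a) = 1 := fun a => by rw [← map_mul, hdd, map_one]
  rw [sdim_of_units K (K ⊗[R] A) hn (rankAtStalk_baseChange_eq R A n hA K) (fibreInv t K hram) ē
    hmul' hsum' (Matrix.diagonal fun a => φ (d a)) (Matrix.diagonal fun a => φ (d' a)) ?_]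
  · exact two_mul_sdim_conjT_diagonal K _ _ hδ
  · intro a b
    simp only [hē]
    rw [← piMap_bc lam t φ hram, hτ, piMap_smul,
      Groth.Agent.Lib.Seat77.AzInvD.diagonal_mul_single_mul_diagonal, Matrix.smul_single,
      matMap_single, smul_eq_mul, mul_one, map_mul]

include φ in
/-- symplectic matrix units: the fibre involution is symplectic. -/
theorem two_mul_sdim_of_hasSympMU (h2 : (2 : K) ≠ 0) {m : ℕ} (hm : 0 < m)
    (hA : AzInv.IsAzumayaDeg R A (m * 2)) (h : HasSympMU lam t m P) :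
    2 * sdim (fibreInv t K hram) = (m * 2) * (m * 2 - 1) := by
  classical
  obtain ⟨e, hmul, hsum, hτ⟩ := h
  haveI : IsAzumaya R A := hA.1
  haveI : IsAzumaya K (K ⊗[R] A) := Groth.Agent.Lib.LeadAzumaya.isAzumaya_baseChange K A
  have hn : 0 < m * 2 := by omega
  set ē : Fin (m * 2) → Fin (m * 2) → K ⊗[R] A := fun a b => piMap R A φ (e a b) with hē
  have hmul' : ∀ a b c d, ē a b * ē c d = if b = c then ē a d else 0 := by
    intro a b c d
    simp only [hē]
    rw [← map_mul, hmul]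
    split_ifs
    · rfl
    · exact map_zero _
  have hsum' : ∑ a, ē a a = 1 := by
    simp only [hē]
    rw [← map_sum, hsum, map_one]
  rw [sdim_of_units K (K ⊗[R] A) hn (rankAtStalk_baseChange_eq R A (m * 2) hA K)
    (fibreInv t K hram) ē hmul' hsum' (Groth.Agent.Lib.Seat77.AzInvJ.Jstd K m)
    (-Groth.Agent.Lib.Seat77.AzInvJ.Jstd K m) ?_]
  · rw [Jstd_77, neg_neg]
    have : conjT K (-Jstd K (m * 2)) (Jstd K (m * 2)) =
        conjT K (Jstd K (m * 2)) (-Jstd K (m * 2)) := by
      ext x : 1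
      simp only [conjT_apply]
      rw [Matrix.neg_mul, Matrix.neg_mul, Matrix.mul_neg]
    rw [this]
    exact two_mul_sdim_Jstd K h2 m
  · intro a b
    simp only [hē]
    rw [← piMap_bc lam t φ hram, hτ, map_zsmul,
      Groth.Agent.Lib.Seat77.AzInvJ.Jstd_single_Jstd, Matrix.smul_single, matMap_single,
      smul_eq_mul, mul_one, Int.cast_smul_eq_zsmul]

end Links




/-- with `2` invertible, units of étale algebras have square roots étale-locally. -/
theorem hsq_of_two (S : Type u) [CommRing S] (h2 : IsUnit (2 : S))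
    (S₁ : Type u) [CommRing S₁] [Algebra S S₁] (x : S₁ˣ) :
    ∃ (S₂ : Type u) (_ : CommRing S₂) (_ : Algebra S₁ S₂) (_ : Algebra.Etale S₁ S₂)
      (_ : Module.FaithfullyFlat S₁ S₂) (y : S₂), y * y = algebraMap S₁ S₂ ↑x := by
  classical
  have h2' : IsUnit (2 : S₁) := by
    rw [← map_ofNat (algebraMap S S₁) 2]
    exact h2.map _
  obtain ⟨w, hw⟩ := h2'.exists_right_inv
  set f : S₁[X] := X ^ 2 - C (x : S₁) with hf
  have hmonic : f.Monic := monic_X_pow_sub_C _ (by norm_num)
  have hder : derivative f = C 2 * X := by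
    rw [hf, derivative_sub, derivative_X_pow, derivative_C, sub_zero]
    simp
  have hcop : IsCoprime f (derivative f) := by
    refine ⟨-C ((x⁻¹ : S₁ˣ) : S₁), C (w * ((x⁻¹ : S₁ˣ) : S₁)) * X, ?_⟩
    rw [hder, hf]
    have e1 : C ((x⁻¹ : S₁ˣ) : S₁) * C (x : S₁) = 1 := by
      rw [← C_mul, Units.inv_mul, C_1]
    have e2 : C (w * ((x⁻¹ : S₁ˣ) : S₁)) * C (2 : S₁) = C ((x⁻¹ : S₁ˣ) : S₁) := by
      rw [← C_mul, mul_right_comm, mul_comm w 2, hw, one_mul]
    calc -C ((x⁻¹ : S₁ˣ) : S₁) * (X ^ 2 - C (x : S₁)) + C (w * ((x⁻¹ : S₁ˣ) : S₁)) * X * (C 2 * X)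
        = -C ((x⁻¹ : S₁ˣ) : S₁) * X ^ 2 + C ((x⁻¹ : S₁ˣ) : S₁) * C (x : S₁) +
          (C (w * ((x⁻¹ : S₁ˣ) : S₁)) * C (2 : S₁)) * X ^ 2 := by ring
      _ = 1 := by rw [e1, e2]; ring
  have hE : Algebra.Etale S₁ (AdjoinRoot f) :=
    Groth.Agent.Lib.Seat25.MonicEt.etale_adjoinRoot f hmonic hcop
  have hfree : Module.Free S₁ (AdjoinRoot f) :=
    Module.Free.of_basis (AdjoinRoot.powerBasis' hmonic).basis
  have hff : Module.FaithfullyFlat S₁ (AdjoinRoot f) := by
    rcases subsingleton_or_nontrivial S₁ with hs | hnt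
    · refine ⟨fun {m} hm => ?_⟩
      exact absurd (Subsingleton.elim m ⊤) hm.ne_top
    · have hdeg : f.natDegree = 2 := natDegree_X_pow_sub_C
      haveI : Nontrivial (AdjoinRoot f) := by
        have hfin : Module.finrank S₁ (AdjoinRoot f) = 2 := by
          rw [Module.finrank_eq_card_basis (AdjoinRoot.powerBasis' hmonic).basis,
            Fintype.card_fin, AdjoinRoot.powerBasis'_dim, hdeg]
        exact Module.nontrivial_of_finrank_pos (R := S₁) (by rw [hfin]; norm_num)
      infer_instance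
  refine ⟨AdjoinRoot f, inferInstance, inferInstance, hE, hff, AdjoinRoot.root f, ?_⟩
  have h := AdjoinRoot.eval₂_root f
  rw [hf, eval₂_sub, eval₂_X_pow, eval₂_C, sub_eq_zero] at h
  rw [← sq, h]
  rfl




/-- matrix algebras over an Azumaya algebra of degree `n` are Azumaya of degree `m n`. -/
theorem isAzumayaDeg_matrix' {R : Type v} [CommRing R] {A : Type w} [Ring A] [Algebra R A] {n : ℕ}
    (hA : AzInv.IsAzumayaDeg R A n) (m : ℕ) (hm : 0 < m) :
    AzInv.IsAzumayaDeg R (Matrix (Fin m) (Fin m) A) (m * n) := by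
  classical
  haveI : IsAzumaya R A := hA.1
  have : Nonempty (Fin m) := ⟨⟨0, hm⟩⟩
  haveI : IsAzumaya R (Matrix (Fin m) (Fin m) R) := IsAzumaya.matrix R (Fin m)
  haveI : IsAzumaya R (A ⊗[R] Matrix (Fin m) (Fin m) R) :=
    Groth.Agent.S19587.result R A (Matrix (Fin m) (Fin m) R)
  have : Module.Finite R A := IsAzumaya.toFinite (R := R)
  have : Module.Projective R A := IsAzumaya.toProjective (R := R)
  refine ⟨IsAzumaya.of_AlgEquiv R _ _ (matrixEquivTensor (Fin m) R A).symm, fun p => ?_⟩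
  have : Nontrivial R :=
    ⟨⟨0, 1, fun h => p.2.ne_top ((Ideal.eq_top_iff_one _).2 (h ▸ p.asIdeal.zero_mem))⟩⟩
  rw [Module.rankAtStalk_eq_of_equiv (matrixEquivTensor (Fin m) R A).toLinearEquiv,
    Module.rankAtStalk_tensorProduct, Pi.mul_apply, hA.2 p,
    Module.rankAtStalk_eq_finrank_of_free]
  change n ^ 2 * Module.finrank R (Matrix (Fin m) (Fin m) R) = (m * n) ^ 2
  rw [Module.finrank_matrix, Module.finrank_self]
  simp only [Fintype.card_fin]
  ring





section Signs

variable {S : Type u} {R : Type v} [CommRing S] [CommRing R] [Algebra S R]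
  {A : Type w} [Ring A] [Algebra S A] [Algebra R A] [IsScalarTower S R A]
  (lam : R ≃ₐ[S] R) (t : LamInv R A lam)
  {P : Type u} [CommRing P] [Algebra S P]
  {K : Type*} [Field K] [Algebra R K] [Algebra S K] [IsScalarTower S R K]
  (φ : P →ₐ[S] K) (hram : ∀ r : R, algebraMap R K (lam r) = algebraMap R K r) {n : ℕ}

include φ in
/-- diagonal matrix units of a matrix algebra over `(A, t)`: `t` is orthogonal at the point. -/
theorem sdim_of_hasDiagMU_matrix (hA : AzInv.IsAzumayaDeg R A n) (hn : 0 < n) (k : ℕ) (hk : 0 < k)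
    (hD : HasDiagMU lam (t.matrix (Fin k)) (k * n) P) :
    sdim (fibreInv t K hram) = (n + 1).choose 2 := by
  haveI : IsAzumaya R A := hA.1
  have : Module.Finite R A := IsAzumaya.toFinite (R := R)
  have hN : 0 < k * n := Nat.mul_pos hk hn
  have h1 := two_mul_sdim_of_hasDiagMU lam (t.matrix (Fin k)) φ hram hN
    (isAzumayaDeg_matrix' hA k hk) hD
  have h2 := two_mul_sdim_fibreInv_matrix t K hram k
  rw [finrank_fibre R A hA K] at h2
  have h3 := two_mul_choose_succ (k * n)
  refine sign_arith 1 k (k * n) n (sdim (fibreInv (t.matrix (Fin k)) K hram)) _ Nat.one_pos hk ?_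
    (one_mul _) (by omega)
  rw [← h2]
  simp

include φ in
/-- symplectic matrix units of a matrix algebra over `(A, t)`: `t` is not orthogonal at the
point. -/
theorem sdim_of_hasSympMU_matrix (h2K : (2 : K) ≠ 0) (hA : AzInv.IsAzumayaDeg R A n) (hn : 0 < n)
    (k : ℕ) (hk : 0 < k) (m : ℕ) (hkm : k * n = m * 2)
    (hSp : HasSympMU lam (t.matrix (Fin k)) m P) :
    sdim (fibreInv t K hram) ≠ (n + 1).choose 2 := by
  intro hs
  haveI : IsAzumaya R A := hA.1
  have : Module.Finite R A := IsAzumaya.toFinite (R := R)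
  have hN : 0 < k * n := Nat.mul_pos hk hn
  have hm : 0 < m := by omega
  have hB := isAzumayaDeg_matrix' hA k hk
  rw [hkm] at hB
  have h1 := two_mul_sdim_of_hasSympMU lam (t.matrix (Fin k)) φ hram h2K hm hB hSp
  have h2 := two_mul_sdim_fibreInv_matrix t K hram k
  rw [finrank_fibre R A hA K] at h2
  have h3 := sign_arith k 1 n (k * n) _ (sdim (fibreInv (t.matrix (Fin k)) K hram)) hk Nat.one_pos
    (by rw [← h2]; simp) (one_mul _).symm hs
  have h4 := two_mul_choose_succ (k * n)
  rw [← hkm] at h1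
  have h5 : (k * n) * (k * n - 1) < (k * n) * (k * n + 1) :=
    Nat.mul_lt_mul_of_pos_left (by omega) hN
  omega

end Signs





section FieldPoint

variable (S : Type u) (R : Type v) [CommRing S] [CommRing R] [Algebra S R]
  (lam : R ≃ₐ[S] R)

/-- a field-valued point of `T ⊗[S] R` at which `lam` becomes trivial, in the ramified case. -/
theorem exists_field_point (h2 : IsUnit (2 : S)) (T : Type u) [CommRing T] [Algebra S T]
    [Nontrivial (T ⊗[S] R)]
    (hram : ∀ c : T ⊗[S] R, lamBC lam T c - c ∈ Ring.jacobson (T ⊗[S] R)) :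
    ∃ (K : Type (max u v)) (_ : Field K) (_ : Algebra R K) (_ : Algebra S K)
      (_ : IsScalarTower S R K) (_ : T →ₐ[S] K),
      (∀ r : R, algebraMap R K (lam r) = algebraMap R K r) ∧ (2 : K) ≠ 0 := by
  obtain ⟨M, hM⟩ := Ideal.exists_maximal (T ⊗[S] R)
  let K := (T ⊗[S] R) ⧸ M
  letI : Field K := Ideal.Quotient.field M
  letI : Algebra R K := ((Ideal.Quotient.mk M).comp
    (Algebra.TensorProduct.includeRight : R →ₐ[S] T ⊗[S] R).toRingHom).toAlgebra
  haveI : IsScalarTower S R K := IsScalarTower.of_algebraMap_eq (fun s => by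
    change Ideal.Quotient.mk M (algebraMap S (T ⊗[S] R) s) =
      Ideal.Quotient.mk M ((Algebra.TensorProduct.includeRight : R →ₐ[S] T ⊗[S] R)
        (algebraMap S R s))
    rw [AlgHom.commutes])
  refine ⟨K, inferInstance, inferInstance, inferInstance, inferInstance,
    (Ideal.Quotient.mkₐ S M).comp (Algebra.TensorProduct.includeLeft : T →ₐ[S] T ⊗[S] R), ?_, ?_⟩
  · intro r
    change Ideal.Quotient.mk M ((1 : T) ⊗ₜ[S] lam r) = Ideal.Quotient.mk M ((1 : T) ⊗ₜ[S] r)
    rw [Ideal.Quotient.eq]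
    have h1 := hram ((1 : T) ⊗ₜ[S] r)
    rw [lamBC_tmul] at h1
    rw [← Ideal.jacobson_bot, Ideal.jacobson, Ideal.mem_sInf] at h1
    exact h1 ⟨bot_le, hM⟩
  · have h := h2.map (algebraMap S K)
    rw [map_ofNat] at h
    exact h.ne_zero

end FieldPoint





section Backward

variable (S : Type u) (R : Type v) [CommRing S] [CommRing R] [Algebra S R]
  (lam : R ≃ₐ[S] R) (hlam : ∀ r, lam (lam r) = r)
  (hfix : RInv.IsFixedRing S R lam.toRingEquiv)
  (A : Type w) [Ring A] [Algebra S A] [Algebra R A] [IsScalarTower S R A]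
  (A' : Type w') [Ring A'] [Algebra S A'] [Algebra R A'] [IsScalarTower S R A']

include hlam hfix in
/-- **equal signs at all ramified primes ⇒ same type.** -/
theorem sameType_of_forall_symSpan (h2 : IsUnit (2 : S)) {n n' : ℕ} (hn : 0 < n) (hn' : 0 < n')
    (hA : AzInv.IsAzumayaDeg R A n) (hA' : AzInv.IsAzumayaDeg R A' n')
    (t : LamInv R A lam) (t' : LamInv R A' lam)
    (H : ∀ q : PrimeSpectrum R, (∀ r : R, lam r - r ∈ q.asIdeal) →
      (Module.finrank q.asIdeal.ResidueField (symSpan t q.asIdeal.ResidueField) =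
          (n + 1).choose 2 ↔
        Module.finrank q.asIdeal.ResidueField (symSpan t' q.asIdeal.ResidueField) =
          (n' + 1).choose 2)) :
    SameType S lam t t' := by
  classical
  refine ⟨n', n, hn', hn, ?_⟩
  obtain ⟨v, hv⟩ := h2.exists_right_inv
  have hu : (2 : R) * algebraMap S R v = 1 := by
    rw [← map_ofNat (algebraMap S R) 2, ← map_mul, hv, map_one]
  have hlu : lam (algebraMap S R v) = algebraMap S R v := lam.commutes v
  have hB := isAzumayaDeg_matrix' hA n' hn'
  have hB' : AzInv.IsAzumayaDeg R (Matrix (Fin n) (Fin n) A') (n' * n) := by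
    rw [Nat.mul_comm]
    exact isAzumayaDeg_matrix' hA' n hn
  have hN : 0 < n' * n := Nat.mul_pos hn' hn
  have hsq : ∀ (S₁ : Type u) [CommRing S₁] [Algebra S S₁] [Algebra.Etale S S₁] (x : S₁ˣ),
      ∃ (S₂ : Type u) (_ : CommRing S₂) (_ : Algebra S₁ S₂) (_ : Algebra.Etale S₁ S₂)
        (_ : Module.FaithfullyFlat S₁ S₂) (y : S₂), y * y = algebraMap S₁ S₂ ↑x :=
    fun S₁ _ _ _ x => hsq_of_two S h2 S₁ x
  apply locIsoEt_of_local
  intro p
  obtain ⟨T, _, _, _, _, hF, hq⟩ := exists_strictHenselization_atPrime S p.asIdeal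
  have : Module.Flat S T := flat_of_factor' hF
  -- the sign condition at a field point in the ramified case
  have hsign : (∀ c : T ⊗[S] R, lamBC lam T c - c ∈ Ring.jacobson (T ⊗[S] R)) →
      ∃ (K : Type (max u v)) (_ : Field K) (_ : Algebra R K) (_ : Algebra S K)
        (_ : IsScalarTower S R K) (_ : T →ₐ[S] K)
        (hramK : ∀ r : R, algebraMap R K (lam r) = algebraMap R K r), (2 : K) ≠ 0 ∧
        (sdim (fibreInv t K hramK) = (n + 1).choose 2 ↔
          sdim (fibreInv t' K hramK) = (n' + 1).choose 2) := by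
    intro hram
    let lamT : T ⊗[S] R ≃ₐ[S] T ⊗[S] R :=
      Algebra.TensorProduct.congr (AlgEquiv.refl : T ≃ₐ[S] T) lam
    have hfixT : RInv.IsFixedRing T (T ⊗[S] R) lamT.toRingEquiv :=
      Groth.Agent.S15586.result S R T lam hlam hfix (Or.inl inferInstance)
    haveI hnt : Nontrivial (T ⊗[S] R) := hfixT.1.nontrivial
    obtain ⟨K, _, _, _, _, φ, hramK, h2K⟩ := exists_field_point S R lam h2 T hram
    refine ⟨K, inferInstance, inferInstance, inferInstance, inferInstance, φ, hramK, h2K, ?_⟩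
    let 𝔮 : PrimeSpectrum R := ⟨RingHom.ker (algebraMap R K), RingHom.ker_isPrime _⟩
    have h𝔮 : ∀ r : R, lam r - r ∈ 𝔮.asIdeal := by
      intro r
      change lam r - r ∈ RingHom.ker (algebraMap R K)
      rw [RingHom.mem_ker, map_sub, hramK, sub_self]
    have := H 𝔮 h𝔮
    rwa [finrank_symSpan_residueField_eq t _ hu hlu 𝔮 K rfl hramK,
      finrank_symSpan_residueField_eq t' _ hu hlu 𝔮 K rfl hramK] at this
  rcases hasDiagMU_or_hasSympMU S R lam hlam hfix _ (t.matrix (Fin n')) (n' * n) hN hB h2 T with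
    hD | ⟨hram, m, hNm, hSp⟩
  · rcases hasDiagMU_or_hasSympMU S R lam hlam hfix _ (t'.matrix (Fin n)) (n' * n) hN hB' h2 T with
      hD' | ⟨hram', m', hNm', hSp'⟩
    · exact exists_etNbhd_isoOver_of_diagT lam _ _ hsq (n' * n) hN hB hB' hF p hq hD hD'
    · exfalso
      obtain ⟨K, _, _, _, _, φ, hramK, h2K, hiff⟩ := hsign hram'
      have h1 := sdim_of_hasDiagMU_matrix lam t φ hramK hA hn n' hn' hD
      have h3 := sdim_of_hasSympMU_matrix lam t' φ hramK h2K hA' hn' n hn m'
        (by rw [Nat.mul_comm]; exact hNm') hSp'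
      exact h3 (hiff.mp h1)
  · rcases hasDiagMU_or_hasSympMU S R lam hlam hfix _ (t'.matrix (Fin n)) (n' * n) hN hB' h2 T with
      hD' | ⟨hram', m', hNm', hSp'⟩
    · exfalso
      obtain ⟨K, _, _, _, _, φ, hramK, h2K, hiff⟩ := hsign hram
      have h1 := sdim_of_hasDiagMU_matrix lam t' φ hramK hA' hn' n hn
        (by rw [Nat.mul_comm]; exact hD')
      have h3 := sdim_of_hasSympMU_matrix lam t φ hramK h2K hA hn n' hn' m hNm hSp
      exact h3 (hiff.mpr h1)
    · have hmm : m = m' := by omega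
      subst hmm
      have hm : 0 < m := by omega
      rw [hNm] at hB hB'
      exact exists_etNbhd_isoOver_of_sympT lam _ _ hm hB hB' hF p hq hSp hSp'

end Backward


end Groth.Agent.Lib.Seat25.AzInvI
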