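import Mathlib
import Groth.Agent.Lib.Helper3HenselH
import Groth.Agent.Lib.LeadAzumayaLocal
import Groth.Agent.Lib.LeadLocalInner

/-! # Lifting isomorphisms of Azumaya algebras over a henselian local ring (seat 25)

For `A`, `B` Azumaya over a henselian local ring `R` with residue field `k`, every `k`-algebra
isomorphism `k ⊗ A ≃ k ⊗ B` lifts to an `R`-algebra isomorphism `A ≃ B`.
The proof lifts a rank-one idempotent of `End_k(k ⊗ B)` to `A ⊗ Bᵐᵒᵖ`. -/

set_option autoImplicit false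
set_option linter.style.haveILetI false
universe u v

namespace Groth.Agent.Lib.Seat25.AzLift

open TensorProduct IsLocalRing MulOpposite

/-- Idempotents lift along any ring hom out of a (noncommutative) finite algebra over a henselian local
ring: if `Φ y` is idempotent then there is an idempotent `ε` with `Φ ε = Φ y`. -/
theorem exists_idempotent_lift_of_finite (R : Type u) [CommRing R] [HenselianLocalRing R]
    (E : Type u) [Ring E] [Algebra R E] [Module.Finite R E] {T : Type*} [Ring T]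
    (Φ : E →+* T) (y : E) (hy : IsIdempotentElem (Φ y)) :
    ∃ ε : E, IsIdempotentElem ε ∧ Φ ε = Φ y := by
  classical
  have hcomm : ∀ a ∈ ({y} : Set E), ∀ b ∈ ({y} : Set E), a * b = b * a := by
    intro a ha b hb
    rw [Set.mem_singleton_iff] at ha hb
    rw [ha, hb]
  have hmc := Algebra.isMulCommutative_adjoin R hcomm
  let C := Algebra.adjoin R ({y} : Set E)
  letI : CommRing C := { (inferInstance : Ring C) with mul_comm := fun a b => hmc.is_comm.comm a b }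
  have hint : IsIntegral R y := Algebra.IsIntegral.isIntegral y
  haveI : Module.Finite R C := Module.Finite.iff_fg.mpr hint.fg_adjoin_singleton
  let yC : C := ⟨y, Algebra.self_mem_adjoin_singleton R y⟩
  let Ψ : C →+* T := Φ.comp C.val.toRingHom
  let I : Ideal C := RingHom.ker Ψ
  have hyI : yC * yC - yC ∈ I := by
    rw [RingHom.mem_ker, map_sub, map_mul]
    change Φ y * Φ y - Φ y = 0
    rw [hy.eq, sub_self]
  obtain ⟨ε, hε, hεy⟩ := Groth.Agent.Lib.Helper3.Hensel.exists_idempotent_lift R C I yC hyI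
  refine ⟨(ε : E), ?_, ?_⟩
  · have := congrArg (fun c : C => (c : E)) hε.eq
    exact this
  · rw [RingHom.mem_ker, map_sub, sub_eq_zero] at hεy
    exact hεy



section Main

variable {R : Type u} [CommRing R] [IsLocalRing R]
  {A : Type u} [Ring A] [Algebra R A]
  {B : Type u} [Ring B] [Algebra R B]

local notation "k" => ResidueField R

/-- left factor of `Theta` -/
noncomputable def thetaL (e₀ : (k ⊗[R] A) ≃ₐ[k] (k ⊗[R] B)) :
    A →ₐ[R] (k ⊗[R] B) ⊗[k] (k ⊗[R] B)ᵐᵒᵖ :=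
  ((Algebra.TensorProduct.includeLeft (R := k) (S := k) (A := k ⊗[R] B)
        (B := (k ⊗[R] B)ᵐᵒᵖ)).restrictScalars R).comp
      ((e₀.toAlgHom.restrictScalars R).comp
        (Algebra.TensorProduct.includeRight (R := R) (A := k) (B := A)))

/-- right factor of `Theta` -/
noncomputable def thetaR :
    Bᵐᵒᵖ →ₐ[R] (k ⊗[R] B) ⊗[k] (k ⊗[R] B)ᵐᵒᵖ :=
  ((Algebra.TensorProduct.includeRight (R := k) (A := k ⊗[R] B)
        (B := (k ⊗[R] B)ᵐᵒᵖ)).restrictScalars R).comp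
      (AlgHom.op (Algebra.TensorProduct.includeRight (R := R) (A := k) (B := B)))

theorem thetaL_apply (e₀ : (k ⊗[R] A) ≃ₐ[k] (k ⊗[R] B)) (a : A) :
    thetaL e₀ a = (e₀ (1 ⊗ₜ a)) ⊗ₜ[k] 1 := rfl

theorem thetaR_apply (b : Bᵐᵒᵖ) :
    thetaR (R := R) (B := B) b = 1 ⊗ₜ[k] op ((1 : k) ⊗ₜ[R] b.unop) := rfl

theorem theta_commute (e₀ : (k ⊗[R] A) ≃ₐ[k] (k ⊗[R] B)) (a : A) (b : Bᵐᵒᵖ) :
    Commute (thetaL e₀ a) (thetaR (R := R) (B := B) b) := by
  rw [commute_iff_eq, thetaL_apply, thetaR_apply, Algebra.TensorProduct.tmul_mul_tmul,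
    Algebra.TensorProduct.tmul_mul_tmul, one_mul, mul_one, one_mul, mul_one]

/-- `Θ : A ⊗ Bᵐᵒᵖ → B̄ ⊗ B̄ᵐᵒᵖ`, `a ⊗ op b ↦ e₀(1 ⊗ a) ⊗ op (1 ⊗ b)`. -/
noncomputable def Theta (e₀ : (k ⊗[R] A) ≃ₐ[k] (k ⊗[R] B)) :
    A ⊗[R] Bᵐᵒᵖ →ₐ[R] (k ⊗[R] B) ⊗[k] (k ⊗[R] B)ᵐᵒᵖ :=
  Algebra.TensorProduct.lift (thetaL e₀) thetaR (theta_commute e₀)

theorem Theta_tmul (e₀ : (k ⊗[R] A) ≃ₐ[k] (k ⊗[R] B)) (a : A) (b : Bᵐᵒᵖ) :
    Theta e₀ (a ⊗ₜ b) = (e₀ (1 ⊗ₜ a)) ⊗ₜ[k] op ((1 : k) ⊗ₜ[R] b.unop) := by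
  rw [Theta, Algebra.TensorProduct.lift_tmul, thetaL_apply, thetaR_apply,
    Algebra.TensorProduct.tmul_mul_tmul, one_mul, mul_one]

theorem Theta_surjective (e₀ : (k ⊗[R] A) ≃ₐ[k] (k ⊗[R] B)) :
    Function.Surjective (Theta e₀) := by
  intro z
  induction z using TensorProduct.induction_on with
  | zero => exact ⟨0, map_zero _⟩
  | add z z' hz hz' =>
    obtain ⟨x, rfl⟩ := hz
    obtain ⟨x', rfl⟩ := hz'
    exact ⟨x + x', map_add _ _ _⟩
  | tmul u v =>
    obtain ⟨u', rfl⟩ := e₀.surjective u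
    obtain ⟨a, rfl⟩ := TensorProduct.mk_surjective R A k Ideal.Quotient.mk_surjective u'
    obtain ⟨b, hb⟩ := TensorProduct.mk_surjective R B k Ideal.Quotient.mk_surjective v.unop
    refine ⟨a ⊗ₜ op b, ?_⟩
    rw [Theta_tmul]
    simp only [unop_op]
    rw [TensorProduct.mk_apply] at hb
    rw [hb]
    rfl

/-- `Φ : A ⊗ Bᵐᵒᵖ → End_k(B̄)`, `a ⊗ op b ↦ (v ↦ e₀(1 ⊗ a) * v * (1 ⊗ b))`. -/
noncomputable def Phi (e₀ : (k ⊗[R] A) ≃ₐ[k] (k ⊗[R] B)) :
    A ⊗[R] Bᵐᵒᵖ →ₐ[R] Module.End k (k ⊗[R] B) :=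
  ((AlgHom.mulLeftRight k (k ⊗[R] B)).restrictScalars R).comp (Theta e₀)

theorem Phi_tmul_apply (e₀ : (k ⊗[R] A) ≃ₐ[k] (k ⊗[R] B)) (a : A) (b : Bᵐᵒᵖ) (v : k ⊗[R] B) :
    Phi e₀ (a ⊗ₜ b) v = e₀ (1 ⊗ₜ a) * v * ((1 : k) ⊗ₜ[R] b.unop) := by
  rw [Phi, AlgHom.comp_apply, Theta_tmul, AlgHom.restrictScalars_apply,
    AlgHom.mulLeftRight_apply, unop_op]

theorem Phi_surjective [IsAzumaya R B] (e₀ : (k ⊗[R] A) ≃ₐ[k] (k ⊗[R] B)) :
    Function.Surjective (Phi e₀) := by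
  haveI : IsAzumaya k (k ⊗[R] B) := Groth.Agent.Lib.LeadAzumaya.isAzumaya_baseChange _ B
  intro f
  obtain ⟨z, hz⟩ := (IsAzumaya.bij (R := k) (A := k ⊗[R] B)).2 f
  obtain ⟨x, rfl⟩ := Theta_surjective e₀ z
  exact ⟨x, hz⟩

section Kernel

variable [IsAzumaya R A] [IsAzumaya R B]

instance : Module.Free R Bᵐᵒᵖ := Module.Free.of_equiv (MulOpposite.opLinearEquiv R : B ≃ₗ[R] Bᵐᵒᵖ)

theorem finrank_eq_of_algEquiv (e₀ : (k ⊗[R] A) ≃ₐ[k] (k ⊗[R] B)) :
    Module.finrank R A = Module.finrank R B := by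
  rw [← Module.finrank_baseChange (R := k) (S := R) (M' := A),
    ← Module.finrank_baseChange (R := k) (S := R) (M' := B)]
  exact e₀.toLinearEquiv.finrank_eq

omit [IsAzumaya R A] [IsAzumaya R B] in
theorem smul_top_le_ker_Phi (e₀ : (k ⊗[R] A) ≃ₐ[k] (k ⊗[R] B)) :
    (maximalIdeal R) • (⊤ : Submodule R (A ⊗[R] Bᵐᵒᵖ)) ≤ LinearMap.ker (Phi e₀).toLinearMap := by
  rw [Submodule.smul_le]
  intro r hr x _
  rw [LinearMap.mem_ker, map_smul]
  have h0 : residue R r = 0 := (residue_eq_zero_iff r).mpr hr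
  rw [← algebraMap_smul k r, ]
  change (residue R r) • _ = 0
  rw [h0, zero_smul]

theorem ker_Phi_le (e₀ : (k ⊗[R] A) ≃ₐ[k] (k ⊗[R] B)) :
    LinearMap.ker (Phi e₀).toLinearMap ≤ (maximalIdeal R) • (⊤ : Submodule R (A ⊗[R] Bᵐᵒᵖ)) := by
  let E := A ⊗[R] Bᵐᵒᵖ
  let Φk : k ⊗[R] E →ₗ[k] Module.End k (k ⊗[R] B) :=
    LinearMap.liftBaseChange k (Phi e₀).toLinearMap
  have hsurj : Function.Surjective Φk := by
    intro f
    obtain ⟨x, hx⟩ := Phi_surjective e₀ f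
    refine ⟨1 ⊗ₜ x, ?_⟩
    rw [LinearMap.liftBaseChange_tmul, one_smul]
    exact hx
  have hrank : Module.finrank k (k ⊗[R] E) = Module.finrank k (Module.End k (k ⊗[R] B)) := by
    rw [Module.finrank_baseChange, Module.finrank_tensorProduct, Module.finrank_linearMap,
      Module.finrank_baseChange, finrank_eq_of_algEquiv e₀]
    congr 1
    exact (MulOpposite.opLinearEquiv R : B ≃ₗ[R] Bᵐᵒᵖ).symm.finrank_eq
  have hinj : Function.Injective Φk :=
    (LinearMap.injective_iff_surjective_of_finrank_eq_finrank hrank).mpr hsurj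
  intro x hx
  rw [LinearMap.mem_ker] at hx
  have h1 : ((1 : k) ⊗ₜ[R] x : k ⊗[R] E) = 0 := by
    apply hinj
    rw [map_zero, LinearMap.liftBaseChange_tmul, one_smul]
    exact hx
  have h2 : x ∈ LinearMap.ker (TensorProduct.mk R (R ⧸ maximalIdeal R) E 1) := by
    rw [LinearMap.mem_ker]
    exact h1
  rwa [LinearMap.ker_tensorProductMk] at h2

end Kernel

end Main

section Hensel

variable (R : Type u) [CommRing R] [HenselianLocalRing R]
  (A : Type u) [Ring A] [Algebra R A] [IsAzumaya R A]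
  (B : Type u) [Ring B] [Algebra R B] [IsAzumaya R B]

local notation "k" => ResidueField R

theorem exists_algEquiv_lift (e₀ : (k ⊗[R] A) ≃ₐ[k] (k ⊗[R] B)) :
    ∃ e : A ≃ₐ[R] B, ∀ a : A, e₀ ((1 : k) ⊗ₜ[R] a) = (1 : k) ⊗ₜ[R] (e a) := by
  classical
  let E := A ⊗[R] Bᵐᵒᵖ
  let Bb := k ⊗[R] B
  haveI : IsAzumaya k Bb := Groth.Agent.Lib.LeadAzumaya.isAzumaya_baseChange _ B
  have hinj1 : Function.Injective (algebraMap k Bb) := FaithfulSMul.algebraMap_injective k Bb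
  obtain ⟨lam, hlam⟩ := LinearMap.exists_leftInverse_of_injective (Algebra.linearMap k Bb)
    (LinearMap.ker_eq_bot.mpr hinj1)
  have hlam1 : lam 1 = 1 := by
    have := congrArg (fun f => f 1) hlam
    simpa using this
  let pibar : Module.End k Bb := (Algebra.linearMap k Bb) ∘ₗ lam
  have hpi_apply : ∀ v, pibar v = lam v • (1 : Bb) := fun v => by
    simp [pibar, Algebra.algebraMap_eq_smul_one]
  have hpi_idem : IsIdempotentElem pibar := by
    refine LinearMap.ext fun v => ?_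
    rw [Module.End.mul_apply, hpi_apply, hpi_apply, map_smul, hlam1, smul_eq_mul, mul_one]
  obtain ⟨y, hy⟩ := Phi_surjective e₀ pibar
  obtain ⟨ε, hε, hεy⟩ := exists_idempotent_lift_of_finite R E (Phi e₀).toRingHom y
    (by change IsIdempotentElem (Phi e₀ y); rw [hy]; exact hpi_idem)
  have hΦε : Phi e₀ ε = pibar := Eq.trans hεy hy
  -- (K2)
  have hK2 : ∀ x : E, x * ε = x → Phi e₀ x 1 = 0 → Phi e₀ x = 0 := by
    intro x hx h0
    refine LinearMap.ext fun v => ?_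
    rw [← hx, map_mul, Module.End.mul_apply, hΦε, hpi_apply, map_smul, h0, smul_zero,
      LinearMap.zero_apply]
  -- ψ
  let ψ : B →ₗ[R] E := (LinearMap.mulRight R ε) ∘ₗ
    ((Algebra.TensorProduct.includeRight : Bᵐᵒᵖ →ₐ[R] E).toLinearMap ∘ₗ
      (MulOpposite.opLinearEquiv R : B ≃ₗ[R] Bᵐᵒᵖ).toLinearMap)
  have hψ_apply : ∀ b : B, ψ b = ((1 : A) ⊗ₜ[R] op b) * ε := fun b => rfl
  have hψε : ∀ b : B, ψ b * ε = ψ b := fun b => by
    rw [hψ_apply, mul_assoc, hε.eq]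
  have hK3 : ∀ b : B, Phi e₀ (ψ b) 1 = (1 : k) ⊗ₜ[R] b := by
    intro b
    rw [hψ_apply, map_mul, Module.End.mul_apply, hΦε, hpi_apply, hlam1, one_smul,
      Phi_tmul_apply, unop_op, ← Algebra.TensorProduct.one_def, map_one, one_mul, one_mul]
  have hK4 : ∀ a : A, Phi e₀ ((a ⊗ₜ[R] (1 : Bᵐᵒᵖ)) * ε) 1 = e₀ ((1 : k) ⊗ₜ[R] a) := by
    intro a
    rw [map_mul, Module.End.mul_apply, hΦε, hpi_apply, hlam1, one_smul,
      Phi_tmul_apply, unop_one, ← Algebra.TensorProduct.one_def, mul_one, mul_one]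
  -- ψ is injective
  have hψ_inj : Function.Injective ψ := by
    have hsplit : ∃ l', l' ∘ₗ ψ = LinearMap.id := by
      rw [IsLocalRing.split_injective_iff_lTensor_residueField_injective]
      rw [injective_iff_map_eq_zero]
      intro z hz
      obtain ⟨b, rfl⟩ := TensorProduct.mk_surjective R B k Ideal.Quotient.mk_surjective z
      rw [TensorProduct.mk_apply, LinearMap.lTensor_tmul] at hz
      have h2 : ψ b ∈ LinearMap.ker (TensorProduct.mk R (R ⧸ maximalIdeal R) E 1) := by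
        rw [LinearMap.mem_ker]
        exact hz
      rw [LinearMap.ker_tensorProductMk] at h2
      have h3 : Phi e₀ (ψ b) = 0 := smul_top_le_ker_Phi e₀ h2
      have h4 := hK3 b
      rw [h3, LinearMap.zero_apply] at h4
      rw [TensorProduct.mk_apply]
      exact h4.symm
    obtain ⟨l', hl'⟩ := hsplit
    exact Function.LeftInverse.injective (g := l')
      (fun b => by simpa using congrArg (fun f => f b) hl')
  -- ψ is surjective onto `E ε`
  have hψ_surj : ∀ x : E, x * ε = x → ∃ b, ψ b = x := by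
    let P : Submodule R E := LinearMap.range (LinearMap.mulRight R ε)
    have hP : ∀ x, x ∈ P ↔ x * ε = x := by
      intro x
      constructor
      · rintro ⟨w, rfl⟩
        rw [LinearMap.mulRight_apply, mul_assoc, hε.eq]
      · intro hx
        exact ⟨x, hx⟩
    have hPfg : P.FG := by
      change (LinearMap.range (LinearMap.mulRight R ε)).FG
      rw [LinearMap.range_eq_map]
      exact (Module.Finite.fg_top).map _
    have hle : P ≤ LinearMap.range ψ := by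
      apply Submodule.le_of_le_smul_of_le_jacobson_bot hPfg
        (IsLocalRing.maximalIdeal_le_jacobson ⊥)
      intro x hx
      have hxε := (hP x).mp hx
      obtain ⟨b, hb⟩ := TensorProduct.mk_surjective R B k Ideal.Quotient.mk_surjective
        (Phi e₀ x 1)
      rw [TensorProduct.mk_apply] at hb
      have hd : (x - ψ b) * ε = x - ψ b := by rw [sub_mul, hxε, hψε]
      have h0 : Phi e₀ (x - ψ b) 1 = 0 := by
        rw [map_sub, LinearMap.sub_apply, hK3, hb, sub_self]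
      have hker : x - ψ b ∈ maximalIdeal R • (⊤ : Submodule R E) :=
        ker_Phi_le e₀ (hK2 _ hd h0)
      have hmem : x - ψ b ∈ maximalIdeal R • P := by
        have hmap : (maximalIdeal R • (⊤ : Submodule R E)).map (LinearMap.mulRight R ε)
            = maximalIdeal R • P := by
          rw [Submodule.map_smul'', Submodule.map_top]
        rw [← hd, ← hmap]
        exact Submodule.mem_map_of_mem hker
      have hx' : x = ψ b + (x - ψ b) := by abel
      rw [hx']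
      exact Submodule.add_mem_sup (LinearMap.mem_range_self ψ b) hmem
    intro x hx
    exact hle ((hP x).mpr hx)
  -- the map `φ`
  have hex : ∀ a : A, ∃ b : B, ψ b = (a ⊗ₜ[R] (1 : Bᵐᵒᵖ)) * ε := fun a =>
    hψ_surj _ (by rw [mul_assoc, hε.eq])
  choose φ hφ using hex
  have hφ_add : ∀ a a', φ (a + a') = φ a + φ a' := by
    intro a a'
    apply hψ_inj
    rw [map_add, hφ, hφ, hφ, TensorProduct.add_tmul, add_mul]
  have hφ_smul : ∀ (r : R) a, φ (r • a) = r • φ a := by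
    intro r a
    apply hψ_inj
    rw [map_smul, hφ, hφ, ← TensorProduct.smul_tmul', smul_mul_assoc]
  have hφ_one : φ 1 = 1 := by
    apply hψ_inj
    rw [hφ, hψ_apply, op_one]
  have hφ_mul : ∀ a a', φ (a * a') = φ a * φ a' := by
    intro a a'
    apply hψ_inj
    rw [hφ, hψ_apply, op_mul]
    have h1 : ((1 : A) ⊗ₜ[R] (op (φ a') * op (φ a))) =
        ((1 : A) ⊗ₜ[R] op (φ a')) * ((1 : A) ⊗ₜ[R] op (φ a)) := by
      rw [Algebra.TensorProduct.tmul_mul_tmul, one_mul]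
    have h2 : ((a * a') ⊗ₜ[R] (1 : Bᵐᵒᵖ)) =
        (a ⊗ₜ[R] (1 : Bᵐᵒᵖ)) * (a' ⊗ₜ[R] (1 : Bᵐᵒᵖ)) := by
      rw [Algebra.TensorProduct.tmul_mul_tmul, one_mul]
    have h3 : ((1 : A) ⊗ₜ[R] op (φ a')) * (a ⊗ₜ[R] (1 : Bᵐᵒᵖ)) =
        (a ⊗ₜ[R] (1 : Bᵐᵒᵖ)) * ((1 : A) ⊗ₜ[R] op (φ a')) := by
      rw [Algebra.TensorProduct.tmul_mul_tmul, Algebra.TensorProduct.tmul_mul_tmul, one_mul,
        mul_one, one_mul, mul_one]
    rw [h1, h2]
    calc (a ⊗ₜ[R] (1 : Bᵐᵒᵖ)) * (a' ⊗ₜ[R] (1 : Bᵐᵒᵖ)) * ε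
        = (a ⊗ₜ[R] (1 : Bᵐᵒᵖ)) * ψ (φ a') := by rw [hφ, mul_assoc]
      _ = ((a ⊗ₜ[R] (1 : Bᵐᵒᵖ)) * ((1 : A) ⊗ₜ[R] op (φ a'))) * ε := by rw [hψ_apply, mul_assoc]
      _ = ((1 : A) ⊗ₜ[R] op (φ a')) * ψ (φ a) := by rw [← h3, hφ, mul_assoc]
      _ = _ := by rw [hψ_apply, mul_assoc]
  let φl : A →ₗ[R] B := { toFun := φ, map_add' := hφ_add, map_smul' := hφ_smul }
  let φa : A →ₐ[R] B := AlgHom.ofLinearMap φl hφ_one hφ_mul
  have hcompat : ∀ a, e₀ ((1 : k) ⊗ₜ[R] a) = (1 : k) ⊗ₜ[R] φ a := by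
    intro a
    rw [← hK4, ← hφ, hK3]
  -- bijectivity
  have hlT : ∀ z, (φl.lTensor k) z = e₀ z := by
    intro z
    obtain ⟨a, rfl⟩ := TensorProduct.mk_surjective R A k Ideal.Quotient.mk_surjective z
    rw [TensorProduct.mk_apply, LinearMap.lTensor_tmul, hcompat]
    rfl
  have hφ_surj : Function.Surjective φl := by
    apply Groth.Agent.Lib.LeadAzumaya.surjective_of_lTensor_residueField_surjective
    intro w
    obtain ⟨z, rfl⟩ := e₀.surjective w
    exact ⟨z, hlT z⟩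
  have hφ_inj : Function.Injective φl := by
    have hsplit : ∃ l', l' ∘ₗ φl = LinearMap.id := by
      rw [IsLocalRing.split_injective_iff_lTensor_residueField_injective]
      intro z z' hzz
      rw [hlT, hlT] at hzz
      exact e₀.injective hzz
    obtain ⟨l', hl'⟩ := hsplit
    exact Function.LeftInverse.injective (g := l')
      (fun b => by simpa using congrArg (fun f => f b) hl')
  exact ⟨AlgEquiv.ofBijective φa ⟨hφ_inj, hφ_surj⟩, fun a => hcompat a⟩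

end Hensel

end Groth.Agent.Lib.Seat25.AzLift
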