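import Groth.Prelude.Def_Hens2
import Groth.Agent.Lib.Helper3IndEtHz
import Groth.Agent.Lib.Helper3IndEtDesc
import Groth.Agent.Lib.Helper3IndEtField
import Groth.Agent.Lib.Helper3HzP
import Groth.Agent.S0733

/-!
# Seat25: morphisms between strict localizations (specialization maps)

* `specializes_and_comp_eq`: if `Spec T ⟶ Spec O_{X,x} ⟶ X` and `Spec T ⟶ Spec O_{X,x'} ⟶ X`
  agree, `T` local and the second ring map local, then `x' ⤳ x` and the first ring map is the
  second one composed with the specialization map `O_{X,x} ⟶ O_{X,x'}`.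
* `existsUnique_algHom_of_residue`: maps from a strict henselization `R` of a local ring `O` into a
  henselian local `O`-algebra `T` (structure map not necessarily local) are the same as `O`-algebra
  maps from `R` into the residue field of `T`.
* `nonempty_algHom_field`: a strict henselization of `O` maps to every separably closed field over
  `O`.
* `exists_specialization_map`, `specialization_map_ext`, `exists_specialization_map_of_residue`:
  the scheme-theoretic statements about `Hens2.specOf`.
Built on helper3's (prior team) construction of strict henselizations and ind-étale lifting.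
-/

set_option autoImplicit false
set_option linter.style.haveILetI false

open IsLocalRing TensorProduct CategoryTheory AlgebraicGeometry

universe u

namespace Groth.Agent.Lib.Seat25.StrictSpec

open Groth.Agent.Lib.Helper3

section Glue

theorem specializes_and_comp_eq {X : Scheme.{u}} (x x' : X) (T : CommRingCat.{u}) [IsLocalRing T]
    (a : X.presheaf.stalk x ⟶ T) (b : X.presheaf.stalk x' ⟶ T) [IsLocalHom b.hom]
    (h : Spec.map a ≫ X.fromSpecStalk x = Spec.map b ≫ X.fromSpecStalk x') :
    ∃ hs : x' ⤳ x, a = X.presheaf.stalkSpecializes hs ≫ b := by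
  let t : Spec T := IsLocalRing.closedPoint T
  have h1 : (Spec.map b ≫ X.fromSpecStalk x') t = x' := by
    rw [Scheme.Hom.comp_apply]
    have : (Spec.map b) t = IsLocalRing.closedPoint (X.presheaf.stalk x') :=
      IsLocalRing.comap_closedPoint b.hom
    rw [this, Scheme.fromSpecStalk_closedPoint]
  have h2 : (Spec.map a ≫ X.fromSpecStalk x) t ∈ Set.range (X.fromSpecStalk x) := by
    rw [Scheme.Hom.comp_apply]
    exact ⟨_, rfl⟩
  rw [h, h1, Scheme.range_fromSpecStalk] at h2
  have hs : x' ⤳ x := h2
  refine ⟨hs, ?_⟩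
  rw [← Scheme.SpecMap_stalkSpecializes_fromSpecStalk hs, ← Category.assoc, ← Spec.map_comp] at h
  exact Spec.map_injective ((cancel_mono (X.fromSpecStalk x)).mp h)

end Glue

section Core

variable (O : Type u) [CommRing O] [IsLocalRing O] (R : Type u) [CommRing R] [IsLocalRing R]
  [Algebra O R] [IsLocalHom (algebraMap O R)] [Hensel.IsStrictHenselization O R]
  (T : Type u) [CommRing T] [HenselianLocalRing T] [Algebra O T]

/-- `O`-algebra maps from a strict henselization `R` of `O` to a henselian local `O`-algebra `T`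
(the structure map `O → T` need not be local) correspond bijectively to `O`-algebra maps from `R`
to the residue field of `T`. -/
theorem existsUnique_algHom_of_residue (η : R →ₐ[O] ResidueField T) :
    ∃! g : R →ₐ[O] T, ∀ r, residue T (g r) = η r := by
  have hind : EtPBC.IsIndEtale O R := IndEt.isIndEtale_of_isStrictHenselization O R
  let uT : T →ₐ[O] ResidueField T := IsScalarTower.toAlgHom O T (ResidueField T)
  have huT : Function.Surjective uT := residue_surjective
  have hker : RingHom.ker uT.toRingHom = maximalIdeal T := ker_residue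
  obtain ⟨g, hg, hguniq⟩ := IndEt.existsUnique_algHom_of_isIndEtale hind uT huT hker η
  refine ⟨g, fun r => congr($hg r), fun g' hg' => hguniq g' ?_⟩
  ext r
  exact hg' r

/-- existence of an `O`-algebra map from the strict henselization to a separably closed field -/
theorem nonempty_algHom_field (Ω : Type u) [Field Ω] [IsSepClosed Ω] [Algebra O Ω] :
    Nonempty (R →ₐ[O] Ω) := by
  have hind : EtPBC.IsIndEtale O R := IndEt.isIndEtale_of_isStrictHenselization O R
  have hind' : EtPBC.IsIndEtale Ω (Ω ⊗[O] R) := Groth.Agent.S0733.result O R Ω hind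
  have HF : IndEt.Obj.Factor Ω (Ω ⊗[O] R) := IndEt.factor_of_isIndEtale hind'
  have hff : Module.FaithfullyFlat O R := HzP.sh_faithfullyFlat O R
  have : Nontrivial (Ω ⊗[O] R) := by
    exact Module.FaithfullyFlat.rTensor_nontrivial (R := O) (M := R) Ω
  obtain ⟨M, hM⟩ := Ideal.exists_maximal (Ω ⊗[O] R)
  let _ : Field ((Ω ⊗[O] R) ⧸ M) := Ideal.Quotient.field M
  let φ : (Ω ⊗[O] R) →ₐ[Ω] ((Ω ⊗[O] R) ⧸ M) := Ideal.Quotient.mkₐ Ω M
  have : Algebra.IsSeparable Ω ((Ω ⊗[O] R) ⧸ M) := by
    refine ⟨fun y => ?_⟩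
    obtain ⟨x, rfl⟩ := Ideal.Quotient.mk_surjective y
    exact IndEt.isSeparable_of_factor_field HF φ x
  have hbij : Function.Bijective (algebraMap Ω ((Ω ⊗[O] R) ⧸ M)) :=
    IsSepClosed.algebraMap_bijective Ω _
  let e : Ω ≃ₐ[Ω] ((Ω ⊗[O] R) ⧸ M) := AlgEquiv.ofBijective (Algebra.ofId Ω _) hbij
  let ψ : (Ω ⊗[O] R) →ₐ[Ω] Ω := (e.symm : _ →ₐ[Ω] Ω).comp φ
  exact ⟨(ψ.restrictScalars O).comp Algebra.TensorProduct.includeRight⟩

end Core


section Sch

variable (X : Scheme.{u}) (x x' : X)
    (R : Type u) [CommRing R] [IsLocalRing R] [Algebra (X.presheaf.stalk x) R]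
    [IsLocalHom (algebraMap (X.presheaf.stalk x) R)] [Hensel.IsStrictHenselization (X.presheaf.stalk x) R]
    (R' : Type u) [CommRing R'] [IsLocalRing R'] [Algebra (X.presheaf.stalk x') R']
    [IsLocalHom (algebraMap (X.presheaf.stalk x') R')] [Hensel.IsStrictHenselization (X.presheaf.stalk x') R']

/-- the `O_{X,x}`-algebra structure on a ring over `O_{X,x'}` through the specialization map -/
@[reducible] noncomputable def algOfSpecializes (hs : x' ⤳ x) (T : Type u) [CommRing T]
    [Algebra (X.presheaf.stalk x') T] : Algebra (X.presheaf.stalk x) T :=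
  ((algebraMap (X.presheaf.stalk x') T).comp (X.presheaf.stalkSpecializes hs).hom).toAlgebra

omit [IsLocalRing R] [IsLocalHom (algebraMap (X.presheaf.stalk x) R)]
  [Hensel.IsStrictHenselization (X.presheaf.stalk x) R] [IsLocalRing R']
  [IsLocalHom (algebraMap (X.presheaf.stalk x') R')]
  [Hensel.IsStrictHenselization (X.presheaf.stalk x') R'] in
/-- a ring map `R → R'` over the specialization map gives a morphism over `X` -/
theorem specOf_of_ringHom (hs : x' ⤳ x) (ρ : R →+* R')
    (hρ : ρ.comp (algebraMap (X.presheaf.stalk x) R) =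
      (algebraMap (X.presheaf.stalk x') R').comp (X.presheaf.stalkSpecializes hs).hom) :
    Spec.map (CommRingCat.ofHom ρ) ≫ Hens2.specOf X x R = Hens2.specOf X x' R' := by
  unfold Hens2.specOf
  rw [← Category.assoc, ← Spec.map_comp, ← CommRingCat.ofHom_comp, hρ, CommRingCat.ofHom_comp,
    Spec.map_comp, Category.assoc, CommRingCat.ofHom_hom,
    Scheme.SpecMap_stalkSpecializes_fromSpecStalk hs]

end Sch


section Sch2

variable (X : Scheme.{u}) (x x' : X)
    (R : Type u) [CommRing R] [Algebra (X.presheaf.stalk x) R]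

theorem exists_ringHom_of_comp_eq (T : Type u) [CommRing T] [IsLocalRing T]
    (b : (X.presheaf.stalk x') →+* T) [IsLocalHom b]
    (g : Spec (CommRingCat.of T) ⟶ Spec (CommRingCat.of R))
    (hg : g ≫ Hens2.specOf X x R = Spec.map (CommRingCat.ofHom b) ≫ X.fromSpecStalk x') :
    ∃ (hs : x' ⤳ x) (ρ : R →+* T), Spec.map (CommRingCat.ofHom ρ) = g ∧
      ρ.comp (algebraMap (X.presheaf.stalk x) R) = b.comp (X.presheaf.stalkSpecializes hs).hom := by
  let ρ' : CommRingCat.of R ⟶ CommRingCat.of T := Spec.preimage g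
  have hρ' : Spec.map ρ' = g := Spec.map_preimage g
  unfold Hens2.specOf at hg
  rw [← hρ', ← Category.assoc, ← Spec.map_comp] at hg
  have : IsLocalHom (CommRingCat.ofHom b).hom := by
    rw [CommRingCat.hom_ofHom]; infer_instance
  obtain ⟨hs, h⟩ := specializes_and_comp_eq x x' (CommRingCat.of T) _ (CommRingCat.ofHom b) hg
  refine ⟨hs, ρ'.hom, ?_, ?_⟩
  · rw [CommRingCat.ofHom_hom]; exact hρ'
  · have := congrArg CommRingCat.Hom.hom h
    exact this

end Sch2


section Main

variable (X : Scheme.{u}) (x x' : X)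
    (R : Type u) [CommRing R] [IsLocalRing R] [Algebra (X.presheaf.stalk x) R]
    [IsLocalHom (algebraMap (X.presheaf.stalk x) R)] [Hensel.IsStrictHenselization (X.presheaf.stalk x) R]
    (R' : Type u) [CommRing R'] [IsLocalRing R'] [Algebra (X.presheaf.stalk x') R']
    [IsLocalHom (algebraMap (X.presheaf.stalk x') R')] [Hensel.IsStrictHenselization (X.presheaf.stalk x') R']

/-- S5593 -/
theorem exists_specialization_map_iff :
    (∃ g : Spec (CommRingCat.of R') ⟶ Spec (CommRingCat.of R),
      g ≫ Hens2.specOf X x R = Hens2.specOf X x' R') ↔ x' ⤳ x := by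
  constructor
  · rintro ⟨g, hg⟩
    obtain ⟨hs, -⟩ := exists_ringHom_of_comp_eq X x x' R R' (algebraMap (X.presheaf.stalk x') R') g hg
    exact hs
  · intro hs
    have hH : HenselianLocalRing R' := Hensel.IsStrictHenselization.henselian (R := X.presheaf.stalk x')
    have hsc : IsSepClosure (ResidueField (X.presheaf.stalk x')) (ResidueField R') :=
      Hensel.IsStrictHenselization.isSepClosure
    have : IsSepClosed (ResidueField R') := hsc.sep_closed
    letI : Algebra (X.presheaf.stalk x) R' := algOfSpecializes X x x' hs R'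
    obtain ⟨η⟩ := nonempty_algHom_field (X.presheaf.stalk x) R (ResidueField R')
    obtain ⟨g₀, hg₀, -⟩ := existsUnique_algHom_of_residue (X.presheaf.stalk x) R R' η
    refine ⟨Spec.map (CommRingCat.ofHom g₀.toRingHom), specOf_of_ringHom X x x' R R' hs _ ?_⟩
    exact g₀.comp_algebraMap

end Main


section Main2

variable (X : Scheme.{u}) (x x' : X)
    (R : Type u) [CommRing R] [IsLocalRing R] [Algebra (X.presheaf.stalk x) R]
    [IsLocalHom (algebraMap (X.presheaf.stalk x) R)] [Hensel.IsStrictHenselization (X.presheaf.stalk x) R]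
    (R' : Type u) [CommRing R'] [IsLocalRing R'] [Algebra (X.presheaf.stalk x') R']
    [IsLocalHom (algebraMap (X.presheaf.stalk x') R')] [Hensel.IsStrictHenselization (X.presheaf.stalk x') R']

/-- S5594, injectivity -/
theorem specialization_map_ext (g₁ g₂ : Spec (CommRingCat.of R') ⟶ Spec (CommRingCat.of R))
    (h₁ : g₁ ≫ Hens2.specOf X x R = Hens2.specOf X x' R')
    (h₂ : g₂ ≫ Hens2.specOf X x R = Hens2.specOf X x' R')
    (h₃ : Spec.map (CommRingCat.ofHom (IsLocalRing.residue R')) ≫ g₁ =
      Spec.map (CommRingCat.ofHom (IsLocalRing.residue R')) ≫ g₂) : g₁ = g₂ := by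
  obtain ⟨hs, ρ₁, hρ₁, hc₁⟩ :=
    exists_ringHom_of_comp_eq X x x' R R' (algebraMap (X.presheaf.stalk x') R') g₁ h₁
  obtain ⟨hs₂, ρ₂, hρ₂, hc₂⟩ :=
    exists_ringHom_of_comp_eq X x x' R R' (algebraMap (X.presheaf.stalk x') R') g₂ h₂
  have hH : HenselianLocalRing R' := Hensel.IsStrictHenselization.henselian (R := X.presheaf.stalk x')
  letI : Algebra (X.presheaf.stalk x) R' := algOfSpecializes X x x' hs R'
  let G₁ : R →ₐ[X.presheaf.stalk x] R' := { ρ₁ with commutes' := fun r => congr($hc₁ r) }
  let G₂ : R →ₐ[X.presheaf.stalk x] R' := { ρ₂ with commutes' := fun r => congr($hc₂ r) }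
  rw [← hρ₁, ← hρ₂, ← Spec.map_comp, ← Spec.map_comp] at h₃
  have h₄ := congrArg CommRingCat.Hom.hom (Spec.map_injective h₃)
  have h₅ : ∀ r, residue R' (ρ₁ r) = residue R' (ρ₂ r) := fun r => congr($h₄ r)
  let η : R →ₐ[X.presheaf.stalk x] ResidueField R' :=
    (IsScalarTower.toAlgHom (X.presheaf.stalk x) R' (ResidueField R')).comp G₁
  obtain ⟨G, -, hGuniq⟩ := existsUnique_algHom_of_residue (X.presheaf.stalk x) R R' η
  have e₁ : G₁ = G := hGuniq G₁ (fun r => rfl)
  have e₂ : G₂ = G := hGuniq G₂ (fun r => (h₅ r).symm)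
  have e : ρ₁ = ρ₂ := by
    ext r
    exact congr($(e₁.trans e₂.symm) r)
  rw [← hρ₁, ← hρ₂, e]

/-- S5594, surjectivity -/
theorem exists_specialization_map_of_residue
    (h : Spec (CommRingCat.of (IsLocalRing.ResidueField R')) ⟶ Spec (CommRingCat.of R))
    (hh : h ≫ Hens2.specOf X x R = Hens2.geomPt X x' R') :
    ∃ g : Spec (CommRingCat.of R') ⟶ Spec (CommRingCat.of R),
      g ≫ Hens2.specOf X x R = Hens2.specOf X x' R' ∧
      Spec.map (CommRingCat.ofHom (IsLocalRing.residue R')) ≫ g = h := by
  have hH : HenselianLocalRing R' := Hensel.IsStrictHenselization.henselian (R := X.presheaf.stalk x')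
  let b : (X.presheaf.stalk x') →+* ResidueField R' :=
    (residue R').comp (algebraMap (X.presheaf.stalk x') R')
  have hb : Hens2.geomPt X x' R' = Spec.map (CommRingCat.ofHom b) ≫ X.fromSpecStalk x' := by
    unfold Hens2.geomPt Hens2.specOf
    rw [← Category.assoc, ← Spec.map_comp, ← CommRingCat.ofHom_comp]
  rw [hb] at hh
  obtain ⟨hs, η₀, hη₀, hc⟩ := exists_ringHom_of_comp_eq X x x' R (ResidueField R') b h hh
  letI : Algebra (X.presheaf.stalk x) R' := algOfSpecializes X x x' hs R'
  let η : R →ₐ[X.presheaf.stalk x] ResidueField R' := { η₀ with commutes' := fun r => congr($hc r) }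
  obtain ⟨G, hG, -⟩ := existsUnique_algHom_of_residue (X.presheaf.stalk x) R R' η
  refine ⟨Spec.map (CommRingCat.ofHom G.toRingHom),
    specOf_of_ringHom X x x' R R' hs _ G.comp_algebraMap, ?_⟩
  rw [← Spec.map_comp, ← CommRingCat.ofHom_comp, ← hη₀]
  congr 2
  ext r
  exact hG r

end Main2

end Groth.Agent.Lib.Seat25.StrictSpec
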