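import Mathlib.CategoryTheory.Triangulated.TStructure.TruncLEGT
import Mathlib.CategoryTheory.Triangulated.TStructure.Heart
import Mathlib.CategoryTheory.Triangulated.HomologicalFunctor

/-!
# The degree-zero cohomology functor of a t-structure is homological (BBD 1.3.6)

C-level lemmas about `τ≤0 τ≥0` and `τ≥0 τ≤0` on distinguished triangles, and the transfer to a
heart `H`.
-/

set_option autoImplicit false
universe v u v' u'
open CategoryTheory CategoryTheory.Limits CategoryTheory.Pretriangulated CategoryTheory.Triangulated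

namespace Groth.Agent.Lib.Seat25.TStrH0

variable {C : Type u} [Category.{v} C] [Preadditive C] [HasZeroObject C] [HasShift C ℤ]
  [∀ n : ℤ, (shiftFunctor C n).Additive] [Pretriangulated C] [IsTriangulated C]
  (t : TStructure C)

set_option backward.defeqAttrib.useBackward true in
set_option backward.isDefEq.respectTransparency false in
/-- If the third vertex of a distinguished triangle is `≥ n`, then `τ≥n` of the first map fits in a
distinguished triangle with the same third vertex. -/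
theorem exists_triangle_truncGE (T : Triangle C) (hT : T ∈ distTriang C) (n : ℤ)
    [t.IsGE T.obj₃ n] :
    ∃ (γ : (t.truncGE n).obj T.obj₂ ⟶ T.obj₃)
      (δ : T.obj₃ ⟶ ((t.truncGE n).obj T.obj₁)⟦(1 : ℤ)⟧),
      Triangle.mk ((t.truncGE n).map T.mor₁) γ δ ∈ distTriang C ∧
      (t.truncGEπ n).app T.obj₂ ≫ γ = T.mor₂ := by
  obtain ⟨M, g, k, mem⟩ := distinguished_cocone_triangle ((t.truncLTι n).app T.obj₁ ≫ T.mor₁)
  let H := someOctahedron rfl (t.triangleLTGE_distinguished n T.obj₁) hT mem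
  have hM : t.IsGE M n := t.isGE₂ _ H.mem n (by dsimp; infer_instance) (by dsimp; infer_instance)
  obtain ⟨e', he'⟩ := t.triangle_iso_exists mem (t.triangleLTGE_distinguished n T.obj₂)
    (Iso.refl _) (n - 1) n (by dsimp; infer_instance) (by dsimp; infer_instance)
    (by dsimp; infer_instance) (by dsimp; infer_instance)
  let φ : M ≅ (t.truncGE n).obj T.obj₂ := Triangle.π₃.mapIso e'
  have hφ : g ≫ φ.hom = (t.truncGEπ n).app T.obj₂ := by
    have := e'.hom.comm₂
    dsimp at this he'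
    rw [he', Category.id_comp] at this
    exact this
  have hφ' : (t.truncGEπ n).app T.obj₂ ≫ φ.inv = g := by
    rw [← hφ, Category.assoc, φ.hom_inv_id, Category.comp_id]
  refine ⟨φ.inv ≫ H.m₃, T.mor₃ ≫ ((t.truncGEπ n).app T.obj₁)⟦(1 : ℤ)⟧', ?_, ?_⟩
  · refine isomorphic_distinguished _ H.mem _ ?_
    refine Triangle.isoMk _ _ (Iso.refl _) φ.symm (Iso.refl _) ?_ ?_ ?_
    · dsimp
      rw [Category.id_comp]
      have h1 := H.comm₁
      dsimp at h1
      have := hM
      apply t.from_truncGE_obj_ext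
      rw [h1, ← hφ', ← (t.truncGEπ n).naturality_assoc]
      rfl
    · dsimp
      rw [Category.comp_id]
    · dsimp
      simp
  · rw [reassoc_of% hφ']
    exact H.comm₃

set_option backward.defeqAttrib.useBackward true in
set_option backward.isDefEq.respectTransparency false in
/-- If the first vertex of a distinguished triangle is `≤ n`, then `τ≤n` of the second map fits in a
distinguished triangle with the same first vertex. -/
theorem exists_triangle_truncLE (T : Triangle C) (hT : T ∈ distTriang C) (n : ℤ)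
    [t.IsLE T.obj₁ n] :
    ∃ (α : T.obj₁ ⟶ (t.truncLE n).obj T.obj₂)
      (δ : (t.truncLE n).obj T.obj₃ ⟶ T.obj₁⟦(1 : ℤ)⟧),
      Triangle.mk α ((t.truncLE n).map T.mor₂) δ ∈ distTriang C ∧
      α ≫ (t.truncLEι n).app T.obj₂ = T.mor₁ := by
  have hα : t.liftTruncLE T.mor₁ n ≫ (t.truncLEι n).app T.obj₂ = T.mor₁ := t.liftTruncLE_ι _ _
  obtain ⟨M, v, w, mem⟩ := distinguished_cocone_triangle (t.liftTruncLE T.mor₁ n)
  let H := someOctahedron hα mem (t.triangleLEGT_distinguished n T.obj₂) hT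
  have hM : t.IsLE M n := by
    refine t.isLE₂ _ (rot_of_distTriang _ mem) n (by dsimp; infer_instance) ?_
    dsimp
    have := t.isLE_shift T.obj₁ n 1 (n - 1) (by lia)
    exact t.isLE_of_le _ (n - 1) n (by lia)
  obtain ⟨e', he'⟩ := t.triangle_iso_exists H.mem (t.triangleLEGT_distinguished n T.obj₃)
    (Iso.refl _) n (n + 1) (by dsimp; infer_instance) (by dsimp; infer_instance)
    (by dsimp; infer_instance) (by dsimp; infer_instance)
  let ψ : M ≅ (t.truncLE n).obj T.obj₃ := Triangle.π₁.mapIso e'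
  have hψ : ψ.hom ≫ (t.truncLEι n).app T.obj₃ = H.m₁ := by
    have := e'.hom.comm₁
    dsimp at this he'
    rw [he', Category.comp_id] at this
    exact this.symm
  refine ⟨t.liftTruncLE T.mor₁ n, ψ.inv ≫ w, ?_, hα⟩
  refine isomorphic_distinguished _ mem _ ?_
  refine Triangle.isoMk _ _ (Iso.refl _) (Iso.refl _) ψ.symm ?_ ?_ ?_
  · dsimp
    simp
  · dsimp
    rw [Category.id_comp]
    have h1 := H.comm₁
    dsimp at h1
    rw [← cancel_mono ψ.hom, Category.assoc, ψ.inv_hom_id, Category.comp_id]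
    apply t.to_truncLE_obj_ext
    rw [Category.assoc, hψ, h1, (t.truncLEι n).naturality]
    rfl
  · dsimp
    simp

/-- Mono-type property of `τ≤0 τ≥0` applied to the first map of a distinguished triangle whose
third vertex is `≥ 0`, tested against objects `≤ 0`. -/
theorem eq_zero_of_comp_map_eq_zero (T : Triangle C) (hT : T ∈ distTriang C) [t.IsGE T.obj₃ 0]
    {U : C} [t.IsLE U 0] (u : U ⟶ (t.truncLE 0).obj ((t.truncGE 0).obj T.obj₁))
    (hu : u ≫ (t.truncLE 0).map ((t.truncGE 0).map T.mor₁) = 0) : u = 0 := by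
  obtain ⟨γ, δ, hmem, -⟩ := exists_triangle_truncGE t T hT 0
  have h1 : (u ≫ (t.truncLEι 0).app _) ≫ (t.truncGE 0).map T.mor₁ = 0 := by
    have := (t.truncLEι 0).naturality ((t.truncGE 0).map T.mor₁)
    rw [Functor.id_map] at this
    rw [Category.assoc, ← this, reassoc_of% hu, zero_comp]
  obtain ⟨g', hg'⟩ := Triangle.coyoneda_exact₂ _ (inv_rot_of_distTriang _ hmem) _ h1
  have : t.IsGE ((shiftFunctor C (-1 : ℤ)).obj T.obj₃) 1 := t.isGE_shift T.obj₃ 0 (-1) 1 (by lia)
  have hz : g' = 0 := t.zero_of_isLE_of_isGE g' 0 1 (by lia) inferInstance this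
  rw [hz, zero_comp] at hg'
  apply t.to_truncLE_obj_ext
  rw [zero_comp]
  exact hg'

/-- Cokernel-type factorisation property of `τ≥0 τ≤0` applied to a distinguished triangle whose
first vertex is `≤ 0`, tested against objects `≥ 0`. -/
theorem exists_fac_of_map_comp_eq_zero (T : Triangle C) (hT : T ∈ distTriang C) [t.IsLE T.obj₁ 0]
    {V : C} [t.IsGE V 0] (w : (t.truncGE 0).obj ((t.truncLE 0).obj T.obj₂) ⟶ V)
    (hw : (t.truncGE 0).map ((t.truncLE 0).map T.mor₁) ≫ w = 0) :
    ∃ w' : (t.truncGE 0).obj ((t.truncLE 0).obj T.obj₃) ⟶ V,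
      (t.truncGE 0).map ((t.truncLE 0).map T.mor₂) ≫ w' = w := by
  obtain ⟨α, δ, hmem, hα⟩ := exists_triangle_truncLE t T hT 0
  have h0 : (t.truncLE 0).map T.mor₁ = (t.truncLEι 0).app T.obj₁ ≫ α := by
    apply t.to_truncLE_obj_ext
    rw [Category.assoc, hα]
    exact (t.truncLEι 0).naturality T.mor₁
  have h1 : α ≫ ((t.truncGEπ 0).app ((t.truncLE 0).obj T.obj₂) ≫ w) = 0 := by
    rw [← cancel_epi ((t.truncLEι 0).app T.obj₁), ← Category.assoc, ← h0, comp_zero]
    have := (t.truncGEπ 0).naturality ((t.truncLE 0).map T.mor₁)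
    rw [Functor.id_map] at this
    rw [reassoc_of% this, hw, comp_zero]
  obtain ⟨w₂, hw₂⟩ := Triangle.yoneda_exact₂ _ hmem _ h1
  refine ⟨t.descTruncGE w₂ 0, ?_⟩
  apply t.from_truncGE_obj_ext
  have := (t.truncGEπ 0).naturality ((t.truncLE 0).map T.mor₂)
  rw [Functor.id_map] at this
  have h2 : (t.truncGEπ 0).app ((t.truncLE 0).obj T.obj₃) ≫ t.descTruncGE w₂ 0 = w₂ :=
    t.π_descTruncGE w₂ 0
  rw [← reassoc_of% this, h2]
  exact hw₂.symm

section Heart

variable {t}
variable {H : Type u'} [Category.{v'} H] [Abelian H] [t.Heart H] {H0 : C ⥤ H}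

/-- The other composite: `H0 ⋙ ι ≅ τ≤0 ⋙ τ≥0`. -/
noncomputable def isoGELE (e : H0 ⋙ t.ιHeart ≅ t.truncGE 0 ⋙ t.truncLE 0) :
    H0 ⋙ t.ιHeart ≅ t.truncLE 0 ⋙ t.truncGE 0 :=
  e ≪≫ (t.truncGELEIsoLEGE 0 0).symm

theorem preservesZeroMorphisms (e : H0 ⋙ t.ιHeart ≅ t.truncGE 0 ⋙ t.truncLE 0) :
    H0.PreservesZeroMorphisms := by
  have : (H0 ⋙ t.ιHeart).PreservesZeroMorphisms := Functor.preservesZeroMorphisms_of_iso e.symm
  refine ⟨fun X Y => ?_⟩
  apply (t.ιHeart (H := H)).map_injective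
  have h := (H0 ⋙ t.ιHeart (H := H)).map_zero X Y
  rw [Functor.comp_map] at h
  rw [h, Functor.map_zero]

theorem mono_map_mor₁ (e : H0 ⋙ t.ιHeart ≅ t.truncGE 0 ⋙ t.truncLE 0)
    (T : Triangle C) (hT : T ∈ distTriang C) [t.IsGE T.obj₃ 0] : Mono (H0.map T.mor₁) := by
  refine Preadditive.mono_of_cancel_zero _ (fun {U} u hu => ?_)
  apply (t.ιHeart (H := H)).map_injective
  rw [Functor.map_zero]
  have h1 : (t.ιHeart.map u ≫ e.hom.app T.obj₁) ≫
      (t.truncLE 0).map ((t.truncGE 0).map T.mor₁) = 0 := by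
    have := e.hom.naturality T.mor₁
    rw [Functor.comp_map, Functor.comp_map] at this
    rw [Category.assoc, ← this, ← Category.assoc, ← Functor.map_comp, hu, Functor.map_zero,
      zero_comp]
  have h2 := eq_zero_of_comp_map_eq_zero t T hT _ h1
  have h3 : t.ιHeart.map u = (t.ιHeart.map u ≫ e.hom.app T.obj₁) ≫ e.inv.app T.obj₁ := by
    rw [Category.assoc, Iso.hom_inv_id_app]
    exact (Category.comp_id _).symm
  rw [h3, h2, zero_comp]

theorem exact_of_isLE (e : H0 ⋙ t.ιHeart ≅ t.truncGE 0 ⋙ t.truncLE 0)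
    [H0.PreservesZeroMorphisms]
    (T : Triangle C) (hT : T ∈ distTriang C) [t.IsLE T.obj₁ 0] :
    ((shortComplexOfDistTriangle T hT).map H0).Exact := by
  rw [ShortComplex.exact_iff_kernel_ι_comp_cokernel_π_zero]
  let e' := isoGELE e
  let S := (shortComplexOfDistTriangle T hT).map H0
  suffices ∃ wt : S.X₃ ⟶ cokernel S.f, S.g ≫ wt = cokernel.π S.f by
    obtain ⟨wt, hwt⟩ := this
    change kernel.ι S.g ≫ cokernel.π S.f = 0
    rw [← hwt, kernel.condition_assoc, zero_comp]
  let w : H0.obj T.obj₂ ⟶ cokernel S.f := cokernel.π S.f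
  have hw : H0.map T.mor₁ ≫ w = 0 := cokernel.condition S.f
  have h1 : (t.truncGE 0).map ((t.truncLE 0).map T.mor₁) ≫
      (e'.inv.app T.obj₂ ≫ t.ιHeart.map w) = 0 := by
    have := e'.inv.naturality T.mor₁
    rw [Functor.comp_map, Functor.comp_map] at this
    rw [reassoc_of% this, ← Functor.map_comp, hw, Functor.map_zero, comp_zero]
  obtain ⟨w', hw'⟩ := exists_fac_of_map_comp_eq_zero t T hT _ h1
  let k : t.ιHeart.obj (H0.obj T.obj₃) ⟶ t.ιHeart.obj (cokernel S.f) :=
    e'.hom.app T.obj₃ ≫ w'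
  have hk : t.ιHeart.map ((t.ιHeart (H := H)).preimage k) = k :=
    (t.ιHeart (H := H)).map_preimage k
  refine ⟨(t.ιHeart (H := H)).preimage k, ?_⟩
  change H0.map T.mor₂ ≫ (t.ιHeart (H := H)).preimage k = w
  apply (t.ιHeart (H := H)).map_injective
  rw [Functor.map_comp, hk]
  have := e'.hom.naturality T.mor₂
  rw [Functor.comp_map, Functor.comp_map] at this
  change t.ιHeart.map (H0.map T.mor₂) ≫ e'.hom.app T.obj₃ ≫ w' = _
  rw [reassoc_of% this, hw', Iso.hom_inv_id_app_assoc]

theorem isIso_map_truncLEι (e : H0 ⋙ t.ιHeart ≅ t.truncGE 0 ⋙ t.truncLE 0) (X : C) :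
    IsIso (H0.map ((t.truncLEι 0).app X)) := by
  have h1 : IsIso ((t.truncLE 0 ⋙ t.truncGE 0).map ((t.truncLEι 0).app X)) := by
    rw [Functor.comp_map]
    infer_instance
  have h2 : IsIso ((H0 ⋙ t.ιHeart (H := H)).map ((t.truncLEι 0).app X)) :=
    (NatIso.isIso_map_iff (isoGELE e) _).2 h1
  rw [Functor.comp_map] at h2
  exact isIso_of_fully_faithful (t.ιHeart (H := H)) _

set_option backward.defeqAttrib.useBackward true in
set_option backward.isDefEq.respectTransparency false in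
theorem exact_of_distTriang (e : H0 ⋙ t.ιHeart ≅ t.truncGE 0 ⋙ t.truncLE 0)
    [H0.PreservesZeroMorphisms]
    (T : Triangle C) (hT : T ∈ distTriang C) :
    ((shortComplexOfDistTriangle T hT).map H0).Exact := by
  obtain ⟨W, c, d, hmem⟩ :=
    distinguished_cocone_triangle ((t.truncLEι 0).app T.obj₁ ≫ T.mor₁)
  let Oct := someOctahedron rfl (t.triangleLEGT_distinguished 0 T.obj₁) hT hmem
  have hLE : t.IsLE (Triangle.mk ((t.truncLEι 0).app T.obj₁ ≫ T.mor₁) c d).obj₁ 0 := by
    dsimp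
    infer_instance
  have hex := exact_of_isLE e _ hmem
  have hmono : Mono (H0.map Oct.m₃) := by
    have hrot := rot_of_distTriang _ Oct.mem
    have : t.IsGE (Triangle.rotate (Triangle.mk Oct.m₁ Oct.m₃
        (T.mor₃ ≫ ((t.truncGTπ 0).app T.obj₁)⟦(1 : ℤ)⟧'))).obj₃ 0 := by
      dsimp
      have : t.IsGE ((t.truncGT 0).obj T.obj₁) 1 := by
        have : t.IsGE ((t.truncGT 0).obj T.obj₁) (0 + 1) := inferInstance
        exact this
      exact t.isGE_shift _ 1 1 0
    exact mono_map_mor₁ e _ hrot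
  have hiso := isIso_map_truncLEι e T.obj₁
  let φ : (shortComplexOfDistTriangle _ hmem).map H0 ⟶ (shortComplexOfDistTriangle T hT).map H0 :=
    { τ₁ := H0.map ((t.truncLEι 0).app T.obj₁)
      τ₂ := 𝟙 _
      τ₃ := H0.map Oct.m₃
      comm₁₂ := by
        dsimp
        rw [Category.comp_id, ← Functor.map_comp]
      comm₂₃ := by
        dsimp
        rw [Category.id_comp, ← Functor.map_comp]
        congr 1
        exact Oct.comm₃.symm }
  have : Epi φ.τ₁ := by dsimp [φ]; infer_instance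
  have : IsIso φ.τ₂ := by dsimp [φ]; infer_instance
  have : Mono φ.τ₃ := hmono
  exact (ShortComplex.exact_iff_of_epi_of_isIso_of_mono φ).1 hex

/-- BBD 1.3.6: a functor `H0 : C ⥤ H` to the heart lifting `τ≤0 τ≥0` is homological. -/
theorem isHomological (e : H0 ⋙ t.ιHeart ≅ t.truncGE 0 ⋙ t.truncLE 0) : H0.IsHomological := by
  have := preservesZeroMorphisms e
  exact { exact := fun T hT => exact_of_distTriang e T hT }

end Heart

end Groth.Agent.Lib.Seat25.TStrH0
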