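import Mathlib

/-!
# Base change of kernels along an arbitrary ring map, when the cokernel is flat (seat 26)

* `isBaseChange_of_left_exact_of_flat`: variant of Mathlib's `IsBaseChange.of_left_exact` where,
  instead of `S` flat over `R`, the third module `M₃` is flat over `R` and `M₂ → M₃` is surjective.
* `isBaseChange_of_restrictScalars_of_isPushout`: for a pushout square of rings, a map that is a base
  change along `A → R` is a base change along `PA → PR`.
* `finitePresentation_of_surjective_algebraMap`: a module over a quotient ring which is finitely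
  presented over the big ring is finitely presented over the quotient.
-/

set_option autoImplicit false
set_option linter.style.haveILetI false
set_option linter.unusedSimpArgs false

namespace Groth.Agent.Lib.Seat26.BCKer

open TensorProduct

section LeftExact

variable {R : Type*} [CommRing R] (S : Type*) [CommRing S] [Algebra R S]

variable {M₁ M₂ M₃ N₁ N₂ N₃ : Type*} [AddCommGroup M₁] [AddCommGroup M₂] [AddCommGroup M₃]
  [AddCommGroup N₁] [AddCommGroup N₂] [AddCommGroup N₃] [Module R M₁] [Module R M₂] [Module R M₃]
  [Module R N₁] [Module R N₂] [Module R N₃] [Module S N₁] [Module S N₂] [Module S N₃]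
  [IsScalarTower R S N₁] [IsScalarTower R S N₂] [IsScalarTower R S N₃]
  (h₁ : M₁ →ₗ[R] N₁) (h₂ : M₂ →ₗ[R] N₂) (h₃ : M₃ →ₗ[R] N₃)
  {f : M₁ →ₗ[R] M₂} {g : M₂ →ₗ[R] M₃} {f' : N₁ →ₗ[S] N₂} {g' : N₂ →ₗ[S] N₃}

/-- If `0 → M₁ → M₂ → M₃ → 0` is exact with `M₃` flat over `R`, `N₂`, `N₃` are the base changes of
`M₂`, `M₃` to `S` and `0 → N₁ → N₂ → N₃` is exact, then `N₁` is the base change of `M₁`. -/
theorem isBaseChange_of_left_exact_of_flat (comm₁ : h₂.comp f = (f'.restrictScalars R).comp h₁)
    (comm₂ : h₃.comp g = (g'.restrictScalars R).comp h₂) [Module.Flat R M₃]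
    (isb₂ : IsBaseChange S h₂) (isb₃ : IsBaseChange S h₃)
    (exact₁ : Function.Exact f g) (inj₁ : Function.Injective f) (surj₁ : Function.Surjective g)
    (exact₂ : Function.Exact f' g') (inj₂ : Function.Injective f') : IsBaseChange S h₁ := by
  simp only [IsBaseChange, IsTensorProduct] at isb₂ isb₃ ⊢
  refine LinearMap.bijective_of_bijective_of_injective_of_left_exact
    ((f.baseChange S).restrictScalars R) ((g.baseChange S).restrictScalars R)
    (f'.restrictScalars R) (g'.restrictScalars R) _ _ _ ?_ ?_ ?_ exact₂ isb₂ isb₃.1 ?_ inj₂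
  · ext s m
    simpa using congr(s • ($comm₁ m)).symm
  · ext s m
    simpa using congr(s • ($comm₂ m)).symm
  · exact lTensor_exact S exact₁ surj₁
  · exact LinearMap.lTensor_injective_of_exact_of_flat g surj₁ f inj₁ exact₁ S

end LeftExact

section Pushout

/-- Base change along a pushout square of rings: a map `X → Y` which is a base change along `A → R`
is also a base change along `P_A → P_R`. -/
theorem isBaseChange_of_restrictScalars_of_isPushout {A R PA PR X Y : Type*} [CommRing A] [CommRing R]
    [CommRing PA] [CommRing PR] [Algebra A R] [Algebra A PA] [Algebra A PR] [Algebra R PR]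
    [Algebra PA PR] [IsScalarTower A PA PR] [IsScalarTower A R PR] [Algebra.IsPushout A R PA PR]
    [AddCommGroup X] [Module PA X] [Module A X] [IsScalarTower A PA X]
    [AddCommGroup Y] [Module PR Y] [Module PA Y] [IsScalarTower PA PR Y] [Module R Y]
    [IsScalarTower R PR Y] [Module A Y] [IsScalarTower A R Y] [IsScalarTower A PA Y]
    (f : X →ₗ[PA] Y) (hf : IsBaseChange R (f.restrictScalars A)) : IsBaseChange PR f := by
  let θ : PR ⊗[PA] X ≃ₗ[R] R ⊗[A] X := Algebra.IsPushout.cancelBaseChange A R PA PR X
  let c : PR ⊗[PA] X →ₗ[PR] Y :=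
    TensorProduct.AlgebraTensorModule.lift (((Algebra.linearMap PR (Module.End PR (X →ₗ[PA] Y))).flip f))
  have key : ∀ z : R ⊗[A] X, c (θ.symm z) = hf.equiv z := by
    intro z
    induction z with
    | zero => simp
    | add a b ha hb => simp only [map_add, ha, hb]
    | tmul r x =>
      rw [Algebra.IsPushout.cancelBaseChange_symm_tmul, IsBaseChange.equiv_tmul]
      simp [c]
  have hc : Function.Bijective c := by
    have : (c : PR ⊗[PA] X → Y) = (hf.equiv : R ⊗[A] X → Y) ∘ (θ : PR ⊗[PA] X → R ⊗[A] X) := by
      funext z
      rw [Function.comp_apply, ← key, LinearEquiv.symm_apply_apply]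
    rw [this]
    exact hf.equiv.bijective.comp θ.bijective
  exact hc

end Pushout

section Quot

variable {P B : Type*} [CommRing P] [CommRing B] [Algebra P B]

/-- coordinatewise `P^n → B^n`. -/
noncomputable def coordMap (ι : Type*) : (ι → P) →ₗ[P] (ι → B) := (Algebra.linearMap P B).compLeft ι

theorem coordMap_apply {ι : Type*} (x : ι → P) (i : ι) : coordMap (B := B) ι x i = algebraMap P B (x i) := rfl

theorem coordMap_surjective (h : Function.Surjective (algebraMap P B)) (ι : Type*) :
    Function.Surjective (coordMap (P := P) (B := B) ι) := by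
  intro y
  choose x hx using fun i => h (y i)
  exact ⟨x, funext hx⟩

/-- A `B`-module which is finitely presented over `P`, where `P → B` is surjective, is finitely
presented over `B`. -/
theorem finitePresentation_of_surjective_algebraMap (h : Function.Surjective (algebraMap P B))
    (K : Type*) [AddCommGroup K] [Module P K] [Module B K] [IsScalarTower P B K]
    [Module.FinitePresentation P K] : Module.FinitePresentation B K := by
  classical
  haveI : Module.Finite B K := Module.Finite.of_restrictScalars_finite P B K
  obtain ⟨n, β, hβ⟩ := Module.Finite.exists_fin' B K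
  let F : (Fin n → P) →ₗ[P] (Fin n → B) := coordMap (Fin n)
  have hF : Function.Surjective F := coordMap_surjective h _
  let βP : (Fin n → P) →ₗ[P] K := (β.restrictScalars P) ∘ₗ F
  have hβP : Function.Surjective βP := hβ.comp hF
  obtain ⟨s, hs⟩ := Module.FinitePresentation.fg_ker βP hβP
  refine Module.finitePresentation_of_surjective β hβ ⟨s.image F, ?_⟩
  apply le_antisymm
  · rw [Submodule.span_le]
    intro x hx
    simp only [Finset.coe_image, Set.mem_image, Finset.mem_coe] at hx
    obtain ⟨y, hy, rfl⟩ := hx
    have : y ∈ LinearMap.ker βP := hs ▸ Submodule.subset_span hy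
    exact this
  · intro x hx
    obtain ⟨y, rfl⟩ := hF x
    have hy : y ∈ LinearMap.ker βP := hx
    rw [← hs] at hy
    refine Submodule.span_induction (p := fun y _ => F y ∈ Submodule.span B ((s.image F : Finset _) : Set (Fin n → B)))
      ?_ ?_ ?_ ?_ hy
    · intro z hz
      exact Submodule.subset_span (by simpa using ⟨z, hz, rfl⟩)
    · simp
    · intro a b _ _ ha hb
      rw [map_add]
      exact Submodule.add_mem _ ha hb
    · intro a z _ hz
      rw [map_smul, ← algebraMap_smul B a (F z)]
      exact Submodule.smul_mem _ _ hz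

end Quot

section Descent

/-- Base change along a pushout square of rings: a base change `X → Y` along `P_A → P_R` is also
a base change along `A → R`. (Same as helper3's `isBaseChange_restrictScalars_of_isPushout`.) -/
theorem isBaseChange_restrictScalars_of_isPushout' {A R PA PR X Y : Type*} [CommRing A] [CommRing R]
    [CommRing PA] [CommRing PR] [Algebra A R] [Algebra A PA] [Algebra A PR] [Algebra R PR]
    [Algebra PA PR] [IsScalarTower A PA PR] [IsScalarTower A R PR] [Algebra.IsPushout A R PA PR]
    [AddCommGroup X] [Module PA X] [Module A X] [IsScalarTower A PA X]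
    [AddCommGroup Y] [Module PR Y] [Module PA Y] [IsScalarTower PA PR Y] [Module R Y]
    [IsScalarTower R PR Y] [Module A Y] [IsScalarTower A R Y] [IsScalarTower A PA Y]
    (f : X →ₗ[PA] Y) (hf : IsBaseChange PR f) : IsBaseChange R (f.restrictScalars A) := by
  let e : R ⊗[A] X ≃ₗ[R] Y :=
    (Algebra.IsPushout.cancelBaseChange A R PA PR X).symm ≪≫ₗ (hf.equiv.restrictScalars R)
  refine IsBaseChange.of_equiv e fun x => ?_
  simp [e, IsBaseChange.equiv_tmul]

/-- **Key descent lemma.** If the `R`-module `M` is the base change (along `R'' → R`, the base change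
of `A'' → A`) of a finite module `M''` over the noetherian ring `R''` which is flat over `A''`,
then `M` is the quotient of a finite free `R`-module by a finitely presented submodule. -/
theorem exists_surjective_fp_ker_of_isBaseChange
    {A'' : Type*} (A : Type*) {R'' R : Type*} [CommRing A''] [CommRing A] [CommRing R''] [CommRing R]
    [Algebra A'' A] [Algebra A'' R''] [Algebra A'' R] [Algebra A R] [Algebra R'' R]
    [IsScalarTower A'' R'' R] [IsScalarTower A'' A R] [Algebra.IsPushout A'' A R'' R]
    [IsNoetherianRing R'']
    {M'' M : Type*} [AddCommGroup M''] [Module R'' M''] [Module A'' M''] [IsScalarTower A'' R'' M'']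
    [AddCommGroup M] [Module R M] [Module R'' M] [IsScalarTower R'' R M] [Module A M]
    [IsScalarTower A R M] [Module A'' M] [IsScalarTower A'' A M] [IsScalarTower A'' R'' M]
    [Module.Finite R'' M''] [Module.Flat A'' M'']
    (ψ : M'' →ₗ[R''] M) (hψ : IsBaseChange R ψ) :
    ∃ (k : ℕ) (π : (Fin k → R) →ₗ[R] M), Function.Surjective π ∧
      Module.FinitePresentation R (LinearMap.ker π) := by
  obtain ⟨k, π'', hπ''⟩ := Module.Finite.exists_fin' R'' M''
  let F : (Fin k → R'') →ₗ[R''] (Fin k → R) := (Algebra.linearMap R'' R).compLeft (Fin k)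
  have hF : IsBaseChange R F := IsBaseChange.finitePow (Fin k) (IsBaseChange.linearMap R'' R)
  let π : (Fin k → R) →ₗ[R] M := hF.lift (ψ ∘ₗ π'')
  have hπF : ∀ x, π (F x) = ψ (π'' x) := fun x => hF.lift_eq _ x
  have hπ : Function.Surjective π := by
    intro m
    refine hψ.inductionOn m (fun m => ∃ x, π x = m) ⟨0, map_zero _⟩ ?_ ?_ ?_
    · intro m''
      obtain ⟨x, rfl⟩ := hπ'' m''
      exact ⟨F x, hπF x⟩
    · rintro r m ⟨x, rfl⟩
      exact ⟨r • x, map_smul _ _ _⟩
    · rintro m₁ m₂ ⟨x₁, rfl⟩ ⟨x₂, rfl⟩
      exact ⟨x₁ + x₂, map_add _ _ _⟩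
  let K'' := LinearMap.ker π''
  let j : K'' →ₗ[R''] LinearMap.ker π :=
    LinearMap.codRestrict ((LinearMap.ker π).restrictScalars R'') (F ∘ₗ K''.subtype) (by
      intro x
      change π (F x.1) = 0
      rw [hπF, x.2, map_zero])
  have hFA : IsBaseChange A (F.restrictScalars A'') := isBaseChange_restrictScalars_of_isPushout' F hF
  have hψA : IsBaseChange A (ψ.restrictScalars A'') := isBaseChange_restrictScalars_of_isPushout' ψ hψ
  have hjA : IsBaseChange A (j.restrictScalars A'') :=
    isBaseChange_of_left_exact_of_flat A (j.restrictScalars A'') (F.restrictScalars A'')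
      (ψ.restrictScalars A'') (f := K''.subtype.restrictScalars A'') (g := π''.restrictScalars A'')
      (f' := (LinearMap.ker π).subtype.restrictScalars A) (g' := π.restrictScalars A)
      (LinearMap.ext fun x => rfl) (LinearMap.ext fun x => (hπF x).symm) hFA hψA
      (LinearMap.exact_subtype_ker_map π'') (Submodule.injective_subtype _) hπ''
      (LinearMap.exact_subtype_ker_map π) (Submodule.injective_subtype _)
  have hj : IsBaseChange R j := isBaseChange_of_restrictScalars_of_isPushout j hjA
  haveI : Module.FinitePresentation R'' K'' := Module.finitePresentation_of_finite R'' K''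
  exact ⟨k, π, hπ, FinitePresentation.of_isBaseChange j hj⟩

end Descent

end Groth.Agent.Lib.Seat26.BCKer
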