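import Groth.Prelude.Def_Exal
import Groth.Prelude.Def_Exal2
import Mathlib.Tactic.LinearCombination
import Mathlib.Tactic.Ring

set_option autoImplicit false
universe u u' v

namespace Groth.Agent.Lib.Seat26.ExalPB

attribute [local instance] _root_.Exal.opModule _root_.Exal.isCentralScalar_opModule

section

variable {Λ : Type u} {A : Type u'} {B C L : Type v}
    [CommRing Λ] [CommRing A] [CommRing B] [CommRing C] [Algebra Λ A] [Algebra Λ B] [Algebra Λ C]
    [Algebra A B] [Algebra B C] [Algebra A C] [IsScalarTower Λ A B] [IsScalarTower Λ A C] [IsScalarTower A B C]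
    [AddCommGroup L] [Module C L] [Module B L] [IsScalarTower B C L]

/-- Data of a ring-theoretic section of an extension. -/
structure Sec (Y : _root_.Exal.Ext A B L) where
  s : B →+* Y.E
  proj_s : ∀ b, Y.proj (s b) = b

variable (Y : _root_.Exal.Ext A B L) (σ : Sec Y)

theorem proj_sub (a : A) : Y.proj (algebraMap A Y.E a - σ.s (algebraMap A B a)) = 0 := by
  rw [map_sub, AlgHom.commutes, σ.proj_s, sub_self]

/-- the "derivation" `A → L` measuring the failure of the section to be `A`-linear. -/
noncomputable def dd (a : A) : L :=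
  Y.kerLift (algebraMap A Y.E a - σ.s (algebraMap A B a)) (proj_sub Y σ a)

theorem incl_dd (a : A) : Y.incl (dd Y σ a) = algebraMap A Y.E a - σ.s (algebraMap A B a) :=
  Y.incl_kerLift _ _

theorem dd_add (a a' : A) : dd Y σ (a + a') = dd Y σ a + dd Y σ a' := by
  apply Y.isExtension.incl_injective
  rw [map_add, incl_dd, incl_dd, incl_dd, map_add, map_add, map_add]
  ring

theorem dd_one : dd Y σ 1 = 0 := by
  apply Y.isExtension.incl_injective
  rw [incl_dd, map_one, map_one, map_one, map_zero, sub_self]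

theorem dd_zero : dd Y σ 0 = 0 := by
  apply Y.isExtension.incl_injective
  rw [incl_dd, map_zero, map_zero, map_zero, map_zero, sub_self]

theorem dd_mul (a a' : A) :
    dd Y σ (a * a') = algebraMap A B a • dd Y σ a' + algebraMap A B a' • dd Y σ a := by
  apply Y.isExtension.incl_injective
  rw [map_add, incl_dd]
  have h1 : Y.incl (algebraMap A B a • dd Y σ a') =
      algebraMap A Y.E a * (algebraMap A Y.E a' - σ.s (algebraMap A B a')) := by
    rw [← incl_dd, Y.isExtension.mul_incl, AlgHom.commutes]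
  have h2 : Y.incl (algebraMap A B a' • dd Y σ a) =
      σ.s (algebraMap A B a') * (algebraMap A Y.E a - σ.s (algebraMap A B a)) := by
    rw [← incl_dd, Y.isExtension.mul_incl, σ.proj_s]
  rw [h1, h2, map_mul, map_mul, map_mul]
  ring

/-- The ring map `A → C ⊕ L`, `a ↦ (a, d a)`. -/
noncomputable def phi : A →+* TrivSqZeroExt C L where
  toFun a := TrivSqZeroExt.inl (algebraMap A C a) + TrivSqZeroExt.inr (dd Y σ a)
  map_one' := by
    rw [map_one, dd_one, TrivSqZeroExt.inr_zero, add_zero, TrivSqZeroExt.inl_one]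
  map_mul' x y := by
    apply TrivSqZeroExt.ext
    · simp
    · simp only [TrivSqZeroExt.snd_add, TrivSqZeroExt.snd_inl, TrivSqZeroExt.snd_inr, zero_add,
        TrivSqZeroExt.snd_mul, TrivSqZeroExt.fst_add, TrivSqZeroExt.fst_inl, TrivSqZeroExt.fst_inr, add_zero,
        op_smul_eq_smul]
      rw [dd_mul, IsScalarTower.algebraMap_apply A B C x, IsScalarTower.algebraMap_apply A B C y,
        IsScalarTower.algebraMap_smul C (algebraMap A B x), IsScalarTower.algebraMap_smul C (algebraMap A B y)]
  map_zero' := by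
    rw [map_zero, dd_zero, TrivSqZeroExt.inl_zero, TrivSqZeroExt.inr_zero, add_zero]
  map_add' x y := by
    rw [map_add, dd_add, TrivSqZeroExt.inl_add, TrivSqZeroExt.inr_add]
    abel

theorem fst_phi (a : A) : TrivSqZeroExt.fst (phi (C := C) Y σ a) = algebraMap A C a := by
  change TrivSqZeroExt.fst (TrivSqZeroExt.inl (algebraMap A C a) + TrivSqZeroExt.inr (dd Y σ a)) = _
  rw [TrivSqZeroExt.fst_add, TrivSqZeroExt.fst_inl, TrivSqZeroExt.fst_inr, add_zero]

theorem snd_phi (a : A) : TrivSqZeroExt.snd (phi (C := C) Y σ a) = dd Y σ a := by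
  change TrivSqZeroExt.snd (TrivSqZeroExt.inl (algebraMap A C a) + TrivSqZeroExt.inr (dd Y σ a)) = _
  rw [TrivSqZeroExt.snd_add, TrivSqZeroExt.snd_inl, TrivSqZeroExt.snd_inr, zero_add]

/-- The carrier `C ⊕ L` with its `A`-algebra structure through `phi`. -/
@[nolint unusedArguments]
def Carrier (_Y : _root_.Exal.Ext A B L) (_σ : Sec _Y) (C : Type v) [CommRing C] [Module C L] : Type v :=
  TrivSqZeroExt C L

instance : CommRing (Carrier Y σ C) := inferInstanceAs (CommRing (TrivSqZeroExt C L))

noncomputable instance : Algebra A (Carrier Y σ C) :=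
  (phi (C := C) Y σ : A →+* Carrier Y σ C).toAlgebra

/-- The `A`-extension of `C` by `L` on `C ⊕ L`, made an `A`-algebra through `a ↦ (a, d a)`. -/
noncomputable def extX : _root_.Exal.Ext A C L where
  E := Carrier Y σ C
  proj :=
    { toFun := fun x => TrivSqZeroExt.fst x
      map_one' := TrivSqZeroExt.fst_one
      map_mul' := TrivSqZeroExt.fst_mul
      map_zero' := TrivSqZeroExt.fst_zero
      map_add' := TrivSqZeroExt.fst_add
      commutes' := fun x => fst_phi Y σ x }
  incl := (TrivSqZeroExt.inrHom C L).toAddMonoidHom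
  isExtension :=
    { proj_surjective := fun c => ⟨TrivSqZeroExt.inl c, rfl⟩
      incl_injective := TrivSqZeroExt.inr_injective
      exact := fun x => by
        constructor
        · intro hx
          exact ⟨TrivSqZeroExt.snd x, TrivSqZeroExt.ext hx.symm rfl⟩
        · rintro ⟨z, rfl⟩
          rfl
      mul_incl := fun x z => by
        refine TrivSqZeroExt.ext ?_ ?_
        · change TrivSqZeroExt.fst x * 0 = 0
          exact mul_zero _
        · change TrivSqZeroExt.fst x • z + MulOpposite.op (0 : C) • TrivSqZeroExt.snd x = TrivSqZeroExt.fst x • z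
          rw [MulOpposite.op_zero, zero_smul, add_zero] }

theorem dd_algebraMap (hσ : ∀ r : Λ, σ.s (algebraMap Λ B r) = algebraMap A Y.E (algebraMap Λ A r)) (r : Λ) :
    dd Y σ (algebraMap Λ A r) = 0 := by
  apply Y.isExtension.incl_injective
  rw [incl_dd, map_zero, ← IsScalarTower.algebraMap_apply Λ A B, hσ, sub_self]

theorem extX_isTrivialOver
    (hσ : ∀ r : Λ, σ.s (algebraMap Λ B r) = algebraMap A Y.E (algebraMap Λ A r)) :
    (extX (C := C) Y σ).IsTrivialOver Λ := by
  refine ⟨{ toFun := fun c => (TrivSqZeroExt.inl c : TrivSqZeroExt C L)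
            map_one' := TrivSqZeroExt.inl_one _
            map_mul' := fun x y => TrivSqZeroExt.inl_mul _ x y
            map_zero' := TrivSqZeroExt.inl_zero _
            map_add' := fun x y => TrivSqZeroExt.inl_add _ x y
            commutes' := fun r => ?_ }, fun c => rfl⟩
  change (TrivSqZeroExt.inl (algebraMap Λ C r) : TrivSqZeroExt C L) = phi (C := C) Y σ (algebraMap Λ A r)
  change _ = TrivSqZeroExt.inl (algebraMap A C (algebraMap Λ A r)) + TrivSqZeroExt.inr (dd Y σ (algebraMap Λ A r))
  rw [dd_algebraMap Y σ hσ, TrivSqZeroExt.inr_zero, add_zero, ← IsScalarTower.algebraMap_apply Λ A C]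

/-- second component of an element of the middle ring of `extX`. -/
def sndE (x : (extX (C := C) Y σ).E) : L := TrivSqZeroExt.snd (show TrivSqZeroExt C L from x)

/-- first component of an element of the middle ring of `extX`. -/
def fstE (x : (extX (C := C) Y σ).E) : C := TrivSqZeroExt.fst (show TrivSqZeroExt C L from x)

theorem sndE_mul (x x' : (extX (C := C) Y σ).E) :
    sndE Y σ (x * x') = fstE Y σ x • sndE Y σ x' + fstE Y σ x' • sndE Y σ x := by
  change TrivSqZeroExt.snd ((show TrivSqZeroExt C L from x) * (show TrivSqZeroExt C L from x')) = _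
  rw [TrivSqZeroExt.snd_mul, op_smul_eq_smul]
  rfl

theorem sndE_add (x x' : (extX (C := C) Y σ).E) :
    sndE Y σ (x + x') = sndE Y σ x + sndE Y σ x' := rfl

theorem sndE_zero : sndE Y σ (0 : (extX (C := C) Y σ).E) = 0 := rfl

theorem sndE_one : sndE Y σ (1 : (extX (C := C) Y σ).E) = 0 := rfl

theorem sndE_algebraMap (a : A) : sndE Y σ (algebraMap A (extX (C := C) Y σ).E a) = dd Y σ a :=
  snd_phi Y σ a

theorem fstE_eq_proj (x : (extX (C := C) Y σ).E) : fstE Y σ x = (extX (C := C) Y σ).proj x := rfl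

theorem sndE_incl (l : L) : sndE Y σ ((extX (C := C) Y σ).incl l) = l := rfl

theorem mem_fiberProd (z : ((extX (C := C) Y σ).fiberProd B)) :
    fstE Y σ z.1.1 = algebraMap B C z.1.2 := by
  have h' : (extX (C := C) Y σ).proj z.1.1 = algebraMap B C z.1.2 := z.2
  exact h'

theorem incl_mul_incl (l l' : L) : Y.incl l * Y.incl l' = 0 := by
  rw [Y.isExtension.mul_incl, (Y.isExtension.exact _).2 ⟨l, rfl⟩, zero_smul, map_zero]

/-- The comparison map from the fibre product to the middle ring of `Y`. -/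
noncomputable def compFun (z : ((extX (C := C) Y σ).fiberProd B)) : Y.E :=
  σ.s z.1.2 + Y.incl (sndE Y σ z.1.1)

theorem compFun_mul (z z' : ((extX (C := C) Y σ).fiberProd B)) :
    compFun Y σ (z * z') = compFun Y σ z * compFun Y σ z' := by
  unfold compFun
  have e1 : (z * z').1.2 = z.1.2 * z'.1.2 := rfl
  have e2 : (z * z').1.1 = z.1.1 * z'.1.1 := rfl
  rw [e1, e2, sndE_mul, mem_fiberProd Y σ z, mem_fiberProd Y σ z',
    IsScalarTower.algebraMap_smul C z.1.2, IsScalarTower.algebraMap_smul C z'.1.2, map_add, map_mul]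
  have h1 : Y.incl (z.1.2 • sndE Y σ z'.1.1) = σ.s z.1.2 * Y.incl (sndE Y σ z'.1.1) := by
    rw [Y.isExtension.mul_incl, σ.proj_s]
  have h2 : Y.incl (z'.1.2 • sndE Y σ z.1.1) = σ.s z'.1.2 * Y.incl (sndE Y σ z.1.1) := by
    rw [Y.isExtension.mul_incl, σ.proj_s]
  rw [h1, h2]
  have h3 := incl_mul_incl Y (sndE Y σ z.1.1) (sndE Y σ z'.1.1)
  linear_combination (-1 : Y.E) * h3

theorem compFun_add (z z' : ((extX (C := C) Y σ).fiberProd B)) :
    compFun Y σ (z + z') = compFun Y σ z + compFun Y σ z' := by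
  unfold compFun
  have e1 : (z + z').1.2 = z.1.2 + z'.1.2 := rfl
  have e2 : (z + z').1.1 = z.1.1 + z'.1.1 := rfl
  rw [e1, e2, sndE_add, map_add, map_add]
  abel

theorem compFun_zero : compFun Y σ (0 : ((extX (C := C) Y σ).fiberProd B)) = 0 := by
  unfold compFun
  have e1 : (0 : ((extX (C := C) Y σ).fiberProd B)).1.2 = 0 := rfl
  have e2 : (0 : ((extX (C := C) Y σ).fiberProd B)).1.1 = 0 := rfl
  rw [e1, e2, sndE_zero, map_zero, map_zero, add_zero]

theorem compFun_one : compFun Y σ (1 : ((extX (C := C) Y σ).fiberProd B)) = 1 := by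
  unfold compFun
  have e1 : (1 : ((extX (C := C) Y σ).fiberProd B)).1.2 = 1 := rfl
  have e2 : (1 : ((extX (C := C) Y σ).fiberProd B)).1.1 = 1 := rfl
  rw [e1, e2, sndE_one, map_zero, map_one, add_zero]

theorem compFun_algebraMap (a : A) :
    compFun Y σ (algebraMap A ((extX (C := C) Y σ).fiberProd B) a) = algebraMap A Y.E a := by
  unfold compFun
  have e1 : (algebraMap A ((extX (C := C) Y σ).fiberProd B) a).1.2 = algebraMap A B a := rfl
  have e2 : (algebraMap A ((extX (C := C) Y σ).fiberProd B) a).1.1 =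
      algebraMap A (extX (C := C) Y σ).E a := rfl
  rw [e1, e2, sndE_algebraMap, incl_dd]
  abel

/-- The comparison map as an algebra homomorphism. -/
noncomputable def compHom : ((extX (C := C) Y σ).fiberProd B) →ₐ[A] Y.E where
  toFun := compFun Y σ
  map_one' := compFun_one Y σ
  map_mul' := compFun_mul Y σ
  map_zero' := compFun_zero Y σ
  map_add' := compFun_add Y σ
  commutes' := compFun_algebraMap Y σ

theorem proj_compFun (z : ((extX (C := C) Y σ).fiberProd B)) : Y.proj (compFun Y σ z) = z.1.2 := by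
  unfold compFun
  rw [map_add, σ.proj_s, (Y.isExtension.exact _).2 ⟨_, rfl⟩, add_zero]

theorem compHom_injective : Function.Injective (compHom (C := C) Y σ) := by
  rw [injective_iff_map_eq_zero]
  intro z hz
  have hz' : compFun Y σ z = 0 := hz
  have h2 : z.1.2 = 0 := by
    rw [← proj_compFun Y σ z, hz', map_zero]
  have h3 : sndE Y σ z.1.1 = 0 := by
    apply Y.isExtension.incl_injective
    unfold compFun at hz'
    rw [h2, map_zero, zero_add] at hz'
    rw [hz', map_zero]
  have h4 : fstE Y σ z.1.1 = 0 := by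
    rw [mem_fiberProd, h2, map_zero]
  apply Subtype.ext
  apply Prod.ext
  · exact TrivSqZeroExt.ext h4 h3
  · exact h2

theorem compHom_surjective : Function.Surjective (compHom (C := C) Y σ) := by
  intro y
  have hy : Y.proj (y - σ.s (Y.proj y)) = 0 := by
    rw [map_sub, σ.proj_s, sub_self]
  let l : L := Y.kerLift _ hy
  let x : (extX (C := C) Y σ).E :=
    (TrivSqZeroExt.inl (algebraMap B C (Y.proj y)) + TrivSqZeroExt.inr l : TrivSqZeroExt C L)
  have hx1 : fstE Y σ x = algebraMap B C (Y.proj y) := by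
    change TrivSqZeroExt.fst (TrivSqZeroExt.inl (algebraMap B C (Y.proj y)) + TrivSqZeroExt.inr l :
      TrivSqZeroExt C L) = _
    rw [TrivSqZeroExt.fst_add, TrivSqZeroExt.fst_inl, TrivSqZeroExt.fst_inr, add_zero]
  have hx2 : sndE Y σ x = l := by
    change TrivSqZeroExt.snd (TrivSqZeroExt.inl (algebraMap B C (Y.proj y)) + TrivSqZeroExt.inr l :
      TrivSqZeroExt C L) = _
    rw [TrivSqZeroExt.snd_add, TrivSqZeroExt.snd_inl, TrivSqZeroExt.snd_inr, zero_add]
  have hmem : (x, Y.proj y) ∈ (extX (C := C) Y σ).fiberProd B := by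
    have : (extX (C := C) Y σ).proj x = algebraMap B C (Y.proj y) := hx1
    exact this
  refine ⟨⟨(x, Y.proj y), hmem⟩, ?_⟩
  change σ.s (Y.proj y) + Y.incl (sndE Y σ x) = y
  rw [hx2, Y.incl_kerLift]
  abel

/-- The equivalence of the pullback of `extX` with `Y`. -/
noncomputable def pullbackEquiv : ((extX (C := C) Y σ).pullback B).Equiv Y where
  toAlgEquiv := AlgEquiv.ofBijective (compHom (C := C) Y σ)
    ⟨compHom_injective Y σ, compHom_surjective Y σ⟩
  proj_apply := fun z => proj_compFun Y σ z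
  apply_incl := fun l => by
    change σ.s 0 + Y.incl (sndE Y σ ((extX (C := C) Y σ).incl l)) = Y.incl l
    rw [map_zero, zero_add, sndE_incl]

theorem exists_pullback_equiv (Y : _root_.Exal.Ext A B L) (hY : Y.IsTrivialOver Λ) :
    ∃ X : _root_.Exal.Ext A C L, X.IsTrivialOver Λ ∧ Nonempty ((X.pullback B).Equiv Y) := by
  obtain ⟨s, hs⟩ := hY
  let s' : B →+* Y.E := (s : B →+* (Y.restrictBase Λ).E)
  let σ : Sec Y := ⟨s', hs⟩
  refine ⟨extX (C := C) Y σ, extX_isTrivialOver Y σ (fun r => ?_), ⟨pullbackEquiv Y σ⟩⟩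
  exact s.commutes r

end

end Groth.Agent.Lib.Seat26.ExalPB
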