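import Mathlib

/-!
# Projective resolutions by finite free modules from a one-step property (seat 26)

Let `𝒞` be a class of `B`-modules such that every `N ∈ 𝒞` admits an epimorphism `B^k ⟶ N` whose
kernel is again in `𝒞`.  Then every `N ∈ 𝒞` has a projective resolution all of whose terms are
`B^k` for varying `k`; the syzygies are in `𝒞`.
-/

set_option autoImplicit false

universe u

namespace Groth.Agent.Lib.Seat26.FFRes

open CategoryTheory CategoryTheory.Limits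

variable {B : Type u} [CommRing B]

/-- the free module of rank `k`, as an object of `ModuleCat B`. -/
abbrev free (B : Type u) [CommRing B] (k : ℕ) : ModuleCat.{u} B := ModuleCat.of B (Fin k → B)

/-- One step: an epimorphism from a finite free module with kernel in the class. -/
structure StepData (𝒞 : ModuleCat.{u} B → Prop) (N : ModuleCat.{u} B) where
  /-- the rank -/
  k : ℕ
  /-- the cover -/
  π : free B k ⟶ N
  epi : Epi π
  ker_mem : 𝒞 (kernel π)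

variable (𝒞 : ModuleCat.{u} B → Prop) (step : ∀ N, 𝒞 N → StepData 𝒞 N)

/-- the sequence of syzygies. -/
noncomputable def syz (N₀ : ModuleCat.{u} B) (h₀ : 𝒞 N₀) : ℕ → {N : ModuleCat.{u} B // 𝒞 N}
  | 0 => ⟨N₀, h₀⟩
  | n + 1 => ⟨kernel (step (syz N₀ h₀ n).1 (syz N₀ h₀ n).2).π,
      (step (syz N₀ h₀ n).1 (syz N₀ h₀ n).2).ker_mem⟩

variable (N₀ : ModuleCat.{u} B) (h₀ : 𝒞 N₀)

/-- the step data at stage `n`. -/
noncomputable def sd (n : ℕ) : StepData 𝒞 (syz 𝒞 step N₀ h₀ n).1 :=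
  step (syz 𝒞 step N₀ h₀ n).1 (syz 𝒞 step N₀ h₀ n).2

/-- the terms of the resolution. -/
noncomputable def X (n : ℕ) : ModuleCat.{u} B := free B (sd 𝒞 step N₀ h₀ n).k

/-- the cover at stage `n`. -/
noncomputable def cov (n : ℕ) : X 𝒞 step N₀ h₀ n ⟶ (syz 𝒞 step N₀ h₀ n).1 := (sd 𝒞 step N₀ h₀ n).π

instance (n : ℕ) : Epi (cov 𝒞 step N₀ h₀ n) := (sd 𝒞 step N₀ h₀ n).epi

/-- the inclusion of the next syzygy. -/
noncomputable def inc (n : ℕ) : (syz 𝒞 step N₀ h₀ (n + 1)).1 ⟶ X 𝒞 step N₀ h₀ n :=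
  kernel.ι (sd 𝒞 step N₀ h₀ n).π

instance (n : ℕ) : Mono (inc 𝒞 step N₀ h₀ n) :=
  inferInstanceAs (Mono (kernel.ι (sd 𝒞 step N₀ h₀ n).π))

theorem inc_cov (n : ℕ) : inc 𝒞 step N₀ h₀ n ≫ cov 𝒞 step N₀ h₀ n = 0 :=
  kernel.condition _

/-- the differential. -/
noncomputable def dd (n : ℕ) : X 𝒞 step N₀ h₀ (n + 1) ⟶ X 𝒞 step N₀ h₀ n :=
  cov 𝒞 step N₀ h₀ (n + 1) ≫ inc 𝒞 step N₀ h₀ n

theorem dd_comp (n : ℕ) : dd 𝒞 step N₀ h₀ (n + 1) ≫ dd 𝒞 step N₀ h₀ n = 0 := by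
  unfold dd
  rw [Category.assoc, ← Category.assoc (inc 𝒞 step N₀ h₀ (n + 1)), inc_cov, zero_comp, comp_zero]

theorem dd_cov : dd 𝒞 step N₀ h₀ 0 ≫ cov 𝒞 step N₀ h₀ 0 = 0 := by
  unfold dd
  rw [Category.assoc, inc_cov, comp_zero]

/-- exactness of `X (n+2) ⟶ X (n+1) ⟶ X n`. -/
theorem exact_dd (n : ℕ) :
    (ShortComplex.mk (dd 𝒞 step N₀ h₀ (n + 1)) (dd 𝒞 step N₀ h₀ n) (dd_comp 𝒞 step N₀ h₀ n)).Exact := by
  -- first `X (n+2) ⟶ X (n+1) ⟶ syz (n+1)` is exact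
  have h1 : (ShortComplex.mk (dd 𝒞 step N₀ h₀ (n + 1)) (cov 𝒞 step N₀ h₀ (n + 1)) (by
      unfold dd; rw [Category.assoc, inc_cov, comp_zero])).Exact := by
    let α : ShortComplex.mk (dd 𝒞 step N₀ h₀ (n + 1)) (cov 𝒞 step N₀ h₀ (n + 1)) (by
        unfold dd; rw [Category.assoc, inc_cov, comp_zero]) ⟶
        ShortComplex.mk (inc 𝒞 step N₀ h₀ (n + 1)) (cov 𝒞 step N₀ h₀ (n + 1)) (inc_cov _ _ _ _ _) :=
      { τ₁ := cov 𝒞 step N₀ h₀ (n + 2)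
        τ₂ := 𝟙 _
        τ₃ := 𝟙 _
        comm₁₂ := by simp [dd]
        comm₂₃ := by simp }
    rw [ShortComplex.exact_iff_of_epi_of_isIso_of_mono α]
    apply ShortComplex.exact_of_f_is_kernel
    exact kernelIsKernel _
  let β : ShortComplex.mk (dd 𝒞 step N₀ h₀ (n + 1)) (cov 𝒞 step N₀ h₀ (n + 1)) (by
      unfold dd; rw [Category.assoc, inc_cov, comp_zero]) ⟶
      ShortComplex.mk (dd 𝒞 step N₀ h₀ (n + 1)) (dd 𝒞 step N₀ h₀ n) (dd_comp 𝒞 step N₀ h₀ n) :=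
    { τ₁ := 𝟙 _
      τ₂ := 𝟙 _
      τ₃ := inc 𝒞 step N₀ h₀ n
      comm₁₂ := by simp
      comm₂₃ := by simp [dd] }
  exact (ShortComplex.exact_iff_of_epi_of_isIso_of_mono β).1 h1

/-- exactness of `X 1 ⟶ X 0 ⟶ N₀`. -/
theorem exact_dd_cov :
    (ShortComplex.mk (dd 𝒞 step N₀ h₀ 0) (cov 𝒞 step N₀ h₀ 0) (dd_cov 𝒞 step N₀ h₀)).Exact := by
  let α : ShortComplex.mk (dd 𝒞 step N₀ h₀ 0) (cov 𝒞 step N₀ h₀ 0) (dd_cov 𝒞 step N₀ h₀) ⟶
      ShortComplex.mk (inc 𝒞 step N₀ h₀ 0) (cov 𝒞 step N₀ h₀ 0) (inc_cov _ _ _ _ _) :=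
    { τ₁ := cov 𝒞 step N₀ h₀ 1
      τ₂ := 𝟙 _
      τ₃ := 𝟙 _
      comm₁₂ := by simp [dd]
      comm₂₃ := by simp }
  rw [ShortComplex.exact_iff_of_epi_of_isIso_of_mono α]
  apply ShortComplex.exact_of_f_is_kernel
  exact kernelIsKernel _

/-- the short complex `0 → syz (n+1) → X n → syz n → 0`. -/
noncomputable def sc (n : ℕ) : ShortComplex (ModuleCat.{u} B) :=
  ShortComplex.mk (inc 𝒞 step N₀ h₀ n) (cov 𝒞 step N₀ h₀ n) (inc_cov 𝒞 step N₀ h₀ n)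

theorem sc_shortExact (n : ℕ) : (sc 𝒞 step N₀ h₀ n).ShortExact where
  exact := ShortComplex.exact_of_f_is_kernel _ (kernelIsKernel _)
  mono_f := inferInstanceAs (Mono (inc 𝒞 step N₀ h₀ n))
  epi_g := inferInstanceAs (Epi (cov 𝒞 step N₀ h₀ n))

theorem sc_X₁ (n : ℕ) : (sc 𝒞 step N₀ h₀ n).X₁ = (syz 𝒞 step N₀ h₀ (n + 1)).1 := rfl

theorem sc_X₂ (n : ℕ) : (sc 𝒞 step N₀ h₀ n).X₂ = free B (sd 𝒞 step N₀ h₀ n).k := rfl

theorem sc_X₃ (n : ℕ) : (sc 𝒞 step N₀ h₀ n).X₃ = (syz 𝒞 step N₀ h₀ n).1 := rfl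

theorem syz_zero : (syz 𝒞 step N₀ h₀ 0).1 = N₀ := rfl

theorem syz_mem (n : ℕ) : 𝒞 (syz 𝒞 step N₀ h₀ n).1 := (syz 𝒞 step N₀ h₀ n).2

/-- the complex. -/
noncomputable def cx : ChainComplex (ModuleCat.{u} B) ℕ :=
  ChainComplex.of (X 𝒞 step N₀ h₀) (dd 𝒞 step N₀ h₀) (dd_comp 𝒞 step N₀ h₀)

theorem cx_X (n : ℕ) : (cx 𝒞 step N₀ h₀).X n = X 𝒞 step N₀ h₀ n := rfl

theorem cx_d (n : ℕ) : (cx 𝒞 step N₀ h₀).d (n + 1) n = dd 𝒞 step N₀ h₀ n := by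
  exact ChainComplex.of_d _ _ n

theorem cx_exactAt_succ (n : ℕ) : (cx 𝒞 step N₀ h₀).ExactAt (n + 1) := by
  rw [HomologicalComplex.exactAt_iff' _ (n + 1 + 1) (n + 1) n (by simp) (by simp)]
  have := exact_dd 𝒞 step N₀ h₀ n
  refine ShortComplex.exact_of_iso ?_ this
  refine ShortComplex.isoMk (Iso.refl _) (Iso.refl _) (Iso.refl _) ?_ ?_
  · change 𝟙 _ ≫ (cx 𝒞 step N₀ h₀).d (n + 1 + 1) (n + 1) = dd 𝒞 step N₀ h₀ (n + 1) ≫ 𝟙 _
    rw [cx_d]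
    exact (Category.id_comp _).trans (Category.comp_id _).symm
  · change 𝟙 _ ≫ (cx 𝒞 step N₀ h₀).d (n + 1) n = dd 𝒞 step N₀ h₀ n ≫ 𝟙 _
    rw [cx_d]
    exact (Category.id_comp _).trans (Category.comp_id _).symm

instance (n : ℕ) : Projective (X 𝒞 step N₀ h₀ n) := by
  unfold X free
  exact ModuleCat.projective_of_free (Pi.basisFun B (Fin _))

instance (n : ℕ) : Projective ((cx 𝒞 step N₀ h₀).X n) :=
  inferInstanceAs (Projective (X 𝒞 step N₀ h₀ n))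

/-- the augmentation. -/
noncomputable def aug : cx 𝒞 step N₀ h₀ ⟶ (ChainComplex.single₀ (ModuleCat.{u} B)).obj N₀ :=
  (ChainComplex.toSingle₀Equiv _ _).symm ⟨cov 𝒞 step N₀ h₀ 0, by
    rw [cx_d]
    exact dd_cov 𝒞 step N₀ h₀⟩

/-- The projective resolution by finite free modules. -/
noncomputable def res : ProjectiveResolution N₀ where
  complex := cx 𝒞 step N₀ h₀
  π := aug 𝒞 step N₀ h₀
  quasiIso := ⟨fun n => by
    cases n
    · rw [ChainComplex.quasiIsoAt₀_iff, ShortComplex.quasiIso_iff_of_zeros']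
      · refine (ShortComplex.exact_and_epi_g_iff_of_iso ?_).2
          ⟨exact_dd_cov 𝒞 step N₀ h₀, by dsimp; infer_instance⟩
        exact ShortComplex.isoMk (Iso.refl _) (Iso.refl _) (Iso.refl _)
          (by simp [cx_d]; exact (Category.id_comp _).trans (Category.comp_id _).symm)
          (by simp [aug]; exact (Category.id_comp _).trans (Category.comp_id _).symm)
      all_goals rfl
    · rw [quasiIsoAt_iff_exactAt']
      · apply cx_exactAt_succ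
      · apply ChainComplex.exactAt_succ_single_obj⟩

theorem res_X (n : ℕ) : (res 𝒞 step N₀ h₀).complex.X n = free B (sd 𝒞 step N₀ h₀ n).k := rfl

end Groth.Agent.Lib.Seat26.FFRes
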