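import Mathlib
import Groth.Agent.Lib.Helper3FlatDescE
import Groth.Agent.Lib.Seat26BCKer

/-!
# Finitely presented kernels for finitely presented modules flat over the base (seat 26)

* `exists_surjective_fp_ker_mvPolynomial`: a finitely presented `A[X₁..Xₙ]`-module `N` which is flat
  over `A` (no noetherian hypothesis) is a quotient of a finite free module by a finitely presented
  submodule. Proof: noetherian descent of flatness (helper3's `exists_fg_subalgebra_flat_global`)
  plus base change of kernels with flat cokernel.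
-/

set_option autoImplicit false
set_option linter.style.haveILetI false

universe u

namespace Groth.Agent.Lib.Seat26.FPKer

open TensorProduct MvPolynomial Groth.Agent.Lib.Helper3.FlatLoc Groth.Agent.Lib.Helper3.FlatDesc
  Groth.Agent.Lib.Helper3.FlatOpen Groth.Agent.Lib.Seat26.BCKer

attribute [local instance] MvPolynomial.algebraMvPolynomial

theorem exists_surjective_fp_ker_mvPolynomial {A : Type u} [CommRing A] {n : ℕ} {N : Type u}
    [AddCommGroup N] [Module (MvPolynomial (Fin n) A) N] [Module A N]
    [IsScalarTower A (MvPolynomial (Fin n) A) N]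
    [Module.FinitePresentation (MvPolynomial (Fin n) A) N] [Module.Flat A N] :
    ∃ (k : ℕ) (π : (Fin k → MvPolynomial (Fin n) A) →ₗ[MvPolynomial (Fin n) A] N),
      Function.Surjective π ∧
        Module.FinitePresentation (MvPolynomial (Fin n) A) (LinearMap.ker π) := by
  classical
  obtain ⟨k, m, Λ, hΛ, w, ⟨e⟩⟩ := exists_model_equiv (R := A) (n := n) (M := N)
  haveI : Algebra.FiniteType ℤ Λ := (Subalgebra.fg_iff_finiteType Λ).mp hΛ
  haveI : IsNoetherianRing Λ := Algebra.FiniteType.isNoetherianRing ℤ Λ
  have hflat : Module.Flat A ((Fin k → MvPolynomial (Fin n) A) ⧸ KT w (MvPolynomial (Fin n) A)) :=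
    Module.Flat.of_linearEquiv (e.restrictScalars A)
  obtain ⟨A'', hA''fg, -, hA''flat⟩ := exists_fg_subalgebra_flat_global w hflat ∅
  haveI : Algebra.FiniteType Λ A'' := (Subalgebra.fg_iff_finiteType A'').mp hA''fg
  haveI : IsNoetherianRing A'' := Algebra.FiniteType.isNoetherianRing Λ A''
  haveI := isScalarTower_mvPolynomial (σ := Fin n) Λ A'' A
  have hψ : IsBaseChange (MvPolynomial (Fin n) A)
      (Mmap w (MvPolynomial (Fin n) A'') (MvPolynomial (Fin n) A)) := isBaseChange_Mmap w _ _
  obtain ⟨k', π, hπ, hfp⟩ := exists_surjective_fp_ker_of_isBaseChange (A'' := A'') A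
    (R'' := MvPolynomial (Fin n) A'') (R := MvPolynomial (Fin n) A)
    (Mmap w (MvPolynomial (Fin n) A'') (MvPolynomial (Fin n) A)) hψ
  refine ⟨k', e.toLinearMap ∘ₗ π, e.surjective.comp hπ, ?_⟩
  have hker : LinearMap.ker (e.toLinearMap ∘ₗ π) = LinearMap.ker π := LinearEquiv.ker_comp _ _
  rw [hker]
  exact hfp

end Groth.Agent.Lib.Seat26.FPKer
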