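import Mathlib
import Groth.Agent.Lib.Seat26FPKer

/-!
# One step of a finite free resolution over a finitely presented flat algebra (seat 26)

`exists_surjective_fp_flat_ker`: for `B` a finitely presented flat `A`-algebra and `N` a finitely
presented `B`-module flat over `A`, there is a surjection `B^k → N` whose kernel is again a finitely
presented `B`-module flat over `A`.
-/

set_option autoImplicit false
set_option linter.style.haveILetI false

universe u

namespace Groth.Agent.Lib.Seat26.FFStep

open TensorProduct MvPolynomial Groth.Agent.Lib.Seat26.BCKer Groth.Agent.Lib.Seat26.FPKer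

/-- In a short exact sequence `0 → M' → M → M'' → 0` with `M` and `M''` flat, `M'` is flat. -/
theorem flat_of_exact_of_flat_flat {R : Type*} [CommRing R]
    {M' M M'' : Type*} [AddCommGroup M'] [AddCommGroup M] [AddCommGroup M'']
    [Module R M'] [Module R M] [Module R M''] [Module.Flat R M] [Module.Flat R M'']
    (ι : M' →ₗ[R] M) (δ : M →ₗ[R] M'') (hι : Function.Injective ι) (hδ : Function.Surjective δ)
    (hex : Function.Exact ι δ) : Module.Flat R M' := by
  rw [Module.Flat.iff_rTensor_injective']
  intro I
  have h1 : Function.Injective (ι.lTensor I) :=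
    LinearMap.lTensor_injective_of_exact_of_flat δ hδ ι hι hex I
  have h2 : Function.Injective (LinearMap.rTensor M (Submodule.subtype I)) :=
    Module.Flat.rTensor_preserves_injective_linearMap _ (Submodule.subtype_injective I)
  have h3 : (LinearMap.rTensor M (Submodule.subtype I)) ∘ₗ (ι.lTensor I) =
      (ι.lTensor R) ∘ₗ (LinearMap.rTensor M' (Submodule.subtype I)) := by
    rw [LinearMap.rTensor_comp_lTensor, LinearMap.lTensor_comp_rTensor]
  have h4 : Function.Injective ((ι.lTensor R) ∘ₗ (LinearMap.rTensor M' (Submodule.subtype I))) := by
    rw [← h3]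
    exact h2.comp h1
  exact Function.Injective.of_comp h4

theorem flat_pi_fin {A B : Type*} [CommRing A] [AddCommGroup B] [Module A B] [Module.Flat A B]
    (k : ℕ) : Module.Flat A (Fin k → B) :=
  Module.Flat.of_linearEquiv (DFinsupp.linearEquivFunOnFintype (R := A) (M := fun _ : Fin k => B)).symm

/-- The kernel of a surjection between flat modules is flat. -/
theorem flat_ker {A F N : Type*} [CommRing A] [AddCommGroup F] [Module A F] [AddCommGroup N]
    [Module A N] [Module.Flat A F] [Module.Flat A N] (π : F →ₗ[A] N) (hπ : Function.Surjective π) :
    Module.Flat A (LinearMap.ker π) :=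
  flat_of_exact_of_flat_flat (LinearMap.ker π).subtype π (Submodule.injective_subtype _) hπ
    (LinearMap.exact_subtype_ker_map π)

section Step

variable {P B N : Type*} [CommRing P] [CommRing B] [Algebra P B] [AddCommGroup N] [Module P N]
  [Module B N] [IsScalarTower P B N]

/-- A `P`-linear map `P^k → N` to a `B`-module induces a `B`-linear map `B^k → N`. -/
noncomputable def descend {k : ℕ} (πP : (Fin k → P) →ₗ[P] N) : (Fin k → B) →ₗ[B] N :=
  Fintype.linearCombination B (fun i => πP (Pi.single i 1))

theorem descend_coordMap {k : ℕ} (πP : (Fin k → P) →ₗ[P] N) (x : Fin k → P) :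
    descend (B := B) πP (coordMap (B := B) (Fin k) x) = πP x := by
  classical
  rw [descend, Fintype.linearCombination_apply]
  conv_rhs => rw [← Finset.univ_sum_single x, map_sum]
  refine Finset.sum_congr rfl fun i _ => ?_
  rw [coordMap_apply, algebraMap_smul]
  have : (Pi.single i (x i) : Fin k → P) = x i • Pi.single i 1 := by
    rw [← Pi.single_smul', smul_eq_mul, mul_one]
  rw [this, map_smul]

/-- If `P → B` is surjective with finitely generated kernel and `πP : P^k → N` is a surjection with
finitely presented kernel, then the induced `B^k → N` is a surjection whose kernel is finitely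
presented over `B`. -/
theorem descend_spec (hPB : Function.Surjective (algebraMap P B))
    (hJ : (RingHom.ker (algebraMap P B)).FG) {k : ℕ} (πP : (Fin k → P) →ₗ[P] N)
    (hπP : Function.Surjective πP) [Module.FinitePresentation P (LinearMap.ker πP)] :
    Function.Surjective (descend (B := B) πP) ∧
      Module.FinitePresentation B (LinearMap.ker (descend (B := B) πP)) := by
  let F : (Fin k → P) →ₗ[P] (Fin k → B) := coordMap (Fin k)
  have hF : Function.Surjective F := coordMap_surjective hPB _
  let πB := descend (B := B) πP
  have hπBF : ∀ x, πB (F x) = πP x := descend_coordMap πP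
  have hπB : Function.Surjective πB := fun y => by
    obtain ⟨x, hx⟩ := hπP y
    exact ⟨F x, by rw [hπBF, hx]⟩
  refine ⟨hπB, ?_⟩
  let ρ : LinearMap.ker πP →ₗ[P] LinearMap.ker πB :=
    LinearMap.codRestrict ((LinearMap.ker πB).restrictScalars P) (F ∘ₗ (LinearMap.ker πP).subtype) (by
      intro x
      change πB (F x.1) = 0
      rw [hπBF, x.2])
  have hρ : Function.Surjective ρ := by
    rintro ⟨y, hy⟩
    obtain ⟨x, rfl⟩ := hF y
    have hx : πP x = 0 := by rw [← hπBF]; exact hy
    exact ⟨⟨x, hx⟩, rfl⟩
  have hkerF : (LinearMap.ker F).FG := by
    have : LinearMap.ker F = Submodule.pi Set.univ (fun _ : Fin k => (RingHom.ker (algebraMap P B) :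
        Submodule P P)) := by
      ext x
      simp only [LinearMap.mem_ker, Submodule.mem_pi, Set.mem_univ, forall_true_left]
      constructor
      · intro h i
        have := congrFun h i
        simpa [F, coordMap_apply] using this
      · intro h
        funext i
        have := h i
        simpa [F, coordMap_apply] using this
    rw [this]
    exact Submodule.fg_pi fun _ => hJ
  have hkerρ : (LinearMap.ker ρ).FG := by
    -- `ker ρ` is the image of `ker F` under the inclusion `ker F → ker πP`
    have hle : LinearMap.ker F ≤ LinearMap.ker πP := by
      intro x hx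
      change πP x = 0
      have hx' : F x = 0 := hx
      rw [← hπBF, hx', map_zero]
    have : LinearMap.ker ρ = (LinearMap.ker F).comap (LinearMap.ker πP).subtype := by
      ext x
      simp only [LinearMap.mem_ker, Submodule.mem_comap, Submodule.subtype_apply]
      constructor
      · intro h
        exact congrArg Subtype.val h
      · intro h
        exact Subtype.ext h
    rw [this, ← Submodule.range_inclusion _ _ hle, LinearMap.range_eq_map]
    haveI : Module.Finite P (LinearMap.ker F) := Module.Finite.of_fg hkerF
    exact Submodule.FG.map _ Module.Finite.fg_top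
  haveI : Module.FinitePresentation P (LinearMap.ker πB) :=
    Module.finitePresentation_of_surjective ρ hρ hkerρ
  exact finitePresentation_of_surjective_algebraMap hPB _

end Step

/-- **One step.** For `B` a finitely presented flat `A`-algebra and `N` a finitely presented `B`-module
flat over `A`, there is a surjection `B^k → N` whose kernel is again a finitely presented `B`-module
flat over `A`. -/
theorem exists_surjective_fp_flat_ker (A B N : Type u) [CommRing A] [CommRing B] [Algebra A B]
    [Algebra.FinitePresentation A B] [Module.Flat A B] [AddCommGroup N] [Module B N] [Module A N]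
    [IsScalarTower A B N] [Module.FinitePresentation B N] [Module.Flat A N] :
    ∃ (k : ℕ) (π : (Fin k → B) →ₗ[B] N), Function.Surjective π ∧
      Module.FinitePresentation B (LinearMap.ker π) ∧ Module.Flat A (LinearMap.ker π) := by
  obtain ⟨n, f, hf, hker⟩ := Algebra.FinitePresentation.out (R := A) (A := B)
  letI : Algebra (MvPolynomial (Fin n) A) B := f.toRingHom.toAlgebra
  haveI : IsScalarTower A (MvPolynomial (Fin n) A) B :=
    .of_algebraMap_eq' f.comp_algebraMap.symm
  letI : Module (MvPolynomial (Fin n) A) N := Module.compHom N f.toRingHom
  haveI : IsScalarTower (MvPolynomial (Fin n) A) B N :=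
    ⟨fun p s m => by
      change (f p * s) • m = f p • (s • m)
      rw [mul_smul]⟩
  haveI : IsScalarTower A (MvPolynomial (Fin n) A) N :=
    ⟨fun r p m => by
      change f (r • p) • m = r • (f p • m)
      rw [map_smul, smul_assoc]⟩
  haveI : Module.FinitePresentation (MvPolynomial (Fin n) A) B :=
    Module.finitePresentation_of_surjective (Algebra.linearMap (MvPolynomial (Fin n) A) B) hf
      hker
  haveI : Module.FinitePresentation (MvPolynomial (Fin n) A) N :=
    Module.FinitePresentation.trans (MvPolynomial (Fin n) A) N B
  obtain ⟨k, πP, hπP, hfp⟩ := exists_surjective_fp_ker_mvPolynomial (A := A) (n := n) (N := N)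
  have hPB : Function.Surjective (algebraMap (MvPolynomial (Fin n) A) B) := hf
  have hJ : (RingHom.ker (algebraMap (MvPolynomial (Fin n) A) B)).FG := hker
  obtain ⟨hπB, hfpB⟩ := descend_spec (B := B) hPB hJ πP hπP
  refine ⟨k, descend (B := B) πP, hπB, hfpB, ?_⟩
  haveI : Module.Flat A (Fin k → B) := flat_pi_fin k
  exact flat_ker ((descend (B := B) πP).restrictScalars A) hπB

end Groth.Agent.Lib.Seat26.FFStep
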