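import Mathlib
import Groth.Agent.Lib.Seat26FFStep
import Groth.Agent.Lib.Seat26FFRes

/-!
# Finite free resolutions of finitely presented modules flat over the base (seat 26)

For `B` a finitely presented flat `A`-algebra, the class `IsFPFlat A` of finitely presented
`B`-modules flat over `A` has the one-step property of `Seat26FFRes`, hence every such module has a
projective resolution by finite free `B`-modules all of whose syzygies are in the class.
-/

set_option autoImplicit false
set_option linter.style.haveILetI false

universe u

namespace Groth.Agent.Lib.Seat26.FFFlat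

open CategoryTheory CategoryTheory.Limits Groth.Agent.Lib.Seat26.FFRes Groth.Agent.Lib.Seat26.FFStep

variable (A : Type u) {B : Type u} [CommRing A] [CommRing B] [Algebra A B]

/-- finitely presented over `B` and flat over `A` (for any compatible `A`-module structure). -/
def IsFPFlat (N : ModuleCat.{u} B) : Prop :=
  Module.FinitePresentation B N ∧ ∀ (_ : Module A N) [IsScalarTower A B N], Module.Flat A N

variable {A}

theorem isFPFlat_of (N : Type u) [AddCommGroup N] [Module B N] [inst : Module A N]
    [IsScalarTower A B N] [Module.FinitePresentation B N] [Module.Flat A N] :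
    IsFPFlat A (ModuleCat.of B N) := by
  refine ⟨inferInstanceAs (Module.FinitePresentation B N), ?_⟩
  have h2 : ∀ (a : A) (n : N), a • n = algebraMap A B a • n :=
    fun a n => (algebraMap_smul B a n).symm
  have hflat : Module.Flat A N := inferInstance
  intro inst' tower'
  have h1 : ∀ (a : A) (n : N), (letI := inst'; a • n) = algebraMap A B a • n := by
    intro a n
    letI := inst'
    exact (algebraMap_smul B a n).symm
  have : inst' = inst := Module.ext' inst' inst (fun a n => (h1 a n).trans (h2 a n).symm)
  subst this
  exact hflat

theorem IsFPFlat.of_linearEquiv {N : ModuleCat.{u} B} {N' : Type u} [AddCommGroup N'] [Module B N']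
    [Module A N'] [IsScalarTower A B N'] [Module.FinitePresentation B N'] [Module.Flat A N']
    (e : N ≃ₗ[B] N') : IsFPFlat A N := by
  refine ⟨Module.FinitePresentation.of_equiv e.symm, ?_⟩
  intro inst' tower'
  exact Module.Flat.of_linearEquiv (e.restrictScalars A)

variable [Algebra.FinitePresentation A B] [Module.Flat A B]

theorem exists_stepData (N : ModuleCat.{u} B) (hN : IsFPFlat A N) : Nonempty (StepData (IsFPFlat A) N) := by
  letI : Module A N := Module.compHom N (algebraMap A B)
  haveI : IsScalarTower A B N := ⟨fun a b n => by
    change (a • b) • n = algebraMap A B a • (b • n)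
    rw [Algebra.smul_def, mul_smul]⟩
  haveI : Module.FinitePresentation B N := hN.1
  haveI : Module.Flat A N := hN.2 _
  obtain ⟨k, π, hπ, hfp, hflat⟩ := exists_surjective_fp_flat_ker A B N
  refine ⟨{ k := k, π := ModuleCat.ofHom π, epi := (ModuleCat.epi_iff_surjective _).2 hπ, ker_mem := ?_ }⟩
  exact IsFPFlat.of_linearEquiv (N' := LinearMap.ker π) (ModuleCat.kernelIsoKer (ModuleCat.ofHom π)).toLinearEquiv

/-- a chosen step. -/
noncomputable def stepData (N : ModuleCat.{u} B) (hN : IsFPFlat A N) : StepData (IsFPFlat A) N :=
  (exists_stepData N hN).some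

/-- The finite free resolution. -/
noncomputable def ffRes (N : ModuleCat.{u} B) (hN : IsFPFlat A N) : ProjectiveResolution N :=
  res (IsFPFlat A) stepData N hN

theorem ffRes_X (N : ModuleCat.{u} B) (hN : IsFPFlat A N) (n : ℕ) :
    ∃ k : ℕ, (ffRes N hN).complex.X n = free B k := ⟨_, rfl⟩

theorem ffRes_finite_free (N : ModuleCat.{u} B) (hN : IsFPFlat A N) (n : ℕ) :
    Module.Finite B ((ffRes N hN).complex.X n) ∧ Module.Free B ((ffRes N hN).complex.X n) := by
  obtain ⟨k, hk⟩ := ffRes_X N hN n
  rw [hk]
  exact ⟨inferInstanceAs (Module.Finite B (Fin k → B)), inferInstanceAs (Module.Free B (Fin k → B))⟩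

end Groth.Agent.Lib.Seat26.FFFlat
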