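import Mathlib
import Groth.Agent.Lib.Helper3FibreFlat
import Groth.Agent.Lib.Seat26FFStep

/-!
# Projective dimension is computed on the fibres (seat 26)

For `B` a finitely presented flat `A`-algebra and `M` a finitely presented `B`-module flat over `A`,
`pd_B M = sup_p pd_{B ⊗ κ(p)} ((B ⊗ κ(p)) ⊗_B M)`.

* `fibEquiv`: `(B ⊗_A κ) ⊗_B K ≃ K ⊗_A κ`.
* `lTensor_fibre_injective`: base change to a fibre keeps `0 → K → F → M → 0` exact on the left
  when `M` is flat over `A`.
* `subsingleton_of_fibres`: a finite `B`-module all of whose fibres over `Spec A` vanish is zero.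
* `hasProjectiveDimensionLT_succ_iff_fibres`, `projectiveDimension_eq_iSup_fibres`.
-/

set_option autoImplicit false
set_option linter.style.haveILetI false

universe u

namespace Groth.Agent.Lib.Seat26.FibDim

open TensorProduct CategoryTheory

section Fibre

variable {A B : Type u} [CommRing A] [CommRing B] [Algebra A B]
variable (κ : Type u) [CommRing κ] [Algebra A κ]

/-- `(B ⊗_A κ) ⊗_B K ≃ K ⊗_A κ`. -/
noncomputable def fibEquiv (K : Type u) [AddCommGroup K] [Module B K] [Module A K]
    [IsScalarTower A B K] : (B ⊗[A] κ) ⊗[B] K ≃ₗ[B] K ⊗[A] κ :=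
  (TensorProduct.comm B (B ⊗[A] κ) K) ≪≫ₗ (AlgebraTensorModule.cancelBaseChange A B B K κ)

theorem fibEquiv_tmul (K : Type u) [AddCommGroup K] [Module B K] [Module A K]
    [IsScalarTower A B K] (b : B) (c : κ) (x : K) :
    fibEquiv κ K ((b ⊗ₜ[A] c) ⊗ₜ[B] x) = (b • x) ⊗ₜ[A] c := by
  simp [fibEquiv]

theorem fibEquiv_naturality {K K' : Type u} [AddCommGroup K] [Module B K] [Module A K]
    [IsScalarTower A B K] [AddCommGroup K'] [Module B K'] [Module A K'] [IsScalarTower A B K']
    (f : K →ₗ[B] K') (t : (B ⊗[A] κ) ⊗[B] K) :
    fibEquiv κ K' (f.lTensor (B ⊗[A] κ) t) = (f.restrictScalars A).rTensor κ (fibEquiv κ K t) := by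
  induction t using TensorProduct.induction_on with
  | zero => simp
  | add x y hx hy => simp only [map_add, hx, hy]
  | tmul s x =>
    induction s using TensorProduct.induction_on with
    | zero => simp
    | add s₁ s₂ h₁ h₂ => simp only [add_tmul, map_add, h₁, h₂]
    | tmul b c =>
      rw [LinearMap.lTensor_tmul, fibEquiv_tmul, fibEquiv_tmul, LinearMap.rTensor_tmul]
      simp

/-- Base change to a fibre keeps a short exact sequence with `A`-flat cokernel exact on the left. -/
theorem lTensor_fibre_injective {K F M : Type u} [AddCommGroup K] [Module B K] [Module A K]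
    [IsScalarTower A B K] [AddCommGroup F] [Module B F] [Module A F] [IsScalarTower A B F]
    [AddCommGroup M] [Module B M] [Module A M] [IsScalarTower A B M] [Module.Flat A M]
    (ι : K →ₗ[B] F) (π : F →ₗ[B] M) (hι : Function.Injective ι) (hπ : Function.Surjective π)
    (hex : Function.Exact ι π) : Function.Injective (ι.lTensor (B ⊗[A] κ)) := by
  have h1 : Function.Injective ((ι.restrictScalars A).lTensor κ) :=
    LinearMap.lTensor_injective_of_exact_of_flat (π.restrictScalars A) hπ (ι.restrictScalars A) hι
      hex κ
  have h2 : Function.Injective ((ι.restrictScalars A).rTensor κ) := by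
    have : (ι.restrictScalars A).rTensor κ =
        (TensorProduct.comm A κ F).toLinearMap ∘ₗ ((ι.restrictScalars A).lTensor κ) ∘ₗ
          (TensorProduct.comm A K κ).toLinearMap := by
      apply TensorProduct.ext'
      intro x c
      simp
    rw [this]
    exact (TensorProduct.comm A κ F).injective.comp (h1.comp (TensorProduct.comm A K κ).injective)
  intro t t' htt'
  apply (fibEquiv κ K).injective
  apply h2
  rw [← fibEquiv_naturality, ← fibEquiv_naturality, htt']

end Fibre

section Zero

variable {A B : Type u} [CommRing A] [CommRing B] [Algebra A B]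

/-- A finite `B`-module all of whose fibres over `Spec A` vanish is zero. -/
theorem subsingleton_of_fibres (M : Type u) [AddCommGroup M] [Module B M] [Module.Finite B M]
    (h : ∀ p : PrimeSpectrum A,
      Subsingleton ((B ⊗[A] p.asIdeal.ResidueField) ⊗[B] M)) : Subsingleton M := by
  rw [← Module.support_eq_empty_iff (R := B)]
  by_contra hne
  obtain ⟨q, hq⟩ := Set.nonempty_iff_ne_empty.2 hne
  rw [Module.mem_support_iff_nontrivial_residueField_tensorProduct] at hq
  let p : Ideal A := q.asIdeal.comap (algebraMap A B)
  haveI : p.IsPrime := Ideal.comap_isPrime _ _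
  haveI : q.asIdeal.LiesOver p := ⟨rfl⟩
  let P : PrimeSpectrum A := ⟨p, inferInstance⟩
  -- the `B`-algebra map from the fibre ring to `κ(q)`
  let ψ : B ⊗[A] p.ResidueField →ₐ[B] q.asIdeal.ResidueField :=
    Algebra.TensorProduct.lift (Algebra.ofId B q.asIdeal.ResidueField)
      (Ideal.ResidueField.mapₐ p q.asIdeal (Algebra.ofId A B) rfl) (fun _ _ => Commute.all _ _)
  letI : Algebra (B ⊗[A] p.ResidueField) q.asIdeal.ResidueField := ψ.toRingHom.toAlgebra
  haveI : IsScalarTower B (B ⊗[A] p.ResidueField) q.asIdeal.ResidueField :=
    .of_algebraMap_eq' ψ.comp_algebraMap.symm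
  have e := AlgebraTensorModule.cancelBaseChange B (B ⊗[A] p.ResidueField)
    (B ⊗[A] p.ResidueField) q.asIdeal.ResidueField M
  haveI : Subsingleton ((B ⊗[A] p.ResidueField) ⊗[B] M) := h P
  haveI : Subsingleton (q.asIdeal.ResidueField ⊗[B] M) := e.symm.subsingleton
  exact not_subsingleton _ ‹_›

end Zero

section Dim

variable (A B : Type u) [CommRing A] [CommRing B] [Algebra A B]
  [Algebra.FinitePresentation A B] [Module.Flat A B]

open Groth.Agent.Lib.Seat26.FFStep

/-- The fibre of a module. -/
noncomputable abbrev fib (p : PrimeSpectrum A) (M : Type u) [AddCommGroup M] [Module B M] :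
    ModuleCat.{u} (B ⊗[A] p.asIdeal.ResidueField) :=
  ModuleCat.of (B ⊗[A] p.asIdeal.ResidueField) ((B ⊗[A] p.asIdeal.ResidueField) ⊗[B] M)

omit [Algebra.FinitePresentation A B] [Module.Flat A B] in
theorem projective_iff_fibres (M : Type u) [AddCommGroup M] [Module B M] [Module A M]
    [IsScalarTower A B M] [Module.FinitePresentation B M] [Module.Flat A M] :
    Projective (ModuleCat.of B M) ↔ ∀ p : PrimeSpectrum A, Projective (fib A B p M) := by
  constructor
  · intro h p
    haveI : Module.Projective B M := (IsProjective.iff_projective M).2 h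
    exact (IsProjective.iff_projective _).1 inferInstance
  · intro h
    haveI : Module.Flat B M := by
      apply Groth.Agent.Lib.Helper3.FibreFree.flat_of_flat_fibres (A := A)
      intro p _
      haveI : Module.Projective (B ⊗[A] p.ResidueField) ((B ⊗[A] p.ResidueField) ⊗[B] M) :=
        (IsProjective.iff_projective _).2 (h ⟨p, inferInstance⟩)
      infer_instance
    haveI : Module.Projective B M := Module.Flat.projective_of_finitePresentation
    exact (IsProjective.iff_projective M).1 inferInstance

/-- The fibrewise criterion for `pd ≤ n`. -/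
theorem hasProjectiveDimensionLT_succ_iff_fibres :
    ∀ (n : ℕ) (M : Type u) [AddCommGroup M] [Module B M] [Module A M] [IsScalarTower A B M]
      [Module.FinitePresentation B M] [Module.Flat A M],
      HasProjectiveDimensionLT (ModuleCat.of B M) (n + 1) ↔
        ∀ p : PrimeSpectrum A, HasProjectiveDimensionLT (fib A B p M) (n + 1)
  | 0, M, _, _, _, _, _, _ => by
      simp only [zero_add, ← projective_iff_hasProjectiveDimensionLT_one]
      exact projective_iff_fibres A B M
  | (n + 1), M, _, _, _, _, _, _ => by
      obtain ⟨k, π, hπ, hfp, hflat⟩ := exists_surjective_fp_flat_ker A B M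
      have ih := hasProjectiveDimensionLT_succ_iff_fibres n (LinearMap.ker π)
      let S := π.shortComplexKer
      have hS : S.ShortExact := LinearMap.shortExact_shortComplexKer hπ
      haveI : Projective S.X₂ := ModuleCat.projective_of_free (Pi.basisFun B (Fin k))
      -- the fibre sequences
      have key : ∀ p : PrimeSpectrum A,
          (HasProjectiveDimensionLT (fib A B p M) (n + 1 + 1) ↔
            HasProjectiveDimensionLT (fib A B p (LinearMap.ker π)) (n + 1)) := by
        intro p
        let Bp := B ⊗[A] p.asIdeal.ResidueField
        let ι := (LinearMap.ker π).subtype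
        let Sp : ShortComplex (ModuleCat.{u} Bp) :=
          ModuleCat.shortComplexOfCompEqZero (ι.baseChange Bp) (π.baseChange Bp) (by
            rw [← LinearMap.baseChange_comp]
            have : π ∘ₗ ι = 0 := by
              ext x
              exact x.2
            rw [this]
            ext
            simp)
        have hSp : Sp.ShortExact := by
          apply ModuleCat.shortComplex_shortExact
          · exact lTensor_exact Bp (LinearMap.exact_subtype_ker_map π) hπ
          · exact lTensor_fibre_injective p.asIdeal.ResidueField ι π
              (Submodule.injective_subtype _) hπ (LinearMap.exact_subtype_ker_map π)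
          · exact LinearMap.lTensor_surjective Bp hπ
        haveI : Module.Free Bp (Bp ⊗[B] (Fin k → B)) := inferInstance
        haveI : Projective Sp.X₂ :=
          (IsProjective.iff_projective (Bp ⊗[B] (Fin k → B))).1 inferInstance
        exact hSp.hasProjectiveDimensionLT_X₃_iff n inferInstance
      rw [hS.hasProjectiveDimensionLT_X₃_iff n inferInstance]
      rw [show S.X₁ = ModuleCat.of B (LinearMap.ker π) from rfl, ih]
      exact forall_congr' fun p => (key p).symm

/-- **Projective dimension is the supremum of the projective dimensions of the fibres.** -/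
theorem projectiveDimension_eq_iSup_fibres (M : Type u) [AddCommGroup M] [Module B M] [Module A M]
    [IsScalarTower A B M] [Module.FinitePresentation B M] [Module.Flat A M] :
    projectiveDimension (ModuleCat.of B M) =
      ⨆ p : PrimeSpectrum A, projectiveDimension (fib A B p M) := by
  refine eq_of_forall_ge_iff (fun N => ?_)
  induction N with
  | bot =>
    simp only [le_bot_iff, projectiveDimension_eq_bot_iff, ModuleCat.isZero_iff_subsingleton,
      iSup_eq_bot]
    constructor
    · intro h p
      infer_instance
    · intro h
      exact subsingleton_of_fibres M h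
  | coe N =>
    induction N with
    | top => simp
    | coe n =>
      simp only [iSup_le_iff]
      change projectiveDimension (ModuleCat.of B M) ≤ ((n : ℕ) : WithBot ℕ∞) ↔
        ∀ p, projectiveDimension (fib A B p M) ≤ ((n : ℕ) : WithBot ℕ∞)
      simp only [projectiveDimension_le_iff]
      exact hasProjectiveDimensionLT_succ_iff_fibres A B n M

end Dim

end Groth.Agent.Lib.Seat26.FibDim
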