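import Mathlib
import Groth.Prelude.Def_OmegaPn
import Groth.Agent.Lib.Helper18Con3

/-!
# Base change of the graded pieces `Gr_n = I^n / I^(n+1)` of an immersion (seat 26)

Generalisation to every `n` of helper18's treatment of the conormal sheaf (`Helper18Con1..3`):
for a cartesian square of quasi-compact immersions the canonical map
`gZ^* Gr_n(i') ⟶ Gr_n(i)` is an epimorphism, and an isomorphism when the base change map is flat.

* `idealSect_mem`, `exists_idealSect_of_mem`, `exists_idealSect_of_forall_mem`: sections of the ideal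
  sheaf `idealMod K` as functions.
* `chart`: the map on an affine chart.
* `main`: `Epi φ ∧ (Flat g → IsIso φ)`.
-/

set_option autoImplicit false
set_option linter.style.haveILetI false
set_option linter.unusedSectionVars false

universe u

open CategoryTheory AlgebraicGeometry Limits TopologicalSpace Opposite TensorProduct

namespace Groth.Agent.Lib.Seat26.GrBC

open Groth.Agent.Helper18Con Groth.Agent.Helper18OmLS Groth.Agent.Helper18Om
open Groth.Agent.Helper13PullbackUnit Groth.Agent.Helper13ModGlue Groth.Agent.Lib.Helper6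

section idealSections
variable {X : Scheme.{u}} (K : X.IdealSheafData)

/-- on an affine open the function of a section of `idealMod K` lies in `K.ideal`. -/
theorem idealSect_mem {U : X.Opens} (hU : IsAffineOpen U) (s : Γ(ClSub.idealMod K, U)) :
    OmegaSh.idealSect K U s ∈ K.ideal ⟨U, hU⟩ := by
  rw [← K.ker_subschemeι_app ⟨U, hU⟩, RingHom.mem_ker]
  exact Groth.Agent.Lib.Helper20.IdealModSec.ι_toSubscheme K U s

/-- a function vanishing on the closed subscheme is a section of the ideal. -/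
theorem exists_idealSect_of_app_eq_zero (W : X.Opens) (x : Γ(X, W))
    (hx : (K.subschemeι.app W).hom x = 0) :
    ∃ s : Γ(ClSub.idealMod K, W), OmegaSh.idealSect K W s = x :=
  Groth.Agent.Lib.Helper20.IdealModSec.exists_eq_ι K W x (by
    rw [Groth.Agent.Lib.Helper20.IdealModSec.toSubscheme_app]
    exact hx)

/-- on an affine open every element of `K.ideal` is the function of a section of `idealMod K`. -/
theorem exists_idealSect_of_mem {U : X.Opens} (hU : IsAffineOpen U) (x : Γ(X, U))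
    (hx : x ∈ K.ideal ⟨U, hU⟩) : ∃ s : Γ(ClSub.idealMod K, U), OmegaSh.idealSect K U s = x := by
  apply exists_idealSect_of_app_eq_zero
  rw [← K.ker_subschemeι_app ⟨U, hU⟩, RingHom.mem_ker] at hx
  exact hx

/-- over any open: a function whose restrictions to the affine opens inside lie in the ideal is the
function of a section of `idealMod K`. -/
theorem exists_idealSect_of_forall_mem (W : X.Opens) (x : Γ(X, W))
    (hx : ∀ (W' : X.Opens) (hW' : IsAffineOpen W') (hle : W' ≤ W),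
      X.presheaf.map (homOfLE hle).op x ∈ K.ideal ⟨W', hW'⟩) :
    ∃ s : Γ(ClSub.idealMod K, W), OmegaSh.idealSect K W s = x := by
  apply exists_idealSect_of_app_eq_zero
  refine (K.subscheme).IsSheaf.section_ext fun y hy => ?_
  obtain ⟨_, ⟨W', hW', rfl⟩, hyW', hW'W : W' ≤ W⟩ :=
    X.isBasis_affineOpens.exists_subset_of_mem_open hy W.isOpen
  refine ⟨K.subschemeι ⁻¹ᵁ W', K.subschemeι.preimage_mono hW'W, hyW', ?_⟩
  rw [map_zero]
  have hn := K.subschemeι.naturality (homOfLE hW'W).op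
  have hn' := congr($hn x)
  rw [ConcreteCategory.comp_apply, ConcreteCategory.comp_apply] at hn'
  refine hn'.symm.trans ?_
  have h1 := hx W' hW' hW'W
  rw [← K.ker_subschemeι_app ⟨W', hW'⟩, RingHom.mem_ker] at h1
  exact h1

end idealSections

section alg2
variable {A' A R : Type u} [CommRing A'] [CommRing A] [CommRing R] [Algebra A' A] [Algebra A R]
  [Algebra A' R] [IsScalarTower A' A R]
  {N' N : Type u} [AddCommGroup N'] [Module A' N'] [AddCommGroup N] [Module A N]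
  (τ : N' →+ N) (hτ : ∀ (a : A') (n : N'), τ (a • n) = algebraMap A' A a • τ n)

include hτ in
/-- variant of helper18's `exists_tensor_map`: bijectivity from injectivity of `A ⊗ N' → A ⊗ A'`
instead of flatness. -/
theorem exists_tensor_map' :
    ∃ Φ : R ⊗[A'] N' →+ R ⊗[A] N, (∀ (r : R) (n' : N'), Φ (r ⊗ₜ n') = r ⊗ₜ τ n') ∧
      ((∀ n : N, n ∈ Submodule.span A (Set.range τ)) → Function.Surjective Φ) ∧
      ∀ (ι' : N' →ₗ[A'] A') (ι : N →ₗ[A] A), Function.Injective (LinearMap.lTensor A ι') →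
        Function.Injective ι → (∀ n', ι (τ n') = algebraMap A' A (ι' n')) →
        (∀ n : N, n ∈ Submodule.span A (Set.range τ)) → Function.Bijective Φ := by
  letI : Module A' N := Module.compHom N (algebraMap A' A)
  haveI : IsScalarTower A' A N := IsScalarTower.of_algebraMap_smul fun _ _ => rfl
  let τl : N' →ₗ[A'] N := { toFun := τ, map_add' := map_add τ, map_smul' := fun a n => hτ a n }
  let β : A ⊗[A'] N' →ₗ[A] N := LinearMap.liftBaseChange A τl
  have hβ : ∀ (a : A) (n' : N'), β (a ⊗ₜ n') = a • τ n' := fun a n' =>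
    LinearMap.liftBaseChange_tmul _ _ _ _
  let c := TensorProduct.AlgebraTensorModule.cancelBaseChange A' A A R N'
  let Φl : R ⊗[A'] N' →ₗ[A] R ⊗[A] N := (LinearMap.lTensor R β).comp c.symm.toLinearMap
  have hΦ : ∀ (r : R) (n' : N'), Φl (r ⊗ₜ n') = r ⊗ₜ τ n' := by
    intro r n'
    change (LinearMap.lTensor R β) (c.symm (r ⊗ₜ n')) = _
    rw [TensorProduct.AlgebraTensorModule.cancelBaseChange_symm_tmul, LinearMap.lTensor_tmul, hβ,
      one_smul]
  have hsurj : (∀ n : N, n ∈ Submodule.span A (Set.range τ)) → Function.Surjective β := by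
    intro hgen
    rw [← LinearMap.range_eq_top, eq_top_iff]
    intro n _
    have hn := hgen n
    refine Submodule.span_le.2 ?_ hn
    rintro _ ⟨n', rfl⟩
    exact ⟨1 ⊗ₜ n', by rw [hβ, one_smul]⟩
  refine ⟨Φl.toAddMonoidHom, hΦ, ?_, ?_⟩
  · intro hgen
    have h1 : Function.Surjective (LinearMap.lTensor R β) :=
      LinearMap.lTensor_surjective R (hsurj hgen)
    exact h1.comp c.symm.surjective
  · intro ι' ι h1 hι hcomp hgen
    have hinj : Function.Injective β := by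
      have h2 : ∀ x : A ⊗[A'] N', ι (β x) = TensorProduct.rid A' A (LinearMap.lTensor A ι' x) := by
        intro x
        induction x using TensorProduct.induction_on with
        | zero => simp
        | tmul a n' =>
          rw [hβ, map_smul, hcomp, LinearMap.lTensor_tmul, TensorProduct.rid_tmul, smul_eq_mul,
            Algebra.smul_def, mul_comm]
        | add x y hx hy => rw [map_add, map_add, map_add, map_add, hx, hy]
      intro x y hxy
      apply h1
      apply (TensorProduct.rid A' A).injective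
      rw [← h2, ← h2, hxy]
    let βe : A ⊗[A'] N' ≃ₗ[A] N := LinearEquiv.ofBijective β ⟨hinj, hsurj hgen⟩
    have h3 : Function.Bijective (LinearMap.lTensor R β) :=
      (LinearEquiv.lTensor R βe).bijective
    exact h3.comp c.symm.bijective

end alg2

section idealIncl
variable {X : Scheme.{u}} (K : X.IdealSheafData)

/-- the inclusion of the sections of the ideal sheaf into the functions, as a linear map. -/
noncomputable def idealIncl (V : X.Opens) : Γ(ClSub.idealMod K, V) →ₗ[Γ(X, V)] Γ(X, V) where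
  toFun := OmegaSh.idealSect K V
  map_add' := map_add _
  map_smul' := fun a m => idealSect_smul _ V a m

theorem idealIncl_apply (V : X.Opens) (s : Γ(ClSub.idealMod K, V)) :
    idealIncl K V s = OmegaSh.idealSect K V s := rfl

theorem idealIncl_injective (V : X.Opens) : Function.Injective (idealIncl K V) :=
  idealSect_injective K V

end idealIncl

section square
variable {Z X Z' X' : Scheme.{u}} (i : Z ⟶ X) (i' : Z' ⟶ X') [QuasiCompact i] [QuasiCompact i']
  (g : X ⟶ X') (gZ : Z ⟶ Z') (hsq : gZ ≫ i' = i ≫ g) (n : ℕ)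

include hsq in
/-- `g♯` maps the ideal of `i'` into the ideal of `i` (on affine opens). -/
theorem appLE_mem_ker {V' : X'.Opens} (hV' : IsAffineOpen V') {U : X.Opens} (hU : IsAffineOpen U)
    (hUV' : U ≤ g ⁻¹ᵁ V') (a : Γ(X', V')) (ha : a ∈ i'.ker.ideal ⟨V', hV'⟩) :
    g.appLE V' U hUV' a ∈ i.ker.ideal ⟨U, hU⟩ := by
  rw [Scheme.Hom.ker_apply, RingHom.mem_ker] at ha ⊢
  have h1 : g.appLE V' U hUV' ≫ i.app U =
      (i ≫ g).appLE V' (i ⁻¹ᵁ U) (i.preimage_mono hUV') := by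
    rw [Scheme.Hom.app_eq_appLE, Scheme.Hom.appLE_comp_appLE]
  have h2 : (i ≫ g).appLE V' (i ⁻¹ᵁ U) (i.preimage_mono hUV') =
      (gZ ≫ i').appLE V' (i ⁻¹ᵁ U) (by rw [hsq]; exact i.preimage_mono hUV') :=
    (OmegaSh.appLE_congr_hom hsq _ _).symm
  have h3 : (gZ ≫ i').appLE V' (i ⁻¹ᵁ U) (by rw [hsq]; exact i.preimage_mono hUV') =
      i'.app V' ≫ gZ.appLE (i' ⁻¹ᵁ V') (i ⁻¹ᵁ U) (by
        have : i ⁻¹ᵁ U ≤ (gZ ≫ i') ⁻¹ᵁ V' := by rw [hsq]; exact i.preimage_mono hUV'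
        exact this) := by
    rw [Scheme.Hom.app_eq_appLE, Scheme.Hom.appLE_comp_appLE]
  have h4 := congr($(h1.trans (h2.trans h3)) a)
  rw [ConcreteCategory.comp_apply, ConcreteCategory.comp_apply] at h4
  rw [h4]
  change (gZ.appLE _ _ _) ((i'.app V').hom a) = 0
  rw [ha, map_zero]

include hsq in
theorem appLE_mem_ker_pow {V' : X'.Opens} (hV' : IsAffineOpen V') {U : X.Opens}
    (hU : IsAffineOpen U) (hUV' : U ≤ g ⁻¹ᵁ V') (a : Γ(X', V'))
    (ha : a ∈ (i'.ker ^ n).ideal ⟨V', hV'⟩) :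
    g.appLE V' U hUV' a ∈ (i.ker ^ n).ideal ⟨U, hU⟩ := by
  rw [Scheme.IdealSheafData.ideal_pow, Pi.pow_apply] at ha ⊢
  have h1 : Ideal.map (g.appLE V' U hUV').hom (i'.ker.ideal ⟨V', hV'⟩) ≤ i.ker.ideal ⟨U, hU⟩ := by
    rw [Ideal.map_le_iff_le_comap]
    intro b hb
    exact appLE_mem_ker i i' g gZ hsq hV' hU hUV' b hb
  have h2 := Ideal.pow_right_mono h1 n
  rw [← Ideal.map_pow] at h2
  exact h2 (Ideal.mem_map_of_mem _ ha)

include hsq in
/-- the pulled back function of a section of `I'^n` is a section of `I^n` over `g⁻¹ U'`. -/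
theorem exists_idealSect_app (U' : X'.Opens) (s' : Γ(ClSub.idealMod (i'.ker ^ n), U')) :
    ∃ s : Γ(ClSub.idealMod (i.ker ^ n), g ⁻¹ᵁ U'),
      OmegaSh.idealSect (i.ker ^ n) (g ⁻¹ᵁ U') s =
        g.app U' (OmegaSh.idealSect (i'.ker ^ n) U' s') := by
  apply exists_idealSect_of_forall_mem
  intro W hW hle
  -- cover `W` by affine opens mapping into affine opens of `U'`
  have hloc : ∀ x ∈ W, ∃ (W₁ : X.Opens) (hW₁ : IsAffineOpen W₁) (h₁ : W₁ ≤ W), x ∈ W₁ ∧
      X.presheaf.map (homOfLE (h₁.trans hle)).op (g.app U' (OmegaSh.idealSect (i'.ker ^ n) U' s')) ∈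
        (i.ker ^ n).ideal ⟨W₁, hW₁⟩ := by
    intro x hxW
    have hgx : g x ∈ U' := hle hxW
    obtain ⟨V₁, hV₁, hgxV₁, (hV₁U' : V₁ ≤ U')⟩ :=
      exists_isAffineOpen_mem_and_subset (x := g x) (U := U') hgx
    have hx' : x ∈ W ⊓ g ⁻¹ᵁ V₁ := ⟨hxW, hgxV₁⟩
    obtain ⟨W₁, hW₁, hxW₁, (hW₁le : W₁ ≤ W ⊓ g ⁻¹ᵁ V₁)⟩ :=
      exists_isAffineOpen_mem_and_subset (x := x) hx'
    refine ⟨W₁, hW₁, hW₁le.trans inf_le_left, hxW₁, ?_⟩
    have h1 : X.presheaf.map (homOfLE ((hW₁le.trans inf_le_left).trans hle)).op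
        (g.app U' (OmegaSh.idealSect (i'.ker ^ n) U' s')) =
        g.appLE V₁ W₁ (hW₁le.trans inf_le_right)
          (OmegaSh.idealSect (i'.ker ^ n) V₁
            ((ClSub.idealMod (i'.ker ^ n)).presheaf.map (homOfLE hV₁U').op s')) := by
      rw [idealSect_res]
      have e1 : g.appLE V₁ W₁ (hW₁le.trans inf_le_right) =
          g.app V₁ ≫ X.presheaf.map (homOfLE (hW₁le.trans inf_le_right)).op := rfl
      rw [e1, ConcreteCategory.comp_apply]
      have e2 := congr($(g.naturality (homOfLE hV₁U').op)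
        (OmegaSh.idealSect (i'.ker ^ n) U' s'))
      rw [ConcreteCategory.comp_apply, ConcreteCategory.comp_apply] at e2
      rw [e2]
      have e3 : ∀ r : Γ(X, g ⁻¹ᵁ U'), X.presheaf.map (homOfLE (hW₁le.trans inf_le_right)).op
          (X.presheaf.map ((Opens.map g.base).map (homOfLE hV₁U').op.unop).op r) =
          X.presheaf.map (homOfLE ((hW₁le.trans inf_le_left).trans hle)).op r := by
        intro r
        rw [← ConcreteCategory.comp_apply, ← Functor.map_comp]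
        rfl
      exact (e3 _).symm
    rw [h1]
    exact appLE_mem_ker_pow i i' g gZ hsq n hV₁ hW₁ _ _ (idealSect_mem _ hV₁ _)
  -- glue: membership in a quasi-coherent ideal is local
  have hmem : X.presheaf.map (homOfLE hle).op
      (g.app U' (OmegaSh.idealSect (i'.ker ^ n) U' s')) ∈ (i.ker ^ n).ideal ⟨W, hW⟩ := by
    rw [← (i.ker ^ n).ker_subschemeι_app ⟨W, hW⟩, RingHom.mem_ker]
    refine ((i.ker ^ n).subscheme).IsSheaf.section_ext fun y hy => ?_
    obtain ⟨W₁, hW₁, h₁, hyW₁, hm⟩ := hloc _ hy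
    refine ⟨(i.ker ^ n).subschemeι ⁻¹ᵁ W₁, (i.ker ^ n).subschemeι.preimage_mono h₁, hyW₁, ?_⟩
    rw [map_zero]
    have hn := (i.ker ^ n).subschemeι.naturality (homOfLE h₁).op
    have hn' := congr($hn (X.presheaf.map (homOfLE hle).op
      (g.app U' (OmegaSh.idealSect (i'.ker ^ n) U' s'))))
    rw [ConcreteCategory.comp_apply, ConcreteCategory.comp_apply] at hn'
    refine hn'.symm.trans ?_
    rw [← (i.ker ^ n).ker_subschemeι_app ⟨W₁, hW₁⟩, RingHom.mem_ker] at hm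
    have e3 : ∀ r : Γ(X, g ⁻¹ᵁ U'), X.presheaf.map (homOfLE h₁).op
        (X.presheaf.map (homOfLE hle).op r) = X.presheaf.map (homOfLE (h₁.trans hle)).op r := by
      intro r
      rw [← ConcreteCategory.comp_apply, ← Functor.map_comp]
      rfl
    rw [e3]
    exact hm
  exact hmem

end square

section chart
variable {Z X Z' X' : Scheme.{u}} (i : Z ⟶ X) (i' : Z' ⟶ X') [IsImmersion i] [IsImmersion i']
  [QuasiCompact i] [QuasiCompact i'] (g : X ⟶ X') (gZ : Z ⟶ Z') (hsq : IsPullback i gZ g i')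
  (n : ℕ) (φ : (Scheme.Modules.pullback gZ).obj (PrinPart.grMod i' n) ⟶ PrinPart.grMod i n)
  (hφ : PrinPart.IsGrMap i i' g gZ n φ)
  {V' : X'.Opens} (hV' : IsAffineOpen V') (hV'c : V' ≤ i'.coborderRange)
  {U : X.Opens} (hU : IsAffineOpen U) (hUV' : U ≤ g ⁻¹ᵁ V') (hUc : U ≤ i.coborderRange)

include hφ hUV' hsq in
/-- `φ` on a doubly pulled back section, over the chart. -/
theorem phi_double (s' : Γ(ClSub.idealMod (i'.ker ^ n), V'))
    (t : Γ(ClSub.idealMod (i.ker ^ n), U))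
    (ht : OmegaSh.idealSect (i.ker ^ n) U t =
      g.appLE V' U hUV' (OmegaSh.idealSect (i'.ker ^ n) V' s')) :
    φ.app (i ⁻¹ᵁ U) (unitSec gZ (PrinPart.grMod i' n) (chart_le i i' g gZ hsq hUV')
      (unitSec i' (ClSub.idealMod (i'.ker ^ n)) (le_refl (i' ⁻¹ᵁ V')) s')) =
    unitSec i (ClSub.idealMod (i.ker ^ n)) (le_refl (i ⁻¹ᵁ U)) t := by
  obtain ⟨S, hS⟩ := exists_idealSect_app i i' g gZ hsq.w.symm n V' s'
  have hTT' := chart_le i i' g gZ hsq hUV'
  have h₂ : i ⁻¹ᵁ U ≤ i ⁻¹ᵁ (g ⁻¹ᵁ V') := i.preimage_mono hUV'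
  have key := hφ.2 V' s' S hS (i ⁻¹ᵁ U) hTT' h₂
  -- left hand side
  have h1 : unitSec i' (ClSub.idealMod (i'.ker ^ n)) (le_refl (i' ⁻¹ᵁ V')) s' =
      PrinPart.grSect i' n V' s' := by
    rw [unitSec_apply]
    exact presheaf_map_homOfLE_refl _ _ _
  rw [h1, unitSec_apply]
  have hnat := congr($(φ.mapPresheaf.naturality (homOfLE hTT').op)
    (OmegaSh.pullSect gZ (PrinPart.grMod i' n) (i' ⁻¹ᵁ V') (PrinPart.grSect i' n V' s')))
  refine hnat.trans ?_
  change (PrinPart.grMod i n).presheaf.map (homOfLE hTT').op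
    (φ.app (gZ ⁻¹ᵁ (i' ⁻¹ᵁ V')) (OmegaSh.pullSect gZ (PrinPart.grMod i' n) (i' ⁻¹ᵁ V')
      (PrinPart.grSect i' n V' s'))) = _
  rw [key]
  -- right hand side
  have hSt : (ClSub.idealMod (i.ker ^ n)).presheaf.map (homOfLE hUV').op S = t := by
    apply idealSect_injective
    rw [idealSect_res, hS, ht]
    rfl
  rw [← hSt, unitSec_res i (ClSub.idealMod (i.ker ^ n)) hUV' (le_refl (i ⁻¹ᵁ U)) S]
  rw [unitSec_apply]
  rfl

include hsq hφ hV' hV'c hU hUV' hUc in
theorem chart :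
    Function.Surjective (φ.app (i ⁻¹ᵁ U)) ∧
      (letI : Algebra Γ(X', V') Γ(X, U) := (g.appLE V' U hUV').hom.toAlgebra
       Function.Injective (LinearMap.lTensor Γ(X, U) (idealIncl (i'.ker ^ n) V')) →
        Function.Bijective (φ.app (i ⁻¹ᵁ U))) := by
  have hTaff : IsAffineOpen (i ⁻¹ᵁ U) :=
    Groth.Agent.Lib.Helper20.ConormalStalk.isAffineOpen_preimage i hU hUc
  have hT'aff : IsAffineOpen (i' ⁻¹ᵁ V') :=
    Groth.Agent.Lib.Helper20.ConormalStalk.isAffineOpen_preimage i' hV' hV'c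
  have hTT' := chart_le i i' g gZ hsq hUV'
  letI algA'A : Algebra Γ(X', V') Γ(X, U) := (g.appLE V' U hUV').hom.toAlgebra
  letI algAR : Algebra Γ(X, U) Γ(Z, i ⁻¹ᵁ U) := (i.appLE U (i ⁻¹ᵁ U) le_rfl).hom.toAlgebra
  letI algA'R : Algebra Γ(X', V') Γ(Z, i ⁻¹ᵁ U) :=
    ((algebraMap Γ(X, U) Γ(Z, i ⁻¹ᵁ U)).comp (algebraMap Γ(X', V') Γ(X, U))).toAlgebra
  haveI : IsScalarTower Γ(X', V') Γ(X, U) Γ(Z, i ⁻¹ᵁ U) :=
    IsScalarTower.of_algebraMap_eq fun _ => rfl
  have hsqR : ∀ a : Γ(X', V'), algebraMap Γ(X', V') Γ(Z, i ⁻¹ᵁ U) a =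
      gZ.appLE (i' ⁻¹ᵁ V') (i ⁻¹ᵁ U) hTT' (i'.appLE V' (i' ⁻¹ᵁ V') le_rfl a) := by
    intro a
    have h1 : g.appLE V' U hUV' ≫ i.appLE U (i ⁻¹ᵁ U) le_rfl =
        (i ≫ g).appLE V' (i ⁻¹ᵁ U) (i.preimage_mono hUV') :=
      Scheme.Hom.appLE_comp_appLE _ _ _ _ _ _ _
    have h2 : i'.appLE V' (i' ⁻¹ᵁ V') le_rfl ≫ gZ.appLE (i' ⁻¹ᵁ V') (i ⁻¹ᵁ U) hTT' =
        (gZ ≫ i').appLE V' (i ⁻¹ᵁ U) hTT' :=
      Scheme.Hom.appLE_comp_appLE _ _ _ _ _ _ _
    have h3 := OmegaSh.appLE_congr_hom hsq.w (U := V') (V := i ⁻¹ᵁ U) (i.preimage_mono hUV') hTT'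
    have h4 : g.appLE V' U hUV' ≫ i.appLE U (i ⁻¹ᵁ U) le_rfl =
        i'.appLE V' (i' ⁻¹ᵁ V') le_rfl ≫ gZ.appLE (i' ⁻¹ᵁ V') (i ⁻¹ᵁ U) hTT' := by
      rw [h1, h2, h3]
    exact congr($h4 a)
  -- the pushout square of rings and the kernel
  have hPO : IsPushout (g.appLE V' U hUV') (i'.appLE V' (i' ⁻¹ᵁ V') le_rfl)
      (i.appLE U (i ⁻¹ᵁ U) (by simp)) (gZ.appLE (i' ⁻¹ᵁ V') (i ⁻¹ᵁ U) hTT') := by
    have hUY : i ⁻¹ᵁ U = i ⁻¹ᵁ U ⊓ gZ ⁻¹ᵁ (i' ⁻¹ᵁ V') := (inf_eq_left.2 hTT').symm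
    have := isIso_pushoutSection_of_isAffineOpen hsq (le_refl _) hUV' hUY hV' hT'aff hU
    exact (isIso_pushoutSection_iff hsq _ _ hUY).mp this
  have hsurj' : Function.Surjective (i'.appLE V' (i' ⁻¹ᵁ V') le_rfl).hom := by
    have := Groth.Agent.Lib.Helper20.ConormalStalk.app_surjective i' hV' hV'c
    rw [Scheme.Hom.app_eq_appLE] at this
    exact this
  have hker := ker_eq_map_of_isPushout hPO hsurj'
  -- the ideals
  have hI : i.ker.ideal ⟨U, hU⟩ = RingHom.ker (i.appLE U (i ⁻¹ᵁ U) le_rfl).hom := by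
    rw [Scheme.Hom.ker_apply, Scheme.Hom.app_eq_appLE]
  have hI' : i'.ker.ideal ⟨V', hV'⟩ = RingHom.ker (i'.appLE V' (i' ⁻¹ᵁ V') le_rfl).hom := by
    rw [Scheme.Hom.ker_apply, Scheme.Hom.app_eq_appLE]
  have hpow : (i.ker ^ n).ideal ⟨U, hU⟩ =
      Ideal.map (g.appLE V' U hUV').hom ((i'.ker ^ n).ideal ⟨V', hV'⟩) := by
    rw [Scheme.IdealSheafData.ideal_pow, Pi.pow_apply, Scheme.IdealSheafData.ideal_pow,
      Pi.pow_apply, Ideal.map_pow, hI, hI', hker]
  -- the comparison map of ideals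
  have hτex : ∀ s' : Γ(ClSub.idealMod (i'.ker ^ n), V'), ∃ s : Γ(ClSub.idealMod (i.ker ^ n), U),
      OmegaSh.idealSect (i.ker ^ n) U s =
        g.appLE V' U hUV' (OmegaSh.idealSect (i'.ker ^ n) V' s') := by
    intro s'
    refine exists_idealSect_of_mem _ hU _ ?_
    rw [hpow]
    exact Ideal.mem_map_of_mem _ (idealSect_mem _ hV' s')
  choose τf hτf using hτex
  let τ : Γ(ClSub.idealMod (i'.ker ^ n), V') →+ Γ(ClSub.idealMod (i.ker ^ n), U) :=
    { toFun := τf
      map_zero' := by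
        apply idealSect_injective
        rw [hτf, map_zero, map_zero, map_zero]
      map_add' := fun a b => by
        apply idealSect_injective
        rw [hτf, map_add, map_add, map_add, hτf, hτf] }
  have hτ : ∀ (a : Γ(X', V')) (m : Γ(ClSub.idealMod (i'.ker ^ n), V')),
      τ (a • m) = algebraMap Γ(X', V') Γ(X, U) a • τ m := by
    intro a m
    apply idealSect_injective
    change OmegaSh.idealSect (i.ker ^ n) U (τf (a • m)) = OmegaSh.idealSect (i.ker ^ n) U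
      (algebraMap Γ(X', V') Γ(X, U) a • τf m)
    rw [hτf, idealSect_smul, idealSect_smul, hτf, map_mul]
    rfl
  have hgen : ∀ m : Γ(ClSub.idealMod (i.ker ^ n), U),
      m ∈ Submodule.span Γ(X, U) (Set.range τ) := by
    intro m
    have h1 : OmegaSh.idealSect (i.ker ^ n) U m ∈ Ideal.map (g.appLE V' U hUV').hom
        ((i'.ker ^ n).ideal ⟨V', hV'⟩) := by
      rw [← hpow]
      exact idealSect_mem _ hU m
    have key : ∀ x ∈ Ideal.map (g.appLE V' U hUV').hom ((i'.ker ^ n).ideal ⟨V', hV'⟩),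
        ∃ m' ∈ Submodule.span Γ(X, U) (Set.range τ),
          OmegaSh.idealSect (i.ker ^ n) U m' = x := by
      intro x hx
      refine Submodule.span_induction ?_ ?_ ?_ ?_ hx
      · rintro _ ⟨σ', hσ', rfl⟩
        obtain ⟨s', hs'⟩ := exists_idealSect_of_mem (i'.ker ^ n) hV' σ' hσ'
        refine ⟨τ s', Submodule.subset_span ⟨s', rfl⟩, ?_⟩
        change OmegaSh.idealSect (i.ker ^ n) U (τf s') = _
        rw [hτf, hs']
      · exact ⟨0, zero_mem _, map_zero _⟩
      · rintro x y _ _ ⟨m₁, hm₁, rfl⟩ ⟨m₂, hm₂, rfl⟩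
        exact ⟨m₁ + m₂, add_mem hm₁ hm₂, map_add _ _ _⟩
      · rintro a x _ ⟨m₁, hm₁, rfl⟩
        exact ⟨a • m₁, Submodule.smul_mem _ a hm₁, idealSect_smul _ U a m₁⟩
    obtain ⟨m', hm', hmn⟩ := key _ h1
    rwa [idealSect_injective _ _ hmn] at hm'
  -- the tensor product descriptions
  obtain ⟨e₃, he₃⟩ := exists_pullback_equiv i (ClSub.idealMod (i.ker ^ n)) (le_refl (i ⁻¹ᵁ U))
    hU hTaff rfl
  let L : Γ(ClSub.idealMod (i'.ker ^ n), V') →+
      Γ((Scheme.Modules.pullback gZ).obj ((Scheme.Modules.pullback i').obj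
        (ClSub.idealMod (i'.ker ^ n))), i ⁻¹ᵁ U) :=
    (unitSec gZ ((Scheme.Modules.pullback i').obj (ClSub.idealMod (i'.ker ^ n))) hTT').comp
      (unitSec i' (ClSub.idealMod (i'.ker ^ n)) (le_refl (i' ⁻¹ᵁ V')))
  have hL : ∀ (a : Γ(X', V')) (m : Γ(ClSub.idealMod (i'.ker ^ n), V')),
      L (a • m) = algebraMap Γ(X', V') Γ(Z, i ⁻¹ᵁ U) a • L m := by
    intro a m
    change unitSec gZ _ hTT' (unitSec i' (ClSub.idealMod (i'.ker ^ n)) (le_refl (i' ⁻¹ᵁ V'))
      (a • m)) = _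
    rw [unitSec_smul, unitSec_smul, hsqR]
    rfl
  obtain ⟨Λ, hΛ⟩ := exists_baseChangeEquiv (A := Γ(X', V')) (B := Γ(Z, i ⁻¹ᵁ U)) L hL
    (fun N _ _ l hl => existsUnique_lift₂ i' gZ (ClSub.idealMod (i'.ker ^ n)) hV' hT'aff (le_refl _)
      hTaff hTT' N l (fun r x => by rw [hl, hsqR]))
  obtain ⟨Φ, hΦ, hΦs, hΦb⟩ := exists_tensor_map' (R := Γ(Z, i ⁻¹ᵁ U)) τ hτ
  let φT : Γ((Scheme.Modules.pullback gZ).obj ((Scheme.Modules.pullback i').obj
      (ClSub.idealMod (i'.ker ^ n))), i ⁻¹ᵁ U) →+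
      Γ((Scheme.Modules.pullback i).obj (ClSub.idealMod (i.ker ^ n)), i ⁻¹ᵁ U) :=
    (φ.app (i ⁻¹ᵁ U)).hom
  have hφT : ∀ x, φT x = φ.app (i ⁻¹ᵁ U) x := fun _ => rfl
  have hcomp : ∀ v : Γ(Z, i ⁻¹ᵁ U) ⊗[Γ(X', V')] Γ(ClSub.idealMod (i'.ker ^ n), V'),
      φT (Λ v) = e₃ (Φ v) := by
    intro v
    induction v using TensorProduct.induction_on with
    | zero => rw [map_zero, map_zero, map_zero, map_zero]
    | tmul r s' =>
      rw [hΛ, hΦ, he₃]
      refine (Scheme.Modules.Hom.app_smul φ r _).trans ?_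
      congr 1
      exact phi_double i i' g gZ hsq n φ hφ hUV' s' (τ s') (hτf s')
    | add x y hx hy => rw [map_add, map_add, map_add, map_add, hx, hy]
  constructor
  · intro y
    obtain ⟨w, rfl⟩ := e₃.surjective y
    obtain ⟨v, rfl⟩ := hΦs hgen w
    exact ⟨Λ v, (hφT _).symm.trans (hcomp v)⟩
  · intro hinj
    have hb := hΦb (idealIncl (i'.ker ^ n) V') (idealIncl (i.ker ^ n) U) hinj
      (idealIncl_injective _ U) (fun n' => hτf n') hgen
    constructor
    · intro x y hxy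
      obtain ⟨v, rfl⟩ := Λ.surjective x
      obtain ⟨w, rfl⟩ := Λ.surjective y
      have hxy' : φT (Λ v) = φT (Λ w) := hxy
      rw [hcomp, hcomp] at hxy'
      rw [hb.1 (e₃.injective hxy')]
    · intro y
      obtain ⟨w, rfl⟩ := e₃.surjective y
      obtain ⟨v, rfl⟩ := hb.2 w
      exact ⟨Λ v, (hφT _).symm.trans (hcomp v)⟩

end chart

section main
variable {Z X Z' X' : Scheme.{u}} (i : Z ⟶ X) (i' : Z' ⟶ X') [IsImmersion i] [IsImmersion i']
  [QuasiCompact i] [QuasiCompact i'] (g : X ⟶ X') (gZ : Z ⟶ Z') (hsq : IsPullback i gZ g i')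
  (n : ℕ)

include hsq in
/-- the canonical map of graded pieces `gZ^* Gr_n(i') ⟶ Gr_n(i)` for a cartesian square is an
epimorphism, and an isomorphism when the base change map is flat. -/
theorem main (φ : (Scheme.Modules.pullback gZ).obj (PrinPart.grMod i' n) ⟶ PrinPart.grMod i n)
    (hφ : PrinPart.IsGrMap i i' g gZ n φ) : Epi φ ∧ (Flat g → IsIso φ) := by
  haveI : (PrinPart.grMod i n).IsQuasicoherent :=
    inferInstanceAs ((Scheme.Modules.pullback i).obj (ClSub.idealMod (i.ker ^ n))).IsQuasicoherent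
  haveI : (PrinPart.grMod i' n).IsQuasicoherent :=
    inferInstanceAs ((Scheme.Modules.pullback i').obj
      (ClSub.idealMod (i'.ker ^ n))).IsQuasicoherent
  let ι : Type u := {T : X'.Opens × X.Opens // IsAffineOpen T.1 ∧ T.1 ≤ i'.coborderRange ∧
    IsAffineOpen T.2 ∧ T.2 ≤ g ⁻¹ᵁ T.1 ∧ T.2 ≤ i.coborderRange}
  have hcover : IsOpenCover (fun T : ι => i ⁻¹ᵁ T.1.2) := by
    refine IsOpenCover.mk (eq_top_iff.mpr ?_)
    intro z _
    obtain ⟨V', U, hV', hV'c, hU, hUV', hUc, hz⟩ := exists_chart_S9372 i i' g gZ hsq z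
    exact Opens.mem_iSup.mpr ⟨⟨⟨V', U⟩, hV', hV'c, hU, hUV', hUc⟩, hz⟩
  have haff : ∀ T : ι, IsAffineOpen (i ⁻¹ᵁ T.1.2) := fun T =>
    Groth.Agent.Lib.Helper20.ConormalStalk.isAffineOpen_preimage i T.2.2.2.1 T.2.2.2.2.2
  have hch : ∀ T : ι, _ := fun T : ι =>
    chart i i' g gZ hsq n φ hφ T.2.1 T.2.2.1 T.2.2.2.1 T.2.2.2.2.1 T.2.2.2.2.2
  constructor
  · exact epi_of_surjective_app_cover φ _ hcover haff (fun T => (hch T).1)
  · intro hflat
    refine isIso_of_bijective_app_cover φ _ hcover haff (fun T => (hch T).2 ?_)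
    letI : Algebra Γ(X', T.1.1) Γ(X, T.1.2) := (g.appLE T.1.1 T.1.2 T.2.2.2.2.1).hom.toAlgebra
    haveI : Module.Flat Γ(X', T.1.1) Γ(X, T.1.2) :=
      Scheme.Hom.flat_appLE g T.2.1 T.2.2.2.1 T.2.2.2.2.1
    exact Module.Flat.lTensor_preserves_injective_linearMap _ (idealIncl_injective _ _)

end main

end Groth.Agent.Lib.Seat26.GrBC
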