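import Mathlib

/-!
# Ring-level input for the base change of the graded pieces of a section (seat 26)

* `lTensor_injective_of_isPushout`: for a pushout square of rings `B = S ⊗[R] A`, injectivity of
  `B ⊗[A] M → B ⊗[A] N` follows from injectivity of `S ⊗[R] M → S ⊗[R] N`.
* `ker_mk_one`: for a surjective algebra map `A → C` with kernel `I`, the kernel of
  `m ↦ 1 ⊗ m : M → C ⊗[A] M` is `I • ⊤`.
* `lTensor_subtype_pow_injective`, `lTensor_injective_of_aug`: for an augmented `C`-algebra
  `C → A → C` with augmentation ideal `I`, if `I^k / I^(k+1)` is `C`-flat for `1 ≤ k < n` then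
  `Q ⊗[C] I^n → Q ⊗[C] A` is injective for every `C`-module `Q`.
-/

set_option autoImplicit false
set_option linter.unusedSectionVars false

universe u

open TensorProduct

namespace Groth.Agent.Lib.Seat26.GrSecAlg

section pushout
variable (R S A B : Type*) [CommRing R] [CommRing S] [CommRing A] [CommRing B]
  [Algebra R S] [Algebra R A] [Algebra R B] [Algebra A B] [Algebra S B]
  [IsScalarTower R A B] [IsScalarTower R S B] [Algebra.IsPushout R S A B]
  {M N : Type*} [AddCommGroup M] [Module R M] [Module A M] [IsScalarTower R A M]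
  [AddCommGroup N] [Module R N] [Module A N] [IsScalarTower R A N]

/-- for a pushout square of rings `B = S ⊗[R] A`, injectivity of `B ⊗[A] M → B ⊗[A] N` follows from
injectivity of `S ⊗[R] M → S ⊗[R] N`. -/
theorem lTensor_injective_of_isPushout (ι : M →ₗ[A] N)
    (h : Function.Injective (LinearMap.lTensor S (ι.restrictScalars R))) :
    Function.Injective (LinearMap.lTensor B ι) := by
  let cM := Algebra.IsPushout.cancelBaseChange R S A B M
  let cN := Algebra.IsPushout.cancelBaseChange R S A B N
  have hcomm : ∀ x : S ⊗[R] M, LinearMap.lTensor B ι (cM.symm x) =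
      cN.symm (LinearMap.lTensor S (ι.restrictScalars R) x) := by
    intro x
    induction x using TensorProduct.induction_on with
    | zero => rw [map_zero, map_zero, map_zero, map_zero]
    | tmul s m =>
      rw [Algebra.IsPushout.cancelBaseChange_symm_tmul, LinearMap.lTensor_tmul,
        LinearMap.lTensor_tmul, Algebra.IsPushout.cancelBaseChange_symm_tmul]
      rfl
    | add x y hx hy => rw [map_add, map_add, map_add, map_add, hx, hy]
  intro x y hxy
  obtain ⟨x', rfl⟩ := cM.symm.surjective x
  obtain ⟨y', rfl⟩ := cM.symm.surjective y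
  rw [hcomm, hcomm] at hxy
  rw [h (cN.symm.injective hxy)]

end pushout

section kerMk
variable {A C : Type*} [CommRing A] [CommRing C] [Algebra A C]
  (M : Type*) [AddCommGroup M] [Module A M]

/-- for a surjective algebra map `A → C` with kernel `I`, the kernel of `m ↦ 1 ⊗ m` is `I • ⊤`. -/
theorem ker_mk_one (hs : Function.Surjective (algebraMap A C)) :
    LinearMap.ker (TensorProduct.mk A C M 1) =
      (RingHom.ker (algebraMap A C) • ⊤ : Submodule A M) := by
  have hs' : Function.Surjective (Algebra.ofId A C) := hs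
  let e : (A ⧸ RingHom.ker (Algebra.ofId A C)) ≃ₐ[A] C :=
    Ideal.quotientKerAlgEquivOfSurjective hs'
  have h1 : TensorProduct.mk A C M 1 =
      (LinearEquiv.rTensor M e.toLinearEquiv).toLinearMap ∘ₗ
        TensorProduct.mk A (A ⧸ RingHom.ker (Algebra.ofId A C)) M 1 := by
    ext m
    simp
  rw [h1, LinearEquiv.ker_comp, LinearMap.ker_tensorProductMk]
  rfl

end kerMk

section retract
variable {C : Type*} [CommRing C] {M N : Type*} [AddCommGroup M] [Module C M] [AddCommGroup N]
  [Module C N]

theorem lTensor_injective_of_equiv (Q : Type*) [AddCommGroup Q] [Module C Q] (e : M ≃ₗ[C] N) :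
    Function.Injective (LinearMap.lTensor Q e.toLinearMap) :=
  (LinearEquiv.lTensor Q e).injective

end retract

section aug
variable {C A : Type u} [CommRing C] [CommRing A] [Algebra C A] [Algebra A C]
  (haug : ∀ c : C, algebraMap A C (algebraMap C A c) = c)

include haug in
theorem algebraMap_surjective_of_aug : Function.Surjective (algebraMap A C) :=
  fun c => ⟨algebraMap C A c, haug c⟩

/-- the `C`-linear map `m ↦ 1 ⊗ m : M → C ⊗[A] M` for an augmented algebra. -/
noncomputable def mkOne (M : Type u) [AddCommGroup M] [Module A M] [Module C M]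
    [IsScalarTower C A M] : M →ₗ[C] C ⊗[A] M where
  toFun m := (1 : C) ⊗ₜ[A] m
  map_add' := fun x y => TensorProduct.tmul_add _ _ _
  map_smul' := fun c m => by
    rw [RingHom.id_apply, ← algebraMap_smul A c m, ← TensorProduct.smul_tmul,
      TensorProduct.smul_tmul', Algebra.smul_def, mul_one, haug, smul_eq_mul, mul_one]

theorem mkOne_apply (M : Type u) [AddCommGroup M] [Module A M] [Module C M]
    [IsScalarTower C A M] (m : M) : mkOne haug M m = (1 : C) ⊗ₜ[A] m := rfl

include haug in
theorem mkOne_surjective (M : Type u) [AddCommGroup M] [Module A M] [Module C M]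
    [IsScalarTower C A M] : Function.Surjective (mkOne haug M) := by
  intro t
  induction t using TensorProduct.induction_on with
  | zero => exact ⟨0, map_zero _⟩
  | tmul c m =>
    refine ⟨algebraMap C A c • m, ?_⟩
    rw [mkOne_apply, ← TensorProduct.smul_tmul, Algebra.smul_def, mul_one, haug]
  | add x y hx hy =>
    obtain ⟨a, rfl⟩ := hx
    obtain ⟨b, rfl⟩ := hy
    exact ⟨a + b, map_add _ _ _⟩

theorem mkOne_eq_zero_iff (M : Type u) [AddCommGroup M] [Module A M] [Module C M]
    [IsScalarTower C A M] (m : M) :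
    mkOne haug M m = 0 ↔ m ∈ (RingHom.ker (algebraMap A C) • ⊤ : Submodule A M) := by
  rw [← ker_mk_one M (algebraMap_surjective_of_aug haug), LinearMap.mem_ker]
  rfl

/-- the augmentation ideal. -/
local notation "𝔞" => RingHom.ker (algebraMap A C)

include haug in
/-- `I^k / I^(k+1)` flat over `C` for `1 ≤ k < n` implies `Q ⊗ I^n → Q ⊗ A` injective. -/
theorem lTensor_subtype_pow_injective (n : ℕ)
    (hflat : ∀ k, 1 ≤ k → k < n → Module.Flat C (C ⊗[A] ↥(𝔞 ^ k)))
    (Q : Type u) [AddCommGroup Q] [Module C Q] :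
    Function.Injective (LinearMap.lTensor Q ((Submodule.subtype (𝔞 ^ n)).restrictScalars C)) := by
  induction n with
  | zero =>
    have htop : (𝔞 ^ 0 : Ideal A) = ⊤ := by rw [pow_zero, Ideal.one_eq_top]
    let e : ↥(𝔞 ^ 0) ≃ₗ[A] A := (LinearEquiv.ofEq _ _ htop).trans Submodule.topEquiv
    have he : (Submodule.subtype (𝔞 ^ 0)).restrictScalars C =
        (e.restrictScalars C).toLinearMap := by
      ext x
      rfl
    rw [he]
    exact lTensor_injective_of_equiv Q (e.restrictScalars C)
  | succ n ih =>
    have ih' := ih (fun k h1 h2 => hflat k h1 (Nat.lt_succ_of_lt h2))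
    -- flatness of the graded piece
    have hfl : Module.Flat C (C ⊗[A] ↥(𝔞 ^ n)) := by
      rcases Nat.eq_zero_or_pos n with h0 | hpos
      · subst h0
        have htop : (𝔞 ^ 0 : Ideal A) = ⊤ := by rw [pow_zero, Ideal.one_eq_top]
        let e : ↥(𝔞 ^ 0) ≃ₗ[A] A := (LinearEquiv.ofEq _ _ htop).trans Submodule.topEquiv
        let e2 : C ⊗[A] ↥(𝔞 ^ 0) ≃ₗ[C] C :=
          (TensorProduct.AlgebraTensorModule.congr (LinearEquiv.refl C C) e).trans
            (TensorProduct.AlgebraTensorModule.rid A C C)
        exact Module.Flat.of_linearEquiv e2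
      · exact hflat n hpos (Nat.lt_succ_self n)
    have hle : (𝔞 ^ (n + 1) : Ideal A) ≤ 𝔞 ^ n := Ideal.pow_le_pow_right (Nat.le_succ n)
    let incl : ↥(𝔞 ^ (n + 1)) →ₗ[C] ↥(𝔞 ^ n) := (Submodule.inclusion hle).restrictScalars C
    have hincl : Function.Injective incl := Submodule.inclusion_injective hle
    have hex : Function.Exact incl (mkOne haug ↥(𝔞 ^ n)) := by
      intro y
      rw [mkOne_eq_zero_iff]
      constructor
      · intro hy
        have h1 : (y : A) ∈ Submodule.map (Submodule.subtype (𝔞 ^ n))
            (𝔞 • ⊤ : Submodule A ↥(𝔞 ^ n)) := Submodule.mem_map_of_mem hy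
        rw [Submodule.map_smul'', Submodule.map_top, Submodule.range_subtype, smul_eq_mul,
          ← pow_succ'] at h1
        exact ⟨⟨y, h1⟩, Subtype.ext rfl⟩
      · rintro ⟨x, rfl⟩
        have h1 : ((incl x : ↥(𝔞 ^ n)) : A) ∈ Submodule.map (Submodule.subtype (𝔞 ^ n))
            (𝔞 • ⊤ : Submodule A ↥(𝔞 ^ n)) := by
          rw [Submodule.map_smul'', Submodule.map_top, Submodule.range_subtype, smul_eq_mul,
            ← pow_succ']
          exact x.2
        obtain ⟨z, hz, hzx⟩ := h1
        have : z = incl x := Subtype.ext hzx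
        rwa [this] at hz
    have hstep : Function.Injective (LinearMap.lTensor Q incl) :=
      LinearMap.lTensor_injective_of_exact_of_flat (mkOne haug ↥(𝔞 ^ n))
        (mkOne_surjective haug _) incl hincl hex Q
    have hcomp : (Submodule.subtype (𝔞 ^ (n + 1))).restrictScalars C =
        ((Submodule.subtype (𝔞 ^ n)).restrictScalars C) ∘ₗ incl := by
      ext x
      rfl
    rw [hcomp, LinearMap.lTensor_comp]
    exact ih'.comp hstep

include haug in
/-- version for modules `N k` mapping isomorphically onto the powers of the augmentation ideal. -/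
theorem lTensor_injective_of_aug
    (N : ℕ → Type u) [∀ k, AddCommGroup (N k)] [∀ k, Module A (N k)] [∀ k, Module C (N k)]
    [∀ k, IsScalarTower C A (N k)]
    (ι : ∀ k, N k →ₗ[A] A) (hι : ∀ k, Function.Injective (ι k))
    (hr : ∀ k, LinearMap.range (ι k) = 𝔞 ^ k)
    (n : ℕ) (hflat : ∀ k, 1 ≤ k → k < n → Module.Flat C (C ⊗[A] N k))
    (Q : Type u) [AddCommGroup Q] [Module C Q] :
    Function.Injective (LinearMap.lTensor Q ((ι n).restrictScalars C)) := by
  let e : ∀ k, N k ≃ₗ[A] ↥(𝔞 ^ k) := fun k =>
    (LinearEquiv.ofInjective (ι k) (hι k)).trans (LinearEquiv.ofEq _ _ (hr k))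
  have he : ∀ k (x : N k), ((e k x : ↥(𝔞 ^ k)) : A) = ι k x := fun k x => rfl
  have hfl : ∀ k, 1 ≤ k → k < n → Module.Flat C (C ⊗[A] ↥(𝔞 ^ k)) := by
    intro k h1 h2
    haveI := hflat k h1 h2
    exact Module.Flat.of_linearEquiv
      (TensorProduct.AlgebraTensorModule.congr (LinearEquiv.refl C C) (e k)).symm
  have h := lTensor_subtype_pow_injective haug n hfl Q
  have hcomp : (ι n).restrictScalars C =
      ((Submodule.subtype (𝔞 ^ n)).restrictScalars C) ∘ₗ ((e n).restrictScalars C).toLinearMap := by
    ext x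
    rfl
  rw [hcomp, LinearMap.lTensor_comp]
  exact h.comp (lTensor_injective_of_equiv Q ((e n).restrictScalars C))

end aug

end Groth.Agent.Lib.Seat26.GrSecAlg
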