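import Mathlib
import Groth.Prelude.Def_OmegaPn
import Groth.Prelude.Def_FlatMod2
import Groth.Agent.Lib.Seat26GrBC
import Groth.Agent.Lib.Seat26GrSecAlg
import Groth.Agent.Lib.Helper2LocFree

/-!
# Base change of the graded pieces of a section (seat 26)

Let `g : X ⟶ Y` have a section `f : Y ⟶ X` that is a closed immersion, and let `f' : Y' ⟶ X'` be
the section of the base change `g' : X' ⟶ Y'` of `g` along `u : Y' ⟶ Y` induced by `f`.  If the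
graded pieces `Gr_k(f)` are flat for `1 ≤ k < n`, then `u^* Gr_n(f) ⟶ Gr_n(f')` is an isomorphism
(`main_section`).  In particular (no hypothesis) for `n = 0, 1`.
-/

set_option autoImplicit false
set_option linter.style.haveILetI false
set_option linter.unusedSectionVars false

universe u

open CategoryTheory AlgebraicGeometry Limits TopologicalSpace Opposite TensorProduct

namespace Groth.Agent.Lib.Seat26.GrSec

open Groth.Agent.Lib.Seat26.GrBC Groth.Agent.Lib.Seat26.GrSecAlg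
open Groth.Agent.Helper18Con Groth.Agent.Helper18OmLS Groth.Agent.Helper18Om
open Groth.Agent.Helper13PullbackUnit

section closed
variable {X Y : Scheme.{u}} (f : Y ⟶ X) [IsClosedImmersion f]

theorem le_coborderRange (U : X.Opens) : U ≤ f.coborderRange := by
  intro x _
  change x ∈ coborder (Set.range f)
  rw [f.isClosedEmbedding.isClosed_range.coborder_eq]
  trivial

theorem range_idealIncl (K : X.IdealSheafData) {V : X.Opens} (hV : IsAffineOpen V) :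
    LinearMap.range (idealIncl K V) = K.ideal ⟨V, hV⟩ := by
  ext x
  constructor
  · rintro ⟨s, rfl⟩
    exact idealSect_mem K hV s
  · intro hx
    obtain ⟨s, hs⟩ := exists_idealSect_of_mem K hV x hx
    exact ⟨s, hs⟩

end closed

section chartExists
variable {X Y : Scheme.{u}} (g : X ⟶ Y) (f : Y ⟶ X) (hf : f ≫ g = 𝟙 Y)

include hf in
theorem preimage_comp_eq (W : Y.Opens) : f ⁻¹ᵁ (g ⁻¹ᵁ W) = W := by
  ext y
  change g (f y) ∈ W ↔ y ∈ W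
  rw [← Scheme.Hom.comp_apply, hf]
  rfl

include hf in
/-- affine charts adapted to a section. -/
theorem exists_section_chart (y : Y) :
    ∃ V' : X.Opens, IsAffineOpen V' ∧ IsAffineOpen (f ⁻¹ᵁ V') ∧ y ∈ f ⁻¹ᵁ V' ∧
      V' ≤ g ⁻¹ᵁ (f ⁻¹ᵁ V') := by
  obtain ⟨V, hV, hyV⟩ : ∃ V : Y.Opens, IsAffineOpen V ∧ y ∈ V := by
    obtain ⟨_, ⟨V, hV, rfl⟩, hy, -⟩ := Y.isBasis_affineOpens.exists_subset_of_mem_open
      (Set.mem_univ y) isOpen_univ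
    exact ⟨V, hV, hy⟩
  have hfy : f y ∈ g ⁻¹ᵁ V := by
    change g (f y) ∈ V
    rw [← Scheme.Hom.comp_apply, hf]
    exact hyV
  obtain ⟨U, hU, hfyU, hUV⟩ : ∃ U : X.Opens, IsAffineOpen U ∧ f y ∈ U ∧ U ≤ g ⁻¹ᵁ V := by
    obtain ⟨_, ⟨U, hU, rfl⟩, hy, hle⟩ := X.isBasis_affineOpens.exists_subset_of_mem_open
      hfy (g ⁻¹ᵁ V).isOpen
    exact ⟨U, hU, hy, hle⟩
  obtain ⟨a, hale, hya⟩ : ∃ a : Γ(Y, V), Y.basicOpen a ≤ f ⁻¹ᵁ U ⊓ V ∧ y ∈ Y.basicOpen a := by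
    obtain ⟨a, ha, hy⟩ := hV.exists_basicOpen_le (V := f ⁻¹ᵁ U ⊓ V) ⟨y, ⟨hfyU, hyV⟩⟩ hyV
    exact ⟨a, ha, hy⟩
  set W : Y.Opens := Y.basicOpen a with hWdef
  have hW : IsAffineOpen W := hV.basicOpen a
  have hWU : W ≤ f ⁻¹ᵁ U := hale.trans inf_le_left
  set b : Γ(X, U) := g.appLE V U hUV a with hbdef
  set U' : X.Opens := X.basicOpen b with hU'def
  have hU' : IsAffineOpen U' := hU.basicOpen b
  have hU'eq : U' = U ⊓ g ⁻¹ᵁ W := by
    rw [hU'def, hbdef, Scheme.Hom.appLE, CommRingCat.comp_apply, Scheme.basicOpen_res,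
      Scheme.preimage_basicOpen]
  have hfU' : f ⁻¹ᵁ U' = W := by
    rw [hU'eq]
    change f ⁻¹ᵁ U ⊓ f ⁻¹ᵁ (g ⁻¹ᵁ W) = W
    rw [preimage_comp_eq g f hf W]
    exact inf_eq_right.2 hWU
  refine ⟨U', hU', ?_, ?_, ?_⟩
  · rw [hfU']
    exact hW
  · rw [hfU']
    exact hya
  · rw [hfU', hU'eq]
    exact inf_le_right

end chartExists

section square
variable {X Y X' Y' : Scheme.{u}} (g : X ⟶ Y) (f : Y ⟶ X) [IsClosedImmersion f]
  (hf : f ≫ g = 𝟙 Y) (u : Y' ⟶ Y) (v : X' ⟶ X) (g' : X' ⟶ Y') (hsq : IsPullback v g' g u)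
  (f' : Y' ⟶ X') (hf' : f' ≫ g' = 𝟙 Y') (hf'v : f' ≫ v = u ≫ f)

include hf hsq hf' hf'v in
theorem isPullback_section : IsPullback f' u v f := by
  refine IsPullback.of_right ?_ hf'v hsq.flip
  rw [hf', hf]
  exact IsPullback.id_horiz u

include hf hsq hf' hf'v in
theorem isClosedImmersion_section : IsClosedImmersion f' :=
  MorphismProperty.of_isPullback (P := @IsClosedImmersion)
    (isPullback_section g f hf u v g' hsq f' hf' hf'v).flip inferInstance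

include hf hsq in
/-- the injectivity needed by `GrBC.chart`, on the charts adapted to the section. -/
theorem chart_injective (n : ℕ)
    (hflat : ∀ k, 1 ≤ k → k < n → FlatMod.IsFlat (PrinPart.grMod f k))
    {V' : X.Opens} (hV' : IsAffineOpen V') (hW : IsAffineOpen (f ⁻¹ᵁ V'))
    (hV'W : V' ≤ g ⁻¹ᵁ (f ⁻¹ᵁ V'))
    {W' : Y'.Opens} (hW' : IsAffineOpen W') (hW'W : W' ≤ u ⁻¹ᵁ (f ⁻¹ᵁ V'))
    {U : X'.Opens} (hUdef : U = v ⁻¹ᵁ V' ⊓ g' ⁻¹ᵁ W') (hUV' : U ≤ v ⁻¹ᵁ V') :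
    letI : Algebra Γ(X, V') Γ(X', U) := (v.appLE V' U hUV').hom.toAlgebra
    Function.Injective (LinearMap.lTensor Γ(X', U) (idealIncl (f.ker ^ n) V')) := by
  have hUW' : U ≤ g' ⁻¹ᵁ W' := by rw [hUdef]; exact inf_le_right
  letI algA'A : Algebra Γ(X, V') Γ(X', U) := (v.appLE V' U hUV').hom.toAlgebra
  letI algCA' : Algebra Γ(Y, f ⁻¹ᵁ V') Γ(X, V') := (g.appLE (f ⁻¹ᵁ V') V' hV'W).hom.toAlgebra
  letI algA'C : Algebra Γ(X, V') Γ(Y, f ⁻¹ᵁ V') :=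
    (f.appLE V' (f ⁻¹ᵁ V') le_rfl).hom.toAlgebra
  letI algCC' : Algebra Γ(Y, f ⁻¹ᵁ V') Γ(Y', W') := (u.appLE (f ⁻¹ᵁ V') W' hW'W).hom.toAlgebra
  letI algC'A : Algebra Γ(Y', W') Γ(X', U) := (g'.appLE W' U hUW').hom.toAlgebra
  letI algCA : Algebra Γ(Y, f ⁻¹ᵁ V') Γ(X', U) :=
    ((algebraMap Γ(X, V') Γ(X', U)).comp (algebraMap Γ(Y, f ⁻¹ᵁ V') Γ(X, V'))).toAlgebra
  haveI : IsScalarTower Γ(Y, f ⁻¹ᵁ V') Γ(X, V') Γ(X', U) :=
    IsScalarTower.of_algebraMap_eq fun _ => rfl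
  have hcomm : g.appLE (f ⁻¹ᵁ V') V' hV'W ≫ v.appLE V' U hUV' =
      u.appLE (f ⁻¹ᵁ V') W' hW'W ≫ g'.appLE W' U hUW' := by
    rw [Scheme.Hom.appLE_comp_appLE, Scheme.Hom.appLE_comp_appLE]
    exact OmegaSh.appLE_congr_hom hsq.w _ _
  haveI : IsScalarTower Γ(Y, f ⁻¹ᵁ V') Γ(Y', W') Γ(X', U) :=
    IsScalarTower.of_algebraMap_eq fun c => congr($hcomm c)
  -- the pushout square of rings
  have hPO : IsPushout (g.appLE (f ⁻¹ᵁ V') V' hV'W) (u.appLE (f ⁻¹ᵁ V') W' hW'W)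
      (v.appLE V' U hUV') (g'.appLE W' U hUW') := by
    have := isIso_pushoutSection_of_isAffineOpen hsq hW'W hV'W hUdef hW hW' hV'
    exact (isIso_pushoutSection_iff hsq _ _ hUdef).mp this
  haveI : Algebra.IsPushout Γ(Y, f ⁻¹ᵁ V') Γ(Y', W') Γ(X, V') Γ(X', U) :=
    CommRingCat.isPushout_iff_isPushout.mp hPO.flip
  -- the augmentation
  have haug : ∀ c : Γ(Y, f ⁻¹ᵁ V'),
      algebraMap Γ(X, V') Γ(Y, f ⁻¹ᵁ V') (algebraMap Γ(Y, f ⁻¹ᵁ V') Γ(X, V') c) = c := by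
    intro c
    have h1 : g.appLE (f ⁻¹ᵁ V') V' hV'W ≫ f.appLE V' (f ⁻¹ᵁ V') le_rfl =
        (f ≫ g).appLE (f ⁻¹ᵁ V') (f ⁻¹ᵁ V') (by rw [hf]; exact le_rfl) :=
      Scheme.Hom.appLE_comp_appLE _ _ _ _ _ _ _
    have h2 : (f ≫ g).appLE (f ⁻¹ᵁ V') (f ⁻¹ᵁ V') (by rw [hf]; exact le_rfl) =
        (𝟙 Y : Y ⟶ Y).appLE (f ⁻¹ᵁ V') (f ⁻¹ᵁ V') le_rfl :=
      OmegaSh.appLE_congr_hom hf _ _
    have h3 : (𝟙 Y : Y ⟶ Y).appLE (f ⁻¹ᵁ V') (f ⁻¹ᵁ V') le_rfl = 𝟙 _ := by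
      rw [Scheme.Hom.appLE, Scheme.Hom.id_app]
      exact (Category.id_comp _).trans (Y.presheaf.map_id _)
    exact congr($(h1.trans (h2.trans h3)) c)
  -- the modules
  letI modC : ∀ k, Module Γ(Y, f ⁻¹ᵁ V') Γ(ClSub.idealMod (f.ker ^ k), V') := fun k =>
    Module.compHom _ (algebraMap Γ(Y, f ⁻¹ᵁ V') Γ(X, V'))
  haveI : ∀ k, IsScalarTower Γ(Y, f ⁻¹ᵁ V') Γ(X, V') Γ(ClSub.idealMod (f.ker ^ k), V') :=
    fun k => IsScalarTower.of_algebraMap_smul fun _ _ => rfl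
  have hr : ∀ k, LinearMap.range (idealIncl (f.ker ^ k) V') =
      RingHom.ker (algebraMap Γ(X, V') Γ(Y, f ⁻¹ᵁ V')) ^ k := by
    intro k
    rw [range_idealIncl (f.ker ^ k) hV', Scheme.IdealSheafData.ideal_pow, Pi.pow_apply,
      Scheme.Hom.ker_apply, Scheme.Hom.app_eq_appLE]
    rfl
  have hfl : ∀ k, 1 ≤ k → k < n →
      Module.Flat Γ(Y, f ⁻¹ᵁ V') (Γ(Y, f ⁻¹ᵁ V') ⊗[Γ(X, V')] Γ(ClSub.idealMod (f.ker ^ k), V')) := by
    intro k h1 h2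
    haveI : (PrinPart.grMod f k).IsQuasicoherent :=
      inferInstanceAs ((Scheme.Modules.pullback f).obj
        (ClSub.idealMod (f.ker ^ k))).IsQuasicoherent
    haveI hfl0 : Module.Flat Γ(Y, f ⁻¹ᵁ V')
        Γ((Scheme.Modules.pullback f).obj (ClSub.idealMod (f.ker ^ k)), f ⁻¹ᵁ V') :=
      Groth.Agent.Lib.Helper2.LocFree.flat_sections_of_isFlatAt (PrinPart.grMod f k) hW
        (fun x _ => hflat k h1 h2 x)
    obtain ⟨e, -⟩ := exists_pullback_equiv f (ClSub.idealMod (f.ker ^ k))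
      (le_refl (f ⁻¹ᵁ V')) hV' hW rfl
    exact Module.Flat.of_linearEquiv e
  have h := lTensor_injective_of_aug haug
    (fun k => Γ(ClSub.idealMod (f.ker ^ k), V')) (fun k => idealIncl (f.ker ^ k) V')
    (fun k => idealIncl_injective _ V') hr n hfl Γ(Y', W')
  exact lTensor_injective_of_isPushout Γ(Y, f ⁻¹ᵁ V') Γ(Y', W') Γ(X, V') Γ(X', U)
    (idealIncl (f.ker ^ n) V') h

include hf hsq hf' hf'v in
/-- **Base change of the graded pieces of a section**: if `Gr_k(f)` is flat for `1 ≤ k < n`, the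
canonical map `u^* Gr_n(f) ⟶ Gr_n(f')` is an isomorphism. -/
theorem main_section (n : ℕ)
    (hflat : ∀ k, 1 ≤ k → k < n → FlatMod.IsFlat (PrinPart.grMod f k))
    (φ : (Scheme.Modules.pullback u).obj (PrinPart.grMod f n) ⟶ PrinPart.grMod f' n)
    (hφ : PrinPart.IsGrMap f' f v u n φ) : IsIso φ := by
  haveI : IsClosedImmersion f' := isClosedImmersion_section g f hf u v g' hsq f' hf' hf'v
  have hpb := isPullback_section g f hf u v g' hsq f' hf' hf'v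
  haveI : (PrinPart.grMod f' n).IsQuasicoherent :=
    inferInstanceAs ((Scheme.Modules.pullback f').obj
      (ClSub.idealMod (f'.ker ^ n))).IsQuasicoherent
  haveI : (PrinPart.grMod f n).IsQuasicoherent :=
    inferInstanceAs ((Scheme.Modules.pullback f).obj
      (ClSub.idealMod (f.ker ^ n))).IsQuasicoherent
  let ι : Type u := {T : X.Opens × Y'.Opens // IsAffineOpen T.1 ∧ IsAffineOpen (f ⁻¹ᵁ T.1) ∧
    T.1 ≤ g ⁻¹ᵁ (f ⁻¹ᵁ T.1) ∧ IsAffineOpen T.2 ∧ T.2 ≤ u ⁻¹ᵁ (f ⁻¹ᵁ T.1)}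
  let Uof : ι → X'.Opens := fun T => v ⁻¹ᵁ T.1.1 ⊓ g' ⁻¹ᵁ T.1.2
  have hUaff : ∀ T : ι, IsAffineOpen (Uof T) := by
    intro T
    haveI : IsAffine ↑(f ⁻¹ᵁ T.1.1) := T.2.2.1
    haveI : IsAffine ↑T.1.2 := T.2.2.2.2.1
    haveI : IsAffine ↑T.1.1 := T.2.1
    exact .of_isIso (Scheme.Hom.isPullback_resLE hsq T.2.2.2.2.2 T.2.2.2.1 rfl).isoPullback.hom
  have hcover : IsOpenCover (fun T : ι => f' ⁻¹ᵁ (Uof T)) := by
    refine IsOpenCover.mk (eq_top_iff.mpr ?_)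
    intro y' _
    obtain ⟨V', hV', hW, hyV', hV'W⟩ := exists_section_chart g f hf (u y')
    have hy' : y' ∈ u ⁻¹ᵁ (f ⁻¹ᵁ V') := hyV'
    obtain ⟨_, ⟨W', hW', rfl⟩, hy'W', (hW'W : W' ≤ u ⁻¹ᵁ (f ⁻¹ᵁ V'))⟩ :=
      Y'.isBasis_affineOpens.exists_subset_of_mem_open hy' (u ⁻¹ᵁ (f ⁻¹ᵁ V')).isOpen
    refine Opens.mem_iSup.mpr ⟨⟨⟨V', W'⟩, hV', hW, hV'W, hW', hW'W⟩, ?_⟩
    constructor
    · change v (f' y') ∈ V'
      rw [← Scheme.Hom.comp_apply, hf'v]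
      exact hyV'
    · change g' (f' y') ∈ W'
      rw [← Scheme.Hom.comp_apply, hf']
      exact hy'W'
  have haff : ∀ T : ι, IsAffineOpen (f' ⁻¹ᵁ (Uof T)) := fun T => (hUaff T).preimage f'
  refine isIso_of_bijective_app_cover φ _ hcover haff (fun T => ?_)
  have hUV' : Uof T ≤ v ⁻¹ᵁ T.1.1 := inf_le_left
  have hc := chart f' f v u hpb n φ hφ T.2.1 (le_coborderRange f _) (hUaff T) hUV'
    (le_coborderRange f' _)
  exact hc.2 (chart_injective g f hf u v g' hsq n hflat T.2.1 T.2.2.1 T.2.2.2.1 T.2.2.2.2.1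
    T.2.2.2.2.2 rfl hUV')

end square

end Groth.Agent.Lib.Seat26.GrSec
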