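import Mathlib
import Groth.Prelude.Def_OmegaPn
import Groth.Agent.Lib.Seat26GrBC
import Groth.Agent.Lib.Helper20FormalPull

/-!
# Finiteness of the ideal of a closed immersion locally of finite presentation (seat 26)

* `ker_ideal_fg`: the ideal of a closed immersion locally of finite presentation is finitely
  generated on affine opens.
* `isFiniteType_idealMod`: `ClSub.idealMod K` is of finite type when `K` is finitely generated on
  affine opens.
* `isCoh_grMod`: `Gr_n(f)` is quasi-coherent of finite type.
-/

set_option autoImplicit false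
set_option linter.style.haveILetI false
set_option linter.unusedSectionVars false

universe u

open CategoryTheory AlgebraicGeometry Limits TopologicalSpace Opposite

namespace Groth.Agent.Lib.Seat26.IdealFT

open Groth.Agent.Lib.Seat26.GrBC

section
variable {X Y : Scheme.{u}}

theorem le_coborderRange (f : Y ⟶ X) [IsClosedImmersion f] (U : X.Opens) :
    U ≤ f.coborderRange := by
  intro x _
  change x ∈ coborder (Set.range f)
  rw [f.isClosedEmbedding.isClosed_range.coborder_eq]
  trivial

theorem range_idealIncl (K : X.IdealSheafData) {V : X.Opens} (hV : IsAffineOpen V) :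
    LinearMap.range (idealIncl K V) = K.ideal ⟨V, hV⟩ := by
  ext x
  constructor
  · rintro ⟨s, rfl⟩
    exact idealSect_mem K hV s
  · intro hx
    obtain ⟨s, hs⟩ := exists_idealSect_of_mem K hV x hx
    exact ⟨s, hs⟩

/-- the ideal of a closed immersion locally of finite presentation is finitely generated. -/
theorem ker_ideal_fg (f : Y ⟶ X) [IsClosedImmersion f] [LocallyOfFinitePresentation f]
    {V : X.Opens} (hV : IsAffineOpen V) : (f.ker.ideal ⟨V, hV⟩).FG := by
  have hsurj : Function.Surjective (f.app V).hom :=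
    Groth.Agent.Lib.Helper20.ConormalStalk.app_surjective f hV (le_coborderRange f _)
  have hfp : (f.appLE V (f ⁻¹ᵁ V) le_rfl).hom.FinitePresentation :=
    HasRingHomProperty.appLE (P := @LocallyOfFinitePresentation) (f := f) inferInstance
      ⟨V, hV⟩ ⟨f ⁻¹ᵁ V, hV.preimage f⟩ le_rfl
  rw [← Scheme.Hom.app_eq_appLE] at hfp
  rw [Scheme.Hom.ker_apply]
  letI : Algebra Γ(X, V) Γ(Y, f ⁻¹ᵁ V) := (f.app V).hom.toAlgebra
  haveI : Algebra.FinitePresentation Γ(X, V) Γ(Y, f ⁻¹ᵁ V) := hfp
  exact Algebra.FinitePresentation.ker_fG_of_surjective (Algebra.ofId Γ(X, V) Γ(Y, f ⁻¹ᵁ V)) hsurj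

/-- `idealMod K` is of finite type when `K` is finitely generated on affine opens. -/
theorem isFiniteType_idealMod (K : X.IdealSheafData)
    (hK : ∀ (V : X.Opens) (hV : IsAffineOpen V), (K.ideal ⟨V, hV⟩).FG) :
    SheafOfModules.IsFiniteType (R := X.ringCatSheaf) (ClSub.idealMod K) := by
  rw [Groth.Agent.Lib.Helper23.FinType.isFiniteType_iff_forall_affine]
  intro V hV
  let e : Γ(ClSub.idealMod K, V) ≃ₗ[Γ(X, V)] ↥(K.ideal ⟨V, hV⟩) :=
    (LinearEquiv.ofInjective (idealIncl K V) (idealIncl_injective K V)).trans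
      (LinearEquiv.ofEq _ _ (range_idealIncl K hV))
  haveI : Module.Finite Γ(X, V) ↥(K.ideal ⟨V, hV⟩) := Module.Finite.iff_fg.2 (hK V hV)
  exact Module.Finite.equiv e.symm

/-- `Gr_n(f)` is quasi-coherent of finite type for a closed immersion locally of finite
presentation. -/
theorem isCoh_grMod (f : Y ⟶ X) [IsClosedImmersion f] [LocallyOfFinitePresentation f] (n : ℕ) :
    Coh.IsCoh (PrinPart.grMod f n) := by
  haveI : SheafOfModules.IsFiniteType (R := X.ringCatSheaf) (ClSub.idealMod (f.ker ^ n)) :=
    isFiniteType_idealMod _ (fun V hV => by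
      rw [Scheme.IdealSheafData.ideal_pow, Pi.pow_apply]
      exact (ker_ideal_fg f hV).pow)
  refine ⟨?_, ?_⟩
  · exact inferInstanceAs ((Scheme.Modules.pullback f).obj
      (ClSub.idealMod (f.ker ^ n))).IsQuasicoherent
  · exact Groth.Agent.Lib.Helper20.FormalPull.isFiniteType_pullback f
      (ClSub.idealMod (f.ker ^ n))

end

end Groth.Agent.Lib.Seat26.IdealFT
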