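import Mathlib
import Groth.Prelude.Def_OmegaPn
import Groth.Agent.Lib.Seat26GrBC

/-!
# Base change of infinitesimal neighbourhoods of a closed immersion (seat 26)

* `ker_ideal_eq_map`: for a cartesian square of closed immersions the ideal of the pulled back
  immersion is, on affine charts, the extension of the ideal.
* `ideal_comap`: affine description of `IdealSheafData.comap`.
* `comap_pow`: `(K ^ m).comap v = (K.comap v) ^ m`.
* `isPullback_infNbhd`: the `n`-th infinitesimal neighbourhood commutes with base change.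
-/

set_option autoImplicit false
set_option linter.style.haveILetI false
set_option linter.unusedSectionVars false

universe u

open CategoryTheory AlgebraicGeometry Limits TopologicalSpace Opposite

namespace Groth.Agent.Lib.Seat26.InfNbhdBC

open Groth.Agent.Lib.Seat26.GrBC Groth.Agent.Helper18Con

section closed
variable {X Y : Scheme.{u}} (f : Y ⟶ X) [IsClosedImmersion f]

theorem le_coborderRange (U : X.Opens) : U ≤ f.coborderRange := by
  intro x _
  change x ∈ coborder (Set.range f)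
  rw [f.isClosedEmbedding.isClosed_range.coborder_eq]
  trivial

end closed

section square
variable {Z X Z' X' : Scheme.{u}} (i : Z ⟶ X) (i' : Z' ⟶ X') [IsClosedImmersion i]
  [IsClosedImmersion i'] (g : X ⟶ X') (gZ : Z ⟶ Z') (hsq : IsPullback i gZ g i')

include hsq in
/-- for a cartesian square of closed immersions, the ideal of the base change is the extension of
the ideal, on affine charts. -/
theorem ker_ideal_eq_map {V' : X'.Opens} (hV' : IsAffineOpen V') {U : X.Opens}
    (hU : IsAffineOpen U) (hUV' : U ≤ g ⁻¹ᵁ V') :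
    i.ker.ideal ⟨U, hU⟩ = Ideal.map (g.appLE V' U hUV').hom (i'.ker.ideal ⟨V', hV'⟩) := by
  have hTT' := chart_le i i' g gZ hsq hUV'
  have hT'aff : IsAffineOpen (i' ⁻¹ᵁ V') := hV'.preimage i'
  have hPO : IsPushout (g.appLE V' U hUV') (i'.appLE V' (i' ⁻¹ᵁ V') le_rfl)
      (i.appLE U (i ⁻¹ᵁ U) (by simp)) (gZ.appLE (i' ⁻¹ᵁ V') (i ⁻¹ᵁ U) hTT') := by
    have hUY : i ⁻¹ᵁ U = i ⁻¹ᵁ U ⊓ gZ ⁻¹ᵁ (i' ⁻¹ᵁ V') := (inf_eq_left.2 hTT').symm
    have := isIso_pushoutSection_of_isAffineOpen hsq (le_refl _) hUV' hUY hV' hT'aff hU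
    exact (isIso_pushoutSection_iff hsq _ _ hUY).mp this
  have hsurj' : Function.Surjective (i'.appLE V' (i' ⁻¹ᵁ V') le_rfl).hom := by
    have := Groth.Agent.Lib.Helper20.ConormalStalk.app_surjective i' hV' (le_coborderRange i' _)
    rw [Scheme.Hom.app_eq_appLE] at this
    exact this
  have hker := ker_eq_map_of_isPushout hPO hsurj'
  have hI : i.ker.ideal ⟨U, hU⟩ = RingHom.ker (i.appLE U (i ⁻¹ᵁ U) le_rfl).hom := by
    rw [Scheme.Hom.ker_apply, Scheme.Hom.app_eq_appLE]
  have hI' : i'.ker.ideal ⟨V', hV'⟩ = RingHom.ker (i'.appLE V' (i' ⁻¹ᵁ V') le_rfl).hom := by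
    rw [Scheme.Hom.ker_apply, Scheme.Hom.app_eq_appLE]
  rw [hI, hI', hker]

end square

section comap
variable {X X' : Scheme.{u}} (K : X.IdealSheafData) (v : X' ⟶ X)

/-- affine description of the pulled back ideal sheaf. -/
theorem ideal_comap {V : X.Opens} (hV : IsAffineOpen V) {U : X'.Opens} (hU : IsAffineOpen U)
    (hUV : U ≤ v ⁻¹ᵁ V) :
    (K.comap v).ideal ⟨U, hU⟩ = Ideal.map (v.appLE V U hUV).hom (K.ideal ⟨V, hV⟩) := by
  have h := ker_ideal_eq_map (pullback.fst v K.subschemeι) K.subschemeι v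
    (pullback.snd v K.subschemeι) (IsPullback.of_hasPullback v K.subschemeι) hV hU hUV
  rw [K.ker_subschemeι] at h
  exact h

/-- charts: pairs of affine opens `U ≤ v⁻¹ V`. -/
theorem exists_chart (x' : X') : ∃ (V : X.Opens) (U : X'.Opens), IsAffineOpen V ∧ IsAffineOpen U ∧
    U ≤ v ⁻¹ᵁ V ∧ x' ∈ U := by
  obtain ⟨_, ⟨V, hV, rfl⟩, hxV, -⟩ := X.isBasis_affineOpens.exists_subset_of_mem_open
    (Set.mem_univ (v x')) isOpen_univ
  have hx' : x' ∈ v ⁻¹ᵁ V := hxV
  obtain ⟨_, ⟨U, hU, rfl⟩, hxU, (hUV : U ≤ v ⁻¹ᵁ V)⟩ :=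
    X'.isBasis_affineOpens.exists_subset_of_mem_open hx' (v ⁻¹ᵁ V).isOpen
  exact ⟨V, U, hV, hU, hUV, hxU⟩

/-- two ideal sheaves on `X'` agreeing on all charts are equal. -/
theorem ext_of_charts {I J : X'.IdealSheafData}
    (H : ∀ (V : X.Opens) (U : X'.Opens) (_ : IsAffineOpen V) (hU : IsAffineOpen U),
      U ≤ v ⁻¹ᵁ V → I.ideal ⟨U, hU⟩ = J.ideal ⟨U, hU⟩) : I = J := by
  let ι : Type u := {T : X.Opens × X'.Opens // IsAffineOpen T.1 ∧ IsAffineOpen T.2 ∧
    T.2 ≤ v ⁻¹ᵁ T.1}
  refine Scheme.IdealSheafData.ext_of_iSup_eq_top (ι := ι) (fun T => ⟨T.1.2, T.2.2.1⟩) ?_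
    (fun T => H T.1.1 T.1.2 T.2.1 T.2.2.1 T.2.2.2)
  refine eq_top_iff.mpr ?_
  intro x' _
  obtain ⟨V, U, hV, hU, hUV, hx⟩ := exists_chart v x'
  exact Opens.mem_iSup.mpr ⟨⟨⟨V, U⟩, hV, hU, hUV⟩, hx⟩

/-- pulling back ideal sheaves commutes with powers. -/
theorem comap_pow (m : ℕ) : (K ^ m).comap v = (K.comap v) ^ m := by
  refine ext_of_charts v (fun V U hV hU hUV => ?_)
  rw [ideal_comap (K ^ m) v hV hU hUV, Scheme.IdealSheafData.ideal_pow, Pi.pow_apply,
    Scheme.IdealSheafData.ideal_pow, Pi.pow_apply, ideal_comap K v hV hU hUV, Ideal.map_pow]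

end comap

section infNbhd
variable {Y X Y' X' : Scheme.{u}} (f : Y ⟶ X) [IsClosedImmersion f]
  (v : X' ⟶ X) (u : Y' ⟶ Y) (f' : Y' ⟶ X') (hsq : IsPullback u f' f v)

include hsq in
/-- the ideal of the base change of a closed immersion is the pulled back ideal. -/
theorem ker_eq_comap [IsClosedImmersion f'] : f'.ker = f.ker.comap v := by
  refine ext_of_charts v (fun V U hV hU hUV => ?_)
  rw [ideal_comap f.ker v hV hU hUV]
  exact ker_ideal_eq_map f' f v u hsq.flip hV hU hUV

include hsq in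
/-- **Infinitesimal neighbourhoods commute with base change.** -/
theorem isPullback_infNbhd (n : ℕ) (w : PrinPart.infNbhd f' n ⟶ PrinPart.infNbhd f n)
    (hw : w ≫ PrinPart.infNbhdι f n = PrinPart.infNbhdι f' n ≫ v) :
    IsPullback w (PrinPart.infNbhdι f' n) (PrinPart.infNbhdι f n) v := by
  haveI : IsClosedImmersion f' :=
    MorphismProperty.of_isPullback (P := @IsClosedImmersion) hsq inferInstance
  haveI : IsClosedImmersion (PrinPart.infNbhdι f n) := by
    rw [PrinPart.infNbhdι]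
    infer_instance
  haveI : IsClosedImmersion (PrinPart.infNbhdι f' n) := by
    rw [PrinPart.infNbhdι]
    infer_instance
  refine (isPullback_of_isClosedImmersion (PrinPart.infNbhdι f' n) (PrinPart.infNbhdι f n) w v
    hw.symm ?_).flip
  rw [PrinPart.infNbhdι, PrinPart.infNbhdι, Scheme.IdealSheafData.ker_subschemeι,
    Scheme.IdealSheafData.ker_subschemeι, comap_pow, ker_eq_comap f v u f' hsq]

end infNbhd

end Groth.Agent.Lib.Seat26.InfNbhdBC
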