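import Mathlib
import Groth.Prelude.Def_OmegaPn

/-!
# Infinitesimal neighbourhoods of a section are finite over the base (seat 26)

* `finite_of_retraction`: ring-level statement: `A → B` of finite type, `ψ : B → A'` with `A → A'`
  bijective and `q : B → C` surjective with kernel `(ker ψ)^(n+1)`; then `A → C` is finite.
* `isFinite_of_cover`: finiteness can be checked on an arbitrary cover of the target by affine opens.
* `isFinite_infNbhd_of_section`: for `g : X ⟶ Y` locally of finite type with a section `f` which is a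
  closed immersion, `infNbhd f n ⟶ X ⟶ Y` is finite.
-/

set_option autoImplicit false
set_option linter.style.haveILetI false

universe u

namespace Groth.Agent.Lib.Seat26.InfNbhdFin

open CategoryTheory AlgebraicGeometry TopologicalSpace Opposite

/-- Ring-level finiteness of an infinitesimal neighbourhood of a section. -/
theorem finite_of_retraction {A B A' C : Type*} [CommRing A] [CommRing B] [CommRing A'] [CommRing C]
    (φ : A →+* B) (hφ : φ.FiniteType) (ψ : B →+* A') (hψφ : Function.Bijective (ψ.comp φ))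
    (q : B →+* C) (hq : Function.Surjective q) (n : ℕ) (hker : RingHom.ker q = RingHom.ker ψ ^ (n + 1)) :
    (q.comp φ).Finite := by
  letI : Algebra A B := φ.toAlgebra
  letI : Algebra A C := (q.comp φ).toAlgebra
  letI : Algebra B C := q.toAlgebra
  haveI : IsScalarTower A B C := IsScalarTower.of_algebraMap_eq' rfl
  haveI : Algebra.FiniteType A B := hφ
  haveI : Algebra.FiniteType A C :=
    Algebra.FiniteType.of_surjective (IsScalarTower.toAlgHom A B C) hq
  haveI : Algebra.IsIntegral A C := by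
    refine ⟨fun c => ?_⟩
    obtain ⟨b, rfl⟩ := hq c
    obtain ⟨a, ha⟩ := hψφ.2 (ψ b)
    have hmem : b - φ a ∈ RingHom.ker ψ := by
      rw [RingHom.mem_ker, map_sub]
      have : ψ (φ a) = ψ b := ha
      rw [this, sub_self]
    have hnil : (q b - q (φ a)) ^ (n + 1) = 0 := by
      rw [← map_sub, ← map_pow, ← RingHom.mem_ker, hker]
      exact Ideal.pow_mem_pow hmem (n + 1)
    have h1 : IsIntegral A (q b - q (φ a)) := IsIntegral.of_pow (Nat.succ_pos n) (by
      rw [hnil]
      exact isIntegral_zero)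
    have h2 : IsIntegral A (q (φ a)) := by
      have : q (φ a) = algebraMap A C a := rfl
      rw [this]
      exact isIntegral_algebraMap
    have := h1.add h2
    rwa [sub_add_cancel] at this
  have : Module.Finite A C := Algebra.IsIntegral.finite
  exact this

set_option backward.isDefEq.respectTransparency false in
/-- Finiteness of a morphism may be checked on any family of affine opens of the target covering it,
with affine preimages and finite ring maps. -/
theorem isFinite_of_cover {N Y : Scheme.{u}} (h : N ⟶ Y)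
    (H : ∀ y : Y, ∃ V : Y.Opens, y ∈ V ∧ IsAffineOpen V ∧ IsAffineOpen (h ⁻¹ᵁ V) ∧
      (h.app V).hom.Finite) : IsFinite h := by
  choose V hyV hV hhV hfin using H
  have hsup : ⨆ y, ((⟨V y, hV y⟩ : Y.affineOpens) : Y.Opens) = ⊤ := by
    rw [eq_top_iff]
    intro y _
    exact Opens.mem_iSup.2 ⟨y, hyV y⟩
  rw [HasAffineProperty.iff_of_iSup_eq_top (P := @IsFinite) (fun y => (⟨V y, hV y⟩ : Y.affineOpens))
    hsup]
  intro y
  refine ⟨hhV y, ?_⟩
  change ((h ∣_ V y).app ⊤).hom.Finite
  simp only [morphismRestrict_app, CommRingCat.hom_comp,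
    RingHom.finite_respectsIso.cancel_right_isIso]
  change (Scheme.Hom.app h ((V y).ι ''ᵁ ⊤)).hom.Finite
  rw [Scheme.Opens.ι_image_top]
  exact hfin y

section Section

variable {X Y : Scheme.{u}} (g : X ⟶ Y) [LocallyOfFiniteType g] (f : Y ⟶ X)
  [IsClosedImmersion f] (hf : f ≫ g = 𝟙 Y) (n : ℕ)

omit [LocallyOfFiniteType g] [IsClosedImmersion f] in
include hf in
theorem preimage_comp_eq (W : Y.Opens) : f ⁻¹ᵁ (g ⁻¹ᵁ W) = W := by
  ext y
  change g (f y) ∈ W ↔ y ∈ W
  rw [← Scheme.Hom.comp_apply, hf]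
  rfl

include hf in
/-- **The `n`-th infinitesimal neighbourhood of a section is finite over the base.** -/
theorem isFinite_infNbhd_of_section : IsFinite (PrinPart.infNbhdι f n ≫ g) := by
  apply isFinite_of_cover
  intro y
  -- choose affine opens
  obtain ⟨V, hV, hyV⟩ : ∃ V : Y.Opens, IsAffineOpen V ∧ y ∈ V := by
    obtain ⟨_, ⟨V, hV, rfl⟩, hy, -⟩ := Y.isBasis_affineOpens.exists_subset_of_mem_open
      (Set.mem_univ y) isOpen_univ
    exact ⟨V, hV, hy⟩
  have hfy : f y ∈ g ⁻¹ᵁ V := by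
    change g (f y) ∈ V
    rw [← Scheme.Hom.comp_apply, hf]
    exact hyV
  obtain ⟨U, hU, hfyU, hUV⟩ : ∃ U : X.Opens, IsAffineOpen U ∧ f y ∈ U ∧ U ≤ g ⁻¹ᵁ V := by
    obtain ⟨_, ⟨U, hU, rfl⟩, hy, hle⟩ := X.isBasis_affineOpens.exists_subset_of_mem_open
      hfy (g ⁻¹ᵁ V).isOpen
    exact ⟨U, hU, hy, hle⟩
  obtain ⟨a, hale, hya⟩ : ∃ a : Γ(Y, V), Y.basicOpen a ≤ f ⁻¹ᵁ U ⊓ V ∧ y ∈ Y.basicOpen a := by
    obtain ⟨a, ha, hy⟩ := hV.exists_basicOpen_le (V := f ⁻¹ᵁ U ⊓ V) ⟨y, ⟨hfyU, hyV⟩⟩ hyV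
    exact ⟨a, ha, hy⟩
  set V' : Y.Opens := Y.basicOpen a with hV'def
  have hV' : IsAffineOpen V' := hV.basicOpen a
  have hV'V : V' ≤ V := Y.basicOpen_le a
  have hV'U : V' ≤ f ⁻¹ᵁ U := hale.trans inf_le_left
  set b : Γ(X, U) := g.appLE V U hUV a with hbdef
  set U' : X.Opens := X.basicOpen b with hU'def
  have hU' : IsAffineOpen U' := hU.basicOpen b
  have hU'U : U' ≤ U := X.basicOpen_le b
  have hU'eq : U' = U ⊓ g ⁻¹ᵁ V' := by
    rw [hU'def, hbdef, Scheme.Hom.appLE, CommRingCat.comp_apply, Scheme.basicOpen_res,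
      Scheme.preimage_basicOpen]
  have hU'V' : U' ≤ g ⁻¹ᵁ V' := by
    rw [hU'eq]
    exact inf_le_right
  have hfU' : f ⁻¹ᵁ U' = V' := by
    rw [hU'eq]
    change f ⁻¹ᵁ U ⊓ f ⁻¹ᵁ (g ⁻¹ᵁ V') = V'
    rw [preimage_comp_eq g f hf V']
    exact inf_eq_right.2 hV'U
  set ι := PrinPart.infNbhdι f n with hιdef
  haveI : IsClosedImmersion ι := by
    rw [hιdef, PrinPart.infNbhdι]
    infer_instance
  -- the preimage of `V'` in the neighbourhood is the preimage of `U'`
  have hpre : (ι ≫ g) ⁻¹ᵁ V' = ι ⁻¹ᵁ U' := by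
    ext x
    obtain ⟨z, rfl⟩ := PrinPart.toInfNbhd_surjective f n x
    have hz : ι (PrinPart.toInfNbhd f n z) = f z := by
      rw [← Scheme.Hom.comp_apply, hιdef, PrinPart.toInfNbhd_ι]
    change g (ι (PrinPart.toInfNbhd f n z)) ∈ V' ↔ ι (PrinPart.toInfNbhd f n z) ∈ U'
    rw [hz, ← Scheme.Hom.comp_apply, hf]
    change z ∈ V' ↔ f z ∈ U'
    have : f z ∈ U' ↔ z ∈ f ⁻¹ᵁ U' := Iff.rfl
    rw [this, hfU']
  refine ⟨V', hya, hV', ?_, ?_⟩
  · rw [hpre]
    exact hU'.preimage ι
  · -- the ring map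
    have key : ∀ (W : (PrinPart.infNbhd f n).Opens) (e : W = ι ⁻¹ᵁ U'),
        ((ι ≫ g).appLE V' W (by rw [e, ← hpre])).hom.Finite := by
      intro W e
      subst e
      have h1 : (ι ≫ g).appLE V' (ι ⁻¹ᵁ U') (by rw [← hpre]) =
          g.appLE V' U' hU'V' ≫ ι.app U' := by
        rw [Scheme.Hom.app_eq_appLE, Scheme.Hom.appLE_comp_appLE]
      rw [h1, CommRingCat.hom_comp]
      -- apply the ring-level lemma
      have hφ : (g.appLE V' U' hU'V').hom.FiniteType :=
        HasRingHomProperty.appLE (P := @LocallyOfFiniteType) (f := g) inferInstance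
          ⟨V', hV'⟩ ⟨U', hU'⟩ hU'V'
      have hq : Function.Surjective (ι.app U').hom := by
        rw [hιdef, PrinPart.infNbhdι]
        exact Scheme.IdealSheafData.subschemeι_app_surjective _ ⟨U', hU'⟩
      have hker : RingHom.ker (ι.app U').hom = RingHom.ker (f.app U').hom ^ (n + 1) := by
        rw [hιdef, PrinPart.infNbhdι]
        rw [Scheme.IdealSheafData.ker_subschemeι_app (f.ker ^ (n + 1)) ⟨U', hU'⟩,
          Scheme.IdealSheafData.ideal_pow, Pi.pow_apply, Scheme.Hom.ker_apply]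
      have hbij : Function.Bijective ((f.app U').hom.comp (g.appLE V' U' hU'V').hom) := by
        rw [← CommRingCat.hom_comp]
        have h2 : g.appLE V' U' hU'V' ≫ f.app U' =
            (f ≫ g).appLE V' (f ⁻¹ᵁ U') (by rw [hfU', hf]; exact le_rfl) := by
          rw [Scheme.Hom.app_eq_appLE, Scheme.Hom.appLE_comp_appLE]
        rw [h2]
        have h3 : ∀ (k : Y ⟶ Y) (hk : k = 𝟙 Y) (W : Y.Opens) (e : W = V') (le : W ≤ k ⁻¹ᵁ V'),
            Function.Bijective (k.appLE V' W le).hom := by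
          intro k hk W e le
          subst hk
          haveI : IsIso (homOfLE le) :=
            ⟨⟨homOfLE (by rw [e]; exact le_rfl), Subsingleton.elim _ _, Subsingleton.elim _ _⟩⟩
          haveI : IsIso ((𝟙 Y : Y ⟶ Y).appLE V' W le) := by
            rw [Scheme.Hom.appLE]
            infer_instance
          exact (asIso ((𝟙 Y : Y ⟶ Y).appLE V' W le)).commRingCatIsoToRingEquiv.bijective
        exact h3 (f ≫ g) hf _ hfU' _
      exact finite_of_retraction _ hφ _ hbij _ hq n hker
    have := key ((ι ≫ g) ⁻¹ᵁ V') hpre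
    rwa [← Scheme.Hom.app_eq_appLE] at this

end Section

end Groth.Agent.Lib.Seat26.InfNbhdFin
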