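import Mathlib
import Groth.Agent.Lib.Helper3FibreFlat
import Groth.Agent.Lib.Helper2FlatOver
import Groth.Agent.Lib.Seat26FibDim

/-!
# Projective dimension of the fibre stalks is upper semicontinuous (seat 26)

For `B` a finitely presented flat `A`-algebra and `M` a finitely presented `B`-module flat over `A`,
the function `P ↦ pd_{B_P / 𝔭 B_P} (M_P / 𝔭 M_P)` (`𝔭 = P ∩ A`) is upper semicontinuous on `Spec B`.

* `lTensor_localFibre_injective`: base change to the local ring of the fibre keeps
  `0 → K → F → M → 0` exact on the left when `M` is flat over `A`.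
* `projective_localFibre_iff`: the fibre stalk is projective iff `M` is free at `P`.
* `subsingleton_localFibre_iff`: the fibre stalk vanishes iff `P` is outside the support.
* `isOpen_hasProjectiveDimensionLT`, `upperSemicontinuous_projectiveDimension`.
-/

set_option autoImplicit false
set_option linter.style.haveILetI false
set_option linter.unusedSectionVars false

universe u

namespace Groth.Agent.Lib.Seat26.LocFibDim

open TensorProduct CategoryTheory

variable (A : Type u) {B : Type u} [CommRing A] [CommRing B] [Algebra A B]

/-- the local ring of `Spec B` at `P`. -/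
abbrev LP (P : PrimeSpectrum B) : Type u := Localization.AtPrime P.asIdeal

/-- the ideal of the fibre in the local ring. -/
abbrev JP (P : PrimeSpectrum B) : Ideal (LP P) :=
  (P.asIdeal.under A).map (algebraMap A (LP P))

/-- the local ring of the fibre at `P`. -/
abbrev RP (P : PrimeSpectrum B) : Type u := LP P ⧸ JP A P

/-- the fibre stalk of a module. -/
noncomputable abbrev fibLoc (P : PrimeSpectrum B) (M : Type u) [AddCommGroup M] [Module B M] :
    ModuleCat.{u} (RP A P) :=
  ModuleCat.of (RP A P) ((RP A P) ⊗[B] M)

theorem JP_le (P : PrimeSpectrum B) : JP A P ≤ IsLocalRing.maximalIdeal (LP P) := by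
  rw [Ideal.map_le_iff_le_comap]
  intro a ha
  rw [Ideal.mem_comap, IsScalarTower.algebraMap_apply A B (LP P), ← Ideal.mem_comap]
  have h1 : Ideal.comap (algebraMap B (LP P)) (IsLocalRing.maximalIdeal (LP P)) = P.asIdeal :=
    IsLocalization.AtPrime.under_maximalIdeal (LP P) P.asIdeal
  rw [h1]
  exact ha

section Exact

variable {A} (P : PrimeSpectrum B)

/-- Base change to the local ring of the fibre keeps a short exact sequence with `A`-flat cokernel
exact on the left. -/
theorem lTensor_localFibre_injective {K F M : Type u} [AddCommGroup K] [Module B K] [Module A K]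
    [IsScalarTower A B K] [AddCommGroup F] [Module B F] [Module A F] [IsScalarTower A B F]
    [AddCommGroup M] [Module B M] [Module A M] [IsScalarTower A B M] [Module.Flat A M]
    (ι : K →ₗ[B] F) (π : F →ₗ[B] M) (hι : Function.Injective ι) (hπ : Function.Surjective π)
    (hex : Function.Exact ι π) : Function.Injective (ι.lTensor (RP A P)) := by
  let L := LP P
  let κ := A ⧸ P.asIdeal.under A
  -- localize
  let ιL : L ⊗[B] K →ₗ[L] L ⊗[B] F := ι.baseChange L
  let πL : L ⊗[B] F →ₗ[L] L ⊗[B] M := π.baseChange L
  have hιL : Function.Injective ιL :=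
    Module.Flat.lTensor_preserves_injective_linearMap (M := L) ι hι
  have hπL : Function.Surjective πL := LinearMap.lTensor_surjective L hπ
  have hexL : Function.Exact ιL πL := lTensor_exact L hex hπ
  haveI : Module.Flat A (L ⊗[B] M) :=
    Groth.Agent.Lib.Helper2.FlatOver.flat_of_isLocalizedModule_tower (R := A) (B := B)
      P.asIdeal.primeCompl (TensorProduct.mk B L M 1)
  have h1 : Function.Injective (ιL.lTensor (L ⊗[A] κ)) :=
    Groth.Agent.Lib.Seat26.FibDim.lTensor_fibre_injective (A := A) (B := L) κ ιL πL hιL hπL hexL
  -- transport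
  let e : RP A P ≃ₗ[L] L ⊗[A] κ :=
    (Algebra.TensorProduct.quotIdealMapEquivTensorQuot L (P.asIdeal.under A)).toLinearEquiv
  let θ : ∀ (X : Type u) [AddCommGroup X] [Module B X],
      (RP A P) ⊗[B] X ≃+ (L ⊗[A] κ) ⊗[L] (L ⊗[B] X) := fun X _ _ =>
    ((AlgebraTensorModule.cancelBaseChange B L (RP A P) (RP A P) X).symm.toAddEquiv).trans
      (LinearEquiv.rTensor (L ⊗[B] X) e).toAddEquiv
  have hθ : ∀ (X : Type u) [AddCommGroup X] [Module B X] (r : RP A P) (x : X),
      θ X (r ⊗ₜ x) = e r ⊗ₜ ((1 : L) ⊗ₜ x) := by
    intro X _ _ r x
    change (LinearEquiv.rTensor (L ⊗[B] X) e)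
      ((AlgebraTensorModule.cancelBaseChange B L (RP A P) (RP A P) X).symm (r ⊗ₜ x)) = _
    rw [AlgebraTensorModule.cancelBaseChange_symm_tmul, LinearEquiv.rTensor_tmul]
  have hnat : ∀ t : (RP A P) ⊗[B] K,
      θ F (ι.lTensor (RP A P) t) = ιL.lTensor (L ⊗[A] κ) (θ K t) := by
    intro t
    induction t using TensorProduct.induction_on with
    | zero => simp only [map_zero]
    | tmul r x =>
      rw [LinearMap.lTensor_tmul, hθ, hθ, LinearMap.lTensor_tmul]
      rfl
    | add x y hx hy => simp only [map_add, hx, hy]
  intro t t' htt'
  apply (θ K).injective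
  apply h1
  rw [← hnat, ← hnat, htt']

end Exact

section Quot

variable {A} (P : PrimeSpectrum B) (M : Type u) [AddCommGroup M] [Module B M]

/-- the fibre stalk as a quotient of the localized module. -/
noncomputable def fibLocEquiv : (RP A P) ⊗[B] M ≃ₗ[RP A P]
    (LocalizedModule P.asIdeal.primeCompl M ⧸
      (JP A P • (⊤ : Submodule (LP P) (LocalizedModule P.asIdeal.primeCompl M)))) :=
  ((IsLocalizedModule.isBaseChange P.asIdeal.primeCompl (LP P)
    (LocalizedModule.mkLinearMap P.asIdeal.primeCompl M)).comp
      (Groth.Agent.Lib.Helper3.FibreFree.isBaseChange_mkQ (JP A P))).equiv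

end Quot

section Proj

variable {A} (P : PrimeSpectrum B) (M : Type u) [AddCommGroup M] [Module B M] [Module A M]
  [IsScalarTower A B M]

/-- the fibre stalk is projective iff the module is free at `P`. -/
theorem projective_localFibre_iff [Module.FinitePresentation B M] [Module.Flat A M] :
    Projective (fibLoc A P M) ↔ P ∈ Module.freeLocus B M := by
  rw [Module.mem_freeLocus]
  constructor
  · intro h
    haveI : Module.Projective (RP A P) ((RP A P) ⊗[B] M) :=
      (IsProjective.iff_projective _).2 h
    haveI : Module.Flat A (LocalizedModule P.asIdeal.primeCompl M) :=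
      Groth.Agent.Lib.Helper3.FlatLoc.flat_localizedModule_of_flat (R := A) (M := M)
        P.asIdeal.primeCompl
    have hfl : Module.Flat (LP P ⧸ JP A P) (LocalizedModule P.asIdeal.primeCompl M ⧸
        (JP A P • (⊤ : Submodule (LP P) (LocalizedModule P.asIdeal.primeCompl M)))) :=
      Module.Flat.of_linearEquiv (fibLocEquiv (A := A) P M).symm
    exact Groth.Agent.Lib.Helper3.FibreFree.free_of_flat_of_flat_quotient (P.asIdeal.under A)
      (JP_le A P) hfl
  · intro h
    haveI : Module.Free (LP P) (LocalizedModule P.asIdeal.primeCompl M) := h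
    let e2 := (Groth.Agent.Lib.Helper3.FibreFree.isBaseChange_mkQ (B := LP P)
      (M := LocalizedModule P.asIdeal.primeCompl M) (JP A P)).equiv
    haveI : Module.Free (RP A P) (LocalizedModule P.asIdeal.primeCompl M ⧸
        (JP A P • (⊤ : Submodule (LP P) (LocalizedModule P.asIdeal.primeCompl M)))) :=
      Module.Free.of_equiv e2
    haveI : Module.Free (RP A P) ((RP A P) ⊗[B] M) :=
      Module.Free.of_equiv (fibLocEquiv (A := A) P M).symm
    exact (IsProjective.iff_projective _).1 inferInstance

/-- the fibre stalk vanishes iff `P` is outside the support. -/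
theorem subsingleton_localFibre_iff [Module.Finite B M] :
    Subsingleton ((RP A P) ⊗[B] M) ↔ P ∉ Module.support B M := by
  rw [Module.notMem_support_iff]
  constructor
  · intro h
    haveI : Subsingleton (LocalizedModule P.asIdeal.primeCompl M ⧸
        (JP A P • (⊤ : Submodule (LP P) (LocalizedModule P.asIdeal.primeCompl M)))) :=
      (fibLocEquiv (A := A) P M).symm.injective.subsingleton
    have htop : (JP A P • (⊤ : Submodule (LP P) (LocalizedModule P.asIdeal.primeCompl M))) = ⊤ :=
      Submodule.Quotient.subsingleton_iff.1 inferInstance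
    have hfg : (⊤ : Submodule (LP P) (LocalizedModule P.asIdeal.primeCompl M)).FG :=
      Module.finite_def.1 inferInstance
    have hjac : JP A P ≤ Ideal.jacobson ⊥ := by
      rw [IsLocalRing.jacobson_eq_maximalIdeal ⊥ bot_ne_top]
      exact JP_le A P
    have hbot : (⊤ : Submodule (LP P) (LocalizedModule P.asIdeal.primeCompl M)) = ⊥ :=
      Submodule.eq_bot_of_le_smul_of_le_jacobson_bot (JP A P) ⊤ hfg (le_of_eq htop.symm) hjac
    exact (Submodule.subsingleton_iff (R := LP P)).1 (subsingleton_of_bot_eq_top hbot.symm)
  · intro h
    haveI := h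
    exact (fibLocEquiv (A := A) P M).injective.subsingleton

end Proj

section Dim

variable (B) [Algebra.FinitePresentation A B] [Module.Flat A B]

open Groth.Agent.Lib.Seat26.FFStep

/-- the locus where the fibre stalk has projective dimension `< n + 1` is open. -/
theorem isOpen_hasProjectiveDimensionLT_succ :
    ∀ (n : ℕ) (M : Type u) [AddCommGroup M] [Module B M] [Module A M] [IsScalarTower A B M]
      [Module.FinitePresentation B M] [Module.Flat A M],
      IsOpen {P : PrimeSpectrum B | HasProjectiveDimensionLT (fibLoc A P M) (n + 1)}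
  | 0, M, _, _, _, _, _, _ => by
      have : {P : PrimeSpectrum B | HasProjectiveDimensionLT (fibLoc A P M) (0 + 1)} =
          Module.freeLocus B M := by
        ext P
        simp only [zero_add, ← projective_iff_hasProjectiveDimensionLT_one, Set.mem_ofPred_eq]
        exact projective_localFibre_iff P M
      rw [this]
      exact Module.isOpen_freeLocus
  | (n + 1), M, _, _, _, _, _, _ => by
      obtain ⟨k, π, hπ, hfp, hflat⟩ := exists_surjective_fp_flat_ker A B M
      have ih := isOpen_hasProjectiveDimensionLT_succ n (LinearMap.ker π)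
      have key : ∀ P : PrimeSpectrum B,
          (HasProjectiveDimensionLT (fibLoc A P M) (n + 1 + 1) ↔
            HasProjectiveDimensionLT (fibLoc A P (LinearMap.ker π)) (n + 1)) := by
        intro P
        let R := RP A P
        let ι := (LinearMap.ker π).subtype
        let Sp : ShortComplex (ModuleCat.{u} R) :=
          ModuleCat.shortComplexOfCompEqZero (ι.baseChange R) (π.baseChange R) (by
            rw [← LinearMap.baseChange_comp]
            have : π ∘ₗ ι = 0 := by
              ext x
              exact x.2
            rw [this]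
            exact LinearMap.baseChange_zero)
        have hSp : Sp.ShortExact := by
          apply ModuleCat.shortComplex_shortExact
          · exact lTensor_exact R (LinearMap.exact_subtype_ker_map π) hπ
          · exact lTensor_localFibre_injective P ι π
              (Submodule.injective_subtype _) hπ (LinearMap.exact_subtype_ker_map π)
          · exact LinearMap.lTensor_surjective R hπ
        haveI : Module.Free R (R ⊗[B] (Fin k → B)) := inferInstance
        haveI : Projective Sp.X₂ :=
          (IsProjective.iff_projective (R ⊗[B] (Fin k → B))).1 inferInstance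
        exact hSp.hasProjectiveDimensionLT_X₃_iff n inferInstance
      have : {P : PrimeSpectrum B | HasProjectiveDimensionLT (fibLoc A P M) (n + 1 + 1)} =
          {P : PrimeSpectrum B | HasProjectiveDimensionLT (fibLoc A P (LinearMap.ker π)) (n + 1)} := by
        ext P
        exact key P
      rw [this]
      exact ih

omit [Algebra A B] [Algebra.FinitePresentation A B] [Module.Flat A B] in
theorem exists_nat_lt_of_lt_top (x : WithBot ℕ∞) (h : x < ((⊤ : ℕ∞) : WithBot ℕ∞)) :
    ∃ n : ℕ, x < ((n : ℕ) : WithBot ℕ∞) := by
  induction x with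
  | bot => exact ⟨0, WithBot.bot_lt_coe _⟩
  | coe x =>
    induction x with
    | top => exact absurd h (lt_irrefl _)
    | coe k =>
      refine ⟨k + 1, ?_⟩
      exact_mod_cast Nat.lt_succ_self k

/-- the locus where the fibre stalk has projective dimension `< n` is open. -/
theorem isOpen_hasProjectiveDimensionLT (n : ℕ) (M : Type u) [AddCommGroup M] [Module B M]
    [Module A M] [IsScalarTower A B M] [Module.FinitePresentation B M] [Module.Flat A M] :
    IsOpen {P : PrimeSpectrum B | HasProjectiveDimensionLT (fibLoc A P M) n} := by
  cases n with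
  | zero =>
    have : {P : PrimeSpectrum B | HasProjectiveDimensionLT (fibLoc A P M) 0} =
        (Module.support B M)ᶜ := by
      ext P
      rw [Set.mem_compl_iff, ← subsingleton_localFibre_iff (A := A) P M, Set.mem_ofPred_eq,
        hasProjectiveDimensionLT_zero_iff_isZero, ModuleCat.isZero_iff_subsingleton]
    rw [this]
    exact (Module.isClosed_support (R := B) (M := M)).isOpen_compl
  | succ n => exact isOpen_hasProjectiveDimensionLT_succ A B n M

/-- **The projective dimension of the fibre stalks is upper semicontinuous.** -/
theorem upperSemicontinuous_projectiveDimension (M : Type u) [AddCommGroup M] [Module B M]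
    [Module A M] [IsScalarTower A B M] [Module.FinitePresentation B M] [Module.Flat A M] :
    UpperSemicontinuous fun P : PrimeSpectrum B => projectiveDimension (fibLoc A P M) := by
  rw [upperSemicontinuous_iff_isOpen_preimage]
  intro y
  induction y with
  | bot =>
    have : (fun P : PrimeSpectrum B => projectiveDimension (fibLoc A P M)) ⁻¹' Set.Iio ⊥ = ∅ := by
      ext P
      simp
    rw [this]
    exact isOpen_empty
  | coe y =>
    induction y with
    | top =>
      have : (fun P : PrimeSpectrum B => projectiveDimension (fibLoc A P M)) ⁻¹'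
          Set.Iio (((⊤ : ℕ∞) : WithBot ℕ∞)) =
          ⋃ n : ℕ, {P : PrimeSpectrum B | HasProjectiveDimensionLT (fibLoc A P M) n} := by
        ext P
        simp only [Set.mem_preimage, Set.mem_Iio, Set.mem_iUnion, Set.mem_ofPred_eq]
        constructor
        · intro h
          obtain ⟨n, hn⟩ := exists_nat_lt_of_lt_top _ h
          exact ⟨n, projectiveDimension_lt_iff.1 hn⟩
        · rintro ⟨n, hn⟩
          refine lt_of_lt_of_le (projectiveDimension_lt_iff.2 hn) ?_
          exact_mod_cast (le_top : ((n : ℕ) : ℕ∞) ≤ ⊤)
      rw [this]
      exact isOpen_iUnion fun n => isOpen_hasProjectiveDimensionLT A B n M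
    | coe n =>
      have : (fun P : PrimeSpectrum B => projectiveDimension (fibLoc A P M)) ⁻¹'
          Set.Iio (((n : ℕ∞)) : WithBot ℕ∞) =
          {P : PrimeSpectrum B | HasProjectiveDimensionLT (fibLoc A P M) n} := by
        ext P
        exact projectiveDimension_lt_iff
      rw [this]
      exact isOpen_hasProjectiveDimensionLT A B n M

end Dim

end Groth.Agent.Lib.Seat26.LocFibDim
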