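import Mathlib

/-!
# Base change of `(B ⊗_A B) / I^(n+1)`, in `CommRingCat` pushout language (helper26)

`B' = B ⊗_A A'`, `R = B ⊗_A B`, `R' = B' ⊗_{A'} B'` (all given as pushout squares), `k : R → R₁`,
`k' : R' → R₁'` surjective with kernels the `(n+1)`-st powers of the kernels of the
multiplications.  Then `R₁' = B' ⊗_B R₁` (left structures).
-/

set_option autoImplicit false

universe u

open CategoryTheory CategoryTheory.Limits

namespace Groth.Agent.Lib.Seat26.PPBCAlg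

variable {A A' B B' R R' : CommRingCat.{u}}
  (c : A ⟶ B) (c' : A' ⟶ B') (g : A ⟶ A') (υ : B ⟶ B')
  (hB : IsPushout c g υ c')
  (p₁ p₂ : B ⟶ R) (hR : IsPushout c c p₁ p₂)
  (p₁' p₂' : B' ⟶ R') (hR' : IsPushout c' c' p₁' p₂')

include hB hR' in
theorem Psi_w : c ≫ υ ≫ p₁' = c ≫ υ ≫ p₂' := by
  rw [← Category.assoc, ← Category.assoc, hB.w, Category.assoc, Category.assoc, hR'.w]

/-- the map `B ⊗_A B → B' ⊗_{A'} B'`. -/
noncomputable def Psi : R ⟶ R' := hR.desc (υ ≫ p₁') (υ ≫ p₂') (Psi_w c c' g υ hB p₁' p₂' hR')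

theorem p₁_Psi : p₁ ≫ Psi c c' g υ hB p₁ p₂ hR p₁' p₂' hR' = υ ≫ p₁' := hR.inl_desc _ _ _

theorem p₂_Psi : p₂ ≫ Psi c c' g υ hB p₁ p₂ hR p₁' p₂' hR' = υ ≫ p₂' := hR.inr_desc _ _ _

/-- `B' ⊗_{A'} B' = B' ⊗_B (B ⊗_A B)`. -/
theorem isPushout_Psi :
    IsPushout υ p₁ p₁' (Psi c c' g υ hB p₁ p₂ hR p₁' p₂' hR') := by
  have r1 : IsPushout g c c' υ := hB.flip
  have rI := r1.paste_horiz hR'
  rw [← hB.w, ← p₂_Psi c c' g υ hB p₁ p₂ hR p₁' p₂' hR'] at rI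
  exact rI.of_left (p₁_Psi c c' g υ hB p₁ p₂ hR p₁' p₂' hR').symm hR

section ideal

variable (m : R ⟶ B) (hm₁ : p₁ ≫ m = 𝟙 B) (hm₂ : p₂ ≫ m = 𝟙 B)
  (m' : R' ⟶ B') (hm₁' : p₁' ≫ m' = 𝟙 B') (hm₂' : p₂' ≫ m' = 𝟙 B')

include hm₁ hm₂ hm₁' hm₂' in
theorem Psi_m : Psi c c' g υ hB p₁ p₂ hR p₁' p₂' hR' ≫ m' = m ≫ υ := by
  apply hR.hom_ext
  · rw [← Category.assoc, p₁_Psi, Category.assoc, hm₁', ← Category.assoc, hm₁, Category.comp_id,
      Category.id_comp]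
  · rw [← Category.assoc, p₂_Psi, Category.assoc, hm₂', ← Category.assoc, hm₂, Category.comp_id,
      Category.id_comp]

include hR' hm₁' hm₂' in
/-- the kernel of the multiplication is generated by the `p₂ b - p₁ b`. -/
theorem ker_le_span : RingHom.ker m'.hom ≤
    Ideal.span (Set.range fun s : B' => p₂'.hom s - p₁'.hom s) := by
  intro x hx
  set J : Ideal R' := Ideal.span (Set.range fun s : B' => p₂'.hom s - p₁'.hom s) with hJ
  -- both `p₁' ≫ mk` and `p₂' ≫ mk` agree, so `mk = m' ≫ p₁' ≫ mk`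
  have e : p₁' ≫ CommRingCat.ofHom (Ideal.Quotient.mk J) =
      p₂' ≫ CommRingCat.ofHom (Ideal.Quotient.mk J) := by
    ext s
    change Ideal.Quotient.mk J (p₁'.hom s) = Ideal.Quotient.mk J (p₂'.hom s)
    rw [eq_comm, Ideal.Quotient.eq]
    exact Ideal.subset_span ⟨s, rfl⟩
  have e2 : CommRingCat.ofHom (Ideal.Quotient.mk J) =
      m' ≫ p₁' ≫ CommRingCat.ofHom (Ideal.Quotient.mk J) := by
    apply hR'.hom_ext
    · rw [← Category.assoc p₁' m', hm₁', Category.id_comp]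
    · rw [← Category.assoc p₂' m', hm₂', Category.id_comp, e]
  have h3 : Ideal.Quotient.mk J x = Ideal.Quotient.mk J (p₁'.hom (m'.hom x)) :=
    congr($(e2).hom x)
  have hx' : m'.hom x = 0 := hx
  rw [hx', map_zero, map_zero] at h3
  exact Ideal.Quotient.eq_zero_iff_mem.1 h3

include hB hm₁ hm₂ hm₁' hm₂' in
/-- the ideal of the diagonal of the base change is the extension of the ideal of the
diagonal. -/
theorem ker_eq_map : RingHom.ker m'.hom =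
    Ideal.map (Psi c c' g υ hB p₁ p₂ hR p₁' p₂' hR').hom (RingHom.ker m.hom) := by
  set Ψ := Psi c c' g υ hB p₁ p₂ hR p₁' p₂' hR' with hΨ
  set J : Ideal R' := Ideal.map Ψ.hom (RingHom.ker m.hom) with hJ
  apply le_antisymm
  · refine (ker_le_span c' p₁' p₂' hR' m' hm₁' hm₂').trans ?_
    rw [Ideal.span_le]
    rintro _ ⟨s, rfl⟩
    -- equaliser trick over `B'`
    have e : p₁' ≫ CommRingCat.ofHom (Ideal.Quotient.mk J) =
        p₂' ≫ CommRingCat.ofHom (Ideal.Quotient.mk J) := by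
      apply hB.hom_ext
      · ext b
        change Ideal.Quotient.mk J (p₁'.hom (υ.hom b)) = Ideal.Quotient.mk J (p₂'.hom (υ.hom b))
        rw [eq_comm, Ideal.Quotient.eq]
        have h1 : p₂'.hom (υ.hom b) = Ψ.hom (p₂.hom b) :=
          (congr($(p₂_Psi c c' g υ hB p₁ p₂ hR p₁' p₂' hR').hom b)).symm
        have h2 : p₁'.hom (υ.hom b) = Ψ.hom (p₁.hom b) :=
          (congr($(p₁_Psi c c' g υ hB p₁ p₂ hR p₁' p₂' hR').hom b)).symm
        rw [h1, h2, ← map_sub]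
        apply Ideal.mem_map_of_mem
        rw [RingHom.mem_ker, map_sub]
        have h3 : m.hom (p₁.hom b) = b := congr($(hm₁).hom b)
        have h4 : m.hom (p₂.hom b) = b := congr($(hm₂).hom b)
        rw [h3, h4, sub_self]
      · rw [← Category.assoc, ← Category.assoc, hR'.w]
    have h3 : Ideal.Quotient.mk J (p₁'.hom s) = Ideal.Quotient.mk J (p₂'.hom s) :=
      congr($(e).hom s)
    rw [eq_comm, Ideal.Quotient.eq] at h3
    exact h3
  · rw [hJ, Ideal.map_le_iff_le_comap]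
    intro x hx
    rw [Ideal.mem_comap, RingHom.mem_ker]
    have h1 : m'.hom (Ψ.hom x) = υ.hom (m.hom x) :=
      congr($(Psi_m c c' g υ hB p₁ p₂ hR p₁' p₂' hR' m hm₁ hm₂ m' hm₁' hm₂').hom x)
    have hx' : m.hom x = 0 := hx
    rw [h1, hx', map_zero]

end ideal

section quot

theorem lift_apply {R S T : Type*} [CommRing R] [CommRing S] [CommRing T] (f : R →+* S)
    (hf : Function.Surjective f) (g : R →+* T) (hg : RingHom.ker f ≤ RingHom.ker g) (x : R) :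
    RingHom.liftOfSurjective f hf ⟨g, hg⟩ (f x) = g x :=
  RingHom.liftOfRightInverse_comp_apply f _ (Function.rightInverse_surjInv hf) ⟨g, hg⟩ x

variable {R₁ R₁' : CommRingCat.{u}} (Ψ : R ⟶ R') (k : R ⟶ R₁) (k' : R' ⟶ R₁') (ν : R₁ ⟶ R₁')

/-- quotients by an ideal and its extension form a pushout square. -/
theorem isPushout_quot (hk : Function.Surjective k.hom) (hk' : Function.Surjective k'.hom)
    (hker : RingHom.ker k'.hom = Ideal.map Ψ.hom (RingHom.ker k.hom))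
    (hν : k ≫ ν = Ψ ≫ k') : IsPushout k Ψ ν k' := by
  have key : ∀ s : PushoutCocone k Ψ, RingHom.ker k'.hom ≤ RingHom.ker s.inr.hom := by
    intro s
    rw [hker, Ideal.map_le_iff_le_comap]
    intro j hj
    rw [Ideal.mem_comap, RingHom.mem_ker]
    have h1 : s.inl.hom (k.hom j) = s.inr.hom (Ψ.hom j) := congr($(s.condition).hom j)
    have hj' : k.hom j = 0 := hj
    rw [← h1, hj', map_zero]
  refine ⟨⟨hν⟩, ⟨PushoutCocone.IsColimit.mk hν
    (fun s => CommRingCat.ofHom (RingHom.liftOfSurjective k'.hom hk' ⟨s.inr.hom, key s⟩))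
    ?_ ?_ ?_⟩⟩
  · intro s
    ext x
    obtain ⟨y, rfl⟩ := hk x
    change (RingHom.liftOfSurjective k'.hom hk' ⟨s.inr.hom, key s⟩) (ν.hom (k.hom y)) =
      s.inl.hom (k.hom y)
    have h1 : ν.hom (k.hom y) = k'.hom (Ψ.hom y) := congr($(hν).hom y)
    have h2 : s.inl.hom (k.hom y) = s.inr.hom (Ψ.hom y) := congr($(s.condition).hom y)
    rw [h1, h2]
    exact lift_apply k'.hom hk' s.inr.hom (key s) (Ψ.hom y)
  · intro s
    ext x
    exact lift_apply k'.hom hk' s.inr.hom (key s) x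
  · intro s m' _ h2
    ext x
    obtain ⟨y, rfl⟩ := hk' x
    have h3 : m'.hom (k'.hom y) = s.inr.hom y := congr($(h2).hom y)
    change m'.hom (k'.hom y) = (RingHom.liftOfSurjective k'.hom hk' ⟨s.inr.hom, key s⟩) (k'.hom y)
    rw [h3]
    exact (lift_apply k'.hom hk' s.inr.hom (key s) y).symm

end quot

section main

variable (m : R ⟶ B) (hm₁ : p₁ ≫ m = 𝟙 B) (hm₂ : p₂ ≫ m = 𝟙 B)
  (m' : R' ⟶ B') (hm₁' : p₁' ≫ m' = 𝟙 B') (hm₂' : p₂' ≫ m' = 𝟙 B')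
  {R₁ R₁' : CommRingCat.{u}} (k : R ⟶ R₁) (k' : R' ⟶ R₁') (n : ℕ)
  (hk : Function.Surjective k.hom) (hk' : Function.Surjective k'.hom)
  (hker : RingHom.ker k.hom = RingHom.ker m.hom ^ (n + 1))
  (hker' : RingHom.ker k'.hom = RingHom.ker m'.hom ^ (n + 1))

include hm₁ hm₂ hm₁' hm₂' hker hker' in
theorem ker_k'_eq : RingHom.ker k'.hom =
    Ideal.map (Psi c c' g υ hB p₁ p₂ hR p₁' p₂' hR').hom (RingHom.ker k.hom) := by
  rw [hker', hker, Ideal.map_pow,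
    ← ker_eq_map c c' g υ hB p₁ p₂ hR p₁' p₂' hR' m hm₁ hm₂ m' hm₁' hm₂']

include hm₁ hm₂ hm₁' hm₂' hker hker' in
theorem ker_k_le : RingHom.ker k.hom ≤
    RingHom.ker (k'.hom.comp (Psi c c' g υ hB p₁ p₂ hR p₁' p₂' hR').hom) := by
  intro x hx
  rw [RingHom.mem_ker, RingHom.comp_apply, ← RingHom.mem_ker,
    ker_k'_eq c c' g υ hB p₁ p₂ hR p₁' p₂' hR' m hm₁ hm₂ m' hm₁' hm₂' k k' n hker hker']
  exact Ideal.mem_map_of_mem _ hx

/-- the induced map `R / I^(n+1) → R' / I'^(n+1)`. -/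
noncomputable def nu : R₁ ⟶ R₁' :=
  CommRingCat.ofHom (RingHom.liftOfSurjective k.hom hk
    ⟨k'.hom.comp (Psi c c' g υ hB p₁ p₂ hR p₁' p₂' hR').hom,
      ker_k_le c c' g υ hB p₁ p₂ hR p₁' p₂' hR' m hm₁ hm₂ m' hm₁' hm₂' k k' n hker hker'⟩)

theorem k_nu : k ≫ nu c c' g υ hB p₁ p₂ hR p₁' p₂' hR' m hm₁ hm₂ m' hm₁' hm₂' k k' n hk hker hker' =
    Psi c c' g υ hB p₁ p₂ hR p₁' p₂' hR' ≫ k' := by
  ext x
  exact lift_apply k.hom hk (k'.hom.comp (Psi c c' g υ hB p₁ p₂ hR p₁' p₂' hR').hom)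
    (ker_k_le c c' g υ hB p₁ p₂ hR p₁' p₂' hR' m hm₁ hm₂ m' hm₁' hm₂' k k' n hker hker') x

include hk' in
/-- **`R₁' = B' ⊗_B R₁`**, as a pushout square of commutative rings. -/
theorem isPushout_nu :
    IsPushout υ (p₁ ≫ k) (p₁' ≫ k')
      (nu c c' g υ hB p₁ p₂ hR p₁' p₂' hR' m hm₁ hm₂ m' hm₁' hm₂' k k' n hk hker hker') :=
  (isPushout_Psi c c' g υ hB p₁ p₂ hR p₁' p₂' hR').paste_vert
    (isPushout_quot _ k k' _ hk hk'
      (ker_k'_eq c c' g υ hB p₁ p₂ hR p₁' p₂' hR' m hm₁ hm₂ m' hm₁' hm₂' k k' n hker hker')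
      (k_nu c c' g υ hB p₁ p₂ hR p₁' p₂' hR' m hm₁ hm₂ m' hm₁' hm₂' k k' n hk hker hker')).flip

include hB hR hR' hm₁ hm₂ hm₁' hm₂' hk hk' hker hker' in
/-- packaged form. -/
theorem exists_nu : ∃ ν : R₁ ⟶ R₁', IsPushout υ (p₁ ≫ k) (p₁' ≫ k') ν ∧
    (p₂ ≫ k) ≫ ν = υ ≫ p₂' ≫ k' := by
  refine ⟨nu c c' g υ hB p₁ p₂ hR p₁' p₂' hR' m hm₁ hm₂ m' hm₁' hm₂' k k' n hk hker hker',
    isPushout_nu c c' g υ hB p₁ p₂ hR p₁' p₂' hR' m hm₁ hm₂ m' hm₁' hm₂' k k' n hk hk' hker hker',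
    ?_⟩
  rw [Category.assoc, k_nu, ← Category.assoc, p₂_Psi, Category.assoc]

end main

end Groth.Agent.Lib.Seat26.PPBCAlg
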