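import Mathlib
import Groth.Agent.Lib.Helper13BCAlg

/-!
# Abstract chart computation for base change of principal parts (helper26)
-/

set_option autoImplicit false

universe u

open CategoryTheory CategoryTheory.Limits

namespace Groth.Agent.Lib.Seat26.PPBCMod

variable {B B' R₁ R₁' : Type u} [CommRing B] [CommRing B'] [CommRing R₁] [CommRing R₁']
  (υ : B →+* B') (α β₀ : B →+* R₁) (α' β₀' : B' →+* R₁') (ν : R₁ →+* R₁')
  (hpo : IsPushout (CommRingCat.ofHom υ) (CommRingCat.ofHom α) (CommRingCat.ofHom α')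
    (CommRingCat.ofHom ν))
  (hνβ : ∀ b, ν (β₀ b) = β₀' (υ b))
  (hgen : ∀ y : R₁, y ∈ AddSubgroup.closure {z : R₁ | ∃ a b : B, z = α a * β₀ b})
  {M T M' : Type u} [AddCommGroup M] [Module B M] [AddCommGroup T] [Module B' T]
  [AddCommGroup M'] [Module B' M']
  (sec : M →+ R₁) (hsec : Function.Bijective sec)
  (hsec_smul : ∀ (r : B) (x : M), sec (r • x) = α r * sec x)
  (sec' : M' →+ R₁') (hsec' : Function.Bijective sec')
  (hsec'_smul : ∀ (r : B') (x : M'), sec' (r • x) = α' r * sec' x)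
  (d : B →+ M) (hd : ∀ b, sec (d b) = β₀ b)
  (d' : B' →+ M') (hd' : ∀ b, sec' (d' b) = β₀' b)
  (η : M →+ T) (hη : ∀ (r : B) (x : M), η (r • x) = υ r • η x)
  (Uη : ∀ (N : Type u) [AddCommGroup N] [Module B' N] (l : M →+ N),
    (∀ (r : B) (x : M), l (r • x) = υ r • l x) → ∃! l' : T →ₗ[B'] N, ∀ x, l' (η x) = l x)
  (φ' : T →+ M') (hφ' : ∀ (r : B') (t : T), φ' (r • t) = r • φ' t)
  (hφ'd : ∀ b, φ' (η (d b)) = d' (υ b))

include hpo hνβ hgen hsec hsec_smul hsec' hsec'_smul hd hd' hη Uη hφ' hφ'd in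
theorem bijective_chart : Function.Bijective φ' := by
  have hνα : ∀ b, ν (α b) = α' (υ b) := fun b =>
    (congrArg (fun t : CommRingCat.of B ⟶ CommRingCat.of R₁' => t.hom b) hpo.w).symm
  let e : M ≃+ R₁ := AddEquiv.ofBijective sec hsec
  have he : ∀ x, e x = sec x := fun x => rfl
  have hes : ∀ y, sec (e.symm y) = y := fun y => e.apply_symm_apply y
  have hse : ∀ x, e.symm (sec x) = x := fun x => e.symm_apply_apply x
  -- `φ : R₁ → T`
  let φ : R₁ →+ T := η.comp e.symm.toAddMonoidHom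
  have hφ : ∀ (r : B) (y : R₁), φ (α r • y) = υ r • φ y := by
    intro r y
    change η (e.symm (α r * y)) = υ r • η (e.symm y)
    rw [← hη]
    congr 1
    apply hsec.injective
    rw [hes, hsec_smul, hes]
  have Uφ : ∀ (N : Type u) [AddCommGroup N] [Module B' N] (l : R₁ →+ N),
      (∀ (r : B) (y : R₁), l (α r • y) = υ r • l y) →
        ∃! l' : T →ₗ[B'] N, ∀ y, l' (φ y) = l y := by
    intro N _ _ l hl
    obtain ⟨l', h1, h2⟩ := Uη N (l.comp sec) (fun r x => by
      rw [AddMonoidHom.comp_apply, AddMonoidHom.comp_apply, hsec_smul]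
      exact hl r (sec x))
    refine ⟨l', fun y => ?_, fun l'' hl'' => ?_⟩
    · change l' (η (e.symm y)) = l y
      rw [h1, AddMonoidHom.comp_apply, hes]
    · apply h2
      intro x
      have := hl'' (sec x)
      change l'' (η (e.symm (sec x))) = l (sec x) at this
      rw [hse] at this
      exact this
  -- the self base change of `R₁` along `ν`
  have Uν : ∀ (N : Type u) [AddCommGroup N] [Module R₁' N] (l : R₁ →+ N),
      (∀ (c y : R₁), l (c • y) = ν c • l y) →
        ∃! l' : R₁' →ₗ[R₁'] N, ∀ y, l' ((ν : R₁ →+ R₁') y) = l y := by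
    intro N _ _ l hl
    refine ⟨LinearMap.toSpanSingleton R₁' N (l 1), fun y => ?_, fun l'' hl'' => ?_⟩
    · change ν y • l 1 = l y
      rw [← hl, smul_eq_mul, mul_one]
    · ext
      change l'' 1 = (1 : R₁') • l 1
      rw [one_smul]
      have := hl'' 1
      change l'' (ν 1) = l 1 at this
      rw [map_one] at this
      exact this
  let β : T →+ R₁' := sec'.comp φ'
  have hβ : ∀ (r' : B') (q : T), β (r' • q) = α' r' • β q := by
    intro r' q
    change sec' (φ' (r' • q)) = α' r' * sec' (φ' q)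
    rw [hφ', hsec'_smul]
  have hβφ : ∀ y, β (φ y) = (ν : R₁ →+ R₁') y := by
    intro y
    refine AddSubgroup.closure_induction ?_ ?_ ?_ ?_ (hgen y)
    · rintro _ ⟨a, b, rfl⟩
      change sec' (φ' (η (e.symm (α a * β₀ b)))) = ν (α a * β₀ b)
      have h1 : e.symm (α a * β₀ b) = a • d b := by
        apply hsec.injective
        rw [hes, hsec_smul, hd]
      rw [h1, hη, hφ', hφ'd, hsec'_smul, hd', map_mul, hνα, hνβ]
    · rw [map_zero, map_zero, map_zero]
    · intro y₁ y₂ _ _ h₁ h₂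
      rw [map_add, map_add, h₁, h₂, map_add]
    · intro y₁ _ h₁
      rw [map_neg, map_neg, h₁, map_neg]
  have hbij : Function.Bijective β :=
    Groth.Agent.Helper13BCAlg.bijective_of_lifts υ α ν α' hpo (M := R₁) (Q := T) (Q' := R₁')
      φ hφ Uφ (ν : R₁ →+ R₁') (fun c y => by
        change ν (c * y) = ν c * ν y
        rw [map_mul]) Uν β hβ hβφ
  exact (Function.Bijective.of_comp_iff' hsec' φ').1 hbij

end Groth.Agent.Lib.Seat26.PPBCMod
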