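import Mathlib
import Groth.Prelude.Def_OmegaPn
import Groth.Agent.Lib.Helper13PullbackUnit

/-!
# Sections of the sheaf of principal parts `P^n_{X/S}` as functions on the infinitesimal
neighbourhood of the diagonal (seat 26)

* `pbUnitIso h : h^* O_X ≅ O_N`, `pbUnitHom_pullSect`.
* `secEquiv f n U : Γ(P f n, U) ≃+ Γ(nbhd f n, pr1⁻¹ U)`, `secEquiv_smul`, `secEquiv_dn`.
-/

set_option autoImplicit false
set_option linter.style.haveILetI false
set_option linter.unusedSectionVars false

universe u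

open CategoryTheory AlgebraicGeometry Limits TopologicalSpace Opposite

namespace Groth.Agent.Lib.Seat26.PPSec

section unit

instance final_opensMap {X Y : Scheme.{u}} (f : X ⟶ Y) :
    (TopologicalSpace.Opens.map f.base).Final := by
  apply Functor.final_of_exists_of_isFiltered
  · intro U
    exact ⟨⊤, ⟨homOfLE le_top⟩⟩
  · intro U V s s'
    exact ⟨V, 𝟙 V, Subsingleton.elim _ _⟩

instance isRightAdjoint_pushforward {X Y : Scheme.{u}} (f : X ⟶ Y) :
    (SheafOfModules.pushforward.{u} f.toRingCatSheafHom).IsRightAdjoint :=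
  inferInstanceAs ((Scheme.Modules.pushforward f).IsRightAdjoint)

set_option backward.isDefEq.respectTransparency.types false in
theorem isIso_pullbackObjUnitToUnit {X Y : Scheme.{u}} (f : X ⟶ Y) :
    IsIso (SheafOfModules.pullbackObjUnitToUnit.{u} f.toRingCatSheafHom) := by
  infer_instance

set_option backward.isDefEq.respectTransparency.types false in
/-- `h^* O_X ⟶ O_N`. -/
noncomputable def pbUnitHom {N X : Scheme.{u}} (h : N ⟶ X) :
    (Scheme.Modules.pullback h).obj (Coh.structureModule X) ⟶ Coh.structureModule N :=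
  SheafOfModules.pullbackObjUnitToUnit.{u} h.toRingCatSheafHom

set_option backward.isDefEq.respectTransparency.types false in
instance {N X : Scheme.{u}} (h : N ⟶ X) : IsIso (pbUnitHom h) := isIso_pullbackObjUnitToUnit h

/-- the canonical map `O_X → h_* O_N` of `O_X`-modules. -/
noncomputable def strToPush {N X : Scheme.{u}} (h : N ⟶ X) :
    Coh.structureModule X ⟶ (Scheme.Modules.pushforward h).obj (Coh.structureModule N) :=
  SheafOfModules.unitToPushforwardObjUnit h.toRingCatSheafHom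

theorem strToPush_app {N X : Scheme.{u}} (h : N ⟶ X) (U : X.Opens) (a : Γ(X, U)) :
    (strToPush h).app U a = h.app U a := rfl

set_option backward.isDefEq.respectTransparency.types false in
theorem unit_pbUnitHom {N X : Scheme.{u}} (h : N ⟶ X) :
    (Scheme.Modules.pullbackPushforwardAdjunction h).unit.app (Coh.structureModule X) ≫
      (Scheme.Modules.pushforward h).map (pbUnitHom h) = strToPush h := by
  have := (Scheme.Modules.pullbackPushforwardAdjunction h).homEquiv_unit
    (X := Coh.structureModule X) (Y := Coh.structureModule N) (f := pbUnitHom h)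
  rw [← this]
  exact Equiv.apply_symm_apply _ _

theorem pbUnitHom_pullSect {N X : Scheme.{u}} (h : N ⟶ X) (U : X.Opens) (r : Γ(X, U)) :
    (pbUnitHom h).app (h ⁻¹ᵁ U)
        (OmegaSh.pullSect h (Coh.structureModule X) U (OmegaSh.strSect X U r)) =
      OmegaSh.strSect N (h ⁻¹ᵁ U) (h.app U r) := by
  have h1 := congr($(unit_pbUnitHom h).app U (OmegaSh.strSect X U r))
  rw [strToPush_app] at h1
  exact h1

end unit

section secs

variable {X S : Scheme.{u}} (f : X ⟶ S) (n : ℕ)

theorem app_map {N : Scheme.{u}} {M M' : N.Modules} (φ : M ⟶ M') {V V' : N.Opens} (i : V' ⟶ V)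
    (y : Γ(M, V)) :
    φ.app V' (M.presheaf.map i.op y) = M'.presheaf.map i.op (φ.app V y) :=
  congr($(φ.mapPresheaf.naturality i.op) y)

/-- sections of `P^n_{X/S}` over `U` as functions on the infinitesimal neighbourhood. -/
noncomputable def secHom (U : X.Opens) :
    Γ(PrinPart.P f n, U) →+ Γ(PrinPart.nbhd f n, PrinPart.pr1 f n ⁻¹ᵁ U) :=
  (OmegaSh.fnSect (PrinPart.nbhd f n) (PrinPart.pr1 f n ⁻¹ᵁ U)).comp
    ((pbUnitHom (PrinPart.pr2 f n)).app (PrinPart.pr1 f n ⁻¹ᵁ U)).hom

theorem secHom_bijective (U : X.Opens) : Function.Bijective (secHom f n U) := by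
  have h := (ConcreteCategory.isIso_iff_bijective
    ((pbUnitHom (PrinPart.pr2 f n)).app (PrinPart.pr1 f n ⁻¹ᵁ U))).1 inferInstance
  exact h

theorem secHom_smul (U : X.Opens) (r : Γ(X, U)) (x : Γ(PrinPart.P f n, U)) :
    secHom f n U (r • x) = (PrinPart.pr1 f n).app U r * secHom f n U x := by
  have h1 : (r • x : Γ(PrinPart.P f n, U)) =
      (((PrinPart.pr1 f n).app U r) •
        (show Γ((Scheme.Modules.pullback (PrinPart.pr2 f n)).obj (Coh.structureModule X),
          PrinPart.pr1 f n ⁻¹ᵁ U) from x) :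
        Γ((Scheme.Modules.pullback (PrinPart.pr2 f n)).obj (Coh.structureModule X),
          PrinPart.pr1 f n ⁻¹ᵁ U)) := rfl
  change (OmegaSh.fnSect _ _) ((pbUnitHom (PrinPart.pr2 f n)).app _ (r • x)) = _
  rw [h1, Scheme.Modules.Hom.app_smul]
  rfl

theorem secHom_dn (U : X.Opens) (r : Γ(X, U)) :
    secHom f n U (PrinPart.dn f n U r) =
      (PrinPart.nbhd f n).presheaf.map (homOfLE (PrinPart.preimage_pr1 f n U).le).op
        ((PrinPart.pr2 f n).app U r) := by
  change (OmegaSh.fnSect _ _) ((pbUnitHom (PrinPart.pr2 f n)).app _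
    (PrinPart.dP f n (Coh.structureModule X) U (OmegaSh.strSect X U r))) = _
  rw [PrinPart.dP_apply, app_map, pbUnitHom_pullSect]
  rfl

end secs

section closedAffine

variable {Y Z : Scheme.{u}} [IsAffine Y] (i : Z ⟶ Y) [IsClosedImmersion i]

/-- the top open of an affine scheme, as an affine open. -/
abbrev topAff (Y : Scheme.{u}) [IsAffine Y] : Y.affineOpens := ⟨⊤, isAffineOpen_top Y⟩

theorem infNbhdι_appTop_surjective (m : ℕ) :
    Function.Surjective ((i.ker ^ m).subschemeι.app ⊤) :=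
  (i.ker ^ m).subschemeι_app_surjective (topAff Y)

theorem ker_infNbhdι_appTop (m : ℕ) :
    RingHom.ker ((i.ker ^ m).subschemeι.app ⊤).hom = RingHom.ker (i.app ⊤).hom ^ m := by
  rw [(i.ker ^ m).ker_subschemeι_app (topAff Y), Scheme.IdealSheafData.ideal_pow, Pi.pow_apply,
    Scheme.Hom.ker_apply]

end closedAffine

section tensor

open TensorProduct

variable (A B : Type u) [CommRing A] [CommRing B] [Algebra A B]

/-- the morphism `Spec B ⟶ Spec A`. -/
noncomputable abbrev fAB : Spec (CommRingCat.of B) ⟶ Spec (CommRingCat.of A) :=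
  Spec.map (CommRingCat.ofHom (algebraMap A B))

theorem coborderRange_eq_top : (pullback.diagonal (fAB A B)).coborderRange = ⊤ := by
  apply TopologicalSpace.Opens.ext
  change coborder (Set.range (pullback.diagonal (fAB A B))) = Set.univ
  rw [coborder_eq_univ_iff]
  exact (pullback.diagonal (fAB A B)).isClosedEmbedding.isClosed_range

instance isIso_coborderRange_ι : IsIso (pullback.diagonal (fAB A B)).coborderRange.ι := by
  rw [isIso_iff_isOpenImmersion_and_surjective]
  refine ⟨inferInstance, ⟨fun x => ?_⟩⟩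
  have hx : x ∈ (pullback.diagonal (fAB A B)).coborderRange := by
    rw [coborderRange_eq_top]; trivial
  exact ⟨⟨x, hx⟩, rfl⟩

/-- `Spec (B ⊗_A B) ≅ Y`, `Y` the open of `X ×_S X` where the diagonal is closed (everything). -/
noncomputable def specIsoY : Spec (CommRingCat.of (B ⊗[A] B)) ≅
    ((pullback.diagonal (fAB A B)).coborderRange : Scheme.{u}) :=
  (pullbackSpecIso A B B).symm ≪≫ (asIso (pullback.diagonal (fAB A B)).coborderRange.ι).symm

instance isAffine_Y : IsAffine ((pullback.diagonal (fAB A B)).coborderRange : Scheme.{u}) :=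
  IsAffine.of_isIso (specIsoY A B).inv

theorem specIsoY_hom_q1 : (specIsoY A B).hom ≫ (pullback.diagonal (fAB A B)).coborderRange.ι ≫
    pullback.fst (fAB A B) (fAB A B) =
      Spec.map (CommRingCat.ofHom (Algebra.TensorProduct.includeLeftRingHom : B →+* B ⊗[A] B)) := by
  simp only [specIsoY, Iso.trans_hom, Iso.symm_hom, asIso_inv, Category.assoc,
    IsIso.inv_hom_id_assoc]
  exact pullbackSpecIso_inv_fst A B B

theorem specIsoY_hom_q2 : (specIsoY A B).hom ≫ (pullback.diagonal (fAB A B)).coborderRange.ι ≫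
    pullback.snd (fAB A B) (fAB A B) =
      Spec.map (CommRingCat.ofHom
        ((Algebra.TensorProduct.includeRight : B →ₐ[A] B ⊗[A] B) : B →+* B ⊗[A] B)) := by
  simp only [specIsoY, Iso.trans_hom, Iso.symm_hom, asIso_inv, Category.assoc,
    IsIso.inv_hom_id_assoc]
  exact pullbackSpecIso_inv_snd A B B

/-- the ring isomorphism `B ⊗_A B → Γ(Y, ⊤)`. -/
noncomputable def Psi : B ⊗[A] B →+*
    Γ(((pullback.diagonal (fAB A B)).coborderRange : Scheme.{u}), ⊤) :=
  ((specIsoY A B).inv.appTop).hom.comp (Scheme.ΓSpecIso (CommRingCat.of (B ⊗[A] B))).inv.hom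

theorem Psi_bijective : Function.Bijective (Psi A B) := by
  haveI h0 : IsIso (specIsoY A B).inv := inferInstance
  haveI : IsIso (specIsoY A B).inv.appTop :=
    inferInstanceAs (IsIso ((specIsoY A B).inv.app ⊤))
  have h1 := (ConcreteCategory.isIso_iff_bijective
    ((Scheme.ΓSpecIso (CommRingCat.of (B ⊗[A] B))).inv ≫ (specIsoY A B).inv.appTop)).1 inferInstance
  exact h1

/-- first projection `Y ⟶ X`. -/
noncomputable abbrev q1 : ((pullback.diagonal (fAB A B)).coborderRange : Scheme.{u}) ⟶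
    Spec (CommRingCat.of B) :=
  (pullback.diagonal (fAB A B)).coborderRange.ι ≫ pullback.fst (fAB A B) (fAB A B)

/-- second projection `Y ⟶ X`. -/
noncomputable abbrev q2 : ((pullback.diagonal (fAB A B)).coborderRange : Scheme.{u}) ⟶
    Spec (CommRingCat.of B) :=
  (pullback.diagonal (fAB A B)).coborderRange.ι ≫ pullback.snd (fAB A B) (fAB A B)

theorem Psi_left (b : B) :
    Psi A B (b ⊗ₜ[A] 1) = (q1 A B).appTop ((Scheme.ΓSpecIso (CommRingCat.of B)).inv b) := by
  have h1 := congr($(Scheme.ΓSpecIso_inv_naturality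
    (CommRingCat.ofHom (Algebra.TensorProduct.includeLeftRingHom : B →+* B ⊗[A] B))) b)
  have h2 : (specIsoY A B).inv ≫ Spec.map (CommRingCat.ofHom
      (Algebra.TensorProduct.includeLeftRingHom : B →+* B ⊗[A] B)) = q1 A B := by
    rw [Iso.inv_comp_eq, specIsoY_hom_q1]
  have h3 := congr($(Scheme.Hom.comp_appTop (specIsoY A B).inv (Spec.map (CommRingCat.ofHom
      (Algebra.TensorProduct.includeLeftRingHom : B →+* B ⊗[A] B))))
      ((Scheme.ΓSpecIso (CommRingCat.of B)).inv b))
  rw [h2] at h3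
  rw [h3]
  change (specIsoY A B).inv.appTop ((Scheme.ΓSpecIso (CommRingCat.of (B ⊗[A] B))).inv
    (b ⊗ₜ[A] 1)) = _
  exact congrArg _ h1

theorem Psi_right (b : B) :
    Psi A B (1 ⊗ₜ[A] b) = (q2 A B).appTop ((Scheme.ΓSpecIso (CommRingCat.of B)).inv b) := by
  have h1 := congr($(Scheme.ΓSpecIso_inv_naturality
    (CommRingCat.ofHom ((Algebra.TensorProduct.includeRight : B →ₐ[A] B ⊗[A] B) :
      B →+* B ⊗[A] B))) b)
  have h2 : (specIsoY A B).inv ≫ Spec.map (CommRingCat.ofHom
      ((Algebra.TensorProduct.includeRight : B →ₐ[A] B ⊗[A] B) : B →+* B ⊗[A] B)) = q2 A B := by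
    rw [Iso.inv_comp_eq, specIsoY_hom_q2]
  have h3 := congr($(Scheme.Hom.comp_appTop (specIsoY A B).inv (Spec.map (CommRingCat.ofHom
      ((Algebra.TensorProduct.includeRight : B →ₐ[A] B ⊗[A] B) : B →+* B ⊗[A] B))))
      ((Scheme.ΓSpecIso (CommRingCat.of B)).inv b))
  rw [h2] at h3
  rw [h3]
  change (specIsoY A B).inv.appTop ((Scheme.ΓSpecIso (CommRingCat.of (B ⊗[A] B))).inv
    (1 ⊗ₜ[A] b)) = _
  exact congrArg _ h1

theorem Psi_tmul (b b' : B) :
    Psi A B (b ⊗ₜ[A] b') = (q1 A B).appTop ((Scheme.ΓSpecIso (CommRingCat.of B)).inv b) *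
      (q2 A B).appTop ((Scheme.ΓSpecIso (CommRingCat.of B)).inv b') := by
  rw [← Psi_left, ← Psi_right, ← map_mul, Algebra.TensorProduct.tmul_mul_tmul, mul_one, one_mul]

theorem diagCl_q1 : PrinPart.diagCl (fAB A B) ≫ q1 A B = 𝟙 _ := by
  rw [← Category.assoc, Scheme.Hom.liftCoborder_ι, pullback.diagonal_fst]

theorem diagCl_q2 : PrinPart.diagCl (fAB A B) ≫ q2 A B = 𝟙 _ := by
  rw [← Category.assoc, Scheme.Hom.liftCoborder_ι, pullback.diagonal_snd]

theorem diagCl_appTop_q1 (x : Γ(Spec (CommRingCat.of B), ⊤)) :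
    (PrinPart.diagCl (fAB A B)).appTop ((q1 A B).appTop x) = x := by
  have h := congr($(Scheme.Hom.comp_appTop (PrinPart.diagCl (fAB A B)) (q1 A B)) x)
  have h' : (PrinPart.diagCl (fAB A B) ≫ q1 A B).appTop x = x := by
    rw [diagCl_q1]
    rfl
  rw [h] at h'
  exact h'

theorem diagCl_appTop_q2 (x : Γ(Spec (CommRingCat.of B), ⊤)) :
    (PrinPart.diagCl (fAB A B)).appTop ((q2 A B).appTop x) = x := by
  have h := congr($(Scheme.Hom.comp_appTop (PrinPart.diagCl (fAB A B)) (q2 A B)) x)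
  have h' : (PrinPart.diagCl (fAB A B) ≫ q2 A B).appTop x = x := by
    rw [diagCl_q2]
    rfl
  rw [h] at h'
  exact h'

theorem diagCl_appTop_Psi (t : B ⊗[A] B) :
    (PrinPart.diagCl (fAB A B)).appTop (Psi A B t) =
      (Scheme.ΓSpecIso (CommRingCat.of B)).inv (Algebra.TensorProduct.lmul' A t) := by
  induction t using TensorProduct.induction_on with
  | zero => simp
  | tmul b b' =>
    rw [Psi_tmul, map_mul, diagCl_appTop_q1, diagCl_appTop_q2, Algebra.TensorProduct.lmul'_apply_tmul,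
      map_mul]
  | add x y hx hy => rw [map_add, map_add, hx, hy, map_add, map_add]

theorem comap_Psi_ker : Ideal.comap (Psi A B)
    (RingHom.ker ((PrinPart.diagCl (fAB A B)).app ⊤).hom) = KaehlerDifferential.ideal A B := by
  ext t
  rw [Ideal.mem_comap, RingHom.mem_ker]
  change (PrinPart.diagCl (fAB A B)).appTop (Psi A B t) = 0 ↔ _
  rw [diagCl_appTop_Psi]
  have hinj : Function.Injective (Scheme.ΓSpecIso (CommRingCat.of B)).inv :=
    ((ConcreteCategory.isIso_iff_bijective (Scheme.ΓSpecIso (CommRingCat.of B)).inv).1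
      inferInstance).1
  rw [← map_zero (Scheme.ΓSpecIso (CommRingCat.of B)).inv.hom]
  constructor
  · intro h
    exact (RingHom.mem_ker).2 (hinj h)
  · intro h
    exact congrArg _ ((RingHom.mem_ker).1 h)

theorem comap_pow_of_bijective {R S : Type*} [CommRing R] [CommRing S] (φ : R →+* S)
    (hφ : Function.Bijective φ) (J : Ideal S) (m : ℕ) :
    (J ^ m).comap φ = (J.comap φ) ^ m := by
  have h : ∀ K : Ideal S, K.comap φ = K.map ((RingEquiv.ofBijective φ hφ).symm : S →+* R) :=
    fun K => (Ideal.map_symm (RingEquiv.ofBijective φ hφ)).symm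
  rw [h, h, Ideal.map_pow]

variable (n : ℕ)

/-- `Φ : B ⊗_A B → Γ(X^{(n)}_Δ, ⊤)`. -/
noncomputable def Phi : B ⊗[A] B →+* Γ(PrinPart.nbhd (fAB A B) n, ⊤) :=
  ((PrinPart.infNbhdι (PrinPart.diagCl (fAB A B)) n).appTop).hom.comp (Psi A B)

theorem Phi_surjective : Function.Surjective (Phi A B n) := by
  have h1 : Function.Surjective ((PrinPart.infNbhdι (PrinPart.diagCl (fAB A B)) n).appTop) :=
    infNbhdι_appTop_surjective (PrinPart.diagCl (fAB A B)) (n + 1)
  exact h1.comp (Psi_bijective A B).2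

theorem ker_Phi : RingHom.ker (Phi A B n) = KaehlerDifferential.ideal A B ^ (n + 1) := by
  have h1 : RingHom.ker ((PrinPart.infNbhdι (PrinPart.diagCl (fAB A B)) n).appTop).hom =
      RingHom.ker ((PrinPart.diagCl (fAB A B)).app ⊤).hom ^ (n + 1) :=
    ker_infNbhdι_appTop (PrinPart.diagCl (fAB A B)) (n + 1)
  rw [Phi, ← RingHom.comap_ker, h1, comap_pow_of_bijective _ (Psi_bijective A B), comap_Psi_ker]

theorem pr1_eq : PrinPart.pr1 (fAB A B) n =
    PrinPart.infNbhdι (PrinPart.diagCl (fAB A B)) n ≫ q1 A B := by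
  rw [PrinPart.pr1, PrinPart.nbhdι, Category.assoc]

theorem pr2_eq : PrinPart.pr2 (fAB A B) n =
    PrinPart.infNbhdι (PrinPart.diagCl (fAB A B)) n ≫ q2 A B := by
  rw [PrinPart.pr2, PrinPart.nbhdι, Category.assoc]

theorem Phi_tmul (b b' : B) :
    Phi A B n (b ⊗ₜ[A] b') =
      (PrinPart.pr1 (fAB A B) n).appTop ((Scheme.ΓSpecIso (CommRingCat.of B)).inv b) *
        (PrinPart.pr2 (fAB A B) n).appTop ((Scheme.ΓSpecIso (CommRingCat.of B)).inv b') := by
  rw [pr1_eq, pr2_eq, Scheme.Hom.comp_appTop, Scheme.Hom.comp_appTop]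
  change (PrinPart.infNbhdι (PrinPart.diagCl (fAB A B)) n).appTop (Psi A B (b ⊗ₜ[A] b')) = _
  rw [Psi_tmul, map_mul]
  rfl

theorem secHom_eq_Phi
    (ψ : B ⊗[A] B →+ Γ(PrinPart.P (fAB A B) n, (⊤ : (Spec (CommRingCat.of B)).Opens)))
    (hψ : ∀ b b' : B, ψ (b ⊗ₜ[A] b') =
      (Scheme.ΓSpecIso (CommRingCat.of B)).inv b •
        PrinPart.dn (fAB A B) n ⊤ ((Scheme.ΓSpecIso (CommRingCat.of B)).inv b'))
    (t : B ⊗[A] B) :
    secHom (fAB A B) n ⊤ (ψ t) = Phi A B n t := by
  induction t using TensorProduct.induction_on with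
  | zero =>
    rw [map_zero ψ, map_zero (secHom (fAB A B) n ⊤), map_zero (Phi A B n)]
    rfl
  | tmul b b' =>
    rw [hψ, secHom_smul, secHom_dn, Phi_tmul]
    have hid : ∀ (h : PrinPart.pr1 (fAB A B) n ⁻¹ᵁ ⊤ ≤ PrinPart.pr2 (fAB A B) n ⁻¹ᵁ ⊤)
        (x : Γ(PrinPart.nbhd (fAB A B) n, PrinPart.pr2 (fAB A B) n ⁻¹ᵁ ⊤)),
        (PrinPart.nbhd (fAB A B) n).presheaf.map (homOfLE h).op x = x := by
      intro h x
      have : homOfLE h = 𝟙 (⊤ : (PrinPart.nbhd (fAB A B) n).Opens) := Subsingleton.elim _ _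
      rw [this]
      simp
      rfl
    rw [hid]
    rfl
  | add x y hx hy =>
    rw [map_add ψ, map_add (secHom (fAB A B) n ⊤), hx, hy, map_add (Phi A B n)]
    rfl

/-- **Affine description of the global sections of `P^n_{X/S}`** (`X = Spec B`, `S = Spec A`). -/
theorem main
    (ψ : B ⊗[A] B →+ Γ(PrinPart.P (fAB A B) n, (⊤ : (Spec (CommRingCat.of B)).Opens)))
    (hψ : ∀ b b' : B, ψ (b ⊗ₜ[A] b') =
      (Scheme.ΓSpecIso (CommRingCat.of B)).inv b •
        PrinPart.dn (fAB A B) n ⊤ ((Scheme.ΓSpecIso (CommRingCat.of B)).inv b')) :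
    Function.Surjective ψ ∧
      ψ.ker = (KaehlerDifferential.ideal A B ^ (n + 1)).toAddSubgroup := by
  have hbij := secHom_bijective (fAB A B) n ⊤
  have heq := secHom_eq_Phi A B n ψ hψ
  constructor
  · intro y
    obtain ⟨t, ht⟩ := Phi_surjective A B n (secHom (fAB A B) n ⊤ y)
    refine ⟨t, hbij.1 ?_⟩
    rw [heq, ht]
  · ext t
    rw [AddMonoidHom.mem_ker, Submodule.mem_toAddSubgroup, ← ker_Phi A B n, RingHom.mem_ker,
      ← heq]
    constructor
    · intro h
      rw [h, map_zero]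
      rfl
    · intro h
      exact hbij.1 (h.trans (map_zero (secHom (fAB A B) n ⊤)).symm)

end tensor

end Groth.Agent.Lib.Seat26.PPSec
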