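import Mathlib
import Groth.Prelude.Def_OmegaPn
import Groth.Agent.Lib.Seat26PPSec

/-!
# First order principal parts: `d¹ - 1` is a derivation (helper26)

The abstract lemmas are stated for an arbitrary scheme `N` in place of the infinitesimal
neighbourhood, so that elaboration never unfolds `Scheme.IdealSheafData.subscheme`.
-/

set_option autoImplicit false

universe u

open CategoryTheory AlgebraicGeometry Limits TopologicalSpace Opposite

namespace Groth.Agent.Lib.Seat26.PPOrd1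

open Groth.Agent.Lib.Seat26.PPSec

section abstractNil

theorem app_congr_zero {X Y : Scheme.{u}} {g g' : X ⟶ Y} (e : g = g') (U : Y.Opens) (z : Γ(Y, U))
    (h : g.app U z = 0) : g'.app U z = 0 := by
  subst e; exact h

variable {W Z N : Scheme.{u}} (i : Z ⟶ W) (ι : N ⟶ W) (τ : Z ⟶ N) (hτι : τ ≫ ι = i)

include hτι in
theorem mem_ker_of_app (T₀ : W.Opens) (zt : Γ(W, T₀))
    (h : τ.app (ι ⁻¹ᵁ T₀) (ι.app T₀ zt) = 0) : i.app T₀ zt = 0 := by
  refine app_congr_zero hτι T₀ zt ?_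
  rw [Scheme.Hom.comp_app]
  exact h

theorem app_res {T T' : N.Opens} (hle : T' ≤ T)
    (z : Γ(N, T)) (hz : τ.app T z = 0) :
    τ.app T' (N.presheaf.map (homOfLE hle).op z) = 0 := by
  have h1 : N.presheaf.map (homOfLE hle).op ≫ τ.app T' =
      τ.app T ≫ Z.presheaf.map (homOfLE (τ.preimage_mono hle)).op :=
    τ.naturality (homOfLE hle).op
  have h2 : τ.app T' (N.presheaf.map (homOfLE hle).op z) =
      Z.presheaf.map (homOfLE (τ.preimage_mono hle)).op (τ.app T z) := by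
    rw [← CommRingCat.comp_apply, h1, CommRingCat.comp_apply]
  rw [h2, hz, map_zero]

include hτι in
/-- abstract form: if `N ⟶ W` is, over affine opens, the quotient by the square of the kernel of
`Z ⟶ W`, then the product of two functions on `N` vanishing on `Z` is zero. -/
theorem mul_eq_zero_aux
    (hemb : Topology.IsInducing ι.base)
    (hsurj : ∀ T₀ : W.affineOpens, Function.Surjective (ι.app T₀.1))
    (hker : ∀ T₀ : W.affineOpens,
      RingHom.ker (ι.app T₀.1).hom = RingHom.ker (i.app T₀.1).hom ^ 2)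
    (T : N.Opens) (x y : Γ(N, T)) (hx : τ.app T x = 0) (hy : τ.app T y = 0) : x * y = 0 := by
  let Idx := {T₀ : W.affineOpens // ι ⁻¹ᵁ T₀.1 ≤ T}
  refine TopCat.Sheaf.eq_of_locally_eq' N.sheaf
    (fun j : Idx => ι ⁻¹ᵁ j.1.1) T (fun j => homOfLE j.2) ?_ _ _ ?_
  · intro p hp
    obtain ⟨T₁, hT₁o, hT₁⟩ := hemb.isOpen_iff.mp T.2
    have hp1 : ι p ∈ (⟨T₁, hT₁o⟩ : W.Opens) := by
      change p ∈ ι.base ⁻¹' T₁
      rw [hT₁]; exact hp
    obtain ⟨T₀, hT₀, hpT₀, hT₀T₁⟩ := exists_isAffineOpen_mem_and_subset hp1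
    refine Opens.mem_iSup.mpr ⟨⟨⟨T₀, hT₀⟩, ?_⟩, hpT₀⟩
    intro q hq
    have : q ∈ ι.base ⁻¹' T₁ := hT₀T₁ hq
    rw [hT₁] at this
    exact this
  · rintro ⟨T₀, hle⟩
    change N.presheaf.map (homOfLE hle).op (x * y) = N.presheaf.map (homOfLE hle).op 0
    rw [map_mul, map_zero]
    have hx0 := app_res τ hle x hx
    have hy0 := app_res τ hle y hy
    obtain ⟨xt, hxt⟩ := hsurj T₀ (N.presheaf.map (homOfLE hle).op x)
    obtain ⟨yt, hyt⟩ := hsurj T₀ (N.presheaf.map (homOfLE hle).op y)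
    rw [← hxt] at hx0
    rw [← hyt] at hy0
    have hxk : xt ∈ RingHom.ker (i.app T₀.1).hom := mem_ker_of_app i ι τ hτι T₀.1 xt hx0
    have hyk : yt ∈ RingHom.ker (i.app T₀.1).hom := mem_ker_of_app i ι τ hτι T₀.1 yt hy0
    have hmem : xt * yt ∈ RingHom.ker (ι.app T₀.1).hom := by
      rw [hker T₀, pow_two]
      exact Ideal.mul_mem_mul hxk hyk
    rw [← hxt, ← hyt, ← map_mul]
    exact hmem

end abstractNil

section concreteNil

variable {W Z : Scheme.{u}} (i : Z ⟶ W) [IsClosedImmersion i]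

omit [IsClosedImmersion i] in
theorem infNbhdι_app_surjective (n : ℕ) (T₀ : W.affineOpens) :
    Function.Surjective ((PrinPart.infNbhdι i n).app T₀.1) :=
  (i.ker ^ (n + 1)).subschemeι_app_surjective T₀

theorem ker_infNbhdι_app (n : ℕ) (T₀ : W.affineOpens) :
    RingHom.ker ((PrinPart.infNbhdι i n).app T₀.1).hom =
      RingHom.ker (i.app T₀.1).hom ^ (n + 1) := by
  have h := (i.ker ^ (n + 1)).ker_subschemeι_app T₀
  rw [Scheme.IdealSheafData.ideal_pow, Pi.pow_apply, Scheme.Hom.ker_apply] at h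
  exact h

omit [IsClosedImmersion i] in
theorem isInducing_infNbhdι (n : ℕ) : Topology.IsInducing (PrinPart.infNbhdι i n).base :=
  ((i.ker ^ (n + 1)).subschemeι.isEmbedding).isInducing

/-- On the first infinitesimal neighbourhood of a closed immersion, the product of two functions
vanishing on the subscheme is zero. -/
theorem mul_eq_zero_of_app_eq_zero (T : (PrinPart.infNbhd i 1).Opens)
    (x y : Γ(PrinPart.infNbhd i 1, T))
    (hx : (PrinPart.toInfNbhd i 1).app T x = 0) (hy : (PrinPart.toInfNbhd i 1).app T y = 0) :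
    x * y = 0 :=
  mul_eq_zero_aux i (PrinPart.infNbhdι i 1) (PrinPart.toInfNbhd i 1) (PrinPart.toInfNbhd_ι i 1)
    (isInducing_infNbhdι i 1) (infNbhdι_app_surjective i 1) (ker_infNbhdι_app i 1) T x y hx hy

end concreteNil

section abstractOrd1

theorem app_eq_of_eq_id {X : Scheme.{u}} (g : X ⟶ X) (e : g = 𝟙 X) (U : X.Opens)
    (hle : g ⁻¹ᵁ U ≤ U) :
    g.app U = X.presheaf.map (homOfLE hle).op := by
  subst e
  rw [Scheme.Hom.id_app]
  exact (X.presheaf.map_id (op U)).symm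

/-- for a section `h` of `p`, `h♯ (p♯ a)` is `a` (up to the identification of opens). -/
theorem app_app_of_comp_eq_id {X N : Scheme.{u}} (h : X ⟶ N) (p : N ⟶ X) (e : h ≫ p = 𝟙 X)
    (U : X.Opens) (hle : h ⁻¹ᵁ (p ⁻¹ᵁ U) ≤ U) (a : Γ(X, U)) :
    h.app (p ⁻¹ᵁ U) (p.app U a) = X.presheaf.map (homOfLE hle).op a := by
  have h1 : (h ≫ p).app U = X.presheaf.map (homOfLE hle).op := app_eq_of_eq_id _ e U hle
  rw [← h1, Scheme.Hom.comp_app]
  rfl

variable {X N : Scheme.{u}} (τ : X ⟶ N) (p1 p2 : N ⟶ X) (h1 : τ ≫ p1 = 𝟙 X) (h2 : τ ≫ p2 = 𝟙 X)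
  (hpre : ∀ U : X.Opens, p1 ⁻¹ᵁ U ≤ p2 ⁻¹ᵁ U)

/-- `p₁♯` on sections over `U`. -/
noncomputable def alA (U : X.Opens) : Γ(X, U) →+* Γ(N, p1 ⁻¹ᵁ U) := (p1.app U).hom

/-- `p₂♯` on sections over `U`, read over `p₁⁻¹ U`. -/
noncomputable def beA (U : X.Opens) : Γ(X, U) →+* Γ(N, p1 ⁻¹ᵁ U) :=
  (N.presheaf.map (homOfLE (hpre U)).op).hom.comp (p2.app U).hom

include h1 in
theorem le_of_section (U : X.Opens) : τ ⁻¹ᵁ (p1 ⁻¹ᵁ U) ≤ U := by
  intro x hx
  have h3 : p1 (τ x) ∈ U := hx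
  rw [← Scheme.Hom.comp_apply, h1] at h3
  exact h3

theorem app_alA (U : X.Opens) (a : Γ(X, U)) :
    τ.app (p1 ⁻¹ᵁ U) (alA p1 U a) = X.presheaf.map (homOfLE (le_of_section τ p1 h1 U)).op a :=
  app_app_of_comp_eq_id τ p1 h1 U _ a

include h2 in
theorem app_beA (U : X.Opens) (a : Γ(X, U)) :
    τ.app (p1 ⁻¹ᵁ U) (beA p1 p2 hpre U a) =
      X.presheaf.map (homOfLE (le_of_section τ p1 h1 U)).op a := by
  have hle2 : τ ⁻¹ᵁ (p2 ⁻¹ᵁ U) ≤ U := le_of_section τ p2 h2 U
  have e1 := app_app_of_comp_eq_id τ p2 h2 U hle2 a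
  have e2 : N.presheaf.map (homOfLE (hpre U)).op ≫ τ.app (p1 ⁻¹ᵁ U) =
      τ.app (p2 ⁻¹ᵁ U) ≫ X.presheaf.map (homOfLE (τ.preimage_mono (hpre U))).op :=
    τ.naturality (homOfLE (hpre U)).op
  have e3 : τ.app (p1 ⁻¹ᵁ U) (beA p1 p2 hpre U a) =
      X.presheaf.map (homOfLE (τ.preimage_mono (hpre U))).op (τ.app (p2 ⁻¹ᵁ U) (p2.app U a)) := by
    change (N.presheaf.map (homOfLE (hpre U)).op ≫ τ.app (p1 ⁻¹ᵁ U)) (p2.app U a) = _
    rw [e2]
    rfl
  rw [e3, e1, ← CommRingCat.comp_apply, ← Functor.map_comp]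
  rfl

include h1 h2 in
/-- the basic relation: `(p₂♯a - p₁♯a)(p₂♯b - p₁♯b) = 0` when squares of functions vanishing on
the diagonal vanish. -/
theorem sub_mul_sub
    (hnil : ∀ (T : N.Opens) (x y : Γ(N, T)), τ.app T x = 0 → τ.app T y = 0 → x * y = 0)
    (U : X.Opens) (a b : Γ(X, U)) :
    (beA p1 p2 hpre U a - alA p1 U a) * (beA p1 p2 hpre U b - alA p1 U b) = 0 := by
  refine hnil _ _ _ ?_ ?_
  · rw [map_sub, app_beA τ p1 p2 h1 h2 hpre, app_alA τ p1 h1, sub_self]
  · rw [map_sub, app_beA τ p1 p2 h1 h2 hpre, app_alA τ p1 h1, sub_self]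

theorem leibniz_aux {R A : Type*} [CommRing R] [CommRing A] (α β : R →+* A) (a b : R)
    (h : (β a - α a) * (β b - α b) = 0) :
    β (a * b) = α a * β b + α b * β a - α (a * b) * β 1 := by
  rw [map_mul, map_mul, map_one]
  linear_combination h

theorem app_eq_of_eq {N S : Scheme.{u}} {g g' : N ⟶ S} (e : g = g') (V : S.Opens)
    (hle : g ⁻¹ᵁ V ≤ g' ⁻¹ᵁ V) (s : Γ(S, V)) :
    g.app V s = N.presheaf.map (homOfLE hle).op (g'.app V s) := by
  subst e
  have h : N.presheaf.map (homOfLE hle).op = 𝟙 _ := N.presheaf.map_id _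
  rw [h]
  rfl

theorem alA_app {S : Scheme.{u}} (f : X ⟶ S) (hf : p1 ≫ f = p2 ≫ f) (V : S.Opens) (s : Γ(S, V)) :
    alA p1 (f ⁻¹ᵁ V) (f.app V s) = beA p1 p2 hpre (f ⁻¹ᵁ V) (f.app V s) :=
  app_eq_of_eq hf V (hpre (f ⁻¹ᵁ V)) s

end abstractOrd1

section ord1

variable {X S : Scheme.{u}} (f : X ⟶ S)

/-- `p₁⁻¹ U ≤ p₂⁻¹ U` on the infinitesimal neighbourhoods of the diagonal. -/
theorem hpre (n : ℕ) (U : X.Opens) : PrinPart.pr1 f n ⁻¹ᵁ U ≤ PrinPart.pr2 f n ⁻¹ᵁ U :=
  (PrinPart.preimage_pr1 f n U).le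

theorem secHom_dn' (n : ℕ) (U : X.Opens) (r : Γ(X, U)) :
    secHom f n U (PrinPart.dn f n U r) =
      beA (PrinPart.pr1 f n) (PrinPart.pr2 f n) (hpre f n) U r := secHom_dn f n U r

theorem secHom_smul' (n : ℕ) (U : X.Opens) (r : Γ(X, U)) (x : Γ(PrinPart.P f n, U)) :
    secHom f n U (r • x) = alA (PrinPart.pr1 f n) U r * secHom f n U x := secHom_smul f n U r x

/-- Leibniz rule for `d¹`. -/
theorem dn_mul (U : X.Opens) (a b : Γ(X, U)) :
    PrinPart.dn f 1 U (a * b) =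
      a • PrinPart.dn f 1 U b + b • PrinPart.dn f 1 U a - (a * b) • PrinPart.dn f 1 U 1 := by
  apply (secHom_bijective f 1 U).injective
  rw [map_sub, map_add, secHom_smul', secHom_smul', secHom_smul', secHom_dn', secHom_dn',
    secHom_dn', secHom_dn']
  exact leibniz_aux _ _ a b (sub_mul_sub (PrinPart.toNbhd f 1) (PrinPart.pr1 f 1)
    (PrinPart.pr2 f 1) (PrinPart.toNbhd_pr1 f 1) (PrinPart.toNbhd_pr2 f 1) (hpre f 1)
    (mul_eq_zero_of_app_eq_zero (PrinPart.diagCl f)) U a b)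

/-- `d^n` on functions from the base. -/
theorem dn_app (n : ℕ) (V : S.Opens) (s : Γ(S, V)) :
    PrinPart.dn f n (f ⁻¹ᵁ V) (f.app V s) = (f.app V s) • PrinPart.dn f n (f ⁻¹ᵁ V) 1 := by
  apply (secHom_bijective f n _).injective
  rw [secHom_smul', secHom_dn', secHom_dn', map_one, mul_one]
  exact (alA_app (PrinPart.pr1 f n) (PrinPart.pr2 f n) (hpre f n) f (PrinPart.pr1_comp f n) V s).symm

theorem dn_map (n : ℕ) {U V : X.Opens} (e : V ≤ U) (t : Γ(X, U)) :
    PrinPart.dn f n V (X.presheaf.map (homOfLE e).op t) =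
      (PrinPart.P f n).presheaf.map (homOfLE e).op (PrinPart.dn f n U t) :=
  PrinPart.dP_map f n (Coh.structureModule X) e t

theorem dn_one_map (n : ℕ) {U V : X.Opens} (e : V ≤ U) :
    (PrinPart.P f n).presheaf.map (homOfLE e).op (PrinPart.dn f n U 1) = PrinPart.dn f n V 1 := by
  rw [← dn_map, map_one]

/-- the value of the derivation `d¹ - 1`. -/
noncomputable def derPFun (U : X.Opens) : Γ(X, U) →+ Γ(PrinPart.P f 1, U) :=
  AddMonoidHom.mk' (fun a => PrinPart.dn f 1 U a - a • PrinPart.dn f 1 U 1) (by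
    intro a b
    rw [map_add, add_smul]
    abel)

theorem derPFun_apply (U : X.Opens) (a : Γ(X, U)) :
    derPFun f U a = PrinPart.dn f 1 U a - a • PrinPart.dn f 1 U 1 := rfl

theorem derPFun_mul (U : X.Opens) (a b : Γ(X, U)) :
    derPFun f U (a * b) = a • derPFun f U b + b • derPFun f U a := by
  rw [derPFun_apply, derPFun_apply, derPFun_apply, dn_mul, smul_sub, smul_sub, smul_smul,
    smul_smul, mul_comm b a]
  abel

theorem derPFun_map {U V : X.Opens} (e : V ≤ U) (t : Γ(X, U)) :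
    derPFun f V (X.presheaf.map (homOfLE e).op t) =
      (PrinPart.P f 1).presheaf.map (homOfLE e).op (derPFun f U t) := by
  rw [derPFun_apply, derPFun_apply, map_sub, Scheme.Modules.map_smul, dn_map, dn_one_map]

theorem derPFun_app (V : S.Opens) (s : Γ(S, V)) : derPFun f (f ⁻¹ᵁ V) (f.app V s) = 0 := by
  rw [derPFun_apply, dn_app, sub_self]

/-- the universal first-order derivation `d¹ - 1 : O_X → P¹_{X/S}`. -/
noncomputable def derP : OmegaSh.Der f (PrinPart.P f 1) where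
  d {T} := derPFun f T.unop
  d_mul {T} a b := derPFun_mul f T.unop a b
  d_map {T T'} k t := by
    have hk : T'.unop ≤ T.unop := k.unop.le
    exact derPFun_map f hk t
  d_app {W} c := derPFun_app f W.unop c

theorem derP_app (U : X.Opens) (a : Γ(X, U)) :
    (derP f).app U a = PrinPart.dn f 1 U a - a • PrinPart.dn f 1 U 1 := rfl

theorem app_inv_app {N : Scheme.{u}} {M M' : N.Modules} (φ : M ⟶ M') [IsIso φ] (V : N.Opens)
    (y : Γ(M', V)) : φ.app V ((inv φ).app V y) = y := by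
  have h := IsIso.inv_hom_id φ
  have h2 : (inv φ ≫ φ).app V y = y := by rw [h]; rfl
  exact h2

/-- the structure map `O_X → P^n_{X/S}`, `a ↦ a • 1`. -/
noncomputable def eP (n : ℕ) : Coh.structureModule X ⟶ PrinPart.P f n :=
  strToPush (PrinPart.pr1 f n) ≫
    (Scheme.Modules.pushforward (PrinPart.pr1 f n)).map (inv (pbUnitHom (PrinPart.pr2 f n)))

theorem secHom_eP (n : ℕ) (U : X.Opens) (a : Γ(X, U)) :
    secHom f n U ((eP f n).app U (OmegaSh.strSect X U a)) = alA (PrinPart.pr1 f n) U a := by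
  change (OmegaSh.fnSect _ _) ((pbUnitHom (PrinPart.pr2 f n)).app (PrinPart.pr1 f n ⁻¹ᵁ U)
    ((inv (pbUnitHom (PrinPart.pr2 f n))).app (PrinPart.pr1 f n ⁻¹ᵁ U)
      ((strToPush (PrinPart.pr1 f n)).app U a))) = _
  rw [app_inv_app, strToPush_app]
  rfl

theorem eP_app (n : ℕ) (U : X.Opens) (a : Γ(X, U)) :
    (eP f n).app U (OmegaSh.strSect X U a) = a • PrinPart.dn f n U 1 := by
  apply (secHom_bijective f n U).injective
  rw [secHom_eP, secHom_smul', secHom_dn', map_one, mul_one]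

/-- the derivation part of `u ∘ d¹`. -/
noncomputable def derOf {G : X.Modules} (u : PrinPart.P f 1 ⟶ G) : OmegaSh.Der f G :=
  (derP f).postcomp u.val

theorem derOf_app {G : X.Modules} (u : PrinPart.P f 1 ⟶ G) (U : X.Opens) (a : Γ(X, U)) :
    (derOf f u).app U a = u.app U (PrinPart.dn f 1 U a - a • PrinPart.dn f 1 U 1) := rfl

theorem linOf_app {G : X.Modules} (u : PrinPart.P f 1 ⟶ G) (U : X.Opens) (a : Γ(X, U)) :
    (eP f 1 ≫ u).app U (OmegaSh.strSect X U a) = u.app U (a • PrinPart.dn f 1 U 1) := by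
  rw [← eP_app]
  rfl

theorem decomp {G : X.Modules} (u : PrinPart.P f 1 ⟶ G) (U : X.Opens) (a : Γ(X, U)) :
    u.app U (PrinPart.dn f 1 U a) =
      (eP f 1 ≫ u).app U (OmegaSh.strSect X U a) + (derOf f u).app U a := by
  rw [linOf_app, derOf_app, ← map_add]
  congr 1
  abel

/-- **A differential operator of order `≤ 1` on `O_X` is uniquely `linear + derivation`.** -/
theorem main (G : X.Modules)
    (D : (Coh.structureModule X).presheaf ⟶ G.presheaf)
    (hD : PrinPart.IsDiffOpLE f (Coh.structureModule X) G 1 D) :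
    ∃! p : (Coh.structureModule X ⟶ G) × OmegaSh.Der f G,
      ∀ (U : X.Opens) (a : Γ(X, U)),
        D.app (op U) (OmegaSh.strSect X U a) =
          p.1.app U (OmegaSh.strSect X U a) + p.2.app U a := by
  obtain ⟨u, hu⟩ := hD
  have hDu : ∀ (U : X.Opens) (a : Γ(X, U)),
      D.app (op U) (OmegaSh.strSect X U a) = u.app U (PrinPart.dn f 1 U a) := fun U a =>
    hu U (OmegaSh.strSect X U a)
  have hex : ∀ (U : X.Opens) (a : Γ(X, U)), D.app (op U) (OmegaSh.strSect X U a) =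
      (eP f 1 ≫ u).app U (OmegaSh.strSect X U a) + (derOf f u).app U a := fun U a => by
    rw [hDu, decomp]
  have hone : ∀ (w : Coh.structureModule X ⟶ G) (d : OmegaSh.Der f G),
      (∀ (U : X.Opens) (a : Γ(X, U)), D.app (op U) (OmegaSh.strSect X U a) =
        w.app U (OmegaSh.strSect X U a) + d.app U a) →
      ∀ (U : X.Opens) (a : Γ(X, U)),
        w.app U (OmegaSh.strSect X U a) = a • D.app (op U) (OmegaSh.strSect X U 1) := by
    intro w d hw U a
    have h1 := hw U 1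
    have h2 : d.app U 1 = 0 := d.d_one (op U)
    rw [h2, add_zero] at h1
    rw [h1, ← Scheme.Modules.Hom.app_smul]
    congr 1
    change a = a * 1
    rw [mul_one]
  refine ⟨(eP f 1 ≫ u, derOf f u), hex, ?_⟩
  rintro ⟨v', δ'⟩ hp
  have hp' : ∀ (U : X.Opens) (a : Γ(X, U)),
      D.app (op U) (OmegaSh.strSect X U a) =
        v'.app U (OmegaSh.strSect X U a) + δ'.app U a := hp
  have hvv : v' = eP f 1 ≫ u := by
    apply Scheme.Modules.hom_ext
    intro U
    ext x
    exact (hone v' δ' hp' U x).trans (hone (eP f 1 ≫ u) (derOf f u) hex U x).symm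
  have hdd : δ' = derOf f u := by
    apply PresheafOfModules.Derivation.ext
    funext T
    apply AddMonoidHom.ext
    intro a
    have h1 := hp' T.unop a
    have h2 := hex T.unop a
    rw [h1, hvv] at h2
    have h3 : δ'.app T.unop a = (derOf f u).app T.unop a := add_left_cancel h2
    exact h3
  rw [hvv, hdd]

end ord1

end Groth.Agent.Lib.Seat26.PPOrd1
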