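import Mathlib
import Groth.Prelude.Def_OmegaPn
import Groth.Agent.Lib.Seat26PPOrd1
import Groth.Agent.Lib.Helper18OmLS23
import Groth.Agent.Lib.Helper18OmLS11

/-!
# Local generation of `P^n_{X/S}` by `a • d^n b` (helper26)

On an affine chart `U → V` every section of `P^n_{X/S}` over `U` is a finite sum `∑ aᵢ • d^n bᵢ`.
Consequence: two `O_X`-linear maps out of `P^n_{X/S}` agreeing on all `d^n b` coincide.
-/

set_option autoImplicit false

universe u

open CategoryTheory AlgebraicGeometry Limits TopologicalSpace Opposite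

namespace Groth.Agent.Lib.Seat26.PPLoc

open Groth.Agent.Lib.Seat26.PPSec Groth.Agent.Lib.Seat26.PPOrd1 Groth.Agent.Helper18OmLS

section Alg

variable {C A R : Type u} [CommRing C] [CommRing A] [CommRing R]
  (c : C →+* A) (p₁ p₂ : A →+* R)
  (PO : ∀ (T : Type u) [CommRing T] (ψ₁ ψ₂ : A →+* T), ψ₁.comp c = ψ₂.comp c →
      ∃! ρ : R →+* T, ρ.comp p₁ = ψ₁ ∧ ρ.comp p₂ = ψ₂)
  (hc : p₁.comp c = p₂.comp c)

include PO hc in
/-- a pushout of rings is generated by the two images. -/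
theorem mem_closure_of_PO (x : R) : x ∈ Subring.closure (Set.range p₁ ∪ Set.range p₂) := by
  set M : Subring R := Subring.closure (Set.range p₁ ∪ Set.range p₂) with hM
  have h1 : ∀ a, p₁ a ∈ M := fun a => Subring.subset_closure (Or.inl ⟨a, rfl⟩)
  have h2 : ∀ a, p₂ a ∈ M := fun a => Subring.subset_closure (Or.inr ⟨a, rfl⟩)
  let ψ₁ : A →+* M := p₁.codRestrict M h1
  let ψ₂ : A →+* M := p₂.codRestrict M h2
  have hψ : ψ₁.comp c = ψ₂.comp c := by
    ext t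
    exact congr($hc t)
  obtain ⟨ρ, ⟨hρ1, hρ2⟩, -⟩ := PO M ψ₁ ψ₂ hψ
  obtain ⟨ρ₀, -, hρ₀⟩ := PO R p₁ p₂ hc
  have e1 : (M.subtype.comp ρ) = ρ₀ := hρ₀ _ ⟨by
    rw [RingHom.comp_assoc, hρ1]; rfl, by rw [RingHom.comp_assoc, hρ2]; rfl⟩
  have e2 : RingHom.id R = ρ₀ := hρ₀ _ ⟨rfl, rfl⟩
  have e3 : M.subtype (ρ x) = x := by
    have := congr($(e1.trans e2.symm) x)
    exact this
  rw [← e3]
  exact (ρ x).2

include PO hc in
/-- additive form: every element is a sum of products `p₁ a * p₂ b`. -/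
theorem mem_addClosure_of_PO (x : R) :
    x ∈ AddSubgroup.closure {z : R | ∃ a b : A, z = p₁ a * p₂ b} := by
  have hx := mem_closure_of_PO c p₁ p₂ PO hc x
  rw [Subring.mem_closure_iff] at hx
  refine AddSubgroup.closure_mono ?_ hx
  intro z hz
  have hz' : z ∈ Submonoid.closure (Set.range p₁ ∪ Set.range p₂) := hz
  rw [Submonoid.closure_union, Submonoid.mem_sup] at hz'
  obtain ⟨y, hy, y', hy', rfl⟩ := hz'
  have e1 : Submonoid.closure (Set.range p₁) = MonoidHom.mrange (p₁ : A →* R) := by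
    rw [← MonoidHom.coe_mrange]; exact Submonoid.closure_eq _
  have e2 : Submonoid.closure (Set.range p₂) = MonoidHom.mrange (p₂ : A →* R) := by
    rw [← MonoidHom.coe_mrange]; exact Submonoid.closure_eq _
  rw [e1] at hy
  rw [e2] at hy'
  obtain ⟨a, rfl⟩ := hy
  obtain ⟨b, rfl⟩ := hy'
  exact ⟨a, b, rfl⟩

end Alg

section absSurj

variable {P W N : Scheme.{u}} (ι : N ⟶ W) (w : W ⟶ P) [IsOpenImmersion w]

theorem app_comp_surjective (T' : P.Opens) (hT' : IsAffineOpen T') (hT'w : T' ≤ w.opensRange)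
    (hsurj : ∀ T₀ : W.affineOpens, Function.Surjective (ι.app T₀.1)) :
    Function.Surjective ((ι ≫ w).app T') := by
  have h1 : IsIso (w.app T') := w.isIso_app T' hT'w
  have hT : IsAffineOpen (w ⁻¹ᵁ T') := by
    rw [← Scheme.Hom.isAffineOpen_iff_of_isOpenImmersion w, Scheme.Hom.image_preimage_eq_opensRange_inf,
      inf_eq_right.mpr hT'w]
    exact hT'
  have h2 := hsurj ⟨w ⁻¹ᵁ T', hT⟩
  have h3 : Function.Surjective (w.app T') :=
    (ConcreteCategory.bijective_of_isIso (w.app T')).surjective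
  intro y
  obtain ⟨y1, hy1⟩ := h2 y
  obtain ⟨y2, hy2⟩ := h3 y1
  refine ⟨y2, ?_⟩
  have e : (ι ≫ w).app T' y2 = ι.app (w ⁻¹ᵁ T') (w.app T' y2) := by
    rw [Scheme.Hom.comp_app]; rfl
  rw [e, hy2]
  exact hy1

end absSurj

section chart

open Groth.Agent.Lib.Helper20.OmegaLoc Groth.Agent.Lib.Helper20.OmegaAff

variable {X S : Scheme.{u}} (f : X ⟶ S) {U : X.Opens} (hU : IsAffineOpen U) {V : S.Opens}
  (hV : IsAffineOpen V) (h : U ≤ f ⁻¹ᵁ V)

include hU hV h in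
/-- the affine open `pr₁⁻¹U ∩ pr₂⁻¹U` of `X ×_S X` lies in the open where the diagonal is closed. -/
theorem diagNbhd_le_coborderRange :
    OmegaSh.diagNbhd f U ≤ (pullback.diagonal f).coborderRange := by
  letI : Algebra Γ(S, V) Γ(X, U) := (f.appLE V U h).hom.toAlgebra
  have halg : algebraMap Γ(S, V) Γ(X, U) = (f.appLE V U h).hom := rfl
  have hr : (chartK f hU hV h halg).opensRange = OmegaSh.diagNbhd f U := by
    apply Opens.ext
    change Set.range (chartK f hU hV h halg) = _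
    unfold chartK
    rw [Scheme.Hom.comp_base, TopCat.coe_comp, Set.range_comp, Set.range_eq_univ.2
      (ConcreteCategory.bijective_of_isIso (C := TopCat)
        (pullbackSpecIso Γ(S, V) Γ(X, U) Γ(X, U)).inv.base).surjective,
      Set.image_univ, Scheme.Pullback.range_map, hU.range_fromSpec]
    rfl
  have H := isPullback_chart f hU hV h halg
  intro z hz
  rw [← hr] at hz
  obtain ⟨w, rfl⟩ := hz
  change (chartK f hU hV h halg) w ∈ coborder (Set.range (pullback.diagonal f))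
  rw [coborder_eq_union_closure_compl]
  have hpre : (chartK f hU hV h halg).base ⁻¹' Set.range (pullback.diagonal f) =
      Set.range (Spec.map (mulHom Γ(S, V) Γ(X, U))) := by
    have e1 : H.isoPullback.hom ≫ pullback.fst _ _ = Spec.map (mulHom Γ(S, V) Γ(X, U)) :=
      H.isoPullback_hom_fst
    rw [← Scheme.Pullback.range_fst, ← e1, Scheme.Hom.comp_base, TopCat.coe_comp, Set.range_comp,
      Set.range_eq_univ.2 (ConcreteCategory.bijective_of_isIso (C := TopCat)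
        H.isoPullback.hom.base).surjective, Set.image_univ]
  by_cases hw : w ∈ Set.range (Spec.map (mulHom Γ(S, V) Γ(X, U)))
  · left
    rw [← hpre] at hw
    exact hw
  · right
    intro hcl
    apply hw
    have hopen : IsOpenMap (chartK f hU hV h halg).base :=
      (chartK f hU hV h halg).isOpenEmbedding.isOpenMap
    have h1 : w ∈ (chartK f hU hV h halg).base ⁻¹' closure (Set.range (pullback.diagonal f)) := hcl
    rw [hopen.preimage_closure_eq_closure_preimage (chartK f hU hV h halg).continuous, hpre] at h1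
    have hsurj : Function.Surjective (mulHom Γ(S, V) Γ(X, U)).hom := mulRingHom_surjective _ _
    have hci : IsClosedImmersion (Spec.map (mulHom Γ(S, V) Γ(X, U))) :=
      IsClosedImmersion.spec_of_surjective _ hsurj
    rw [(Spec.map (mulHom Γ(S, V) Γ(X, U))).isClosedEmbedding.isClosed_range.closure_eq] at h1
    exact h1

end chart

section AlgSpan

variable {A R' M : Type*} [CommRing A] [CommRing R'] [AddCommGroup M] [Module A M]
  (α β : A →+* R') (sec : M →+ R') (d : A →+ M)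

/-- pure algebra: if `sec : M → R'` is injective, semilinear over `α`, sends `d b` to `β b`, and
`R'` is additively generated by the `α a * β b`, then `M` is spanned by the `d b`. -/
theorem mem_span_of_closure (hinj : Function.Injective sec)
    (hsmul : ∀ (r : A) (x : M), sec (r • x) = α r * sec x)
    (hd : ∀ b, sec (d b) = β b)
    (hgen : ∀ y : R', y ∈ AddSubgroup.closure {z : R' | ∃ a b : A, z = α a * β b})
    (x : M) : x ∈ Submodule.span A (Set.range d) := by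
  have key : ∀ y ∈ AddSubgroup.closure {z : R' | ∃ a b : A, z = α a * β b},
      ∃ x' ∈ Submodule.span A (Set.range d), sec x' = y := by
    intro y hy
    refine AddSubgroup.closure_induction ?_ ?_ ?_ ?_ hy
    · rintro _ ⟨a, b, rfl⟩
      exact ⟨a • d b, Submodule.smul_mem _ _ (Submodule.subset_span ⟨b, rfl⟩), by rw [hsmul, hd]⟩
    · exact ⟨0, Submodule.zero_mem _, map_zero _⟩
    · rintro y₁ y₂ _ _ ⟨x₁, h₁, e₁⟩ ⟨x₂, h₂, e₂⟩
      exact ⟨x₁ + x₂, Submodule.add_mem _ h₁ h₂, by rw [map_add, e₁, e₂]⟩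
    · rintro y _ ⟨x₁, h₁, e₁⟩
      exact ⟨-x₁, Submodule.neg_mem _ h₁, by rw [map_neg, e₁]⟩
  obtain ⟨x', hx', e⟩ := key (sec x) (hgen _)
  rw [← hinj e]
  exact hx'

end AlgSpan

section absGen

/-- `κ♯` of a restricted `q♯ a` is a restriction of `(κ ≫ q)♯ a`. -/
theorem app_appLE {X N P : Scheme.{u}} (κ : N ⟶ P) (q : P ⟶ X) (U : X.Opens) (T' : P.Opens)
    (e : T' ≤ q ⁻¹ᵁ U) (a : Γ(X, U)) :
    κ.app T' (q.appLE U T' e a) =
      N.presheaf.map (homOfLE (show κ ⁻¹ᵁ T' ≤ (κ ≫ q) ⁻¹ᵁ U from κ.preimage_mono e)).op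
        ((κ ≫ q).app U a) := by
  have h1 : P.presheaf.map (homOfLE e).op ≫ κ.app T' =
      κ.app (q ⁻¹ᵁ U) ≫ N.presheaf.map (homOfLE (κ.preimage_mono e)).op :=
    κ.naturality (homOfLE e).op
  have h2 : κ.app T' (q.appLE U T' e a) =
      (P.presheaf.map (homOfLE e).op ≫ κ.app T') (q.app U a) := by
    rw [Scheme.Hom.appLE]; rfl
  rw [h2, h1, Scheme.Hom.comp_app]
  rfl

variable {X N P : Scheme.{u}} (κ : N ⟶ P) (q1 q2 : P ⟶ X)
  (hpre : ∀ U : X.Opens, (κ ≫ q1) ⁻¹ᵁ U ≤ (κ ≫ q2) ⁻¹ᵁ U)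

theorem res_res {N : Scheme.{u}} {T₁ T₂ T₃ : N.Opens} (h₁ : T₂ ≤ T₁) (h₂ : T₃ ≤ T₂)
    (z : Γ(N, T₁)) :
    N.presheaf.map (homOfLE h₂).op (N.presheaf.map (homOfLE h₁).op z) =
      N.presheaf.map (homOfLE (h₂.trans h₁)).op z := by
  rw [← CommRingCat.comp_apply, ← Functor.map_comp]
  rfl

theorem res_self {N : Scheme.{u}} {T₁ : N.Opens} (h₁ : T₁ ≤ T₁) (z : Γ(N, T₁)) :
    N.presheaf.map (homOfLE h₁).op z = z := by
  have : N.presheaf.map (homOfLE h₁).op = 𝟙 _ := N.presheaf.map_id _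
  rw [this]; rfl

/-- abstract form of local generation: if `κ♯` is surjective on `q₁⁻¹U ∩ q₂⁻¹U` and the ring of
functions there is additively generated by products `q₁♯a · q₂♯b`, then the functions on
`(κ ≫ q₁)⁻¹U` are additively generated by `p₁♯a · p₂♯b`. -/
theorem mem_closure_alA_beA (U : X.Opens)
    (hsurj : Function.Surjective (κ.app (q1 ⁻¹ᵁ U ⊓ q2 ⁻¹ᵁ U)))
    (hgen : ∀ x : Γ(P, q1 ⁻¹ᵁ U ⊓ q2 ⁻¹ᵁ U), x ∈ AddSubgroup.closure
      {z | ∃ a b : Γ(X, U), z = (q1.appLE U (q1 ⁻¹ᵁ U ⊓ q2 ⁻¹ᵁ U) inf_le_left).hom a *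
        (q2.appLE U (q1 ⁻¹ᵁ U ⊓ q2 ⁻¹ᵁ U) inf_le_right).hom b})
    (y : Γ(N, (κ ≫ q1) ⁻¹ᵁ U)) :
    y ∈ AddSubgroup.closure {z | ∃ a b : Γ(X, U),
      z = alA (κ ≫ q1) U a * beA (κ ≫ q1) (κ ≫ q2) hpre U b} := by
  have hle : (κ ≫ q1) ⁻¹ᵁ U ≤ κ ⁻¹ᵁ (q1 ⁻¹ᵁ U ⊓ q2 ⁻¹ᵁ U) := by
    intro z hz
    exact ⟨hz, hpre U hz⟩
  have hge : κ ⁻¹ᵁ (q1 ⁻¹ᵁ U ⊓ q2 ⁻¹ᵁ U) ≤ (κ ≫ q1) ⁻¹ᵁ U := fun z hz => hz.1
  have hge2 : κ ⁻¹ᵁ (q1 ⁻¹ᵁ U ⊓ q2 ⁻¹ᵁ U) ≤ (κ ≫ q2) ⁻¹ᵁ U := fun z hz => hz.2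
  -- lift `y`
  obtain ⟨x, hx⟩ := hsurj (N.presheaf.map (homOfLE hge).op y)
  have hy : y = N.presheaf.map (homOfLE hle).op (κ.app (q1 ⁻¹ᵁ U ⊓ q2 ⁻¹ᵁ U) x) := by
    rw [hx, res_res, res_self]
  rw [hy]
  have key : ∀ x ∈ AddSubgroup.closure
      {z | ∃ a b : Γ(X, U), z = (q1.appLE U (q1 ⁻¹ᵁ U ⊓ q2 ⁻¹ᵁ U) inf_le_left).hom a *
        (q2.appLE U (q1 ⁻¹ᵁ U ⊓ q2 ⁻¹ᵁ U) inf_le_right).hom b},
      N.presheaf.map (homOfLE hle).op (κ.app (q1 ⁻¹ᵁ U ⊓ q2 ⁻¹ᵁ U) x) ∈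
        AddSubgroup.closure {z | ∃ a b : Γ(X, U),
          z = alA (κ ≫ q1) U a * beA (κ ≫ q1) (κ ≫ q2) hpre U b} := by
    intro x hx
    refine AddSubgroup.closure_induction ?_ ?_ ?_ ?_ hx
    · rintro _ ⟨a, b, rfl⟩
      refine AddSubgroup.subset_closure ⟨a, b, ?_⟩
      rw [map_mul, map_mul]
      congr 1
      · change N.presheaf.map (homOfLE hle).op
          (κ.app (q1 ⁻¹ᵁ U ⊓ q2 ⁻¹ᵁ U) (q1.appLE U (q1 ⁻¹ᵁ U ⊓ q2 ⁻¹ᵁ U) inf_le_left a)) = _
        rw [app_appLE, res_res, res_self]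
        rfl
      · change N.presheaf.map (homOfLE hle).op
          (κ.app (q1 ⁻¹ᵁ U ⊓ q2 ⁻¹ᵁ U) (q2.appLE U (q1 ⁻¹ᵁ U ⊓ q2 ⁻¹ᵁ U) inf_le_right b)) = _
        rw [app_appLE, res_res]
        rfl
    · rw [map_zero, map_zero]; exact AddSubgroup.zero_mem _
    · intro x₁ x₂ _ _ h₁ h₂
      rw [map_add, map_add]; exact AddSubgroup.add_mem _ h₁ h₂
    · intro x₁ _ h₁
      rw [map_neg, map_neg]; exact AddSubgroup.neg_mem _ h₁
  exact key x (hgen x)

end absGen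

section concrete

open Groth.Agent.Lib.Helper20.OmegaLoc Groth.Agent.Lib.Helper20.OmegaAff

variable {X S : Scheme.{u}} (f : X ⟶ S) (n : ℕ) {U : X.Opens} (hU : IsAffineOpen U) {V : S.Opens}
  (hV : IsAffineOpen V) (h : U ≤ f ⁻¹ᵁ V)

include hU hV h in
/-- on an affine chart, functions on `pr₁⁻¹U ∩ pr₂⁻¹U ⊆ X ×_S X` surject onto those of the
infinitesimal neighbourhood. -/
theorem nbhdι_app_surjective :
    Function.Surjective ((PrinPart.nbhdι f n).app (OmegaSh.diagNbhd f U)) :=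
  app_comp_surjective (PrinPart.infNbhdι (PrinPart.diagCl f) n)
    (pullback.diagonal f).coborderRange.ι (OmegaSh.diagNbhd f U)
    (isAffineOpen_diagNbhd f hU hV h)
    (by rw [Scheme.Opens.opensRange_ι]; exact diagNbhd_le_coborderRange f hU hV h)
    (infNbhdι_app_surjective (PrinPart.diagCl f) n)

include hU hV h in
theorem mem_closure_sec (y : Γ(PrinPart.nbhd f n, PrinPart.pr1 f n ⁻¹ᵁ U)) :
    y ∈ AddSubgroup.closure {z | ∃ a b : Γ(X, U),
      z = alA (PrinPart.pr1 f n) U a *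
        beA (PrinPart.pr1 f n) (PrinPart.pr2 f n) (hpre f n) U b} :=
  mem_closure_alA_beA (PrinPart.nbhdι f n) (pullback.fst f f) (pullback.snd f f) (hpre f n) U
    (nbhdι_app_surjective f n hU hV h)
    (fun x => mem_addClosure_of_PO (f.appLE V U h).hom (pp₁ f U) (pp₂ f U)
      (fun T _ ψ₁ ψ₂ hψ => PO_ring f h hU hV T ψ₁ ψ₂ hψ) (pp₁_comp_cc f h) x) y

include hU hV h in
/-- **local generation**: on an affine chart, `P^n_{X/S}(U)` is spanned over `O_X(U)` by the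
`d^n b`. -/
theorem mem_span_dn (x : Γ(PrinPart.P f n, U)) :
    x ∈ Submodule.span Γ(X, U) (Set.range (PrinPart.dn f n U)) :=
  mem_span_of_closure (alA (PrinPart.pr1 f n) U)
    (beA (PrinPart.pr1 f n) (PrinPart.pr2 f n) (hpre f n) U)
    (secHom f n U) (PrinPart.dn f n U) (secHom_bijective f n U).injective
    (secHom_smul' f n U) (secHom_dn' f n U) (mem_closure_sec f n hU hV h) x

/-- the affine charts of `f`. -/
def charts : Set X.Opens := {U | IsAffineOpen U ∧ ∃ V : S.Opens, IsAffineOpen V ∧ U ≤ f ⁻¹ᵁ V}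

theorem isBasis_charts : TopologicalSpace.Opens.IsBasis (charts f) := by
  rw [TopologicalSpace.Opens.isBasis_iff_nbhd]
  intro W x hx
  obtain ⟨V, hV, hfxV, -⟩ := exists_isAffineOpen_mem_and_subset (x := f x) (U := ⊤) trivial
  obtain ⟨U, hU, hxU, hUW⟩ := exists_isAffineOpen_mem_and_subset (x := x) (U := W ⊓ f ⁻¹ᵁ V)
    ⟨hx, hfxV⟩
  exact ⟨U, ⟨hU, V, hV, fun y hy => (hUW hy).2⟩, hxU, fun y hy => (hUW hy).1⟩

/-- **`O_X`-linear maps out of `P^n_{X/S}` are determined by their values on the `d^n b`.** -/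
theorem hom_ext_dn {G : X.Modules} (a b : PrinPart.P f n ⟶ G)
    (hab : ∀ (U : X.Opens) (t : Γ(X, U)),
      a.app U (PrinPart.dn f n U t) = b.app U (PrinPart.dn f n U t)) : a = b := by
  refine hom_ext_basis a b (charts f) (isBasis_charts f) ?_
  rintro U ⟨hU, V, hV, h⟩ s
  have hs := mem_span_dn f n hU hV h s
  refine Submodule.span_induction ?_ ?_ ?_ ?_ hs
  · rintro _ ⟨t, rfl⟩; exact hab U t
  · rw [map_zero, map_zero]
  · intro x y _ _ hx hy; rw [map_add, map_add, hx, hy]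
  · intro r x _ hx; rw [Scheme.Modules.Hom.app_smul, Scheme.Modules.Hom.app_smul, hx]

end concrete

end Groth.Agent.Lib.Seat26.PPLoc
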