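import Mathlib
import Groth.Prelude.Def_OmegaPn
import Groth.Agent.Lib.Seat26PPLoc

/-!
# Sections of `P^n_{X/S}` over an affine chart as `R / I^(n+1)` (helper26)

`R = Γ(X ×_S X, pr₁⁻¹U ∩ pr₂⁻¹U)`, `I = ker (Δ♯)`.  The ring map
`kchart : R → Γ(X^{(n)}_Δ, pr₁⁻¹U)` is surjective with kernel `I^(n+1)`.
-/

set_option autoImplicit false

universe u

open CategoryTheory AlgebraicGeometry Limits TopologicalSpace Opposite

namespace Groth.Agent.Lib.Seat26.PPKer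

open Groth.Agent.Lib.Seat26.PPSec Groth.Agent.Lib.Seat26.PPOrd1 Groth.Agent.Lib.Seat26.PPLoc
  Groth.Agent.Helper18OmLS

section absKer

variable {P W N Z : Scheme.{u}} (ι : N ⟶ W) (i : Z ⟶ W) (w : W ⟶ P) [IsOpenImmersion w]

theorem ker_comp_app {M W P : Scheme.{u}} (g : M ⟶ W) (w : W ⟶ P) (T' : P.Opens) :
    RingHom.ker ((g ≫ w).app T').hom =
      Ideal.comap (w.app T').hom (RingHom.ker (g.app (w ⁻¹ᵁ T')).hom) := by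
  ext x
  rw [Ideal.mem_comap, RingHom.mem_ker, RingHom.mem_ker]
  have e : (g ≫ w).app T' x = g.app (w ⁻¹ᵁ T') (w.app T' x) := by
    rw [Scheme.Hom.comp_app]; rfl
  constructor
  · intro h; exact e.symm.trans h
  · intro h; exact e.trans h

theorem ker_app_comp (n : ℕ) (T' : P.Opens) (hT' : IsAffineOpen T') (hT'w : T' ≤ w.opensRange)
    (hker : ∀ T₀ : W.affineOpens,
      RingHom.ker (ι.app T₀.1).hom = RingHom.ker (i.app T₀.1).hom ^ (n + 1)) :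
    RingHom.ker ((ι ≫ w).app T').hom = RingHom.ker ((i ≫ w).app T').hom ^ (n + 1) := by
  have h1 : IsIso (w.app T') := w.isIso_app T' hT'w
  have hT : IsAffineOpen (w ⁻¹ᵁ T') := by
    rw [← Scheme.Hom.isAffineOpen_iff_of_isOpenImmersion w,
      Scheme.Hom.image_preimage_eq_opensRange_inf, inf_eq_right.mpr hT'w]
    exact hT'
  have h3 : Function.Bijective (w.app T').hom :=
    ConcreteCategory.bijective_of_isIso (w.app T')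
  rw [ker_comp_app, ker_comp_app, hker ⟨w ⁻¹ᵁ T', hT⟩, comap_pow_of_bijective _ h3]

end absKer

section absChart

variable {X N P : Scheme.{u}} (κ : N ⟶ P) (q1 q2 : P ⟶ X)
  (hpre : ∀ U : X.Opens, (κ ≫ q1) ⁻¹ᵁ U ≤ (κ ≫ q2) ⁻¹ᵁ U)

include hpre in
theorem chart_le (U : X.Opens) : (κ ≫ q1) ⁻¹ᵁ U ≤ κ ⁻¹ᵁ (q1 ⁻¹ᵁ U ⊓ q2 ⁻¹ᵁ U) :=
  fun _ hz => ⟨hz, hpre U hz⟩

theorem chart_ge (U : X.Opens) : κ ⁻¹ᵁ (q1 ⁻¹ᵁ U ⊓ q2 ⁻¹ᵁ U) ≤ (κ ≫ q1) ⁻¹ᵁ U :=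
  fun _ hz => hz.1

/-- `R → Γ(N, (κ ≫ q₁)⁻¹U)`: `κ♯` followed by the identification of opens. -/
noncomputable def kchart (U : X.Opens) :
    Γ(P, q1 ⁻¹ᵁ U ⊓ q2 ⁻¹ᵁ U) →+* Γ(N, (κ ≫ q1) ⁻¹ᵁ U) :=
  (N.presheaf.map (homOfLE (chart_le κ q1 q2 hpre U)).op).hom.comp
    (κ.app (q1 ⁻¹ᵁ U ⊓ q2 ⁻¹ᵁ U)).hom

theorem kchart_apply (U : X.Opens) (x : Γ(P, q1 ⁻¹ᵁ U ⊓ q2 ⁻¹ᵁ U)) :
    kchart κ q1 q2 hpre U x = N.presheaf.map (homOfLE (chart_le κ q1 q2 hpre U)).op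
      (κ.app (q1 ⁻¹ᵁ U ⊓ q2 ⁻¹ᵁ U) x) := rfl

theorem kchart_pp₁ (U : X.Opens) (a : Γ(X, U)) :
    kchart κ q1 q2 hpre U ((q1.appLE U (q1 ⁻¹ᵁ U ⊓ q2 ⁻¹ᵁ U) inf_le_left).hom a) =
      alA (κ ≫ q1) U a := by
  change N.presheaf.map (homOfLE (chart_le κ q1 q2 hpre U)).op
    (κ.app (q1 ⁻¹ᵁ U ⊓ q2 ⁻¹ᵁ U) (q1.appLE U (q1 ⁻¹ᵁ U ⊓ q2 ⁻¹ᵁ U) inf_le_left a)) = _
  rw [app_appLE, res_res, res_self]
  rfl

theorem kchart_pp₂ (U : X.Opens) (b : Γ(X, U)) :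
    kchart κ q1 q2 hpre U ((q2.appLE U (q1 ⁻¹ᵁ U ⊓ q2 ⁻¹ᵁ U) inf_le_right).hom b) =
      beA (κ ≫ q1) (κ ≫ q2) hpre U b := by
  change N.presheaf.map (homOfLE (chart_le κ q1 q2 hpre U)).op
    (κ.app (q1 ⁻¹ᵁ U ⊓ q2 ⁻¹ᵁ U) (q2.appLE U (q1 ⁻¹ᵁ U ⊓ q2 ⁻¹ᵁ U) inf_le_right b)) = _
  rw [app_appLE, res_res]
  rfl

theorem res_bijective {N : Scheme.{u}} {T₁ T₂ : N.Opens} (h₁ : T₂ ≤ T₁) (h₂ : T₁ ≤ T₂) :
    Function.Bijective (N.presheaf.map (homOfLE h₁).op).hom := by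
  refine ⟨fun x y hxy => ?_, fun y => ⟨N.presheaf.map (homOfLE h₂).op y, ?_⟩⟩
  · have := congrArg (N.presheaf.map (homOfLE h₂).op) hxy
    change N.presheaf.map (homOfLE h₂).op (N.presheaf.map (homOfLE h₁).op x) =
      N.presheaf.map (homOfLE h₂).op (N.presheaf.map (homOfLE h₁).op y) at this
    rwa [res_res, res_res, res_self, res_self] at this
  · change N.presheaf.map (homOfLE h₁).op (N.presheaf.map (homOfLE h₂).op y) = y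
    rw [res_res, res_self]

theorem kchart_surjective (U : X.Opens)
    (hsurj : Function.Surjective (κ.app (q1 ⁻¹ᵁ U ⊓ q2 ⁻¹ᵁ U))) :
    Function.Surjective (kchart κ q1 q2 hpre U) :=
  (res_bijective (chart_le κ q1 q2 hpre U) (chart_ge κ q1 q2 U)).surjective.comp hsurj

theorem ker_kchart (U : X.Opens) :
    RingHom.ker (kchart κ q1 q2 hpre U) = RingHom.ker (κ.app (q1 ⁻¹ᵁ U ⊓ q2 ⁻¹ᵁ U)).hom := by
  ext x
  rw [RingHom.mem_ker, RingHom.mem_ker]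
  constructor
  · intro hx
    apply (res_bijective (chart_le κ q1 q2 hpre U) (chart_ge κ q1 q2 U)).injective
    rw [map_zero]
    exact hx
  · intro hx
    change (N.presheaf.map (homOfLE (chart_le κ q1 q2 hpre U)).op).hom
      ((κ.app (q1 ⁻¹ᵁ U ⊓ q2 ⁻¹ᵁ U)).hom x) = 0
    rw [hx, map_zero]

end absChart

section absChart2

theorem ker_appLE_eq {X P : Scheme.{u}} (Δ : X ⟶ P) (T' : P.Opens) (U : X.Opens)
    (e : U ≤ Δ ⁻¹ᵁ T') (e' : Δ ⁻¹ᵁ T' ≤ U) :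
    RingHom.ker (Δ.appLE T' U e).hom = RingHom.ker (Δ.app T').hom := by
  ext x
  rw [RingHom.mem_ker, RingHom.mem_ker]
  have h0 : (Δ.appLE T' U e).hom x = (X.presheaf.map (homOfLE e).op).hom ((Δ.app T').hom x) := by
    rw [Scheme.Hom.appLE]; rfl
  rw [h0]
  constructor
  · intro hx
    apply (res_bijective e e').injective
    rw [map_zero]
    exact hx
  · intro hx
    rw [hx, map_zero]

variable {X P W N : Scheme.{u}} (ι : N ⟶ W) (i : X ⟶ W) (w : W ⟶ P) [IsOpenImmersion w]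
  (Δ : X ⟶ P) (hΔ : i ≫ w = Δ) (q1 q2 : P ⟶ X)
  (hpre : ∀ U : X.Opens, ((ι ≫ w) ≫ q1) ⁻¹ᵁ U ≤ ((ι ≫ w) ≫ q2) ⁻¹ᵁ U)

include hΔ in
theorem ker_kchart_abs (n : ℕ) (U : X.Opens) (hT' : IsAffineOpen (q1 ⁻¹ᵁ U ⊓ q2 ⁻¹ᵁ U))
    (hT'w : q1 ⁻¹ᵁ U ⊓ q2 ⁻¹ᵁ U ≤ w.opensRange)
    (hker : ∀ T₀ : W.affineOpens,
      RingHom.ker (ι.app T₀.1).hom = RingHom.ker (i.app T₀.1).hom ^ (n + 1))
    (e : U ≤ Δ ⁻¹ᵁ (q1 ⁻¹ᵁ U ⊓ q2 ⁻¹ᵁ U)) (e' : Δ ⁻¹ᵁ (q1 ⁻¹ᵁ U ⊓ q2 ⁻¹ᵁ U) ≤ U) :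
    RingHom.ker (kchart (ι ≫ w) q1 q2 hpre U) =
      RingHom.ker (Δ.appLE (q1 ⁻¹ᵁ U ⊓ q2 ⁻¹ᵁ U) U e).hom ^ (n + 1) := by
  subst hΔ
  rw [ker_kchart, ker_app_comp ι i w n _ hT' hT'w hker, ker_appLE_eq _ _ _ e e']

end absChart2

section concrete

open Groth.Agent.Lib.Helper20.OmegaLoc Groth.Agent.Lib.Helper20.OmegaAff

variable {X S : Scheme.{u}} (f : X ⟶ S) (n : ℕ)

/-- the chart map `Γ(X ×_S X, pr₁⁻¹U ∩ pr₂⁻¹U) → Γ(X^{(n)}_Δ, pr₁⁻¹U)`. -/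
noncomputable def kch (U : X.Opens) :
    Γ(pullback f f, OmegaSh.diagNbhd f U) →+* Γ(PrinPart.nbhd f n, PrinPart.pr1 f n ⁻¹ᵁ U) :=
  kchart (PrinPart.nbhdι f n) (pullback.fst f f) (pullback.snd f f) (hpre f n) U

theorem kch_pp₁ (U : X.Opens) (a : Γ(X, U)) :
    kch f n U (pp₁ f U a) = alA (PrinPart.pr1 f n) U a :=
  kchart_pp₁ (PrinPart.nbhdι f n) (pullback.fst f f) (pullback.snd f f) (hpre f n) U a

theorem kch_pp₂ (U : X.Opens) (b : Γ(X, U)) :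
    kch f n U (pp₂ f U b) = beA (PrinPart.pr1 f n) (PrinPart.pr2 f n) (hpre f n) U b :=
  kchart_pp₂ (PrinPart.nbhdι f n) (pullback.fst f f) (pullback.snd f f) (hpre f n) U b

variable {U : X.Opens} (hU : IsAffineOpen U) {V : S.Opens}
  (hV : IsAffineOpen V) (h : U ≤ f ⁻¹ᵁ V)

include hU hV h in
theorem kch_surjective : Function.Surjective (kch f n U) :=
  kchart_surjective (PrinPart.nbhdι f n) (pullback.fst f f) (pullback.snd f f) (hpre f n) U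
    (nbhdι_app_surjective f n hU hV h)

include hU hV h in
/-- **the kernel of the chart map is `I^(n+1)`**, `I = ker Δ♯`. -/
theorem ker_kch : RingHom.ker (kch f n U) = RingHom.ker (mm f U) ^ (n + 1) :=
  ker_kchart_abs (PrinPart.infNbhdι (PrinPart.diagCl f) n) (PrinPart.diagCl f)
    (pullback.diagonal f).coborderRange.ι (pullback.diagonal f)
    (Scheme.Hom.liftCoborder_ι (pullback.diagonal f))
    (pullback.fst f f) (pullback.snd f f) (hpre f n) n U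
    (isAffineOpen_diagNbhd f hU hV h)
    (by rw [Scheme.Opens.opensRange_ι]; exact diagNbhd_le_coborderRange f hU hV h)
    (ker_infNbhdι_app (PrinPart.diagCl f) n)
    (OmegaSh.le_preimage_diagNbhd f U) (OmegaSh.diagonal_preimage_le f le_rfl)

end concrete

end Groth.Agent.Lib.Seat26.PPKer
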