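import Mathlib
import Groth.Prelude.Def_OmegaPn
import Groth.Agent.Lib.Seat26PPBCAlg
import Groth.Agent.Lib.Seat26PPKer
import Groth.Agent.Lib.Helper13AffBC
import Groth.Agent.Lib.Seat26PPBCMod
import Groth.Agent.Lib.Helper18OmLS9
import Groth.Agent.Lib.Helper2PullbackSec
import Groth.Agent.S5959

/-!
# Base change of principal parts: `u^* P^n_{X/S} ≅ P^n_{X'/S'}` for `X' = X ×_S S'` (helper26)
-/

set_option autoImplicit false

universe u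

open CategoryTheory AlgebraicGeometry Limits TopologicalSpace Opposite

namespace Groth.Agent.Lib.Seat26.PPBC

open Groth.Agent.Lib.Seat26.PPSec Groth.Agent.Lib.Seat26.PPOrd1 Groth.Agent.Lib.Seat26.PPLoc
  Groth.Agent.Lib.Seat26.PPKer Groth.Agent.Helper18OmLS Groth.Agent.Lib.Seat26.PPBCAlg
  Groth.Agent.Helper13PullbackUnit

section rings

variable {X S : Scheme.{u}} (f : X ⟶ S) (n : ℕ) {U : X.Opens} (hU : IsAffineOpen U) {V : S.Opens}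
  (hV : IsAffineOpen V) (h : U ≤ f ⁻¹ᵁ V)

/-- `pr₁♯` as a morphism of `CommRingCat`. -/
noncomputable abbrev P₁ (U : X.Opens) : Γ(X, U) ⟶ Γ(pullback f f, OmegaSh.diagNbhd f U) :=
  (pullback.fst f f).appLE U (OmegaSh.diagNbhd f U) inf_le_left

noncomputable abbrev P₂ (U : X.Opens) : Γ(X, U) ⟶ Γ(pullback f f, OmegaSh.diagNbhd f U) :=
  (pullback.snd f f).appLE U (OmegaSh.diagNbhd f U) inf_le_right

noncomputable abbrev MM (U : X.Opens) : Γ(pullback f f, OmegaSh.diagNbhd f U) ⟶ Γ(X, U) :=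
  (pullback.diagonal f).appLE (OmegaSh.diagNbhd f U) U (OmegaSh.le_preimage_diagNbhd f U)

theorem P₁_MM (U : X.Opens) : P₁ f U ≫ MM f U = 𝟙 _ := by
  ext x
  exact congr($(mm_comp_pp₁ f U) x)

theorem P₂_MM (U : X.Opens) : P₂ f U ≫ MM f U = 𝟙 _ := by
  ext x
  exact congr($(mm_comp_pp₂ f U) x)

include hU hV in
theorem isPushout_R : IsPushout (f.appLE V U h) (f.appLE V U h) (P₁ f U) (P₂ f U) :=
  (isIso_pushoutSection_iff (IsPullback.of_hasPullback f f) h h rfl).1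
    (isIso_pushoutSection_of_isAffineOpen (IsPullback.of_hasPullback f f) h h rfl hV hU hU)

/-- the chart map as a morphism of `CommRingCat`. -/
noncomputable def KK (U : X.Opens) : Γ(pullback f f, OmegaSh.diagNbhd f U) ⟶
    Γ(PrinPart.nbhd f n, PrinPart.pr1 f n ⁻¹ᵁ U) :=
  CommRingCat.ofHom (kch f n U)

theorem KK_hom (U : X.Opens) : (KK f n U).hom = kch f n U := rfl

end rings

section square

variable {X S X' S' : Scheme.{u}} (f : X ⟶ S) (g : S' ⟶ S) (u : X' ⟶ X) (f' : X' ⟶ S')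
  (hsq : IsPullback u f' f g)
  {V : S.Opens} {V' : S'.Opens} {U : X.Opens} (hV : IsAffineOpen V) (hV' : IsAffineOpen V')
  (hU : IsAffineOpen U) (hVV' : V' ≤ g ⁻¹ᵁ V) (hUV : U ≤ f ⁻¹ᵁ V)

include hsq hV hV' hU hVV' hUV in
theorem isAffineOpen_chart : IsAffineOpen (u ⁻¹ᵁ U ⊓ f' ⁻¹ᵁ V') := by
  have : IsAffine _ := hV
  have : IsAffine _ := hV'
  have : IsAffine _ := hU
  exact .of_isIso (Scheme.Hom.isPullback_resLE hsq hVV' hUV rfl).isoPullback.hom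

include hsq hV hV' hU in
theorem isPushout_B : IsPushout (f.appLE V U hUV) (g.appLE V V' hVV')
    (u.appLE U (u ⁻¹ᵁ U ⊓ f' ⁻¹ᵁ V') inf_le_left)
    (f'.appLE V' (u ⁻¹ᵁ U ⊓ f' ⁻¹ᵁ V') inf_le_right) :=
  (isIso_pushoutSection_iff hsq hVV' hUV rfl).1
    (isIso_pushoutSection_of_isAffineOpen hsq hVV' hUV rfl hV hV' hU)

end square

section chart

variable {X S X' S' : Scheme.{u}} (f : X ⟶ S) (g : S' ⟶ S) (u : X' ⟶ X) (f' : X' ⟶ S')
  (hsq : IsPullback u f' f g) (n : ℕ)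
  (φ : (Scheme.Modules.pullback u).obj (PrinPart.P f n) ⟶ PrinPart.P f' n)
  (hφ : PrinPart.IsPMap f f' u n φ)

include hφ in
theorem isPMap_unitSec {U : X.Opens} {U' : X'.Opens} (hle : U' ≤ u ⁻¹ᵁ U) (b : Γ(X, U)) :
    φ.app U' (unitSec u (PrinPart.P f n) hle (PrinPart.dn f n U b)) =
      PrinPart.dn f' n U' ((u.appLE U U' hle).hom b) := by
  rw [unitSec_apply, app_map φ (homOfLE hle)]
  have h1 := hφ U b
  have h2 : (u.appLE U U' hle).hom b = X'.presheaf.map (homOfLE hle).op (u.app U b) := by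
    rw [Scheme.Hom.appLE]; rfl
  rw [h2, dn_map]
  exact congrArg _ h1

variable {V : S.Opens} {V' : S'.Opens} {U : X.Opens} (hV : IsAffineOpen V)
  (hV' : IsAffineOpen V') (hU : IsAffineOpen U) (hVV' : V' ≤ g ⁻¹ᵁ V) (hUV : U ≤ f ⁻¹ᵁ V)

theorem P₁_KK (U : X.Opens) : P₁ f U ≫ KK f n U = CommRingCat.ofHom (alA (PrinPart.pr1 f n) U) := by
  ext a
  exact kch_pp₁ f n U a

include hsq hφ hV hV' hU hVV' hUV in
/-- **bijectivity of the canonical map on a product chart.** -/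
theorem bijective_app_chart [(PrinPart.P f n).IsQuasicoherent] :
    Function.Bijective (φ.app (u ⁻¹ᵁ U ⊓ f' ⁻¹ᵁ V')) := by
  have hU' := isAffineOpen_chart f g u f' hsq hV hV' hU hVV' hUV
  obtain ⟨ν, hpo, hν2⟩ := exists_nu (f.appLE V U hUV)
    (f'.appLE V' (u ⁻¹ᵁ U ⊓ f' ⁻¹ᵁ V') inf_le_right) (g.appLE V V' hVV')
    (u.appLE U (u ⁻¹ᵁ U ⊓ f' ⁻¹ᵁ V') inf_le_left)
    (isPushout_B f g u f' hsq hV hV' hU hVV' hUV) (P₁ f U) (P₂ f U) (isPushout_R f hU hV hUV)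
    (P₁ f' (u ⁻¹ᵁ U ⊓ f' ⁻¹ᵁ V')) (P₂ f' (u ⁻¹ᵁ U ⊓ f' ⁻¹ᵁ V'))
    (isPushout_R f' hU' hV' inf_le_right)
    (MM f U) (P₁_MM f U) (P₂_MM f U) (MM f' (u ⁻¹ᵁ U ⊓ f' ⁻¹ᵁ V'))
    (P₁_MM f' (u ⁻¹ᵁ U ⊓ f' ⁻¹ᵁ V')) (P₂_MM f' (u ⁻¹ᵁ U ⊓ f' ⁻¹ᵁ V'))
    (KK f n U) (KK f' n (u ⁻¹ᵁ U ⊓ f' ⁻¹ᵁ V')) n
    (kch_surjective f n hU hV hUV) (kch_surjective f' n hU' hV' inf_le_right)
    (ker_kch f n hU hV hUV) (ker_kch f' n hU' hV' inf_le_right)
  rw [P₁_KK, P₁_KK] at hpo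
  have hνβ : ∀ b : Γ(X, U), ν.hom (beA (PrinPart.pr1 f n) (PrinPart.pr2 f n) (hpre f n) U b) =
      beA (PrinPart.pr1 f' n) (PrinPart.pr2 f' n) (hpre f' n) (u ⁻¹ᵁ U ⊓ f' ⁻¹ᵁ V')
        ((u.appLE U (u ⁻¹ᵁ U ⊓ f' ⁻¹ᵁ V') inf_le_left).hom b) := by
    intro b
    have h1 := congr($(hν2).hom b)
    rw [← kch_pp₂, ← kch_pp₂]
    exact h1
  exact Groth.Agent.Lib.Seat26.PPBCMod.bijective_chart
    (u.appLE U (u ⁻¹ᵁ U ⊓ f' ⁻¹ᵁ V') inf_le_left).hom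
    (alA (PrinPart.pr1 f n) U) (beA (PrinPart.pr1 f n) (PrinPart.pr2 f n) (hpre f n) U)
    (alA (PrinPart.pr1 f' n) (u ⁻¹ᵁ U ⊓ f' ⁻¹ᵁ V'))
    (beA (PrinPart.pr1 f' n) (PrinPart.pr2 f' n) (hpre f' n) (u ⁻¹ᵁ U ⊓ f' ⁻¹ᵁ V'))
    ν.hom hpo hνβ (mem_closure_sec f n hU hV hUV)
    (secHom f n U) (secHom_bijective f n U) (secHom_smul' f n U)
    (secHom f' n (u ⁻¹ᵁ U ⊓ f' ⁻¹ᵁ V')) (secHom_bijective f' n _) (secHom_smul' f' n _)
    (PrinPart.dn f n U) (secHom_dn' f n U)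
    (PrinPart.dn f' n (u ⁻¹ᵁ U ⊓ f' ⁻¹ᵁ V')) (secHom_dn' f' n _)
    (unitSec u (PrinPart.P f n) (inf_le_left : u ⁻¹ᵁ U ⊓ f' ⁻¹ᵁ V' ≤ u ⁻¹ᵁ U))
    (fun r x => unitSec_smul u (PrinPart.P f n) inf_le_left r x)
    (fun N _ _ l hl => existsUnique_lift u (PrinPart.P f n) hU hU' inf_le_left N l hl)
    (φ.app (u ⁻¹ᵁ U ⊓ f' ⁻¹ᵁ V')).hom
    (fun r t => Scheme.Modules.Hom.app_smul φ r t)
    (fun b => isPMap_unitSec f u f' n φ hφ inf_le_left b)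

end chart

section main

variable {X S X' S' : Scheme.{u}} (f : X ⟶ S) (g : S' ⟶ S) (u : X' ⟶ X) (f' : X' ⟶ S')
  (hsq : IsPullback u f' f g) (n : ℕ)
  (φ : (Scheme.Modules.pullback u).obj (PrinPart.P f n) ⟶ PrinPart.P f' n)
  (hφ : PrinPart.IsPMap f f' u n φ)

include hsq hφ in
/-- **Principal parts commute with base change.** -/
theorem main : IsIso φ := by
  haveI : (Coh.structureModule X).IsQuasicoherent :=
    Groth.Agent.Lib.Helper20.OmegaAff.isQuasicoherent_structureModule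
  haveI : (Coh.structureModule X').IsQuasicoherent :=
    Groth.Agent.Lib.Helper20.OmegaAff.isQuasicoherent_structureModule
  haveI : (PrinPart.P f n).IsQuasicoherent :=
    Groth.Agent.S5959.result f n (Coh.structureModule X) inferInstance
  haveI : (PrinPart.P f' n).IsQuasicoherent :=
    Groth.Agent.S5959.result f' n (Coh.structureModule X') inferInstance
  haveI : ((Scheme.Modules.pullback u).obj (PrinPart.P f n)).IsQuasicoherent :=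
    Groth.Agent.Lib.Helper2.PullbackSec.isQuasicoherent_pullback _ _
  let ι : Type u := {t : S.Opens × S'.Opens × X.Opens // IsAffineOpen t.1 ∧ IsAffineOpen t.2.1 ∧
    IsAffineOpen t.2.2 ∧ t.2.1 ≤ g ⁻¹ᵁ t.1 ∧ t.2.2 ≤ f ⁻¹ᵁ t.1}
  refine isIso_of_bijective_app_cover φ (fun i : ι => u ⁻¹ᵁ i.1.2.2 ⊓ f' ⁻¹ᵁ i.1.2.1) ?_ ?_ ?_
  · refine IsOpenCover.mk (eq_top_iff.mpr ?_)
    intro x' _
    obtain ⟨V, hV, hxV, -⟩ :=
      exists_isAffineOpen_mem_and_subset (x := g (f' x')) (U := ⊤) trivial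
    obtain ⟨V', hV', hxV', hV'V⟩ :=
      exists_isAffineOpen_mem_and_subset (x := f' x') (U := g ⁻¹ᵁ V) hxV
    have hx1 : u x' ∈ f ⁻¹ᵁ V := by
      have h2 : f (u x') = g (f' x') := by
        have := congrArg (fun t : X' ⟶ S => t x') hsq.w
        simpa using this
      change f (u x') ∈ V
      rw [h2]
      exact hxV
    obtain ⟨U, hU, hxU, hUV⟩ :=
      exists_isAffineOpen_mem_and_subset (x := u x') (U := f ⁻¹ᵁ V) hx1
    exact Opens.mem_iSup.mpr ⟨⟨(V, V', U), hV, hV', hU, hV'V, hUV⟩, hxU, hxV'⟩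
  · rintro ⟨⟨V, V', U⟩, hV, hV', hU, hVV', hUV⟩
    exact isAffineOpen_chart f g u f' hsq hV hV' hU hVV' hUV
  · rintro ⟨⟨V, V', U⟩, hV, hV', hU, hVV', hUV⟩
    exact bijective_app_chart f g u f' hsq n φ hφ hV hV' hU hVV' hUV

end main

end Groth.Agent.Lib.Seat26.PPBC
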