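import Mathlib
import Groth.Agent.Lib.Helper18OmLS22
import Groth.Agent.Lib.Seat26PPBCAlg

/-!
# Algebra for `δ : P^(n+n') → P^n'(P^n)` on a chart (helper26)
-/

set_option autoImplicit false

universe u

open TensorProduct

namespace Groth.Agent.Lib.Seat26.PPCompAlg

open Groth.Agent.Helper18OmLS Groth.Agent.Lib.Seat26.PPBCAlg

/-- sharp form of `Ideal.sup_pow_add_le_pow_sup_pow`. -/
theorem sup_pow_succ_le {R : Type*} [CommSemiring R] (I J : Ideal R) (n m : ℕ) :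
    (I ⊔ J) ^ (n + m + 1) ≤ I ^ (n + 1) ⊔ J ^ (m + 1) := by
  rw [← Ideal.add_eq_sup, ← Ideal.add_eq_sup, add_pow, Ideal.sum_eq_sup]
  apply Finset.sup_le
  intro i hi
  by_cases hn : n + 1 ≤ i
  · exact (Ideal.mul_le_left.trans (Ideal.mul_le_left.trans
      ((Ideal.pow_le_pow_right hn).trans le_sup_left)))
  · refine (Ideal.mul_le_left.trans (Ideal.mul_le_right.trans
      ((Ideal.pow_le_pow_right ?_).trans le_sup_right)))
    lia

section main

variable {C A R RN R' Rn : Type u} [CommRing C] [CommRing A] [CommRing R] [CommRing RN]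
  [CommRing R'] [CommRing Rn]
  (c : C →+* A) (p₁ p₂ : A →+* R) (m : R →+* A)
  (hm₁ : m.comp p₁ = RingHom.id A) (hm₂ : m.comp p₂ = RingHom.id A)
  (PO : ∀ (T : Type u) [CommRing T] (ψ₁ ψ₂ : A →+* T), ψ₁.comp c = ψ₂.comp c →
      ∃! ρ : R →+* T, ρ.comp p₁ = ψ₁ ∧ ρ.comp p₂ = ψ₂)
  (hc : p₁.comp c = p₂.comp c)
  (n n' : ℕ)
  (kN : R →+* RN) (hkN : Function.Surjective kN) (hkerN : RingHom.ker kN = RingHom.ker m ^ (n + n' + 1))
  (k' : R →+* R') (hker' : RingHom.ker k' = RingHom.ker m ^ (n' + 1))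
  (kn : R →+* Rn) (hkern : RingHom.ker kn = RingHom.ker m ^ (n + 1))
  {T : Type u} [AddCommGroup T] [Module R' T]
  (η : Rn →+ T) (hη : ∀ (b : A) (r : Rn), η (kn (p₁ b) * r) = k' (p₂ b) • η r)

include hm₁ hm₂ PO hc hkN hkerN hker' hkern hη in
theorem exists_comp : ∃ D : RN →+ T, (∀ a y, D (kN (p₁ a) * y) = k' (p₁ a) • D y) ∧
    ∀ t, D (kN (p₂ t)) = η (kn (p₂ t)) := by
  letI : Algebra A R' := (k'.comp p₂).toAlgebra
  letI : Algebra A Rn := (kn.comp p₁).toAlgebra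
  have halg' : ∀ a : A, algebraMap A R' a = k' (p₂ a) := fun a => rfl
  have halgn : ∀ a : A, algebraMap A Rn a = kn (p₁ a) := fun a => rfl
  let iL : R' →+* R' ⊗[A] Rn := Algebra.TensorProduct.includeLeftRingHom
  let iR : Rn →+* R' ⊗[A] Rn := (Algebra.TensorProduct.includeRight : Rn →ₐ[A] R' ⊗[A] Rn)
  have hiL : ∀ x, iL x = x ⊗ₜ[A] (1 : Rn) := fun x => rfl
  have hiR : ∀ x, iR x = (1 : R') ⊗ₜ[A] x := fun x => rfl
  have hswap : ∀ a : A, iR (kn (p₁ a)) = iL (k' (p₂ a)) := fun a => by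
    rw [hiL, hiR, ← halg', ← halgn, Algebra.TensorProduct.tmul_one_eq_one_tmul]
  let ψ₁ : A →+* R' ⊗[A] Rn := iL.comp (k'.comp p₁)
  let ψ₂ : A →+* R' ⊗[A] Rn := iR.comp (kn.comp p₂)
  have hψ : ψ₁.comp c = ψ₂.comp c := by
    ext x
    change iL (k' (p₁ (c x))) = iR (kn (p₂ (c x)))
    have e1 : p₁ (c x) = p₂ (c x) := congr($hc x)
    rw [← e1, hswap, e1]
  obtain ⟨ρ, ⟨hρ1, hρ2⟩, -⟩ := PO (R' ⊗[A] Rn) ψ₁ ψ₂ hψ
  have e1 : ∀ a, ρ (p₁ a) = iL (k' (p₁ a)) := fun a => congr($hρ1 a)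
  have e2 : ∀ a, ρ (p₂ a) = iR (kn (p₂ a)) := fun a => congr($hρ2 a)
  -- the two nilpotent ideals
  set I : Ideal R := RingHom.ker m with hI
  let J₁ : Ideal (R' ⊗[A] Rn) := Ideal.map iL (Ideal.map k' I)
  let J₂ : Ideal (R' ⊗[A] Rn) := Ideal.map iR (Ideal.map kn I)
  have hJ₁ : J₁ ^ (n' + 1) = ⊥ := by
    change (Ideal.map iL (Ideal.map k' I)) ^ (n' + 1) = ⊥
    rw [← Ideal.map_pow, ← Ideal.map_pow, ← hker']
    have : Ideal.map k' (RingHom.ker k') = ⊥ := by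
      rw [Ideal.map_eq_bot_iff_le_ker]
    rw [this, Ideal.map_bot]
  have hJ₂ : J₂ ^ (n + 1) = ⊥ := by
    change (Ideal.map iR (Ideal.map kn I)) ^ (n + 1) = ⊥
    rw [← Ideal.map_pow, ← Ideal.map_pow, ← hkern]
    have : Ideal.map kn (RingHom.ker kn) = ⊥ := by
      rw [Ideal.map_eq_bot_iff_le_ker]
    rw [this, Ideal.map_bot]
  have hdiff : ∀ b : A, p₂ b - p₁ b ∈ I := fun b => by
    rw [hI, RingHom.mem_ker, map_sub]
    have h3 : m (p₁ b) = b := congr($hm₁ b)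
    have h4 : m (p₂ b) = b := congr($hm₂ b)
    rw [h3, h4, sub_self]
  have hI_le : Ideal.map ρ I ≤ J₁ ⊔ J₂ := by
    rw [Ideal.map_le_iff_le_comap]
    refine (ker_le_span_of_PO c p₁ p₂ m hm₁ hm₂ PO).trans ?_
    rw [Ideal.span_le]
    rintro _ ⟨b, rfl⟩
    change ρ (p₂ b - p₁ b) ∈ J₁ ⊔ J₂
    have key : ρ (p₂ b - p₁ b) = iR (kn (p₂ b - p₁ b)) + iL (k' (p₂ b - p₁ b)) := by
      rw [map_sub, e1, e2, map_sub, map_sub, map_sub, map_sub, hswap]
      abel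
    rw [key]
    exact Ideal.add_mem _
      (Ideal.mem_sup_right (Ideal.mem_map_of_mem _ (Ideal.mem_map_of_mem _ (hdiff b))))
      (Ideal.mem_sup_left (Ideal.mem_map_of_mem _ (Ideal.mem_map_of_mem _ (hdiff b))))
  have hle : RingHom.ker kN ≤ RingHom.ker ρ := by
    rw [hkerN]
    intro x hx
    rw [RingHom.mem_ker]
    have h1 : ρ x ∈ Ideal.map ρ (I ^ (n + n' + 1)) := Ideal.mem_map_of_mem _ hx
    rw [Ideal.map_pow] at h1
    have h2 : (Ideal.map ρ I) ^ (n + n' + 1) ≤ ⊥ := by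
      refine (Ideal.pow_right_mono hI_le _).trans ?_
      have := sup_pow_succ_le J₁ J₂ n' n
      rw [hJ₁, hJ₂, bot_sup_eq, add_comm n' n] at this
      exact this
    exact (Submodule.mem_bot _).1 (h2 h1)
  let ρN : RN →+* R' ⊗[A] Rn := RingHom.liftOfSurjective kN hkN ⟨ρ, hle⟩
  have hρN : ∀ r, ρN (kN r) = ρ r := fun r => lift_apply kN hkN ρ hle r
  -- the additive map `E → T`
  let Λ : R' ⊗[A] Rn →+ T := TensorProduct.liftAddHom
    { toFun := fun r' =>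
        { toFun := fun r => r' • η r
          map_zero' := by rw [map_zero, smul_zero]
          map_add' := fun x y => by rw [map_add, smul_add] }
      map_zero' := by ext r; change (0 : R') • η r = 0; rw [zero_smul]
      map_add' := fun x y => by ext r; change (x + y) • η r = x • η r + y • η r; rw [add_smul] }
    (fun a r' r => by
      change (a • r') • η r = r' • η (a • r)
      rw [Algebra.smul_def, Algebra.smul_def, halg', halgn, hη, mul_comm, mul_smul])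
  have hΛ : ∀ (r' : R') (r : Rn), Λ (r' ⊗ₜ[A] r) = r' • η r := fun r' r => rfl
  have hΛmul : ∀ (r' : R') (z : R' ⊗[A] Rn), Λ (iL r' * z) = r' • Λ z := by
    intro r' z
    induction z using TensorProduct.induction_on with
    | zero => rw [mul_zero, map_zero, smul_zero]
    | tmul s' s =>
      rw [hiL, Algebra.TensorProduct.tmul_mul_tmul, one_mul, hΛ, hΛ, mul_smul]
    | add x y hx hy => rw [mul_add, map_add, hx, hy, map_add, smul_add]
  refine ⟨Λ.comp (ρN : RN →+ R' ⊗[A] Rn), ?_, ?_⟩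
  · intro a y
    change Λ (ρN (kN (p₁ a) * y)) = k' (p₁ a) • Λ (ρN y)
    rw [map_mul, hρN, e1, hΛmul]
  · intro t
    change Λ (ρN (kN (p₂ t))) = η (kn (p₂ t))
    rw [hρN, e2, hiR, hΛ, one_smul]

end main

end Groth.Agent.Lib.Seat26.PPCompAlg
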