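import Mathlib
import Groth.Prelude.Def_OmegaPn
import Groth.Agent.Lib.Seat26PPCompAlg
import Groth.Agent.Lib.Seat26PPKer
import Groth.Agent.Lib.Helper13ModBasis
import Groth.Agent.Lib.Helper13PullbackUnit

/-!
# The canonical map `δ : P^(n+n')_{X/S} → P^n'_{X/S}(P^n_{X/S})` (helper26)
-/

set_option autoImplicit false

universe u

open CategoryTheory AlgebraicGeometry Limits TopologicalSpace Opposite

namespace Groth.Agent.Lib.Seat26.PPComp

open Groth.Agent.Lib.Seat26.PPSec Groth.Agent.Lib.Seat26.PPOrd1 Groth.Agent.Lib.Seat26.PPLoc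
  Groth.Agent.Lib.Seat26.PPKer Groth.Agent.Helper18OmLS Groth.Agent.Lib.Seat26.PPCompAlg
  Groth.Agent.Helper13PullbackUnit

section chart

variable {X S : Scheme.{u}} (f : X ⟶ S) (n n' : ℕ) {U : X.Opens} (hU : IsAffineOpen U)
  {V : S.Opens} (hV : IsAffineOpen V) (h : U ≤ f ⁻¹ᵁ V)

theorem unitSec_eq_dP (F : X.Modules) (U : X.Opens) (x : Γ(F, U)) :
    unitSec (PrinPart.pr2 f n') F (hpre f n' U) x = PrinPart.dP f n' F U x := rfl

include hU hV h in
theorem exists_delta_chart :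
    ∃ d : Γ(PrinPart.P f (n + n'), U) →+ Γ(PrinPart.PMod f n' (PrinPart.P f n), U),
      (∀ (a : Γ(X, U)) (x : Γ(PrinPart.P f (n + n'), U)), d (a • x) = a • d x) ∧
      ∀ t : Γ(X, U), d (PrinPart.dn f (n + n') U t) =
        PrinPart.dP f n' (PrinPart.P f n) U (PrinPart.dn f n U t) := by
  let e : Γ(PrinPart.P f n, U) ≃+ Γ(PrinPart.nbhd f n, PrinPart.pr1 f n ⁻¹ᵁ U) :=
    AddEquiv.ofBijective (secHom f n U) (secHom_bijective f n U)
  have hes : ∀ y, secHom f n U (e.symm y) = y := fun y => e.apply_symm_apply y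
  let η' : Γ(PrinPart.nbhd f n, PrinPart.pr1 f n ⁻¹ᵁ U) →+
      Γ((Scheme.Modules.pullback (PrinPart.pr2 f n')).obj (PrinPart.P f n),
        PrinPart.pr1 f n' ⁻¹ᵁ U) :=
    (unitSec (PrinPart.pr2 f n') (PrinPart.P f n) (hpre f n' U)).comp e.symm.toAddMonoidHom
  have hη'_apply : ∀ r, η' r = unitSec (PrinPart.pr2 f n') (PrinPart.P f n) (hpre f n' U)
      (e.symm r) := fun r => rfl
  have hη' : ∀ (b : Γ(X, U)) (r : Γ(PrinPart.nbhd f n, PrinPart.pr1 f n ⁻¹ᵁ U)),
      η' (kch f n U (pp₁ f U b) * r) = kch f n' U (pp₂ f U b) • η' r := by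
    intro b r
    rw [kch_pp₁, kch_pp₂, hη'_apply, hη'_apply]
    have h1 : e.symm (alA (PrinPart.pr1 f n) U b * r) = b • e.symm r := by
      apply (secHom_bijective f n U).injective
      rw [secHom_smul', hes, hes]
    rw [h1, unitSec_smul]
    rfl
  obtain ⟨D, hD1, hD2⟩ := exists_comp (f.appLE V U h).hom (pp₁ f U) (pp₂ f U) (mm f U)
    (mm_comp_pp₁ f U) (mm_comp_pp₂ f U) (fun T _ ψ₁ ψ₂ hψ => PO_ring f h hU hV T ψ₁ ψ₂ hψ)
    (pp₁_comp_cc f h) n n'
    (kch f (n + n') U) (kch_surjective f (n + n') hU hV h) (ker_kch f (n + n') hU hV h)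
    (kch f n' U) (ker_kch f n' hU hV h) (kch f n U) (ker_kch f n hU hV h) η' hη'
  let d : Γ(PrinPart.P f (n + n'), U) →+ Γ(PrinPart.PMod f n' (PrinPart.P f n), U) :=
    D.comp (secHom f (n + n') U)
  have hd : ∀ x, d x = D (secHom f (n + n') U x) := fun x => rfl
  refine ⟨d, ?_, ?_⟩
  · intro a x
    rw [hd, hd, secHom_smul', ← kch_pp₁, hD1, kch_pp₁]
    rfl
  · intro t
    rw [hd, secHom_dn', ← kch_pp₂, hD2, kch_pp₂, hη'_apply]
    have h1 : e.symm (beA (PrinPart.pr1 f n) (PrinPart.pr2 f n) (hpre f n) U t) =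
        PrinPart.dn f n U t := by
      apply (secHom_bijective f n U).injective
      rw [hes, secHom_dn']
    rw [h1]
    rfl

end chart

section glue

variable {X S : Scheme.{u}} (f : X ⟶ S) (n n' : ℕ)

/-- additive maps out of `P^N(U)` (chart `U`) that are semilinear over a restriction and agree on
the `d^N t` are equal. -/
theorem semilinear_ext (N : ℕ) {U U' : X.Opens} (hle : U' ≤ U) (hU : IsAffineOpen U)
    {V : S.Opens} (hV : IsAffineOpen V) (h : U ≤ f ⁻¹ᵁ V) {G : X.Modules}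
    (a b : Γ(PrinPart.P f N, U) →+ Γ(G, U'))
    (ha : ∀ (r : Γ(X, U)) (x : Γ(PrinPart.P f N, U)),
      a (r • x) = X.presheaf.map (homOfLE hle).op r • a x)
    (hb : ∀ (r : Γ(X, U)) (x : Γ(PrinPart.P f N, U)),
      b (r • x) = X.presheaf.map (homOfLE hle).op r • b x)
    (hab : ∀ t : Γ(X, U), a (PrinPart.dn f N U t) = b (PrinPart.dn f N U t))
    (x : Γ(PrinPart.P f N, U)) : a x = b x := by
  have hx := mem_span_dn f N hU hV h x
  refine Submodule.span_induction ?_ ?_ ?_ ?_ hx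
  · rintro _ ⟨t, rfl⟩; exact hab t
  · rw [map_zero, map_zero]
  · intro x y _ _ hx hy; rw [map_add, map_add, hx, hy]
  · intro r x _ hx; rw [ha, hb, hx]

/-- the index type of charts. -/
abbrev ChartIdx : Type u := {U : X.Opens // U ∈ charts f}

theorem isBasis_chartIdx :
    Opens.IsBasis (Set.range (fun i : ChartIdx f => (i.1 : X.Opens))) := by
  have : Set.range (fun i : ChartIdx f => (i.1 : X.Opens)) = charts f := Subtype.range_coe
  rw [this]; exact isBasis_charts f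

theorem exists_delta_idx (i : ChartIdx f) :
    ∃ d : Γ(PrinPart.P f (n + n'), i.1) →+ Γ(PrinPart.PMod f n' (PrinPart.P f n), i.1),
      (∀ (a : Γ(X, i.1)) (x : Γ(PrinPart.P f (n + n'), i.1)), d (a • x) = a • d x) ∧
      ∀ t : Γ(X, i.1), d (PrinPart.dn f (n + n') i.1 t) =
        PrinPart.dP f n' (PrinPart.P f n) i.1 (PrinPart.dn f n i.1 t) := by
  obtain ⟨U, hU, V, hV, h⟩ := i
  exact exists_delta_chart f n n' hU hV h

/-- the chosen chart maps. -/
noncomputable def dIdx (i : ChartIdx f) :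
    Γ(PrinPart.P f (n + n'), i.1) →+ Γ(PrinPart.PMod f n' (PrinPart.P f n), i.1) :=
  (exists_delta_idx f n n' i).choose

theorem dIdx_smul (i : ChartIdx f) (a : Γ(X, i.1)) (x : Γ(PrinPart.P f (n + n'), i.1)) :
    dIdx f n n' i (a • x) = a • dIdx f n n' i x :=
  (exists_delta_idx f n n' i).choose_spec.1 a x

theorem dIdx_dn (i : ChartIdx f) (t : Γ(X, i.1)) :
    dIdx f n n' i (PrinPart.dn f (n + n') i.1 t) =
      PrinPart.dP f n' (PrinPart.P f n) i.1 (PrinPart.dn f n i.1 t) :=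
  (exists_delta_idx f n n' i).choose_spec.2 t

theorem dIdx_nat (i i' : ChartIdx f) (hle : i'.1 ≤ i.1) (x : Γ(PrinPart.P f (n + n'), i.1)) :
    dIdx f n n' i' ((PrinPart.P f (n + n')).presheaf.map (homOfLE hle).op x) =
      (PrinPart.PMod f n' (PrinPart.P f n)).presheaf.map (homOfLE hle).op (dIdx f n n' i x) := by
  obtain ⟨U, hU, V, hV, h⟩ := i
  let a : Γ(PrinPart.P f (n + n'), U) →+ Γ(PrinPart.PMod f n' (PrinPart.P f n), i'.1) :=
    (dIdx f n n' i').comp ((PrinPart.P f (n + n')).presheaf.map (homOfLE hle).op).hom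
  let b : Γ(PrinPart.P f (n + n'), U) →+ Γ(PrinPart.PMod f n' (PrinPart.P f n), i'.1) :=
    ((PrinPart.PMod f n' (PrinPart.P f n)).presheaf.map (homOfLE hle).op).hom.comp
      (dIdx f n n' ⟨U, hU, V, hV, h⟩)
  refine semilinear_ext f (n + n') hle hU hV h a b ?_ ?_ ?_ x
  · intro r y
    change dIdx f n n' i' ((PrinPart.P f (n + n')).presheaf.map (homOfLE hle).op (r • y)) = _
    rw [Scheme.Modules.map_smul, dIdx_smul]
    rfl
  · intro r y
    change (PrinPart.PMod f n' (PrinPart.P f n)).presheaf.map (homOfLE hle).op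
      (dIdx f n n' ⟨U, hU, V, hV, h⟩ (r • y)) = _
    rw [dIdx_smul, Scheme.Modules.map_smul]
    rfl
  · intro t
    change dIdx f n n' i' ((PrinPart.P f (n + n')).presheaf.map (homOfLE hle).op
      (PrinPart.dn f (n + n') U t)) =
      (PrinPart.PMod f n' (PrinPart.P f n)).presheaf.map (homOfLE hle).op
        (dIdx f n n' ⟨U, hU, V, hV, h⟩ (PrinPart.dn f (n + n') U t))
    rw [← dn_map, dIdx_dn, dIdx_dn, ← PrinPart.dP_map, ← dn_map]

/-- **existence of `δ`.** -/
theorem exists_delta : ∃ δ : PrinPart.P f (n + n') ⟶ PrinPart.PMod f n' (PrinPart.P f n),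
    ∀ (U : X.Opens) (t : Γ(X, U)),
      δ.app U (PrinPart.dn f (n + n') U t) =
        PrinPart.dP f n' (PrinPart.P f n) U (PrinPart.dn f n U t) := by
  let δ : PrinPart.P f (n + n') ⟶ PrinPart.PMod f n' (PrinPart.P f n) :=
    Groth.Agent.Helper13ModBasis.homOfBasis (fun i : ChartIdx f => (i.1 : X.Opens))
      (isBasis_chartIdx f) (fun i => AddCommGrpCat.ofHom (dIdx f n n' i))
      (fun i i' hle => by
        ext x
        exact dIdx_nat f n n' i i' hle x)
      (fun i a m => dIdx_smul f n n' i a m)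
  have hδ : ∀ (i : ChartIdx f) (x : Γ(PrinPart.P f (n + n'), i.1)),
      δ.app i.1 x = dIdx f n n' i x := fun i x =>
    congr($(Groth.Agent.Helper13ModBasis.homOfBasis_app (fun i : ChartIdx f => (i.1 : X.Opens))
      (isBasis_chartIdx f) (fun i => AddCommGrpCat.ofHom (dIdx f n n' i)) _ _ i) x)
  refine ⟨δ, fun U t => ?_⟩
  refine Groth.Agent.Helper13ModBasis.section_ext_basis (fun i : ChartIdx f => (i.1 : X.Opens))
    (isBasis_chartIdx f) _ _ _ fun i hle => ?_
  rw [← app_map δ (homOfLE hle), ← dn_map, hδ, dIdx_dn, ← PrinPart.dP_map, ← dn_map]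

end glue

end Groth.Agent.Lib.Seat26.PPComp
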