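import Mathlib
import Groth.Prelude.Def_OmegaPn
import Groth.Agent.Lib.Seat26PPLoc

/-!
# Epimorphy of the canonical maps `u^* P^n_{X/S} ⟶ P^n_{X'/S'}` (helper26)

If `X'` has a basis of affine charts of the form `u⁻¹U` on which `u♯` is surjective, the canonical
map is an epimorphism (its image contains all `d^n b'`, which generate).
-/

set_option autoImplicit false

universe u

open CategoryTheory AlgebraicGeometry Limits TopologicalSpace Opposite

namespace Groth.Agent.Lib.Seat26.PPEpi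

open Groth.Agent.Lib.Seat26.PPLoc Groth.Agent.Helper18OmLS

variable {X S X' S' : Scheme.{u}} (f : X ⟶ S) (f' : X' ⟶ S') (u : X' ⟶ X) (n : ℕ)
  (φ : (Scheme.Modules.pullback u).obj (PrinPart.P f n) ⟶ PrinPart.P f' n)

/-- the opens `u⁻¹U` of `X'` that are affine charts for `f'` and on which `u♯` is surjective. -/
def goodOpens : Set X'.Opens :=
  {W | ∃ U : X.Opens, W = u ⁻¹ᵁ U ∧ IsAffineOpen (u ⁻¹ᵁ U) ∧
    (∃ V' : S'.Opens, IsAffineOpen V' ∧ u ⁻¹ᵁ U ≤ f' ⁻¹ᵁ V') ∧ Function.Surjective (u.app U)}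

theorem epi_of_isPMap (hφ : PrinPart.IsPMap f f' u n φ)
    (hB : TopologicalSpace.Opens.IsBasis (goodOpens f' u)) : Epi φ := by
  constructor
  intro G a b hab
  refine hom_ext_basis a b _ hB ?_
  rintro _ ⟨U, rfl, hW, ⟨V', hV', hle⟩, hsurj⟩ s
  have hs := mem_span_dn f' n hW hV' hle s
  refine Submodule.span_induction ?_ ?_ ?_ ?_ hs
  · rintro _ ⟨t, rfl⟩
    obtain ⟨b0, rfl⟩ := hsurj t
    rw [← hφ U b0]
    exact congr(($hab).app (u ⁻¹ᵁ U) _)
  · rw [map_zero, map_zero]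
  · intro x y _ _ hx hy; rw [map_add, map_add, hx, hy]
  · intro r x _ hx; rw [Scheme.Modules.Hom.app_smul, Scheme.Modules.Hom.app_smul, hx]

/-- closed immersion case. -/
theorem isBasis_goodOpens_of_isClosedImmersion {X Y Z : Scheme.{u}} (f : Y ⟶ Z) (j : X ⟶ Y)
    [IsClosedImmersion j] : TopologicalSpace.Opens.IsBasis (goodOpens (j ≫ f) j) := by
  rw [TopologicalSpace.Opens.isBasis_iff_nbhd]
  intro W x hx
  obtain ⟨W₁, hW₁o, hW₁⟩ := j.isEmbedding.isInducing.isOpen_iff.mp W.2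
  have hx1 : j x ∈ (⟨W₁, hW₁o⟩ : Y.Opens) := by
    change x ∈ j.base ⁻¹' W₁
    rw [hW₁]; exact hx
  obtain ⟨U', ⟨hU', V, hV, hle⟩, hxU', hU'W⟩ :=
    TopologicalSpace.Opens.isBasis_iff_nbhd.mp (isBasis_charts f) hx1
  refine ⟨j ⁻¹ᵁ U', ⟨U', rfl, hU'.preimage j, ⟨V, hV, ?_⟩, j.app_surjective U' hU'⟩, hxU', ?_⟩
  · intro y hy
    exact hle hy
  · intro y hy
    have : y ∈ j.base ⁻¹' W₁ := hU'W hy
    rw [hW₁] at this
    exact this

end Groth.Agent.Lib.Seat26.PPEpi
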