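import Mathlib
import Groth.Prelude.Def_OmegaPn
import Groth.Agent.Lib.Seat26IdealFT
import Groth.Agent.Lib.Seat26InfNbhdFin
import Groth.Agent.Lib.Helper6LfpComp
import Groth.Agent.Lib.Helper18Strict6
import Groth.Agent.Lib.Helper2FinPushFP

/-!
# Finiteness of the sheaves of principal parts (seat 26)

* `locallyOfFinitePresentation_subschemeι`: a closed subscheme with finitely generated ideal is
  locally of finite presentation.
* `isFinite_pr1`, `locallyOfFinitePresentation_pr1`: the first projection of the `n`-th
  infinitesimal neighbourhood of the diagonal.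
* `isCoh_PMod`, `isFP_PMod`.
-/

set_option autoImplicit false
set_option linter.style.haveILetI false
set_option linter.unusedSectionVars false

universe u

open CategoryTheory AlgebraicGeometry Limits TopologicalSpace Opposite

namespace Groth.Agent.Lib.Seat26.PPFin

open Groth.Agent.Lib.Seat26.IdealFT

section subscheme
variable {X : Scheme.{u}}

/-- a closed subscheme whose ideal is finitely generated on affine opens is locally of finite
presentation. -/
theorem locallyOfFinitePresentation_subschemeι (K : X.IdealSheafData)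
    (hK : ∀ (V : X.Opens) (hV : IsAffineOpen V), (K.ideal ⟨V, hV⟩).FG) :
    LocallyOfFinitePresentation K.subschemeι := by
  rw [HasRingHomProperty.iff_exists_appLE (P := @LocallyOfFinitePresentation)
    (RingHom.finitePresentation_stableUnderComposition.stableUnderCompositionWithLocalizationAway
      RingHom.finitePresentation_holdsForLocalizationAway).left]
  intro x
  obtain ⟨_, ⟨U, hU, rfl⟩, hxU, -⟩ := X.isBasis_affineOpens.exists_subset_of_mem_open
    (Set.mem_univ (K.subschemeι x)) isOpen_univ
  refine ⟨⟨U, hU⟩, ⟨K.subschemeι ⁻¹ᵁ U, hU.preimage K.subschemeι⟩, hxU, le_rfl, ?_⟩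
  rw [← Scheme.Hom.app_eq_appLE]
  refine RingHom.FinitePresentation.of_surjective _ (K.subschemeι_app_surjective ⟨U, hU⟩) ?_
  rw [K.ker_subschemeι_app ⟨U, hU⟩]
  exact hK U hU

end subscheme

section diag
variable {X S : Scheme.{u}} (f : X ⟶ S)

theorem diagCl_section :
    PrinPart.diagCl f ≫ ((pullback.diagonal f).coborderRange.ι ≫ pullback.fst f f) = 𝟙 X := by
  rw [← Category.assoc, Scheme.Hom.liftCoborder_ι, pullback.diagonal_fst]

theorem pr1_eq (n : ℕ) : PrinPart.pr1 f n =
    PrinPart.infNbhdι (PrinPart.diagCl f) n ≫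
      ((pullback.diagonal f).coborderRange.ι ≫ pullback.fst f f) := by
  rw [PrinPart.pr1, PrinPart.nbhdι, Category.assoc]

/-- the first projection of the infinitesimal neighbourhood of the diagonal is finite. -/
theorem isFinite_pr1 [LocallyOfFiniteType f] (n : ℕ) : IsFinite (PrinPart.pr1 f n) := by
  rw [pr1_eq]
  exact Groth.Agent.Lib.Seat26.InfNbhdFin.isFinite_infNbhd_of_section
    ((pullback.diagonal f).coborderRange.ι ≫ pullback.fst f f) (PrinPart.diagCl f)
    (diagCl_section f) n

theorem locallyOfFinitePresentation_diagCl [LocallyOfFiniteType f] :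
    LocallyOfFinitePresentation (PrinPart.diagCl f) := by
  refine Groth.Agent.Lib.Helper6.locallyOfFinitePresentation_of_comp
    (g := (pullback.diagonal f).coborderRange.ι) inferInstance ?_
  rw [Scheme.Hom.liftCoborder_ι]
  exact Groth.Agent.Lib.Helper6.locallyOfFinitePresentation_diagonal f

/-- the first projection of the infinitesimal neighbourhood of the diagonal is locally of finite
presentation. -/
theorem locallyOfFinitePresentation_pr1 [LocallyOfFinitePresentation f] (n : ℕ) :
    LocallyOfFinitePresentation (PrinPart.pr1 f n) := by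
  haveI := locallyOfFinitePresentation_diagCl f
  haveI : LocallyOfFinitePresentation (PrinPart.infNbhdι (PrinPart.diagCl f) n) := by
    rw [PrinPart.infNbhdι]
    refine locallyOfFinitePresentation_subschemeι _ (fun V hV => ?_)
    rw [Scheme.IdealSheafData.ideal_pow, Pi.pow_apply]
    exact (ker_ideal_fg (PrinPart.diagCl f) hV).pow
  rw [pr1_eq]
  infer_instance

/-- `P^n_{X/S}(F)` is quasi-coherent of finite type when `f` is locally of finite type and `F` is
quasi-coherent of finite type. -/
theorem isCoh_PMod [LocallyOfFiniteType f] (n : ℕ) (F : X.Modules) (hF : Coh.IsCoh F) :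
    Coh.IsCoh (PrinPart.PMod f n F) := by
  obtain ⟨hq, hft⟩ := hF
  haveI : F.IsQuasicoherent := hq
  haveI : SheafOfModules.IsFiniteType (R := X.ringCatSheaf) F := hft
  haveI := isFinite_pr1 f n
  haveI hft2 : SheafOfModules.IsFiniteType (R := (PrinPart.nbhd f n).ringCatSheaf)
      ((Scheme.Modules.pullback (PrinPart.pr2 f n)).obj F) :=
    Groth.Agent.Lib.Helper20.FormalPull.isFiniteType_pullback (PrinPart.pr2 f n) F
  refine ⟨?_, ?_⟩
  · exact Groth.Agent.Lib.Helper23.QCohLocal.isQuasicoherent_pushforward (PrinPart.pr1 f n) _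
  · exact (Groth.Agent.Lib.Helper2.FinPushFP.isFiniteType_pushforward_iff (PrinPart.pr1 f n)
      ((Scheme.Modules.pullback (PrinPart.pr2 f n)).obj F)).1 hft2

/-- `P^n_{X/S}(F)` is of finite presentation when `f` is locally of finite presentation and `F` is
of finite presentation. -/
theorem isFP_PMod [LocallyOfFinitePresentation f] (n : ℕ) (F : X.Modules) (hF : CohB1.IsFP F) :
    CohB1.IsFP (PrinPart.PMod f n F) := by
  haveI := isFinite_pr1 f n
  haveI := locallyOfFinitePresentation_pr1 f n
  have h2 : CohB1.IsFP ((Scheme.Modules.pullback (PrinPart.pr2 f n)).obj F) :=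
    Groth.Agent.Helper18Strict.isFP_pullback (PrinPart.pr2 f n) F hF
  haveI : ((Scheme.Modules.pullback (PrinPart.pr2 f n)).obj F).IsQuasicoherent :=
    Groth.Agent.Helper18Strict.isQCoh_of_isFP _ h2
  exact (Groth.Agent.Lib.Helper2.FinPushFP.isFinitePresentation_pushforward_iff (PrinPart.pr1 f n)
    ((Scheme.Modules.pullback (PrinPart.pr2 f n)).obj F)).1 h2

end diag

end Groth.Agent.Lib.Seat26.PPFin
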