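import Mathlib
import Groth.Prelude.Def_OmegaPn
import Groth.Agent.Lib.Seat26PPKer
import Groth.Agent.Lib.Helper18OmLS25
import Groth.Agent.Lib.Helper13AffBC

/-!
# `O_X ⊕ Ω_{X/S} ≅ P¹_{X/S}` (helper26)
-/

set_option autoImplicit false

universe u

open CategoryTheory AlgebraicGeometry Limits TopologicalSpace Opposite

namespace Groth.Agent.Lib.Seat26.PPOmega

open Groth.Agent.Lib.Seat26.PPSec Groth.Agent.Lib.Seat26.PPOrd1 Groth.Agent.Lib.Seat26.PPLoc
  Groth.Agent.Lib.Seat26.PPKer Groth.Agent.Helper18OmLS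

section AlgRetr

variable {C A R R₁ : Type u} [CommRing C] [CommRing A] [CommRing R] [CommRing R₁]
  (c : C →+* A) (p₁ p₂ : A →+* R) (m : R →+* A)
  (hm₁ : m.comp p₁ = RingHom.id A) (hm₂ : m.comp p₂ = RingHom.id A)
  (PO : ∀ (T : Type u) [CommRing T] (ψ₁ ψ₂ : A →+* T), ψ₁.comp c = ψ₂.comp c →
      ∃! ρ : R →+* T, ρ.comp p₁ = ψ₁ ∧ ρ.comp p₂ = ψ₂)
  (k : R →+* R₁) (hk : Function.Surjective k) (hker : RingHom.ker k = RingHom.ker m ^ 2)

include hm₁ hm₂ PO hk hker in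
/-- a derivation `δ : A → N` over `C` gives an additive map out of `R / I²` which is
`p₁`-semilinear and sends `p₂ b` to `δ b`. -/
theorem exists_retr (N : Type u) [AddCommGroup N] [Module A N] (δ : A →+ N)
    (hδ : ∀ a b, δ (a * b) = a • δ b + b • δ a) (hδc : ∀ x, δ (c x) = 0) :
    ∃ lam : R₁ →+ N, (∀ a y, lam (k (p₁ a) * y) = a • lam y) ∧ ∀ b, lam (k (p₂ b)) = δ b := by
  letI : Module Aᵐᵒᵖ N := Module.compHom N ((RingHom.id A).fromOpposite mul_comm)
  haveI : IsCentralScalar A N := ⟨fun a n => rfl⟩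
  have hδ1 : δ 1 = 0 := by
    have := hδ 1 1
    rw [mul_one, one_smul] at this
    exact left_eq_add.mp this
  let φ₁ : A →+* TrivSqZeroExt A N := TrivSqZeroExt.inlHom A N
  let φ₂ : A →+* TrivSqZeroExt A N :=
    { toFun := fun a => TrivSqZeroExt.inl a + TrivSqZeroExt.inr (δ a)
      map_one' := by rw [hδ1, TrivSqZeroExt.inr_zero, add_zero]; rfl
      map_mul' := fun a b => by
        apply TrivSqZeroExt.ext
        · simp
        · simp [hδ, add_comm]
      map_zero' := by simp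
      map_add' := fun a b => by
        rw [map_add, TrivSqZeroExt.inl_add, TrivSqZeroExt.inr_add]
        abel }
  have hφ : φ₁.comp c = φ₂.comp c := by
    ext x
    · change (c x : A) = (TrivSqZeroExt.inl (c x) + TrivSqZeroExt.inr (δ (c x)) : TrivSqZeroExt A N).fst
      simp
    · change (0 : N) = (TrivSqZeroExt.inl (c x) + TrivSqZeroExt.inr (δ (c x)) : TrivSqZeroExt A N).snd
      rw [hδc]
      simp
  obtain ⟨ρ, ⟨hρ1, hρ2⟩, -⟩ := PO (TrivSqZeroExt A N) φ₁ φ₂ hφ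
  let π : TrivSqZeroExt A N →+* A := (TrivSqZeroExt.fstHom A A N).toRingHom
  have hπ : π.comp ρ = m := by
    obtain ⟨ρ', -, hρ'⟩ := PO A (RingHom.id A) (RingHom.id A) rfl
    have h1 : π.comp ρ = ρ' := by
      apply hρ'
      constructor
      · rw [RingHom.comp_assoc, hρ1]
        ext a
        rfl
      · rw [RingHom.comp_assoc, hρ2]
        ext a
        change (TrivSqZeroExt.inl a + TrivSqZeroExt.inr (δ a) : TrivSqZeroExt A N).fst = a
        simp
    have h2 : m = ρ' := hρ' m ⟨hm₁, hm₂⟩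
    rw [h1, h2]
  have hfst : ∀ r, (ρ r).fst = m r := fun r => congr($hπ r)
  -- `ρ` kills `I²`
  have hle : RingHom.ker k ≤ RingHom.ker ρ := by
    rw [hker, pow_two, Ideal.mul_le]
    intro x hx y hy
    rw [RingHom.mem_ker] at hx hy ⊢
    rw [map_mul]
    apply TrivSqZeroExt.ext
    · rw [TrivSqZeroExt.fst_mul, hfst, hx, zero_mul]; rfl
    · rw [TrivSqZeroExt.snd_mul, hfst, hfst, hx, hy]
      simp
  let ρ₁ : R₁ →+* TrivSqZeroExt A N := RingHom.liftOfSurjective k hk ⟨ρ, hle⟩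
  have hρ₁ : ∀ r, ρ₁ (k r) = ρ r := fun r => RingHom.liftOfRightInverse_comp_apply _ _ _ _ r
  let lam : R₁ →+ N :=
    { toFun := fun r => (ρ₁ r).snd
      map_zero' := by rw [map_zero]; rfl
      map_add' := fun a b => by rw [map_add]; rfl }
  refine ⟨lam, ?_, ?_⟩
  · intro a y
    change (ρ₁ (k (p₁ a) * y)).snd = a • (ρ₁ y).snd
    have e1 : ρ (p₁ a) = φ₁ a := congr($hρ1 a)
    rw [map_mul, hρ₁, e1, TrivSqZeroExt.snd_mul]
    change a • (ρ₁ y).snd + MulOpposite.op (ρ₁ y).fst • (0 : N) = _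
    rw [smul_zero, add_zero]
  · intro b
    change (ρ₁ (k (p₂ b))).snd = δ b
    have e2 : ρ (p₂ b) = φ₂ b := congr($hρ2 b)
    rw [hρ₁, e2]
    change (TrivSqZeroExt.inl b + TrivSqZeroExt.inr (δ b) : TrivSqZeroExt A N).snd = δ b
    simp

include hk hker in
/-- the augmentation `R / I² → A`. -/
theorem exists_aug : ∃ μ : R₁ →+* A, ∀ r, μ (k r) = m r := by
  have hle : RingHom.ker k ≤ RingHom.ker m := by
    rw [hker]; exact Ideal.pow_le_self two_ne_zero
  exact ⟨RingHom.liftOfSurjective k hk ⟨m, hle⟩,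
    fun r => RingHom.liftOfRightInverse_comp_apply _ _ _ _ r⟩

end AlgRetr

section coprodSec

variable {X : Scheme.{u}} {A B M : X.Modules} (e : A ⟶ M) (ι : B ⟶ M) (U : X.Opens)

theorem coprod_decomp :
    (coprod.desc (𝟙 A) (0 : B ⟶ A)) ≫ (coprod.inl : A ⟶ A ⨿ B) +
      (coprod.desc (0 : A ⟶ B) (𝟙 B)) ≫ (coprod.inr : B ⟶ A ⨿ B) = 𝟙 (A ⨿ B) := by
  apply coprod.hom_ext
  · rw [Preadditive.comp_add, coprod.inl_desc_assoc, coprod.inl_desc_assoc, Category.id_comp,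
      zero_comp, add_zero, Category.comp_id]
  · rw [Preadditive.comp_add, coprod.inr_desc_assoc, coprod.inr_desc_assoc, Category.id_comp,
      zero_comp, zero_add, Category.comp_id]

theorem bijective_coprod_desc_app
    (hsurj : ∀ x : Γ(M, U), ∃ (a : Γ(A, U)) (ω : Γ(B, U)), e.app U a + ι.app U ω = x)
    (hinj : ∀ (a : Γ(A, U)) (ω : Γ(B, U)), e.app U a + ι.app U ω = 0 → a = 0 ∧ ω = 0) :
    Function.Bijective ((coprod.desc e ι).app U) := by
  have hl : ∀ a : Γ(A, U), (coprod.desc e ι).app U ((coprod.inl : A ⟶ A ⨿ B).app U a) =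
      e.app U a := fun a => by
    have : ((coprod.inl : A ⟶ A ⨿ B) ≫ coprod.desc e ι).app U a = e.app U a := by
      rw [coprod.inl_desc]
    exact this
  have hr : ∀ ω : Γ(B, U), (coprod.desc e ι).app U ((coprod.inr : B ⟶ A ⨿ B).app U ω) =
      ι.app U ω := fun ω => by
    have : ((coprod.inr : B ⟶ A ⨿ B) ≫ coprod.desc e ι).app U ω = ι.app U ω := by
      rw [coprod.inr_desc]
    exact this
  have hdec : ∀ y : Γ(A ⨿ B, U),
      y = (coprod.inl : A ⟶ A ⨿ B).app U ((coprod.desc (𝟙 A) (0 : B ⟶ A)).app U y) +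
        (coprod.inr : B ⟶ A ⨿ B).app U ((coprod.desc (0 : A ⟶ B) (𝟙 B)).app U y) := fun y => by
    have : (𝟙 (A ⨿ B) : A ⨿ B ⟶ A ⨿ B).app U y = y := rfl
    rw [← coprod_decomp] at this
    exact this.symm
  constructor
  · rw [injective_iff_map_eq_zero]
    intro y hy
    rw [hdec y, map_add, hl, hr] at hy
    obtain ⟨h1, h2⟩ := hinj _ _ hy
    rw [hdec y, h1, h2, map_zero, map_zero, add_zero]
  · intro x
    obtain ⟨a, ω, rfl⟩ := hsurj x
    refine ⟨(coprod.inl : A ⟶ A ⨿ B).app U a + (coprod.inr : B ⟶ A ⨿ B).app U ω, ?_⟩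
    rw [map_add, hl, hr]

end coprodSec

section chartRetr

variable {X S : Scheme.{u}} (f : X ⟶ S) {U : X.Opens}
  {V : S.Opens} (h : U ≤ f ⁻¹ᵁ V) (hU : IsAffineOpen U) (hV : IsAffineOpen V)

theorem der_appLE {F : X.Modules} (D : OmegaSh.Der f F) (x : Γ(S, V)) :
    D.app U ((f.appLE V U h).hom x) = 0 := by
  have e : (f.appLE V U h).hom x = X.presheaf.map (homOfLE h).op (f.app V x) := by
    rw [Scheme.Hom.appLE]; rfl
  rw [e, der_map]
  have : D.app (f ⁻¹ᵁ V) (f.app V x) = 0 := D.d_app (X := op V) x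
  rw [this, map_zero]

theorem der_one {F : X.Modules} (D : OmegaSh.Der f F) (U : X.Opens) : D.app U 1 = 0 := by
  have := der_mul D (1 : Γ(X, U)) 1
  rw [mul_one, one_smul] at this
  exact left_eq_add.mp this

include h hU hV in
/-- on a chart every derivation is a differential operator of order `≤ 1`: it factors through
`d¹` by a semilinear map. -/
theorem exists_retr_chart {F : X.Modules} (D : OmegaSh.Der f F) :
    ∃ ρ : Γ(PrinPart.P f 1, U) →+ Γ(F, U),
      (∀ (a : Γ(X, U)) (x : Γ(PrinPart.P f 1, U)), ρ (a • x) = a • ρ x) ∧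
      ∀ b : Γ(X, U), ρ (PrinPart.dn f 1 U b) = D.app U b := by
  obtain ⟨lam, h1, h2⟩ := exists_retr (f.appLE V U h).hom (pp₁ f U) (pp₂ f U) (mm f U)
    (mm_comp_pp₁ f U) (mm_comp_pp₂ f U) (fun T _ ψ₁ ψ₂ hψ => PO_ring f h hU hV T ψ₁ ψ₂ hψ)
    (kch f 1 U) (kch_surjective f 1 hU hV h) (ker_kch f 1 hU hV h) Γ(F, U) (D.app U)
    (fun a b => der_mul D a b) (fun x => der_appLE f h D x)
  refine ⟨lam.comp (secHom f 1 U), ?_, ?_⟩
  · intro a x
    rw [AddMonoidHom.comp_apply, AddMonoidHom.comp_apply, secHom_smul', ← kch_pp₁, h1]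
  · intro b
    rw [AddMonoidHom.comp_apply, secHom_dn', ← kch_pp₂, h2]

include h hU hV in
/-- the augmentation `P¹(U) → O(U)` on a chart. -/
theorem exists_aug_chart :
    ∃ ρ : Γ(PrinPart.P f 1, U) →+ Γ(X, U),
      (∀ (a : Γ(X, U)) (x : Γ(PrinPart.P f 1, U)), ρ (a • x) = a * ρ x) ∧
      ∀ b : Γ(X, U), ρ (PrinPart.dn f 1 U b) = b := by
  obtain ⟨μ, hμ⟩ := exists_aug (mm f U) (kch f 1 U) (kch_surjective f 1 hU hV h)
    (ker_kch f 1 hU hV h)
  refine ⟨(μ : _ →+ _).comp (secHom f 1 U), ?_, ?_⟩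
  · intro a x
    rw [AddMonoidHom.comp_apply, AddMonoidHom.comp_apply, secHom_smul', ← kch_pp₁]
    change μ (_ * _) = a * μ _
    rw [map_mul, hμ]
    congr 1
    exact congr($(mm_comp_pp₁ f U) a)
  · intro b
    rw [AddMonoidHom.comp_apply, secHom_dn', ← kch_pp₂]
    change μ _ = b
    rw [hμ]
    exact congr($(mm_comp_pp₂ f U) b)

end chartRetr

section main

variable {X S : Scheme.{u}} (f : X ⟶ S) [QuasiSeparated f]
  (e : Coh.structureModule X ⟶ PrinPart.P f 1)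
  (he : ∀ (U : X.Opens) (s : Γ(X, U)),
    e.app U (OmegaSh.strSect X U s) = s • PrinPart.dn f 1 U 1)
  (ι : Omega.sheaf f ⟶ PrinPart.P f 1)
  (hι : ∀ (U : X.Opens) (s : Γ(X, U)),
    ι.app U ((OmegaSh.dOmega f).app U s) = PrinPart.dn f 1 U s - s • PrinPart.dn f 1 U 1)
  {U : X.Opens} {V : S.Opens} (h : U ≤ f ⁻¹ᵁ V) (hU : IsAffineOpen U) (hV : IsAffineOpen V)

include he hι h hU hV in
theorem chart_surj (x : Γ(PrinPart.P f 1, U)) :
    ∃ (a : Γ(Coh.structureModule X, U)) (ω : Γ(Omega.sheaf f, U)),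
      e.app U a + ι.app U ω = x := by
  have hx := mem_span_dn f 1 hU hV h x
  refine Submodule.span_induction ?_ ?_ ?_ ?_ hx
  · rintro _ ⟨b, rfl⟩
    refine ⟨OmegaSh.strSect X U b, (OmegaSh.dOmega f).app U b, ?_⟩
    rw [he, hι]; abel
  · exact ⟨0, 0, by rw [map_zero, map_zero, add_zero]⟩
  · rintro x y _ _ ⟨a₁, ω₁, rfl⟩ ⟨a₂, ω₂, rfl⟩
    exact ⟨a₁ + a₂, ω₁ + ω₂, by rw [map_add, map_add]; abel⟩
  · rintro r x _ ⟨a, ω, rfl⟩
    exact ⟨r • a, r • ω, by
      rw [Scheme.Modules.Hom.app_smul, Scheme.Modules.Hom.app_smul, smul_add]⟩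

include he hι h hU hV in
theorem chart_inj (a : Γ(Coh.structureModule X, U)) (ω : Γ(Omega.sheaf f, U))
    (hz : e.app U a + ι.app U ω = 0) : a = 0 ∧ ω = 0 := by
  obtain ⟨aug, haug1, haug2⟩ := exists_aug_chart f h hU hV
  obtain ⟨ρ, hρ1, hρ2⟩ := exists_retr_chart f h hU hV (OmegaSh.dOmega f)
  have hd1 : (OmegaSh.dOmega f).app U 1 = 0 := der_one f _ U
  have k1 : ∀ ω : Γ(Omega.sheaf f, U), aug (ι.app U ω) = 0 := by
    intro ω
    have hω := mem_span_dOmega f h hU hV ω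
    refine Submodule.span_induction ?_ ?_ ?_ ?_ hω
    · rintro _ ⟨s, rfl⟩
      rw [hι, map_sub, haug1, haug2, haug2, mul_one, sub_self]
    · rw [map_zero, map_zero]
    · intro x y _ _ hx hy; rw [map_add, map_add, hx, hy, add_zero]
    · intro r x _ hx; rw [Scheme.Modules.Hom.app_smul, haug1, hx, mul_zero]
  have k2 : ∀ ω : Γ(Omega.sheaf f, U), ρ (ι.app U ω) = ω := by
    intro ω
    have hω := mem_span_dOmega f h hU hV ω
    refine Submodule.span_induction ?_ ?_ ?_ ?_ hω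
    · rintro _ ⟨s, rfl⟩
      rw [hι, map_sub, hρ1, hρ2, hρ2, hd1, smul_zero, sub_zero]
    · rw [map_zero, map_zero]
    · intro x y _ _ hx hy; rw [map_add, map_add, hx, hy]
    · intro r x _ hx; rw [Scheme.Modules.Hom.app_smul, hρ1, hx]
  have ha : a = OmegaSh.strSect X U (OmegaSh.fnSect X U a) := rfl
  have k3 : aug (e.app U a) = OmegaSh.fnSect X U a := by
    rw [ha, he, haug1, haug2, mul_one]; rfl
  have h0 := congrArg aug hz
  rw [map_add, k3, k1, add_zero, map_zero] at h0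
  have ha0 : a = 0 := by rw [ha, h0, map_zero]
  refine ⟨ha0, ?_⟩
  have h1 := congrArg ρ hz
  rw [ha0, map_zero, zero_add, k2, map_zero] at h1
  exact h1

include he hι in
/-- **`O_X ⊕ Ω_{X/S} ≅ P¹_{X/S}`.** -/
theorem main : IsIso (coprod.desc e ι) := by
  let ιT : Type u := {U : X.Opens // U ∈ charts f}
  refine Groth.Agent.Helper13AffBC.isIso_of_bijective_on_basis _ (fun i : ιT => i.1) ?_ ?_
  · have : Set.range (fun i : ιT => i.1) = charts f := Subtype.range_coe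
    rw [this]; exact isBasis_charts f
  · rintro ⟨U, hU, V, hV, h⟩
    exact bijective_coprod_desc_app e ι U (chart_surj f e he ι hι h hU hV)
      (chart_inj f e he ι hι h hU hV)

end main

end Groth.Agent.Lib.Seat26.PPOmega
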