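import Mathlib
import Groth.Prelude.Def_OmegaPn
import Groth.Agent.Lib.Seat26PPOrd1
import Groth.Agent.Lib.Helper4PPSch
import Groth.Agent.Lib.Helper13PullbackUnit
import Groth.Agent.S5979

/-!
# Differential operators of order `≤ 0` are the linear maps (helper26)
-/

set_option autoImplicit false

universe u

open CategoryTheory AlgebraicGeometry Limits TopologicalSpace Opposite

namespace Groth.Agent.Lib.Seat26.PPOrd0

open Groth.Agent.Lib.Seat26.PPOrd1 Groth.Agent.Helper13PullbackUnit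

section abs

variable {X N : Scheme.{u}} (τ : X ⟶ N) (p1 p2 : N ⟶ X) (h1 : τ ≫ p1 = 𝟙 X) (h2 : τ ≫ p2 = 𝟙 X)
  (hpre : ∀ U : X.Opens, p1 ⁻¹ᵁ U ≤ p2 ⁻¹ᵁ U)

include h1 h2 in
/-- if the section `τ` is an isomorphism then `p₁♯ = p₂♯`. -/
theorem alA_eq_beA [IsIso τ] (U : X.Opens) (a : Γ(X, U)) :
    alA p1 U a = beA p1 p2 hpre U a := by
  have hinj : Function.Injective (τ.app (p1 ⁻¹ᵁ U)) :=
    (ConcreteCategory.bijective_of_isIso (τ.app (p1 ⁻¹ᵁ U))).injective
  apply hinj
  rw [app_alA τ p1 h1, app_beA τ p1 p2 h1 h2 hpre]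

end abs

section ord0

variable {X S : Scheme.{u}} (f : X ⟶ S)

/-- `d^n (a • t) = p₂♯ a • d^n t`. -/
theorem dP_smul (n : ℕ) (F : X.Modules) (U : X.Opens) (a : Γ(X, U)) (t : Γ(F, U)) :
    PrinPart.dP f n F U (a • t) =
      ((beA (PrinPart.pr1 f n) (PrinPart.pr2 f n) (hpre f n) U a) •
        (show Γ((Scheme.Modules.pullback (PrinPart.pr2 f n)).obj F, PrinPart.pr1 f n ⁻¹ᵁ U) from
          PrinPart.dP f n F U t) :
        Γ((Scheme.Modules.pullback (PrinPart.pr2 f n)).obj F, PrinPart.pr1 f n ⁻¹ᵁ U)) :=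
  unitSec_smul (PrinPart.pr2 f n) F (hpre f n U) a t

/-- `d⁰` is `O_X`-linear. -/
theorem dP_zero_smul (F : X.Modules) (U : X.Opens) (a : Γ(X, U)) (t : Γ(F, U)) :
    PrinPart.dP f 0 F U (a • t) = a • PrinPart.dP f 0 F U t := by
  have := Groth.Agent.Lib.Helper4.PPSch.isIso_toNbhd_zero f
  rw [dP_smul, ← alA_eq_beA (PrinPart.toNbhd f 0) (PrinPart.pr1 f 0) (PrinPart.pr2 f 0)
    (PrinPart.toNbhd_pr1 f 0) (PrinPart.toNbhd_pr2 f 0) (hpre f 0) U a]
  rfl

/-- the inverse of `d⁰` on sections. -/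
noncomputable def dPInv (F : X.Modules) (U : X.Opens) : Γ(PrinPart.PMod f 0 F, U) ≃+ Γ(F, U) :=
  (AddEquiv.ofBijective (PrinPart.dP f 0 F U) (Groth.Agent.S5979.result f F U)).symm

theorem dPInv_dP (F : X.Modules) (U : X.Opens) (t : Γ(F, U)) :
    dPInv f F U (PrinPart.dP f 0 F U t) = t :=
  (AddEquiv.ofBijective (PrinPart.dP f 0 F U) (Groth.Agent.S5979.result f F U)).symm_apply_apply t

theorem dP_dPInv (F : X.Modules) (U : X.Opens) (y : Γ(PrinPart.PMod f 0 F, U)) :
    PrinPart.dP f 0 F U (dPInv f F U y) = y :=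
  (AddEquiv.ofBijective (PrinPart.dP f 0 F U) (Groth.Agent.S5979.result f F U)).apply_symm_apply y

/-- the linearisation of a linear `D` through `d⁰`, as a map of abelian presheaves. -/
noncomputable def linPre (F G : X.Modules) (D : F.presheaf ⟶ G.presheaf) :
    (PrinPart.PMod f 0 F).presheaf ⟶ G.presheaf where
  app U := AddCommGrpCat.ofHom ((D.app U).hom.comp (dPInv f F U.unop).toAddMonoidHom)
  naturality U V i := by
    ext y
    obtain ⟨t, rfl⟩ : ∃ t, PrinPart.dP f 0 F U.unop t = y := ⟨_, dP_dPInv f F U.unop y⟩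
    have hk : V.unop ≤ U.unop := i.unop.le
    have e1 : (PrinPart.PMod f 0 F).presheaf.map i (PrinPart.dP f 0 F U.unop t) =
        PrinPart.dP f 0 F V.unop (F.presheaf.map i t) := (PrinPart.dP_map f 0 F hk t).symm
    change D.app V (dPInv f F V.unop ((PrinPart.PMod f 0 F).presheaf.map i
      (PrinPart.dP f 0 F U.unop t))) = G.presheaf.map i (D.app U (dPInv f F U.unop
        (PrinPart.dP f 0 F U.unop t)))
    rw [e1, dPInv_dP, dPInv_dP]
    exact congr($(D.naturality i) t)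

theorem main (F G : X.Modules) (D : F.presheaf ⟶ G.presheaf) :
    PrinPart.IsDiffOpLE f F G 0 D ↔
      ∀ (U : X.Opens) (a : Γ(X, U)) (t : Γ(F, U)),
        D.app (op U) (a • t) = a • D.app (op U) t := by
  constructor
  · rintro ⟨u, hu⟩ U a t
    rw [hu, hu, dP_zero_smul, Scheme.Modules.Hom.app_smul]
  · intro hlin
    refine ⟨⟨PresheafOfModules.homMk (linPre f F G D) ?_⟩, fun U t => ?_⟩
    · intro T r m
      induction T using Opposite.rec with
      | op U =>
        obtain ⟨t, ht⟩ : ∃ t, PrinPart.dP f 0 F U t = m := ⟨_, dP_dPInv f F U m⟩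
        have e1 : PrinPart.dP f 0 F U ((show Γ(X, U) from r) • t) =
            ((show Γ(X, U) from r) • PrinPart.dP f 0 F U t : Γ(PrinPart.PMod f 0 F, U)) :=
          dP_zero_smul f F U r t
        have e2 : D.app (op U) (dPInv f F U ((show Γ(X, U) from r) • PrinPart.dP f 0 F U t)) =
            ((show Γ(X, U) from r) • D.app (op U) (dPInv f F U (PrinPart.dP f 0 F U t)) :
              Γ(G, U)) := by
          rw [← e1, dPInv_dP, dPInv_dP]
          exact hlin U r t
        rw [← ht]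
        exact e2
    · change D.app (op U) t = D.app (op U) (dPInv f F U (PrinPart.dP f 0 F U t))
      rw [dPInv_dP]

end ord0

end Groth.Agent.Lib.Seat26.PPOrd0
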