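import Mathlib
import Groth.Prelude.Def_OmegaPn
import Groth.Agent.Lib.Seat26PPSec
import Groth.Agent.Lib.Helper13PullbackUnit

/-!
# Transition maps `P^m(F) → P^n(F)` for `n ≤ m` (helper26)
-/

set_option autoImplicit false

universe u

open CategoryTheory AlgebraicGeometry Limits TopologicalSpace Opposite

namespace Groth.Agent.Lib.Seat26.PPTrans

open Groth.Agent.Lib.Seat26.PPSec Groth.Agent.Helper13PullbackUnit

section abs

variable {N N' X : Scheme.{u}} (h : N ⟶ N') (p1' p2' : N' ⟶ X) (F : X.Modules)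

/-- `κ : p₂'^* F ⟶ h_* (h ≫ p₂')^* F`, adjoint to the unit of `h ≫ p₂'`. -/
noncomputable def kap :
    (Scheme.Modules.pullback p2').obj F ⟶
      (Scheme.Modules.pushforward h).obj ((Scheme.Modules.pullback (h ≫ p2')).obj F) :=
  ((Scheme.Modules.pullbackPushforwardAdjunction p2').homEquiv _ _).symm
    ((Scheme.Modules.pullbackPushforwardAdjunction (h ≫ p2')).unit.app F ≫
      (Scheme.Modules.pushforwardComp h p2').inv.app _)

theorem unit_kap :
    (Scheme.Modules.pullbackPushforwardAdjunction p2').unit.app F ≫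
      (Scheme.Modules.pushforward p2').map (kap h p2' F) =
    (Scheme.Modules.pullbackPushforwardAdjunction (h ≫ p2')).unit.app F ≫
      (Scheme.Modules.pushforwardComp h p2').inv.app _ := by
  have := (Scheme.Modules.pullbackPushforwardAdjunction p2').homEquiv_unit
    (X := F) (f := kap h p2' F)
  rw [← this]
  exact Equiv.apply_symm_apply _ _

theorem kap_pullSect (U : X.Opens) (t : Γ(F, U)) :
    (kap h p2' F).app (p2' ⁻¹ᵁ U) (OmegaSh.pullSect p2' F U t) =
      OmegaSh.pullSect (h ≫ p2') F U t := by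
  have h1 := congr($(unit_kap h p2' F).app U t)
  exact h1

/-- the transition map `p₁'_* p₂'^* F ⟶ (h ≫ p₁')_* (h ≫ p₂')^* F`. -/
noncomputable def rho :
    (Scheme.Modules.pushforward p1').obj ((Scheme.Modules.pullback p2').obj F) ⟶
      (Scheme.Modules.pushforward (h ≫ p1')).obj ((Scheme.Modules.pullback (h ≫ p2')).obj F) :=
  (Scheme.Modules.pushforward p1').map (kap h p2' F) ≫
    (Scheme.Modules.pushforwardComp h p1').hom.app _

theorem rho_unitSec (U : X.Opens) (hle' : p1' ⁻¹ᵁ U ≤ p2' ⁻¹ᵁ U)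
    (hle : (h ≫ p1') ⁻¹ᵁ U ≤ (h ≫ p2') ⁻¹ᵁ U) (t : Γ(F, U)) :
    (rho h p1' p2' F).app U (unitSec p2' F hle' t) = unitSec (h ≫ p2') F hle t := by
  change (kap h p2' F).app (p1' ⁻¹ᵁ U) (((Scheme.Modules.pullback p2').obj F).presheaf.map
    (homOfLE hle').op (OmegaSh.pullSect p2' F U t)) = _
  rw [app_map, kap_pullSect]
  rfl

/-- transition map for a morphism `h : N ⟶ N'` compatible with two pairs of projections. -/
theorem exists_trans {N N' X : Scheme.{u}} (h : N ⟶ N') (p1' p2' : N' ⟶ X) (p1 p2 : N ⟶ X)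
    (e1 : h ≫ p1' = p1) (e2 : h ≫ p2' = p2) (F : X.Modules)
    (hpre' : ∀ U : X.Opens, p1' ⁻¹ᵁ U ≤ p2' ⁻¹ᵁ U) (hpre : ∀ U : X.Opens, p1 ⁻¹ᵁ U ≤ p2 ⁻¹ᵁ U) :
    ∃ ρ : (Scheme.Modules.pushforward p1').obj ((Scheme.Modules.pullback p2').obj F) ⟶
        (Scheme.Modules.pushforward p1).obj ((Scheme.Modules.pullback p2).obj F),
      ∀ (U : X.Opens) (t : Γ(F, U)),
        ρ.app U (unitSec p2' F (hpre' U) t) = unitSec p2 F (hpre U) t := by
  subst e1 e2
  exact ⟨rho h p1' p2' F, fun U t => rho_unitSec h p1' p2' F U (hpre' U) (hpre U) t⟩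

end abs

section concrete

variable {X S : Scheme.{u}} (f : X ⟶ S)

theorem map_pr1 {n m : ℕ} (h : n ≤ m) :
    PrinPart.infNbhdMap (PrinPart.diagCl f) h ≫ PrinPart.pr1 f m = PrinPart.pr1 f n := by
  unfold PrinPart.pr1 PrinPart.nbhdι
  simp only [Category.assoc, PrinPart.infNbhdMap_ι_assoc]

theorem map_pr2 {n m : ℕ} (h : n ≤ m) :
    PrinPart.infNbhdMap (PrinPart.diagCl f) h ≫ PrinPart.pr2 f m = PrinPart.pr2 f n := by
  unfold PrinPart.pr2 PrinPart.nbhdι
  simp only [Category.assoc, PrinPart.infNbhdMap_ι_assoc]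

/-- the transition map `P^m(F) ⟶ P^n(F)` for `n ≤ m`, compatible with `d^m`, `d^n`. -/
theorem exists_transition (F : X.Modules) {n m : ℕ} (h : n ≤ m) :
    ∃ ρ : PrinPart.PMod f m F ⟶ PrinPart.PMod f n F,
      ∀ (U : X.Opens) (t : Γ(F, U)),
        ρ.app U (PrinPart.dP f m F U t) = PrinPart.dP f n F U t :=
  exists_trans (PrinPart.infNbhdMap (PrinPart.diagCl f) h) (PrinPart.pr1 f m) (PrinPart.pr2 f m)
    (PrinPart.pr1 f n) (PrinPart.pr2 f n) (map_pr1 f h) (map_pr2 f h) F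
    (fun U => (PrinPart.preimage_pr1 f m U).le) (fun U => (PrinPart.preimage_pr1 f n U).le)

theorem main (F G : X.Modules) {n m : ℕ} (h : n ≤ m) (D : F.presheaf ⟶ G.presheaf)
    (hD : PrinPart.IsDiffOpLE f F G n D) : PrinPart.IsDiffOpLE f F G m D := by
  obtain ⟨u, hu⟩ := hD
  obtain ⟨ρ, hρ⟩ := exists_transition f F h
  refine ⟨ρ ≫ u, fun U t => ?_⟩
  rw [hu]
  change u.app U (PrinPart.dP f n F U t) = u.app U (ρ.app U (PrinPart.dP f m F U t))
  rw [hρ]

end concrete

end Groth.Agent.Lib.Seat26.PPTrans
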