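import Mathlib

/-!
# Kähler differentials of a symmetric algebra (helper26)

For an `R`-module `M` and an `R`-algebra `B` which is a symmetric algebra of `M` through
`g : M →ₗ[R] B`, the `B`-linear map `B ⊗[R] M → Ω[B⁄R]`, `b ⊗ m ↦ b • D (g m)` is bijective.
-/

set_option autoImplicit false

namespace Groth.Agent.Lib.Seat26.SymOmega

open TensorProduct KaehlerDifferential

universe u

section alg

variable {R M B : Type u} [CommRing R] [AddCommGroup M] [Module R M] [CommRing B] [Algebra R B]
  (g : M →ₗ[R] B)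

/-- the linear map `m ↦ (g m, 1 ⊗ m)` into the trivial square-zero extension. -/
noncomputable def toTsze : M →ₗ[R] TrivSqZeroExt B (B ⊗[R] M) :=
  (TrivSqZeroExt.inlAlgHom R B (B ⊗[R] M)).toLinearMap ∘ₗ g +
    ((TrivSqZeroExt.inrHom B (B ⊗[R] M)).restrictScalars R) ∘ₗ (TensorProduct.mk R B M 1)

theorem toTsze_apply (m : M) :
    toTsze g m = TrivSqZeroExt.inl (g m) + TrivSqZeroExt.inr ((1 : B) ⊗ₜ[R] m) := rfl

/-- the algebra map `Sym M → B ⊕ (B ⊗ M)ε`. -/
noncomputable def Psi : SymmetricAlgebra R M →ₐ[R] TrivSqZeroExt B (B ⊗[R] M) :=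
  SymmetricAlgebra.lift (toTsze g)

theorem fst_Psi (s : SymmetricAlgebra R M) : (Psi g s).fst = SymmetricAlgebra.lift g s := by
  have h : (TrivSqZeroExt.fstHom R B (B ⊗[R] M)).comp (Psi g) = SymmetricAlgebra.lift g := by
    apply SymmetricAlgebra.algHom_ext
    ext m
    simp [Psi, toTsze_apply]
  exact congr($h s)

theorem snd_Psi_ι (m : M) : (Psi g (SymmetricAlgebra.ι R M m)).snd = (1 : B) ⊗ₜ[R] m := by
  simp [Psi, toTsze_apply]

variable (hg : IsSymmetricAlgebra g)

/-- the derivation `B → B ⊗ M` with `g m ↦ 1 ⊗ m`. -/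
noncomputable def delta : Derivation R B (B ⊗[R] M) where
  toLinearMap := ((TrivSqZeroExt.sndHom B (B ⊗[R] M)).restrictScalars R) ∘ₗ
    (Psi g).toLinearMap ∘ₗ hg.equiv.symm.toLinearMap
  map_one_eq_zero' := by
    simp
  leibniz' a b := by
    have ha : (Psi g (hg.equiv.symm a)).fst = a := by
      rw [fst_Psi]; exact hg.equiv.apply_symm_apply a
    have hb : (Psi g (hg.equiv.symm b)).fst = b := by
      rw [fst_Psi]; exact hg.equiv.apply_symm_apply b
    change (Psi g (hg.equiv.symm (a * b))).snd =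
      a • (Psi g (hg.equiv.symm b)).snd + b • (Psi g (hg.equiv.symm a)).snd
    rw [map_mul, map_mul, TrivSqZeroExt.snd_mul, ha, hb, op_smul_eq_smul]

theorem delta_apply (b : B) : delta g hg b = (Psi g (hg.equiv.symm b)).snd := rfl

theorem delta_g (m : M) : delta g hg (g m) = (1 : B) ⊗ₜ[R] m := by
  rw [delta_apply, hg.equiv_symm_apply, snd_Psi_ι]

include hg in
/-- **Differentials of a symmetric algebra**: `B ⊗[R] M ≅ Ω[B⁄R]` via `b ⊗ m ↦ b • D (g m)`. -/
theorem bijective_kappa (κ : B ⊗[R] M →ₗ[B] Ω[B⁄R])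
    (hκ : ∀ (b : B) (m : M), κ (b ⊗ₜ m) = b • D R B (g m)) : Function.Bijective κ := by
  let lam : Ω[B⁄R] →ₗ[B] B ⊗[R] M := (delta g hg).liftKaehlerDifferential
  have hlam : ∀ b : B, lam (D R B b) = delta g hg b := fun b =>
    Derivation.liftKaehlerDifferential_comp_D _ b
  have h1 : lam ∘ₗ κ = LinearMap.id := by
    apply TensorProduct.AlgebraTensorModule.ext
    intro b m
    change lam (κ (b ⊗ₜ m)) = b ⊗ₜ m
    rw [hκ, map_smul, hlam, delta_g, TensorProduct.smul_tmul', smul_eq_mul, mul_one]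
  have hkey : ∀ b : B, κ (delta g hg b) = D R B b := by
    intro b
    induction b using hg.induction with
    | algebraMap r => rw [Derivation.map_algebraMap, Derivation.map_algebraMap, map_zero]
    | ι m => rw [delta_g, hκ, one_smul]
    | mul a b ha hb =>
      rw [Derivation.leibniz, Derivation.leibniz, map_add, map_smul, map_smul, ha, hb]
    | add a b ha hb => rw [map_add, map_add, map_add, ha, hb]
  have h2 : κ ∘ₗ lam = LinearMap.id := by
    apply Derivation.liftKaehlerDifferential_unique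
    ext b
    change κ (lam (D R B b)) = D R B b
    rw [hlam, hkey]
  refine ⟨fun x y hxy => ?_, fun y => ⟨lam y, congr($h2 y)⟩⟩
  have := congrArg lam hxy
  rwa [show lam (κ x) = x from congr($h1 x), show lam (κ y) = y from congr($h1 y)] at this

end alg

end Groth.Agent.Lib.Seat26.SymOmega
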