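import Mathlib
import Groth.Prelude.Def_Omega4
import Groth.Prelude.Def_RelSpec
import Groth.Agent.Lib.Seat26SymOmega
import Groth.Agent.Lib.Helper18OmLS9
import Groth.Agent.Lib.Helper13SymAlgLocal
import Groth.Agent.S8255

/-!
# Differentials of a vector bundle `V(E)` (helper26)

`p^*E ≅ Ω_{V(E)/S}` through `t ↦ d t'`.
-/

set_option autoImplicit false
set_option linter.style.haveILetI false

universe u

open CategoryTheory CategoryTheory.Limits AlgebraicGeometry TopologicalSpace Opposite
open KaehlerDifferential TensorProduct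
open Groth.Agent.Helper13PullbackUnit Groth.Agent.Helper18OmLS Groth.Agent.Helper13SymAlg
  Groth.Agent.Helper13SymLoc

namespace Groth.Agent.Lib.Seat26.SymOmegaSh

theorem main {S : Scheme.{u}} (E : S.Modules) (hE : Coh.IsQCoh E)
    (A : RelSpec.QCAlg S) (j : E ⟶ A.toModule) (hA : RelSpec.IsSymAlg E A j)
    (Ω' : A.spec.Modules) (d : OmegaSh.Der A.π Ω') (hd : OmegaSh.IsUniversal d)
    (φ : (Scheme.Modules.pullback A.π).obj E ⟶ Ω')
    (hφ : ∀ (U : S.Opens) (t : Γ(E, U)) (t' : Γ(A.spec, A.π ⁻¹ᵁ U)),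
      A.gammaMap.app (op U) t' = j.app U t →
        φ.app (A.π ⁻¹ᵁ U) (OmegaSh.pullSect A.π E U t) = d.app (A.π ⁻¹ᵁ U) t') :
    IsIso φ := by
  haveI : E.IsQuasicoherent := hE
  haveI : ((Scheme.Modules.pullback A.π).obj E).IsQuasicoherent :=
    Groth.Agent.Lib.Helper2.PullbackSec.isQuasicoherent_pullback A.π E
  haveI := isQuasicoherent_of_isUniversal A.π d hd
  refine isIso_of_bijective_app_cover φ (fun V : S.affineOpens => A.π ⁻¹ᵁ V.1) ?_
    (fun V => V.2.preimage A.π) ?_
  · refine IsOpenCover.mk (eq_top_iff.mpr ?_)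
    intro x _
    obtain ⟨V, hV, hxV, -⟩ := exists_isAffineOpen_mem_and_subset (x := A.π x) (U := ⊤) trivial
    exact Opens.mem_iSup.mpr ⟨⟨V, hV⟩, hxV⟩
  · rintro ⟨V, hV⟩
    change Function.Bijective (φ.app (A.π ⁻¹ᵁ V))
    have hU : IsAffineOpen (A.π ⁻¹ᵁ V) := hV.preimage A.π
    set U : A.spec.Opens := A.π ⁻¹ᵁ V with hUdef
    have hUV : U ≤ A.π ⁻¹ᵁ V := le_rfl
    letI alg : Algebra Γ(S, V) Γ(A.spec, U) := (A.π.appLE V U hUV).hom.toAlgebra
    -- the identification of functions with sections of the algebra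
    haveI hγiso : IsIso (A.gammaAff V hV) := by
      rw [← A.gammaMap_app V hV]
      haveI := Groth.Agent.S8255.result A
      infer_instance
    have hγ1 : ∀ x : A.presheaf.obj (op V), (A.gammaAff V hV).hom ((inv (A.gammaAff V hV)).hom x) = x :=
      fun x => congr($(IsIso.inv_hom_id (A.gammaAff V hV)) x)
    have hγπ : ∀ r : Γ(S, V), (inv (A.gammaAff V hV)).hom ((A.str.app (op V)).hom r) =
        algebraMap Γ(S, V) Γ(A.spec, U) r := by
      intro r
      have h1 : A.π.app V ≫ A.gammaAff V hV = A.str.app (op V) := A.π_app_gammaAff V hV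
      have h2 : A.π.app V = A.str.app (op V) ≫ inv (A.gammaAff V hV) := by
        rw [← h1, Category.assoc, IsIso.hom_inv_id, Category.comp_id]
      have h3 : A.π.appLE V U hUV = A.π.app V := (Scheme.Hom.app_eq_appLE _).symm
      change _ = (A.π.appLE V U hUV).hom r
      rw [h3, h2]
      rfl
    let g : Γ(E, V) →ₗ[Γ(S, V)] Γ(A.spec, U) :=
      { toFun := fun m => (inv (A.gammaAff V hV)).hom (φAdd E A j V m)
        map_add' := fun m m' => by rw [map_add, map_add]
        map_smul' := fun r m => by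
          rw [φAdd_smul, map_mul, hγπ, RingHom.id_apply, Algebra.smul_def] }
    have hgdef : ∀ m, g m = (inv (A.gammaAff V hV)).hom (φAdd E A j V m) := fun m => rfl
    have hsym : IsSymmetricAlgebra g := by
      have h1 : ((SymmetricAlgebra.lift g : SymmetricAlgebra Γ(S, V) Γ(E, V) →ₐ[Γ(S, V)]
          Γ(A.spec, U)) : SymmetricAlgebra Γ(S, V) Γ(E, V) →+* Γ(A.spec, U)) =
          (inv (A.gammaAff V hV)).hom.comp (σ E A j V) := by
        refine ringHom_ext (fun a => ?_) (fun m => ?_)
        · rw [RingHom.comp_apply]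
          unfold σ
          rw [symLift_algebraMap, hγπ]
          exact AlgHom.commutes _ a
        · rw [RingHom.comp_apply]
          unfold σ
          rw [symLift_ι]
          exact SymmetricAlgebra.lift_ι_apply g m
      have h2 : (SymmetricAlgebra.lift g : SymmetricAlgebra Γ(S, V) Γ(E, V) → Γ(A.spec, U)) =
          (inv (A.gammaAff V hV)).hom ∘ (σ E A j V) := by
        funext z
        exact congr($h1 z)
      change Function.Bijective (SymmetricAlgebra.lift g)
      rw [h2]
      exact (ConcreteCategory.bijective_of_isIso (inv (A.gammaAff V hV))).comp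
        (bijective_σ E V hV hA)
    obtain ⟨e, he⟩ := exists_baseChangeEquiv (A := Γ(S, V)) (B := Γ(A.spec, U))
      (unitSec A.π E hUV) (fun a m => by rw [unitSec_smul]; rfl)
      (fun N _ _ l hl => existsUnique_lift A.π E hV hU hUV N l (fun r x => by rw [hl]; rfl))
    let e₂ := sectionsEquiv A.π d hd hU hV hUV rfl
    let cU : Γ((Scheme.Modules.pullback A.π).obj E, U) →ₗ[Γ(A.spec, U)] Γ(Ω', U) :=
      { toFun := fun x => φ.app U x
        map_add' := fun x y => map_add _ x y
        map_smul' := fun r x => Scheme.Modules.Hom.app_smul φ r x }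
    let κ : Γ(A.spec, U) ⊗[Γ(S, V)] Γ(E, V) →ₗ[Γ(A.spec, U)] Ω[Γ(A.spec, U)⁄Γ(S, V)] :=
      e₂.toLinearMap ∘ₗ cU ∘ₗ e.toLinearMap
    have hκ : ∀ (b : Γ(A.spec, U)) (m : Γ(E, V)),
        κ (b ⊗ₜ m) = b • D Γ(S, V) Γ(A.spec, U) (g m) := by
      intro b m
      change e₂ (φ.app U (e (b ⊗ₜ m))) = _
      rw [he, Scheme.Modules.Hom.app_smul, map_smul]
      congr 1
      have h1 : unitSec A.π E hUV m = OmegaSh.pullSect A.π E V m := by
        rw [unitSec_apply]
        have : (homOfLE hUV).op = 𝟙 (op (A.π ⁻¹ᵁ V)) := rfl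
        rw [this]
        erw [CategoryTheory.Functor.map_id]
        rfl
      have h2 : φ.app U (OmegaSh.pullSect A.π E V m) = d.app U (g m) := by
        refine hφ V m (g m) ?_
        rw [A.gammaMap_app V hV, hgdef]
        exact hγ1 _
      rw [h1, h2]
      exact sectionsEquiv_d A.π d hd hU hV hUV rfl (g m)
    exact bijective_of_model e e₂ κ _ (fun t => rfl)
      (Groth.Agent.Lib.Seat26.SymOmega.bijective_kappa g hsym κ hκ)

end Groth.Agent.Lib.Seat26.SymOmegaSh
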