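import Mathlib
import Groth.Agent.Lib.Helper13TorMore
import Groth.Agent.Lib.Seat26FFRes

/-!
# Projective dimension versus Tor-dimension (seat 26)

* `isZero_tor_of_hasProjectiveDimensionLT`: `pd X < i` implies `Tor_i(X, Y) = 0` for all `Y`
  (any commutative ring, any module).
* `hasProjectiveDimensionLT_of_tor_vanish`: over a finitely presented flat `A`-algebra `B`, a
  finitely presented `B`-module `M` flat over `A` with `Tor_i(M, N) = 0` for all `i > m` and all `N`
  has projective dimension `≤ m`.
* `projectiveDimension_eq_sInf_tor`: the resulting equality of projective and Tor dimension.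
-/

set_option autoImplicit false
set_option linter.style.haveILetI false

universe u

namespace Groth.Agent.Lib.Seat26.TorDim

open CategoryTheory CategoryTheory.Limits MonoidalCategory Groth.Agent.Helper13Tor

section General

variable {R : Type u} [CommRing R]

theorem isZero_tor_zero_of_isZero (X Y : ModuleCat.{u} R) (hX : IsZero X) :
    IsZero (((Tor (ModuleCat.{u} R) 0).obj X).obj Y) := by
  let F := (tensoringLeft (ModuleCat.{u} R)).obj X
  refine IsZero.of_iso ?_ (F.leftDerivedZeroIsoSelf.app Y)
  change IsZero (X ⊗ Y)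
  rw [IsZero.iff_id_eq_zero, ← MonoidalCategory.id_tensorHom_id, hX.eq_of_src (𝟙 X) 0,
    MonoidalPreadditive.zero_tensor]

/-- `pd X < i` implies `Tor_i(X, Y) = 0`. -/
theorem isZero_tor_of_hasProjectiveDimensionLT :
    ∀ (i : ℕ) (X : ModuleCat.{u} R) [HasProjectiveDimensionLT X i] (Y : ModuleCat.{u} R),
      IsZero (((Tor (ModuleCat.{u} R) i).obj X).obj Y)
  | 0, X, h, Y => isZero_tor_zero_of_isZero X Y (isZero_of_hasProjectiveDimensionLT_zero X)
  | 1, X, h, Y => by
      haveI : Projective X := projective_iff_hasProjectiveDimensionLT_one.2 h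
      exact isZero_tor_of_flat Y X 1 Nat.one_pos
  | (i + 2), X, h, Y => by
      let S : ShortComplex (ModuleCat.{u} R) :=
        ShortComplex.mk (kernel.ι (Projective.π X)) (Projective.π X) (kernel.condition _)
      have hS : S.ShortExact :=
        { exact := ShortComplex.exact_of_f_is_kernel _ (kernelIsKernel _)
          mono_f := inferInstanceAs (Mono (kernel.ι (Projective.π X)))
          epi_g := inferInstanceAs (Epi (Projective.π X)) }
      haveI : Projective S.X₂ := inferInstanceAs (Projective (Projective.over X))
      haveI : HasProjectiveDimensionLT S.X₃ (i + 2) := h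
      haveI : HasProjectiveDimensionLT S.X₁ (i + 1) :=
        (hS.hasProjectiveDimensionLT_X₃_iff i inferInstance).1 inferInstance
      have h1 := isZero_tor_of_hasProjectiveDimensionLT (i + 1) S.X₁ Y
      have h2 : IsZero (((Tor (ModuleCat.{u} R) (i + 2)).obj S.X₂).obj Y) :=
        isZero_tor_of_flat Y S.X₂ (i + 2) (Nat.succ_pos _)
      exact isZero_tor_X₃ S hS Y (i + 1) h2 h1

/-- If `Tor_1(K, N) = 0` for every `N` then `K` is flat. -/
theorem flat_of_isZero_tor_one (K : ModuleCat.{u} R)
    (h : ∀ N : ModuleCat.{u} R, IsZero (((Tor (ModuleCat.{u} R) 1).obj K).obj N)) :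
    Module.Flat R K := by
  rw [Module.Flat.iff_lTensor_injective']
  intro I
  let S : ShortComplex (ModuleCat.{u} R) :=
    ShortComplex.mk (ModuleCat.ofHom (I.subtype)) (ModuleCat.ofHom (Submodule.mkQ I)) (by
      ext x
      exact (Submodule.Quotient.mk_eq_zero I).2 x.2)
  have hS : S.ShortExact :=
    { exact := by
        rw [ShortComplex.ShortExact.moduleCat_exact_iff_function_exact]
        exact LinearMap.exact_subtype_mkQ I
      mono_f := (ModuleCat.mono_iff_injective _).2 (Submodule.injective_subtype I)
      epi_g := (ModuleCat.epi_iff_surjective _).2 (Submodule.mkQ_surjective I) }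
  have h2 : IsZero (((Tor (ModuleCat.{u} R) 1).obj K).obj S.X₂) := h _
  exact (isZero_tor_one_iff_lTensor_injective K S hS h2).1 (h _)

/-- `Tor_0(X, R) = 0` implies `X = 0`. -/
theorem isZero_of_isZero_tor_zero (X : ModuleCat.{u} R)
    (h : IsZero (((Tor (ModuleCat.{u} R) 0).obj X).obj (𝟙_ (ModuleCat.{u} R)))) : IsZero X := by
  let F := (tensoringLeft (ModuleCat.{u} R)).obj X
  have h1 : IsZero (X ⊗ 𝟙_ (ModuleCat.{u} R)) :=
    IsZero.of_iso h (F.leftDerivedZeroIsoSelf.app (𝟙_ (ModuleCat.{u} R))).symm
  exact IsZero.of_iso h1 (ρ_ X).symm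

end General

section Step

open Groth.Agent.Lib.Seat26.FFRes

variable {R : Type u} [CommRing R]

/-- The short exact sequence `0 → ker π → R^k → N → 0` of a step. -/
noncomputable def stepSC {𝒞 : ModuleCat.{u} R → Prop} {N : ModuleCat.{u} R} (d : StepData 𝒞 N) :
    ShortComplex (ModuleCat.{u} R) :=
  ShortComplex.mk (kernel.ι d.π) d.π (kernel.condition _)

theorem stepSC_shortExact {𝒞 : ModuleCat.{u} R → Prop} {N : ModuleCat.{u} R} (d : StepData 𝒞 N) :
    (stepSC d).ShortExact where
  exact := ShortComplex.exact_of_f_is_kernel _ (kernelIsKernel _)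
  mono_f := inferInstanceAs (Mono (kernel.ι d.π))
  epi_g := d.epi

instance stepSC_projective {𝒞 : ModuleCat.{u} R → Prop} {N : ModuleCat.{u} R} (d : StepData 𝒞 N) :
    Projective (stepSC d).X₂ :=
  ModuleCat.projective_of_free (Pi.basisFun R (Fin d.k))

/-- Dimension shifting: in a class of finitely presented modules with the one-step property,
vanishing of `Tor_i(M, -)` for `i > n` gives `pd M ≤ n`. -/
theorem hasProjectiveDimensionLT_of_tor_vanish (𝒞 : ModuleCat.{u} R → Prop)
    (hfp : ∀ N, 𝒞 N → Module.FinitePresentation R N)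
    (step : ∀ N, 𝒞 N → StepData 𝒞 N) :
    ∀ (n : ℕ) (M : ModuleCat.{u} R), 𝒞 M →
      (∀ i : ℕ, n < i → ∀ N : ModuleCat.{u} R,
        IsZero (((Tor (ModuleCat.{u} R) i).obj M).obj N)) →
      HasProjectiveDimensionLT M (n + 1)
  | 0, M, hM, h => by
      haveI := hfp M hM
      haveI : Module.Flat R M := flat_of_isZero_tor_one M (h 1 Nat.one_pos)
      haveI : Module.Projective R M := Module.Flat.projective_of_finitePresentation
      haveI : Projective M := (IsProjective.iff_projective M).1 inferInstance
      infer_instance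
  | (n + 1), M, hM, h => by
      let d := step M hM
      have hS := stepSC_shortExact d
      haveI : HasProjectiveDimensionLT (stepSC d).X₁ (n + 1) := by
        apply hasProjectiveDimensionLT_of_tor_vanish 𝒞 hfp step n (stepSC d).X₁ d.ker_mem
        intro i hi N
        exact isZero_tor_X₁ (stepSC d) hS N i (h (i + 1) (by omega) N)
          (isZero_tor_of_flat N (stepSC d).X₂ i (by omega))
      exact (hS.hasProjectiveDimensionLT_X₃_iff n inferInstance).2 inferInstance

/-- Projective dimension equals Tor-dimension in a class of finitely presented modules with the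
one-step property. -/
theorem projectiveDimension_eq_sInf_tor (𝒞 : ModuleCat.{u} R → Prop)
    (hfp : ∀ N, 𝒞 N → Module.FinitePresentation R N)
    (step : ∀ N, 𝒞 N → StepData 𝒞 N) (M : ModuleCat.{u} R) (hM : 𝒞 M) :
    projectiveDimension M =
      sInf {n : WithBot ℕ∞ | ∀ i : ℕ, n < i → ∀ N : ModuleCat.{u} R,
        IsZero (((Tor (ModuleCat.{u} R) i).obj M).obj N)} := by
  apply le_antisymm
  · apply le_sInf
    intro n hn
    induction n with
    | bot =>
      rw [le_bot_iff, projectiveDimension_eq_bot_iff]
      apply isZero_of_isZero_tor_zero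
      exact hn 0 (by exact WithBot.bot_lt_coe _) _
    | coe n =>
      induction n with
      | top => exact le_top
      | coe m =>
        change projectiveDimension M ≤ ((m : ℕ) : WithBot ℕ∞)
        rw [projectiveDimension_le_iff]
        apply hasProjectiveDimensionLT_of_tor_vanish 𝒞 hfp step m M hM
        intro i hi N
        exact hn i (by exact_mod_cast hi) N
  · apply sInf_le
    intro i hi N
    haveI : HasProjectiveDimensionLT M i := projectiveDimension_lt_iff.1 hi
    exact isZero_tor_of_hasProjectiveDimensionLT i M N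

end Step

end Groth.Agent.Lib.Seat26.TorDim
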