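import Mathlib.Tactic
import Groth.Prelude.Def_NonAbH2
import Groth.Agent.Lib.Seat27ExactSeqUse

/-!
# Extensions `1 → G → E → P → 1` with `G` commutative: centrality and commutativity criteria (seat 27)

`central_of_exact`: if every morphism `P ⊗ G ⟶ G` trivial on the two axes is trivial, then `u(G)` is central in `E`.
`isCommMonObj_of_exact`: if moreover `P` is commutative and every morphism `P ⊗ P ⟶ G` trivial on the axes is trivial,
then `E` is commutative.
-/

set_option autoImplicit false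
universe u

open CategoryTheory MonoidalCategory CartesianMonoidalCategory MonObj GrpObj AlgebraicGeometry CategoryTheory.Limits

namespace Groth.Agent.Lib.Seat27.CentralExt

open Groth.Agent.Lib.Seat27.ExactSeqUse

variable {S : Scheme.{u}} {K : Precoverage Scheme.{u}} (hK : K ≤ Scheme.fpqcPrecoverage)
  [K.IsStableUnderBaseChange]
variable {P G E : Over S} [GrpObj P] [GrpObj G] [GrpObj E] [IsCommMonObj G]
  {u : G ⟶ E} {v : E ⟶ P}

include hK in
theorem central_of_exact (hex : NonAbH1.IsExactSeq K u v)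
    (hPG : ∀ f : P ⊗ G ⟶ G, lift (𝟙 P) (toUnit P ≫ η[G]) ≫ f = 1 →
      lift (toUnit G ≫ η[P]) (𝟙 G) ≫ f = 1 → f = 1) :
    ∀ (T : Over S) (g : T ⟶ G) (x : T ⟶ E), (g ≫ u) * x = x * (g ≫ u) := by
  have hu : IsMonHom u := hex.1
  have hv : IsMonHom v := hex.2.1
  have huv : u ≫ v = 1 := hex.2.2.1
  have hmono := mono_u hex
  have hepi := epi_v hK hex
  -- the commutator map `(x, g) ↦ x u(g) x⁻¹ u(g)⁻¹`
  let comm : E ⊗ G ⟶ E := (fst E G * (snd E G ≫ u)) * (fst E G)⁻¹ * (snd E G ≫ u)⁻¹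
  have hcomm_v : comm ≫ v = 1 := by
    simp only [comm, MonObj.mul_comp _ _ v, GrpObj.inv_comp _ v, Category.assoc, huv,
      MonObj.comp_one]
    group
  obtain ⟨c, hc⟩ := exists_of_comp_eq_one hex comm hcomm_v
  have hpt : ∀ (T : Over S) (x : T ⟶ E) (g : T ⟶ G),
      (lift x g ≫ c) ≫ u = x * (g ≫ u) * x⁻¹ * (g ≫ u)⁻¹ := by
    intro T x g
    rw [Category.assoc, hc]
    simp only [comm, MonObj.comp_mul, GrpObj.comp_inv, lift_snd_assoc, lift_fst]
  have hinv : ∀ (T : Over S) (x : T ⟶ E) (g₀ : T ⟶ G) (g : T ⟶ G),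
      lift (x * (g₀ ≫ u)) g ≫ c = lift x g ≫ c := by
    intro T x g₀ g
    rw [← cancel_mono u, hpt, hpt]
    have hab : Commute (g₀ ≫ u) (g ≫ u) := by
      change (g₀ ≫ u) * (g ≫ u) = (g ≫ u) * (g₀ ≫ u)
      rw [← MonObj.mul_comp _ _ u, ← MonObj.mul_comp _ _ u, mul_comm]
    have h1 : x * (g₀ ≫ u) * (g ≫ u) * (x * (g₀ ≫ u))⁻¹ = x * (g ≫ u) * x⁻¹ := by
      have : x * (g₀ ≫ u) * (g ≫ u) * (x * (g₀ ≫ u))⁻¹ =
          x * ((g₀ ≫ u) * (g ≫ u) * (g₀ ≫ u)⁻¹) * x⁻¹ := by group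
      rw [this, hab.mul_inv_cancel]
    rw [h1]
  obtain ⟨cb, hcb, -⟩ := existsUnique_desc_right hK hex G c hinv
  have hcb1 : cb = 1 := by
    apply hPG
    · rw [← cancel_epi v, MonObj.comp_one]
      have e1 : v ≫ lift (𝟙 P) (toUnit P ≫ η[G]) = lift (𝟙 E) (1 : E ⟶ G) ≫ (v ▷ G) := by
        apply CartesianMonoidalCategory.hom_ext
        · simp
        · simp [Hom.one_def]
      rw [← Category.assoc, e1, Category.assoc, hcb, ← cancel_mono u, hpt, MonObj.one_comp u]
      group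
    · have e1 : lift (toUnit G ≫ η[P]) (𝟙 G) = lift (1 : G ⟶ E) (𝟙 G) ≫ (v ▷ G) := by
        apply CartesianMonoidalCategory.hom_ext
        · simp only [lift_fst, Category.assoc, whiskerRight_fst, lift_fst_assoc]
          rw [MonObj.one_comp v, Hom.one_def]
        · simp
      rw [e1, Category.assoc, hcb, ← cancel_mono u, hpt, MonObj.one_comp u]
      group
  have hc1 : c = 1 := by rw [← hcb, hcb1, MonObj.comp_one]
  intro T g x
  have h := hpt T x g
  rw [hc1, MonObj.comp_one, MonObj.one_comp u] at h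
  have h2 : x * (g ≫ u) * x⁻¹ = g ≫ u := by
    have := h.symm
    rwa [mul_inv_eq_one] at this
  have h3 : x * (g ≫ u) = (g ≫ u) * x :=
    calc x * (g ≫ u) = (x * (g ≫ u) * x⁻¹) * x := by group
      _ = (g ≫ u) * x := by rw [h2]
  exact h3.symm

include hK in
theorem isCommMonObj_of_exact (hex : NonAbH1.IsExactSeq K u v)
    (hcentral : ∀ (T : Over S) (g : T ⟶ G) (x : T ⟶ E), (g ≫ u) * x = x * (g ≫ u))
    [IsCommMonObj P]
    (hPP : ∀ f : P ⊗ P ⟶ G, lift (𝟙 P) (toUnit P ≫ η[P]) ≫ f = 1 →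
      lift (toUnit P ≫ η[P]) (𝟙 P) ≫ f = 1 → f = 1) :
    IsCommMonObj E := by
  have hu : IsMonHom u := hex.1
  have hv : IsMonHom v := hex.2.1
  have huv : u ≫ v = 1 := hex.2.2.1
  have hmono := mono_u hex
  have hepi := epi_v hK hex
  let comm : E ⊗ E ⟶ E := fst E E * snd E E * (fst E E)⁻¹ * (snd E E)⁻¹
  have hcomm_v : comm ≫ v = 1 := by
    simp only [comm, MonObj.mul_comp _ _ v, GrpObj.inv_comp _ v]
    rw [mul_comm (fst E E ≫ v) (snd E E ≫ v)]
    group
  obtain ⟨d, hd⟩ := exists_of_comp_eq_one hex comm hcomm_v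
  have hpt : ∀ (T : Over S) (x y : T ⟶ E), (lift x y ≫ d) ≫ u = x * y * x⁻¹ * y⁻¹ := by
    intro T x y
    rw [Category.assoc, hd]
    simp only [comm, MonObj.comp_mul, GrpObj.comp_inv, lift_fst, lift_snd]
  have hφ₁ : ∀ (T : Over S) (x y : T ⟶ E) (g' : T ⟶ G),
      lift (x * (g' ≫ u)) y ≫ d = lift x y ≫ d := by
    intro T x y g'
    rw [← cancel_mono u, hpt, hpt]
    have hc : Commute (g' ≫ u) y := hcentral T g' y
    have : x * (g' ≫ u) * y * (x * (g' ≫ u))⁻¹ * y⁻¹ =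
        x * ((g' ≫ u) * y * (g' ≫ u)⁻¹) * x⁻¹ * y⁻¹ := by group
    rw [this, hc.mul_inv_cancel]
  have hφ₂ : ∀ (T : Over S) (x y : T ⟶ E) (g' : T ⟶ G),
      lift x (y * (g' ≫ u)) ≫ d = lift x y ≫ d := by
    intro T x y g'
    rw [← cancel_mono u, hpt, hpt]
    have hc : Commute (g' ≫ u) x⁻¹ := hcentral T g' x⁻¹
    have : x * (y * (g' ≫ u)) * x⁻¹ * (y * (g' ≫ u))⁻¹ =
        x * y * ((g' ≫ u) * x⁻¹ * (g' ≫ u)⁻¹) * y⁻¹ := by group
    rw [this, hc.mul_inv_cancel]
  obtain ⟨db, hdb, -⟩ := existsUnique_desc₂ hK hex d hφ₁ hφ₂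
  have hdb1 : db = 1 := by
    apply hPP
    · rw [← cancel_epi v, MonObj.comp_one]
      have e1 : v ≫ lift (𝟙 P) (toUnit P ≫ η[P]) = lift (𝟙 E) (1 : E ⟶ E) ≫ (v ⊗ₘ v) := by
        apply CartesianMonoidalCategory.hom_ext
        · simp
        · simp only [Category.assoc, lift_snd, tensorHom_snd, lift_snd_assoc]
          rw [MonObj.one_comp v, Hom.one_def, ← Category.assoc]
          congr 1
          exact toUnit_unique _ _
      rw [← Category.assoc, e1, Category.assoc, hdb, ← cancel_mono u, hpt, MonObj.one_comp u]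
      group
    · rw [← cancel_epi v, MonObj.comp_one]
      have e1 : v ≫ lift (toUnit P ≫ η[P]) (𝟙 P) = lift (1 : E ⟶ E) (𝟙 E) ≫ (v ⊗ₘ v) := by
        apply CartesianMonoidalCategory.hom_ext
        · simp only [Category.assoc, lift_fst, tensorHom_fst, lift_fst_assoc]
          rw [MonObj.one_comp v, Hom.one_def, ← Category.assoc]
          congr 1
          exact toUnit_unique _ _
        · simp
      rw [← Category.assoc, e1, Category.assoc, hdb, ← cancel_mono u, hpt, MonObj.one_comp u]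
      group
  have hd1 : d = 1 := by rw [← hdb, hdb1, MonObj.comp_one]
  rw [isCommMonObj_iff_isMulCommutative]
  intro T
  refine ⟨⟨fun x y => ?_⟩⟩
  have h := hpt T x y
  rw [hd1, MonObj.comp_one, MonObj.one_comp u] at h
  have h2 : x * y * x⁻¹ = y := by
    have := h.symm
    rwa [mul_inv_eq_one] at this
  calc x * y = (x * y * x⁻¹) * x := by group
    _ = y * x := by rw [h2]

end Groth.Agent.Lib.Seat27.CentralExt
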