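import Mathlib.Tactic
import Groth.Prelude.Def_Red2
import Groth.Prelude.Def_SGA3x
import Groth.Agent.Lib.Helper27GaGm
import Groth.Agent.Lib.Seat27DSPoints

/-!
# Homomorphisms from groups of multiplicative type to the additive group are trivial (seat 27)
-/

set_option autoImplicit false
universe u

open CategoryTheory MonoidalCategory CartesianMonoidalCategory MonObj GrpObj AlgebraicGeometry CategoryTheory.Limits
open Groth.Agent.Lib.Helper27.GaGm Groth.Agent.Lib.Seat27.DSPoints

namespace Groth.Agent.Lib.Seat27.DiagToGa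

section Algebra

variable {B G : Type*} [Ring B] [Monoid G]

/-- An element of the group algebra whose image under the diagonal is the sum of its images under the two
inclusions (a primitive element) is zero. -/
theorem eq_zero_of_diag (a : MonoidAlgebra B G)
    (h : MonoidAlgebra.mapDomainRingHom B (MonoidHom.prod (MonoidHom.id G) (MonoidHom.id G)) a =
      MonoidAlgebra.mapDomainRingHom B (MonoidHom.inl G G) a +
        MonoidAlgebra.mapDomainRingHom B (MonoidHom.inr G G) a) : a = 0 := by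
  classical
  have hd : Function.Injective (MonoidHom.prod (MonoidHom.id G) (MonoidHom.id G)) := by
    intro x y hxy
    exact congrArg Prod.fst hxy
  have hl : Function.Injective (MonoidHom.inl G G) := by
    intro x y hxy
    exact congrArg Prod.fst hxy
  have hr : Function.Injective (MonoidHom.inr G G) := by
    intro x y hxy
    exact congrArg Prod.snd hxy
  ext g
  have hg := congrArg (fun z => z.coeff (g, g)) h
  simp only [MonoidAlgebra.coeff_add, MonoidAlgebra.mapDomainRingHom_apply,
    Finsupp.add_apply] at hg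
  have e1 : (MonoidAlgebra.mapDomain (MonoidHom.prod (MonoidHom.id G) (MonoidHom.id G)) a).coeff (g, g) =
      a.coeff g := Finsupp.mapDomain_apply hd a.coeff g
  rw [e1] at hg
  by_cases hg1 : g = 1
  · subst hg1
    have e2 : (MonoidAlgebra.mapDomain (MonoidHom.inl G G) a).coeff ((1 : G), (1 : G)) = a.coeff 1 :=
      Finsupp.mapDomain_apply hl a.coeff 1
    have e3 : (MonoidAlgebra.mapDomain (MonoidHom.inr G G) a).coeff ((1 : G), (1 : G)) = a.coeff 1 :=
      Finsupp.mapDomain_apply hr a.coeff 1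
    rw [e2, e3] at hg
    simpa using hg
  · have e2 : (MonoidAlgebra.mapDomain (MonoidHom.inl G G) a).coeff (g, g) = 0 := by
      refine Finsupp.mapDomain_of_notMem_range (f := MonoidHom.inl G G) a.coeff (g, g) ?_
      rintro ⟨x, hx⟩
      exact hg1 (congrArg Prod.snd hx).symm
    have e3 : (MonoidAlgebra.mapDomain (MonoidHom.inr G G) a).coeff (g, g) = 0 := by
      refine Finsupp.mapDomain_of_notMem_range (f := MonoidHom.inr G G) a.coeff (g, g) ?_
      rintro ⟨x, hx⟩
      exact hg1 (congrArg Prod.fst hx).symm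
    rw [e2, e3] at hg
    simpa using hg

end Algebra

section Sec

variable {D D' : Type u} [CommRing D] [CommRing D']

/-- the global function on `Spec D` attached to `d : D`. -/
noncomputable def sec (d : D) : Γ(Spec (CommRingCat.of D), ⊤) :=
  (Scheme.ΓSpecIso (CommRingCat.of D)).inv d

/-- `sec` as a ring homomorphism. -/
noncomputable def secHom : D →+* Γ(Spec (CommRingCat.of D), ⊤) :=
  (Scheme.ΓSpecIso (CommRingCat.of D)).inv.hom

lemma secHom_apply (d : D) : secHom d = sec d := rfl

lemma sec_mul (a b : D) : sec (a * b) = sec a * sec b := map_mul secHom a b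

lemma sec_add (a b : D) : sec (a + b) = sec a + sec b := map_add secHom a b

lemma sec_zero : sec (0 : D) = 0 := map_zero secHom

lemma sec_injective : Function.Injective (sec : D → _) := by
  intro a b h
  have := congrArg (fun z => (Scheme.ΓSpecIso (CommRingCat.of D)).hom z) h
  simpa [sec] using this

lemma sec_hom (a : Γ(Spec (CommRingCat.of D), ⊤)) :
    sec ((Scheme.ΓSpecIso (CommRingCat.of D)).hom a) = a := by
  simp [sec]

lemma specMap_appTop_sec (φ : D →+* D') (d : D) :
    (Spec.map (CommRingCat.ofHom φ)).appTop (sec d) = sec (φ d) := by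
  have := Scheme.ΓSpecIso_inv_naturality (CommRingCat.ofHom φ)
  have h2 := congrArg (fun k => k.hom d) this
  simp only [CommRingCat.hom_comp, RingHom.comp_apply, CommRingCat.hom_ofHom] at h2
  exact h2.symm

end Sec

section Local

variable {S : Scheme.{u}} {M : Type} [AddCommGroup M]

/-- `Spec D` as an `S`-scheme through `Spec D ⟶ Spec Γ(T) ≅ T ⟶ S`. -/
noncomputable def ov (T : Over S) [IsAffine T.left] {D : Type u} [CommRing D] (ψ : Γ(T.left, ⊤) →+* D) : Over S :=
  Over.mk (Spec.map (CommRingCat.ofHom ψ) ≫ T.left.isoSpec.inv ≫ T.hom)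

/-- the morphism of `S`-schemes `Spec D' ⟶ Spec D` of a ring map compatible with the structure maps. -/
noncomputable def ovMap (T : Over S) [IsAffine T.left] {D D' : Type u} [CommRing D] [CommRing D']
    (ψ : Γ(T.left, ⊤) →+* D) (ψ' : Γ(T.left, ⊤) →+* D') (φ : D →+* D') (h : φ.comp ψ = ψ') :
    ov T ψ' ⟶ ov T ψ :=
  Over.homMk (Spec.map (CommRingCat.ofHom φ)) (by
    change Spec.map _ ≫ Spec.map _ ≫ _ = Spec.map _ ≫ _
    rw [← Category.assoc, ← Spec.map_comp, ← CommRingCat.ofHom_comp, h])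

@[simp] lemma ovMap_left (T : Over S) [IsAffine T.left] {D D' : Type u} [CommRing D] [CommRing D']
    (ψ : Γ(T.left, ⊤) →+* D) (ψ' : Γ(T.left, ⊤) →+* D') (φ : D →+* D') (h : φ.comp ψ = ψ') :
    (ovMap T ψ ψ' φ h).left = Spec.map (CommRingCat.ofHom φ) := rfl

/-- `T ⟶ Spec Γ(T)` as a morphism of `S`-schemes, for `T` affine. -/
noncomputable def toOv (T : Over S) [IsAffine T.left] : T ⟶ ov T (RingHom.id _) :=
  Over.homMk T.left.isoSpec.hom (by
    change _ ≫ Spec.map _ ≫ _ ≫ _ = _
    have : CommRingCat.ofHom (RingHom.id Γ(T.left, ⊤)) = 𝟙 _ := rfl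
    rw [this, Spec.map_id]
    erw [Category.id_comp]
    rw [Iso.hom_inv_id_assoc])

lemma toOv_appTop_sec (T : Over S) [IsAffine T.left] (b : Γ(T.left, ⊤)) :
    (toOv T).left.appTop (sec b) = b := by
  change T.left.isoSpec.hom.appTop (sec b) = b
  rw [Scheme.isoSpec_hom, Scheme.toSpecΓ_appTop]
  simp [sec]

/-- Natural additive maps on points of `D_S(M)` with values in functions vanish on affine points. -/
theorem additive_natural_eq_zero
    (θ : ∀ (T : Over S), (T ⟶ Red.DS S M) → Γ(T.left, ⊤))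
    (hnat : ∀ (T T' : Over S) (g : T' ⟶ T) (x : T ⟶ Red.DS S M),
      θ T' (g ≫ x) = g.left.appTop (θ T x))
    (hadd : ∀ (T : Over S) (x y : T ⟶ Red.DS S M), θ T (x * y) = θ T x + θ T y)
    (T : Over S) [IsAffine T.left] (x : T ⟶ Red.DS S M) : θ T x = 0 := by
  -- the universal point over `Spec B[M]`
  let ψ : Γ(T.left, ⊤) →+* MonoidAlgebra Γ(T.left, ⊤) (Multiplicative M) := algebraMap _ _
  obtain ⟨xu, hxu⟩ := dsChar_surj (S := S) (M := M) (X := ov T ψ)
    (MonoidHom.comp (RingHom.toMonoidHom (secHom (D := MonoidAlgebra Γ(T.left, ⊤) (Multiplicative M))))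
      (MonoidAlgebra.of Γ(T.left, ⊤) (Multiplicative M)))
  have hxu' : ∀ m : M, dsChar xu m = sec (MonoidAlgebra.single (Multiplicative.ofAdd m) (1 : Γ(T.left, ⊤))) := by
    intro m
    rw [hxu]
    rfl
  -- pulling back the universal point
  have hpull : ∀ {D : Type u} [CommRing D] (ψ' : Γ(T.left, ⊤) →+* D)
      (φ : MonoidAlgebra Γ(T.left, ⊤) (Multiplicative M) →+* D) (h : φ.comp ψ = ψ') (m : M),
      dsChar (ovMap T ψ ψ' φ h ≫ xu) m =
        sec (φ (MonoidAlgebra.single (Multiplicative.ofAdd m) (1 : Γ(T.left, ⊤)))) := by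
    intro D _ ψ' φ h m
    rw [dsChar_comp, hxu']
    exact specMap_appTop_sec φ _
  -- the element `a`
  obtain ⟨a, ha⟩ : ∃ a, θ (ov T ψ) xu = sec a := ⟨_, (sec_hom _).symm⟩
  have hpullθ : ∀ {D : Type u} [CommRing D] (ψ' : Γ(T.left, ⊤) →+* D)
      (φ : MonoidAlgebra Γ(T.left, ⊤) (Multiplicative M) →+* D) (h : φ.comp ψ = ψ'),
      θ (ov T ψ') (ovMap T ψ ψ' φ h ≫ xu) = sec (φ a) := by
    intro D _ ψ' φ h
    rw [hnat, ha]
    exact specMap_appTop_sec φ a
  -- `a = 0`
  have ha0 : a = 0 := by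
    apply eq_zero_of_diag
    let ψ₂ : Γ(T.left, ⊤) →+* MonoidAlgebra Γ(T.left, ⊤) (Multiplicative M × Multiplicative M) :=
      algebraMap _ _
    have h12 := MonoidAlgebra.mapDomainRingHom_comp_algebraMap (R := Γ(T.left, ⊤)) (A := Γ(T.left, ⊤))
      (MonoidHom.prod (MonoidHom.id (Multiplicative M)) (MonoidHom.id (Multiplicative M)))
    have h1 := MonoidAlgebra.mapDomainRingHom_comp_algebraMap (R := Γ(T.left, ⊤)) (A := Γ(T.left, ⊤))
      (MonoidHom.inl (Multiplicative M) (Multiplicative M))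
    have h2 := MonoidAlgebra.mapDomainRingHom_comp_algebraMap (R := Γ(T.left, ⊤)) (A := Γ(T.left, ⊤))
      (MonoidHom.inr (Multiplicative M) (Multiplicative M))
    have hmul : ovMap T ψ ψ₂ _ h12 ≫ xu = (ovMap T ψ ψ₂ _ h1 ≫ xu) * (ovMap T ψ ψ₂ _ h2 ≫ xu) := by
      apply dsChar_ext
      intro m
      rw [dsChar_mul, hpull, hpull, hpull]
      refine Eq.trans ?_ (sec_mul _ _)
      congr 1
      simp [MonoidAlgebra.single_mul_single]
    have := hadd _ (ovMap T ψ ψ₂ _ h1 ≫ xu) (ovMap T ψ ψ₂ _ h2 ≫ xu)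
    rw [← hmul, hpullθ, hpullθ, hpullθ] at this
    exact sec_injective (this.trans (sec_add _ _).symm)
  -- the given point is a pullback of the universal one
  let χ : Multiplicative M →* Γ(T.left, ⊤) :=
    { toFun := fun m => dsChar x (Multiplicative.toAdd m)
      map_one' := dsChar_zero x
      map_mul' := fun m m' => dsChar_add x _ _ }
  let φx : MonoidAlgebra Γ(T.left, ⊤) (Multiplicative M) →+* Γ(T.left, ⊤) :=
    (MonoidAlgebra.lift Γ(T.left, ⊤) Γ(T.left, ⊤) (Multiplicative M) χ).toRingHom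
  have hφx : φx.comp ψ = RingHom.id _ := by
    ext b
    simp [φx, ψ]
  have hx : toOv T ≫ ovMap T ψ (RingHom.id _) φx hφx ≫ xu = x := by
    apply dsChar_ext
    intro m
    rw [dsChar_comp, hpull, toOv_appTop_sec]
    simp [φx, χ]
  have h0 : θ (ov T ψ) xu = 0 := by
    rw [ha, ha0]
    exact sec_zero
  rw [← hx, hnat, hnat, h0, map_zero, map_zero]

end Local

section Global

variable {S : Scheme.{u}}

/-- A jointly surjective family of flat morphisms is jointly epimorphic. -/
theorem hom_ext_of_flat_jointly_surjective {X Y : Scheme.{u}} {I : Type u} (Z : I → Scheme.{u})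
    (p : ∀ i, Z i ⟶ X) [∀ i, Flat (p i)] (hsurj : ∀ x : X, ∃ i, x ∈ Set.range (p i).base)
    (a b : X ⟶ Y) (h : ∀ i, p i ≫ a = p i ≫ b) : a = b := by
  have h1 : Flat (Sigma.desc p) := IsZariskiLocalAtSource.sigmaDesc (fun i => inferInstance)
  have h2 : Surjective (Sigma.desc p) := ⟨fun x => by
    obtain ⟨i, z, hz⟩ := hsurj x
    refine ⟨(Sigma.ι Z i).base z, ?_⟩
    rw [← Scheme.Hom.comp_apply, Sigma.ι_desc]
    exact hz⟩
  have := Flat.epi_of_flat_of_surjective (Sigma.desc p)
  rw [← cancel_epi (Sigma.desc p)]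
  apply Sigma.hom_ext
  intro i
  rw [Sigma.ι_desc_assoc, Sigma.ι_desc_assoc]
  exact h i

/-- naturality of `adjEquiv` in the source. -/
lemma adjEquiv_comp {Z : Scheme.{u}} (g : S ⟶ Z) (G : Over Z) [GrpObj G] {X X' : Over S} (k : X' ⟶ X)
    (y : X ⟶ Red.bc g G) :
    adjEquiv g G X' (k ≫ y) = (Over.map g).map k ≫ adjEquiv g G X y := by
  unfold adjEquiv
  exact Adjunction.homEquiv_naturality_left_symm _ _ _

/-- The local statement: if the base change of `H` along `g : U ⟶ S` is isomorphic (as a group) to `D_U(M)`, then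
`u` is trivial after base change along `g`. -/
theorem local_eq (H : Over S) [GrpObj H] (u : H ⟶ Red.Ga S) [IsMonHom u]
    {U : Scheme.{u}} (g : U ⟶ S) (M : Type) [AddCommGroup M]
    (e : Red.bc g H ≅ Red.DS U M) [IsMonHom e.inv] :
    pullback.fst H.hom g ≫ u.left = pullback.fst H.hom g ≫ (1 : H ⟶ Red.Ga S).left := by
  -- the natural additive map
  let θ : ∀ (T : Over U), (T ⟶ Red.DS U M) → Γ(T.left, ⊤) := fun T x =>
    Red.gaFn (S := S) (X := (Over.map g).obj T) (adjEquiv g H T (x ≫ e.inv) ≫ u)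
  have key := additive_natural_eq_zero (S := U) (M := M) θ
    (by
      intro T T' k x
      change Red.gaFn (S := S) (X := (Over.map g).obj T') (adjEquiv g H T' ((k ≫ x) ≫ e.inv) ≫ u) =
        ((Over.map g).map k).left.appTop
          (Red.gaFn (S := S) (X := (Over.map g).obj T) (adjEquiv g H T (x ≫ e.inv) ≫ u))
      rw [Category.assoc, adjEquiv_comp, Category.assoc, gaFn_comp])
    (by
      intro T x y
      change Red.gaFn (S := S) (X := (Over.map g).obj T) (adjEquiv g H T ((x * y) ≫ e.inv) ≫ u) =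
        Red.gaFn (S := S) (X := (Over.map g).obj T) (adjEquiv g H T (x ≫ e.inv) ≫ u) +
        Red.gaFn (S := S) (X := (Over.map g).obj T) (adjEquiv g H T (y ≫ e.inv) ≫ u)
      rw [MonObj.mul_comp _ _ e.inv, adjEquiv_mul, MonObj.mul_comp _ _ u, gaFn_mul])
  apply Scheme.Cover.hom_ext (Red.bc g H).left.affineCover
  intro i
  let T : Over U := Over.mk ((Red.bc g H).left.affineCover.f i ≫ (Red.bc g H).hom)
  let y : T ⟶ Red.bc g H := Over.homMk ((Red.bc g H).left.affineCover.f i) rfl
  have hT : IsAffine T.left := inferInstanceAs (IsAffine ((Red.bc g H).left.affineCover.X i))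
  have h0 : Red.gaFn (S := S) (X := (Over.map g).obj T) (adjEquiv g H T ((y ≫ e.hom) ≫ e.inv) ≫ u) = 0 :=
    key T (y ≫ e.hom)
  simp only [Category.assoc, Iso.hom_inv_id, Category.comp_id] at h0
  have h1 : adjEquiv g H T y ≫ u = 1 := by
    apply gaFn_injective
    rw [h0, gaFn_one]
  have h2 : adjEquiv g H T y ≫ (1 : H ⟶ Red.Ga S) = 1 := MonObj.comp_one _
  have h3 := congrArg Over.Hom.left (h1.trans h2.symm)
  rw [Over.comp_left, Over.comp_left, adjEquiv_left] at h3
  simp only [Category.assoc] at h3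
  exact h3

/-- Every homomorphism from a group of multiplicative type (of finite type) to the additive group is trivial. -/
theorem hom_multTypeFT_to_Ga_eq_one (H : Over S) [GrpObj H] (hH : SGA3x.IsMultTypeFT H)
    (u : H ⟶ Red.Ga S) [IsMonHom u] : u = 1 := by
  obtain ⟨S', f, hflat, hsurj, -, hloc⟩ := hH
  apply Over.OverMorphism.ext
  choose U hU hrest using hloc
  refine hom_ext_of_flat_jointly_surjective (I := S') (fun s' => pullback H.hom ((U s').ι ≫ f))
    (fun s' => pullback.fst H.hom ((U s').ι ≫ f)) ?_ _ _ ?_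
  · intro h
    obtain ⟨s', hs'⟩ := hsurj.surj (H.hom.base h)
    obtain ⟨z, hz, -⟩ := Scheme.Pullback.exists_preimage_pullback (f := H.hom) (g := (U s').ι ≫ f) h
      (⟨s', hU s'⟩ : (U s')) (by
        rw [Scheme.Hom.comp_apply]
        exact hs'.symm)
    exact ⟨s', z, hz⟩
  · intro s'
    obtain ⟨M, _, -, ⟨e⟩⟩ := hrest s'
    let e' : Red.bc ((U s').ι ≫ f) H ≅ Red.DS (U s') M := (Grp.forget _).mapIso e
    have : IsMonHom e'.inv := inferInstanceAs (IsMonHom e.inv.hom.hom)
    exact local_eq H u _ M e'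

end Global

end Groth.Agent.Lib.Seat27.DiagToGa
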