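import Mathlib.Tactic
import Groth.Prelude.Def_NonAbH2
import Groth.Agent.Lib.Seat27ExactSeqUse

/-!
# A morphism of extensions which is bi-equivariant for the kernel is a homomorphism (seat 27)

Two extensions `1 → G → E → P → 1`, `1 → G → E' → P → 1` exact for `K ≤ fpqc`; `f : E ⟶ E'` compatible with the maps to
`P` and from `G`, preserving the unit, and equivariant for left and right translations by `G`. If every morphism
`P ⊗ P ⟶ G` trivial on the axes is trivial, then `f` is a homomorphism.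
-/

set_option autoImplicit false
universe u

open CategoryTheory MonoidalCategory CartesianMonoidalCategory MonObj GrpObj AlgebraicGeometry CategoryTheory.Limits

namespace Groth.Agent.Lib.Seat27.ExtMor

open Groth.Agent.Lib.Seat27.ExactSeqUse

/-- a morphism of monoid objects in a cartesian monoidal category is a homomorphism as soon as it is one on points. -/
theorem isMonHom_of_points {C : Type*} [Category C] [CartesianMonoidalCategory C] {G H : C} [MonObj G] [MonObj H]
    (f : G ⟶ H) (h1 : η[G] ≫ f = η[H])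
    (hmul : (fst G G * snd G G) ≫ f = (fst G G ≫ f) * (snd G G ≫ f)) : IsMonHom f where
  one_hom := h1
  mul_hom := by
    rw [MonObj.mul_eq_mul, hmul, Hom.mul_def (fst G G ≫ f)]
    congr 1
    apply CartesianMonoidalCategory.hom_ext <;> simp

variable {S : Scheme.{u}} {K : Precoverage Scheme.{u}} (hK : K ≤ Scheme.fpqcPrecoverage)
  [K.IsStableUnderBaseChange]
variable {P G E E' : Over S} [GrpObj P] [GrpObj G] [GrpObj E] [GrpObj E']
  {u : G ⟶ E} {v : E ⟶ P} {u' : G ⟶ E'} {v' : E' ⟶ P}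

include hK in
theorem isMonHom_of_biequivariant (hex : NonAbH1.IsExactSeq K u v) (hex' : NonAbH1.IsExactSeq K u' v')
    (hPP : ∀ c : P ⊗ P ⟶ G, lift (𝟙 P) (toUnit P ≫ η[P]) ≫ c = 1 →
      lift (toUnit P ≫ η[P]) (𝟙 P) ≫ c = 1 → c = 1)
    (f : E ⟶ E') (hv : f ≫ v' = v) (h1 : η[E] ≫ f = η[E'])
    (hl : ∀ (T : Over S) (g : T ⟶ G) (x : T ⟶ E), ((g ≫ u) * x) ≫ f = (g ≫ u') * (x ≫ f))
    (hr : ∀ (T : Over S) (g : T ⟶ G) (x : T ⟶ E), (x * (g ≫ u)) ≫ f = (x ≫ f) * (g ≫ u')) :
    IsMonHom f := by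
  have hmu : IsMonHom u := hex.1
  have hmv : IsMonHom v := hex.2.1
  have hmv' : IsMonHom v' := hex'.2.1
  have hmu' : IsMonHom u' := hex'.1
  have huv : u ≫ v = 1 := hex.2.2.1
  have hmono' := mono_u hex'
  have hepi := epi_v hK hex
  have hf1 : ∀ (T : Over S), (1 : T ⟶ E) ≫ f = 1 := by
    intro T
    rw [Hom.one_def, Category.assoc, h1, ← Hom.one_def]
  -- the defect `(x, y) ↦ f(xy) (f(x) f(y))⁻¹`
  let def' : E ⊗ E ⟶ E' := ((fst E E * snd E E) ≫ f) * ((fst E E ≫ f) * (snd E E ≫ f))⁻¹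
  have hdef_v : def' ≫ v' = 1 := by
    simp only [def', MonObj.mul_comp _ _ v', GrpObj.inv_comp _ v', Category.assoc, hv]
    rw [MonObj.mul_comp _ _ v]
    group
  obtain ⟨δ, hδ⟩ := exists_of_comp_eq_one hex' def' hdef_v
  have hpt : ∀ (T : Over S) (x y : T ⟶ E),
      (lift x y ≫ δ) ≫ u' = ((x * y) ≫ f) * ((x ≫ f) * (y ≫ f))⁻¹ := by
    intro T x y
    rw [Category.assoc, hδ]
    simp only [def', MonObj.comp_mul, GrpObj.comp_inv, ← Category.assoc, lift_fst, lift_snd]
  have hφ₂ : ∀ (T : Over S) (x y : T ⟶ E) (g : T ⟶ G),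
      lift x (y * (g ≫ u)) ≫ δ = lift x y ≫ δ := by
    intro T x y g
    rw [← cancel_mono u', hpt, hpt, ← _root_.mul_assoc x y, hr, hr]
    group
  have hφ₁ : ∀ (T : Over S) (x y : T ⟶ E) (g : T ⟶ G),
      lift (x * (g ≫ u)) y ≫ δ = lift x y ≫ δ := by
    intro T x y g
    -- `u(g) y = y u(g₁)`
    obtain ⟨g₁, hg₁⟩ := exists_of_comp_eq_one hex (y⁻¹ * (g ≫ u) * y) (by
      rw [MonObj.mul_comp _ _ v, MonObj.mul_comp _ _ v, GrpObj.inv_comp _ v, Category.assoc, huv,
        MonObj.comp_one]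
      group)
    have hyg : (g ≫ u) * y = y * (g₁ ≫ u) := by rw [hg₁]; group
    have h2 : (y ≫ f) * (g₁ ≫ u') = (g ≫ u') * (y ≫ f) := by rw [← hr, ← hyg, hl]
    rw [← cancel_mono u', hpt, hpt, hr]
    have h3 : x * (g ≫ u) * y = x * y * (g₁ ≫ u) := by
      rw [_root_.mul_assoc, hyg, ← _root_.mul_assoc]
    rw [h3, hr]
    have h4 : (g₁ ≫ u') = (y ≫ f)⁻¹ * (g ≫ u') * (y ≫ f) := by
      rw [_root_.mul_assoc, ← h2]; group
    rw [h4]
    group
  obtain ⟨δb, hδb, -⟩ := existsUnique_desc₂ hK hex δ hφ₁ hφ₂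
  have hδb1 : δb = 1 := by
    apply hPP
    · rw [← cancel_epi v, MonObj.comp_one]
      have e1 : v ≫ lift (𝟙 P) (toUnit P ≫ η[P]) = lift (𝟙 E) (1 : E ⟶ E) ≫ (v ⊗ₘ v) := by
        apply CartesianMonoidalCategory.hom_ext
        · simp
        · simp only [Category.assoc, lift_snd, tensorHom_snd, lift_snd_assoc]
          rw [MonObj.one_comp v, Hom.one_def, ← Category.assoc]
          congr 1
          exact toUnit_unique _ _
      rw [← Category.assoc, e1, Category.assoc, hδb, ← cancel_mono u', hpt, hf1,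
        MonObj.one_comp u']
      group
    · rw [← cancel_epi v, MonObj.comp_one]
      have e1 : v ≫ lift (toUnit P ≫ η[P]) (𝟙 P) = lift (1 : E ⟶ E) (𝟙 E) ≫ (v ⊗ₘ v) := by
        apply CartesianMonoidalCategory.hom_ext
        · simp only [Category.assoc, lift_fst, tensorHom_fst, lift_fst_assoc]
          rw [MonObj.one_comp v, Hom.one_def, ← Category.assoc]
          congr 1
          exact toUnit_unique _ _
        · simp
      rw [← Category.assoc, e1, Category.assoc, hδb, ← cancel_mono u', hpt, hf1,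
        MonObj.one_comp u']
      group
  have hδ1 : δ = 1 := by rw [← hδb, hδb1, MonObj.comp_one]
  apply isMonHom_of_points f h1
  have h := hpt (E ⊗ E) (fst E E) (snd E E)
  rw [hδ1, MonObj.comp_one, MonObj.one_comp u'] at h
  have := h.symm
  rwa [mul_inv_eq_one] at this

end Groth.Agent.Lib.Seat27.ExtMor
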