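import Groth.Prelude.Def_AlgGrp
import Groth.Agent.Lib.Helper12Cart
import Groth.Agent.Lib.Helper12QuotGrp
import Mathlib.AlgebraicGeometry.Sites.Fpqc
import Mathlib.AlgebraicGeometry.Morphisms.FinitePresentation

/-!
# Fppf coverings of `S`-schemes: local lifting of points and descent of morphisms (helper27)

In `Over S`, a morphism `p : Y ⟶ X` whose underlying morphism of schemes is flat, surjective and locally of
finite presentation is called an fppf covering here.  Points of `X` lift to `Y` after an fppf covering, and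
morphisms into the source of a monomorphism descend along fppf coverings.
-/

set_option autoImplicit false
universe u

open CategoryTheory CategoryTheory.Limits MonoidalCategory CartesianMonoidalCategory MonObj GrpObj
  AlgebraicGeometry

namespace Groth.Agent.Lib.Seat27.FppfQuot

variable {S : Scheme.{u}}

/-- `p` is an fppf covering. -/
structure IsFppf {Y X : Over S} (p : Y ⟶ X) : Prop where
  flat : Flat p.left
  surj : Surjective p.left
  lfp : LocallyOfFinitePresentation p.left

lemma IsFppf.comp {Z Y X : Over S} {p : Z ⟶ Y} {p' : Y ⟶ X} (h : IsFppf p) (h' : IsFppf p') :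
    IsFppf (p ≫ p') := by
  obtain ⟨_, _, _⟩ := h
  obtain ⟨_, _, _⟩ := h'
  exact ⟨by rw [Over.comp_left]; infer_instance, by rw [Over.comp_left]; infer_instance,
    by rw [Over.comp_left]; infer_instance⟩

lemma IsFppf.isCov {Y X : Over S} {p : Y ⟶ X} (h : IsFppf p) : Helper12.QuotGrp.IsCov p := by
  obtain ⟨_, _, _⟩ := h
  exact Helper12.QuotGrp.IsCov.of_fppf p

lemma IsFppf.epi {Y X : Over S} {p : Y ⟶ X} (h : IsFppf p) : Epi p := h.isCov.epi

/-- Base change of an fppf covering. -/
lemma IsFppf.of_isPullback {A B C D : Over S} {f' : A ⟶ B} {g' : A ⟶ C} {g : B ⟶ D} {f : C ⟶ D}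
    (h : IsPullback f' g' g f) (hf : IsFppf f) : IsFppf f' := by
  have hL := h.map (Over.forget S)
  simp only [Over.forget_obj, Over.forget_map] at hL
  exact ⟨MorphismProperty.of_isPullback (P := @Flat) hL.flip hf.flat,
    MorphismProperty.of_isPullback (P := @Surjective) hL.flip hf.surj,
    MorphismProperty.of_isPullback (P := @LocallyOfFinitePresentation) hL.flip hf.lfp⟩

/-- Local lifting of points along an fppf covering. -/
theorem IsFppf.exists_lift {Y X Z : Over S} {p : Y ⟶ X} (hp : IsFppf p) (c : Z ⟶ X) :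
    ∃ (Z' : Over S) (π : Z' ⟶ Z) (γ : Z' ⟶ Y), IsFppf π ∧ π ≫ c = γ ≫ p :=
  ⟨pullback c p, pullback.fst c p, pullback.snd c p,
    IsFppf.of_isPullback (IsPullback.of_hasPullback c p) hp, pullback.condition⟩

/-- Descent of a morphism into the source of a monomorphism along an fppf covering. -/
theorem IsFppf.exists_desc_of_mono {Z' Z T C : Over S} {π : Z' ⟶ Z} (hπ : IsFppf π)
    (t : T ⟶ C) [Mono t] (τ' : Z' ⟶ T) (c : Z ⟶ C) (h : τ' ≫ t = π ≫ c) :
    ∃ τ : Z ⟶ T, τ ≫ t = c := by
  have := hπ.isCov.effectiveEpi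
  have := hπ.epi
  obtain ⟨τ, hτ⟩ := Helper12.exists_desc_of_isPullback π (IsPullback.of_hasPullback π π) τ' (by
    rw [← cancel_mono t, Category.assoc, Category.assoc, h, pullback.condition_assoc])
  refine ⟨τ, ?_⟩
  rw [← cancel_epi π, ← Category.assoc, hτ, h]

/-- Descent of morphisms along an fppf covering whose kernel pair is a given cartesian square. -/
theorem IsFppf.exists_desc {R Y X W : Over S} {q : Y ⟶ X} (hq : IsFppf q) {p₁ p₂ : R ⟶ Y}
    (hpb : IsPullback p₁ p₂ q q) (g : Y ⟶ W) (hg : p₁ ≫ g = p₂ ≫ g) : ∃ f : X ⟶ W, q ≫ f = g := by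
  have := hq.isCov.effectiveEpi
  exact Helper12.exists_desc_of_isPullback q hpb g hg

end Groth.Agent.Lib.Seat27.FppfQuot
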