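import Mathlib
import Groth.Agent.Lib.Seat27Hilbert90

/-!
Helper library (helper27, seat 27): Hilbert's Theorem 90 for `GL_n`, at the level of Amitsur
cocycles of a faithfully flat algebra.

* `exists_of_not_mem`: a semi-invariant element not vanishing at a prime over `p` becomes a unit
  over a basic open neighbourhood of `p`.
* `exists_lists`: flat descent of the twisted module `{v | U (1 ⊗ v) = v ⊗ 1}`: the standard basis
  vectors are `B`-linear combinations of invariant vectors.
* `exists_local_GLn`: a matrix cocycle is locally the coboundary of a matrix with invertible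
  determinant.
-/

set_option autoImplicit false
universe u

open scoped TensorProduct

namespace Groth.Agent.Lib.Seat27.GLnAlg

open Groth.Agent.Lib.Seat27.Hilbert90

variable {A B : Type u} [CommRing A] [CommRing B] [Algebra A B]

section LocalUnit

/-- A semi-invariant `l` (`u (1 ⊗ l) = l ⊗ 1`) which does not vanish at one prime over `p` becomes
invertible over a basic open neighbourhood of `p`. -/
theorem exists_of_not_mem [Module.FaithfullyFlat A B] (u : (B ⊗[A] B)ˣ) (l : B)
    (hl : (u : B ⊗[A] B) * iR l = iL l) (p : PrimeSpectrum A) (q : PrimeSpectrum B)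
    (hq : PrimeSpectrum.comap (algebraMap A B) q = p) (hlq : l ∉ q.asIdeal) :
    ∃ (f : A) (b : B) (m : ℕ), f ∉ p.asIdeal ∧ b * l = (algebraMap A B f) ^ m := by
  have hsurj : Function.Surjective (PrimeSpectrum.comap (algebraMap A B)) :=
    PrimeSpectrum.comap_surjective_of_faithfullyFlat
  have hquot : Topology.IsQuotientMap (PrimeSpectrum.comap (algebraMap A B)) :=
    PrimeSpectrum.isQuotientMap_of_generalizingMap hsurj
      (RingHom.Flat.generalizingMap_comap
        ((RingHom.flat_algebraMap_iff).2 (inferInstance : Module.Flat A B)))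
  set Z : Set (PrimeSpectrum A) :=
    PrimeSpectrum.comap (algebraMap A B) '' PrimeSpectrum.zeroLocus {l} with hZ
  have hpre : PrimeSpectrum.comap (algebraMap A B) ⁻¹' Z = PrimeSpectrum.zeroLocus {l} := by
    ext q'
    constructor
    · rintro ⟨q'', hq'', e⟩
      rw [PrimeSpectrum.mem_zeroLocus, Set.singleton_subset_iff] at hq'' ⊢
      exact mem_of_mem_of_comap_eq u l hl q'' q' e hq''
    · intro h
      exact ⟨q', h, rfl⟩
  have hclosed : IsClosed Z := by
    rw [← hquot.isClosed_preimage, hpre]
    exact PrimeSpectrum.isClosed_zeroLocus _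
  have hpZ : p ∉ Z := by
    rintro ⟨q'', hq'', e⟩
    rw [PrimeSpectrum.mem_zeroLocus, Set.singleton_subset_iff] at hq''
    exact hlq (mem_of_mem_of_comap_eq u l hl q'' q (e.trans hq.symm) hq'')
  obtain ⟨I, hI⟩ := (PrimeSpectrum.isClosed_iff_zeroLocus_ideal Z).1 hclosed
  have hpI : ¬ (I : Set A) ⊆ p.asIdeal := by
    intro h
    apply hpZ
    rw [hI]
    exact h
  obtain ⟨f, hfI, hfp⟩ := Set.not_subset.1 hpI
  have hsub : PrimeSpectrum.zeroLocus {l} ⊆
      PrimeSpectrum.zeroLocus ({algebraMap A B f} : Set B) := by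
    intro q' hq'
    have h1 : PrimeSpectrum.comap (algebraMap A B) q' ∈ Z := ⟨q', hq', rfl⟩
    rw [hI] at h1
    have h2 : f ∈ (PrimeSpectrum.comap (algebraMap A B) q').asIdeal := h1 hfI
    rw [PrimeSpectrum.mem_zeroLocus, Set.singleton_subset_iff]
    exact h2
  have hrad : algebraMap A B f ∈ (Ideal.span ({l} : Set B)).radical := by
    rw [← PrimeSpectrum.zeroLocus_span ({l} : Set B),
      ← PrimeSpectrum.zeroLocus_span ({algebraMap A B f} : Set B),
      PrimeSpectrum.zeroLocus_subset_zeroLocus_iff] at hsub
    exact hsub (Ideal.subset_span rfl)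
  obtain ⟨m, hm⟩ := hrad
  obtain ⟨b, hb⟩ := Ideal.mem_span_singleton'.1 hm
  exact ⟨f, b, m, hfp, hb⟩

end LocalUnit

section Twist

variable {n : ℕ}

/-- `b ↦ u (1 ⊗ b)`. -/
noncomputable def mulR (u : B ⊗[A] B) : B →ₗ[A] B ⊗[A] B :=
  (LinearMap.mulLeft A u) ∘ₗ (iR (A := A) (B := B)).toLinearMap

lemma mulR_apply (u : B ⊗[A] B) (b : B) : mulR u b = u * iR b := rfl

lemma lTensor_mulR (u y : B ⊗[A] B) : (mulR u).lTensor B y = d23 u * d13 y := by
  induction y using TensorProduct.induction_on with
  | zero => simp
  | tmul b c =>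
    simp only [LinearMap.lTensor_tmul, mulR_apply, d23, d13,
      Algebra.TensorProduct.includeRight_apply, Algebra.TensorProduct.map_tmul, AlgHom.coe_id, id_eq,
      Algebra.TensorProduct.tmul_mul_tmul, one_mul]
  | add y1 y2 h1 h2 => rw [map_add, h1, h2, map_add, mul_add]

lemma lTensor_iL (y : B ⊗[A] B) :
    ((iL (A := A) (B := B)).toLinearMap).lTensor B y = d12 y := by
  induction y using TensorProduct.induction_on with
  | zero => simp
  | tmul b c => simp [d12]
  | add y1 y2 h1 h2 => rw [map_add, h1, h2, map_add]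

/-- `v ↦ U (1 ⊗ v) - v ⊗ 1`. -/
noncomputable def lamM (U : Matrix (Fin n) (Fin n) (B ⊗[A] B)) :
    (Fin n → B) →ₗ[A] (Fin n → B ⊗[A] B) :=
  LinearMap.pi (fun j => (∑ i, (mulR (U j i)) ∘ₗ (LinearMap.proj i : (Fin n → B) →ₗ[A] B)) -
    (iL (A := A) (B := B)).toLinearMap ∘ₗ (LinearMap.proj j : (Fin n → B) →ₗ[A] B))

lemma lamM_apply (U : Matrix (Fin n) (Fin n) (B ⊗[A] B)) (v : Fin n → B) (j : Fin n) :
    lamM U v j = ∑ i, U j i * iR (v i) - iL (v j) := by
  simp [lamM, mulR_apply]

lemma proj_lamM_single (U : Matrix (Fin n) (Fin n) (B ⊗[A] B)) (i j : Fin n) :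
    ((LinearMap.proj j : (Fin n → B ⊗[A] B) →ₗ[A] B ⊗[A] B) ∘ₗ lamM U) ∘ₗ
      (LinearMap.single A (fun _ : Fin n => B) i) =
    mulR (U j i) - (if i = j then (iL (A := A) (B := B)).toLinearMap else 0) := by
  ext b
  simp only [LinearMap.coe_comp, Function.comp_apply, LinearMap.proj_apply, lamM_apply,
    LinearMap.coe_single, LinearMap.sub_apply, mulR_apply]
  rw [Finset.sum_eq_single i]
  · by_cases h : i = j
    · subst h; simp
    · simp [h, Pi.single_apply, Ne.symm h]
  · intro l _ hl
    simp [Pi.single_apply, hl]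
  · intro h; exact absurd (Finset.mem_univ i) h

end Twist

section Descent

variable {n : ℕ}

/-- An element of `B ⊗ (Fin n → N)` all of whose coordinates vanish is zero. -/
lemma eq_zero_of_lTensor_proj {N : Type u} [AddCommGroup N] [Module A N]
    (z : B ⊗[A] (Fin n → N))
    (h : ∀ j, (LinearMap.proj j : (Fin n → N) →ₗ[A] N).lTensor B z = 0) : z = 0 := by
  have key : ∀ (z : B ⊗[A] (Fin n → N)) (j : Fin n),
      (TensorProduct.piRight A A B (fun _ : Fin n => N) z) j =
        (LinearMap.proj j : (Fin n → N) →ₗ[A] N).lTensor B z := by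
    intro z j
    induction z using TensorProduct.induction_on with
    | zero => simp
    | tmul b v => simp
    | add z1 z2 h1 h2 => rw [map_add, map_add, Pi.add_apply, h1, h2]
  apply (TensorProduct.piRight A A B (fun _ : Fin n => N)).injective
  rw [map_zero]
  ext j : 1
  rw [key, h]
  rfl

/-- the scalar multiplication `B ⊗ Bⁿ → Bⁿ`. -/
noncomputable def smulMap : B ⊗[A] (Fin n → B) →ₗ[A] (Fin n → B) :=
  LinearMap.pi (fun j => (Algebra.TensorProduct.lmul' A (S := B)).toLinearMap ∘ₗ
    (LinearMap.proj j : (Fin n → B) →ₗ[A] B).lTensor B)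

lemma smulMap_tmul (b : B) (v : Fin n → B) : smulMap (A := A) (b ⊗ₜ[A] v) = b • v := by
  ext j
  simp [smulMap]

lemma smulMap_lTensor_single (i : Fin n) (y : B ⊗[A] B) :
    smulMap (A := A) ((LinearMap.single A (fun _ : Fin n => B) i).lTensor B y) =
      Pi.single i (Algebra.TensorProduct.lmul' A y) := by
  induction y using TensorProduct.induction_on with
  | zero => simp
  | tmul b c =>
    rw [LinearMap.lTensor_tmul, smulMap_tmul]
    ext j
    simp [Pi.single_apply]
  | add y1 y2 h1 h2 => rw [map_add, map_add, h1, h2, map_add, Pi.single_add]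

/-- Flat descent of the twisted module: every standard basis vector is a `B`-linear combination of
invariant vectors. -/
theorem exists_lists [Module.Flat A B] (U U' : Matrix (Fin n) (Fin n) (B ⊗[A] B))
    (hUU' : U * U' = 1)
    (hcoc : U.map (d12 (A := A) (B := B)) * U.map (d23 (A := A) (B := B)) =
      U.map (d13 (A := A) (B := B))) (k : Fin n) :
    ∃ S : List (B × (Fin n → B)),
      (∀ p ∈ S, ∀ j, ∑ i, U j i * iR (p.2 i) = iL (p.2 j)) ∧
      (S.map (fun p => p.1 • p.2)).sum = Pi.single k 1 := by
  have hU'U : U' * U = 1 := mul_eq_one_comm.1 hUU'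
  -- ring-hom forms
  have hm : ∀ (φ : B ⊗[A] B →ₐ[A] B ⊗[A] (B ⊗[A] B)) (M N : Matrix (Fin n) (Fin n) (B ⊗[A] B)),
      (M * N).map φ = M.map φ * N.map φ := fun φ M N => Matrix.map_mul (f := φ.toRingHom)
  have h1m : ∀ (φ : B ⊗[A] B →ₐ[A] B ⊗[A] (B ⊗[A] B)),
      (1 : Matrix (Fin n) (Fin n) (B ⊗[A] B)).map φ = 1 := fun φ =>
    Matrix.map_one (f := φ.toRingHom) (map_zero _) (map_one _)
  -- consequence of the cocycle condition
  have hcoc' : U.map (d23 (A := A) (B := B)) * U'.map (d13 (A := A) (B := B)) =
      U'.map (d12 (A := A) (B := B)) := by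
    calc U.map (d23 (A := A) (B := B)) * U'.map (d13 (A := A) (B := B))
        = (U'.map (d12 (A := A) (B := B)) * U.map (d12 (A := A) (B := B))) *
            U.map (d23 (A := A) (B := B)) * U'.map (d13 (A := A) (B := B)) := by
          rw [← hm, hU'U, h1m, Matrix.one_mul]
      _ = U'.map (d12 (A := A) (B := B)) * (U.map (d12 (A := A) (B := B)) *
            U.map (d23 (A := A) (B := B))) * U'.map (d13 (A := A) (B := B)) := by
          simp only [Matrix.mul_assoc]
      _ = U'.map (d12 (A := A) (B := B)) := by
          rw [hcoc, Matrix.mul_assoc, ← hm, hUU', h1m, Matrix.mul_one]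
  -- the diagonal
  have hdiag' : U'.map (Algebra.TensorProduct.lmul' A (S := B)) = 1 := by
    have hme : ∀ (M N : Matrix (Fin n) (Fin n) (B ⊗[A] (B ⊗[A] B))),
        (M * N).map (eps (A := A) (B := B)) = M.map eps * N.map eps :=
      fun M N => Matrix.map_mul (f := (eps (A := A) (B := B)).toRingHom)
    have hml : ∀ (M N : Matrix (Fin n) (Fin n) (B ⊗[A] B)),
        (M * N).map (Algebra.TensorProduct.lmul' A (S := B)) =
          M.map (Algebra.TensorProduct.lmul' A (S := B)) *
            N.map (Algebra.TensorProduct.lmul' A (S := B)) :=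
      fun M N => Matrix.map_mul (f := (Algebra.TensorProduct.lmul' A (S := B)).toRingHom)
    have e12 : (U.map (d12 (A := A) (B := B))).map (eps (A := A) (B := B)) =
        U.map (Algebra.TensorProduct.lmul' A (S := B)) := by
      ext i j; exact eps_d12 (U i j)
    have e23 : (U.map (d23 (A := A) (B := B))).map (eps (A := A) (B := B)) =
        U.map (Algebra.TensorProduct.lmul' A (S := B)) := by
      ext i j; exact eps_d23 (U i j)
    have e13 : (U.map (d13 (A := A) (B := B))).map (eps (A := A) (B := B)) =
        U.map (Algebra.TensorProduct.lmul' A (S := B)) := by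
      ext i j; exact eps_d13 (U i j)
    have h2 := congrArg (fun M => M.map (eps (A := A) (B := B))) hcoc
    beta_reduce at h2
    rw [hme, e12, e23, e13] at h2
    have h3 : U.map (Algebra.TensorProduct.lmul' A (S := B)) *
        U'.map (Algebra.TensorProduct.lmul' A (S := B)) = 1 := by
      rw [← hml, hUU']
      exact Matrix.map_one (f := (Algebra.TensorProduct.lmul' A (S := B)).toRingHom)
        (map_zero _) (map_one _)
    have h4 : U.map (Algebra.TensorProduct.lmul' A (S := B)) = 1 := by
      calc U.map (Algebra.TensorProduct.lmul' A (S := B))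
          = U.map (Algebra.TensorProduct.lmul' A (S := B)) *
              (U.map (Algebra.TensorProduct.lmul' A (S := B)) *
                U'.map (Algebra.TensorProduct.lmul' A (S := B))) := by rw [h3, Matrix.mul_one]
        _ = 1 := by rw [← Matrix.mul_assoc, h2, h3]
    rw [h4, Matrix.one_mul] at h3
    exact h3
  -- the exact sequence
  let L : Submodule A (Fin n → B) := LinearMap.ker (lamM U)
  have hex : Function.Exact L.subtype (lamM U) := LinearMap.exact_subtype_ker_map _
  have hex' := Module.Flat.lTensor_exact B hex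
  obtain ⟨y, hy⟩ : ∃ y : B ⊗[A] (Fin n → B),
      y = ∑ i, (LinearMap.single A (fun _ : Fin n => B) i).lTensor B (U' i k) := ⟨_, rfl⟩
  have hy0 : (lamM U).lTensor B y = 0 := by
    apply eq_zero_of_lTensor_proj
    intro j
    rw [hy, map_sum, map_sum]
    have e : ∀ i, (LinearMap.proj j : (Fin n → B ⊗[A] B) →ₗ[A] B ⊗[A] B).lTensor B
        ((lamM U).lTensor B ((LinearMap.single A (fun _ : Fin n => B) i).lTensor B (U' i k))) =
        d23 (U j i) * d13 (U' i k) - (if i = j then d12 (U' i k) else 0) := by
      intro i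
      rw [← LinearMap.comp_apply, ← LinearMap.comp_apply, ← LinearMap.lTensor_comp,
        ← LinearMap.lTensor_comp, proj_lamM_single, LinearMap.lTensor_sub, LinearMap.sub_apply,
        lTensor_mulR]
      split_ifs with h
      · rw [lTensor_iL]
      · rw [LinearMap.lTensor_zero, LinearMap.zero_apply]
    rw [Finset.sum_congr rfl (fun i _ => e i), Finset.sum_sub_distrib, Finset.sum_ite_eq' ,
      if_pos (Finset.mem_univ j), sub_eq_zero]
    have := congrFun (congrFun hcoc' j) k
    rw [Matrix.mul_apply] at this
    exact this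
  obtain ⟨w, hw⟩ := (hex' _).1 hy0
  have key : ∀ w : B ⊗[A] L, ∃ S : List (B × (Fin n → B)),
      (∀ p ∈ S, p.2 ∈ L) ∧
      smulMap (A := A) (L.subtype.lTensor B w) = (S.map (fun p => p.1 • p.2)).sum := by
    intro w
    induction w using TensorProduct.induction_on with
    | zero => exact ⟨[], by simp, by simp⟩
    | tmul b l =>
      refine ⟨[(b, (l : Fin n → B))], ?_, by simp [smulMap_tmul]⟩
      intro p hp
      rw [List.mem_singleton] at hp
      subst hp
      exact l.2
    | add w1 w2 h1 h2 =>
      obtain ⟨S1, hS1, e1⟩ := h1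
      obtain ⟨S2, hS2, e2⟩ := h2
      refine ⟨S1 ++ S2, ?_, ?_⟩
      · intro p hp
        rcases List.mem_append.1 hp with h | h
        · exact hS1 p h
        · exact hS2 p h
      · rw [map_add, map_add, e1, e2, List.map_append, List.sum_append]
  obtain ⟨S, hS, e⟩ := key w
  refine ⟨S, ?_, ?_⟩
  · intro p hp j
    have h1 : lamM U p.2 = 0 := hS p hp
    have h2 := congrFun h1 j
    rw [lamM_apply, Pi.zero_apply, sub_eq_zero] at h2
    exact h2
  · rw [← e, hw, hy, map_sum]
    rw [Finset.sum_congr rfl (fun i _ => smulMap_lTensor_single i (U' i k))]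
    ext j
    rw [Finset.sum_apply]
    have hd : ∀ i, Algebra.TensorProduct.lmul' A (U' i k) = (1 : Matrix (Fin n) (Fin n) B) i k :=
      fun i => congrFun (congrFun hdiag' i) k
    simp only [Pi.single_apply, hd, Matrix.one_apply]
    rw [Finset.sum_eq_single j]
    · simp [eq_comm]
    · intro i _ hij; simp [Ne.symm hij]
    · intro h; exact absurd (Finset.mem_univ j) h

end Descent

section Det

variable {n : ℕ}

/-- If the standard basis vectors are in the `B`-span of a set `L` of vectors, some `n` vectors of
`L` have determinant outside a given proper ideal. -/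
theorem exists_det_not_mem (q : Ideal B) (hq : q ≠ ⊤) (L : Set (Fin n → B))
    (h : ∀ k : Fin n, (Pi.single k 1 : Fin n → B) ∈ Submodule.span B L) :
    ∃ V : Matrix (Fin n) (Fin n) B, (∀ k, V k ∈ L) ∧ V.det ∉ q := by
  by_contra hcon
  push Not at hcon
  have key : ∀ (s : Finset (Fin n)) (M : Matrix (Fin n) (Fin n) B),
      (∀ i ∈ s, M i ∈ Submodule.span B L) → (∀ i, i ∉ s → M i ∈ L) → M.det ∈ q := by
    intro s
    induction s using Finset.induction_on with
    | empty =>
      intro M _ h2
      exact hcon M (fun k => h2 k (Finset.notMem_empty k))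
    | insert a s has ih =>
      intro M h1 h2
      have h3 : ∀ x ∈ Submodule.span B L, (M.updateRow a x).det ∈ q := by
        intro x hx
        induction hx using Submodule.span_induction with
        | mem x hx =>
          apply ih
          · intro i hi
            have hia : i ≠ a := fun e => has (e ▸ hi)
            rw [Matrix.updateRow_ne hia]
            exact h1 i (Finset.mem_insert_of_mem hi)
          · intro i hi
            by_cases hia : i = a
            · subst hia
              rw [Matrix.updateRow_self]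
              exact hx
            · rw [Matrix.updateRow_ne hia]
              exact h2 i (by simp [hia, hi])
        | zero =>
          rw [Matrix.det_eq_zero_of_row_eq_zero a (fun j => by simp)]
          exact q.zero_mem
        | add x y _ _ hx hy =>
          rw [Matrix.det_updateRow_add]
          exact q.add_mem hx hy
        | smul c x _ hx =>
          rw [Matrix.det_updateRow_smul]
          exact q.mul_mem_left _ hx
      have h4 := h3 (M a) (h1 a (Finset.mem_insert_self a s))
      rwa [Matrix.updateRow_eq_self] at h4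
  have h1 := key Finset.univ (1 : Matrix (Fin n) (Fin n) B) (fun i _ => by
      have e : (1 : Matrix (Fin n) (Fin n) B) i = Pi.single i 1 := by
        ext j
        simp [Matrix.one_apply, Pi.single_apply, eq_comm]
      rw [e]
      exact h i) (fun i hi => absurd (Finset.mem_univ i) hi)
  rw [Matrix.det_one] at h1
  exact hq ((Ideal.eq_top_iff_one q).2 h1)

/-- Hilbert 90 for `GL_n`, local form: a matrix cocycle for a faithfully flat `A → B` is, near every
prime of `A`, the coboundary of a matrix `W` whose determinant divides a power of some `f ∉ p`. -/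
theorem exists_local_GLn [Module.FaithfullyFlat A B] (U U' : Matrix (Fin n) (Fin n) (B ⊗[A] B))
    (hUU' : U * U' = 1)
    (hcoc : U.map (d12 (A := A) (B := B)) * U.map (d23 (A := A) (B := B)) =
      U.map (d13 (A := A) (B := B))) (p : PrimeSpectrum A) :
    ∃ (f : A) (W : Matrix (Fin n) (Fin n) B) (b : B) (m : ℕ), f ∉ p.asIdeal ∧
      U * W.map (iR (A := A) (B := B)) = W.map (iL (A := A) (B := B)) ∧
      b * W.det = (algebraMap A B f) ^ m := by
  have hsurj : Function.Surjective (PrimeSpectrum.comap (algebraMap A B)) :=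
    PrimeSpectrum.comap_surjective_of_faithfullyFlat
  obtain ⟨q, hq⟩ := hsurj p
  set L : Set (Fin n → B) := {v | ∀ j, ∑ i, U j i * iR (v i) = iL (v j)} with hL
  have hspan : ∀ k : Fin n, (Pi.single k 1 : Fin n → B) ∈ Submodule.span B L := by
    intro k
    obtain ⟨S, hS, e⟩ := exists_lists U U' hUU' hcoc k
    rw [← e]
    apply _root_.list_sum_mem
    intro x hx
    obtain ⟨p', hp', rfl⟩ := List.mem_map.1 hx
    exact Submodule.smul_mem _ _ (Submodule.subset_span (hS p' hp'))
  obtain ⟨V, hV, hdet⟩ := exists_det_not_mem q.asIdeal q.isPrime.ne_top L hspan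
  -- the matrix `W = Vᵀ`
  have hW : U * V.transpose.map (iR (A := A) (B := B)) = V.transpose.map (iL (A := A) (B := B)) := by
    ext j k
    rw [Matrix.mul_apply]
    exact hV k j
  have hdetW : V.transpose.det ∉ q.asIdeal := by rwa [Matrix.det_transpose]
  have hdet1 : U.det * U'.det = 1 := by rw [← Matrix.det_mul, hUU', Matrix.det_one]
  have hl : ((Units.mkOfMulEqOne U.det U'.det hdet1 : (B ⊗[A] B)ˣ) : B ⊗[A] B) *
      iR V.transpose.det = iL V.transpose.det := by
    have h1 := congrArg Matrix.det hW
    rw [Matrix.det_mul] at h1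
    have h2 : (V.transpose.map (iR (A := A) (B := B))).det = iR V.transpose.det :=
      ((iR (A := A) (B := B)).toRingHom.map_det V.transpose).symm
    have h3 : (V.transpose.map (iL (A := A) (B := B))).det = iL V.transpose.det :=
      ((iL (A := A) (B := B)).toRingHom.map_det V.transpose).symm
    rw [h2, h3] at h1
    exact h1
  obtain ⟨f, b, m, hf, hb⟩ := exists_of_not_mem _ V.transpose.det hl p q hq hdetW
  exact ⟨f, V.transpose, b, m, hf, hW, hb⟩

end Det

end Groth.Agent.Lib.Seat27.GLnAlg
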