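import Mathlib
import Groth.Prelude.Def_FrameBundle
import Groth.Prelude.Def_NonAbH2
import Groth.Agent.Lib.Seat27GLnAlg
import Groth.Agent.Lib.Seat27GLnPoints
import Groth.Agent.Lib.Seat27GmTorsor
import Groth.Agent.Lib.Seat27GLamTorsor
import Groth.Agent.Lib.Seat27KernelTorsor

/-!
Helper library (helper27, seat 27): torsors under `GL_n` (in the sense of a cartesian square
`G × X ⇉ X → Y`) are Zariski-locally trivial as soon as `X → Y` is affine and faithfully flat.

* `exists_act_eq_of_isPullback`, `act_cancel_of_isPullback`, `act_comp_eq`: the point form of the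
  cartesian square.
* `exists_cocycle`: the difference cocycle of a point with values in `B`.
* `exists_section_of_affine_cover`: a point with values in a faithfully flat `A`-algebra gives, near
  every prime of `A`, a point with values in a localisation `A_f`.
-/

set_option autoImplicit false
universe u

open CategoryTheory MonoidalCategory CartesianMonoidalCategory MonObj GrpObj AlgebraicGeometry
open scoped TensorProduct

namespace Groth.Agent.Lib.Seat27.GLnTorsor

open Groth.Agent.Lib.Seat27.GaTorsor Groth.Agent.Lib.Helper27.GaGm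
open Groth.Agent.Lib.Helper12 Groth.Agent.Lib.Seat27.GLnPoints
open Groth.Agent.Lib.Seat27.Hilbert90 (iL iR d12 d13 d23)
open Groth.Agent.Lib.Seat27.GmTorsor (comp_act' desc_raw)

section Cart

variable {S : Scheme.{u}} {G X Y : Over S} [GrpObj G] (a : AlgGrp.Action G X) (φ : X ⟶ Y)

/-- Two points of `X` with the same image in `Y` differ by a point of `G`. -/
theorem exists_act_eq_of_isPullback (hcart : IsPullback a.act (snd G X) φ φ) {T : Over S}
    (x y : T ⟶ X) (h : y ≫ φ = x ≫ φ) : ∃ g : T ⟶ G, lift g x ≫ a.act = y := by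
  refine ⟨hcart.lift y x h ≫ fst G X, ?_⟩
  have e : lift (hcart.lift y x h ≫ fst G X) x = hcart.lift y x h := by
    apply CartesianMonoidalCategory.hom_ext
    · simp
    · rw [lift_snd, hcart.lift_snd]
  rw [e, hcart.lift_fst]

/-- The action on the fibres of `X → Y` is free. -/
theorem act_cancel_of_isPullback (hcart : IsPullback a.act (snd G X) φ φ) {T : Over S}
    (g h : T ⟶ G) (x : T ⟶ X) (e : lift g x ≫ a.act = lift h x ≫ a.act) : g = h := by
  have h1 : lift g x = lift h x := by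
    apply hcart.hom_ext e
    rw [lift_snd, lift_snd]
  have h2 := congrArg (fun t => t ≫ fst G X) h1
  simpa using h2

/-- The map `X → Y` is invariant. -/
theorem act_comp_eq (hcart : IsPullback a.act (snd G X) φ φ) {T : Over S}
    (g : T ⟶ G) (x : T ⟶ X) : (lift g x ≫ a.act) ≫ φ = x ≫ φ := by
  rw [Category.assoc, hcart.w, ← Category.assoc, lift_snd]

variable {A : Type u} [CommRing A] (j : Spec (CommRingCat.of A) ⟶ S)

/-- Composite of `Tmap`, a point, and a morphism, with clean types. -/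
lemma Tmap_comp_left_comp {R R' : Type u} [CommRing R] [CommRing R'] [Algebra A R] [Algebra A R']
    (f : R →ₐ[A] R') {X' : Over S} (x : T j R ⟶ X') {Z : Scheme.{u}} (ψ : X'.left ⟶ Z)
    (w : Spec (CommRingCat.of R) ⟶ Z) (h : x.left ≫ ψ = w) :
    (Tmap j f ≫ x).left ≫ ψ = Spec.map (CommRingCat.ofHom f.toRingHom) ≫ w := by
  subst h
  rfl

/-- If the difference cocycle `g1` of a point `x1` with values in a faithfully flat `A'`-algebra
`B'` is the coboundary of a point `cG` of the group, then `cG • x1` descends to a point with values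
in `A'`. -/
theorem exists_section_of_rel' {A' B' : Type u} [CommRing A'] [CommRing B'] [Algebra A A']
    [Algebra A B'] [Algebra A' B'] [IsScalarTower A A' B'] [Module.FaithfullyFlat A' B']
    (x1 : T j B' ⟶ X) (g1 : T j (B' ⊗[A] B') ⟶ G)
    (hg1 : lift g1 (Tmap j (iR (A := A) (B := B')) ≫ x1) ≫ a.act =
      Tmap j (iL (A := A) (B := B')) ≫ x1)
    (cG : T j B' ⟶ G)
    (hrel : (Tmap j (iL (A := A) (B := B')) ≫ cG) * g1 = Tmap j (iR (A := A) (B := B')) ≫ cG) :
    ∃ y : Spec (CommRingCat.of A') ⟶ X.left,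
      Spec.map (CommRingCat.ofHom (algebraMap A' B')) ≫ y = (lift cG x1 ≫ a.act).left := by
  obtain ⟨y1, hy1def⟩ : ∃ y1 : T j B' ⟶ X, y1 = lift cG x1 ≫ a.act := ⟨_, rfl⟩
  have hy1 : Tmap j (iL (A := A) (B := B')) ≫ y1 = Tmap j (iR (A := A) (B := B')) ≫ y1 := by
    rw [hy1def, comp_act', comp_act', ← hg1, ← act_mul, hrel]
  have hw : Spec.map (CommRingCat.ofHom (iL (A := A) (B := B')).toRingHom) ≫ y1.left =
      Spec.map (CommRingCat.ofHom (iR (A := A) (B := B')).toRingHom) ≫ y1.left := by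
    have h0 := congrArg (fun t => t.left) hy1
    beta_reduce at h0
    rw [Over.comp_left, Over.comp_left, Tmap_left, Tmap_left] at h0
    exact h0
  obtain ⟨y, hy⟩ := desc_raw (A := A) (A' := A') (B' := B') y1.left hw
  exact ⟨y, by rw [hy, hy1def]⟩

end Cart

/-- A small matrix identity. -/
lemma mat_aux {R : Type u} [CommRing R] {n : ℕ} (CL U W1R CR W1L : Matrix (Fin n) (Fin n) R)
    (h1 : W1R * CR = 1) (h2 : U * W1R = W1L) (h3 : CL * W1L = 1) : CL * U = CR := by
  calc CL * U = CL * U * (W1R * CR) := by rw [h1, Matrix.mul_one]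
    _ = CL * (U * W1R) * CR := by simp only [Matrix.mul_assoc]
    _ = CR := by rw [h2, h3, Matrix.one_mul]

section Main

variable (n : ℕ) {S : Scheme.{u}} {X Y : Over S} (a : AlgGrp.Action (FrB.GLn n S) X) (φ : X ⟶ Y)
  {A : Type u} [CommRing A] (j : Spec (CommRingCat.of A) ⟶ S)

/-- The difference cocycle of a point with values in `B`. -/
theorem exists_cocycle (hcart : IsPullback a.act (snd (FrB.GLn n S) X) φ φ)
    {B : Type u} [CommRing B] [Algebra A B] (x' : T j B ⟶ X)
    (hx' : (Tmap j (iL (A := A) (B := B)) ≫ x') ≫ φ = (Tmap j (iR (A := A) (B := B)) ≫ x') ≫ φ) :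
    ∃ g : T j (B ⊗[A] B) ⟶ FrB.GLn n S,
      lift g (Tmap j (iR (A := A) (B := B)) ≫ x') ≫ a.act = Tmap j (iL (A := A) (B := B)) ≫ x' ∧
      (valM n j g).map (d12 (A := A) (B := B)) * (valM n j g).map (d23 (A := A) (B := B)) =
        (valM n j g).map (d13 (A := A) (B := B)) := by
  obtain ⟨g, hg⟩ := exists_act_eq_of_isPullback a φ hcart (Tmap j (iR (A := A) (B := B)) ≫ x')
    (Tmap j (iL (A := A) (B := B)) ≫ x') hx'
  refine ⟨g, hg, ?_⟩
  have e1 : (d12 (A := A) (B := B)).comp (iL (A := A) (B := B)) =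
      (d13 (A := A) (B := B)).comp (iL (A := A) (B := B)) := by ext b; simp
  have e2 : (d12 (A := A) (B := B)).comp (iR (A := A) (B := B)) =
      (d23 (A := A) (B := B)).comp (iL (A := A) (B := B)) := by ext c; simp
  have e3 : (d13 (A := A) (B := B)).comp (iR (A := A) (B := B)) =
      (d23 (A := A) (B := B)).comp (iR (A := A) (B := B)) := by ext c; simp
  have pb : ∀ (d : B ⊗[A] B →ₐ[A] B ⊗[A] (B ⊗[A] B)),
      lift (Tmap j d ≫ g) (Tmap j (d.comp iR) ≫ x') ≫ a.act = Tmap j (d.comp iL) ≫ x' := by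
    intro d
    have := congrArg (fun t => Tmap j d ≫ t) hg
    beta_reduce at this
    rw [comp_act', ← Category.assoc, ← Tmap_comp, ← Category.assoc, ← Tmap_comp] at this
    exact this
  have hc : (Tmap j (d12 (A := A) (B := B)) ≫ g) * (Tmap j d23 ≫ g) = Tmap j d13 ≫ g := by
    apply act_cancel_of_isPullback a φ hcart _ _ (Tmap j ((d13 (A := A) (B := B)).comp iR) ≫ x')
    rw [act_mul, pb d13]
    rw [e3, pb d23, ← e2, pb d12, e1]
  rw [← valM_comp, ← valM_comp, ← valM_comp, ← valM_mul, hc]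

/-- A `GL_n`-torsor `X → Y` which has a point over a faithfully flat `Spec B → Spec A → Y` has,
around every prime of `A`, a point over a basic open `Spec A_f`. -/
theorem exists_section_of_affine_cover (hcart : IsPullback a.act (snd (FrB.GLn n S) X) φ φ)
    (j0 : Spec (CommRingCat.of A) ⟶ Y.left)
    {B : Type u} [CommRing B] [Algebra A B] [Module.FaithfullyFlat A B]
    (x' : T (j0 ≫ Y.hom) B ⟶ X)
    (hx' : x'.left ≫ φ.left = Spec.map (CommRingCat.ofHom (algebraMap A B)) ≫ j0)
    (p : PrimeSpectrum A) :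
    ∃ f' : A, f' ∉ p.asIdeal ∧ ∃ y : Spec (CommRingCat.of (Localization.Away f')) ⟶ X.left,
      y ≫ φ.left = Spec.map (CommRingCat.ofHom (algebraMap A (Localization.Away f'))) ≫ j0 := by
  obtain ⟨j, hj⟩ : ∃ j : Spec (CommRingCat.of A) ⟶ S, j = j0 ≫ Y.hom := ⟨_, rfl⟩
  subst hj
  have hxφ : (Tmap (j0 ≫ Y.hom) (iL (A := A) (B := B)) ≫ x') ≫ φ =
      (Tmap (j0 ≫ Y.hom) (iR (A := A) (B := B)) ≫ x') ≫ φ := by
    apply Over.OverMorphism.ext
    have e1 : ((Tmap (j0 ≫ Y.hom) (iL (A := A) (B := B)) ≫ x') ≫ φ).left =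
        (Tmap (j0 ≫ Y.hom) (iL (A := A) (B := B)) ≫ x').left ≫ φ.left := rfl
    have e2 : ((Tmap (j0 ≫ Y.hom) (iR (A := A) (B := B)) ≫ x') ≫ φ).left =
        (Tmap (j0 ≫ Y.hom) (iR (A := A) (B := B)) ≫ x').left ≫ φ.left := rfl
    rw [e1, e2, Tmap_comp_left_comp _ _ _ _ _ hx',
      Tmap_comp_left_comp _ _ _ _ _ hx', ← Category.assoc, ← Category.assoc, ← Spec.map_comp,
      ← Spec.map_comp]
    congr 2
    ext r
    simp
  obtain ⟨g, hg, hcoc⟩ := exists_cocycle n a φ (j0 ≫ Y.hom) hcart x' hxφ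
  have hUU' := valM_mul_inv n (j0 ≫ Y.hom) g
  obtain ⟨f', W, b, m, hf'p, hW, hb⟩ :=
    GLnAlg.exists_local_GLn (valM n (j0 ≫ Y.hom) g) (valM n (j0 ≫ Y.hom) g⁻¹) hUU' hcoc p
  refine ⟨f', hf'p, ?_⟩
  obtain ⟨β, hβ⟩ : ∃ β : B →ₐ[A] Localization.Away f' ⊗[A] B,
      β = Algebra.TensorProduct.includeRight := ⟨_, rfl⟩
  obtain ⟨κ, hκ⟩ : ∃ κ : B ⊗[A] B →ₐ[A]
      (Localization.Away f' ⊗[A] B) ⊗[A] (Localization.Away f' ⊗[A] B),
      κ = Algebra.TensorProduct.map β β := ⟨_, rfl⟩
  have k1 : κ.comp (iL (A := A) (B := B)) =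
      (iL (A := A) (B := Localization.Away f' ⊗[A] B)).comp β := by
    ext b; simp [hκ]
  have k2 : κ.comp (iR (A := A) (B := B)) =
      (iR (A := A) (B := Localization.Away f' ⊗[A] B)).comp β := by
    ext b; simp [hκ]
  obtain ⟨x1, hx1⟩ : ∃ x1 : T (j0 ≫ Y.hom) (Localization.Away f' ⊗[A] B) ⟶ X,
      x1 = Tmap (j0 ≫ Y.hom) β ≫ x' := ⟨_, rfl⟩
  obtain ⟨g1, hg1def⟩ : ∃ g1 : T (j0 ≫ Y.hom) ((Localization.Away f' ⊗[A] B) ⊗[A]
      (Localization.Away f' ⊗[A] B)) ⟶ FrB.GLn n S, g1 = Tmap (j0 ≫ Y.hom) (R := B ⊗[A] B)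
        (R' := (Localization.Away f' ⊗[A] B) ⊗[A] (Localization.Away f' ⊗[A] B)) κ ≫ g := ⟨_, rfl⟩
  have hg1 : lift g1 (Tmap (j0 ≫ Y.hom) (iR (A := A) (B := Localization.Away f' ⊗[A] B)) ≫ x1) ≫
      a.act = Tmap (j0 ≫ Y.hom) (iL (A := A) (B := Localization.Away f' ⊗[A] B)) ≫ x1 := by
    have := congrArg (fun t => Tmap (j0 ≫ Y.hom) (R := B ⊗[A] B)
        (R' := (Localization.Away f' ⊗[A] B) ⊗[A] (Localization.Away f' ⊗[A] B)) κ ≫ t) hg
    beta_reduce at this
    rw [comp_act', ← Category.assoc, ← Tmap_comp, ← Category.assoc, ← Tmap_comp, k1, k2,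
      Tmap_comp, Tmap_comp, Category.assoc, Category.assoc, ← hx1, ← hg1def] at this
    exact this
  -- the matrix `W₁ = β(W)` is invertible
  have hdetβ : (W.map β).det = β W.det := (β.toRingHom.map_det W).symm
  have hdetu : IsUnit (W.map β).det := by
    have h1 : β b * (W.map β).det = (algebraMap A (Localization.Away f' ⊗[A] B) f') ^ m := by
      rw [hdetβ, ← map_mul, hb, map_pow, AlgHom.commutes]
    have h2 : IsUnit (algebraMap A (Localization.Away f' ⊗[A] B) f') := by
      rw [IsScalarTower.algebraMap_apply A (Localization.Away f') (Localization.Away f' ⊗[A] B)]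
      exact (IsLocalization.Away.algebraMap_isUnit f').map _
    exact isUnit_of_mul_isUnit_right (h1 ▸ h2.pow m)
  obtain ⟨W1, hW1⟩ : ∃ W1 : Matrix (Fin n) (Fin n) (Localization.Away f' ⊗[A] B),
      W1 = W.map β := ⟨_, rfl⟩
  rw [← hW1] at hdetu
  obtain ⟨C, hC⟩ : ∃ C : Matrix (Fin n) (Fin n) (Localization.Away f' ⊗[A] B), C = W1⁻¹ :=
    ⟨_, rfl⟩
  have hCW : C * W1 = 1 := by rw [hC]; exact Matrix.nonsing_inv_mul _ hdetu
  have hWC : W1 * C = 1 := by rw [hC]; exact Matrix.mul_nonsing_inv _ hdetu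
  obtain ⟨cG, hcG⟩ := exists_valM_eq n (j0 ≫ Y.hom) C W1 hCW
  -- the coboundary relation over `A_f ⊗ B`
  have hmapκ : ∀ (i1 : B →ₐ[A] B ⊗[A] B)
      (i2 : Localization.Away f' ⊗[A] B →ₐ[A]
        (Localization.Away f' ⊗[A] B) ⊗[A] (Localization.Away f' ⊗[A] B)),
      κ.comp i1 = i2.comp β → (W.map i1).map κ = W1.map i2 := by
    intro i1 i2 h
    ext i k
    simp only [Matrix.map_apply, hW1]
    exact congrArg (fun t : B →ₐ[A] _ => t (W i k)) h
  have hrelM : (valM n (j0 ≫ Y.hom) g).map κ *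
      W1.map (iR (A := A) (B := Localization.Away f' ⊗[A] B)) =
      W1.map (iL (A := A) (B := Localization.Away f' ⊗[A] B)) := by
    have h0 := congrArg (fun M => M.map κ) hW
    beta_reduce at h0
    have h0' : (valM n (j0 ≫ Y.hom) g * W.map (iR (A := A) (B := B))).map κ =
        (valM n (j0 ≫ Y.hom) g).map κ * (W.map (iR (A := A) (B := B))).map κ :=
      Matrix.map_mul (f := κ.toRingHom)
    rw [h0'] at h0
    rw [← hmapκ _ _ k2, ← hmapκ _ _ k1]
    exact h0
  have hmL : ∀ (M N : Matrix (Fin n) (Fin n) (Localization.Away f' ⊗[A] B)),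
      (M * N).map (iL (A := A) (B := Localization.Away f' ⊗[A] B)) =
        M.map (iL (A := A) (B := Localization.Away f' ⊗[A] B)) *
          N.map (iL (A := A) (B := Localization.Away f' ⊗[A] B)) :=
    fun M N => Matrix.map_mul (f := (iL (A := A) (B := Localization.Away f' ⊗[A] B)).toRingHom)
  have hmR : ∀ (M N : Matrix (Fin n) (Fin n) (Localization.Away f' ⊗[A] B)),
      (M * N).map (iR (A := A) (B := Localization.Away f' ⊗[A] B)) =
        M.map (iR (A := A) (B := Localization.Away f' ⊗[A] B)) *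
          N.map (iR (A := A) (B := Localization.Away f' ⊗[A] B)) :=
    fun M N => Matrix.map_mul (f := (iR (A := A) (B := Localization.Away f' ⊗[A] B)).toRingHom)
  have h1L : (1 : Matrix (Fin n) (Fin n) (Localization.Away f' ⊗[A] B)).map
      (iL (A := A) (B := Localization.Away f' ⊗[A] B)) = 1 :=
    Matrix.map_one (f := (iL (A := A) (B := Localization.Away f' ⊗[A] B)).toRingHom)
      (map_zero _) (map_one _)
  have h1R : (1 : Matrix (Fin n) (Fin n) (Localization.Away f' ⊗[A] B)).map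
      (iR (A := A) (B := Localization.Away f' ⊗[A] B)) = 1 :=
    Matrix.map_one (f := (iR (A := A) (B := Localization.Away f' ⊗[A] B)).toRingHom)
      (map_zero _) (map_one _)
  have hrel : (Tmap (j0 ≫ Y.hom) (iL (A := A) (B := Localization.Away f' ⊗[A] B)) ≫ cG) * g1 =
      Tmap (j0 ≫ Y.hom) (iR (A := A) (B := Localization.Away f' ⊗[A] B)) ≫ cG := by
    apply valM_injective n (j0 ≫ Y.hom)
    rw [valM_mul, valM_comp, valM_comp, hcG, hg1def, valM_comp]
    refine mat_aux _ _ _ _ _ ?_ hrelM ?_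
    · rw [← hmR, hWC, h1R]
    · rw [← hmL, hCW, h1L]
  obtain ⟨y, hy⟩ := exists_section_of_rel' a (j0 ≫ Y.hom) (A' := Localization.Away f')
    (B' := Localization.Away f' ⊗[A] B) x1 g1 hg1 cG hrel
  refine ⟨y, ?_⟩
  have hff : (CommRingCat.ofHom (algebraMap (Localization.Away f')
      (Localization.Away f' ⊗[A] B))).hom.FaithfullyFlat := by
    rw [CommRingCat.hom_ofHom, RingHom.faithfullyFlat_algebraMap_iff]; infer_instance
  obtain ⟨hflat, hsurj⟩ := (flat_and_surjective_SpecMap_iff _).2 hff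
  have hepi : Epi (Spec.map (CommRingCat.ofHom (algebraMap (Localization.Away f')
      (Localization.Away f' ⊗[A] B)))) := Flat.epi_of_flat_of_surjective _
  rw [← cancel_epi (Spec.map (CommRingCat.ofHom (algebraMap (Localization.Away f')
      (Localization.Away f' ⊗[A] B)))), ← Category.assoc, hy]
  have h1 : (lift cG x1 ≫ a.act).left ≫ φ.left = x1.left ≫ φ.left :=
    congrArg (fun t => t.left) (act_comp_eq a φ hcart cG x1)
  have h2 : x1.left ≫ φ.left = Spec.map (CommRingCat.ofHom β.toRingHom) ≫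
      (Spec.map (CommRingCat.ofHom (algebraMap A B)) ≫ j0) := by
    rw [hx1]
    exact Tmap_comp_left_comp _ _ _ _ _ hx'
  refine (h1.trans h2).trans ?_
  rw [← Category.assoc, ← Category.assoc, ← Spec.map_comp, ← Spec.map_comp]
  congr 2
  ext r
  simp [hβ]

/-- Variant of `exists_section_of_affine_cover` for a faithfully flat map in `CommRingCat`. -/
theorem exists_section_of_affine_cover' (hcart : IsPullback a.act (snd (FrB.GLn n S) X) φ φ)
    {A B : CommRingCat.{u}} (ρ : A ⟶ B) (hρ : ρ.hom.FaithfullyFlat) (j0 : Spec A ⟶ Y.left)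
    (xl : Spec B ⟶ X.left) (hxl : xl ≫ φ.left = Spec.map ρ ≫ j0) (p : PrimeSpectrum A) :
    ∃ f' : A, f' ∉ p.asIdeal ∧ ∃ y : Spec (CommRingCat.of (Localization.Away f')) ⟶ X.left,
      y ≫ φ.left = Spec.map (CommRingCat.ofHom (algebraMap A (Localization.Away f'))) ≫ j0 := by
  letI : Algebra A B := ρ.hom.toAlgebra
  haveI : Module.FaithfullyFlat A B := hρ
  have hxl' : xl ≫ X.hom = Spec.map ρ ≫ j0 ≫ Y.hom := by
    rw [← Over.w φ, ← Category.assoc, hxl, Category.assoc]
  exact exists_section_of_affine_cover n a φ (A := A) hcart j0 (B := B)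
    (Over.homMk xl hxl') hxl p

end Main

section Props

open CategoryTheory.Limits

variable {S : Scheme.{u}} {G X Y : Over S} [GrpObj G] (a : AlgGrp.Action G X) (φ : X ⟶ Y)

/-- For a torsor `X → Y` under `G` (cartesian square), the base change of `X → Y` along a morphism
over which it has a section is isomorphic to a base change of `G → S`. -/
lemma pullback_snd_of_hasSectionOver' {P : MorphismProperty Scheme.{u}} [P.RespectsIso]
    [P.IsStableUnderBaseChange] (hcart : IsPullback a.act (snd G X) φ φ) (hG : P G.hom)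
    {Y' : Scheme.{u}} (f : Y' ⟶ Y.left)
    (hs : NonAbH1.HasSectionOver (Over.mk φ.left : Over Y.left) f) :
    P (pullback.snd φ.left f) := by
  obtain ⟨s, hs⟩ := hs
  change Y' ⟶ X.left at s
  change s ≫ φ.left = f at hs
  have hc : IsPullback a.act.left (pullback.snd G.hom X.hom) φ.left φ.left :=
    hcart.map (Over.forget S)
  let t : pullback G.hom (s ≫ X.hom) ⟶ pullback G.hom X.hom :=
    pullback.lift (pullback.fst G.hom (s ≫ X.hom)) (pullback.snd G.hom (s ≫ X.hom) ≫ s)
      (by rw [pullback.condition, Category.assoc])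
  have ht1 : t ≫ pullback.fst G.hom X.hom = pullback.fst G.hom (s ≫ X.hom) :=
    pullback.lift_fst _ _ _
  have ht2 : t ≫ pullback.snd G.hom X.hom = pullback.snd G.hom (s ≫ X.hom) ≫ s :=
    pullback.lift_snd _ _ _
  have hleft : IsPullback t (pullback.snd G.hom (s ≫ X.hom)) (pullback.snd G.hom X.hom) s := by
    refine IsPullback.of_right (h₁₂ := pullback.fst G.hom X.hom) (v₁₃ := G.hom) (h₂₂ := X.hom)
      ?_ ht2 (IsPullback.of_hasPullback G.hom X.hom)
    rw [ht1]
    exact IsPullback.of_hasPullback _ _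
  have hbig := hleft.paste_horiz hc
  rw [hs] at hbig
  have e : pullback.snd φ.left f = hbig.isoPullback.inv ≫ pullback.snd G.hom (s ≫ X.hom) := by
    rw [IsPullback.isoPullback_inv_snd]
  rw [e, P.cancel_left_of_respectsIso]
  exact P.pullback_snd _ _ hG

end Props

section Final

open CategoryTheory.Limits Groth.Agent.Lib.Seat27.KernelTorsor

variable (n : ℕ) {S : Scheme.{u}} {X Z : Over S} (a : AlgGrp.Action (FrB.GLn n S) X) (φ : X ⟶ Z)

instance isAffineHom_GLn_hom : IsAffineHom (FrB.GLn n S).hom := by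
  have h : IsAffineHom (FrB.GLZ n).hom := by
    have : IsAffine (FrB.GLZ n).left := by
      change IsAffine (Spec _)
      infer_instance
    exact isAffineHom_of_isAffine _
  exact MorphismProperty.pullback_snd (P := @IsAffineHom) _ _ h

/-- A `GL_n`-torsor `X → Y` (cartesian square `G × X ⇉ X → Y`, sections fpqc-locally on `Y`) is
Zariski-locally trivial, as soon as `GL_{n,S} → S` is flat. -/
theorem isLocallyTrivialFor_zariski_of_fpqc (hflatG : Flat (FrB.GLn n S).hom)
    (hcart : IsPullback a.act (snd (FrB.GLn n S) X) φ φ)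
    (hloc : NonAbH1.IsLocallyTrivialFor Scheme.fpqcPrecoverage (Over.mk φ.left : Over Z.left)) :
    NonAbH1.IsLocallyTrivialFor Scheme.zariskiPrecoverage (Over.mk φ.left : Over Z.left) := by
  obtain ⟨R, hR, hsec⟩ := hloc
  have haff : IsAffineHom φ.left :=
    of_mem_fpqcPrecoverage descendsAlong_isAffineHom φ.left R hR
      (fun _ f hf => pullback_snd_of_hasSectionOver' a φ hcart (isAffineHom_GLn_hom n) f (hsec f hf))
  have hflat : Flat φ.left :=
    of_mem_fpqcPrecoverage descendsAlong_flat φ.left R hR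
      (fun _ f hf => pullback_snd_of_hasSectionOver' a φ hcart hflatG f (hsec f hf))
  have hsurj : Surjective φ.left :=
    of_mem_fpqcPrecoverage (inferInstance : MorphismProperty.DescendsAlong @Surjective
          (@Surjective ⊓ @Flat ⊓ @QuasiCompact : MorphismProperty Scheme.{u})) φ.left R hR
      (fun _ f hf => pullback_snd_of_hasSectionOver' a φ hcart (surjective_grp_hom _) f
        (hsec f hf))
  apply isLocallyTrivialFor_of_local (K := Scheme.zariskiPrecoverage)
    Z.left.affineOpenCover.openCover.presieve₀ Z.left.affineOpenCover.openCover.mem₀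
  rintro T' f0 ⟨i⟩
  set A := Z.left.affineOpenCover.X i
  set j0 : Spec A ⟶ Z.left := Z.left.affineOpenCover.f i
  let W := pullback φ.left j0
  have hW : IsAffine W := isAffine_of_isAffineHom (pullback.snd φ.left j0)
  let ψ : Spec Γ(W, ⊤) ⟶ Spec A := W.isoSpec.inv ≫ pullback.snd φ.left j0
  have hψf : Flat ψ := inferInstance
  have hψs : Surjective ψ := inferInstance
  obtain ⟨ρ, hρ⟩ : ∃ ρ : A ⟶ Γ(W, ⊤), Spec.map ρ = ψ := ⟨Spec.preimage ψ, Spec.map_preimage ψ⟩
  have hff : ρ.hom.FaithfullyFlat := by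
    rw [← flat_and_surjective_SpecMap_iff, hρ]
    exact ⟨hψf, hψs⟩
  have hx' : (W.isoSpec.inv ≫ pullback.fst φ.left j0) ≫ φ.left = Spec.map ρ ≫ j0 := by
    rw [hρ, Category.assoc, Category.assoc, pullback.condition]
  choose fp hfp y hy using
    (fun p : PrimeSpectrum A => exists_section_of_affine_cover' n a φ hcart ρ hff j0
      (W.isoSpec.inv ≫ pullback.fst φ.left j0) hx' p)
  have hspan : Ideal.span (Set.range fp) = ⊤ := by
    by_contra hne
    obtain ⟨m, hm, hle⟩ := Ideal.exists_le_maximal _ hne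
    exact hfp ⟨m, hm.isPrime⟩ (hle (Ideal.subset_span ⟨⟨m, hm.isPrime⟩, rfl⟩))
  let 𝒱 := Scheme.affineOpenCoverOfSpanRangeEqTop (R := A) fp hspan
  refine ⟨𝒱.openCover.presieve₀, 𝒱.openCover.mem₀, ?_⟩
  rintro T'' k ⟨p⟩
  exact ⟨y p, hy p⟩

end Final

end Groth.Agent.Lib.Seat27.GLnTorsor
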