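import Mathlib.Tactic
import Groth.Prelude.Def_NonAbH2
import Groth.Prelude.Def_Red2
import Groth.Agent.Lib.Helper27GaGm
import Groth.Agent.Lib.Helper27DiagSub
import Groth.Agent.Lib.Seat27DSPoints
import Groth.Agent.Lib.Seat27ExactSeq
import Groth.Agent.Lib.Seat27MonicCover

/-!
# The Kummer sequence `1 → μ_n → 𝔾_m → 𝔾_m → 1` is exact for the fppf topology (seat 27)
-/

set_option autoImplicit false
universe u

open CategoryTheory MonoidalCategory CartesianMonoidalCategory MonObj GrpObj AlgebraicGeometry CategoryTheory.Limits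
open Polynomial
open Groth.Agent.Lib.Helper27.GaGm Groth.Agent.Lib.Seat27.DSPoints

namespace Groth.Agent.Lib.Seat27.Kummer

variable {S : Scheme.{u}}

/-- `D_S(φ)` is a monomorphism when `φ` is surjective. -/
theorem mono_DSmap_of_surjective {M N : Type} [AddCommGroup M] [AddCommGroup N] (φ : M →+ N)
    (hφ : Function.Surjective φ) : Mono (Red.DSmap S φ) := by
  constructor
  intro T a b hab
  apply dsChar_ext
  intro k
  obtain ⟨j, rfl⟩ := hφ k
  rw [← dsChar_DSmap, ← dsChar_DSmap, hab]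

section

variable (n : ℕ)

/-- the coordinate ring of `𝔾_m` over `ℤ`. -/
abbrev AZ : Type u := MonoidAlgebra (ULift.{u} ℤ) (Multiplicative ℤ)

/-- the coordinate `t`. -/
noncomputable abbrev tZ : AZ.{u} := MonoidAlgebra.single (Multiplicative.ofAdd (1 : ℤ)) 1

/-- the Kummer polynomial `Xⁿ - t`. -/
noncomputable abbrev kpoly : (AZ.{u})[X] := X ^ n - C tZ.{u}

lemma kpoly_monic (hn : n ≠ 0) : (kpoly.{u} n).Monic := monic_X_pow_sub_C _ hn

lemma kpoly_natDegree (hn : n ≠ 0) : (kpoly.{u} n).natDegree ≠ 0 := by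
  rw [natDegree_X_pow_sub_C]; exact hn

end

theorem kummer_comp_eq_one (n : ℕ) :
    Red.DSmap S (Int.castAddHom (ZMod n)) ≫ Red.chi S (n : ℤ) = 1 := by
  apply gmFn_injective
  rw [gmFn_chi, gmFn_one]
  have : Red.DSmap S (Int.castAddHom (ZMod n)) =
      𝟙 (Red.DS S (ZMod n)) ≫ Red.DSmap S (Int.castAddHom (ZMod n)) := (Category.id_comp _).symm
  rw [this, dsChar_DSmap]
  have h0 : (Int.castAddHom (ZMod n)) (n : ℤ) = 0 := by simp
  rw [h0, dsChar_zero]

theorem kummer_kernel (n : ℕ) (T : Over S) (z : T ⟶ Red.Gm S)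
    (hz : z ≫ Red.chi S (n : ℤ) = 1) :
    ∃ ζ : T ⟶ Red.DS S (ZMod n), ζ ≫ Red.DSmap S (Int.castAddHom (ZMod n)) = z := by
  have hb : Red.gmFn z ^ n = 1 := by
    have h1 := congrArg Red.gmFn hz
    rw [gmFn_chi, gmFn_one] at h1
    have h2 : ((n : ℕ) : ℤ) = n • (1 : ℤ) := by simp
    rw [h2, dsChar_nsmul, ← gmFn_eq_dsChar] at h1
    exact h1
  let bu : Γ(T.left, ⊤)ˣ := gmUnit z
  have hbu : bu ^ n = 1 := by
    apply Units.ext
    simpa [bu] using hb
  let f : ℤ →+ Additive Γ(T.left, ⊤)ˣ := zmultiplesHom _ (Additive.ofMul bu)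
  have hf : f n = 0 := by
    simp only [f, zmultiplesHom_apply, natCast_zsmul]
    rw [← ofMul_pow, hbu]
    rfl
  let χ : Multiplicative (ZMod n) →* Γ(T.left, ⊤) :=
    (Units.coeHom _).comp (AddMonoidHom.toMultiplicativeLeft (ZMod.lift n ⟨f, hf⟩))
  obtain ⟨ζ, hζ⟩ := dsChar_surj (S := S) χ
  refine ⟨ζ, ?_⟩
  apply gmFn_injective
  rw [gmFn_eq_dsChar, dsChar_DSmap, hζ]
  have : (Int.castAddHom (ZMod n)) (1 : ℤ) = ((1 : ℤ) : ZMod n) := rfl
  rw [this]
  simp only [χ, MonoidHom.coe_comp, Function.comp_apply, AddMonoidHom.coe_toMultiplicativeLeft,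
    toAdd_ofAdd, ZMod.lift_coe]
  simp [f, bu]

/-- the covering of `𝔾_{m,S}` extracting an `n`-th root of the coordinate. -/
noncomputable abbrev kcover (n : ℕ) :
    pullback (pullback.fst (Red.diag (ULift.{u} ℤ) ℤ).hom
        (Limits.IsTerminal.from specULiftZIsTerminal S))
      (MonicCover.rootMap (kpoly.{u} n)) ⟶ (Red.Gm S).left :=
  pullback.fst _ _

theorem kummer_section (n : ℕ) (hn : n ≠ 0) :
    ∃ s : pullback (pullback.fst (Red.diag (ULift.{u} ℤ) ℤ).hom
        (Limits.IsTerminal.from specULiftZIsTerminal S))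
      (MonicCover.rootMap (kpoly.{u} n)) ⟶ (Red.Gm S).left,
      s ≫ (Red.chi S (n : ℤ)).left = kcover n := by
  -- the covering as an object over `S`
  let YS : Over S := Over.mk (kcover (S := S) n ≫ (Red.Gm S).hom)
  let pO : YS ⟶ Red.Gm S := Over.homMk (kcover (S := S) n) rfl
  -- the root as a unit function on the covering
  let q : YS.left ⟶ Spec (CommRingCat.of (AdjoinRoot (kpoly.{u} n))) := pullback.snd _ _
  let r : Γ(YS.left, ⊤) := fn q (AdjoinRoot.root (kpoly.{u} n))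
  have hroot : AdjoinRoot.root (kpoly.{u} n) ^ n = algebraMap AZ.{u} _ tZ.{u} := by
    have h := AdjoinRoot.eval₂_root (kpoly.{u} n)
    simp only [kpoly, eval₂_sub, eval₂_pow, eval₂_X, eval₂_C] at h
    exact sub_eq_zero.mp h
  have hrn : r ^ n = Red.gmFn pO := by
    change fn q _ ^ n = _
    rw [fn_eq, ← map_pow, hroot, ← fn_eq, ← fn_specMap, gmFn_eq_fn_gmPt]
    congr 1
    exact pullback.condition.symm
  have hru : IsUnit r := by
    have h1 : IsUnit (r ^ n) := by rw [hrn]; exact gmFn_isUnit pO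
    exact (isUnit_pow_iff hn).mp h1
  obtain ⟨z, hz⟩ := gmFn_surjective (X := YS) r hru
  have hzp : z ≫ Red.chi S (n : ℤ) = pO := by
    apply gmFn_injective
    rw [gmFn_chi, ← hrn, ← hz]
    have h2 : ((n : ℕ) : ℤ) = n • (1 : ℤ) := by simp
    rw [h2, dsChar_nsmul, ← gmFn_eq_dsChar]
  refine ⟨z.left, ?_⟩
  have := congrArg Over.Hom.left hzp
  rw [Over.comp_left] at this
  exact this

theorem kummer_isExactSeq_fppf (n : ℕ) (hn : 0 < n) :
    NonAbH1.IsExactSeq Scheme.fppfPrecoverage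
      (Red.DSmap S (Int.castAddHom (ZMod n))) (Red.chi S (n : ℤ)) := by
  have hn' : n ≠ 0 := Nat.pos_iff_ne_zero.mp hn
  have : NeZero n := ⟨hn'⟩
  have i1 : IsMonHom (Red.DSmap S (Int.castAddHom (ZMod n))) :=
    Groth.Agent.Lib.Helper27DiagSub.isMonHom_DSmap S _
  have i2 : IsMonHom (Red.chi S (n : ℤ)) := by
    unfold Red.chi
    exact Groth.Agent.Lib.Helper27DiagSub.isMonHom_DSmap S _
  have i3 : Mono (Red.DSmap S (Int.castAddHom (ZMod n))) :=
    mono_DSmap_of_surjective _ (ZMod.intCast_surjective)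
  obtain ⟨s, hs⟩ := kummer_section (S := S) n hn'
  exact ExactSeq.isExactSeq_of_kernel_of_cover _ _ _ (kummer_comp_eq_one n) (kummer_kernel n)
    (kcover n) (MonicCover.singleton_mem_fppf _ (kpoly_monic n hn') (kpoly_natDegree n hn') _) s hs

theorem kummer_isExactSeq_fpqc (n : ℕ) (hn : 0 < n) :
    NonAbH1.IsExactSeq Scheme.fpqcPrecoverage
      (Red.DSmap S (Int.castAddHom (ZMod n))) (Red.chi S (n : ℤ)) := by
  obtain ⟨h1, h2, h3, h4, R, hR, h5⟩ := kummer_isExactSeq_fppf (S := S) n hn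
  exact ⟨h1, h2, h3, h4, R, Scheme.fppfPrecoverage_le_fpqcPrecoverage _ hR, h5⟩

end Groth.Agent.Lib.Seat27.Kummer
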