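import Mathlib

/-!
# Epimorphisms of schemes and factorization through quotient-like morphisms (seat 51)
-/

set_option autoImplicit false
universe u

namespace Groth.Agent.Lib.Seat51.GITEpi

open CategoryTheory AlgebraicGeometry TopologicalSpace Opposite

/-- a surjective morphism of schemes which is injective on sections over every open is an
epimorphism of schemes -/
theorem epi_of_surjective_of_app_injective {X Y : Scheme.{u}} (p : X ⟶ Y)
    (hs : Function.Surjective p.base) (hi : ∀ U : Y.Opens, Function.Injective (p.app U)) :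
    Epi p := by
  apply CategoryTheory.Functor.epi_of_epi_map (Scheme.forgetToLocallyRingedSpace)
  apply CategoryTheory.Functor.epi_of_epi_map (LocallyRingedSpace.forgetToSheafedSpace)
  constructor
  intro Z ⟨g, gc⟩ ⟨h, hc⟩ e
  apply_fun InducedCategory.Hom.hom at e
  obtain rfl : g = h := ConcreteCategory.hom_ext _ _ fun y ↦ by
    obtain ⟨x, rfl⟩ := hs y
    exact congr(($e).base.hom x)
  have hcg : gc = hc := by
    apply NatTrans.ext
    funext U
    have := PresheafedSpace.congr_app e U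
    rw [SheafedSpace.comp_hom_c_app, SheafedSpace.comp_hom_c_app] at this
    dsimp only at this
    simp only [eqToHom_map] at this
    have hm : Mono ((LocallyRingedSpace.forgetToSheafedSpace.map
        (Scheme.forgetToLocallyRingedSpace.map p)).hom.c.app (op ((Opens.map g).obj (unop U)))) :=
      ConcreteCategory.mono_of_injective _ (hi ((Opens.map g).obj (unop U)))
    exact (cancel_mono _).mp this
  subst hcg
  rfl

/-- factorization through `p` of a morphism to an affine scheme, given that the pulled back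
functions lie in the image of the (injective) map on global sections of `p`. -/
theorem exists_factor_affine {X Y Z : Scheme.{u}} [IsAffine Z] (p : X ⟶ Y) (q : X ⟶ Z)
    (hi : Function.Injective p.appTop) (hr : ∀ s : Γ(Z, ⊤), q.appTop s ∈ Set.range p.appTop) :
    ∃ χ : Y ⟶ Z, p ≫ χ = q := by
  choose t ht using hr
  have hadd : ∀ a b, t (a + b) = t a + t b := fun a b => hi (by
    rw [map_add, ht, ht, ht, map_add])
  have hmul : ∀ a b, t (a * b) = t a * t b := fun a b => hi (by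
    rw [map_mul, ht, ht, ht, map_mul])
  have hone : t 1 = 1 := hi (by rw [ht, map_one, map_one])
  have hzero : t 0 = 0 := hi (by rw [ht, map_zero, map_zero])
  let θ' : Γ(Z, ⊤) →+* Γ(Y, ⊤) :=
    { toFun := t, map_one' := hone, map_mul' := hmul, map_zero' := hzero, map_add' := hadd }
  let θ : Γ(Z, ⊤) ⟶ Γ(Y, ⊤) := CommRingCat.ofHom θ'
  have hθ : θ ≫ p.appTop = q.appTop := by
    ext s
    exact ht s
  refine ⟨Y.toSpecΓ ≫ Spec.map θ ≫ Z.isoSpec.inv, ?_⟩
  rw [← cancel_mono Z.isoSpec.hom]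
  simp only [Category.assoc, Iso.inv_hom_id, Category.comp_id]
  rw [Scheme.isoSpec_hom, Scheme.toSpecΓ_naturality, Scheme.toSpecΓ_naturality_assoc,
    ← Spec.map_comp, hθ]

/-- local version on opens of `exists_factor_affine` -/
theorem exists_factor_open {X Y Z : Scheme.{u}} (p : X ⟶ Y) (q : X ⟶ Z) (U : Y.Opens)
    (V : Z.Opens) (hV : IsAffineOpen V) (hle : p ⁻¹ᵁ U ≤ q ⁻¹ᵁ V)
    (hi : Function.Injective (p.app U))
    (hr : ∀ s : Γ(Z, V), q.appLE V (p ⁻¹ᵁ U) hle s ∈ Set.range (p.app U)) :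
    ∃ χ : (U : Scheme.{u}) ⟶ Z, (p ∣_ U) ≫ χ = (p ⁻¹ᵁ U).ι ≫ q := by
  have hVa : IsAffine V.toScheme := hV
  have h1 : (p.resLE U (p ⁻¹ᵁ U) le_rfl).appTop =
      U.topIso.hom ≫ p.app U ≫ (p ⁻¹ᵁ U).topIso.inv := by
    change (p.resLE U (p ⁻¹ᵁ U) le_rfl).app ⊤ = _
    rw [Scheme.Hom.resLE_app_top, Scheme.Hom.appLE_eq_app]
  have h2 : (q.resLE V (p ⁻¹ᵁ U) hle).appTop =
      V.topIso.hom ≫ q.appLE V (p ⁻¹ᵁ U) hle ≫ (p ⁻¹ᵁ U).topIso.inv :=
    Scheme.Hom.resLE_app_top _ _
  have hbU : Function.Bijective U.topIso.hom :=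
    (ConcreteCategory.isIso_iff_bijective _).mp inferInstance
  have hbW : Function.Bijective (p ⁻¹ᵁ U).topIso.inv :=
    (ConcreteCategory.isIso_iff_bijective _).mp inferInstance
  have hinj : Function.Injective (p.resLE U (p ⁻¹ᵁ U) le_rfl).appTop := by
    rw [h1]
    intro a b hab
    simp only [CommRingCat.comp_apply] at hab
    exact hbU.1 (hi (hbW.1 hab))
  have hran : ∀ s : Γ(V.toScheme, ⊤), (q.resLE V (p ⁻¹ᵁ U) hle).appTop s ∈
      Set.range (p.resLE U (p ⁻¹ᵁ U) le_rfl).appTop := by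
    intro s
    obtain ⟨t, ht⟩ := hr (V.topIso.hom s)
    refine ⟨U.topIso.inv t, ?_⟩
    rw [h1, h2]
    simp only [CommRingCat.comp_apply]
    rw [Iso.inv_hom_id_apply, ht]
  obtain ⟨χ', hχ'⟩ := exists_factor_affine (p.resLE U (p ⁻¹ᵁ U) le_rfl)
    (q.resLE V (p ⁻¹ᵁ U) hle) hinj hran
  refine ⟨χ' ≫ V.ι, ?_⟩
  rw [← Scheme.Hom.resLE_eq_morphismRestrict, ← Category.assoc, hχ', Scheme.Hom.resLE_comp_ι]

/-- the restriction of `p` to an open inherits the hypotheses of
`epi_of_surjective_of_app_injective` -/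
theorem epi_morphismRestrict {X Y : Scheme.{u}} (p : X ⟶ Y)
    (hs : Function.Surjective p.base) (hi : ∀ U : Y.Opens, Function.Injective (p.app U))
    (W : Y.Opens) : Epi (p ∣_ W) := by
  apply epi_of_surjective_of_app_injective
  · rintro ⟨y, hy⟩
    obtain ⟨x, rfl⟩ := hs y
    exact ⟨⟨x, hy⟩, Subtype.ext (morphismRestrict_base_coe p W _)⟩
  · intro V
    rw [morphismRestrict_app]
    have hb : Function.Bijective (X.presheaf.map
        (eqToHom (image_morphismRestrict_preimage p W V)).op) :=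
      (ConcreteCategory.isIso_iff_bijective _).mp inferInstance
    intro a b hab
    simp only [CommRingCat.comp_apply] at hab
    exact hi _ (hb.1 hab)

/-- gluing of local factorizations through a quotient-like morphism -/
theorem existsUnique_factor {X Y Z : Scheme.{u}} (p : X ⟶ Y) (q : X ⟶ Z)
    (hs : Function.Surjective p.base) (hi : ∀ U : Y.Opens, Function.Injective (p.app U))
    (hloc : ∀ y : Y, ∃ U : Y.Opens, y ∈ U ∧
      ∃ χ : (U : Scheme.{u}) ⟶ Z, (p ∣_ U) ≫ χ = (p ⁻¹ᵁ U).ι ≫ q) :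
    ∃! χ : Y ⟶ Z, p ≫ χ = q := by
  have hepi : Epi p := epi_of_surjective_of_app_injective p hs hi
  choose U hyU χ hχ using hloc
  let 𝒰 : Y.OpenCover := {
    I₀ := Y, X i := (U i), f i := (U i).ι,
    mem₀ := by
      rw [Scheme.presieve₀_mem_precoverage_iff]
      refine ⟨fun x ↦ ⟨x, by simpa using hyU x⟩, inferInstance⟩ }
  have hcompat : ∀ y y' : Y, Limits.pullback.fst (𝒰.f y) (𝒰.f y') ≫ χ y =
      Limits.pullback.snd (𝒰.f y) (𝒰.f y') ≫ χ y' := by
    intro y y'
    have key : Y.homOfLE (inf_le_left : U y ⊓ U y' ≤ U y) ≫ χ y =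
        Y.homOfLE (inf_le_right : U y ⊓ U y' ≤ U y') ≫ χ y' := by
      have := epi_morphismRestrict p hs hi (U y ⊓ U y')
      rw [← cancel_epi (p ∣_ (U y ⊓ U y'))]
      have e1 : (p ∣_ (U y ⊓ U y')) ≫ Y.homOfLE (inf_le_left : U y ⊓ U y' ≤ U y) =
          X.homOfLE (show p ⁻¹ᵁ (U y ⊓ U y') ≤ p ⁻¹ᵁ (U y) from
            (Opens.map p.base).monotone inf_le_left) ≫ (p ∣_ (U y)) := by
        rw [← Scheme.Hom.resLE_eq_morphismRestrict, ← Scheme.Hom.resLE_eq_morphismRestrict,
          Scheme.Hom.resLE_map, Scheme.Hom.map_resLE]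
      have e2 : (p ∣_ (U y ⊓ U y')) ≫ Y.homOfLE (inf_le_right : U y ⊓ U y' ≤ U y') =
          X.homOfLE (show p ⁻¹ᵁ (U y ⊓ U y') ≤ p ⁻¹ᵁ (U y') from
            (Opens.map p.base).monotone inf_le_right) ≫ (p ∣_ (U y')) := by
        rw [← Scheme.Hom.resLE_eq_morphismRestrict, ← Scheme.Hom.resLE_eq_morphismRestrict,
          Scheme.Hom.resLE_map, Scheme.Hom.map_resLE]
      rw [← Category.assoc, e1, ← Category.assoc, e2, Category.assoc, hχ, Category.assoc, hχ,
        Scheme.homOfLE_ι_assoc, Scheme.homOfLE_ι_assoc]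
    have hrange : Set.range (Limits.pullback.fst (𝒰.f y) (𝒰.f y') ≫ (U y).ι).base ⊆
        Set.range (U y ⊓ U y').ι.base := by
      rw [Scheme.Opens.range_ι]
      rintro _ ⟨z, rfl⟩
      refine ⟨?_, ?_⟩
      · simp only [Scheme.Hom.comp_base, TopCat.hom_comp, ContinuousMap.comp_apply]
        exact (Limits.pullback.fst (𝒰.f y) (𝒰.f y') z).2
      · have hc : Limits.pullback.fst (𝒰.f y) (𝒰.f y') ≫ (U y).ι =
            Limits.pullback.snd (𝒰.f y) (𝒰.f y') ≫ (U y').ι := Limits.pullback.condition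
        rw [hc]
        simp only [Scheme.Hom.comp_base, TopCat.hom_comp, ContinuousMap.comp_apply]
        exact (Limits.pullback.snd (𝒰.f y) (𝒰.f y') z).2
    let l := IsOpenImmersion.lift (U y ⊓ U y').ι
      (Limits.pullback.fst (𝒰.f y) (𝒰.f y') ≫ (U y).ι) hrange
    have hl : l ≫ (U y ⊓ U y').ι = Limits.pullback.fst (𝒰.f y) (𝒰.f y') ≫ (U y).ι :=
      IsOpenImmersion.lift_fac _ _ _
    have hl1 : l ≫ Y.homOfLE (inf_le_left : U y ⊓ U y' ≤ U y) =
        Limits.pullback.fst (𝒰.f y) (𝒰.f y') := by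
      rw [← cancel_mono (U y).ι, Category.assoc, Scheme.homOfLE_ι, hl]
    have hl2 : l ≫ Y.homOfLE (inf_le_right : U y ⊓ U y' ≤ U y') =
        Limits.pullback.snd (𝒰.f y) (𝒰.f y') := by
      rw [← cancel_mono (U y').ι, Category.assoc, Scheme.homOfLE_ι, hl]
      exact Limits.pullback.condition
    rw [← hl1, ← hl2, Category.assoc, Category.assoc, key]
  refine ⟨𝒰.glueMorphisms χ hcompat, ?_, ?_⟩
  · apply Scheme.hom_ext_of_forall
    intro x
    refine ⟨p ⁻¹ᵁ (U (p.base x)), hyU (p.base x), ?_⟩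
    rw [← morphismRestrict_ι_assoc]
    have := 𝒰.ι_glueMorphisms χ hcompat (p.base x)
    change (U (p.base x)).ι ≫ _ = _ at this
    rw [this, hχ]
  · intro χ' hχ'
    rw [← cancel_epi p, hχ']
    apply Scheme.hom_ext_of_forall
    intro x
    refine ⟨p ⁻¹ᵁ (U (p.base x)), hyU (p.base x), ?_⟩
    rw [← morphismRestrict_ι_assoc]
    have := 𝒰.ι_glueMorphisms χ hcompat (p.base x)
    change (U (p.base x)).ι ≫ _ = _ at this
    rw [this, hχ]

end Groth.Agent.Lib.Seat51.GITEpi
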