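import Mathlib
import Groth.Prelude.Def_W4bk4git07Quot
import Groth.Agent.Lib.Seat51GITEpi

/-!
# Geometric quotients are categorical quotients (seat 51)
-/

set_option autoImplicit false
universe u

namespace Groth.Agent.Lib.Seat51.GITQuot

open CategoryTheory MonoidalCategory CartesianMonoidalCategory MonObj AlgebraicGeometry Topology
open TopologicalSpace

variable {S : Scheme.{u}} {G : Over S} [GrpObj G]

/-- `appLE` only depends on the morphism -/
lemma appLE_congr_hom {X Z : Scheme.{u}} {f g : X ⟶ Z} (h : f = g) (V : Z.Opens) (W : X.Opens)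
    (e : W ≤ f ⁻¹ᵁ V) (e' : W ≤ g ⁻¹ᵁ V) : f.appLE V W e = g.appLE V W e' := by
  subst h; rfl

/-- an invariant morphism is constant on the fibres of a morphism with surjective orbit map -/
lemma eq_of_orbit {X Y Z : Over S} (a : AlgGrp.Action G X) (φ : X ⟶ Y) (hinv : GIT.IsInvariant a φ)
    (horb : Function.Surjective (GIT.PsiY a φ hinv).base) (ψ : X ⟶ Z) (hψ : GIT.IsInvariant a ψ)
    (x x' : X.left) (hx : φ.left.base x = φ.left.base x') : ψ.left.base x = ψ.left.base x' := by
  obtain ⟨z, hz1, hz2⟩ := Scheme.Pullback.exists_preimage_pullback (f := φ.left) (g := φ.left)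
    x x' hx
  obtain ⟨w, rfl⟩ := horb z
  have hfst : GIT.PsiY a φ hinv ≫ Limits.pullback.fst φ.left φ.left = a.act.left :=
    Limits.pullback.lift_fst _ _ _
  have hsnd : GIT.PsiY a φ hinv ≫ Limits.pullback.snd φ.left φ.left = (snd G X).left :=
    Limits.pullback.lift_snd _ _ _
  have h1 : a.act.left.base w = x := by
    rw [← hfst, Scheme.Hom.comp_apply]; exact hz1
  have h2 : (snd G X).left.base w = x' := by
    rw [← hsnd, Scheme.Hom.comp_apply]; exact hz2
  have h3 := hψ.left
  rw [← h1, ← h2, ← Scheme.Hom.comp_apply, ← Scheme.Hom.comp_apply, h3]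

/-- pulled back functions are invariant sections -/
lemma isInvSection_appLE {X Y Z : Over S} (a : AlgGrp.Action G X) (φ : X ⟶ Y) (ψ : X ⟶ Z)
    (hψ : GIT.IsInvariant a ψ) (U : Y.left.Opens) (V : Z.left.Opens)
    (hle : φ.left ⁻¹ᵁ U ≤ ψ.left ⁻¹ᵁ V) (s : Γ(Z.left, V)) :
    GIT.IsInvSection a φ U (ψ.left.appLE V (φ.left ⁻¹ᵁ U) hle s) := by
  unfold GIT.IsInvSection
  rw [← CommRingCat.comp_apply, ← CommRingCat.comp_apply, Scheme.Hom.appLE_comp_appLE,
    Scheme.Hom.appLE_comp_appLE]
  rw [appLE_congr_hom hψ.left]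

/-- universally submersive morphisms are quotient maps -/
lemma isQuotientMap_of_isUnivSubmersive {X Y : Scheme.{u}} (f : X ⟶ Y)
    (h : GIT.IsUnivSubmersive f) : IsQuotientMap f.base :=
  MorphismProperty.universally_le _ _ h

/-- factorization in `Over S` from a factorization of the underlying schemes through an
epimorphism -/
lemma existsUnique_over_of_left {X Y Z : Over S} (φ : X ⟶ Y) (ψ : X ⟶ Z) (hepi : Epi φ.left)
    (h : ∃! χ : Y.left ⟶ Z.left, φ.left ≫ χ = ψ.left) : ∃! χ : Y ⟶ Z, φ ≫ χ = ψ := by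
  obtain ⟨χ, hχ, huniq⟩ := h
  have hw : χ ≫ Z.hom = Y.hom := by
    rw [← cancel_epi φ.left, ← Category.assoc, hχ, Over.w, Over.w]
  refine ⟨Over.homMk χ hw, ?_, ?_⟩
  · apply Over.OverMorphism.ext
    simpa using hχ
  · intro χ' hχ'
    apply Over.OverMorphism.ext
    have := huniq χ'.left (by change φ.left ≫ χ'.left = ψ.left; rw [← Over.comp_left, hχ'])
    simpa using this

/-- a geometric quotient is a categorical quotient -/
theorem isCatQuot_of_isGeomQuot {X Y : Over S} (a : AlgGrp.Action G X) (φ : X ⟶ Y)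
    (h : GIT.IsGeomQuot a φ) : GIT.IsCatQuot a φ := by
  refine ⟨h.inv, fun Z ψ hψ => ?_⟩
  have hi : ∀ U : Y.left.Opens, Function.Injective (φ.left.app U) := fun U => (h.sections U).1
  have hepi : Epi φ.left := GITEpi.epi_of_surjective_of_app_injective φ.left h.surj hi
  apply existsUnique_over_of_left φ ψ hepi
  apply GITEpi.existsUnique_factor φ.left ψ.left h.surj hi
  intro y
  obtain ⟨x, rfl⟩ := h.surj y
  obtain ⟨_, ⟨V, hV, rfl⟩, hxV, -⟩ := Z.left.isBasis_affineOpens.exists_subset_of_mem_open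
    (Set.mem_univ (ψ.left.base x)) isOpen_univ
  have hq : IsQuotientMap φ.left.base := isQuotientMap_of_isUnivSubmersive _ h.subm
  have hsat : φ.left.base ⁻¹' (φ.left.base '' (ψ.left.base ⁻¹' (V : Set Z.left))) =
      ψ.left.base ⁻¹' (V : Set Z.left) := by
    ext x₁
    constructor
    · rintro ⟨x₂, hx₂, hx₂'⟩
      have := eq_of_orbit a φ h.inv h.orbit ψ hψ x₂ x₁ hx₂'
      simp only [Set.mem_preimage] at hx₂ ⊢
      rwa [← this]
    · intro hx₁
      exact ⟨x₁, hx₁, rfl⟩
  have hopen : IsOpen (φ.left.base '' (ψ.left.base ⁻¹' (V : Set Z.left))) := by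
    rw [← hq.isOpen_preimage, hsat]
    exact V.2.preimage ψ.left.continuous
  let U : Y.left.Opens := ⟨_, hopen⟩
  have hle : φ.left ⁻¹ᵁ U ≤ ψ.left ⁻¹ᵁ V := by
    intro x₁ hx₁
    have : x₁ ∈ φ.left.base ⁻¹' (φ.left.base '' (ψ.left.base ⁻¹' (V : Set Z.left))) := hx₁
    rw [hsat] at this
    exact this
  refine ⟨U, ⟨x, hxV, rfl⟩, ?_⟩
  apply GITEpi.exists_factor_open φ.left ψ.left U V hV hle (hi U)
  intro s
  rw [(h.sections U).2]
  exact isInvSection_appLE a φ ψ hψ U V hle s

/-- preimages under an invariant morphism are invariant subsets -/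
lemma invariant_preimage {X Z : Over S} (a : AlgGrp.Action G X) (ψ : X ⟶ Z)
    (hψ : GIT.IsInvariant a ψ) (T : Set Z.left) :
    a.act.left.base '' ((snd G X).left.base ⁻¹' (ψ.left.base ⁻¹' T)) ⊆ ψ.left.base ⁻¹' T := by
  rintro _ ⟨w, hw, rfl⟩
  have h3 := hψ.left
  simp only [Set.mem_preimage] at hw ⊢
  rw [← Scheme.Hom.comp_apply, h3, Scheme.Hom.comp_apply]
  exact hw

/-- an open with no nonzero sections is empty -/
lemma opens_eq_bot_of_subsingleton {Y : Scheme.{u}} (U : Y.Opens) [Subsingleton Γ(Y, U)] :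
    U = ⊥ := by
  have h3 := Scheme.basicOpen_of_isUnit Y (U := U) (f := (0 : Γ(Y, U)))
    (by rw [Subsingleton.elim (0 : Γ(Y, U)) 1]; exact isUnit_one)
  rw [Scheme.basicOpen_zero] at h3
  exact h3.symm

/-- Mumford's criterion: invariant functions + closed images of closed invariant subsets give a
categorical quotient and a submersive map -/
theorem isCatQuot_of_closed_images {X Y : Over S} (a : AlgGrp.Action G X) (φ : X ⟶ Y)
    (hi : GIT.IsInvariant a φ)
    (hii : ∀ U : Y.left.Opens,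
      Function.Injective (φ.left.app U) ∧
        Set.range (φ.left.app U) = {f | GIT.IsInvSection a φ U f})
    (hiii : ∀ W : Set X.left, IsClosed W →
      a.act.left.base '' ((snd G X).left.base ⁻¹' W) ⊆ W → IsClosed (φ.left.base '' W))
    (hiii' : ∀ (J : Type u) (W : J → Set X.left),
      (∀ i, IsClosed (W i) ∧ a.act.left.base '' ((snd G X).left.base ⁻¹' W i) ⊆ W i) →
      φ.left.base '' (⋂ i, W i) = ⋂ i, φ.left.base '' W i) :
    GIT.IsCatQuot a φ ∧ IsQuotientMap φ.left.base := by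
  have hinj : ∀ U : Y.left.Opens, Function.Injective (φ.left.app U) := fun U => (hii U).1
  -- surjectivity
  have hsurj : Function.Surjective φ.left.base := by
    have hcl : IsClosed (φ.left.base '' Set.univ) :=
      hiii Set.univ isClosed_univ (Set.subset_univ _)
    let U : Y.left.Opens := ⟨(φ.left.base '' Set.univ)ᶜ, hcl.isOpen_compl⟩
    have hpre : φ.left ⁻¹ᵁ U = ⊥ := by
      ext x
      simp only [Opens.coe_bot, Set.mem_empty_iff_false, iff_false]
      intro hx
      exact hx ⟨x, trivial, rfl⟩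
    have hsub : Subsingleton Γ(X.left, φ.left ⁻¹ᵁ U) := by rw [hpre]; infer_instance
    have hsubU : Subsingleton Γ(Y.left, U) := (hinj U).subsingleton
    have hU : U = ⊥ := opens_eq_bot_of_subsingleton U
    intro y
    by_contra hy
    have : y ∈ (U : Set Y.left) := fun ⟨x, _, hx⟩ => hy ⟨x, hx⟩
    rw [hU] at this
    exact this
  have hq : IsQuotientMap φ.left.base := by
    rw [isQuotientMap_iff_isClosed]
    refine ⟨hsurj, fun s => ⟨fun hs => hs.preimage φ.left.continuous, fun hs => ?_⟩⟩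
    have hcl : IsClosed (φ.left.base '' (φ.left.base ⁻¹' s)) :=
      hiii _ hs (invariant_preimage a φ hi s)
    rwa [Set.image_preimage_eq _ hsurj] at hcl
  refine ⟨⟨hi, fun Z ψ hψ => ?_⟩, hq⟩
  have hepi : Epi φ.left := GITEpi.epi_of_surjective_of_app_injective φ.left hsurj hinj
  apply existsUnique_over_of_left φ ψ hepi
  apply GITEpi.existsUnique_factor φ.left ψ.left hsurj hinj
  intro y
  -- the closed invariant subsets attached to the affine opens of `Z`
  let W : Z.left.affineOpens → Set X.left := fun V => (ψ.left.base ⁻¹' (V.1 : Set Z.left))ᶜ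
  have hW : ∀ V, IsClosed (W V) ∧ a.act.left.base '' ((snd G X).left.base ⁻¹' W V) ⊆ W V := by
    intro V
    refine ⟨((V.1.2.preimage ψ.left.continuous).isClosed_compl), ?_⟩
    exact invariant_preimage a ψ hψ ((V.1 : Set Z.left)ᶜ)
  have hempty : ⋂ V, W V = ∅ := by
    ext x
    simp only [Set.mem_iInter, Set.mem_empty_iff_false, iff_false, not_forall]
    obtain ⟨_, ⟨V, hV, rfl⟩, hxV, -⟩ := Z.left.isBasis_affineOpens.exists_subset_of_mem_open
      (Set.mem_univ (ψ.left.base x)) isOpen_univ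
    exact ⟨⟨V, hV⟩, fun h => h hxV⟩
  have himg := hiii' Z.left.affineOpens W hW
  rw [hempty, Set.image_empty] at himg
  have hy : ∃ V, y ∉ φ.left.base '' W V := by
    by_contra hcon
    push Not at hcon
    have : y ∈ ⋂ V, φ.left.base '' W V := Set.mem_iInter.mpr hcon
    rw [← himg] at this
    exact this
  obtain ⟨V, hyV⟩ := hy
  let U : Y.left.Opens := ⟨(φ.left.base '' W V)ᶜ, (hiii _ (hW V).1 (hW V).2).isOpen_compl⟩
  have hle : φ.left ⁻¹ᵁ U ≤ ψ.left ⁻¹ᵁ V.1 := by
    intro x hx
    by_contra hxV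
    exact hx ⟨x, hxV, rfl⟩
  refine ⟨U, hyV, ?_⟩
  apply GITEpi.exists_factor_open φ.left ψ.left U V.1 V.2 hle (hinj U)
  intro s
  rw [(hii U).2]
  exact isInvSection_appLE a φ ψ hψ U V.1 hle s

end Groth.Agent.Lib.Seat51.GITQuot
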