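import Mathlib
import Groth.Prelude.Def_W4bk4git07Quot
import Groth.Agent.Lib.Seat51GITQuot

/-!
# Separatedness of a geometric quotient (seat 51)
-/

set_option autoImplicit false
universe u

namespace Groth.Agent.Lib.Seat51.GITSep

open CategoryTheory MonoidalCategory CartesianMonoidalCategory MonObj AlgebraicGeometry Topology
open TopologicalSpace Limits

/-- a morphism is separated iff its diagonal has closed range -/
lemma isSeparated_iff_isClosed_range_diagonal {Y S : Scheme.{u}} (i : Y ⟶ S) :
    IsSeparated i ↔ IsClosed (Set.range (pullback.diagonal i).base) := by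
  constructor
  · intro h
    exact (pullback.diagonal i).isClosedEmbedding.isClosed_range
  · intro h
    exact ⟨IsClosedImmersion.of_isPreimmersion _ h⟩

/-- universally submersive morphisms are stable under fibre products -/
lemma isUnivSubmersive_pullback_map {X Y S : Scheme.{u}} (f : X ⟶ Y) (i : Y ⟶ S) (p : X ⟶ S)
    (hp : p = f ≫ i) (hf : GIT.IsUnivSubmersive f) :
    GIT.IsUnivSubmersive (pullback.map p p i i f f (𝟙 S)
      ((Category.comp_id _).trans hp) ((Category.comp_id _).trans hp)) := by
  have : (topologically @IsQuotientMap).IsStableUnderComposition :=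
    topologically_isStableUnderComposition _ (fun f g hf hg => hg.comp hf)
  exact MorphismProperty.pullbackMap (P := MorphismProperty.universally
    (topologically @IsQuotientMap)) hf hf hp hp

/-- points of `X ×_S X` lying over the diagonal of `Y` come from `X ×_Y X` -/
lemma exists_preimage_of_map_eq_diagonal {X Y S : Scheme.{u}} (f : X ⟶ Y) (i : Y ⟶ S) (p : X ⟶ S)
    (hp : p = f ≫ i) (z : ↥(pullback p p)) (y : Y)
    (hz : (pullback.map p p i i f f (𝟙 S)
      ((Category.comp_id _).trans hp) ((Category.comp_id _).trans hp)).base z =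
        (pullback.diagonal i).base y) :
    ∃ w : ↥(pullback f f), (pullback.lift (pullback.fst f f) (pullback.snd f f)
      (by rw [hp, pullback.condition_assoc]) : pullback f f ⟶ pullback p p).base w = z := by
  subst hp
  obtain ⟨w, -, hw2⟩ := Scheme.exists_preimage_of_isPullback
    (pullback_map_diagonal_isPullback f f i) y z hz.symm
  refine ⟨w, ?_⟩
  rw [← hw2]
  have e : (pullback.lift (pullback.fst f f) (pullback.snd f f)
      (by rw [pullback.condition_assoc]) : pullback f f ⟶ pullback (f ≫ i) (f ≫ i)) =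
      pullback.map f f (f ≫ i) (f ≫ i) (𝟙 X) (𝟙 X) i (Category.id_comp _).symm
        (Category.id_comp _).symm := by
    ext
    · rw [pullback.lift_fst, pullback.lift_fst, Category.comp_id]
    · rw [pullback.lift_snd, pullback.lift_snd, Category.comp_id]
  rw [e]


variable {S : Scheme.{u}} {G : Over S} [GrpObj G]

/-- the range of `Ψ = (σ, p₂)` is the preimage of the diagonal of `Y` under `φ × φ`, as soon as
`(σ, p₂) : G ×_S X → X ×_Y X` is surjective -/
lemma range_psi_id {X Y : Over S} (a : AlgGrp.Action G X) (φ : X ⟶ Y)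
    (hinv : GIT.IsInvariant a φ) (horb : Function.Surjective (GIT.PsiY a φ hinv).base) :
    Set.range (GIT.psi a (𝟙 X)).left.base =
      (pullback.map X.hom X.hom Y.hom Y.hom φ.left φ.left (𝟙 S)
        ((Category.comp_id _).trans (Over.w φ).symm)
        ((Category.comp_id _).trans (Over.w φ).symm)).base ⁻¹'
        Set.range (pullback.diagonal Y.hom).base := by
  have hp : X.hom = φ.left ≫ Y.hom := (Over.w φ).symm
  set P : pullback X.hom X.hom ⟶ pullback Y.hom Y.hom :=
    pullback.map X.hom X.hom Y.hom Y.hom φ.left φ.left (𝟙 S)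
      ((Category.comp_id _).trans hp) ((Category.comp_id _).trans hp) with hP
  -- the composite `Ψ ≫ (φ × φ)` factors through the diagonal
  have hcomp : (GIT.psi a (𝟙 X)).left ≫ P =
      ((snd G X).left ≫ φ.left) ≫ pullback.diagonal Y.hom := by
    have h1 := hinv.left
    apply pullback.hom_ext
    · rw [hP, Category.assoc, pullback.lift_fst, Category.assoc,
        pullback.diagonal_fst, Category.comp_id, ← Category.assoc]
      have : (GIT.psi a (𝟙 X)).left ≫ pullback.fst X.hom X.hom = a.act.left := by
        rw [← Over.fst_left, ← Over.comp_left]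
        simp [GIT.psi]
      rw [this, h1]
    · rw [hP, Category.assoc, pullback.lift_snd, Category.assoc,
        pullback.diagonal_snd, Category.comp_id, ← Category.assoc]
      have : (GIT.psi a (𝟙 X)).left ≫ pullback.snd X.hom X.hom = (snd G X).left := by
        rw [← Over.snd_left, ← Over.comp_left]
        simp [GIT.psi]
      rw [this]
  apply Set.Subset.antisymm
  · rintro _ ⟨g, rfl⟩
    refine ⟨φ.left.base ((snd G X).left.base g), ?_⟩
    rw [← Scheme.Hom.comp_apply, ← Scheme.Hom.comp_apply, ← Scheme.Hom.comp_apply, hcomp,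
      Category.assoc]
  · rintro z ⟨y, hy⟩
    obtain ⟨w, hw⟩ := exists_preimage_of_map_eq_diagonal φ.left Y.hom X.hom hp z y hy.symm
    obtain ⟨g, rfl⟩ := horb w
    refine ⟨g, ?_⟩
    rw [← hw, ← Scheme.Hom.comp_apply]
    have e : (GIT.psi a (𝟙 X)).left = GIT.PsiY a φ hinv ≫
        (pullback.lift (pullback.fst φ.left φ.left)
          (pullback.snd φ.left φ.left)
          (by rw [hp, pullback.condition_assoc]) :
          pullback φ.left φ.left ⟶ pullback X.hom X.hom) := by
      apply pullback.hom_ext
      · rw [Category.assoc, pullback.lift_fst, GIT.PsiY, pullback.lift_fst,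
          ← Over.fst_left, ← Over.comp_left]
        simp [GIT.psi]
      · rw [Category.assoc, pullback.lift_snd, GIT.PsiY, pullback.lift_snd,
          ← Over.snd_left, ← Over.comp_left]
        simp [GIT.psi]
    rw [e]

lemma psi_fst {X T : Over S} (a : AlgGrp.Action G X) (f : T ⟶ X) :
    GIT.psi a f ≫ fst X T = (G ◁ f) ≫ a.act := by
  simp [GIT.psi]

lemma psi_snd {X T : Over S} (a : AlgGrp.Action G X) (f : T ⟶ X) :
    GIT.psi a f ≫ snd X T = snd G T := by
  simp [GIT.psi]

lemma psi_id_fst {X : Over S} (a : AlgGrp.Action G X) :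
    GIT.psi a (𝟙 X) ≫ fst X X = a.act := by
  simp [GIT.psi]

lemma psi_lift_aux {X T W : Over S} (a : AlgGrp.Action G X) (f : T ⟶ X)
    (u : W ⟶ X ⊗ T) (v : W ⟶ G ⊗ X) (h : u ≫ (X ◁ f) = v ≫ GIT.psi a (𝟙 X)) :
    lift (v ≫ fst G X) (u ≫ snd X T) ≫ GIT.psi a f = u ∧
      lift (v ≫ fst G X) (u ≫ snd X T) ≫ (G ◁ f) = v := by
  have h1 : u ≫ fst X T = v ≫ a.act := by
    have := congrArg (· ≫ fst X X) h
    simpa [psi_id_fst] using this
  have h2 : (u ≫ snd X T) ≫ f = v ≫ snd G X := by
    have := congrArg (· ≫ snd X X) h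
    simpa [psi_snd] using this
  have h3 : lift (v ≫ fst G X) (u ≫ snd X T) ≫ (G ◁ f) = v := by
    apply CartesianMonoidalCategory.hom_ext
    · simp
    · simp [h2]
  refine ⟨?_, h3⟩
  apply CartesianMonoidalCategory.hom_ext
  · rw [Category.assoc, psi_fst, ← Category.assoc, h3, h1]
  · rw [Category.assoc, psi_snd, lift_snd]

/-- the orbit map of a `T`-point is the base change of `Ψ = (σ, p₂)` -/
lemma isPullback_psi {X T : Over S} (a : AlgGrp.Action G X) (f : T ⟶ X) :
    IsPullback (GIT.psi a f) (G ◁ f) (X ◁ f) (GIT.psi a (𝟙 X)) := by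
  have w : GIT.psi a f ≫ (X ◁ f) = (G ◁ f) ≫ GIT.psi a (𝟙 X) := by
    apply CartesianMonoidalCategory.hom_ext <;> simp [GIT.psi]
  refine IsPullback.of_isLimit (c := PullbackCone.mk _ _ w) ?_
  refine PullbackCone.IsLimit.mk w (fun s => lift (s.snd ≫ fst G X) (s.fst ≫ snd X T)) ?_ ?_ ?_
  · intro s
    exact (psi_lift_aux a f s.fst s.snd s.condition).1
  · intro s
    exact (psi_lift_aux a f s.fst s.snd s.condition).2
  · intro s m hm1 hm2
    apply CartesianMonoidalCategory.hom_ext
    · rw [lift_fst, ← hm2]
      simp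
    · rw [lift_snd, ← hm1, Category.assoc, psi_snd]

end Groth.Agent.Lib.Seat51.GITSep
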