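import Mathlib
import Groth.Prelude.Def_W4bk4git07Quot
import Groth.Agent.Lib.Seat51GITQuot
import Groth.Agent.Lib.Seat51GITSep

/-!
# Base change of actions and quotients (seat 51)
-/

set_option autoImplicit false
universe u

namespace Groth.Agent.Lib.Seat51.GITBC

open CategoryTheory MonoidalCategory CartesianMonoidalCategory MonObj AlgebraicGeometry Topology
open TopologicalSpace Limits

variable {S : Scheme.{u}} {G : Over S} [GrpObj G]

section Action

variable {X Y X' Y' : Over S} (a : AlgGrp.Action G X) {φ : X ⟶ Y} (hφ : GIT.IsInvariant a φ)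
  {pr : X' ⟶ X} {φ' : X' ⟶ Y'} {g : Y' ⟶ Y} (hpb : IsPullback pr φ' φ g)

include hφ hpb in
lemma bcAct_aux : ((G ◁ pr) ≫ a.act) ≫ φ = (snd G X' ≫ φ') ≫ g := by
  rw [Category.assoc, hφ, Category.assoc, ← hpb.w, ← Category.assoc, whiskerLeft_snd,
    Category.assoc]

/-- the induced action on a base change of an invariant morphism -/
noncomputable def bcAct : AlgGrp.Action G X' where
  act := hpb.lift ((G ◁ pr) ≫ a.act) (snd G X' ≫ φ') (bcAct_aux a hφ hpb)
  one_act := by
    apply hpb.hom_ext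
    · rw [Category.assoc, hpb.lift_fst, ← Category.assoc, ← whisker_exchange, Category.assoc,
        a.one_act, leftUnitor_naturality]
    · rw [Category.assoc, hpb.lift_snd, ← Category.assoc, whiskerRight_snd, leftUnitor_hom]
  mul_act := by
    apply hpb.hom_ext
    · rw [Category.assoc, hpb.lift_fst, ← Category.assoc, ← whisker_exchange, Category.assoc,
        a.mul_act, Category.assoc, Category.assoc, hpb.lift_fst]
      rw [← Category.assoc (G ◁ _), ← MonoidalCategory.whiskerLeft_comp, hpb.lift_fst,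
        MonoidalCategory.whiskerLeft_comp, Category.assoc]
      rw [← Category.assoc, associator_naturality_right, Category.assoc]
    · rw [Category.assoc, hpb.lift_snd, ← Category.assoc, whiskerRight_snd, Category.assoc,
        Category.assoc, hpb.lift_snd, ← Category.assoc (G ◁ _), whiskerLeft_snd, Category.assoc,
        hpb.lift_snd]
      simp

lemma bcAct_equivariant : (bcAct a hφ hpb).act ≫ pr = (G ◁ pr) ≫ a.act :=
  hpb.lift_fst _ _ _

lemma bcAct_invariant : GIT.IsInvariant (bcAct a hφ hpb) φ' :=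
  hpb.lift_snd _ _ _

end Action


section SchemeBC

variable {X Y : Over S} (φ : X ⟶ Y) {Y₀ : Scheme.{u}} (g₀ : Y₀ ⟶ Y.left)

/-- the base `Y₀` as an object over `S` -/
noncomputable def bcY : Over S := Over.mk (g₀ ≫ Y.hom)

/-- the structure map `Y₀ ⟶ Y` over `S` -/
noncomputable def bcg : bcY g₀ ⟶ Y := Over.homMk g₀ rfl

/-- the fibre product `X ×_Y Y₀` as an object over `S` -/
noncomputable def bcX : Over S := Over.mk (pullback.fst φ.left g₀ ≫ X.hom)

/-- the projection `X ×_Y Y₀ ⟶ X` -/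
noncomputable def bcpr : bcX φ g₀ ⟶ X := Over.homMk (pullback.fst φ.left g₀) rfl

/-- the projection `X ×_Y Y₀ ⟶ Y₀` -/
noncomputable def bcφ : bcX φ g₀ ⟶ bcY g₀ :=
  Over.homMk (pullback.snd φ.left g₀) (by
    change pullback.snd φ.left g₀ ≫ g₀ ≫ Y.hom = pullback.fst φ.left g₀ ≫ X.hom
    rw [← pullback.condition_assoc, Over.w])

lemma bc_isPullback : IsPullback (bcpr φ g₀) (bcφ φ g₀) φ (bcg g₀) := by
  have w : bcpr φ g₀ ≫ φ = bcφ φ g₀ ≫ bcg g₀ := by
    apply Over.OverMorphism.ext
    exact pullback.condition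
  exact IsPullback.of_map (Over.forget S) w (IsPullback.of_hasPullback φ.left g₀)

end SchemeBC


section Surj

variable {X Y : Over S} (a : AlgGrp.Action G X) (φ : X ⟶ Y)

/-- the quotient map of a universal categorical quotient is surjective -/
theorem surjective_of_isUnivCatQuot (h : GIT.IsUnivCatQuot a φ) :
    Function.Surjective φ.left.base := by
  intro y
  by_contra hy
  have hpb := bc_isPullback φ (Y.left.fromSpecResidueField y)
  have hcat : GIT.IsCatQuot (bcAct a h.1.1 hpb) (bcφ φ (Y.left.fromSpecResidueField y)) :=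
    h.2 _ _ _ trivial hpb _ (bcAct_equivariant a h.1.1 hpb) (bcAct_invariant a h.1.1 hpb)
  -- the fibre is empty
  have hempty : IsEmpty ↥(bcX φ (Y.left.fromSpecResidueField y)).left := by
    change IsEmpty ↥(pullback φ.left (Y.left.fromSpecResidueField y))
    rw [Scheme.isEmpty_pullback_iff, Scheme.range_fromSpecResidueField,
      Set.disjoint_singleton_right]
    rintro ⟨x, hx⟩
    exact hy ⟨x, hx⟩
  have hempty' : IsEmpty ↥(G ⊗ bcX φ (Y.left.fromSpecResidueField y)).left :=
    Function.isEmpty (snd G (bcX φ (Y.left.fromSpecResidueField y))).left.base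
  -- the empty scheme over `S`
  let Z : Over S := Over.mk (Scheme.emptyTo S)
  let ψ : bcX φ (Y.left.fromSpecResidueField y) ⟶ Z :=
    Over.homMk ((isInitialOfIsEmpty (X := (bcX φ (Y.left.fromSpecResidueField y)).left)).to ∅)
      ((isInitialOfIsEmpty (X := (bcX φ (Y.left.fromSpecResidueField y)).left)).hom_ext _ _)
  have hψ : GIT.IsInvariant (bcAct a h.1.1 hpb) ψ := by
    apply Over.OverMorphism.ext
    exact (isInitialOfIsEmpty
      (X := (G ⊗ bcX φ (Y.left.fromSpecResidueField y)).left)).hom_ext _ _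
  obtain ⟨χ, -, -⟩ := hcat.2 Z ψ hψ
  have hZ : IsEmpty ↥Z.left := inferInstanceAs (IsEmpty ↥(∅ : Scheme.{u}))
  have : IsEmpty ↥(bcY (Y.left.fromSpecResidueField y)).left :=
    Function.isEmpty χ.left.base
  have hne : Nonempty ↥(Spec (Y.left.residueField y)) := inferInstance
  exact this.false hne.some

end Surj


section BC

/-- a base change of a universal categorical quotient is a universal categorical quotient -/
theorem isUnivCatQuot_bc {X Y X' Y' : Over S} (a : AlgGrp.Action G X) (φ : X ⟶ Y)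
    (h : GIT.IsUnivCatQuot a φ) (pr : X' ⟶ X) (φ' : X' ⟶ Y') (g : Y' ⟶ Y)
    (hpb : IsPullback pr φ' φ g) (a' : AlgGrp.Action G X')
    (heq : a'.act ≫ pr = (G ◁ pr) ≫ a.act) (hinv : GIT.IsInvariant a' φ') :
    GIT.IsUnivCatQuot a' φ' := by
  refine ⟨h.2 pr φ' g trivial hpb a' heq hinv, ?_⟩
  intro X'' Y'' pr' φ'' g' _ hpb' a'' heq' hinv'
  refine h.2 (pr' ≫ pr) φ'' (g' ≫ g) trivial (hpb'.paste_horiz hpb) a'' ?_ hinv'
  rw [← Category.assoc, heq', Category.assoc, heq, ← Category.assoc,
    ← MonoidalCategory.whiskerLeft_comp]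

/-- `G ◁ i` is a base change of `i` -/
lemma isPullback_whiskerLeft' {C : Type*} [Category C] [CartesianMonoidalCategory C] (G : C)
    {X Y : C} (i : X ⟶ Y) : IsPullback (G ◁ i) (snd G X) (snd G Y) i := by
  have w : (G ◁ i) ≫ snd G Y = snd G X ≫ i := whiskerLeft_snd _ _
  refine IsPullback.of_isLimit (c := PullbackCone.mk _ _ w) ?_
  refine PullbackCone.IsLimit.mk w (fun s => lift (s.fst ≫ fst G Y) s.snd) ?_ ?_ ?_
  · intro s
    apply CartesianMonoidalCategory.hom_ext
    · simp
    · simp [s.condition]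
  · intro s
    simp
  · intro s m hm1 hm2
    apply CartesianMonoidalCategory.hom_ext
    · rw [lift_fst, ← hm1]
      simp
    · rw [lift_snd, ← hm2]

/-- the orbit map of a base change is the base change of the orbit map (abstract form) -/
lemma isPullback_orbit_aux {C : Type*} [Category C] [HasPullbacks C] {X Y X' Y' P P' : C}
    {f : X ⟶ Y} {g : Y' ⟶ Y} {pr : X' ⟶ X} {f' : X' ⟶ Y'} (hpb : IsPullback pr f' f g)
    {σ p₂ : P ⟶ X} {σ' p₂' : P' ⟶ X'} {q : P' ⟶ P} (hσ : σ' ≫ pr = q ≫ σ)
    (hP : IsPullback q p₂' p₂ pr) (hinv : σ ≫ f = p₂ ≫ f) (hinv' : σ' ≫ f' = p₂' ≫ f') :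
    IsPullback (pullback.lift σ' p₂' hinv') q (pullback.map f' f' f f pr pr g hpb.w.symm hpb.w.symm)
      (pullback.lift σ p₂ hinv) := by
  have w : pullback.lift σ' p₂' hinv' ≫ pullback.map f' f' f f pr pr g hpb.w.symm hpb.w.symm =
      q ≫ pullback.lift σ p₂ hinv := by
    apply pullback.hom_ext
    · rw [Category.assoc, pullback.lift_fst, ← Category.assoc, pullback.lift_fst, Category.assoc,
        pullback.lift_fst, hσ]
    · rw [Category.assoc, pullback.lift_snd, ← Category.assoc, pullback.lift_snd, Category.assoc,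
        pullback.lift_snd, hP.w]
  refine IsPullback.of_isLimit (c := PullbackCone.mk _ _ w) ?_
  have key : ∀ s : PullbackCone (pullback.map f' f' f f pr pr g hpb.w.symm hpb.w.symm)
      (pullback.lift σ p₂ hinv), s.snd ≫ p₂ = (s.fst ≫ pullback.snd f' f') ≫ pr := by
    intro s
    have := congrArg (· ≫ pullback.snd f f) s.condition
    simp only [Category.assoc, pullback.lift_snd] at this
    rw [Category.assoc, this]
  refine PullbackCone.IsLimit.mk w
    (fun s => hP.lift s.snd (s.fst ≫ pullback.snd f' f') (key s)) ?_ ?_ ?_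
  · intro s
    apply pullback.hom_ext
    · rw [Category.assoc, pullback.lift_fst]
      apply hpb.hom_ext
      · rw [Category.assoc, hσ, ← Category.assoc, hP.lift_fst]
        have := congrArg (· ≫ pullback.fst f f) s.condition
        simp only [Category.assoc, pullback.lift_fst] at this
        rw [Category.assoc, this]
      · rw [Category.assoc, hinv', ← Category.assoc, hP.lift_snd, Category.assoc, Category.assoc,
          pullback.condition]
    · rw [Category.assoc, pullback.lift_snd, hP.lift_snd]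
  · intro s
    exact hP.lift_fst _ _ _
  · intro s m hm1 hm2
    apply hP.hom_ext
    · rw [hP.lift_fst, ← hm2]
    · rw [hP.lift_snd, ← hm1, Category.assoc, pullback.lift_snd]

/-- surjectivity of the orbit map is stable under base change -/
theorem orbit_surjective_bc {X Y X' Y' : Over S} (a : AlgGrp.Action G X) (φ : X ⟶ Y)
    (hφ : GIT.IsInvariant a φ) (pr : X' ⟶ X) (φ' : X' ⟶ Y') (g : Y' ⟶ Y)
    (hpb : IsPullback pr φ' φ g) (a' : AlgGrp.Action G X')
    (heq : a'.act ≫ pr = (G ◁ pr) ≫ a.act) (hinv : GIT.IsInvariant a' φ')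
    (horb : Function.Surjective (GIT.PsiY a φ hφ).base) :
    Function.Surjective (GIT.PsiY a' φ' hinv).base := by
  have hpb' : IsPullback pr.left φ'.left φ.left g.left := hpb.map (Over.forget S)
  have hP : IsPullback (G ◁ pr).left (snd G X').left (snd G X).left pr.left :=
    (isPullback_whiskerLeft' G pr).map (Over.forget S)
  have hσ : a'.act.left ≫ pr.left = (G ◁ pr).left ≫ a.act.left := by
    rw [← Over.comp_left, heq, Over.comp_left]
  have H := isPullback_orbit_aux hpb' hσ hP hφ.left hinv.left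
  intro w'
  obtain ⟨p, hp⟩ := horb ((pullback.map φ'.left φ'.left φ.left φ.left pr.left pr.left g.left
    hpb'.w.symm hpb'.w.symm).base w')
  obtain ⟨p', hp', -⟩ := Scheme.exists_preimage_of_isPullback H w' p hp.symm
  exact ⟨p', hp'⟩

end BC


section AffineLine

/-- the affine line over `S` as an object of `Over S` -/
noncomputable def A1 (S : Scheme.{u}) : Over S := Over.mk (𝔸(PUnit.{u+1}; S) ↘ S)

/-- the morphism to the affine line given by a global section -/
noncomputable def toA1 (T : Over S) (v : Γ(T.left, ⊤)) : T ⟶ A1 S :=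
  Over.homMk (AffineSpace.homOfVector T.hom (fun _ => v)) (AffineSpace.homOfVector_over _ _)

lemma comp_toA1 {T' T : Over S} (m : T' ⟶ T) (v : Γ(T.left, ⊤)) :
    m ≫ toA1 T v = toA1 T' (m.left.appTop v) := by
  apply Over.OverMorphism.ext
  change m.left ≫ AffineSpace.homOfVector T.hom (fun _ => v) = AffineSpace.homOfVector T'.hom _
  rw [AffineSpace.comp_homOfVector, Over.w]
  rfl

lemma toA1_left (T : Over S) (v : Γ(T.left, ⊤)) :
    (toA1 T v).left = AffineSpace.homOfVector T.hom (fun _ => v) := rfl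

lemma toA1_appTop_coord (T : Over S) (v : Γ(T.left, ⊤)) :
    (toA1 T v).left.appTop (AffineSpace.coord S PUnit.unit) = v := by
  rw [toA1_left]
  exact AffineSpace.homOfVector_appTop_coord _ _ _

lemma toA1_injective (T : Over S) : Function.Injective (toA1 T) := by
  intro v v' h
  rw [← toA1_appTop_coord T v, ← toA1_appTop_coord T v', h]

lemma eq_toA1 {T : Over S} (χ : T ⟶ A1 S) :
    χ = toA1 T (χ.left.appTop (AffineSpace.coord S PUnit.unit)) := by
  apply Over.OverMorphism.ext
  apply AffineSpace.hom_ext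
  · change χ.left ≫ (A1 S).hom = _
    rw [Over.w]
    simp [toA1, A1]
  · rintro ⟨⟩
    exact (toA1_appTop_coord T _).symm

lemma appLE_top_bijective {X' X : Scheme.{u}} (j : X' ⟶ X) [IsOpenImmersion j] (V : X.Opens)
    (hV : j ''ᵁ ⊤ = V) (e : ⊤ ≤ j ⁻¹ᵁ V) : Function.Bijective (j.appLE V ⊤ e) := by
  subst hV
  have : j.appLE (j ''ᵁ ⊤) ⊤ e = (j.appIso ⊤).hom := (Scheme.Hom.appIso_hom' j ⊤).symm
  rw [this]
  exact ConcreteCategory.bijective_of_isIso _

lemma appLE_top_top {P Q : Scheme.{u}} (f : P ⟶ Q) (e : (⊤ : P.Opens) ≤ f ⁻¹ᵁ ⊤) :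
    f.appLE ⊤ ⊤ e = f.appTop := by
  change f.app ⊤ ≫ P.presheaf.map (𝟙 (Opposite.op (f ⁻¹ᵁ ⊤))) = f.app ⊤
  rw [CategoryTheory.Functor.map_id, Category.comp_id]

lemma appTop_appLE {P Q R : Scheme.{u}} (f : P ⟶ Q) (g : Q ⟶ R) (U : R.Opens)
    (e : ⊤ ≤ g ⁻¹ᵁ U) (e' : ⊤ ≤ (f ≫ g) ⁻¹ᵁ U) (s : Γ(R, U)) :
    f.appTop (g.appLE U ⊤ e s) = (f ≫ g).appLE U ⊤ e' s := by
  have h := Scheme.Hom.appLE_comp_appLE f g U ⊤ ⊤ e le_top
  have h' : g.appLE U ⊤ e ≫ f.appTop = (f ≫ g).appLE U ⊤ e' :=
    (congrArg (g.appLE U ⊤ e ≫ ·) (appLE_top_top f le_top).symm).trans h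
  exact ConcreteCategory.congr_hom h' s

lemma appLE_appLE {P Q R : Scheme.{u}} (f : P ⟶ Q) (g : Q ⟶ R) (U : R.Opens) (V : Q.Opens)
    (W : P.Opens) (e₁ : V ≤ g ⁻¹ᵁ U) (e₂ : W ≤ f ⁻¹ᵁ V) (e' : W ≤ (f ≫ g) ⁻¹ᵁ U) (s : Γ(R, U)) :
    f.appLE V W e₂ (g.appLE U V e₁ s) = (f ≫ g).appLE U W e' s := by
  have h := Scheme.Hom.appLE_comp_appLE f g U V W e₁ e₂
  exact ConcreteCategory.congr_hom h s

end AffineLine

section Sections

variable {X Y : Over S} (a : AlgGrp.Action G X) (φ : X ⟶ Y)

/-- if the base change of `φ` to an open `U` of `Y` is a categorical quotient, the functions on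
`U` are the invariant functions on its preimage -/
theorem sections_aux (hφ : GIT.IsInvariant a φ) (U : Y.left.Opens) {X' Y' : Over S} (pr : X' ⟶ X)
    (φ' : X' ⟶ Y') (g : Y' ⟶ Y) (hpb : IsPullback pr φ' φ g) [IsOpenImmersion g.left]
    (hU : g.left ''ᵁ ⊤ = U) (a' : AlgGrp.Action G X')
    (heq : a'.act ≫ pr = (G ◁ pr) ≫ a.act) (hinv' : GIT.IsInvariant a' φ')
    (hcat : GIT.IsCatQuot a' φ') :
    Function.Injective (φ.left.app U) ∧
      Set.range (φ.left.app U) = {f | GIT.IsInvSection a φ U f} := by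
  have hpb' : IsPullback pr.left φ'.left φ.left g.left := hpb.map (Over.forget S)
  have hcond : pr.left ≫ φ.left = φ'.left ≫ g.left := hpb'.w
  have : IsOpenImmersion pr.left :=
    MorphismProperty.of_isPullback (P := @IsOpenImmersion) hpb'.flip inferInstance
  have hrange : pr.left ''ᵁ ⊤ = φ.left ⁻¹ᵁ U := by
    rw [← hU]
    ext x
    have h1 := Scheme.image_preimage_eq_of_isPullback hpb'.flip Set.univ
    rw [Set.preimage_univ, Set.image_univ, Set.image_univ] at h1
    change x ∈ pr.left.base '' Set.univ ↔ x ∈ φ.left.base ⁻¹' (g.left.base '' Set.univ)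
    rw [Set.image_univ, Set.image_univ, h1]
  have eV : ⊤ ≤ pr.left ⁻¹ᵁ (φ.left ⁻¹ᵁ U) := by
    rw [← hrange]
    exact (Scheme.Hom.preimage_image_eq pr.left ⊤).ge
  have eU : ⊤ ≤ g.left ⁻¹ᵁ U := by
    rw [← hU]
    exact (Scheme.Hom.preimage_image_eq g.left ⊤).ge
  have hbijV := appLE_top_bijective pr.left (φ.left ⁻¹ᵁ U) hrange eV
  have hbijU := appLE_top_bijective g.left U hU eU
  -- compatibility of the two pullbacks of functions
  have hkey : ∀ s : Γ(Y.left, U), φ'.left.appTop (g.left.appLE U ⊤ eU s) =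
      pr.left.appLE (φ.left ⁻¹ᵁ U) ⊤ eV (φ.left.app U s) := by
    intro s
    rw [appTop_appLE φ'.left g.left U eU (by rw [← hcond]; exact eV), Scheme.Hom.app_eq_appLE,
      appLE_appLE pr.left φ.left U (φ.left ⁻¹ᵁ U) ⊤ le_rfl eV eV]
    exact ConcreteCategory.congr_hom (GITQuot.appLE_congr_hom hcond.symm U ⊤ _ _) s
  -- `φ' ≫ χ_s` in terms of `s`
  have hcomp : ∀ s : Γ(Y.left, U), φ' ≫ toA1 Y' (g.left.appLE U ⊤ eU s) =
      toA1 X' (pr.left.appLE (φ.left ⁻¹ᵁ U) ⊤ eV (φ.left.app U s)) := by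
    intro s
    rw [comp_toA1, hkey s]
  constructor
  · -- injectivity
    intro s₁ s₂ hs
    have h1 : φ' ≫ toA1 Y' (g.left.appLE U ⊤ eU s₁) = φ' ≫ toA1 Y' (g.left.appLE U ⊤ eU s₂) := by
      rw [hcomp, hcomp, hs]
    have hψ : GIT.IsInvariant a' (φ' ≫ toA1 Y' (g.left.appLE U ⊤ eU s₁)) := by
      unfold GIT.IsInvariant
      rw [← Category.assoc, hinv', Category.assoc]
    obtain ⟨χ, -, huniq⟩ := hcat.2 _ _ hψ
    have h2 := (huniq _ rfl).trans (huniq _ h1.symm).symm
    exact hbijU.1 (toA1_injective _ h2)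
  · apply Set.Subset.antisymm
    · rintro _ ⟨s, rfl⟩
      have := GITQuot.isInvSection_appLE a φ φ hφ U U le_rfl s
      rwa [← Scheme.Hom.app_eq_appLE] at this
    · intro f hf
      -- the invariant morphism to the affine line given by `f`
      have hψ : GIT.IsInvariant a' (toA1 X' (pr.left.appLE (φ.left ⁻¹ᵁ U) ⊤ eV f)) := by
        unfold GIT.IsInvariant
        rw [comp_toA1, comp_toA1]
        congr 1
        -- both sides are pullbacks of `f` along `G ⊗ X' ⟶ G ⊗ X`
        have hle : (⊤ : (G ⊗ X').left.Opens) ≤ (G ◁ pr).left ⁻¹ᵁ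
            (a.act.left ⁻¹ᵁ (φ.left ⁻¹ᵁ U) ⊓ (snd G X).left ⁻¹ᵁ (φ.left ⁻¹ᵁ U)) := by
          intro p _
          constructor
          · change a.act.left.base ((G ◁ pr).left.base p) ∈ φ.left ⁻¹ᵁ U
            rw [← Scheme.Hom.comp_apply, ← Over.comp_left, ← heq, Over.comp_left,
              Scheme.Hom.comp_apply]
            exact eV (Set.mem_univ (a'.act.left.base p))
          · change (snd G X).left.base ((G ◁ pr).left.base p) ∈ φ.left ⁻¹ᵁ U
            rw [← Scheme.Hom.comp_apply, ← Over.comp_left, whiskerLeft_snd, Over.comp_left,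
              Scheme.Hom.comp_apply]
            exact eV (Set.mem_univ ((snd G X').left.base p))
        have e1 : a'.act.left.appTop (pr.left.appLE (φ.left ⁻¹ᵁ U) ⊤ eV f) =
            (G ◁ pr).left.appLE _ ⊤ hle
              (a.act.left.appLE (φ.left ⁻¹ᵁ U) _ inf_le_left f) := by
          rw [appTop_appLE a'.act.left pr.left (φ.left ⁻¹ᵁ U) eV
              (fun p _ => eV (Set.mem_univ _)),
            appLE_appLE (G ◁ pr).left a.act.left (φ.left ⁻¹ᵁ U) _ ⊤ inf_le_left hle
              (fun p hp => (hle hp).1)]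
          apply ConcreteCategory.congr_hom
          apply GITQuot.appLE_congr_hom
          rw [← Over.comp_left, heq, Over.comp_left]
        have e2 : (snd G X').left.appTop (pr.left.appLE (φ.left ⁻¹ᵁ U) ⊤ eV f) =
            (G ◁ pr).left.appLE _ ⊤ hle
              ((snd G X).left.appLE (φ.left ⁻¹ᵁ U) _ inf_le_right f) := by
          rw [appTop_appLE (snd G X').left pr.left (φ.left ⁻¹ᵁ U) eV
              (fun p _ => eV (Set.mem_univ _)),
            appLE_appLE (G ◁ pr).left (snd G X).left (φ.left ⁻¹ᵁ U) _ ⊤ inf_le_right hle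
              (fun p hp => (hle hp).2)]
          apply ConcreteCategory.congr_hom
          apply GITQuot.appLE_congr_hom
          rw [← Over.comp_left, ← whiskerLeft_snd, Over.comp_left]
        rw [e1, e2, hf]
      obtain ⟨χ, hχ, -⟩ := hcat.2 _ _ hψ
      obtain ⟨s, hs⟩ := hbijU.2 (χ.left.appTop (AffineSpace.coord S PUnit.unit))
      refine ⟨s, ?_⟩
      rw [eq_toA1 χ, ← hs, hcomp] at hχ
      exact hbijV.1 (toA1_injective _ hχ)

/-- for a universal categorical quotient, the functions on `Y` are the invariant functions on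
`X` -/
theorem sections_of_isUnivCatQuot (h : GIT.IsUnivCatQuot a φ) (U : Y.left.Opens) :
    Function.Injective (φ.left.app U) ∧
      Set.range (φ.left.app U) = {f | GIT.IsInvSection a φ U f} := by
  have hpb := bc_isPullback φ U.ι
  have heq := bcAct_equivariant a h.1.1 hpb
  have hinv' := bcAct_invariant a h.1.1 hpb
  have hcat : GIT.IsCatQuot (bcAct a h.1.1 hpb) (bcφ φ U.ι) :=
    h.2 _ _ _ trivial hpb _ heq hinv'
  have : IsOpenImmersion (bcg (Y := Y) U.ι).left := inferInstanceAs (IsOpenImmersion U.ι)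
  have hU : (bcg (Y := Y) U.ι).left ''ᵁ ⊤ = U := by
    change U.ι ''ᵁ ⊤ = U
    simp
  exact sections_aux a φ h.1.1 U _ _ _ hpb hU _ heq hinv' hcat

end Sections

end Groth.Agent.Lib.Seat51.GITBC
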